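import Groth.Statements.S12442
import Mathlib.AlgebraicGeometry.Morphisms.FinitePresentation

set_option autoImplicit false
set_option backward.isDefEq.respectTransparency.types false
universe u
open Mor

namespace Groth.Agent.S12442

open AlgebraicGeometry CategoryTheory in
/-- Let f : X → Y and g : Y → S be morphisms of schemes. If the composite X → S is locally of finite
presentation and g is locally of finite type, then f is locally of finite presentation. -/
theorem result {X Y S : Scheme.{u}} (f : X ⟶ Y) (g : Y ⟶ S)
    [LocallyOfFinitePresentation (f ≫ g)] [LocallyOfFiniteType g] :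
    LocallyOfFinitePresentation f := by
  rename_i h hg
  suffices ∀ {X Y Z : Scheme.{u}} (f : X ⟶ Y) (g : Y ⟶ Z), LocallyOfFinitePresentation (f ≫ g) →
      LocallyOfFiniteType g → LocallyOfFinitePresentation f from this f g h hg
  intro X Y Z f g h hg
  wlog hZ : IsAffine Z generalizing X Y Z
  · rw [IsZariskiLocalAtTarget.iff_of_iSup_eq_top (P := @AlgebraicGeometry.LocallyOfFinitePresentation) _
      (g.iSup_preimage_eq_top (iSup_affineOpens_eq_top Z))]
    intro U
    have H := IsZariskiLocalAtTarget.restrict h U.1
    rw [morphismRestrict_comp] at H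
    exact this _ _ H (IsZariskiLocalAtTarget.restrict hg U.1) inferInstance
  wlog hY : IsAffine Y generalizing X Y
  · rw [IsZariskiLocalAtTarget.iff_of_iSup_eq_top (P := @AlgebraicGeometry.LocallyOfFinitePresentation) _
      (iSup_affineOpens_eq_top Y)]
    intro U
    have H : LocallyOfFinitePresentation ((f ⁻¹ᵁ U.1).ι ≫ f ≫ g) := inferInstance
    rw [← morphismRestrict_ι_assoc] at H
    exact this _ _ H inferInstance inferInstance
  wlog hX : IsAffine X generalizing X
  · rw [IsZariskiLocalAtSource.iff_of_iSup_eq_top (P := @AlgebraicGeometry.LocallyOfFinitePresentation) _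
      (iSup_affineOpens_eq_top X)]
    intro U
    have H : LocallyOfFinitePresentation (U.1.ι ≫ f ≫ g) := inferInstance
    rw [← Category.assoc] at H
    exact this _ H inferInstance
  rw [HasRingHomProperty.iff_of_isAffine (P := @AlgebraicGeometry.LocallyOfFinitePresentation), Scheme.Hom.comp_appTop,
    CommRingCat.hom_comp] at h
  rw [HasRingHomProperty.iff_of_isAffine (P := @LocallyOfFiniteType)] at hg
  rw [HasRingHomProperty.iff_of_isAffine (P := @AlgebraicGeometry.LocallyOfFinitePresentation)]
  exact RingHom.FinitePresentation.of_comp_finiteType _ h hg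

end Groth.Agent.S12442
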