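import Groth.Statements.S5782
import Mathlib.Algebra.Category.ModuleCat.ProjectiveDimension
import Mathlib.Algebra.Homology.ShortComplex.ModuleCat

set_option autoImplicit false
set_option linter.style.haveILetI false
universe u
open CategoryTheory
open EGA41

namespace Groth.Agent.S5782

/-- Let A be a Noetherian local ring with maximal ideal m, E a finitely generated A-module of finite
projective dimension, and a ∈ m an element which is A-regular and E-regular. Then E/aE, as a module
over A/aA, has finite projective dimension at most the projective dimension of E over A. -/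
theorem result (A : Type u) [CommRing A] [IsLocalRing A]
    [IsNoetherianRing A] (E : Type u) [AddCommGroup E] [Module A E] [Module.Finite A E]
    (hfin : projectiveDimension (ModuleCat.of A E) ≠ ⊤) (a : A) (ha : a ∈ IsLocalRing.maximalIdeal A)
    (hA : IsSMulRegular A a) (hE : IsSMulRegular E a) :
    projectiveDimension (ModuleCat.of (A ⧸ Ideal.span {a}) (E ⧸ (Ideal.span {a} • (⊤ : Submodule A E)))) ≤
      projectiveDimension (ModuleCat.of A E) := by
  have main : ∀ (n : ℕ) (M : Type u) [AddCommGroup M] [Module A M], IsSMulRegular M a →
      HasProjectiveDimensionLT (ModuleCat.of A M) (n + 1) →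
      HasProjectiveDimensionLT (ModuleCat.of (A ⧸ Ideal.span {a})
        (M ⧸ (Ideal.span {a} • (⊤ : Submodule A M)))) (n + 1) := by
    intro n
    induction n with
    | zero =>
      intro M _ _ _ hp
      haveI : Module.Projective A M :=
        (IsProjective.iff_projective M).mpr (projective_iff_hasProjectiveDimensionLT_one.mpr hp)
      haveI : Module.Projective (A ⧸ Ideal.span {a}) (M ⧸ (Ideal.span {a} • (⊤ : Submodule A M))) :=
        Module.Projective.of_equiv (TensorProduct.quotTensorEquivQuotSMul M (Ideal.span {a})
          |>.extendScalarsOfSurjective Ideal.Quotient.mk_surjective)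
      exact projective_iff_hasProjectiveDimensionLT_one.mp
        ((IsProjective.iff_projective _).mp inferInstance)
    | succ n ih =>
      intro M _ _ hM hp
      obtain ⟨P, _, _, _, hPreg, f, hf⟩ : ∃ (P : Type u) (_ : AddCommGroup P) (_ : Module A P)
          (_ : Module.Projective A P) (_ : IsSMulRegular P a) (f : P →ₗ[A] M), Function.Surjective f :=
        ⟨M →₀ A, inferInstance, inferInstance, inferInstance,
          fun x y h => Finsupp.ext fun i => hA (DFunLike.congr_fun h i),
          Finsupp.linearCombination A id, Finsupp.linearCombination_id_surjective A M⟩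
      have hS := LinearMap.shortExact_shortComplexKer hf
      haveI : Projective f.shortComplexKer.X₂ := (IsProjective.iff_projective P).mp inferInstance
      have hK := (hS.hasProjectiveDimensionLT_X₃_iff n inferInstance).mp hp
      have hKreg : IsSMulRegular (LinearMap.ker f) a := fun x y h =>
        Subtype.ext (hPreg (congrArg Subtype.val h))
      let I := Ideal.span {a}
      let u₀ : (↥(LinearMap.ker f) ⧸ (I • ⊤ : Submodule A ↥(LinearMap.ker f))) →ₗ[A] P ⧸ (I • ⊤ : Submodule A _) :=
        Submodule.mapQ _ _ (LinearMap.ker f).subtype (Submodule.map_le_iff_le_comap.mp (by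
          rw [Submodule.map_smul'']; exact smul_mono_right _ le_top))
      let v₀ : (P ⧸ (I • ⊤ : Submodule A _)) →ₗ[A] M ⧸ (I • ⊤ : Submodule A M) :=
        Submodule.mapQ _ _ f (Submodule.map_le_iff_le_comap.mp (by
          rw [Submodule.map_smul'']; exact smul_mono_right _ le_top))
      let u := u₀.extendScalarsOfSurjective (R := A) (S := A ⧸ I) Ideal.Quotient.mk_surjective
      let v := v₀.extendScalarsOfSurjective (R := A) (S := A ⧸ I) Ideal.Quotient.mk_surjective
      have mem : ∀ {N : Type u} [AddCommGroup N] [Module A N] (x : N),
          x ∈ (I • ⊤ : Submodule A N) ↔ ∃ y, a • y = x := fun x => by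
        simp [I, Submodule.ideal_span_singleton_smul, Submodule.mem_smul_pointwise_iff_exists]
      have hv : Function.Surjective v := fun q => by
        obtain ⟨q, rfl⟩ := Submodule.mkQ_surjective _ q
        obtain ⟨p, rfl⟩ := hf q
        exact ⟨Submodule.mkQ _ p, rfl⟩
      have hu : Function.Injective u := by
        rw [injective_iff_map_eq_zero]
        intro q hq
        obtain ⟨q, rfl⟩ := Submodule.mkQ_surjective _ q
        obtain ⟨p, hp⟩ := (mem _).mp ((Submodule.Quotient.mk_eq_zero _).mp hq)
        refine (Submodule.Quotient.mk_eq_zero _).mpr ((mem _).mpr ⟨⟨p, ?_⟩, Subtype.ext hp⟩)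
        exact hM.right_eq_zero_of_smul (by rw [← map_smul, hp]; exact q.2)
      have huv : Function.Exact u v := fun q => by
        obtain ⟨q, rfl⟩ := Submodule.mkQ_surjective _ q
        constructor
        · intro hq
          obtain ⟨y, hy⟩ := (mem _).mp ((Submodule.Quotient.mk_eq_zero _).mp hq)
          obtain ⟨p, rfl⟩ := hf y
          refine ⟨Submodule.mkQ _ ⟨q - a • p, by simp [hy]⟩, ?_⟩
          show Submodule.Quotient.mk (q - a • p) = Submodule.Quotient.mk q
          rw [Submodule.Quotient.eq]
          exact (mem _).mpr ⟨-p, by simp⟩
        · rintro ⟨k, hk⟩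
          obtain ⟨k, rfl⟩ := Submodule.mkQ_surjective _ k
          rw [← hk]
          show Submodule.Quotient.mk (f k.1) = 0
          rw [LinearMap.mem_ker.mp k.2]; rfl
      let T : ShortComplex (ModuleCat.{u} (A ⧸ I)) :=
        ModuleCat.shortComplexOfCompEqZero u v huv.linearMap_comp_eq_zero
      have hT : T.ShortExact := ModuleCat.shortComplex_shortExact T huv hu hv
      haveI : Module.Projective (A ⧸ I) (P ⧸ (I • ⊤ : Submodule A _)) :=
        Module.Projective.of_equiv (TensorProduct.quotTensorEquivQuotSMul P I
          |>.extendScalarsOfSurjective Ideal.Quotient.mk_surjective)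
      haveI : Projective T.X₂ := (IsProjective.iff_projective _).mp inferInstance
      exact (hT.hasProjectiveDimensionLT_X₃_iff n inferInstance).mpr (ih _ hKreg hK)
  generalize hd : projectiveDimension (ModuleCat.of A E) = d at hfin ⊢
  induction d with
  | bot =>
    rw [projectiveDimension_eq_bot_iff, ModuleCat.isZero_iff_subsingleton] at hd
    rw [le_bot_iff, projectiveDimension_eq_bot_iff, ModuleCat.isZero_iff_subsingleton]
    haveI := hd
    infer_instance
  | coe d =>
    induction d with
    | top => exact absurd rfl hfin
    | coe n =>
      refine (projectiveDimension_le_iff _ n).mpr (main n E hE ?_)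
      exact (projectiveDimension_le_iff _ n).mp hd.le

end Groth.Agent.S5782
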