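import Groth.Statements.S0562
import Groth.Agent.L07.Ferrand
import Groth.Agent.L01.Regular
import Mathlib.RingTheory.Ideal.Cotangent
import Mathlib.RingTheory.KrullDimension.Regular

set_option autoImplicit false
set_option linter.style.haveILetI false
universe u
open CategoryTheory
open CAlg

namespace Groth.Agent.S0562

/-- If the residue field of a Noetherian local ring `R` has finite projective dimension as an
`R`-module, then `R` is a regular local ring. -/
theorem result (R : Type u) [CommRing R]
    [IsLocalRing R] [IsNoetherianRing R] (n : ℕ)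
    (h : HasProjectiveDimensionLT (ModuleCat.of R (IsLocalRing.ResidueField R)) n) :
    IsRegularLocalRing R := by
  classical
  set m := IsLocalRing.maximalIdeal R with hm
  have hpd : ∃ k, HasProjectiveDimensionLT (ModuleCat.of R m) k := by
    let T : ShortComplex (ModuleCat.{u} R) := LinearMap.shortComplexKer (m.mkQ)
    have hT : T.ShortExact := LinearMap.shortExact_shortComplexKer (Submodule.mkQ_surjective m)
    have h3 : HasProjectiveDimensionLT T.X₃ (n + 2) :=
      haveI : HasProjectiveDimensionLT T.X₃ n := h
      hasProjectiveDimensionLT_of_ge T.X₃ n (n + 2) (Nat.le_add_right n 2)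
    have h2 : HasProjectiveDimensionLT T.X₂ (n + 1) := by
      haveI : Projective T.X₂ := (IsProjective.iff_projective R).mp (inferInstanceAs (Module.Projective R R))
      exact hasProjectiveDimensionLT_of_ge T.X₂ 1 (n + 1) (Nat.le_add_left 1 n)
    have h1 := hT.hasProjectiveDimensionLT_X₁ (n + 1) h2 h3
    let e : T.X₁ ≅ ModuleCat.of R m := (LinearEquiv.ofEq _ _ (Submodule.ker_mkQ m)).toModuleIso
    exact ⟨n + 1, e.symm.retract.hasProjectiveDimensionLT _⟩
  let b := Module.finBasis (IsLocalRing.ResidueField R) (IsLocalRing.CotangentSpace R)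
  let φ : Fin (Module.finrank (IsLocalRing.ResidueField R) (IsLocalRing.CotangentSpace R)) → (m →ₗ[R] R ⧸ m) :=
    fun i => ((b.coord i).restrictScalars R) ∘ₗ m.toCotangent
  obtain ⟨x, -, -, hx⟩ := Groth.L07.Ferrand.exists_regular_lifts _ R m (IsLocalRing.maximalIdeal.isMaximal R).ne_top hpd
    φ ⊤ le_top (fun i => by
      obtain ⟨w, hw⟩ := m.toCotangent_surjective (b i)
      refine ⟨w, trivial, fun j => ?_⟩
      show b.coord j (m.toCotangent w) = _
      rw [hw, Module.Basis.coord_apply, b.repr_self, Finsupp.single_apply]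
      by_cases hji : j = i
      · rw [if_pos hji.symm, if_pos hji]; rfl
      · rw [if_neg (Ne.symm hji), if_neg hji]; rfl)
  refine IsRegularLocalRing.of_spanFinrank_maximalIdeal_le R ?_
  rw [IsLocalRing.spanFinrank_maximalIdeal_eq_finrank_cotangentSpace]
  set rs := List.ofFn fun i => (x i : R) with hrs
  have hle : Ideal.ofList rs ≤ m := by
    refine Ideal.span_le.mpr fun a ha => ?_
    obtain ⟨i, rfl⟩ := List.mem_ofFn.mp ha
    exact (x i).2
  have hreg : RingTheory.Sequence.IsRegular R rs := by
    refine ⟨hx, fun htop => ?_⟩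
    rw [smul_eq_mul, Ideal.mul_top] at htop
    exact (IsLocalRing.maximalIdeal.isMaximal R).ne_top (eq_top_iff.mpr (htop.le.trans hle))
  have h := ringKrullDim_add_length_eq_ringKrullDim_of_isRegular rs hreg
  rw [List.length_ofFn] at h
  have hnt : Nontrivial (R ⧸ Ideal.ofList rs) :=
    Ideal.Quotient.nontrivial_iff.mpr (ne_top_of_le_ne_top (IsLocalRing.maximalIdeal.isMaximal R).ne_top hle)
  rw [← h]
  exact le_add_of_nonneg_left ringKrullDim_nonneg_of_nontrivial

end Groth.Agent.S0562
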