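import Groth.Statements.S0563
import Groth.Agent.L01.Regular
import Groth.Agent.L06.ExtDim
import Mathlib.RingTheory.Regular.ProjectiveDimension

set_option autoImplicit false
universe u
open CategoryTheory
open CAlg

namespace Groth.Agent.S0563

/-- Over a regular local ring R of Krull dimension d, every R-module has projective dimension at most d
(encoded as `HasProjectiveDimensionLT _ (d + 1)`). -/
theorem result (R : Type u) [CommRing R]
    [IsRegularLocalRing R] (d : ℕ) (hd : ringKrullDim R = d) (M : Type u) [AddCommGroup M]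
    [Module R M] : HasProjectiveDimensionLT (ModuleCat.of R M) (d + 1) := by
  haveI : IsRegularLocalRing (R ⧸ (⊥ : Ideal R)) := IsRegularLocalRing.of_ringEquiv (RingEquiv.quotientBot R).symm
  obtain ⟨l₁, l₂, hlen, hspan, -⟩ := Groth.L01.exists_lists_of_regular_quotient d R hd ⊥ inferInstance
  have hreg := Groth.L01.isRegular_of_ofList_eq_maximalIdeal (l₁ ++ l₂) hspan (by rw [hlen, hd])
  refine Groth.L06.ExtDim.hasProjectiveDimensionLT_of_residueField d ?_ (ModuleCat.of R M)
  have h := ModuleCat.projectiveDimension_quotient_eq_length.{u, u} (l₁ ++ l₂) hreg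
  rw [hlen] at h
  let e : (Shrink.{u} (R ⧸ Ideal.ofList (l₁ ++ l₂))) ≃ₗ[R] IsLocalRing.ResidueField R :=
    (Shrink.linearEquiv R _).trans (Submodule.quotEquivOfEq _ _ hspan)
  have h2 : projectiveDimension (ModuleCat.of R (Shrink.{u} (R ⧸ Ideal.ofList (l₁ ++ l₂)))) < ((d + 1 : ℕ) : WithBot ℕ∞) := by
    rw [h]
    exact_mod_cast Nat.lt_succ_self d
  haveI := (projectiveDimension_lt_iff (n := d + 1)).mp h2
  exact e.toModuleIso.symm.retract.hasProjectiveDimensionLT _

end Groth.Agent.S0563
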