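import Groth.Statements.S0564
import Groth.Agent.S0562
import Groth.Agent.S0563
import Groth.Agent.L06.LeftInverse
import Mathlib.RingTheory.LocalProperties.ProjectiveDimension
import Groth.Agent.L01.Regular

set_option autoImplicit false
set_option linter.style.haveILetI false
universe u
open CAlg

namespace Groth.Agent.S0564

/-- The localization of a regular local ring at any prime ideal is a regular local ring. -/
theorem result (R : Type u) [CommRing R]
    [IsRegularLocalRing R] (p : Ideal R) [p.IsPrime] :
    IsRegularLocalRing (Localization.AtPrime p) := by
  open CategoryTheory in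
  obtain ⟨d, hd⟩ := Groth.L01.exists_dim_eq_nat (R := R)
  haveI : HasProjectiveDimensionLE (ModuleCat.of R (R ⧸ p)) d := Groth.Agent.S0563.result R d hd (R ⧸ p)
  let M := ModuleCat.of R (R ⧸ p)
  have h := ModuleCat.localizedModule_hasProjectiveDimensionLE d p.primeCompl M
  haveI : IsLocalizedModule p.primeCompl (IsScalarTower.toAlgHom R (R ⧸ p) p.ResidueField).toLinearMap :=
    Groth.L06.LeftInverse.isLocalizedModule_residueField p
  haveI := ModuleCat.localizedModule_isLocalizedModule M p.primeCompl
  let e : M.localizedModule p.primeCompl ≅ ModuleCat.of (Localization.AtPrime p) (IsLocalRing.ResidueField (Localization.AtPrime p)) :=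
    (LinearEquiv.extendScalarsOfIsLocalization p.primeCompl (Localization.AtPrime p)
      (IsLocalizedModule.linearEquiv p.primeCompl (M.localizedModuleMkLinearMap p.primeCompl)
        (IsScalarTower.toAlgHom R (R ⧸ p) p.ResidueField).toLinearMap)).toModuleIso
  exact Groth.Agent.S0562.result (Localization.AtPrime p) (d + 1) (e.symm.retract.hasProjectiveDimensionLT _)

end Groth.Agent.S0564
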