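import Groth.Statements.S0565
import Groth.Agent.S0562
import Groth.Agent.S0563
import Groth.Agent.L01.Regular
import Mathlib.RingTheory.Flat.FaithfullyFlat.Algebra
import Mathlib.RingTheory.Flat.EquationalCriterion
import Mathlib.LinearAlgebra.TensorProduct.RightExactness

set_option autoImplicit false
set_option linter.style.haveILetI false
universe u
open CAlg

namespace Groth.Agent.S0565

open CategoryTheory TensorProduct in
theorem aux {R : Type u} [CommRing R] [IsNoetherianRing R] (S : Type u) [CommRing S] [Algebra R S]
    [Module.FaithfullyFlat R S] : ∀ (n : ℕ) (M : Type u) [AddCommGroup M] [Module R M] [Module.Finite R M],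
    HasProjectiveDimensionLT (ModuleCat.of S (S ⊗[R] M)) (n + 1) → HasProjectiveDimensionLT (ModuleCat.of R M) (n + 1) := by
  intro n
  induction n with
  | zero =>
    intro M _ _ _ h
    rw [← projective_iff_hasProjectiveDimensionLT_one, ← IsProjective.iff_projective] at h ⊢
    haveI : Module.Flat S (S ⊗[R] M) := inferInstance
    haveI : Module.Flat R M := Module.Flat.of_flat_tensorProduct R M S
    haveI : Module.FinitePresentation R M := Module.finitePresentation_of_finite R M
    exact Module.Flat.projective_of_finitePresentation
  | succ n ih =>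
    intro M _ _ _ h
    obtain ⟨P, _, _, _, _, f, hf⟩ := Module.exists_finite_presentation R M
    have hP : Projective (ModuleCat.of R P) := (IsProjective.iff_projective P).mp inferInstance
    have hPS : Projective (ModuleCat.of S (S ⊗[R] P)) := (IsProjective.iff_projective (S ⊗[R] P)).mp inferInstance
    have hT := LinearMap.shortExact_shortComplexKer hf
    have hfS : Function.Surjective (f.baseChange S) := LinearMap.lTensor_surjective S hf
    have hTS := LinearMap.shortExact_shortComplexKer hfS
    have hinj : Function.Injective ((LinearMap.ker f).subtype.baseChange S) :=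
      Module.Flat.lTensor_preserves_injective_linearMap (M := S) _ (Submodule.injective_subtype _)
    have hrange : LinearMap.range ((LinearMap.ker f).subtype.baseChange S) = LinearMap.ker (f.baseChange S) := by
      refine SetLike.ext fun z => ?_
      exact ((lTensor_exact S (LinearMap.exact_subtype_ker_map f) hf) z).symm
    let e : (S ⊗[R] LinearMap.ker f) ≃ₗ[S] LinearMap.ker (f.baseChange S) :=
      (LinearEquiv.ofInjective _ hinj).trans (LinearEquiv.ofEq _ _ hrange)
    have h1 := hTS.hasProjectiveDimensionLT_X₁ (n + 1) (hasProjectiveDimensionLT_of_ge _ 1 (n + 1) (Nat.le_add_left 1 n)) h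
    haveI : HasProjectiveDimensionLT (ModuleCat.of S (LinearMap.ker (f.baseChange S))) (n + 1) := h1
    have h2 := ih (LinearMap.ker f) ((Iso.mk (X := ModuleCat.of S (S ⊗[R] LinearMap.ker f)) (Y := ModuleCat.of S (LinearMap.ker (f.baseChange S))) (ModuleCat.ofHom e.toLinearMap) (ModuleCat.ofHom e.symm.toLinearMap) (ModuleCat.hom_ext (LinearMap.ext e.symm_apply_apply)) (ModuleCat.hom_ext (LinearMap.ext e.apply_symm_apply))).retract.hasProjectiveDimensionLT _)
    exact hT.hasProjectiveDimensionLT_X₃ (n + 1) h2 (hasProjectiveDimensionLT_of_ge _ 1 (n + 2) (Nat.le_add_left 1 _))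

/-- Let `R → S` be a flat local homomorphism of Noetherian local rings. If `S` is regular then so is
`R`. -/
theorem result (R : Type u) [CommRing R]
    [IsLocalRing R] [IsNoetherianRing R] (S : Type u) [CommRing S] [IsRegularLocalRing S] [Algebra R S]
    [IsLocalHom (algebraMap R S)] [Module.Flat R S] : IsRegularLocalRing R := by

  open CategoryTheory TensorProduct in
  haveI : Module.FaithfullyFlat R S := Module.FaithfullyFlat.of_flat_of_isLocalHom
  obtain ⟨d, hd⟩ := Groth.L01.exists_dim_eq_nat (R := S)
  exact Groth.Agent.S0562.result R (d + 1)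
    (aux S d (IsLocalRing.ResidueField R) (Groth.Agent.S0563.result S d hd _))

end Groth.Agent.S0565
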