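import Groth.Statements.S9406
import Groth.Agent.S0565
import Mathlib.RingTheory.Flat.FaithfullyFlat.Algebra
import Mathlib.RingTheory.Ideal.KrullsHeightTheorem
import Mathlib.RingTheory.RingHom.Flat

set_option autoImplicit false
universe u
open CAlg

namespace Groth.Agent.S9406

/-- Regularity descends along faithfully flat ring maps: whenever S is a faithfully flat R-algebra whose
underlying ring is regular, the base ring R is regular as well. -/
theorem result (R : Type u) [CommRing R] (S : Type u) [CommRing S]
    [Algebra R S] [Module.FaithfullyFlat R S] [IsRegularRing S] : IsRegularRing R := by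
  have : IsNoetherianRing R := by
    rw [isNoetherianRing_iff, isNoetherian_iff']
    have hm : StrictMono (Ideal.map (algebraMap R S)) := Monotone.strictMono_of_injective
      (fun _ _ h => Ideal.map_mono h) (fun I J h => by
        rw [← Ideal.comap_map_eq_self_of_faithfullyFlat (B := S) I, h, Ideal.comap_map_eq_self_of_faithfullyFlat])
    have : WellFoundedGT (Ideal S) := isNoetherian_iff'.mp (isNoetherianRing_iff.mp inferInstance)
    exact ⟨Subrelation.wf (fun {a b} h => hm h) (InvImage.wf (Ideal.map (algebraMap R S)) wellFounded_gt)⟩
  have key : ∀ (p : Ideal R) [p.IsPrime], ∃ (P : Ideal S) (_ : P.IsPrime), P.height = p.height ∧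
      (IsRegularLocalRing (Localization.AtPrime P) → IsRegularLocalRing (Localization.AtPrime p)) := by
    intro p _
    obtain ⟨⟨Q, hQ⟩, hQp⟩ := PrimeSpectrum.comap_surjective_of_faithfullyFlat (A := R) (B := S) ⟨p, ‹_›⟩
    have hQp' : Q.comap (algebraMap R S) = p := congrArg PrimeSpectrum.asIdeal hQp
    obtain ⟨P, hP, hPQ⟩ := Ideal.exists_minimalPrimes_le (I := p.map (algebraMap R S)) (J := Q)
      (Ideal.map_le_iff_le_comap.mpr hQp'.ge)
    have : P.IsPrime := hP.1.1
    have : P.LiesOver p := ⟨le_antisymm (Ideal.map_le_iff_le_comap.mp hP.1.2) ((Ideal.comap_mono hPQ).trans hQp'.le)⟩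
    refine ⟨P, hP.1.1, ?_, fun h => ?_⟩
    · have : (P.map (Ideal.Quotient.mk (p.map (algebraMap R S)))).IsPrime :=
        Ideal.map_isPrime_of_surjective Ideal.Quotient.mk_surjective (by rw [Ideal.mk_ker]; exact hP.1.2)
      rw [Ideal.height_eq_height_add_of_liesOver_of_hasGoingDown p P,
        (Ideal.height_eq_zero_iff (I := P.map (Ideal.Quotient.mk (p.map (algebraMap R S))))).mpr,
        add_zero]
      show _ ∈ (⊥ : Ideal _).minimalPrimes
      rw [← Ideal.map_bot (f := Ideal.Quotient.mk (p.map (algebraMap R S))),
        Ideal.minimalPrimes_map_of_surjective Ideal.Quotient.mk_surjective]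
      exact ⟨P, by simpa [Ideal.mk_ker] using hP, rfl⟩
    · let g := Localization.localRingHom p P (algebraMap R S) (Ideal.over_def P p)
      let _ : Algebra (Localization.AtPrime p) (Localization.AtPrime P) := g.toAlgebra
      have : IsLocalHom (algebraMap (Localization.AtPrime p) (Localization.AtPrime P)) :=
        Localization.isLocalHom_localRingHom _ _ _ _
      have : Module.Flat (Localization.AtPrime p) (Localization.AtPrime P) :=
        RingHom.Flat.localRingHom (RingHom.flat_algebraMap_iff.mpr inferInstance) _ p (Ideal.over_def _ p)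
      exact Groth.Agent.S0565.result (Localization.AtPrime p) (Localization.AtPrime P)
  exact { isRegularLocalRing_localization := fun p _ => by
            obtain ⟨P, _, -, h⟩ := key p
            exact h inferInstance }

end Groth.Agent.S9406
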