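import Groth.Agent.L18.CurveModel
import Groth.Agent.L18.MulMap
import Groth.Agent.L16.ProjSpace.Basic
import Groth.Statements.S2345
-- import your own Groth.Agent.* helpers here

set_option autoImplicit false
universe u
open CategoryTheory CategoryTheory.Limits AlgebraicGeometry
attribute [local instance] Curv2.stalkAlgebra
open EGA2

namespace Groth.Agent.S2345

/-- Let K be a finitely generated field extension of k of transcendence degree one. Then there is an
integral normal algebraic curve X, proper over k, whose function field is isomorphic to K compatibly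
with the maps from k. -/
theorem result (k : Type u) [Field k] (K : Type u) [Field K] [Algebra k K]
    (hfg : (⊤ : IntermediateField k K).FG) (htr : Algebra.trdeg k K = 1) :
    ∃ (X : Scheme.{u}) (_ : X.Over (Spec (CommRingCat.of k))) (_ : IsIntegral X), IsProper (X ↘ (Spec (CommRingCat.of k))) ∧ Pi1.IsNormalScheme X ∧
      (∀ x : X, IsClosed ({x} : Set X) → ringKrullDim (X.presheaf.stalk x) = 1) ∧
      ∃ e : X.presheaf.stalk (genericPoint X) ≃+* K, ∀ c : k, e (algebraMap k (X.presheaf.stalk (genericPoint X)) c) = algebraMap k K c := by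
  classical
  let P := CohB1.ProjSpace 1 k
  haveI : IsIntegral P := Groth.L16.ProjSpace.isIntegral (n := 1) (R := k)
  haveI : IsProper (CohB1.ProjSpace.toSpec 1 k) := Groth.L18.PS.isProper_toSpec 1 k
  obtain ⟨φ, hφ, hk⟩ := Groth.L18.CurveModel.exists_embedding K hfg htr
  let g : Spec (CommRingCat.of K) ⟶ P :=
    Spec.map (CommRingCat.ofHom φ) ≫ P.fromSpecStalk (genericPoint P)
  have hg : g = Spec.map (CommRingCat.ofHom φ) ≫ P.fromSpecStalk (genericPoint P) := rfl
  haveI : IsFinite g.fromNormalization :=
    Groth.L18.NormField.isFinite_fromNormalization (CohB1.ProjSpace.toSpec 1 k) hφ hg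
  haveI : IsIntegral g.normalization := inferInstance
  letI : g.normalization.Over (Spec (CommRingCat.of k)) := ⟨g.fromNormalization ≫ CohB1.ProjSpace.toSpec 1 k⟩
  refine ⟨g.normalization, inferInstance, inferInstance,
    (inferInstance : IsProper (g.fromNormalization ≫ CohB1.ProjSpace.toSpec 1 k)),
    Groth.L18.NormField.isNormalScheme hg,
    fun x hx => Groth.L18.NormField.dim_stalk hg Groth.L18.CurveModel.dim_stalk_projLine x hx, ?_⟩
  have hbase := Groth.L18.NormField.toNormalization_base (g := g) (IsLocalRing.closedPoint K)
  have hall : ∀ y : K, y ∈ Set.range (Scheme.stalkClosedPointTo g.toNormalization).hom := fun y => by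
    rw [Groth.L18.NormField.range_stalkTo hg]
    letI := φ.toAlgebra
    haveI : Module.Finite P.functionField K := hφ
    exact (Algebra.IsIntegral.isIntegral (R := P.functionField) y)
  let j : g.normalization.presheaf.stalk (genericPoint g.normalization) ≅
      g.normalization.presheaf.stalk (g.toNormalization (IsLocalRing.closedPoint K)) :=
    g.normalization.presheaf.stalkCongr (.of_eq hbase.symm)
  let e0 : g.normalization.presheaf.stalk (g.toNormalization (IsLocalRing.closedPoint K)) ≃+* K :=
    RingEquiv.ofBijective (Scheme.stalkClosedPointTo g.toNormalization).hom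
      ⟨Groth.L18.NormField.stalkTo_injective, hall⟩
  refine ⟨j.commRingCatIsoToRingEquiv.trans e0, fun c => ?_⟩
  change (Scheme.stalkClosedPointTo g.toNormalization).hom (j.hom.hom
    ((g.normalization.presheaf.germ ⊤ _ trivial).hom
      ((g.fromNormalization ≫ CohB1.ProjSpace.toSpec 1 k).appTop.hom
        ((Scheme.ΓSpecIso (CommRingCat.of k)).inv.hom c)))) = _
  have h1 : g.normalization.presheaf.germ ⊤ (genericPoint g.normalization) trivial ≫ j.hom =
      g.normalization.presheaf.germ ⊤ (g.toNormalization (IsLocalRing.closedPoint K)) trivial :=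
    TopCat.Presheaf.germ_stalkSpecializes _ _ (Inseparable.of_eq hbase).specializes
  have h2 : g.normalization.presheaf.germ ⊤ (g.toNormalization (IsLocalRing.closedPoint K)) trivial ≫
      Scheme.stalkClosedPointTo g.toNormalization =
      g.toNormalization.appTop ≫ (Scheme.ΓSpecIso (CommRingCat.of K)).hom := by
    refine (Scheme.germ_stalkClosedPointTo g.toNormalization ⊤ trivial).trans ?_
    congr 1
  have h3 : g.appTop ≫ (Scheme.ΓSpecIso (CommRingCat.of K)).hom =
      P.presheaf.germ ⊤ (genericPoint P) trivial ≫ CommRingCat.ofHom φ := by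
    simp only [hg, Scheme.Hom.comp_appTop, Scheme.fromSpecStalk_appTop, Category.assoc]
    erw [Scheme.ΓSpecIso_naturality]
    simp
    rfl
  have h4 : (g.fromNormalization ≫ CohB1.ProjSpace.toSpec 1 k).appTop ≫
      g.normalization.presheaf.germ ⊤ (genericPoint g.normalization) trivial ≫ j.hom ≫
      Scheme.stalkClosedPointTo g.toNormalization =
      (CohB1.ProjSpace.toSpec 1 k).appTop ≫ P.presheaf.germ ⊤ (genericPoint P) trivial ≫ CommRingCat.ofHom φ := by
    refine (congrArg (fun t => (g.fromNormalization ≫ CohB1.ProjSpace.toSpec 1 k).appTop ≫ t)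
      ((Category.assoc _ _ _).symm.trans
        ((congrArg (fun t => t ≫ Scheme.stalkClosedPointTo g.toNormalization) h1).trans h2))).trans ?_
    rw [← h3, ← Scheme.Hom.comp_appTop_assoc, ← Scheme.Hom.comp_appTop_assoc, ← Category.assoc,
      g.toNormalization_fromNormalization]
  exact (ConcreteCategory.congr_hom h4 ((Scheme.ΓSpecIso (CommRingCat.of k)).inv.hom c)).trans (hk c)

end Groth.Agent.S2345
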