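
import Groth.Statements.S0082
import Groth.Agent.L22.AffineDescent

set_option autoImplicit false
open CategoryTheory CategoryTheory.Limits AlgebraicGeometry Opposite
universe u
open EtBase

namespace Groth.Agent.S0082

theorem qc_of_comp_surjective {A B C : Scheme.{u}} (a : A ⟶ B) (g : B ⟶ C) [Surjective a]
    [hc : QuasiCompact (a ≫ g)] : QuasiCompact g := by
  refine (quasiCompact_iff g).2 fun U hU hU' => ?_
  have h := (QuasiCompact.isCompact_preimage (f := a ≫ g) U hU hU').image a.continuous
  have e : (a ≫ g).base ⁻¹' U = a.base ⁻¹' (g.base ⁻¹' U) := by ext x; simp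
  rwa [e, Set.image_preimage_eq _ a.surjective] at h

theorem qc_descends {P T X S : Scheme.{u}} {a : P ⟶ X} {b : P ⟶ T} {g : X ⟶ S} {f : T ⟶ S}
    [Surjective f] [QuasiCompact f] (H : IsPullback a b g f) (hb : QuasiCompact b) :
    QuasiCompact g := by
  haveI : Surjective a := MorphismProperty.of_isPullback (P := @Surjective) H.flip inferInstance
  haveI : QuasiCompact (a ≫ g) := by rw [H.w]; exact inferInstance
  exact qc_of_comp_surjective a g

theorem qc_diag_descends {P T X S : Scheme.{u}} {a : P ⟶ X} {b : P ⟶ T} {g : X ⟶ S} {f : T ⟶ S}
    [Surjective f] [QuasiCompact f] (H : IsPullback a b g f) (hb : QuasiSeparated b) :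
    QuasiCompact (pullback.diagonal g) := by
  haveI : Surjective a := MorphismProperty.of_isPullback (P := @Surjective) H.flip inferInstance
  haveI : QuasiCompact a := MorphismProperty.of_isPullback (P := @QuasiCompact) H.flip inferInstance
  have hQ : IsPullback (pullback.snd b b ≫ a) (pullback.fst b b) g (b ≫ f) :=
    (IsPullback.of_hasPullback b b).flip.paste_horiz H
  have hR := IsPullback.of_hasPullback (b ≫ f) g
  let l : pullback (b ≫ f) g ⟶ pullback g g :=
    pullback.lift (pullback.fst (b ≫ f) g ≫ a) (pullback.snd (b ≫ f) g) (by
      rw [Category.assoc, H.w, hR.w])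
  have hl : IsPullback l (pullback.fst (b ≫ f) g) (pullback.fst g g) a := by
    refine IsPullback.of_right ?_ (pullback.lift_fst _ _ _) (IsPullback.of_hasPullback g g).flip
    rw [pullback.lift_snd, H.w]
    exact hR.flip
  haveI : QuasiCompact l := MorphismProperty.of_isPullback (P := @QuasiCompact) hl.flip inferInstance
  let m : pullback b b ⟶ pullback g g := hQ.flip.isoPullback.hom ≫ l
  have hm : QuasiCompact m := inferInstance
  have hd : a ≫ pullback.diagonal g = pullback.diagonal b ≫ m := by
    apply pullback.hom_ext
    · simp only [m, l, Category.assoc, pullback.diagonal_fst, pullback.lift_fst,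
        IsPullback.isoPullback_hom_fst_assoc, pullback.diagonal_fst_assoc, Category.comp_id]
    · simp only [m, l, Category.assoc, pullback.diagonal_snd, pullback.lift_snd,
        IsPullback.isoPullback_hom_snd, pullback.diagonal_snd_assoc, Category.comp_id]
  haveI : QuasiCompact (a ≫ pullback.diagonal g) := by rw [hd]; infer_instance
  exact qc_of_comp_surjective a _


/-- If the base change of a morphism of schemes along a quasi-compact, flat, surjective morphism is
affine, then the morphism itself is affine. (Stated for a single quasi-compact flat surjective base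
change; together with Zariski-locality on the target this is fpqc descent for affineness.) -/
theorem result :
    MorphismProperty.DescendsAlong @IsAffineHom (@Surjective ⊓ @Flat ⊓ @QuasiCompact : MorphismProperty Scheme.{u}) := by
  apply MorphismProperty.DescendsAlong.mk'
  intro S T X f g _ hf hfst
  obtain ⟨⟨hsurj, hflat⟩, hqc⟩ := hf
  haveI := hsurj; haveI := hflat; haveI := hqc
  haveI := hfst
  -- quasi-compactness descends because `f` is surjective
  have hg : QuasiCompact g := qc_descends (IsPullback.of_hasPullback f g).flip inferInstance
  haveI := hg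
  haveI : QuasiSeparated g := by
    constructor
    have hid : IsPullback (pullback.fst f g) (pullback.snd f g) f g :=
      IsPullback.of_hasPullback f g
    exact qc_diag_descends hid.flip inferInstance
  exact Groth.L22.AffDesc.isAffineHom_of_isPullback (IsPullback.of_hasPullback f g).flip

end Groth.Agent.S0082
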