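import Groth.Statements.S6333
import Mathlib.RingTheory.AlgebraicIndependent.AlgebraicClosure
import Mathlib.RingTheory.AlgebraicIndependent.TranscendenceBasis
import Mathlib.FieldTheory.IntermediateField.Adjoin.Algebra
import Mathlib.RingTheory.Localization.Module
import Mathlib.LinearAlgebra.Dimension.Finite

set_option autoImplicit false
universe u
open Fields

namespace Groth.Agent.S6333

/-- For a finitely generated field extension K/k, the algebraic closure of k inside K is a finite
extension of k. -/
theorem result {k K : Type u} [Field k] [Field K] [Algebra k K]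
    (hfg : (⊤ : IntermediateField k K).FG) :
    FiniteDimensional k (algebraicClosure k K) := by
  classical
  obtain ⟨ι, x, hx⟩ := exists_isTranscendenceBasis' k K
  have hxE : AlgebraicIndependent (algebraicClosure k K) x := hx.1.algebraicClosure
  set F0 := IntermediateField.adjoin k (Set.range x)
  haveI : Algebra.IsAlgebraic F0 K := hx.isAlgebraic_field
  obtain ⟨t, ht, htop⟩ := IntermediateField.fg_def.mp hfg
  haveI : Finite t := ht.to_subtype
  haveI : FiniteDimensional F0 K := by
    have h := IntermediateField.finiteDimensional_adjoin (K := F0) (L := K) (S := t)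
      fun a _ => (Algebra.IsAlgebraic.isAlgebraic a).isIntegral
    have htop' : IntermediateField.adjoin F0 t = ⊤ := by
      refine IntermediateField.restrictScalars_eq_top_iff (K := k).mp (top_le_iff.mp ?_)
      rw [← htop, IntermediateField.adjoin_le_iff]
      exact fun a ha => IntermediateField.subset_adjoin F0 t ha
    rw [htop'] at h
    exact IntermediateField.topEquiv.toLinearEquiv.finiteDimensional
  let b := Module.Free.chooseBasis k (algebraicClosure k K)
  open scoped IntermediateField.algebraAdjoinAdjoin in
  have hA : LinearIndependent (Algebra.adjoin k (Set.range x)) fun i => ((b i : algebraicClosure k K) : K) := by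
    rw [linearIndependent_iff']
    intro s l hl i hi
    let P := fun i => hx.1.aevalEquiv.symm (l i)
    have hP : ∀ i, MvPolynomial.aeval x (P i) = ((l i : Algebra.adjoin k (Set.range x)) : K) := fun i => by
      have h1 := congrArg Subtype.val (hx.1.aevalEquiv.apply_symm_apply (l i))
      rw [← h1]
      exact (hx.1.algebraMap_aevalEquiv _).symm
    let Q : MvPolynomial ι (algebraicClosure k K) :=
      ∑ i ∈ s, MvPolynomial.C (b i) * MvPolynomial.map (algebraMap k (algebraicClosure k K)) (P i)
    have hQ : Q = 0 := hxE (by
      simp only [Q, map_sum, map_mul, MvPolynomial.aeval_C, map_zero, MvPolynomial.aeval_map_algebraMap, hP]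
      rw [← hl]
      exact Finset.sum_congr rfl fun j _ => mul_comm _ _)
    have hcoeff : ∀ m, MvPolynomial.coeff m (P i) = 0 := fun m => by
      have h2 := congrArg (MvPolynomial.coeff m) hQ
      simp only [Q, MvPolynomial.coeff_sum, MvPolynomial.coeff_C_mul, MvPolynomial.coeff_map, MvPolynomial.coeff_zero] at h2
      refine linearIndependent_iff'.mp b.linearIndependent s (fun j => MvPolynomial.coeff m (P j)) ?_ i hi
      rw [← h2]
      exact Finset.sum_congr rfl fun j _ => by rw [Algebra.smul_def, mul_comm]
    have : P i = 0 := MvPolynomial.ext _ _ fun m => by rw [hcoeff m, MvPolynomial.coeff_zero]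
    exact hx.1.aevalEquiv.symm.injective (this.trans (map_zero _).symm)
  open scoped IntermediateField.algebraAdjoinAdjoin in
  have hF : LinearIndependent F0 fun i => ((b i : algebraicClosure k K) : K) :=
    (LinearIndependent.iff_fractionRing (Algebra.adjoin k (Set.range x)) F0).mp hA
  haveI := hF.finite
  exact Module.Finite.of_basis b

end Groth.Agent.S6333
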