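import Groth.Statements.S9407
import Groth.Agent.L21.Smooth.EtaleRegular
import Groth.Agent.L06.FibreComp
import Groth.Agent.L01.Regular
import Mathlib.RingTheory.Smooth.NoetherianDescent
import Mathlib.RingTheory.Smooth.StandardSmoothOfFree
import Mathlib.RingTheory.LocalProperties.Reduced
import Mathlib.RingTheory.Smooth.Flat
import Mathlib.LinearAlgebra.TensorProduct.Finiteness
import Mathlib.RingTheory.RingHom.StandardSmooth
import Mathlib.RingTheory.LocalRing.ResidueField.Fiber

set_option autoImplicit false
universe u
open CAlg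

namespace Groth.Agent.S9407

open scoped TensorProduct

/-- Smooth algebras over fields are reduced. -/
theorem isReduced_of_field (k : Type u) [Field k] (A : Type u) [CommRing A] [Algebra k A]
    [Algebra.Smooth k A] : IsReduced A := by
  obtain ⟨s, hs, h⟩ := Algebra.Smooth.exists_span_eq_top_isStandardSmooth k A
  refine ⟨fun x hx => Localization.algebraMap_injective_of_span_eq_top s hs (funext fun a => ?_)⟩
  have := h a.1 a.2
  have : IsReduced (Localization.Away a.1) := isReduced_ofLocalizationMaximal _ fun m hm => by
    have := Groth.L21.Smooth.regular_of_isStandardSmooth k (algebraMap k (Localization.Away a.1))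
      (RingHom.isStandardSmooth_algebraMap.mpr inferInstance) m
    have := Groth.L01.isDomain_of_regular (Localization.AtPrime m)
    infer_instance
  rw [map_zero, Pi.zero_apply, Pi.algebraMap_apply]
  exact (hx.map (algebraMap A (Localization.Away a.1))).eq_zero

/-- The Noetherian case. -/
theorem isReduced_noetherian (R S : Type u) [CommRing R] [IsNoetherianRing R] [IsReduced R]
    [CommRing S] [Algebra R S] [Algebra.Smooth R S] : IsReduced S :=
  Groth.L06.FibreComp.isReduced_of_flat (R := R) fun p _ => isReduced_of_field p.ResidueField (p.Fiber S)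

end Groth.Agent.S9407


namespace Groth.Agent.S9407

/-- Reducedness ascends along smooth ring maps: if R is reduced and S is smooth over R then S is
reduced. -/
theorem result (R : Type u) [CommRing R] (S : Type u) [CommRing S]
    [Algebra R S] [Algebra.Smooth R S] [IsReduced R] : IsReduced S := by
  classical
  obtain ⟨R₀, S₀, _, _, hfg, _, ⟨e⟩⟩ := Algebra.Smooth.exists_subalgebra_fg ℤ R S
  have : Algebra.FiniteType ℤ R₀ := (Subalgebra.fg_iff_finiteType R₀).mp hfg
  have : IsNoetherianRing R₀ := Algebra.FiniteType.isNoetherianRing ℤ R₀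
  suffices h : IsReduced (TensorProduct R₀ R S₀) from isReduced_of_injective e e.injective
  refine ⟨fun x hx => ?_⟩
  obtain ⟨t, ht⟩ := TensorProduct.exists_finset x
  let R₁ : Subalgebra R₀ R := Algebra.adjoin R₀ ((t.image Prod.fst : Finset R) : Set R)
  have : Algebra.FiniteType R₀ R₁ := (Subalgebra.fg_iff_finiteType R₁).mp (Subalgebra.fg_adjoin_finset _)
  have : IsNoetherianRing R₁ := Algebra.FiniteType.isNoetherianRing R₀ R₁
  have : IsReduced R₁ := isReduced_of_injective R₁.val Subtype.val_injective
  have : IsReduced (TensorProduct R₀ R₁ S₀) := by exact isReduced_noetherian R₁ (TensorProduct R₀ R₁ S₀)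
  let φ := Algebra.TensorProduct.map R₁.val (AlgHom.id R₀ S₀)
  have hφ : Function.Injective φ :=
    Module.Flat.rTensor_preserves_injective_linearMap R₁.val.toLinearMap Subtype.val_injective
  have hy : x ∈ φ.range := by
    rw [ht]
    refine Subalgebra.sum_mem _ fun i hi => ⟨TensorProduct.tmul R₀ (⟨i.1, Algebra.subset_adjoin (Finset.mem_image_of_mem Prod.fst hi)⟩ : R₁) i.2, ?_⟩
    simp [φ]
  obtain ⟨y, rfl⟩ := hy
  obtain ⟨n, hn⟩ := hx
  have : IsNilpotent y := ⟨n, hφ (by rw [map_pow, map_zero]; exact hn)⟩
  rw [this.eq_zero]
  exact map_zero φ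

end Groth.Agent.S9407
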