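import Groth.Statements.S0544
import Mathlib.RingTheory.AdicCompletion.Functoriality
import Mathlib.RingTheory.Finiteness.Basic
import Mathlib.RingTheory.Ideal.Operations

set_option autoImplicit false
universe u
open CAlg

namespace Groth.Agent.S0544

/-- Let `R` be complete with respect to an ideal `I` and `M` an `R`-module which is `I`-adically
separated and such that `M/IM` is finitely generated. Then `M` is a finitely generated `R`-module. -/
theorem result (R : Type u) [CommRing R]
    (I : Ideal R) [IsAdicComplete I R] (M : Type u) [AddCommGroup M] [Module R M] [IsHausdorff I M]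
    (h : Module.Finite R (M ⧸ (I • ⊤ : Submodule R M))) : Module.Finite R M := by
  classical
  obtain ⟨n, g, hg⟩ := Module.Finite.exists_fin (R := R) (M := M ⧸ (I • ⊤ : Submodule R M))
  choose m hm using fun i => Submodule.mkQ_surjective (I • ⊤ : Submodule R M) (g i)
  haveI : IsPrecomplete I (Fin n → R) := by
    refine ⟨fun {f} hf => ?_⟩
    have h : ∀ i, ∃ L : R, ∀ k, f k i ≡ L [SMOD (I ^ k • ⊤ : Submodule R R)] := fun i =>
      IsPrecomplete.prec' (fun k => f k i) fun {a b} hab => by
        rw [SModEq.sub_mem]
        have := Submodule.mem_map_of_mem (f := LinearMap.proj i) (SModEq.sub_mem.mp (hf hab))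
        rw [Submodule.map_smul''] at this
        exact Submodule.smul_mono le_rfl le_top this
    choose L hL using h
    refine ⟨L, fun k => ?_⟩
    rw [SModEq.sub_mem, ← Finset.univ_sum_single (f k - L)]
    refine Submodule.sum_mem _ fun i _ => ?_
    have h1 := SModEq.sub_mem.mp (hL i k)
    rw [smul_eq_mul, Ideal.mul_top] at h1
    have h2 : Pi.single i ((f k - L) i) = (f k i - L i) • Pi.single i (1 : R) := by
      rw [← Pi.single_smul']
      simp
    rw [h2]
    exact Submodule.smul_mem_smul h1 Submodule.mem_top
  let φ : (Fin n → R) →ₗ[R] M := Fintype.linearCombination R m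
  have hs : Function.Surjective ((I • ⊤ : Submodule R M).mkQ ∘ₗ φ) := by
    rw [← LinearMap.range_eq_top, ← top_le_iff, ← hg, Submodule.span_le]
    rintro _ ⟨i, rfl⟩
    exact ⟨Pi.single i 1, by simp [φ, ← hm i, Fintype.linearCombination_apply_single]⟩
  exact Module.Finite.of_surjective φ (surjective_of_mkQ_comp_surjective hs)

end Groth.Agent.S0544
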