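import Groth.Statements.S0581
import Groth.Agent.L01.CohenFinite
import Mathlib.RingTheory.PrincipalIdealDomain

set_option autoImplicit false
universe u
open CAlg

namespace Groth.Agent.S0581

/-- A complete Noetherian local domain `R` contains a subring `R₀` over which it is module-finite with
the same residue field, where `R₀` is a power series ring in finitely many variables over a field or
over a Cohen ring. Stated with `R₀` given as the image of an injective ring map. -/
theorem result (R : Type u) [CommRing R]
    [IsDomain R] [IsLocalRing R] [IsNoetherianRing R] [IsAdicComplete (IsLocalRing.maximalIdeal R) R] :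
    ∃ (Λ : Type u) (_ : CommRing Λ) (n : ℕ) (f : MvPowerSeries (Fin n) Λ →+* R),
      (IsField Λ ∨ CAlg.IsCohenRing Λ) ∧ Function.Injective f ∧ f.Finite ∧
      Function.Surjective ((IsLocalRing.residue R).comp f) := by
  classical
  obtain ⟨p, hp⟩ := CharP.exists (IsLocalRing.ResidueField R)
  have hfield : ∀ F : IsLocalRing.ResidueField R →+* R, (IsLocalRing.residue R).comp F = RingHom.id _ →
      ∃ (Λ : Type u) (_ : CommRing Λ) (n : ℕ) (f : MvPowerSeries (Fin n) Λ →+* R),
        (IsField Λ ∨ CAlg.IsCohenRing Λ) ∧ Function.Injective f ∧ f.Finite ∧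
        Function.Surjective ((IsLocalRing.residue R).comp f) := by
    intro F hF
    haveI : IsLocalHom F := ⟨fun a ha => by
      refine IsUnit.mk0 a fun h => ?_
      rw [h, map_zero] at ha
      exact not_isUnit_zero ha⟩
    obtain ⟨n, x, N, hx, hN, hn⟩ := Groth.L01.CohenFinite.exists_sop (R := R) ⊥ bot_le
    have h0 : IsLocalRing.maximalIdeal (IsLocalRing.ResidueField R) = ⊥ := IsLocalRing.maximalIdeal_eq_bot
    haveI : IsAdicComplete (IsLocalRing.maximalIdeal (IsLocalRing.ResidueField R)) (IsLocalRing.ResidueField R) :=
      h0 ▸ inferInstance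
    obtain ⟨f, h1, h2, h3⟩ := Groth.L01.CohenFinite.exists_finite_injective F
      (by rw [hF]; exact Function.surjective_id) N x hx (hN.trans (sup_le le_sup_left bot_le))
      (by
        have hd : ringKrullDim (R ⧸ (⊥ : Ideal R)) = ringKrullDim R :=
          ringKrullDim_eq_of_ringEquiv (RingEquiv.quotientBot R)
        rw [h0, Submodule.spanFinrank_bot, zero_add, hn, hd])
    exact ⟨_, inferInstance, n, f, Or.inl (Field.toIsField _), h1, h2, h3⟩
  rcases CharP.char_is_prime_or_zero (IsLocalRing.ResidueField R) p with hpp | rfl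
  · haveI := Fact.mk hpp
    by_cases hpR : (p : R) = 0
    · obtain ⟨F, hF⟩ := Groth.L01.Cohen.exists_coefficientField_charP (R := R) (p := p) hpR
      exact hfield F hF
    obtain ⟨Λ, i1, i2, i3, hC, hm, hreg, hc, hno, ⟨e⟩⟩ :=
      Groth.L01.Cohen.exists_cohenRing p (IsLocalRing.ResidueField R)
    have hpm : (p : R) ∈ IsLocalRing.maximalIdeal R := by
      rw [← IsLocalRing.residue_eq_zero_iff, map_natCast, CharP.cast_eq_zero]
    obtain ⟨F, hF⟩ := Groth.L01.Cohen.exists_lift_cohen hm hreg hpm (e.toRingHom.comp (IsLocalRing.residue Λ))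
    haveI : IsLocalHom F := ⟨fun a ha => by
      by_contra hu
      have h2 := congrArg (fun g => g a) hF
      simp only [RingHom.comp_apply] at h2
      rw [(IsLocalRing.residue_eq_zero_iff a).mpr hu, map_zero, IsLocalRing.residue_eq_zero_iff] at h2
      exact h2 ha⟩
    obtain ⟨n, x, N, hx, hN, hn⟩ := Groth.L01.CohenFinite.exists_sop (R := R) (Ideal.span {(p : R)})
      ((Ideal.span_singleton_le_iff_mem _).mpr hpm)
    obtain ⟨f, h1, h2, h3⟩ := Groth.L01.CohenFinite.exists_finite_injective F
      (by rw [hF]; exact e.surjective.comp IsLocalRing.residue_surjective) N x hx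
      (hN.trans (sup_le le_sup_left (le_sup_of_le_right (by
        rw [hm, Ideal.map_span, Set.image_singleton, map_natCast]))))
      (by
        have h := ringKrullDim_quotient_succ_le_of_nonZeroDivisor (r := (p : R)) (mem_nonZeroDivisors_of_ne_zero hpR)
        rw [← hn] at h
        refine le_trans ?_ h
        have h4 : (IsLocalRing.maximalIdeal Λ).spanFinrank ≤ 1 := by
          rw [hm]
          refine (Submodule.spanFinrank_span_le_ncard_of_finite (Set.finite_singleton _)).trans ?_
          simp
        exact_mod_cast (add_le_add h4 le_rfl).trans (le_of_eq (add_comm _ _)))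
    exact ⟨Λ, i1, n, f, Or.inr hC, h1, h2, h3⟩
  · haveI := CharP.charP_to_charZero (IsLocalRing.ResidueField R)
    obtain ⟨F, hF⟩ := Groth.L01.Cohen.exists_coefficientField_charZero (R := R)
    exact hfield F hF

end Groth.Agent.S0581
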