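import Groth.Statements.S0341
import Groth.Agent.L29.Dual.Gorenstein

set_option autoImplicit false
set_option backward.isDefEq.respectTransparency false
universe u v
open Goren

namespace Groth.Agent.S0341

/-- A Gorenstein local ring is Cohen–Macaulay. -/
theorem result (A : Type u) [CommRing A] [LocCoh.IsGorensteinLocalRing A] : LocCoh.IsCohenMacaulayLocalRing A := by
  exact ⟨Groth.L29.HomD.supportDim_eq_depth_of_dualizing_module A
    (Groth.L29.Gorenstein.isGorensteinLocalRing_iff_isDualizing.1 inferInstance)⟩

end Groth.Agent.S0341
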