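import Groth.Statements.S0342
import Groth.Agent.L29.Dual.Gorenstein

set_option autoImplicit false
set_option backward.isDefEq.respectTransparency false
universe u v
open Goren

namespace Groth.Agent.S0342

/-- Regular local rings have finite injective dimension over themselves, i.e. are Gorenstein. -/
theorem result (A : Type u) [CommRing A] [IsRegularLocalRing A] : LocCoh.IsGorensteinLocalRing A := by
  exact Groth.L29.Gorenstein.isGorensteinLocalRing_iff_isDualizing.2
    (Groth.L29.HomD.isDualizing_inD_of_regularLocal A)

end Groth.Agent.S0342
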