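import Groth.Statements.S9126
import Groth.Agent.L03.Catenary

set_option autoImplicit false
universe u
open CAlg

namespace Groth.Agent.S9126

/-- An algebra essentially of finite type over a Noetherian universally catenary ring is universally
catenary. -/
theorem result (A : Type u) [CommRing A] (B : Type u) [CommRing B]
    [Algebra A B] [Algebra.EssFiniteType A B]
    (hA : CAlg.IsUniversallyCatenary A) : CAlg.IsUniversallyCatenary B := by
  haveI := hA.1
  refine ⟨Groth.L03.Catenary.isNoetherianRing_of_essFiniteType (A := A) B, fun S _ _ hS => ?_⟩
  letI : Algebra A S := Algebra.compHom S (algebraMap A B)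
  haveI : IsScalarTower A B S := IsScalarTower.of_algebraMap_eq' rfl
  haveI : Algebra.EssFiniteType A S := Algebra.EssFiniteType.comp A B S
  exact Groth.L03.Catenary.isCatenary_of_essFiniteType hA S

end Groth.Agent.S9126
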