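import Groth.Statements.S15177
import Groth.Agent.L08.Subcoalg
import Groth.Prelude.Def_ComodSub
import Mathlib.RingTheory.Bialgebra.Convolution
import Mathlib.Tactic.Ring
import Mathlib.Tactic.LinearCombination
import Mathlib.Tactic.FieldSimp
import Mathlib.Algebra.BigOperators.Ring.Finset

set_option autoImplicit false
universe u v
open BddFin

namespace Groth.Agent.S15177

open Groth.L08 TensorProduct WithConv

theorem nilp (K : Type u) [Field K] (A : Type v) [CommRing A] [Bialgebra K A]
    (hU : HopfRep.IsUnipotent K A) (φ : A →ₗ[K] K) (hφ : φ 1 = 1) :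
    ∀ (n : ℕ) (V : Type v) [AddCommGroup V] [Module K V] [HopfRep.Comod K A V] [Module.Finite K V],
      Module.finrank K V = n → IsNilpotent (fAct (A := A) V φ - 1 : Module.End K V) := by
  intro n
  induction n using Nat.strong_induction_on with
  | _ n ih =>
  intro V _ _ c _ hn
  rcases subsingleton_or_nontrivial V with h | h
  · exact ⟨1, LinearMap.ext fun x => Subsingleton.elim _ _⟩
  set W := HopfRep.fixedPts K A V with hW
  have hfix : ∀ v ∈ W, ∀ ψ : A →ₗ[K] K, fAct (A := A) V ψ v = ψ 1 • v := by
    intro v hv ψ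
    have hv' : HopfRep.Comod.coact (k := K) (A := A) v = v ⊗ₜ[K] (1 : A) := hv
    rw [fAct_apply, hv']
    simp
  have hWs : HopfRep.IsSubcomod (k := K) (A := A) W :=
    isSubcomod_iff.2 fun ψ v hv => by rw [hfix v hv ψ]; exact W.smul_mem _ hv
  letI := ComodSub.Comod.quot c W hWs
  have hq : Hoch.IsComodHom A W.mkQ := ComodSub.isComodHom_mkQ c W hWs
  have hW0 : W ≠ ⊥ := hU V inferInstance h
  have hlt : Module.finrank K (V ⧸ W) < n := by
    have h1 := W.finrank_quotient_add_finrank
    have h2 : 0 < Module.finrank K W := by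
      rw [Nat.pos_iff_ne_zero]
      exact fun h0 => hW0 (Submodule.finrank_eq_zero.1 h0)
    omega
  obtain ⟨i, hi⟩ := ih _ hlt (V ⧸ W) rfl
  set U : Module.End K V := fAct (A := A) V φ - 1 with hUd
  have hcomm : ∀ (j : ℕ) (v : V), W.mkQ ((U ^ j) v) =
      ((fAct (A := A) (V ⧸ W) φ - 1 : Module.End K (V ⧸ W)) ^ j) (W.mkQ v) := by
    intro j
    induction j with
    | zero => intro v; simp
    | succ j ihj =>
      intro v
      rw [pow_succ, pow_succ, Module.End.mul_apply, Module.End.mul_apply, ihj]
      congr 1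
      simp only [hUd, LinearMap.sub_apply, Module.End.one_apply, map_sub]
      rw [fAct_comm_of_isComodHom hq]
  refine ⟨i + 1, LinearMap.ext fun v => ?_⟩
  have hmem : (U ^ i) v ∈ W := by
    rw [← Submodule.Quotient.mk_eq_zero]
    show W.mkQ _ = 0
    rw [hcomm, hi]; rfl
  rw [pow_succ', Module.End.mul_apply]
  simp only [hUd, LinearMap.sub_apply, Module.End.one_apply]
  rw [hfix _ hmem, hφ, one_smul, sub_self]
  rfl

/-- Let K be a field and Γ a unipotent linear algebraic group over K, given here by its coordinate Hopf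
algebra A (a finitely generated, formally smooth commutative Hopf algebra over K all of whose
non-zero finite-dimensional comodules have a non-zero fixed vector). Then the group Γ(K) of K-points
(K-algebra maps A → K under convolution) has no non-trivial element of finite order coprime to the
characteristic of K: an element of finite order whose order is non-zero in K is the identity. -/
theorem result
    (K : Type u) [Field K] (A : Type v) [CommRing A] [HopfAlgebra K A] [Algebra.FiniteType K A]
    [Algebra.FormallySmooth K A] (hU : HopfRep.IsUnipotent K A)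
    (g : WithConv (A →ₐ[K] K)) (hg : IsOfFinOrder g) (hcop : ((orderOf g : ℕ) : K) ≠ 0) : g = 1 := by
  apply WithConv.ofConv_injective
  apply AlgHom.ext
  intro a
  obtain ⟨W, hfin, haW, hW⟩ := Groth.L08.exists_finite_subcomod (k := K) (A := A) (V := A) a
  set φ : A →ₗ[K] K := g.ofConv.toLinearMap with hφ
  letI := ComodSub.Comod.restr (inferInstance : HopfRep.Comod K A A) W hW
  have hsub : Hoch.IsComodHom A W.subtype := ComodSub.isComodHom_subtype _ W hW
  obtain ⟨i, hi⟩ := nilp K A hU φ (map_one g.ofConv) _ W rfl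
  set T : Module.End K W := Groth.L08.fAct (A := A) W φ with hT
  set d := orderOf g with hd
  have hpow : ∀ j : ℕ, T ^ j = Groth.L08.fAct (A := A) W
      (WithConv.toConv φ ^ j : WithConv (A →ₗ[K] K)).ofConv := by
    intro j
    induction j with
    | zero => rw [pow_zero, pow_zero, Groth.L08.fAct_one]; rfl
    | succ j ihj => rw [pow_succ, pow_succ, Groth.L08.fAct_mul, ← ihj]; rfl
  have hTd : T ^ d = 1 := by
    rw [hpow, hφ, ← AlgHom.toLinearMap_convPow, hd, pow_orderOf_eq_one, AlgHom.toLinearMap_convOne,
      Groth.L08.fAct_one]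
    rfl
  have hd0 : 0 < d := hg.orderOf_pos
  set U := T - 1 with hUd
  have hgeom : (∑ j ∈ Finset.range d, T ^ j) * U = 0 := (geom_sum_mul T d).trans (by rw [hTd, sub_self])
  have hunit : IsUnit (∑ j ∈ Finset.range d, T ^ j) := by
    have hdu : IsUnit ((d : K) • (1 : Module.End K W)) := by
      rw [← Algebra.algebraMap_eq_smul_one]
      exact (IsUnit.mk0 _ hcop).map _
    have hexp : ∃ S : Module.End K W, Commute U S ∧
        ∑ j ∈ Finset.range d, T ^ j = (d : K) • 1 + U * S := by
      refine ⟨∑ j ∈ Finset.range d, ∑ l ∈ Finset.range j, T ^ l, ?_, ?_⟩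
      · refine Commute.sum_right _ _ _ fun j _ => Commute.sum_right _ _ _ fun l _ => ?_
        exact (Commute.sub_left (R := Module.End K W) (Commute.refl T) (Commute.one_left T)).pow_right l
      · have hm : ∀ j : ℕ, T ^ j = 1 + U * ∑ l ∈ Finset.range j, T ^ l := fun j =>
          (add_sub_cancel 1 (T ^ j)).symm.trans (congrArg (1 + ·) (mul_geom_sum T j).symm)
        rw [Finset.mul_sum, Finset.sum_congr rfl fun j _ => hm j, Finset.sum_add_distrib,
          Finset.sum_const, Finset.card_range, Nat.cast_smul_eq_nsmul]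
    obtain ⟨S, hc, hS⟩ := hexp
    rw [hS]
    refine IsNilpotent.isUnit_add_left_of_commute (R := Module.End K W) (hc.isNilpotent_mul_right ⟨i, hi⟩) hdu ?_
    exact (Commute.one_right _).smul_right _
  have hU0 : U = 0 := hunit.mul_right_eq_zero.1 hgeom
  have hTa := LinearMap.congr_fun hU0 ⟨a, haW⟩
  rw [hUd, LinearMap.sub_apply, Module.End.one_apply, LinearMap.zero_apply, sub_eq_zero] at hTa
  have hTa' : Groth.L08.fAct (A := A) A φ a = a := by
    have := Groth.L08.fAct_comm_of_isComodHom hsub φ (⟨a, haW⟩ : W)
    rw [show Groth.L08.fAct (A := A) W φ ⟨a, haW⟩ = ⟨a, haW⟩ from hTa] at this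
    exact this.symm
  have h1 := Groth.L08.apply_cf (V := A) φ (Coalgebra.counit (R := K) (A := A)) a
  rw [Groth.L08.cf_counit_apply, hTa'] at h1
  rw [AlgHom.convOne_apply]
  exact h1

end Groth.Agent.S15177
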