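import Groth.Statements.S18812
import Groth.Agent.L08.Integral
import Groth.Agent.L08.Semisimple

set_option autoImplicit false
universe u v w
open TensorProduct
open HopfRep

namespace Groth.Agent.S18812

/-- Let k be a field and A a commutative Hopf algebra over k, the coordinate ring of an affine group
scheme G. Suppose the inclusion of constants k → A splits as a map of G-representations: there is a
k-linear map α : A → k which is a comodule map from the regular comodule A to the trivial comodule k
and satisfies α(1) = 1. Then every A-comodule, of any dimension, is semisimple: every subcomodule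
has a complementary subcomodule. (The source works with left comodules; this is the right-comodule
form. The converse implication is the easy one and is not part of this row.) -/
theorem result (k : Type u) [Field k] (A : Type v) [CommRing A] [HopfAlgebra k A]
    (α : A →ₗ[k] k) (hα : @Hoch.IsComodHom k _ A _ _ _ A _ _ _ k _ _ (HopfRep.Comod.trivial k A k) α)
    (h1 : α 1 = 1)
    (V : Type w) [AddCommGroup V] [Module k V] [HopfRep.Comod k A V] :
    HopfRep.IsSemisimpleComod k A V := by
  classical
  letI : HopfRep.Comod k A k := HopfRep.Comod.trivial k A k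
  haveI : GLin.IsCoactAlg k A k :=
    ⟨rfl, fun f g => by
      change (f * g) ⊗ₜ[k] (1 : A) = (f ⊗ₜ[k] (1 : A)) * (g ⊗ₜ[k] (1 : A))
      simp⟩
  intro W hW
  letI := ComodSub.Comod.restr ‹HopfRep.Comod k A V› W hW
  have hι : Hoch.IsComodHom A W.subtype := ComodSub.isComodHom_subtype _ W hW
  haveI : TameAct.IsHopfMod k A k W := ⟨fun b m => by
    change _ = TameAct.hmSMul k A k W (b ⊗ₜ[k] (1 : A)) _
    rw [map_smul]
    induction HopfRep.Comod.coact (k := k) (A := A) m with
    | zero => simp
    | add x y hx hy => simp only [smul_add, map_add, hx, hy]
    | tmul x y => simp [TensorProduct.smul_tmul']⟩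
  obtain ⟨π, hπ⟩ := W.subtype.exists_leftInverse_of_injective W.ker_subtype
  let r : V →ₗ[k] W :=
    L08.lam W α ∘ₗ π.rTensor A ∘ₗ HopfRep.Comod.coact (k := k) (A := A)
  have hr : ∀ w : W, r (w : V) = w := fun w => by
    have h : HopfRep.Comod.coact (k := k) (A := A) (w : V) =
        W.subtype.rTensor A (HopfRep.Comod.coact (k := k) (A := A) w) := LinearMap.congr_fun hι w
    simp only [r, LinearMap.comp_apply, h, ← LinearMap.rTensor_comp_apply, hπ,
      LinearMap.rTensor_id, LinearMap.id_coe, id_eq]
    exact L08.lam_coact h1 w
  have e0 : ∀ y : W ⊗[k] A, HopfRep.Comod.coact (k := k) (A := A) (L08.lam W α y) =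
      (L08.lam W α).rTensor A (Hoch.Ind.coactAux k A W y) := by
    intro y
    induction y with
    | zero => simp
    | add a b ha hb => simp only [map_add, ha, hb]
    | tmul x a => rw [L08.coact_lam hα, Hoch.Ind.coactAux_tmul]
  have hrhom : Hoch.IsComodHom A r := by
    refine LinearMap.ext fun v => ?_
    simp only [r, LinearMap.comp_apply, e0]
    have e : ∀ y : V ⊗[k] A, Hoch.Ind.coactAux k A W (π.rTensor A y) =
        (TensorProduct.assoc k W A A).symm
          (π.rTensor (A ⊗[k] A) ((Coalgebra.comul (R := k) (A := A)).lTensor V y)) := by
      intro y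
      induction y with
      | zero => simp
      | add x y hx hy => simp only [map_add, hx, hy]
      | tmul x y => simp
    rw [e, ← L08.coassoc_apply]
    rw [LinearMap.rTensor_comp_apply, LinearMap.rTensor_comp_apply]
    congr 1
    induction (HopfRep.Comod.coact (k := k) (A := A) (V := V)).rTensor A
        (HopfRep.Comod.coact (k := k) (A := A) v) with
    | zero => simp
    | add x y hx hy => simp only [map_add, hx, hy]
    | tmul x y =>
      induction x with
      | zero => simp
      | add u v hu hv => simp only [map_add, add_tmul, hu, hv]
      | tmul u v => simp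
  refine ⟨LinearMap.ker r, L08.isSubcomod_ker hrhom, ?_⟩
  exact LinearMap.isCompl_of_proj hr

end Groth.Agent.S18812
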