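import Groth.Statements.S2966
import Groth.Agent.L08.Diag
import Groth.Agent.L08.Flag
import Groth.Agent.S7951

set_option autoImplicit false
universe u
open scoped TensorProduct
open SGA3t2b

namespace Groth.Agent.S2966

open Groth.L08 in
theorem primitive_eq_zero {K H : Type u} [Field K] [CommRing H] [HopfAlgebra K H]
    (h : HopfRep.IsDiagonalizable K H) {z : H}
    (hz : Coalgebra.comul (R := K) z = z ⊗ₜ[K] 1 + 1 ⊗ₜ[K] z) : z = 0 := by
  classical
  refine (glBasis h).ext_elem fun g => ?_
  let L := (glBasis h).coord g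
  have hL : LinearMap.mul' K K ∘ₗ TensorProduct.map L L ∘ₗ Coalgebra.comul = L :=
    (glBasis h).ext fun i => by
      simp only [LinearMap.comp_apply, glBasis_apply, i.isGroupLikeElem_val.comul_eq_tmul_self,
        TensorProduct.map_tmul, LinearMap.mul'_apply, L, coord_glBasis_val]
      split_ifs <;> simp
  have h1 : L (1 : H) = 0 ∨ L (1 : H) = 1 := by
    have e : L (1 : H) = if (1 : GroupLike K H) = g then 1 else 0 := coord_glBasis_val h g 1
    rw [e]; split_ifs <;> simp
  have e := LinearMap.congr_fun hL z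
  simp only [LinearMap.comp_apply, hz, map_add, TensorProduct.map_tmul, LinearMap.mul'_apply] at e
  change L z = (glBasis h).repr 0 g
  rw [map_zero, Finsupp.coe_zero, Pi.zero_apply]
  rcases h1 with h1 | h1 <;> rw [h1] at e
  · simpa using e.symm
  · simpa using e

open Groth.L08 in
theorem primitive_eq_zero_of_baseChange {k K A : Type u} [Field k] [Field K] [Algebra k K] [CommRing A]
    [HopfAlgebra k A] (h : HopfRep.IsDiagonalizable K (K ⊗[k] A)) {z : A}
    (hz : Coalgebra.comul (R := k) z = z ⊗ₜ[k] 1 + 1 ⊗ₜ[k] z) : z = 0 := by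
  have hp : Coalgebra.comul (R := K) ((1 : K) ⊗ₜ[k] z) =
      ((1 : K) ⊗ₜ[k] z) ⊗ₜ[K] 1 + 1 ⊗ₜ[K] ((1 : K) ⊗ₜ[k] z) := by
    change TensorProduct.AlgebraTensorModule.tensorTensorTensorComm k K k K K K A A
      (CoalgebraStruct.comul (R := K) (A := K) 1 ⊗ₜ[k] Coalgebra.comul (R := k) z) = _
    rw [CoactBr.comul_self_apply, hz, TensorProduct.tmul_add, map_add]
    rfl
  exact (Algebra.TensorProduct.includeRight_injective (A := K) (algebraMap k K).injective)
    ((primitive_eq_zero h hp).trans (TensorProduct.tmul_zero _ _).symm)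

open Groth.L08 in
theorem groupLike_eq_one {k A : Type u} [Field k] [CommRing A] [HopfAlgebra k A]
    (hU : HopfRep.IsUnipotent k A) {g : A} (hg : IsGroupLikeElem k g) : g = 1 := by
  classical
  obtain ⟨m, F, h0, hm, hst⟩ := hasFlag_of_isUnipotent hU g
  have hex : ∃ i, g ∈ F i := ⟨m, hm⟩
  cases hi : Nat.find hex with
  | zero =>
    have := Nat.find_spec hex
    rw [hi, h0, Submodule.mem_bot] at this
    exact absurd this hg.ne_zero
  | succ j =>
    obtain ⟨g1, hg1, hstep⟩ := hst j
    have hmem := Nat.find_spec hex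
    rw [hi] at hmem
    by_contra hne
    obtain ⟨φ, hφ⟩ : ∃ φ : Module.Dual k A, φ (g - 1) ≠ 0 := by
      by_contra! h
      exact sub_ne_zero.2 hne ((Module.forall_dual_apply_eq_zero_iff k _).1 h)
    have := hstep g hmem φ
    rw [hg1, show fAct A φ g = φ g • g by
      change TensorProduct.rid k A (φ.lTensor A (Coalgebra.comul (R := k) g)) = _
      rw [hg.comul_eq_tmul_self]
      simp, ← sub_smul, ← map_sub] at this
    exact Nat.find_min hex (m := j) (by omega) ((Submodule.smul_mem_iff _ hφ).1 this)

open Groth.L08 in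
theorem map_eq_counit_of_unipotent {k AM AU : Type u} [Field k] [CommRing AM] [CommRing AU]
    [HopfAlgebra k AM] [HopfAlgebra k AU]
    (hM : ∀ z : AM, Coalgebra.comul (R := k) z = z ⊗ₜ[k] 1 + 1 ⊗ₜ[k] z → z = 0)
    (hU : HopfRep.IsUnipotent k AU) (φ : AU →ₐc[k] AM) (a : AU) :
    φ a = algebraMap k AM (Coalgebra.counit (R := k) a) := by
  obtain ⟨m, F, h0, hm, hst⟩ := hasFlag_of_isUnipotent hU a
  suffices key : ∀ i, ∀ x ∈ F i, φ x = algebraMap k AM (Coalgebra.counit (R := k) x) from key m a hm
  intro i
  induction i with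
  | zero => intro x hx; rw [h0, Submodule.mem_bot] at hx; simp [hx]
  | succ i ih =>
    intro x hx
    obtain ⟨g, hg, hstep⟩ := hst i
    obtain ⟨y, hy⟩ := step_iff_range.1 hstep x hx
    have hx' : Coalgebra.comul (R := k) x = (F i).subtype.rTensor AU y + x ⊗ₜ[k] g :=
      sub_eq_iff_eq_add.1 hy.symm
    obtain ⟨z, hz⟩ : ∃ z : AM, TensorProduct.map (φ : AU →ₗ[k] AM) (φ : AU →ₗ[k] AM)
        ((F i).subtype.rTensor AU y) = 1 ⊗ₜ[k] z := by
      clear hy hx'
      induction y with
      | zero => exact ⟨0, by simp⟩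
      | add u v hu hv =>
        obtain ⟨z, hz⟩ := hu
        obtain ⟨z', hz'⟩ := hv
        exact ⟨z + z', by rw [map_add, map_add, hz, hz', TensorProduct.tmul_add]⟩
      | tmul w v =>
        refine ⟨Coalgebra.counit (R := k) (w : AU) • φ v, ?_⟩
        simp only [LinearMap.rTensor_tmul, Submodule.coe_subtype, TensorProduct.map_tmul]
        change φ (w : AU) ⊗ₜ[k] φ v = _
        rw [ih w w.2, Algebra.algebraMap_eq_smul_one, TensorProduct.smul_tmul]
    have hc : Coalgebra.comul (R := k) (φ x) = 1 ⊗ₜ[k] z + φ x ⊗ₜ[k] 1 := by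
      rw [← CoalgHomClass.map_comp_comul_apply, hx', map_add, hz, TensorProduct.map_tmul, hg]
      change _ + φ x ⊗ₜ[k] φ 1 = _
      rw [map_one]
    have hzε : φ x = z + algebraMap k AM (Coalgebra.counit (R := k) x) := by
      have h := congrArg (fun t => TensorProduct.lid k AM ((Coalgebra.counit (R := k) (A := AM)).rTensor AM t)) hc
      simp only [Coalgebra.rTensor_counit_comul, map_add, LinearMap.rTensor_tmul, TensorProduct.lid_tmul,
        Bialgebra.counit_one, one_smul] at h
      rw [CoalgHomClass.counit_comp_apply, ← Algebra.algebraMap_eq_smul_one] at h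
      exact h
    suffices z = 0 by rw [hzε, this, zero_add]
    refine hM z ?_
    have hzq : z = φ x - algebraMap k AM (Coalgebra.counit (R := k) x) := by rw [hzε]; abel
    conv_lhs => rw [hzq, map_sub, hc, Bialgebra.comul_algebraMap, hzε, TensorProduct.add_tmul]
    rw [Algebra.TensorProduct.algebraMap_apply]
    abel

/-- In Hopf-algebra form (with unipotent taken in the representation-theoretic sense: affine and every
non-zero finite-dimensional representation has a non-zero fixed vector): let k be a field, A_M the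
coordinate Hopf algebra of an affine k-group M of finite type which is of multiplicative type in the
sense that it becomes diagonalisable over an algebraic closure of k, and A_U that of a unipotent
affine k-group U of finite type. Then (i) every homomorphism M -> U and (ii) every homomorphism U ->
M is trivial: every bialgebra map A_U -> A_M, resp. A_M -> A_U, factors through the counit. -/
theorem result {k : Type u} [Field k] {AM AU : Type u} [CommRing AM] [CommRing AU]
    [HopfAlgebra k AM] [HopfAlgebra k AU] [Algebra.FiniteType k AM] [Algebra.FiniteType k AU]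
    (hM : HopfRep.IsDiagonalizable (AlgebraicClosure k) (AlgebraicClosure k ⊗[k] AM)) (hU : HopfRep.IsUnipotent k AU) :
    (∀ φ : AU →ₐc[k] AM, SGA3t2b.IsTrivialBialgHom φ) ∧ (∀ ψ : AM →ₐc[k] AU, SGA3t2b.IsTrivialBialgHom ψ) := by
  refine ⟨fun φ a => map_eq_counit_of_unipotent (fun z hz => primitive_eq_zero_of_baseChange hM hz) hU φ a,
    fun ψ a => ?_⟩
  let K := AlgebraicClosure k
  let ψK : K ⊗[k] AM →ₐc[K] K ⊗[k] AU := Bialgebra.TensorProduct.map (BialgHom.id K K) ψ
  have hUK := (Groth.Agent.S7951.result k K AU).1 hU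
  have key : ∀ y, ψK y = algebraMap K (K ⊗[k] AU) (Coalgebra.counit (R := K) y) := fun y => by
    have hy : y ∈ Submodule.span K {b : K ⊗[k] AM | IsGroupLikeElem K b} := hM ▸ Submodule.mem_top
    induction hy using Submodule.span_induction with
    | zero => simp
    | add a b _ _ ha hb => rw [map_add, map_add, map_add, ha, hb]
    | smul r a _ ha =>
      rw [map_smul, map_smul, ha, smul_eq_mul, Algebra.algebraMap_eq_smul_one,
        Algebra.algebraMap_eq_smul_one, smul_smul]
    | mem g hg =>
      rw [groupLike_eq_one hUK (hg.map ψK), hg.counit_eq_one, map_one]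
  have h := key (1 ⊗ₜ[k] a)
  rw [show ψK (1 ⊗ₜ[k] a) = (1 : K) ⊗ₜ[k] ψ a from rfl] at h
  refine Algebra.TensorProduct.includeRight_injective (A := K) (algebraMap k K).injective (h.trans ?_)
  rw [Algebra.TensorProduct.includeRight_apply, Algebra.algebraMap_eq_smul_one,
    Algebra.algebraMap_eq_smul_one, TensorProduct.tmul_smul, ← Algebra.TensorProduct.one_def]
  simp [TensorProduct.counit_tmul, Algebra.algebraMap_eq_smul_one]

end Groth.Agent.S2966
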