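import Groth.Statements.S9405
import Groth.Agent.L05.Hensel.Product
import Mathlib.RingTheory.AdicCompletion.AsTensorProduct
import Mathlib.RingTheory.AdicCompletion.Completeness
import Mathlib.RingTheory.Spectrum.Maximal.Localization

set_option autoImplicit false
universe u
open CAlg

namespace Groth.Agent.S9405

open scoped TensorProduct

/-- Finite modules over complete Noetherian rings are complete. -/
theorem isAdicComplete_of_finite {R : Type u} [CommRing R] [IsNoetherianRing R] (I : Ideal R)
    [IsAdicComplete I R] (M : Type u) [AddCommGroup M] [Module R M] [Module.Finite R M] :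
    IsAdicComplete I M := by
  rw [← AdicCompletion.of_bijective_iff]
  have h : ∀ m : M, AdicCompletion.of I M m =
      AdicCompletion.ofTensorProduct I M ((LinearEquiv.rTensor M (AdicCompletion.ofLinearEquiv I R))
        ((TensorProduct.lid R M).symm m)) := fun m => by
    simp [show AdicCompletion.of I R 1 = 1 from rfl]
  rw [show (AdicCompletion.of I M : M → AdicCompletion I M) = _ from funext h]
  exact (AdicCompletion.ofTensorProduct_bijective_of_finite_of_isNoetherian I M).comp
    ((LinearEquiv.rTensor M (AdicCompletion.ofLinearEquiv I R)).bijective.comp (TensorProduct.lid R M).symm.bijective)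

/-- Equivalent ideals give the same completeness. -/
theorem isAdicComplete_of_pow_le {R : Type*} [CommRing R] {I J : Ideal R} [hJ : IsAdicComplete J R]
    (hJI : J ≤ I) {N : ℕ} (hN : I ^ N ≤ J) : IsAdicComplete I R := by
  have hN' : ∀ m, I ^ ((N + 1) * m) ≤ J ^ m := fun m => by
    rw [pow_mul]; exact pow_le_pow_left' ((Ideal.pow_le_pow_right (Nat.le_succ N)).trans hN) m
  refine { haus' := fun x hx => ?_, prec' := fun f hf => ?_ }
  · refine hJ.haus x fun m => ?_
    have := hx ((N + 1) * m)
    rw [SModEq.sub_mem, smul_eq_mul, Ideal.mul_top] at this ⊢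
    exact hN' m this
  · obtain ⟨L, hL⟩ := hJ.prec' (fun m => f ((N + 1) * m)) (fun {m m'} hmm => by
      have := hf (Nat.mul_le_mul_left (N + 1) hmm)
      rw [SModEq.sub_mem, smul_eq_mul, Ideal.mul_top] at this ⊢
      exact hN' m this)
    refine ⟨L, fun m => ?_⟩
    have h1 := hf (Nat.le_mul_of_pos_left m (Nat.succ_pos N))
    have h2 := hL m
    rw [SModEq.sub_mem, smul_eq_mul, Ideal.mul_top] at h1 h2 ⊢
    have := add_mem h1 (Ideal.pow_right_mono hJI m h2)
    simpa using this

end Groth.Agent.S9405


namespace Groth.Agent.S9405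

/-- A module-finite algebra S over a complete Noetherian local ring R is a finite product of complete
Noetherian local rings; precisely, S has finitely many maximal ideals, S maps bijectively onto the
product of its localizations at them, and each of these localizations is Noetherian and complete for
its maximal ideal. -/
theorem result (R : Type u) [CommRing R]
    [IsLocalRing R] [IsNoetherianRing R] [IsAdicComplete (IsLocalRing.maximalIdeal R) R]
    (S : Type u) [CommRing S] [Algebra R S] [Module.Finite R S] :
    Finite (MaximalSpectrum S) ∧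
      Function.Bijective
        (algebraMap S ((m : MaximalSpectrum S) → Localization.AtPrime m.asIdeal)) ∧
      ∀ m : MaximalSpectrum S, IsNoetherianRing (Localization.AtPrime m.asIdeal) ∧
        IsAdicComplete (IsLocalRing.maximalIdeal (Localization.AtPrime m.asIdeal))
          (Localization.AtPrime m.asIdeal) := by
  classical
  have : HenselianLocalRing R := Groth.L05.henselianLocalRing_of_henselianRing
  obtain ⟨ι, _, e, he, hloc⟩ := Groth.L05.exists_idem_local_of_finite (A := R) S
  have := hloc
  have hB : ∀ i, ∃ m : Ideal S, m.IsMaximal ∧ 1 - e i ∈ m ∧ ∀ m' : Ideal S, m'.IsMaximal → 1 - e i ∈ m' → m' = m := by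
    intro i
    refine ⟨(IsLocalRing.maximalIdeal _).comap (Ideal.Quotient.mk (Ideal.span {1 - e i})),
      Ideal.comap_isMaximal_of_surjective _ Ideal.Quotient.mk_surjective, ?_, fun m' hm' hmem => ?_⟩
    · rw [Ideal.mem_comap, Ideal.Quotient.eq_zero_iff_mem.2 (Ideal.mem_span_singleton_self _)]
      exact zero_mem _
    · refine hm'.eq_of_le (Ideal.comap_ne_top _ (IsLocalRing.maximalIdeal.isMaximal _).ne_top) ?_
      have hker : RingHom.ker (Ideal.Quotient.mk (Ideal.span {1 - e i})) ≤ m' := by
        rw [Ideal.mk_ker, Ideal.span_le]; simpa using hmem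
      rw [← Ideal.map_le_iff_le_comap]
      refine IsLocalRing.le_maximalIdeal fun htop => hm'.ne_top ?_
      have := congrArg (Ideal.comap (Ideal.Quotient.mk (Ideal.span {1 - e i}))) htop
      rwa [Ideal.comap_map_of_surjective _ Ideal.Quotient.mk_surjective, Ideal.comap_top,
        ← RingHom.ker_eq_comap_bot, sup_eq_left.2 hker] at this
  choose m hm he1 huniq using hB
  have hall : ∀ M : MaximalSpectrum S, ∃ i, e i ∉ M.asIdeal ∧ M.asIdeal = m i := by
    intro M
    obtain ⟨i, hi⟩ : ∃ i, e i ∉ M.asIdeal := by
      by_contra h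
      simp only [not_exists, not_not] at h
      exact M.isMaximal.ne_top ((Ideal.eq_top_iff_one _).2 (he.complete ▸ Ideal.sum_mem _ fun i _ => h i))
    refine ⟨i, hi, huniq i _ M.isMaximal ?_⟩
    refine (M.isMaximal.isPrime.mem_or_mem (x := e i) ?_).resolve_left hi
    rw [mul_sub, mul_one, (he.idem i).eq, sub_self]
    exact zero_mem _
  choose idx hidx hmidx using hall
  have hfin : Finite (MaximalSpectrum S) :=
    Finite.of_injective idx fun M M' h => MaximalSpectrum.ext ((hmidx M).trans (h ▸ (hmidx M').symm))
  have hne : ∀ i, e i ∉ m i := fun i h => (hm i).ne_top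
    ((Ideal.eq_top_iff_one _).2 (by simpa using add_mem h (he1 i)))
  have hunit : ∀ i (s : S), s ∉ m i → ∃ t, e i * (s * t) = e i := by
    intro i s hs
    have hu : IsUnit (Ideal.Quotient.mk (Ideal.span {1 - e i}) s) := by
      by_contra hnu
      apply hs
      rw [← huniq i _ (Ideal.comap_isMaximal_of_surjective (Ideal.Quotient.mk (Ideal.span {1 - e i})) Ideal.Quotient.mk_surjective
        (K := IsLocalRing.maximalIdeal _)) (by rw [Ideal.mem_comap, Ideal.Quotient.eq_zero_iff_mem.2 (Ideal.mem_span_singleton_self _)]; exact zero_mem _)]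
      exact hnu
    obtain ⟨u, hu⟩ := hu.exists_right_inv
    obtain ⟨t, rfl⟩ := Ideal.Quotient.mk_surjective u
    rw [← map_mul, ← map_one (Ideal.Quotient.mk _), Ideal.Quotient.eq, Ideal.mem_span_singleton] at hu
    obtain ⟨c, hc⟩ := hu
    refine ⟨t, ?_⟩
    have h0 := (he.idem i).eq
    linear_combination (e i) * hc - c * h0
  have hsurj : ∀ M : MaximalSpectrum S, Function.Surjective (algebraMap S (Localization.AtPrime M.asIdeal)) := by
    intro M y
    obtain ⟨x, s, rfl⟩ := IsLocalization.exists_mk'_eq M.asIdeal.primeCompl y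
    obtain ⟨t, ht⟩ := hunit (idx M) s (hmidx M ▸ s.2)
    refine ⟨x * t, (IsLocalization.mk'_eq_iff_eq_mul.2 ?_).symm⟩
    rw [← map_mul]
    refine (IsLocalization.eq_iff_exists M.asIdeal.primeCompl _).2 ⟨⟨e (idx M), hidx M⟩, ?_⟩
    linear_combination -x * ht
  refine ⟨hfin, ⟨?_, fun y => ?_⟩, fun M => ?_⟩
  · rw [injective_iff_map_eq_zero]
    intro x hx
    rw [← mul_one x, ← he.complete, Finset.mul_sum]
    refine Finset.sum_eq_zero fun i _ => ?_
    have h := congrFun hx ⟨m i, hm i⟩
    rw [Pi.algebraMap_apply, Pi.zero_apply, IsLocalization.map_eq_zero_iff (m i).primeCompl] at h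
    obtain ⟨s, hs⟩ := h
    obtain ⟨t, ht⟩ := hunit i s s.2
    linear_combination -x * ht + e i * t * hs
  · choose z hz using fun M => hsurj M (y M)
    let M' : ι → MaximalSpectrum S := fun i => ⟨m i, hm i⟩
    refine ⟨∑ i, e i * z (M' i), funext fun M => ?_⟩
    rw [Pi.algebraMap_apply, map_sum, Finset.sum_eq_single (idx M)]
    · have h : M' (idx M) = M := MaximalSpectrum.ext (hmidx M).symm
      rw [h, ← hz M, map_mul]
      have : algebraMap S (Localization.AtPrime M.asIdeal) (e (idx M)) = 1 := by
        rw [← map_one (algebraMap S (Localization.AtPrime M.asIdeal))]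
        refine (IsLocalization.eq_iff_exists M.asIdeal.primeCompl _).2 ⟨⟨e (idx M), hidx M⟩, ?_⟩
        simp [(he.idem (idx M)).eq]
      rw [this, one_mul]
    · intro i _ hi
      rw [map_mul, (IsLocalization.map_eq_zero_iff M.asIdeal.primeCompl _ (e i)).2 ⟨⟨e (idx M), hidx M⟩, he.ortho (Ne.symm hi)⟩, zero_mul]
    · simp
  · have : IsNoetherianRing S := IsNoetherianRing.of_finite R S
    refine ⟨inferInstance, ?_⟩
    have : Module.Finite R (Localization.AtPrime M.asIdeal) :=
      Module.Finite.of_surjective (IsScalarTower.toAlgHom R S (Localization.AtPrime M.asIdeal)).toLinearMap (hsurj M)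
    have h1 := isAdicComplete_of_finite (IsLocalRing.maximalIdeal R) (Localization.AtPrime M.asIdeal)
    have : IsAdicComplete ((IsLocalRing.maximalIdeal R).map (algebraMap R (Localization.AtPrime M.asIdeal))) (Localization.AtPrime M.asIdeal) :=
      (IsAdicComplete.map_algebraMap_iff _ _).2 h1
    have hrad : IsLocalRing.maximalIdeal (Localization.AtPrime M.asIdeal) ≤
        ((IsLocalRing.maximalIdeal R).map (algebraMap R (Localization.AtPrime M.asIdeal))).radical := by
      rw [Ideal.radical_eq_sInf, le_sInf_iff]
      rintro P ⟨hP, hPp⟩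
      have hPmax : P.IsMaximal := by
        refine Ideal.isMaximal_of_isIntegral_of_isMaximal_comap (R := R) P ?_
        exact ((IsLocalRing.maximalIdeal.isMaximal R).eq_of_le (Ideal.comap_ne_top _ hPp.ne_top)
          (Ideal.map_le_iff_le_comap.mp hP)) ▸ IsLocalRing.maximalIdeal.isMaximal R
      exact (IsLocalRing.eq_maximalIdeal hPmax).ge
    obtain ⟨N, hN⟩ := Ideal.exists_pow_le_of_le_radical_of_fg hrad (IsNoetherian.noetherian _)
    refine isAdicComplete_of_pow_le (J := (IsLocalRing.maximalIdeal R).map (algebraMap R (Localization.AtPrime M.asIdeal))) ?_ hN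
    refine IsLocalRing.le_maximalIdeal fun h => ?_
    have hle : (IsLocalRing.maximalIdeal R).map (algebraMap R (Localization.AtPrime M.asIdeal)) ≤
        Ideal.jacobson ⊥ := IsAdicComplete.le_jacobson_bot _
    rw [h, IsLocalRing.jacobson_eq_maximalIdeal _ bot_ne_top, top_le_iff] at hle
    exact (IsLocalRing.maximalIdeal.isMaximal _).ne_top hle

end Groth.Agent.S9405
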