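import Groth.Statements.S0568
import Groth.Agent.L01.NagataComplete
import Groth.Agent.S0581

set_option autoImplicit false
universe u
open CAlg

namespace Groth.Agent.S0568

/-- A Noetherian local ring which is complete with respect to its maximal ideal is a Nagata ring. -/
theorem result (R : Type u) [CommRing R] [IsLocalRing R]
    [IsNoetherianRing R] [IsAdicComplete (IsLocalRing.maximalIdeal R) R] : CAlg.IsNagata R := by
  refine ⟨inferInstance, fun p _ => ?_⟩
  haveI : IsLocalRing (R ⧸ p) := IsLocalRing.of_surjective' _ Ideal.Quotient.mk_surjective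
  haveI := Groth.L01.NagataComplete.isAdicComplete_quotient p
  obtain ⟨Λ, _, n, f, hΛ, hinj, hfin, -⟩ := Groth.Agent.S0581.result (R ⧸ p)
  exact Groth.L01.NagataComplete.isN2_complete_local_domain (R ⧸ p) f hΛ hinj hfin

end Groth.Agent.S0568
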