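import Groth.Statements.S0395
import Groth.Agent.L20.UnivInj

set_option autoImplicit false
universe u
open FlatMor

namespace Groth.Agent.S0395

open TensorProduct nonZeroDivisors in
/-- For a flat local homomorphism R → S of Noetherian local rings and an element f of S that is regular
on the fibre ring S/mS, the quotient of S by f is again R-flat and f is regular on S. -/
theorem result {R S : Type u} [CommRing R] [CommRing S] [IsLocalRing R] [IsLocalRing S] [IsNoetherianRing R] [IsNoetherianRing S] [Algebra R S] [IsLocalHom (algebraMap R S)] [Module.Flat R S]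
    (f : S) (hf : Ideal.Quotient.mk ((IsLocalRing.maximalIdeal R).map (algebraMap R S)) f ∈ nonZeroDivisors (S ⧸ ((IsLocalRing.maximalIdeal R).map (algebraMap R S)))) :
    Module.Flat R (S ⧸ Ideal.span {f}) ∧ f ∈ nonZeroDivisors S := by
  set J := (IsLocalRing.maximalIdeal R).map (algebraMap R S) with hJ
  let u : S →ₗ[R] S := LinearMap.mulLeft R f
  have key : IsLocalRing.maximalIdeal R • (⊤ : Submodule R S) = J.restrictScalars R :=
    Ideal.smul_top_eq_map _
  have h : Function.Injective (u.lTensor (IsLocalRing.ResidueField R)) := by
    rw [Groth.L20.injective_lTensor_residueField_iff, key]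
    intro x hx
    have hx' : f * x ∈ J := hx
    rw [Submodule.restrictScalars_mem]
    rw [← Ideal.Quotient.eq_zero_iff_mem] at hx' ⊢
    rw [map_mul] at hx'
    exact mem_nonZeroDivisors_iff_right.mp hf _ (by rw [mul_comm, hx'])
  have hu := Groth.L20.lTensor_injective_of_residueField S u h
  refine ⟨?_, ?_⟩
  · have hfl := Groth.L20.flat_quotient_range_of_lTensor_injective u fun I => hu (R ⧸ I)
    have hr : LinearMap.range u = (Ideal.span {f}).restrictScalars R := by
      ext x
      simp [u, Ideal.mem_span_singleton', eq_comm, mul_comm]
    rw [hr] at hfl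
    exact Module.Flat.of_linearEquiv (Submodule.Quotient.restrictScalarsEquiv R (Ideal.span {f})).symm
  · have hinj := Groth.L20.injective_of_lTensor_self u (hu R)
    rw [mem_nonZeroDivisors_iff_right]
    intro x hx
    exact hinj (by simpa [u, mul_comm] using hx)

end Groth.Agent.S0395
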