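import Groth.Statements.S5423
import Groth.Agent.L08.FlagGroup
import Groth.Agent.L08.KrullHopf
import Mathlib.RepresentationTheory.AlgebraRepresentation.Basic
import Mathlib.RingTheory.SimpleModule.Basic
import Mathlib.LinearAlgebra.Trace

set_option autoImplicit false
universe u
open TensorProduct
open SGA3t2b

namespace Groth.Agent.S5423

open TensorProduct Groth.L08 WithConv

/-- Kolchin over an algebraically closed field, for a spanning monoid of unipotents in an algebra. -/
theorem exists_fixed_aux {K : Type*} [Field K] [IsAlgClosed K] {Γ : Type*} [Monoid Γ]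
    {R : Type*} [Ring R] [Algebra K R] (ι : Γ →* R) (hspan : Submodule.span K (Set.range ι) = ⊤)
    {W : Type*} [AddCommGroup W] [Module K W] [Module R W] [IsScalarTower K R W]
    [FiniteDimensional K W] [Nontrivial W]
    (hnil : ∀ g, IsNilpotent (Algebra.lsmul K K W (ι g) - 1)) :
    ∃ x : W, x ≠ 0 ∧ ∀ g, ι g • x = x := by
  classical
  haveI : IsArtinian R W := isArtinian_of_tower K inferInstance
  obtain ⟨S, hS⟩ := IsAtomic.exists_atom (Submodule R W)
  haveI : IsSimpleModule R S := isSimpleModule_iff_isAtom.2 hS
  haveI : FiniteDimensional K S := Module.Finite.of_injective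
    (S.subtype.restrictScalars K) Subtype.val_injective
  let act : R →ₐ[K] Module.End K S := Algebra.lsmul K K S
  have hsurj : ∀ f : Module.End K S, ∃ a, act a = f := by
    intro f
    let f' : Module.End (Module.End R S) S :=
      { toFun := f
        map_add' := map_add f
        map_smul' := fun e x => by
          obtain ⟨c, rfl⟩ := (IsSimpleModule.algebraMap_end_bijective_of_isAlgClosed
            (A := R) (V := S) K).2 e
          simp }
    let b := Module.finBasis K S
    obtain ⟨a, ha⟩ := jacobson_density f' (Finset.univ.image b)
    exact ⟨a, b.ext fun i => (ha _ (Finset.mem_image_of_mem _ (Finset.mem_univ i))).symm⟩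
  have hn : ∀ h : Γ, LinearMap.trace K S (act (ι h) - 1) = 0 := by
    intro h
    refine IsNilpotent.eq_zero (LinearMap.isNilpotent_trace_of_isNilpotent ?_)
    obtain ⟨n, hn⟩ := hnil h
    refine ⟨n, LinearMap.ext fun x => Subtype.ext ?_⟩
    have key : ∀ (n : ℕ) (x : S), ((((act (ι h) - 1) ^ n) x : S) : W) =
        ((Algebra.lsmul K K W (ι h) - 1) ^ n) (x : W) := by
      intro n
      induction n with
      | zero => simp
      | succ n ih =>
        intro x
        rw [pow_succ, pow_succ, Module.End.mul_apply, Module.End.mul_apply, ih]
        simp [act]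
    rw [key, hn]
    rfl
  have hone : ∀ g : Γ, act (ι g) = 1 := by
    intro g
    have hz : ∀ a, LinearMap.trace K S ((act (ι g) - 1) * act a) = 0 := by
      intro a
      have ha : a ∈ Submodule.span K (Set.range ι) := hspan ▸ Submodule.mem_top
      induction ha using Submodule.span_induction with
      | zero => simp
      | add p q _ _ hp hq => rw [map_add, mul_add, map_add, hp, hq, add_zero]
      | smul r p _ hp => rw [map_smul, mul_smul_comm, map_smul, hp, smul_zero]
      | mem p hp =>
        obtain ⟨h, rfl⟩ := hp
        rw [show (act (ι g) - 1) * act (ι h) = (act (ι (g * h)) - 1) - (act (ι h) - 1) by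
            rw [sub_mul, one_mul, ← map_mul, ← map_mul, sub_sub_sub_cancel_right],
          map_sub, hn, hn, sub_zero]
    refine sub_eq_zero.1 (LinearMap.ext fun x => (Module.forall_dual_apply_eq_zero_iff K _).1 fun θ => ?_)
    obtain ⟨a, ha⟩ := hsurj (θ.smulRight x)
    have := hz a
    rwa [ha, show (act (ι g) - 1) * θ.smulRight x =
        dualTensorHom K S S (θ ⊗ₜ[K] (act (ι g) - 1) x) from
      LinearMap.ext fun y => by simp [smul_sub],
      LinearMap.trace_eq_contract_apply, contractLeft_apply] at this
  obtain ⟨x, hx, hx0⟩ := Submodule.exists_mem_ne_zero_of_ne_bot hS.1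
  refine ⟨x, hx0, fun g => ?_⟩
  have := congrArg (fun e : Module.End K S => ((e ⟨x, hx⟩ : S) : W)) (hone g)
  simpa [act] using this



/-- Let k be an algebraically closed field and A a reduced finitely generated commutative Hopf algebra
over k (a smooth affine algebraic k-group G). Then G is unipotent (every non-zero finite-dimensional
representation has a non-zero fixed vector) if and only if every element of G(k) is unipotent, i.e.
every k-point g : A → k acts on every finite-dimensional comodule V by an endomorphism g_V with g_V
− 1 nilpotent. -/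
theorem result (k : Type u) [Field k] [IsAlgClosed k] (A : Type u) [CommRing A] [HopfAlgebra k A] [Algebra.FiniteType k A]
    [IsReduced A] :
    HopfRep.IsUnipotent k A ↔
      ∀ (g : A →ₐ[k] k) (V : Type u) [AddCommGroup V] [Module k V] [HopfRep.Comod k A V],
        Module.Finite k V → IsNilpotent (HopfRep.Comod.act k A V g - LinearMap.id) := by
  constructor
  · intro hU g V _ _ _ hfin
    obtain ⟨F, -, h0, htop, -, hs⟩ := exists_flag_of_isUnipotent hU V
    refine ⟨Module.finrank k V, LinearMap.ext fun v => ?_⟩
    have key : ∀ (j : ℕ) (v : V), v ∈ F j →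
        (((HopfRep.Comod.act k A V g - LinearMap.id) ^ j : Module.End k V)) v = 0 := by
      intro j
      induction j with
      | zero =>
        intro v hv
        rw [h0, Submodule.mem_bot] at hv
        simp [hv]
      | succ j ih =>
        intro v hv
        rw [pow_succ, Module.End.mul_apply]
        refine ih _ ?_
        obtain ⟨c, rfl, hst⟩ := hs j
        have := hst v hv g.toLinearMap
        rw [AlgHom.toLinearMap_apply, map_one, one_smul] at this
        exact this
    exact key _ v (htop ▸ Submodule.mem_top)
  · intro h V _ _ _ hfin hnt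
    let R : Subalgebra k (Module.End k V) := Algebra.adjoin k (Set.range (ptAct (A := A) V))
    let ι : WithConv (A →ₐ[k] k) →* R :=
      { toFun := fun g => ⟨ptAct (A := A) V g, Algebra.subset_adjoin ⟨g, rfl⟩⟩
        map_one' := Subtype.ext (map_one _)
        map_mul' := fun a b => Subtype.ext (map_mul _ a b) }
    have hspan : Submodule.span k (Set.range ι) = ⊤ := by
      rw [eq_top_iff]
      rintro ⟨r, hr⟩ -
      have h1 : r ∈ Submodule.span k (Set.range (ptAct (A := A) V)) := by
        have h2 := hr
        rw [← Subalgebra.mem_toSubmodule, Algebra.adjoin_eq_span] at h2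
        rwa [← MonoidHom.coe_mrange, Submonoid.closure_eq, MonoidHom.coe_mrange] at h2
      have h3 : Submodule.map R.val.toLinearMap (Submodule.span k (Set.range ι)) =
          Submodule.span k (Set.range (ptAct (A := A) V)) := by
        rw [Submodule.map_span, ← Set.range_comp]
        rfl
      rw [← h3] at h1
      obtain ⟨y, hy, hyr⟩ := h1
      rwa [show (⟨r, hr⟩ : R) = y from Subtype.ext hyr.symm]
    obtain ⟨x, hx0, hx⟩ := exists_fixed_aux (W := V) ι hspan fun g => h g.ofConv V hfin
    refine (Submodule.ne_bot_iff _).2 ⟨x, ?_, hx0⟩
    rw [mem_fixedPts_iff_fAct]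
    have hcf : ∀ θ : Module.Dual k V, cf (A := A) θ x = algebraMap k A (θ x) := by
      intro θ
      rw [← sub_eq_zero]
      by_contra hne
      have hnot : ∃ P : Ideal A, P.IsPrime ∧ cf (A := A) θ x - algebraMap k A (θ x) ∉ P := by
        by_contra hall
        push Not at hall
        refine hne (IsReduced.eq_zero _ ?_)
        rw [← mem_nilradical, nilradical_eq_sInf, Submodule.mem_sInf]
        exact hall
      obtain ⟨P, hP, haP⟩ := hnot
      obtain ⟨χ, -, hχ⟩ := KrullHopf.exists_point_notMem k P haP
      refine hχ ?_
      rw [map_sub, AlgHom.commutes]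
      show χ.toLinearMap (cf θ x) - algebraMap k k (θ x) = 0
      rw [apply_cf]
      have h4 : fAct V χ.toLinearMap x = x := hx (toConv χ)
      rw [h4]
      exact sub_self _
    intro φ
    rw [← sub_eq_zero, ← Module.forall_dual_apply_eq_zero_iff k]
    intro θ
    rw [map_sub, ← apply_cf, hcf, Algebra.algebraMap_eq_smul_one, map_smul, map_smul, smul_eq_mul,
      smul_eq_mul, mul_comm, sub_self]


end Groth.Agent.S5423
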