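import Groth.Statements.S16077
import Mathlib.RingTheory.MvPolynomial.Ideal
import Mathlib.RingTheory.MvPolynomial.Basic
import Mathlib.RingTheory.Ideal.Quotient.Operations
import Mathlib.Algebra.CharP.Lemmas
import Mathlib.LinearAlgebra.Dimension.Constructions
import Mathlib.LinearAlgebra.Isomorphisms
import Mathlib.RingTheory.Nilpotent.Basic
import Mathlib.Logic.Equiv.Basic

set_option autoImplicit false
universe u
open CAlg

namespace Groth.Agent.S16077

open MvPolynomial in
theorem finrank_trunc (k : Type u) [Field k] {n : ℕ} (a : Fin n → ℕ) :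
    Module.finrank k (MvPolynomial (Fin n) k ⧸ Ideal.span (Set.range fun i : Fin n =>
      (MvPolynomial.X i : MvPolynomial (Fin n) k) ^ a i)) = ∏ i, a i := by
  classical
  set I := Ideal.span (Set.range fun i : Fin n => (MvPolynomial.X i : MvPolynomial (Fin n) k) ^ a i) with hI
  have hI' : I = Ideal.span ((fun d => monomial d (1 : k)) '' Set.range fun i => Finsupp.single i (a i)) := by
    rw [hI, ← Set.range_comp]
    simp [Function.comp_def, MvPolynomial.X_pow_eq_monomial]
  let E : ((i : Fin n) → Fin (a i)) → (Fin n →₀ ℕ) := fun e => Finsupp.equivFunOnFinite.symm fun i => (e i : ℕ)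
  have hE : Function.Injective E := fun e e' h => funext fun i => Fin.ext (by simpa [E] using DFunLike.congr_fun h i)
  let L : MvPolynomial (Fin n) k →ₗ[k] (((i : Fin n) → Fin (a i)) → k) :=
    LinearMap.pi fun e => MvPolynomial.lcoeff k (E e)
  have hsurj : Function.Surjective L := fun g => ⟨∑ e, monomial (E e) (g e), funext fun e => by
    simp [L, MvPolynomial.coeff_sum, MvPolynomial.coeff_monomial, hE.eq_iff]⟩
  have hker : LinearMap.ker L = I.restrictScalars k := by
    ext P
    rw [Submodule.restrictScalars_mem, hI', MvPolynomial.mem_ideal_span_monomial_image, LinearMap.mem_ker]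
    constructor
    · intro h d hd
      by_contra hc
      simp only [Set.mem_range, exists_exists_eq_and, Finsupp.single_le_iff] at hc
      push Not at hc
      have := congrFun h (fun i => ⟨d i, hc i⟩)
      simp only [L, LinearMap.pi_apply, MvPolynomial.lcoeff_apply, Pi.zero_apply] at this
      rw [show E (fun i => ⟨d i, hc i⟩) = d by ext i; simp [E]] at this
      exact MvPolynomial.mem_support_iff.mp hd this
    · intro h
      funext e
      by_contra hne
      obtain ⟨_, ⟨i, rfl⟩, hle⟩ := h (E e) (MvPolynomial.mem_support_iff.mpr (by simpa [L] using hne))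
      have := Finsupp.single_le_iff.mp hle
      simp [E] at this
      have := (e i).isLt
      omega
  rw [← (Submodule.Quotient.restrictScalarsEquiv k I).finrank_eq, ← hker,
    (LinearMap.quotKerEquivOfSurjective L hsurj).finrank_eq, Module.finrank_fintype_fun_eq_card,
    Fintype.card_pi]
  simp

/-- The ideal generated by the `N`-th powers of nilpotents. -/
def powIdeal (A : Type u) [CommRing A] (N : ℕ) : Ideal A := Ideal.span ((· ^ N) '' {x | IsNilpotent x})

theorem map_powIdeal {k A B : Type u} [CommRing k] [CommRing A] [CommRing B] [Algebra k A] [Algebra k B]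
    (φ : A ≃ₐ[k] B) (N : ℕ) : (powIdeal A N).map φ.toRingHom = powIdeal B N := by
  rw [powIdeal, Ideal.map_span, powIdeal]
  congr 1
  ext b
  simp only [Set.mem_image, Set.mem_ofPred_eq, exists_exists_and_eq_and]
  refine ⟨fun ⟨x, hx, h⟩ => ⟨φ x, hx.map φ, by simpa using h⟩, fun ⟨x, hx, h⟩ => ⟨φ.symm x, hx.map φ.symm, ?_⟩⟩
  simp [← h]

theorem finrank_quotient_powIdeal (p : ℕ) [Fact p.Prime] (k : Type u) [Field k] [CharP k p] {n : ℕ}
    (e : Fin n → ℕ) (j : ℕ) :
    Module.finrank k ((MvPolynomial (Fin n) k ⧸ Ideal.span (Set.range fun i : Fin n => (MvPolynomial.X i : MvPolynomial (Fin n) k) ^ p ^ e i)) ⧸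
      powIdeal (MvPolynomial (Fin n) k ⧸ Ideal.span (Set.range fun i : Fin n => (MvPolynomial.X i : MvPolynomial (Fin n) k) ^ p ^ e i)) (p ^ j)) =
      p ^ ∑ i, min (e i) j := by
  classical
  have hp : 1 < p := (Fact.out : p.Prime).one_lt
  set I := Ideal.span (Set.range fun i : Fin n => (MvPolynomial.X i : MvPolynomial (Fin n) k) ^ p ^ e i) with hI
  let K := Ideal.span (Set.range fun i : Fin n => (MvPolynomial.X i : MvPolynomial (Fin n) k) ^ p ^ j)
  have hnil : ∀ i, IsNilpotent (Ideal.Quotient.mk I (MvPolynomial.X i)) := fun i =>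
    ⟨p ^ e i, by rw [← map_pow, Ideal.Quotient.eq_zero_iff_mem]; exact Ideal.subset_span ⟨i, rfl⟩⟩
  have hJ : powIdeal (MvPolynomial (Fin n) k ⧸ I) (p ^ j) = K.map (Ideal.Quotient.mk I) := by
    refine le_antisymm (Ideal.span_le.mpr ?_) ?_
    · rintro _ ⟨x, hx, rfl⟩
      obtain ⟨P, rfl⟩ := Ideal.Quotient.mk_surjective x
      have hI0 : I ≤ RingHom.ker (MvPolynomial.constantCoeff : MvPolynomial (Fin n) k →+* k) := by
        refine Ideal.span_le.mpr ?_
        rintro _ ⟨i, rfl⟩
        have : p ^ e i ≠ 0 := pow_ne_zero _ (by omega)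
        simp [Nat.ne_of_gt (lt_trans Nat.zero_lt_one hp)]
      have hP : MvPolynomial.constantCoeff P = 0 := by
        have h := (hx.map (Ideal.Quotient.lift I MvPolynomial.constantCoeff fun a ha => hI0 ha)).eq_zero
        exact h
      have hmem : P ∈ Ideal.span (Set.range (MvPolynomial.X : Fin n → MvPolynomial (Fin n) k)) := by
        rw [← Set.image_univ, MvPolynomial.mem_ideal_span_X_image]
        intro d hd
        by_contra hc
        push Not at hc
        have : d = 0 := Finsupp.ext fun i => hc i (Set.mem_univ i)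
        subst this
        exact MvPolynomial.mem_support_iff.mp hd (by simpa [MvPolynomial.constantCoeff_eq] using hP)
      obtain ⟨c, rfl⟩ := Ideal.mem_span_range_iff_exists_fun.mp hmem
      change (Ideal.Quotient.mk I _) ^ p ^ j ∈ _
      rw [← map_pow, sum_pow_char_pow]
      refine Ideal.mem_map_of_mem _ (Submodule.sum_mem _ fun i _ => ?_)
      rw [mul_pow]
      exact Ideal.mul_mem_left _ _ (Ideal.subset_span ⟨i, rfl⟩)
    · rw [Ideal.map_span, Ideal.span_le]
      rintro _ ⟨_, ⟨i, rfl⟩, rfl⟩
      exact Ideal.subset_span ⟨_, hnil i, (map_pow _ _ _).symm⟩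
  have hsup : I ⊔ K = Ideal.span (Set.range fun i : Fin n => (MvPolynomial.X i : MvPolynomial (Fin n) k) ^ p ^ min (e i) j) := by
    refine le_antisymm (sup_le (Ideal.span_le.mpr ?_) (Ideal.span_le.mpr ?_)) (Ideal.span_le.mpr ?_)
    · rintro _ ⟨i, rfl⟩
      exact Ideal.mem_of_dvd _ (pow_dvd_pow _ (Nat.pow_le_pow_right (by omega) (min_le_left _ _))) (Ideal.subset_span ⟨i, rfl⟩)
    · rintro _ ⟨i, rfl⟩
      exact Ideal.mem_of_dvd _ (pow_dvd_pow _ (Nat.pow_le_pow_right (by omega) (min_le_right _ _))) (Ideal.subset_span ⟨i, rfl⟩)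
    · rintro _ ⟨i, rfl⟩
      rcases min_choice (e i) j with h | h <;> simp only [h]
      · exact Submodule.mem_sup_left (Ideal.subset_span ⟨i, rfl⟩)
      · exact Submodule.mem_sup_right (Ideal.subset_span ⟨i, rfl⟩)
  rw [hJ]
  have e1 : ((MvPolynomial (Fin n) k ⧸ I) ⧸ K.map (Ideal.Quotient.mk I)) ≃ₐ[k] (MvPolynomial (Fin n) k ⧸ (I ⊔ K)) :=
    DoubleQuot.quotQuotEquivQuotSupₐ k I K
  rw [e1.toLinearEquiv.finrank_eq, hsup, finrank_trunc, Finset.prod_pow_eq_pow_sum]

theorem card_fiber_eq {r s : ℕ} (e : Fin r → ℕ) (f : Fin s → ℕ) (he : ∀ i, 1 ≤ e i) (hf : ∀ j, 1 ≤ f j)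
    (h : ∀ j, ∑ i, min (e i) j = ∑ i, min (f i) j) (c : ℕ) :
    Fintype.card {i // e i = c} = Fintype.card {i // f i = c} := by
  classical
  have hstep : ∀ {m : ℕ} (g : Fin m → ℕ) (j : ℕ),
      ∑ i, min (g i) (j + 1) = (∑ i, min (g i) j) + (Finset.univ.filter fun i => j < g i).card := by
    intro m g j
    rw [Finset.card_filter, ← Finset.sum_add_distrib]
    refine Finset.sum_congr rfl fun i _ => ?_
    split_ifs <;> omega
  have hgt : ∀ j, (Finset.univ.filter fun i => j < e i).card = (Finset.univ.filter fun i => j < f i).card := fun j => by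
    have h1 := hstep e j
    have h2 := hstep f j
    have h3 := h j
    have h4 := h (j + 1)
    omega
  rcases Nat.eq_zero_or_pos c with rfl | hc
  · rw [Fintype.card_eq_zero_iff.mpr ⟨fun x => (by have := he x.1; have := x.2; omega : False)⟩,
      Fintype.card_eq_zero_iff.mpr ⟨fun x => (by have := hf x.1; have := x.2; omega : False)⟩]
  have hsplit : ∀ {m : ℕ} (g : Fin m → ℕ), (Finset.univ.filter fun i => c - 1 < g i).card =
      Fintype.card {i // g i = c} + (Finset.univ.filter fun i => c < g i).card := by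
    intro m g
    rw [Fintype.card_subtype, Finset.card_filter, Finset.card_filter, Finset.card_filter, ← Finset.sum_add_distrib]
    refine Finset.sum_congr rfl fun i _ => ?_
    split_ifs <;> omega
  have h1 := hsplit e
  have h2 := hsplit f
  have h3 := hgt c
  have h4 := hgt (c - 1)
  omega


/-- Let k be a perfect field of characteristic p > 0 and let e_1, …, e_r ≥ 1 and f_1, …, f_s ≥ 1 be
natural numbers. If the k-algebras k[X_1, …, X_r]/(X_i^{p^{e_i}} : 1 ≤ i ≤ r) and k[X_1, …,
X_s]/(X_j^{p^{f_j}} : 1 ≤ j ≤ s) are isomorphic, then r = s and (f_j) is a permutation of (e_i):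
there is a bijection σ between the index sets with f_{σ(i)} = e_i. Such truncated polynomial
algebras are the coordinate rings of the connected finite k-group schemes, and the row says that the
number of variables and the exponents are invariants of the group, indeed of its algebra. (Only this
invariance is stated here; the existence of such a presentation for every connected finite k-group
is a separate statement.) -/
theorem result (p : ℕ) [Fact p.Prime] (k : Type u) [Field k]
    [CharP k p] [PerfectField k] (r s : ℕ) (e : Fin r → ℕ) (f : Fin s → ℕ) (he : ∀ i, 1 ≤ e i) (hf : ∀ j, 1 ≤ f j)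
    (φ : (MvPolynomial (Fin r) k ⧸ Ideal.span (Set.range fun i : Fin r => (MvPolynomial.X i : MvPolynomial (Fin r) k) ^ p ^ e i)) ≃ₐ[k]
      (MvPolynomial (Fin s) k ⧸ Ideal.span (Set.range fun j : Fin s => (MvPolynomial.X j : MvPolynomial (Fin s) k) ^ p ^ f j))) :
    ∃ σ : Fin r ≃ Fin s, ∀ i : Fin r, f (σ i) = e i := by
  classical
  have h : ∀ j, ∑ i, min (e i) j = ∑ i, min (f i) j := fun j => by
    apply Nat.pow_right_injective (Fact.out : p.Prime).two_le
    change p ^ _ = p ^ _
    rw [← finrank_quotient_powIdeal p k e j, ← finrank_quotient_powIdeal p k f j]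
    exact (Ideal.quotientEquivAlg _ _ φ (map_powIdeal φ (p ^ j)).symm).toLinearEquiv.finrank_eq
  refine ⟨Equiv.ofFiberEquiv (f := e) (g := f) fun c => Fintype.equivOfCardEq (card_fiber_eq e f he hf h c), fun i => ?_⟩
  exact Equiv.ofFiberEquiv_map _ i

end Groth.Agent.S16077
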