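import Groth.Statements.S2049
import Groth.Agent.L09.Nagata
import Mathlib.RingTheory.EssentialFiniteness
import Mathlib.RingTheory.Localization.Finiteness
import Mathlib.RingTheory.IsTensorProduct
import Mathlib.Algebra.Module.LocalizedModule.IsLocalization

set_option autoImplicit false
universe u
open CAlg

namespace Groth.Agent.S2049

/-- Let `A` be a valuation ring, `A → B` a local homomorphism of local rings essentially of finite type,
and `M` a finite `B`-module which is flat over `A`. Then `M` is finitely presented over `B`. -/
theorem result {A B M : Type u} [CommRing A] [IsDomain A]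
    [ValuationRing A] [CommRing B] [IsLocalRing B] [Algebra A B] [IsLocalHom (algebraMap A B)]
    [Algebra.EssFiniteType A B] [AddCommGroup M] [Module B M] [Module A M] [IsScalarTower A B M]
    [Module.Finite B M] [Module.Flat A M] : Module.FinitePresentation B M := by
  classical
  let B₀ := Algebra.EssFiniteType.subalgebra A B
  let S := Algebra.EssFiniteType.submonoid A B
  obtain ⟨s, hs⟩ := Module.Finite.fg_top (R := B) (M := M)
  let M₀ : Submodule B₀ M := Submodule.span B₀ (s : Set M)
  haveI : Module.Finite B₀ M₀ := Module.Finite.span_of_finite B₀ s.finite_toSet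
  have htf : ∀ (a : A) (m : M₀), a • m = 0 → a = 0 ∨ m = 0 := fun a m h => by
    by_cases ha : a = 0
    · exact Or.inl ha
    · refine Or.inr (Subtype.ext (Module.Flat.isSMulRegular_of_isRegular (IsRegular.of_ne_zero ha) ?_))
      show a • (m : M) = a • (0 : M)
      rw [smul_zero]; exact congrArg Subtype.val h
  haveI : IsScalarTower A B₀ M := IsScalarTower.to₁₂₄ A B₀ B M
  haveI : IsScalarTower A B₀ M₀ := ⟨fun a b m => Subtype.ext (smul_assoc a b (m : M))⟩
  haveI := Groth.L09.Nagata.finitePresentation_of_torsionFree' (V := A) (B := B₀) (M := M₀) htf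
  have hu : ∀ t : S, IsUnit (algebraMap B₀ B (t : B₀)) := fun t => IsLocalization.map_units B t
  haveI : IsLocalizedModule S M₀.subtype := by
    refine ⟨fun t => ?_, fun m => ?_, fun {x y} h => ⟨1, by rw [Subtype.ext h]⟩⟩
    · rw [Module.End.isUnit_iff]
      obtain ⟨u, hu⟩ := hu t
      have e : ∀ m : M, (t : B₀) • m = (u : B) • m := fun m => by
        rw [← IsScalarTower.algebraMap_smul B (t : B₀) m, ← hu]
      refine ⟨fun m m' hm => ?_, fun m => ⟨(↑u⁻¹ : B) • m, ?_⟩⟩
      · simp only [Module.algebraMap_end_apply, e] at hm
        exact u.isUnit.smul_left_cancel.mp hm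
      · simp only [Module.algebraMap_end_apply, e, ← mul_smul, Units.mul_inv, one_smul]
    · have hm : m ∈ Submodule.span B (s : Set M) := hs ▸ Submodule.mem_top
      obtain ⟨t, ht⟩ := multiple_mem_span_of_mem_localization_span S B (s : Set M) m hm
      exact ⟨(⟨(t : B₀) • m, ht⟩, t), rfl⟩
  exact FinitePresentation.of_isBaseChange M₀.subtype
    ((isLocalizedModule_iff_isBaseChange S B M₀.subtype).mp inferInstance)

end Groth.Agent.S2049
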