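import Groth.Statements.S5784
import Groth.Agent.L06.RegularRing

set_option autoImplicit false
set_option linter.style.haveILetI false
universe u
open EGA41

namespace Groth.Agent.S5784

/-- If A is a regular ring, then the formal power series ring A[[T_1, ..., T_n]] is regular, for every
n. -/
theorem result (A : Type u) [CommRing A] [IsRegularRing A] (n : ℕ) :
    IsRegularRing (MvPowerSeries (Fin n) A) := by
  induction n with
  | zero => exact IsRegularRing.of_ringEquiv (MvPowerSeries.isEmptyEquiv (σ := Fin 0) (R := A)).toRingEquiv.symm
  | succ n ih =>
    haveI := ih
    haveI := Groth.L06.RegularRing.isRegularRing_powerSeries (MvPowerSeries (Fin n) A)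
    exact IsRegularRing.of_ringEquiv (MvPowerSeries.finSuccEquiv (R := A) (n := n)).toRingEquiv.symm

end Groth.Agent.S5784
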