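import Groth.Statements.S9319
import Groth.Agent.L03.FieldFS
import Mathlib.RingTheory.Kaehler.JacobiZariski
import Mathlib.FieldTheory.Perfect
import Mathlib.Algebra.Field.Subfield.Basic
import Mathlib.Algebra.Field.ZMod
import Mathlib.RingTheory.Flat.Basic

set_option autoImplicit false
universe u
open CAlg

namespace Groth.S9319aux
open Algebra MvPolynomial TensorProduct KaehlerDifferential

variable (k₀ K L M : Type u) [Field k₀] [Field K] [Field L] [Field M] [Algebra k₀ K] [Algebra K L]
  [Algebra k₀ L] [IsScalarTower k₀ K L] [Algebra L M] [Algebra K M] [IsScalarTower K L M]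
  [Algebra k₀ M] [IsScalarTower k₀ K M]

/-- the comparison map -/
noncomputable def incl : L ⊗[K] Ω[K⁄k₀] →ₗ[K] M ⊗[K] Ω[K⁄k₀] :=
  LinearMap.rTensor _ (IsScalarTower.toAlgHom K L M).toLinearMap

lemma δAux_natural (p : MvPolynomial L K) :
    Generators.H1Cotangent.δAux k₀ (Generators.self K M) (rename (algebraMap L M) p) =
      incl k₀ K L M (Generators.H1Cotangent.δAux k₀ (Generators.self K L) p) := by
  induction p using MvPolynomial.induction_on' with
  | monomial n r =>
    have e1 := Generators.H1Cotangent.δAux_monomial (R := k₀) (Generators.self K M) (n.mapDomain (algebraMap L M)) r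
    have e2 := Generators.H1Cotangent.δAux_monomial (R := k₀) (Generators.self K L) n r
    rw [rename_monomial]
    refine e1.trans ?_
    refine (Eq.trans ?_ (congrArg (incl k₀ K L M) e2).symm)
    have e3 : (n.mapDomain (algebraMap L M)).prod ((Generators.self K M).val · ^ ·) =
        algebraMap L M (n.prod ((Generators.self K L).val · ^ ·)) := by
      show (n.mapDomain (algebraMap L M)).prod (fun x i => x ^ i) = algebraMap L M (n.prod (fun x i => x ^ i))
      rw [Finsupp.prod_mapDomain_index (fun _ => pow_zero _) (fun _ _ _ => pow_add _ _ _), map_finsuppProd]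
      simp only [map_pow]
    rw [e3]
    rfl
  | add p q hp hq =>
    rw [map_add]
    exact (map_add _ _ _).trans ((congrArg₂ (· + ·) hp hq).trans
      ((map_add (incl k₀ K L M) _ _).symm.trans (congrArg (incl k₀ K L M) (map_add _ p q).symm)))

lemma toAlgHom_eq : (Generators.defaultHom (Generators.self K L) (Generators.self K M)).toAlgHom =
    rename (algebraMap L M) := by
  apply MvPolynomial.algHom_ext
  intro l
  rw [rename_X]
  exact Generators.Hom.toAlgHom_X _ l

lemma δ_natural (x : H1Cotangent K L) :
    H1Cotangent.δ k₀ K M (H1Cotangent.map K K L M x) = incl k₀ K L M (H1Cotangent.δ k₀ K L x) := by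
  obtain ⟨x, hx⟩ := x
  obtain ⟨⟨p, hp⟩, rfl⟩ := Extension.Cotangent.mk_surjective x
  refine Eq.trans ?_ (congrArg (incl k₀ K L M)
    (Generators.H1Cotangent.δ_eq_δAux (Generators.self K L) (Generators.self k₀ K) ⟨p, hp⟩ hx).symm)
  refine Eq.trans ?_ (δAux_natural k₀ K L M p)
  let f := Generators.defaultHom (Generators.self K L) (Generators.self K M)
  have hp' : f.toAlgHom p ∈ (Generators.self K M).ker := by
    show aeval _ (f.toAlgHom p) = 0
    have hp0 : aeval (Generators.self K L).val p = 0 := hp
    exact (Generators.Hom.algebraMap_toAlgHom f p).trans (by show algebraMap L M (aeval _ p) = 0; rw [hp0, map_zero])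
  have hval : (H1Cotangent.map K K L M ⟨Extension.Cotangent.mk ⟨p, hp⟩, hx⟩).1 = Extension.Cotangent.mk ⟨f.toAlgHom p, hp'⟩ :=
    (Extension.H1Cotangent.map_apply_coe _ _).trans (Extension.Cotangent.map_mk _ _)
  have hker := (H1Cotangent.map K K L M ⟨Extension.Cotangent.mk ⟨p, hp⟩, hx⟩).2
  rw [hval] at hker
  rw [← toAlgHom_eq]
  exact (congrArg (H1Cotangent.δ k₀ K M) (Subtype.ext hval)).trans
    (Generators.H1Cotangent.δ_eq_δAux (Generators.self K M) (Generators.self k₀ K) ⟨_, hp'⟩ hker)

lemma δ_injective [Algebra.FormallySmooth k₀ L] : Function.Injective (H1Cotangent.δ k₀ K L) := by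
  rw [injective_iff_map_eq_zero]
  intro x hx
  obtain ⟨y, rfl⟩ := ((H1Cotangent.exact_map_δ k₀ K L) x).1 hx
  rw [Subsingleton.elim y 0, map_zero]

theorem main [Algebra.FormallySmooth k₀ L] :
    Function.Injective ((H1Cotangent.map K K L M).liftBaseChange M) := by
  have key : ∀ z, H1Cotangent.δ k₀ K M ((H1Cotangent.map K K L M).liftBaseChange M z) =
      TensorProduct.AlgebraTensorModule.cancelBaseChange K L M M (Ω[K⁄k₀])
        (LinearMap.lTensor M (H1Cotangent.δ k₀ K L) z) := by
    intro z
    induction z using TensorProduct.induction_on with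
    | zero => simp
    | tmul m x =>
      rw [LinearMap.liftBaseChange_tmul, map_smul, δ_natural, LinearMap.lTensor_tmul]
      induction H1Cotangent.δ k₀ K L x using TensorProduct.induction_on with
      | zero => simp
      | tmul a b =>
        rw [TensorProduct.AlgebraTensorModule.cancelBaseChange_tmul]
        show m • ((algebraMap L M a) ⊗ₜ[K] b) = _
        rw [TensorProduct.smul_tmul', smul_eq_mul, mul_comm, ← Algebra.smul_def]
      | add a b ha hb => rw [map_add, smul_add, ha, hb, TensorProduct.tmul_add, map_add]
    | add a b ha hb => simp only [map_add, ha, hb]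
  intro a b h
  refine Module.Flat.lTensor_preserves_injective_linearMap (M := M) _ (δ_injective k₀ K L)
    ((TensorProduct.AlgebraTensorModule.cancelBaseChange K L M M (Ω[K⁄k₀])).injective ?_)
  rw [← key, ← key, h]

end Groth.S9319aux



namespace Groth.Agent.S9319

open TensorProduct in
/-- For a tower of fields `K ⊆ L ⊆ M`, the first map of the Jacobi–Zariski sequence, from `H_1(L_{L/K})
⊗_L M` to `H_1(L_{M/K})`, is injective; here `H_1(L)` denotes the first homology of the naive
cotangent complex and the map is the `M`-linear extension of the functoriality map. (The rest of the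
six-term sequence is exact for any three rings, so for fields it is exact with a zero on the left.) -/
theorem result {K L M : Type u} [Field K] [Field L]
    [Field M] [Algebra K L] [Algebra L M] [Algebra K M] [IsScalarTower K L M] :
    Function.Injective ((Algebra.H1Cotangent.map K K L M).liftBaseChange M) := by
  let k₀ : Subfield K := ⊥
  haveI : PerfectField k₀ := by
    rcases CharP.exists' K with hz | ⟨p, hp, hpK⟩
    · infer_instance
    · haveI := hp
      haveI : Finite k₀ := by
        have h1 : k₀ ≤ (ZMod.castHom dvd_rfl K : ZMod p →+* K).fieldRange := bot_le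
        exact Set.Finite.to_subtype ((Set.finite_range _).subset h1)
      infer_instance
  haveI := Groth.L03.FieldFS.formallySmooth_of_perfectField k₀ L
  exact Groth.S9319aux.main k₀ K L M

end Groth.Agent.S9319
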