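import Groth.Statements.S0371
import Groth.Agent.L29.Dual.DimFun

set_option autoImplicit false
universe u v
open CategoryTheory
attribute [local instance] HasDerivedCategory.standard
open Dual

namespace Groth.Agent.S0371

/-- A Noetherian ring with a dualizing complex has finite Krull dimension. (Universal catenarity is not
stated.) -/
theorem result (A : Type u) [CommRing A] [IsNoetherianRing A] (ω : Dual.D A) (hω : Dual.IsDualizing A ω) : ringKrullDim A < ⊤ := by
  obtain ⟨a, b, hab⟩ := Groth.L29.HomD.dimFun_bounded hω
  let f : PrimeSpectrum A → Fin ((b - a).toNat + 1) := fun p =>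
    ⟨(b - Groth.L29.HomD.dimFun hω p).toNat, by have := hab p; lia⟩
  have hf : StrictMono f := fun p q h => by
    have h1 := Groth.L29.HomD.dimFun_strictAnti hω h
    have := hab p
    have := hab q
    simp only [f, Fin.mk_lt_mk]
    lia
  refine (Order.krullDim_le_of_strictMono f hf).trans_lt ?_
  refine lt_of_le_of_lt (iSup_le fun l => ?_) (WithBot.coe_lt_coe.2 (ENat.natCast_lt_top (b - a).toNat))
  have := Fintype.card_le_of_injective l l.strictMono.injective
  simp only [Fintype.card_fin] at this
  exact WithBot.coe_le_coe.2 (Nat.cast_le.2 (show l.length ≤ (b - a).toNat by lia))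

end Groth.Agent.S0371
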