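import Groth.Statements.S0372
import Groth.Agent.L29.Dual.CMLocus

set_option autoImplicit false
set_option backward.isDefEq.respectTransparency false
universe u v
open CategoryTheory
attribute [local instance] HasDerivedCategory.standard
open Dual

namespace Groth.Agent.S0372

/-- If a Noetherian ring has a dualizing complex then the set of primes at which the localization is
Cohen–Macaulay is open and dense in the prime spectrum. -/
theorem result (A : Type u) [CommRing A] [IsNoetherianRing A] (ω : Dual.D A) (hω : Dual.IsDualizing A ω) : IsOpen {p : PrimeSpectrum A | LocCoh.IsCohenMacaulayLocalRing (Localization.AtPrime p.asIdeal)} ∧ Dense {p : PrimeSpectrum A | LocCoh.IsCohenMacaulayLocalRing (Localization.AtPrime p.asIdeal)} := by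
  refine ⟨?_, Groth.L29.Loci.dense_isCMLocalRing⟩
  convert Groth.L29.Loci.isOpen_atMostOne hω A using 1
  ext p
  exact (Groth.L29.Loci.atMostOne_iff_isCMLocalRing p hω).symm

end Groth.Agent.S0372
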