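import Groth.Statements.S0377
import Groth.Agent.L29.Dual.FiniteType

set_option autoImplicit false
universe u v
open CategoryTheory
attribute [local instance] HasDerivedCategory.standard
open Dual

namespace Groth.Agent.S0377

/-- If a Noetherian ring A has a dualizing complex then so does every A-algebra essentially of finite
type. -/
theorem result (A : Type u) [CommRing A] [IsNoetherianRing A] (ω : Dual.D A) (hω : Dual.IsDualizing A ω) (B : Type u) [CommRing B] [Algebra A B] [Algebra.EssFiniteType A B] : ∃ ω' : Dual.D B, Dual.IsDualizing B ω' := by
  exact Groth.L29.FlatBC.exists_dualizing_essFiniteType (A := A) ⟨ω, hω⟩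

end Groth.Agent.S0377
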