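import Groth.Statements.S9152
import Groth.Agent.S0376
import Groth.Agent.S0377
import Groth.Agent.S0372
import Mathlib.RingTheory.EssentialFiniteness

set_option autoImplicit false
universe u
open CAlg

namespace Groth.Agent.S9152

/-- The Cohen–Macaulay locus of a finite type algebra over a field is open. -/
theorem result (k S : Type u) [Field k] [CommRing S] [Algebra k S]
    [Algebra.FiniteType k S] :
    IsOpen {q : PrimeSpectrum S | LocCoh.IsCohenMacaulayLocalRing (Localization.AtPrime q.asIdeal)} := by
  haveI : IsNoetherianRing S := Algebra.FiniteType.isNoetherianRing k S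
  haveI : IsAdicComplete (IsLocalRing.maximalIdeal k) k := by
    rw [IsLocalRing.maximalIdeal_eq_bot]; infer_instance
  obtain ⟨ω, hω⟩ := Groth.Agent.S0376.result k
  obtain ⟨ω', hω'⟩ := Groth.Agent.S0377.result k ω hω S
  exact (Groth.Agent.S0372.result S ω' hω').1

end Groth.Agent.S9152
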