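import Groth.Statements.S1551
import Groth.Agent.L22.DimOneAmple.Affine
import Groth.Agent.L22.DimOneAmple.Twist

set_option autoImplicit false
universe u
open CategoryTheory CategoryTheory.Limits AlgebraicGeometry
open Variety

noncomputable section

namespace Groth.Agent.S1551

open Groth.L22.DimOneAmple Groth.L22.FinAff
open Groth.L21.Extend (rO rO_rO)

theorem aux (X : Scheme.{u}) [IsNoetherian X] [X.IsSeparated] (hdim : topologicalKrullDim X ≤ 1) :
    ∃ L : X.Modules, CohB1.IsAmple L := by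
  classical
  obtain ⟨U₁, hU₁, -, hgen₁⟩ := exists_affine_gen (isAffineOpen_bot X)
  obtain ⟨hfin₁, hcl₁⟩ := Groth.L22.PicGlue.finite_compl hdim U₁ hgen₁
  obtain ⟨U₂, hU₂, hgen₂, hU₂Z⟩ := exists_affine_finset hdim hfin₁.toFinset fun y hy =>
    hcl₁ y (hfin₁.mem_toFinset.1 hy)
  obtain ⟨hfin₂, hcl₂⟩ := Groth.L22.PicGlue.finite_compl hdim U₂ hgen₂
  have hcov : ∀ y ∉ U₂, y ∈ U₁ := fun y hy => by
    by_contra h
    exact hy (hU₂Z y (hfin₁.mem_toFinset.2 h))
  choose P hPV hPz using fun z : hfin₁.toFinset =>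
    exists_punct hdim U₁ hgen₁ (hfin₁.mem_toFinset.1 z.2) ⊤ (TopologicalSpace.Opens.mem_top z.1)
  obtain ⟨g, hgQ, hgz⟩ := exists_poles hdim hU₁ hfin₁.toFinset P hfin₂.toFinset
    (fun q hq => hcov q (hfin₂.mem_toFinset.1 hq))
    (fun q hq z hz hs => by
      have hq' := hfin₂.mem_toFinset.1 hq
      have h := specializes_iff_mem_closure.1 hs
      rw [(hcl₂ q hq').closure_eq, Set.mem_singleton_iff] at h
      exact hfin₁.mem_toFinset.1 hz (h ▸ hcov q hq')) 0 (Or.inl rfl)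
  choose M φ hzM hMV hzφ hφ using hgz
  let D : TwistData U₁ g :=
    { κ := hfin₁.toFinset
      M := M
      φ := φ
      inter := fun k l hkl y hy => by
        by_contra hn
        exact hkl (Subtype.ext ((hPz k y (hMV k hy.1) hn).symm.trans (hPz l y (hMV l hy.2) hn)))
      inv := hφ
      cover := fun x hx => ⟨⟨x, hfin₁.mem_toFinset.2 hx⟩, hzM _⟩ }
  obtain ⟨s, hs⟩ := D.exists_hom D.c 1 fun i => by rw [Groth.L22.PicGlue.rO_one, mul_one]
  obtain ⟨t, ht⟩ := D.exists_hom D.cg g D.cg_eq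
  have hLi := D.isInvertible
  have hsU : CohB1.genLocus D.L s ≤ U₁ := fun y hy => by
    by_contra hn
    have h : y ∈ X.basicOpen (φ ⟨y, hfin₁.mem_toFinset.2 hn⟩) := (hs (some ⟨y, hfin₁.mem_toFinset.2 hn⟩)).le ⟨hy, hzM _⟩
    exact hzφ _ h
  have hUs : ∀ y ∈ U₁, y ∈ CohB1.genLocus D.L s := fun y hy => by
    have h : y ∈ X.basicOpen (1 : Γ(X, U₁)) := by rw [X.basicOpen_of_isUnit isUnit_one]; exact hy
    exact ((hs none).ge h).1
  have htU : CohB1.genLocus D.L t ≤ U₂ := fun y hy => by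
    by_contra hn
    have h1 : y ∈ X.basicOpen g := (ht none).le ⟨hy, hcov y hn⟩
    have h2 := (hgQ y (hfin₂.mem_toFinset.2 hn)).2
    rw [sub_zero] at h2
    exact h2 h1
  have hZt : ∀ z : hfin₁.toFinset, z.1 ∈ CohB1.genLocus D.L t := fun z => by
    have h : z.1 ∈ X.basicOpen (1 : Γ(X, M z)) := by rw [X.basicOpen_of_isUnit isUnit_one]; exact hzM z
    exact ((ht (some z)).ge h).1
  have key : ∀ (r : Coh.structureModule X ⟶ D.L) (x : X), x ∈ CohB1.genLocus D.L r →
      IsAffineOpen (CohB1.genLocus D.L r) → ∃ (n : ℕ) (r' : Coh.structureModule X ⟶ CohB1.tensorPow D.L (n + 1)),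
        x ∈ CohB1.genLocus _ r' ∧ IsAffineOpen (CohB1.genLocus _ r') := fun r x hx hr => by
    refine ⟨0, r ≫ (Groth.L00.Tensor.tensorPowOne _).inv, ?_⟩
    rw [show (Groth.L00.Tensor.tensorPowOne D.L).inv = (Groth.L00.Tensor.tensorPowOne D.L).symm.hom from rfl,
      Groth.L16.genLocus_comp_iso]
    exact ⟨hx, hr⟩
  refine ⟨D.L, hLi, inferInstance, fun x => ?_⟩
  by_cases hx : x ∈ U₁
  · exact key s x (hUs x hx) (Groth.L18.Ample.isAffineOpen_genLocus_of_le hLi s hU₁ hsU)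
  · exact key t x (hZt ⟨x, hfin₁.mem_toFinset.2 hx⟩) (Groth.L18.Ample.isAffineOpen_genLocus_of_le hLi t hU₂ htU)

/-- A Noetherian separated scheme of dimension one has an ample invertible module. -/
theorem result (X : Scheme.{u}) [IsNoetherian X] [X.IsSeparated]
    (hdim : topologicalKrullDim X = 1) : ∃ L : X.Modules, CohB1.IsAmple L :=
  aux X hdim.le

end Groth.Agent.S1551
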