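import Groth.Statements.S3042
import Groth.Agent.L25.Unramified

set_option autoImplicit false
universe u
open CategoryTheory MonoidalCategory CartesianMonoidalCategory MonObj GrpObj AlgebraicGeometry TensorProduct
open SGA3

namespace Groth.Agent.S3042

open CategoryTheory.Limits in
theorem mono_of_fibres {X Y : Scheme.{u}} (f : X ⟶ Y) [LocallyOfFiniteType f]
    (h : ∀ y : Y, Mono (f.fiberToSpecResidueField y)) : Mono f := by
  have : FormallyUnramified f := Groth.L25.Unramified.formallyUnramified_of_fibres f fun y => by
    have := h y; infer_instance
  rw [← pullback.isIso_diagonal_iff]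
  have hs : Surjective (pullback.diagonal f) := ⟨fun z => by
    set j := (pullback f f).fromSpecResidueField z
    have key := Scheme.Hom.SpecMap_residueFieldMap_fromSpecResidueField (pullback.fst f f ≫ f) z
    set y := (pullback.fst f f ≫ f) z
    let r := Spec.map ((pullback.fst f f ≫ f).residueFieldMap z)
    have := h y
    have e : (pullback.lift (j ≫ pullback.fst f f) r (by rw [Category.assoc]; exact key.symm) : _ ⟶ f.fiber y) =
        pullback.lift (j ≫ pullback.snd f f) r
          (by rw [Category.assoc, ← pullback.condition]; exact key.symm) :=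
      (cancel_mono (f.fiberToSpecResidueField y)).mp
        ((pullback.lift_snd _ _ _).trans (pullback.lift_snd _ _ _).symm)
    have e' : j ≫ pullback.fst f f = j ≫ pullback.snd f f := by
      have h0 := congrArg (fun m => m ≫ pullback.fst f (Y.fromSpecResidueField y)) e
      exact (pullback.lift_fst _ _ _).symm.trans (h0.trans (pullback.lift_fst _ _ _))
    have e'' : j = (j ≫ pullback.fst f f) ≫ pullback.diagonal f := by
      apply pullback.hom_ext <;> simp [e']
    refine ⟨(j ≫ pullback.fst f f) (IsLocalRing.closedPoint _), ?_⟩
    exact (congr(($e'') (IsLocalRing.closedPoint _))).symm.trans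
      (Scheme.fromSpecResidueField_apply z _)⟩
  exact (isIso_iff_isOpenImmersion_and_epi_base _).mpr
    ⟨inferInstance, (TopCat.epi_iff_surjective _).mpr hs.surj⟩


/-- Let f : X → Y be a morphism of schemes locally of finite type. Then f is a monomorphism if and only
if, for every point y of Y, the fibre X_y → Spec κ(y) is a monomorphism. -/
theorem result (X Y : Scheme.{u}) (f : X ⟶ Y) [LocallyOfFiniteType f] :
    Mono f ↔ ∀ y : Y, Mono (f.fiberToSpecResidueField y) := by
  exact ⟨fun _ y => inferInstanceAs (Mono (CategoryTheory.Limits.pullback.snd _ _)), mono_of_fibres f⟩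
end Groth.Agent.S3042
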