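import Groth.Statements.S8890
import Groth.Agent.L15.WeakAss
import Groth.Agent.L00.StalkFunctor
import Groth.Agent.L04.Depth
import Groth.Agent.L21.Mod.Stalks
import Groth.Agent.L20.ModStalk
import Groth.Agent.L19.SupportPullback
import Mathlib.RingTheory.Ideal.MinimalPrime.Localization

set_option autoImplicit false
universe u
open CategoryTheory CategoryTheory.Limits AlgebraicGeometry TopologicalSpace
open SDiv

namespace Groth.Agent.S8890

open IsLocalRing

theorem mem_range_of_depth {A M N : Type u} [CommRing A] [IsLocalRing A] [IsNoetherianRing A] [AddCommGroup M]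
    [Module A M] [Module.Finite A M] [AddCommGroup N] [Module A N] (φ : M →ₗ[A] N)
    (hinj : Function.Injective φ) (h2 : (2 : ℕ∞) ≤ LocCoh.depth A M)
    (hN : ¬ IsAssociatedPrime (maximalIdeal A) N) (g : N) (k : ℕ)
    (hg : ∀ a ∈ (maximalIdeal A) ^ k, a • g ∈ LinearMap.range φ) : g ∈ LinearMap.range φ := by
  have h0 : ∀ z : N, (∀ a ∈ maximalIdeal A, a • z = 0) → z = 0 := by
    intro z hz
    by_contra hne
    refine hN ⟨(maximalIdeal.isMaximal A).isPrime, z, ?_⟩
    rw [eq_comm]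
    refine le_antisymm ((maximalIdeal.isMaximal A).isPrime.radical_le_iff.2 (le_maximalIdeal ?_)) ?_
    · rw [Ne, Ideal.eq_top_iff_one, Groth.L15.WeakAss.mem_colon, one_smul]
      exact hne
    · exact fun a ha => Ideal.le_radical (Groth.L15.WeakAss.mem_colon.2 (hz a ha))
  have step : ∀ z : N, (∀ a ∈ maximalIdeal A, a • z ∈ LinearMap.range φ) → z ∈ LinearMap.range φ := by
    intro z hz
    obtain ⟨a, ha, hreg⟩ | ⟨w, hw, hkill⟩ := Groth.L04.exists_regular_or_killed (maximalIdeal A) M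
    · obtain ⟨f, hf⟩ := hz a ha
      have hq : (Submodule.Quotient.mk f : QuotSMulTop a M) = 0 := by
        refine Groth.L04.hom_zero_of_one_le
          ((Groth.L04.le_idealDepth_quotSMulTop_iff ha hreg 1).2 (by exact_mod_cast h2)) fun b hb => ?_
        obtain ⟨fb, hfb⟩ := hz b hb
        rw [← Submodule.Quotient.mk_smul, Submodule.Quotient.mk_eq_zero,
          Submodule.mem_smul_pointwise_iff_exists]
        exact ⟨fb, trivial, hinj (by rw [map_smul, map_smul, hfb, hf, smul_comm])⟩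
      rw [Submodule.Quotient.mk_eq_zero, Submodule.mem_smul_pointwise_iff_exists] at hq
      obtain ⟨f0, -, hf0⟩ := hq
      refine ⟨f0, (sub_eq_zero.1 (h0 _ fun b hb => ?_)).symm⟩
      obtain ⟨fb, hfb⟩ := hz b hb
      have h1 : a • (fb - b • f0) = 0 := hinj (by
        rw [map_smul, map_sub, map_smul, hfb, map_zero, smul_sub, smul_comm a b, smul_comm a b,
          ← hf, ← hf0, map_smul, sub_self])
      rw [smul_sub, ← hfb, ← map_smul, ← map_sub, hreg (h1.trans (smul_zero a).symm), map_zero]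
    · exact absurd (Groth.L04.hom_zero_of_one_le (le_trans (by norm_num) h2) hkill) hw
  induction k generalizing g with
  | zero => simpa using hg 1 (by simp)
  | succ k ih =>
    refine ih g fun a ha => step _ fun b hb => ?_
    rw [smul_smul]
    exact hg _ (by rw [pow_succ']; exact Ideal.mul_mem_mul hb ha)

theorem not_isAssPoint_of_depth {X : Scheme.{u}} [IsLocallyNoetherian X] {F : X.Modules} (hF : Coh.IsCoh F)
    {x : X} [Module.Finite (X.presheaf.stalk x) (F.presheaf.stalk x)]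
    (h : (2 : ℕ∞) ≤ LocCoh.depth (X.presheaf.stalk x) (F.presheaf.stalk x)) : ¬ Curv2.IsAssPoint F x := by
  rintro ⟨-, z, hz⟩
  have hk : ∀ a ∈ maximalIdeal (X.presheaf.stalk x), ∃ n : ℕ, a ^ n • z = 0 := fun a ha => by
    obtain ⟨n, hn⟩ := hz.le ha
    exact ⟨n, Groth.L15.WeakAss.mem_colon.1 hn⟩
  obtain ⟨a, ha, hreg⟩ | ⟨w, hw, hkill⟩ :=
    Groth.L04.exists_regular_or_killed (maximalIdeal (X.presheaf.stalk x)) (F.presheaf.stalk x)
  · obtain ⟨n, hn⟩ := hk a ha
    have : z = 0 := (hreg.pow n) (hn.trans (smul_zero _).symm)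
    subst this
    refine (maximalIdeal.isMaximal (X.presheaf.stalk x)).ne_top (hz.trans ?_)
    rw [Ideal.radical_eq_top, Ideal.eq_top_iff_one, Groth.L15.WeakAss.mem_colon, one_smul]
  · exact absurd (Groth.L04.hom_zero_of_one_le (le_trans (by norm_num) h) hkill) hw


/-- Let X be a locally Noetherian scheme and φ : F ⟶ G a morphism of quasi-coherent O_X-modules with F
coherent. Assume that for every point x of X either the stalk map F_x → G_x is an isomorphism, or
depth(F_x) ≥ 2 and x is not an associated point of G. Then φ is an isomorphism. -/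
theorem result (X : Scheme.{u}) [IsLocallyNoetherian X] {F G : X.Modules} (φ : F ⟶ G)
    (hF : Coh.IsCoh F) (hG : Coh.IsQCoh G)
    (h : ∀ x : ↥X, Function.Bijective ((TopCat.Presheaf.stalkFunctor AddCommGrpCat.{u} x).map (Scheme.Modules.Hom.mapPresheaf φ)) ∨
      ((2 : ℕ∞) ≤ LocCoh.depth (X.presheaf.stalk x) (F.presheaf.stalk x) ∧ ¬ Curv2.IsAssPoint G x)) :
    IsIso φ := by
  haveI : Coh.IsQCoh F := hF.1
  haveI : Coh.IsQCoh G := hG
  rw [Groth.L21.Mod.isIso_iff_stalk_bijective]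
  intro x
  obtain ⟨_, ⟨V, hV, rfl⟩, hxV, -⟩ :=
    X.isBasis_affineOpens.exists_subset_of_mem_open (Set.mem_univ x) isOpen_univ
  change X.Opens at V
  replace hV : IsAffineOpen V := hV
  haveI : IsNoetherianRing Γ(X, V) := IsLocallyNoetherian.component_noetherian ⟨V, hV⟩
  haveI := Groth.L20.ModStalk.finite_sections F hF hV
  have hsur : ∀ {M : X.Modules} [Coh.IsQCoh M] {y : X} (hy : y ∈ V) (g : M.presheaf.stalk y),
      ∃ (n : Γ(M, V)) (s : Γ(X, V)), s ∉ (hV.primeIdealOf ⟨y, hy⟩).asIdeal ∧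
        X.presheaf.germ V y hy s • g = M.presheaf.germ V y hy n := by
    intro M _ y hy g
    letI := Groth.L20.ModStalk.stalkModule M hy
    haveI := Groth.L20.ModStalk.isLocalizedModule_germ M hV hy
    obtain ⟨⟨n, s⟩, h⟩ := IsLocalizedModule.surj (hV.primeIdealOf ⟨y, hy⟩).asIdeal.primeCompl
      (Groth.L20.ModStalk.germₗ M hy) g
    exact ⟨n, s, s.2, h⟩
  let L : ∀ y : X, F.presheaf.stalk y →ₗ[X.presheaf.stalk y] G.presheaf.stalk y :=
    fun y => ((Groth.L00.Stk.F X y).map φ).hom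
  have hgerm : ∀ {y : X} (hy : y ∈ V) (n : Γ(F, V)),
      L y (F.presheaf.germ V y hy n) = G.presheaf.germ V y hy (φ.app V n) := fun hy n =>
    Groth.L21.Mod.stalkF_map_germ φ V _ hy n
  have hinjV : ∀ n : Γ(F, V), φ.app V n = 0 → n = 0 := by
    intro n hn
    by_contra hne
    obtain ⟨z, hz, hzA, hzn⟩ := Groth.L15.WeakAss.exists_weakAss_germ_ne_zero F hV hne
    rcases h z with hb | ⟨hd, -⟩
    · refine hzn (hb.1 ?_)
      show L z (F.presheaf.germ V z hz n) = L z 0
      rw [hgerm, hn, map_zero, map_zero]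
    · haveI := Groth.L19.SupportPullback.finite_stalk F hF z
      exact not_isAssPoint_of_depth hF hd (Groth.L15.WeakAss.isAssPoint_of_isWeakAssPoint F hzA)
  have hzero : ∀ {M : X.Modules} [Coh.IsQCoh M] {y : X} (hy : y ∈ V) (n : Γ(M, V)),
      M.presheaf.germ V y hy n = 0 → ∃ t, t ∉ (hV.primeIdealOf ⟨y, hy⟩).asIdeal ∧ t • n = 0 := by
    intro M _ y hy n hn
    letI := Groth.L20.ModStalk.stalkModule M hy
    haveI := Groth.L20.ModStalk.isLocalizedModule_germ M hV hy
    obtain ⟨⟨t, ht⟩, htn⟩ := (IsLocalizedModule.eq_zero_iff (hV.primeIdealOf ⟨y, hy⟩).asIdeal.primeCompl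
      (Groth.L20.ModStalk.germₗ M hy)).1 hn
    exact ⟨t, ht, htn⟩
  have hunit : ∀ {y : X} (hy : y ∈ V) {s : Γ(X, V)}, s ∉ (hV.primeIdealOf ⟨y, hy⟩).asIdeal →
      IsUnit (X.presheaf.germ V y hy s) := fun {y} hy {s} hs => by
    letI := X.presheaf.algebra_section_stalk ⟨y, hy⟩
    haveI := hV.isLocalization_stalk ⟨y, hy⟩
    exact IsLocalization.map_units (X.presheaf.stalk y) (⟨s, hs⟩ : (hV.primeIdealOf ⟨y, hy⟩).asIdeal.primeCompl)
  have hinjS : ∀ {y : X}, y ∈ V → Function.Injective (L y) := by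
    intro y hy
    refine (injective_iff_map_eq_zero (L y)).2 fun k hk => ?_
    obtain ⟨n, s, hs, hn⟩ := hsur hy k
    have h1 : G.presheaf.germ V y hy (φ.app V n) = 0 := by
      rw [← hgerm, ← hn, map_smul, hk, smul_zero]
    obtain ⟨t, ht, htn⟩ := hzero hy _ h1
    have h2 : t • n = 0 := hinjV _ (by rw [Scheme.Modules.Hom.app_smul, htn])
    refine (hunit hy hs).smul_left_cancel.1 ((hunit hy ht).smul_left_cancel.1 ?_)
    rw [hn, ← Groth.L20.ModStalk.germ_smul, h2, smul_zero, smul_zero, map_zero]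
  let P : Submodule Γ(X, V) Γ(G, V) :=
    { carrier := {g | ∃ n, φ.app V n = g}
      add_mem' := by rintro _ _ ⟨a, rfl⟩ ⟨b, rfl⟩; exact ⟨a + b, map_add (φ.app V).hom a b⟩
      zero_mem' := ⟨0, map_zero (φ.app V).hom⟩
      smul_mem' := by rintro c _ ⟨a, rfl⟩; exact ⟨c • a, Scheme.Modules.Hom.app_smul φ c a⟩ }
  have hsurV : ∀ g : Γ(G, V), g ∈ P := by
    intro g
    by_contra hg
    have hne : Submodule.colon P {g} ≠ ⊤ := by
      rw [Ne, Ideal.eq_top_iff_one, Submodule.mem_colon_singleton, one_smul]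
      exact hg
    obtain ⟨q, hq⟩ := Ideal.nonempty_minimalPrimes hne
    let q' : Spec Γ(X, V) := ⟨q, hq.isPrime⟩
    have hy := Groth.L19.Ass.fromSpec_mem hV q'
    have hpq : (hV.primeIdealOf ⟨hV.fromSpec q', hy⟩).asIdeal = q :=
      congrArg PrimeSpectrum.asIdeal (Groth.L19.Ass.primeIdealOf_fromSpec hV q' _)
    have hnot : G.presheaf.germ V _ hy g ∉ LinearMap.range (L (hV.fromSpec q')) := by
      rintro ⟨f, hf⟩
      obtain ⟨n, s, hs, hn⟩ := hsur hy f
      have h1 : G.presheaf.germ V _ hy (s • g - φ.app V n) = 0 := by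
        rw [map_sub, Groth.L20.ModStalk.germ_smul, ← hgerm, ← hn, ← hf, map_smul, sub_self]
      obtain ⟨t, ht, htn⟩ := hzero hy _ h1
      rw [hpq] at hs ht
      rw [smul_sub, sub_eq_zero, smul_smul] at htn
      refine (hq.isPrime.mem_or_mem (hq.le (Submodule.mem_colon_singleton.2 ?_))).elim ht hs
      exact htn ▸ ⟨t • n, Scheme.Modules.Hom.app_smul φ t n⟩
    rcases h (hV.fromSpec q') with hb | ⟨hd, hA⟩
    · exact hnot (hb.2 _)
    · haveI := Groth.L19.SupportPullback.finite_stalk F hF (hV.fromSpec q')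
      letI := X.presheaf.algebra_section_stalk ⟨_, hy⟩
      haveI := hV.isLocalization_stalk ⟨_, hy⟩
      have hrad := IsLocalization.AtPrime.radical_map_of_mem_minimalPrimes
        (A := X.presheaf.stalk (hV.fromSpec q')) (q := (hV.primeIdealOf ⟨_, hy⟩).asIdeal) (I := Submodule.colon P {g}) (by rw [hpq]; exact hq)
      rw [IsLocalization.AtPrime.map_eq_maximalIdeal (hV.primeIdealOf ⟨_, hy⟩).asIdeal] at hrad
      obtain ⟨k, hk⟩ := Ideal.exists_radical_pow_le_of_fg _
        (IsNoetherian.noetherian ((Submodule.colon P {g}).map (algebraMap Γ(X, V) (X.presheaf.stalk (hV.fromSpec q')))).radical)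
      rw [hrad] at hk
      refine hnot (mem_range_of_depth (L _) (hinjS hy) hd hA _ k fun a ha => ?_)
      have hle : (Submodule.colon P {g}).map (algebraMap Γ(X, V) (X.presheaf.stalk (hV.fromSpec q'))) ≤
          Submodule.colon (LinearMap.range (L (hV.fromSpec q'))) {G.presheaf.germ V _ hy g} := by
        rw [Ideal.map_le_iff_le_comap]
        intro b hb
        obtain ⟨n, hn⟩ := Submodule.mem_colon_singleton.1 hb
        rw [Ideal.mem_comap, Submodule.mem_colon_singleton]
        refine ⟨F.presheaf.germ V _ hy n, ?_⟩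
        rw [hgerm, hn, Groth.L20.ModStalk.germ_smul]
        rfl
      exact Submodule.mem_colon_singleton.1 (hle (hk ha))
  refine ⟨hinjS hxV, fun g => ?_⟩
  obtain ⟨n, s, hs, hn⟩ := hsur hxV g
  obtain ⟨m, hm⟩ := hsurV n
  refine ⟨(↑(hunit hxV hs).unit⁻¹ : X.presheaf.stalk x) • F.presheaf.germ V x hxV m, ?_⟩
  show L x _ = g
  rw [map_smul, hgerm, hm, ← hn, smul_smul, IsUnit.val_inv_mul, one_smul]

end Groth.Agent.S8890
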