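import Groth.Statements.S6285
import Mathlib.Tactic
import Mathlib.RingTheory.Spectrum.Prime.Module
import Mathlib.RingTheory.LocalRing.Module
import Mathlib.RingTheory.Localization.AtPrime.Basic
import Mathlib.RingTheory.Ideal.KrullsHeightTheorem
import Mathlib.LinearAlgebra.Matrix.NonsingularInverse
import Mathlib.RingTheory.TensorProduct.Quotient
import Mathlib.RingTheory.Flat.FaithfullyFlat.Basic
import Mathlib.LinearAlgebra.TensorProduct.Prod
import Mathlib.RingTheory.LocalProperties.Reduced

set_option autoImplicit false
universe u
open CAlg

namespace Groth.Agent.S6285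

/-- For a ring R and an R-module M of finite presentation, the support Supp(M) is closed in Spec(R), and
its complement in Spec(R) is quasi-compact. -/
theorem result (R : Type u) [CommRing R] (M : Type u) [AddCommGroup M] [Module R M] [Module.FinitePresentation R M] : IsClosed (Module.support R M) ∧ IsCompact (Module.support R M)ᶜ := by
  classical
  refine ⟨Module.isClosed_support, ?_⟩
  obtain ⟨n, K, e, hK⟩ := Module.FinitePresentation.exists_fin R M
  obtain ⟨m, c, hc⟩ := Submodule.fg_iff_exists_fin_generating_family.mp hK
  let q : (Fin n → R) →ₗ[R] M := e.symm.toLinearMap.comp K.mkQ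
  have hq : Function.Surjective q := e.symm.surjective.comp K.mkQ_surjective
  have hqc : ∀ j, q (c j) = 0 := fun j => by
    have : c j ∈ K := hc ▸ Submodule.subset_span ⟨j, rfl⟩
    show e.symm (K.mkQ (c j)) = 0
    rw [Submodule.mkQ_apply, (Submodule.Quotient.mk_eq_zero K).mpr this, map_zero]
  let d : (Fin n → Fin m) → R := fun f => (Matrix.of fun i k => c (f i) k).det
  have key : (Module.support R M)ᶜ = ⋃ f, (PrimeSpectrum.basicOpen (d f) : Set (PrimeSpectrum R)) := by
    ext p
    simp only [Set.mem_compl_iff, Set.mem_iUnion, SetLike.mem_coe, PrimeSpectrum.mem_basicOpen]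
    constructor
    · intro hp
      rw [Module.notMem_support_iff'] at hp
      let φ : (Fin n → R) →ₗ[R] (Fin n → p.asIdeal.ResidueField) :=
        LinearMap.pi fun i => (Algebra.linearMap R p.asIdeal.ResidueField).comp (LinearMap.proj i)
      have hspan : Submodule.span p.asIdeal.ResidueField (Set.range (φ ∘ c)) = ⊤ := by
        rw [eq_top_iff, ← (Pi.basisFun p.asIdeal.ResidueField (Fin n)).span_eq, Submodule.span_le]
        rintro _ ⟨i, rfl⟩
        obtain ⟨s, hs, hs'⟩ := hp (q (Pi.single i 1))
        have hmem : s • (Pi.single i 1 : Fin n → R) ∈ K := by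
          rw [← map_smul] at hs'
          exact (Submodule.Quotient.mk_eq_zero K).mp (e.symm.map_eq_zero_iff.mp hs')
        have : φ (s • (Pi.single i 1 : Fin n → R)) ∈
            Submodule.span p.asIdeal.ResidueField (Set.range (φ ∘ c)) := by
          rw [← hc] at hmem
          have := Submodule.mem_map_of_mem (f := φ) hmem
          rw [Submodule.map_span, ← Set.range_comp] at this
          exact Submodule.span_le_restrictScalars R p.asIdeal.ResidueField _ this
        have hne : algebraMap R p.asIdeal.ResidueField s ≠ 0 := by
          rwa [ne_eq, Ideal.algebraMap_residueField_eq_zero]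
        have heq : Pi.basisFun p.asIdeal.ResidueField (Fin n) i =
            (algebraMap R p.asIdeal.ResidueField s)⁻¹ • φ (s • (Pi.single i 1 : Fin n → R)) := by
          funext j
          by_cases hji : j = i
          · subst hji; simp [φ, Algebra.smul_def]; exact (inv_mul_cancel₀ hne).symm
          · simp [φ, Pi.single_apply, hji]
        simp only [SetLike.mem_coe, heq]
        exact Submodule.smul_mem _ _ this
      obtain ⟨b, hb1, hb2, hb3⟩ := exists_linearIndependent p.asIdeal.ResidueField (Set.range (φ ∘ c))
      rw [hspan] at hb2
      let B := Module.Basis.mk hb3 (by rw [Subtype.range_coe]; exact hb2.ge)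
      have : Fintype b := (Set.finite_range _).subset hb1 |>.fintype
      have hcard : Fintype.card b = n := by
        rw [← Module.finrank_eq_card_basis B, Module.finrank_fin_fun]
      let eb := (Fintype.equivFinOfCardEq hcard).symm
      choose g hg using fun i => hb1 (eb i).2
      refine ⟨g, ?_⟩
      rw [← Ideal.algebraMap_residueField_eq_zero, RingHom.map_det]
      intro hd
      have : LinearIndependent p.asIdeal.ResidueField
          (((Matrix.of fun i k => c (g i) k)).map (algebraMap R p.asIdeal.ResidueField)).row := by
        have h2 := hb3.comp eb eb.injective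
        have h3 : (Subtype.val ∘ eb) = fun i => (φ ∘ c) (g i) := funext fun i => (hg i).symm
        rw [h3] at h2
        exact h2
      exact not_isUnit_zero (hd ▸ (Matrix.isUnit_iff_isUnit_det _).mp (Matrix.linearIndependent_rows_iff_isUnit.mp this))
    · rintro ⟨f, hf⟩ hp
      refine hf (Module.annihilator_le_of_mem_support hp ?_)
      rw [Module.mem_annihilator]
      intro x
      obtain ⟨x, rfl⟩ := hq x
      rw [← map_smul]
      let A : Matrix (Fin n) (Fin n) R := Matrix.of fun i k => c (f i) k
      have hA : d f • x = ∑ i, (Matrix.vecMul x A.adjugate) i • c (f i) := by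
        funext k
        have := congrFun (show Matrix.vecMul (Matrix.vecMul x A.adjugate) A = A.det • x by
          rw [Matrix.vecMul_vecMul, Matrix.adjugate_mul, Matrix.vecMul_smul, Matrix.vecMul_one]) k
        simp only [Matrix.vecMul, dotProduct] at this
        simp only [Finset.sum_apply, Pi.smul_apply, smul_eq_mul]
        exact this.symm
      rw [hA, map_sum]
      simp [hqc]
  rw [key]
  exact isCompact_iUnion fun f => PrimeSpectrum.isCompact_basicOpen _

end Groth.Agent.S6285
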