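
import Groth.Statements.S6477
import Groth.Agent.L22.Cyc.Mult
import Groth.Agent.L00.PullStalk

set_option autoImplicit false
universe u
open CategoryTheory AlgebraicGeometry
open CategoryTheory.Limits
open Cyc

namespace Groth.Agent.S6477

/-- Let F be a coherent O_X-module with dim_δ Supp(F) ≤ k and F' = p^*F its base change to X'. Then
dim_{δ'} Supp(F') ≤ k + c and g^*[F]_k = [F']_{k+c} in Z_{k+c}(X') (coefficientwise; support bounds
through nontrivial stalks). Setting: p : X' → X is flat (not necessarily of finite type), (X, δ) and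
(X', δ') satisfy Cyc.IsSetup, and δ'(x') = δ(p x') + c whenever x' is maximal under generalization
inside its fibre p⁻¹(p x'); g^* : Z_k(X) → Z_{k+c}(X') is the coefficientwise flat pullback
Cyc.pullFun p δ' δ c. (The published statement takes X′ = X ×_S S′ for a flat S′ → S and X locally
of finite type over S; this row allows any flat p : X′ → X with the shift condition. The published
statement also has a part for closed subschemes, which follows with [Z]_k = [O_Z]_k; this row does
not restate it.) -/
theorem result (X X' : Scheme.{u}) (p : X' ⟶ X) [Flat p] (δ : X → ℤ) (δ' : X' → ℤ) (hX : Cyc.IsSetup X δ) (hX' : Cyc.IsSetup X' δ') (c : ℤ) (hc : ∀ x' : X', (∀ y, p y = p x' → y ⤳ x' → y = x') → δ' x' = δ (p x') + c) (k : ℤ) (F : X.Modules) (hF : Coh.IsCoh F) (hdim : ∀ x : X, Nontrivial (F.presheaf.stalk x) → δ x ≤ k) : (∀ x' : X', Nontrivial (((Scheme.Modules.pullback p).obj F).presheaf.stalk x') → δ' x' ≤ k + c) ∧ Cyc.pullFun p δ' δ c (Cyc.sheafFun δ k F) = Cyc.sheafFun δ' (k + c) ((Scheme.Modules.pullback p).obj F) := by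
  haveI := hX'.1
  have hlen : ∀ x' : X',
      Module.length (X'.presheaf.stalk x') (((Scheme.Modules.pullback p).obj F).presheaf.stalk x') =
        Module.length (X.presheaf.stalk (p x')) (F.presheaf.stalk (p x')) *
          Groth.L22.Cyc.mult p x' := fun x' => by
    letI : Algebra (X.presheaf.stalk (p x')) (X'.presheaf.stalk x') := (p.stalkMap x').hom.toAlgebra
    haveI : Module.Flat (X.presheaf.stalk (p x')) (X'.presheaf.stalk x') := Flat.stalkMap p x'
    haveI : IsLocalHom (algebraMap (X.presheaf.stalk (p x')) (X'.presheaf.stalk x')) :=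
      p.toLRSHom.prop x'
    let e : ((Scheme.Modules.pullback p).obj F).presheaf.stalk x' ≃ₗ[X'.presheaf.stalk x']
        TensorProduct (X.presheaf.stalk (p x')) (X'.presheaf.stalk x') (F.presheaf.stalk (p x')) :=
      ((Groth.L00.PullStalk.stalkIso p x').app F).toLinearEquiv
    rw [e.length_eq, Groth.L22.Cyc.length_tensor,
      ← (Algebra.TensorProduct.quotIdealMapEquivTensorQuot (X'.presheaf.stalk x')
        (IsLocalRing.maximalIdeal (X.presheaf.stalk (p x')))).toLinearEquiv.length_eq]
    rfl
  have hnt : ∀ x' : X', Nontrivial (((Scheme.Modules.pullback p).obj F).presheaf.stalk x') →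
      δ (p x') ≤ k := fun x' h => by
    refine hdim _ (not_subsingleton_iff_nontrivial.1 fun h0 => not_subsingleton_iff_nontrivial.2 h ?_)
    have h1 := hlen x'
    rw [Module.length_eq_zero (R := X.presheaf.stalk (p x')), zero_mul] at h1
    exact Module.length_eq_zero_iff.1 h1
  have hle : ∀ x' : X', δ' x' ≤ δ (p x') + c ∧
      (¬ Groth.L22.Cyc.FibGen p x' → δ' x' < δ (p x') + c) := fun x' => by
    obtain ⟨y, hy, hyx, hg⟩ := Groth.L22.Cyc.exists_fibGen p x'
    have h2 := hc y hg
    rw [hy] at h2
    by_cases hne : y = x'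
    · subst hne; exact ⟨h2.le, fun h => absurd hg h⟩
    · have := (hX'.2.2 y x' hyx hne).1
      exact ⟨by omega, fun _ => by omega⟩
  refine ⟨fun x' h => by linarith [(hle x').1, hnt x' h], ?_⟩
  rw [Groth.L22.Cyc.pullFun_eq p hX'.2.2 hc]
  funext x'
  by_cases hk : δ (p x') = k
  · by_cases hg : Groth.L22.Cyc.FibGen p x'
    · simp [Cyc.sheafFun, hk, hc x' hg, hlen x', ENat.toNat_mul]
    · have := (hle x').2 hg
      simp [Cyc.sheafFun, hk, show δ' x' ≠ k + c by omega, Groth.L22.Cyc.mult_eq_top hg]
  · simp only [Cyc.sheafFun, if_neg hk, zero_mul]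
    split_ifs with h
    · haveI : Subsingleton (((Scheme.Modules.pullback p).obj F).presheaf.stalk x') :=
        not_nontrivial_iff_subsingleton.1 fun hn => by
          have := hnt x' hn
          have := (hle x').1
          omega
      rw [Module.length_eq_zero]
      simp
    · rfl

end Groth.Agent.S6477
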