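import Groth.Statements.S1702
-- import your own Groth.Agent.* helpers here

import Groth.Agent.L22.Ideal
import Groth.Agent.S11950
import Mathlib.AlgebraicGeometry.Morphisms.Flat

set_option autoImplicit false
universe u
open CategoryTheory CategoryTheory.Limits AlgebraicGeometry TopologicalSpace
open SDiv

namespace Groth.Agent.S1702
open CategoryTheory AlgebraicGeometry

theorem flat_quot_mul {R B : Type u} [CommRing R] [CommRing B] [Algebra R B] {a b : B}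
    (ha : a ∈ nonZeroDivisors B) [Module.Flat R (B ⧸ Ideal.span {a})] [Module.Flat R (B ⧸ Ideal.span {b})] :
    Module.Flat R (B ⧸ Ideal.span {a * b}) := by
  have hle : Ideal.span {a * b} ≤ Ideal.span {a} :=
    Ideal.span_singleton_le_span_singleton.2 (dvd_mul_right a b)
  let φ : (B ⧸ Ideal.span {b}) →ₗ[B] B ⧸ Ideal.span {a * b} :=
    Submodule.mapQ _ _ (LinearMap.mulLeft B a) (fun x hx => by
      obtain ⟨c, rfl⟩ := Ideal.mem_span_singleton'.1 hx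
      exact Ideal.mem_span_singleton'.2 ⟨c, by simp; ring⟩)
  let ψ : (B ⧸ Ideal.span {a * b}) →ₗ[B] B ⧸ Ideal.span {a} := Submodule.factor hle
  refine Groth.Agent.S11950.flat_of_extension (φ.restrictScalars R) (ψ.restrictScalars R) ?_ ?_
    (Submodule.factor_surjective hle)
  · change Function.Injective φ
    rw [injective_iff_map_eq_zero]
    intro z hz
    obtain ⟨z, rfl⟩ := Submodule.Quotient.mk_surjective _ z
    rw [Submodule.mapQ_apply, Submodule.Quotient.mk_eq_zero, LinearMap.mulLeft_apply,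
      Ideal.mem_span_singleton'] at hz
    obtain ⟨c, hc⟩ := hz
    rw [Submodule.Quotient.mk_eq_zero, Ideal.mem_span_singleton']
    exact ⟨c, (mul_cancel_left_mem_nonZeroDivisors ha).1 (by rw [← hc]; ring)⟩
  · intro z
    obtain ⟨z, rfl⟩ := Submodule.Quotient.mk_surjective _ z
    have hψ : ψ (Submodule.Quotient.mk z) = Submodule.Quotient.mk z := rfl
    change ψ _ = 0 ↔ _
    rw [hψ, Submodule.Quotient.mk_eq_zero, Ideal.mem_span_singleton']
    constructor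
    · rintro ⟨c, rfl⟩
      refine ⟨Submodule.Quotient.mk c, ?_⟩
      change Submodule.Quotient.mk (a * c) = Submodule.Quotient.mk (c * a)
      rw [mul_comm a c]
    · rintro ⟨y, hy⟩
      obtain ⟨y, rfl⟩ := Submodule.Quotient.mk_surjective _ y
      change φ _ = _ at hy
      rw [Submodule.mapQ_apply, Submodule.Quotient.eq, LinearMap.mulLeft_apply,
        Ideal.mem_span_singleton'] at hy
      obtain ⟨c, hc⟩ := hy
      exact ⟨y - c * b, by linear_combination -hc⟩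

theorem flat_ring_iff {X S : Scheme.{u}} (f : X ⟶ S) (D : X.IdealSheafData) (U : X.affineOpens)
    (V : S.Opens) (e : U.1 ≤ f ⁻¹ᵁ V) :
    ((D.subschemeι ≫ f).appLE V (D.subschemeι ⁻¹ᵁ U.1) (fun _ hy => e hy)).hom.Flat ↔
      ((Ideal.Quotient.mk (D.ideal U)).comp (f.appLE V U.1 e).hom).Flat := by
  have hcomp : (D.subschemeι ≫ f).appLE V (D.subschemeι ⁻¹ᵁ U.1) (fun y hy => e hy) =
      f.appLE V U.1 e ≫ CommRingCat.ofHom (Ideal.Quotient.mk (D.ideal U)) ≫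
        (D.subschemeObjIso U).inv := by
    rw [← D.subschemeι_app U, ← Scheme.Hom.appLE_eq_app, Scheme.Hom.appLE_comp_appLE]
  rw [hcomp, ← Category.assoc, CommRingCat.hom_comp,
    RingHom.Flat.respectsIso.cancel_right_isIso]
  rfl

/-- Let f : X ⟶ S be a morphism and 𝓘₁, 𝓘₂ ideal sheaves of effective Cartier divisors on X whose closed
subschemes are flat over S. Then the product ideal 𝓘₁𝓘₂ (the sum of the divisors) is again the ideal
of an effective Cartier divisor flat over S. -/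
theorem result {X S : Scheme.{u}} (f : X ⟶ S) (𝓘₁ 𝓘₂ : X.IdealSheafData)
    (h₁ : (BlowUp.IsEffCartierIdeal 𝓘₁ ∧ Flat (𝓘₁.subschemeι ≫ f))) (h₂ : (BlowUp.IsEffCartierIdeal 𝓘₂ ∧ Flat (𝓘₂.subschemeι ≫ f))) : (BlowUp.IsEffCartierIdeal (𝓘₁ * 𝓘₂) ∧ Flat ((𝓘₁ * 𝓘₂).subschemeι ≫ f)) := by
  obtain ⟨hI, fI⟩ := h₁
  obtain ⟨hJ, fJ⟩ := h₂
  refine ⟨Groth.L22.Ideals.isEffCartier_mul hI hJ, ?_⟩
  rw [HasRingHomProperty.iff_exists_appLE (P := @Flat)
    (RingHom.Flat.stableUnderComposition.stableUnderCompositionWithLocalizationAway RingHom.Flat.holdsForLocalizationAway).left]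
  intro z
  obtain ⟨U₁, hx₁, t₁, -, -, hU₁⟩ := Groth.L22.Ideals.exists_generator hI ((𝓘₁ * 𝓘₂).subschemeι z)
  obtain ⟨U₂, hx₂, t₂, -, -, hU₂⟩ := Groth.L22.Ideals.exists_generator hJ ((𝓘₁ * 𝓘₂).subschemeι z)
  obtain ⟨V, hV, hxV, -⟩ := exists_isAffineOpen_mem_and_subset
    (x := f ((𝓘₁ * 𝓘₂).subschemeι z)) (U := ⊤) trivial
  obtain ⟨U, hU, hxU, hle⟩ := exists_isAffineOpen_mem_and_subset
    (x := (𝓘₁ * 𝓘₂).subschemeι z) (U := U₁.1 ⊓ U₂.1 ⊓ f ⁻¹ᵁ V) ⟨⟨hx₁, hx₂⟩, hxV⟩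
  have e : U ≤ f ⁻¹ᵁ V := fun y hy => (hle hy).2
  obtain ⟨hn₁, he₁⟩ := hU₁ ⟨U, hU⟩ (fun y hy => (hle hy).1.1)
  obtain ⟨-, he₂⟩ := hU₂ ⟨U, hU⟩ (fun y hy => (hle hy).1.2)
  refine ⟨⟨V, hV⟩, ⟨_, hU.preimage (𝓘₁ * 𝓘₂).subschemeι⟩, hxU, fun y hy => e hy, ?_⟩
  have g₁ := (flat_ring_iff f 𝓘₁ ⟨U, hU⟩ V e).1
    ((𝓘₁.subschemeι ≫ f).flat_appLE hV (hU.preimage _) _)
  have g₂ := (flat_ring_iff f 𝓘₂ ⟨U, hU⟩ V e).1
    ((𝓘₂.subschemeι ≫ f).flat_appLE hV (hU.preimage _) _)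
  refine (flat_ring_iff f (𝓘₁ * 𝓘₂) ⟨U, hU⟩ V e).2 ?_
  letI := (f.appLE V U e).hom.toAlgebra
  rw [he₁] at g₁
  rw [he₂] at g₂
  rw [Scheme.IdealSheafData.ideal_mul, Pi.mul_apply, he₁, he₂, Ideal.span_singleton_mul_span_singleton]
  haveI := (RingHom.flat_algebraMap_iff (R := Γ(S, V)) (S := Γ(X, U) ⧸ Ideal.span {_})).1 g₁
  haveI := (RingHom.flat_algebraMap_iff (R := Γ(S, V)) (S := Γ(X, U) ⧸ Ideal.span {_})).1 g₂
  exact RingHom.flat_algebraMap_iff.2 (flat_quot_mul hn₁)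

end Groth.Agent.S1702
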