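import Groth.Statements.S1710
import Groth.Agent.L15.CartierFlat
import Groth.Agent.S1702

set_option autoImplicit false
universe u
open CategoryTheory CategoryTheory.Limits AlgebraicGeometry TopologicalSpace
open SDiv

namespace Groth.Agent.S1710

/-- Let f : X ⟶ S be a morphism and 𝓘₁, 𝓘₂ ideal sheaves of effective Cartier divisors D₁ ⊆ D₂ on X,
both flat over S, and let 𝓘 be the ideal sheaf of an effective Cartier divisor D with D₂ = D₁ + D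
(that is, 𝓘₁𝓘 = 𝓘₂). Then D is flat over S as well. -/
theorem result {X S : Scheme.{u}} (f : X ⟶ S) (𝓘₁ 𝓘₂ 𝓘 : X.IdealSheafData)
    (h₁ : (BlowUp.IsEffCartierIdeal 𝓘₁ ∧ Flat (𝓘₁.subschemeι ≫ f))) (h₂ : (BlowUp.IsEffCartierIdeal 𝓘₂ ∧ Flat (𝓘₂.subschemeι ≫ f))) (h : BlowUp.IsEffCartierIdeal 𝓘) (hsum : 𝓘₁ * 𝓘 = 𝓘₂) :
    Flat (𝓘.subschemeι ≫ f) := by
  obtain ⟨hI, fI⟩ := h₁
  obtain ⟨-, fK⟩ := h₂
  rw [HasRingHomProperty.iff_exists_appLE (P := @Flat)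
    (RingHom.Flat.stableUnderComposition.stableUnderCompositionWithLocalizationAway RingHom.Flat.holdsForLocalizationAway).left]
  intro z
  obtain ⟨U₁, hx₁, t₁, -, -, hU₁⟩ := Groth.L22.Ideals.exists_generator hI (𝓘.subschemeι z)
  obtain ⟨U₂, hx₂, t₂, -, -, hU₂⟩ := Groth.L22.Ideals.exists_generator h (𝓘.subschemeι z)
  obtain ⟨V, hV, hxV, -⟩ := exists_isAffineOpen_mem_and_subset
    (x := f (𝓘.subschemeι z)) (U := ⊤) trivial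
  obtain ⟨U, hU, hxU, hle⟩ := exists_isAffineOpen_mem_and_subset
    (x := 𝓘.subschemeι z) (U := U₁.1 ⊓ U₂.1 ⊓ f ⁻¹ᵁ V) ⟨⟨hx₁, hx₂⟩, hxV⟩
  have e : U ≤ f ⁻¹ᵁ V := fun y hy => (hle hy).2
  obtain ⟨hn₁, he₁⟩ := hU₁ ⟨U, hU⟩ (fun y hy => (hle hy).1.1)
  obtain ⟨-, he⟩ := hU₂ ⟨U, hU⟩ (fun y hy => (hle hy).1.2)
  refine ⟨⟨V, hV⟩, ⟨_, hU.preimage 𝓘.subschemeι⟩, hxU, fun y hy => e hy, ?_⟩
  have g₁ := (Groth.Agent.S1702.flat_ring_iff f 𝓘₁ ⟨U, hU⟩ V e).1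
    ((𝓘₁.subschemeι ≫ f).flat_appLE hV (hU.preimage _) _)
  have g₂ := (Groth.Agent.S1702.flat_ring_iff f 𝓘₂ ⟨U, hU⟩ V e).1
    ((𝓘₂.subschemeι ≫ f).flat_appLE hV (hU.preimage _) _)
  refine (Groth.Agent.S1702.flat_ring_iff f 𝓘 ⟨U, hU⟩ V e).2 ?_
  letI := (f.appLE V U e).hom.toAlgebra
  subst hsum
  rw [he₁] at g₁
  rw [Scheme.IdealSheafData.ideal_mul, Pi.mul_apply, he₁, he, Ideal.span_singleton_mul_span_singleton] at g₂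
  rw [he]
  haveI := (RingHom.flat_algebraMap_iff (R := Γ(S, V)) (S := Γ(X, U) ⧸ Ideal.span {_})).1 g₁
  haveI := (RingHom.flat_algebraMap_iff (R := Γ(S, V)) (S := Γ(X, U) ⧸ Ideal.span {_})).1 g₂
  exact RingHom.flat_algebraMap_iff.2 (Groth.L15.CartierFlat.flat_quot_of_mul hn₁)

end Groth.Agent.S1710
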