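import Groth.Statements.S1391
import Groth.Agent.L20.ModPullback

set_option autoImplicit false
universe u
open FlatMor

set_option linter.style.haveILetI false

namespace Groth.Agent.S1391

open AlgebraicGeometry CategoryTheory Limits in
/-- In a cartesian square X' = S' ×_S X with projections g' : X' → X and f' : X' → S', if a
quasi-coherent O_X-module F is flat over S at the image of a point x' of X', then the pullback of F
to X' is flat over S' at x'. -/
theorem result {X S X' S' : Scheme.{u}} (f : X ⟶ S) (f' : X' ⟶ S') (g' : X' ⟶ X) (g : S' ⟶ S) (hc : IsPullback g' f' f g)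
    (F : X.Modules) (hF : Coh.IsQCoh F) (x' : X') (h : FlatMod.IsFlatOverAt f F (g' x')) :
    FlatMod.IsFlatOverAt f' ((Scheme.Modules.pullback g').obj F) x' := by
  haveI : Coh.IsQCoh F := hF
  obtain ⟨W, V, W', U, eV, eW, eU, eU', hW, hV, hW', hU, hxU, hpo⟩ := Groth.L20.ModStalk.exists_affine_square hc x'
  algebraize [(f.appLE W V eV).hom, (g.appLE W W' eW).hom, (g'.appLE V U eU).hom, (f'.appLE W' U eU').hom,
    ((g'.appLE V U eU).hom.comp (f.appLE W V eV).hom)]
  haveI : IsScalarTower Γ(S, W) Γ(S', W') Γ(X', U) := IsScalarTower.of_algebraMap_eq' (congrArg CommRingCat.Hom.hom hpo.w)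
  haveI : Algebra.IsPushout Γ(S, W) Γ(X, V) Γ(S', W') Γ(X', U) := CommRingCat.isPushout_iff_isPushout.mp hpo
  letI := Module.compHom Γ(F, V) (f.appLE W V eV).hom
  haveI : IsScalarTower Γ(S, W) Γ(X, V) Γ(F, V) := IsScalarTower.of_algebraMap_smul fun _ _ => rfl
  haveI hflat : Module.Flat Γ(S, W) (LocalizedModule (hV.primeIdealOf ⟨g' x', eU hxU⟩).asIdeal.primeCompl Γ(F, V)) :=
    (Groth.L20.ModStalk.isFlatOverAt_iff f F hW hV eV (eU hxU)).mp h
  haveI h2 := Groth.L20.flat_localizedModule_of_isBaseChange (R := Γ(S, W)) (R' := Γ(S', W'))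
    (TensorProduct.mk Γ(X, V) Γ(X', U) Γ(F, V) 1)
    (Groth.L20.isBaseChange_restrictScalars (R := Γ(S, W)) (S := Γ(X, V)) (R' := Γ(S', W')) (S' := Γ(X', U))
      (TensorProduct.isBaseChange Γ(X, V) Γ(F, V) Γ(X', U)))
    (hV.primeIdealOf ⟨g' x', eU hxU⟩).asIdeal.primeCompl (hU.primeIdealOf ⟨x', hxU⟩).asIdeal.primeCompl (fun t ht => by
      have hq := congr($(IsAffineOpen.comap_primeIdealOf_appLE V hV U hU eU hxU).1)
      exact fun hmem => ht (hq.le hmem))
  rw [Groth.L20.ModStalk.isFlatOverAt_iff_sections f' _ hW' eU' hxU]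
  obtain ⟨ψ, hψ⟩ := Groth.L20.ModStalk.exists_isBaseChange_pullback_stalk g' F hV (eU hxU)
  letI : Algebra Γ(X', U) (X'.presheaf.stalk x') := (X'.presheaf.germ U x' hxU).hom.toAlgebra
  letI : Algebra Γ(X, V) (X'.presheaf.stalk x') :=
    ((g'.stalkMap x').hom.comp (X.presheaf.germ V (g' x') (eU hxU)).hom).toAlgebra
  haveI : IsScalarTower Γ(X, V) Γ(X', U) (X'.presheaf.stalk x') := IsScalarTower.of_algebraMap_eq fun a =>
    Groth.L20.ModStalk.stalkMap_germ eU hxU (eU hxU) a
  letI : Module Γ(X, V) (((Scheme.Modules.pullback g').obj F).presheaf.stalk x') :=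
    Module.compHom _ ((g'.stalkMap x').hom.comp (X.presheaf.germ V (g' x') (eU hxU)).hom)
  letI := Groth.L20.ModStalk.stalkModule ((Scheme.Modules.pullback g').obj F) hxU
  haveI : IsScalarTower Γ(X, V) (X'.presheaf.stalk x') (((Scheme.Modules.pullback g').obj F).presheaf.stalk x') :=
    IsScalarTower.of_algebraMap_smul fun _ _ => rfl
  haveI : IsScalarTower Γ(X', U) (X'.presheaf.stalk x') (((Scheme.Modules.pullback g').obj F).presheaf.stalk x') :=
    IsScalarTower.of_algebraMap_smul fun _ _ => rfl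
  haveI : IsScalarTower Γ(X, V) Γ(X', U) (((Scheme.Modules.pullback g').obj F).presheaf.stalk x') :=
    IsScalarTower.of_algebraMap_smul fun a m => by
      show (X'.presheaf.germ U x' hxU).hom ((g'.appLE V U eU).hom a) • m =
        (g'.stalkMap x').hom (X.presheaf.germ V (g' x') (eU hxU) a) • m
      congr 1
      exact (Groth.L20.ModStalk.stalkMap_germ eU hxU (eU hxU) a).symm
  have hb₁ : IsBaseChange Γ(X', U) (TensorProduct.mk Γ(X, V) Γ(X', U) Γ(F, V) 1) := TensorProduct.isBaseChange _ _ _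
  have hb₂ : IsBaseChange (X'.presheaf.stalk x') (hb₁.lift ψ) := by
    refine IsBaseChange.of_comp hb₁ ?_
    rw [show (hb₁.lift ψ).restrictScalars Γ(X, V) ∘ₗ TensorProduct.mk Γ(X, V) Γ(X', U) Γ(F, V) 1 = ψ from
      LinearMap.ext fun m => hb₁.lift_eq ψ m]
    exact hψ
  haveI := hU.isLocalization_stalk ⟨x', hxU⟩
  haveI := (isLocalizedModule_iff_isBaseChange (hU.primeIdealOf ⟨x', hxU⟩).asIdeal.primeCompl
    (X'.presheaf.stalk x') (hb₁.lift ψ)).mpr hb₂
  letI : Module Γ(S', W') (((Scheme.Modules.pullback g').obj F).presheaf.stalk x') :=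
    Module.compHom _ ((X'.presheaf.germ U x' hxU).hom.comp (f'.appLE W' U eU').hom)
  haveI : IsScalarTower Γ(S', W') Γ(X', U) (((Scheme.Modules.pullback g').obj F).presheaf.stalk x') :=
    IsScalarTower.of_algebraMap_smul fun _ _ => rfl
  exact Module.Flat.of_linearEquiv ((IsLocalizedModule.linearEquiv (hU.primeIdealOf ⟨x', hxU⟩).asIdeal.primeCompl
    (hb₁.lift ψ) (LocalizedModule.mkLinearMap (hU.primeIdealOf ⟨x', hxU⟩).asIdeal.primeCompl _)).restrictScalars Γ(S', W'))

end Groth.Agent.S1391
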