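import Groth.Statements.S1392
import Groth.Agent.L20.ModPullback

set_option autoImplicit false
universe u
open FlatMor

set_option linter.style.haveILetI false

namespace Groth.Agent.S1392

open AlgebraicGeometry CategoryTheory Limits in
/-- In a cartesian square X' = S' ×_S X with projections g' : X' → X and f' : X' → S', let F be a
quasi-coherent O_X-module; whenever g : S' → S is flat at f' x' and the pullback of F to X' is
S'-flat at x', F itself is S-flat at g' x'. -/
theorem result {X S X' S' : Scheme.{u}} (f : X ⟶ S) (f' : X' ⟶ S') (g' : X' ⟶ X) (g : S' ⟶ S) (hc : IsPullback g' f' f g)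
    (F : X.Modules) (hF : Coh.IsQCoh F) (x' : X') (hg : (g.stalkMap (f' x')).hom.Flat)
    (h : FlatMod.IsFlatOverAt f' ((Scheme.Modules.pullback g').obj F) x') :
    FlatMod.IsFlatOverAt f F (g' x') := by
  haveI : Coh.IsQCoh F := hF
  obtain ⟨W, V, W', U, eV, eW, eU, eU', hW, hV, hW', hU, hxU, hpo⟩ := Groth.L20.ModStalk.exists_affine_square hc x'
  algebraize [(f.appLE W V eV).hom, (g.appLE W W' eW).hom, (g'.appLE V U eU).hom, (f'.appLE W' U eU').hom,
    ((g'.appLE V U eU).hom.comp (f.appLE W V eV).hom)]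
  haveI : IsScalarTower Γ(S, W) Γ(S', W') Γ(X', U) := IsScalarTower.of_algebraMap_eq' (congrArg CommRingCat.Hom.hom hpo.w)
  haveI : Algebra.IsPushout Γ(S, W) Γ(X, V) Γ(S', W') Γ(X', U) := CommRingCat.isPushout_iff_isPushout.mp hpo
  letI := Module.compHom Γ(F, V) (f.appLE W V eV).hom
  haveI : IsScalarTower Γ(S, W) Γ(X, V) Γ(F, V) := IsScalarTower.of_algebraMap_smul fun _ _ => rfl
  rw [Groth.L20.ModStalk.isFlatOverAt_iff f F hW hV eV (eU hxU)]
  obtain ⟨ψ, hψ⟩ := Groth.L20.ModStalk.exists_isBaseChange_pullback_stalk g' F hV (eU hxU)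
  letI : Algebra Γ(X', U) (X'.presheaf.stalk x') := (X'.presheaf.germ U x' hxU).hom.toAlgebra
  letI : Algebra Γ(X, V) (X'.presheaf.stalk x') :=
    ((g'.stalkMap x').hom.comp (X.presheaf.germ V (g' x') (eU hxU)).hom).toAlgebra
  haveI : IsScalarTower Γ(X, V) Γ(X', U) (X'.presheaf.stalk x') := IsScalarTower.of_algebraMap_eq fun a =>
    Groth.L20.ModStalk.stalkMap_germ eU hxU (eU hxU) a
  haveI := hU.isLocalization_stalk ⟨x', hxU⟩
  -- `A → O_{X', x'}` is flat
  haveI hloc' := hW'.isLocalization_stalk ⟨f' x', eU' hxU⟩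
  letI : Algebra Γ(S', W') (S'.presheaf.stalk (f' x')) := S'.presheaf.algebra_section_stalk ⟨f' x', eU' hxU⟩
  letI : Algebra Γ(S, W) (S'.presheaf.stalk (f' x')) :=
    ((algebraMap Γ(S', W') (S'.presheaf.stalk (f' x'))).comp (algebraMap Γ(S, W) Γ(S', W'))).toAlgebra
  haveI : IsScalarTower Γ(S, W) Γ(S', W') (S'.presheaf.stalk (f' x')) := IsScalarTower.of_algebraMap_eq fun _ => rfl
  haveI hS' : Module.Flat Γ(S, W) (S'.presheaf.stalk (f' x')) := by
    have hw' : g (f' x') ∈ W := eW (eU' hxU)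
    letI := S.presheaf.algebra_section_stalk ⟨g (f' x'), hw'⟩
    haveI := hW.isLocalization_stalk ⟨g (f' x'), hw'⟩
    letI : Algebra (S.presheaf.stalk (g (f' x'))) (S'.presheaf.stalk (f' x')) := (g.stalkMap (f' x')).hom.toAlgebra
    haveI : IsScalarTower Γ(S, W) (S.presheaf.stalk (g (f' x'))) (S'.presheaf.stalk (f' x')) :=
      IsScalarTower.of_algebraMap_eq fun r => (Groth.L20.ModStalk.stalkMap_germ eW (eU' hxU) hw' r).symm
    haveI : Module.Flat (S.presheaf.stalk (g (f' x'))) (S'.presheaf.stalk (f' x')) := hg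
    haveI : Module.Flat Γ(S, W) (S.presheaf.stalk (g (f' x'))) :=
      IsLocalization.flat _ (hW.primeIdealOf ⟨g (f' x'), hw'⟩).asIdeal.primeCompl
    exact Module.Flat.trans Γ(S, W) (S.presheaf.stalk (g (f' x'))) _
  haveI hflatA : Module.Flat Γ(X, V) (X'.presheaf.stalk x') := by
    have hq : (hU.primeIdealOf ⟨x', hxU⟩).asIdeal.comap (algebraMap Γ(S', W') Γ(X', U)) =
        (hW'.primeIdealOf ⟨f' x', eU' hxU⟩).asIdeal :=
      congr($(IsAffineOpen.comap_primeIdealOf_appLE W' hW' U hU eU' hxU).1)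
    haveI : IsLocalization.AtPrime (S'.presheaf.stalk (f' x'))
        ((hU.primeIdealOf ⟨x', hxU⟩).asIdeal.comap (algebraMap Γ(S', W') Γ(X', U))) := by
      simp only [hq]
      exact hloc'
    haveI : Module.Flat Γ(S, W)
        (Localization.AtPrime ((hU.primeIdealOf ⟨x', hxU⟩).asIdeal.comap (algebraMap Γ(S', W') Γ(X', U)))) :=
      Module.Flat.of_linearEquiv ((IsLocalization.algEquiv
        ((hU.primeIdealOf ⟨x', hxU⟩).asIdeal.comap (algebraMap Γ(S', W') Γ(X', U))).primeCompl _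
        (S'.presheaf.stalk (f' x'))).toLinearEquiv.restrictScalars Γ(S, W))
    haveI := Groth.L20.flat_localization_of_isPushout (R := Γ(S, W)) (S := Γ(X, V)) (R' := Γ(S', W'))
      (S' := Γ(X', U)) (hU.primeIdealOf ⟨x', hxU⟩).asIdeal
    exact Module.Flat.of_linearEquiv ((IsLocalization.algEquiv (hU.primeIdealOf ⟨x', hxU⟩).asIdeal.primeCompl
      (X'.presheaf.stalk x') (Localization.AtPrime (hU.primeIdealOf ⟨x', hxU⟩).asIdeal)).toLinearEquiv.restrictScalars Γ(X, V))
  -- the stalk of the pullback is flat over the base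
  letI : Algebra Γ(S, W) (X'.presheaf.stalk x') :=
    ((algebraMap Γ(X, V) (X'.presheaf.stalk x')).comp (algebraMap Γ(S, W) Γ(X, V))).toAlgebra
  haveI : IsScalarTower Γ(S, W) Γ(X, V) (X'.presheaf.stalk x') := IsScalarTower.of_algebraMap_eq fun _ => rfl
  letI : Module Γ(X, V) (((Scheme.Modules.pullback g').obj F).presheaf.stalk x') :=
    Module.compHom _ (algebraMap Γ(X, V) (X'.presheaf.stalk x'))
  haveI : IsScalarTower Γ(X, V) (X'.presheaf.stalk x') (((Scheme.Modules.pullback g').obj F).presheaf.stalk x') :=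
    IsScalarTower.of_algebraMap_smul fun _ _ => rfl
  letI : Module Γ(S, W) (((Scheme.Modules.pullback g').obj F).presheaf.stalk x') :=
    Module.compHom _ (algebraMap Γ(S, W) (X'.presheaf.stalk x'))
  haveI : IsScalarTower Γ(S, W) Γ(X, V) (((Scheme.Modules.pullback g').obj F).presheaf.stalk x') :=
    IsScalarTower.of_algebraMap_smul fun _ _ => rfl
  letI := FlatMod.moduleStalkOver f' ((Scheme.Modules.pullback g').obj F) x'
  haveI : Module.Flat (S'.presheaf.stalk (f' x')) (((Scheme.Modules.pullback g').obj F).presheaf.stalk x') := h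
  haveI : IsScalarTower Γ(S, W) (S'.presheaf.stalk (f' x')) (((Scheme.Modules.pullback g').obj F).presheaf.stalk x') :=
    IsScalarTower.of_algebraMap_smul fun r m => by
      show (f'.stalkMap x').hom (algebraMap Γ(S', W') (S'.presheaf.stalk (f' x')) (algebraMap Γ(S, W) Γ(S', W') r)) • m =
        algebraMap Γ(X, V) (X'.presheaf.stalk x') (algebraMap Γ(S, W) Γ(X, V) r) • m
      congr 1
      rw [IsScalarTower.algebraMap_apply Γ(X, V) Γ(X', U) (X'.presheaf.stalk x'),
        ← IsScalarTower.algebraMap_apply Γ(S, W) Γ(X, V) Γ(X', U), IsScalarTower.algebraMap_apply Γ(S, W) Γ(S', W') Γ(X', U)]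
      exact Groth.L20.ModStalk.stalkMap_germ eU' hxU (eU' hxU) _
  haveI : Module.Flat Γ(S, W) (((Scheme.Modules.pullback g').obj F).presheaf.stalk x') :=
    Module.Flat.trans Γ(S, W) (S'.presheaf.stalk (f' x')) _
  refine Groth.L20.flat_localizedModule_of_descent (T := X'.presheaf.stalk x') ψ hψ _ fun htop => ?_
  have hle : (hV.primeIdealOf ⟨g' x', eU hxU⟩).asIdeal.map (algebraMap Γ(X, V) (X'.presheaf.stalk x')) ≤
      IsLocalRing.maximalIdeal (X'.presheaf.stalk x') := by
    refine Ideal.map_le_iff_le_comap.mpr fun a ha => ?_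
    rw [Ideal.mem_comap, IsScalarTower.algebraMap_apply Γ(X, V) Γ(X', U) (X'.presheaf.stalk x'),
      IsLocalization.AtPrime.to_map_mem_maximal_iff (X'.presheaf.stalk x') (hU.primeIdealOf ⟨x', hxU⟩).asIdeal,
      ← Ideal.mem_comap]
    exact (congr($(IsAffineOpen.comap_primeIdealOf_appLE V hV U hU eU hxU).1)).ge ha
  exact (IsLocalRing.maximalIdeal.isMaximal _).ne_top (top_le_iff.mp (htop.ge.trans hle))

end Groth.Agent.S1392
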