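import Groth.Statements.S1684
import Groth.Agent.L22.Div.Stalk

set_option autoImplicit false
universe u
open CategoryTheory CategoryTheory.Limits AlgebraicGeometry

namespace Groth.Agent.S1684

open Groth.L22

/-- Let X be a locally Noetherian scheme and 𝓘 a quasi-coherent ideal sheaf whose closed subscheme D is
integral, of codimension 1 in X (the local ring of X at the generic point of D has dimension 1), and
such that the local ring of X at every point of D is a unique factorisation domain. Then 𝓘 is the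
ideal sheaf of an effective Cartier divisor. -/
theorem result (X : Scheme.{u}) [IsLocallyNoetherian X] (𝓘 : X.IdealSheafData)
    [IsIntegral 𝓘.subscheme]
    (hcodim : ringKrullDim (X.presheaf.stalk (𝓘.subschemeι (genericPoint ↥𝓘.subscheme))) = 1)
    (hufd : ∀ x : ↥X, x ∈ 𝓘.support → IsDomain (X.presheaf.stalk x) ∧ UniqueFactorizationMonoid (X.presheaf.stalk x)) :
    BlowUp.IsEffCartierIdeal 𝓘 := by
  refine Div.isEffCartier_of_stalks 𝓘 fun x hx U hxU => ?_
  obtain ⟨hdom, hu⟩ := hufd x hx
  have hξ : IsGenericPoint (𝓘.subschemeι (genericPoint ↥𝓘.subscheme)) (𝓘.support : Set X) := by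
    have h := (genericPoint_spec 𝓘.subscheme).image 𝓘.subschemeι.continuous
    rwa [Set.image_univ, 𝓘.range_subschemeι, 𝓘.support.isClosed.closure_eq] at h
  have hs := hξ.specializes hx
  have hξU := hs.mem_open U.1.2 hxU
  have hP := CartierDecomp.primeIdealOf_generic hξ U hξU
  have hle := LocalDim.le_of_specializes U.2 hξU hxU hs
  letI : Algebra Γ(X, U.1) (X.presheaf.stalk x) := (X.presheaf.germ U.1 x hxU).hom.toAlgebra
  haveI : IsLocalization.AtPrime (X.presheaf.stalk x) (U.2.primeIdealOf ⟨x, hxU⟩).asIdeal :=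
    U.2.isLocalization_stalk ⟨x, hxU⟩
  haveI hp : (𝓘.ideal U).IsPrime := hP ▸ (U.2.primeIdealOf _).2
  have hd : Disjoint ((U.2.primeIdealOf ⟨x, hxU⟩).asIdeal.primeCompl : Set Γ(X, U.1)) (𝓘.ideal U) := by
    rw [Set.disjoint_left]
    exact fun c hc hc' => hc (hle (hP ▸ hc'))
  haveI : ((𝓘.ideal U).map (algebraMap Γ(X, U.1) (X.presheaf.stalk x))).IsPrime :=
    IsLocalization.isPrime_of_isPrime_disjoint _ _ _ hp hd
  have hh : (Div.stalkIdeal 𝓘 U x hxU).height = 1 := by
    show ((𝓘.ideal U).map (algebraMap Γ(X, U.1) (X.presheaf.stalk x))).height = 1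
    rw [IsLocalization.height_map_of_disjoint _ _ hd, ← hP]
    have h := LocalDim.dim_stalk_eq_height U.2 hξU
    rw [hcodim] at h
    exact_mod_cast h.symm
  haveI : (Div.stalkIdeal 𝓘 U x hxU).IsPrime := ‹_›
  obtain ⟨a, ha⟩ := UniqueFactorizationMonoid.isPrincipal_of_height_eq_one hh
  refine ⟨a, ha, mem_nonZeroDivisors_of_ne_zero fun h0 => ?_⟩
  rw [ha, h0] at hh
  simp at hh

end Groth.Agent.S1684
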