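import Groth.Statements.S16086
import Groth.Agent.L15.Ref.Rank1
-- import your own Groth.Agent.* helpers here

set_option autoImplicit false
universe u
open CategoryTheory CategoryTheory.Limits AlgebraicGeometry TopologicalSpace
open SDiv

namespace Groth.Agent.S16086

/-- The class map is well defined and injective: fix a scheme X that is integral, normal and locally
Noetherian, and write η for its generic point; suppose F and G are rank one coherent reflexive
O_X-modules and let s ∈ F_η and t ∈ G_η be nonzero rational sections. At a point x of codimension 1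
the stalks F_x, G_x are free of rank one over the discrete valuation ring O_{X,x}, so s and t have
orders ord_{x,F}(s), ord_{x,G}(t). Then F ≅ G if and only if the Weil divisors of s and t are
linearly equivalent: for some nonzero rational function f one has ord_{x,F}(s) = ord_{x,G}(t) +
ord_x(f) at every point x of codimension 1. -/
theorem result (X : Scheme.{u}) [IsIntegral X] [IsLocallyNoetherian X]
    (hX : Pi1.IsNormalScheme X) (F G : X.Modules) (hF : RefHull.IsRef1 F) (hG : RefHull.IsRef1 G)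
    (s : Cyc.secFibre F (genericPoint ↥X)) (hs : s ≠ 0) (t : Cyc.secFibre G (genericPoint ↥X)) (ht : t ≠ 0) :
    Nonempty (F ≅ G) ↔
      ∃ f : ↑X.functionField, f ≠ 0 ∧
        ∀ (x : ↥X), Order.coheight x = 1 →
          Cyc.secOrdAt F (genericPoint ↥X) x ((genericPoint_spec ↥X).specializes (Set.mem_univ x)) s =
            Cyc.secOrdAt G (genericPoint ↥X) x ((genericPoint_spec ↥X).specializes (Set.mem_univ x)) t +
              Scheme.ord f x := by
  classical
  obtain ⟨s', rfl⟩ := Submodule.mkQ_surjective _ s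
  obtain ⟨t', rfl⟩ := Submodule.mkQ_surjective _ t
  have hs' : s' ≠ 0 := fun h => hs (by rw [h, map_zero])
  have ht' : t' ≠ 0 := fun h => ht (by rw [h, map_zero])
  have bs := Groth.L15.Ref.bijective_smul_of_ne_zero hF.2.2 hs'
  have bt := Groth.L15.Ref.bijective_smul_of_ne_zero hG.2.2 ht'
  have hsub : ∀ {M : X.Modules} (v : M.presheaf.stalk (genericPoint ↥X)),
      ((0 : X.functionField) : X.presheaf.stalk (genericPoint ↥X)) • v = 0 := fun v => zero_smul _ v
  constructor
  · rintro ⟨α⟩
    obtain ⟨k, hk⟩ := bt.2 (RefHull.stalkMapₗ α.hom (genericPoint ↥X) s')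
    have hinv : ∀ v, RefHull.stalkMapₗ α.inv (genericPoint ↥X) (RefHull.stalkMapₗ α.hom (genericPoint ↥X) v) = v := fun v => by
      rw [← LinearMap.comp_apply, ← Groth.L15.Ref.stalkMapₗ_comp, α.hom_inv_id, Groth.L15.Ref.stalkMapₗ_id]; rfl
    have hk0 : (k : X.functionField) ≠ 0 := by
      intro h0
      apply hs'
      rw [← hinv s', ← hk]
      show RefHull.stalkMapₗ α.inv _ ((k : X.presheaf.stalk (genericPoint ↥X)) • t') = 0
      rw [map_smul, show k = 0 from h0, zero_smul]
    refine ⟨k, hk0, fun x hx => ?_⟩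
    haveI := Groth.L15.CDivLib.isDVR_of_coheight hX hx
    obtain ⟨a, ha, ha0⟩ := Groth.L15.Ref.exists_gen_dvr hF x
    obtain ⟨φ, hφ⟩ := Groth.L15.Ref.exists_coeff hF.2.2 ha0 s'
    have hφ0 : φ ≠ 0 := fun h => hs' (by rw [hφ, h]; exact hsub _)
    have hsurj : Function.Surjective (RefHull.stalkMapₗ α.hom x) := fun b => ⟨RefHull.stalkMapₗ α.inv x b, by
      rw [← LinearMap.comp_apply, ← Groth.L15.Ref.stalkMapₗ_comp, α.inv_hom_id, Groth.L15.Ref.stalkMapₗ_id]; rfl⟩
    have hb : Submodule.span (X.presheaf.stalk x) {RefHull.stalkMapₗ α.hom x a} = ⊤ := by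
      rw [← Set.image_singleton, Submodule.span_image, ha, Submodule.map_top, LinearMap.range_eq_top.2 hsurj]
    have htb : t' = (((k : X.functionField)⁻¹ * φ : X.functionField) : X.presheaf.stalk (genericPoint ↥X)) •
        Groth.L15.Ref.toEta G x (RefHull.stalkMapₗ α.hom x a) := by
      have h1 : (k : X.presheaf.stalk (genericPoint ↥X)) • t' =
          (φ : X.presheaf.stalk (genericPoint ↥X)) • Groth.L15.Ref.toEta G x (RefHull.stalkMapₗ α.hom x a) :=
        (hk.trans (congrArg _ hφ)).trans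
          ((map_smul _ _ _).trans (congrArg _ (Groth.L15.Ref.toEta_stalkMapₗ α.hom x a).symm))
      have h2 := congrArg (fun v => (((k : X.functionField)⁻¹ : X.functionField) : X.presheaf.stalk (genericPoint ↥X)) • v) h1
      simp only [smul_smul] at h2
      refine Eq.trans ?_ h2
      rw [show (((k : X.functionField)⁻¹ : X.functionField) : X.presheaf.stalk (genericPoint ↥X)) * k = 1 from
        inv_mul_cancel₀ hk0, one_smul]
    have hb0 : Groth.L15.Ref.toEta G x (RefHull.stalkMapₗ α.hom x a) ≠ 0 := fun h => ht' (by rw [htb, h, smul_zero])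
    have hne : (k : X.functionField)⁻¹ * φ ≠ 0 := mul_ne_zero (inv_ne_zero hk0) hφ0
    rw [hφ, htb]
    refine (Groth.L15.Ref.secOrdAt_eq hF.2.2 hx _ ha ha0 hφ0).trans ?_
    rw [show Cyc.secOrdAt G _ x _ (Submodule.mkQ _ _) = _ from Groth.L15.Ref.secOrdAt_eq hG.2.2 hx _ hb hb0 hne]
    have h3 := Scheme.ord_mul (X := X) (x := x) hne hk0
    rw [mul_right_comm, inv_mul_cancel₀ hk0, one_mul] at h3
    exact h3
  · rintro ⟨f, hf, hord⟩
    have mkT : ∀ {F G : X.Modules} (hF : RefHull.IsRef1 F) (hG : RefHull.IsRef1 G)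
        (s' : F.presheaf.stalk (genericPoint ↥X)) (t' : G.presheaf.stalk (genericPoint ↥X))
        (hs' : s' ≠ 0) (ht' : t' ≠ 0) (f : X.functionField) (hf : f ≠ 0),
        (∀ x : ↥X, Order.coheight x = 1 →
          Cyc.secOrdAt F (genericPoint ↥X) x ((genericPoint_spec ↥X).specializes (Set.mem_univ x)) (Submodule.Quotient.mk s') =
            Cyc.secOrdAt G (genericPoint ↥X) x ((genericPoint_spec ↥X).specializes (Set.mem_univ x)) (Submodule.Quotient.mk t') +
              Scheme.ord f x) →
        ∃ ψ : F ⟶ G, RefHull.stalkMapₗ ψ (genericPoint ↥X) s' = (f : X.presheaf.stalk (genericPoint ↥X)) • t' := by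
      intro F G hF hG s' t' hs' ht' f hf hord
      let e : X.presheaf.stalk (genericPoint ↥X) ≃ₗ[X.presheaf.stalk (genericPoint ↥X)] F.presheaf.stalk (genericPoint ↥X) :=
        LinearEquiv.ofBijective (LinearMap.toSpanSingleton _ _ s') (Groth.L15.Ref.bijective_smul_of_ne_zero hF.2.2 hs')
      let T := (LinearMap.toSpanSingleton _ _ ((f : X.presheaf.stalk (genericPoint ↥X)) • t')).comp e.symm.toLinearMap
      have hT : T s' = (f : X.presheaf.stalk (genericPoint ↥X)) • t' := by
        have h1 : e 1 = s' := one_smul (X.presheaf.stalk (genericPoint ↥X)) s'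
        show LinearMap.toSpanSingleton _ _ _ (e.symm s') = _
        rw [← h1, LinearEquiv.symm_apply_apply, LinearMap.toSpanSingleton_apply, one_smul]
      obtain ⟨ψ, hψ⟩ := Groth.L15.Ref.exists_hom hX hG.1 hG.2.1 T fun z hz u => by
        haveI := Groth.L15.CDivLib.isDVR_of_coheight hX hz
        obtain ⟨a, ha, ha0⟩ := Groth.L15.Ref.exists_gen_dvr hF z
        obtain ⟨b, hb, hb0⟩ := Groth.L15.Ref.exists_gen_dvr hG z
        obtain ⟨φ, hφ⟩ := Groth.L15.Ref.exists_coeff hF.2.2 ha0 s'
        obtain ⟨ρ, hρ⟩ := Groth.L15.Ref.exists_coeff hG.2.2 hb0 t'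
        have hφ0 : φ ≠ 0 := fun h => hs' (by rw [hφ, h]; exact zero_smul _ _)
        have hρ0 : ρ ≠ 0 := fun h => ht' (by rw [hρ, h]; exact zero_smul _ _)
        have h0 := hord z hz
        rw [hφ, hρ, Groth.L15.Ref.secOrdAt_eq hF.2.2 hz _ ha ha0 hφ0,
          Groth.L15.Ref.secOrdAt_eq hG.2.2 hz _ hb hb0 hρ0] at h0
        obtain ⟨r, rfl⟩ := Submodule.mem_span_singleton.1 (ha.ge (Submodule.mem_top (x := u)))
        rw [Groth.L15.Ref.toEta_smul, map_smul]
        let γ : X.functionField := φ⁻¹ * (f * ρ)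
        have hTa : T (Groth.L15.Ref.toEta F z a) = (γ : X.presheaf.stalk (genericPoint ↥X)) • Groth.L15.Ref.toEta G z b := by
          have h1 := congrArg T hφ
          rw [hT, hρ, map_smul, smul_smul] at h1
          have h2 := congrArg (fun v => ((φ⁻¹ : X.functionField) : X.presheaf.stalk (genericPoint ↥X)) • v) h1
          simp only [smul_smul] at h2
          rw [show ((φ⁻¹ : X.functionField) : X.presheaf.stalk (genericPoint ↥X)) * φ = 1 from inv_mul_cancel₀ hφ0, one_smul] at h2
          exact h2.symm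
        have hγ : 0 ≤ Scheme.ord γ z := by
          have hfρ : f * ρ ≠ 0 := mul_ne_zero hf hρ0
          have h1 := Scheme.ord_mul (X := X) (x := z) hφ0 (mul_ne_zero (inv_ne_zero hφ0) hfρ)
          rw [mul_inv_cancel_left₀ hφ0, Scheme.ord_mul hf hρ0] at h1
          change Scheme.ord f z + Scheme.ord ρ z = Scheme.ord φ z + Scheme.ord γ z at h1
          omega
        obtain ⟨w, hw⟩ := Groth.L15.Ref.smul_gen_mem_range hz b fun _ => hγ
        exact ⟨r • w, by rw [Groth.L15.Ref.toEta_smul, hw, hTa]⟩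
      exact ⟨ψ, by rw [hψ, hT]⟩
    obtain ⟨ψ, hψ⟩ := mkT hF hG s' t' hs' ht' f hf hord
    obtain ⟨ψ', hψ'⟩ := mkT hG hF t' s' ht' hs' f⁻¹ (inv_ne_zero hf) fun x hx => by
      have h1 : Cyc.secOrdAt F (genericPoint ↥X) x ((genericPoint_spec ↥X).specializes (Set.mem_univ x)) (Submodule.Quotient.mk s') =
          Cyc.secOrdAt G (genericPoint ↥X) x ((genericPoint_spec ↥X).specializes (Set.mem_univ x)) (Submodule.Quotient.mk t') +
            Scheme.ord f x := hord x hx
      have h2 := Scheme.ord_mul (X := X) (x := x) hf (inv_ne_zero hf)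
      rw [mul_inv_cancel₀ hf, show Scheme.ord (1 : X.functionField) x = 0 by
        rw [← map_one (Groth.L15.CDivLib.am x)]; exact Groth.L15.CDivLib.ord_eq_zero_of_isUnit isUnit_one] at h2
      change 0 = Scheme.ord f x + Scheme.ord f⁻¹ x at h2
      change Cyc.secOrdAt G _ x _ (Submodule.Quotient.mk t') = _
      omega
    haveI : Coh.IsQCoh F := hF.1.1
    haveI : Coh.IsQCoh G := hG.1.1
    refine ⟨⟨ψ, ψ', Groth.L15.Ref.hom_ext_eta (Groth.L15.Ref.isTorsionFree_stalk hF.1 hF.2.1) ?_,
      Groth.L15.Ref.hom_ext_eta (Groth.L15.Ref.isTorsionFree_stalk hG.1 hG.2.1) ?_⟩⟩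
    · rw [Groth.L15.Ref.stalkMapₗ_comp, Groth.L15.Ref.stalkMapₗ_id]
      refine LinearMap.ext fun v => ?_
      obtain ⟨c, rfl⟩ := bs.2 v
      show RefHull.stalkMapₗ ψ' _ (RefHull.stalkMapₗ ψ _ (c • s')) = c • s'
      rw [map_smul, hψ, map_smul, map_smul, hψ', smul_smul (f : X.presheaf.stalk (genericPoint ↥X)),
        show ((f : X.functionField) : X.presheaf.stalk (genericPoint ↥X)) * ((f⁻¹ : X.functionField) : X.presheaf.stalk (genericPoint ↥X)) = 1
          from mul_inv_cancel₀ hf, one_smul]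
    · rw [Groth.L15.Ref.stalkMapₗ_comp, Groth.L15.Ref.stalkMapₗ_id]
      refine LinearMap.ext fun v => ?_
      obtain ⟨c, rfl⟩ := bt.2 v
      show RefHull.stalkMapₗ ψ _ (RefHull.stalkMapₗ ψ' _ (c • t')) = c • t'
      rw [map_smul, hψ', map_smul, map_smul, hψ, smul_smul ((f⁻¹ : X.functionField) : X.presheaf.stalk (genericPoint ↥X)),
        show ((f⁻¹ : X.functionField) : X.presheaf.stalk (genericPoint ↥X)) * (f : X.presheaf.stalk (genericPoint ↥X)) = 1
          from inv_mul_cancel₀ hf, one_smul]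

end Groth.Agent.S16086
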