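import Groth.Statements.S16090
import Groth.Agent.L15.Ref.Tensor
-- import your own Groth.Agent.* helpers here

set_option autoImplicit false
universe u
open CategoryTheory CategoryTheory.Limits AlgebraicGeometry TopologicalSpace
open SDiv

namespace Groth.Agent.S16090

/-- The class map is additive for the reflexive tensor product: suppose X is a scheme that is integral,
normal and locally Noetherian, write η for its generic point, and take F and G to be rank one
coherent reflexive O_X-modules with s ∈ F_η, t ∈ G_η nonzero rational sections, with orders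
ord_{x,F}(s), ord_{x,G}(t) at the points x of codimension 1 taken with respect to generators of the
free rank one stalks. Then the reflexive hull (F ⊗_{O_X} G)^** admits a nonzero rational section w
whose order at every codimension-1 point x is ord_{x,F}(s) + ord_{x,G}(t); so the Weil divisor class
of (F ⊗ G)^** is the sum of the classes of F and G. -/
theorem result (X : Scheme.{u}) [IsIntegral X] [IsLocallyNoetherian X]
    (hX : Pi1.IsNormalScheme X) (F G : X.Modules) (hF : RefHull.IsRef1 F) (hG : RefHull.IsRef1 G)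
    (s : Cyc.secFibre F (genericPoint ↥X)) (hs : s ≠ 0) (t : Cyc.secFibre G (genericPoint ↥X)) (ht : t ≠ 0) :
    ∃ w : Cyc.secFibre (RefHull.ddual (CohB1.tensorMod F G)) (genericPoint ↥X), w ≠ 0 ∧
      ∀ (x : ↥X), Order.coheight x = 1 →
        Cyc.secOrdAt (RefHull.ddual (CohB1.tensorMod F G)) (genericPoint ↥X) x
            ((genericPoint_spec ↥X).specializes (Set.mem_univ x)) w =
          Cyc.secOrdAt F (genericPoint ↥X) x ((genericPoint_spec ↥X).specializes (Set.mem_univ x)) s +
            Cyc.secOrdAt G (genericPoint ↥X) x ((genericPoint_spec ↥X).specializes (Set.mem_univ x)) t := by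
  classical
  obtain ⟨s', rfl⟩ := Submodule.mkQ_surjective _ s
  obtain ⟨t', rfl⟩ := Submodule.mkQ_surjective _ t
  have hs' : s' ≠ 0 := fun h => hs (by rw [h, map_zero])
  have ht' : t' ≠ 0 := fun h => ht (by rw [h, map_zero])
  have bs := Groth.L15.Ref.bijective_smul_of_ne_zero hF.2.2 hs'
  have bt := Groth.L15.Ref.bijective_smul_of_ne_zero hG.2.2 ht'
  have bst := Groth.L15.Ref.bijective_smul_tst bs bt
  have hT := Groth.L15.Ref.isCoh_tensorMod hF.1 hG.1
  have hR := Groth.L15.Ref.isRef1_refTensor hF hG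
  have hne : Groth.L15.Ref.tst F G (genericPoint ↥X) s' t' ≠ 0 := fun h => by
    have h1 := bst.1 (show (fun r => r • Groth.L15.Ref.tst F G (genericPoint ↥X) s' t') (1 : X.presheaf.stalk (genericPoint ↥X)) =
      (fun r => r • Groth.L15.Ref.tst F G (genericPoint ↥X) s' t') 0 by simp only [h, smul_zero])
    exact one_ne_zero (α := X.functionField) h1
  let w := RefHull.stalkMapₗ (RefHull.bidualMap (CohB1.tensorMod F G)) (genericPoint ↥X)
    (Groth.L15.Ref.tst F G (genericPoint ↥X) s' t')
  have hw : w ≠ 0 := fun h => hne (Groth.L15.Ref.bidual_eta_injective hT (h.trans (map_zero _).symm))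
  refine ⟨Submodule.Quotient.mk w, fun h => hw ((Groth.L15.SecOrd.mk_bijective _).1 (h.trans (Submodule.Quotient.mk_zero _).symm)),
    fun x hx => ?_⟩
  haveI := Groth.L15.CDivLib.isDVR_of_coheight hX hx
  obtain ⟨a, ha, ha0⟩ := Groth.L15.Ref.exists_gen_dvr hF x
  obtain ⟨b, hb, hb0⟩ := Groth.L15.Ref.exists_gen_dvr hG x
  obtain ⟨φ, hφ⟩ := Groth.L15.Ref.exists_coeff hF.2.2 ha0 s'
  obtain ⟨ρ, hρ⟩ := Groth.L15.Ref.exists_coeff hG.2.2 hb0 t'
  have hφ0 : φ ≠ 0 := fun h => hs' (by rw [hφ, h]; exact zero_smul _ _)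
  have hρ0 : ρ ≠ 0 := fun h => ht' (by rw [hρ, h]; exact zero_smul _ _)
  let g := RefHull.stalkMapₗ (RefHull.bidualMap (CohB1.tensorMod F G)) x (Groth.L15.Ref.tst F G x a b)
  have hg : Submodule.span (X.presheaf.stalk x) {g} = ⊤ := by
    show Submodule.span _ {RefHull.stalkMapₗ _ x _} = ⊤
    rw [← Set.image_singleton, Submodule.span_image, Groth.L15.Ref.span_tst ha hb, Submodule.map_top,
      LinearMap.range_eq_top.2 (Groth.L15.Ref.bidual_surjective_of_dvr hT x)]
  have hwg : w = ((φ * ρ : X.functionField) : X.presheaf.stalk (genericPoint ↥X)) •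
      Groth.L15.Ref.toEta (RefHull.ddual (CohB1.tensorMod F G)) x g := by
    refine Eq.trans (congrArg (RefHull.stalkMapₗ (RefHull.bidualMap (CohB1.tensorMod F G)) (genericPoint ↥X)) ?_)
      ((map_smul _ _ _).trans (congrArg _ (Groth.L15.Ref.toEta_stalkMapₗ _ x _).symm))
    rw [Groth.L15.Ref.toEta_tst, hφ, hρ, map_smul, map_smul, LinearMap.smul_apply, smul_smul]
    exact congrArg (fun c : X.presheaf.stalk (genericPoint ↥X) => c • _) (mul_comm (ρ : X.functionField) φ)
  have hg0 : Groth.L15.Ref.toEta (RefHull.ddual (CohB1.tensorMod F G)) x g ≠ 0 := fun h => hw (by rw [hwg, h, smul_zero])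
  rw [hwg, Groth.L15.Ref.secOrdAt_eq hR.2.2 hx _ hg hg0 (mul_ne_zero hφ0 hρ0), Scheme.ord_mul hφ0 hρ0, hφ, hρ]
  show Scheme.ord φ x + Scheme.ord ρ x = Cyc.secOrdAt F _ x _ (Submodule.Quotient.mk _) + Cyc.secOrdAt G _ x _ (Submodule.Quotient.mk _)
  rw [Groth.L15.Ref.secOrdAt_eq hF.2.2 hx _ ha ha0 hφ0, Groth.L15.Ref.secOrdAt_eq hG.2.2 hx _ hb hb0 hρ0]

end Groth.Agent.S16090
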