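import Groth.Statements.S10352
import Groth.Agent.L23.Decent2
import Groth.Agent.L23.MorCalc

set_option autoImplicit false
set_option backward.isDefEq.respectTransparency.types false
universe u
open CategoryTheory CategoryTheory.Limits AlgebraicGeometry Topology TopologicalSpace
open AlgSp

namespace Groth.Agent.S10352

/-- Let S be a scheme, X and Y algebraic spaces over S, and f : X ⟶ Y an etale morphism. If Y is decent
then X is decent. -/
theorem result {S : Scheme.{u}} {X Y : AlgSp.Space S} (f : X ⟶ Y)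
    (hf : AlgSp.IsEtaleMor f.hom) (hY : AlgSp.IsDecent Y.obj) : AlgSp.IsDecent X.obj := by
  intro x
  obtain ⟨p, hp, hm, hq⟩ := hY (AlgSp.Points.map f.hom x)
  have hcomp : ∀ (U : Over S) (φ : (AlgSp.yon S).obj U ⟶ X.obj), AlgSp.RepWith @Etale φ → AlgSp.RepWith @Etale (φ ≫ f.hom) :=
    fun U φ hφ => Groth.L23.repWith_of_locP Groth.L23.etLocal_etale Y.property (Y.property.representable_from_yon _)
      (Groth.L23.locP_comp Groth.L23.etLocal_etale (AlgSp.IsAlgSpace.yon_obj U) X.property Y.property
        (Groth.L23.locP_of_repWith Groth.L23.etLocal_etale hφ)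
        ((Groth.L23.isEtaleMor_iff_locP X.property Y.property _).1 hf))
  obtain ⟨U, φ, hU, hφ, ⟨u, rfl⟩⟩ := Groth.L23.exists_affine_etale_nhd X.property x
  obtain ⟨R, t, s, sq⟩ := Groth.L23.exists_isPullback_of_representable (X.property.representable_from_yon φ) φ
  obtain ⟨R', t', s', sq'⟩ :=
    Groth.L23.exists_isPullback_of_representable (Y.property.representable_from_yon (φ ≫ f.hom)) (φ ≫ f.hom)
  obtain ⟨l, hl₁, hl₂⟩ := Groth.L23.exists_lift_yon sq' t s (by rw [← Category.assoc, sq.w, Category.assoc])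
  have : Mono ((AlgSp.yon S).map l) := ⟨fun a b e => sq.hom_ext
    (by rw [← hl₁, Functor.map_comp, reassoc_of% e]) (by rw [← hl₂, Functor.map_comp, reassoc_of% e])⟩
  have : Mono l := (AlgSp.yon S).mono_of_mono_map this
  have : Mono l.left := inferInstanceAs (Mono ((Over.forget S).map l))
  have hu : AlgSp.Points.ofPt (φ ≫ f.hom) u = AlgSp.Points.mk p := by rw [hp, ← AlgSp.Points.map_ofPt]
  obtain ⟨m, hm', hmm⟩ := Groth.L23.Pt.exists_mono_of_finite_rel X.property φ u u rfl sq
    (((Groth.L23.Pt.finite_rel_of_mono Y.property p _ (hcomp U φ hφ) u u hu hu sq').preimage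
      l.left.injective.injOn).subset fun r hr => ⟨by
        show s'.left (l.left r) = u
        rw [← Scheme.Hom.comp_apply, ← Over.comp_left, hl₂]; exact hr.1, by
        show t'.left (l.left r) = u
        rw [← Scheme.Hom.comp_apply, ← Over.comp_left, hl₁]; exact hr.2⟩)
  refine ⟨m, hm', hmm, (Groth.L23.Pt.qc_iff_finite_fibres X.property m).2 fun V ψ hV hψ => ?_⟩
  refine ((Groth.L23.Pt.qc_iff_finite_fibres Y.property p).1 hq V (ψ ≫ f.hom) hV (hcomp V ψ hψ)).subset fun v hv => ?_
  show AlgSp.Points.ofPt (ψ ≫ f.hom) v = _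
  rw [← AlgSp.Points.map_ofPt, show AlgSp.Points.ofPt ψ v = _ from hv, hm', hp]


end Groth.Agent.S10352
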