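import Groth.Statements.S5795
import Groth.Agent.L06.Dim

set_option autoImplicit false
universe u
open TopDim

namespace Groth.Agent.S5795

/-- Let X be a Noetherian Kolmogoroff space and x a point of X. Then x is isolated in X if and only if
dim_x(X) = 0. -/
theorem result (X : Type u) [TopologicalSpace X]
    [TopologicalSpace.NoetherianSpace X] [T0Space X] (x : X) :
    IsOpen ({x} : Set X) ↔ FlatMor.localDim X x = 0 := by
  have hne : ∀ U : {U : TopologicalSpace.Opens X // x ∈ U}, (0 : WithBot ℕ∞) ≤ topologicalKrullDim (U.1 : Set X) :=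
    fun U => have : Nonempty (U.1 : Set X) := ⟨⟨x, U.2⟩⟩; Groth.L06.Dim.nonneg
  refine ⟨fun h => le_antisymm (iInf_le_of_le ⟨⟨{x}, h⟩, rfl⟩ ?_) (le_iInf hne), fun h => ?_⟩
  · have : DiscreteTopology ({x} : Set X) := Subsingleton.discreteTopology
    exact topologicalKrullDim_zero_of_discreteTopology _
  · have : FlatMor.localDim X x < 1 := h ▸ zero_lt_one
    obtain ⟨U, hU⟩ := iInf_lt_iff.mp this
    have h0 : topologicalKrullDim (U.1 : Set X) ≤ 0 := by
      generalize topologicalKrullDim (U.1 : Set X) = d at hU
      induction d with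
      | bot => exact bot_le
      | coe a =>
        have : a < 1 := by exact_mod_cast hU
        exact_mod_cast le_of_eq (ENat.lt_one_iff_eq_zero.mp this)
    have := (Groth.L06.Dim.discreteTopology_of_dim_le_zero h0).2
    have h1 := U.1.2.isOpenEmbedding_subtypeVal.isOpenMap _ (isOpen_discrete {(⟨x, U.2⟩ : (U.1 : Set X))})
    simpa using h1

end Groth.Agent.S5795
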