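import Groth.Statements.S1026
import Groth.Agent.L17.BC.GenApply

set_option autoImplicit false
universe u
open CategoryTheory AlgebraicGeometry
open Perf

namespace Groth.Agent.S1026

/-- Let f : X ⟶ S be proper and of finite presentation and F an O_X-module of finite presentation which
is flat over S. Then the Euler characteristic s ↦ χ(X_s, F_s) = Σᵢ (-1)ⁱ dim_{κ(s)} Hⁱ(X_s, F_s) is
a locally constant function on S. (The source adds that its formation commutes with base change.) -/
theorem result {X S : Scheme.{u}} (f : X ⟶ S) [IsProper f] [LocallyOfFinitePresentation f]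
    (F : X.Modules) (hF : CohB1.IsFP F) (hflat : FlatMod.IsFlatOver f F) :
    IsLocallyConstant (fun s : S => PerfAux.eulerChar f F s) := by
  haveI hq : Coh.IsQCoh F := { nonempty_quasicoherentData := ⟨hF.exists_quasicoherentData.choose⟩ }
  rw [IsLocallyConstant.iff_eventually_eq]
  intro y
  obtain ⟨N, hN⟩ := Groth.L17.BC.exists_eulerSum_eventually_eq f F hF hflat y
  have key : ∀ z, (∀ i, N ≤ i → CohIII.fiberRank f F i z = 0) →
      PerfAux.eulerChar f F z = ∑ i ∈ Finset.range N, (-1 : ℤ) ^ i * (CohIII.fiberRank f F i z : ℤ) := fun z hz => by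
    refine finsum_eq_sum_of_support_subset _ fun i hi => ?_
    rw [Finset.coe_range, Set.mem_Iio]
    by_contra hle
    exact hi (by
      show (-1 : ℤ) ^ i * (CohIII.fiberRank f F i z : ℤ) = 0
      rw [hz i (not_lt.1 hle), Nat.cast_zero, mul_zero])
  filter_upwards [hN] with z hz
  exact (key z hz.1).trans (hz.2.trans (key y hN.self_of_nhds.1).symm)

end Groth.Agent.S1026
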