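import Groth.Statements.S4955
import Groth.Agent.L07.SectionCompFP
import Groth.Agent.L23.SchemeFlatAt

set_option autoImplicit false
set_option linter.style.haveILetI false
open CategoryTheory AlgebraicGeometry
universe u v w
open EGA43

namespace Groth.Agent.S4955

/-- Let f : X ⟶ Y be a morphism of finite presentation with a section g, X_y^0 the connected component
of f⁻¹(y) containing g y, X^0 their union, and suppose every X_y^0 is geometrically irreducible over
κ(y). Let x₀ be a point of X^0 and y₀ = f x₀, and suppose y ↦ dim X_y^0 is constant on a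
neighbourhood of y₀. Then there is an open neighbourhood U of y₀ such that f is universally open at
every point of X^0 lying over U; and if moreover Y is reduced and the fibre over y₀ is geometrically
reduced at x₀, then f is flat at x₀. -/
theorem result {X Y : Scheme.{u}} (f : X ⟶ Y)
    [LocallyOfFinitePresentation f] [QuasiCompact f] [QuasiSeparated f] (g : Y ⟶ X) (hg : g ≫ f = 𝟙 Y)
    (hirr : ∀ y : Y, (∀ (K : Type u) [Field K] [Algebra (IsLocalRing.ResidueField (Y.presheaf.stalk y)) K],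
        IsIrreducible ((FBase.bcπ (f.fiberToSpecResidueField y) K ≫ f.fiberι y).base ⁻¹' connectedComponentIn (f.base ⁻¹' {y}) (g.base y))))
    (x₀ : X) (hx₀ : x₀ ∈ MoreMor.sectionComponents f g)
    (hconst : ∃ V ∈ nhds (f.base x₀), ∀ z ∈ V, topologicalKrullDim ↥(connectedComponentIn (f.base ⁻¹' {z}) (g.base z)) = topologicalKrullDim ↥(connectedComponentIn (f.base ⁻¹' {(f.base x₀)}) (g.base (f.base x₀)))) :
    (∃ U : Y.Opens, f.base x₀ ∈ U ∧ ∀ x ∈ MoreMor.sectionComponents f g, f.base x ∈ U → EGA43.IsUnivOpenAt f x) ∧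
      (IsReduced Y → FBase.IsGeomReducedAt (f.fiberToSpecResidueField (f.base x₀)) (f.asFiber x₀) →
        (f.stalkMap x₀).hom.Flat) := by
  obtain ⟨A, i, hi, g', A₁, hA₁, X₁, f₁, q, g₁, hy₀, hg', hgp, h1, hg₁, sq₁, hgq, hgi₁, hd₁, -⟩ :=
    Groth.L07.SectionComp.exists_nhd_model f g hg hirr (f.base x₀) hconst
  haveI := h1
  haveI := hi
  haveI : Algebra.FiniteType ℤ A₁ := A₁.fg_iff_finiteType.mp hA₁
  haveI : IsNoetherianRing A₁ := Algebra.FiniteType.isNoetherianRing ℤ A₁
  let p := Limits.pullback.fst f i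
  have sq := IsPullback.of_hasPullback f i
  have hmem : ∀ x ∈ MoreMor.sectionComponents f g, f.base x ∈ Set.range i → ∃ b, p b = x ∧
      q b ∈ MoreMor.sectionComponents f₁ g₁ := by
    intro x hx ⟨v, hv⟩
    obtain ⟨b, hb, -⟩ := Scheme.Pullback.exists_preimage_pullback (f := f) (g := i) x v hv.symm
    refine ⟨b, hb, ?_⟩
    have h := Set.ext_iff.mp ((Groth.L07.SectionComp.sectionComponents_baseChange f g sq g' hg hg' hgp).symm.trans
      (Groth.L07.SectionComp.sectionComponents_baseChange f₁ g₁ sq₁ g' hg₁ hg' hgq)) b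
    exact h.mp (show p b ∈ _ from hb.symm ▸ hx)
  have huo₁ : ∀ x₁ ∈ MoreMor.sectionComponents f₁ g₁, EGA43.IsUnivOpenAt f₁ x₁ := fun x₁ hx₁ =>
    Groth.L07.SectionComp.isUnivOpenAt_of_dim_const f₁ g₁ hg₁
      (fun y => (Groth.L07.SectionComp.geomIrredAt_iff f₁ g₁ y).mp (hgi₁ y)) (f₁ x₁) (fun z _ => hd₁ z (f₁ x₁)) x₁
      ((Groth.L07.SectionComp.mem_sectionComponents_iff f₁ g₁ rfl).mp hx₁)
  refine ⟨⟨⟨Set.range i, i.isOpenEmbedding.isOpen_range⟩, hy₀, fun x hx hxU => ?_⟩, fun hY hred => ?_⟩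
  · obtain ⟨b, hb, hqb⟩ := hmem x hx hxU
    have h2 : EGA43.IsUnivOpenAt (Limits.pullback.snd f i ≫ i) b :=
      Groth.L07.UnivOpenAt.comp (Groth.L07.UnivOpenAt.baseChange sq₁ (huo₁ _ hqb) b rfl)
        (Groth.L07.SectionComp.isUnivOpenAt_of_universallyOpen i _)
    rw [← Limits.pullback.condition] at h2
    exact hb ▸ Groth.L07.UnivOpenAt.right_of_comp h2
  · obtain ⟨b, hb, hqb⟩ := hmem x₀ hx₀ hy₀
    haveI := hY
    haveI : IsReduced (Spec A) := isReduced_of_isOpenImmersion i
    haveI : _root_.IsReduced A := (affine_isReduced_iff A).mp inferInstance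
    haveI : _root_.IsReduced A₁ := isReduced_of_injective A₁.val Subtype.val_injective
    haveI : IsReduced (Spec (CommRingCat.of A₁)) := (affine_isReduced_iff _).mpr inferInstance
    have hred₁ : FBase.IsGeomReducedAt (f₁.fiberToSpecResidueField (f₁.base (q b))) (f₁.asFiber (q b)) := by
      rw [← Groth.L07.SectionComp.isGeomReducedAt_iff_of_isPullback sq₁ b,
        Groth.L07.SectionComp.isGeomReducedAt_iff_of_isPullback sq b, show Limits.pullback.fst f i b = x₀ from hb]
      exact hred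
    have hflat₁ : (f₁.stalkMap (q b)).hom.Flat := Groth.L07.FlatGeomReduced.flat_stalkMap f₁ (q b)
      (fun z hz _ => huo₁ _ ((Groth.L07.SectionComp.mem_sectionComponents_iff f₁ g₁
        ((Set.ext_iff.mp (f₁.range_fiberι _) _).mp ⟨z, rfl⟩)).mpr
        ((Groth.L07.SectionComp.mem_of_specializes f₁ g₁ (by
            have := (specializes_iff_mem_closure.mpr hz).map (f₁.fiberι (f₁.base (q b))).continuous
            rwa [f₁.fiberι_asFiber] at this) ((Set.ext_iff.mp (f₁.range_fiberι _) _).mp ⟨z, rfl⟩) rfl).mp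
          ((Groth.L07.SectionComp.mem_sectionComponents_iff f₁ g₁ rfl).mp hqb)))) hred₁ inferInstance
    have h2 := Groth.L23.flat_stalkMap_baseChange sq₁ b hflat₁
    rw [← Groth.L23.flat_stalkMap_comp_etale_iff _ i, Groth.L23.flat_stalkMap_congr Limits.pullback.condition.symm,
      Groth.L23.flat_stalkMap_etale_comp_iff, show Limits.pullback.fst f i b = x₀ from hb] at h2
    exact h2

end Groth.Agent.S4955
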