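import Groth.Statements.S15351
import Groth.Agent.L16.SecComp.Smooth
import Groth.Agent.S1327

set_option autoImplicit false
universe u
open CategoryTheory CategoryTheory.Limits AlgebraicGeometry
open MoreMor

namespace Groth.Agent.S15351

/-- Let f : X ⟶ S be a smooth morphism of schemes, X quasi-separated, with a section e : S ⟶ X, and let
X⁰ ⊆ X be the union over the points s of S of the connected component of e(s) in the fibre f⁻¹(s)
with its subspace topology. Then X⁰ is open in X; no quasi-compactness is assumed. (The published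
statement is for an algebraic space X smooth over S; this row is the case of a scheme.) -/
theorem result {S X : Scheme.{u}} [QuasiSeparatedSpace ↥X] (f : X ⟶ S) [Smooth f]
    (e : S ⟶ X) (he : e ≫ f = 𝟙 S) :
    IsOpen (MoreMor.sectionComponents f e) := by
  refine isOpen_iff_mem_nhds.2 fun x hx => ?_
  have hfe : ∀ t, f (e t) = t := fun t => by
    rw [← Scheme.Hom.comp_apply, he]; rfl
  obtain ⟨y, hy⟩ : ∃ y, y = f x := ⟨_, rfl⟩
  let C := connectedComponentIn (f ⁻¹' {y}) (e y)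
  have hxC : x ∈ C := by subst hy; exact hx
  have hC : IsIrreducible C := by
    have := Groth.L16.SecComp.isIrreducible_connectedComponentIn_fibre f (e y)
    rwa [hfe y] at this
  -- affine charts
  obtain ⟨V₁, hV₁, hyV₁, -⟩ := exists_isAffineOpen_mem_and_subset (X := S) (x := y) (U := ⊤) trivial
  obtain ⟨W₁, hW₁, heW₁, hW₁V⟩ := exists_isAffineOpen_mem_and_subset (X := X) (x := e y)
    (U := f ⁻¹ᵁ V₁) (show f (e y) ∈ V₁ by rw [hfe]; exact hyV₁)
  obtain ⟨W₂, hW₂, hxW₂, hW₂V⟩ := exists_isAffineOpen_mem_and_subset (X := X) (x := x)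
    (U := f ⁻¹ᵁ V₁) (show f x ∈ V₁ by rw [← hy]; exact hyV₁)
  obtain ⟨r, hr, hyr⟩ := hV₁.exists_basicOpen_le (V := e ⁻¹ᵁ W₁) (x := ⟨y, heW₁⟩) hyV₁
  let V := S.basicOpen r
  have hV : IsAffineOpen V := hV₁.basicOpen r
  let U : X.Opens := (W₁ ⊓ f ⁻¹ᵁ V) ⊔ (W₂ ⊓ f ⁻¹ᵁ V)
  have hUV : ∀ z ∈ U, f z ∈ V := by
    rintro z (hz | hz) <;> exact hz.2
  have heU : ∀ t ∈ V, e t ∈ U := fun t ht => Or.inl ⟨hr ht, show f (e t) ∈ V by rw [hfe]; exact ht⟩
  have hxU : x ∈ U := Or.inr ⟨hxW₂, show f x ∈ V by rw [← hy]; exact hyr⟩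
  have hUc : IsCompact (U : Set X) := by
    have haux : ∀ (W : X.Opens) (hW : IsAffineOpen W) (hle : W ≤ f ⁻¹ᵁ V₁),
        IsCompact ((W ⊓ f ⁻¹ᵁ V : X.Opens) : Set X) := by
      intro W hW hle
      rw [← Scheme.basicOpen_appLE f W V₁ hle r]
      exact (hW.basicOpen _).isCompact
    exact (haux W₁ hW₁ hW₁V).union (haux W₂ hW₂ hW₂V)
  -- the restricted morphism and section
  haveI : IsAffine V := hV
  haveI : CompactSpace ↥U.toScheme := isCompact_iff_compactSpace.mp hUc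
  haveI : QuasiSeparatedSpace ↥U.toScheme := U.ι.isOpenEmbedding.quasiSeparatedSpace
  have hgr : Set.range (U.ι ≫ f) ⊆ Set.range V.ι := by
    rw [Scheme.Opens.range_ι]
    rintro _ ⟨z, rfl⟩
    exact hUV _ z.2
  let g : U.toScheme ⟶ V.toScheme := IsOpenImmersion.lift V.ι (U.ι ≫ f) hgr
  have hgf : g ≫ V.ι = U.ι ≫ f := IsOpenImmersion.lift_fac _ _ _
  have hsr : Set.range (V.ι ≫ e) ⊆ Set.range U.ι := by
    rw [Scheme.Opens.range_ι]
    rintro _ ⟨z, rfl⟩
    exact heU _ z.2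
  let s : V.toScheme ⟶ U.toScheme := IsOpenImmersion.lift U.ι (V.ι ≫ e) hsr
  have hse : s ≫ U.ι = V.ι ≫ e := IsOpenImmersion.lift_fac _ _ _
  have hsg : s ≫ g = 𝟙 _ := by
    rw [← cancel_mono V.ι, Category.assoc, hgf, reassoc_of% hse, he]
    simp
  haveI : Smooth g := by
    haveI : Smooth (g ≫ V.ι) := by rw [hgf]; infer_instance
    exact MorphismProperty.of_postcomp (W := @Smooth) (W' := @IsOpenImmersion) g V.ι inferInstance inferInstance
  haveI : QuasiCompact g := (HasAffineProperty.iff_of_isAffine (P := @QuasiCompact)).2 inferInstance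
  haveI : QuasiSeparated g := (HasAffineProperty.iff_of_isAffine (P := @QuasiSeparated)).2 inferInstance
  haveI := Groth.L16.SecComp.geometricallyReduced_of_smooth g
  have key := Groth.Agent.S1327.result g s hsg ⟨y, hyr⟩ inferInstance
  let x' : U.toScheme := (⟨x, hxU⟩ : U)
  let y' : V.toScheme := (⟨y, hyr⟩ : V)
  have hgv : ∀ z : U.toScheme, V.ι (g z) = f (U.ι z) := fun z => by
    rw [← Scheme.Hom.comp_apply, hgf]; rfl
  have hsv : ∀ t : V.toScheme, U.ι (s t) = e (V.ι t) := fun t => by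
    rw [← Scheme.Hom.comp_apply, hse]; rfl
  have hx' : x' ∈ connectedComponentIn (g ⁻¹' {y'}) (s y') := by
    have hCU : IsPreirreducible (C ∩ (U : Set X)) := fun a b ha hb ⟨p, ⟨hp, hpU⟩, hpa⟩ ⟨q, ⟨hq, hqU⟩, hqb⟩ => by
      obtain ⟨t, ht, ⟨htU, hta⟩, -, htb⟩ := hC.2 ((U : Set X) ∩ a) ((U : Set X) ∩ b) (U.2.inter ha) (U.2.inter hb)
        ⟨p, hp, hpU, hpa⟩ ⟨q, hq, hqU, hqb⟩
      exact ⟨t, ⟨ht, htU⟩, hta, htb⟩
    have hpre : _root_.IsPreconnected (U.ι ⁻¹' (C ∩ (U : Set X))) :=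
      hCU.isPreconnected.preimage_of_isOpenMap Subtype.val_injective U.ι.isOpenEmbedding.isOpenMap
        (by rw [Scheme.Opens.range_ι]; exact Set.inter_subset_right)
    refine hpre.subset_connectedComponentIn ?_ ?_ (show x ∈ C ∩ (U : Set X) from ⟨hxC, hxU⟩)
    · show U.ι (s y') ∈ C ∩ (U : Set X)
      rw [hsv]
      exact ⟨mem_connectedComponentIn (hfe y), heU y hyr⟩
    · intro z hz
      apply V.ι.isOpenEmbedding.injective
      rw [hgv]
      exact connectedComponentIn_subset (f ⁻¹' {y}) (e y) hz.1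
  refine Filter.mem_of_superset ((U.ι.isOpenEmbedding.isOpenMap _ isOpen_interior).mem_nhds
    ⟨x', key hx', rfl⟩) ?_
  rintro _ ⟨z, hz, rfl⟩
  have hz' : z ∈ MoreMor.sectionComponents g s := interior_subset hz
  show U.ι z ∈ connectedComponentIn (f ⁻¹' {f (U.ι z)}) (e (f (U.ι z)))
  refine (isPreconnected_connectedComponentIn.image U.ι U.ι.continuous.continuousOn).subset_connectedComponentIn
    ⟨s (g z), mem_connectedComponentIn (show g (s (g z)) = g z by rw [← Scheme.Hom.comp_apply, hsg]; rfl), by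
      rw [hsv, hgv]⟩ ?_ ⟨z, hz', rfl⟩
  rintro _ ⟨w, hw, rfl⟩
  show f (U.ι w) = f (U.ι z)
  rw [← hgv, ← hgv, show g w = g z from connectedComponentIn_subset (g ⁻¹' {g z}) _ hw]
end Groth.Agent.S15351
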