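import Groth.Statements.S5322
import Groth.Agent.Lead.Neutral

set_option autoImplicit false
universe u
open CategoryTheory CategoryTheory.Limits MonoidalCategory CartesianMonoidalCategory MonObj GrpObj AlgebraicGeometry
open SGA3

namespace Groth.Agent.S5322

/-- Let G be an S-group scheme and f : S' → S a morphism. Then the subset of G ×_S S' formed by the
neutral components of its fibres over S' is the inverse image, under the first projection G ×_S S' →
G, of the subset of G formed by the neutral components of the fibres G_s: the formation of the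
neutral component commutes with base change. -/
theorem result (S S' : Scheme.{u}) (f : S' ⟶ S) (G : Over S) [GrpObj G] :
    SGA3x.neutralSet (Red.bc f G) = (pullback.fst G.hom f).base ⁻¹' SGA3x.neutralSet G := by
  let G' : Over S' := Red.bc f G
  have hη : η[G'].left ≫ pullback.fst G.hom f = f ≫ η[G].left := by
    rw [Functor.obj.η_def, Over.comp_left, Category.assoc]
    show _ ≫ ((Over.pullback f).map η[G]).left ≫ pullback.fst G.hom _ = _
    erw [pullback.lift_fst]
    rw [← Category.assoc]
    congr 1
    simp [Functor.LaxMonoidal.ε]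
    have e : pullback.fst (𝟙 S) f = (Functor.OplaxMonoidal.η (Over.pullback f)).left ≫ f := by
      have hw := Over.w (Functor.OplaxMonoidal.η (Over.pullback f))
      have hc := pullback.condition (f := 𝟙 S) (g := f)
      rw [Category.comp_id] at hc
      exact hc.trans (congrArg (· ≫ _) (hw.symm.trans (Category.comp_id _)))
    rw [e, ← Category.assoc, ← Over.comp_left]
    erw [IsIso.inv_hom_id]
    exact Category.id_comp _
  ext z
  let s' := G'.hom z
  let s := f s'
  obtain ⟨z', hz'⟩ : ∃ z', G'.hom.fiberι s' z' = z := (G'.hom.range_fiberι s').ge rfl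
  let r : Spec (S'.residueField s') ⟶ Spec (S.residueField s) := Spec.map (f.residueFieldMap s')
  have hr : r ≫ S.fromSpecResidueField s = S'.fromSpecResidueField s' ≫ f :=
    Scheme.Hom.SpecMap_residueFieldMap_fromSpecResidueField f s'
  let B := IsPullback.of_hasPullback G.hom (S.fromSpecResidueField s)
  have A : IsPullback (G'.hom.fiberι s' ≫ pullback.fst G.hom f) (G'.hom.fiberToSpecResidueField s') G.hom
      (S'.fromSpecResidueField s' ≫ f) :=
    (IsPullback.of_hasPullback G'.hom (S'.fromSpecResidueField s')).paste_horiz (IsPullback.of_hasPullback G.hom f)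
  let q : (Groth.Lead.Neutral.fib G' s').left ⟶ (Groth.Lead.Neutral.fib G s).left :=
    B.lift (G'.hom.fiberι s' ≫ pullback.fst G.hom f) (G'.hom.fiberToSpecResidueField s' ≫ r)
      (A.w.trans ((congrArg (G'.hom.fiberToSpecResidueField s' ≫ ·) hr.symm).trans (Category.assoc _ _ _).symm))
  have hq : q ≫ G.hom.fiberι s = G'.hom.fiberι s' ≫ pullback.fst G.hom f := B.lift_fst _ _ _
  have hq' : ∀ w, G.hom.fiberι s (q w) = pullback.fst G.hom f (G'.hom.fiberι s' w) := fun w =>
    congrArg (fun φ => φ w) hq
  have Q : IsPullback q (G'.hom.fiberToSpecResidueField s') (G.hom.fiberToSpecResidueField s) r :=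
    IsPullback.of_right (by rw [hr]; erw [hq]; exact A) (B.lift_snd _ _ _) B
  let C := connectedComponent (Groth.L25.Component.one (Groth.Lead.Neutral.fib G s))
  let C' := connectedComponent (Groth.L25.Component.one (Groth.Lead.Neutral.fib G' s'))
  have hone : q (Groth.L25.Component.one (Groth.Lead.Neutral.fib G' s')) =
      Groth.L25.Component.one (Groth.Lead.Neutral.fib G s) := by
    apply (G.hom.fiberι s).isEmbedding.injective
    rw [hq', Groth.Lead.Neutral.fiberι_one, Groth.Lead.Neutral.fiberι_one]
    exact congrArg (fun φ => φ s') hη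
  have hC' : C' = q ⁻¹' C := by
    refine Set.Subset.antisymm (fun w hw => ?_) ?_
    · have := q.continuous.image_connectedComponent_subset _ ⟨w, hw, rfl⟩
      rwa [hone] at this
    · have hC := Groth.Lead.Neutral.component_mem (Groth.Lead.Neutral.fib G s)
      let I := Scheme.IdealSheafData.vanishingIdeal (X := (Groth.Lead.Neutral.fib G s).left) ⟨C, isClosed_connectedComponent⟩
      have hI : Set.range I.subschemeι = C := by
        rw [Scheme.IdealSheafData.range_subschemeι, Scheme.IdealSheafData.coe_support_vanishingIdeal]; rfl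
      haveI := Groth.L25.Component.irreducibleSpace_of_range I.subschemeι (hI.symm ▸ hC.1)
      haveI := Groth.L25.Component.geometricallyIrreducible_component (Groth.Lead.Neutral.fib G s) I.subschemeι
        (hI.symm ▸ hC) (hI.symm ▸ mem_connectedComponent)
      haveI : IrreducibleSpace ↥(pullback (I.subschemeι ≫ (Groth.Lead.Neutral.fib G s).hom) r) :=
        inferInstance
      haveI : IrreducibleSpace ↥(pullback (I.subschemeι ≫ G.hom.fiberToSpecResidueField s) r) :=
        ‹IrreducibleSpace ↥(pullback (I.subschemeι ≫ (Groth.Lead.Neutral.fib G s).hom) r)›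
      have P := (IsPullback.of_hasPullback I.subschemeι q).paste_vert Q
      have : _root_.IsConnected (q ⁻¹' C) := by
        rw [show q ⁻¹' C = Set.range (pullback.snd I.subschemeι q) by rw [Scheme.Pullback.range_snd, hI]]
        haveI : IrreducibleSpace ↥(pullback I.subschemeι q) :=
          (IsPullback.isoPullback P).hom.homeomorph.irreducibleSpace_iff.mpr inferInstance
        rw [← Set.image_univ]
        exact ((IrreducibleSpace.isIrreducible_univ _).image _
          (pullback.snd I.subschemeι q).continuous.continuousOn).isConnected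
      refine this.subset_connectedComponent ?_
      show q _ ∈ C
      rw [hone]; exact mem_connectedComponent
  have e1 : z ∈ SGA3x.neutralSet G' ↔ z' ∈ C' := by
    constructor
    · intro hz
      obtain ⟨w, hw, hwz⟩ := (Groth.Lead.Neutral.neutralSet_inter G' s').le ⟨hz, rfl⟩
      exact (G'.hom.fiberι s').isEmbedding.injective (hwz.trans hz'.symm) ▸ hw
    · exact fun hz => ((Groth.Lead.Neutral.neutralSet_inter G' s').ge ⟨z', hz, hz'⟩).1
  have e2 : pullback.fst G.hom f z ∈ SGA3x.neutralSet G ↔ q z' ∈ C := by
    have hfz : G.hom.fiberι s (q z') = pullback.fst G.hom f z := by rw [hq', hz']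
    constructor
    · intro hz
      obtain ⟨w, hw, hwz⟩ := (Groth.Lead.Neutral.neutralSet_inter G s).le ⟨hz, by
        rw [← hfz]; exact (G.hom.range_fiberι s).le ⟨_, rfl⟩⟩
      exact (G.hom.fiberι s).isEmbedding.injective (hwz.trans hfz.symm) ▸ hw
    · exact fun hz => ((Groth.Lead.Neutral.neutralSet_inter G s).ge ⟨q z', hz, hfz⟩).1
  show z ∈ SGA3x.neutralSet G' ↔ pullback.fst G.hom f z ∈ SGA3x.neutralSet G
  rw [e1, e2, hC']
  rfl

end Groth.Agent.S5322
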