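import Groth.Statements.S5323
import Groth.Agent.Lead.NeutralCover

set_option linter.style.haveILetI false

set_option autoImplicit false
universe u
open CategoryTheory CategoryTheory.Limits MonoidalCategory CartesianMonoidalCategory MonObj GrpObj AlgebraicGeometry
open SGA3

namespace Groth.Agent.S5323

/-- Let S be a quasi-compact quasi-separated scheme and G an S-group scheme whose fibres G_s are locally
of finite type over κ(s). Then there is a quasi-compact open subset of G containing the union of the
neutral components of the fibres G_s. -/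
theorem result (S : Scheme.{u}) [CompactSpace S] [QuasiSeparatedSpace S]
    (G : Over S) [GrpObj G] (hG : ∀ s : S, LocallyOfFiniteType (G.hom.fiberToSpecResidueField s)) :
    ∃ U : G.left.Opens, IsCompact (U : Set G.left) ∧ SGA3x.neutralSet G ⊆ U := by
  classical
  obtain ⟨U, hUc, hUη, -⟩ := Groth.Lead.Neutral.exists_qc_open (⊤ : G.left.Opens)
    ((isCompact_univ (X := S)).image η[G].left.continuous) (fun _ _ => trivial)
  haveI : QuasiCompact (U.ι ≫ G.hom) := by
    haveI : CompactSpace (U : Scheme.{u}) := isCompact_iff_compactSpace.1 hUc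
    infer_instance
  obtain ⟨W, hWc, hW, -⟩ := Groth.Lead.Neutral.exists_qc_open (⊤ : G.left.Opens)
    (Groth.Lead.Neutral.isCompact_mul G hUc (U.ι ≫ G.hom) (𝟙 S) (Category.comp_id _)) (fun _ _ => trivial)
  exact ⟨W, hWc, fun x hx => hW (Groth.Lead.Neutral.inter_subset_mul G hG (V := Set.univ) U.isOpen
    (fun s _ => hUη ⟨s, trivial, rfl⟩) ⟨hx, trivial⟩)⟩

end Groth.Agent.S5323
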