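import Groth.Statements.S1631
import Groth.Agent.L21.Nodal.AlgNode

set_option autoImplicit false
universe u
open Curves

namespace Groth.Agent.S1631

/-- For a Noetherian local k-algebra (A, m, κ), these two conditions are equivalent: (i) κ is separable
over k, A is reduced, m/m^2 has dimension two, and there are x, y spanning m modulo m^2 and a, b, c
∈ A whose residues form a nondegenerate quadratic form with a x^2 + b xy + c y^2 ∈ m^3; (ii) κ is
separable over k and the m-adic completion of A is isomorphic, compatibly with the maps from k, to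
κ[[u, v]]/(a' u^2 + b' uv + c' v^2) for a nondegenerate quadratic form over κ. -/
theorem result (k : Type u) [Field k] (A : Type u) [CommRing A] [IsLocalRing A] [IsNoetherianRing A]
    [Algebra k A] :
    (Algebra.IsSeparable k (IsLocalRing.ResidueField A) ∧ IsReduced A ∧
      Module.finrank (IsLocalRing.ResidueField A) (IsLocalRing.CotangentSpace A) = 2 ∧
      ∃ x y a b c : A, x ∈ IsLocalRing.maximalIdeal A ∧ y ∈ IsLocalRing.maximalIdeal A ∧
        Ideal.span {x, y} ⊔ IsLocalRing.maximalIdeal A ^ 2 = IsLocalRing.maximalIdeal A ∧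
        IsLocalRing.residue A (4 * a * c - b ^ 2) ≠ 0 ∧
        a * x ^ 2 + b * x * y + c * y ^ 2 ∈ IsLocalRing.maximalIdeal A ^ 3) ↔
    (Algebra.IsSeparable k (IsLocalRing.ResidueField A) ∧
      ∃ a b c : IsLocalRing.ResidueField A, 4 * a * c - b ^ 2 ≠ 0 ∧
        ∃ e : AdicCompletion (IsLocalRing.maximalIdeal A) A ≃+*
            (MvPowerSeries (Fin 2) (IsLocalRing.ResidueField A) ⧸ Ideal.span
              {(MvPowerSeries.C a * MvPowerSeries.X 0 ^ 2 + MvPowerSeries.C b * MvPowerSeries.X 0 * MvPowerSeries.X 1 +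
                MvPowerSeries.C c * MvPowerSeries.X 1 ^ 2 : MvPowerSeries (Fin 2) (IsLocalRing.ResidueField A))}),
          ∀ t : k, e (algebraMap A _ (algebraMap k A t)) =
            Ideal.Quotient.mk _ (MvPowerSeries.C (algebraMap A (IsLocalRing.ResidueField A) (algebraMap k A t)))) := by
  let S := AdicCompletion (IsLocalRing.maximalIdeal A) A
  let j : A →+* S := algebraMap A S
  have hj : ∀ (n : ℕ) (z : A), z ∈ IsLocalRing.maximalIdeal A ^ n → j z ∈ IsLocalRing.maximalIdeal S ^ n := fun n z hz => by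
    rw [AdicCompletion.maximalIdeal_eq_map, ← Ideal.map_pow]; exact Ideal.mem_map_of_mem _ hz
  have hj' : ∀ (n : ℕ) (z : A), j z ∈ IsLocalRing.maximalIdeal S ^ n → z ∈ IsLocalRing.maximalIdeal A ^ n :=
    fun n z hz => Groth.L21.Nodal.mem_pow_of_algebraMap_mem hz
  constructor
  · rintro ⟨hsep, hred, hdim, x, y, a, b, c, hx, hy, hgen, hD, hq⟩
    haveI := hsep
    haveI := hred
    refine ⟨hsep, ?_⟩
    obtain ⟨ι, hι⟩ := Groth.L21.Nodal.exists_coeffField_sep k A
    have hgenA : Ideal.span {x, y} = IsLocalRing.maximalIdeal A := by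
      refine le_antisymm (Ideal.span_le.2 ?_) (Submodule.le_of_le_smul_of_le_jacobson_bot (IsNoetherian.noetherian _)
        (IsLocalRing.maximalIdeal_le_jacobson ⊥) (by rw [Ideal.smul_eq_mul, ← pow_two, hgen]))
      rintro _ (rfl | rfl) <;> assumption
    have hgenS : Ideal.span {j x, j y} = IsLocalRing.maximalIdeal S := by
      rw [AdicCompletion.maximalIdeal_eq_map, ← Set.image_pair, ← Ideal.map_span]
      exact congrArg _ hgenA
    have hjx : j x ∈ IsLocalRing.maximalIdeal S := hgenS ▸ Ideal.subset_span (Or.inl rfl)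
    have hjy : j y ∈ IsLocalRing.maximalIdeal S := hgenS ▸ Ideal.subset_span (Or.inr rfl)
    let r := IsLocalRing.residue A
    have hq₀ : Groth.L21.Nodal.qf (ι (r a)) (ι (r b)) (ι (r c)) (j x) (j y) ∈ IsLocalRing.maximalIdeal S ^ 3 := by
      have h1 : j (Groth.L21.Nodal.qf a b c x y) ∈ IsLocalRing.maximalIdeal S ^ 3 := hj 3 _ (by
        rw [Groth.L21.Nodal.qf, ← mul_assoc]; exact hq)
      rw [Groth.L21.Nodal.map_qf] at h1
      have key : ∀ (t : A) (z : S), z ∈ IsLocalRing.maximalIdeal S ^ 2 →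
          (ι (r t) - j t) * z ∈ IsLocalRing.maximalIdeal S ^ 3 :=
        fun t z hz => by rw [pow_succ']; exact Ideal.mul_mem_mul (hι t) hz
      have h2 := add_mem h1 (add_mem (add_mem (key a (j x ^ 2) (Ideal.pow_mem_pow hjx 2))
        (key b (j x * j y) (by rw [pow_two]; exact Ideal.mul_mem_mul hjx hjy))) (key c (j y ^ 2) (Ideal.pow_mem_pow hjy 2)))
      convert h2 using 1
      simp only [Groth.L21.Nodal.qf]
      ring
    have hdisc : 4 * r a * r c - r b ^ 2 ≠ 0 := by simpa [r, map_ofNat] using hD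
    obtain ⟨a', b', c', α, β, γ, δ, ha', hdisc', hαδ, hT⟩ := Groth.L21.Nodal.exists_normal_form.{u} _ _ _ hdisc
    let d := α * δ - β * γ
    let x₀ := ι (δ / d) * j x - ι (β / d) * j y
    let y₀ := ι (α / d) * j y - ι (γ / d) * j x
    have hxu : ι α * x₀ + ι β * y₀ = j x := by
      have h1 : ι α * ι (δ / d) - ι β * ι (γ / d) = 1 := by
        rw [← map_mul, ← map_mul, ← map_sub, ← map_one ι, mul_div_assoc', mul_div_assoc', ← sub_div, div_self hαδ]
      have h2 : ι β * ι (α / d) = ι α * ι (β / d) := by rw [← map_mul, ← map_mul]; congr 1; ring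
      linear_combination (j x) * h1 + (j y) * h2
    have hyv : ι γ * x₀ + ι δ * y₀ = j y := by
      have h1 : ι δ * ι (α / d) - ι γ * ι (β / d) = 1 := by
        rw [← map_mul, ← map_mul, ← map_sub, ← map_one ι, mul_div_assoc', mul_div_assoc', ← sub_div, mul_comm δ α,
          mul_comm γ β, div_self hαδ]
      have h2 : ι γ * ι (δ / d) = ι δ * ι (γ / d) := by rw [← map_mul, ← map_mul]; congr 1; ring
      linear_combination (j y) * h1 + (j x) * h2
    have hgen₀ : Ideal.span {x₀, y₀} = IsLocalRing.maximalIdeal S := by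
      rw [← hgenS]
      refine le_antisymm ?_ ?_
      · rw [Ideal.span_le]
        rintro _ (rfl | rfl)
        · exact Ideal.mem_span_pair.2 ⟨ι (δ / d), -ι (β / d), by ring⟩
        · exact Ideal.mem_span_pair.2 ⟨-ι (γ / d), ι (α / d), by ring⟩
      · rw [Ideal.span_le]
        rintro _ (rfl | rfl)
        · exact Ideal.mem_span_pair.2 ⟨_, _, hxu⟩
        · exact Ideal.mem_span_pair.2 ⟨_, _, hyv⟩
    have hq₁ : Groth.L21.Nodal.qf (ι a') (ι b') (ι c') x₀ y₀ ∈ IsLocalRing.maximalIdeal S ^ 3 := by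
      have h1 := hT S ι.toRingHom x₀ y₀
      simp only [AlgHom.toRingHom_eq_coe, RingHom.coe_coe] at h1
      rw [hxu, hyv] at h1
      exact h1 ▸ hq₀
    obtain ⟨x₁, y₁, hgen₁, hq₂⟩ := Groth.L21.Nodal.exists_exact_quadratic (ι a') (ι b') (ι c') x₀ y₀ hgen₀ (by
      convert (IsUnit.mk0 _ hdisc').map ι using 1
      simp [map_ofNat]) hq₁
    letI : Algebra (IsLocalRing.ResidueField A) S := ι.toRingHom.toAlgebra
    obtain ⟨φ, hφ⟩ := Groth.L12.exists_evalPS (R := IsLocalRing.ResidueField A) (IsLocalRing.maximalIdeal S) ![x₁, y₁]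
      (fun i => by fin_cases i <;> exact hgen₁ ▸ Ideal.subset_span (by simp))
    have hφC : ∀ z, φ (MvPowerSeries.C z) = ι z := fun z => φ.commutes z
    have hI : (IsLocalRing.maximalIdeal (MvPowerSeries (Fin 2) (IsLocalRing.ResidueField A))).map φ.toRingHom =
        IsLocalRing.maximalIdeal S := by
      rw [← Groth.L21.Nodal.span_X_eq_maximalIdeal, Ideal.map_span, Set.image_pair, ← hgen₁,
        show φ.toRingHom (MvPowerSeries.X 0) = x₁ from hφ 0, show φ.toRingHom (MvPowerSeries.X 1) = y₁ from hφ 1]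
    have hsurj : Function.Surjective φ := by
      have hr : Ideal.span (Set.range (MvPowerSeries.X : Fin 2 → MvPowerSeries (Fin 2) (IsLocalRing.ResidueField A))) =
          IsLocalRing.maximalIdeal (MvPowerSeries (Fin 2) (IsLocalRing.ResidueField A)) := by
        rw [← Groth.L21.Nodal.span_X_eq_maximalIdeal]
        congr 1
        ext z
        simp [Fin.exists_fin_two, eq_comm]
      rw [← hr] at hI
      haveI : IsHausdorff ((Ideal.span (Set.range (MvPowerSeries.X : Fin 2 →
          MvPowerSeries (Fin 2) (IsLocalRing.ResidueField A)))).map φ.toRingHom) S := hI ▸ inferInstance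
      refine surjective_of_mk_map_comp_surjective (I := Ideal.span (Set.range (MvPowerSeries.X : Fin 2 →
          MvPowerSeries (Fin 2) (IsLocalRing.ResidueField A)))) φ.toRingHom fun z => ?_
      obtain ⟨s, rfl⟩ := Ideal.Quotient.mk_surjective z
      obtain ⟨t, ht⟩ := Groth.L01.CompletionExt.exists_sub_mem_pow 1 s
      rw [pow_one] at ht
      refine ⟨MvPowerSeries.C (r t), Ideal.Quotient.eq.2 ?_⟩
      rw [hI, show φ.toRingHom (MvPowerSeries.C (r t)) = ι (r t) from hφC _,
        show ι (r t) - s = (ι (r t) - algebraMap A S t) - (s - algebraMap A S t) by ring]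
      exact sub_mem (hι t) ht
    have hnf : ¬ (IsLocalRing.maximalIdeal A).IsPrincipal := fun h => by
      have := IsLocalRing.finrank_cotangentSpace_le_one_iff.2 h
      omega
    obtain ⟨z, hz, hzreg⟩ := Groth.L21.Nodal.exists_mem_nonZeroDivisors (A := A) (fun h => hnf (by
      rw [IsLocalRing.isField_iff_maximalIdeal_eq.1 h]; exact bot_isPrincipal))
    have hregS : IsSMulRegular S z := Module.Flat.isSMulRegular_of_nonZeroDivisors
      (mem_nonZeroDivisors_iff_right.2 fun s hs => hzreg s (by rw [mul_comm]; exact hs))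
    have hnpS : ¬ (IsLocalRing.maximalIdeal S).IsPrincipal := fun ⟨g, hg⟩ => hnf (by
      obtain ⟨g', hg'⟩ := Groth.L21.Nodal.exists_approx_mem_sq (s := g) (hg ▸ Submodule.mem_span_singleton_self g)
      refine ⟨g', le_antisymm (Submodule.le_of_le_smul_of_le_jacobson_bot (IsNoetherian.noetherian _)
        (IsLocalRing.maximalIdeal_le_jacobson ⊥) fun s hs => ?_) ?_⟩
      · have h1 : j s ∈ Submodule.span S {g} := hg ▸ (pow_one (IsLocalRing.maximalIdeal S) ▸ hj 1 s (by rw [pow_one]; exact hs))
        obtain ⟨w, hw⟩ := Submodule.mem_span_singleton.1 h1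
        obtain ⟨w', hw'⟩ := Groth.L01.CompletionExt.exists_sub_mem_pow 1 w
        rw [pow_one] at hw'
        rw [Ideal.smul_eq_mul, ← pow_two, show s = w' * g' + (s - w' * g') by ring]
        refine Submodule.add_mem_sup (Ideal.mem_span_singleton'.2 ⟨w', rfl⟩) (hj' 2 _ ?_)
        rw [map_sub, map_mul, ← hw, smul_eq_mul, show w * g - j w' * j g' =
          (w - j w') * g - j w' * (j g' - g) by ring]
        refine sub_mem ?_ (Ideal.mul_mem_left _ _ hg')
        rw [pow_two]
        exact Ideal.mul_mem_mul hw' (hg ▸ Submodule.mem_span_singleton_self g)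
      · rw [Submodule.span_singleton_le_iff_mem]
        refine pow_one (IsLocalRing.maximalIdeal A) ▸ hj' 1 g' ?_
        rw [pow_one, show j g' = (j g' - g) + g by ring]
        exact add_mem (Ideal.pow_le_self two_ne_zero hg') (hg ▸ Submodule.mem_span_singleton_self g))
    have hk := Groth.L21.Nodal.quad_ker a' b' c' ha' φ.toRingHom hsurj (by
      rw [Groth.L21.Nodal.map_qf]
      show Groth.L21.Nodal.qf (φ _) (φ _) (φ _) (φ _) (φ _) = 0
      rw [hφC, hφC, hφC, hφ 0, hφ 1]
      exact hq₂) (j z) (pow_one (IsLocalRing.maximalIdeal S) ▸ hj 1 z (by rw [pow_one]; exact hz))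
      (fun s hs => hregS.right_eq_zero_of_smul (by rw [Algebra.smul_def]; exact hs)) hnpS
    refine ⟨a', b', c', hdisc', ((Ideal.quotEquivOfEq (show Ideal.span _ = RingHom.ker φ.toRingHom by
      rw [hk]; simp only [Groth.L21.Nodal.qf, mul_assoc])).trans
      (RingHom.quotientKerEquivOfSurjective hsurj)).symm, fun t => ?_⟩
    rw [RingEquiv.symm_apply_eq]
    refine Eq.symm ((hφC _).trans ?_)
    exact (ι.commutes t).trans (IsScalarTower.algebraMap_apply k A S t)
  · rintro ⟨hsep, a₀, b₀, c₀, hD, e, he⟩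
    have hspan : Ideal.span {(MvPowerSeries.C a₀ * MvPowerSeries.X 0 ^ 2 +
        MvPowerSeries.C b₀ * MvPowerSeries.X 0 * MvPowerSeries.X 1 +
        MvPowerSeries.C c₀ * MvPowerSeries.X 1 ^ 2 : MvPowerSeries (Fin 2) (IsLocalRing.ResidueField A))} =
        Ideal.span {Groth.L21.Nodal.qf (MvPowerSeries.C a₀) (MvPowerSeries.C b₀) (MvPowerSeries.C c₀)
          (MvPowerSeries.X 0) (MvPowerSeries.X 1)} := by simp only [Groth.L21.Nodal.qf, mul_assoc]
    let e' := e.trans (Ideal.quotEquivOfEq hspan)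
    obtain ⟨hredR, hnpR⟩ := Groth.L21.Nodal.quad_ring_props a₀ b₀ c₀ hD
    let π : MvPowerSeries (Fin 2) (IsLocalRing.ResidueField A) →+* S := e'.symm.toRingHom.comp (Ideal.Quotient.mk _)
    have hπ : Function.Surjective π := e'.symm.surjective.comp Ideal.Quotient.mk_surjective
    haveI hredS : IsReduced S := ⟨fun s hs => by
      have := (hs.map e'.toRingHom).eq_zero
      exact (map_eq_zero_iff _ e'.injective).1 this⟩
    haveI : IsReduced A := ⟨fun s hs => by
      have h0 : j s = 0 := (hs.map j).eq_zero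
      rw [← Submodule.mem_bot A, ← Ideal.iInf_pow_eq_bot_of_isLocalRing (IsLocalRing.maximalIdeal A)
        (IsLocalRing.maximalIdeal.isMaximal _).ne_top, Submodule.mem_iInf]
      exact fun n => hj' n s (h0 ▸ zero_mem _)⟩
    have hmap : (IsLocalRing.maximalIdeal (MvPowerSeries (Fin 2) (IsLocalRing.ResidueField A))).map π =
        IsLocalRing.maximalIdeal S := IsLocalRing.map_maximalIdeal_of_surjective π hπ
    have hgenS : Ideal.span {π (MvPowerSeries.X 0), π (MvPowerSeries.X 1)} = IsLocalRing.maximalIdeal S := by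
      rw [← hmap, ← Groth.L21.Nodal.span_X_eq_maximalIdeal, Ideal.map_span, Set.image_pair]
    let X := π (MvPowerSeries.X 0)
    let Y := π (MvPowerSeries.X 1)
    have hX : X ∈ IsLocalRing.maximalIdeal S := hgenS ▸ Ideal.subset_span (Or.inl rfl)
    have hY : Y ∈ IsLocalRing.maximalIdeal S := hgenS ▸ Ideal.subset_span (Or.inr rfl)
    obtain ⟨u, hu⟩ := Groth.L21.Nodal.exists_approx_mem_sq hX
    obtain ⟨v, hv⟩ := Groth.L21.Nodal.exists_approx_mem_sq hY
    have h2 : IsLocalRing.maximalIdeal S ^ 2 ≤ IsLocalRing.maximalIdeal S := Ideal.pow_le_self two_ne_zero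
    have hju : j u ∈ IsLocalRing.maximalIdeal S := by
      rw [show j u = (j u - X) + X by ring]; exact add_mem (h2 hu) hX
    have hjv : j v ∈ IsLocalRing.maximalIdeal S := by
      rw [show j v = (j v - Y) + Y by ring]; exact add_mem (h2 hv) hY
    have hum : u ∈ IsLocalRing.maximalIdeal A := pow_one (IsLocalRing.maximalIdeal A) ▸ hj' 1 u (by rw [pow_one]; exact hju)
    have hvm : v ∈ IsLocalRing.maximalIdeal A := pow_one (IsLocalRing.maximalIdeal A) ▸ hj' 1 v (by rw [pow_one]; exact hjv)
    have hgen : Ideal.span {u, v} ⊔ IsLocalRing.maximalIdeal A ^ 2 = IsLocalRing.maximalIdeal A := by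
      refine le_antisymm (sup_le (Ideal.span_le.2 ?_) (Ideal.pow_le_self two_ne_zero)) fun s hs => ?_
      · rintro _ (rfl | rfl) <;> assumption
      · have h1 : j s ∈ Ideal.span {X, Y} := hgenS ▸ (pow_one (IsLocalRing.maximalIdeal S) ▸ hj 1 s (by rw [pow_one]; exact hs))
        obtain ⟨p, q, hpq⟩ := Ideal.mem_span_pair.1 h1
        obtain ⟨p', hp'⟩ := Groth.L01.CompletionExt.exists_sub_mem_pow 1 p
        obtain ⟨q', hq'⟩ := Groth.L01.CompletionExt.exists_sub_mem_pow 1 q
        rw [pow_one] at hp' hq'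
        rw [show s = (p' * u + q' * v) + (s - (p' * u + q' * v)) by ring]
        refine Submodule.add_mem_sup (Ideal.mem_span_pair.2 ⟨p', q', rfl⟩) (hj' 2 _ ?_)
        rw [map_sub, map_add, map_mul, map_mul, ← hpq,
          show p * X + q * Y - (j p' * j u + j q' * j v) =
            (p - j p') * X + (q - j q') * Y - j p' * (j u - X) - j q' * (j v - Y) by ring]
        refine sub_mem (sub_mem (add_mem ?_ ?_) (Ideal.mul_mem_left _ _ hu)) (Ideal.mul_mem_left _ _ hv)
        · rw [pow_two]; exact Ideal.mul_mem_mul hp' hX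
        · rw [pow_two]; exact Ideal.mul_mem_mul hq' hY
    obtain ⟨a, ha⟩ := Groth.L01.CompletionExt.exists_sub_mem_pow 1 (π (MvPowerSeries.C a₀))
    obtain ⟨b, hb⟩ := Groth.L01.CompletionExt.exists_sub_mem_pow 1 (π (MvPowerSeries.C b₀))
    obtain ⟨c, hc⟩ := Groth.L01.CompletionExt.exists_sub_mem_pow 1 (π (MvPowerSeries.C c₀))
    rw [pow_one] at ha hb hc
    have hnp : ¬ (IsLocalRing.maximalIdeal A).IsPrincipal := fun ⟨g, hg⟩ => hnpR (by
      refine ⟨e' (j g), ?_⟩
      have h1 : IsLocalRing.maximalIdeal S = Ideal.span {j g} := by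
        rw [AdicCompletion.maximalIdeal_eq_map, ← Set.image_singleton, ← Ideal.map_span]
        exact congrArg _ hg
      have h3 := congrArg (Ideal.map e'.toRingHom) h1
      rw [← hmap, Ideal.map_map, Ideal.map_span, Set.image_singleton] at h3
      rw [show e'.toRingHom.comp π = Ideal.Quotient.mk _ from RingHom.ext fun f => e'.apply_symm_apply _] at h3
      exact h3)
    refine ⟨hsep, inferInstance, le_antisymm ?_ ?_, u, v, a, b, c, hum, hvm, hgen, ?_, ?_⟩
    · rw [← IsLocalRing.spanFinrank_maximalIdeal_eq_finrank_cotangentSpace]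
      have h1 : Ideal.span {u, v} = IsLocalRing.maximalIdeal A := by
        refine le_antisymm (Ideal.span_le.2 ?_) (Submodule.le_of_le_smul_of_le_jacobson_bot (IsNoetherian.noetherian _)
          (IsLocalRing.maximalIdeal_le_jacobson ⊥) (by rw [Ideal.smul_eq_mul, ← pow_two, hgen]))
        rintro _ (rfl | rfl) <;> assumption
      rw [← h1]
      refine (Submodule.spanFinrank_span_le_ncard_of_finite (Set.toFinite _)).trans ?_
      exact (Set.ncard_insert_le _ _).trans (by simp)
    · by_contra h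
      exact hnp (IsLocalRing.finrank_cotangentSpace_le_one_iff.1 (by omega))
    · rw [IsLocalRing.residue_ne_zero_iff_isUnit]
      by_contra h
      have h1 : j (4 * a * c - b ^ 2) ∈ IsLocalRing.maximalIdeal S :=
        pow_one (IsLocalRing.maximalIdeal S) ▸ hj 1 _ (by rw [pow_one]; exact (IsLocalRing.mem_maximalIdeal _).2 h)
      have h3 : π (MvPowerSeries.C (4 * a₀ * c₀ - b₀ ^ 2)) ∈ IsLocalRing.maximalIdeal S := by
        rw [← IsLocalRing.residue_eq_zero_iff] at h1 ⊢
        have ea := (IsLocalRing.residue_eq_zero_iff _).2 ha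
        have eb := (IsLocalRing.residue_eq_zero_iff _).2 hb
        have ec := (IsLocalRing.residue_eq_zero_iff _).2 hc
        simp only [map_sub, map_mul, map_pow, map_ofNat, sub_eq_zero] at ea eb ec h1 ⊢
        rw [ea, eb, ec]
        exact h1
      exact (IsLocalRing.mem_maximalIdeal _).1 h3 (((IsUnit.mk0 _ hD).map MvPowerSeries.C).map π)
    · refine hj' 3 _ ?_
      have h0 : Groth.L21.Nodal.qf (π (MvPowerSeries.C a₀)) (π (MvPowerSeries.C b₀)) (π (MvPowerSeries.C c₀)) X Y = 0 := by
        rw [← Groth.L21.Nodal.map_qf]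
        show e'.symm (Ideal.Quotient.mk _ _) = 0
        rw [Ideal.Quotient.eq_zero_iff_mem.2 (Ideal.mem_span_singleton_self _), map_zero]
      simp only [Groth.L21.Nodal.qf] at h0
      set a' := π (MvPowerSeries.C a₀)
      set b' := π (MvPowerSeries.C b₀)
      set c' := π (MvPowerSeries.C c₀)
      have key : ∀ (s t : S), s ∈ IsLocalRing.maximalIdeal S → t ∈ IsLocalRing.maximalIdeal S ^ 2 →
          s * t ∈ IsLocalRing.maximalIdeal S ^ 3 := fun s t hs ht => by rw [pow_succ']; exact Ideal.mul_mem_mul hs ht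
      rw [map_add, map_add, map_mul, map_mul, map_mul, map_mul, map_pow, map_pow,
        show j a * j u ^ 2 + j b * j u * j v + j c * j v ^ 2 =
          (j u + X) * (j a * (j u - X)) + j u * (j b * (j v - Y)) + Y * (j b * (j u - X)) +
            (j v + Y) * (j c * (j v - Y)) - (a' - j a) * X ^ 2 - (b' - j b) * (X * Y) - (c' - j c) * Y ^ 2 by
          linear_combination h0]
      refine sub_mem (sub_mem (sub_mem (add_mem (add_mem (add_mem ?_ ?_) ?_) ?_) ?_) ?_) ?_
      · exact key _ _ (add_mem hju hX) (Ideal.mul_mem_left _ _ hu)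
      · exact key _ _ hju (Ideal.mul_mem_left _ _ hv)
      · exact key _ _ hY (Ideal.mul_mem_left _ _ hu)
      · exact key _ _ (add_mem hjv hY) (Ideal.mul_mem_left _ _ hv)
      · exact key _ _ ha (Ideal.pow_mem_pow hX 2)
      · exact key _ _ hb (by rw [pow_two]; exact Ideal.mul_mem_mul hX hY)
      · exact key _ _ hc (Ideal.pow_mem_pow hY 2)

end Groth.Agent.S1631
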