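import Groth.Statements.S9442
import Groth.Agent.L12.CotTSmooth
import Groth.Agent.L03.GeomReduced
import Groth.Agent.L07.RationalSmooth
import Mathlib.RingTheory.RegularLocalRing.Polynomial
import Mathlib.RingTheory.Smooth.Local
import Mathlib.RingTheory.Kaehler.Polynomial
import Mathlib.RingTheory.Smooth.Locus
import Mathlib.RingTheory.LocalRing.ResidueField.Ideal

set_option autoImplicit false
universe u
open CAlg


namespace Groth.Agent.S9442
open IsLocalRing TensorProduct

theorem formallySmooth_of_regular (k Q S κ : Type u) [Field k] [CommRing Q] [CommRing S] [Field κ] [Algebra k Q]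
    [Algebra k S] [Algebra Q S] [IsScalarTower k Q S] [IsRegularLocalRing Q] [IsRegularLocalRing S]
    [Algebra.FormallySmooth k Q] [Module.Free Q Ω[Q⁄k]] [Module.Finite Q Ω[Q⁄k]]
    [Algebra S κ] [Algebra k κ] [IsScalarTower k S κ] [Algebra.FormallySmooth k κ]
    (h₁ : Function.Surjective (algebraMap Q S)) (h₂ : Function.Surjective (algebraMap S κ)) :
    Algebra.FormallySmooth k S := by
  letI : Algebra Q κ := ((algebraMap S κ).comp (algebraMap Q S)).toAlgebra
  haveI : IsScalarTower Q S κ := IsScalarTower.of_algebraMap_eq fun _ => rfl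
  haveI : IsScalarTower k Q κ := IsScalarTower.of_algebraMap_eq fun c => by
    show _ = algebraMap S κ (algebraMap Q S (algebraMap k Q c))
    rw [← IsScalarTower.algebraMap_apply k Q S, ← IsScalarTower.algebraMap_apply k S κ]
  have hQκ : Function.Surjective (algebraMap Q κ) := h₂.comp h₁
  have hmaxS : maximalIdeal S = RingHom.ker (algebraMap S κ) :=
    (IsLocalRing.eq_maximalIdeal (RingHom.ker_isMaximal_of_surjective _ h₂)).symm
  have hmaxQ : maximalIdeal Q = RingHom.ker (algebraMap Q κ) :=
    (IsLocalRing.eq_maximalIdeal (RingHom.ker_isMaximal_of_surjective _ hQκ)).symm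
  refine (Algebra.FormallySmooth.iff_injective_cotangentComplexBaseChange (R := k) Q κ h₁
    (IsNoetherian.noetherian _) hmaxS.le).mpr ?_
  obtain ⟨l, hl⟩ := (Algebra.FormallySmooth.iff_split_injection (R := k) (P := Q) (A := κ) hQκ).1 inferInstance
  rw [injective_iff_map_eq_zero]
  intro z hz
  obtain ⟨j, rfl⟩ := TensorProduct.mk_surjective Q (RingHom.ker (algebraMap Q S)) κ hQκ z
  have hjker : (j : Q) ∈ RingHom.ker (algebraMap Q κ) := by
    show algebraMap S κ (algebraMap Q S j) = 0
    rw [RingHom.mem_ker.mp j.2, map_zero]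
  have h1 : (1 : κ) ⊗ₜ[Q] KaehlerDifferential.D k Q (j : Q) = 0 := by
    rw [TensorProduct.mk_apply, KaehlerDifferential.cotangentComplexBaseChange_tmul, one_smul] at hz
    exact hz
  have h0 : (RingHom.ker (algebraMap Q κ)).toCotangent ⟨j, hjker⟩ = 0 := by
    have := LinearMap.congr_fun hl ((RingHom.ker (algebraMap Q κ)).toCotangent ⟨j, hjker⟩)
    rw [LinearMap.comp_apply, KaehlerDifferential.kerCotangentToTensor_toCotangent, h1, map_zero] at this
    exact this.symm
  rw [Ideal.toCotangent_eq_zero] at h0
  have h0' : (j : Q) ∈ maximalIdeal Q ^ 2 := by rw [hmaxQ]; exact h0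
  have hmem := Groth.L07.RationalSmooth.mem_of_mem_sq (RingHom.ker (algebraMap Q S))
    (IsRegularLocalRing.of_ringEquiv (RingHom.quotientKerEquivOfSurjective h₁).symm) j.2 h0'
  rw [TensorProduct.mk_apply]
  obtain ⟨j', hj', hj'e⟩ : ∃ j' ∈ maximalIdeal Q • (⊤ : Submodule Q ↥(RingHom.ker (algebraMap Q S))),
      (RingHom.ker (algebraMap Q S)).subtype j' = (j : Q) := by
    rw [← Submodule.mem_map, Submodule.map_smul'', Submodule.map_subtype_top, smul_eq_mul]
    exact hmem
  obtain rfl : j' = j := Subtype.ext hj'e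
  refine Submodule.smul_induction_on (p := fun v => (1 : κ) ⊗ₜ[Q] v = 0) hj' (fun r hr v _ => ?_) ?_
  · rw [← TensorProduct.smul_tmul, Algebra.smul_def,
      show algebraMap Q κ r = 0 from (hmaxQ ▸ hr : r ∈ RingHom.ker (algebraMap Q κ)), zero_mul, TensorProduct.zero_tmul]
  · intro a b ha hb
    rw [TensorProduct.tmul_add, ha, hb, add_zero]

end Groth.Agent.S9442


namespace Groth.Agent.S9442

/-- For a finite type algebra S over a field k and a prime q of S with κ(q) separable over k, S is
smooth over k at q if and only if S_q is a regular local ring. -/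
theorem result (k : Type u) [Field k]
    (S : Type u) [CommRing S] [Algebra k S] [Algebra.FiniteType k S] (q : Ideal S) [q.IsPrime]
    [Algebra.IsGeometricallyReduced k q.ResidueField] :
    Algebra.IsSmoothAt k q ↔ IsRegularLocalRing (Localization.AtPrime q) := by
  refine ⟨fun h => Groth.L12.CotTLib.regular_of_isSmoothAt (k := k) q, fun hreg => ?_⟩
  haveI : Algebra.FormallySmooth k q.ResidueField := (Groth.L03.GeomReduced.formallySmooth_iff k q.ResidueField).2 inferInstance
  obtain ⟨n, φ, hφ⟩ := Algebra.FiniteType.iff_quotient_mvPolynomial''.mp ‹Algebra.FiniteType k S›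
  let p := q.comap φ.toRingHom
  haveI : p.IsPrime := Ideal.IsPrime.comap _
  let Q := Localization.AtPrime p
  haveI : IsRegularLocalRing Q := isRegularRing_iff.1 inferInstance p
  let f : Q →+* Localization.AtPrime q := Localization.localRingHom p q φ.toRingHom rfl
  letI := f.toAlgebra
  haveI : IsScalarTower k Q (Localization.AtPrime q) := IsScalarTower.of_algebraMap_eq fun c => by
    show _ = f (algebraMap k Q c)
    rw [IsScalarTower.algebraMap_apply k (MvPolynomial (Fin n) k) Q]
    rw [Localization.localRingHom_to_map,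
      IsScalarTower.algebraMap_apply k S (Localization.AtPrime q)]
    exact congrArg _ (φ.commutes c).symm
  haveI : Algebra.FormallyEtale (MvPolynomial (Fin n) k) Q := .of_isLocalization p.primeCompl
  haveI : Algebra.FormallySmooth k Q := .comp _ (MvPolynomial (Fin n) k) _
  haveI : Module.Free Q Ω[Q⁄k] :=
    .of_equiv (KaehlerDifferential.tensorKaehlerEquivOfFormallyEtale k (MvPolynomial (Fin n) k) Q)
  haveI : Module.Finite Q Ω[Q⁄k] :=
    .equiv (KaehlerDifferential.tensorKaehlerEquivOfFormallyEtale k (MvPolynomial (Fin n) k) Q)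
  have h₁ : Function.Surjective f := by
    intro x
    obtain ⟨a, ⟨s, hs⟩, rfl⟩ := IsLocalization.exists_mk'_eq q.primeCompl x
    obtain ⟨a, rfl⟩ := hφ a
    obtain ⟨s, rfl⟩ := hφ s
    exact ⟨IsLocalization.mk' Q a (⟨s, hs⟩ : p.primeCompl), Localization.localRingHom_mk' p q _ rfl _ _⟩
  exact formallySmooth_of_regular k Q (Localization.AtPrime q) q.ResidueField h₁ IsLocalRing.residue_surjective

end Groth.Agent.S9442
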