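import Groth.Statements.S2079
import Groth.Agent.L19.Approx.Proper

set_option autoImplicit false
set_option backward.isDefEq.respectTransparency.types false
set_option backward.isDefEq.respectTransparency false
set_option backward.defeqAttrib.useBackward true
set_option linter.style.haveILetI false
universe u
open CategoryTheory AlgebraicGeometry
open Lim

namespace Groth.Agent.S2079

/-- Let `f : X → S` be proper with `S` quasi-compact and quasi-separated. Then `X` is the limit of a
cofiltered diagram of `S`-schemes which are proper and of finite presentation over `S`, with all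
transition morphisms and all projections `X → X_i` closed immersions. -/
theorem result {X S : Scheme.{u}} (f : X ⟶ S) [IsProper f] [CompactSpace S]
    [QuasiSeparatedSpace S] :
    ∃ (I : Type u) (_ : SmallCategory I) (_ : IsCofiltered I) (D : I ⥤ Over S) (c : Limits.Cone D)
      (_ : Limits.IsLimit c) (e : c.pt ≅ Over.mk f),
      (∀ (i j : I) (a : i ⟶ j), IsClosedImmersion (D.map a).left) ∧
      (∀ i, IsClosedImmersion (c.π.app i).left ∧ IsProper (D.obj i).hom ∧
        LocallyOfFinitePresentation (D.obj i).hom) := by
  open Groth.L19.Approx in
  haveI : CompactSpace X := QuasiCompact.compactSpace_of_compactSpace f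
  haveI : QuasiSeparatedSpace X := quasiSeparatedSpace_of_quasiSeparated f
  obtain ⟨Z, g, j, hg, hc, hq, hj, hjg⟩ := embeds_of_locallyOfFiniteType f
  haveI : IsProper (j ≫ g) := hjg.symm ▸ ‹IsProper f›
  haveI : QuasiSeparated g := .of_comp g (Limits.terminal.from S)
  obtain ⟨i₀, hi₀⟩ := exists_stage_isProper j g
  haveI : IsCofiltered (Over i₀) := inferInstance
  refine ⟨Over i₀, inferInstance, inferInstance, Over.forget i₀ ⋙ overSystem j g,
    (overCone j g).whisker (Over.forget i₀),
    (Functor.Initial.isLimitWhiskerEquiv (Over.forget i₀) (overCone j g)).symm (isLimitOverCone j g),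
    overConeIso j g ≪≫ eqToIso (by rw [hjg]), fun a b φ => isClosedImmersion_overSystem_map j g _,
    fun a => ⟨isClosedImmersion_overCone_π j g _, hi₀ _ a.hom, lfp_overSystem j g _⟩⟩

end Groth.Agent.S2079
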