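import Groth.Agent.L18.FreeFiniteSet
import Groth.Statements.S4436
-- import your own Groth.Agent.* helpers here

set_option autoImplicit false
universe u
open CategoryTheory CategoryTheory.Limits AlgebraicGeometry
open EGA2

namespace Groth.Agent.S4436

/-- Let f : X' ⟶ X be a finite morphism and F' a locally free O_{X'}-module of rank r. Then every point
of X has an open neighbourhood U over whose inverse image F' is free of rank r; this is the content
of the statement that the direct image of F' is a locally free module of rank r over the direct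
image of O_{X'} (the converse implication being immediate). -/
theorem result {X' X : Scheme.{u}} (f : X' ⟶ X) [IsFinite f] (r : ℕ)
    (F : X'.Modules) (hF : FlatMod.IsFinLocFreeOfRank r F) (x : X) :
    ∃ U : X.Opens, x ∈ U ∧ Nonempty (F.restrict (f ⁻¹ᵁ U).ι ≅ FlatMod.freeMod (↑(f ⁻¹ᵁ U)) r) := by
  haveI : Coh.IsQCoh F := by
    obtain ⟨d, -⟩ := (Groth.L18.LFP.isFP_of_isFinLocFree _ (fun x => (hF x).elim fun U h => ⟨U, r, h⟩)).exists_quasicoherentData
    exact d.isQuasicoherent
  obtain ⟨_, ⟨V, hV, rfl⟩, hxV, -⟩ :=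
    X.isBasis_affineOpens.exists_subset_of_mem_open (Set.mem_univ x) isOpen_univ
  obtain ⟨U', hZU, hU'V, ⟨e⟩⟩ := Groth.L18.FreeFin.exists_free_nhd hF (f.base ⁻¹' {x})
    (f.finite_preimage_singleton x) (hV.preimage f) (fun y (hy : f.base y = x) => show f.base y ∈ _ from hy ▸ hxV)
  refine ⟨⟨(f.base '' (U' : Set X')ᶜ)ᶜ, (f.isClosedMap _ U'.isOpen.isClosed_compl).isOpen_compl⟩,
    fun ⟨y, hy, hyx⟩ => hy (hZU hyx), Groth.L29.LocFree.restrict_le (fun y hy => ?_) e⟩
  by_contra hyU
  exact hy ⟨y, hyU, rfl⟩

end Groth.Agent.S4436
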