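import Groth.Statements.S6034
import Groth.Agent.L04.SupportSh.Affine

set_option autoImplicit false
universe u
open CategoryTheory CategoryTheory.Limits TopologicalSpace AlgebraicGeometry
open LocCohZ

namespace Groth.Agent.S6034

/-- Let X be a locally Noetherian scheme, Y a closed subset with open complement U, M a coherent
O_X-module with underlying abelian sheaf F and n a natural number. Then ℋ^i_Y(F) = 0 for all i < n
if and only if depth M_x ≥ n for every x ∈ Y. -/
theorem result (X : Scheme.{u}) [IsLocallyNoetherian X] (U : X.Opens)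
    (M : X.Modules) (hM : Coh.IsCoh M) (n : ℕ) :
    (∀ i : ℕ, i < n → IsZero ((LocCohZ.HZsh (X := X.carrier) U i).obj (Coh.toAb M))) ↔
      ∀ x : X, x ∉ (U : Set X) →
        (n : ℕ∞) ≤ LocCoh.depth (X.presheaf.stalk x) (M.presheaf.stalk x) := by
  haveI : Coh.IsQCoh M := hM.1
  have hvan : ∀ V : X.Opens, IsAffineOpen V → ∀ q, 1 ≤ q → Subsingleton (CohTop.HU (X := X.toTopCat) (Coh.toAb M) q V) :=
    fun V hV q hq => by
      obtain ⟨k, rfl⟩ : ∃ k, q = k + 1 := ⟨q - 1, by omega⟩
      exact subsingleton_of_forall_eq 0 (Groth.L17.hu_affine_eq_zero M hV k)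
  constructor
  · intro h x hx
    obtain ⟨_, ⟨V, hV, rfl⟩, hxV, -⟩ :=
      X.isBasis_affineOpens.exists_subset_of_mem_open (Set.mem_univ x) isOpen_univ
    exact (Groth.L04.SupportSh.depth_affine_iff U M hM hV n).2
      (Groth.L04.SupportSh.res_bijective_of_HZsh U (Coh.toAb M) n h V (hvan V hV)) x hxV hx
  · intro h
    have hd := fun (V : X.Opens) (hV : IsAffineOpen V) =>
      (Groth.L04.SupportSh.depth_affine_iff U M hM hV n).1 fun x _ hx => h x hx
    exact Groth.L04.SupportSh.isZero_HZsh_of_basis U (Coh.toAb M) _ X.isBasis_affineOpens hvan n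
      (fun hn V hV => (hd V hV).1 hn) (fun hn V hV => (hd V hV).2.1 hn) (fun p hp hpn V hV => (hd V hV).2.2 p hp hpn)

end Groth.Agent.S6034
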