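import Groth.Statements.S6039
import Groth.Agent.L04.SupportSh.Criteria
import Groth.Agent.S6034

set_option autoImplicit false
universe u
open CategoryTheory CategoryTheory.Limits TopologicalSpace AlgebraicGeometry Opposite
open LocCohZ

namespace Groth.Agent.S6039

/-- Let X be a locally Noetherian scheme, Y a closed subset with open complement U and M a coherent
O_X-module. Then depth M_x ≥ 2 for every x ∈ Y if and only if, for every open V of X, the
restriction map Γ(V, M) → Γ(V ∩ U, M) is bijective. -/
theorem result (X : Scheme.{u}) [IsLocallyNoetherian X] (U : X.Opens)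
    (M : X.Modules) (hM : Coh.IsCoh M) :
    (∀ x : X, x ∉ (U : Set X) → (2 : ℕ∞) ≤ LocCoh.depth (X.presheaf.stalk x) (M.presheaf.stalk x)) ↔
      ∀ V : X.Opens, Function.Bijective (M.val.map (homOfLE (inf_le_left : V ⊓ U ≤ V)).op).hom := by
  have key := @Groth.Agent.S6034.result X _ U M hM 2
  constructor
  · intro h V
    have hz := (Groth.L04.SupportSh.isZero_HZsh_iff_subsingleton_HZ U (Coh.toAb M) 2).1 (key.2 h) V
    have hb := Groth.L04.SupportSh.res_zero_bijective_iff (X := X.carrier) (Coh.toAb M) (inf_le_left : V ⊓ U ≤ V)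
    exact ⟨hb.1.1 ((Groth.L04.SupportSh.res_bijective_of_subsingleton_HZ (Coh.toAb M) 0 _).1 (hz 0 (by omega))),
      hb.2.1 ((Groth.L04.SupportSh.res_bijective_of_subsingleton_HZ (Coh.toAb M) 0 _).2 (hz 1 (by omega)))⟩
  · intro h
    refine key.1 fun i hi => ?_
    obtain _ | p := i
    · exact Groth.L04.SupportSh.isZero_HZsh_zero U _ fun V => (h V).1
    · obtain rfl : p = 0 := by omega
      exact Groth.L04.SupportSh.isZero_HZsh_succ U _ 0 fun V =>
        (Groth.L04.SupportSh.res_zero_bijective_iff (X := X.carrier) (Coh.toAb M) _).2.2 (h V).2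

end Groth.Agent.S6039
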