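import Groth.Statements.S5341
import Groth.Agent.L08.GrpDim

set_option autoImplicit false
universe u
open CategoryTheory CategoryTheory.Limits MonoidalCategory CartesianMonoidalCategory MonObj GrpObj AlgebraicGeometry
open SGA3

namespace Groth.Agent.S5341
open CategoryTheory.Limits
open Groth.L22 Groth.L22.FibreDim

/-- Let G be a group scheme locally of finite type over a field k. Then (i) every irreducible component
of G has the same dimension as G; (ii) for every point g of G the local dimension of G at g (the
infimum of the dimensions of the open neighbourhoods of g) equals dim G. -/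
theorem result (k : Type u) [Field k] (G : Over (Spec (CommRingCat.of k))) [GrpObj G]
    [LocallyOfFiniteType G.hom] :
    (∀ Z ∈ irreducibleComponents ↥G.left, topologicalKrullDim ↥Z = topologicalKrullDim ↥G.left) ∧
    (∀ g : G.left, FlatMor.localDim ↥G.left g = topologicalKrullDim ↥G.left) := by
  letI : G.left.Over (Spec (CommRingCat.of k)) := ⟨G.hom⟩
  haveI : LocallyOfFiniteType (G.left ↘ Spec (CommRingCat.of k)) := ‹LocallyOfFiniteType G.hom›
  obtain ⟨n, hall, hn⟩ := Groth.L08.GrpDim.exists_dim G
  refine ⟨fun Z hZ => ?_, fun g => ?_⟩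
  · obtain ⟨ξ, hξ, hmax⟩ := Groth.L25.Component.maximal_of_mem_irreducibleComponents hZ
    subst hξ
    rw [hall ξ fun w hw => ((hmax w hw).antisymm hw).eq.symm, hn]
  · refine le_antisymm ?_ (le_iInf fun U => ?_)
    · exact (iInf_le _ ⟨⊤, trivial⟩).trans (topologicalKrullDim_subspace_le _ _)
    · obtain ⟨ξ, hξg, hξ⟩ := Groth.L22.FibreDim.exists_maximal_specializes g
      obtain ⟨_, ⟨W, hW, rfl⟩, hgW, hWU⟩ := G.left.isBasis_affineOpens.exists_subset_of_mem_open U.2 U.1.2
      have hξW : ξ ∈ W := hξg.mem_open W.2 hgW
      obtain ⟨m, hm, htr⟩ := SchemeDim.exists_dim_quotient_eq_trdeg k G.left hW hξW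
      obtain ⟨m', hm', htr'⟩ := SchemeDim.exists_dim_closure_eq_trdeg k G.left ξ
      have h1 : m = m' := by exact_mod_cast htr.symm.trans htr'
      have h2 : (m' : WithBot ℕ∞) = n := hm'.symm.trans (hall ξ hξ)
      rw [hn, ← h2, ← h1, ← hm, ← SchemeDim.topologicalKrullDim_closure_inter hW hξW]
      exact SchemeDim.topologicalKrullDim_mono (Set.inter_subset_right.trans hWU)

end Groth.Agent.S5341
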