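import Groth.Statements.S6379
import Mathlib.Tactic
import Mathlib.RingTheory.Spectrum.Prime.Module
import Mathlib.RingTheory.LocalRing.Module
import Mathlib.RingTheory.Localization.AtPrime.Basic
import Mathlib.RingTheory.Ideal.KrullsHeightTheorem
import Mathlib.LinearAlgebra.Matrix.NonsingularInverse
import Mathlib.RingTheory.TensorProduct.Quotient
import Mathlib.RingTheory.Flat.FaithfullyFlat.Basic
import Mathlib.LinearAlgebra.TensorProduct.Prod
import Mathlib.RingTheory.LocalProperties.Reduced
import Mathlib.RingTheory.Finiteness.ModuleFinitePresentation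
import Groth.Agent.L02.Dominate

set_option autoImplicit false
universe u
open scoped TensorProduct
open CAlg

namespace Groth.Agent.S6379

/-- Let M be a flat Mittag-Leffler module over a commutative ring R, F an R-module and x ∈ F ⊗_R M. Then
among the submodules F' of F with x in the image of F' ⊗ M → F ⊗ M there is a smallest one, and it
is a finitely generated module. -/
theorem result (R : Type u) [CommRing R] (M : Type u)
    [AddCommGroup M] [Module R M] [Module.Flat R M] (hM : CAlg.IsMittagLeffler R M)
    (F : Type u) [AddCommGroup F] [Module R F] (x : F ⊗[R] M) :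
    ∃ F' : Submodule R F, F'.FG ∧ x ∈ LinearMap.range (F'.subtype.rTensor M) ∧
      ∀ F'' : Submodule R F, x ∈ LinearMap.range (F''.subtype.rTensor M) → F' ≤ F'' := by
  classical
  let J := {F' : Submodule R F // x ∈ LinearMap.range (F'.subtype.rTensor M)}
  let I : Submodule R F := ⨅ j : J, j.1
  have hxI : x ∈ LinearMap.range (I.subtype.rTensor M) := by
    refine (rTensor_exact M (LinearMap.exact_subtype_mkQ I) I.mkQ_surjective x).mp ?_
    let δ : F ⧸ I →ₗ[R] (∀ j : J, F ⧸ j.1) :=
      I.liftQ (LinearMap.pi fun j => j.1.mkQ) fun y hy => by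
        simp only [LinearMap.mem_ker]
        funext j
        exact (Submodule.Quotient.mk_eq_zero _).mpr ((Submodule.mem_iInf _).mp hy j)
    have hδ : Function.Injective δ := by
      rw [← LinearMap.ker_eq_bot]
      refine Submodule.ker_liftQ_eq_bot _ _ _ fun y hy => (Submodule.mem_iInf _).mpr fun j => ?_
      exact (Submodule.Quotient.mk_eq_zero _).mp (congrFun (LinearMap.mem_ker.mp hy) j)
    apply Module.Flat.rTensor_preserves_injective_linearMap δ hδ
    rw [map_zero]
    apply (TensorProduct.comm R _ M).injective
    rw [map_zero]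
    apply hM J (fun j => F ⧸ j.1)
    rw [map_zero]
    funext j
    have key : ∀ w : TensorProduct R F M,
        TensorProduct.piRightHom R R M (fun j : J => F ⧸ j.1)
          (TensorProduct.comm R _ M (δ.rTensor M (I.mkQ.rTensor M w))) j =
        TensorProduct.comm R _ M (j.1.mkQ.rTensor M w) := fun w => by
      induction w using TensorProduct.induction_on with
      | zero => simp
      | tmul a b => simp [δ]
      | add a b ha hb => simp only [map_add, Pi.add_apply, ha, hb]
    rw [key, Pi.zero_apply]
    obtain ⟨z, hz⟩ := j.2
    refine (congrArg (fun w => TensorProduct.comm R _ M (j.1.mkQ.rTensor M w)) hz.symm).trans ?_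
    try dsimp only
    rw [← LinearMap.comp_apply, ← LinearMap.rTensor_comp,
      show j.1.mkQ.comp j.1.subtype = 0 from LinearMap.ext fun y => (Submodule.Quotient.mk_eq_zero _).mpr y.2,
      LinearMap.rTensor_zero, LinearMap.zero_apply, map_zero]
  obtain ⟨z, hz⟩ := hxI
  obtain ⟨K0, hK0, z', hz'⟩ := Groth.L02.exists_fg_rTensor (N := M) (TensorProduct.comm R I M z)
  have hxK : x ∈ LinearMap.range ((K0.map I.subtype).subtype.rTensor M) := by
    refine ⟨(I.subtype.restrict (fun k hk => ⟨k, hk, rfl⟩) : K0 →ₗ[R] K0.map I.subtype).rTensor M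
      (TensorProduct.comm R M K0 z'), ?_⟩
    rw [← hz, ← LinearMap.comp_apply, ← LinearMap.rTensor_comp]
    have h1 : z = K0.subtype.rTensor M (TensorProduct.comm R M K0 z') := by
      apply (TensorProduct.comm R I M).injective
      rw [← hz']
      clear hz'
      induction z' using TensorProduct.induction_on with
      | zero => simp
      | tmul a b => simp
      | add a b ha hb => simp only [map_add, ha, hb]
    rw [h1, ← LinearMap.comp_apply, ← LinearMap.rTensor_comp]
    congr 2
  refine ⟨K0.map I.subtype, hK0.map _, hxK, fun F'' hF'' y hy => ?_⟩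
  obtain ⟨k, _, rfl⟩ := hy
  exact (Submodule.mem_iInf _).mp k.2 ⟨F'', hF''⟩

end Groth.Agent.S6379
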