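import Groth.Statements.S6346
import Mathlib.Tactic
import Mathlib.RingTheory.Spectrum.Prime.Module
import Mathlib.RingTheory.LocalRing.Module
import Mathlib.RingTheory.Localization.AtPrime.Basic
import Mathlib.RingTheory.Ideal.KrullsHeightTheorem
import Mathlib.LinearAlgebra.Matrix.NonsingularInverse
import Mathlib.RingTheory.TensorProduct.Quotient
import Mathlib.RingTheory.Flat.FaithfullyFlat.Basic
import Mathlib.LinearAlgebra.TensorProduct.Prod
import Mathlib.RingTheory.LocalProperties.Reduced
import Mathlib.RingTheory.Finiteness.ModuleFinitePresentation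
import Groth.Agent.L02.Dominate
import Groth.Agent.S6379

set_option autoImplicit false
universe u
open scoped TensorProduct
open CAlg

namespace Groth.Agent.S6346

/-- Let M be a flat module over a commutative ring R. Then M is Mittag-Leffler exactly when, for each
finite free module F = R^n and each element x of F ⊗ M there is a smallest submodule F' of F such
that x lies in the image of F' ⊗ M → F ⊗ M. -/
theorem result (R : Type u) [CommRing R] (M : Type u)
    [AddCommGroup M] [Module R M] [Module.Flat R M] :
    CAlg.IsMittagLeffler R M ↔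
      ∀ (n : ℕ) (x : (Fin n → R) ⊗[R] M), ∃ F' : Submodule R (Fin n → R),
        x ∈ LinearMap.range (F'.subtype.rTensor M) ∧
        ∀ F'' : Submodule R (Fin n → R), x ∈ LinearMap.range (F''.subtype.rTensor M) → F' ≤ F'' := by
  classical
  constructor
  · intro hM n x
    obtain ⟨F', _, h1, h2⟩ := Groth.Agent.S6379.result R M hM (Fin n → R) x
    exact ⟨F', h1, h2⟩
  · intro h ι Q _ _
    rw [injective_iff_map_eq_zero]
    intro x hx
    obtain ⟨n, φ, x0, hx0⟩ : ∃ (n : ℕ) (φ : (Fin n → R) →ₗ[R] (∀ i, Q i)) (x0 : (Fin n → R) ⊗[R] M),
        TensorProduct.comm R _ M (φ.rTensor M x0) = x := by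
      obtain ⟨S, hS⟩ := TensorProduct.exists_finset x
      let e := S.equivFin
      refine ⟨S.card, Fintype.linearCombination R (fun i => (e.symm i).1.2),
        ∑ i, (Pi.single i (1 : R)) ⊗ₜ (e.symm i).1.1, ?_⟩
      rw [hS, ← Finset.sum_coe_sort S, ← Equiv.sum_comp e.symm]
      simp [map_sum, Fintype.linearCombination_apply, Pi.single_apply]
    obtain ⟨F', ⟨z, hz⟩, hmin⟩ := h n x0
    have hle : ∀ i, F' ≤ LinearMap.ker ((LinearMap.proj i).comp φ) := fun i => by
      apply hmin
      have h0 : ((LinearMap.proj i).comp φ).rTensor M x0 = 0 := by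
        have h1 := congrFun hx i
        rw [← hx0] at h1
        have key : ∀ w : (∀ i, Q i) ⊗[R] M,
            TensorProduct.piRightHom R R M Q (TensorProduct.comm R _ M w) i =
              TensorProduct.comm R _ M ((LinearMap.proj i : (∀ i, Q i) →ₗ[R] Q i).rTensor M w) := fun w => by
          induction w using TensorProduct.induction_on with
          | zero => simp
          | tmul a b => simp
          | add a b ha hb => simp only [map_add, Pi.add_apply, ha, hb]
        rw [key, Pi.zero_apply, LinearEquiv.map_eq_zero_iff] at h1
        rw [LinearMap.rTensor_comp, LinearMap.comp_apply]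
        exact h1
      let g := (LinearMap.proj i : (∀ i, Q i) →ₗ[R] Q i).comp φ
      have hinj := Module.Flat.rTensor_preserves_injective_linearMap (M := M)
        (LinearMap.range g).subtype (LinearMap.range g).subtype_injective
      refine (rTensor_exact M (LinearMap.exact_subtype_ker_map g.rangeRestrict) g.surjective_rangeRestrict x0).mp
        (hinj ?_) |> fun ⟨y, hy⟩ => ?_
      · rw [map_zero, ← LinearMap.comp_apply, ← LinearMap.rTensor_comp]
        exact h0
      · refine ⟨(Submodule.inclusion (LinearMap.ker_rangeRestrict g).le).rTensor M y, ?_⟩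
        rw [← LinearMap.comp_apply, ← LinearMap.rTensor_comp]
        exact hy
    rw [← hx0, ← hz, ← LinearMap.comp_apply, ← LinearMap.rTensor_comp]
    have : φ.comp F'.subtype = 0 := LinearMap.ext fun v => funext fun i => hle i v.2
    rw [this, LinearMap.rTensor_zero, LinearMap.zero_apply, map_zero]

end Groth.Agent.S6346
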