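import Groth.Prelude.Def_Pic13
import Groth.Prelude.Def_FGA
import Groth.Prelude.Def_Pic
import Groth.Prelude.Def_CohB1
import Groth.Prelude.Def_Coh
import Mathlib.AlgebraicGeometry.Morphisms.Proper
import Mathlib.AlgebraicGeometry.Morphisms.ClosedImmersion
import Mathlib.Topology.KrullDimension
import Mathlib.AlgebraicGeometry.Pullbacks
import Groth.Agent.L11.NumOrth.NefBC
import Groth.Agent.L11.NumOrth.NumZero
import Groth.Agent.L08.Cube.Inverse
-- import your own Groth.Agent.* helpers here

set_option autoImplicit false
universe u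
open CategoryTheory CategoryTheory.Limits AlgebraicGeometry
open Pic13

namespace Groth.Agent.S14811

/-- Let X be a proper scheme over a field k, L an invertible O_X-module and k ⊆ E an arbitrary field
extension. Then L is numerically trivial on X (degree 0 on every closed subscheme of X which is
integral of dimension one) if and only if the pullback of L to X_E = X ×_k Spec E is numerically
trivial on X_E regarded as a scheme over E. -/
theorem result (k : Type u) [Field k] (X : Scheme.{u})
    [X.Over (Spec (CommRingCat.of k))] [IsProper (X ↘ Spec (CommRingCat.of k))] (L : X.Modules) (hL : PicF.IsInvertible L)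
    (E : Type u) [Field E] [Algebra k E] :
    Pic13.IsNumEquivZero k X L ↔
      @Pic13.IsNumEquivZero E _ (pullback (X ↘ Spec (CommRingCat.of k)) (Spec.map (CommRingCat.ofHom (algebraMap k E))))
        ⟨pullback.snd (X ↘ Spec (CommRingCat.of k)) (Spec.map (CommRingCat.ofHom (algebraMap k E)))⟩
        ((Scheme.Modules.pullback (pullback.fst (X ↘ Spec (CommRingCat.of k)) (Spec.map (CommRingCat.ofHom (algebraMap k E))))).obj L) := by
  obtain ⟨Q, hQ, ⟨e⟩⟩ := Groth.L08.Cube.exists_inverse hL
  let g := Groth.L11.NumOrth.projE k E X
  rw [Groth.L11.NumOrth.numZero_iff_isNef k hL hQ e, Groth.L11.NumOrth.isNef_XE_iff k E hL,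
    Groth.L11.NumOrth.isNef_XE_iff k E hQ]
  exact (Groth.L11.NumOrth.numZero_iff_isNef E (X := Groth.L11.NumOrth.XE k E X)
    (Groth.L18.Ample.isInvertible_pullback g hL) (Groth.L18.Ample.isInvertible_pullback g hQ)
    (Groth.L29.DC.PullTensor.pullTensor g L Q ≪≫ (Scheme.Modules.pullback g).mapIso e ≪≫
      Groth.L29.LocFree.pullbackUnitIso g)).symm

end Groth.Agent.S14811
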