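
import Groth.Statements.S4646
import Groth.Agent.L22.GeomConn.Finite

set_option autoImplicit false
open CategoryTheory AlgebraicGeometry
universe u
open FBase

namespace Groth.Agent.S4646

/-- Let X be a scheme over a field k having finitely many irreducible components, such that for the
generic point x of each irreducible component the separable algebraic closure of k in κ(x) has
finite degree over k. Then there is a finite separable extension L of k such that all irreducible
components of X ⊗_k L are geometrically irreducible over L: for every extension field K of L and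
every irreducible component Z' of X ⊗_k L, the inverse image of Z' in (X ⊗_k L) ⊗_L K is
irreducible. (No finite-type hypothesis on X.) -/
theorem result {k : Type u} [Field k] {X : Scheme.{u}}
    (f : X ⟶ Spec (CommRingCat.of k)) [Finite ↥(irreducibleComponents ↥X)]
    (hx : ∀ (Z : Set ↥X) (hZ : Z ∈ irreducibleComponents ↥X),
      FBase.ResidueFieldProp f hZ.1.genericPoint (fun K _ _ => FiniteDimensional k (separableClosure k K))) :
    ∃ (L : Type u) (_ : Field L) (_ : Algebra k L), FiniteDimensional k L ∧ Algebra.IsSeparable k L ∧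
      ∀ (K : Type u) [Field K] [Algebra L K] (Z' : Set ↥(FBase.bc f L)), Z' ∈ irreducibleComponents ↥(FBase.bc f L) →
        IsIrreducible (⇑(FBase.bcπ (FBase.bcStr f L) K) ⁻¹' Z') := by
  classical
  let kb := AlgebraicClosure k
  let K₀ := SeparableClosure k
  let η : ↥(irreducibleComponents ↥X) → X := fun Z => Z.2.1.genericPoint
  have hfinK : ∀ Z, (FBase.bcπ f K₀ ⁻¹' {η Z}).Finite := fun Z => by
    obtain ⟨φ, hφ, hfd⟩ := hx Z.1 Z.2
    letI := φ.toAlgebra
    haveI : FiniteDimensional k (separableClosure k (X.residueField (η Z))) := hfd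
    refine ((Groth.L22.GeomConn.finite_fibre f (η Z) hφ).image (Groth.L22.GeomConn.bcMap f K₀ kb)).subset fun a ha => ?_
    obtain ⟨b, rfl⟩ := (Groth.L22.GeomConn.bcMap f K₀ kb).surjective a
    exact ⟨b, (Groth.L22.GeomConn.bcMap_π_apply f K₀ kb b).symm.trans ha, rfl⟩
  let S : Set ↥(FBase.bc f K₀) := ⋃ Z, FBase.bcπ f K₀ ⁻¹' {η Z}
  haveI : Finite S := (Set.finite_iUnion hfinK).to_subtype
  haveI := Fintype.ofFinite S
  have hsep : ∀ p : {p : S × S // p.1 ≠ p.2}, ∃ i : {L : IntermediateField k K₀ // FiniteDimensional k L},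
      Groth.L22.GeomConn.bcMap f i.1 K₀ p.1.1.1 ≠ Groth.L22.GeomConn.bcMap f i.1 K₀ p.1.2.1 := by
    intro p
    obtain ⟨W, hW, hxor⟩ := exists_isOpen_xor_mem (fun h => p.2 (Subtype.ext h) : p.1.1.1 ≠ p.1.2.1)
    rcases hxor with ⟨h1, h2⟩ | ⟨h1, h2⟩
    · obtain ⟨i, V, -, hwV, hV⟩ := Groth.L22.GeomConn.basis_finite_level f K₀ W hW _ h1
      exact ⟨i, fun h => h2 (hV (show Groth.L22.GeomConn.bcMap f i.1 K₀ _ ∈ V from h ▸ hwV))⟩
    · obtain ⟨i, V, -, hwV, hV⟩ := Groth.L22.GeomConn.basis_finite_level f K₀ W hW _ h1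
      exact ⟨i, fun h => h2 (hV (show Groth.L22.GeomConn.bcMap f i.1 K₀ _ ∈ V from h ▸ hwV))⟩
  choose idx hidx using hsep
  obtain ⟨⟨L, hL⟩, hle⟩ := (Finset.univ.image idx).exists_le
  haveI := hL
  have hinj : ∀ a b : S, Groth.L22.GeomConn.bcMap f L K₀ a.1 = Groth.L22.GeomConn.bcMap f L K₀ b.1 → a = b := by
    intro a b h
    by_contra hne
    have hle' := hle (idx ⟨(a, b), hne⟩) (Finset.mem_image_of_mem _ (Finset.mem_univ _))
    apply hidx ⟨(a, b), hne⟩
    have ht := Groth.L22.GeomConn.Sys.htq (Groth.L22.GeomConn.sys f K₀) hle'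
    exact (ht a.1).symm.trans ((congrArg _ h).trans (ht b.1))
  refine ⟨L, inferInstance, inferInstance, hL, Algebra.isSeparable_tower_bot_of_isSeparable k L K₀, fun K _ _ Z' hZ' => ?_⟩
  letI : Algebra k K := ((algebraMap L K).comp (algebraMap k L)).toAlgebra
  haveI : IsScalarTower k L K := .of_algebraMap_eq fun _ => rfl
  set z' := hZ'.1.genericPoint with hz'
  have hcl : closure ({z'} : Set ↥(FBase.bc f L)) = Z' :=
    hZ'.1.isGenericPoint_genericPoint (isClosed_of_mem_irreducibleComponents _ hZ')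
  have hmax : ∀ w, w ⤳ z' → w = z' := fun w hw => by
    have hsub : Z' ⊆ closure {w} := hcl ▸ closure_minimal (Set.singleton_subset_iff.2 hw.mem_closure) isClosed_closure
    have heq : closure ({w} : Set ↥(FBase.bc f L)) = Z' :=
      subset_antisymm (hZ'.2 (isIrreducible_singleton.closure) hsub) hsub
    exact ((show IsGenericPoint w Z' from heq).eq (show IsGenericPoint z' Z' from hcl))
  have hmem : ∀ w, Groth.L22.GeomConn.bcMap f L K₀ w = z' → w ∈ S := fun w hw => by
    set x := FBase.bcπ f L z' with hxdef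
    haveI : Flat (Groth.L22.GeomConn.specMap k L) := by
      rw [Flat.SpecMap_iff]; exact RingHom.flat_algebraMap_iff.mpr inferInstance
    haveI : Flat (FBase.bcπ f L) := MorphismProperty.pullback_fst _ _ ‹Flat (Groth.L22.GeomConn.specMap k L)›
    let Z : ↥(irreducibleComponents ↥X) := ⟨irreducibleComponent x, irreducibleComponent_mem_irreducibleComponents x⟩
    have hsp : η Z ⤳ x := by
      rw [specializes_iff_mem_closure, (Z.2.1.isGenericPoint_genericPoint (isClosed_of_mem_irreducibleComponents _ Z.2) :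
        closure {η Z} = Z.1)]
      exact mem_irreducibleComponent
    obtain ⟨v, hv, hve⟩ := Flat.generalizingMap (FBase.bcπ f L) hsp
    rw [hmax v hv] at hve
    refine Set.mem_iUnion.2 ⟨Z, ?_⟩
    show FBase.bcπ f K₀ w = η Z
    rw [← Groth.L22.GeomConn.bcMap_π_apply f L K₀, hw]
    exact hve
  have h0 : IsIrreducible (Groth.L22.GeomConn.bcMap f L K₀ ⁻¹' Z') := by
    rw [← hcl, (Groth.L22.GeomConn.bcMap f L K₀).isOpenMap.preimage_closure_eq_closure_preimage
      (Groth.L22.GeomConn.bcMap f L K₀).continuous]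
    obtain ⟨z₀, hz₀⟩ := (Groth.L22.GeomConn.bcMap f L K₀).surjective z'
    have e : Groth.L22.GeomConn.bcMap f L K₀ ⁻¹' {z'} = {z₀} := by
      refine Set.eq_singleton_iff_unique_mem.2 ⟨hz₀, fun w hw => ?_⟩
      exact congrArg Subtype.val (hinj ⟨w, hmem w hw⟩ ⟨z₀, hmem z₀ hz₀⟩ ((hw : _ = z').trans hz₀.symm))
    rw [e]
    exact isIrreducible_singleton.closure
  have h1 := Groth.L22.GeomConn.isIrreducible_preimage_tower f L K₀ K Z' h0
  let e := (Groth.L22.GeomConn.isPullback_bcMap f L K).isoPullback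
  have h2 := h1.image e.hom e.hom.continuous.continuousOn
  refine Eq.subst (motive := fun t : Set ↥(FBase.bc (FBase.bcStr f L) K) => IsIrreducible t) ?_ h2
  have hπ : e.hom ≫ FBase.bcπ (FBase.bcStr f L) K = Groth.L22.GeomConn.bcMap f L K :=
    (Groth.L22.GeomConn.isPullback_bcMap f L K).isoPullback_hom_fst
  refine Set.ext fun w => ⟨?_, fun hw => ?_⟩
  · rintro ⟨v, hv, rfl⟩
    exact (show (e.hom ≫ FBase.bcπ (FBase.bcStr f L) K).base v ∈ Z' from hπ ▸ hv)
  · obtain ⟨v, rfl⟩ := e.hom.homeomorph.surjective w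
    exact ⟨v, (show (Groth.L22.GeomConn.bcMap f L K).base v ∈ Z' from hπ ▸ hw), rfl⟩

end Groth.Agent.S4646
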