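import Groth.Statements.S1336
import Groth.Agent.L07.Count.Spread

set_option autoImplicit false
set_option linter.style.haveILetI false
universe u
open FlatMor

namespace Groth.Agent.S1336

open AlgebraicGeometry CategoryTheory Limits in
/-- Let f be of finite type and let y be a point of the target. Then the function counting the
irreducible components of the geometric fibres of f is constant on some subset of the closure of y
which is open in that closure and contains y. -/
theorem result {X Y : Scheme.{u}} (f : X ⟶ Y) [LocallyOfFiniteType f] [QuasiCompact f] (y : Y) :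
    ∃ V : Set ↑Y, V ⊆ closure {y} ∧ y ∈ V ∧ IsOpen (Subtype.val ⁻¹' V : Set ↑(closure ({y} : Set ↑Y))) ∧
      ∀ y' ∈ V, MoreMor.nGeomIrredComp f y' = MoreMor.nGeomIrredComp f y := by
  obtain ⟨W, hW, hyW, hWc⟩ := Groth.L07.Count.exists_locallyClosed_count f y
  exact ⟨W ∩ closure {y}, Set.inter_subset_right, ⟨hyW, subset_closure rfl⟩, by
    rw [show (Subtype.val ⁻¹' (W ∩ closure {y}) : Set ↑(closure ({y} : Set ↑Y))) = Subtype.val ⁻¹' W from
      Set.ext fun z => ⟨fun hz => hz.1, fun hz => ⟨hz, z.2⟩⟩]
    exact hW.preimage continuous_subtype_val, fun y' hy' => (hWc y' hy'.1 hy'.2).2⟩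

end Groth.Agent.S1336
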