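import Groth.Statements.S14766
import Groth.Agent.L09.Subtr

set_option autoImplicit false
universe u
open CategoryTheory CategoryTheory.Limits AlgebraicGeometry
open Subtr

namespace Groth.Agent.S14766

/-- Let V be a discrete valuation ring and f : X ⟶ Spec V any morphism of schemes. Then the underlying
continuous map of f is a quotient map (f is submersive) if and only if every ordered pair of points
of Spec V lifts to an ordered pair of points of X. -/
theorem result (V : Type u) [CommRing V] [IsDomain V]
    [IsDiscreteValuationRing V] {X : Scheme.{u}} (f : X ⟶ Spec (CommRingCat.of V)) :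
    Topology.IsQuotientMap f ↔ Subtr.IsSSubtrusive f := by
  have hpts : ∀ p : Spec (CommRingCat.of V),
      p = Groth.L09.Subtr.genPt V ∨ p = IsLocalRing.closedPoint V := fun p => by
    by_cases hp : (p : PrimeSpectrum V).asIdeal = ⊥
    · exact Or.inl (PrimeSpectrum.ext hp)
    · exact Or.inr (PrimeSpectrum.ext (IsLocalRing.eq_maximalIdeal
        (Ideal.IsPrime.isMaximal (p : PrimeSpectrum V).2 hp)))
  have hne : Groth.L09.Subtr.genPt V ≠ IsLocalRing.closedPoint V := fun h =>
    IsDiscreteValuationRing.not_isField V (IsLocalRing.isField_iff_maximalIdeal_eq.mpr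
      (congrArg PrimeSpectrum.asIdeal h).symm)
  constructor
  · intro hq y y' hy
    by_cases hyy : y = y'
    · subst hyy
      obtain ⟨x, hx⟩ := hq.surjective y
      exact ⟨x, x, specializes_refl x, hx, hx⟩
    · have hy' : y' = Groth.L09.Subtr.genPt V := by
        rcases hpts y' with h | h
        · exact h
        · subst h
          exact absurd (Groth.L09.Subtr.eq_closedPt_of_specializes hy) hyy
      subst hy'
      have hyc : y = IsLocalRing.closedPoint V := (hpts y).resolve_left hyy
      subst hyc
      by_contra hcon
      have hcl : closure (f ⁻¹' {Groth.L09.Subtr.genPt V}) ⊆ f ⁻¹' {Groth.L09.Subtr.genPt V} := by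
        intro x hx
        obtain ⟨x', hx', hxx⟩ := Groth.L09.Subtr.exists_specializes_genFibre f hx
        rcases hpts (f x) with h | h
        · exact h
        · exact (hcon ⟨x, x', hxx, h, hx'⟩).elim
      have := (hq.isClosed_preimage).mp (closure_subset_iff_isClosed.mp hcl)
      exact hne ((Set.mem_singleton_iff.mp (hy.mem_closed this rfl)).symm)
  · intro hf
    refine ⟨⟨TopologicalSpace.ext_iff.mpr fun s => ⟨fun h => h.preimage f.continuous, fun h => ?_⟩⟩,
      Groth.L09.Subtr.ssub_surjective hf⟩
    replace h : IsOpen (f ⁻¹' s) := h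
    by_cases hc : IsLocalRing.closedPoint V ∈ s
    · obtain ⟨x, x', hxx, hx, hx'⟩ := hf (Groth.L09.Subtr.genPt_specializes (IsLocalRing.closedPoint V))
      have hg : Groth.L09.Subtr.genPt V ∈ s := hx' ▸ hxx.mem_open h (show f x ∈ s by rw [hx]; exact hc)
      convert isOpen_univ
      exact Set.eq_univ_of_forall fun p => (hpts p).elim (fun e => e ▸ hg) (fun e => e ▸ hc)
    · by_cases hg : Groth.L09.Subtr.genPt V ∈ s
      · have hs : s = {IsLocalRing.closedPoint V}ᶜ := Set.ext fun p => by
          rcases hpts p with e | e
          · subst e; exact ⟨fun _ => hne, fun _ => hg⟩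
          · subst e; exact ⟨fun h => (hc h).elim, fun h => (h rfl).elim⟩
        rw [hs]
        exact ((PrimeSpectrum.isClosed_singleton_iff_isMaximal _).mpr
          (IsLocalRing.maximalIdeal.isMaximal V)).isOpen_compl
      · convert isOpen_empty
        exact Set.eq_empty_of_forall_notMem fun p hp =>
          (hpts p).elim (fun e => hg (e ▸ hp)) (fun e => hc (e ▸ hp))

end Groth.Agent.S14766
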