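import Groth.Statements.S14772
import Groth.Agent.L09.SubtrPairs
import Mathlib.AlgebraicGeometry.AffineSpace
import Mathlib.RingTheory.FiniteType

set_option autoImplicit false
universe u
open CategoryTheory CategoryTheory.Limits AlgebraicGeometry
open Subtr

namespace Groth.Agent.S14772

/-- Let f : X ⟶ Y be a quasi-compact morphism of schemes. Then every base change of f has the lifting
property for ordered pairs of points if and only if, for every integer n ≥ 1, the base change X ×_Y
𝔸ⁿ_Y ⟶ 𝔸ⁿ_Y has it. (The published statement is about universally subtrusive morphisms f, with the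
condition that f be universally submersive for the constructible topologies added on both sides, and
does not assume f quasi-compact; this row states the quasi-compact case, where that condition is
automatic once f is surjective.) -/
theorem result {X Y : Scheme.{u}} (f : X ⟶ Y) [QuasiCompact f] :
    Subtr.UnivSSubtrusive f ↔
      ∀ n : ℕ, 0 < n →
        Subtr.IsSSubtrusive (pullback.snd f (AffineSpace (ULift.{u} (Fin n)) Y ↘ Y)) := by
  refine ⟨fun h n _ => Groth.L09.Subtr.univ_snd h _, fun h => ?_⟩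
  refine Groth.L09.Subtr.univ_of_valuation_lift fun V _ _ _ g => ?_
  suffices hp : Groth.L09.Subtr.HasPair (pullback.snd f g) (Groth.L09.Subtr.genPt V)
      (IsLocalRing.closedPoint V) by
    obtain ⟨x, x', hxx, hx, hx'⟩ := hp
    obtain ⟨W, i1, i2, i3, l, hl, -⟩ := Groth.L09.Subtr.exists_surjective_of_lift _ hxx hx hx'
    exact ⟨W, i1, i2, i3, l ≫ pullback.fst f g, l ≫ pullback.snd f g, hl, by
      rw [Category.assoc, Category.assoc, pullback.condition]⟩
  obtain ⟨_, ⟨(U : Y.Opens), hU, rfl⟩, hgU, -⟩ := Y.isBasis_affineOpens.exists_subset_of_mem_open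
    (Set.mem_univ (g (IsLocalRing.closedPoint V))) isOpen_univ
  replace hU : IsAffineOpen U := hU
  have hrange : Set.range g ⊆ Set.range hU.fromSpec := by
    rw [hU.range_fromSpec]
    rintro _ ⟨v, rfl⟩
    exact ((Groth.L09.Subtr.specializes_closedPt v).map g.continuous).mem_open U.2 hgU
  obtain ⟨φ, hφ⟩ := Spec.map_surjective (IsOpenImmersion.lift hU.fromSpec g hrange)
  have hg : Spec.map φ ≫ hU.fromSpec = g := by rw [hφ, IsOpenImmersion.lift_fac]
  let : Algebra Γ(Y, U) V := φ.hom.toAlgebra
  have hφ' : Spec.map (CommRingCat.ofHom (algebraMap Γ(Y, U) V)) = Spec.map φ := rfl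
  rw [← hg, ← hφ', ← Groth.L09.Subtr.hasPair_snd_snd_iff]
  refine Groth.L09.Subtr.hasPair_of_forall_fg _ (IsLocalRing.closedPoint V) fun C hC => ?_
  rw [Groth.L09.Subtr.hasPair_snd_snd_iff]
  have : Algebra.FiniteType Γ(Y, U) C := ⟨(Subalgebra.fg_top C).mpr hC⟩
  obtain ⟨n, σ, hσ⟩ := Algebra.FiniteType.iff_quotient_mvPolynomial''.mp this
  let ρ : MvPolynomial (ULift.{u} (Fin (n + 1))) Γ(Y, U) →ₐ[Γ(Y, U)] MvPolynomial (Fin n) Γ(Y, U) :=
    MvPolynomial.aeval fun i => if h : (i.down : ℕ) < n then MvPolynomial.X ⟨i.down, h⟩ else 0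
  have hρ : Function.Surjective ρ := by
    intro p
    refine ⟨MvPolynomial.rename (fun i : Fin n => (⟨i.castSucc⟩ : ULift.{u} (Fin (n + 1)))) p, ?_⟩
    show MvPolynomial.aeval _ _ = p
    rw [MvPolynomial.aeval_rename]
    conv_rhs => rw [← MvPolynomial.aeval_X_left_apply p]
    congr 2
    funext i
    simp
  let e : Spec (CommRingCat.of C) ⟶ AffineSpace (ULift.{u} (Fin (n + 1))) (Spec Γ(Y, U)) :=
    Spec.map (CommRingCat.ofHom (σ.comp ρ).toRingHom) ≫ (AffineSpace.SpecIso _ Γ(Y, U)).inv
  have : IsClosedImmersion (Spec.map (CommRingCat.ofHom (σ.comp ρ).toRingHom)) :=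
    IsClosedImmersion.spec_of_surjective _ (hσ.comp hρ)
  have : IsOpenImmersion (AffineSpace.map (ULift.{u} (Fin (n + 1))) hU.fromSpec) :=
    MorphismProperty.of_isPullback (P := @IsOpenImmersion)
      (AffineSpace.isPullback_map hU.fromSpec).flip inferInstance
  let e2 := e ≫ AffineSpace.map (ULift.{u} (Fin (n + 1))) hU.fromSpec
  have he2 : e2 ≫ AffineSpace (ULift.{u} (Fin (n + 1))) Y ↘ Y =
      Spec.map (CommRingCat.ofHom (algebraMap Γ(Y, U) C)) ≫ hU.fromSpec := by
    simp only [e2, e, Category.assoc, AffineSpace.map_over, AffineSpace.SpecIso_inv_over_assoc,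
      ← Spec.map_comp_assoc]
    congr 2
    ext a
    exact congrArg Subtype.val ((σ.comp ρ).commutes a)
  rw [← he2]
  exact Groth.L09.Subtr.HasPair.snd_comp f _ e2 (h (n + 1) (Nat.succ_pos n)
    ((Groth.L09.Subtr.genPt_specializes _).map e2.continuous))

end Groth.Agent.S14772
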