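import Groth.Prelude.Def_Pic13
import Groth.Prelude.Def_FGA
import Groth.Prelude.Def_Pic
import Groth.Prelude.Def_CohB1
import Groth.Prelude.Def_Coh
import Mathlib.AlgebraicGeometry.Morphisms.Proper
import Mathlib.AlgebraicGeometry.Morphisms.ClosedImmersion
import Mathlib.Topology.KrullDimension
import Groth.Agent.L11.NumOrth.Proper
import Groth.Agent.L22.Inter.Fga
-- import your own Groth.Agent.* helpers here

set_option autoImplicit false
universe u
open CategoryTheory CategoryTheory.Limits AlgebraicGeometry
open Pic13

namespace Groth.Agent.S14812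

/-- Take any field k, a proper k-scheme X and an invertible O_X-module L. Then L is numerically trivial
(degree 0 on every closed subscheme of X which is integral of dimension one) if and only if χ(F ⊗ L)
= χ(F) for every coherent O_X-module F; here χ is the alternating sum of the dimensions dim_k H^i(X,
·) over 0 ≤ i ≤ d, for any natural number d bounding the dimension of X. The field k is not assumed
algebraically closed. -/
theorem result (k : Type u) [Field k] (X : Scheme.{u})
    [X.Over (Spec (CommRingCat.of k))] [IsProper (X ↘ Spec (CommRingCat.of k))] (L : X.Modules) (hL : PicF.IsInvertible L) :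
    Pic13.IsNumEquivZero k X L ↔
      ∀ (F : X.Modules), Coh.IsCoh F → ∀ d : ℕ, topologicalKrullDim X ≤ d →
        FGA.eulerCharLE k X (CohB1.tensorMod F L) d = FGA.eulerCharLE k X F d := by
  haveI := Groth.L21.RR.isNoetherian_of_proper (X := X) k
  constructor
  · intro h F hF d hd
    rw [Groth.L22.Inter.eulerCharLE_eq k hd, Groth.L22.Inter.eulerCharLE_eq k hd,
      Groth.L11.NumOrth.euler_invariant k hL h hF]
  · intro h
    rw [Groth.L11.NumOrth.numZero_iff k hL]
    intro y hy
    obtain ⟨D, hD, -⟩ := Groth.L11.NumOrth.exists_nat_dim_le k k (X := X)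
    have h1 := h _ (Groth.L21.RR.isCoh_quotMod (Groth.L22.Inter.pt y)) D hD
    rw [Groth.L22.Inter.eulerCharLE_eq k hD, Groth.L22.Inter.eulerCharLE_eq k hD] at h1
    rw [Groth.L22.Nef.altT_one, h1, sub_self, Int.cast_zero]

end Groth.Agent.S14812
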