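import Mathlib.AlgebraicGeometry.Morphisms.Flat
import Mathlib.AlgebraicGeometry.Morphisms.ClosedImmersion
import Mathlib.AlgebraicGeometry.Fiber
import Mathlib.AlgebraicGeometry.IdealSheaf.Subscheme
import Mathlib.RingTheory.DiscreteValuationRing.Basic
import Groth.Agent.L02.Misc.STD
import Mathlib.AlgebraicGeometry.Fiber
import Mathlib.RingTheory.DedekindDomain.Dvr
import Mathlib.RingTheory.Localization.FractionRing

set_option autoImplicit false
set_option linter.style.haveILetI false
namespace FDesc
end FDesc
universe u
open CategoryTheory AlgebraicGeometry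
open FDesc

open CategoryTheory.Limits
namespace Groth.Agent.S18266

/-- Let A be a discrete valuation ring, η the generic point of Spec A, and f : X → Spec A a morphism
from an arbitrary scheme X. The scheme-theoretic closure of the generic fibre X_η in X (the flat
completion) is flat over Spec A, and it is the largest closed subscheme of X flat over Spec A: for
every closed immersion i : Z → X with Z flat over Spec A, the ideal sheaf of the flat completion is
contained in the ideal sheaf of i. -/
theorem result (A : Type u) [CommRing A] [IsDomain A]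
    [IsDiscreteValuationRing A] {X : Scheme.{u}} (f : X ⟶ Spec (CommRingCat.of A))
    (η : ↥(Spec (CommRingCat.of A))) (hη : η.asIdeal = ⊥) :
    Flat ((f.fiberι η).imageι ≫ f) ∧
      ∀ (Z : Scheme.{u}) (i : Z ⟶ X), IsClosedImmersion i → Flat (i ≫ f) → (f.fiberι η).ker ≤ i.ker := by
  haveI : QuasiCompact ((Spec (CommRingCat.of A)).fromSpecResidueField η) := inferInstance
  haveI : IsReduced (Spec (CommRingCat.of A)) := inferInstance
  haveI : IsDominant ((Spec (CommRingCat.of A)).fromSpecResidueField η) := by
    refine ⟨?_⟩
    rw [DenseRange, dense_iff_closure_eq, Scheme.range_fromSpecResidueField]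
    rw [← Set.univ_subset_iff]
    intro p _
    rw [← specializes_iff_mem_closure]
    exact (PrimeSpectrum.le_iff_specializes η p).1 (by show η.asIdeal ≤ p.asIdeal; rw [hη]; exact bot_le)
  haveI : IsSchemeTheoreticallyDominant ((Spec (CommRingCat.of A)).fromSpecResidueField η) :=
    IsSchemeTheoreticallyDominant.of_isDominant _
  haveI : Flat ((Spec (CommRingCat.of A)).fromSpecResidueField η) := by
    obtain ⟨ψ, hψ⟩ := Spec.map_surjective ((Spec (CommRingCat.of A)).fromSpecResidueField η)
    rw [← hψ, HasRingHomProperty.Spec_iff (P := @Flat)]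
    letI : Algebra A ((Spec (CommRingCat.of A)).residueField η) := ψ.hom.toAlgebra
    show Module.Flat A _
    rw [IsDedekindDomain.flat_iff_torsion_eq_bot, eq_bot_iff]
    rintro a ⟨⟨c, hc⟩, hca⟩
    have hca' : ψ.hom c * a = 0 := hca
    refine (mul_eq_zero.1 hca').resolve_left fun h0 => nonZeroDivisors.ne_zero hc ?_
    have h1 : Set.range (Spec.map ψ) = {η} := by rw [hψ, Scheme.range_fromSpecResidueField]
    obtain ⟨z⟩ : Nonempty (Spec ((Spec (CommRingCat.of A)).residueField η)) := inferInstance
    have hz : Spec.map ψ z = η := Set.mem_singleton_iff.1 (h1.subset ⟨z, rfl⟩)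
    have hmem : c ∈ η.asIdeal := by
      rw [← hz]
      show ψ.hom c ∈ z.asIdeal
      rw [h0]
      exact zero_mem _
    rwa [hη, Ideal.mem_bot] at hmem
  refine ⟨?_, fun Z i hi hflat => ?_⟩
  · haveI : QuasiCompact (f.fiberι η) :=
      inferInstanceAs (QuasiCompact (pullback.fst f ((Spec (CommRingCat.of A)).fromSpecResidueField η)))
    haveI := Groth.L02.STD.toImage_dominant (f.fiberι η)
    haveI : Flat ((f.fiberι η).toImage ≫ (f.fiberι η).imageι ≫ f) := by
      rw [Scheme.Hom.toImage_imageι_assoc]
      show Flat (pullback.fst f _ ≫ f)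
      rw [pullback.condition]
      haveI : IsField ((Spec (CommRingCat.of A)).residueField η) := Field.toIsField _
      haveI : Flat (pullback.snd f ((Spec (CommRingCat.of A)).fromSpecResidueField η)) := inferInstance
      infer_instance
    exact Groth.L02.STD.flat_of_dominant A (f.fiberι η).toImage _
  · let r := (Spec (CommRingCat.of A)).fromSpecResidueField η
    haveI : QuasiCompact r := inferInstance
    haveI := hflat
    let p := pullback.fst (i ≫ f) r
    haveI : IsSchemeTheoreticallyDominant p := inferInstance
    let t : pullback (i ≫ f) r ⟶ f.fiber η := pullback.map (i ≫ f) r f r i (𝟙 _) (𝟙 _) (by simp) (by simp)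
    have ht : p ≫ i = t ≫ f.fiberι η := (pullback.lift_fst _ _ _).symm
    calc (f.fiberι η).ker ≤ (t ≫ f.fiberι η).ker := Scheme.Hom.le_ker_comp _ _
      _ = i.ker := by rw [← ht, Scheme.Hom.ker_comp, p.ker_eq_bot, Scheme.IdealSheafData.map_bot]

end Groth.Agent.S18266
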