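import Groth.Statements.S4305
import Groth.Agent.L26.Pic13.TauChi
import Groth.Agent.L16.NegPow.Gen

set_option autoImplicit false
universe u
open CategoryTheory CategoryTheory.Limits AlgebraicGeometry
open Pic13

namespace Groth.Agent.S4305

/-- Let k be an algebraically closed field, X an irreducible proper k-scheme of dimension ≤ d carrying
an ample invertible module H with inverse H', and L an invertible module with inverse L'. Condition
(v): χ(L^{⊗ m} ⊗ H^{⊗ n}) = χ(H^{⊗ n}) for all integers m, n — written with natural exponents on L,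
L', H, H' to cover all signs, Euler characteristics in degrees ≤ d; condition (i): L is τ-equivalent
to zero. -/
theorem result (k : Type u) [Field k] [IsAlgClosed k] (X : Scheme.{u})
    [X.Over (Spec (CommRingCat.of k))] [IsProper (X ↘ Spec (CommRingCat.of k))] [IrreducibleSpace X]
    (d : ℕ) (hd : topologicalKrullDim X ≤ d) (H H' L L' : X.Modules) (hH : CohB1.IsAmple H) (hL : PicF.IsInvertible L)
    (hHH' : Nonempty (CohB1.tensorMod H H' ≅ Coh.structureModule X)) (hLL' : Nonempty (CohB1.tensorMod L L' ≅ Coh.structureModule X))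
    (hτ : Pic13.IsTauEquivZero k X L) :
    ∀ m n : ℕ,
      FGA.eulerCharLE k X (CohB1.tensorMod (CohB1.tensorPow L m) (CohB1.tensorPow H n)) d = FGA.eulerCharLE k X (CohB1.tensorPow H n) d ∧
      FGA.eulerCharLE k X (CohB1.tensorMod (CohB1.tensorPow L m) (CohB1.tensorPow H' n)) d = FGA.eulerCharLE k X (CohB1.tensorPow H' n) d ∧
      FGA.eulerCharLE k X (CohB1.tensorMod (CohB1.tensorPow L' m) (CohB1.tensorPow H n)) d = FGA.eulerCharLE k X (CohB1.tensorPow H n) d ∧
      FGA.eulerCharLE k X (CohB1.tensorMod (CohB1.tensorPow L' m) (CohB1.tensorPow H' n)) d = FGA.eulerCharLE k X (CohB1.tensorPow H' n) d := by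
  intro m n
  haveI := Groth.Agent.Pic13Tau.noeth k (X := X)
  obtain ⟨eH⟩ := hHH'
  have hH' := Groth.L16.NegPow.isInvertible_inverse hH.1 eH
  obtain ⟨e⟩ := hLL'
  have hL' := Groth.L16.NegPow.isInvertible_inverse hL e
  have hc := Groth.Agent.Pic13Tau.chiTriv_of_tauEquiv k hL hτ
  have hc' := Groth.Agent.Pic13Tau.chiTriv_inv k hL' e hc
  have key : ∀ (A B : X.Modules), PicF.IsInvertible A → Groth.Agent.Pic13Tau.ChiTriv k A → PicF.IsInvertible B →
      FGA.eulerCharLE k X (CohB1.tensorMod (CohB1.tensorPow A m) (CohB1.tensorPow B n)) d =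
        FGA.eulerCharLE k X (CohB1.tensorPow B n) d := fun A B hA hAc hB => by
    rw [Groth.L22.Inter.eulerCharLE_eq k hd, Groth.L22.Inter.eulerCharLE_eq k hd,
      Groth.L03.Euler.euler_iso (Groth.L00.Tensor.tensorComm _ _)]
    exact Groth.Agent.Pic13Tau.chiTriv_pow k hA hAc m _
      (Groth.L16.ProperFinite.isCoh_of_isInvertible (Groth.L18.Ample.isInvertible_tensorPow hB n))
  exact ⟨key L H hL hc hH.1, key L H' hL hc hH', key L' H hL' hc' hH.1, key L' H' hL' hc' hH'⟩

end Groth.Agent.S4305
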