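import Groth.Statements.S9769
import Groth.Agent.L20.FibreFree
import Groth.Agent.L05.Prufer.Sheaf

set_option autoImplicit false
universe u
open FlatMor

set_option backward.isDefEq.respectTransparency.types false
namespace Groth.L20.FreeLocus

open AlgebraicGeometry CategoryTheory
open scoped TensorProduct

set_option backward.isDefEq.respectTransparency false in
theorem main {X S X' S' : Scheme.{u}} (f : X ⟶ S) [LocallyOfFinitePresentation f]
    (F : X.Modules) (hF : CohB1.IsFP F) (hfl : FlatMod.IsFlatOver f F)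
    (g : S' ⟶ S) (f' : X' ⟶ S') (g' : X' ⟶ X) (hc : IsPullback g' f' f g) :
    {x' : ↑X' | Module.Free ↑(X'.presheaf.stalk x') ↑(((Scheme.Modules.pullback g').obj F).presheaf.stalk x')} =
      g' ⁻¹' {x : ↑X | Module.Free ↑(X.presheaf.stalk x) ↑(F.presheaf.stalk x)} := by
  haveI : Coh.IsQCoh F := Groth.L05.Prufer.isQCoh_of_isFP hF
  ext x'
  simp only [Set.mem_setOf_eq, Set.mem_preimage]
  constructor
  · intro hfree
    obtain ⟨W, V, W', U, eV, eW, eU, eU', hW, hV, hW', hU, hxU, hpo⟩ := Groth.L20.ModStalk.exists_affine_square hc x'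
    haveI : (f.appLE W V eV).hom.FinitePresentation := f.finitePresentation_appLE hW hV eV
    algebraize [(f.appLE W V eV).hom, (g.appLE W W' eW).hom, (g'.appLE V U eU).hom, (f'.appLE W' U eU').hom,
      ((g'.appLE V U eU).hom.comp (f.appLE W V eV).hom)]
    haveI : Algebra.FinitePresentation Γ(S, W) Γ(X, V) := f.finitePresentation_appLE hW hV eV
    haveI : IsScalarTower Γ(S, W) Γ(S', W') Γ(X', U) := IsScalarTower.of_algebraMap_eq' (congrArg CommRingCat.Hom.hom hpo.w)
    haveI : Algebra.IsPushout Γ(S, W) Γ(X, V) Γ(S', W') Γ(X', U) := CommRingCat.isPushout_iff_isPushout.mp hpo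
    letI := Module.compHom Γ(F, V) (f.appLE W V eV).hom
    haveI : IsScalarTower Γ(S, W) Γ(X, V) Γ(F, V) := IsScalarTower.of_algebraMap_smul fun _ _ => rfl
    haveI : Module.FinitePresentation Γ(X, V) Γ(F, V) := Groth.L20.ModStalk.finitePresentation_sections F hF hV
    let q := (hV.primeIdealOf ⟨g' x', eU hxU⟩).asIdeal
    haveI : Module.Flat Γ(S, W) (LocalizedModule q.primeCompl Γ(F, V)) :=
      (Groth.L20.ModStalk.isFlatOverAt_iff f F hW hV eV (eU hxU)).mp (hfl _)
    let q₂ := (hU.primeIdealOf ⟨x', hxU⟩).asIdeal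
    have hq₂ : q₂.comap (algebraMap Γ(X, V) Γ(X', U)) = q :=
      congr($(IsAffineOpen.comap_primeIdealOf_appLE V hV U hU eU hxU).1)
    let p₂ := q₂.comap (algebraMap Γ(S', W') Γ(X', U))
    let K := p₂.ResidueField
    letI : Algebra Γ(S, W) K := ((algebraMap Γ(S', W') K).comp (algebraMap Γ(S, W) Γ(S', W'))).toAlgebra
    haveI : IsScalarTower Γ(S, W) Γ(S', W') K := IsScalarTower.of_algebraMap_eq fun _ => rfl
    obtain ⟨C, _, _, _, _, _, _, _⟩ : ∃ (C : Type u) (_ : CommRing C) (_ : Algebra K C) (_ : Algebra Γ(X', U) C)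
        (_ : Algebra Γ(S', W') C) (_ : IsScalarTower Γ(S', W') K C) (_ : IsScalarTower Γ(S', W') Γ(X', U) C),
        Algebra.IsPushout Γ(S', W') K Γ(X', U) C :=
      letI : Algebra Γ(X', U) (K ⊗[Γ(S', W')] Γ(X', U)) := Algebra.TensorProduct.rightAlgebra
      haveI : IsScalarTower Γ(S', W') Γ(X', U) (K ⊗[Γ(S', W')] Γ(X', U)) := IsScalarTower.of_algebraMap_eq fun a =>
        ((Algebra.TensorProduct.includeRight : _ →ₐ[Γ(S', W')] (K ⊗[Γ(S', W')] Γ(X', U))).commutes a).symm
      ⟨K ⊗[Γ(S', W')] Γ(X', U), inferInstance, inferInstance, inferInstance, inferInstance, inferInstance, inferInstance, inferInstance⟩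
    haveI : Algebra.IsPushout Γ(S', W') Γ(X', U) K C := .symm inferInstance
    letI : Algebra Γ(X, V) C := ((algebraMap Γ(X', U) C).comp (algebraMap Γ(X, V) Γ(X', U))).toAlgebra
    haveI : IsScalarTower Γ(X, V) Γ(X', U) C := IsScalarTower.of_algebraMap_eq fun _ => rfl
    letI : Algebra Γ(S, W) C := ((algebraMap Γ(X, V) C).comp (algebraMap Γ(S, W) Γ(X, V))).toAlgebra
    haveI : IsScalarTower Γ(S, W) Γ(X, V) C := IsScalarTower.of_algebraMap_eq fun _ => rfl
    haveI : IsScalarTower Γ(S, W) K C := IsScalarTower.of_algebraMap_eq fun a => by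
      show algebraMap Γ(X', U) C (algebraMap Γ(X, V) Γ(X', U) (algebraMap Γ(S, W) Γ(X, V) a)) =
        algebraMap K C (algebraMap Γ(S', W') K (algebraMap Γ(S, W) Γ(S', W') a))
      rw [← IsScalarTower.algebraMap_apply Γ(S', W') K C, IsScalarTower.algebraMap_apply Γ(S', W') Γ(X', U) C,
        ← IsScalarTower.algebraMap_apply Γ(S, W) Γ(X, V) Γ(X', U), ← IsScalarTower.algebraMap_apply Γ(S, W) Γ(S', W') Γ(X', U)]
    haveI : IsScalarTower Γ(S, W) Γ(X', U) C := IsScalarTower.of_algebraMap_eq fun a => by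
      rw [IsScalarTower.algebraMap_apply Γ(S, W) Γ(X, V) Γ(X', U)]; rfl
    haveI : Algebra.IsPushout Γ(S, W) Γ(S', W') Γ(X, V) Γ(X', U) := .symm inferInstance
    haveI : Algebra.IsPushout Γ(S, W) K Γ(X, V) C :=
      (Algebra.IsPushout.comp_iff (R := Γ(S, W)) (S := Γ(S', W')) (R' := Γ(X, V)) (S' := Γ(X', U)) (T := K) (T' := C)).mpr
        inferInstance
    obtain ⟨q₃, hq₃p, hq₃, -⟩ := Groth.L20.exists_prime_isPushout (R := Γ(S', W')) (S := Γ(X', U)) (R' := K) (S' := C)
      q₂ ⊥ (by rw [← RingHom.ker_eq_comap_bot]; exact (Ideal.ker_algebraMap_residueField _).symm)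
    haveI := hq₃p
    letI := X'.presheaf.algebra_section_stalk ⟨x', hxU⟩
    haveI := hU.isLocalization_stalk ⟨x', hxU⟩
    letI : Algebra Γ(X, V) (X'.presheaf.stalk x') :=
      ((g'.stalkMap x').hom.comp (X.presheaf.germ V (g' x') (eU hxU)).hom).toAlgebra
    haveI : IsScalarTower Γ(X, V) Γ(X', U) (X'.presheaf.stalk x') := IsScalarTower.of_algebraMap_eq fun a =>
      Groth.L20.ModStalk.stalkMap_germ eU hxU (eU hxU) a
    let ψ : X'.presheaf.stalk x' →+* Localization.AtPrime q₃ :=
      IsLocalization.lift (M := q₂.primeCompl) (g := (algebraMap C (Localization.AtPrime q₃)).comp (algebraMap Γ(X', U) C))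
        fun t => IsLocalization.map_units (Localization.AtPrime q₃) (⟨algebraMap Γ(X', U) C t, fun hmem => t.2 (hq₃.le hmem)⟩ : q₃.primeCompl)
    letI : Algebra (X'.presheaf.stalk x') (Localization.AtPrime q₃) := ψ.toAlgebra
    haveI : IsScalarTower Γ(X, V) (X'.presheaf.stalk x') (Localization.AtPrime q₃) := IsScalarTower.of_algebraMap_eq fun a => by
      show algebraMap Γ(X, V) (Localization.AtPrime q₃) a = ψ (algebraMap Γ(X, V) (X'.presheaf.stalk x') a)
      rw [IsScalarTower.algebraMap_apply Γ(X, V) Γ(X', U) (X'.presheaf.stalk x'), IsLocalization.lift_eq,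
        IsScalarTower.algebraMap_apply Γ(X, V) C (Localization.AtPrime q₃)]
      rfl
    letI : Module Γ(X, V) (((Scheme.Modules.pullback g').obj F).presheaf.stalk x') :=
      Module.compHom _ ((g'.stalkMap x').hom.comp (X.presheaf.germ V (g' x') (eU hxU)).hom)
    haveI : IsScalarTower Γ(X, V) (X'.presheaf.stalk x') (((Scheme.Modules.pullback g').obj F).presheaf.stalk x') :=
      IsScalarTower.of_algebraMap_smul fun _ _ => rfl
    obtain ⟨φ, hφ⟩ := Groth.L20.ModStalk.exists_isBaseChange_pullback_stalk g' F hV (eU hxU)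
    have h : Module.Flat (X'.presheaf.stalk x') (X'.presheaf.stalk x' ⊗[Γ(X, V)] Γ(F, V)) :=
      Module.Flat.of_linearEquiv hφ.equiv
    have hflat : Module.Flat Γ(X, V) (LocalizedModule q.primeCompl Γ(F, V)) :=
      Groth.L20.FibreFree.flat_of_local_fibre (R := Γ(S, W)) (K := K) (C := C) q
        (by
          rw [IsScalarTower.algebraMap_eq Γ(S, W) Γ(S', W') K, ← RingHom.comap_ker, Ideal.ker_algebraMap_residueField p₂,
            ← hq₂, Ideal.comap_comap, Ideal.comap_comap, ← IsScalarTower.algebraMap_eq, ← IsScalarTower.algebraMap_eq])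
        q₃ (by rw [IsScalarTower.algebraMap_eq Γ(X, V) Γ(X', U) C, ← Ideal.comap_comap, hq₃, hq₂]) h
    exact Groth.L20.FibreFree.free_stalk hV (eU hxU) hflat
  · intro hfree
    letI := (g'.stalkMap x').hom.toAlgebra
    have hten : Module.Free (X'.presheaf.stalk x')
        (X'.presheaf.stalk x' ⊗[X.presheaf.stalk (g' x')] F.presheaf.stalk (g' x')) := inferInstance
    exact @Module.Free.of_equiv _ _ _ _ _ _ _ _ _ _ _ _ _ _ ((Groth.L00.PullStalk.stalkIso g' x').app F).toLinearEquiv.symm hten

end Groth.L20.FreeLocus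
namespace Groth.Agent.S9769

open AlgebraicGeometry CategoryTheory Limits in
/-- Let f : X ⟶ S be locally of finite presentation and F a finitely presented O_X-module which is flat
over S. Then the formation of the locus of points of X near which F is free (equivalently, for
finitely presented F, where the stalk of F is a free module) commutes with arbitrary base change:
for a cartesian square with g' : X' ⟶ X over S' ⟶ S, the free locus of (g')^*F is the preimage of
that of F. The published statement also asserts that this locus is open; this row states only that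
its formation commutes with base change. -/
theorem result {X S X' S' : Scheme.{u}} (f : X ⟶ S) [LocallyOfFinitePresentation f]
    (F : X.Modules) (hF : CohB1.IsFP F) (hfl : FlatMod.IsFlatOver f F)
    (g : S' ⟶ S) (f' : X' ⟶ S') (g' : X' ⟶ X) (hc : IsPullback g' f' f g) :
    {x' : ↑X' | Module.Free ↑(X'.presheaf.stalk x') ↑(((Scheme.Modules.pullback g').obj F).presheaf.stalk x')} =
      g' ⁻¹' {x : ↑X | Module.Free ↑(X.presheaf.stalk x) ↑(F.presheaf.stalk x)} := by
  exact Groth.L20.FreeLocus.main f F hF hfl g f' g' hc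


end Groth.Agent.S9769
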