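import Groth.Prelude.Def_Pic13
import Mathlib.FieldTheory.IsAlgClosed.Basic
import Mathlib.AlgebraicGeometry.Morphisms.Proper
import Mathlib.Topology.KrullDimension
import Mathlib.Data.Fin.VecNotation
import Groth.Agent.L11.NumOrth.Main
import Groth.Agent.L16.NegPow.Gen
-- import your own Groth.Agent.* helpers here

set_option autoImplicit false
universe u
open CategoryTheory CategoryTheory.Limits AlgebraicGeometry
open Pic13

namespace Groth.Agent.S4290

/-- Let k be an algebraically closed field, X an irreducible proper k-scheme of dimension r = s + 2 ≥ 2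
carrying an ample invertible module H, and L an invertible module with (c₁(L)·c₁(H)^{r-1}) = 0 and
(c₁(L)²·c₁(H)^{r-2}) ≥ 0. Then L is numerically equivalent to zero. Intersection numbers are those
of FGA.intNum, which takes inverses H', L' of H, L as arguments. -/
theorem result (k : Type u) [Field k] [IsAlgClosed k] (X : Scheme.{u}) [X.Over (Spec (CommRingCat.of k))]
    [IsProper (X ↘ Spec (CommRingCat.of k))] [IrreducibleSpace X] (s : ℕ) (hdim : topologicalKrullDim X = (s + 2 : ℕ))
    (H H' L L' : X.Modules) (hH : CohB1.IsAmple H) (hL : PicF.IsInvertible L)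
    (hHH' : Nonempty (CohB1.tensorMod H H' ≅ Coh.structureModule X)) (hLL' : Nonempty (CohB1.tensorMod L L' ≅ Coh.structureModule X))
    (horth : FGA.intNum k X (s + 2) (Matrix.vecCons L' (fun _ : Fin (s + 1) => H')) (Coh.structureModule X) = 0)
    (hsq : 0 ≤ FGA.intNum k X (s + 2) (Matrix.vecCons L' (Matrix.vecCons L' (fun _ : Fin s => H'))) (Coh.structureModule X)) :
    Pic13.IsNumEquivZero k X L := by
  haveI := Groth.L21.RR.isNoetherian_of_proper (X := X) k
  have hd : topologicalKrullDim X ≤ (s + 2 : ℕ) := hdim.le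
  have hL' : PicF.IsInvertible L' := Groth.L16.NegPow.isInvertible_inverse hL hLL'.some
  have hH' : PicF.IsInvertible H' := Groth.L16.NegPow.isInvertible_inverse hH.1 hHH'.some
  have hO := Groth.L16.CohClosedPush.isCoh_structure (X := X)
  have hsd : topologicalKrullDim (CohB1.support (Coh.structureModule X)) ≤ (s + 2 : ℕ) := by
    rw [Groth.L22.Nakai.dim_support_structure]; exact hd
  -- back to the modules themselves
  have hconv : ∀ (R R' : Fin (s + 2) → X.Modules), (∀ i, PicF.IsInvertible (R i)) → (∀ i, PicF.IsInvertible (R' i)) →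
      (∀ i, Nonempty (CohB1.tensorMod (R i) (R' i) ≅ Coh.structureModule X)) →
      ((FGA.intNum k X (s + 2) R' (Coh.structureModule X) : ℤ) : ℚ) =
        Groth.L22.Inter.altT k R (Coh.structureModule X) := by
    intro R R' hR hR' e
    rw [Groth.L22.Inter.intNum_eq k hd, Groth.L11.NumOrth.altT_inv k hR hR' e hO hsd, ← mul_assoc, ← pow_add,
      Even.neg_one_pow ⟨s + 2, rfl⟩, one_mul]
  have h1 : Groth.L22.Inter.altT k (Fin.cons L (fun _ : Fin (s + 1) => H)) (Coh.structureModule X) = 0 := by
    rw [← hconv _ (Fin.cons L' (fun _ => H')) (Fin.cases hL fun _ => hH.1) (Fin.cases hL' fun _ => hH')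
      (Fin.cases hLL' fun _ => hHH')]
    exact_mod_cast horth
  have h2 : 0 ≤ Groth.L22.Inter.altT k (Fin.cons L (Fin.cons L (fun _ : Fin s => H))) (Coh.structureModule X) := by
    rw [← hconv _ (Fin.cons L' (Fin.cons L' (fun _ => H'))) (Fin.cases hL (Fin.cases hL fun _ => hH.1))
      (Fin.cases hL' (Fin.cases hL' fun _ => hH')) (Fin.cases hLL' (Fin.cases hLL' fun _ => hHH'))]
    exact_mod_cast hsq
  -- the reduced subscheme
  let ξ := genericPoint X
  let i := (Groth.L22.Inter.pt ξ).subschemeι
  haveI := Groth.L22.Inter.isIntegral_pt ξ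
  letI : (Groth.L22.Inter.pt ξ).subscheme.Over (Spec (CommRingCat.of k)) :=
    ⟨i ≫ (X ↘ Spec (CommRingCat.of k))⟩
  haveI : IsProper ((Groth.L22.Inter.pt ξ).subscheme ↘ Spec (CommRingCat.of k)) :=
    inferInstanceAs (IsProper (i ≫ (X ↘ Spec (CommRingCat.of k))))
  have hξ : topologicalKrullDim (closure ({ξ} : Set X)) = (s + 2 : ℕ) := by
    rw [(genericPoint_spec X).def, ← hdim]
    exact IsHomeomorph.topologicalKrullDim_eq _ (Homeomorph.Set.univ X).isHomeomorph
  have hdY : topologicalKrullDim (Groth.L22.Inter.pt ξ).subscheme = (s + 2 : ℕ) := by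
    rw [← Groth.L22.Nef.dim_closure_image i, Groth.L22.Inter.genericPoint_pt, hξ]
  have hlen : 0 < (Groth.L16.CohSupport.len ξ (Coh.structureModule X)).toNat := by
    refine Nat.pos_of_ne_zero fun h => ?_
    rcases ENat.toNat_eq_zero.1 h with h | h
    · refine (Groth.L16.CohSupport.len_eq_zero_iff ξ _).1 h ?_
      exact fun hs => one_ne_zero ((Groth.L21.RR.bijective_smul_one ξ).1 (a₁ := (1 : X.presheaf.stalk ξ)) (a₂ := 0)
        (@Subsingleton.elim _ hs _ _))
    · exact Groth.L16.CohSupport.len_ne_top hO (fun z _ hz => Groth.L22.Inter.eq_of_specializes_top isClosed_univ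
        (le_of_eq_of_le (IsHomeomorph.topologicalKrullDim_eq _ (Homeomorph.Set.univ X).isHomeomorph) hd)
        hξ (Set.mem_univ z) hz) h
  have key : ∀ R : Fin (s + 2) → X.Modules, (∀ l, PicF.IsInvertible (R l)) →
      Groth.L22.Inter.altT k R (Coh.structureModule X) =
        ((Groth.L16.CohSupport.len ξ (Coh.structureModule X)).toNat : ℚ) *
        Groth.L22.Inter.altT k (fun l => (Scheme.Modules.pullback i).obj (R l))
          (Coh.structureModule (Groth.L22.Inter.pt ξ).subscheme) := by
    intro R hR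
    rw [Groth.L22.Nef.altT_push_eq k i rfl hdY hR, Groth.L22.Inter.genericPoint_pt]
    exact Groth.L22.Nef.altT_eq_len k hR hξ hO
      (fun z _ => specializes_iff_mem_closure.1 ((genericPoint_spec X).specializes trivial))
  have hLY := Groth.L18.Ample.isInvertible_pullback i hL
  have hHY := Groth.L18.Ample.isAmple_pullback_of_isAffineHom i hH
  have e1 : ∀ {r : ℕ} (A : X.Modules) (R : Fin r → X.Modules),
      (fun l => (Scheme.Modules.pullback i).obj ((Fin.cons A R : Fin (r + 1) → X.Modules) l)) =
        Fin.cons ((Scheme.Modules.pullback i).obj A) (fun l => (Scheme.Modules.pullback i).obj (R l)) :=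
    fun A R => funext fun l => Fin.cases rfl (fun _ => rfl) l
  rw [key _ (Fin.cases hL fun _ => hH.1), e1] at h1
  rw [key _ (Fin.cases hL (Fin.cases hL fun _ => hH.1)), e1, e1] at h2
  have hY := Groth.L11.NumOrth.orth s k _ hdY _ _ hHY hLY
    ((mul_eq_zero.1 h1).resolve_left (by exact_mod_cast hlen.ne'))
    (nonneg_of_mul_nonneg_right h2 (by exact_mod_cast hlen))
  intro C j _ hC hCd
  haveI := hC
  have hCd' : topologicalKrullDim C = (1 : ℕ) := by exact_mod_cast hCd
  -- the curve factors through the reduced subscheme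
  let c := j (genericPoint C)
  obtain ⟨c₁, hc₁⟩ : c ∈ Set.range i := by
    rw [Groth.L22.Inter.range_pt]
    exact specializes_iff_mem_closure.1 ((genericPoint_spec X).specializes trivial)
  have hc : topologicalKrullDim (closure ({c} : Set X)) = (1 : ℕ) :=
    (Groth.L22.Nef.dim_closure_image j).trans hCd'
  have hc₁d : topologicalKrullDim (closure ({c₁} : Set (Groth.L22.Inter.pt ξ).subscheme)) = (1 : ℕ) := by
    rw [← Groth.L11.NumOrth.dim_closure_map i.isClosedEmbedding, hc₁, hc]
  have h3 := hY c₁ hc₁d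
  haveI := Groth.L22.Inter.isIntegral_pt c₁
  let e := (Groth.L22.Inter.pt c₁).subschemeι
  letI : (Groth.L22.Inter.pt c₁).subscheme.Over (Spec (CommRingCat.of k)) :=
    ⟨e ≫ ((Groth.L22.Inter.pt ξ).subscheme ↘ Spec (CommRingCat.of k))⟩
  haveI : IsProper ((Groth.L22.Inter.pt c₁).subscheme ↘ Spec (CommRingCat.of k)) :=
    inferInstanceAs (IsProper (e ≫ ((Groth.L22.Inter.pt ξ).subscheme ↘ Spec (CommRingCat.of k))))
  have hdc : topologicalKrullDim (Groth.L22.Inter.pt c₁).subscheme = (1 : ℕ) := by
    rw [← Groth.L22.Nef.dim_closure_image e, Groth.L22.Inter.genericPoint_pt, hc₁d]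
  have h4 := Groth.L22.Nef.altT_push_eq k e rfl hdc
    (L := fun _ : Fin 1 => (Scheme.Modules.pullback i).obj L) fun _ => hLY
  have h5 := Groth.L22.Nef.altT_push_eq k (e ≫ i) (Category.assoc _ _ _) hdc (L := fun _ : Fin 1 => L) fun _ => hL
  rw [Groth.L22.Inter.genericPoint_pt, h3] at h4
  rw [Scheme.Hom.comp_apply, Groth.L22.Inter.genericPoint_pt, hc₁] at h5
  have h6 := Groth.L22.Nef.curveDeg_eq k hL j hCd'
  rw [← h5, ← Groth.L22.Nef.altT_congr k (fun _ => ⟨((Scheme.Modules.pullbackComp e i).symm.app L).symm⟩)] at h6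
  have h6' := h6.trans h4
  exact_mod_cast h6'

end Groth.Agent.S4290
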