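import Groth.Prelude.Def_Pic13
import Mathlib.FieldTheory.IsAlgClosed.Basic
import Mathlib.AlgebraicGeometry.Morphisms.Proper
import Mathlib.Topology.KrullDimension
import Groth.Agent.L11.NumOrth.TauProj
import Groth.Agent.S4290
-- import your own Groth.Agent.* helpers here

set_option autoImplicit false
universe u
open CategoryTheory CategoryTheory.Limits AlgebraicGeometry
open Pic13

namespace Groth.Agent.S4306

/-- Repeated factors collapse to one power. -/
theorem nonempty_tensorPows_const {X : Scheme.{u}} (H : X.Modules) : ∀ {r : ℕ} (n : Fin r → ℕ),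
    Nonempty (Curv2.tensorPows (Coh.structureModule X) r (fun _ => H) n ≅ CohB1.tensorPow H (∑ i, n i))
  | 0, n => ⟨eqToIso (by simp [Curv2.tensorPows, CohB1.tensorPow])⟩
  | r + 1, n => by
    obtain ⟨e⟩ := nonempty_tensorPows_const H (fun i : Fin r => n i.castSucc)
    exact ⟨Groth.L00.Tensor.tensorIso e (Iso.refl _) ≪≫
      (Groth.L00.Tensor.tensorPowAdd H _ _) ≪≫
      eqToIso (congrArg (CohB1.tensorPow H) (Fin.sum_univ_castSucc n).symm)⟩

/-- Let k be an algebraically closed field, X an irreducible proper k-scheme of dimension ≤ d carrying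
an ample invertible module H with inverse H', and L an invertible module with inverse L'. Condition
(v): χ(L^{⊗ m} ⊗ H^{⊗ n}) = χ(H^{⊗ n}) for all integers m, n — written with natural exponents on L,
L', H, H' to cover all signs, Euler characteristics in degrees ≤ d; condition (i): L is τ-equivalent
to zero. -/
theorem result (k : Type u) [Field k] [IsAlgClosed k] (X : Scheme.{u})
    [X.Over (Spec (CommRingCat.of k))] [IsProper (X ↘ Spec (CommRingCat.of k))] [IrreducibleSpace X]
    (d : ℕ) (hd : topologicalKrullDim X ≤ d) (H H' L L' : X.Modules) (hH : CohB1.IsAmple H) (hL : PicF.IsInvertible L)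
    (hHH' : Nonempty (CohB1.tensorMod H H' ≅ Coh.structureModule X)) (hLL' : Nonempty (CohB1.tensorMod L L' ≅ Coh.structureModule X))
    (hv : ∀ m n : ℕ,
      FGA.eulerCharLE k X (CohB1.tensorMod (CohB1.tensorPow L m) (CohB1.tensorPow H n)) d = FGA.eulerCharLE k X (CohB1.tensorPow H n) d ∧
      FGA.eulerCharLE k X (CohB1.tensorMod (CohB1.tensorPow L m) (CohB1.tensorPow H' n)) d = FGA.eulerCharLE k X (CohB1.tensorPow H' n) d ∧
      FGA.eulerCharLE k X (CohB1.tensorMod (CohB1.tensorPow L' m) (CohB1.tensorPow H n)) d = FGA.eulerCharLE k X (CohB1.tensorPow H n) d ∧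
      FGA.eulerCharLE k X (CohB1.tensorMod (CohB1.tensorPow L' m) (CohB1.tensorPow H' n)) d = FGA.eulerCharLE k X (CohB1.tensorPow H' n) d) :
    Pic13.IsTauEquivZero k X L := by
  haveI := Groth.L21.RR.isNoetherian_of_proper (X := X) k
  obtain ⟨eH⟩ := hHH'
  obtain ⟨eL⟩ := hLL'
  have hH' := Groth.L16.NegPow.isInvertible_inverse hH.1 eH
  have hL' := Groth.L16.NegPow.isInvertible_inverse hL eL
  let O := Coh.structureModule X
  have hχ : ∀ m N : ℕ, Curv2.euler k X (CohB1.tensorMod (CohB1.tensorPow L m) (CohB1.tensorPow H N)) =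
      Curv2.euler k X (CohB1.tensorPow H N) := fun m N => by
    rw [← Groth.L22.Inter.eulerCharLE_eq k hd, ← Groth.L22.Inter.eulerCharLE_eq k hd]; exact (hv m N).1
  -- twisting by powers of `L` does not change intersection numbers with `H`
  have hinv : ∀ (m : ℕ) (r : ℕ) (F : X.Modules), (F ≅ CohB1.tensorPow L m) →
      Groth.L22.Inter.altT k (fun _ : Fin r => H) F = Groth.L22.Inter.altT k (fun _ : Fin r => H) O := by
    intro m r F eF
    unfold Groth.L22.Inter.altT
    congr 1
    funext n
    obtain ⟨e⟩ := nonempty_tensorPows_const H n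
    simp only [Groth.L03.Euler.twEuler]
    congr 1
    rw [Groth.L03.Euler.euler_iso (Groth.L00.Tensor.tensorIso eF e), hχ,
      ← Groth.L03.Euler.euler_iso (Groth.L00.Tensor.tensorUnitLeft _)]
    exact (Groth.L03.Euler.euler_iso (Groth.L00.Tensor.tensorIso (Iso.refl O) e)).symm
  have e1 : CohB1.tensorMod O L ≅ CohB1.tensorPow L 1 := Iso.refl _
  have e2 : CohB1.tensorMod (CohB1.tensorMod O L) L ≅ CohB1.tensorPow L 2 := Iso.refl _
  -- the dimension
  obtain ⟨D, hD⟩ := Groth.L22.GeomConn.exists_nat_dim_closure (X ↘ Spec (CommRingCat.of k)) (genericPoint X)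
  have hXD : topologicalKrullDim X = (D : WithBot ℕ∞) := by
    rw [← hD, (genericPoint_spec X).def]
    exact (IsHomeomorph.topologicalKrullDim_eq _ (Homeomorph.Set.univ X).isHomeomorph).symm
  have hNT : Pic13.IsNumEquivZero k X L := by
    match D, hXD, hD with
    | 0, h0, _ =>
      intro Y ι _ _ hY
      have h1 := (ι.isClosedEmbedding.isInducing.topologicalKrullDim_le).trans h0.le
      rw [hY] at h1
      norm_num at h1
    | 1, h1, hD1 =>
      rw [Groth.L11.NumOrth.numZero_iff k hL]
      intro y hy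
      obtain rfl : y = genericPoint X := Groth.L07.EquidimQF.eq_genericPoint_of_dim_le h1.le hy.ge
      have hO := Groth.L16.CohClosedPush.isCoh_structure (X := X)
      have h2 := Groth.L22.Nef.altT_eq_len k (L := fun _ : Fin 1 => L) (fun _ => hL) hy hO
        (fun z _ => specializes_iff_mem_closure.1 ((genericPoint_spec X).specializes trivial))
      have h3 : Groth.L22.Inter.altT k (fun _ : Fin 1 => L) O = 0 := by
        rw [Groth.L22.Nef.altT_one]
        have := hχ 1 0
        rw [show CohB1.tensorPow H 0 = Coh.structureModule X from rfl,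
          Groth.L03.Euler.euler_iso (Groth.L00.Tensor.tensorUnitRight (CohB1.tensorPow L 1))] at this
        rw [Int.cast_eq_zero, sub_eq_zero]
        exact (Groth.L03.Euler.euler_iso e1).trans this
      rw [h3] at h2
      refine (mul_eq_zero.1 h2.symm).resolve_left ?_
      have hlen : (Groth.L16.CohSupport.len (genericPoint X) O).toNat ≠ 0 := fun h => by
        rcases ENat.toNat_eq_zero.1 h with h | h
        · refine (Groth.L16.CohSupport.len_eq_zero_iff _ _).1 h ?_
          exact fun hs => one_ne_zero ((Groth.L21.RR.bijective_smul_one (genericPoint X)).1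
            (a₁ := (1 : X.presheaf.stalk (genericPoint X))) (a₂ := 0) (@Subsingleton.elim _ hs _ _))
        · exact Groth.L16.CohSupport.len_ne_top hO (fun z _ hz => Groth.L22.Inter.eq_of_specializes_top isClosed_univ
            (le_of_eq_of_le (IsHomeomorph.topologicalKrullDim_eq _ (Homeomorph.Set.univ X).isHomeomorph) h1.le)
            hy (Set.mem_univ z) hz) h
      exact_mod_cast hlen
    | s + 2, hs, _ =>
      have hd' : topologicalKrullDim X ≤ (s + 2 : ℕ) := hs.le
      have hsd : topologicalKrullDim (CohB1.support O) ≤ (s + 2 : ℕ) := by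
        rw [Groth.L22.Nakai.dim_support_structure]; exact hd'
      have hO := Groth.L16.CohClosedPush.isCoh_structure (X := X)
      have hconv : ∀ (R R' : Fin (s + 2) → X.Modules), (∀ i, PicF.IsInvertible (R i)) → (∀ i, PicF.IsInvertible (R' i)) →
          (∀ i, Nonempty (CohB1.tensorMod (R i) (R' i) ≅ O)) →
          ((FGA.intNum k X (s + 2) R' O : ℤ) : ℚ) = Groth.L22.Inter.altT k R O := by
        intro R R' hR hR' e
        rw [Groth.L22.Inter.intNum_eq k hd', Groth.L11.NumOrth.altT_inv k hR hR' e hO hsd, ← mul_assoc, ← pow_add,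
          Even.neg_one_pow ⟨s + 2, rfl⟩, one_mul]
      refine Groth.Agent.S4290.result k X s hs H H' L L' hH hL ⟨eH⟩ ⟨eL⟩ ?_ (le_of_eq ?_)
      · rw [← Int.cast_eq_zero (α := ℚ)]
        refine (hconv (Fin.cons L (fun _ => H)) _ (Fin.cases hL fun _ => hH.1) (Fin.cases hL' fun _ => hH')
          (Fin.cases ⟨eL⟩ fun _ => ⟨eH⟩)).trans ?_
        rw [Groth.L22.Inter.altT_cons, hinv 1 _ _ e1, sub_self]
      · refine Eq.symm ?_
        rw [← Int.cast_eq_zero (α := ℚ)]
        refine (hconv (Fin.cons L (Fin.cons L (fun _ => H))) _ (Fin.cases hL (Fin.cases hL fun _ => hH.1))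
          (Fin.cases hL' (Fin.cases hL' fun _ => hH')) (Fin.cases ⟨eL⟩ (Fin.cases ⟨eL⟩ fun _ => ⟨eH⟩))).trans ?_
        rw [Groth.L22.Inter.altT_cons, Groth.L22.Inter.altT_cons, Groth.L22.Inter.altT_cons, hinv 1 _ _ e1,
          hinv 2 _ _ e2, sub_self]
  obtain ⟨m₀, hm₀⟩ := Groth.L03.SurfAdj.exists_embedding (k := k) hH
  obtain ⟨n, i, hi, hik, -⟩ := hm₀ m₀ le_rfl
  exact Groth.L11.NumOrth.isTauEquivZero_of_NT k i hik ⟨hL, hNT⟩

end Groth.Agent.S4306
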