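import Groth.Statements.S0602
import Groth.Agent.L01.DepthBasic
import Groth.Agent.L01.Regular
import Mathlib.RingTheory.Ideal.AssociatedPrime.Basic
import Mathlib.RingTheory.Ideal.MinimalPrime.Localization
import Mathlib.RingTheory.KrullDimension.Zero
import Mathlib.RingTheory.KrullDimension.Module
import Mathlib.RingTheory.Localization.Module
import Mathlib.RingTheory.LocalProperties.Reduced
import Mathlib.RingTheory.KrullDimension.PID

set_option autoImplicit false
universe u
open CAlg

namespace Groth.Agent.S0602

/-- A Noetherian ring is reduced exactly when it satisfies the conditions R₀ and S₁. -/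
theorem result (R : Type u) [CommRing R] [IsNoetherianRing R] :
    IsReduced R ↔ (LocCoh.HasRk 0 R ∧ LocCoh.HasSk 1 R R) := by
  classical
  constructor
  · intro _
    refine ⟨fun p _ hp => ?_, fun p _ => ?_⟩
    · have h := IsLocalization.AtPrime.ringKrullDim_eq_height p (Localization.AtPrime p)
      rw [nonpos_iff_eq_zero.mp (show p.height ≤ 0 by exact_mod_cast hp)] at h
      have : IsReduced (Localization.AtPrime p) :=
        isReduced_localizationPreserves p.primeCompl (Localization.AtPrime p) inferInstance
      have : Ring.KrullDimLE 0 (Localization.AtPrime p) :=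
        Ring.krullDimLE_iff.mpr (by rw [h]; simp)
      have hf := Ring.KrullDimLE.isField_of_isReduced (R := Localization.AtPrime p)
      let := hf.toField
      exact inferInstance
    · by_cases hmin : p ∈ minimalPrimes R
      · refine (min_le_right _ _).trans ((Module.supportDim_le_ringKrullDim _ _).trans ?_)
        rw [IsLocalization.AtPrime.ringKrullDim_eq_height p (Localization.AtPrime p),
          Ideal.height_eq_zero_iff.mpr hmin]
        exact Groth.L01.coe_zero_le_depth
      · obtain ⟨a, hap, ha⟩ : ∃ a ∈ p, ∀ q ∈ minimalPrimes R, a ∉ q := by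
          by_contra! hcon
          rcases ((minimalPrimes.finite_of_isNoetherianRing R).toFinset).eq_empty_or_nonempty with
            he | ⟨q₀, hq₀⟩
          · obtain ⟨q, hq, -⟩ := hcon 0 (zero_mem _)
            exact Finset.notMem_empty q (he ▸ (minimalPrimes.finite_of_isNoetherianRing R).mem_toFinset.mpr hq)
          obtain ⟨q, hq, hle⟩ := (Ideal.subset_union_prime (f := id) q₀ q₀ (fun q hq _ _ =>
            ((minimalPrimes.finite_of_isNoetherianRing R).mem_toFinset.mp hq).1.1)).mp
            (fun x hx => by
              obtain ⟨q, hq, hxq⟩ := hcon x hx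
              exact Set.mem_biUnion ((minimalPrimes.finite_of_isNoetherianRing R).mem_toFinset.mpr hq) hxq)
          have hq' := (minimalPrimes.finite_of_isNoetherianRing R).mem_toFinset.mp hq
          exact hmin ((le_antisymm hle (hq'.2 ⟨‹p.IsPrime›, bot_le⟩ hle)).symm ▸ hq')
        have hzero : ∀ m : R, a * m = 0 → m = 0 := fun m hm => by
          have : m ∈ nilradical R := by
            rw [nilradical, Ideal.zero_eq_bot, ← Ideal.sInf_minimalPrimes]
            refine Submodule.mem_sInf.mpr fun q hq => ?_
            exact (hq.1.1.mem_or_mem (hm ▸ zero_mem q)).resolve_left (ha q hq)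
          rwa [nilradical_eq_bot_iff.mpr ‹IsReduced R›, Submodule.mem_bot] at this
        refine (min_le_left _ _).trans ?_
        have := Groth.L01.one_le_depth (M := LocalizedModule p.primeCompl R)
          (x := algebraMap R (Localization.AtPrime p) a)
          ((IsLocalization.AtPrime.to_map_mem_maximal_iff _ p a).mpr hap) (by
            intro x y hxy
            rw [← sub_eq_zero] at hxy ⊢
            simp only at hxy
            rw [← smul_sub] at hxy
            induction hxy' : x - y using LocalizedModule.induction_on with
            | h m s =>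
              rw [hxy', algebraMap_smul, LocalizedModule.smul'_mk,
                ← LocalizedModule.zero_mk s, LocalizedModule.mk_eq] at hxy
              obtain ⟨u, hu⟩ := hxy
              simp only [smul_zero, Submonoid.smul_def, smul_eq_mul] at hu
              have h1 : (u : R) * ((s : R) * m) = 0 := hzero _ (by linear_combination hu)
              rw [← LocalizedModule.zero_mk s, LocalizedModule.mk_eq]
              exact ⟨u, by simp [Submonoid.smul_def, h1]⟩)
        exact_mod_cast this
  · rintro ⟨hR0, hS1⟩
    by_contra hnr
    obtain ⟨z, hz, hz0⟩ : ∃ z : R, IsNilpotent z ∧ z ≠ 0 := by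
      by_contra! hh
      exact hnr ⟨hh⟩
    obtain ⟨p, hp, hle⟩ := exists_le_isAssociatedPrime_of_isNoetherianRing R
      (⟨z, hz⟩ : nilradical R) (by simpa [Subtype.ext_iff] using hz0)
    obtain ⟨hpp, ⟨w, hw⟩, hann⟩ := isAssociatedPrime_iff.mp hp
    have hmem : ∀ r, r ∈ p ↔ r * w = 0 := fun r => by
      rw [hann, Submodule.mem_colon_singleton, Submodule.mem_bot, Subtype.ext_iff]; rfl
    have hwne : ∀ u ∈ p.primeCompl, u * w ≠ 0 := fun u hu h => hu ((hmem u).mpr h)
    have hm0 : (LocalizedModule.mk w 1 : LocalizedModule p.primeCompl R) ≠ 0 := by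
      intro h0
      rw [← LocalizedModule.zero_mk 1, LocalizedModule.mk_eq] at h0
      obtain ⟨u, hu⟩ := h0
      exact hwne u u.2 (by simpa [Submonoid.smul_def] using hu)
    have hdepth : LocCoh.depth (Localization.AtPrime p) (LocalizedModule p.primeCompl R) = 0 := by
      have : Module.Finite (Localization.AtPrime p) (LocalizedModule p.primeCompl R) :=
        Module.Finite.of_isLocalizedModule p.primeCompl (LocalizedModule.mkLinearMap p.primeCompl R)
      refine Groth.L01.depth_eq_zero_of_smul_eq_zero hm0 fun t ht => ?_
      obtain ⟨a, s, rfl⟩ := IsLocalization.exists_mk'_eq p.primeCompl t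
      rw [← Localization.mk_eq_mk', LocalizedModule.mk_smul_mk, smul_eq_mul,
        (hmem a).mp ((IsLocalization.AtPrime.mk'_mem_maximal_iff _ p a s).mp ht), LocalizedModule.zero_mk]
    have hS := hS1 p
    rw [hdepth] at hS
    have hsd : Module.supportDim (Localization.AtPrime p) (LocalizedModule p.primeCompl R) =
        ringKrullDim (Localization.AtPrime p) := by
      let e : LocalizedModule p.primeCompl R ≃ₗ[Localization.AtPrime p] Localization.AtPrime p :=
        LinearEquiv.extendScalarsOfIsLocalization p.primeCompl (Localization.AtPrime p)
          (IsLocalizedModule.iso p.primeCompl (Algebra.linearMap R (Localization.AtPrime p)))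
      rw [Module.supportDim_eq_of_equiv e, Module.supportDim_self_eq_ringKrullDim]
    rw [hsd, IsLocalization.AtPrime.ringKrullDim_eq_height p (Localization.AtPrime p)] at hS
    have hh : p.height = 0 := by
      rcases min_le_iff.mp hS with h | h
      · exact absurd h (by decide)
      · exact nonpos_iff_eq_zero.mp (by exact_mod_cast h)
    have := hR0 p (by rw [hh]; simp)
    have := Groth.L01.isDomain_of_regular (Localization.AtPrime p)
    have hz' : algebraMap R (Localization.AtPrime p) w = 0 := ((show IsNilpotent w from hw).map _).eq_zero
    obtain ⟨u, hu⟩ := (IsLocalization.map_eq_zero_iff p.primeCompl _ w).mp hz'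
    exact hwne u u.2 hu

end Groth.Agent.S0602
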