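import Groth.Statements.S0601
import Groth.Agent.L01.Serre
import Groth.Agent.S0602
import Mathlib.RingTheory.Ideal.AssociatedPrime.Finiteness
import Mathlib.RingTheory.LocalProperties.Reduced

set_option autoImplicit false
universe u
open CAlg

namespace Groth.Agent.S0601

/-- the depth of the localised ring as a module and as a ring agree; so do the dimensions -/
theorem depth_supportDim_localized {R : Type u} [CommRing R] (p : Ideal R) [p.IsPrime] :
    LocCoh.depth (Localization.AtPrime p) (LocalizedModule p.primeCompl R) =
      LocCoh.depth (Localization.AtPrime p) (Localization.AtPrime p) ∧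
    Module.supportDim (Localization.AtPrime p) (LocalizedModule p.primeCompl R) = (p.height : WithBot ℕ∞) := by
  classical
  let e : LocalizedModule p.primeCompl R ≃ₗ[Localization.AtPrime p] Localization.AtPrime p :=
    LinearEquiv.extendScalarsOfIsLocalization p.primeCompl (Localization.AtPrime p)
      (IsLocalizedModule.iso p.primeCompl (Algebra.linearMap R (Localization.AtPrime p)))
  refine ⟨?_, ?_⟩
  · unfold LocCoh.depth LocCoh.idealDepth
    have hiff : (IsLocalRing.maximalIdeal (Localization.AtPrime p) •
          (⊤ : Submodule (Localization.AtPrime p) (LocalizedModule p.primeCompl R)) = ⊤) ↔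
        (IsLocalRing.maximalIdeal (Localization.AtPrime p) •
          (⊤ : Submodule (Localization.AtPrime p) (Localization.AtPrime p)) = ⊤) := by
      rw [← (Submodule.map_injective_of_injective e.injective).eq_iff, Submodule.map_smul'',
        Submodule.map_top, LinearEquiv.range]
    simp only [e.isWeaklyRegular_congr, hiff]
  · rw [Module.supportDim_eq_of_equiv e, Module.supportDim_self_eq_ringKrullDim,
      IsLocalization.AtPrime.ringKrullDim_eq_height p (Localization.AtPrime p)]

/-- A Noetherian ring has all its local rings integrally closed domains exactly when it satisfies the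
regularity condition R₁ and the depth condition S₂. -/
theorem result (R : Type u) [CommRing R] [IsNoetherianRing R] :
    (∀ (p : Ideal R) [p.IsPrime], IsDomain (Localization.AtPrime p) ∧
      IsIntegrallyClosed (Localization.AtPrime p)) ↔ (LocCoh.HasRk 1 R ∧ LocCoh.HasSk 2 R R) := by
  classical
  constructor
  · intro h
    have hdvr : ∀ (p : Ideal R) [p.IsPrime] (b : Localization.AtPrime p), b ≠ 0 →
        IsLocalRing.maximalIdeal (Localization.AtPrime p) ∈
          associatedPrimes (Localization.AtPrime p) (Localization.AtPrime p ⧸ Ideal.span {b}) →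
        ∃ _ : IsDomain (Localization.AtPrime p), IsDiscreteValuationRing (Localization.AtPrime p) := by
      intro p _ b hb hass
      obtain ⟨_, _⟩ := h p
      exact ⟨inferInstance, Groth.L01.isDVR_of_maximalIdeal_mem_associatedPrimes hb hass⟩
    refine ⟨fun p _ hp => ?_, fun p _ => ?_⟩
    · obtain ⟨_, _⟩ := h p
      have hdim := IsLocalization.AtPrime.ringKrullDim_eq_height p (Localization.AtPrime p)
      by_cases hf : IsLocalRing.maximalIdeal (Localization.AtPrime p) = ⊥
      · have := (IsLocalRing.isField_iff_maximalIdeal_eq (R := Localization.AtPrime p)).mpr hf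
        let := this.toField
        exact inferInstance
      obtain ⟨b, hb, hb0⟩ := Submodule.exists_mem_ne_zero_of_ne_bot hf
      have : Nontrivial (Localization.AtPrime p ⧸ Ideal.span {b}) :=
        Ideal.Quotient.nontrivial_iff.mpr fun he => hb (Ideal.span_singleton_eq_top.mp he)
      obtain ⟨P, hP⟩ := associatedPrimes.nonempty (Localization.AtPrime p) (Localization.AtPrime p ⧸ Ideal.span {b})
      obtain ⟨hPp, w, hw⟩ := isAssociatedPrime_iff.mp hP
      haveI := hPp
      have hbP : b ∈ P := by
        obtain ⟨c, rfl⟩ := Ideal.Quotient.mk_surjective w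
        rw [hw, Submodule.mem_colon_singleton, Submodule.mem_bot]
        exact Ideal.Quotient.eq_zero_iff_mem.mpr (Ideal.mul_mem_right _ _ (Ideal.mem_span_singleton_self b))
      haveI : Ring.KrullDimLE 1 (Localization.AtPrime p) := Ring.krullDimLE_iff.mpr (by
        rw [hdim]; exact_mod_cast hp)
      rcases Ring.krullDimLE_one_iff.mp this P hPp with hm | hm
      · rw [IsDomain.minimalPrimes_eq_singleton_bot, Set.mem_singleton_iff] at hm
        exact absurd (by simpa [hm] using hbP) hb0
      · rw [IsLocalRing.eq_maximalIdeal hm] at hP
        obtain ⟨_, _⟩ := hdvr p b hb0 hP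
        exact inferInstance
    · obtain ⟨hd, hs⟩ := depth_supportDim_localized p
      rw [hd, hs]
      obtain ⟨_, _⟩ := h p
      have hdim := IsLocalization.AtPrime.ringKrullDim_eq_height p (Localization.AtPrime p)
      by_cases hf : IsLocalRing.maximalIdeal (Localization.AtPrime p) = ⊥
      · have hfld := (IsLocalRing.isField_iff_maximalIdeal_eq (R := Localization.AtPrime p)).mpr hf
        rw [← hdim, ringKrullDim_eq_zero_of_isField hfld]
        exact (min_le_right _ _).trans Groth.L01.coe_zero_le_depth
      obtain ⟨b, hb, hb0⟩ := Submodule.exists_mem_ne_zero_of_ne_bot hf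
      have hb1 : ∀ c, b * c = 0 → c = 0 := fun c hc => (mul_eq_zero.mp hc).resolve_left hb0
      by_cases hass : IsLocalRing.maximalIdeal (Localization.AtPrime p) ∈
          associatedPrimes (Localization.AtPrime p) (Localization.AtPrime p ⧸ Ideal.span {b})
      · obtain ⟨_, _⟩ := hdvr p b hb0 hass
        rw [← hdim, IsPrincipalIdealRing.ringKrullDim_eq_one _ (IsDiscreteValuationRing.not_isField _)]
        refine (min_le_right _ _).trans ?_
        exact_mod_cast Groth.L01.one_le_depth (M := Localization.AtPrime p) hb
          (isSMulRegular_iff_right_eq_zero_of_smul.mpr hb1)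
      · let S := (associatedPrimes.finite (Localization.AtPrime p) (Localization.AtPrime p ⧸ Ideal.span {b})).toFinset
        obtain ⟨y, hy, hyS⟩ : ∃ y ∈ IsLocalRing.maximalIdeal (Localization.AtPrime p), ∀ q ∈ S, y ∉ q := by
          by_contra! hcon
          obtain ⟨q₀, hq₀, -⟩ := hcon b hb
          obtain ⟨q, hq, hle⟩ := (Ideal.subset_union_prime (f := id) (s := S) q₀ q₀
            (fun q hq _ _ => ((Set.Finite.mem_toFinset _).mp hq).isPrime)
            (I := IsLocalRing.maximalIdeal _)).mp (fun x hx => by
              obtain ⟨q, hq, hxq⟩ := hcon x hx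
              exact Set.mem_biUnion hq hxq)
          have hq' := (Set.Finite.mem_toFinset _).mp hq
          exact hass ((IsLocalRing.maximalIdeal.isMaximal _).eq_of_le hq'.isPrime.ne_top hle ▸ hq')
        refine (min_le_left _ _).trans ?_
        have h2 := Groth.L01.Serre.two_le_depth hb hy hb1 (fun c hc => by
          by_contra hne
          have : y ∈ ⋃ q ∈ associatedPrimes (Localization.AtPrime p) (Localization.AtPrime p ⧸ Ideal.span {b}),
              (q : Set (Localization.AtPrime p)) := by
            rw [biUnion_associatedPrimes_eq_zero_divisors]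
            exact ⟨Ideal.Quotient.mk _ c, by rwa [Ne, Ideal.Quotient.eq_zero_iff_mem],
              Ideal.Quotient.eq_zero_iff_mem.mpr hc⟩
          obtain ⟨q, hq, hyq⟩ := Set.mem_iUnion₂.mp this
          exact hyS q ((Set.Finite.mem_toFinset _).mpr hq) hyq)
        exact WithBot.coe_le_coe.mpr h2
  · rintro ⟨hR, hS⟩ p hp
    haveI : IsReduced R := (Groth.Agent.S0602.result R).mpr
      ⟨fun q _ hq => hR q (hq.trans (by simp)), fun q _ => (min_le_min_right _ (by exact_mod_cast Nat.le_succ 1)).trans (hS q)⟩
    haveI : IsReduced (Localization.AtPrime p) :=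
      isReduced_localizationPreserves p.primeCompl (Localization.AtPrime p) inferInstance
    refine Groth.L01.Serre.isDomain_and_isIntegrallyClosed fun P _ => ?_
    let q := P.comap (algebraMap R (Localization.AtPrime p))
    haveI : IsNoetherianRing (Localization.AtPrime P) := IsLocalization.isNoetherianRing P.primeCompl _ inferInstance
    let e : Localization.AtPrime q ≃+* Localization.AtPrime P :=
      (IsLocalization.localizationLocalizationAtPrimeIsoLocalization p.primeCompl P).toRingEquiv
    by_cases hq : q.height ≤ 1
    · left
      haveI := hR q (by exact_mod_cast hq)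
      refine ⟨IsRegularLocalRing.of_ringEquiv e, ?_⟩
      rw [← ringKrullDim_eq_of_ringEquiv e, IsLocalization.AtPrime.ringKrullDim_eq_height q]
      exact_mod_cast hq
    · right
      intro hbad
      refine Groth.L01.Serre.not_bad_of_two_le_depth ?_ (Groth.L01.Serre.bad_of_ringEquiv e.symm hbad)
      obtain ⟨hd, hs⟩ := depth_supportDim_localized q
      have h2 := hS q
      rw [hd, hs, min_eq_left] at h2
      · exact WithBot.coe_le_coe.mp h2
      · exact WithBot.coe_le_coe.mpr (le_of_eq_of_le (by norm_num) (Order.add_one_le_of_lt (not_le.mp hq)))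

end Groth.Agent.S0601
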