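import Groth.Prelude.Def_Coh
import Groth.Prelude.Def_Pic
import Groth.Prelude.Def_CohB1
import Groth.Prelude.Def_Curv2
import Mathlib.AlgebraicGeometry.Morphisms.Proper
import Mathlib.Topology.KrullDimension
import Mathlib.LinearAlgebra.Dimension.Finrank
import Mathlib.AlgebraicGeometry.Morphisms.Smooth
import Mathlib.AlgebraicGeometry.Morphisms.FinitePresentation
import Mathlib.RingTheory.RegularLocalRing.Defs
import Groth.Agent.L07.GeomRk.Field
import Groth.Agent.S0564

set_option autoImplicit false
set_option linter.style.haveILetI false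
namespace Variety
end Variety
universe u
open CategoryTheory CategoryTheory.Limits AlgebraicGeometry
open Variety

namespace Groth.Agent.S1562

/-- Let X be locally of finite type over a field k and x a point of X. Then X is geometrically regular
at x (regular local rings at all points over x after every finitely generated field extension) if
and only if x lies in the smooth locus of X → Spec k. -/
theorem result (k : Type u) [Field k] (X : Scheme.{u}) [X.Over (Spec (CommRingCat.of k))] [LocallyOfFinitePresentation (X ↘ (Spec (CommRingCat.of k)))] (x : X) :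
    Curv2.IsGeomRegularAt k X x ↔ x ∈ (X ↘ (Spec (CommRingCat.of k))).smoothLocus := by
  set f : X ⟶ Spec (CommRingCat.of k) := X ↘ (Spec (CommRingCat.of k))
  obtain ⟨W, hW, hxW, hA, hft, hφ⟩ := Groth.L07.GeomRk.exists_chart f x
  letI := hA
  haveI := hft
  refine Iff.trans (Iff.rfl : Curv2.IsGeomRegularAt k X x ↔ Groth.L07.GeomRk.GeomAt f
    (fun (K : Type u) [Field K] [Algebra k K] => (⊤ : IntermediateField k K).FG) (fun R _ => IsRegularLocalRing R) x)
    (((Groth.L07.GeomRk.geomAt_iff f hW hφ (fun (K : Type u) [Field K] [Algebra k K] => (⊤ : IntermediateField k K).FG)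
      (fun R _ => IsRegularLocalRing R) (fun R S _ _ e h => by haveI := h; exact IsRegularLocalRing.of_ringEquiv e)
      x hxW)).trans ?_)
  rw [Groth.L07.GeomRk.mem_smoothLocus_iff f hW hφ x hxW]
  constructor
  · intro h
    haveI : IsNoetherianRing Γ(X, W) := Algebra.FiniteType.isNoetherianRing k _
    obtain ⟨n, hn⟩ := ENat.ne_top_iff_exists.1 (Ideal.height_ne_top (I := (hW.primeIdealOf ⟨x, hxW⟩).asIdeal) (Ideal.IsPrime.ne_top inferInstance))
    refine Groth.L07.GeomRk.smoothUpTo_of_finite _ n (fun K _ _ hK P _ hP => ?_) _ le_rfl hn.ge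
    haveI := hK
    haveI : Algebra.EssFiniteType k K := inferInstance
    haveI := h K (IntermediateField.fg_top_iff.2 inferInstance) P hP
    intro q _ _
    exact Groth.Agent.S0564.result _ q
  · intro h K _ _ _ Q _ hQ
    exact Groth.L07.GeomRk.regular_of_smooth_under K Q
      (Groth.L07.GeomRk.congr_prime (T := fun W' _ => Algebra.IsSmoothAt k W') hQ.symm h)

end Groth.Agent.S1562
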