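import Groth.Prelude.Def_Coh
import Groth.Prelude.Def_Pic
import Groth.Prelude.Def_CohB1
import Groth.Prelude.Def_Curv2
import Mathlib.AlgebraicGeometry.Morphisms.Proper
import Mathlib.Topology.KrullDimension
import Mathlib.LinearAlgebra.Dimension.Finrank
import Mathlib.AlgebraicGeometry.Morphisms.Smooth
import Mathlib.AlgebraicGeometry.Geometrically.Reduced
import Mathlib.RingTheory.RegularLocalRing.Defs
import Groth.Agent.S1562
import Groth.Agent.L26.AV.SmoothField

set_option autoImplicit false
namespace Variety
end Variety
universe u
open CategoryTheory CategoryTheory.Limits AlgebraicGeometry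
open Variety

namespace Groth.Agent.S1628

/-- If X is smooth over a field k then X is geometrically reduced over k and geometrically regular at
every point. -/
theorem result (k : Type u) [Field k] (X : Scheme.{u}) [X.Over (Spec (CommRingCat.of k))] [Smooth (X ↘ (Spec (CommRingCat.of k)))] :
    GeometricallyReduced (X ↘ (Spec (CommRingCat.of k))) ∧ ∀ x : X, Curv2.IsGeomRegularAt k X x := by
  refine ⟨Groth.Agent.AV.geometricallyReduced_of_smooth _, fun x => ?_⟩
  refine (Groth.Agent.S1562.result k X x).2 ?_
  rw [Scheme.Hom.smoothLocus_eq_top]
  trivial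

end Groth.Agent.S1628
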