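import Groth.Statements.S2143
import Mathlib.RingTheory.Spectrum.Prime.Jacobson
import Mathlib.Topology.JacobsonSpace
import Mathlib.RingTheory.Jacobson.Ring
import Groth.Agent.L03.MiracleQF
-- import your own Groth.Agent.* helpers here

set_option autoImplicit false
universe u
open CAlg

namespace Groth.Agent.S2143

/-- (1) = (3): let `S` be of finite type over a field `k` and `𝔭` a prime of `S`. The local dimension of
`Spec S` at `𝔭` is the infimum of `dim S_𝔪` over the maximal ideals `𝔪 ⊇ 𝔭`. -/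
theorem result {k S : Type u} [Field k] [CommRing S] [Algebra k S] [Algebra.FiniteType k S]
    (p : Ideal S) [p.IsPrime] :
    FlatMor.localDim (PrimeSpectrum S) ⟨p, inferInstance⟩ =
      ⨅ m : {m : Ideal S // m.IsMaximal ∧ p ≤ m}, ringKrullDim (Localization.AtPrime (hp := m.2.1.isPrime') m.1) := by
  haveI : IsJacobsonRing S := isJacobsonRing_of_finiteType (A := k)
  have key : ∀ m : {m : Ideal S // m.IsMaximal ∧ p ≤ m}, ringKrullDim (Localization.AtPrime (hp := m.2.1.isPrime') m.1) =
      FlatMor.localDim (PrimeSpectrum S) ⟨m.1, m.2.1.isPrime'⟩ := fun m => by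
    haveI := m.2.1
    obtain ⟨a, b, ha, hb, h⟩ := Groth.L03.MiracleQF.exists_localDim_eq k S m.1
    haveI : Ring.KrullDimLE 0 (S ⧸ m.1) := by
      letI := Ideal.Quotient.field m.1
      infer_instance
    have h0 : a = 0 := by
      letI := Ideal.Quotient.field m.1
      exact_mod_cast ha.symm.trans (ringKrullDim_eq_zero_of_field (S ⧸ m.1))
    rw [h, hb, h0, zero_add]
  refine le_antisymm (le_iInf fun m => ?_) (le_iInf fun U => ?_)
  · rw [key m]
    refine le_iInf fun U => iInf_le_of_le ⟨U.1, ?_⟩ le_rfl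
    exact ((PrimeSpectrum.le_iff_specializes (⟨p, inferInstance⟩ : PrimeSpectrum S) ⟨m.1, m.2.1.isPrime'⟩).mp m.2.2).mem_open U.1.2 U.2
  · obtain ⟨y, ⟨hyU, hy⟩, hyc⟩ := nonempty_inter_closedPoints
      (Z := (U.1 : Set (PrimeSpectrum S)) ∩ closure ({⟨p, inferInstance⟩} : Set (PrimeSpectrum S)))
      ⟨_, U.2, subset_closure rfl⟩ (U.1.2.isLocallyClosed.inter isClosed_closure.isLocallyClosed)
    have hmax : y.asIdeal.IsMaximal := (PrimeSpectrum.isClosed_singleton_iff_isMaximal y).mp hyc
    refine iInf_le_of_le ⟨y.asIdeal, hmax, (PrimeSpectrum.le_iff_specializes _ y).mpr (specializes_iff_mem_closure.mpr hy)⟩ ?_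
    rw [key]
    exact iInf_le_of_le ⟨U.1, hyU⟩ le_rfl

end Groth.Agent.S2143
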