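import Groth.Statements.S5012
import Groth.Agent.L05.SmoothCrit.Projective

set_option autoImplicit false
universe u
open Unram17

namespace Groth.Agent.S5012

/-- Let A be an algebra of finite type over a field k. Then Spec A has a dense open subset consisting of
points at which A is smooth over k if and only if, for every minimal prime p of A, the local ring
A_p is geometrically reduced over k (that is, A_p is a field and a separable extension of k). -/
theorem result (k A : Type u) [Field k] [CommRing A] [Algebra k A]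
    [Algebra.FiniteType k A] :
    (∃ U : TopologicalSpace.Opens (PrimeSpectrum A), Dense (U : Set (PrimeSpectrum A)) ∧
        ∀ p ∈ U, Algebra.IsSmoothAt k p.asIdeal) ↔
      ∀ (p : Ideal A) [p.IsPrime], p ∈ minimalPrimes A →
        Algebra.IsGeometricallyReduced k (Localization.AtPrime p) := by
  haveI : IsNoetherianRing A := Algebra.FiniteType.isNoetherianRing k A
  haveI : Algebra.FinitePresentation k A := Algebra.FinitePresentation.of_finiteType.mp ‹Algebra.FiniteType k A›
  constructor
  · rintro ⟨U, hU, hsm⟩ p _ hp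
    let V : Set (PrimeSpectrum A) :=
      (⋃ q ∈ (minimalPrimes A \ {p}), PrimeSpectrum.zeroLocus (q : Set A))ᶜ
    have hVo : IsOpen V := isOpen_compl_iff.mpr
      (((minimalPrimes.finite_of_isNoetherianRing A).subset Set.sdiff_subset).isClosed_biUnion
        fun q _ => PrimeSpectrum.isClosed_zeroLocus _)
    have hpV : (⟨p, inferInstance⟩ : PrimeSpectrum A) ∈ V := by
      simp only [V, Set.mem_compl_iff, Set.mem_iUnion, not_exists]
      rintro q ⟨hq, hqp⟩ hle
      have hle' : q ≤ p := (PrimeSpectrum.mem_zeroLocus _ _).mp hle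
      exact hqp (le_antisymm hle' (hp.2 hq.1 hle'))
    obtain ⟨z, hzV, hzU⟩ := hU.inter_open_nonempty V hVo ⟨_, hpV⟩
    obtain ⟨q, hq, hqz⟩ := Ideal.exists_minimalPrimes_le (I := (⊥ : Ideal A)) (J := z.asIdeal) bot_le
    have hqp : q = p := by
      by_contra h
      exact hzV (Set.mem_biUnion ⟨hq, h⟩ ((PrimeSpectrum.mem_zeroLocus _ _).mpr hqz))
    subst hqp
    have hpU : (⟨q, inferInstance⟩ : PrimeSpectrum A) ∈ U :=
      ((PrimeSpectrum.le_iff_specializes ⟨q, inferInstance⟩ z).mp hqz).mem_open U.isOpen hzU
    haveI : Algebra.IsSmoothAt k q := hsm _ hpU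
    exact Groth.L05.SmoothCrit.isGeometricallyReduced_of_minimal q hp
  · intro h
    refine ⟨⟨Algebra.smoothLocus k A, Algebra.isOpen_smoothLocus⟩, fun z => ?_, fun p hp => hp⟩
    obtain ⟨q, hq, hqz⟩ := Ideal.exists_minimalPrimes_le (I := (⊥ : Ideal A)) (J := z.asIdeal) bot_le
    haveI : q.IsPrime := hq.1.1
    haveI := h q hq
    have hqs : (⟨q, inferInstance⟩ : PrimeSpectrum A) ∈ Algebra.smoothLocus k A :=
      Groth.L05.SmoothCrit.isSmoothAt_of_minimal q hq
    exact closure_mono (Set.singleton_subset_iff.mpr hqs)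
      (specializes_iff_mem_closure.mp ((PrimeSpectrum.le_iff_specializes ⟨q, inferInstance⟩ z).mp hqz))

end Groth.Agent.S5012
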