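import Groth.Statements.S1549
import Groth.Agent.Lead.GeomRedVariety
import Groth.Agent.L19.Limit.MaxPoints
import Groth.Agent.S5012
import Groth.Agent.S1628
-- import your own Groth.Agent.* helpers here

set_option autoImplicit false
set_option maxSynthPendingDepth 3
set_option backward.isDefEq.respectTransparency.types false
set_option backward.isDefEq.respectTransparency false
universe u
open CategoryTheory CategoryTheory.Limits AlgebraicGeometry
open Variety

namespace Groth.Agent.S1549

/-- A maximal point lies in every dense open of a scheme locally of finite type over a field. -/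
theorem maximal_mem {k : Type u} [Field k] {X : Scheme.{u}} (f : X ⟶ Spec (CommRingCat.of k))
    [LocallyOfFiniteType f] (U : X.Opens) (hU : Dense (U : Set X)) (η : X) (hη : ∀ y, y ⤳ η → y = η) :
    η ∈ U := by
  haveI : IsLocallyNoetherian X := LocallyOfFiniteType.isLocallyNoetherian f
  obtain ⟨V, hV, hηV, -⟩ := exists_isAffineOpen_mem_and_subset (X := X) (x := η) (U := ⊤) trivial
  haveI : IsNoetherianRing Γ(X, V) := IsLocallyNoetherian.component_noetherian ⟨V, hV⟩
  let j := hV.fromSpec
  have hj := j.isOpenEmbedding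
  let m := hV.primeIdealOf ⟨η, hηV⟩
  have hm : j m = η := hV.fromSpec_primeIdealOf ⟨η, hηV⟩
  have hmax : Groth.L19.Limit.IsMaxPt m := fun z hz =>
    hj.injective ((hη _ (hm ▸ hz.map j.continuous)).trans hm.symm)
  have hfin : {p : Spec Γ(X, V) | Groth.L19.Limit.IsMaxPt p}.Finite := by
    refine Set.Finite.of_finite_image (f := fun p : Spec Γ(X, V) => p.asIdeal)
      ((minimalPrimes.finite_of_isNoetherianRing Γ(X, V)).subset ?_) fun _ _ _ _ h => PrimeSpectrum.ext h
    rintro _ ⟨p, hp, rfl⟩
    refine ⟨⟨p.isPrime, bot_le⟩, fun q hq hqp => ?_⟩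
    exact (congrArg PrimeSpectrum.asIdeal (hp ⟨q, hq.1⟩ ((PrimeSpectrum.le_iff_specializes ⟨q, hq.1⟩ p).mp hqp))).ge
  have := Groth.L19.Limit.isMaxPt_mem_of_dense hfin (U.2.preimage j.continuous)
    (hU.preimage hj.isOpenMap) hmax
  exact hm ▸ this

/-- For a reduced scheme locally of finite type over k, being geometrically reduced is equivalent to
having a dense open subscheme that is smooth over k. -/
theorem result (k : Type u) [Field k] (X : Scheme.{u}) [X.Over (Spec (CommRingCat.of k))] [IsReduced X] [LocallyOfFiniteType (X ↘ (Spec (CommRingCat.of k)))] :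
    GeometricallyReduced (X ↘ (Spec (CommRingCat.of k))) ↔ ∃ U : X.Opens, Dense (U : Set X) ∧ Smooth (U.ι ≫ (X ↘ (Spec (CommRingCat.of k)))) := by
  let f := X ↘ Spec (CommRingCat.of k)
  constructor
  · intro hred
    haveI : LocallyOfFinitePresentation f :=
      LocallyOfFinitePresentation.iff_locallyOfFiniteType.mpr inferInstance
    refine ⟨f.smoothLocus, dense_iff_inter_open.mpr fun W hW hne => ?_, ?_⟩
    · obtain ⟨x, hx⟩ := hne
      obtain ⟨V, hV, hxV, hVW⟩ := exists_isAffineOpen_mem_and_subset (X := X) (x := x) (U := ⟨W, hW⟩) hx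
      obtain ⟨hA, hφV⟩ := Groth.L07.GeomRedField.exists_field_algebra f hV
      letI := hA
      have hft : LocallyOfFiniteType (hV.fromSpec ≫ f) := inferInstance
      rw [hφV, HasRingHomProperty.Spec_iff (P := @LocallyOfFiniteType)] at hft
      haveI : Algebra.FiniteType k Γ(X, V) := RingHom.finiteType_algebraMap.mp hft
      haveI : Algebra.FinitePresentation k Γ(X, V) := Algebra.FinitePresentation.of_finiteType.mp inferInstance
      obtain ⟨U₀, hU₀, hsm⟩ := (Groth.Agent.S5012.result k Γ(X, V)).mpr fun p _ _ => by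
        let η : X := hV.fromSpec ⟨p, inferInstance⟩
        have hηV : η ∈ V := hV.range_fromSpec.le ⟨_, rfl⟩
        have hp : hV.primeIdealOf ⟨η, hηV⟩ = ⟨p, inferInstance⟩ :=
          hV.fromSpec.isOpenEmbedding.injective (hV.fromSpec_primeIdealOf ⟨η, hηV⟩)
        have h := Groth.Lead.GeomRedVariety.forall_of_geometricallyReduced f η
        rw [Groth.L07.GeomRedField.isGeomReducedAt_iff f hV hφV η hηV, hp] at h
        exact (Groth.Lead.GeomRedVariety.geomRedAt_iff p).mp h
      obtain ⟨p, hp⟩ := hU₀.inter_open_nonempty _ isOpen_univ ⟨hV.primeIdealOf ⟨x, hxV⟩, trivial⟩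
      obtain ⟨_, ⟨a, rfl⟩, hpa, haU⟩ :=
        PrimeSpectrum.isTopologicalBasis_basic_opens.exists_subset_of_mem_open hp.2 U₀.2
      haveI : Algebra.Smooth k (Localization.Away a) :=
        Algebra.basicOpen_subset_smoothLocus_iff_smooth.mp fun q hq => hsm q (haU hq)
      let g : Spec (CommRingCat.of (Localization.Away a)) ⟶ X :=
        Spec.map (CommRingCat.ofHom (algebraMap Γ(X, V) (Localization.Away a))) ≫ hV.fromSpec
      haveI : IsOpenImmersion (Spec.map (CommRingCat.ofHom (algebraMap Γ(X, V) (Localization.Away a)))) :=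
        IsOpenImmersion.of_isLocalization a
      haveI : Smooth (g ≫ f) := by
        rw [Category.assoc, hφV, ← Spec.map_comp, HasRingHomProperty.Spec_iff (P := @Smooth),
          ← CommRingCat.ofHom_comp, ← IsScalarTower.algebraMap_eq]
        exact RingHom.smooth_algebraMap.mpr inferInstance
      obtain ⟨q, hq⟩ : p ∈ Set.range (PrimeSpectrum.comap (algebraMap Γ(X, V) (Localization.Away a))) := by
        rw [PrimeSpectrum.localization_away_comap_range (Localization.Away a) a]; exact hpa
      refine ⟨g q, hVW ?_, ?_⟩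
      · exact hV.range_fromSpec.le ⟨_, rfl⟩
      · have h1 : g ⁻¹ᵁ f.smoothLocus = ⊤ := by
          rw [Scheme.Hom.preimage_smoothLocus_eq, Scheme.Hom.smoothLocus_eq_top]
        exact h1.ge (Set.mem_univ q)
    · rw [← Scheme.Hom.smoothLocus_eq_top_iff, ← Scheme.Hom.preimage_smoothLocus_eq]
      exact Scheme.Opens.ι_preimage_self _
  · rintro ⟨U, hU, hsm⟩
    refine Groth.Lead.GeomRedVariety.geometricallyReduced_of_generic f fun η hη => ?_
    have hηU := maximal_mem f U hU η hη
    letI : (U : Scheme.{u}).Over (Spec (CommRingCat.of k)) := ⟨U.ι ≫ f⟩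
    haveI : Smooth ((U : Scheme.{u}) ↘ Spec (CommRingCat.of k)) := hsm
    haveI hUred : GeometricallyReduced (U.ι ≫ f) := (Groth.Agent.S1628.result k U).1
    intro K _ _ z hz
    let g : pullback (U.ι ≫ f) (Spec.map (CommRingCat.ofHom (algebraMap k K))) ⟶ FBase.bc f K :=
      pullback.map _ _ _ _ U.ι (𝟙 _) (𝟙 _) (by simp) (by simp)
    obtain ⟨w, rfl⟩ : z ∈ Set.range g := by
      show z ∈ Set.range (pullback.map (U.ι ≫ f) (Spec.map (CommRingCat.ofHom (algebraMap k K))) f
        (Spec.map (CommRingCat.ofHom (algebraMap k K))) U.ι (𝟙 _) (𝟙 _) (by simp) (by simp)).base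
      erw [Scheme.Pullback.range_map]
      refine ⟨?_, ⟨_, rfl⟩⟩
      show (FBase.bcπ f K).base z ∈ Set.range U.ι
      rw [Scheme.Opens.range_ι, hz]
      exact hηU
    haveI : IsReduced (pullback (U.ι ≫ f) (Spec.map (CommRingCat.ofHom (algebraMap k K)))) :=
      hUred.geometrically_isReduced _ _ _ (.of_hasPullback _ _)
    exact isReduced_of_injective (asIso (g.stalkMap w)).commRingCatIsoToRingEquiv
      (asIso (g.stalkMap w)).commRingCatIsoToRingEquiv.injective

end Groth.Agent.S1549
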