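import Groth.Statements.S18366
import Groth.Agent.L22.FibreDim
import Groth.Agent.S1550
import Groth.Agent.S1549
-- import your own Groth.Agent.* helpers here

set_option autoImplicit false
universe u
open CategoryTheory CategoryTheory.Limits AlgebraicGeometry
open Variety

namespace Groth.Agent.S18366

/-- Let k be a separably closed field and X a non-empty k-scheme of finite type which is geometrically
reduced. Then X has a k-rational point, i.e. the structure morphism admits a section. (Non-emptiness
is part of the hypotheses: the empty scheme is geometrically reduced of finite type and has no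
point. The published statement does not assume X non-empty; this row does, since the empty scheme
has no rational point.) -/
theorem result (k : Type u) [Field k] [IsSepClosed k]
    {X : Scheme.{u}} (f : X ⟶ Spec (CommRingCat.of k)) [LocallyOfFiniteType f] [QuasiCompact f] [GeometricallyReduced f]
    [Nonempty X] :
    ∃ s : Spec (CommRingCat.of k) ⟶ X, s ≫ f = 𝟙 (Spec (CommRingCat.of k)) := by
  letI : X.Over (Spec (CommRingCat.of k)) := ⟨f⟩
  haveI : GeometricallyReduced (X ↘ Spec (CommRingCat.of k)) := ‹GeometricallyReduced f›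
  haveI : LocallyOfFiniteType (X ↘ Spec (CommRingCat.of k)) := ‹LocallyOfFiniteType f›
  haveI : AlgebraicGeometry.IsReduced X :=
    GeometricallyReduced.geometrically_isReduced (f := f) (𝟙 (Spec (CommRingCat.of k))) (𝟙 X) f
      (IsPullback.of_horiz_isIso ⟨by simp⟩)
  obtain ⟨U, hU, hsm⟩ := (Groth.Agent.S1549.result k X).mp inferInstance
  letI : (U : Scheme.{u}).Over (Spec (CommRingCat.of k)) := ⟨U.ι ≫ f⟩
  haveI : Smooth ((U : Scheme.{u}) ↘ Spec (CommRingCat.of k)) := hsm
  haveI : Nonempty (U : Scheme.{u}) := by
    obtain ⟨x, hx⟩ := hU.nonempty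
    exact ⟨⟨x, hx⟩⟩
  obtain ⟨x, -, hfd, hsep⟩ := (Groth.Agent.S1550.result k (U : Scheme.{u})).nonempty
  letI := Curv2.resAlgebra k (U : Scheme.{u}) x
  let r := CommRingCat.ofHom (Curv2.resMap k (U : Scheme.{u}) x)
  have hr : IsIso r := (ConcreteCategory.isIso_iff_bijective r).mpr
    ⟨(Curv2.resMap k (U : Scheme.{u}) x).injective, IsSepClosed.algebraMap_surjective k ((U : Scheme.{u}).residueField x)⟩
  refine ⟨Spec.map (inv r) ≫ (U : Scheme.{u}).fromSpecResidueField x ≫ U.ι, ?_⟩
  rw [Category.assoc, Category.assoc]
  show Spec.map (inv r) ≫ (U : Scheme.{u}).fromSpecResidueField x ≫ ((U : Scheme.{u}) ↘ Spec (CommRingCat.of k)) = _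
  rw [← Groth.L22.FibreDim.SpecMap_resMap, ← Spec.map_comp, IsIso.hom_inv_id, Spec.map_id]

end Groth.Agent.S18366
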