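import Groth.Statements.S4466
import Groth.Agent.L16.ProjSpace.TopCoh
import Groth.Agent.L16.ProjSpace.Sections
import Groth.Agent.L03.PlanePoints
import Mathlib.RingTheory.Binomial

set_option autoImplicit false
universe u
open Coherent

namespace Groth.Agent.S4466

open AlgebraicGeometry CategoryTheory in
/-- Let k be a field, r > 0 and n any integer. Then the Euler characteristic of the twisting sheaf O(n)
on projective r-space over k, namely the alternating sum of the dimensions of H^j(P^r_k, O(n)) for 0
≤ j ≤ r, equals the binomial coefficient C(n+r, r), understood as the binomial polynomial evaluated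
at the integer n+r (so that it makes sense and is correct for negative n too). -/
theorem result (k : Type u) [Field k] (r : ℕ) (hr : 0 < r)
    (n : ℤ) :
    ((Finset.range (r + 1)).sum fun j => (-1 : ℤ) ^ j *
        (Module.finrank k (Coh.HH (CohB1.ProjSpace r k) (Twist.twistProjSpace r k n) j) : ℤ)) =
      Ring.choose (n + r) r := by
  classical
  have hsub : ∀ q, ¬ (q = 0 ∧ 0 ≤ n) → ¬ (q = r ∧ n ≤ -((r : ℤ) + 1)) →
      Module.finrank k (Coh.HH (CohB1.ProjSpace r k) (Twist.twistProjSpace r k n) q) = 0 := fun q h₀ h₁ => by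
    haveI := Groth.L16.ProjSpace.subsingleton_HH_twist r k n q h₀ h₁
    exact Module.finrank_zero_of_subsingleton
  rcases le_or_gt 0 n with hn | hn
  · rw [Finset.sum_eq_single 0 (fun q _ hq => by rw [hsub q (by omega) (by omega)]; simp) (by simp)]
    obtain ⟨m, rfl⟩ := Int.eq_ofNat_of_zero_le hn
    obtain ⟨e⟩ := Groth.L16.ProjSpace.nonempty_H0_twist_linearEquiv (n := r) (R := k) m
    rw [e.finrank_eq, (Groth.L03.PlanePoints.finrank_homogeneous (F := k) r m).2, ← Nat.cast_add,
      Ring.choose_natCast]
    simp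
  · rcases lt_or_ge (-((r : ℤ) + 1)) n with hn' | hn'
    · rw [Finset.sum_eq_zero fun q _ => by rw [hsub q (by omega) (by omega)]; simp]
      obtain ⟨m, hm⟩ := Int.eq_ofNat_of_zero_le (show 0 ≤ n + r by omega)
      rw [hm, Ring.choose_natCast, Nat.choose_eq_zero_of_lt (by omega)]
      simp
    · rw [Finset.sum_eq_single r (fun q _ hq => by rw [hsub q (by omega) (by omega)]; simp)
        (fun h => absurd (Finset.self_mem_range_succ r) h)]
      obtain ⟨j, hj⟩ := Int.eq_ofNat_of_zero_le (show 0 ≤ -((r : ℤ) + 1) - n by omega)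
      obtain rfl : n = -((r : ℤ) + 1 + j) := by omega
      obtain ⟨e⟩ := Groth.L16.ProjSpace.nonempty_HH_top_linearEquiv r j k
      rw [e.finrank_eq, (Groth.L03.PlanePoints.finrank_homogeneous (F := k) r j).2,
        show -((r : ℤ) + 1 + j) + r = -(((j + 1 : ℕ)) : ℤ) by push_cast; ring, Ring.choose_neg,
        show ((j + 1 : ℕ) : ℤ) + (r : ℤ) - 1 = ((j + r : ℕ) : ℤ) by push_cast; ring, Ring.choose_natCast,
        Units.smul_def, smul_eq_mul, Int.negOnePow_def]
      simp
end Groth.Agent.S4466
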