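import Groth.Statements.S9386
import Groth.Agent.L19.OmegaSh.Along

set_option autoImplicit false
set_option backward.isDefEq.respectTransparency.types false
set_option backward.isDefEq.respectTransparency false
set_option linter.style.haveILetI false
universe u
open OmegaSh

namespace Groth.Agent.S9386

open AlgebraicGeometry CategoryTheory in
/-- For a cartesian square X' = X ×_S S' with projection g' : X' → X, the canonical map g'^*Ω_{X/S} →
Ω_{X'/S'} is an isomorphism (receptacle form: Ω_{X/S}, Ω_{X'/S'} are any modules carrying universal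
derivations and the map is pinned by its values on pulled-back differentials). -/
theorem result {X S X' S' : Scheme.{u}} (f : X ⟶ S) (g : S' ⟶ S) (g' : X' ⟶ X) (f' : X' ⟶ S')
    (hsq : IsPullback g' f' f g) (Ω : X.Modules) (d : OmegaSh.Der f Ω) (hd : OmegaSh.IsUniversal d)
    (Ω' : X'.Modules) (d' : OmegaSh.Der f' Ω') (hd' : OmegaSh.IsUniversal d')
    (c : (Scheme.Modules.pullback g').obj Ω ⟶ Ω') (hc : OmegaSh.IsDiffCompat g' d d' c) : IsIso c := by
  refine Groth.L19.OmegaSh.isIso_of_pushDerSq_bijective g' g hsq.w.symm hd hd' hc fun G => ?_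
  let P : X'.affineOpens → Prop := fun U => Groth.L19.OmegaSh.Good f' U ∧
    ∃ W : X.affineOpens, Groth.L19.OmegaSh.Good f W ∧ U.1 ≤ g' ⁻¹ᵁ W.1
  have hP : ∀ (x : X') (O : X'.Opens), x ∈ O → ∃ U, P U ∧ x ∈ U.1 ∧ U.1 ≤ O := by
    intro x O hx
    obtain ⟨W, hW, hxW, -⟩ := Groth.L19.OmegaSh.exists_good (f := f) (g' x) ⊤ trivial
    obtain ⟨U, hU, hxU, hUle⟩ :=
      Groth.L19.OmegaSh.exists_good (f := f') x (O ⊓ g' ⁻¹ᵁ W.1) ⟨hx, hxW⟩
    exact ⟨U, ⟨hU, W, hW, hUle.trans inf_le_right⟩, hxU, hUle.trans inf_le_left⟩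
  constructor
  · intro D₁ D₂ h12
    refine Groth.L19.OmegaSh.der_ext_points D₁ D₂ P hP fun U hU => hsq.hom_ext ?_ ?_
    · obtain ⟨W, -, e⟩ := hU.2
      have h12' : Groth.L19.OmegaSh.pushDerSq g' g hsq.w.symm D₁ =
          Groth.L19.OmegaSh.pushDerSq g' g hsq.w.symm D₂ := h12
      rw [Groth.L19.OmegaSh.dPt_comp hsq.w.symm D₁ U W e, Groth.L19.OmegaSh.dPt_comp hsq.w.symm D₂ U W e, h12']
    · rw [Groth.L19.OmegaSh.dPt_base D₁ hU.1, Groth.L19.OmegaSh.dPt_base D₂ hU.1]
  · intro E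
    have hc : ∀ (U : X'.affineOpens) (p : P U),
        Groth.L19.OmegaSh.ePt E U p.2.choose p.2.choose_spec.2 ≫ f =
          ((Spec.map (Groth.L19.OmegaSh.inlL G U.1) ≫ U.2.fromSpec) ≫ f') ≫ g := fun U p => by
      rw [Groth.L19.OmegaSh.ePt_base E U _ _ p.2.choose_spec.1, Category.assoc, Category.assoc, Category.assoc,
        hsq.w]
    let F : Groth.L19.OmegaSh.PointFam f' G :=
      { P := P
        exists_P := hP
        r := fun U p => hsq.lift _ _ (hc U p)
        prL_r := fun U p => hsq.hom_ext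
          (by rw [Category.assoc, hsq.lift_fst, Groth.L19.OmegaSh.prL_ePt])
          (by rw [Category.assoc, hsq.lift_snd, ← Category.assoc, ← Spec.map_comp_assoc,
            Groth.L19.OmegaSh.inlL_prL, Spec.map_id, Category.id_comp])
        resL_r := fun U U' p p' h => hsq.hom_ext
          (by rw [Category.assoc, hsq.lift_fst, hsq.lift_fst, Groth.L19.OmegaSh.resL_ePt]
              exact Groth.L19.OmegaSh.ePt_indep E U' _ _ _ _)
          (by rw [Category.assoc, hsq.lift_snd, hsq.lift_snd]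
              simp only [Category.assoc]
              rw [← Spec.map_comp_assoc, Groth.L19.OmegaSh.inlL_resL, Spec.map_comp_assoc,
                IsAffineOpen.map_fromSpec_assoc])
        r_base := fun U p => hsq.lift_snd _ _ _ }
    refine ⟨F.der, ?_⟩
    refine PresheafOfModules.Derivation.ext ?_
    ext Z a
    refine Groth.L19.OmegaSh.eq_of_basis (G := G) P hP (Z := g' ⁻¹ᵁ Z.unop) _ _ fun U p hU => ?_
    refine Eq.trans ?_ (Groth.L19.OmegaSh.μ_ePt E U p.2.choose p.2.choose_spec.2 Z.unop hU a)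
    refine (F.val_spec _ (g'.app Z.unop a) U p hU).trans ?_
    rw [Scheme.Hom.app_eq_appLE, ← Groth.L19.OmegaSh.μ_comp G (F.r U p) g'
      (Groth.L19.OmegaSh.top_le_of_prL_id _ (F.prL_r U p) hU) le_rfl
      (show ⊤ ≤ (F.r U p ≫ g') ⁻¹ᵁ Z.unop from Groth.L19.OmegaSh.top_le_of_prL_id _ (F.prL_r U p) hU) a]
    exact congrArg (Groth.L19.OmegaSh.snd' G)
      (congr($(Groth.L19.OmegaSh.τ_congr G (hsq.lift_fst _ _ (hc U p)) Z.unop _ _) a))

end Groth.Agent.S9386
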