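import Groth.Statements.S12423
import Groth.Agent.L05.ConormalRank.Criterion
-- import your own Groth.Agent.* helpers here

set_option autoImplicit false
universe u
open CategoryTheory CategoryTheory.Limits AlgebraicGeometry
open NonsingVar

namespace Groth.Agent.S12423

/-- Let k be an algebraically closed field, X a nonsingular variety over k (integral, separated and of
finite type over k, all local rings regular) of dimension n, i : Y → X an irreducible closed
subscheme of dimension q with ideal sheaf I, (Ω_X, d_X) and (Ω_Y, d_Y) sheaves of differentials of X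
and Y over k (universal derivations), and φ : I/I² → i^*Ω_X the canonical map from the conormal
sheaf (class of a local section s of I ↦ pullback of d_X s). Then Y is nonsingular if and only if
(1) Ω_Y is locally free and (2) φ is a monomorphism (the conormal sequence 0 → I/I² → i^*Ω_X → Ω_Y →
0 is exact on the left too). Moreover in that case I/I² is locally free of rank n − q, the
codimension of Y. (The clause that I is then locally generated by n − q sections is not restated.) -/
theorem result (k : Type u) [Field k]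
    [IsAlgClosed k] (n q : ℕ)
    (X : Scheme.{u}) [X.Over (Spec (CommRingCat.of k))] [IsIntegral X] [IsSeparated (X ↘ (Spec (CommRingCat.of k)))]
    [LocallyOfFiniteType (X ↘ (Spec (CommRingCat.of k)))] [QuasiCompact (X ↘ (Spec (CommRingCat.of k)))]
    (hreg : ∀ x : ↥X, IsRegularLocalRing ↑(X.presheaf.stalk x))
    (hn : topologicalKrullDim ↥X = (n : WithBot ℕ∞))
    (Y : Scheme.{u}) (i : Y ⟶ X) [IsClosedImmersion i] [IrreducibleSpace ↥Y]
    (hq : topologicalKrullDim ↥Y = (q : WithBot ℕ∞))
    (ΩX : X.Modules) (dX : OmegaSh.Der (X ↘ (Spec (CommRingCat.of k))) ΩX) (hX : OmegaSh.IsUniversal dX)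
    (ΩY : Y.Modules) (dY : OmegaSh.Der (i ≫ (X ↘ (Spec (CommRingCat.of k)))) ΩY) (hY : OmegaSh.IsUniversal dY)
    (φ : Omega.conormal i ⟶ (Scheme.Modules.pullback i).obj ΩX) (hφ : OmegaSh.IsConormalDiff i dX φ) :
    ((∀ y : ↥Y, IsRegularLocalRing ↑(Y.presheaf.stalk y)) ↔ (FlatMod.IsFinLocFree ΩY ∧ Mono φ)) ∧
      ((∀ y : ↥Y, IsRegularLocalRing ↑(Y.presheaf.stalk y)) →
        FlatMod.IsFinLocFreeOfRank (n - q) (Omega.conormal i)) := by
  let f := X ↘ (Spec (CommRingCat.of k))
  haveI : LocallyOfFinitePresentation f := Groth.L05.SmoothCrit.lfp_of_noetherian f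
  haveI : LocallyOfFinitePresentation (i ≫ f) := Groth.L05.SmoothCrit.lfp_of_noetherian (i ≫ f)
  haveI : Smooth f := Scheme.Hom.smoothLocus_eq_top_iff.mp (top_le_iff.mp fun x _ =>
    Groth.L05.OmegaRank.mem_smoothLocus_of_regular_stalk f x (hreg x))
  have hsm : (∀ y : ↥Y, IsRegularLocalRing ↑(Y.presheaf.stalk y)) → Smooth (i ≫ f) := fun h =>
    Scheme.Hom.smoothLocus_eq_top_iff.mp (top_le_iff.mp fun y _ =>
      Groth.L05.OmegaRank.mem_smoothLocus_of_regular_stalk (i ≫ f) y (h y))
  refine ⟨⟨fun h => ?_, fun h y => ?_⟩, fun h y => ?_⟩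
  · haveI := hsm h
    refine ⟨fun y => ?_, Groth.L19.OmegaSh.mono_conormalDiff_of_formallySmooth
      (Groth.L25.Cocycle.isFormallySmoothHom_of_smooth (i ≫ f)) hX hφ⟩
    obtain ⟨U, hU, hi⟩ := (Groth.L05.OmegaRank.finLocFreeOfRank_iff_regular (i ≫ f) hq hY).mpr h y
    exact ⟨U, q, hU, hi⟩
  · haveI := h.2
    haveI := Groth.L05.ConormalRank.smooth_of_locFree_of_mono dX hY hφ h.1
    exact Groth.L21.Smooth.regular_stalk (i ≫ f) y
  · haveI := hsm h
    obtain ⟨U, m, hyU, hi, hdim⟩ := Groth.L05.ConormalRank.exists_free_conormal f i y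
    rw [Groth.L23.SpDim.fibreDimAt_eq_localDim_of_subsingleton, Groth.L23.SpDim.fibreDimAt_eq_localDim_of_subsingleton,
      Groth.L05.OmegaRank.localDim_eq_dim f, Groth.L05.OmegaRank.localDim_eq_dim (i ≫ f), hn, hq] at hdim
    obtain rfl : n - q = m := by
      have : n = q + m := by exact_mod_cast hdim
      omega
    exact ⟨U, hyU, hi⟩

end Groth.Agent.S12423
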