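import Groth.Statements.S7638
import Groth.Agent.L22.CurveDeg.Det.Main
import Groth.Agent.L22.CurveDeg.Det.ExtPow

set_option autoImplicit false
universe u
open CategoryTheory CategoryTheory.Limits AlgebraicGeometry
open Variety

namespace Groth.Agent.S7638

open Groth.L18.Frame (pull IsFrame)
open Groth.L22.CurveDeg Groth.L22.CurveDeg.Det

theorem one_le_dim {Z : Scheme.{u}} {y : Z} (hy : ¬ IsClosed ({y} : Set Z)) : 1 ≤ topologicalKrullDim Z := by
  obtain ⟨z, hyz, hne⟩ : ∃ z, y ⤳ z ∧ y ≠ z := by
    by_contra hh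
    push Not at hh
    exact hy (isClosed_of_closure_subset fun z hz => (hh z (specializes_iff_mem_closure.2 hz)).symm)
  let c : Z → TopologicalSpace.IrreducibleCloseds Z :=
    fun a => ⟨closure {a}, isIrreducible_singleton.closure, isClosed_closure⟩
  have hlt : c z < c y := by
    refine lt_of_le_of_ne (specializes_iff_closure_subset.1 hyz : closure {z} ⊆ _) fun e => ?_
    have hs' : z ⤳ y := specializes_iff_mem_closure.2 (by
      rw [show closure ({z} : Set Z) = closure {y} from congrArg TopologicalSpace.IrreducibleCloseds.carrier e]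
      exact subset_closure rfl)
    exact hne (hyz.antisymm hs').eq
  have h1 := Order.LTSeries.length_le_krullDim ((RelSeries.singleton _ (c z)).snoc (c y) hlt)
  change 1 ≤ Order.krullDim (TopologicalSpace.IrreducibleCloseds Z)
  simp only [RelSeries.snoc_length, RelSeries.singleton_length] at h1
  exact_mod_cast h1

/-- The integral case, for the pullback to a curve. -/
theorem deg_pullback (k : Type u) [Field k] {X Z : Scheme.{u}} [Z.Over (Spec (CommRingCat.of k))]
    [IsProper (Z ↘ (Spec (CommRingCat.of k)))] [IsIntegral Z] (f : Z ⟶ X) (hd : topologicalKrullDim Z = 1)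
    {n : ℕ} {E L : X.Modules} (hE : FlatMod.IsFinLocFreeOfRank n E) (hL : ExtPow.IsExtPow n E L) :
    Curv2.deg k Z ((Scheme.Modules.pullback f).obj E) n = Curv2.deg k Z ((Scheme.Modules.pullback f).obj L) 1 := by
  haveI := Groth.L21.RR.isNoetherian_of_proper (X := Z) k
  obtain ⟨φ, hφ⟩ := hL
  have hE' : FlatMod.IsFinLocFreeOfRank n ((Scheme.Modules.pullback f).obj E) := fun x => by
    obtain ⟨U, hx, ⟨i⟩⟩ := hE (f x)
    exact ⟨f ⁻¹ᵁ U, hx, Groth.L29.LocFree.restrict_pullback f i⟩
  obtain ⟨U, s, hU, -, hs⟩ := exists_affine_basis hE (f (genericPoint Z)) ⊤ trivial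
  refine deg_eq_deg_of_det k hd hE' (Groth.L18.Ample.isInvertible_pullback f (isInvertible_of_extPow φ hφ hE))
    (f ⁻¹ᵁ U.1) hU (fun i => pull f E U.1 (s i)) (pull f L U.1 (wedge φ U s)) ?_ fun x => ?_
  · intro h0
    have hb := Groth.L21.RR.bijective_germ_frame ((isFrame_wedge φ hφ U s hs).pullback f) (x := genericPoint Z) hU
    exact one_ne_zero (α := Z.presheaf.stalk (genericPoint Z)) (hb.1 (by simp only [h0, smul_zero]))
  · obtain ⟨V, e, hV, -, he⟩ := exists_affine_basis hE (f x) ⊤ trivial
    exact ⟨f ⁻¹ᵁ V.1, fun i => pull f E V.1 (e i), pull f L V.1 (wedge φ V e), hV,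
      isBasisS_pullback f he, (isFrame_wedge φ hφ V e he).pullback f,
      fun hηV S hS => det_pullback φ hφ f U V s e he (genericPoint Z) hU hηV S hS⟩

/-- Let X be proper of dimension at most one over a field k, let E be finite locally free of rank n and
let L be an n-th exterior power of E (its determinant). Then deg(E) = deg(L), the latter computed as
a module of rank one. -/
theorem result (k : Type u) [Field k] (X : Scheme.{u}) [X.Over (Spec (CommRingCat.of k))] [IsProper (X ↘ (Spec (CommRingCat.of k)))]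
    (hdim : topologicalKrullDim X ≤ 1) (n : ℕ) (E : X.Modules) (hE : FlatMod.IsFinLocFreeOfRank n E)
    (L : X.Modules) (hL : ExtPow.IsExtPow n E L) :
    Curv2.deg k X E n = Curv2.deg k X L 1 := by
  classical
  haveI := Groth.L21.RR.isNoetherian_of_proper (X := X) k
  haveI : X.IsSeparated := ⟨by rw [← terminal.comp_from (X ↘ Spec (CommRingCat.of k))]; infer_instance⟩
  have hL1 : FlatMod.IsFinLocFreeOfRank 1 L := by
    obtain ⟨φ, hφ⟩ := hL
    exact isFinLocFreeOfRank_one_of_isInvertible (isInvertible_of_extPow φ hφ hE)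
  have hG : ∀ y : X, ∃ G : X.Modules, Coh.IsCoh G ∧ CohB1.support G ⊆ closure {y} ∧
      Groth.L16.CohSupport.len y G = 1 ∧ (¬ IsClosed ({y} : Set X) → phi k E n G = phi k L 1 G) := by
    intro y
    obtain ⟨Z, i, hi, hZ, hgen, hrange⟩ := Groth.L16.CohClosedPush.exists_integral y
    haveI : IsLocallyNoetherian Z := LocallyOfFiniteType.isLocallyNoetherian i
    have hO := Groth.L16.CohClosedPush.isCoh_structure (X := Z)
    refine ⟨_, Groth.L16.CohClosedPush.isCoh_push i hO,
      (Groth.L16.CohClosedPush.support_push_subset i _).trans hrange.le,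
      hgen ▸ Groth.L16.CohClosedPush.len_push_structure i, fun hy => ?_⟩
    letI : Z.Over (Spec (CommRingCat.of k)) := ⟨i ≫ (X ↘ (Spec (CommRingCat.of k)))⟩
    haveI : IsProper (Z ↘ (Spec (CommRingCat.of k))) :=
      inferInstanceAs (IsProper (i ≫ (X ↘ (Spec (CommRingCat.of k)))))
    have hd : topologicalKrullDim Z = 1 := by
      refine le_antisymm (i.isClosedEmbedding.isInducing.topologicalKrullDim_le.trans hdim)
        (one_le_dim (y := genericPoint Z) fun hc => hy ?_)
      have := i.isClosedEmbedding.isClosedMap _ hc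
      rwa [Set.image_singleton, hgen] at this
    have hrfl : i ≫ (X ↘ Spec (CommRingCat.of k)) = Z ↘ Spec (CommRingCat.of k) := rfl
    exact ((phi_push k i hrfl hE _ hO.1).trans (phi_structure k _ n)).trans
      ((deg_pullback k i hd hE hL).trans ((phi_push k i hrfl hL1 _ hO.1).trans (phi_structure k _ 1)).symm)
  choose G hG1 hG2 hG3 hG4 using hG
  let S := (finite_nonclosed (X := X) hdim).toFinset
  have hS : ∀ x, x ∈ S ↔ ¬ IsClosed ({x} : Set X) := fun x => Set.Finite.mem_toFinset _
  have hO := Groth.L16.CohClosedPush.isCoh_structure (X := X)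
  rw [← phi_structure k E n, ← phi_structure k L 1,
    phi_eq_sum k hdim hE S hS G (fun y _ => ⟨hG1 y, hG2 y, hG3 y⟩) hO,
    phi_eq_sum k hdim hL1 S hS G (fun y _ => ⟨hG1 y, hG2 y, hG3 y⟩) hO]
  exact Finset.sum_congr rfl fun y hy => by rw [hG4 y ((hS y).1 hy)]

end Groth.Agent.S7638
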