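
import Groth.Statements.S1617
import Groth.Agent.L22.SchemeDim

set_option autoImplicit false
universe u
open CategoryTheory CategoryTheory.Limits AlgebraicGeometry
open Variety

namespace Groth.Agent.S1617

/-- Let X be locally of finite type over a field k and x a closed point. Then the local dimension of X
at x (infimum of the dimensions of open neighbourhoods) equals the Krull dimension of the local ring
at x. -/
theorem result (k : Type u) [Field k] (X : Scheme.{u}) [X.Over (Spec (CommRingCat.of k))] [LocallyOfFiniteType (X ↘ (Spec (CommRingCat.of k)))] (x : X) (hx : IsClosed ({x} : Set X)) :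
    FlatMor.localDim X x = ringKrullDim (X.presheaf.stalk x) := by
  letI := Curv2.resAlgebra k X x
  obtain ⟨a, b, ha, hb, h⟩ := Groth.L22.SchemeDim.exists_localDim k X x
  obtain ⟨n, hn, htr⟩ := Groth.L22.SchemeDim.exists_dim_closure_eq_trdeg k X x
  rw [hx.closure_eq] at hn
  have h0 : topologicalKrullDim ({x} : Set X) = 0 := by
    haveI : DiscreteTopology ({x} : Set X) := inferInstance
    refine le_antisymm (topologicalKrullDim_zero_of_discreteTopology _) ?_
    haveI : Nonempty ({x} : Set X) := ⟨⟨x, rfl⟩⟩
    exact Groth.L06.Dim.nonneg
  have hn0 : n = 0 := by exact_mod_cast hn.symm.trans h0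
  have ha0 : a = 0 := by
    have : a = n := by exact_mod_cast ha.symm.trans htr
    omega
  rw [h, hb, ha0]
  simp

end Groth.Agent.S1617
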