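import Groth.Statements.S9353
import Groth.Agent.L20.ModPullback

set_option autoImplicit false
universe u
open FlatMod

set_option linter.style.haveILetI false

namespace Groth.Agent.S9353

set_option backward.isDefEq.respectTransparency false in
open AlgebraicGeometry CategoryTheory Opposite in
/-- Let f : X → S be a morphism of schemes and let F be an O_X-module that is quasi-coherent. Flatness
of F over S is equivalent to the following: for all affine opens U ⊆ X and V ⊆ S with U ⊆ f⁻¹V the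
module F(U) is flat over O_S(V). -/
theorem result {X S : Scheme.{u}} (f : X ⟶ S) (F : X.Modules) (hF : Coh.IsQCoh F) :
    FlatMod.IsFlatOver f F ↔
      ∀ (U : X.Opens) (V : S.Opens) (hUV : U ≤ f ⁻¹ᵁ V), IsAffineOpen U → IsAffineOpen V →
        @Module.Flat Γ(S, V) (F.val.obj (op U)) _ _ (Module.compHom (F.val.obj (op U)) (f.appLE V U hUV).hom) := by
  haveI := hF
  constructor
  · intro h U V hUV hU hV
    letI := (f.appLE V U hUV).hom.toAlgebra
    letI := Module.compHom Γ(F, U) (f.appLE V U hUV).hom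
    haveI : IsScalarTower Γ(S, V) Γ(X, U) Γ(F, U) := IsScalarTower.of_algebraMap_smul fun _ _ => rfl
    change Module.Flat Γ(S, V) Γ(F, U)
    refine Module.flat_of_isLocalized_maximal Γ(X, U) Γ(F, U)
      (fun P _ => LocalizedModule P.primeCompl Γ(F, U)) (fun P _ => LocalizedModule.mkLinearMap _ _) ?_
    intro P hP
    obtain ⟨q, hq⟩ : ∃ q : Spec Γ(X, U), q.asIdeal = P := ⟨⟨P, inferInstance⟩, rfl⟩
    have hx : hU.fromSpec q ∈ U := by
      have : hU.fromSpec q ∈ Set.range hU.fromSpec := ⟨q, rfl⟩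
      rwa [hU.range_fromSpec] at this
    have hpr : hU.primeIdealOf ⟨hU.fromSpec q, hx⟩ = q :=
      hU.fromSpec.isOpenEmbedding.injective (hU.fromSpec_primeIdealOf ⟨_, hx⟩)
    have h1 := (Groth.L20.ModStalk.isFlatOverAt_iff f F hV hU hUV hx).mp (h _)
    have h2 : (hU.primeIdealOf ⟨hU.fromSpec q, hx⟩).asIdeal = P := by rw [hpr, hq]
    subst h2
    exact h1
  · intro h x
    obtain ⟨_, ⟨V, hV, rfl⟩, hxV, -⟩ :=
      S.isBasis_affineOpens.exists_subset_of_mem_open (Set.mem_univ (f x)) isOpen_univ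
    obtain ⟨_, ⟨U, hU, rfl⟩, hxU, hUV⟩ :=
      X.isBasis_affineOpens.exists_subset_of_mem_open (a := x) (show x ∈ f ⁻¹ᵁ V from hxV) (f ⁻¹ᵁ V).2
    have hUV' : U ≤ f ⁻¹ᵁ V := hUV
    have h1 := h U V hUV' hU hV
    rw [Groth.L20.ModStalk.isFlatOverAt_iff f F hV hU hUV' hxU]
    letI := (f.appLE V U hUV').hom.toAlgebra
    letI := Module.compHom Γ(F, U) (f.appLE V U hUV').hom
    haveI : IsScalarTower Γ(S, V) Γ(X, U) Γ(F, U) := IsScalarTower.of_algebraMap_smul fun _ _ => rfl
    haveI : Module.Flat Γ(S, V) Γ(F, U) := h1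
    haveI : IsLocalization.AtPrime (Localization.AtPrime (hU.primeIdealOf ⟨x, hxU⟩).asIdeal)
      (hU.primeIdealOf ⟨x, hxU⟩).asIdeal := inferInstance
    haveI : Module.Flat Γ(X, U) (Localization (hU.primeIdealOf ⟨x, hxU⟩).asIdeal.primeCompl) :=
      IsLocalization.flat _ (hU.primeIdealOf ⟨x, hxU⟩).asIdeal.primeCompl
    haveI := Groth.L20.ModStalk.flat_tensorProduct (R := Γ(S, V)) (S := Γ(X, U))
      (T := Localization (hU.primeIdealOf ⟨x, hxU⟩).asIdeal.primeCompl) (M := Γ(F, U))
    exact Module.Flat.of_linearEquiv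
      ((LocalizedModule.equivTensorProduct (hU.primeIdealOf ⟨x, hxU⟩).asIdeal.primeCompl Γ(F, U)).restrictScalars Γ(S, V))

end Groth.Agent.S9353
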