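import Groth.Statements.S9349
import Groth.Agent.L20.PushStalk
import Groth.Agent.S9353

set_option autoImplicit false
universe u
open FlatMod

set_option linter.style.haveILetI false
set_option backward.isDefEq.respectTransparency false

namespace Groth.Agent.S9349
open AlgebraicGeometry CategoryTheory

/-- The structure map of a composite on the preimage of an open. -/
theorem app_appLE {X Y S : Scheme.{u}} (f : X ⟶ Y) (q : Y ⟶ S) {W : S.Opens} {V : Y.Opens}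
    (hVW : V ≤ q ⁻¹ᵁ W) (r : Γ(S, W)) :
    ((f ≫ q).appLE W (f ⁻¹ᵁ V) (f.preimage_mono hVW)).hom r = (f.app V).hom ((q.appLE W V hVW).hom r) := by
  rw [Scheme.Hom.app_eq_appLE, ← CommRingCat.comp_apply, Scheme.Hom.appLE_comp_appLE]

/-- Sections of a flat quasi-coherent module on the preimage of an affine open are flat. -/
theorem flat_sections_push {X Y S : Scheme.{u}} (f : X ⟶ Y) [IsAffineHom f] (q : Y ⟶ S)
    (F : X.Modules) [Coh.IsQCoh F] (h : FlatMod.IsFlatOver (f ≫ q) F) {W : S.Opens} (hW : IsAffineOpen W)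
    {V : Y.Opens} (hV : IsAffineOpen V) (hVW : V ≤ q ⁻¹ᵁ W) :
    @Module.Flat Γ(S, W) Γ((Coh.push f).obj F, V) _ _ (Module.compHom _ (q.appLE W V hVW).hom) := by
  have hU : IsAffineOpen (f ⁻¹ᵁ V) := hV.preimage f
  have hUW : f ⁻¹ᵁ V ≤ (f ≫ q) ⁻¹ᵁ W := f.preimage_mono hVW
  have h1 := ((Groth.Agent.S9353.result (f ≫ q) F inferInstance).mp h) (f ⁻¹ᵁ V) W hUW hU hW
  let inst₁ : Module Γ(S, W) Γ(F, f ⁻¹ᵁ V) := Module.compHom _ ((f ≫ q).appLE W (f ⁻¹ᵁ V) hUW).hom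
  let inst₂ : Module Γ(S, W) Γ((Coh.push f).obj F, V) := Module.compHom _ (q.appLE W V hVW).hom
  let e : Γ(F, f ⁻¹ᵁ V) ≃ₗ[Γ(S, W)] Γ((Coh.push f).obj F, V) :=
    { AddEquiv.refl _ with
      map_smul' := fun r m => congrArg (· • (show Γ(F, f ⁻¹ᵁ V) from m)) (app_appLE f q hVW r) }
  haveI : @Module.Flat Γ(S, W) Γ(F, f ⁻¹ᵁ V) _ _ inst₁ := h1
  exact Module.Flat.of_linearEquiv e.symm

/-- Flatness of the pushforward gives flatness at the points over an affine open. -/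
theorem flatAt_of_push {X Y S : Scheme.{u}} (f : X ⟶ Y) [IsAffineHom f] (q : Y ⟶ S)
    (F : X.Modules) [Coh.IsQCoh F] (h : FlatMod.IsFlatOver q ((Coh.push f).obj F)) {W : S.Opens} (hW : IsAffineOpen W)
    {V : Y.Opens} (hV : IsAffineOpen V) (hVW : V ≤ q ⁻¹ᵁ W) (x : X) (hx : f x ∈ V) :
    FlatMod.IsFlatOverAt (f ≫ q) F x := by
  have hU : IsAffineOpen (f ⁻¹ᵁ V) := hV.preimage f
  have hUW : f ⁻¹ᵁ V ≤ (f ≫ q) ⁻¹ᵁ W := f.preimage_mono hVW
  set P := (Coh.push f).obj F with hP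
  letI := (q.appLE W V hVW).hom.toAlgebra
  letI := Module.compHom Γ(P, V) (q.appLE W V hVW).hom
  haveI : IsScalarTower Γ(S, W) Γ(Y, V) Γ(P, V) := IsScalarTower.of_algebraMap_smul fun _ _ => rfl
  have hfl : Module.Flat Γ(S, W) Γ(P, V) := by
    refine Module.flat_of_isLocalized_maximal Γ(Y, V) Γ(P, V)
      (fun p _ => LocalizedModule p.primeCompl Γ(P, V)) (fun p _ => LocalizedModule.mkLinearMap _ _) ?_
    intro p hp
    obtain ⟨z, hz⟩ : ∃ z : Spec Γ(Y, V), z.asIdeal = p := ⟨⟨p, inferInstance⟩, rfl⟩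
    have hzV : hV.fromSpec z ∈ V := by
      have : hV.fromSpec z ∈ Set.range hV.fromSpec := ⟨z, rfl⟩
      rwa [hV.range_fromSpec] at this
    have hpr : hV.primeIdealOf ⟨hV.fromSpec z, hzV⟩ = z :=
      hV.fromSpec.isOpenEmbedding.injective (hV.fromSpec_primeIdealOf ⟨_, hzV⟩)
    have h2 : (hV.primeIdealOf ⟨hV.fromSpec z, hzV⟩).asIdeal = p := by rw [hpr, hz]
    subst h2
    have h1 := (Groth.L20.ModStalk.isFlatOverAt_iff_sections q P hW hVW hzV).mp (h _)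
    letI := Groth.L20.ModStalk.stalkModule P hzV
    haveI := Groth.L20.ModStalk.isLocalizedModule_germ_push f F hV hU hzV
    letI : Module Γ(S, W) (P.presheaf.stalk (hV.fromSpec z)) :=
      Module.compHom _ ((Y.presheaf.germ V _ hzV).hom.comp (q.appLE W V hVW).hom)
    haveI : IsScalarTower Γ(S, W) Γ(Y, V) (P.presheaf.stalk (hV.fromSpec z)) :=
      IsScalarTower.of_algebraMap_smul fun _ _ => rfl
    haveI := h1
    exact Module.Flat.of_linearEquiv ((IsLocalizedModule.linearEquiv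
      (hV.primeIdealOf ⟨hV.fromSpec z, hzV⟩).asIdeal.primeCompl
      (LocalizedModule.mkLinearMap _ _) (Groth.L20.ModStalk.germₗ P hzV)).restrictScalars Γ(S, W))
  rw [Groth.L20.ModStalk.isFlatOverAt_iff (f ≫ q) F hW hU hUW hx]
  letI := ((f ≫ q).appLE W (f ⁻¹ᵁ V) hUW).hom.toAlgebra
  letI := Module.compHom Γ(F, f ⁻¹ᵁ V) ((f ≫ q).appLE W (f ⁻¹ᵁ V) hUW).hom
  haveI : IsScalarTower Γ(S, W) Γ(X, f ⁻¹ᵁ V) Γ(F, f ⁻¹ᵁ V) := IsScalarTower.of_algebraMap_smul fun _ _ => rfl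
  let e : Γ(F, f ⁻¹ᵁ V) ≃ₗ[Γ(S, W)] Γ(P, V) :=
    { AddEquiv.refl _ with
      map_smul' := fun r m => congrArg (· • (show Γ(F, f ⁻¹ᵁ V) from m)) (app_appLE f q hVW r) }
  haveI : Module.Flat Γ(S, W) Γ(F, f ⁻¹ᵁ V) := Module.Flat.of_linearEquiv e
  haveI : Module.Flat Γ(X, f ⁻¹ᵁ V) (Localization (hU.primeIdealOf ⟨x, hx⟩).asIdeal.primeCompl) :=
    IsLocalization.flat _ (hU.primeIdealOf ⟨x, hx⟩).asIdeal.primeCompl
  haveI := Groth.L20.ModStalk.flat_tensorProduct (R := Γ(S, W)) (S := Γ(X, f ⁻¹ᵁ V))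
    (T := Localization (hU.primeIdealOf ⟨x, hx⟩).asIdeal.primeCompl) (M := Γ(F, f ⁻¹ᵁ V))
  exact Module.Flat.of_linearEquiv
    ((LocalizedModule.equivTensorProduct (hU.primeIdealOf ⟨x, hx⟩).asIdeal.primeCompl Γ(F, f ⁻¹ᵁ V)).restrictScalars Γ(S, W))


open AlgebraicGeometry CategoryTheory in
/-- Let f : X → Y be an affine morphism of S-schemes, with q : Y → S, and F a quasi-coherent O_X-module.
Flatness of F over S (along f ≫ q) is equivalent to flatness of f_*F over S (along q). -/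
theorem result {X Y S : Scheme.{u}} (f : X ⟶ Y) [IsAffineHom f] (q : Y ⟶ S)
    (F : X.Modules) (hF : Coh.IsQCoh F) :
    FlatMod.IsFlatOver (f ≫ q) F ↔ FlatMod.IsFlatOver q ((Coh.push f).obj F) := by
  haveI := hF
  constructor
  · intro h y
    obtain ⟨_, ⟨W, hW, rfl⟩, hyW, -⟩ :=
      S.isBasis_affineOpens.exists_subset_of_mem_open (Set.mem_univ (q y)) isOpen_univ
    obtain ⟨_, ⟨V, hV, rfl⟩, hyV, hVW⟩ :=
      Y.isBasis_affineOpens.exists_subset_of_mem_open (a := y) (show y ∈ q ⁻¹ᵁ W from hyW) (q ⁻¹ᵁ W).2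
    have hVW' : V ≤ q ⁻¹ᵁ W := hVW
    have hU : IsAffineOpen (f ⁻¹ᵁ V) := hV.preimage f
    set P := (Coh.push f).obj F with hP
    letI := (q.appLE W V hVW').hom.toAlgebra
    letI := Module.compHom Γ(P, V) (q.appLE W V hVW').hom
    haveI : IsScalarTower Γ(S, W) Γ(Y, V) Γ(P, V) := IsScalarTower.of_algebraMap_smul fun _ _ => rfl
    have hfl : Module.Flat Γ(S, W) Γ(P, V) := flat_sections_push f q F h hW hV hVW'
    letI := Groth.L20.ModStalk.stalkModule P hyV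
    haveI := Groth.L20.ModStalk.isLocalizedModule_germ_push f F hV hU hyV
    rw [Groth.L20.ModStalk.isFlatOverAt_iff_sections q P hW hVW' hyV]
    letI : Module Γ(S, W) (P.presheaf.stalk y) :=
      Module.compHom _ ((Y.presheaf.germ V y hyV).hom.comp (q.appLE W V hVW').hom)
    haveI : IsScalarTower Γ(S, W) Γ(Y, V) (P.presheaf.stalk y) := IsScalarTower.of_algebraMap_smul fun _ _ => rfl
    haveI : Module.Flat Γ(Y, V) (Localization (hV.primeIdealOf ⟨y, hyV⟩).asIdeal.primeCompl) :=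
      IsLocalization.flat _ (hV.primeIdealOf ⟨y, hyV⟩).asIdeal.primeCompl
    haveI := Groth.L20.ModStalk.flat_tensorProduct (R := Γ(S, W)) (S := Γ(Y, V))
      (T := Localization (hV.primeIdealOf ⟨y, hyV⟩).asIdeal.primeCompl) (M := Γ(P, V))
    exact Module.Flat.of_linearEquiv
      (((IsLocalizedModule.linearEquiv (hV.primeIdealOf ⟨y, hyV⟩).asIdeal.primeCompl
        (Groth.L20.ModStalk.germₗ P hyV) (LocalizedModule.mkLinearMap _ _)).trans
        ((LocalizedModule.equivTensorProduct (hV.primeIdealOf ⟨y, hyV⟩).asIdeal.primeCompl Γ(P, V)).restrictScalars Γ(Y, V))).restrictScalars Γ(S, W))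
  · intro h x
    obtain ⟨_, ⟨W, hW, rfl⟩, hyW, -⟩ :=
      S.isBasis_affineOpens.exists_subset_of_mem_open (Set.mem_univ (q (f x))) isOpen_univ
    obtain ⟨_, ⟨V, hV, rfl⟩, hyV, hVW⟩ :=
      Y.isBasis_affineOpens.exists_subset_of_mem_open (a := f x) (show f x ∈ q ⁻¹ᵁ W from hyW) (q ⁻¹ᵁ W).2
    exact flatAt_of_push f q F h hW hV hVW x hyV

end Groth.Agent.S9349
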