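import Groth.Agent.L18.CatenarySpace
import Groth.Agent.L03.Catenary
import Groth.Statements.S0552
-- import your own Groth.Agent.* helpers here

set_option autoImplicit false
universe u
open CAlg

namespace Groth.Agent.S0552

/-- A ring is catenary exactly when its localization at every maximal ideal is catenary. -/
theorem result (R : Type u) [CommRing R] :
    CAlg.IsCatenary R ↔ ∀ (m : Ideal R) [m.IsMaximal], CAlg.IsCatenary (Localization.AtPrime m) := by
  refine ⟨fun h m _ => Groth.L03.Catenary.isCatenary_localization m.primeCompl _ h, fun h => ?_⟩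
  rw [Groth.L18.Cat.isCatenary_iff_space]
  refine (Groth.L18.Cat.isCatenarySpace_iff_stalks (AlgebraicGeometry.Spec (CommRingCat.of R))).mpr fun x => ?_
  obtain ⟨m, hm, hle⟩ := Ideal.exists_le_maximal x.asIdeal x.isPrime.ne_top
  have hsub : m.primeCompl ≤ x.asIdeal.primeCompl := fun a ha hax => ha (hle hax)
  let B : Type u := Localization.AtPrime x.asIdeal
  letI : Algebra (Localization.AtPrime m) B :=
    IsLocalization.localizationAlgebraOfSubmonoidLe (Localization.AtPrime m) B m.primeCompl x.asIdeal.primeCompl hsub
  haveI : IsScalarTower R (Localization.AtPrime m) B :=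
    IsLocalization.localization_isScalarTower_of_submonoid_le (Localization.AtPrime m) B m.primeCompl x.asIdeal.primeCompl hsub
  haveI : IsLocalization (x.asIdeal.primeCompl.map (algebraMap R (Localization.AtPrime m))) B :=
    IsLocalization.isLocalization_of_submonoid_le (Localization.AtPrime m) B m.primeCompl x.asIdeal.primeCompl hsub
  have hB : CAlg.IsCatenary B :=
    Groth.L03.Catenary.isCatenary_localization (x.asIdeal.primeCompl.map (algebraMap R (Localization.AtPrime m))) B (h m)
  let e : B ≃+* (AlgebraicGeometry.Spec (CommRingCat.of R)).presheaf.stalk x :=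
    (AlgebraicGeometry.StructureSheaf.stalkIso R x).toRingEquiv
  exact (Groth.L18.Cat.oCat_congr (PrimeSpectrum.comapEquiv e)).mp hB

end Groth.Agent.S0552
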