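import Groth.Statements.S2092
import Groth.Agent.L06.FlatFibre
import Groth.Agent.L06.FormalFibres
import Groth.Agent.L04.RegularPd
import Mathlib.RingTheory.TensorProduct.MvPolynomial
import Mathlib.RingTheory.RegularLocalRing.Polynomial

set_option autoImplicit false
universe u
open CAlg

namespace Groth.Agent.S2092

/-- Case `M = R`: if `R` is a Cohen–Macaulay ring then so is the polynomial ring `R[x_1, …, x_n]`. -/
theorem result {R : Type u} [CommRing R] [LocCoh.IsCohenMacaulayRing R] (n : ℕ) :
    LocCoh.IsCohenMacaulayRing (MvPolynomial (Fin n) R) := by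
  classical
  haveI : IsNoetherianRing R := inferInstance
  rw [Groth.L06.FormalFibres.cm_iff_forall_hasSk]
  intro k
  refine Groth.L06.FlatFibre.hasSk_of_flat k ((Groth.L06.FormalFibres.cm_iff_forall_hasSk).1 ‹_› k) fun p _ => ?_
  let e := (MvPolynomial.algebraTensorAlgEquiv R p.ResidueField (σ := Fin n)).toRingEquiv
  haveI : IsRegularRing (MvPolynomial (Fin n) p.ResidueField) := inferInstance
  haveI : IsRegularRing (p.Fiber (MvPolynomial (Fin n) R)) := IsRegularRing.of_ringEquiv e.symm
  exact (Groth.L06.FormalFibres.cm_iff_forall_hasSk).1 Groth.L04.isCohenMacaulayRing_of_regularRing k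


end Groth.Agent.S2092
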