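import Groth.Statements.S9128
import Mathlib.RingTheory.Ideal.KrullsHeightTheorem
import Mathlib.RingTheory.KrullDimension.NonZeroDivisors
import Mathlib.RingTheory.Spectrum.Prime.Topology

set_option autoImplicit false
universe u
open CAlg

namespace Groth.Agent.S9128

/-- A Noetherian local ring A is catenary if and only if the assignment sending a prime p to the Krull
dimension of A/p is a dimension function on Spec A, i.e. it decreases strictly along strict
inclusions of primes and drops by exactly one along inclusions with no prime strictly in between. -/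
theorem result (A : Type u) [CommRing A] [IsNoetherianRing A]
    [IsLocalRing A] :
    CAlg.IsCatenary A ↔
      ∀ p q : PrimeSpectrum A, p < q →
        ringKrullDim (A ⧸ q.asIdeal) < ringKrullDim (A ⧸ p.asIdeal) ∧
          (p ⋖ q → ringKrullDim (A ⧸ p.asIdeal) = ringKrullDim (A ⧸ q.asIdeal) + 1) := by
  have hfin : ∀ p : PrimeSpectrum A, Order.coheight p < ⊤ := by
    intro p
    have h1 : (Order.coheight p : WithBot ℕ∞) < ⊤ :=
      (Order.coheight_le_krullDim p).trans_lt ringKrullDim_lt_top
    exact WithBot.coe_lt_coe.1 h1
  have hdim : ∀ p : PrimeSpectrum A, ringKrullDim (A ⧸ p.asIdeal) = (Order.coheight p : WithBot ℕ∞) := by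
    intro p
    rw [ringKrullDim_quotient, Order.coheight_eq_krullDim_Ici]
    exact Order.krullDim_eq_of_orderIso (OrderIso.setCongr _ _ (Set.ext fun q => Iff.rfl))
  choose d hd using fun p => WithTop.ne_top_iff_exists.1 (hfin p).ne
  simp only [hdim, ← hd]
  suffices h : CAlg.IsCatenary A ↔ ∀ p q : PrimeSpectrum A, p < q → d q < d p ∧ (p ⋖ q → d p = d q + 1) by
    refine h.trans (forall_congr' fun p => forall_congr' fun q => imp_congr_right fun _ => ?_)
    refine and_congr ⟨fun h => ?_, fun h => ?_⟩ (imp_congr_right fun _ => ⟨fun h => ?_, fun h => ?_⟩)
    · exact WithBot.coe_lt_coe.2 (WithTop.coe_lt_coe.2 h)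
    · exact WithTop.coe_lt_coe.1 (WithBot.coe_lt_coe.1 h)
    · rw [h]; rfl
    · exact WithTop.coe_inj.1 (WithBot.coe_inj.1 h)
  have hstrict : ∀ p q : PrimeSpectrum A, p < q → d q < d p := by
    intro p q hpq
    have := Order.coheight_strictAnti hpq (hfin q)
    rw [← hd, ← hd] at this
    exact WithTop.coe_lt_coe.1 this
  refine ⟨fun hA p q hpq => ⟨hstrict p q hpq, fun hcov => ?_⟩, fun h => ?_⟩
  · have key : ∀ x : PrimeSpectrum A, ∃ s : LTSeries (PrimeSpectrum A), s.head = x ∧
        s.last = IsLocalRing.closedPoint A ∧ s.length = d x ∧
        ∀ i : Fin s.length, s (Fin.castSucc i) ⋖ s i.succ := by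
      intro x
      obtain ⟨s, hsh, hsl⟩ := Order.exists_series_of_coheight_eq_coe x (hd x).symm
      have hlen : ∀ t : LTSeries (PrimeSpectrum A), t.head = x → t.length ≤ d x := by
        intro t ht
        have := Order.length_le_coheight (x := x) (p := t) ht.ge
        rw [← hd] at this
        exact WithTop.coe_le_coe.1 this
      refine ⟨s, hsh, ?_, hsl, fun i => ⟨s.step i, fun z h1 h2 => ?_⟩⟩
      · by_contra hne
        have hlt : s.last < IsLocalRing.closedPoint A :=
          lt_of_le_of_ne (IsLocalRing.le_maximalIdeal s.last.isPrime.ne_top) hne
        have := hlen (s.snoc _ hlt) (by rw [RelSeries.head_snoc, hsh])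
        rw [RelSeries.snoc_length] at this
        omega
      · have := hlen (s.insertNth i z h1 h2) (by
          rw [← hsh]
          change Fin.insertNth (α := fun _ => PrimeSpectrum A) (Fin.castSucc i.succ) z s (0 : Fin (s.length + 2)) = s 0
          rw [Fin.insertNth_apply_below (Nat.succ_pos _)]
          rfl)
        change s.length + 1 ≤ d x at this
        omega
    obtain ⟨s, hsh, hsl, hsn, hsc⟩ := key p
    obtain ⟨t, hth, htl, htn, htc⟩ := key q
    let u : LTSeries (PrimeSpectrum A) := ⟨t.length + 1, Fin.cons p t, fun i => by
      induction i using Fin.cases with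
      | zero => exact (show p < t.head from hth ▸ hpq)
      | succ j => exact (by simpa using t.step j)⟩
    have := hA.2 s u hsh (hsl.trans htl.symm)
      hsc (fun i => by
        induction i using Fin.cases with
        | zero => exact (show p ⋖ t.head from hth ▸ hcov)
        | succ j => exact (by simpa [u] using htc j))
    change s.length = t.length + 1 at this
    omega
  · refine ⟨fun p q _ => ⟨d p, fun s hh _ => ?_⟩, fun s t hh hl hs ht => ?_⟩
    · have : ∀ i : Fin (s.length + 1), d (s i) + i ≤ d p := by
        intro i
        induction i using Fin.induction with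
        | zero => simp [show s 0 = p from hh]
        | succ j ih =>
          have := hstrict _ _ (s.step j)
          simp only [Fin.val_succ, Fin.val_castSucc] at ih ⊢
          omega
      have := this (Fin.last _)
      simp only [Fin.val_last] at this
      omega
    · have key : ∀ u : LTSeries (PrimeSpectrum A),
          (∀ i : Fin u.length, u (Fin.castSucc i) ⋖ u i.succ) → d u.last + u.length = d u.head := by
        intro u hu
        have : ∀ i : Fin (u.length + 1), d (u i) + i = d u.head := by
          intro i
          induction i using Fin.induction with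
          | zero => simp [RelSeries.head]
          | succ j ih =>
            have := (h _ _ (u.step j)).2 (hu j)
            simp only [Fin.val_succ, Fin.val_castSucc] at ih ⊢
            omega
        simpa [RelSeries.last] using this (Fin.last _)
      have h1 := key s hs
      have h2 := key t ht
      rw [hh, hl] at h1
      omega

end Groth.Agent.S9128
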