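import Groth.Statements.S0603
import Groth.Agent.S2092
import Groth.Agent.S9128
import Groth.Agent.S0552
import Groth.Agent.L03.Catenary
import Groth.Agent.L04.CMLoc
import Groth.Agent.L04.DepthLoc
import Groth.Agent.L01.Regular
import Mathlib.RingTheory.Ideal.Height

set_option autoImplicit false
universe u
open CAlg

namespace Groth.Agent.S0603

open IsLocalRing

lemma height_add_quotient_of_cm {A : Type u} [CommRing A] [LocCoh.IsCohenMacaulayLocalRing A]
    (p : Ideal A) [p.IsPrime] :
    ringKrullDim (A ⧸ p) + (p.height : WithBot ℕ∞) = ringKrullDim A := by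
  have h := Groth.L04.supportDim_eq_add_idealDepth (Ideal.IsPrime.ne_top ‹p.IsPrime›)
    (show LocCoh.IsCohenMacaulayModule A A from LocCoh.IsCohenMacaulayLocalRing.supportDim_eq_depth)
  haveI := Groth.L04.isCohenMacaulayRing_of_local A
  rw [Module.supportDim_self_eq_ringKrullDim, smul_eq_mul, Ideal.mul_top,
    Module.supportDim_quotient_eq_ringKrullDim,
    (Groth.L04.isCohenMacaulayRing_iff_height (R := A)).1 inferInstance p (Ideal.IsPrime.ne_top ‹_›)] at h
  exact h.symm

lemma height_map_le_one_of_covBy {A : Type u} [CommRing A] {p q : PrimeSpectrum A} (h : p ⋖ q) :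
    (q.asIdeal.map (Ideal.Quotient.mk p.asIdeal)).height ≤ 1 := by
  haveI := p.isPrime
  haveI := q.isPrime
  have hker : RingHom.ker (Ideal.Quotient.mk p.asIdeal) ≤ q.asIdeal := by rw [Ideal.mk_ker]; exact h.le
  haveI := Ideal.map_isPrime_of_surjective Ideal.Quotient.mk_surjective hker
  have hq : (q.asIdeal.map (Ideal.Quotient.mk p.asIdeal)).comap (Ideal.Quotient.mk p.asIdeal) = q.asIdeal :=
    Ideal.comap_map_quotientMk p.asIdeal q.asIdeal |>.trans (sup_eq_right.2 h.le)
  refine Ideal.height_le_iff.2 fun Q hQ hlt => ?_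
  let Q' : PrimeSpectrum A := ⟨Q.comap (Ideal.Quotient.mk p.asIdeal), inferInstance⟩
  have h1 : p ≤ Q' := fun x hx => by
    show Ideal.Quotient.mk _ x ∈ Q
    rw [Ideal.Quotient.eq_zero_iff_mem.2 hx]
    exact zero_mem _
  have h2 : Q'.asIdeal < q.asIdeal := hq ▸ (Ideal.comap_mono hlt.le).lt_of_ne fun he =>
    hlt.ne (Ideal.comap_injective_of_surjective _ Ideal.Quotient.mk_surjective he)
  have hQ0 : Q = ⊥ := by
    rcases h.eq_or_eq h1 (show Q' ≤ q from h2.le) with he | he
    · refine Ideal.comap_injective_of_surjective _ Ideal.Quotient.mk_surjective ?_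
      rw [← RingHom.ker_eq_comap_bot, Ideal.mk_ker]
      exact congrArg PrimeSpectrum.asIdeal he
    · exact absurd (congrArg PrimeSpectrum.asIdeal he) h2.ne
  rw [hQ0, Ideal.height_bot]
  exact zero_lt_one

lemma isCatenary_of_cm_local {A : Type u} [CommRing A] [LocCoh.IsCohenMacaulayLocalRing A] :
    CAlg.IsCatenary A := by
  rw [Groth.Agent.S9128.result A]
  intro p q hpq
  haveI := Groth.L04.isCohenMacaulayRing_of_local A
  have hP := height_add_quotient_of_cm p.asIdeal
  have hQ := height_add_quotient_of_cm q.asIdeal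
  haveI := p.isPrime
  have hlt := Ideal.height_strict_mono_of_isPrime (show p.asIdeal < q.asIdeal from hpq)
  obtain ⟨a, ha⟩ := ENat.ne_top_iff_exists.1 (Ideal.height_ne_top p.isPrime.ne_top)
  obtain ⟨b, hb⟩ := ENat.ne_top_iff_exists.1 (Ideal.height_ne_top q.isPrime.ne_top)
  obtain ⟨n, hn⟩ := Groth.L01.exists_dim_eq_nat (R := A)
  haveI : IsLocalRing (A ⧸ p.asIdeal) := Groth.L01.isLocalRing_quotient p.isPrime.ne_top
  haveI : IsLocalRing (A ⧸ q.asIdeal) := Groth.L01.isLocalRing_quotient q.isPrime.ne_top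
  obtain ⟨P, hPd⟩ := Groth.L01.exists_dim_eq_nat (R := A ⧸ p.asIdeal)
  obtain ⟨Q, hQd⟩ := Groth.L01.exists_dim_eq_nat (R := A ⧸ q.asIdeal)
  rw [← ha, hPd, hn] at hP
  rw [← hb, hQd, hn] at hQ
  rw [← ha, ← hb] at hlt
  have hP' : P + a = n := by exact_mod_cast hP
  have hQ' : Q + b = n := by exact_mod_cast hQ
  have hab : a < b := by exact_mod_cast hlt
  rw [hPd, hQd]
  refine ⟨by exact_mod_cast (by omega : Q < P), fun hcov => ?_⟩
  haveI := q.isPrime
  haveI := p.isPrime
  let L := Localization.AtPrime q.asIdeal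
  haveI : LocCoh.IsCohenMacaulayLocalRing L :=
    LocCoh.IsCohenMacaulayRing.isCohenMacaulayLocalRing_localization q.asIdeal
  have hdisj : Disjoint (q.asIdeal.primeCompl : Set A) (p.asIdeal : Set A) :=
    Set.disjoint_left.2 fun x hx hxp => hx (hcov.le hxp)
  haveI hp' := IsLocalization.isPrime_of_isPrime_disjoint q.asIdeal.primeCompl L p.asIdeal p.isPrime hdisj
  have hcomap := IsLocalization.under_map_of_isPrime_disjoint q.asIdeal.primeCompl L p.isPrime hdisj
  have hh : (p.asIdeal.map (algebraMap A L)).height = p.asIdeal.height := by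
    rw [← IsLocalization.height_comap q.asIdeal.primeCompl]
    exact congrArg Ideal.height hcomap
  have hL := height_add_quotient_of_cm (p.asIdeal.map (algebraMap A L))
  rw [hh, IsLocalization.AtPrime.ringKrullDim_eq_height q.asIdeal L, ← ha, ← hb] at hL
  rw [Groth.L04.ringKrullDim_localization_quotient hcov.le] at hL
  obtain ⟨c, hc, hc1⟩ : ∃ c : ℕ, (q.asIdeal.map (Ideal.Quotient.mk p.asIdeal)).height = c ∧ c ≤ 1 := by
    have hle := height_map_le_one_of_covBy hcov
    obtain ⟨c, hc⟩ := ENat.ne_top_iff_exists.1 (ne_top_of_le_ne_top ENat.one_ne_top hle)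
    exact ⟨c, hc.symm, Nat.cast_le.1 (hc ▸ hle)⟩
  rw [hc] at hL
  have hD' : c + a = b := by exact_mod_cast hL
  exact_mod_cast (by omega : P = Q + 1)



/-- Every Cohen–Macaulay ring (Noetherian with all local rings Cohen–Macaulay) satisfies the universally
catenary chain condition. -/
theorem result (R : Type u) [CommRing R]
    [LocCoh.IsCohenMacaulayRing R] : CAlg.IsUniversallyCatenary R := by
  classical
  refine ⟨inferInstance, fun S _ _ hS => ?_⟩
  obtain ⟨n, f, hf⟩ := Algebra.FiniteType.iff_quotient_mvPolynomial''.1 hS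
  haveI := Groth.Agent.S2092.result (R := R) n
  have hP : CAlg.IsCatenary (MvPolynomial (Fin n) R) :=
    (Groth.Agent.S0552.result _).2 fun m _ =>
      haveI := LocCoh.IsCohenMacaulayRing.isCohenMacaulayLocalRing_localization m
      isCatenary_of_cm_local
  let e := Ideal.quotientKerAlgEquivOfSurjective hf
  exact Groth.L03.Catenary.isCatenary_of_emb (PrimeSpectrum.comapEquiv e.toRingEquiv).symm.toOrderEmbedding
    (by
      rw [Set.range_eq_univ.2 (PrimeSpectrum.comapEquiv e.toRingEquiv).symm.surjective]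
      exact Set.ordConnected_univ : (Set.range ⇑(PrimeSpectrum.comapEquiv e.toRingEquiv).symm).OrdConnected) (Groth.L03.Catenary.isCatenary_quotient _ hP)


end Groth.Agent.S0603
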