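import Groth.Statements.S6402
import Groth.Agent.L09.FibFp
import Groth.Prelude.Def_W4stkcategoriessitesFib

set_option autoImplicit false
open CategoryTheory
universe v u
open FibCat

namespace Groth.Agent.S6402
open CategoryTheory Category Functor Groth.L09.Fib CategoryTheory.Limits

/-- For a functor `F : 𝒳 ⟶ 𝒴` of fibred categories over `C` preserving strongly cartesian morphisms, the
relative inertia `I_{𝒳/𝒴}` (pairs `(x, α)` with `α` an automorphism of `x` sent to the identity by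
`F`) is equivalent over `C` to `𝒳 ×_{Δ, 𝒳 ×_𝒴 𝒳, Δ} 𝒳`, by a functor over `C` whose composite with
either projection is the forgetful functor `(x, α) ↦ x`. (Only the two projections of the
equivalence are pinned here; its 2-cell component at `(x, α)` is `(α, 𝟙)`.) -/
theorem result {C : Type u} [Category.{v} C] {𝒳 𝒴 : BasedCategory.{v, max u v} C} [𝒳.p.IsFibered] [𝒴.p.IsFibered] (F : 𝒳 ⥤ᵇ 𝒴) (hF : FibCat.PreservesStronglyCartesian F) :
    ∃ E : FibCat.inertia F ⥤ᵇ FibCat.fp (FibCat.diag F) (FibCat.diag F),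
      FibCat.IsEquivOver E ∧ BasedFunctor.comp E (FibCat.fpFst _ _) = FibCat.inertiaToBase F ∧
        BasedFunctor.comp E (FibCat.fpSnd _ _) = FibCat.inertiaToBase F := by
  let D := FibCat.diag F
  have hα : ∀ z : (FibCat.inertia F).obj, 𝒳.p.IsHomLift (𝟙 (𝒳.p.obj z.pt)) z.aut.hom := fun z => by
    rw [← BasedFunctor.isHomLift_iff F, z.map_aut]
    exact IsHomLift.id (F.w_obj z.pt)
  let ie : ∀ z : (FibCat.inertia F).obj, D.obj z.pt ≅ D.obj z.pt := fun z =>
    ObjectProperty.isoMk _ (CategoricalPullback.mkIso z.aut (Iso.refl z.pt) (by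
      show F.map z.aut.hom ≫ 𝟙 _ = 𝟙 _ ≫ F.map (𝟙 z.pt)
      rw [z.map_aut, F.toFunctor.map_id]))
  let eo : (FibCat.inertia F).obj → (FibCat.fp D D).obj := fun z =>
    ⟨⟨z.pt, z.pt, ie z⟩, (fp_isHomLift_iff _ _).2 (hα z)⟩
  let em : ∀ {z w : (FibCat.inertia F).obj}, (z ⟶ w) → (eo z ⟶ eo w) := fun {z w} f =>
    ObjectProperty.homMk ⟨f.hom, f.hom, ObjectProperty.hom_ext _
      (CategoricalPullback.hom_ext f.comm.symm ((comp_id _).trans (id_comp _).symm))⟩
  let E : FibCat.inertia F ⥤ᵇ FibCat.fp D D :=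
    { toFunctor :=
        { obj := eo
          map := fun f => em f
          map_id := fun z => ObjectProperty.hom_ext _ (CategoricalPullback.hom_ext rfl rfl)
          map_comp := fun f g => ObjectProperty.hom_ext _ (CategoricalPullback.hom_ext rfl rfl) }
      w := rfl }
  have : E.toFunctor.Faithful := ⟨fun {z w f g} h =>
    FibCat.InertiaObj.hom_ext (congrArg (fun k => k.hom.fst) h)⟩
  have : E.toFunctor.Full := ⟨fun {z w} m => by
    have e2 : m.hom.fst = m.hom.snd := by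
      have := congrArg (fun k => k.hom.snd) m.hom.w
      exact (comp_id _).symm.trans (this.trans (id_comp _))
    have e1 : m.hom.fst ≫ w.aut.hom = z.aut.hom ≫ m.hom.snd := congrArg (fun k => k.hom.fst) m.hom.w
    rw [← e2] at e1
    exact ⟨⟨m.hom.fst, e1.symm⟩, ObjectProperty.hom_ext _ (CategoricalPullback.hom_ext rfl e2)⟩⟩
  refine ⟨E, isEquivOver_mk E fun η => ?_, rfl, rfl⟩
  have hl := fp_iso_lift η (U := 𝒳.p.obj η.obj.fst) rfl
  have : 𝒳.p.IsHomLift (𝟙 (𝒳.p.obj η.obj.fst)) η.obj.iso.hom.hom.fst := (fp_isHomLift_iff _ _).1 hl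
  have : 𝒳.p.IsHomLift (𝟙 (𝒳.p.obj η.obj.fst)) η.obj.iso.hom.hom.snd := fp_snd_lift _ _ hl
  let σ : η.obj.fst ≅ η.obj.snd :=
    ⟨η.obj.iso.hom.hom.fst, η.obj.iso.inv.hom.fst, congrArg (fun k => k.hom.fst) η.obj.iso.hom_inv_id,
      congrArg (fun k => k.hom.fst) η.obj.iso.inv_hom_id⟩
  let τ : η.obj.fst ≅ η.obj.snd :=
    ⟨η.obj.iso.hom.hom.snd, η.obj.iso.inv.hom.snd, congrArg (fun k => k.hom.snd) η.obj.iso.hom_inv_id,
      congrArg (fun k => k.hom.snd) η.obj.iso.inv_hom_id⟩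
  have w : F.map σ.hom = F.map τ.hom :=
    (comp_id _).symm.trans (η.obj.iso.hom.hom.w.trans (id_comp _))
  let z : (FibCat.inertia F).obj := ⟨η.obj.fst, σ ≪≫ τ.symm, by
    show F.map (σ.hom ≫ τ.inv) = _
    rw [Functor.map_comp, w, ← Functor.map_comp, Iso.hom_inv_id, F.toFunctor.map_id]⟩
  let e : E.obj z ≅ η := ObjectProperty.isoMk _ (CategoricalPullback.mkIso (Iso.refl _) τ
    (ObjectProperty.hom_ext _ (CategoricalPullback.hom_ext
      (show 𝟙 _ ≫ σ.hom = (σ.hom ≫ τ.inv) ≫ τ.hom by simp)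
      (show 𝟙 _ ≫ τ.hom = 𝟙 _ ≫ τ.hom from rfl))))
  exact ⟨z, e, (fp_isHomLift_iff _ _).2 (IsHomLift.id rfl : 𝒳.p.IsHomLift (𝟙 (𝒳.p.obj η.obj.fst)) (𝟙 η.obj.fst))⟩

end Groth.Agent.S6402
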