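import Groth.Statements.S3036
import Groth.Agent.L08.MonoClosed
import Groth.Agent.L25.Artinian.Reduce
-- import your own Groth.Agent.* helpers here

set_option autoImplicit false
universe u
open CategoryTheory MonoidalCategory CartesianMonoidalCategory MonObj GrpObj AlgebraicGeometry TensorProduct
open SGA3

namespace Groth.Agent.S3036

/-- Let A be a local artinian ring and u : G → H a homomorphism between group schemes locally of finite
type over A which is a quasi-compact monomorphism. Then u is a closed immersion. -/
theorem result (A : Type u) [CommRing A] [IsArtinianRing A] [IsLocalRing A]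
    (G H : Over (Spec (CommRingCat.of A))) [GrpObj G] [GrpObj H] [LocallyOfFiniteType G.hom] [LocallyOfFiniteType H.hom]
    (u : G ⟶ H) [IsMonHom u] [Mono u] [QuasiCompact u.left] : IsClosedImmersion u.left := by
  let θ := Groth.L25.Artinian.res A
  haveI : IsClosedImmersion θ := (Groth.L25.Artinian.res_props A).1
  haveI : Surjective θ := (Groth.L25.Artinian.res_props A).2
  obtain ⟨h1, h2⟩ := Groth.L08.MonoClosed.bc_props θ u
  haveI : LocallyOfFiniteType (Red.bc θ G).hom := MorphismProperty.pullback_snd _ _ ‹_›
  haveI : LocallyOfFiniteType (Red.bc θ H).hom := MorphismProperty.pullback_snd _ _ ‹_›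
  haveI : IsClosedImmersion ((Over.pullback θ).map u).left :=
    Groth.L08.MonoClosed.isClosedImmersion_of_field (G := Red.bc θ H) (H := Red.bc θ G) ((Over.pullback θ).map u)
  exact Groth.L08.MonoClosed.isClosedImmersion_of_bc θ u

end Groth.Agent.S3036
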