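import Groth.Statements.S3034
import Groth.Agent.S3036
import Groth.Agent.S4094
-- import your own Groth.Agent.* helpers here

set_option autoImplicit false
universe u
open CategoryTheory MonoidalCategory CartesianMonoidalCategory MonObj GrpObj AlgebraicGeometry TensorProduct
open SGA3

namespace Groth.Agent.S3034

/-- Let A be a local artinian ring and u : G → H a quasi-compact homomorphism between group schemes
locally of finite type over A, with G flat over A and the kernel of u flat over A. Then u factors as
a homomorphism p : G → C which is faithfully flat and locally of finite presentation followed by a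
homomorphism i : C → H which is a closed immersion. (Stated here for G flat over A; the published
statement also covers non-flat G.) -/
theorem result (A : Type u) [CommRing A] [IsArtinianRing A] [IsLocalRing A]
    (G H : Over (Spec (CommRingCat.of A))) [GrpObj G] [GrpObj H] [LocallyOfFiniteType G.hom] [LocallyOfFiniteType H.hom]
    [Flat G.hom] (u : G ⟶ H) [IsMonHom u] [QuasiCompact u.left]
    (hN : Flat (Limits.pullback.snd u.left (η[H] : 𝟙_ (Over (Spec (CommRingCat.of A))) ⟶ H).left)) :
    ∃ (C : Over (Spec (CommRingCat.of A))) (_ : GrpObj C) (p : G ⟶ C) (i : C ⟶ H), IsMonHom p ∧ IsMonHom i ∧ p ≫ i = u ∧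
      Flat p.left ∧ Surjective p.left ∧ LocallyOfFinitePresentation p.left ∧ IsClosedImmersion i.left := by
  haveI : LocallyOfFinitePresentation G.hom := LocallyOfFinitePresentation.iff_locallyOfFiniteType.2 inferInstance
  have hK : Flat (Limits.pullback u η[H]).hom := by
    have e : IsPullback (Limits.pullback.fst u η[H]).left (Limits.pullback.snd u η[H]).left u.left (η[H] : 𝟙_ (Over (Spec (CommRingCat.of A))) ⟶ H).left :=
      (IsPullback.of_hasPullback u η[H]).map (Over.forget _)
    have h1 : Flat (Limits.pullback.snd u η[H]).left := by
      rw [← e.isoPullback_hom_snd]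
      exact (MorphismProperty.cancel_left_of_respectsIso (P := @Flat) _ _).2 hN
    have h2 : (Limits.pullback.snd u η[H]).left ≫ (𝟙_ (Over (Spec (CommRingCat.of A)))).hom = (Limits.pullback u η[H]).hom :=
      Over.w _
    rw [← h2]
    haveI := h1
    haveI : Flat (𝟙_ (Over (Spec (CommRingCat.of A)))).hom := inferInstanceAs (Flat (𝟙 _))
    infer_instance
  obtain ⟨Q, gQ, p, i, hpm, him, hpi, hs, hf, hp, hi, hQ, -⟩ := Groth.Agent.S4094.result _ G H u hK
  haveI := him
  haveI := hi
  haveI := hs
  haveI := hQ
  haveI : LocallyOfFiniteType Q.hom := inferInstance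
  haveI : QuasiCompact (p.left ≫ i.left) := by rw [← Over.comp_left, hpi]; infer_instance
  haveI : QuasiCompact i.left := by
    refine (quasiCompact_iff i.left).2 fun U hU hU' => ?_
    have h := (QuasiCompact.isCompact_preimage (f := p.left ≫ i.left) U hU hU').image p.left.continuous
    rwa [show (p.left ≫ i.left).base ⁻¹' U = p.left.base ⁻¹' (i.left.base ⁻¹' U) from rfl,
      Set.image_preimage_eq _ p.left.surjective] at h
  exact ⟨Q, gQ, p, i, hpm, him, hpi, hf, hs, hp, Groth.Agent.S3036.result A Q H i⟩

end Groth.Agent.S3034
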