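import Groth.Statements.S5331
import Groth.Agent.L25.GrpBasics
import Mathlib.AlgebraicGeometry.Morphisms.Immersion

set_option autoImplicit false
universe u
open CategoryTheory CategoryTheory.Limits MonoidalCategory CartesianMonoidalCategory MonObj GrpObj AlgebraicGeometry
open SGA3

namespace Groth.Agent.S5331

lemma isClosedImmersion_section {X S : Scheme.{u}} [DiscreteTopology S] (f : X ⟶ S) (g : S ⟶ X)
    (hg : g ≫ f = 𝟙 S) : IsClosedImmersion g := by
  rw [IsZariskiLocalAtTarget.iff_of_iSup_eq_top (P := @IsClosedImmersion) _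
    (iSup_affineOpens_eq_top X)]
  intro U
  have e : g ∣_ U.1 ≫ (U.1.ι ≫ f) = (g ⁻¹ᵁ U.1).ι := by
    rw [morphismRestrict_ι_assoc, hg, Category.comp_id]
  have h1 : IsClosedImmersion (g ⁻¹ᵁ U.1).ι :=
    .of_isPreimmersion _ (isClosed_discrete _)
  have : IsClosedImmersion (g ∣_ U.1 ≫ (U.1.ι ≫ f)) := by rw [e]; exact h1
  have : IsAffine U.1.toScheme := U.2
  have : IsSeparated ((U.1.ι ≫ f) ≫ terminal.from S) := by
    rw [terminal.comp_from]; exact inferInstanceAs (IsSeparated _)
  have : IsSeparated (U.1.ι ≫ f) := IsSeparated.of_comp _ (terminal.from S)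
  exact IsClosedImmersion.of_comp (g ∣_ U.1) (U.1.ι ≫ f)


/-- Let S be a scheme whose underlying topological space is discrete. Then every S-group scheme is
separated over S. -/
theorem result (S : Scheme.{u}) [DiscreteTopology S] (G : Over S) [GrpObj G] :
    IsSeparated G.hom := by
  exact ⟨Groth.L25.GrpBasics.diagonal_of_unit @IsClosedImmersion G
    (isClosedImmersion_section G.hom η[G].left (Groth.L25.GrpBasics.unit_comp_hom G))⟩
end Groth.Agent.S5331
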