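import Groth.Statements.S14759
import Groth.Agent.L08.Albanese.EtaleDescent
import Groth.Agent.Lead.HomUnr
import Groth.Agent.L25.RatConn
import Groth.Agent.L21.EtaleFib.Basic
import Groth.Agent.S3280

set_option autoImplicit false
set_option backward.isDefEq.respectTransparency.types false
set_option linter.style.haveILetI false
universe u
open CategoryTheory CategoryTheory.Limits MonoidalCategory CartesianMonoidalCategory MonObj GrpObj AlgebraicGeometry
open AlgGrp

namespace Groth.Agent.S14759

open Groth.L25 (Component.one)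

variable {k : Type u} [Field k]

theorem normal_component {G N N₀ : Over (Spec (CommRingCat.of k))} [GrpObj G] [GrpObj N] [GrpObj N₀]
    {i : N ⟶ G} [IsMonHom i] [Mono i] (hi : AlgGrp.IsNormalHom i) (j : N₀ ⟶ N) [IsMonHom j]
    [IsOpenImmersion j.left] [ConnectedSpace N₀.left]
    (hr : Set.range j.left = connectedComponent (Groth.L25.Component.one N)) : AlgGrp.IsNormalHom (j ≫ i) := by
  obtain ⟨c', hc'⟩ := hi (G ⊗ N₀) (fst G N₀) (snd G N₀ ≫ j)
  haveI : GeometricallyConnected N₀.hom := Groth.L25.RatConn.geometricallyConnected_of_section N₀.hom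
    (η[N₀] : 𝟙_ _ ⟶ N₀).left (Over.w _)
  haveI : GeometricallyConnected (fst G N₀).left := inferInstanceAs (GeometricallyConnected (pullback.fst G.hom N₀.hom))
  let e : G ⟶ G ⊗ N₀ := CartesianMonoidalCategory.lift (𝟙 G) (toUnit G ≫ η[N₀])
  have he : e ≫ c' = toUnit G ≫ η[N] := by
    rw [← cancel_mono i, Category.assoc, ← hc', Category.assoc (toUnit G), IsMonHom.one_hom]
    simp only [e, MonObj.comp_mul, GrpObj.comp_inv, lift_fst, ← Category.assoc, lift_snd]
    simp only [Category.assoc, IsMonHom.one_hom, IsMonHom.one_hom_assoc, ← Hom.one_def, _root_.mul_one, mul_inv_cancel]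
    rw [MonObj.one_comp, _root_.mul_one, mul_inv_cancel]
  intro T g n
  suffices hsub : Set.range c'.left ⊆ Set.range j.left by
    let c : G ⊗ N₀ ⟶ N₀ := Over.homMk (IsOpenImmersion.lift j.left c'.left hsub) (by
      rw [← Over.w j, IsOpenImmersion.lift_fac_assoc]; exact Over.w c')
    have hc : c ≫ j = c' := Over.OverMorphism.ext (IsOpenImmersion.lift_fac _ _ _)
    refine ⟨CartesianMonoidalCategory.lift g n ≫ c, ?_⟩
    rw [Category.assoc, reassoc_of% hc, ← hc', MonObj.comp_mul, MonObj.comp_mul, GrpObj.comp_inv, lift_fst,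
      Category.assoc, lift_snd_assoc]
  rw [hr]
  rintro _ ⟨x, rfl⟩
  have hP := ((fst G N₀).left.isConnected_preimage_singleton ((fst G N₀).left x)).isPreconnected.image c'.left
    c'.left.continuous.continuousOn
  refine hP.subset_connectedComponent ?_ ⟨x, rfl, rfl⟩
  refine ⟨e.left ((fst G N₀).left x), ?_, ?_⟩
  · show (e ≫ fst G N₀).left _ = _
    rw [lift_fst]
    rfl
  · show (e ≫ c').left _ = _
    rw [he]
    exact congrArg (η[N] : 𝟙_ _ ⟶ N).left (Subsingleton.elim (α := PrimeSpectrum k) _ _)

theorem etale_of_isOpenImmersion_one (E : Over (Spec (CommRingCat.of k))) [GrpObj E] [IsFinite E.hom]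
    (h : IsOpenImmersion (η[E] : 𝟙_ (Over (Spec (CommRingCat.of k))) ⟶ E).left) : Etale E.hom := by
  let o := (η[E] : 𝟙_ (Over (Spec (CommRingCat.of k))) ⟶ E).left
  haveI : IsOpenImmersion o := h
  haveI : IsOpenImmersion (o.opensRange.ι ≫ (toUnit E).left) := by
    haveI : IsIso (o ≫ (toUnit E).left) := by
      rw [← Over.comp_left, toUnit_unique (η[E] ≫ toUnit E) (𝟙 _), Over.id_left]
      infer_instance
    rw [← Scheme.Hom.isoOpensRange_inv_comp o, Category.assoc]
    infer_instance
  have hu : FormallyUnramified (toUnit E).left := by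
    haveI : LocallyOfFinitePresentation (toUnit E).left := by
      rw [show (toUnit E).left = E.hom from (Category.comp_id _).symm.trans (Over.w (toUnit E))]
      haveI : IsLocallyNoetherian (Spec (CommRingCat.of k)) := inferInstance
      haveI : IsLocallyNoetherian (𝟙_ (Over (Spec (CommRingCat.of k)))).left := ‹_›
      exact LocallyOfFinitePresentation.iff_locallyOfFiniteType.2 inferInstance
    exact Groth.Lead.HomUnr.formallyUnramified_of_open E _ (toUnit E) o.opensRange
      (x := o (IsLocalRing.closedPoint k)) ⟨_, rfl⟩ inferInstance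
  rw [show (toUnit E).left = E.hom from (Category.comp_id _).symm.trans (Over.w (toUnit E))] at hu
  haveI : IsAffine E.left := isAffine_of_isAffineHom E.hom
  rw [HasRingHomProperty.iff_of_isAffine (P := @Etale)]
  have hu' := (HasRingHomProperty.iff_of_isAffine (P := @FormallyUnramified) (f := E.hom)).1 hu
  have hft := (HasRingHomProperty.iff_of_isAffine (P := @LocallyOfFiniteType) (f := E.hom)).1 inferInstance
  have hK : IsField Γ(Spec (CommRingCat.of k), ⊤) := MulEquiv.isField (Field.toIsField k)
    (Scheme.ΓSpecIso (CommRingCat.of k)).commRingCatIsoToRingEquiv.toMulEquiv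
  let K₀ := Γ(Spec (CommRingCat.of k), ⊤)
  letI : Field K₀ := hK.toField
  let R := Γ(E.left, ⊤)
  letI : Algebra K₀ R := E.hom.appTop.hom.toAlgebra
  haveI : Algebra.FiniteType K₀ R := hft
  haveI : Algebra.FormallyUnramified K₀ R := hu'
  exact RingHom.etale_algebraMap.2 (Groth.L21.EtaleFib.etale_of_formallyUnramified K₀ R)

/-- Over a field k, every isogeny φ : G → H of k-group schemes of finite type (a surjective homomorphism
with finite kernel) factors as φ = χ ∘ ψ with ψ : G → Q a purely inseparable isogeny (its kernel is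
connected) followed by a separable isogeny χ : Q → H (its kernel is etale over k). (The published
definition of isogeny asks only for a finite kernel and an image of finite index in H; this row
takes φ surjective, which is the same notion when H is connected.) -/
theorem result (k : Type u) [Field k]
    (G H : Over (Spec (CommRingCat.of k))) [GrpObj G] [GrpObj H]
    [QuasiCompact G.hom] [LocallyOfFiniteType G.hom] [QuasiCompact H.hom] [LocallyOfFiniteType H.hom]
    (φ : G ⟶ H) [IsMonHom φ] (hφ : SGA7.IsIsogenyOver φ) :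
    ∃ (Q : Over (Spec (CommRingCat.of k))) (_ : GrpObj Q) (ψ : G ⟶ Q) (χ : Q ⟶ H),
      IsMonHom ψ ∧ IsMonHom χ ∧ ψ ≫ χ = φ ∧ SGA7.IsIsogenyOver ψ ∧ SGA7.IsIsogenyOver χ ∧
      (∀ (N : Over (Spec (CommRingCat.of k))) (n : N ⟶ G), AlgGrp.IsKernel n ψ → ConnectedSpace ↥N.left) ∧
      (∀ (N : Over (Spec (CommRingCat.of k))) (n : N ⟶ Q), AlgGrp.IsKernel n χ → Etale N.hom) := by
  obtain ⟨N, gN, i, _, _, _, sq⟩ := Groth.L08.AbelianGrp.exists_kernel φ
  haveI : Mono i := Over.mono_of_mono_left i
  haveI hNf : IsFinite N.hom := hφ.2 N i sq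
  obtain ⟨N₀, gN₀, j, _, _, hjo, hr⟩ := Groth.L08.IdComp.exists_identityComponent N
  haveI := hjo
  haveI hN₀ : ConnectedSpace N₀.left := by
    refine connectedSpace_iff_univ.2 ⟨⟨Groth.L25.Component.one N₀, trivial⟩, ?_⟩
    have h := (isConnected_connectedComponent (x := Groth.L25.Component.one N)).isPreconnected
    rw [← hr, ← Set.image_univ] at h
    exact (j.left.isOpenEmbedding.toIsEmbedding.toIsInducing.isPreconnected_image).1 h
  haveI : Mono j := Over.mono_of_mono_left j
  haveI : IsMonHom (j ≫ i) := inferInstance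
  haveI : IsClosedImmersion (j ≫ i).left := inferInstanceAs (IsClosedImmersion (j.left ≫ i.left))
  haveI : Mono (j ≫ i) := Over.mono_of_mono_left _
  haveI : LocallyOfFiniteType N₀.hom := by rw [← Over.w j]; infer_instance
  obtain ⟨Y, p, _, _, _, sqp⟩ := Groth.L08.GQuot.exists_quotient_field (j ≫ i)
  obtain ⟨Q, q, _, _, _, sqq, hlft, -, hqc, -, -⟩ := Groth.L08.GQuot.exists_struct p sqp
  obtain ⟨gQ, _, hker⟩ := Groth.L08.GQuot.exists_grp
    (normal_component (Groth.L08.Albanese.isNormalHom_of_kernel sq) j hr) q sqq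
  haveI := hlft inferInstance
  haveI := hqc inferInstance
  obtain ⟨χ, _, hχ, -⟩ := Groth.Agent.S3280.result k G N₀ Q H q (j ≫ i) hker φ (by
    rw [Category.assoc, sq.w, ← Category.assoc]
    congr 1
    exact toUnit_unique _ _)
  refine ⟨Q, gQ, q, χ, inferInstance, inferInstance, hχ, ⟨inferInstance, ?_⟩, ⟨?_, ?_⟩, ?_, ?_⟩
  rotate_left
  · haveI : Surjective φ.left := hφ.1
    haveI : Surjective (q.left ≫ χ.left) := by rw [← Over.comp_left, hχ]; infer_instance
    exact Surjective.of_comp q.left χ.left
  rotate_left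
  · intro M n hM
    let e := hM.isoIsPullback _ _ hker
    exact e.hom.left.homeomorph.symm.surjective.connectedSpace e.hom.left.homeomorph.symm.continuous
  rotate_left
  · intro M n hM
    haveI : IsFinite N₀.hom := by
      haveI : IsClosedImmersion j.left := IsClosedImmersion.of_comp j.left i.left
      rw [← Over.w j]; infer_instance
    let e := hM.isoIsPullback _ _ hker
    haveI : IsIso e.hom.left := inferInstanceAs (IsIso ((Over.forget _).map e.hom))
    rw [← Over.w e.hom]
    infer_instance
  all_goals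
    intro M n hM
    obtain ⟨E, gE, κ, _, _, -, sqK⟩ := Groth.L08.AbelianGrp.exists_kernel χ
    haveI : Mono κ := Over.mono_of_mono_left κ
    haveI : LocallyOfFiniteType E.hom := by rw [← Over.w κ]; infer_instance
    haveI : QuasiCompact E.hom := by rw [← Over.w κ]; infer_instance
    have hκ : κ ≫ χ = 1 := sqK.w.trans (Hom.one_def).symm
    obtain ⟨h, hh, -⟩ := sqK.exists_lift (i ≫ q) (toUnit N) (by rw [Category.assoc, hχ, sq.w])
    have sqN : IsPullback h i κ q := by
      refine IsPullback.mk' hh (fun T a b _ e2 => ?_) (fun T a b e => ?_)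
      · exact (cancel_mono i).1 e2
      · obtain ⟨c, hc, -⟩ := sq.exists_lift b (toUnit T) (by
          rw [← hχ, ← Category.assoc, ← e, Category.assoc, hκ, MonObj.comp_one, Hom.one_def])
        exact ⟨c, by rw [← cancel_mono κ, Category.assoc, hh, reassoc_of% hc, e], hc⟩
    have hsN := sqN.map (Over.forget _)
    haveI : Surjective h.left := MorphismProperty.of_isPullback (P := @Surjective) hsN.flip ‹Surjective q.left›
    haveI : Flat h.left := MorphismProperty.of_isPullback (P := @Flat) hsN.flip ‹Flat q.left›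
    haveI : QuasiCompact h.left := Groth.L08.AbelianGrp.quasiCompact_left h
    have sqj : IsPullback j (toUnit N₀) h η[E] := by
      refine IsPullback.mk' ?_ (fun T a b e1 _ => (cancel_mono j).1 e1) (fun T a b e => ?_)
      · rw [← cancel_mono κ, Category.assoc, hh, Category.assoc, IsMonHom.one_hom, ← Category.assoc, hker.w]
      · obtain ⟨z, hz, -⟩ := hker.exists_lift (a ≫ i) b (by
          rw [Category.assoc, ← hh, ← Category.assoc, e, Category.assoc, IsMonHom.one_hom])
        refine ⟨z, ?_, toUnit_unique _ _⟩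
        rw [← cancel_mono i, Category.assoc, hz]
    have hone : IsOpenImmersion (η[E] : 𝟙_ (Over (Spec (CommRingCat.of k))) ⟶ E).left :=
      MorphismProperty.of_isPullback_of_descendsAlong (P := @IsOpenImmersion)
        (Q := @Surjective ⊓ @Flat ⊓ @QuasiCompact) (sqj.map (Over.forget _))
        ⟨⟨‹Surjective h.left›, ‹Flat h.left›⟩, ‹QuasiCompact h.left›⟩ hjo
    haveI : IsFinite E.hom := Groth.L08.Albanese.isFinite_of_isOpen_one E (by
      haveI := hone
      have h1 : Set.range (η[E] : 𝟙_ (Over (Spec (CommRingCat.of k))) ⟶ E).left =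
          {Groth.L25.Component.one E} := by
        refine Set.eq_singleton_iff_unique_mem.2 ⟨⟨IsLocalRing.closedPoint k, rfl⟩, ?_⟩
        rintro _ ⟨x, rfl⟩
        exact congrArg η[E].left (Subsingleton.elim (α := PrimeSpectrum k) _ _)
      rw [← h1]
      exact (η[E] : 𝟙_ (Over (Spec (CommRingCat.of k))) ⟶ E).left.isOpenEmbedding.isOpen_range)
    haveI : Etale E.hom := etale_of_isOpenImmersion_one E hone
    let e := hM.isoIsPullback _ _ sqK
    haveI : IsIso e.hom.left := inferInstanceAs (IsIso ((Over.forget _).map e.hom))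
    rw [← Over.w e.hom]
    infer_instance

end Groth.Agent.S14759
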