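import Groth.Statements.S2586
import Groth.Agent.L07.FibreRegular

set_option autoImplicit false
open TensorProduct
universe u
open EGA43

namespace Groth.Agent.S2586

/-- Let A ⟶ B be a ring map with B finitely presented over A, M a finitely presented B-module, q a prime
of B with contraction p, and g₁, …, gₙ elements of q. Suppose the localization M_q is flat over A
and the gᵢ form a regular sequence on the localization at q of the fibre module M ⊗_A κ(p). Then the
gᵢ form a regular sequence on M_q, and for every i the localization at q of M/(g₁, …, gᵢ)M is flat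
over A. -/
theorem result {A B : Type u} [CommRing A] [CommRing B] [Algebra A B]
    [Algebra.FinitePresentation A B] (M : Type u) [AddCommGroup M] [Module B M] [Module A M] [IsScalarTower A B M]
    [Module.FinitePresentation B M] (q : Ideal B) [q.IsPrime] (g : List B) (hg : ∀ b ∈ g, b ∈ q)
    (hflat : Module.Flat A (LocalizedModule q.primeCompl M))
    (hreg : RingTheory.Sequence.IsRegular
      (LocalizedModule q.primeCompl (M ⊗[A] (q.comap (algebraMap A B)).ResidueField)) g) :
    RingTheory.Sequence.IsRegular (LocalizedModule q.primeCompl M) g ∧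
      ∀ i ≤ g.length, Module.Flat A
        (LocalizedModule q.primeCompl (M ⧸ (Ideal.span {b | b ∈ g.take i} • (⊤ : Submodule B M)))) := by
  classical
  obtain ⟨h1, h2⟩ := Groth.L07.FibreRegular.isWeaklyRegular_and_flat (A := A) q g hg M hflat hreg.toIsWeaklyRegular
  refine ⟨⟨h1, fun htop => hreg.top_ne_smul ?_⟩, h2⟩
  let Bq := Localization.AtPrime q
  haveI : Module.Finite Bq (LocalizedModule q.primeCompl M) :=
    Module.Finite.of_isLocalizedModule q.primeCompl (LocalizedModule.mkLinearMap q.primeCompl M)
  have hle : (⊤ : Submodule Bq (LocalizedModule q.primeCompl M)) ≤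
      (Ideal.ofList g).map (algebraMap B Bq) • (⊤ : Submodule Bq _) := by
    intro x _
    have hx : x ∈ Ideal.ofList g • (⊤ : Submodule B (LocalizedModule q.primeCompl M)) := htop.le trivial
    refine Submodule.smul_induction_on hx (fun r hr y _ => ?_) (fun a b ha hb => add_mem ha hb)
    rw [← algebraMap_smul Bq r y]
    exact Submodule.smul_mem_smul (Ideal.mem_map_of_mem _ hr) trivial
  have hbot := Submodule.eq_bot_of_le_smul_of_le_jacobson_bot _ _ Module.Finite.fg_top hle (by
    rw [IsLocalRing.jacobson_eq_maximalIdeal ⊥ bot_ne_top, ← Localization.AtPrime.map_eq_maximalIdeal]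
    exact Ideal.map_mono (Ideal.span_le.mpr hg))
  haveI hsub : Subsingleton (LocalizedModule q.primeCompl M) :=
    Submodule.subsingleton_iff Bq |>.mp (subsingleton_of_bot_eq_top hbot.symm)
  haveI : Subsingleton (LocalizedModule q.primeCompl (M ⊗[A] (q.comap (algebraMap A B)).ResidueField)) := by
    rw [LocalizedModule.subsingleton_iff]
    intro z
    induction z using TensorProduct.induction_on with
    | zero => exact ⟨1, Submonoid.one_mem _, smul_zero _⟩
    | add a b ha hb =>
      obtain ⟨s, hs, hsa⟩ := ha
      obtain ⟨t, ht, htb⟩ := hb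
      exact ⟨s * t, Submonoid.mul_mem _ hs ht, by
        rw [smul_add, mul_comm s t, mul_smul, hsa, smul_zero, zero_add, mul_comm t s, mul_smul, htb, smul_zero]⟩
    | tmul m c =>
      obtain ⟨s, hs, hsm⟩ := LocalizedModule.subsingleton_iff.mp hsub m
      exact ⟨s, hs, by rw [TensorProduct.smul_tmul', hsm, TensorProduct.zero_tmul]⟩
  exact Subsingleton.elim _ _

end Groth.Agent.S2586
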