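import Groth.Statements.S1604
import Groth.Agent.L22.CurveDeg.ZeroDim
import Groth.Agent.L22.MaximalPoints
import Groth.Agent.L21.CurveTop
import Groth.Agent.L18.CurveBasic
import Groth.Agent.L18.LocFreeFP
import Groth.Agent.L29.DCoh.PCQCoh
-- import your own Groth.Agent.* helpers here

set_option autoImplicit false
universe u
open CategoryTheory CategoryTheory.Limits AlgebraicGeometry
open Variety

namespace Groth.Agent.S1604

/-- Let X be proper of dimension at most one over k and D an effective Cartier divisor with ideal sheaf
I. Then D is finite over k, and for E finite locally free of rank n and any invertible module L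
inverse to I (so L plays the role of O_X(D)) one has deg(E ⊗ L) = n · dim_k H^0(X, O_D) + deg E. -/
theorem result (k : Type u) [Field k] (X : Scheme.{u}) [X.Over (Spec (CommRingCat.of k))] [IsProper (X ↘ (Spec (CommRingCat.of k)))] (hdim : topologicalKrullDim X ≤ 1)
    (D : X.IdealSheafData) (hD : BlowUp.IsEffCartierIdeal D)
    (L : X.Modules) (hL : PicF.IsInvertible L) (hLD : ClSub.IsInverseOf L (ClSub.idealMod D))
    (n : ℕ) (E : X.Modules) (hE : FlatMod.IsFinLocFreeOfRank n E) :
    IsFinite (D.subschemeι ≫ (X ↘ (Spec (CommRingCat.of k)))) ∧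
      Curv2.deg k X (CohB1.tensorMod E L) n = n * Module.finrank k (Coh.HH X (ClSub.quotMod D) 0) + Curv2.deg k X E n := by
  haveI := Groth.L21.RR.isNoetherian_of_proper (X := X) k
  -- the support consists of closed points
  have hclosed : ∀ x ∈ (D.support : Set X), IsClosed ({x} : Set X) := by
    intro x hx
    by_contra hc
    refine Groth.L22.notMem_support_of_maximal hD (fun y hy => ?_) hx
    by_contra hne
    obtain ⟨z, hxz, hzne⟩ : ∃ z, x ⤳ z ∧ x ≠ z := by
      by_contra hh
      push Not at hh
      exact hc (isClosed_of_closure_subset fun z hz => (hh z (specializes_iff_mem_closure.2 hz)).symm)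
    let c : X → TopologicalSpace.IrreducibleCloseds X :=
      fun a => ⟨closure ({a} : Set X), isIrreducible_singleton.closure, isClosed_closure⟩
    have hlt : ∀ {a b : X}, a ⤳ b → a ≠ b → c b < c a := by
      intro a b hab hne'
      refine lt_of_le_of_ne (specializes_iff_closure_subset.1 hab : closure {b} ⊆ _) fun e => ?_
      have : b ⤳ a := specializes_iff_mem_closure.2 (by
        rw [show closure ({b} : Set X) = closure {a} from congrArg TopologicalSpace.IrreducibleCloseds.carrier e]
        exact subset_closure rfl)
      exact hne' (this.antisymm hab).eq.symm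
    have h1 := (Order.LTSeries.length_le_krullDim
      (((RelSeries.singleton _ (c z)).snoc (c x) (hlt hxz hzne)).snoc (c y)
        (by simpa using hlt hy hne))).trans hdim
    simp only [RelSeries.snoc_length, RelSeries.singleton_length] at h1
    norm_cast at h1
  have hsupp : Groth.L21.RR.SuppClosed (ClSub.quotMod D) := fun x hx =>
    Groth.L21.RR.subsingleton_stalk_quotMod D fun h => hx (hclosed x h)
  refine ⟨?_, ?_⟩
  · have hfin : (D.support : Set X).Finite :=
      Groth.L18.Curve.finite_of_forall_isClosed D.support.isClosed hclosed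
    haveI : Finite (D.support : Set X) := hfin.to_subtype
    haveI : Finite D.subscheme := Finite.of_injective
      (fun a => (⟨D.subschemeι a, (Scheme.IdealSheafData.range_subschemeι D).subset ⟨a, rfl⟩⟩ :
        (D.support : Set X)))
      fun a b h => D.subschemeι.isClosedEmbedding.injective (congrArg Subtype.val h)
    haveI : T1Space D.subscheme := ⟨fun a => by
      rw [← Set.preimage_image_eq {a} D.subschemeι.isClosedEmbedding.injective, Set.image_singleton]
      exact (hclosed _ ((Scheme.IdealSheafData.range_subschemeι D).subset ⟨a, rfl⟩)).preimage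
        D.subschemeι.isClosedEmbedding.continuous⟩
    exact Groth.L21.CurveTop.isFinite_of_discrete _
  · have hEf : FlatMod.IsFinLocFree E := fun x => by
      obtain ⟨U, hU, e⟩ := hE x
      exact ⟨U, n, hU, e⟩
    have hEflat : FlatMod.IsFlat E := Groth.L29.DC.isFlat_of_isFinLocFree hEf
    haveI : Coh.IsQCoh E := Groth.L29.DC.PCQCoh.isQCoh_of_isFinLocFree hEf
    haveI hEfp : CohB1.IsFP E := Groth.L18.LFP.isFP_of_isFinLocFree E hEf
    have hEft : CohB1.IsFT E := inferInstance
    have htc : ∀ {M : X.Modules}, Coh.IsCoh M → Coh.IsCoh (CohB1.tensorMod E M) := fun {M} hM => by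
      haveI : Coh.IsQCoh M := hM.1
      exact ⟨Groth.L00.Tensor.isQCoh_tensorMod _ _, Groth.L00.Tensor.isFT_tensorMod _ _ hEft hM.2⟩
    have hQ := Groth.L21.RR.isCoh_twistQuot D (L := L) hL
    have hs := Groth.L21.RR.suppClosed_tensor hL hsupp
    have key := Groth.L21.RR.euler_add k hdim
      (Groth.L16.FrameIso.shortExact_tensor_left hEflat _ (Groth.L21.RR.shortExact_tw D hL))
      (htc (Groth.L21.RR.isCoh_twist D hL)) (htc (Groth.L16.ProperFinite.isCoh_of_isInvertible hL)) (htc hQ)
    have key' : Curv2.euler k X (CohB1.tensorMod E L) =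
        Curv2.euler k X (CohB1.tensorMod E (CohB1.tensorMod L (ClSub.idealMod D))) +
          Curv2.euler k X (CohB1.tensorMod E (CohB1.tensorMod L (ClSub.quotMod D))) := key
    rw [Groth.L21.RR.euler_congr k (Groth.L00.Tensor.tensorIso (Iso.refl E) hLD.some ≪≫
        Groth.L00.Tensor.tensorUnitRight E),
      Groth.L21.RR.euler_congr k (Groth.L00.Tensor.tensorComm E (CohB1.tensorMod L (ClSub.quotMod D))),
      Groth.L22.CurveDeg.euler_tensor_locFree k hE hQ hs,
      Groth.L21.RR.euler_eq_h0_of_suppClosed k hs, Groth.L21.RR.h0_tensor k hL hsupp] at key'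
    rw [Curv2.deg, Curv2.deg, key', Groth.L21.RR.h]
    ring

end Groth.Agent.S1604
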