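import Groth.Statements.S7648
import Groth.Agent.L22.Inter.Top
import Groth.Agent.L22.Inter.Coeff
import Groth.Agent.L22.Inter.Push
import Groth.Agent.L22.Inter.Point

set_option autoImplicit false
universe u
open CategoryTheory CategoryTheory.Limits AlgebraicGeometry
open Variety

namespace Groth.Agent.S7648

open TopologicalSpace Groth.L03.Euler

/-- An effective Cartier divisor contains no generic point. -/
theorem not_generic {X : Scheme.{u}} {D : X.IdealSheafData} (hD : FGA.IsEffCartier D) {x : X}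
    (hx : x ∈ (D.support : Set X)) (hgen : ∀ y, y ⤳ x → y = x) : False := by
  obtain ⟨U, hxU, a, ha, hI⟩ := hD x
  let q := U.2.primeIdealOf ⟨x, hxU⟩
  have hxa : x ∉ X.basicOpen a := by
    have h1 := (D.mem_support_iff_of_mem hxU).1 hx
    rw [Scheme.mem_zeroLocus_iff] at h1
    exact h1 a (hI ▸ Ideal.subset_span rfl)
  have haq : a ∈ q.asIdeal := by
    by_contra hne
    refine hxa ?_
    have h1 : q ∈ PrimeSpectrum.basicOpen a := hne
    rw [← U.2.fromSpec_preimage_basicOpen a] at h1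
    have h2 : U.2.fromSpec q ∈ X.basicOpen a := h1
    rwa [U.2.fromSpec_primeIdealOf] at h2
  refine (Ideal.disjoint_nonZeroDivisors_of_mem_minimalPrimes (p := q.asIdeal) ?_).le_bot ⟨haq, ha⟩
  refine ⟨⟨q.isPrime, bot_le⟩, fun p ⟨hp, _⟩ hle => ?_⟩
  have h1 : (⟨p, hp⟩ : PrimeSpectrum Γ(X, U.1)) ⤳ q := (PrimeSpectrum.le_iff_specializes _ _).1 hle
  have h2 := h1.map U.2.fromSpec.continuous
  rw [U.2.fromSpec_primeIdealOf] at h2
  have h3 : (⟨p, hp⟩ : PrimeSpectrum Γ(X, U.1)) = q := U.2.fromSpec.isOpenEmbedding.injective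
    ((hgen _ h2).trans (U.2.fromSpec_primeIdealOf ⟨x, hxU⟩).symm)
  exact (congrArg PrimeSpectrum.asIdeal h3).ge

theorem dim_support_le {X : Scheme.{u}} {D : X.IdealSheafData} (hD : FGA.IsEffCartier D) {e : ℕ}
    (hX : topologicalKrullDim X ≤ (e + 1 : ℕ)) : topologicalKrullDim (D.support : Set X) ≤ e := by
  by_contra h
  have h2 : ((e + 1 : ℕ) : WithBot ℕ∞) ≤ topologicalKrullDim (D.support : Set X) := by
    push_cast
    by_contra h3
    push Not at h3
    refine h ?_
    revert h3
    generalize topologicalKrullDim (D.support : Set X) = t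
    intro h3
    induction t using WithBot.recBotCoe with
    | bot => exact bot_le
    | coe t =>
      change (t : WithBot ℕ∞) < (((e : ℕ∞) + 1 : ℕ∞) : WithBot ℕ∞) at h3
      exact WithBot.coe_le_coe.2 ((ENat.lt_add_one_iff (ENat.natCast_ne_top e)).1 (WithBot.coe_lt_coe.1 h3))
  obtain ⟨x, hxD, hx⟩ := exists_point_dim_closure_ge D.support.isClosed h2
  have hT : topologicalKrullDim (Set.univ : Set X) ≤ (e + 1 : ℕ) :=
    (Topology.IsInducing.subtypeVal.topologicalKrullDim_le).trans hX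
  refine not_generic hD hxD fun y hy => Groth.L22.Inter.eq_of_specializes_top isClosed_univ hT
    (le_antisymm ((topologicalKrullDim_set_mono (Set.subset_univ _)).trans hT) hx) (Set.mem_univ y) hy

theorem cons_castSucc {r : ℕ} (b : ℕ) (n : Fin (r + 1) → ℕ) :
    (fun j : Fin (r + 1) => (Fin.cons b n : Fin (r + 2) → ℕ) j.castSucc) = Fin.cons b fun j : Fin r => n j.castSucc := by
  funext j
  refine Fin.cases ?_ (fun j => ?_) j
  · simp
  · rw [← Fin.succ_castSucc]
    simp

/-- A zero exponent can be dropped. -/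
theorem nonempty_tensorPows_cons {X : Scheme.{u}} : ∀ {r : ℕ} (L : Fin (r + 1) → X.Modules) (n : Fin r → ℕ),
    Nonempty (Curv2.tensorPows (Coh.structureModule X) (r + 1) L (Fin.cons 0 n) ≅
      Curv2.tensorPows (Coh.structureModule X) r (fun j => L j.succ) n)
  | 0, L, n => ⟨Groth.L00.Tensor.tensorUnitLeft _⟩
  | r + 1, L, n => by
    obtain ⟨e⟩ := nonempty_tensorPows_cons (fun i => L i.castSucc) (fun i => n i.castSucc)
    simp only [Curv2.tensorPows]
    have h1 : (Fin.cons 0 n : Fin (r + 2) → ℕ) (Fin.last (r + 1)) = n (Fin.last r) := by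
      rw [← Fin.succ_last, Fin.cons_succ]
    have h2 : (fun j : Fin r => L j.succ.castSucc) = fun j => L j.castSucc.succ := by
      funext j
      rw [Fin.succ_castSucc]
    rw [h1]
    refine ⟨Groth.L00.Tensor.tensorIso (eqToIso ?_ ≪≫ e ≪≫ eqToIso ?_) (eqToIso (by rw [Fin.succ_last]))⟩
    · exact (congrArg (fun m => Curv2.tensorPows (Coh.structureModule X) (r + 1) (fun i => L i.castSucc) m)
        (cons_castSucc 0 n))
    · rw [h2]

/-- Let X be proper over a field k of dimension e + 1, let D ⊆ X be an effective Cartier divisor and let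
L_0, L_1, …, L_e be invertible modules with L_0 ≅ O_X(D), i.e. L_0 ⊗ I_D ≅ O_X. Then (L_0 ⋯ L_e · X)
= (L_1 ⋯ L_e · D): the coefficient of n_0⋯n_e in the polynomial computing χ(X, ⊗_j L_j^{⊗n_j})
equals the coefficient of n_1⋯n_e in the polynomial computing χ(X, O_D ⊗ L_1^{⊗n_1} ⊗ ⋯ ⊗
L_e^{⊗n_e}). (The published statement has a closed subscheme Z ⊆ X of dimension d with D ⊆ Z and
L_1|_Z ≅ O_Z(D); this row is its case Z = X.) -/
theorem result (k : Type u) [Field k] (X : Scheme.{u}) [X.Over (Spec (CommRingCat.of k))] [IsProper (X ↘ (Spec (CommRingCat.of k)))]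
    (e : ℕ) (hX : topologicalKrullDim X = e + 1) (D : X.IdealSheafData) (hD : FGA.IsEffCartier D)
    (L : Fin (e + 1) → X.Modules) (hL : ∀ j, PicF.IsInvertible (L j))
    (hLD : ClSub.IsInverseOf (L 0) (ClSub.idealMod D))
    (P : MvPolynomial (Fin (e + 1)) ℚ) (Q : MvPolynomial (Fin e) ℚ)
    (hP : ∀ n : Fin (e + 1) → ℕ, (Curv2.euler k X (Curv2.tensorPows (Coh.structureModule X) (e + 1) L n) : ℚ) = MvPolynomial.eval (fun i => (n i : ℚ)) P)
    (hQ : ∀ n : Fin e → ℕ, (Curv2.euler k X (Curv2.tensorPows (ClSub.quotMod D) e (fun j => L j.succ) n) : ℚ) = MvPolynomial.eval (fun i => (n i : ℚ)) Q) :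
    MvPolynomial.coeff (Finsupp.equivFunOnFinite.symm fun _ : Fin (e + 1) => 1) P = MvPolynomial.coeff (Finsupp.equivFunOnFinite.symm fun _ : Fin e => 1) Q := by
  haveI := Groth.L21.RR.isNoetherian_of_proper (X := X) k
  have hO := Groth.L16.CohClosedPush.isCoh_structure (X := X)
  have hsuppO : ∀ M : X.Modules, topologicalKrullDim (CohB1.support M) ≤ (e + 1 : ℕ) := fun M =>
    (Topology.IsInducing.subtypeVal.topologicalKrullDim_le).trans (by rw [hX]; push_cast; rfl)
  have hQc := Groth.L21.RR.isCoh_quotMod D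
  have hDd := dim_support_le hD (le_of_eq (by rw [hX]; push_cast; rfl))
  have hQs := Groth.L22.Inter.support_quotMod_subset D
  have hL' : ∀ j : Fin e, PicF.IsInvertible (L j.succ) := fun j => hL _
  have hfP : twEuler k L (Coh.structureModule X) ∈ polyFun (e + 1) (e + 1 + 1) :=
    twEuler_mem' k hL hO (hsuppO _)
  have hfQ : twEuler k (fun j => L j.succ) (ClSub.quotMod D) ∈ polyFun e (e + 1) :=
    twEuler_mem' k hL' hQc ((topologicalKrullDim_set_mono hQs).trans hDd)
  rw [Groth.L22.Inter.coeff_eq_alt hfP fun n => (euler_tensorPows_eq k L _ n).symm.trans (hP n),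
    Groth.L22.Inter.coeff_eq_alt hfQ fun n => (euler_tensorPows_eq k _ _ n).symm.trans (hQ n),
    Groth.L22.Inter.alt_succ, ← map_sub]
  have h0 : ∀ (M : X.Modules) (n : Fin e → ℕ),
      twEuler k L M (Fin.cons 0 n) = twEuler k (fun j => L j.succ) M n := fun M n => by
    obtain ⟨i⟩ := nonempty_tensorPows_cons L n
    exact congrArg (Int.cast : ℤ → ℚ) (euler_iso (Groth.L00.Tensor.tensorIso (Iso.refl M) i))
  have h1 : ∀ n : Fin e → ℕ, twEuler k L (Coh.structureModule X) (Fin.cons 1 n) =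
      twEuler k (fun j => L j.succ) (CohB1.tensorMod (Coh.structureModule X) (L 0)) n := fun n => by
    have h := twEuler_shift k L (Coh.structureModule X) (Fin.cons 0 n) 0
    rw [Fin.cons_zero, Fin.update_cons_zero] at h
    rw [h, h0]
  simp only [h1, h0]
  have hseq := Groth.L21.RR.shortExact_tw D (hL 0)
  obtain ⟨eI⟩ := hLD
  have hI := isCoh_tensor (hL 0) (Groth.L21.RR.isCoh_idealMod D)
  have hTQ := isCoh_tensor (hL 0) hQc
  have c₁ : Coh.IsCoh (CohB1.tensorMod (L 0) (ClSub.idealMod D)) :=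
    Groth.L16.CohSupport.isCoh_of_iso (Groth.L00.Tensor.tensorComm _ _) hI
  have c₃ : Coh.IsCoh (CohB1.tensorMod (L 0) (ClSub.quotMod D)) :=
    Groth.L16.CohSupport.isCoh_of_iso (Groth.L00.Tensor.tensorComm _ _) hTQ
  have hadd := twEuler_add k hL' hseq c₁ (Groth.L16.ProperFinite.isCoh_of_isInvertible (hL 0)) c₃
  change twEuler k (fun j => L j.succ) (L 0) = twEuler k (fun j => L j.succ) (CohB1.tensorMod (L 0) (ClSub.idealMod D)) +
    twEuler k (fun j => L j.succ) (CohB1.tensorMod (L 0) (ClSub.quotMod D)) at hadd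
  have hmem := Groth.L22.Inter.twEuler_sub_mem_of_len k hL' D.support.isClosed hDd c₃
    (((Groth.L21.Mod.support_mono (Groth.L00.Tensor.tensorComm (L 0) (ClSub.quotMod D)).hom).trans (support_tensor (hL 0) _).le).trans hQs)
    hQc hQs (fun x _ _ => (Groth.L16.CohSupport.len_congr (Groth.L00.Tensor.tensorComm _ _) x).trans
      (len_tensor (hL 0) _ x))
  have hz := Groth.L22.Inter.alt_eq_zero le_rfl hmem
  rw [map_sub, sub_eq_zero] at hz
  rw [← hz]
  congr 1
  funext n
  rw [Pi.sub_apply, congrFun (twEuler_iso k _ (Groth.L00.Tensor.tensorUnitLeft (L 0))) n, hadd, Pi.add_apply,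
    congrFun (twEuler_iso k _ eI) n]
  ring

end Groth.Agent.S7648
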