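import Groth.Statements.S0599
import Groth.Agent.L06.GRingFT

set_option autoImplicit false
set_option linter.style.haveILetI false
set_option maxSynthPendingDepth 3
universe u
open CAlg

namespace Groth.Agent.S0599

/-- An algebra of finite type over a G-ring is a G-ring. (The published statement is for algebras
essentially of finite type; it is stated here for finite type.) -/
theorem result (R : Type u) [CommRing R] (hR : CAlg.IsGRing R) (S : Type u)
    [CommRing S] [Algebra R S] [Algebra.FiniteType R S] : CAlg.IsGRing S := by
  exact Groth.L06.GRingFT.isGRing_finiteType hR

end Groth.Agent.S0599
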