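import Groth.Prelude.Def_Found
import Groth.Prelude.Def_Hensel
import Mathlib.RingTheory.AdicCompletion.Basic
import Mathlib.RingTheory.Localization.AtPrime.Basic
import Groth.Agent.L02.CAlg.RegularDescend
import Groth.Agent.L06.GRingCrit
import Groth.Agent.L21.Nodal.Completion
import Groth.Agent.L05.Henselization.Noeth
import Groth.Agent.S0507
import Groth.Agent.S0508
import Groth.Agent.S0509

set_option autoImplicit false
namespace CAlg
end CAlg
universe u
open CAlg

namespace Groth.Agent.S2045

/-- If `R` is a Noetherian local G-ring then its henselization is a G-ring. -/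
theorem result {R S : Type u} [CommRing R] [IsLocalRing R] [IsNoetherianRing R]
    (hR : CAlg.IsGRing R) [CommRing S] [IsLocalRing S] [Algebra R S] [IsLocalHom (algebraMap R S)]
    [Hensel.IsHenselization R S] : CAlg.IsGRing S := by
  obtain ⟨-, hR'⟩ := hR
  haveI : IsNoetherianRing S := (Groth.L05.Henselization.isNoetherianRing_iff_hens R S).mp inferInstance
  haveI : Module.FaithfullyFlat R S := Groth.Agent.S0509.result R S
  have hres : ∀ b : S, ∃ a : R, b - algebraMap R S a ∈ IsLocalRing.maximalIdeal S := by
    intro b
    obtain ⟨q, hq⟩ := (Groth.Agent.S0508.result R S).2 (IsLocalRing.residue S b)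
    obtain ⟨a, rfl⟩ := IsLocalRing.residue_surjective q
    refine ⟨a, ?_⟩
    rw [IsLocalRing.ResidueField.map_residue] at hq
    exact Ideal.Quotient.eq.mp hq.symm
  obtain ⟨ε, hε⟩ := Groth.L21.Nodal.exists_completion_equiv R S (Groth.Agent.S0507.result R S) hres
  haveI : IsNoetherianRing (AdicCompletion (IsLocalRing.maximalIdeal S) S) := Groth.Agent.S0543.result _ _
  let L := Localization.AtPrime (IsLocalRing.maximalIdeal R)
  haveI : IsLocalization.AtPrime R (IsLocalRing.maximalIdeal R) := IsLocalization.self fun x hx =>
    (IsUnit.mem_submonoid_iff x).mpr (by simpa [Ideal.primeCompl] using hx)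
  have h1 : CAlg.IsRegularHom R (AdicCompletion (IsLocalRing.maximalIdeal R) R) :=
    Groth.L06.GRingTransport.isRegularHom_completion_of_ringEquiv
      (IsLocalization.algEquiv (IsLocalRing.maximalIdeal R).primeCompl L R).toRingEquiv
      (hR' (IsLocalRing.maximalIdeal R))
  have h2 : CAlg.IsRegularHom R (AdicCompletion (IsLocalRing.maximalIdeal S) S) :=
    Groth.L06.GRingTransport.isRegularHom_of_ringEquiv (RingEquiv.refl R) ε (fun a => by
      rw [hε, IsScalarTower.algebraMap_apply R S (AdicCompletion (IsLocalRing.maximalIdeal S) S)]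
      rfl) h1
  have h3 : CAlg.IsRegularHom S (AdicCompletion (IsLocalRing.maximalIdeal S) S) :=
    Groth.L02.RegularDescend.isRegularHom_of_indEtale
      (Groth.L05.Henselization.isIndEtale_of_isHenselization R S) h2
  refine Groth.L06.GRingCrit.isGRing_of_maximal fun m _ => ?_
  haveI : IsLocalization.AtPrime S m := IsLocalization.self fun x hx =>
    (IsUnit.mem_submonoid_iff x).mpr (by
      have hx' : x ∉ IsLocalRing.maximalIdeal S := fun h => hx (by
        rwa [← IsLocalRing.eq_maximalIdeal (I := m) inferInstance] at h)
      simpa using hx')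
  exact Groth.L06.GRingTransport.isRegularHom_completion_of_ringEquiv
    (IsLocalization.algEquiv m.primeCompl S (Localization.AtPrime m)).toRingEquiv h3

end Groth.Agent.S2045
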