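import Groth.Statements.S4508
import Groth.Agent.L21.RR.BaseChange
import Groth.Agent.L29.DCoh.RelBC
import Groth.Agent.L18.FibrePoints
import Groth.Agent.L16.AffineBC.Pullback
import Groth.Agent.L03.Euler.Basic
-- import your own Groth.Agent.* helpers here

set_option autoImplicit false
universe u
open Coherent

namespace Groth.Agent.S4508

open AlgebraicGeometry CategoryTheory CategoryTheory.Limits in
/-- For a single sheaf placed in degree 0 (the published statement is for a finite complex of such
sheaves). Let Y and Y' be locally Noetherian schemes, f : X ⟶ Y proper, g : Y' ⟶ Y any morphism, F a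
coherent O_X-module flat over Y; let X' = X ×_Y Y' with projections f' : X' ⟶ Y' and X' ⟶ X, and F'
the pullback of F to X'. Then F' is flat over Y', and for every point y' of Y' the Euler–Poincaré
characteristic of the fibre, Σ_i (−1)^i dim_{k(y')} H^i(X'_{y'}, F'_{y'}), equals Σ_i (−1)^i
dim_{k(g(y'))} H^i(X_{g(y')}, F_{g(y')}). -/
theorem result {X Y Y' : Scheme.{u}} (f : X ⟶ Y) (g : Y' ⟶ Y) [IsProper f]
    [IsLocallyNoetherian Y] [IsLocallyNoetherian Y'] (F : X.Modules) (hF : Coh.IsCoh F)
    (hfl : FlatMod.IsFlatOver f F) :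
    FlatMod.IsFlatOver (pullback.snd f g) ((Scheme.Modules.pullback (pullback.fst f g)).obj F) ∧
      ∀ y' : Y', PerfAux.eulerChar (pullback.snd f g) ((Scheme.Modules.pullback (pullback.fst f g)).obj F) y' =
        PerfAux.eulerChar f F (g.base y') := by
  have sq := IsPullback.of_hasPullback f g
  refine ⟨Groth.L29.DC.RelBC.isFlatOver_pullback sq hfl, fun y' => ?_⟩
  let f' := pullback.snd f g
  let g' := pullback.fst f g
  obtain ⟨p, hp, hι⟩ := Groth.L18.FP.exists_fiberMap f sq y'
  letI : Algebra (Y.residueField (g.base y')) (Y'.residueField y') := (g.residueFieldMap y').hom.toAlgebra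
  letI : (f.fiber (g.base y')).Over (Spec (CommRingCat.of (Y.residueField (g.base y')))) :=
    ⟨f.fiberToSpecResidueField (g.base y')⟩
  letI : (f'.fiber y').Over (Spec (CommRingCat.of (Y'.residueField y'))) := ⟨f'.fiberToSpecResidueField y'⟩
  haveI : IsProper ((f.fiber (g.base y')) ↘ Spec (CommRingCat.of (Y.residueField (g.base y')))) :=
    MorphismProperty.of_isPullback (P := @IsProper) (IsPullback.of_hasPullback f (Y.fromSpecResidueField _))
      inferInstance
  haveI : IsLocallyNoetherian (f.fiber (g.base y')) :=
    LocallyOfFiniteType.isLocallyNoetherian ((f.fiber (g.base y')) ↘ Spec (CommRingCat.of (Y.residueField (g.base y'))))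
  haveI : IsLocallyNoetherian X := LocallyOfFiniteType.isLocallyNoetherian f
  have hc := Groth.L16.AffineBC.isCoh_pullback (f.fiberι (g.base y')) hF
  have h := Groth.L21.RR.euler_pullback (k := Y.residueField (g.base y')) (K := Y'.residueField y') p hp hc
  refine Eq.trans ?_ h
  exact Groth.L03.Euler.euler_iso (k := Y'.residueField y')
    ((Scheme.Modules.pullbackComp (f'.fiberι y') g').app F ≪≫ (Scheme.Modules.pullbackCongr hι.symm).app F ≪≫
      ((Scheme.Modules.pullbackComp p (f.fiberι (g.base y'))).app F).symm)

end Groth.Agent.S4508
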