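import Groth.Statements.S4702
import Groth.Agent.L06.GenericFibreDim

set_option autoImplicit false
set_option maxSynthPendingDepth 3
set_option linter.style.haveILetI false
universe u
open EGA4

namespace Groth.Agent.S4702

open AlgebraicGeometry CategoryTheory in
/-- Let Y be an irreducible locally Noetherian scheme of dimension 1, X an irreducible scheme and f : X
→ Y a dominant morphism of finite type. Then for every point y in the image of f, every irreducible
component of the fibre of f at y has dimension equal to the dimension of the generic fibre. -/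
theorem result {X Y : Scheme.{u}} (f : X ⟶ Y) [IsLocallyNoetherian Y]
    [IrreducibleSpace Y] [IrreducibleSpace X] (hY : topologicalKrullDim Y = 1) [LocallyOfFiniteType f]
    [QuasiCompact f] (hf : DenseRange f.base) (y : Y) (hy : y ∈ Set.range f.base)
    (Z : Set ↥(f.fiber y)) (hZ : Z ∈ irreducibleComponents ↥(f.fiber y)) :
    topologicalKrullDim Z = topologicalKrullDim ↥(f.fiber (genericPoint Y)) := by
  haveI : IsDominant f := ⟨hf⟩
  haveI : IsLocallyNoetherian X := LocallyOfFiniteType.isLocallyNoetherian f
  have hg := hZ.1.isGenericPoint_genericPoint (isClosed_of_mem_irreducibleComponents Z hZ)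
  let c := hZ.1.genericPoint
  have hfc : f (f.fiberι y c) = y := Groth.L07.Equidim.apply_fiberι f y c
  have hmax : ∀ z', f z' = f (f.fiberι y c) → z' ⤳ f.fiberι y c → z' = f.fiberι y c := by
    intro z' hz' hsp
    obtain ⟨d, rfl⟩ : z' ∈ Set.range (f.fiberι y) := by rw [f.range_fiberι]; exact hz'.trans hfc
    have h1 : d ⤳ c := (f.fiberι y).isEmbedding.isInducing.specializes_iff.mp hsp
    have h2 : Z ⊆ closure {d} := by rw [← hg.def]; exact h1.closure_subset
    have h3 := hZ.eq_of_subset isIrreducible_singleton.closure h2
    refine congrArg _ ((Specializes.antisymm h1 (hg.specializes ?_)).eq)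
    rw [h3]; exact subset_closure rfl
  rw [← Groth.L06.GenericFibreDim.component_dim f hY.le (f.fiberι y c) hmax]
  unfold Groth.L07.Equidim.fdim
  refine (Groth.L22.SchemeDim.topologicalKrullDim_eq_of_isEmbedding
    ((f.fiberι y).isEmbedding.comp Topology.IsEmbedding.subtypeVal) ?_).symm
  rw [Set.range_comp, Subtype.range_coe]
  ext z
  constructor
  · rintro ⟨d, hd, rfl⟩
    refine ⟨?_, ?_⟩
    · exact specializes_iff_mem_closure.mp ((hg.specializes hd).map (f.fiberι y).continuous)
    · show f (f.fiberι y d) = f (f.fiberι y c)
      rw [hfc]; exact Groth.L07.Equidim.apply_fiberι f y d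
  · rintro ⟨hz1, hz2⟩
    obtain ⟨d, rfl⟩ : z ∈ Set.range (f.fiberι y) := by rw [f.range_fiberι]; exact (Set.mem_singleton_iff.mp hz2).trans hfc
    refine ⟨d, ?_, rfl⟩
    have h1 : c ⤳ d := (f.fiberι y).isEmbedding.isInducing.specializes_iff.mp (specializes_iff_mem_closure.mpr hz1)
    exact h1.mem_closed (isClosed_of_mem_irreducibleComponents Z hZ) hg.mem

end Groth.Agent.S4702
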