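import Groth.Statements.S1450
import Groth.Agent.L05.Henselization.UnramifiedUnibranch
-- import your own Groth.Agent.* helpers here

set_option autoImplicit false
universe u
open FlatMor

namespace Groth.Agent.S1450

open AlgebraicGeometry CategoryTheory Limits in
/-- Let Y be integral with all local rings geometrically unibranch, X connected, and f : X → Y
unramified (formally unramified and locally of finite type) such that some point of X maps to the
generic point of Y. Then f is étale and X is irreducible. -/
theorem result {X Y : Scheme.{u}} (f : X ⟶ Y) [IsIntegral Y] (hY : ∀ y : Y, CAlg2.IsGeomUnibranch (Y.presheaf.stalk y))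
    [ConnectedSpace ↑X] [FormallyUnramified f] [LocallyOfFiniteType f] (hdom : genericPoint ↑Y ∈ Set.range ⇑f) :
    Etale f ∧ IrreducibleSpace ↑X := by
  obtain ⟨h1, h2, -⟩ := Groth.L05.Henselization.Branches.etale_and_integral_of_unramified f hY hdom
  exact ⟨h1, inferInstance⟩

end Groth.Agent.S1450
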