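import Groth.Statements.S0443
import Mathlib.RingTheory.Ideal.GoingUp

set_option autoImplicit false
universe u
open FlatMor

set_option backward.isDefEq.respectTransparency.types false
namespace Groth.Agent.S0443.Aux

theorem finite_localRingHom {A B : Type*} [CommRing A] [CommRing B] (φ : A →+* B) (hφ : φ.Finite)
    (P : Ideal A) [P.IsPrime] (Q : Ideal B) [Q.IsPrime] (hPQ : P = Q.comap φ)
    (huniq : ∀ Q' : Ideal B, Q'.IsPrime → Q'.comap φ = P → Q' = Q) :
    (Localization.localRingHom P Q φ hPQ).Finite := by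
  classical
  algebraize [φ]
  haveI : Q.LiesOver P := ⟨hPQ⟩
  have hsing : P.primesOver B = {Q} := by
    ext Q'
    simp only [Set.mem_singleton_iff]
    refine ⟨fun h => huniq Q' h.1 h.2.over.symm, ?_⟩
    rintro rfl
    exact ⟨inferInstance, inferInstance⟩
  obtain ⟨s, hs⟩ := Module.Finite.fg_top (R := A) (M := B)
  letI := (Localization.localRingHom P Q φ hPQ).toAlgebra
  refine ⟨⟨s.image (algebraMap B (Localization.AtPrime Q)), eq_top_iff.2 fun z _ => ?_⟩⟩
  obtain ⟨b, t, rfl⟩ := IsLocalization.exists_mk'_eq Q.primeCompl z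
  obtain ⟨r, hr, c, hc⟩ :=
    Ideal.exists_notMem_dvd_algebraMap_of_primesOver_eq_singleton hsing (t : B) t.2
  have hmem : algebraMap B (Localization.AtPrime Q) (b * c) ∈
      Submodule.span (Localization.AtPrime P)
        (↑(s.image (algebraMap B (Localization.AtPrime Q))) : Set (Localization.AtPrime Q)) := by
    have : b * c ∈ Submodule.span A (s : Set B) := hs ▸ Submodule.mem_top
    generalize b * c = w at this ⊢
    induction this using Submodule.span_induction with
    | mem x hx =>
      exact Submodule.subset_span (Finset.mem_coe.2 (Finset.mem_image_of_mem _ (Finset.mem_coe.1 hx)))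
    | zero => simp
    | add x y _ _ hx hy => simpa using add_mem hx hy
    | smul a x _ hx =>
      rw [Algebra.smul_def, map_mul]
      have : algebraMap B (Localization.AtPrime Q) (algebraMap A B a) =
          algebraMap (Localization.AtPrime P) (Localization.AtPrime Q) (algebraMap A _ a) :=
        (Localization.localRingHom_to_map P Q φ hPQ a).symm
      rw [this, ← Algebra.smul_def]
      exact Submodule.smul_mem _ _ hx
  have hz : IsLocalization.mk' (Localization.AtPrime Q) b t =
      IsLocalization.mk' (Localization.AtPrime P) (1 : A) (⟨r, hr⟩ : P.primeCompl) •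
        algebraMap B (Localization.AtPrime Q) (b * c) := by
    rw [Algebra.smul_def, RingHom.algebraMap_toAlgebra, Localization.localRingHom_mk', map_one,
      mul_comm _ (algebraMap B (Localization.AtPrime Q) (b * c)),
      IsLocalization.mul_mk'_eq_mk'_of_mul, mul_one]
    refine IsLocalization.mk'_eq_of_eq ?_
    change (t : B) * (b * c) = φ r * b
    rw [show φ r = (t : B) * c from hc]
    ring
  rw [hz]
  exact Submodule.smul_mem _ _ hmem

end Groth.Agent.S0443.Aux

namespace Groth.Agent.S0443

open AlgebraicGeometry CategoryTheory Limits in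
/-- For a finite morphism π : X → Y and a point x of X that is the only point of its fibre, the induced
homomorphism of local rings O_{Y,π(x)} → O_{X,x} is finite. (The published lemma has further parts,
not stated here.) -/
theorem result {X Y : Scheme.{u}} (π : X ⟶ Y) [IsFinite π] (x : X) (hx : ∀ x' : ↑X, π x' = π x → x' = x) :
    (π.stalkMap x).hom.Finite := by
  obtain ⟨_, ⟨V, hV, rfl⟩, hyV, -⟩ :=
    Y.isBasis_affineOpens.exists_subset_of_mem_open (Set.mem_univ (π x)) isOpen_univ
  have hU : IsAffineOpen (π ⁻¹ᵁ V) := hV.preimage π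
  have hfin : (π.appLE V (π ⁻¹ᵁ V) le_rfl).hom.Finite := by
    rw [← Scheme.Hom.app_eq_appLE]
    exact π.finite_app V hV
  have e := IsAffineOpen.arrowStalkMapIso π V hV (π ⁻¹ᵁ V) hU le_rfl (x := x) hyV
  have hR := (RingHom.toMorphismProperty_respectsIso_iff (P := fun f => RingHom.Finite f)).mp
    RingHom.finite_respectsIso
  refine ((RingHom.toMorphismProperty fun f => RingHom.Finite f).arrow_mk_iso_iff e).mpr ?_
  let φ := (π.appLE V (π ⁻¹ᵁ V) le_rfl).hom
  let P := (hV.primeIdealOf ⟨π x, hyV⟩).asIdeal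
  let Q := (hU.primeIdealOf ⟨x, hyV⟩).asIdeal
  have hPQ : P = Q.comap φ :=
    congr($(IsAffineOpen.comap_primeIdealOf_appLE V hV (π ⁻¹ᵁ V) hU le_rfl hyV).1).symm
  refine Aux.finite_localRingHom φ hfin P Q hPQ fun Q' hQ' hQ'P => ?_
  let z : Spec Γ(X, π ⁻¹ᵁ V) := ⟨Q', hQ'⟩
  have hz : hU.fromSpec z = x := by
    apply hx
    have hcomm := congr($(hV.SpecMap_appLE_fromSpec π hU le_rfl) z)
    rw [Scheme.Hom.comp_apply, Scheme.Hom.comp_apply] at hcomm
    rw [← hcomm]
    have : Spec.map (π.appLE V (π ⁻¹ᵁ V) le_rfl) z = hV.primeIdealOf ⟨π x, hyV⟩ :=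
      PrimeSpectrum.ext hQ'P
    rw [this, hV.fromSpec_primeIdealOf]
  have : z = hU.primeIdealOf ⟨x, hyV⟩ :=
    hU.fromSpec.isOpenEmbedding.injective (hz.trans (hU.fromSpec_primeIdealOf ⟨x, hyV⟩).symm)
  exact congrArg PrimeSpectrum.asIdeal this

end Groth.Agent.S0443
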