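
import Groth.Statements.S4643
import Groth.Agent.L22.GeomConn.Dims

set_option autoImplicit false
open CategoryTheory AlgebraicGeometry
universe u
open FBase

namespace Groth.Agent.S4643

open CategoryTheory.Limits in
/-- Let X and Y be schemes locally of finite type over a field k. Then the dimension of X ×_k Y is the
sum of the dimensions of X and Y (Krull dimensions of the underlying spaces, valued in WithBot ℕ∞,
the empty scheme having dimension ⊥). -/
theorem result {k : Type u} [Field k] {X Y : Scheme.{u}}
    (f : X ⟶ Spec (CommRingCat.of k)) (g : Y ⟶ Spec (CommRingCat.of k)) [LocallyOfFiniteType f] [LocallyOfFiniteType g] :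
    topologicalKrullDim ↥(pullback f g) = topologicalKrullDim ↥X + topologicalKrullDim ↥Y := by
  open CategoryTheory.Limits in
  refine le_antisymm (Groth.L22.GeomConn.dim_le_of_forall_maxPt _ fun w hw => ?_)
    (Groth.L22.GeomConn.add_le_of_forall fun r n hr hn => ?_)
  · rw [(Groth.L22.GeomConn.dim_closure_prod f g hw).2.2]
    exact add_le_add (Groth.L22.GeomConn.dim_closure_le _ _) (Groth.L22.GeomConn.dim_closure_le _ _)
  · obtain ⟨x, hx⟩ := Groth.L22.FibreDim.exists_le_dim_closure hr
    obtain ⟨y, hy⟩ := Groth.L22.FibreDim.exists_le_dim_closure hn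
    obtain ⟨z, hz1, hz2⟩ := Scheme.Pullback.exists_preimage_pullback (f := f) (g := g) x y (Subsingleton.elim (α := PrimeSpectrum k) _ _)
    obtain ⟨w, hw, hwz⟩ := Groth.L22.GeomConn.exists_isMaxPt_specializes z
    obtain ⟨-, -, hd⟩ := Groth.L22.GeomConn.dim_closure_prod f g hw
    refine le_trans ?_ (Groth.L22.GeomConn.dim_closure_le _ w)
    rw [hd]
    push_cast
    refine add_le_add (hx.trans (Groth.L22.SchemeDim.topologicalKrullDim_mono
        (closure_minimal (Set.singleton_subset_iff.2 ?_) isClosed_closure)))
      (hy.trans (Groth.L22.SchemeDim.topologicalKrullDim_mono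
        (closure_minimal (Set.singleton_subset_iff.2 ?_) isClosed_closure)))
    · rw [← hz1]; exact (hwz.map (pullback.fst f g).continuous).mem_closure
    · rw [← hz2]; exact (hwz.map (pullback.snd f g).continuous).mem_closure

end Groth.Agent.S4643
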