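import Groth.Statements.S7654
import Groth.Agent.L22.Norm.DeltaBaseChange
import Groth.Agent.S0543
-- import your own Groth.Agent.* helpers here

set_option autoImplicit false
universe u
open CategoryTheory CategoryTheory.Limits AlgebraicGeometry
open Variety

namespace Groth.Agent.S7654

/-- For a reduced local Nagata ring A of Krull dimension one, the δ-invariant does not change on passing
to a henselization of A, to a strict henselization of A, or to the completion of A. -/
theorem result (A : Type u) [CommRing A] [IsLocalRing A]
    [IsReduced A] (hN : CAlg.IsNagata A) (hdim : ringKrullDim A = 1) :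
    (∀ (B : Type u) [CommRing B] [IsLocalRing B] [Algebra A B] [IsLocalHom (algebraMap A B)],
        Hensel.IsHenselization A B → Curv2.deltaInv B = Curv2.deltaInv A) ∧
      (∀ (B : Type u) [CommRing B] [IsLocalRing B] [Algebra A B] [IsLocalHom (algebraMap A B)],
        Hensel.IsStrictHenselization A B → Curv2.deltaInv B = Curv2.deltaInv A) ∧
      Curv2.deltaInv (Curv2.cpl A) = Curv2.deltaInv A := by
  haveI : IsNoetherianRing A := hN.1
  have hfin := Groth.L22.Norm.finite_integralClosure A hN
  refine ⟨fun B _ _ _ _ hB => ?_, fun B _ _ _ _ hB => ?_, ?_⟩
  · haveI := hB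
    haveI : IsNoetherianRing B := (Groth.L05.Henselization.isNoetherianRing_iff_hens A B).1 inferInstance
    haveI := Groth.L05.Henselization.flat_of_isHenselization A B
    haveI := Groth.L22.Norm.FlatInvariance.isSeparable_of_bijective A B
      (Groth.L05.Henselization.residueField_map_bijective_of_isHenselization A B)
    exact Groth.L22.Norm.FlatInvariance.deltaInv_eq_of_separable A B hfin hdim.le
      (Groth.L05.Henselization.map_maximalIdeal_of_isHenselization A B)
  · haveI := hB
    haveI : IsNoetherianRing B := (Groth.L05.Henselization.isNoetherianRing_iff_strict A B).1 inferInstance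
    haveI := Groth.L05.Henselization.flat_of_isStrictHenselization A B
    haveI : Algebra.IsSeparable (IsLocalRing.ResidueField A) (IsLocalRing.ResidueField B) := hB.isSepClosure.separable
    exact Groth.L22.Norm.FlatInvariance.deltaInv_eq_of_separable A B hfin hdim.le
      (Groth.L05.Henselization.map_maximalIdeal_of_isStrictHenselization A B)
  · haveI : IsNoetherianRing (Curv2.cpl A) := Groth.Agent.S0543.result A _
    have hm : IsLocalRing.maximalIdeal (Curv2.cpl A) = (IsLocalRing.maximalIdeal A).map (algebraMap A (Curv2.cpl A)) :=
      AdicCompletion.maximalIdeal_eq_map_of_fg (IsNoetherian.noetherian _)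
    haveI : IsLocalHom (algebraMap A (Curv2.cpl A)) :=
      ((IsLocalRing.local_hom_TFAE (algebraMap A (Curv2.cpl A))).out 0 2).mpr hm.ge
    haveI := Groth.L22.Norm.FlatInvariance.isSeparable_of_bijective A (Curv2.cpl A)
      (AdicCompletion.residueField_map_bijective A)
    exact Groth.L22.Norm.FlatInvariance.deltaInv_eq_of_separable A (Curv2.cpl A) hfin hdim.le hm.symm

end Groth.Agent.S7654
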