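import Groth.Statements.S10849
import Groth.Agent.L14.VbP1.Birkhoff

set_option autoImplicit false
universe u
open VbP1

namespace Groth.Agent.S10849

/-- Let k be a field and n a natural number. For every invertible n × n matrix A with entries in the
Laurent polynomial ring k[T, T⁻¹] there are matrices P and Q over k[T], invertible over k[T], and
integers d_1 ≥ d_2 ≥ … ≥ d_n (indexed by Fin n, antitone) such that A = P · diag(T^{d_i}) · Q⁻,
where Q⁻ is obtained from Q by the substitution T ↦ T⁻¹ (so Q⁻ is invertible over k[T⁻¹]). -/
theorem result (k : Type u) [Field k] (n : ℕ)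
    (A : Matrix (Fin n) (Fin n) (LaurentPolynomial k)) (hA : IsUnit A) :
    ∃ (P Q : Matrix (Fin n) (Fin n) (Polynomial k)) (d : Fin n → ℤ),
      IsUnit P ∧ IsUnit Q ∧ Antitone d ∧
        A = P.map Polynomial.toLaurent * Matrix.diagonal (fun i => LaurentPolynomial.T (d i)) *
          (Q.map Polynomial.toLaurent).map LaurentPolynomial.invert := by
  exact Groth.L14.VbP1.birkhoff n A hA

end Groth.Agent.S10849
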