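import Groth.Statements.S9612
import Mathlib.RingTheory.Jacobson.Ring
import Mathlib.RingTheory.PrincipalIdealDomain
import Mathlib.Data.Nat.Prime.Infinite
import Mathlib.RingTheory.FiniteType
import Mathlib.RingTheory.Int.Basic

set_option autoImplicit false
universe u
open CAlg

namespace Groth.Agent.S9612

/-- A finite type ℤ-algebra is a Jacobson ring. -/
theorem result {S : Type u} [CommRing S] [Algebra.FiniteType ℤ S] :
    IsJacobsonRing S := by
  haveI : IsJacobsonRing ℤ := by
    rw [isJacobsonRing_iff_prime_eq]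
    intro P hP
    by_cases hP0 : P = ⊥
    · subst hP0
      refine eq_bot_iff.2 fun x hx => ?_
      rw [Ideal.mem_bot]
      by_contra hx0
      obtain ⟨q, hq, hqp⟩ := Nat.exists_infinite_primes (x.natAbs + 1)
      have hqi : Prime (q : ℤ) := Nat.prime_iff_prime_int.1 hqp
      have hmax : (Ideal.span {(q : ℤ)}).IsMaximal :=
        PrincipalIdealRing.isMaximal_of_irreducible hqi.irreducible
      have := (Submodule.mem_sInf.1 hx) _ ⟨bot_le, hmax⟩
      rw [Ideal.mem_span_singleton, Int.natCast_dvd] at this
      have := Nat.le_of_dvd (Int.natAbs_pos.2 hx0) this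
      omega
    · haveI := hP
      haveI := IsPrime.to_maximal_ideal hP0
      exact Ideal.jacobson_eq_self_of_isMaximal
  obtain ⟨s, f, hf⟩ := Algebra.FiniteType.iff_quotient_mvPolynomial.1 ‹Algebra.FiniteType ℤ S›
  haveI : IsJacobsonRing (MvPolynomial {x // x ∈ s} ℤ) := inferInstance
  exact isJacobsonRing_of_surjective ⟨f.toRingHom, hf⟩

end Groth.Agent.S9612
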