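import Groth.Statements.S9127
import Groth.Agent.L03.Catenary

set_option autoImplicit false
universe u
open CAlg

namespace Groth.Agent.S9127

/-- A Noetherian ring is catenary if and only if its quotient by every minimal prime is catenary. -/
theorem result (R : Type u) [CommRing R] [IsNoetherianRing R] :
    CAlg.IsCatenary R ↔ ∀ p ∈ minimalPrimes R, CAlg.IsCatenary (R ⧸ p) := by
  refine ⟨fun h p _ => Groth.L03.Catenary.isCatenary_quotient p h, fun h => ?_⟩
  have key : ∀ p₀ : PrimeSpectrum R, ∃ (p : Ideal R) (_ : CAlg.IsCatenary (R ⧸ p))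
      (e : PrimeSpectrum (R ⧸ p) ↪o PrimeSpectrum R),
      (Set.range e).OrdConnected ∧ ∀ y, p₀ ≤ y → y ∈ Set.range e := by
    intro p₀
    obtain ⟨p, hp, hle⟩ := Ideal.exists_minimalPrimes_le (I := (⊥ : Ideal R)) (J := p₀.asIdeal) bot_le
    let e := Groth.L03.Catenary.comapEmb (Ideal.Quotient.mk p) fun x y h a ha => by
      obtain ⟨b, rfl⟩ := Ideal.Quotient.mk_surjective a
      exact h ha
    have hr : Set.range e = PrimeSpectrum.zeroLocus (p : Set R) := by
      change Set.range (PrimeSpectrum.comap (Ideal.Quotient.mk p)) = _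
      rw [range_comap_of_surjective _ _ Ideal.Quotient.mk_surjective, Ideal.mk_ker]
    exact ⟨p, h p hp, e, hr ▸ ⟨fun x hx y _ z hz => (show (p : Set R) ⊆ x.asIdeal from hx).trans hz.1⟩,
      fun y hy => hr ▸ (fun a ha => hy (hle ha))⟩
  refine ⟨fun p q hpq => ?_, fun s t hh hl hs ht => ?_⟩
  · obtain ⟨m, hm, e, -, he⟩ := key p
    obtain ⟨p', hp'⟩ := he p le_rfl
    obtain ⟨q', hq'⟩ := he q hpq
    obtain ⟨n, hn⟩ := hm.1 p' q' (e.le_iff_le.1 (by rw [hp', hq']; exact hpq))
    refine ⟨n, fun s hh hl => ?_⟩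
    choose s' hs' using fun i => he (s i) (hh ▸ LTSeries.head_le s i)
    exact hn ⟨s.length, s', fun i => e.lt_iff_lt.1 (by rw [hs', hs']; exact s.step i)⟩
      (e.injective (by rw [hp', ← hh]; exact hs' _)) (e.injective (by rw [hq', ← hl]; exact hs' _))
  · obtain ⟨m, hm, e, hconn, he⟩ := key s.head
    choose s' hs' using fun i => he (s i) (LTSeries.head_le s i)
    choose t' ht' using fun i => he (t i) (hh ▸ LTSeries.head_le t i)
    exact hm.2 ⟨s.length, s', fun i => e.lt_iff_lt.1 (by rw [hs', hs']; exact s.step i)⟩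
      ⟨t.length, t', fun i => e.lt_iff_lt.1 (by rw [ht', ht']; exact t.step i)⟩
      (e.injective ((hs' _).trans (hh.trans (ht' _).symm)))
      (e.injective ((hs' _).trans (hl.trans (ht' _).symm)))
      (fun i => (hconn.apply_covBy_apply_iff e).1 (by rw [hs', hs']; exact hs i))
      (fun i => (hconn.apply_covBy_apply_iff e).1 (by rw [ht', ht']; exact ht i))

end Groth.Agent.S9127
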