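import Groth.Statements.S9249
import Groth.Agent.L01.CompletionReg

set_option autoImplicit false
universe u
open CAlg

namespace Groth.Agent.S9249

/-- A Noetherian local ring is Cohen-Macaulay if and only if its completion is. -/
theorem result (A : Type u) [CommRing A] [IsLocalRing A]
    [IsNoetherianRing A] :
    LocCoh.IsCohenMacaulayLocalRing A ↔
      LocCoh.IsCohenMacaulayLocalRing (AdicCompletion (IsLocalRing.maximalIdeal A) A) := by
  haveI := Groth.L01.AnalUnram.isNoetherianRing_completion A
  exact Groth.L05.Henselization.isCohenMacaulayLocalRing_iff_of_map_maximalIdeal A _ (Groth.L01.AnalUnram.completion_map_maximalIdeal A)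

end Groth.Agent.S9249
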