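import Groth.Statements.S6942
import Groth.Agent.L10.DRing.Modules
-- import your own Groth.Agent.* helpers here

set_option autoImplicit false
universe u
open CategoryTheory CategoryTheory.Limits
attribute [local instance] HasDerivedCategory.standard
open DRing

namespace Groth.Agent.S6942

/-- Let R be a Noetherian commutative ring and m an integer. An object K of D(R) is m-pseudo-coherent
exactly when H^i(K) = 0 for all large i and H^i(K) is a finitely generated R-module for each i ≥ m.
Every finitely generated R-module M is pseudo-coherent, and conversely. -/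
theorem result (R : Type u) [CommRing R]
    [IsNoetherianRing R] (m : ℤ) (K : Dual.D R) (M : Type u) [AddCommGroup M] [Module R M] :
    (DRing.IsPseudoCoherent R m K ↔
      (∃ b : ℤ, ∀ i : ℤ, b < i → Subsingleton (Dual.HD R K i)) ∧ ∀ i : ℤ, m ≤ i → Module.Finite R (Dual.HD R K i)) ∧
      (DRing.IsPseudoCoherentModule' R M ↔ Module.Finite R M) := by
  have hmod : ∀ (N : Type u) [AddCommGroup N] [Module R N] [Module.Finite R N] (k : ℤ),
      DRing.IsPseudoCoherentModule R k N := fun N _ _ _ k =>
    Groth.L02.PC.pc_of_pc' (Groth.L10.DR.pcModule'_noetherian N) k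
  refine ⟨⟨fun h => ?_, fun ⟨⟨b, hb⟩, hf⟩ => ?_⟩, ⟨fun h => ?_, fun h => Groth.L10.DR.pcModule'_noetherian M⟩⟩
  · obtain ⟨n, hn⟩ := Groth.L02.PC.exists_LEH h
    refine ⟨⟨n, fun i hi => ModuleCat.subsingleton_of_isZero (hn i hi)⟩, fun i hi => ?_⟩
    obtain ⟨E, a, b', α, hv, hf, hα⟩ := (Groth.L02.PC.pc_iff m K).1 h
    haveI : Module.Finite R (E.homology i) := by
      haveI := (hf i).1
      haveI : IsNoetherian R (E.X i) := isNoetherian_of_isNoetherianRing_of_finite R _
      haveI : IsNoetherian R (E.sc' (i - 1) i (i + 1)).X₂ := ‹IsNoetherian R (E.X i)›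
      haveI : Module.Finite R (LinearMap.ker (E.sc' (i - 1) i (i + 1)).g.hom) :=
        Module.Finite.iff_fg.2 (IsNoetherian.noetherian _)
      haveI := Module.Finite.of_surjective (LinearMap.range (E.sc' (i - 1) i (i + 1)).moduleCatToCycles).mkQ
        (Submodule.mkQ_surjective _)
      exact Module.Finite.equiv (Groth.L02.PC.homologyEquiv E i).symm
    haveI : Module.Finite R ((Groth.L02.PC.HH i).obj (DRing.toD E)) :=
      haveI : Module.Finite R ((HomologicalComplex.homologyFunctor (ModuleCat R) (ComplexShape.up ℤ) i).obj E) :=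
        ‹Module.Finite R (E.homology i)›
      Module.Finite.equiv ((DerivedCategory.homologyFunctorFactors (ModuleCat R) i).app E).toLinearEquiv.symm
    haveI : Epi ((Groth.L02.PC.HH i).map α) := by
      rcases eq_or_lt_of_le hi with rfl | hi'
      · exact hα.2
      · haveI := hα.1 i hi'; infer_instance
    exact Module.Finite.of_surjective ((Groth.L02.PC.HH i).map α).hom
      ((ModuleCat.epi_iff_surjective _).1 inferInstance)
  · refine Groth.L10.DR.pc_of_homology m K b (fun i hi => haveI := hb i hi; ModuleCat.isZero_of_subsingleton _)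
      fun i hi => ?_
    haveI := hf i hi
    exact Groth.L10.DR.pc_single i m (hmod _ _)
  · exact Groth.L10.DR.finite_of_pcModule_zero (Groth.L02.PC.pc_of_pc' h 0)

end Groth.Agent.S6942
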