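import Groth.Statements.S1039
import Groth.Agent.L29.DCoh.PCNoeth

set_option autoImplicit false
set_option backward.isDefEq.respectTransparency false
universe u
open CategoryTheory CategoryTheory.Limits AlgebraicGeometry
attribute [local instance] HasDerivedCategory.standard
open Perf

namespace Groth.Agent.S1039

/-- Let X be a Noetherian scheme, E ∈ D(O_X) with quasi-coherent cohomology sheaves and m ∈ ℤ. Then
m-pseudo-coherence of E is equivalent to: Hⁱ(E) is coherent for every i ≥ m and vanishes for i
large. -/
theorem result (X : Scheme.{u}) [IsNoetherian X] (E : DCoh.D X) (hE : DCoh.IsQCohD E) (m : ℤ) :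
    DCoh.IsPseudoCoherentD m E ↔ (∀ i : ℤ, m ≤ i → Coh.IsCoh (DCoh.HD E i)) ∧ ∃ b : ℤ, E.IsLE b := by
  exact Groth.L29.DC.PCNoeth.pc_iff E hE m

end Groth.Agent.S1039
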