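import Groth.Statements.S7096
import Groth.Agent.L04.Bousfield.Reflection
import Mathlib.Algebra.Category.ModuleCat.AB

set_option autoImplicit false
universe u
attribute [local instance] HasDerivedCategory.standard
open DRing

namespace Groth.Agent.S7096

/-- For a commutative ring A and a finitely generated ideal I, the inclusion of the full subcategory of
I-derived complete objects into D(A) is a right adjoint, i.e. derived completion with respect to I
exists. -/
theorem result {A : Type u} [CommRing A] (I : Ideal A) (hI : I.FG) :
    DRing.HasDerivedCompletion I := by
  have h : DRing.IsDerivedComplete I = fun K => ∀ (p : {f : A // f ∈ I}) (n : ℤ),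
      Subsingleton (Dual.inD A (Localization.Away p.1) ⟶ K⟦n⟧) := by
    ext K
    exact ⟨fun h p n => h p.1 p.2 n, fun h f hf n => h ⟨f, hf⟩ n⟩
  unfold DRing.HasDerivedCompletion
  rw [h]
  exact Groth.L04.Bousfield.isRightAdjoint_ι _

end Groth.Agent.S7096
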