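import Groth.Statements.S1740
import Groth.Agent.L28.HomElt
import Mathlib.CategoryTheory.Monoidal.Tor
import Mathlib.Algebra.Category.ModuleCat.Monoidal.Closed
import Mathlib.Algebra.Category.ModuleCat.Projective
import Mathlib.CategoryTheory.Abelian.LeftDerived
import Mathlib.RingTheory.Finiteness.Basic
import Mathlib.Algebra.Module.FinitePresentation
import Mathlib.LinearAlgebra.TensorProduct.Finiteness
import Mathlib.Algebra.Category.ModuleCat.EnoughInjectives
import Mathlib.Algebra.Category.ModuleCat.Abelian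

set_option autoImplicit false
universe u
open CategoryTheory
attribute [local instance] HasDerivedCategory.standard
open LocCoh

namespace Groth.Agent.S1740

section Helpers

open MonoidalCategory
open scoped TensorProduct

variable {R : Type u} [CommRing R]

theorem lift_range {P X Y : Type u} [AddCommGroup P] [Module R P] [AddCommGroup X] [Module R X]
    [AddCommGroup Y] [Module R Y] [Module.Projective R P] (f : X →ₗ[R] Y) (p : P →ₗ[R] Y)
    (hp : ∀ x, p x ∈ LinearMap.range f) : ∃ g : P →ₗ[R] X, f ∘ₗ g = p := by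
  obtain ⟨g, hg⟩ := Module.projective_lifting_property f.rangeRestrict
    (LinearMap.codRestrict (LinearMap.range f) p hp) f.surjective_rangeRestrict
  exact ⟨g, LinearMap.ext fun x => congrArg Subtype.val (LinearMap.congr_fun hg x)⟩

/-- Pushing back a boundary along a lift between two resolutions. -/
theorem mem_range_ker {F0 F1 Q0 Q1 Q2 N : Type u} [AddCommGroup F0] [Module R F0] [AddCommGroup F1]
    [Module R F1] [AddCommGroup Q0] [Module R Q0] [AddCommGroup Q1] [Module R Q1] [AddCommGroup Q2]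
    [Module R Q2] [AddCommGroup N] [Module R N] [Module.Projective R F0] [Module.Projective R F1]
    [Module.Projective R Q0] [Module.Projective R Q1]
    (A : F1 →ₗ[R] F0) (q : F0 →ₗ[R] N) (hq : Function.Surjective q) (hA : Function.Exact A q)
    (d2 : Q2 →ₗ[R] Q1) (d1 : Q1 →ₗ[R] Q0) (p : Q0 →ₗ[R] N) (hp : Function.Surjective p)
    (hd : Function.Exact d1 p) (h12 : d1 ∘ₗ d2 = 0)
    {M M' : Type u} [AddCommGroup M] [Module R M] [AddCommGroup M'] [Module R M'] (α : M →ₗ[R] M')
    (τ : M ⊗[R] F1) (hτ : LinearMap.lTensor M A τ = 0)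
    (hcyc : ∀ z : M ⊗[R] Q1, LinearMap.lTensor M d1 z = 0 →
      ∃ w : M' ⊗[R] Q2, LinearMap.lTensor M' d2 w = LinearMap.rTensor Q1 α z) :
    LinearMap.rTensor F1 α τ ∈ LinearMap.range (LinearMap.lTensor M' (LinearMap.ker A).subtype) := by
  obtain ⟨f0, hf0⟩ := Module.projective_lifting_property p q hp
  obtain ⟨g0, hg0⟩ := Module.projective_lifting_property q p hq
  obtain ⟨f1, hf1⟩ := lift_range d1 (f0 ∘ₗ A) (fun x => (hd _).1 (by
    rw [LinearMap.comp_apply, ← LinearMap.comp_apply p f0, hf0]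
    exact hA.apply_apply_eq_zero x))
  obtain ⟨g1, hg1⟩ := lift_range A (g0 ∘ₗ d1) (fun x => (hA _).1 (by
    rw [LinearMap.comp_apply, ← LinearMap.comp_apply q g0, hg0]
    exact hd.apply_apply_eq_zero x))
  obtain ⟨s, hs⟩ := lift_range A (g0 ∘ₗ f0 - LinearMap.id) (fun x => (hA _).1 (by
    rw [LinearMap.sub_apply, LinearMap.comp_apply, LinearMap.id_apply, map_sub,
      ← LinearMap.comp_apply q g0, hg0, ← LinearMap.comp_apply p f0, hf0, sub_self]))
  have hz : LinearMap.lTensor M d1 (LinearMap.lTensor M f1 τ) = 0 := by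
    rw [← LinearMap.comp_apply, ← LinearMap.lTensor_comp, hf1, LinearMap.lTensor_comp,
      LinearMap.comp_apply, hτ, map_zero]
  obtain ⟨w, hw⟩ := hcyc _ hz
  have hk2 : ∀ x : Q2, (g1 ∘ₗ d2) x ∈ LinearMap.ker A := fun x => by
    rw [LinearMap.mem_ker, LinearMap.comp_apply, ← LinearMap.comp_apply A g1, hg1,
      LinearMap.comp_apply, ← LinearMap.comp_apply d1 d2, h12]
    simp
  have hk : ∀ x : F1, (g1 ∘ₗ f1 - LinearMap.id - s ∘ₗ A : F1 →ₗ[R] F1) x ∈ LinearMap.ker A := fun x => by
    have e1 : A (g1 (f1 x)) = g0 (f0 (A x)) := by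
      rw [← LinearMap.comp_apply A g1, hg1, LinearMap.comp_apply, ← LinearMap.comp_apply d1 f1, hf1]
      rfl
    have e2 : A (s (A x)) = g0 (f0 (A x)) - A x := LinearMap.congr_fun hs (A x)
    rw [LinearMap.mem_ker]
    simp only [LinearMap.sub_apply, LinearMap.comp_apply, LinearMap.id_apply, map_sub, e1, e2]
    abel
  refine ⟨LinearMap.lTensor M' (LinearMap.codRestrict _ _ hk2) w
    - LinearMap.lTensor M' (LinearMap.codRestrict _ _ hk) (LinearMap.rTensor F1 α τ), ?_⟩
  have c1 : (LinearMap.ker A).subtype ∘ₗ LinearMap.codRestrict _ _ hk2 = g1 ∘ₗ d2 :=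
    LinearMap.ext fun x => rfl
  have c2 : (LinearMap.ker A).subtype ∘ₗ LinearMap.codRestrict _ _ hk =
      g1 ∘ₗ f1 - LinearMap.id - s ∘ₗ A := LinearMap.ext fun x => rfl
  have hA' : LinearMap.lTensor M' A (LinearMap.rTensor F1 α τ) = 0 := by
    rw [← LinearMap.comp_apply, LinearMap.lTensor_comp_rTensor, ← LinearMap.rTensor_comp_lTensor,
      LinearMap.comp_apply, hτ, map_zero]
  have hswap : LinearMap.rTensor Q1 α (LinearMap.lTensor M f1 τ) =
      LinearMap.lTensor M' f1 (LinearMap.rTensor F1 α τ) := by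
    rw [← LinearMap.comp_apply, LinearMap.rTensor_comp_lTensor, ← LinearMap.lTensor_comp_rTensor,
      LinearMap.comp_apply]
  rw [map_sub, ← LinearMap.comp_apply, ← LinearMap.lTensor_comp, c1, ← LinearMap.comp_apply,
    ← LinearMap.lTensor_comp, c2, LinearMap.lTensor_sub, LinearMap.lTensor_sub,
    LinearMap.lTensor_id, LinearMap.lTensor_comp, LinearMap.lTensor_comp, LinearMap.lTensor_comp]
  simp only [LinearMap.sub_apply, LinearMap.comp_apply, LinearMap.id_apply, hA', map_zero, sub_zero,
    hw, hswap]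
  abel

open CategoryTheory in
theorem cycle_boundary {N : ModuleCat.{u} R} (Q : ProjectiveResolution N) {M M' : Type u}
    [AddCommGroup M] [Module R M] [AddCommGroup M'] [Module R M'] (α : M →ₗ[R] M')
    (h : ((Tor (ModuleCat.{u} R) 1).map (ModuleCat.ofHom α)).app N = 0)
    (z : M ⊗[R] (Q.complex.X 1)) (hz : LinearMap.lTensor M (Q.complex.d 1 0).hom z = 0) :
    ∃ w : M' ⊗[R] (Q.complex.X 2), LinearMap.lTensor M' (Q.complex.d 2 1).hom w =
      LinearMap.rTensor (Q.complex.X 1) α z := by
  let φ := (NatTrans.mapHomologicalComplex ((tensoringLeft (ModuleCat.{u} R)).map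
    (ModuleCat.ofHom α)) (ComplexShape.down ℕ)).app Q.complex
  have hφ : HomologicalComplex.homologyMap φ 1 = 0 := by
    have h' : (NatTrans.leftDerived ((tensoringLeft (ModuleCat.{u} R)).map (ModuleCat.ofHom α)) 1).app N
        = 0 := h
    rw [Q.leftDerived_app_eq] at h'
    exact (cancel_mono (Q.isoLeftDerivedObj
      ((tensoringLeft (ModuleCat.{u} R)).obj (ModuleCat.of R M')) 1).inv).1
      (((cancel_epi (Q.isoLeftDerivedObj
        ((tensoringLeft (ModuleCat.{u} R)).obj (ModuleCat.of R M)) 1).hom).1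
          (h'.trans Limits.comp_zero.symm)).trans Limits.zero_comp.symm)
  let K := (((tensoringLeft (ModuleCat.{u} R)).obj (ModuleCat.of R M)).mapHomologicalComplex
    (ComplexShape.down ℕ)).obj Q.complex
  let L := (((tensoringLeft (ModuleCat.{u} R)).obj (ModuleCat.of R M')).mapHomologicalComplex
    (ComplexShape.down ℕ)).obj Q.complex
  obtain ⟨c, hc⟩ := Groth.L28.HomElt.exists_cycle (K := K) (j := 1) (k := 0)
    (ChainComplex.next_nat_succ 0) z hz
  have h0 : L.homologyπ 1 (HomologicalComplex.cyclesMap φ 1 c) = 0 := by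
    rw [← Groth.L28.HomElt.homologyMap_π, hφ]
    rfl
  obtain ⟨w, hw⟩ := (Groth.L28.HomElt.π_eq_zero_iff (ChainComplex.prev ℕ 1) _).1 h0
  refine ⟨w, hw.trans ?_⟩
  rw [Groth.L28.HomElt.iCycles_cyclesMap, hc]
  rfl

theorem factor {M M' : Type u} [AddCommGroup M] [Module R M] [AddCommGroup M'] [Module R M']
    {a b : ℕ} (π : (Fin b → R) →ₗ[R] M) (hπ : Function.Surjective π) (B : Fin a → (Fin b → R))
    (hB : LinearMap.ker π = Submodule.span R (Set.range B)) (α : M →ₗ[R] M')
    (A : (Fin b → R) →ₗ[R] (Fin a → R)) (hA : ∀ v i, A v i = ∑ j, B i j * v j)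
    (hmem : LinearMap.rTensor (Fin b → R) α (∑ j, π (Pi.single j 1) ⊗ₜ[R] (Pi.single j 1 : Fin b → R))
      ∈ LinearMap.range (LinearMap.lTensor M' (LinearMap.ker A).subtype)) :
    ∃ (ι : Type u) (g : M →ₗ[R] (ι →₀ R)) (h : (ι →₀ R) →ₗ[R] M'), α = h ∘ₗ g := by
  classical
  obtain ⟨y, hy⟩ := hmem
  obtain ⟨S, rfl⟩ := TensorProduct.exists_finset y
  let g' : (Fin b → R) →ₗ[R] (↥S →₀ R) :=
    (Finsupp.linearEquivFunOnFinite R R ↥S).symm.toLinearMap ∘ₗ
      LinearMap.pi (fun k : ↥S => ∑ j, ((k.1.2 : Fin b → R) j) • LinearMap.proj j)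
  have hg' : ∀ v (k : ↥S), g' v k = ∑ j, (k.1.2 : Fin b → R) j * v j := fun v k => by
    simp [g']
  have hker : LinearMap.ker π ≤ LinearMap.ker g' := by
    rw [hB, Submodule.span_le]
    rintro _ ⟨i, rfl⟩
    rw [SetLike.mem_coe, LinearMap.mem_ker]
    ext k
    have := congrFun (LinearMap.mem_ker.1 k.1.2.2) i
    rw [hA, Pi.zero_apply] at this
    rw [hg', Finsupp.zero_apply, ← this]
    exact Finset.sum_congr rfl fun j _ => mul_comm _ _
  refine ⟨↥S, (LinearMap.ker π).liftQ g' hker ∘ₗ
    (π.quotKerEquivOfSurjective hπ).symm.toLinearMap,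
    Finsupp.linearCombination R (fun k : ↥S => k.1.1), ?_⟩
  refine LinearMap.ext fun m => ?_
  obtain ⟨v, rfl⟩ := hπ m
  have hsymm : (π.quotKerEquivOfSurjective hπ).symm (π v) = Submodule.Quotient.mk v := by
    rw [LinearEquiv.symm_apply_eq]
    rfl
  rw [LinearMap.comp_apply, LinearMap.comp_apply, LinearEquiv.coe_coe, hsymm,
    Submodule.liftQ_apply]
  change (α ∘ₗ π) v = (Finsupp.linearCombination R (fun k : ↥S => k.1.1) ∘ₗ g') v
  congr 1
  refine (Pi.basisFun R (Fin b)).ext fun j => ?_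
  rw [Pi.basisFun_apply, LinearMap.comp_apply, LinearMap.comp_apply,
    Finsupp.linearCombination_apply, Finsupp.sum_fintype _ _ (fun k => by simp)]
  have hj := congrArg (fun t => TensorProduct.rid R M'
    (LinearMap.lTensor M' (LinearMap.proj j : (Fin b → R) →ₗ[R] R) t)) hy
  simp only [map_sum, LinearMap.lTensor_tmul, LinearMap.rTensor_tmul, TensorProduct.rid_tmul,
    Submodule.subtype_apply, LinearMap.proj_apply] at hj
  have hl : ∀ j' : Fin b, (Pi.single j' (1 : R) : Fin b → R) j • α (π (Pi.single j' 1)) =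
      if j' = j then α (π (Pi.single j 1)) else 0 := fun j' => by
    rcases eq_or_ne j' j with rfl | hne
    · simp
    · simp [hne, Pi.single_eq_of_ne (Ne.symm hne)]
  rw [Finset.sum_congr rfl fun j' _ => hl j', Finset.sum_ite_eq' Finset.univ j,
    if_pos (Finset.mem_univ j)] at hj
  rw [← hj, ← Finset.sum_coe_sort S]
  refine Finset.sum_congr rfl fun k _ => ?_
  rw [hg']
  simp [Pi.single_apply]

end Helpers

open CategoryTheory
open LocCoh



/-- Let α : M → M' be a map of R-modules with M finitely presented such that the induced map Tor_1(M, N)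
→ Tor_1(M', N) is zero for every R-module N. Then α is the composite of a map from M into a free
R-module and a map from that free module to M'. -/
theorem result (R : Type u) [CommRing R] (M M' : Type u) [AddCommGroup M] [Module R M] [Module.FinitePresentation R M] [AddCommGroup M'] [Module R M'] (α : M →ₗ[R] M') (h : ∀ (N : Type u) [AddCommGroup N] [Module R N], ((CategoryTheory.Tor (ModuleCat.{u} R) 1).map (ModuleCat.ofHom α)).app (ModuleCat.of R N) = 0) : ∃ (ι : Type u) (g : M →ₗ[R] (ι →₀ R)) (h : (ι →₀ R) →ₗ[R] M'), α = h ∘ₗ g := by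
  classical
  obtain ⟨b, K, e, hK⟩ := Module.FinitePresentation.exists_fin R M
  obtain ⟨a, B, hB⟩ := Submodule.fg_iff_exists_fin_generating_family.1 hK
  let π : (Fin b → R) →ₗ[R] M := e.symm.toLinearMap ∘ₗ K.mkQ
  have hπ : Function.Surjective π := e.symm.surjective.comp K.mkQ_surjective
  have hker : LinearMap.ker π = Submodule.span R (Set.range B) := by
    rw [LinearEquiv.ker_comp, Submodule.ker_mkQ, hB]
  let A : (Fin b → R) →ₗ[R] (Fin a → R) :=
    LinearMap.pi (fun i => ∑ j, B i j • LinearMap.proj j)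
  have hA : ∀ v i, A v i = ∑ j, B i j * v j := fun v i => by simp [A]
  let N := ModuleCat.of R ((Fin a → R) ⧸ LinearMap.range A)
  let Q := projectiveResolution N
  haveI : ∀ n, Module.Projective R (Q.complex.X n) := fun n =>
    (IsProjective.iff_projective _).mpr (Q.projective n)
  refine factor π hπ B hker α A hA ?_
  refine mem_range_ker A (LinearMap.range A).mkQ (Submodule.mkQ_surjective _)
    (LinearMap.exact_map_mkQ_range A) (Q.complex.d 2 1).hom (Q.complex.d 1 0).hom (Q.π.f 0).hom
    ((ModuleCat.epi_iff_surjective _).1 inferInstance)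
    ((ShortComplex.ShortExact.moduleCat_exact_iff_function_exact _).1 Q.exact₀)
    (by rw [← ModuleCat.hom_comp, HomologicalComplex.d_comp_d]; rfl) α _ ?_
    (fun z hz => cycle_boundary Q α (h _) z hz)
  rw [map_sum]
  have hAe : ∀ j, A (Pi.single j 1) = ∑ i, B i j • (Pi.single i (1 : R) : Fin a → R) := fun j => by
    ext i
    simp [hA, Pi.single_apply]
  simp_rw [LinearMap.lTensor_tmul, hAe, TensorProduct.tmul_sum, TensorProduct.tmul_smul,
    TensorProduct.smul_tmul']
  rw [Finset.sum_comm]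
  refine Finset.sum_eq_zero fun i _ => ?_
  rw [← TensorProduct.sum_tmul]
  have : π (B i) = 0 := LinearMap.mem_ker.1 (hker ▸ Submodule.subset_span ⟨i, rfl⟩)
  rw [pi_eq_sum_univ (B i), map_sum] at this
  have hs : ∑ j, B i j • π (Pi.single j (1 : R)) = 0 := by
    refine Eq.trans (Finset.sum_congr rfl fun j _ => ?_) this
    rw [map_smul]
    congr 1
    apply congrArg
    ext l
    rcases eq_or_ne l j with rfl | hne
    · simp
    · simp [hne, Ne.symm hne]
  rw [hs, TensorProduct.zero_tmul]


end Groth.Agent.S1740
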