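import Groth.Statements.S7450
import Groth.Agent.L19.Curves.Valuative

set_option autoImplicit false
set_option backward.isDefEq.respectTransparency.types false
set_option backward.isDefEq.respectTransparency false
set_option linter.style.haveILetI false
universe u
open CategoryTheory AlgebraicGeometry
open Lim

namespace Groth.Agent.S7450

/-- Assume `S` is a Nagata scheme and `f : X → Y` is a morphism over `S` between schemes `X`, `Y` that
are locally of finite type over `S`. Then `f` is separated exactly when the following holds. Take
any normal integral scheme `C` of finite type over `S` and a closed point `c ∈ C` such that the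
local ring `A = O_{C,c}` is one-dimensional, put `U = C ∖ {c}`, and consider any commutative diagram
of `S`-schemes formed by `U → X` and `C → Y`. Then at most one morphism `Spec A → X` makes the
square with `Spec K → X` and `Spec A → Y` commute. -/
theorem result (S : Scheme.{u}) (hS : ∀ W : S.affineOpens, CAlg.IsNagata Γ(S, W))
    {X Y : Scheme.{u}} (p : X ⟶ S) (q : Y ⟶ S) [LocallyOfFiniteType p] [LocallyOfFiniteType q] (f : X ⟶ Y)
    (hf : f ≫ q = p) :
    IsSeparated f ↔
      ∀ (C : Scheme.{u}) (r : C ⟶ S) [IsIntegral C] [LocallyOfFiniteType r] [QuasiCompact r],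
        (∀ x : C, IsIntegrallyClosed (C.presheaf.stalk x)) →
        ∀ (c : C), IsClosed ({c} : Set C) → ringKrullDim (C.presheaf.stalk c) = 1 →
        ∀ (U : C.Opens), (U : Set C) = {c}ᶜ →
        ∀ (u : (U : Scheme.{u}) ⟶ X) (g : C ⟶ Y), g ≫ q = r → u ≫ f = U.ι ≫ g →
        ∀ (k : Spec (CommRingCat.of (FractionRing (C.presheaf.stalk c))) ⟶ (U : Scheme.{u})),
          k ≫ U.ι = Spec.map (CommRingCat.ofHom (algebraMap (C.presheaf.stalk c)
            (FractionRing (C.presheaf.stalk c)))) ≫ C.fromSpecStalk c →
        ∀ l l' : Spec (C.presheaf.stalk c) ⟶ X,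
          l ≫ f = C.fromSpecStalk c ≫ g →
          Spec.map (CommRingCat.ofHom (algebraMap (C.presheaf.stalk c) (FractionRing (C.presheaf.stalk c)))) ≫ l =
            k ≫ u →
          l' ≫ f = C.fromSpecStalk c ≫ g →
          Spec.map (CommRingCat.ofHom (algebraMap (C.presheaf.stalk c) (FractionRing (C.presheaf.stalk c)))) ≫ l' =
            k ≫ u → l = l' := by
  subst hf
  haveI : LocallyOfFiniteType f := locallyOfFiniteType_of_comp f q
  haveI := Groth.L19.Curves.isLocallyNoetherian_of_nagata hS
  haveI : IsLocallyNoetherian Y := LocallyOfFiniteType.isLocallyNoetherian q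
  haveI : IsLocallyNoetherian X := LocallyOfFiniteType.isLocallyNoetherian f
  constructor
  · intro _ C r _ _ _ hn c _ hdim U _ u g _ huf k hk l l' hl hlk hl' hlk'
    haveI : IsLocallyNoetherian C := LocallyOfFiniteType.isLocallyNoetherian r
    haveI := hn c
    haveI := Groth.L19.Curves.valuationRing_of_dim_one hdim
    have := IsSeparated.valuativeCriterion f
      { R := C.presheaf.stalk c, K := FractionRing (C.presheaf.stalk c),
        i₁ := k ≫ u, i₂ := C.fromSpecStalk c ≫ g,
        commSq := ⟨by rw [Category.assoc, huf, reassoc_of% hk]⟩ }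
    exact congrArg CommSq.LiftStruct.l
      (Subsingleton.elim (α := CommSq.LiftStruct _) ⟨l, hlk, hl⟩ ⟨l', hlk', hl'⟩)
  · intro H
    haveI : QuasiSeparated f := .of_comp f (Limits.terminal.from Y)
    haveI : LocallyOfFiniteType (Limits.pullback.diagonal f) := by
      haveI : LocallyOfFiniteType (Limits.pullback.diagonal f ≫ Limits.pullback.fst f f) := by
        rw [Limits.pullback.diagonal_fst]; infer_instance
      exact locallyOfFiniteType_of_comp _ (Limits.pullback.fst f f)
    have key : UniversallyClosed (Limits.pullback.diagonal f) := by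
      refine Groth.L19.Curves.universallyClosed_of_curveLifts
        (Limits.pullback.fst f f ≫ f ≫ q) (Limits.pullback.diagonal f) hS ?_
      intro C r _ _ _ hn c hc hdim U hU u g hg huf k hk
      have h1 : u = U.ι ≫ g ≫ Limits.pullback.fst f f := by
        have := congr($huf ≫ Limits.pullback.fst f f)
        simpa using this
      have h2 : u = U.ι ≫ g ≫ Limits.pullback.snd f f := by
        have := congr($huf ≫ Limits.pullback.snd f f)
        simpa using this
      have he : C.fromSpecStalk c ≫ g ≫ Limits.pullback.fst f f =
          C.fromSpecStalk c ≫ g ≫ Limits.pullback.snd f f := by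
        refine H C r hn c hc hdim U hU u (g ≫ Limits.pullback.fst f f ≫ f)
          (by simpa using hg) (by rw [h1]; simp) k hk _ _ ?_ ?_ ?_ ?_
        · simp
        · rw [h1, reassoc_of% hk]
        · simp [Limits.pullback.condition]
        · rw [h2, reassoc_of% hk]
      refine ⟨C.fromSpecStalk c ≫ g ≫ Limits.pullback.fst f f, ?_, ?_⟩
      · apply Limits.pullback.hom_ext
        · simp
        · simp [he]
      · rw [h1, reassoc_of% hk]
    exact ⟨.of_isPreimmersion _ (Limits.pullback.diagonal f).isClosedMap.isClosed_range⟩

end Groth.Agent.S7450
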