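import Groth.Statements.S12483
import Groth.Agent.L17.Duality

set_option autoImplicit false
universe u
open CategoryTheory CategoryTheory.Limits AlgebraicGeometry
open Coherent

namespace Groth.Agent.S12483

/-- Let `X` be a scheme, `A` an `O_X`-module which is finite locally free (every point has an open
neighbourhood over which `A` is isomorphic to some `O^n`) and for which the internal Hom functor
`Hom_{O_X}(A, -)` exists (right adjoint of `A ⊗ -`), `B` any `O_X`-module and `p ≥ 0`. Then
`Ext^p_{O_X}(X; A, B)`, the Ext group computed in the category of `O_X`-modules, is isomorphic to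
`H^p(X, Hom_{O_X}(A, B))`. (Existence of an isomorphism of abelian groups only; the published
isomorphisms are canonical, the edge maps of the local-to-global spectral sequence for Ext. The
published statement is for an arbitrary ringed space; this row is the case of a scheme.) -/
theorem result (X : Scheme.{u}) [HasExt.{u} X.Modules]
    (A B : X.Modules) (hA : FlatMod.IsFinLocFree A) [DCoh.HasSheafHom A] (p : ℕ) :
    Nonempty (Abelian.Ext A B p ≃+ Coh.HH X ((DCoh.sheafHom A).obj B) p) := by
  haveI := Groth.L17.Duality.hasSheafHom A
  obtain ⟨e⟩ := Groth.L17.Duality.nonempty_ext_iso_cohomology A hA B p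
  let i : (DCoh.tensorBi (X := X)).obj A ≅ Groth.L00.Tensor.tensorLeftF A :=
    NatIso.ofComponents (fun M => Iso.refl _) (fun {M N} g => by
      refine (Category.comp_id _).trans (Eq.trans ?_ (Category.id_comp _).symm)
      refine congrArg (Groth.L00.Tensor.shf X).map ?_
      exact ((congrArg (fun k => MonoidalCategoryStruct.tensorHom k ((Groth.L00.Tensor.preF X).map g))
        ((Groth.L00.Tensor.preF X).map_id A)).trans (MonoidalCategory.id_tensorHom _ _)).symm)
  let j : DCoh.sheafHom A ≅ Groth.L17.ChangeRings.homMod A :=
    ((DCoh.sheafHomAdj A).ofNatIsoLeft (i ≪≫ (Groth.L00.Tensor.tensorFlipIso A).symm ≪≫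
      Groth.L17.ChangeRings.tensorRightBiIso A)).rightAdjointUniq (ModSite.sheafHomAdj (O := X.sheaf) A)
  exact ⟨e.trans (((CategoryTheory.Sheaf.functorH _ p).mapIso
    ((SheafOfModules.toSheaf X.ringCatSheaf).mapIso (j.app B).symm)).addCommGroupIsoToAddEquiv)⟩

end Groth.Agent.S12483
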