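import Groth.Statements.S13497
import Groth.Agent.L10.DRing.CompletionH0

set_option autoImplicit false
set_option backward.defeqAttrib.useBackward true
set_option backward.isDefEq.respectTransparency false
universe u
open CategoryTheory CategoryTheory.Limits
attribute [local instance] HasDerivedCategory.standard
open LocCoh

namespace Groth.Agent.S13497

/-- Let I and J be ideals of a Noetherian ring A which is I-adically complete, and M a finite A-module.
Then H^0 of the derived I-adic completion of RGamma_J(M) is the filtered colimit (union) of the
submodules H^0_{V(J')}(M) of J'-power torsion elements of M, over the ideals J' contained in J with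
V(J') ∩ V(I) = V(J) ∩ V(I), that is with J contained in the radical of J' + I. Precisely: the map on
H^0 induced by the completion of RGamma_J(M) -> M is injective, and its range is the image of that
union under M -> H^0(M^) (H^0 of the completion unit of M in degree 0). RGamma_J is the total right
derived functor of the J-power torsion functor (which is RGamma_{V(J)} since A is Noetherian); its
existence, and that of derived I-completion, are instance hypotheses. -/
theorem result (A : Type u) [CommRing A] [IsNoetherianRing A] (I J : Ideal A) [IsAdicComplete I A] [DRing.HasRgammaI J] [DRing.HasDerivedCompletion I] (M : Type u) [AddCommGroup M] [Module A M] [Module.Finite A M] : Function.Injective ((DerivedCategory.homologyFunctor (ModuleCat.{u} A) 0).map ((ObjectProperty.ι (DRing.IsDerivedComplete I)).map ((DRing.derivedCompletion I).map ((DRing.RgammaIε J).app (Dual.inD A M))))).hom ∧ Set.range ((DerivedCategory.homologyFunctor (ModuleCat.{u} A) 0).map ((ObjectProperty.ι (DRing.IsDerivedComplete I)).map ((DRing.derivedCompletion I).map ((DRing.RgammaIε J).app (Dual.inD A M))))).hom = (fun s : M => ((DerivedCategory.homologyFunctor (ModuleCat.{u} A) 0).map (DRing.toDerivedCompletion I (Dual.inD A M))).hom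 (((DerivedCategory.singleFunctorCompHomologyFunctorIso (ModuleCat.{u} A) 0).inv.app (ModuleCat.of A M)).hom s)) '' {s : M | ∃ J' : Ideal A, J' ≤ J ∧ J ≤ (J' ⊔ I).radical ∧ s ∈ DRing.torsionSub J' M} := by
  exact Groth.L10.CompletionH0.main I J M

end Groth.Agent.S13497
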