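import Groth.Statements.S1812
import Groth.Agent.L04.RGamma.Derived
import Groth.Agent.L04.RGamma.HDI

set_option autoImplicit false
universe u
open CategoryTheory
attribute [local instance] HasDerivedCategory.standard
open LocCoh

namespace Groth.Agent.S1812

/-- Let A be a ring, I a finitely generated ideal and K an object of D(A); assume the total right
derived functor RΓ_I of the I-power torsion functor exists. Then for every q the A-module
H^q(RΓ_I(K)) is isomorphic to the direct limit over n of the A-modules of maps A/I^n → K[q] in D(A). -/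
theorem result (A : Type u) [CommRing A] (I : Ideal A) (hI : I.FG) [DRing.HasRgammaI I] (K : Dual.D A) (q : ℤ) : Nonempty (Dual.HD A ((DRing.RgammaI I).obj K) q ≃ₗ[A] Dual2.HDI A I K q) := by

    open CategoryTheory Groth.L04.RGamma in
    obtain ⟨R, hR, -, ⟨e⟩⟩ := exists_rep K
    haveI := isIso_toR_of_isKInjective I R
    let eX : DRing.toD (R⟦q⟧) ≅ K⟦q⟧ := (DerivedCategory.Q.commShiftIso q).app R ≪≫
      (shiftFunctor (Dual.D A) q).mapIso (((DerivedCategory.quotientCompQhIso _).app R).symm ≪≫ e)
    obtain ⟨c⟩ := exists_homology_zero_gammaCx_equiv_colimit I (R⟦q⟧) eX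
    let i : ((gammaCx I).obj (R⟦q⟧)).homology 0 ≅ ((gammaCx I).obj R).homology q :=
      (HomologicalComplex.homologyFunctor (ModuleCat.{u} A) (ComplexShape.up ℤ) 0).mapIso
        ((((DRing.gammaI I).mapHomologicalComplex (ComplexShape.up ℤ)).commShiftIso q).app R) ≪≫
      ((HomologicalComplex.homologyFunctor (ModuleCat.{u} A) (ComplexShape.up ℤ) 0).shiftIso q 0 q (add_zero q)).app
        ((gammaCx I).obj R)
    exact ⟨((DerivedCategory.homologyFunctor _ q).mapIso ((DRing.RgammaI I).mapIso e.symm ≪≫
      (asIso (toR I R)).symm) ≪≫ hdIso ((gammaCx I).obj R) q ≪≫ i.symm).toLinearEquiv ≪≫ₗ c.symm⟩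

end Groth.Agent.S1812
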