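import Groth.Statements.S1746
import Groth.Agent.L29.Dual.Devissage

set_option autoImplicit false
universe u
open CategoryTheory
attribute [local instance] HasDerivedCategory.standard
open Dual

namespace Groth.Agent.S1746

/-- Let A be a Noetherian ring and K, L objects of D(A) all of whose cohomology modules are finite
A-modules, with L of finite injective dimension. Then for every integer i the A-module of maps K →
L[i] in D(A) (the i-th cohomology of RHom(K, L)) is a finite A-module. -/
theorem result (A : Type u) [CommRing A] [IsNoetherianRing A] (K L : Dual.D A) (hK : ∀ i : ℤ, Module.Finite A (Dual.HD A K i)) (hL : ∀ i : ℤ, Module.Finite A (Dual.HD A L i)) (hLi : DRing.HasFiniteInjDim A L) (i : ℤ) : Module.Finite A (K ⟶ L⟦i⟧) := by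
  obtain ⟨a, b, I, hI, hinj, ⟨eI⟩⟩ := hLi
  open Groth.L29.HomD in
  have hsep : ∀ (X : Dual.D A) (j : ℤ),
      ((∃ n, X.IsLE n ∧ n + j < a) ∨ (∃ n, X.IsGE n ∧ b < n + j)) → Subsingleton (X ⟶ L⟦j⟧) :=
    fun X j h =>
      haveI := subsingleton_of_separated I a b hI hinj X j h
      (CategoryTheory.Linear.homCongr A (CategoryTheory.Iso.refl X)
        ((CategoryTheory.shiftFunctor (Dual.D A) j).mapIso eI)).symm.toEquiv.subsingleton
  have hgood : Groth.L29.HomD.Good L := ⟨⟨a, fun M _ _ j hj => hsep _ j
    (Or.inl ⟨0, inferInstance, by lia⟩)⟩, hL⟩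
  -- the truncation of `K` to `[lo, hi)`
  let lo : ℤ := a - i - 1
  let hi : ℤ := b - i + 2
  haveI hLT : ∀ X : Dual.D A, DerivedCategory.IsLE ((DerivedCategory.TStructure.t.truncLT lo).obj X) (lo - 1) :=
    fun X => inferInstanceAs (DerivedCategory.TStructure.t.IsLE _ _)
  let Y := (DerivedCategory.TStructure.t.truncLT hi).obj K
  let Z := (DerivedCategory.TStructure.t.truncGE lo).obj Y
  haveI : Z.IsGE lo := inferInstance
  haveI : Y.IsLE (hi - 1) := inferInstanceAs (DerivedCategory.TStructure.t.IsLE _ _)
  haveI : Z.IsLE (hi - 1) :=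
    inferInstanceAs (DerivedCategory.TStructure.t.IsLE ((DerivedCategory.TStructure.t.truncGE lo).obj Y) (hi - 1))
  have hZ : ∀ j : ℤ, Module.Finite A (Z ⟶ L⟦j⟧) := by
    intro j
    refine Groth.L29.HomD.bounded_induction (fun X => ∀ j : ℤ, Module.Finite A (X ⟶ L⟦j⟧))
      ?_ ?_ ?_ Z lo (hi - 1) ?_ j
    · intro X X' e hX j
      haveI := hX j
      exact Module.Finite.equiv (CategoryTheory.Linear.homCongr A e (CategoryTheory.Iso.refl _))
    · intro T hT h1 h3 j
      exact Groth.L29.HomD.finite_of_triangle T hT _ (h1 j) (h3 j)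
    · intro X hX j
      haveI : Subsingleton (X ⟶ L⟦j⟧) := ⟨fun p q => hX.eq_of_src p q⟩
      infer_instance
    · intro n h1 h2 j
      haveI : Module.Finite A (Dual.HD A Z n) := by
        haveI i1 := Groth.L10.isIso_H_π (A := ModuleCat.{u} A) lo n h1 Y
        haveI i2 := Groth.L10.isIso_H_ι (A := ModuleCat.{u} A) hi n (by lia) K
        haveI : Module.Finite A ((DerivedCategory.homologyFunctor (ModuleCat.{u} A) n).obj
          ((CategoryTheory.Functor.id _).obj K)) := hK n
        exact Module.Finite.equiv ((CategoryTheory.asIso ((DerivedCategory.homologyFunctor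
            (ModuleCat.{u} A) n).map ((DerivedCategory.TStructure.t.truncLTι hi).app K))).symm ≪≫
          CategoryTheory.asIso ((DerivedCategory.homologyFunctor (ModuleCat.{u} A) n).map
            ((DerivedCategory.TStructure.t.truncGEπ lo).app Y))).toLinearEquiv
      haveI := Groth.L29.HomD.finite_hom L hgood (Dual.HD A Z n) (j + n)
      exact Module.Finite.equiv (Groth.L29.HomD.singleHomEquiv L _ n j).symm
  have hY : Module.Finite A (Y ⟶ L⟦i⟧) := by
    refine Groth.L29.HomD.finite_of_triangle _
      (DerivedCategory.TStructure.t.triangleLTGE_distinguished lo Y) _ ?_ (hZ i)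
    haveI := hsep ((DerivedCategory.TStructure.t.truncLT lo).obj Y) i
      (Or.inl ⟨lo - 1, hLT Y, by lia⟩)
    exact inferInstanceAs (Module.Finite A ((DerivedCategory.TStructure.t.truncLT lo).obj Y ⟶ L⟦i⟧))
  refine Groth.L29.HomD.finite_of_triangle _
    (DerivedCategory.TStructure.t.triangleLTGE_distinguished hi K) _ hY ?_
  haveI := hsep ((DerivedCategory.TStructure.t.truncGE hi).obj K) i
    (Or.inr ⟨hi, inferInstance, by lia⟩)
  exact inferInstanceAs (Module.Finite A ((DerivedCategory.TStructure.t.truncGE hi).obj K ⟶ L⟦i⟧))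

end Groth.Agent.S1746
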