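import Groth.Statements.S1816
import Groth.Agent.L04.RGamma.Derived

set_option autoImplicit false
universe u
open CategoryTheory
attribute [local instance] HasDerivedCategory.standard
open LocCoh

namespace Groth.Agent.S1816

/-- First statement, for a Noetherian ring (where RΓ with support in V(I) is RΓ_I). Let A be a
Noetherian ring, I and J ideals, and assume the total right derived functors RΓ_I, RΓ_J and RΓ_{I+J}
exist. Then for every K in D(A), RΓ_J(RΓ_I(K)) is isomorphic to RΓ_{I+J}(K). -/
theorem result (A : Type u) [CommRing A] [IsNoetherianRing A] (I J : Ideal A) [DRing.HasRgammaI I] [DRing.HasRgammaI J] [DRing.HasRgammaI (I ⊔ J)] (K : Dual.D A) : Nonempty ((DRing.RgammaI J).obj ((DRing.RgammaI I).obj K) ≅ (DRing.RgammaI (I ⊔ J)).obj K) := by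

    open CategoryTheory Groth.L04.RGamma in
    obtain ⟨R, hR, hinj, ⟨e⟩⟩ := exists_rep K
    haveI := isIso_toR_of_isKInjective I R
    haveI := isIso_toR_of_isKInjective (I ⊔ J) R
    haveI := isIso_toR J ((gammaCx I).obj R) (injective_gammaCx I R hinj)
    let c : (gammaCx J).obj ((gammaCx I).obj R) ≅ (gammaCx (I ⊔ J)).obj R :=
      HomologicalComplex.Hom.isoOfComponents (fun n => LinearEquiv.toModuleIso
        { toFun := fun x => ⟨x.1.1, mem_torsionSub_sup.2 ⟨x.1.2, x.2.imp fun k hk a ha => congrArg Subtype.val (hk a ha)⟩⟩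
          invFun := fun x => ⟨⟨x.1, (mem_torsionSub_sup.1 x.2).1⟩,
            (mem_torsionSub_sup.1 x.2).2.imp fun k hk a ha => Subtype.ext (hk a ha)⟩
          map_add' := fun _ _ => rfl
          map_smul' := fun _ _ => rfl
          left_inv := fun _ => rfl
          right_inv := fun _ => rfl }) (fun _ _ _ => rfl)
    exact ⟨(DRing.RgammaI J).mapIso ((DRing.RgammaI I).mapIso e.symm ≪≫ (asIso (toR I R)).symm) ≪≫
      (asIso (toR J ((gammaCx I).obj R))).symm ≪≫ qq.mapIso c ≪≫ asIso (toR (I ⊔ J) R) ≪≫
      (DRing.RgammaI (I ⊔ J)).mapIso e⟩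

end Groth.Agent.S1816
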