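import Groth.Statements.S6059
import Groth.Agent.L25.MonoNhd.Kernel
import Groth.Agent.L25.MonoFibres

set_option autoImplicit false
set_option backward.isDefEq.respectTransparency.types false
open CategoryTheory MonoidalCategory CartesianMonoidalCategory MonObj GrpObj AlgebraicGeometry
universe u
open SGA3x

namespace Groth.Agent.S6059

/-- Let u : H ⟶ G be a homomorphism of S-groups, with H of multiplicative type and of finite type and G
separated over S, and suppose S locally Noetherian or G locally of finite presentation over S. If s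
∈ S is a point such that u_s : H_s ⟶ G_s is a monomorphism, then there is an open neighbourhood U of
s such that the homomorphism H|_U ⟶ G|_U induced above U is a monomorphism. -/
theorem result {S : Scheme.{u}} (H G : Over S) [GrpObj H] [GrpObj G]
    (hH : SGA3x.IsMultTypeFT H) [IsSeparated G.hom] (hG : IsLocallyNoetherian S ∨ LocallyOfFinitePresentation G.hom)
    (u : H ⟶ G) [IsMonHom u] (s : S)
    (hs : Mono ((Over.pullback (S.fromSpecResidueField s)).map u).left) :
    ∃ U : S.Opens, s ∈ U ∧ Mono ((Over.pullback U.ι).map u).left := by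
  obtain ⟨_, ⟨V, hV, rfl⟩, hsV, -⟩ := S.isBasis_affineOpens.exists_subset_of_mem_open
    (show s ∈ (⊤ : S.Opens) from trivial) (⊤ : S.Opens).2
  obtain ⟨p, hp⟩ : s ∈ Set.range hV.fromSpec := hV.range_fromSpec.ge hsV
  let j := hV.fromSpec
  have hH' : SGA3x.IsMultTypeFT (Red.bc j H) := Groth.L25.MultTypeBC.isMultTypeFT_bc hH j
  have : IsSeparated (Red.bc j G).hom := MorphismProperty.pullback_snd G.hom j ‹_›
  have hG' : IsNoetherianRing Γ(S, V) ∨ LocallyOfFinitePresentation (Red.bc j G).hom := by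
    rcases hG with h | h
    · exact Or.inl (IsLocallyNoetherian.component_noetherian ⟨V, hV⟩)
    · exact Or.inr (MorphismProperty.pullback_snd G.hom j h)
  obtain ⟨B, _, _, _, i, hcoc, hi, hic, hker⟩ :=
    Groth.L25.MonoNhd.exists_kernel hH' hG' ((Over.pullback j).map u)
  have : Mono i := Over.mono_of_mono_left i
  have hfib : ∀ (Q : Type u) [CommRing Q] [Algebra Γ(S, V) Q],
      (∀ r ∈ p.asIdeal, algebraMap Γ(S, V) Q r = 0) → (∀ r ∉ p.asIdeal, IsUnit (algebraMap Γ(S, V) Q r)) →
      ∀ a : B →ₐ[Γ(S, V)] Q, a = (Algebra.ofId Γ(S, V) Q).comp (Bialgebra.counitAlgHom Γ(S, V) B) := by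
    intro Q _ _ hQ0 hQ1 a
    let x : Groth.L25.MonoNhd.P Γ(S, V) Q ⟶ Red.bc j H := Spec.mapMulEquiv (WithConv.toConv a) ≫ i
    let z := Groth.L25.NilAction.toBase j x
    have hz : z ≫ u = 1 := by
      rw [← Groth.L25.Locus.toBase_map, (hker _ x).1 ⟨_, rfl⟩, Groth.L25.NilAction.toBase_one]
    let K := p.asIdeal.ResidueField
    let ξ : Spec (CommRingCat.of K) ⟶ S :=
      Spec.map (CommRingCat.ofHom (algebraMap Γ(S, V) K)) ≫ j
    have hξ : ξ (IsLocalRing.closedPoint K) = s := by
      rw [← hp]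
      show j (Spec.map (CommRingCat.ofHom (algebraMap Γ(S, V) K)) (IsLocalRing.closedPoint K)) = j p
      congr 1
      refine PrimeSpectrum.ext ?_
      show (IsLocalRing.maximalIdeal K).comap (algebraMap Γ(S, V) K) = p.asIdeal
      rw [IsLocalRing.maximalIdeal_eq_bot]
      exact Ideal.ker_algebraMap_residueField p.asIdeal
    let ρ : K →+* Q := Ideal.ResidueField.lift p.asIdeal (algebraMap Γ(S, V) Q)
      (fun r hr => hQ0 r hr) (fun r hr => hQ1 r hr)
    obtain ⟨w, hw⟩ : ∃ w : Spec (CommRingCat.of K) ⟶ Spec (S.residueField s),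
        w ≫ S.fromSpecResidueField s = ξ := by
      subst hξ
      exact ⟨Spec.map _, Scheme.descResidueField_stalkClosedPointTo_fromSpecResidueField K S ξ⟩
    let Z : Over S := Over.mk ((Groth.L25.MonoNhd.P Γ(S, V) Q).hom ≫ j)
    let W : Z.left ⟶ Spec (S.residueField s) := Spec.map (CommRingCat.ofHom ρ) ≫ w
    have hW : W ≫ S.fromSpecResidueField s = Z.hom := by
      show (Spec.map (CommRingCat.ofHom ρ) ≫ w) ≫ S.fromSpecResidueField s =
        Spec.map (CommRingCat.ofHom (algebraMap Γ(S, V) Q)) ≫ j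
      rw [Category.assoc, hw]
      show Spec.map _ ≫ Spec.map _ ≫ j = _
      rw [← Spec.map_comp_assoc, ← CommRingCat.ofHom_comp]
      congr 3
      exact RingHom.ext fun r => Ideal.ResidueField.lift_algebraMap p.asIdeal (algebraMap Γ(S, V) Q) (fun r hr => hQ0 r hr) (fun r hr => hQ1 r hr) r
    let iκ := S.fromSpecResidueField s
    let c : Over.mk ((Over.mk W).hom ≫ iκ) ⟶ Z := Over.homMk (𝟙 Z.left) (by
      exact (Category.id_comp _).trans hW.symm)
    have h1 : Groth.L25.NilAction.ofBase iκ (c ≫ z) ≫ (Over.pullback iκ).map u =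
        Groth.L25.NilAction.ofBase iκ (c ≫ (1 : Z ⟶ H)) ≫ (Over.pullback iκ).map u := by
      rw [Groth.L25.NilAction.ofBase_comp, Groth.L25.NilAction.ofBase_comp, Category.assoc,
        Category.assoc, hz, MonObj.one_comp]
    have h2 : Groth.L25.NilAction.ofBase iκ (c ≫ z) = Groth.L25.NilAction.ofBase iκ (c ≫ (1 : Z ⟶ H)) := by
      apply Over.OverMorphism.ext
      exact (cancel_mono ((Over.pullback iκ).map u).left).1 (congrArg (fun m => m.left) h1)
    have h3 := congrArg (fun m => (Groth.L25.NilAction.toBase iκ m).left) h2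
    simp only [Groth.L25.NilAction.toBase_ofBase] at h3
    have h4 : z = 1 := by
      apply Over.OverMorphism.ext
      exact ((Category.id_comp _).symm.trans h3).trans (Category.id_comp _)
    have h5 : x = 1 := by
      rw [← Groth.L25.NilAction.ofBase_toBase j x, show Groth.L25.NilAction.toBase j x = 1 from h4,
        ← Groth.L25.NilAction.toBase_one j, Groth.L25.NilAction.ofBase_toBase]
    have h6 : Spec.mapMulEquiv (WithConv.toConv a) = 1 := by
      rw [← cancel_mono i, MonObj.one_comp]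
      exact h5
    rw [← map_one (Spec.mapMulEquiv (R := Γ(S, V)) (S := B) (T := Q))] at h6
    exact congrArg WithConv.ofConv (Spec.mapMulEquiv.injective h6)
  obtain ⟨f, hfp, hf⟩ := Groth.L25.MonoNhd.exists_kill p.asIdeal
    (fun n hn => Groth.L25.MonoNhd.finite_torsion_sub hH' i hn) hfib
  refine ⟨S.basicOpen f, ?_, ?_⟩
  · have h1 : p ∈ hV.fromSpec ⁻¹ᵁ S.basicOpen f := by
      rw [hV.fromSpec_preimage_basicOpen]
      exact hfp
    rw [← hp]
    exact h1
  let U := S.basicOpen f
  -- kernel points over `U` are trivial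
  have key : ∀ (Y : Over S) (y : Y ⟶ H), Set.range Y.hom ⊆ (U : Set S) → y ≫ u = 1 → y = 1 := by
    intro Y y hY hy
    have hYj : Set.range Y.hom ⊆ Set.range j :=
      hY.trans ((SetLike.coe_subset_coe.2 (S.basicOpen_le f)).trans hV.range_fromSpec.ge)
    let g := IsOpenImmersion.lift j Y.hom hYj
    have hg : g ≫ j = Y.hom := IsOpenImmersion.lift_fac _ _ _
    apply Over.OverMorphism.ext
    refine Y.left.affineCover.hom_ext _ _ fun z => ?_
    let A : CommRingCat := Γ(Y.left.affineCover.X z, ⊤)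
    let a : Spec A ⟶ Y.left := (Y.left.affineCover.X z).isoSpec.inv ≫ Y.left.affineCover.f z
    rw [← cancel_epi (Y.left.affineCover.X z).isoSpec.inv, ← Category.assoc, ← Category.assoc]
    change a ≫ y.left = a ≫ _
    obtain ⟨θ, hθ⟩ := Spec.map_surjective (a ≫ g)
    letI : Algebra Γ(S, V) A := θ.hom.toAlgebra
    have hθ' : Spec.map (CommRingCat.ofHom (algebraMap Γ(S, V) A)) = a ≫ g := hθ
    let T := Groth.L25.MonoNhd.P Γ(S, V) A
    let c : Over.mk (T.hom ≫ j) ⟶ Y := Over.homMk a (by
      show a ≫ Y.hom = Spec.map (CommRingCat.ofHom (algebraMap Γ(S, V) A)) ≫ j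
      rw [hθ', Category.assoc a g j, hg])
    have hu : IsUnit (algebraMap Γ(S, V) A f) := by
      by_contra hn
      obtain ⟨m, hm, hfm⟩ := exists_max_ideal_of_mem_nonunits hn
      let q : Spec A := ⟨m, hm.isPrime⟩
      have h1 : j ((a ≫ g) q) ∈ (U : Set S) := by
        refine hY ⟨a q, ?_⟩
        rw [← hg]
        rfl
      have h2 : (a ≫ g) q ∈ hV.fromSpec ⁻¹ᵁ S.basicOpen f := h1
      rw [hV.fromSpec_preimage_basicOpen] at h2
      have h3 : (Spec.map (CommRingCat.ofHom (algebraMap Γ(S, V) A))) q ∈ PrimeSpectrum.basicOpen f := by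
        rw [hθ']; exact h2
      exact h3 hfm
    obtain ⟨w, hw⟩ := (hker T (Groth.L25.NilAction.ofBase j (c ≫ y))).2 (by
      rw [Groth.L25.NilAction.ofBase_comp, Category.assoc, hy, MonObj.comp_one,
        ← Groth.L25.NilAction.toBase_one j, Groth.L25.NilAction.ofBase_toBase])
    obtain ⟨v, rfl⟩ := (Spec.mapMulEquiv (R := Γ(S, V)) (S := B) (T := A)).surjective w
    have hv : v = 1 := by
      refine WithConv.ofConv_injective (AlgHom.ext fun b => ?_)
      show v.ofConv b = algebraMap Γ(S, V) A (Coalgebra.counit b)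
      let x := b - algebraMap Γ(S, V) B (Coalgebra.counit b)
      have hx : x ∈ RingHom.ker (Bialgebra.counitAlgHom Γ(S, V) B) := by
        rw [RingHom.mem_ker, map_sub, AlgHom.commutes]
        exact sub_eq_zero.2 (Algebra.algebraMap_self_apply _).symm
      have h1 : algebraMap Γ(S, V) A f * v.ofConv x = 0 := by
        rw [← Algebra.smul_def, ← map_smul, hf x hx, map_zero]
      have h2 := hu.mul_right_eq_zero.1 h1
      rw [map_sub, AlgHom.commutes, sub_eq_zero] at h2
      exact h2
    subst hv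
    rw [map_one, MonObj.one_comp] at hw
    have h3 := congrArg (fun m => (Groth.L25.NilAction.toBase j m).left) hw
    simp only [Groth.L25.NilAction.toBase_ofBase, Groth.L25.NilAction.toBase_one, Over.comp_left] at h3
    rw [Groth.L25.MonoFibres.one_left] at h3
    rw [Groth.L25.MonoFibres.one_left]
    refine h3.symm.trans ?_
    show (Spec.map (CommRingCat.ofHom (algebraMap Γ(S, V) A)) ≫ j) ≫ _ = a ≫ Y.hom ≫ _
    rw [hθ', Category.assoc a g j, hg]
    exact Category.assoc _ _ _
  constructor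
  intro Z a b hab
  let Hu := Red.bc U.ι H
  let uu := (Over.pullback U.ι).map u
  have hstr : a ≫ Hu.hom = b ≫ Hu.hom := by
    rw [← Over.w uu, reassoc_of% hab]
  let Y : Over (U : Scheme.{u}) := Over.mk (a ≫ Hu.hom)
  let g₁ : Y ⟶ Hu := Over.homMk a rfl
  let g₂ : Y ⟶ Hu := Over.homMk b hstr.symm
  have h : g₁ ≫ uu = g₂ ≫ uu := Over.OverMorphism.ext hab
  have h1 : g₁ * g₂⁻¹ = 1 := by
    have h2 := key _ (Groth.L25.NilAction.toBase U.ι (g₁ * g₂⁻¹)) ?_ ?_
    · rw [← Groth.L25.NilAction.ofBase_toBase U.ι (g₁ * g₂⁻¹), h2,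
        ← Groth.L25.NilAction.toBase_one U.ι, Groth.L25.NilAction.ofBase_toBase]
    · rintro _ ⟨y, rfl⟩
      show U.ι (Y.hom y) ∈ (U : Set S)
      rw [← Scheme.Opens.range_ι]
      exact ⟨_, rfl⟩
    · rw [← Groth.L25.Locus.toBase_map]
      change Groth.L25.NilAction.toBase U.ι ((g₁ * g₂⁻¹) ≫ uu) = 1
      rw [MonObj.mul_comp, GrpObj.inv_comp, ← h, mul_inv_cancel, Groth.L25.NilAction.toBase_one]
  exact congrArg (fun m => m.left) (mul_inv_eq_one.1 h1)

end Groth.Agent.S6059
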