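import Mathlib.RingTheory.Flat.FaithfullyFlat.Basic
import Mathlib.RingTheory.IntegralClosure.IntegrallyClosed
import Mathlib.RingTheory.Noetherian.Defs
import Mathlib.RingTheory.LocalRing.Basic
import Mathlib.RingTheory.UniqueFactorizationDomain.Defs
import Mathlib.RingTheory.Flat.EquationalCriterion
import Mathlib.RingTheory.Flat.FaithfullyFlat.Basic
import Mathlib.Tactic.LinearCombination
import Mathlib.RingTheory.Flat.FaithfullyFlat.Algebra

set_option autoImplicit false
namespace CAlg
end CAlg
universe u
open CAlg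

namespace Groth.Agent.S19890

/-- Let R → R' be a faithfully flat ring map between Noetherian integrally closed local domains. Then
unique factorization descends along this map: when R' is a UFD, so is R. (The first assertion of the
lemma, descent of principality for an ideal whose extension to R' is principal, is a separate
statement.) -/
theorem result
    (R R' : Type u) [CommRing R] [CommRing R'] [IsDomain R] [IsDomain R']
    [IsNoetherianRing R] [IsNoetherianRing R'] [IsLocalRing R] [IsLocalRing R']
    [IsIntegrallyClosed R] [IsIntegrallyClosed R']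
    [Algebra R R'] [Module.FaithfullyFlat R R'] [UniqueFactorizationMonoid R'] :
    UniqueFactorizationMonoid R := by
  refine { irreducible_iff_prime := fun {a} => ⟨fun ha => ?_, Prime.irreducible⟩ }
  refine ⟨ha.ne_zero, ha.not_isUnit, fun x y hxy => ?_⟩
  have hinj := FaithfulSMul.algebraMap_injective R R'
  by_contra! hcon
  obtain ⟨hnx, hny⟩ := hcon
  let f := algebraMap R R'
  let I : Ideal R := Submodule.comap (LinearMap.mulLeft R x) (Ideal.span {a})
  have hI : ∀ z, z ∈ I ↔ a ∣ x * z := fun z => Ideal.mem_span_singleton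
  obtain ⟨a', x', c, hrel, hax, hxx⟩ :=
    UniqueFactorizationMonoid.exists_reduced_factors (f a) ((map_ne_zero_iff f hinj).mpr ha.ne_zero) (f x)
  have hc : c ≠ 0 := fun h => (map_ne_zero_iff f hinj).mpr ha.ne_zero (by rw [← hax, h, zero_mul])
  have ha' : a' ≠ 0 := fun h => (map_ne_zero_iff f hinj).mpr ha.ne_zero (by rw [← hax, h, mul_zero])
  have hdvd : ∀ z ∈ I, a' ∣ f z := fun z hz => by
    have h := map_dvd f ((hI z).mp hz)
    rw [map_mul, ← hax, ← hxx, mul_assoc] at h
    exact hrel.dvd_of_dvd_mul_left ((mul_dvd_mul_iff_left hc).mp h)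
  have hmem : a' ∈ I.map f := by
    have h : ∑ i : Fin 2, ![x, -a] i • ![a', x'] i = 0 := by
      simp [Algebra.smul_def, f] at hax hxx ⊢
      rw [← hax, ← hxx]
      ring
    obtain ⟨k, A, w, hw, hA⟩ := Module.Flat.isTrivialRelation_of_sum_smul_eq_zero h
    have h0 := hw 0
    simp only [Matrix.cons_val_zero, Algebra.smul_def] at h0
    rw [h0]
    refine sum_mem fun j _ => Ideal.mul_mem_right _ _ (Ideal.mem_map_of_mem f ((hI _).mpr ⟨A 1 j, ?_⟩))
    have := hA j
    rw [Fin.sum_univ_two] at this
    simpa [sub_eq_zero, ← sub_eq_add_neg, mul_comm] using this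
  obtain ⟨p, hp, hpu⟩ : ∃ p ∈ I, ∃ u : R', IsUnit u ∧ f p = a' * u := by
    by_contra! h
    have hle : I.map f ≤ Ideal.span {a'} * IsLocalRing.maximalIdeal R' := by
      rw [Ideal.map_le_iff_le_comap]
      intro z hz
      obtain ⟨u, hu⟩ := hdvd z hz
      rw [Ideal.mem_comap, hu]
      exact Ideal.mul_mem_mul (Ideal.mem_span_singleton_self _) fun hu' => h z hz u hu' hu
    obtain ⟨z, hz, hza⟩ := Ideal.mem_span_singleton_mul.mp (hle hmem)
    exact hz (by rw [mul_left_cancel₀ ha' (hza.trans (mul_one a').symm)]; exact isUnit_one)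
  have hgen : ∀ z ∈ I, p ∣ z := fun z hz => by
    obtain ⟨u, hu, hpa⟩ := hpu
    rw [← Ideal.mem_span_singleton, ← Ideal.comap_map_eq_self_of_faithfullyFlat (B := R') (Ideal.span {p}),
      Ideal.mem_comap, Ideal.map_span, Set.image_singleton, Ideal.mem_span_singleton]
    show f p ∣ f z
    rw [hpa, hu.mul_right_dvd]
    exact hdvd z hz
  obtain ⟨d, hd⟩ := hgen a ((hI a).mpr (dvd_mul_left a x))
  rcases ha.isUnit_or_isUnit hd with h1 | h1
  · obtain ⟨q, hq⟩ := h1.exists_right_inv
    exact hnx (by simpa using (hI 1).mp (hq ▸ I.mul_mem_right q hp))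
  · exact hny (by rw [hd, h1.mul_right_dvd]; exact hgen y ((hI y).mpr hxy))

end Groth.Agent.S19890
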