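import Groth.Statements.S4889
import Groth.Agent.L06.SupportStalk
import Groth.Agent.L06.JacobsonDim
import Groth.Agent.L07.DimJacobson
import Groth.Agent.L18.UnivCatenary
import Mathlib.AlgebraicGeometry.Morphisms.FiniteType

set_option autoImplicit false
set_option maxSynthPendingDepth 3
set_option linter.style.haveILetI false
universe u
open CategoryTheory AlgebraicGeometry
open EGA43

namespace Groth.Agent.S4889

/-- Stated as the dimension equality to which its two-line proof reduces it: let S be a locally
Noetherian Jacobson scheme whose local rings are universally catenary and whose irreducible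
components are equidimensional (for every irreducible component S' and every closed point s of S',
dim S' equals the dimension of the space of generizations of s in S'); let g : X ⟶ S be a morphism
locally of finite type, F a coherent O_X-module, Y its support and x a point of Y. Then dim(cl{x}) +
dim(F_x) = dim_x(Y), where dim(F_x) is the Krull dimension of the O_{X,x}-module F_x (the Krull
dimension of its support in Spec O_{X,x}) and dim_x(Y) is the local dimension of Y at x. (The
published statement reads prof*_x(F) = dim_x(Y) − coprof(F_x), with the rectified depth prof*_x(F) =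
prof(F_x) + dim cl{x} and the codepth coprof(F_x) = dim(F_x) − prof(F_x); for the nonzero finitely
generated module F_x this is the equality stated here. The published form of the special case in
which the base is X itself assumes only the Jacobson and universally-catenary conditions; this row
keeps the equidimensionality of the irreducible components of the base, which the proof uses and
without which the formula fails.) -/
theorem result {X S : Scheme.{u}} [IsLocallyNoetherian S]
    [JacobsonSpace S] (h2 : ∀ s : S, CAlg.IsUniversallyCatenary (S.presheaf.stalk s))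
    (h3 : ∀ S' ∈ irreducibleComponents (S : Type u), ∀ s ∈ S', IsClosed ({s} : Set S) →
      topologicalKrullDim (↥S' : Type u) = topologicalKrullDim ↥{t : S | t ∈ S' ∧ t ⤳ s})
    (g : X ⟶ S) [LocallyOfFiniteType g] (F : X.Modules) (hF : Coh.IsCoh F) (x : X) (hx : x ∈ CohB1.support F) :
    topologicalKrullDim ↥(closure ({x} : Set X)) + Module.supportDim ↑(X.presheaf.stalk x) ↑(F.presheaf.stalk x) =
      FlatMor.localDim ↥(CohB1.support F) ⟨x, hx⟩ := by
  haveI : IsLocallyNoetherian X := LocallyOfFiniteType.isLocallyNoetherian g
  haveI : JacobsonSpace X := LocallyOfFiniteType.jacobsonSpace g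
  have hcat : ∀ z : X, CAlg.IsUniversallyCatenary (X.presheaf.stalk z) := fun z => by
    letI : Algebra (S.presheaf.stalk (g z)) (X.presheaf.stalk z) := (g.stalkMap z).hom.toAlgebra
    haveI : Algebra.EssFiniteType (S.presheaf.stalk (g z)) (X.presheaf.stalk z) :=
      LocallyOfFiniteType.stalkMap g z
    exact Groth.L18.Cat.isUniversallyCatenary_of_essFiniteType (h2 (g z)) _
  have hX3 : ∀ C ∈ irreducibleComponents (X : Type u), ∀ z ∈ C, IsClosed ({z} : Set X) →
      topologicalKrullDim (↥C : Type u) = topologicalKrullDim ↥{t : X | t ∈ C ∧ t ⤳ z} := by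
    intro C hC z hz hzc
    obtain ⟨ξ, hξ⟩ := QuasiSober.sober hC.1 (isClosed_of_mem_irreducibleComponents C hC)
    obtain rfl := hξ.def
    let i := Groth.L22.Cyc.clι ξ
    let Z := Groth.L22.Cyc.clSub ξ
    haveI : IsLocallyNoetherian Z := LocallyOfFiniteType.isLocallyNoetherian i
    haveI : JacobsonSpace Z := LocallyOfFiniteType.jacobsonSpace i
    obtain ⟨c, -, hc⟩ := Groth.L06.JacobsonDim.dim_closure h2 h3 (g ξ)
    have hσ : (i ≫ g) (genericPoint Z) = g ξ := by
      rw [Scheme.Hom.comp_apply, Groth.L22.Cyc.clι_genericPoint]
    have hst : ∀ w : Z, IsClosed ({w} : Set Z) → ringKrullDim (Z.presheaf.stalk w) =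
        (c : WithBot ℕ∞) + Groth.L07.Equidim.fdim (i ≫ g) (genericPoint Z) := fun w hw =>
      Groth.L07.DimJacobson.stalk_dim_of_isClosed (i ≫ g) h2 (g ξ) hσ c hc w hw
    have hdimC : topologicalKrullDim ↥(closure ({ξ} : Set X)) = topologicalKrullDim (Z : Type u) :=
      Groth.L22.SchemeDim.topologicalKrullDim_eq_of_isEmbedding i.isEmbedding (Groth.L22.Cyc.range_clι ξ)
    obtain ⟨w, hw⟩ : z ∈ Set.range i := by rw [Groth.L22.Cyc.range_clι]; exact hz
    have hwc : IsClosed ({w} : Set Z) := by
      have h : i ⁻¹' {z} = {w} := Set.ext fun a => ⟨fun ha => i.isEmbedding.injective (ha.trans hw.symm),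
        fun ha => (congrArg i ha).trans hw⟩
      rw [← h]; exact hzc.preimage i.continuous
    have hsp : ξ ⤳ z := specializes_iff_mem_closure.mpr hz
    have hset : {t : X | t ∈ closure ({ξ} : Set X) ∧ t ⤳ z} = {t : X | ξ ⤳ t ∧ t ⤳ z} :=
      Set.ext fun t => and_congr_left fun _ => specializes_iff_mem_closure.symm
    have hgsp : i (genericPoint Z) ⤳ i w := by rw [Groth.L22.Cyc.clι_genericPoint, hw]; exact hsp
    rw [hdimC, Groth.L07.DimJacobson.dim_eq_of_closed_points _ hst, ← hst w hwc, hset,
      Groth.L07.DimJacobson.dim_interval z ξ hsp,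
      Groth.L07.DimToolkit.dim_stalk_closedImmersion i w hgsp,
      Groth.L07.DimToolkit.dim_locQuot_congr' (Groth.L22.Cyc.clι_genericPoint ξ) hgsp
        ((specializes_of_eq (Groth.L22.Cyc.clι_genericPoint ξ).symm).trans hgsp)]
    exact Groth.L07.DimToolkit.dim_locQuot_congr hw _ _
  have h := Groth.L06.JacobsonDim.localDim_closed hcat hX3 (CohB1.support F)
    (Groth.L16.CohSupport.isClosed_support F hF.2) x hx
  rw [h.1, Groth.L06.SupportStalk.supportDim_stalk F hF x]

end Groth.Agent.S4889
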