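import Groth.Statements.S6318
import Groth.Agent.L01.PdRes
import Mathlib.RingTheory.Noetherian.Basic

set_option autoImplicit false
universe u
open CategoryTheory
open CAlg

namespace Groth.Agent.S6318

section
open CategoryTheory

variable {R : Type u} [CommRing R] [IsNoetherianRing R]

/-- A finite module. -/
structure Fm (R : Type u) [CommRing R] where
  /-- carrier -/
  K : Type u
  [acg : AddCommGroup K]
  [mod : Module R K]
  [fin : Module.Finite R K]

attribute [instance] Fm.acg Fm.mod Fm.fin

/-- number of generators -/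
noncomputable def num (s : Fm R) : ℕ := (Module.Finite.exists_fin' R s.K).choose

/-- the cover -/
noncomputable def gen (s : Fm R) : (Fin (num s) → R) →ₗ[R] s.K := (Module.Finite.exists_fin' R s.K).choose_spec.choose

theorem gen_surjective (s : Fm R) : Function.Surjective (gen s) :=
  (Module.Finite.exists_fin' R s.K).choose_spec.choose_spec

/-- the syzygies -/
noncomputable def syz (s : Fm R) : ℕ → Fm R
  | 0 => s
  | j + 1 => ⟨LinearMap.ker (gen (syz s j))⟩

/-- differential -/
noncomputable def diff (s : Fm R) (j : ℕ) : (Fin (num (syz s (j + 1))) → R) →ₗ[R] (Fin (num (syz s j)) → R) :=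
  (LinearMap.ker (gen (syz s j))).subtype ∘ₗ gen (syz s (j + 1))

theorem exact_diff (s : Fm R) (j : ℕ) : Function.Exact (diff s j) (gen (syz s j)) := fun x => by
  constructor
  · intro hx
    obtain ⟨y, hy⟩ := gen_surjective (syz s (j + 1)) ⟨x, hx⟩
    exact ⟨y, congrArg Subtype.val hy⟩
  · rintro ⟨y, rfl⟩
    exact (gen (syz s (j + 1)) y).2

theorem exact_diff_diff (s : Fm R) (j : ℕ) : Function.Exact (diff s (j + 1)) (diff s j) := fun x => by
  constructor
  · intro hx
    exact (exact_diff s (j + 1) x).mp (Subtype.val_injective hx)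
  · rintro ⟨y, rfl⟩
    exact congrArg Subtype.val ((exact_diff s (j + 1)).apply_apply_eq_zero y)

/-- the complex -/
noncomputable def cx (s : Fm R) : ChainComplex (ModuleCat.{u} R) ℕ :=
  ChainComplex.of (fun j => ModuleCat.of R (Fin (num (syz s j)) → R)) (fun j => ModuleCat.ofHom (diff s j))
    (fun j => ModuleCat.hom_ext (LinearMap.ext fun x => (exact_diff_diff s j).apply_apply_eq_zero x))

theorem cx_d (s : Fm R) (j : ℕ) : (cx s).d (j + 1) j = ModuleCat.ofHom (diff s j) :=
  ChainComplex.of_d (fun j => ModuleCat.of R (Fin (num (syz s j)) → R)) (fun j => ModuleCat.ofHom (diff s j)) j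

end


/-- Let R be a Noetherian ring and M a finite R-module. Then M has a resolution … → F₂ → F₁ → F₀ → M → 0
with every Fᵢ finite free; stated as the existence of a projective resolution of M in the category
of R-modules all of whose terms are finite free. -/
theorem result (R : Type u) [CommRing R] [IsNoetherianRing R] (M : Type u) [AddCommGroup M] [Module R M] [Module.Finite R M] : ∃ F : ProjectiveResolution (ModuleCat.of R M), ∀ n : ℕ, Module.Finite R (F.complex.X n) ∧ Module.Free R (F.complex.X n) := by
  let s : Fm R := ⟨M⟩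
  have hp : ∀ n, CategoryTheory.Projective ((cx s).X n) := fun n =>
    (IsProjective.iff_projective _).mp (inferInstanceAs (Module.Projective R (Fin (num (syz s n)) → R)))
  let ε : (cx s).X 0 ⟶ ModuleCat.of R M := ModuleCat.ofHom (gen (syz s 0))
  have hC : Groth.L28.Balance.IsRes (cx s) ε :=
    ⟨gen_surjective (syz s 0), by rw [cx_d]; exact exact_diff s 0,
      fun n => by rw [cx_d, cx_d]; exact exact_diff_diff s n,
      fun n => inferInstanceAs (Module.Flat R (Fin (num (syz s n)) → R))⟩
  obtain ⟨P, hP⟩ := Groth.L01.PdRes.exists_projRes_of_isRes (cx s) ε hC hp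
  refine ⟨P, fun n => ?_⟩
  rw [hP]
  exact ⟨inferInstanceAs (Module.Finite R (Fin (num (syz s n)) → R)), inferInstanceAs (Module.Free R (Fin (num (syz s n)) → R))⟩

end Groth.Agent.S6318
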