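import Groth.Statements.S15544
import Groth.Agent.L16.Connected.AppIso

set_option autoImplicit false
open CategoryTheory AlgebraicGeometry
universe u
open Coherent

namespace Groth.Agent.S15544

/-- Let X and Y be integral schemes, Y locally Noetherian with all local rings integrally closed, and f
: X ⟶ Y a proper birational morphism (the generic point of X maps to that of Y and the stalk map
there is an isomorphism). Then every fibre of f is connected and nonempty. (The published statement
takes X and Y Noetherian; over a locally Noetherian Y this is the same assertion fibre by fibre.) -/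
theorem result {X Y : Scheme.{u}} [IsIntegral X]
    [IsIntegral Y] [IsLocallyNoetherian Y] (hY : Pi1.IsNormalScheme Y) (f : X ⟶ Y) [IsProper f]
    (hgen : f.base (genericPoint X) = genericPoint Y) (hbir : IsIso (f.stalkMap (genericPoint X)))
    (y : Y) : ConnectedSpace ↥(f.fiber y) := by
  haveI := hbir
  have e : f (genericPoint X) = genericPoint Y := hgen
  haveI : IsIso (Y.presheaf.stalkSpecializes (specializes_of_eq e)) :=
    ⟨Y.presheaf.stalkSpecializes (specializes_of_eq e.symm),
      by rw [TopCat.Presheaf.stalkSpecializes_comp]; exact TopCat.Presheaf.stalkSpecializes_refl _ _,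
      by rw [TopCat.Presheaf.stalkSpecializes_comp]; exact TopCat.Presheaf.stalkSpecializes_refl _ _⟩
  have hbij : Function.Bijective (Groth.L21.Curve.ffMap f e) := ConcreteCategory.bijective_of_isIso
    (Y.presheaf.stalkSpecializes (specializes_of_eq e) ≫ f.stalkMap (genericPoint X))
  haveI := Groth.L16.Connected.geometricallyConnected f
    (Groth.L16.Connected.isIso_app_of_birational f e (fun y => (hY y).2) hbij)
  infer_instance
end Groth.Agent.S15544
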