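import Groth.Statements.S18744
import Groth.Agent.L13.ModPair.Limit
import Groth.Agent.L13.ModPair.Basic
import Mathlib.AlgebraicGeometry.AffineTransitionLimit

set_option autoImplicit false
universe u
open CategoryTheory CategoryTheory.Limits AlgebraicGeometry TopologicalSpace
open ModPair

namespace Groth.Agent.S18744

theorem app_restrict {X Y : Scheme.{u}} (f : X ⟶ Y) {A O : Y.Opens} (hO : O ≤ A) {P Q : X.Opens}
    (eP : P ≤ f ⁻¹ᵁ A) (hQ : Q ≤ P) (hle : f ⁻¹ᵁ O ≤ Q) (t : Γ(Y, A)) :
    f.app O (Y.presheaf.map (homOfLE hO).op t) =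
      X.presheaf.map (homOfLE hle).op (X.presheaf.map (homOfLE hQ).op (f.appLE A P eP t)) := by
  rw [Scheme.Hom.app_eq_appLE]
  simp only [← CommRingCat.comp_apply, Scheme.Hom.map_appLE, Scheme.Hom.appLE_map]

set_option backward.defeqAttrib.useBackward true in
set_option backward.isDefEq.respectTransparency false in

/-- Let (X_i, I_i) be a cofiltered system of schemes equipped with quasi-coherent ideal sheaves of
effective Cartier divisors, with affine and minimal transition morphisms (the modulus of X_i is the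
pull-back of the modulus of X_j along each transition morphism X_i ⟶ X_j), and let X be its limit
with projections π_i. Then the pulled-back ideal I_i.comap π_i is the ideal sheaf of an effective
Cartier divisor on X for every i; with this modulus X is a modulus pair mapping minimally to each
(X_i, I_i). (The source allows the conditions on the transition morphisms to hold only beyond some
index; here they are assumed throughout.) -/
theorem result {I : Type u}
    [SmallCategory I] [IsCofiltered I] (D : I ⥤ Scheme.{u}) (c : Cone D) (hc : IsLimit c)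
    [∀ (i j : I) (t : i ⟶ j), IsAffineHom (D.map t)]
    (J : ∀ i, (D.obj i).IdealSheafData) (hJ : ∀ i, BlowUp.IsEffCartierIdeal (J i))
    (hmin : ∀ (i j : I) (t : i ⟶ j), ModPair.IsMinimal (J i) (J j) (D.map t)) (i : I) :
    BlowUp.IsEffCartierIdeal ((J i).comap (c.π.app i)) := by
  classical
  haveI : ∀ {a b : I} (t : a ⟶ b), IsAffineHom (D.map t) := fun t => ‹∀ (i j : I) (t : i ⟶ j), IsAffineHom (D.map t)› _ _ t
  haveI := Groth.L13.MP.quasiCompact_interior (hJ i)
  haveI hdom : IsSchemeTheoreticallyDominant (c.π.app i ⁻¹ᵁ ModPair.interior (J i)).ι := by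
    haveI := isAffineHom_π_app D c hc i
    haveI : QuasiCompact (c.π.app i ⁻¹ᵁ ModPair.interior (J i)).ι :=
      Groth.L13.MP.quasiCompact_preimage _ inferInstance
    refine ⟨Scheme.IdealSheafData.ext_of_iSup_eq_top
      (fun U : (D.obj i).affineOpens => (⟨c.π.app i ⁻¹ᵁ U.1, U.2.preimage _⟩ : c.pt.affineOpens))
      (eq_top_iff.2 fun x _ => ?_) fun U => ?_⟩
    · obtain ⟨U, hU, hxU, -⟩ := exists_isAffineOpen_mem_and_subset
        (x := (c.π.app i).base x) (U := (⊤ : (D.obj i).Opens)) trivial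
      exact TopologicalSpace.Opens.mem_iSup.2 ⟨⟨U, hU⟩, hxU⟩
    rw [Scheme.Hom.ker_apply, Scheme.IdealSheafData.ideal_bot, Pi.bot_apply, eq_bot_iff]
    intro s hs
    rw [RingHom.mem_ker, Scheme.Opens.ι_app] at hs
    -- a model of `s` at a stage
    have haff : ∀ j, IsAffine ((opensDiagram D i U.1).obj j) := fun j => U.2.preimage _
    obtain ⟨j, t₀, ht₀⟩ := exists_appTop_π_eq_of_isAffine_of_isLimit _ _
      (isLimitOpensCone D c hc i U.1) ((c.π.app i ⁻¹ᵁ U.1).topIso.inv s)
    obtain ⟨t, rfl⟩ := (D.map j.hom ⁻¹ᵁ U.1).topIso.symm.commRingCatIsoToRingEquiv.surjective t₀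
    have hpre : c.π.app j.left ⁻¹ᵁ D.map j.hom ⁻¹ᵁ U.1 = c.π.app i ⁻¹ᵁ U.1 := by
      rw [← Scheme.Hom.comp_preimage, c.w]
    have ht : (c.π.app j.left).appLE (D.map j.hom ⁻¹ᵁ U.1) (c.π.app i ⁻¹ᵁ U.1) hpre.ge t = s := by
      symm
      convert!
        show s = ((Scheme.Opens.topIso _).inv ≫ ((opensCone D c i U.1).π.app j).appTop ≫ (Scheme.Opens.topIso _).hom) t from
          (c.π.app i ⁻¹ᵁ U.1).topIso.commRingCatIsoToRingEquiv.symm_apply_eq.mp ht₀.symm using 3
      simp [Scheme.Hom.app_eq_appLE, Scheme.Hom.resLE_appLE]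
    let Wj : (D.obj j.left).Opens := ModPair.interior (J j.left)
    have hWj : c.π.app j.left ⁻¹ᵁ Wj = c.π.app i ⁻¹ᵁ ModPair.interior (J i) := by
      rw [show Wj = D.map j.hom ⁻¹ᵁ ModPair.interior (J i) from
        Groth.L13.MP.minimal_interior (hmin _ _ j.hom), ← Scheme.Hom.comp_preimage, c.w]
    haveI := Groth.L13.MP.quasiCompact_interior (hJ j.left)
    let O : (D.obj j.left).Opens := D.map j.hom ⁻¹ᵁ U.1 ⊓ Wj
    have hO : IsCompact (O : Set (D.obj j.left)) := by
      have : IsCompact (Wj.ι ⁻¹' (D.map j.hom ⁻¹ᵁ U.1 : Set (D.obj j.left))) :=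
        QuasiCompact.isCompact_preimage _ (D.map j.hom ⁻¹ᵁ U.1).2 (U.2.preimage _).isCompact
      have h2 := this.image Wj.ι.continuous
      rwa [Set.image_preimage_eq_inter_range, Scheme.Opens.range_ι] at h2
    have hres : (c.π.app j.left).app O ((D.obj j.left).presheaf.map (homOfLE (inf_le_left : O ≤ _)).op t) = 0 := by
      have hle : c.π.app j.left ⁻¹ᵁ O ≤
          (c.π.app i ⁻¹ᵁ ModPair.interior (J i)).ι ''ᵁ
            ((c.π.app i ⁻¹ᵁ ModPair.interior (J i)).ι ⁻¹ᵁ (c.π.app i ⁻¹ᵁ U.1)) := by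
        rw [Scheme.Hom.image_preimage_eq_opensRange_inf, Scheme.Opens.opensRange_ι, Scheme.Hom.preimage_inf,
          hpre, hWj, inf_comm]
      have h2 := (congr_arg (fun z => (c.pt.presheaf.map (homOfLE hle).op).hom z) hs).trans (map_zero _)
      refine Eq.trans ?_ h2
      rw [← ht]
      exact app_restrict _ _ _ _ _ t
    obtain ⟨k, φ, hk⟩ := exists_app_map_eq_zero_of_isLimit D c hc hO _ hres
    haveI := Groth.L13.MP.quasiCompact_interior (hJ k)
    haveI := Groth.L13.MP.dominant_interior (hJ k)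
    have hWk : ModPair.interior (J k) = D.map φ ⁻¹ᵁ Wj := Groth.L13.MP.minimal_interior (hmin _ _ φ)
    have htk : (D.map φ).app (D.map j.hom ⁻¹ᵁ U.1) t = 0 := by
      refine Groth.L13.MP.eq_zero_of_res (W := ModPair.interior (J k)) _ fun y hy hyW => ?_
      rw [hWk] at hyW
      rw [← Scheme.Hom.germ_stalkMap_apply, ← (D.obj j.left).presheaf.germ_res_apply
        (homOfLE (inf_le_left : O ≤ _)) ((D.map φ).base y) ⟨hy, hyW⟩, Scheme.Hom.germ_stalkMap_apply, hk, map_zero]
    rw [← ht]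
    have hpre' : c.π.app i ⁻¹ᵁ U.1 ≤ c.π.app k ⁻¹ᵁ D.map φ ⁻¹ᵁ D.map j.hom ⁻¹ᵁ U.1 := by
      rw [← Scheme.Hom.comp_preimage, c.w, hpre]
    refine (Submodule.mem_bot _).2 ((Groth.L13.MP.appLE_comp_apply (c.π.app k) (D.map φ) (c.w φ) (le_refl _) hpre' hpre.ge t).symm.trans ?_)
    rw [Groth.L13.MP.appLE_eq_app, htk]
    exact map_zero _
  haveI : QuasiCompact (c.π.app i ⁻¹ᵁ ModPair.interior (J i)).ι :=
    Groth.L13.MP.quasiCompact_preimage _ inferInstance
  exact Groth.L13.MP.isEffCartier_comap (c.π.app i) (hJ i) le_rfl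

end Groth.Agent.S18744
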