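import Groth.Statements.S7321
import Groth.Agent.L22.Norm.Dim1
import Groth.Agent.L22.Norm.Affine
import Groth.Agent.L22.BM.NormIso
import Groth.Agent.L05.RelMinExists.Fibres
import Groth.Agent.L03.RegularNormal

set_option autoImplicit false
universe u
open CategoryTheory CategoryTheory.Limits AlgebraicGeometry
open Resolve

namespace Groth.Agent.S7321

open TopologicalSpace

theorem exists_compat {V W : Scheme.{u}} (φ : V ⟶ W) (x : V) :
    ∀ w : W, φ x = w → ∃ Φ : W.presheaf.stalk w →+* V.presheaf.stalk x,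
      ∀ s : Γ(W, ⊤), Φ (W.presheaf.germ ⊤ w trivial s) = V.presheaf.germ ⊤ x trivial (φ.appTop s) := by
  rintro _ rfl
  exact ⟨(φ.stalkMap x).hom, fun s => Scheme.Hom.germ_stalkMap_apply φ ⊤ x trivial s⟩

/-- An alteration by a regular scheme makes the normalisation finite. -/
theorem isFinite_normalizationι_of_alteration (Y : Scheme.{u}) [IsIntegral Y] [AlgebraicGeometry.IsNoetherian Y]
    [QuasiCompact (Y.fromSpecStalk (genericPoint Y))] [QuasiSeparated (Y.fromSpecStalk (genericPoint Y))]
    {X : Scheme.{u}} (g : X ⟶ Y) [IsProper g] [IsIntegral X] [IsDominant g]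
    (hreg : ∀ x : X, IsRegularLocalRing (X.presheaf.stalk x)) : IsFinite (Curv2.normalizationι Y) := by
  haveI : IsIntegralHom (Curv2.normalizationι Y) :=
    inferInstanceAs (IsIntegralHom (Y.fromSpecStalk (genericPoint Y)).fromNormalization)
  refine { toIsAffineHom := inferInstance, finite_app := fun {U} hU => ?_ }
  by_cases hne : (U : Set Y).Nonempty
  swap
  · haveI : Subsingleton Γ(Curv2.normalization Y, Curv2.normalizationι Y ⁻¹ᵁ U) := by
      rw [show Curv2.normalizationι Y ⁻¹ᵁ U = ⊥ from TopologicalSpace.Opens.ext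
        (Set.eq_empty_of_forall_notMem fun y hy => hne ⟨_, hy⟩)]
      infer_instance
    exact RingHom.Finite.of_surjective _ fun z => ⟨0, Subsingleton.elim _ _⟩
  haveI : Nonempty U := hne.to_subtype
  have hη : genericPoint Y ∈ U := Groth.L22.Norm.genericPoint_mem Y hne
  letI : Algebra Γ(Y, U) Γ(Curv2.normalization Y, Curv2.normalizationι Y ⁻¹ᵁ U) :=
    ((Curv2.normalizationι Y).app U).hom.toAlgebra
  obtain ⟨κ, hT, hIC⟩ := Groth.L22.Norm.exists_isIntegralClosure Y hU hne
  letI := κ.toAlgebra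
  haveI := hT; haveI := hIC
  haveI : IsNoetherianRing Γ(Y, U) := IsLocallyNoetherian.component_noetherian ⟨U, hU⟩
  let V : Scheme.{u} := g ⁻¹ᵁ U
  have hgen : g (genericPoint X) = genericPoint Y := by
    have h := (genericPoint_spec X).image g.continuous
    rw [Set.image_univ, g.denseRange.closure_range] at h
    exact h.eq (genericPoint_spec Y)
  haveI : Nonempty V := ⟨⟨genericPoint X, show g (genericPoint X) ∈ U by rw [hgen]; exact hη⟩⟩
  haveI : IsIntegral V := isIntegral_of_isOpenImmersion (g ⁻¹ᵁ U).ι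
  have hN : ∀ v : V, IsIntegrallyClosed (V.presheaf.stalk v) := fun v => by
    haveI := hreg v.1
    haveI : IsRegularLocalRing (V.presheaf.stalk v) :=
      IsRegularLocalRing.of_ringEquiv ((g ⁻¹ᵁ U).stalkIso v).commRingCatIsoToRingEquiv.symm
    exact Groth.L03.RegularNormal.isIntegrallyClosed _
  let φ : V ⟶ U := g ∣_ U
  let g' : V ⟶ Spec (CommRingCat.of Γ(Y, U)) := φ ≫ hU.isoSpec.hom
  haveI : IsProper g' := inferInstanceAs (IsProper (φ ≫ hU.isoSpec.hom))
  have hfin := Groth.L00.ProperNorm.finite_toGlobal g'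
  have hglob : ∀ a, Groth.L00.ProperNorm.glob g' a = φ.appTop (U.topIso.inv a) := fun a => by
    show (φ ≫ hU.isoSpec.hom).appTop ((Scheme.ΓSpecIso (CommRingCat.of Γ(Y, U))).inv a) = _
    rw [Scheme.Hom.comp_appTop, CommRingCat.comp_apply,
      show hU.isoSpec.hom = U.toSpecΓ from hU.isoSpec_hom, Scheme.Opens.toSpecΓ_appTop, CommRingCat.comp_apply]
    erw [Iso.inv_hom_id_apply]
  let x : V := genericPoint V
  have hx : φ x = (⟨genericPoint Y, hη⟩ : U) := Subtype.ext (by
    refine (morphismRestrict_base_coe g U x).trans ?_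
    exact (congrArg g (genericPoint_eq_of_isOpenImmersion (g ⁻¹ᵁ U).ι)).trans hgen)
  obtain ⟨Φ, hΦ⟩ := exists_compat φ x _ hx
  let ψ : Y.functionField →+* V.presheaf.stalk x :=
    Φ.comp (U.stalkIso ⟨genericPoint Y, hη⟩).inv.hom
  have hψ : ∀ a : Γ(Y, U), ψ (algebraMap Γ(Y, U) Y.functionField a) =
      V.presheaf.germ ⊤ x trivial (Groth.L00.ProperNorm.glob g' a) := fun a => by
    rw [hglob, ← hΦ]
    show Φ ((U.stalkIso ⟨genericPoint Y, hη⟩).inv (Y.presheaf.germ U _ hη a)) = _
    congr 1
    refine (U.stalkIso ⟨genericPoint Y, hη⟩).commRingCatIsoToRingEquiv.injective ?_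
    show (U.stalkIso ⟨genericPoint Y, hη⟩).hom ((U.stalkIso ⟨genericPoint Y, hη⟩).inv _) =
      (U.stalkIso ⟨genericPoint Y, hη⟩).hom _
    rw [Iso.inv_hom_id_apply]
    symm
    rw [← CommRingCat.comp_apply]
    erw [Scheme.Opens.germ_stalkIso_hom]
    simp [Scheme.Opens.topIso]
    exact TopCat.Presheaf.germ_res_apply Y.presheaf _ _ _ _
  letI : Algebra Γ(Y, U) Γ(V, ⊤) := (Groth.L00.ProperNorm.glob g').toAlgebra
  haveI : Module.Finite Γ(Y, U) Γ(V, ⊤) := hfin
  have hex : ∀ b : Γ(Curv2.normalization Y, Curv2.normalizationι Y ⁻¹ᵁ U),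
      ∃ t : Γ(V, ⊤), V.presheaf.germ ⊤ x trivial t = ψ (κ b) := fun b => by
    refine Groth.L05.RelMinExists.exists_section_at hN x rfl _ ?_
    obtain ⟨P, hP, hPb⟩ := (IsIntegralClosure.isIntegral_iff (A := Γ(Curv2.normalization Y, Curv2.normalizationι Y ⁻¹ᵁ U))
      (R := Γ(Y, U)) (B := Y.functionField) (x := κ b)).2 ⟨b, rfl⟩
    refine ⟨P.map (Groth.L00.ProperNorm.glob g'), hP.map _, ?_⟩
    rw [Polynomial.eval₂_map]
    rw [show ((V.presheaf.germ ⊤ x trivial).hom).comp (Groth.L00.ProperNorm.glob g') =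
      ψ.comp (algebraMap Γ(Y, U) Y.functionField) from RingHom.ext fun a => (hψ a).symm,
      ← Polynomial.hom_eval₂, hPb, map_zero]
  choose t ht using hex
  have hinj := germ_injective_of_isIntegral V x (U := ⊤) trivial
  let l : Γ(Curv2.normalization Y, Curv2.normalizationι Y ⁻¹ᵁ U) →ₗ[Γ(Y, U)] Γ(V, ⊤) :=
    { toFun := t
      map_add' := fun a c => hinj (by rw [map_add, ht, ht, ht, map_add, map_add])
      map_smul' := fun a c => hinj (by
        rw [RingHom.id_apply, Algebra.smul_def, Algebra.smul_def, map_mul (V.presheaf.germ ⊤ x trivial).hom, ht, ht,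
          map_mul, map_mul]
        congr 1
        rw [show κ (algebraMap Γ(Y, U) Γ(Curv2.normalization Y, Curv2.normalizationι Y ⁻¹ᵁ U) a) =
          algebraMap Γ(Y, U) Y.functionField a from (IsScalarTower.algebraMap_apply _ _ _ a).symm]
        exact hψ a) }
  show Module.Finite Γ(Y, U) Γ(Curv2.normalization Y, Curv2.normalizationι Y ⁻¹ᵁ U)
  exact Module.Finite.of_injective l fun a c h =>
    IsIntegralClosure.algebraMap_injective _ Γ(Y, U) Y.functionField
      (ψ.injective ((ht a).symm.trans ((congrArg _ h).trans (ht c))))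

theorem isRegular_normalization (Y : Scheme.{u}) [IsIntegral Y] [AlgebraicGeometry.IsNoetherian Y]
    [QuasiCompact (Y.fromSpecStalk (genericPoint Y))] [QuasiSeparated (Y.fromSpecStalk (genericPoint Y))]
    (hdim : topologicalKrullDim Y = 1) (z : ↥(Curv2.normalization Y)) :
    IsRegularLocalRing ((Curv2.normalization Y).presheaf.stalk z) := by
  obtain ⟨_, ⟨W, hW, rfl⟩, hzW, -⟩ :=
    (Curv2.normalization Y).isBasis_affineOpens.exists_subset_of_mem_open (Set.mem_univ z) isOpen_univ
  haveI := Groth.L22.Norm.isDedekindDomain Y hdim ⟨W, hW⟩ ⟨z, hzW⟩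
  letI := (Curv2.normalization Y).presheaf.algebra_section_stalk (U := W) ⟨z, hzW⟩
  haveI : IsLocalization.AtPrime ((Curv2.normalization Y).presheaf.stalk z) (hW.primeIdealOf ⟨z, hzW⟩).asIdeal :=
    hW.isLocalization_stalk ⟨z, hzW⟩
  haveI : IsIntegral (Curv2.normalization Y) :=
    inferInstanceAs (IsIntegral (Y.fromSpecStalk (genericPoint Y)).normalization)
  haveI : IsPrincipalIdealRing ((Curv2.normalization Y).presheaf.stalk z) := by
    by_cases hP : (hW.primeIdealOf ⟨z, hzW⟩).asIdeal = ⊥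
    · have hF : IsField ((Curv2.normalization Y).presheaf.stalk z) := by
        rw [IsLocalRing.isField_iff_maximalIdeal_eq,
          ← IsLocalization.AtPrime.map_eq_maximalIdeal (hW.primeIdealOf ⟨z, hzW⟩).asIdeal
            ((Curv2.normalization Y).presheaf.stalk z), hP, Ideal.map_bot]
      letI := hF.toField
      infer_instance
    · haveI := IsLocalization.AtPrime.isDiscreteValuationRing_of_dedekind_domain
        Γ(Curv2.normalization Y, W) hP ((Curv2.normalization Y).presheaf.stalk z)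
      infer_instance
  infer_instance


/-- Let Y be an integral Noetherian scheme of dimension one. Then (1) there is an alteration X → Y with
X regular, if and only if (2) Y has a resolution of singularities, i.e. a proper morphism X → Y from
an integral regular scheme which is an isomorphism over a nonempty open of Y; and (2) holds if and
only if (4) the normalization morphism of Y is finite. (A further equivalent condition, a finite
sequence of blowings up in closed points ending in a regular scheme, is stated separately. The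
quasi-compactness and quasi-separatedness binders on Spec K(Y) → Y always hold; they are needed only
to form the normalization.) -/
theorem result (Y : Scheme.{u}) [IsIntegral Y] [IsNoetherian Y]
    (hdim : topologicalKrullDim Y = 1)
    [QuasiCompact (Y.fromSpecStalk (genericPoint Y))] [QuasiSeparated (Y.fromSpecStalk (genericPoint Y))] :
    ((∃ (X : Scheme.{u}) (g : X ⟶ Y), Curv2.IsAlteration g ∧ ∀ x : X, IsRegularLocalRing (X.presheaf.stalk x)) ↔
      (∃ (X : Scheme.{u}) (g : X ⟶ Y), IsProper g ∧ IsIntegral X ∧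
        (∃ V : Y.Opens, (V : Set Y).Nonempty ∧ IsIso (g ∣_ V)) ∧ ∀ x : X, IsRegularLocalRing (X.presheaf.stalk x))) ∧
    ((∃ (X : Scheme.{u}) (g : X ⟶ Y), IsProper g ∧ IsIntegral X ∧
        (∃ V : Y.Opens, (V : Set Y).Nonempty ∧ IsIso (g ∣_ V)) ∧ ∀ x : X, IsRegularLocalRing (X.presheaf.stalk x)) ↔
      IsFinite (Curv2.normalizationι Y)) := by
  have h1 : (∃ (X : Scheme.{u}) (g : X ⟶ Y), IsProper g ∧ IsIntegral X ∧
      (∃ V : Y.Opens, (V : Set Y).Nonempty ∧ IsIso (g ∣_ V)) ∧ ∀ x : X, IsRegularLocalRing (X.presheaf.stalk x)) →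
      ∃ (X : Scheme.{u}) (g : X ⟶ Y), Curv2.IsAlteration g ∧ ∀ x : X, IsRegularLocalRing (X.presheaf.stalk x) := by
    rintro ⟨X, g, hg, hX, ⟨V, hV, hiso⟩, hreg⟩
    haveI := hiso
    refine ⟨X, g, ⟨hg, hX, inferInstance, ⟨?_⟩, V, hV, inferInstance⟩, hreg⟩
    refine (V.2.dense hV).mono fun v hv => ?_
    obtain ⟨w, hw⟩ := (g ∣_ V).homeomorph.surjective ⟨v, hv⟩
    exact ⟨w.1, by rw [← morphismRestrict_base_coe g V w]; exact congrArg Subtype.val hw⟩
  have h2 : (∃ (X : Scheme.{u}) (g : X ⟶ Y), Curv2.IsAlteration g ∧ ∀ x : X, IsRegularLocalRing (X.presheaf.stalk x)) →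
      IsFinite (Curv2.normalizationι Y) := by
    rintro ⟨X, g, ⟨hg, hX, -, hd, -⟩, hreg⟩
    haveI := hg; haveI := hX; haveI := hd
    exact isFinite_normalizationι_of_alteration Y g hreg
  have h3 : IsFinite (Curv2.normalizationι Y) → ∃ (X : Scheme.{u}) (g : X ⟶ Y), IsProper g ∧ IsIntegral X ∧
      (∃ V : Y.Opens, (V : Set Y).Nonempty ∧ IsIso (g ∣_ V)) ∧ ∀ x : X, IsRegularLocalRing (X.presheaf.stalk x) := by
    intro hfin
    exact ⟨_, Curv2.normalizationι Y, inferInstance,
      inferInstanceAs (IsIntegral (Y.fromSpecStalk (genericPoint Y)).normalization),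
      Groth.L22.BM.exists_isIso_normalizationι Y, isRegular_normalization Y hdim⟩
  exact ⟨⟨fun h => h3 (h2 h), h1⟩, fun h => h2 (h1 h), h3⟩

end Groth.Agent.S7321
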