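import Groth.Statements.S7372
import Groth.Agent.S7321
import Groth.Agent.L05.MinDesing.Basic
import Groth.Agent.L13.BlowUp.Exists
import Groth.Agent.L16.Blow.Integral
import Mathlib.RingTheory.DiscreteValuationRing.TFAE
import Mathlib.AlgebraicGeometry.ZariskisMainTheorem

set_option autoImplicit false
universe u
open CategoryTheory CategoryTheory.Limits AlgebraicGeometry
open Resolve

namespace Groth.Agent.S7372

open TopologicalSpace Groth.L05.PtSeq
open Groth.L03.BlowPt (ptI)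

theorem wellFoundedGT_pi {ι : Type*} [Finite ι] {β : ι → Type*} [∀ i, PartialOrder (β i)]
    [∀ i, WellFoundedGT (β i)] : WellFoundedGT (∀ i, β i) := by
  classical
  haveI := Fintype.ofFinite ι
  refine wellFoundedGT_iff_monotone_chain_condition.2 fun a => ?_
  choose n hn using fun i => WellFoundedGT.monotone_chain_condition
    (⟨fun m => a m i, fun _ _ h => a.monotone h i⟩ : ℕ →o β i)
  refine ⟨Finset.univ.sup n, fun m hm => funext fun i => ?_⟩
  have h1 : n i ≤ Finset.univ.sup n := Finset.le_sup (Finset.mem_univ i)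
  exact (hn i _ h1).symm.trans (hn i m (h1.trans hm))

theorem ptI_ne_bot {Z : Scheme.{u}} [IsIntegral Z] {z : Z} (hz : IsClosed ({z} : Set Z))
    (hne : genericPoint Z ≠ z) : ptI hz ≠ ⊥ := Groth.L05.PtSeq.ptI_ne_bot hz hne

theorem support_ptI {Z : Scheme.{u}} {z : Z} (hz : IsClosed ({z} : Set Z)) :
    ((ptI hz).support : Set Z) = {z} := by simp [ptI]

/-- One blow-up of a closed point of an integral scheme. -/
theorem step_data {Y Z : Scheme.{u}} [IsIntegral Z] [AlgebraicGeometry.IsNoetherian Z]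
    (hgen : ¬ IsClosed ({genericPoint Z} : Set Z)) (b : Y ⟶ Z) {z : Z} (hz : IsClosed ({z} : Set Z))
    (hb : BlowUp.IsBlowUp b (Scheme.IdealSheafData.vanishingIdeal ⟨{z}, hz⟩)) :
    ∃ (_ : IsIntegral Y) (_ : AlgebraicGeometry.IsNoetherian Y) (_ : IsProper b),
      Groth.L05.MinDesing.IsBir b ∧ b (genericPoint Y) = genericPoint Z ∧ ¬ IsClosed ({genericPoint Y} : Set Y) := by
  have hne : genericPoint Z ≠ z := fun e => hgen (e ▸ hz)
  haveI : IsProper b := Groth.L13.BU.isProper_blowUp hb fun U =>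
    haveI : IsNoetherianRing Γ(Z, U.1) := IsLocallyNoetherian.component_noetherian U
    IsNoetherian.noetherian _
  haveI : IsLocallyNoetherian Y := LocallyOfFiniteType.isLocallyNoetherian b
  haveI : CompactSpace Y := QuasiCompact.compactSpace_of_compactSpace b
  obtain ⟨hint, he, -⟩ := Groth.L16.Blow.isIntegral_and_birational hb (ptI_ne_bot hz hne)
  refine ⟨hint, ⟨⟩, inferInstance, ⟨(ptI hz).support.compl, ⟨genericPoint Z, ?_⟩,
    Groth.L22.Ideals.isIso_restrict_compl hb⟩, he, fun hcl => hgen ?_⟩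
  · show genericPoint Z ∉ ((ptI hz).support : Set Z)
    rw [support_ptI]; exact hne
  · have h := b.isClosedMap _ hcl
    rw [Set.image_singleton, he] at h
    exact h

theorem seq_data {Y X : Scheme.{u}} {g : Y ⟶ X} (hg : Resolve.IsPtBlowupSeq g) :
    ∀ [IsIntegral X], AlgebraicGeometry.IsNoetherian X → ¬ IsClosed ({genericPoint X} : Set X) →
    ∃ (_ : IsIntegral Y) (_ : AlgebraicGeometry.IsNoetherian Y) (_ : IsProper g),
      Groth.L05.MinDesing.IsBir g ∧ ¬ IsClosed ({genericPoint Y} : Set Y) := by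
  induction hg with
  | @iso Y X e =>
    intro hX hN hgen
    haveI := hX; haveI := hN
    haveI : Nonempty Y := ⟨e.inv (genericPoint X)⟩
    haveI : IsIntegral Y := isIntegral_of_isOpenImmersion e.hom
    haveI : IsLocallyNoetherian Y := LocallyOfFiniteType.isLocallyNoetherian e.hom
    haveI : CompactSpace Y := QuasiCompact.compactSpace_of_compactSpace e.hom
    refine ⟨inferInstance, ⟨⟩, inferInstance, Groth.L05.MinDesing.isBir_of_iso e, fun hcl => hgen ?_⟩
    have h := e.hom.isClosedMap _ hcl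
    rwa [Set.image_singleton, genericPoint_eq_of_isOpenImmersion e.hom] at h
  | @step Y Z X b r z hz hb hr ih =>
    intro hX hN hgen
    obtain ⟨hiZ, hNZ, hrp, hrb, hgZ⟩ := @ih hX hN hgen
    haveI := hiZ; haveI := hNZ; haveI := hrp; haveI := hX
    obtain ⟨hiY, hNY, hbp, hbb, -, hgY⟩ := step_data hgZ b hz hb
    exact ⟨hiY, hNY, inferInstance, Groth.L05.MinDesing.isBir_comp b r hbb hrb, hgY⟩

theorem seq_append {Y' Z : Scheme.{u}} {b : Y' ⟶ Z} {z : Z} (hz : IsClosed ({z} : Set Z))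
    (hb : BlowUp.IsBlowUp b (Scheme.IdealSheafData.vanishingIdeal ⟨{z}, hz⟩)) {X : Scheme.{u}} {r : Z ⟶ X}
    (hr : Resolve.IsPtBlowupSeq r) : Resolve.IsPtBlowupSeq (b ≫ r) := .step b r z hz hb hr

theorem isRegularLocalRing_of_principal {S : Type u} [CommRing S] [IsLocalRing S] [IsDomain S] [IsNoetherianRing S]
    (h : (IsLocalRing.maximalIdeal S).IsPrincipal) : IsRegularLocalRing S := by
  haveI : IsPrincipalIdealRing S := ((tfae_of_isNoetherianRing_of_isLocalRing_of_isDomain S).out 0 4).2 h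
  infer_instance

theorem injective_of_generic {N Z : Scheme.{u}} [IsIntegral N] [IsIntegral Z] (h : N ⟶ Z) :
    ∀ z : Z, h (genericPoint N) = z → z = genericPoint Z → Function.Injective (h.stalkMap (genericPoint N)).hom := by
  rintro _ rfl hz
  have key : ∀ (w : Z) (_ : w = genericPoint Z) {T : Type u} [CommRing T] [Nontrivial T]
      (φ : Z.presheaf.stalk w →+* T), Function.Injective φ := by
    rintro _ rfl T _ _ φ
    exact φ.injective
  exact key _ hz _

theorem exists_isIso_or_split (Y : Scheme.{u}) [IsIntegral Y] [AlgebraicGeometry.IsNoetherian Y]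
    [QuasiCompact (Y.fromSpecStalk (genericPoint Y))] [QuasiSeparated (Y.fromSpecStalk (genericPoint Y))]
    (hdim : topologicalKrullDim Y = 1) [IsFinite (Curv2.normalizationι Y)] :
    ∃ (Y' : Scheme.{u}) (g : Y' ⟶ Y), Resolve.IsPtBlowupSeq g ∧ ∀ y : Y', IsRegularLocalRing (Y'.presheaf.stalk y) := by
  classical
  let N := Curv2.normalization Y
  let ν := Curv2.normalizationι Y
  haveI : IsIntegral N := inferInstanceAs (IsIntegral (Y.fromSpecStalk (genericPoint Y)).normalization)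
  haveI : IsLocallyNoetherian N := LocallyOfFiniteType.isLocallyNoetherian ν
  have hνgen : ν (genericPoint N) = genericPoint Y := by
    obtain ⟨W, hW, hiso⟩ := Groth.L22.BM.exists_isIso_normalizationι Y
    haveI := hiso
    obtain ⟨e, -⟩ := Groth.L05.PtSeq.ffMap_bijective ν W ⟨_, Groth.L05.MinDesing.genericPoint_mem hW⟩
    exact e
  have hY0 : ¬ IsClosed ({genericPoint Y} : Set Y) := fun hcl => by
    haveI : Subsingleton Y := ⟨fun a c => ((genericPoint_specializes a).mem_closed hcl rfl).trans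
      ((genericPoint_specializes c).mem_closed hcl rfl).symm⟩
    haveI : DiscreteTopology Y := Subsingleton.discreteTopology
    have h1 := topologicalKrullDim_zero_of_discreteTopology Y
    rw [hdim] at h1
    exact absurd h1 (by decide)
  obtain ⟨S, hS⟩ : ∃ S : Finset Y.affineOpens, ∀ y : Y, ∃ U ∈ S, y ∈ U.1 := by
    obtain ⟨S, hS⟩ := isCompact_univ.elim_finite_subcover (fun U : Y.affineOpens => (U.1 : Set Y)) (fun U => U.1.2)
      (fun y _ => by
        obtain ⟨U, hU⟩ := Groth.L05.PtSeq.exists_affine y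
        exact Set.mem_iUnion.2 ⟨U, hU⟩)
    exact ⟨S, fun y => by simpa using hS (Set.mem_univ y)⟩
  letI algM : ∀ i : S, Algebra Γ(Y, i.1.1) Γ(N, ν ⁻¹ᵁ i.1.1) := fun i => (ν.app i.1.1).hom.toAlgebra
  haveI : ∀ i : S, IsNoetherianRing Γ(Y, i.1.1) := fun i => IsLocallyNoetherian.component_noetherian i.1
  haveI : ∀ i : S, Module.Finite Γ(Y, i.1.1) Γ(N, ν ⁻¹ᵁ i.1.1) := fun i => ν.finite_app i.1.1 i.1.2
  haveI : ∀ i : S, WellFoundedGT (Submodule Γ(Y, i.1.1) Γ(N, ν ⁻¹ᵁ i.1.1)) := fun i => inferInstance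
  haveI := wellFoundedGT_pi (β := fun i : S => Submodule Γ(Y, i.1.1) Γ(N, ν ⁻¹ᵁ i.1.1))
  suffices key : ∀ (Φ : ∀ i : S, Submodule Γ(Y, i.1.1) Γ(N, ν ⁻¹ᵁ i.1.1))
      (Y' : Scheme.{u}) [IsIntegral Y'] [AlgebraicGeometry.IsNoetherian Y'] (g : Y' ⟶ Y) [IsFinite g]
      (h : N ⟶ Y') (hg : h ≫ g = ν), h (genericPoint N) = genericPoint Y' → ¬ IsClosed ({genericPoint Y'} : Set Y') →
      Resolve.IsPtBlowupSeq g →
      (∀ i : S, (Φ i : Set Γ(N, ν ⁻¹ᵁ i.1.1)) =
        Set.range (h.appLE (g ⁻¹ᵁ i.1.1) (ν ⁻¹ᵁ i.1.1) (by rw [← Scheme.Hom.comp_preimage, hg]))) →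
      ∃ (Z : Scheme.{u}) (r : Z ⟶ Y), Resolve.IsPtBlowupSeq r ∧ ∀ z : Z, IsRegularLocalRing (Z.presheaf.stalk z) by
    refine key (fun i => LinearMap.range (Algebra.linearMap Γ(Y, i.1.1) Γ(N, ν ⁻¹ᵁ i.1.1))) Y (𝟙 Y) ν
      (Category.comp_id ν) hνgen hY0 (Resolve.IsPtBlowupSeq.iso (Iso.refl Y)) fun i => ?_
    rw [LinearMap.coe_range, Scheme.Hom.appLE]
    refine congrArg Set.range (funext fun a => ?_)
    show ν.app i.1.1 a = N.presheaf.map (homOfLE le_rfl).op (ν.app i.1.1 a)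
    simp
  intro Φ
  induction Φ using WellFoundedGT.induction with
  | _ Φ ih =>
  intro Y' _ _ g _ h hg hgen hY' hseq hΦ
  by_cases hreg : ∀ y : Y', IsRegularLocalRing (Y'.presheaf.stalk y)
  · exact ⟨Y', g, hseq, hreg⟩
  push Not at hreg
  obtain ⟨y, hy⟩ := hreg
  haveI : Surjective ν := ⟨fun w => by
    exact (genericPoint_specializes w).mem_closed ν.isClosedMap.isClosed_range ⟨_, hνgen⟩⟩
  haveI : IsFinite (h ≫ g) := by rw [hg]; infer_instance
  haveI : IsFinite h := IsFinite.of_comp h g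
  have hyne : y ≠ genericPoint Y' := fun e => hy (by
    rw [e]
    letI := (Field.toIsField Y'.functionField).toField
    exact inferInstanceAs (IsRegularLocalRing Y'.functionField))
  have hdimY : topologicalKrullDim N ≤ 1 :=
    (Groth.L19.topologicalKrullDim_le_of_isIntegralHom ν).trans hdim.le
  have hyc : IsClosed ({y} : Set Y') := by
    refine closure_subset_iff_isClosed.1 fun d hd => ?_
    by_contra hdy
    have h1 := Groth.L03.BlowPt.Factor.dim_add_one_le (genericPoint_specializes y) (Ne.symm hyne)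
    have h2 := Groth.L03.BlowPt.Factor.dim_add_one_le (specializes_iff_mem_closure.2 hd) (Ne.symm hdy)
    have h3 := (Groth.L15.CohFlat.ringKrullDim_stalk_le d).trans
      ((Groth.L19.topologicalKrullDim_le_of_isIntegralHom g).trans hdim.le)
    rw [Groth.L05.PtSeq.dim_stalk_genericPoint, zero_add] at h1
    exact absurd (((add_le_add h1 le_rfl).trans h2).trans h3) (by decide)
  obtain ⟨Y'', b, hb⟩ := Groth.L13.BU.exists_isBlowUp (Scheme.IdealSheafData.vanishingIdeal ⟨{y}, hyc⟩)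
  obtain ⟨hiY, hNY, hbp, -, hbgen, hY''⟩ := step_data hY' b hyc hb
  haveI := hiY; haveI := hNY; haveI := hbp
  have hcart : BlowUp.IsEffCartierIdeal ((Scheme.IdealSheafData.vanishingIdeal ⟨{y}, hyc⟩).comap h) := by
    refine Groth.L22.Div.isEffCartier_of_stalks _ fun x hx U hxU => ?_
    haveI := Groth.Agent.S7321.isRegular_normalization Y hdim x
    haveI := Groth.L01.isDomain_of_regular (N.presheaf.stalk x)
    have hx1 : ringKrullDim (N.presheaf.stalk x) ≤ 1 := (Groth.L15.CohFlat.ringKrullDim_stalk_le x).trans hdimY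
    haveI : IsPrincipalIdealRing (N.presheaf.stalk x) := by
      refine ((tfae_of_isNoetherianRing_of_isLocalRing_of_isDomain (N.presheaf.stalk x)).out 0 5).2 ?_
      have h := (IsRegularLocalRing.iff_finrank_cotangentSpace (R := N.presheaf.stalk x)).1 inferInstance
      rw [← h] at hx1
      exact_mod_cast hx1
    obtain ⟨t, ht⟩ := IsPrincipalIdealRing.principal
      (Groth.L22.Div.stalkIdeal ((Scheme.IdealSheafData.vanishingIdeal ⟨{y}, hyc⟩).comap h) U x hxU)
    refine ⟨t, ht, mem_nonZeroDivisors_of_ne_zero fun h0 => ?_⟩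
    have h2 := Groth.L05.FibreDecomp.map_stalkSpecializes
      ((Scheme.IdealSheafData.vanishingIdeal ⟨{y}, hyc⟩).comap h) U x hxU (genericPoint_specializes x)
    rw [ht, h0, Submodule.span_zero_singleton, Ideal.map_bot] at h2
    have h3 : genericPoint N ∉ (((Scheme.IdealSheafData.vanishingIdeal ⟨{y}, hyc⟩).comap h).support : Set N) := by
      rw [Scheme.IdealSheafData.support_comap]
      show h (genericPoint N) ∉ ((ptI hyc).support : Set Y')
      rw [hgen, support_ptI]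
      exact Ne.symm hyne
    rw [Groth.L05.FibreDecomp.stalkIdeal_eq_top _ U _ _ h3] at h2
    exact (bot_ne_top (α := Ideal (N.presheaf.stalk (genericPoint N)))) h2
  obtain ⟨h'', hh'', -⟩ := hb.2 N h hcart
  have hgen'' : h'' (genericPoint N) = genericPoint Y'' := by
    haveI : IsIso (b ∣_ (ptI hyc).support.compl) := Groth.L22.Ideals.isIso_restrict_compl hb
    have hmem : b (genericPoint Y'') ∈ (ptI hyc).support.compl := by
      show b (genericPoint Y'') ∉ ((ptI hyc).support : Set Y')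
      rw [hbgen, support_ptI]; exact Ne.symm hyne
    exact (Groth.L05.RelMinExists.eq_of_isIso_restrict' b _ hmem (by
      rw [hbgen, ← Scheme.Hom.comp_apply, hh'', hgen])).symm
  haveI : Surjective h'' := by
    haveI : IsFinite (h'' ≫ b) := by rw [hh'']; infer_instance
    haveI : IsFinite h'' := IsFinite.of_comp h'' b
    exact ⟨fun w => (genericPoint_specializes w).mem_closed h''.isClosedMap.isClosed_range ⟨_, hgen''⟩⟩
  have hg'' : h'' ≫ b ≫ g = ν := by rw [← Category.assoc, hh'', hg]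
  haveI : LocallyQuasiFinite (b ≫ g) := by
    refine LocallyQuasiFinite.of_finite_preimage_singleton _ fun w => ?_
    refine ((ν.finite_preimage_singleton w).image h'').subset fun a ha => ?_
    obtain ⟨c, rfl⟩ := h''.surjective a
    exact ⟨c, by show ν c = w; rw [← hg'']; exact ha, rfl⟩
  haveI : IsFinite (b ≫ g) := IsFinite.of_isProper_of_locallyQuasiFinite _
  haveI : IsFinite b := IsFinite.of_comp b g
  have hle : ∀ i : S, ν ⁻¹ᵁ i.1.1 ≤ h'' ⁻¹ᵁ ((b ≫ g) ⁻¹ᵁ i.1.1) := fun i => by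
    rw [← Scheme.Hom.comp_preimage, hg'']
  have hle0 : ∀ i : S, ν ⁻¹ᵁ i.1.1 ≤ h ⁻¹ᵁ (g ⁻¹ᵁ i.1.1) := fun i => by
    rw [← Scheme.Hom.comp_preimage, hg]
  have hν : ∀ (i : S) (a : Γ(Y, i.1.1)),
      h''.appLE ((b ≫ g) ⁻¹ᵁ i.1.1) _ (hle i) ((b ≫ g).app i.1.1 a) = ν.app i.1.1 a := fun i a => by
    have key : ∀ (φ ψ : N ⟶ Y) (e : φ = ψ) (e1 : ψ ⁻¹ᵁ i.1.1 ≤ φ ⁻¹ᵁ i.1.1),
        φ.appLE i.1.1 (ψ ⁻¹ᵁ i.1.1) e1 a = ψ.app i.1.1 a := by
      rintro φ _ rfl e1
      simp [Scheme.Hom.appLE]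
    rw [← key (h'' ≫ b ≫ g) ν hg'' (by rw [hg'']), Scheme.Hom.comp_appLE]
    rfl
  let Φ'' : ∀ i : S, Submodule Γ(Y, i.1.1) Γ(N, ν ⁻¹ᵁ i.1.1) := fun i =>
    { carrier := Set.range (h''.appLE ((b ≫ g) ⁻¹ᵁ i.1.1) (ν ⁻¹ᵁ i.1.1) (hle i))
      add_mem' := by rintro _ _ ⟨a, rfl⟩ ⟨c, rfl⟩; exact ⟨a + c, map_add _ _ _⟩
      zero_mem' := ⟨0, map_zero _⟩
      smul_mem' := by
        rintro a _ ⟨c, rfl⟩
        refine ⟨(b ≫ g).app i.1.1 a * c, ?_⟩
        rw [map_mul, Algebra.smul_def, hν]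
        rfl }
  have hfac : ∀ (i : S) (c : Γ(Y', g ⁻¹ᵁ i.1.1)), h.appLE (g ⁻¹ᵁ i.1.1) (ν ⁻¹ᵁ i.1.1) (hle0 i) c =
      h''.appLE ((b ≫ g) ⁻¹ᵁ i.1.1) (ν ⁻¹ᵁ i.1.1) (hle i) (b.app (g ⁻¹ᵁ i.1.1) c) := fun i c => by
    have key : ∀ (φ : N ⟶ Y') (e : h'' ≫ b = φ) (e1 : ν ⁻¹ᵁ i.1.1 ≤ φ ⁻¹ᵁ (g ⁻¹ᵁ i.1.1)),
        φ.appLE (g ⁻¹ᵁ i.1.1) (ν ⁻¹ᵁ i.1.1) e1 c =
          h''.appLE ((b ≫ g) ⁻¹ᵁ i.1.1) (ν ⁻¹ᵁ i.1.1) (hle i) (b.app (g ⁻¹ᵁ i.1.1) c) := by
      rintro _ rfl e1
      rw [Scheme.Hom.comp_appLE]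
      rfl
    exact key h hh'' (hle0 i)
  have hmono : Φ ≤ Φ'' := fun i x hx => by
    obtain ⟨c, rfl⟩ := (hΦ i).subset hx
    exact ⟨_, (hfac i c).symm⟩
  refine ih Φ'' (lt_of_le_of_ne hmono fun heq => hy ?_) Y'' (b ≫ g) h'' hg'' hgen'' hY''
    (seq_append hyc hb hseq) fun i => rfl
  have hbij : ∀ i : S, Function.Bijective (b.app (g ⁻¹ᵁ i.1.1)) := fun i => by
    by_cases hne : ((b ≫ g) ⁻¹ᵁ i.1.1 : Set Y'').Nonempty
    swap
    · haveI : Subsingleton Γ(Y'', b ⁻¹ᵁ g ⁻¹ᵁ i.1.1) := by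
        rw [show b ⁻¹ᵁ g ⁻¹ᵁ i.1.1 = ⊥ from Opens.ext (Set.not_nonempty_iff_eq_empty.1 hne)]
        infer_instance
      haveI : Subsingleton Γ(Y', g ⁻¹ᵁ i.1.1) := by
        rw [show g ⁻¹ᵁ i.1.1 = ⊥ from Opens.ext (Set.eq_empty_of_forall_notMem fun w hw => hne ⟨genericPoint Y'', by
          show b (genericPoint Y'') ∈ g ⁻¹ᵁ i.1.1
          rw [hbgen]; exact (genericPoint_specializes w).mem_open (g ⁻¹ᵁ i.1.1).2 hw⟩)]
        infer_instance
      exact ⟨fun _ _ _ => Subsingleton.elim _ _, fun c => ⟨0, Subsingleton.elim _ _⟩⟩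
    obtain ⟨w, hw⟩ := hne
    have hη'' : genericPoint Y'' ∈ (b ≫ g) ⁻¹ᵁ i.1.1 := (genericPoint_specializes w).mem_open ((b ≫ g) ⁻¹ᵁ i.1.1).2 hw
    have hηN : genericPoint N ∈ ν ⁻¹ᵁ i.1.1 := by
      show ν (genericPoint N) ∈ i.1.1
      rw [hνgen]
      exact (genericPoint_specializes ((b ≫ g) w)).mem_open i.1.1.2 hw
    have hinj : ∀ {Z : Scheme.{u}} [IsIntegral Z] (φ : N ⟶ Z) (O : Z.Opens) (e : ν ⁻¹ᵁ i.1.1 ≤ φ ⁻¹ᵁ O),
        φ (genericPoint N) = genericPoint Z → Function.Injective (φ.appLE O (ν ⁻¹ᵁ i.1.1) e) := by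
      intro Z _ φ O e hφ c c' hcc
      have hO : φ (genericPoint N) ∈ O := e hηN
      refine germ_injective_of_isIntegral Z (φ (genericPoint N)) hO (injective_of_generic φ _ rfl hφ ?_)
      show φ.stalkMap _ (Z.presheaf.germ O _ hO c) = φ.stalkMap _ (Z.presheaf.germ O _ hO c')
      rw [Scheme.Hom.germ_stalkMap_apply, Scheme.Hom.germ_stalkMap_apply]
      have := congrArg (N.presheaf.germ (ν ⁻¹ᵁ i.1.1) (genericPoint N) hηN) hcc
      simp only [Scheme.Hom.appLE, CommRingCat.comp_apply, TopCat.Presheaf.germ_res_apply] at this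
      exact this
    refine ⟨fun c c' hcc => hinj h _ (hle0 i) hgen ?_, fun d => ?_⟩
    · rw [hfac, hfac, hcc]
    · have hd : h''.appLE ((b ≫ g) ⁻¹ᵁ i.1.1) (ν ⁻¹ᵁ i.1.1) (hle i) d ∈ (Φ i : Set Γ(N, ν ⁻¹ᵁ i.1.1)) := by
        rw [show Φ i = Φ'' i from congrFun heq i]
        exact ⟨d, rfl⟩
      obtain ⟨c, hc⟩ := (hΦ i).subset hd
      exact ⟨c, hinj h'' _ (hle i) hgen'' ((hfac i c).symm.trans hc)⟩
  haveI : IsIso b := by
    refine (IsZariskiLocalAtTarget.iff_of_iSup_eq_top (P := MorphismProperty.isomorphisms Scheme)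
      (fun i : S => g ⁻¹ᵁ i.1.1) ?_).2 fun i => ?_
    · refine eq_top_iff.2 fun w _ => ?_
      obtain ⟨U, hU, hw⟩ := hS (g w)
      exact Opens.mem_iSup.2 ⟨⟨U, hU⟩, hw⟩
    · haveI : IsAffine ↑(g ⁻¹ᵁ i.1.1) := i.1.2.preimage g
      haveI : IsIso (b.app (g ⁻¹ᵁ i.1.1)) := (ConcreteCategory.isIso_iff_bijective _).2 (hbij i)
      haveI : IsAffine ↑(b ⁻¹ᵁ (g ⁻¹ᵁ i.1.1)) := (i.1.2.preimage g).preimage b
      haveI : IsIso (b ∣_ (g ⁻¹ᵁ i.1.1)).appTop := by
        rw [morphismRestrict_appTop]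
        have : ∀ O : Y'.Opens, O = g ⁻¹ᵁ i.1.1 → IsIso (b.app O) := by rintro _ rfl; infer_instance
        exact @IsIso.comp_isIso _ _ _ _ _ _ _ (this _ (by simp)) (Functor.map_isIso _ _)
      exact ((MorphismProperty.isomorphisms Scheme).arrow_mk_iso_iff
        (arrowIsoSpecΓOfIsAffine (b ∣_ (g ⁻¹ᵁ i.1.1)))).2
        (inferInstanceAs (IsIso (Spec.map (b ∣_ (g ⁻¹ᵁ i.1.1)).appTop)))
  have hmax : stI (ptI hyc) y = IsLocalRing.maximalIdeal (Y'.presheaf.stalk y) := stI_ptI hyc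
  have key : ∀ (w : Y'') (e : b w = y), (stI (ptI hyc) y).IsPrincipal := by
    rintro w rfl
    obtain ⟨t, -, ht⟩ := Groth.L05.PtSeq.stI_isPrincipal hb.1 w
    rw [stI_comap] at ht
    let ε := (asIso (b.stalkMap w)).commRingCatIsoToRingEquiv
    have h1 := congrArg (Ideal.map ε.symm.toRingHom) ht
    rw [Ideal.map_span, Set.image_singleton, Ideal.map_map] at h1
    refine ⟨⟨ε.symm t, ?_⟩⟩
    rw [← Ideal.map_id (stI (ptI hyc) (b w))]
    refine Eq.trans ?_ h1
    congr 1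
    exact RingHom.ext fun a => (ε.symm_apply_apply a).symm
  have hp := key (inv b y) (by rw [← Scheme.Hom.comp_apply, IsIso.inv_hom_id]; rfl)
  rw [hmax] at hp
  haveI : IsDomain (Y'.presheaf.stalk y) := inferInstance
  exact isRegularLocalRing_of_principal hp


/-- Let Y be an integral Noetherian scheme of dimension one. Then Y has a resolution of singularities (a
proper morphism X → Y from an integral scheme with regular local rings which is an isomorphism over
a nonempty open of Y) if and only if there is a finite sequence of blowings up in closed points Y_n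
→ Y_{n-1} → … → Y_1 → Y with Y_n regular (all local rings regular). -/
theorem result (Y : Scheme.{u}) [IsIntegral Y] [IsNoetherian Y]
    (hdim : topologicalKrullDim Y = 1) :
    (∃ (X : Scheme.{u}) (g : X ⟶ Y), IsProper g ∧ IsIntegral X ∧
        (∃ V : Y.Opens, (V : Set Y).Nonempty ∧ IsIso (g ∣_ V)) ∧ ∀ x : X, IsRegularLocalRing (X.presheaf.stalk x)) ↔
      ∃ (Y' : Scheme.{u}) (g : Y' ⟶ Y), Resolve.IsPtBlowupSeq g ∧ ∀ y : Y', IsRegularLocalRing (Y'.presheaf.stalk y) := by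
  haveI : QuasiCompact (Y.fromSpecStalk (genericPoint Y)) := inferInstance
  haveI : QuasiSeparated (Y.fromSpecStalk (genericPoint Y)) := inferInstance
  constructor
  · intro h
    haveI : IsFinite (Curv2.normalizationι Y) :=
      (Groth.Agent.S7321.result Y hdim).2.1 h
    exact exists_isIso_or_split Y hdim
  · rintro ⟨Y', g, hg, hreg⟩
    have hgen : ¬ IsClosed ({genericPoint Y} : Set Y) := fun hcl => by
      haveI : Subsingleton Y := ⟨fun a c => ((genericPoint_specializes a).mem_closed hcl rfl).trans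
        ((genericPoint_specializes c).mem_closed hcl rfl).symm⟩
      haveI : DiscreteTopology Y := Subsingleton.discreteTopology
      have h1 := topologicalKrullDim_zero_of_discreteTopology Y
      rw [hdim] at h1
      exact absurd h1 (by decide)
    obtain ⟨hi, -, hp, hbir, -⟩ := seq_data hg inferInstance hgen
    exact ⟨Y', g, hp, hi, hbir, hreg⟩

end Groth.Agent.S7372
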