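import Groth.Statements.S7373
import Groth.Agent.S7372
import Groth.Agent.S10920

set_option autoImplicit false
universe u
open CategoryTheory CategoryTheory.Limits AlgebraicGeometry
open Resolve

namespace Groth.Agent.S7373

open TopologicalSpace Groth.L05.PtSeq
open Groth.L03.BlowPt (ptI)

theorem comap_ptI {Z X : Scheme.{u}} (f : Z ⟶ X) [IsClosedImmersion f] {z : Z} (hz : IsClosed ({z} : Set Z))
    (hx : IsClosed ({f z} : Set X)) : (ptI hx).comap f = ptI hz := by
  refine ext_stI fun w => ?_
  rw [stI_comap]
  by_cases hw : w = z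
  · subst hw
    rw [stI_ptI hx, stI_ptI hz]
    exact IsLocalRing.map_maximalIdeal_of_surjective _ (f.stalkMap_surjective w)
  · rw [(stI_eq_top_iff (ptI hz) w).2 (by rw [Groth.Agent.S7372.support_ptI]; exact hw),
      (stI_eq_top_iff (ptI hx) (f w)).2 (by
        rw [Groth.Agent.S7372.support_ptI]; exact fun e => hw (f.isClosedEmbedding.injective e)),
      Ideal.map_top]

/-- A sequence of point blow-ups of a closed subscheme is induced by one of the ambient scheme. -/
theorem exists_ambient {Y' Y : Scheme.{u}} {g : Y' ⟶ Y} (hg : Resolve.IsPtBlowupSeq g) :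
    ∀ {X : Scheme.{u}}, AlgebraicGeometry.IsNoetherian X → ∀ (f : Y ⟶ X), IsClosedImmersion f →
      ∃ (X' : Scheme.{u}) (G : X' ⟶ X) (f' : Y' ⟶ X'), Resolve.IsPtBlowupSeq G ∧
        AlgebraicGeometry.IsNoetherian X' ∧ IsClosedImmersion f' ∧ f' ≫ G = g ≫ f := by
  induction hg with
  | iso e =>
    intro X hX f hf
    haveI := hf
    exact ⟨X, 𝟙 X, e.hom ≫ f, Resolve.IsPtBlowupSeq.iso (Iso.refl X), hX, inferInstance, Category.comp_id _⟩
  | @step W Z Y b r z hz hb hr ih =>
    intro X hX f hf
    obtain ⟨X₁, G₁, f₁, hG₁, hX₁, hf₁, hw⟩ := ih hX f hf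
    haveI := hX₁; haveI := hf₁
    have hx : IsClosed ({f₁ z} : Set X₁) := by
      have h := f₁.isClosedMap _ hz
      rwa [Set.image_singleton] at h
    obtain ⟨X₂, B, hB⟩ := Groth.L13.BU.exists_isBlowUp (ptI hx)
    haveI : IsProper B := Groth.L13.BU.isProper_blowUp hB fun U =>
      haveI : IsNoetherianRing Γ(X₁, U.1) := IsLocallyNoetherian.component_noetherian U
      IsNoetherian.noetherian _
    haveI : IsLocallyNoetherian X₂ := LocallyOfFiniteType.isLocallyNoetherian B
    haveI : CompactSpace X₂ := QuasiCompact.compactSpace_of_compactSpace B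
    have hcart : BlowUp.IsEffCartierIdeal ((ptI hx).comap (b ≫ f₁)) := by
      rw [Scheme.IdealSheafData.comap_comp, comap_ptI f₁ hz hx]
      exact hb.1
    obtain ⟨h, hh, -⟩ := hB.2 W (b ≫ f₁) hcart
    have hb' : BlowUp.IsBlowUp b ((ptI hx).comap f₁) := by rw [comap_ptI f₁ hz hx]; exact hb
    haveI := Groth.Agent.S10920.result (ptI hx) f₁ B hB b hb' h hh
    exact ⟨X₂, B ≫ G₁, h, Groth.Agent.S7372.seq_append hx hB hG₁, ⟨⟩, inferInstance, by
      rw [← Category.assoc, hh, Category.assoc, hw, Category.assoc]⟩


/-- Let X be a Noetherian scheme and Y ⊂ X an integral closed subscheme of dimension one (given by its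
ideal sheaf I) whose normalization morphism is finite. Then there is a finite sequence of blowings
up in closed points g : X' → X such that the strict transform Y' of Y in X' is a regular curve: an
integral closed subscheme Y' ⊂ X' (ideal I') mapped by g into Y, isomorphically over a nonempty open
of Y, all of whose local rings are regular. (The quasi-compactness and quasi-separatedness binders
on Spec K(Y) → Y always hold.) -/
theorem result (X : Scheme.{u}) [IsNoetherian X] (I : X.IdealSheafData)
    [IsIntegral I.subscheme] (hdim : topologicalKrullDim ↥I.subscheme = 1)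
    [QuasiCompact (I.subscheme.fromSpecStalk (genericPoint ↥I.subscheme))]
    [QuasiSeparated (I.subscheme.fromSpecStalk (genericPoint ↥I.subscheme))]
    (hfin : IsFinite (Curv2.normalizationι I.subscheme)) :
    ∃ (X' : Scheme.{u}) (g : X' ⟶ X), Resolve.IsPtBlowupSeq g ∧
      ∃ (I' : X'.IdealSheafData) (g' : I'.subscheme ⟶ I.subscheme), IsIntegral I'.subscheme ∧
        g' ≫ I.subschemeι = I'.subschemeι ≫ g ∧
        (∃ V : I.subscheme.Opens, (V : Set ↥I.subscheme).Nonempty ∧ IsIso (g' ∣_ V)) ∧
        ∀ y : ↥I'.subscheme, IsRegularLocalRing (I'.subscheme.presheaf.stalk y) := by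
  let Y := I.subscheme
  haveI : IsLocallyNoetherian Y := LocallyOfFiniteType.isLocallyNoetherian I.subschemeι
  haveI : CompactSpace Y := QuasiCompact.compactSpace_of_compactSpace I.subschemeι
  haveI : AlgebraicGeometry.IsNoetherian Y := ⟨⟩
  haveI := hfin
  obtain ⟨Y', g, hg, hreg⟩ := Groth.Agent.S7372.exists_isIso_or_split Y hdim
  have hgen : ¬ IsClosed ({genericPoint Y} : Set Y) := fun hcl => by
    haveI : Subsingleton Y := ⟨fun a c => ((genericPoint_specializes a).mem_closed hcl rfl).trans
      ((genericPoint_specializes c).mem_closed hcl rfl).symm⟩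
    haveI : DiscreteTopology Y := Subsingleton.discreteTopology
    have h1 := topologicalKrullDim_zero_of_discreteTopology Y
    rw [hdim] at h1
    exact absurd h1 (by decide)
  obtain ⟨hi, -, hp, hbir, -⟩ := Groth.Agent.S7372.seq_data hg inferInstance hgen
  haveI := hi; haveI := hp
  obtain ⟨X', G, f', hG, -, hf', hw⟩ := exists_ambient hg inferInstance I.subschemeι inferInstance
  haveI := hf'
  haveI : Nonempty f'.image := ⟨f'.toImage (genericPoint Y')⟩
  haveI hint : IsIntegral f'.ker.subscheme := isIntegral_of_isOpenImmersion (inv f'.toImage)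
  refine ⟨X', G, hG, f'.ker, inv f'.toImage ≫ g, hint, ?_, ?_, fun y => ?_⟩
  · rw [Category.assoc, ← hw, IsIso.inv_comp_eq, ← Category.assoc, f'.toImage_imageι]
  · exact Groth.L05.MinDesing.isBir_comp (inv f'.toImage) g
      (Groth.L05.MinDesing.isBir_of_iso (asIso f'.toImage).symm) hbir
  · haveI := hreg (inv f'.toImage y)
    exact IsRegularLocalRing.of_ringEquiv (asIso ((inv f'.toImage).stalkMap y)).commRingCatIsoToRingEquiv

end Groth.Agent.S7373
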