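import Groth.Statements.S10945
import Groth.Agent.L18.GlobGen
import Groth.Agent.L21.Mod.Stalks
-- import your own Groth.Agent.* helpers here

set_option autoImplicit false
universe u
open CategoryTheory AlgebraicGeometry Opposite
open Coherent

namespace Groth.Agent.S10945

theorem eq_zero_of_kills {X : Scheme.{u}} {F G : X.Modules} (hF : Curv2.IsGloballyGenerated F)
    (g : F ⟶ G) (hg : Groth.L18.Ample.KillsGlobal g) : g = 0 := by
  obtain ⟨ι, p, hp⟩ := hF
  refine hp.left_cancellation g 0 (Eq.trans ?_ Limits.comp_zero.symm)
  apply (SheafOfModules.freeHomEquiv G).injective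
  funext i
  apply Subtype.ext
  funext W
  have key : ∀ (σ : G.sections) (W : X.Opensᵒᵖ), σ.eval (op ⊤) = 0 → σ.eval W = 0 := fun σ W h => by
    refine (σ.property (homOfLE (le_top : W.unop ≤ ⊤)).op).symm.trans ?_
    exact (congrArg _ h).trans (map_zero (G.val.presheaf.map (homOfLE (le_top : W.unop ≤ ⊤)).op).hom)
  refine (key _ W ?_).trans (key _ W rfl).symm
  exact hg _

/-- Let X be a scheme and 0 → F' → F → F'' → 0 a short exact sequence of O_X-modules whose map on global
sections Γ(X, F) → Γ(X, F'') is surjective. If F' and F'' are generated by global sections (each is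
a quotient of a free O_X-module), then F is generated by global sections. -/
theorem result (X : Scheme.{u})
    (S : ShortComplex X.Modules) (hS : S.ShortExact)
    (hsurj : Function.Surjective (S.g.val.app (op ⊤)).hom)
    (h1 : Curv2.IsGloballyGenerated S.X₁) (h3 : Curv2.IsGloballyGenerated S.X₃) :
    Curv2.IsGloballyGenerated S.X₂ := by
  have := hS.epi_g
  refine Groth.L18.Ample.isGloballyGenerated_of_kills _ fun G g hg => ?_
  have h0 : S.f ≫ g = 0 := eq_zero_of_kills h1 _ fun t => hg _
  have hh : hS.exact.desc g h0 = 0 := eq_zero_of_kills h3 _ fun t => by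
    obtain ⟨s, rfl⟩ := hsurj t
    have h' := hg s
    rw [← hS.exact.g_desc g h0] at h'
    exact h'
  rw [← hS.exact.g_desc g h0, hh, Limits.comp_zero]

end Groth.Agent.S10945
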