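import Groth.Statements.S1274
import Groth.Agent.L13.Nagata.Modification
-- import your own Groth.Agent.* helpers here

set_option autoImplicit false
universe u
open FlatMor

namespace Groth.Agent.S1274

open AlgebraicGeometry CategoryTheory Limits in
/-- Let φ : X → S be proper with S quasi-compact and quasi-separated, and U ⊆ S a quasi-compact open
over which φ is an isomorphism. Then there is a U-admissible blow-up b : S' → S which dominates X,
i.e. b factors as S' → X → S. -/
theorem result {X S : Scheme.{u}} [CompactSpace S] [QuasiSeparatedSpace S]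
    (φ : X ⟶ S) [IsProper φ] (U : S.Opens) (hU : IsCompact (U : Set S)) [IsIso (φ ∣_ U)] :
    ∃ (𝓘 : S.IdealSheafData) (S' : Scheme.{u}) (b : S' ⟶ S), BlowUp.IsBlowUp b 𝓘 ∧ BlowUp.IsAdmissibleFor U 𝓘 ∧
      ∃ h : S' ⟶ X, h ≫ φ = b := by
  obtain ⟨J, S', X', b, c, h, hb, hc, hJ, -, hh, e⟩ := Groth.L13.Nagata.exists_isIso_blowUps φ U hU
  haveI := hh
  refine ⟨J, S', b, hb, hJ, inv h ≫ c, ?_⟩
  rw [Category.assoc, ← e, IsIso.inv_hom_id_assoc]

end Groth.Agent.S1274
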