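import Groth.Statements.S7338
import Groth.Agent.L13.LerayFive.Lengths
import Groth.Agent.L13.RatSing.Birat
import Groth.Agent.L13.RatSing.Seq
import Groth.Agent.L13.ModFibre
import Groth.Agent.L13.DescendBlowUp.Main
import Groth.Agent.L19.VanishFibre.Main
import Groth.Agent.L22.CurveDeg.ZeroDim
-- import your own Groth.Agent.* helpers here

set_option autoImplicit false
set_option linter.style.haveILetI false
universe u
open CategoryTheory CategoryTheory.Limits AlgebraicGeometry
open Resolve

namespace Groth.Agent.S7338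
open TopologicalSpace

/-- A closed set of closed points of a Noetherian space is finite. -/
theorem finite_of_isClosed {T : Type u} [TopologicalSpace T] [NoetherianSpace T] [QuasiSober T] {Z : Set T}
    (hZ : IsClosed Z) (h : ∀ z ∈ Z, IsClosed ({z} : Set T)) : Z.Finite := by
  obtain ⟨S, hSf, hSc, hSi, hS⟩ := NoetherianSpace.exists_finite_set_isClosed_irreducible hZ
  rw [hS]
  refine Set.Finite.sUnion hSf fun t ht => ?_
  obtain ⟨x, hx⟩ := QuasiSober.sober (hSi t ht) (hSc t ht)
  have hxZ : x ∈ Z := by rw [hS]; exact ⟨t, ht, hx.mem⟩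
  rw [← hx.def, (h x hxZ).closure_eq]
  exact Set.finite_singleton x

/-- Let (A, m) be a Noetherian normal local domain of dimension two, and X, X' integral schemes proper
over Spec A, each an isomorphism over some nonempty open of Spec A (modifications), with X normal,
and g : X' → X a morphism over Spec A. Then R^1 g_* O_{X'} is generated by global sections and its
support is a finite set of closed points of X, and there is a short exact sequence 0 → H^1(X, O_X) →
H^1(X', O_{X'}) → H^0(X, R^1 g_* O_{X'}) → 0, recorded here as the additivity of A-lengths. (R^1 g_*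
is the right derived functor of g_* on O-modules; that O_{X'}-modules have injective resolutions is
carried as an instance hypothesis.) -/
theorem result (A : Type u) [CommRing A] [IsDomain A] [IsLocalRing A] [IsNoetherianRing A]
    [IsIntegrallyClosed A] (hdim : ringKrullDim A = 2)
    (X X' : Scheme.{u}) [X.Over (Spec (CommRingCat.of A))] [X'.Over (Spec (CommRingCat.of A))]
    [IsProper (X ↘ Spec (CommRingCat.of A))] [IsProper (X' ↘ Spec (CommRingCat.of A))] [IsIntegral X] [IsIntegral X']
    (hX : ∃ U : (Spec (CommRingCat.of A)).Opens, (U : Set (Spec (CommRingCat.of A))).Nonempty ∧ IsIso ((X ↘ Spec (CommRingCat.of A)) ∣_ U))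
    (hX' : ∃ U : (Spec (CommRingCat.of A)).Opens, (U : Set (Spec (CommRingCat.of A))).Nonempty ∧ IsIso ((X' ↘ Spec (CommRingCat.of A)) ∣_ U))
    (hXn : Pi1.IsNormalScheme X) (g : X' ⟶ X) (hg : g ≫ (X ↘ Spec (CommRingCat.of A)) = X' ↘ Spec (CommRingCat.of A))
    [HasInjectiveResolutions X'.Modules] :
    Curv2.IsGloballyGenerated ((Coh.Rpush g 1).obj (Coh.structureModule X')) ∧
      {x : X | Nontrivial (((Coh.Rpush g 1).obj (Coh.structureModule X')).presheaf.stalk x)}.Finite ∧
      (∀ x : X, Nontrivial (((Coh.Rpush g 1).obj (Coh.structureModule X')).presheaf.stalk x) → IsClosed ({x} : Set X)) ∧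
      Module.length A (Coh.HH X' (Coh.structureModule X') 1) =
        Module.length A (Coh.HH X (Coh.structureModule X) 1) +
          Module.length A (Coh.HH X ((Coh.Rpush g 1).obj (Coh.structureModule X')) 0) := by
  let S := Spec (CommRingCat.of A)
  let p := X ↘ S
  let p' := X' ↘ S
  have hS : Pi1.IsNormalScheme S := Groth.L05.NeronFinite.isNormalScheme_spec fun P _ =>
    ⟨inferInstance, isIntegrallyClosed_of_isLocalization _ P.primeCompl P.primeCompl_le_nonZeroDivisors⟩
  obtain ⟨U, hUne, hUiso⟩ := hX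
  obtain ⟨U', hU'ne, hU'iso⟩ := hX'
  haveI := hUiso; haveI := hU'iso
  haveI : IsLocallyNoetherian X := LocallyOfFiniteType.isLocallyNoetherian p
  haveI : CompactSpace X := QuasiCompact.compactSpace_of_compactSpace p
  haveI : IsNoetherian X := {}
  haveI : IsProper (g ≫ p) := by rw [hg]; infer_instance
  haveI : IsProper g := IsProper.of_comp g p
  have hne' : ((U ⊓ U' : S.Opens) : Set S).Nonempty := by
    obtain ⟨w, -, hw⟩ := PreirreducibleSpace.isPreirreducible_univ U.1 U'.1 U.2 U'.2
      (hUne.elim fun x hx => ⟨x, trivial, hx⟩) (hU'ne.elim fun x hx => ⟨x, trivial, hx⟩)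
    exact ⟨w, hw⟩
  haveI : IsIso (p ∣_ (U ⊓ U')) := Groth.L13.RatSing.isIso_restrict_le p inf_le_left
  haveI : IsIso ((g ≫ p) ∣_ (U ⊓ U')) := by rw [hg]; exact Groth.L13.RatSing.isIso_restrict_le p' inf_le_right
  haveI := Groth.L13.DescendBlowUp.isIso_restrict_left g p (U ⊓ U')
  have hWne : ((p ⁻¹ᵁ (U ⊓ U') : X.Opens) : Set X).Nonempty := by
    obtain ⟨w, hw⟩ := hne'
    obtain ⟨z, -⟩ := (p ∣_ (U ⊓ U')).homeomorph.surjective ⟨w, hw⟩
    exact ⟨z.1, z.2⟩
  have hdX : ∀ x : X, ringKrullDim (X.presheaf.stalk x) ≤ 2 := fun x => by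
    have hne : ∃ x, p x ∈ U := by
      obtain ⟨w, hw⟩ := hUne
      obtain ⟨z, -⟩ := (p ∣_ U).homeomorph.surjective ⟨w, hw⟩
      exact ⟨z.1, z.2⟩
    refine (Groth.L13.ModFibre.ringKrullDim_stalk_le p U hne x).trans
      ((Groth.L13.ModFibre.ringKrullDim_stalk_le_topologicalKrullDim _).trans ?_)
    exact ((PrimeSpectrum.topologicalKrullDim_eq_ringKrullDim A).trans hdim).le
  obtain ⟨hξ, hbij⟩ := Groth.L13.RatSing.birational_of_isIso_restrict g _ hWne
  obtain ⟨V, hVi, -, hV⟩ := Groth.Agent.S11555.result g hXn hξ hbij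
  haveI := hVi
  haveI : Coh.IsQCoh (Coh.structureModule X') :=
    Groth.L29.DC.PCQCoh.isQCoh_of_isFinLocFree (Groth.L16.HomSh.isFinLocFree_unit _)
  have hclosed : ∀ x : X, x ∉ (V : Set X) → IsClosed ({x} : Set X) := fun x hx => by
    refine isClosed_of_closure_subset fun z hz => ?_
    have hxz : x ⤳ z := specializes_iff_mem_closure.2 hz
    by_contra hne
    exact absurd (((add_le_add (hV x hx) le_rfl).trans
      (Groth.L03.BlowPt.Factor.dim_add_one_le hxz (fun h => hne h.symm))).trans (hdX z)) (by decide)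
  let R := (Coh.Rpush g 1).obj (Coh.structureModule X')
  have hsupp : ∀ x : X, x ∈ (V : Set X) → Subsingleton (R.presheaf.stalk x) := fun x hx => by
    obtain ⟨_, ⟨W, hW, rfl⟩, hxW, hWV⟩ := X.isBasis_affineOpens.exists_subset_of_mem_open hx V.2
    haveI : IsIso (g ∣_ W) := Groth.L13.RatSing.isIso_restrict_le g hWV
    haveI : IsAffine (Scheme.Opens.toScheme W) := hW
    haveI : IsAffine (Scheme.Opens.toScheme (g ⁻¹ᵁ W)) := IsAffine.of_isIso (g ∣_ W)
    haveI : Coh.IsQCoh (Groth.L17.BC.FV g (V := W) (Coh.structureModule X')) :=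
      Scheme.Modules.isQuasicoherent_restrictFunctor _ _
    exact Groth.L19.VanishFibre.subsingleton_stalk_Rpush_of_affine g _ hW hxW 1
      (Groth.L17.subsingleton_HH_of_isAffine _ _ 0)
  have hnt : ∀ x : X, Nontrivial (R.presheaf.stalk x) → x ∉ (V : Set X) := fun x hx hxV => by
    haveI := hsupp x hxV
    exact false_of_nontrivial_of_subsingleton (R.presheaf.stalk x)
  refine ⟨Groth.L22.CurveDeg.isGloballyGenerated_of_suppClosed fun x hx =>
      hsupp x (by_contra fun h => hx (hclosed x h)),
    (finite_of_isClosed V.2.isClosed_compl fun z hz => hclosed z hz).subset fun x hx => hnt x hx,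
    fun x hx => hclosed x (hnt x hx), ?_⟩
  obtain ⟨q⟩ := Groth.L13.RatSing.nonempty_push_structure g
    (Groth.L13.RatSing.isIso_app_of_isIso_restrict g hXn _ hWne)
  haveI : Coh.IsQCoh (Coh.structureModule X) :=
    Groth.L29.DC.PCQCoh.isQCoh_of_isFinLocFree (Groth.L16.HomSh.isFinLocFree_unit _)
  haveI : IsNoetherianRing (CommRingCat.of A) := inferInstanceAs (IsNoetherianRing A)
  have h2 : Subsingleton (Coh.HH X (Coh.structureModule X) 2) :=
    Groth.L19.VanishFibre.subsingleton_HH_of_fibre_dim_le (d := 1) p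
      (fun y => by exact_mod_cast Groth.L13.ModFibre.topologicalKrullDim_fiber_le_one_spec hdim.le p ⟨U, hUne, hUiso⟩ y)
      _ (by norm_num)
  rw [Groth.L13.LerayFive.length_H1_eq g hg (Coh.structureModule X')
    (Groth.L14.LocHilbLift.subsingleton_HH_of_iso q.symm 2 h2)]
  congr 1
  exact (LinearEquiv.ofLinearMap
    (Groth.L16.CohLinear.overLin A (Groth.L16.CohLinear.hmap q.hom 1))
    (Groth.L16.CohLinear.overLin A (Groth.L16.CohLinear.hmap q.inv 1))
    (LinearMap.ext fun x => by
      show Groth.L16.CohLinear.hmap q.hom 1 (Groth.L16.CohLinear.hmap q.inv 1 x) = x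
      rw [← Groth.L16.CohLinear.hmap_comp, q.inv_hom_id, Groth.L16.CohLinear.hmap_id])
    (LinearMap.ext fun x => by
      show Groth.L16.CohLinear.hmap q.inv 1 (Groth.L16.CohLinear.hmap q.hom 1 x) = x
      rw [← Groth.L16.CohLinear.hmap_comp, q.hom_inv_id, Groth.L16.CohLinear.hmap_id])).length_eq

end Groth.Agent.S7338
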