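import Groth.Statements.S15137
import Groth.Agent.L05.RatPow.R1
import Groth.Agent.L05.PtSeq.Trans

set_option autoImplicit false
universe u
open CategoryTheory CategoryTheory.Limits AlgebraicGeometry Opposite
open Models

namespace Groth.Agent.S15137

set_option backward.isDefEq.respectTransparency false
set_option backward.isDefEq.respectTransparency.types false
set_option backward.isDefEq.respectTransparency false
set_option backward.isDefEq.respectTransparency.types false
set_option linter.style.haveILetI false

/-- Let R be a discrete valuation ring whose fraction field K has characteristic zero, let C be a proper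
K-curve, smooth of relative dimension 1 and geometrically connected over K, and let X be a model of
C over R (flat and of finite type over R with generic fibre C) which is proper over R and normal, so
that X is a proper relative curve over R; assume X has rational singularities: the local ring of X
at every closed point defines a rational singularity (every proper morphism onto its spectrum from
an integral normal scheme which is an isomorphism over a nonempty open has H^1 of the structure
sheaf zero). Let ρ : X' → X be a proper morphism over R from an integral normal scheme X' which is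
an isomorphism over some nonempty open of X (a proper birational morphism). Then the first higher
direct image R^1ρ_*O_{X'} (of abelian sheaves) vanishes, the map H^1(X, O_X) → H^1(X, ρ_*O_{X'})
induced by the canonical map O_X → ρ_*O_{X'} is bijective, and consequently the R-modules H^1(X,
O_X) and H^1(X', O_{X'}) are isomorphic (the published statement asserts that the canonical pullback
map is an isomorphism; this row records the existence of an R-linear isomorphism only). -/
theorem result (R : Type u) [CommRing R]
    [IsDomain R] [IsDiscreteValuationRing R] [CharZero (FractionRing R)]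
    (X C : Scheme.{u}) [X.Over (Spec (CommRingCat.of R))]
    (f : C ⟶ Spec (CommRingCat.of (FractionRing R)))
    [SmoothOfRelativeDimension 1 f] [IsProper f] [GeometricallyConnected f]
    (hX : Models.IsModel R X (X ↘ Spec (CommRingCat.of R)) C f)
    [IsProper (X ↘ Spec (CommRingCat.of R))] (hn : Pi1.IsNormalScheme X)
    (hrat : ∀ x : X, IsClosed ({x} : Set X) → Curv2.IsRationalSing (X.presheaf.stalk x))
    (X' : Scheme.{u}) [X'.Over (Spec (CommRingCat.of R))] (ρ : X' ⟶ X) [IsProper ρ]
    (hρ : ρ ≫ (X ↘ Spec (CommRingCat.of R)) = X' ↘ Spec (CommRingCat.of R))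
    [IsIntegral X'] (hn' : Pi1.IsNormalScheme X')
    (hbir : ∃ U : X.Opens, (U : Set X).Nonempty ∧ IsIso (ρ ∣_ U)) :
    IsZero ((Coh.RpushAb ρ 1).obj (Coh.toAb (Coh.structureModule X'))) ∧
      Function.Bijective (Sheaf.H.map ((SheafOfModules.toSheaf X.ringCatSheaf).map (ClSub.unitToPush ρ)) 1) ∧
      Nonempty (Coh.HH X (Coh.structureModule X) 1 ≃ₗ[R] Coh.HH X' (Coh.structureModule X') 1) := by
  haveI : Smooth f := SmoothOfRelativeDimension.smooth 1 f
  haveI : IsIntegral C := Groth.L22.CurveQuot.isIntegral_of_smooth f
  have hC : topologicalKrullDim C = 1 := Groth.L03.SurfAdj.dim_of_relDim f 1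
  obtain ⟨hflat, hlft, -, g, hg⟩ := hX
  haveI := hflat
  haveI := hlft
  haveI : Flat (Over.mk (X ↘ Spec (CommRingCat.of R))).hom := hflat
  haveI : IsIntegral X := Groth.L05.RatR1.isIntegral_of_normal_model (X := Over.mk (X ↘ Spec (CommRingCat.of R))) hn hg
  haveI : IsLocallyNoetherian X := LocallyOfFiniteType.isLocallyNoetherian (X ↘ Spec (CommRingCat.of R))
  haveI : CompactSpace X := QuasiCompact.compactSpace_of_compactSpace (X ↘ Spec (CommRingCat.of R))
  haveI : IsLocallyNoetherian X' := LocallyOfFiniteType.isLocallyNoetherian ρ
  have hdim := Groth.L05.Models.model_dim_le_two hC hg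
  haveI := Groth.L17.PushQCoh.hasInjectiveResolutions X'
  have hR := Groth.L05.RatR1.isZero_Rpush ρ hn' hbir hdim hrat
  obtain ⟨U, hU, hiso⟩ := hbir
  haveI := hiso
  obtain ⟨e, he⟩ := Groth.L05.PtSeq.ffMap_bijective ρ U hU
  haveI : IsIso (ClSub.unitToPush ρ) := Scheme.Modules.Hom.isIso_iff_isIso_app.2 fun V =>
    (ConcreteCategory.isIso_iff_bijective _).2
      (haveI := Groth.L05.PtSeq.isIso_app_of_normal_or_iso ρ e he (fun y => Or.inl (hn y).2) V
       ConcreteCategory.bijective_of_isIso (ρ.app V))
  have hbij : Function.Bijective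
      (Sheaf.H.map ((SheafOfModules.toSheaf X.ringCatSheaf).map (ClSub.unitToPush ρ)) 1) := by
    show Function.Bijective (Groth.L16.CohLinear.hmap (ClSub.unitToPush ρ) 1)
    exact Function.bijective_iff_has_inverse.2 ⟨Groth.L16.CohLinear.hmap (inv (ClSub.unitToPush ρ)) 1,
      fun v => by rw [← Groth.L16.CohLinear.hmap_comp, IsIso.hom_inv_id, Groth.L16.CohLinear.hmap_id],
      fun v => by rw [← Groth.L16.CohLinear.hmap_comp, IsIso.inv_hom_id, Groth.L16.CohLinear.hmap_id]⟩
  obtain ⟨i⟩ := Groth.L17.nonempty_toAb_Rpush_iso ρ (Coh.structureModule X') 1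
  refine ⟨((SheafOfModules.toSheaf X.ringCatSheaf).map_isZero (hR 1 one_pos)).of_iso i.symm, hbij, ⟨?_⟩⟩
  have hedge := Groth.L16.PushEdge.pushEdge_bijective_of_isZero_Rpush ρ (Coh.structureModule X') hR 1
  refine LinearEquiv.ofBijective
    { toFun := fun x => CohPull.pushEdge ρ (Coh.structureModule X') 1
        (Groth.L16.CohLinear.hmap (ClSub.unitToPush ρ) 1 x)
      map_add' := fun a b =>
        (congrArg _ (map_add (Groth.L16.CohLinear.hmap (ClSub.unitToPush ρ) 1) a b)).trans (map_add _ _ _)
      map_smul' := fun c x => ?_ } (hedge.comp hbij)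
  show CohPull.pushEdge ρ (Coh.structureModule X') 1 (Groth.L16.CohLinear.hmap (ClSub.unitToPush ρ) 1
    (Coh.toGlobal (X ↘ Spec (CommRingCat.of R)) c • x)) = Coh.toGlobal (X' ↘ Spec (CommRingCat.of R)) c • _
  rw [map_smul]
  refine (Groth.L14.LocHilbLift.pushEdge_smul ρ (Coh.structureModule X') 1 _ _).trans ?_
  refine congrArg (fun r : Coh.Γtop X' => r • CohPull.pushEdge ρ (Coh.structureModule X') 1
    (Groth.L16.CohLinear.hmap (ClSub.unitToPush ρ) 1 x)) ?_
  show ρ.appTop ((X ↘ Spec (CommRingCat.of R)).appTop _) = (X' ↘ Spec (CommRingCat.of R)).appTop _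
  rw [← hρ, Scheme.Hom.comp_appTop]
  rfl

end Groth.Agent.S15137
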