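import Groth.Statements.S3254
import Groth.Agent.L13.CurveContr.Assemble
import Groth.Agent.L05.PointBlowArith.Numeric

set_option autoImplicit false
universe u
open AlgebraicGeometry CategoryTheory CategoryTheory.Limits
open ArSurf

namespace Groth.Agent.S3254

/-- Castelnuovo's criterion, existence of the contraction: let R be a discrete valuation ring with
residue field k, X an arithmetic surface over Spec R, and E a vertical prime divisor of X over the
closed point such that, for some finite field extension k' of k, E is k-isomorphic to the projective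
line over k', and E · E = −[k' : k], where E · E = deg_k(L|_E) for an invertible L with L ⊗ I(E) ≅
O_X. Then there are an arithmetic surface Y over Spec R, an R-morphism f : X → Y and a closed point
y of Y such that f maps E onto y, the inverse image of Y minus y is exactly X minus E, and f
restricts to an isomorphism from X minus E onto Y minus y. -/
theorem result (R : Type u) [CommRing R] [IsDomain R] [IsDiscreteValuationRing R]
    (X : Over (Spec (CommRingCat.of R))) (hX : ArSurf.IsArithSurface R X) (E : ArSurf.VertComp R X)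
    (k' : Type u) [Field k'] [Algebra (IsLocalRing.ResidueField R) k'] [FiniteDimensional (IsLocalRing.ResidueField R) k']
    (e : E.curve.left ≅ CohB1.ProjSpace 1 k')
    (he : e.hom ≫ (CohB1.ProjSpace 1 k' ↘ Spec (CommRingCat.of k')) ≫
      Spec.map (CommRingCat.ofHom (algebraMap (IsLocalRing.ResidueField R) k')) = E.curve.hom)
    (L : X.left.Modules) (hL : ClSub.IsInverseOf L (ClSub.idealMod E.ι.ker))
    (hself : ArSurf.inter R X L E = -(Module.finrank (IsLocalRing.ResidueField R) k' : ℤ)) :
    ∃ (Y : Over (Spec (CommRingCat.of R))) (f : X ⟶ Y) (y : Y.left) (hy : IsClosed ({y} : Set Y.left)),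
      ArSurf.IsArithSurface R Y ∧ Set.range (E.ι ≫ f.left) = {y} ∧
      (f.left ⁻¹ᵁ (⟨{y}ᶜ, hy.isOpen_compl⟩ : Y.left.Opens) : Set X.left) = (Set.range E.ι)ᶜ ∧
      IsIso (f.left ∣_ (⟨{y}ᶜ, hy.isOpen_compl⟩ : Y.left.Opens)) := by
  obtain ⟨Y, f, y, hy, hi, -, hdim, hf, hp, hfp, hr, hpre, hiso, hfr⟩ :=
    Groth.L13.CurveContr.exists_projLine_contraction X hX E k' e he L hL 1 le_rfl (by simpa using hself)
  haveI := hi
  haveI := hf
  haveI : IsProper Y.hom := Groth.L05.RelMinExists.isProper_of_projective hp
  haveI : IsLocallyNoetherian Y.left := LocallyOfFiniteType.isLocallyNoetherian Y.hom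
  refine ⟨Y, f, y, hy, ⟨fun q => ?_, hi, hdim, hf, hp⟩, hr, hpre, hiso⟩
  by_cases hq : q = y
  · subst hq
    have hs : Y.hom q = IsLocalRing.closedPoint R := by
      obtain ⟨c, hc⟩ := hr.ge rfl
      rw [← hc, ← Scheme.Hom.comp_apply, Category.assoc, Over.w f, Scheme.Hom.comp_apply]
      haveI := hX.2.1
      haveI := hX.2.2.2.1
      haveI : IsProper X.hom := Groth.L05.RelMinExists.isProper_of_projective hX.2.2.2.2
      exact Groth.L13.CurveContr.mem_special_of_vertComp X E c
    rw [IsRegularLocalRing.iff_finrank_cotangentSpace, hfr,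
      Groth.L05.PointBlowArith.dim_stalk_eq_two Y hdim q hy hs]
  · let W : Y.left.Opens := ⟨{y}ᶜ, hy.isOpen_compl⟩
    haveI : IsIso (f.left ∣_ W) := hiso
    obtain ⟨x, hx⟩ := (f.left ∣_ W).surjective ⟨q, hq⟩
    haveI : IsRegularLocalRing (X.left.presheaf.stalk x.1) := hX.1 _
    haveI : IsRegularLocalRing (W.toScheme.presheaf.stalk ((f.left ∣_ W) x)) :=
      IsRegularLocalRing.of_ringEquiv
        (((f.left ⁻¹ᵁ W).stalkIso x).symm ≪≫ (asIso ((f.left ∣_ W).stalkMap x)).symm).commRingCatIsoToRingEquiv
    have h := IsRegularLocalRing.of_ringEquiv (W.stalkIso ((f.left ∣_ W) x)).commRingCatIsoToRingEquiv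
    rw [hx] at h
    exact h

end Groth.Agent.S3254
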