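import Groth.Statements.S1766
import Groth.Agent.L29.DCoh.Gen.QAdj
import Groth.Agent.L29.DCoh.Gen.RpushTri

set_option autoImplicit false
set_option backward.isDefEq.respectTransparency false
universe u
open CategoryTheory AlgebraicGeometry
attribute [local instance] HasDerivedCategory.standard
open Dual

open CategoryTheory.Limits CategoryTheory.Pretriangulated

namespace Groth.Agent.S1766

/-- Let f : X → Y be a morphism between schemes which are quasi-compact and quasi-separated. Assume the
total derived direct image Rf_* on D(O_X) exists and maps complexes with quasi-coherent cohomology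
sheaves to such complexes (both are theorems). Then the induced functor Rf_* : D_QCoh(O_X) →
D_QCoh(O_Y) is a left adjoint, i.e. it has a right adjoint (the twisted inverse image). -/
theorem result (X Y : Scheme.{u}) [CompactSpace X] [QuasiSeparatedSpace X] [CompactSpace Y] [QuasiSeparatedSpace Y] (f : X ⟶ Y) [DCoh.HasRpush f] (h : ∀ K : DCoh.D X, DCoh.IsQCohD K → DCoh.IsQCohD ((DCoh.Rpush f).obj K)) : (ObjectProperty.lift DCoh.IsQCohD (ObjectProperty.ι DCoh.IsQCohD ⋙ DCoh.Rpush f) (fun K => h K.obj K.property)).IsLeftAdjoint := by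
  haveI : QuasiCompact f := inferInstance
  haveI : QuasiSeparated f := inferInstance
  letI := Groth.L29.DC.Gen.commShiftRpush f
  haveI := Groth.L29.DC.Gen.isTriangulated_Rpush f
  haveI := Groth.L29.DC.Gen.locallySmall_D Y
  haveI : LocallySmall.{u} (DCoh.DQCoh Y) := ⟨fun A B => small_of_injective (f := fun g : A ⟶ B => g.hom)
    (fun _ _ h => ObjectProperty.hom_ext _ h)⟩
  let G := ObjectProperty.lift DCoh.IsQCohD (ObjectProperty.ι DCoh.IsQCohD ⋙ DCoh.Rpush f) (fun K => h K.obj K.property)
  haveI : G.IsTriangulated := by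
    refine ⟨fun T hT => ?_⟩
    exact isomorphic_distinguished _ ((ObjectProperty.ι DCoh.IsQCohD ⋙ DCoh.Rpush f).map_distinguished _ hT) _
      ((Functor.mapTriangleCompIso G (ObjectProperty.ι DCoh.IsQCohD)).symm.app T ≪≫
        (Functor.mapTriangleIso (ObjectProperty.liftCompιIso DCoh.IsQCohD _ _)).app T)
  haveI : ∀ J : Type u, PreservesColimitsOfShape (Discrete J) G := fun J => by
    haveI := Groth.L29.DC.Gen.preservesCoproducts_ι (X := Y) J
    haveI := Groth.L29.DC.Gen.preservesCoproducts_Rpush f J
    haveI : PreservesColimitsOfShape (Discrete J) (G ⋙ ObjectProperty.ι DCoh.IsQCohD) :=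
      preservesColimitsOfShape_of_natIso (ObjectProperty.liftCompιIso DCoh.IsQCohD _ _).symm
    exact preservesColimitsOfShape_of_reflects_of_preserves G (ObjectProperty.ι DCoh.IsQCohD)
  exact Groth.L29.DC.Gen.isLeftAdjoint G

end Groth.Agent.S1766
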