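import Groth.Statements.S1530
import Groth.Agent.L22.CurveAmple.Main
import Groth.Agent.L03.Euler.Lead
import Groth.Agent.L03.Euler.Hilb

set_option autoImplicit false
set_option backward.isDefEq.respectTransparency false
universe u
open CategoryTheory CategoryTheory.Limits AlgebraicGeometry
open Variety

namespace Groth.Agent.S1530

open Groth.L18.GenLoc

/-- On a proper curve over a field, an invertible module is ample if and only if its degree is positive. -/
theorem result (k : Type u) [Field k] (X : Scheme.{u}) [X.Over (Spec (CommRingCat.of k))]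
    [IsIntegral X] [IsProper (X ↘ (Spec (CommRingCat.of k)))] (hdim : topologicalKrullDim X = 1)
    (L : X.Modules) (hL : PicF.IsInvertible L) :
    CohB1.IsAmple L ↔ 0 < Curv2.deg k X L 1 := by
  haveI := Groth.L21.RR.isNoetherian_of_proper (X := X) k
  have hO := Groth.L16.CohClosedPush.isCoh_structure (X := X)
  have hsupp : topologicalKrullDim (CohB1.support (Coh.structureModule X)) = ((1 : ℕ) : WithBot ℕ∞) := by
    rw [Groth.L22.CurveAmple.support_eq_univ (Groth.L18.Ample.isInvertible_structureModule X), Nat.cast_one, ← hdim]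
    exact (Homeomorph.Set.univ X).isHomeomorph.topologicalKrullDim_eq
  obtain ⟨P, hPd, hP⟩ := Groth.L03.Euler.exists_isHilbPoly (k := k) hL hO hsupp.le
  have heval : ∀ m : ℕ, (Curv2.euler k X (CohB1.tensorPow L m) : ℚ) = P.coeff 0 + P.coeff 1 * m := fun m => by
    rw [Groth.L03.Euler.euler_iso (Groth.L00.Tensor.tensorUnitLeft (CohB1.tensorPow L m)).symm]
    refine (hP m).trans ?_
    rw [Polynomial.eval_eq_sum_range' (show P.natDegree < 2 by omega)]
    simp [Finset.sum_range_succ]
  have hdeg : ∀ m : ℕ, (Curv2.deg k X (CohB1.tensorPow L m) 1 : ℚ) = P.coeff 1 * m := fun m => by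
    have h0 := heval 0
    have e : Curv2.euler k X (CohB1.tensorPow L 0) = Curv2.euler k X (Coh.structureModule X) := rfl
    rw [e] at h0
    simp only [Curv2.deg, Nat.cast_one, one_mul, Int.cast_sub, heval m, h0]
    simp
  have hdeg1 : (Curv2.deg k X L 1 : ℚ) = P.coeff 1 := by
    have h := hdeg 1
    rw [Groth.L21.RR.deg_congr k (Groth.L00.Tensor.tensorPowOne L)] at h
    simpa using h
  constructor
  · intro hA
    have h := (Groth.L03.Euler.natDegree_eq_and_coeff_pos (k := k) hA hO hsupp hP).2
    rw [← hdeg1] at h
    exact_mod_cast h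
  · intro hpos
    have hc : (0 : ℚ) < P.coeff 1 := by rw [← hdeg1]; exact_mod_cast hpos
    obtain ⟨m, hm⟩ := exists_nat_gt ((-P.coeff 0) / P.coeff 1)
    let N := CohB1.tensorPow L (m + 1)
    have hN : PicF.IsInvertible N := Groth.L18.Ample.isInvertible_tensorPow hL _
    have hd : topologicalKrullDim X ≤ 1 := hdim.le
    have hχ : 0 < Curv2.euler k X N := by
      have h := heval (m + 1)
      have h' : (0 : ℚ) < P.coeff 0 + P.coeff 1 * ((m + 1 : ℕ) : ℚ) := by
        rw [div_lt_iff₀ hc] at hm
        push_cast
        linarith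
      rw [← h] at h'
      exact_mod_cast h'
    haveI : Nontrivial (Coh.HH X N 0) := by
      by_contra hn
      rw [not_nontrivial_iff_subsingleton] at hn
      rw [Groth.L21.RR.euler_eq k hd, Groth.L21.RR.h_eq_zero_of_subsingleton k hn] at hχ
      omega
    obtain ⟨φ, hφ⟩ := Groth.L21.RR.exists_hom_ne_zero (L := N)
    have hη : genericPoint X ∈ CohB1.genLocus N φ := by
      obtain ⟨W, e, hηW, he⟩ := Groth.L18.Frame.exists_frame hN (genericPoint X)
      obtain ⟨a, ha⟩ := he.exists_coeff le_rfl (Groth.L18.Frame.rs N le_top (secOf φ))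
      rw [Groth.L18.Frame.rs_self] at ha
      have ha0 : a ≠ 0 := by
        intro h0
        refine Groth.L21.RR.st_one_ne_zero hN hφ (genericPoint X) ?_
        rw [Groth.L21.RR.st_one φ _ hηW]
        show N.presheaf.germ W _ hηW (Groth.L18.Frame.rs N le_top (secOf φ)) = 0
        rw [← ha, h0, zero_smul, map_zero]
      have hne : (X.basicOpen a : Set X).Nonempty := by
        rw [Set.nonempty_iff_ne_empty]
        intro h
        exact ha0 ((basicOpen_eq_bot_iff a).1 (TopologicalSpace.Opens.ext h))
      rw [← genLocus_inf_eq φ he ha] at hne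
      obtain ⟨y, hy⟩ := hne
      exact ((genericPoint_spec X).specializes trivial).mem_open (CohB1.genLocus N φ).2 hy.1
    have hgenclosed : ∀ x : X, ¬ IsClosed ({x} : Set X) → x = genericPoint X := fun x hx => by
      by_contra hne
      refine hx (isClosed_of_closure_subset fun w hw => ?_)
      rcases Groth.L21.RR.Top.spec_of_dim_le_one (X := X.toTopCat) hd (genericPoint X) x w
        ((genericPoint_spec X).specializes trivial) (specializes_iff_mem_closure.2 hw) with e | e
      · exact absurd e.symm hne
      · exact e.symm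
    obtain ⟨z, hz⟩ : ∃ z, z ∉ CohB1.genLocus N φ := by
      by_contra h
      push Not at h
      have hcok : IsZero (cokernel φ) := by
        rw [Groth.L21.Mod.isZero_iff_support_eq_empty, Set.eq_empty_iff_forall_notMem]
        intro x
        rw [Groth.L03.Euler.notMem_support_cokernel_iff]
        have hb := Groth.L03.Euler.bijective_toSpanSingleton_germ (isFrame_genLocus φ) (h x)
        rw [Groth.L20.ModStalk.germ_rs] at hb
        obtain ⟨g, -, hgs⟩ := Groth.L03.Euler.stalk_section φ x
        intro p
        obtain ⟨r, hr⟩ := hb.2 p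
        exact ⟨g r, (LinearMap.congr_fun hgs r).trans hr⟩
      have h0 := Groth.L21.RR.deg_eq_h0_cokernel k hd hN hφ
      rw [Groth.L21.RR.h_eq_zero_of_subsingleton k (Groth.L03.Euler.subsingleton_HH_of_isZero hcok 0)] at h0
      have h1 := hdeg (m + 1)
      rw [show Curv2.deg k X (CohB1.tensorPow L (m + 1)) 1 = ((0 : ℕ) : ℤ) from h0] at h1
      simp only [Nat.cast_zero, Int.cast_zero] at h1
      rcases mul_eq_zero.1 h1.symm with e | e
      · exact hc.ne' e
      · exact absurd (Nat.cast_eq_zero.1 e) m.succ_ne_zero
    exact (Groth.L18.Ample.isAmple_pow_iff hL m.succ_pos).2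
      (Groth.L22.CurveAmple.isAmple_and_isAffineOpen k hd hN φ
        (fun x hx => by
          by_contra hc'
          exact hx (hgenclosed x hc' ▸ hη))
        fun x hx => ⟨z, hgenclosed x hx ▸ (genericPoint_spec X).specializes trivial, hz⟩).1

end Groth.Agent.S1530
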