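import Groth.Statements.S18498
import Groth.Agent.L26.Neron.Basic

set_option autoImplicit false
universe u
open CategoryTheory CategoryTheory.Limits AlgebraicGeometry MonObj
open Neron

namespace Groth.Agent.S18498

/-- Let R be a Dedekind domain with fraction field K, X a Spec R-scheme which is flat over Spec R, Y a
Spec R-scheme which is separated over Spec R, and f, g : X → Y two R-morphisms whose restrictions to
generic fibres X_K → Y_K are equal. Then f = g: an R-morphism from a flat R-scheme to a separated
R-scheme is determined by its generic fibre. (The source states this for algebraic spaces over a
connected Dedekind scheme; the case of schemes over an affine base is stated.) -/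
theorem result (R : Type u) [CommRing R] [IsDedekindDomain R]
    (X Y : Over (Spec (CommRingCat.of R))) [Flat X.hom] [IsSeparated Y.hom] (f g : X ⟶ Y)
    (h : (Neron.genericFibre R).map f = (Neron.genericFibre R).map g) : f = g := by
  exact Groth.Agent.NeronL.eq_of_genericFibre R X Y f g h

end Groth.Agent.S18498
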