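import Groth.Statements.S1641
import Groth.Agent.L22.CurveDeg.Devissage
import Groth.Agent.L22.SchemeDim
import Groth.Agent.L18.KerReduced
-- import your own Groth.Agent.* helpers here

set_option autoImplicit false
universe u
open CategoryTheory CategoryTheory.Limits AlgebraicGeometry
open Variety

namespace Groth.Agent.S1641

/-- The reduced component is integral with range the component. -/
theorem isIntegral_comp {X : Scheme.{u}} [IsNoetherian X] (C : Set X) (hC : C ∈ irreducibleComponents (X : Type u)) :
    Set.range (X.irreducibleComponentIdeal C hC).radical.subschemeι = C ∧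
      IsIntegral (X.irreducibleComponentIdeal C hC).radical.subscheme := by
  let J := (X.irreducibleComponentIdeal C hC).radical
  have hr : Set.range J.subschemeι = C := by
    rw [Scheme.IdealSheafData.range_subschemeι, Scheme.IdealSheafData.support_radical]; rfl
  refine ⟨hr, ?_⟩
  haveI : IsReduced J.subscheme := by
    show IsReduced (X.irreducibleComponentIdeal C hC).radical.subscheme
    rw [← Scheme.IdealSheafData.vanishingIdeal_support]
    exact Groth.L18.isReduced_vanishingIdeal_subscheme _
  obtain ⟨x, hx⟩ := hC.1.nonempty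
  haveI : Nonempty J.subscheme := by
    obtain ⟨y, -⟩ := hr.ge hx
    exact ⟨y⟩
  haveI : IrreducibleSpace J.subscheme := by
    haveI : PreirreducibleSpace J.subscheme := ⟨by
      rw [isPreirreducible_iff_isClosed_union_isClosed]
      intro A B hA hB hAB
      have hcl := J.subschemeι.isClosedEmbedding
      have h := (isPreirreducible_iff_isClosed_union_isClosed.1 hC.1.isPreirreducible) _ _
        (hcl.isClosedMap _ hA) (hcl.isClosedMap _ hB)
        (by rw [← Set.image_union, ← hr]; rintro _ ⟨y, rfl⟩; exact ⟨y, hAB trivial, rfl⟩)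
      rcases h with h | h
      · refine Or.inl fun y _ => ?_
        obtain ⟨y', hy', e⟩ := h (hr.le ⟨y, rfl⟩)
        exact hcl.injective e ▸ hy'
      · refine Or.inr fun y _ => ?_
        obtain ⟨y', hy', e⟩ := h (hr.le ⟨y, rfl⟩)
        exact hcl.injective e ▸ hy'⟩
    exact { toNonempty := inferInstance }
  exact isIntegral_of_irreducibleSpace_of_isReduced _

/-- The structure module of an integral closed subscheme with range a point closure. -/
theorem comp_facts (k : Type u) [Field k] {X : Scheme.{u}} [X.Over (Spec (CommRingCat.of k))]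
    [IsProper (X ↘ (Spec (CommRingCat.of k)))] [IsNoetherian X] {Z : Scheme.{u}} (i : Z ⟶ X) [IsClosedImmersion i]
    [IsIntegral Z] (n : ℕ) (E : X.Modules) (hE : FlatMod.IsFinLocFreeOfRank n E) (y : X)
    (hr : Set.range i = closure {y}) :
    Coh.IsCoh ((Coh.push i).obj (Coh.structureModule Z)) ∧
      CohB1.support ((Coh.push i).obj (Coh.structureModule Z)) ⊆ closure {y} ∧
      Groth.L16.CohSupport.len y ((Coh.push i).obj (Coh.structureModule Z)) = 1 ∧
      Groth.L22.CurveDeg.phi k E n ((Coh.push i).obj (Coh.structureModule Z)) =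
      @Curv2.deg k _ Z ⟨i ≫ (X ↘ (Spec (CommRingCat.of k)))⟩ ((Scheme.Modules.pullback i).obj E) n := by
  haveI : X.IsSeparated := ⟨by rw [← terminal.comp_from (X ↘ Spec (CommRingCat.of k))]; infer_instance⟩
  haveI : IsLocallyNoetherian Z := LocallyOfFiniteType.isLocallyNoetherian i
  have hO := Groth.L16.CohClosedPush.isCoh_structure (X := Z)
  have hgen : i (genericPoint Z) = y := by
    have h1 : IsGenericPoint (i (genericPoint Z)) (closure (i '' Set.univ)) :=
      (genericPoint_spec Z).image i.continuous
    rw [Set.image_univ, hr, closure_closure] at h1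
    exact h1.eq isGenericPoint_closure
  refine ⟨Groth.L16.CohClosedPush.isCoh_push i hO,
    (Groth.L16.CohClosedPush.support_push_subset i _).trans hr.le,
    hgen ▸ Groth.L16.CohClosedPush.len_push_structure i, ?_⟩
  letI : Z.Over (Spec (CommRingCat.of k)) := ⟨i ≫ (X ↘ (Spec (CommRingCat.of k)))⟩
  exact (Groth.L22.CurveDeg.phi_push k i rfl hE _ hO.1).trans
    (Groth.L22.CurveDeg.phi_structure k _ n)

/-- Let X be proper of dimension at most one over k and E finite locally free of rank n. Then deg E is
the sum, over the irreducible components C of X of dimension one with their reduced induced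
structure, of m_C · deg(E|_C), where m_C is the length of the local ring of X at the generic point
of C. -/
theorem result (k : Type u) [Field k] (X : Scheme.{u}) [X.Over (Spec (CommRingCat.of k))] [IsProper (X ↘ (Spec (CommRingCat.of k)))] [IsNoetherian X] (hdim : topologicalKrullDim X ≤ 1)
    (n : ℕ) (E : X.Modules) (hE : FlatMod.IsFinLocFreeOfRank n E) :
    Curv2.deg k X E n = ∑ᶠ Z : irreducibleComponents (X : Type u),
      (if topologicalKrullDim (Z.1 : Set X) = 1 then
        ((Module.length (X.presheaf.stalk Z.2.1.genericPoint) (X.presheaf.stalk Z.2.1.genericPoint)).toNat : ℤ) *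
          @Curv2.deg k _ (X.irreducibleComponentIdeal Z.1 Z.2).radical.subscheme ⟨(X.irreducibleComponentIdeal Z.1 Z.2).radical.subschemeι ≫ (X ↘ (Spec (CommRingCat.of k)))⟩ ((Scheme.Modules.pullback (X.irreducibleComponentIdeal Z.1 Z.2).radical.subschemeι).obj E) n
      else 0) := by
  classical
  haveI : X.IsSeparated := ⟨by rw [← terminal.comp_from (X ↘ Spec (CommRingCat.of k))]; infer_instance⟩
  have hfin := Groth.L22.CurveDeg.finite_nonclosed (X := X) hdim
  let S := hfin.toFinset
  have hS : ∀ x, x ∈ S ↔ ¬ IsClosed ({x} : Set X) := fun x => Set.Finite.mem_toFinset _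
  have hcomp : ∀ y : X, ¬ IsClosed ({y} : Set X) → closure ({y} : Set X) ∈ irreducibleComponents (X : Type u) := by
    intro y hy
    refine ⟨isIrreducible_singleton.closure, fun T hT hle => ?_⟩
    obtain ⟨g, hg⟩ := QuasiSober.sober hT.closure isClosed_closure
    have hgy : g ⤳ y := hg.specializes (subset_closure (hle (subset_closure rfl)))
    exact subset_closure.trans_eq (by rw [← hg.def, Groth.L22.CurveDeg.eq_of_specializes_nonclosed hdim hy hgy])
  have hG : ∀ (y : X) (hy : ¬ IsClosed ({y} : Set X)),
      Coh.IsCoh ((Coh.push (X.irreducibleComponentIdeal _ (hcomp y hy)).radical.subschemeι).obj (Coh.structureModule _)) ∧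
      CohB1.support ((Coh.push (X.irreducibleComponentIdeal _ (hcomp y hy)).radical.subschemeι).obj (Coh.structureModule _)) ⊆
        closure {y} ∧
      Groth.L16.CohSupport.len y
        ((Coh.push (X.irreducibleComponentIdeal _ (hcomp y hy)).radical.subschemeι).obj (Coh.structureModule _)) = 1 ∧
      Groth.L22.CurveDeg.phi k E n
        ((Coh.push (X.irreducibleComponentIdeal _ (hcomp y hy)).radical.subschemeι).obj (Coh.structureModule _)) =
      @Curv2.deg k _ (X.irreducibleComponentIdeal _ (hcomp y hy)).radical.subscheme
        ⟨(X.irreducibleComponentIdeal _ (hcomp y hy)).radical.subschemeι ≫ (X ↘ (Spec (CommRingCat.of k)))⟩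
        ((Scheme.Modules.pullback (X.irreducibleComponentIdeal _ (hcomp y hy)).radical.subschemeι).obj E) n := by
    intro y hy
    obtain ⟨hr, hint⟩ := isIntegral_comp _ (hcomp y hy)
    haveI := hint
    exact comp_facts k _ n E hE y hr
  let G : X → X.Modules := fun y => if hy : ¬ IsClosed ({y} : Set X) then
    (Coh.push (X.irreducibleComponentIdeal _ (hcomp y hy)).radical.subschemeι).obj (Coh.structureModule _)
    else Coh.structureModule X
  have hsum := Groth.L22.CurveDeg.phi_eq_sum k hdim hE S hS G (fun y hy => by
      have hy' := (hS y).1 hy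
      simp only [G, dif_pos hy']
      exact ⟨(hG y hy').1, (hG y hy').2.1, (hG y hy').2.2.1⟩) (Groth.L16.CohClosedPush.isCoh_structure (X := X))
  rw [Groth.L22.CurveDeg.phi_structure] at hsum
  rw [hsum]
  have hdim1 : ∀ y : X, ¬ IsClosed ({y} : Set X) → topologicalKrullDim (closure ({y} : Set X)) = 1 := by
    intro y hy
    refine le_antisymm (Topology.IsEmbedding.subtypeVal.isInducing.topologicalKrullDim_le.trans hdim) ?_
    obtain ⟨z, hyz, hne⟩ : ∃ z, y ⤳ z ∧ y ≠ z := by
      by_contra hh
      push Not at hh
      exact hy (isClosed_of_closure_subset fun z hz => (hh z (specializes_iff_mem_closure.2 hz)).symm)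
    let c : ↥(closure ({y} : Set X)) → TopologicalSpace.IrreducibleCloseds ↥(closure ({y} : Set X)) :=
      fun a => ⟨closure {a}, isIrreducible_singleton.closure, isClosed_closure⟩
    let y' : ↥(closure ({y} : Set X)) := ⟨y, subset_closure rfl⟩
    let z' : ↥(closure ({y} : Set X)) := ⟨z, specializes_iff_mem_closure.1 hyz⟩
    have hlt : c z' < c y' := by
      have hs : y' ⤳ z' := (subtype_specializes_iff _ _).2 hyz
      refine lt_of_le_of_ne (specializes_iff_closure_subset.1 hs : closure {z'} ⊆ _) fun e => ?_
      have hs' : z' ⤳ y' := specializes_iff_mem_closure.2 (by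
        rw [show closure ({z'} : Set _) = closure {y'} from congrArg TopologicalSpace.IrreducibleCloseds.carrier e]
        exact subset_closure rfl)
      exact hne (congrArg Subtype.val (hs.antisymm hs').eq)
    have h1 := Order.LTSeries.length_le_krullDim ((RelSeries.singleton _ (c z')).snoc (c y') hlt)
    change 1 ≤ Order.krullDim (TopologicalSpace.IrreducibleCloseds ↥(closure ({y} : Set X)))
    simp only [RelSeries.snoc_length, RelSeries.singleton_length] at h1
    exact_mod_cast h1
  let c : {y // y ∈ S} → irreducibleComponents (X : Type u) :=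
    fun y => ⟨closure {y.1}, hcomp y.1 ((hS y.1).1 y.2)⟩
  have hcinj : Function.Injective c := fun a b hab => Subtype.ext
    ((show IsGenericPoint a.1 (closure {b.1}) from congrArg Subtype.val hab).eq isGenericPoint_closure)
  rw [finsum_eq_sum_of_support_subset _ (s := S.attach.image c) ?_, Finset.sum_image (fun a _ b _ h => hcinj h),
    ← Finset.sum_attach S]
  · refine Finset.sum_congr rfl fun y _ => ?_
    have hy' := (hS y.1).1 y.2
    have hgp : (c y).2.1.genericPoint = y.1 := by
      have h1 := (c y).2.1.isGenericPoint_genericPoint_closure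
      rw [show closure ((c y).1) = closure ({y.1} : Set X) from closure_closure] at h1
      exact h1.eq isGenericPoint_closure
    rw [if_pos (hdim1 y.1 hy')]
    have hlen : Groth.L16.CohSupport.len y.1 (Coh.structureModule X) =
        Module.length (X.presheaf.stalk (c y).2.1.genericPoint) (X.presheaf.stalk (c y).2.1.genericPoint) := by
      rw [hgp]
      exact (LinearEquiv.ofBijective (LinearMap.toSpanSingleton _ _ (Groth.L21.RR.one X y.1))
        (Groth.L21.RR.bijective_smul_one y.1)).length_eq.symm
    rw [hlen]
    congr 1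
    simp only [G, dif_pos hy']
    exact (hG y.1 hy').2.2.2
  · intro Z hZ
    by_contra hnot
    refine hZ ?_
    show ite _ _ _ = (0 : ℤ)
    rw [if_neg]
    intro hZ1
    have hZc := isClosed_of_mem_irreducibleComponents Z.1 Z.2
    obtain ⟨ζ, hζ⟩ := QuasiSober.sober Z.2.1 hZc
    have hζn : ¬ IsClosed ({ζ} : Set X) := fun hc => by
      have hZe : Z.1 = {ζ} := by rw [← hζ.def, hc.closure_eq]
      haveI : Subsingleton Z.1 := by rw [hZe]; infer_instance
      haveI : DiscreteTopology Z.1 := Subsingleton.discreteTopology
      haveI : _root_.Nonempty Z.1 := ⟨⟨ζ, hζ.mem⟩⟩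
      have := topologicalKrullDim_zero_of_discreteTopology Z.1
      rw [hZ1] at this
      exact absurd this (by decide)
    refine hnot ?_
    rw [Finset.coe_image]
    exact ⟨⟨ζ, (hS ζ).2 hζn⟩, Finset.mem_attach _ _, Subtype.ext hζ.def⟩

end Groth.Agent.S1641
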