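import Groth.Statements.S8905
import Groth.Agent.L14.RegImmStalk.Kinds

set_option autoImplicit false
universe u
open CategoryTheory CategoryTheory.Limits AlgebraicGeometry TopologicalSpace
open SDiv

set_option backward.isDefEq.respectTransparency false
set_option backward.isDefEq.respectTransparency.types false

namespace Groth.Agent.S8905

/-- Let i : Z ⟶ X be an immersion of schemes. If i is a regular immersion then it is Koszul-regular; if
Koszul-regular then H_1-regular; if H_1-regular then quasi-regular. -/
theorem result {Z X : Scheme.{u}} (i : Z ⟶ X) :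
    (RegImm.IsRegularImmersion RegImm.Kind.regular i → RegImm.IsRegularImmersion RegImm.Kind.koszul i) ∧
      (RegImm.IsRegularImmersion RegImm.Kind.koszul i → RegImm.IsRegularImmersion RegImm.Kind.h1 i) ∧
      (RegImm.IsRegularImmersion RegImm.Kind.h1 i → RegImm.IsRegularImmersion RegImm.Kind.quasi i) := by
  refine ⟨?_, ?_, ?_⟩ <;> rintro ⟨hi, h⟩ <;> refine ⟨hi, fun z => ?_⟩ <;>
    obtain ⟨U, hz, hcl, rs, hrs, hker⟩ := h z <;> refine ⟨U, hz, hcl, rs, ?_, hker⟩
  · exact Groth.L14.RegImmStalk.kind_of_isRegular RegImm.Kind.koszul hrs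
  · exact Groth.L19.Thick.isH1Regular_of_koszul hrs
  · exact Groth.L14.RegImmStalk.isQuasiRegular_of_h1 hrs

end Groth.Agent.S8905
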