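import Groth.Statements.S9372
import Groth.Agent.L19.ConormalBC

set_option autoImplicit false
set_option backward.isDefEq.respectTransparency.types false
set_option backward.isDefEq.respectTransparency false
set_option linter.style.haveILetI false
universe u
open OmegaSh

namespace Groth.Agent.S9372

open AlgebraicGeometry CategoryTheory in
/-- In a cartesian square with i : Z → X, i' : Z' → X' quasi-compact immersions, g : X → X', gZ : Z →
Z', the canonical map gZ^* C_{Z'/X'} → C_{Z/X} is surjective, and an isomorphism when g is flat.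
(The published statement allows arbitrary immersions; this row assumes i and i' quasi-compact.) -/
theorem result {Z X Z' X' : Scheme.{u}} (i : Z ⟶ X) (i' : Z' ⟶ X') [IsImmersion i] [IsImmersion i']
    [QuasiCompact i] [QuasiCompact i'] (g : X ⟶ X') (gZ : Z ⟶ Z') (hsq : IsPullback i gZ g i')
    (φ : (Scheme.Modules.pullback gZ).obj (Omega.conormal i') ⟶ Omega.conormal i) (hφ : OmegaSh.IsConormalMap i i' g gZ φ) :
    Epi φ ∧ (Flat g → IsIso φ) := by
  have hsw : gZ ≫ i' = i ≫ g := hsq.w.symm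
  have key : ∀ z : Z, ∃ Q : Z.Opens → Prop,
      (∀ O : Z.Opens, z ∈ O → ∃ W, Q W ∧ z ∈ W ∧ W ≤ O) ∧
      ∀ W, Q W → Function.Surjective (φ.app W) ∧ (Flat g → Function.Injective (φ.app W)) := by
    intro z
    obtain ⟨U', hzU', -, hV', hsurj⟩ := Groth.L19.OmegaSh.exists_affine_surjective (i := i') (gZ z) ⊤ trivial
    have hz : i z ∈ g ⁻¹ᵁ U'.1 := by
      show g (i z) ∈ U'.1
      rw [show g (i z) = i' (gZ z) from congrArg (fun m : Z ⟶ X' => m z) hsq.w]
      exact hzU'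
    obtain ⟨_, ⟨U, hU, rfl⟩, hzU, hUle⟩ :=
      X.isBasis_affineOpens.exists_subset_of_mem_open hz (g ⁻¹ᵁ U'.1).2
    refine ⟨fun W => IsAffineOpen W ∧ W ≤ i ⁻¹ᵁ U, fun O hO => ?_, fun W hW =>
      Groth.L19.ConormalBC.app_surjective_and_injective hsq hφ U' hV' hsurj ⟨U, hU⟩ hUle ⟨W, hW.1⟩ hW.2⟩
    obtain ⟨_, ⟨W, hW, rfl⟩, hzW, hWle⟩ :=
      Z.isBasis_affineOpens.exists_subset_of_mem_open (show z ∈ O ⊓ i ⁻¹ᵁ U from ⟨hO, hzU⟩) (O ⊓ i ⁻¹ᵁ U).2
    exact ⟨W, ⟨hW, fun x hx => (hWle hx).2⟩, hzW, fun x hx => (hWle hx).1⟩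
  have hepi : ∀ z, Function.Surjective ((Groth.L21.Mod.stalkF Z z).map φ) := fun z => by
    obtain ⟨Q, hQ, h⟩ := key z
    exact (Groth.L19.ConormalBC.stalk_surjective_and_injective φ z Q hQ).1 fun W hW => (h W hW).1
  refine ⟨(Groth.L21.Mod.epi_iff_stalk_surjective φ).2 hepi, fun hg =>
    (Groth.L21.Mod.isIso_iff_stalk_bijective φ).2 fun z => ⟨?_, hepi z⟩⟩
  obtain ⟨Q, hQ, h⟩ := key z
  exact (Groth.L19.ConormalBC.stalk_surjective_and_injective φ z Q hQ).2 fun W hW => (h W hW).2 hg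

end Groth.Agent.S9372
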