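import Groth.Statements.S3205
import Groth.Agent.L12.ExtSh.Filtration
import Groth.Agent.L29.K.Sub
import Groth.Agent.L29.DCoh.TensorPerfect
import Groth.Agent.L29.DCoh.PCQCoh
-- import your own Groth.Agent.* helpers here

set_option autoImplicit false
universe u
open CategoryTheory CategoryTheory.Limits AlgebraicGeometry
attribute [local instance] HasDerivedCategory.standard
open SGA6

namespace Groth.Agent.S3205

/-- Let X be a scheme and 0 → E' → E → E'' → 0 a short exact sequence of finite locally free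
O_X-modules. Let L'_i, L_n, L''_j be finite locally free exterior powers of E', E, E'' (in the sense
of the affine-local predicate ExtPow.IsExtPow). Then in K₀ of finite locally free modules, [L_n] =
Σ_{i=0}^{n} [L'_i ⊗ L''_{n-i}] for every n. (The source constructs a filtration of Λⁿ E with
successive quotients Λ^i E' ⊗ Λ^{n-i} E''; the equality of classes is its consequence in K₀.) -/
theorem result (X : Scheme.{u}) (S : ShortComplex X.Modules) (hS : S.ShortExact)
    (h₁ : FlatMod.IsFinLocFree S.X₁) (h₂ : FlatMod.IsFinLocFree S.X₂) (h₃ : FlatMod.IsFinLocFree S.X₃)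
    (L' L L'' : ℕ → X.Modules)
    (hL' : ∀ i, FlatMod.IsFinLocFree (L' i) ∧ ExtPow.IsExtPow i S.X₁ (L' i))
    (hL : ∀ i, FlatMod.IsFinLocFree (L i) ∧ ExtPow.IsExtPow i S.X₂ (L i))
    (hL'' : ∀ i, FlatMod.IsFinLocFree (L'' i) ∧ ExtPow.IsExtPow i S.X₃ (L'' i)) (n : ℕ) :
    KZero.clSub (fun M : X.Modules => FlatMod.IsFinLocFree M) (L n) =
      ∑ i ∈ Finset.range (n + 1), KZero.clSub (fun M : X.Modules => FlatMod.IsFinLocFree M) (((DCoh.tensorBi (X := X)).obj (L' i)).obj (L'' (n - i))) := by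
  haveI := Groth.L29.DC.PCQCoh.isQCoh_of_isFinLocFree h₁
  haveI := Groth.L29.DC.PCQCoh.isQCoh_of_isFinLocFree h₂
  let P : ObjectProperty X.Modules := fun M => FlatMod.IsFinLocFree M
  haveI : P.IsClosedUnderIsomorphisms := ⟨fun e h => Groth.L29.LocFree.of_iso e h⟩
  have hT : ∀ i, P (((DCoh.tensorBi (X := X)).obj (L' i)).obj (L'' (n - i))) := fun i =>
    Groth.L29.DC.isFinLocFree_tensor (hL' i).1 (hL'' (n - i)).1
  have key : ∀ d m : ℕ, m + d = n + 1 → P (Groth.L12.ExtSh.filMod S n m) ∧
      KZero.clSub P (Groth.L12.ExtSh.filMod S n m) =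
        ∑ i ∈ Finset.Ico m (n + 1), KZero.clSub P (((DCoh.tensorBi (X := X)).obj (L' i)).obj (L'' (n - i))) := by
    intro d
    induction d with
    | zero =>
      intro m hm
      have hz : IsZero (Groth.L12.ExtSh.filMod S n m) := Groth.L12.ExtSh.isZero_filMod S (by omega)
      refine ⟨Groth.L29.LocFree.of_isZero hz, ?_⟩
      rw [Groth.L29.KSub.clSub_zero P hz (Groth.L29.LocFree.of_isZero hz), show m = n + 1 by omega, Finset.Ico_self,
        Finset.sum_empty]
    | succ d ih =>
      intro m hm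
      obtain ⟨hP, hc⟩ := ih (m + 1) (by omega)
      obtain ⟨φ', hφ'⟩ := (hL' m).2
      obtain ⟨φ'', hφ''⟩ := (hL'' (n - m)).2
      obtain ⟨a, b, w, hse⟩ := Groth.L12.ExtSh.exists_shortExact S φ' φ'' hφ' hφ'' hS
        (show m + (n - m) = n by omega) h₁ h₃
      have hmid : P (Groth.L12.ExtSh.filMod S n m) := Groth.L12.ExtSh.isFinLocFree_middle hse hP (hT m)
      refine ⟨hmid, ?_⟩
      rw [Finset.sum_eq_sum_Ico_succ_bot (show m < n + 1 by omega), ← hc, add_comm (KZero.clSub P _)]
      exact Groth.L29.KSub.clSub_shortExact P hse hP hmid (hT m)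
  obtain ⟨h0, hc⟩ := key (n + 1) 0 (by omega)
  obtain ⟨e⟩ := Groth.L12.ExtSh.nonempty_filMod_zero_iso S (hL n).2
  have hz := Groth.L12.ExtSh.isZero_filMod S (show n < n + 1 by omega)
  rw [← Groth.L29.KSub.clSub_iso P e hz (Groth.L29.LocFree.of_isZero hz) h0, hc, Finset.range_eq_Ico]

end Groth.Agent.S3205
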