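import Groth.Statements.S3324
import Groth.Agent.L05.EulerDiv.Chain
-- import your own Groth.Agent.* helpers here

set_option autoImplicit false
universe u
open CategoryTheory CategoryTheory.Limits AlgebraicGeometry
open Models

namespace Groth.Agent.S3324

/-- In the following situation (R a discrete valuation ring with residue field k, C a smooth proper
curve over its fraction field K with H^0(C, O_C) = K, X a regular proper model, Γ_1, …, Γ_n the
irreducible components of the closed fibre with multiplicities m_i) let d = gcd(m_1, …, m_n) and let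
D be the closed subscheme Σ (m_i/d) Γ_i, with ideal sheaf Π I(Γ_i)^{m_i/d}. Then κ = H^0(D, O_D) is
a field and 1 - g_C = d [κ : k] (1 - g_D), where g_C = dim_K H^1(C, O_C) and g_D = dim_κ H^1(D,
O_D). Here the right hand side is written as d (dim_k H^0(D, O_D) - dim_k H^1(D, O_D)), the
k-dimensions being computed as R-lengths of the cohomology groups of O_D on X. -/
theorem result (R : Type u) [CommRing R] [IsDomain R] [IsDiscreteValuationRing R]
    (C X : Scheme.{u}) (f : C ⟶ Spec (CommRingCat.of (FractionRing R))) (p : X ⟶ Spec (CommRingCat.of R))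
    (hC : Curve.IsSmoothProperCurve (FractionRing R) C f) (hH0 : IsIso f.appTop)
    (hX : Models.IsRegularProperModel R X p C f)
    {n : ℕ} (Γ : Fin n → ArSurf.VertComp R (Over.mk p)) (hΓ : Models.IsComponentList R (Over.mk p) Γ) :
    IsField ↑(Γ((∏ i, (Γ i).ι.ker ^ (Models.mult R (Over.mk p) (Γ i) / Models.multGcd R (Over.mk p) Γ)).subscheme, ⊤)) ∧
      (1 : ℤ) - (Models.curveGenus (FractionRing R) C f : ℤ) =
        (Models.multGcd R (Over.mk p) Γ : ℤ) * ((Models.lengthH R (Over.mk p) (ClSub.quotMod (∏ i, (Γ i).ι.ker ^ (Models.mult R (Over.mk p) (Γ i) / Models.multGcd R (Over.mk p) Γ))) 0 : ℤ) -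
          (Models.lengthH R (Over.mk p) (ClSub.quotMod (∏ i, (Γ i).ι.ker ^ (Models.mult R (Over.mk p) (Γ i) / Models.multGcd R (Over.mk p) Γ))) 1 : ℤ)) := by
  have hX' := hX
  obtain ⟨⟨hflat, hft, -, g, hg⟩, hproper, hreg⟩ := hX
  haveI : Flat (Over.mk p).hom := hflat
  haveI : IsProper (Over.mk p).hom := hproper
  haveI : IsLocallyNoetherian (Over.mk p).left := LocallyOfFiniteType.isLocallyNoetherian p
  haveI : IsIntegral C := hC.2.2.1
  haveI : IsIntegral (Over.mk p).left := Groth.L05.InterPair.isIntegral_of_model (X := Over.mk p) hreg hg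
  obtain ⟨i₀⟩ : Nonempty (Fin n) := by
    let x₀ : X := g (genericPoint C)
    have hclosed : IsClosed (p.base '' closure {x₀}) := p.isClosedMap _ isClosed_closure
    have hsp : p.base x₀ ⤳ IsLocalRing.closedPoint R := IsLocalRing.specializes_closedPoint _
    obtain ⟨x, -, hx⟩ := (specializes_iff_mem_closure.1 hsp : _ ∈ closure {p.base x₀}) |>
      hclosed.closure_subset_iff.2 (Set.singleton_subset_iff.2 ⟨x₀, subset_closure rfl, rfl⟩)
    obtain ⟨i, -⟩ := Groth.L05.FibreDecomp.exists_component (X := Over.mk p) hΓ (x := x) hx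
    exact ⟨i⟩
  choose L hLi hL using fun i => Groth.L08.Cube.exists_inverse
    ((Groth.Agent.L19.IdealInvertible.isEffCartier_iff _).2
      (Groth.L05.FibreDecomp.isEffCartier (X := Over.mk p) hreg hΓ i))
  have hL' : ∀ i, ClSub.IsInverseOf (L i) (ClSub.idealMod (Γ i).ι.ker) := fun i =>
    ⟨Groth.L00.Tensor.tensorComm _ _ ≪≫ (hL i).some⟩
  have hconn := Groth.L05.InterPair.isPreconnected_specialFibreSet R f p hC hH0 hX'
  have hmp : 0 < Models.mult R (Over.mk p) (Γ i₀) := Groth.L05.InterPair.mult_pos (X := Over.mk p) hreg hΓ i₀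
  have hd : 0 < Models.multGcd R (Over.mk p) Γ := Nat.pos_of_ne_zero fun h =>
    hmp.ne' (Finset.gcd_eq_zero_iff.1 h i₀ (Finset.mem_univ i₀))
  have hm : ∀ i, Models.mult R (Over.mk p) (Γ i) =
      Models.multGcd R (Over.mk p) Γ * (Models.mult R (Over.mk p) (Γ i) / Models.multGcd R (Over.mk p) Γ) := fun i =>
    (Nat.mul_div_cancel' (Finset.gcd_dvd (f := fun i => Models.mult R (Over.mk p) (Γ i)) (Finset.mem_univ i))).symm
  have hgcd : Finset.univ.gcd (fun i => Models.mult R (Over.mk p) (Γ i) / Models.multGcd R (Over.mk p) Γ) = 1 :=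
    Finset.gcd_div_eq_one (Finset.mem_univ i₀) hmp.ne'
  obtain ⟨s, c, hc0, hc1, hc2, hc3⟩ := Groth.L05.EulerDiv.exists_chain_primitive (X := Over.mk p)
    hreg hΓ hL' hconn i₀ hd hm hgcd
  refine ⟨by
    have h := hc3 (Fin.last s)
    rw [hc1] at h
    exact h, ?_⟩
  letI : (Over.mk p).left.Over (Spec (CommRingCat.of R)) := ⟨(Over.mk p).hom⟩
  have h2 := Groth.L05.EulerDiv.two_mul_chi_specialFibre (X := Over.mk p) hreg hΓ hL'
  rw [Groth.L05.EulerDiv.chi_specialFibre C X f p hC hH0 hX' fun k hk => by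
    rw [Groth.L05.FibreDecomp.specialFibreIdeal_eq_prod (X := Over.mk p) hreg hΓ]
    exact Groth.L05.EulerDiv.subsingleton_div hreg hΓ _ k hk] at h2
  set m' := fun i => Models.mult R (Over.mk p) (Γ i) / Models.multGcd R (Over.mk p) Γ with hm'
  have h3 := Groth.L05.EulerDiv.two_mul_chi_div (X := Over.mk p) hreg hΓ hL' m'
  have hMm : ∀ i, ∑ j, (m' j : ℤ) * ArSurf.inter R (Over.mk p) (L j) (Γ i) = 0 := fun i => by
    have h := Groth.L05.InterPair.sum_mult_mul_inter (X := Over.mk p) hreg hΓ hL' (Γ i)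
    rw [Finset.sum_congr rfl (fun j _ => by rw [hm j, Nat.cast_mul, mul_assoc]), ← Finset.mul_sum] at h
    exact (mul_eq_zero.1 h).resolve_left (by exact_mod_cast hd.ne')
  simp only [hMm, mul_zero, Finset.sum_const_zero, sub_zero] at h3
  rw [Finset.sum_congr rfl (fun j _ => by rw [hm j, Nat.cast_mul, mul_assoc]), ← Finset.mul_sum, ← h3] at h2
  show _ = (Models.multGcd R (Over.mk p) Γ : ℤ) *
    Groth.L05.EulerDiv.chi R (ClSub.quotMod (Groth.L05.InterPair.div Γ m'))
  linarith

end Groth.Agent.S3324
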