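import Groth.Statements.S3344
import Groth.Agent.L05.SectionFibre.Constants
import Groth.Agent.L05.EulerDiv.Divis
import Groth.Agent.S3324

set_option autoImplicit false
universe u
open CategoryTheory CategoryTheory.Limits AlgebraicGeometry
open Models

namespace Groth.Agent.S3344

/-- In the following situation (R a discrete valuation ring with residue field k, C a smooth proper
curve over its fraction field K with H^0(C, O_C) = K, X a regular proper model, Γ_1, …, Γ_n the
irreducible components of the closed fibre X_k with multiplicities m_i) assume C has a K-rational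
point. Then (1) some closed point x of X on the closed fibre has residue field k (R → κ(x)
surjective) and the local ring of X_k at x, namely O_{X,x}/𝔪_R O_{X,x}, is regular (x is a smooth
point of X_k over k); (2) the component Γ_i through x has H^0(Γ_i, O) = k and m_i = 1; (3) H^0(X_k,
O_{X_k}) = k and dim_k H^1(X_k, O_{X_k}) = dim_K H^1(C, O_C) (k-dimensions as R-lengths of the
cohomology of O_{X_k} on X). -/
theorem result (R : Type u) [CommRing R] [IsDomain R] [IsDiscreteValuationRing R]
    (C X : Scheme.{u}) (f : C ⟶ Spec (CommRingCat.of (FractionRing R))) (p : X ⟶ Spec (CommRingCat.of R))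
    (hC : Curve.IsSmoothProperCurve (FractionRing R) C f) (hH0 : IsIso f.appTop)
    (hX : Models.IsRegularProperModel R X p C f)
    {n : ℕ} (Γ : Fin n → ArSurf.VertComp R (Over.mk p)) (hΓ : Models.IsComponentList R (Over.mk p) Γ)
    (s : Spec (CommRingCat.of (FractionRing R)) ⟶ C) (hs : s ≫ f = 𝟙 _) :
    (∃ (i : Fin n) (x : X), x ∈ Set.range ((Γ i).ι.base : (Γ i).curve.left → X) ∧ IsClosed ({x} : Set X) ∧
        Function.Surjective ((X.residue x).hom.comp (Models.stalkHom R (Over.mk p) x)) ∧
        IsRegularLocalRing (X.presheaf.stalk x ⧸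
          Ideal.map (Models.stalkHom R (Over.mk p) x) (IsLocalRing.maximalIdeal R)) ∧
        Models.wdeg R (Over.mk p) (Γ i) = 1 ∧ Models.mult R (Over.mk p) (Γ i) = 1) ∧
      Models.lengthH R (Over.mk p) (ClSub.quotMod (Models.specialFibreIdeal R (Over.mk p))) 0 = 1 ∧
      Models.lengthH R (Over.mk p) (ClSub.quotMod (Models.specialFibreIdeal R (Over.mk p))) 1 =
        Models.curveGenus (FractionRing R) C f := by
  have hX' := hX
  obtain ⟨⟨hflat, hft, -, g, hg⟩, hproper, hreg⟩ := hX
  haveI : Flat (Over.mk p).hom := hflat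
  haveI : IsProper (Over.mk p).hom := hproper
  haveI : IsLocallyNoetherian (Over.mk p).left := LocallyOfFiniteType.isLocallyNoetherian p
  haveI : IsIntegral C := hC.2.2.1
  haveI : IsIntegral (Over.mk p).left := Groth.L05.InterPair.isIntegral_of_model (X := Over.mk p) hreg hg
  obtain ⟨σ, hσ⟩ := Groth.L05.SectionFibre.exists_section (X := Over.mk p) g hg.w s hs
  have hreg' : Models.IsRegularScheme (Over.mk p).left := hreg
  let x : (Over.mk p).left := σ.base (IsLocalRing.closedPoint R)
  haveI : IsRegularLocalRing ((Over.mk p).left.presheaf.stalk x) := hreg' x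
  have hres := Groth.L05.SectionFibre.surjective_residue (X := Over.mk p) σ hσ
  obtain ⟨⟨i, hi, -⟩, hone⟩ := Groth.L05.SectionFibre.component (X := Over.mk p) σ hσ hreg' hΓ
  have hmult : Models.mult R (Over.mk p) (Γ i) = 1 := hone i hi
  have hw : Models.wdeg R (Over.mk p) (Γ i) = 1 := by
    obtain ⟨y, hy⟩ := hi
    haveI := Groth.L05.InterPair.isProper_curve (Γ i)
    exact Groth.L05.SectionFibre.wdeg_eq_one (Γ i) y (hy ▸ hres)
      (Groth.L05.EulerDiv.isField_Γtop (IsLocalRing.ResidueField R))
  have hclosed : IsClosed ({x} : Set (Over.mk p).left) := by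
    haveI : IsClosedImmersion (σ ≫ (Over.mk p).hom) := by rw [hσ]; infer_instance
    haveI : IsClosedImmersion σ := IsClosedImmersion.of_comp σ (Over.mk p).hom
    have h := σ.isClosedEmbedding.isClosedMap _ (IsLocalRing.isClosed_singleton_closedPoint R)
    exact (Set.image_singleton (f := σ.base) (a := IsLocalRing.closedPoint R)) ▸ h
  refine ⟨⟨i, x, hi, hclosed, hres, Groth.L05.SectionFibre.isRegular_fibre (X := Over.mk p) σ hσ, hw, hmult⟩, ?_⟩
  have hd : Models.multGcd R (Over.mk p) Γ = 1 := Nat.dvd_one.1
    ((Finset.gcd_dvd (f := fun i => Models.mult R (Over.mk p) (Γ i)) (Finset.mem_univ i)).trans (dvd_of_eq hmult))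
  obtain ⟨hF, heq⟩ := Groth.Agent.S3324.result R C X f p hC hH0 hX' Γ hΓ
  have hpr : (∏ i, (Γ i).ι.ker ^ (Models.mult R (Over.mk p) (Γ i) / Models.multGcd R (Over.mk p) Γ)) =
      Models.specialFibreIdeal R (Over.mk p) := by
    rw [Groth.L05.FibreDecomp.specialFibreIdeal_eq_prod (X := Over.mk p) hreg' hΓ]
    exact Finset.prod_congr rfl fun j _ => by rw [hd, Nat.div_one]
  rw [hpr] at hF heq
  rw [hd] at heq
  have h0 : Models.lengthH R (Over.mk p) (ClSub.quotMod (Models.specialFibreIdeal R (Over.mk p))) 0 = 1 := by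
    have hmem : x ∈ ((Models.specialFibreIdeal R (Over.mk p)).support : Set (Over.mk p).left) := by
      rw [Groth.L05.FibreDecomp.support_specialFibreIdeal]
      exact Groth.L05.SectionFibre.mem_specialFibreSet_point (X := Over.mk p) σ hσ
    rw [← (Models.specialFibreIdeal R (Over.mk p)).range_subschemeι] at hmem
    obtain ⟨y, hy⟩ := hmem
    exact Groth.L05.SectionFibre.lengthH_quotMod_eq_one _ y (hy ▸ hres) hF
  refine ⟨h0, ?_⟩
  rw [h0] at heq
  push_cast at heq
  omega

end Groth.Agent.S3344
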