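import Groth.Statements.S14437
import Mathlib.RingTheory.Kaehler.Basic
import Mathlib.RingTheory.Ideal.Cotangent
import Mathlib.LinearAlgebra.Dimension.RankNullity
import Mathlib.LinearAlgebra.Dimension.DivisionRing
import Mathlib.LinearAlgebra.Dimension.Free
import Mathlib.RingTheory.TensorProduct.Basic

set_option autoImplicit false
universe u
open CAlg

namespace Groth.Agent.S14437

/-- Let k be a field and A → B a local homomorphism of Noetherian local k-algebras with residue fields k
(k → A/m_A and k → B/m_B bijective) — for instance the local rings at a closed point x and at its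
image y under a morphism of schemes of finite type over an algebraically closed k. Then dim_k
(Ω_{B/A} ⊗_B B/m_B) + rank(m_A/m_A² → m_B/m_B²) = dim_k (m_B/m_B²): the fibre at x of the sheaf of
relative differentials is dual to the kernel of the tangent map T_x X → T_y Y. (The published
statement is the canonical isomorphism (Ω_{X/Y})_(x)^∨ ≅ ker(df_x); stated here as the resulting
equality of dimensions. Its second assertion, dim (Ω_{X/Y})_(x) ≥ r when the fibre has an
r-dimensional component through x, is not included.) -/
theorem result (k : Type u) [Field k]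
    (A B : Type u) [CommRing A] [CommRing B] [IsLocalRing A] [IsLocalRing B] [IsNoetherianRing A] [IsNoetherianRing B]
    [Algebra k A] [Algebra k B] [Algebra A B] [IsScalarTower k A B]
    (hle : IsLocalRing.maximalIdeal A ≤ Ideal.comap (IsScalarTower.toAlgHom k A B) (IsLocalRing.maximalIdeal B))
    (hA : Function.Bijective (algebraMap k (IsLocalRing.ResidueField A)))
    (hB : Function.Bijective (algebraMap k (IsLocalRing.ResidueField B))) :
    Module.finrank (IsLocalRing.ResidueField B) (TensorProduct B (IsLocalRing.ResidueField B) (Ω[B⁄A])) +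
      Module.finrank k ↥(LinearMap.range (Ideal.mapCotangent (IsLocalRing.maximalIdeal A) (IsLocalRing.maximalIdeal B)
        (IsScalarTower.toAlgHom k A B) hle)) =
      Module.finrank k (IsLocalRing.CotangentSpace B) := by
  classical
  let κ := IsLocalRing.ResidueField B
  let m := IsLocalRing.maximalIdeal B
  let eB : k ≃+* κ := RingEquiv.ofBijective _ hB
  let c : B →+* B := (algebraMap k B).comp (eB.symm.toRingHom.comp (IsLocalRing.residue B))
  have hres : ∀ b, b - c b ∈ m := fun b => by
    have h0 : IsLocalRing.residue B (b - c b) = 0 := by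
      rw [map_sub, sub_eq_zero]
      exact (eB.apply_symm_apply (IsLocalRing.residue B b)).symm
    exact Ideal.Quotient.eq_zero_iff_mem.mp h0
  have hck : ∀ x : k, c (algebraMap k B x) = algebraMap k B x := fun x =>
    congrArg (algebraMap k B) (eB.symm_apply_apply x)
  let φ := Ideal.mapCotangent (IsLocalRing.maximalIdeal A) m (IsScalarTower.toAlgHom k A B) hle
  let W : Submodule B (IsLocalRing.CotangentSpace B) :=
    { carrier := LinearMap.range φ
      add_mem' := fun ha hb => add_mem ha hb
      zero_mem' := zero_mem _
      smul_mem' := fun b x hx => by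
        have h1 : b • x = eB.symm (IsLocalRing.residue B b) • x := by
          rw [← IsScalarTower.algebraMap_smul B (eB.symm (IsLocalRing.residue B b)) x, ← sub_eq_zero, ← sub_smul]
          exact Ideal.Cotangent.smul_eq_zero_of_mem (hres b) x
        rw [h1]
        exact Submodule.smul_mem (LinearMap.range φ) _ hx }
  let V := IsLocalRing.CotangentSpace B ⧸ W
  let q : m →ₗ[B] V := W.mkQ.comp m.toCotangent
  have hkill : ∀ b ∈ m, ∀ v : V, b • v = 0 := fun b hb v => by
    obtain ⟨x, rfl⟩ := W.mkQ_surjective v
    rw [← map_smul, Ideal.Cotangent.smul_eq_zero_of_mem hb x, map_zero]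
  let d0 : B → V := fun b => q ⟨b - c b, hres b⟩
  have hadd : ∀ x y, d0 (x + y) = d0 x + d0 y := fun x y => by
    show q _ = q _ + q _
    rw [← map_add]; congr 1; apply Subtype.ext; simp only [Submodule.coe_add, map_add]; ring
  have hmul : ∀ x y, d0 (x * y) = x • d0 y + y • d0 x := fun x y => by
    have h1 : (⟨x * y - c (x * y), hres _⟩ : m) = x • ⟨y - c y, hres y⟩ + c y • ⟨x - c x, hres x⟩ := by
      apply Subtype.ext; simp only [Submodule.coe_add, Submodule.coe_smul, smul_eq_mul, map_mul]; ring
    show q _ = x • q _ + y • q _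
    rw [h1, map_add, map_smul, map_smul]
    congr 1
    rw [← sub_eq_zero, ← sub_smul]
    exact hkill _ (by rw [← neg_sub]; exact neg_mem (hres y)) _
  have halg : ∀ a : A, d0 (algebraMap A B a) = 0 := fun a => by
    obtain ⟨x, hx⟩ := hA.2 (IsLocalRing.residue A a)
    have hmem : a - algebraMap k A x ∈ IsLocalRing.maximalIdeal A := by
      have h0 : IsLocalRing.residue A (a - algebraMap k A x) = 0 := by
        rw [map_sub, sub_eq_zero, ← hx]; rfl
      exact Ideal.Quotient.eq_zero_iff_mem.mp h0
    have hm2 : algebraMap A B a - algebraMap k B x ∈ m := by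
      have h2 : algebraMap A B (a - algebraMap k A x) ∈ m := hle hmem
      rwa [map_sub, ← IsScalarTower.algebraMap_apply] at h2
    have hc : c (algebraMap A B a) = algebraMap k B x := by
      have h0 : IsLocalRing.residue B (algebraMap A B a) = IsLocalRing.residue B (algebraMap k B x) := by
        rw [← sub_eq_zero, ← map_sub]
        exact Ideal.Quotient.eq_zero_iff_mem.mpr hm2
      show algebraMap k B (eB.symm _) = _
      rw [h0]
      exact congrArg (algebraMap k B) (eB.symm_apply_apply x)
    refine (Submodule.Quotient.mk_eq_zero W).mpr ⟨(IsLocalRing.maximalIdeal A).toCotangent ⟨_, hmem⟩, ?_⟩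
    show m.toCotangent _ = m.toCotangent _
    congr 1
    apply Subtype.ext
    show algebraMap A B (a - algebraMap k A x) = algebraMap A B a - c (algebraMap A B a)
    rw [hc, map_sub, ← IsScalarTower.algebraMap_apply]
  let lin : B →ₗ[A] V :=
    { toFun := d0
      map_add' := hadd
      map_smul' := fun a x => by
        rw [RingHom.id_apply, Algebra.smul_def, hmul, halg, smul_zero, add_zero, algebraMap_smul] }
  let D' : Derivation A B V := Derivation.mk' lin hmul
  let L := D'.liftKaehlerDifferential
  have hmc : ∀ x (hx : x ∈ m), c x = 0 := fun x hx => by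
    show algebraMap k B (eB.symm (IsLocalRing.residue B x)) = 0
    rw [show IsLocalRing.residue B x = 0 from Ideal.Quotient.eq_zero_iff_mem.mpr hx, map_zero, map_zero]
  have hLD : ∀ x : m, L (KaehlerDifferential.D A B x) = q x := fun x => by
    rw [Derivation.liftKaehlerDifferential_comp_D]
    show q _ = q _
    congr 1; apply Subtype.ext
    show (x : B) - c x = x
    rw [hmc _ x.2, sub_zero]
  let T := TensorProduct B κ (Ω[B⁄A])
  let ι : Ω[B⁄A] →ₗ[B] T := TensorProduct.mk B κ (Ω[B⁄A]) 1
  have hkT : ∀ b ∈ m, ∀ t : T, b • t = 0 := fun b hb t => by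
    rw [← IsScalarTower.algebraMap_smul κ b t,
      show algebraMap B κ b = 0 from Ideal.Quotient.eq_zero_iff_mem.mpr hb, zero_smul]
  let p0 : m →ₗ[B] T :=
    { toFun := fun x => ι (KaehlerDifferential.D A B x)
      map_add' := fun x y => by rw [Submodule.coe_add, map_add, map_add]
      map_smul' := fun b x => by
        rw [RingHom.id_apply, Submodule.coe_smul, smul_eq_mul, Derivation.leibniz, map_add, map_smul, map_smul,
          hkT _ x.2, add_zero] }
  have hp0 : (m • ⊤ : Submodule B m) ≤ LinearMap.ker p0 := Submodule.smul_le.mpr fun r hr x _ => by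
    rw [LinearMap.mem_ker, map_smul]; exact hkT r hr _
  let p1 : IsLocalRing.CotangentSpace B →ₗ[B] T := (m • ⊤ : Submodule B m).liftQ p0 hp0
  have hp1 : ∀ x : m, p1 (m.toCotangent x) = ι (KaehlerDifferential.D A B x) := fun x => rfl
  have hW : W ≤ LinearMap.ker p1 := by
    rintro _ ⟨z, rfl⟩
    obtain ⟨a, rfl⟩ := Ideal.toCotangent_surjective _ z
    show ι (KaehlerDifferential.D A B (algebraMap A B a)) = 0
    rw [Derivation.map_algebraMap, map_zero]
  let P : V →ₗ[B] T := W.liftQ p1 hW
  let Λ : κ →ₗ[B] Ω[B⁄A] →ₗ[B] V := (m : Submodule B B).liftQ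
    ((LinearMap.lsmul B (Ω[B⁄A] →ₗ[B] V)).flip L) fun b hb => by
      rw [LinearMap.mem_ker]; exact LinearMap.ext fun ω => hkill b hb _
  let Q : T →ₗ[B] V := TensorProduct.lift Λ
  have hQι : ∀ ω, Q (ι ω) = L ω := fun ω => by
    show Λ (1 : κ) ω = L ω
    show ((1 : B) • L) ω = L ω
    rw [one_smul]
  have hPQ : ∀ v, Q (P v) = v := by
    intro v
    obtain ⟨x, rfl⟩ := W.mkQ_surjective v
    obtain ⟨x, rfl⟩ := Ideal.toCotangent_surjective _ x
    show Q (p1 (m.toCotangent x)) = _
    rw [hp1, hQι, hLD]; rfl
  have hQP : ∀ t, P (Q t) = t := by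
    have h1 : (P.comp L) = ι := Derivation.liftKaehlerDifferential_unique _ _ <| Derivation.ext fun b => by
      show P (L (KaehlerDifferential.D A B b)) = ι (KaehlerDifferential.D A B b)
      rw [Derivation.liftKaehlerDifferential_comp_D]
      show p1 (m.toCotangent ⟨b - c b, hres b⟩) = _
      rw [hp1]
      show ι (KaehlerDifferential.D A B (b - c b)) = _
      have : KaehlerDifferential.D A B (c b) = 0 := by
        show KaehlerDifferential.D A B (algebraMap k B _) = 0
        rw [IsScalarTower.algebraMap_apply k A B, Derivation.map_algebraMap]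
      rw [map_sub, this, sub_zero]
    intro t
    induction t using TensorProduct.induction_on with
    | zero => simp
    | add a b ha hb => rw [map_add, map_add, ha, hb]
    | tmul z ω =>
      obtain ⟨b, rfl⟩ := Ideal.Quotient.mk_surjective z
      show P ((b • L) ω) = _
      rw [LinearMap.smul_apply, map_smul, ← LinearMap.comp_apply, h1]
      show b • ((1 : κ) ⊗ₜ[B] ω) = _
      rw [TensorProduct.smul_tmul']
      congr 1
      exact (Algebra.algebraMap_eq_smul_one b).symm
  let e : T ≃ₗ[B] V := LinearEquiv.ofLinear Q P (LinearMap.ext hPQ) (LinearMap.ext hQP)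
  have h1 : Module.finrank k T = Module.finrank k V := (e.restrictScalars k).finrank_eq
  have hk1 : Module.finrank k κ = 1 := by
    rw [← (LinearEquiv.ofBijective (Algebra.linearMap k κ) hB).finrank_eq, Module.finrank_self]
  have h2 : Module.finrank κ T = Module.finrank k T := by
    rw [← Module.finrank_mul_finrank k κ T, hk1, one_mul]
  haveI : Module.Finite k κ := Module.Finite.of_surjective (Algebra.linearMap k κ) hB.2
  haveI : IsScalarTower k κ (IsLocalRing.CotangentSpace B) := IsScalarTower.of_algebraMap_smul fun x v => by
    rw [IsScalarTower.algebraMap_apply k B κ, algebraMap_smul, algebraMap_smul]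
  haveI : Module.Finite k (IsLocalRing.CotangentSpace B) := Module.Finite.trans κ _
  have h3 := (W.restrictScalars k).finrank_quotient_add_finrank
  rw [show W.restrictScalars k = LinearMap.range φ from SetLike.ext fun _ => Iff.rfl] at h3
  rw [h2, h1, ← (Submodule.Quotient.restrictScalarsEquiv k W).finrank_eq,
    show W.restrictScalars k = LinearMap.range φ from SetLike.ext fun _ => Iff.rfl]
  exact h3

end Groth.Agent.S14437
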