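import Groth.Statements.S11311
import Groth.Agent.S14437
import Groth.Agent.L01.Regular
import Groth.Agent.L01.SepKaehler
import Groth.Agent.L22.AffineDim
import Mathlib.RingTheory.RegularLocalRing.Defs
import Mathlib.RingTheory.EssentialFiniteness
import Mathlib.RingTheory.Etale.Kaehler
import Mathlib.RingTheory.LocalRing.Module
import Mathlib.FieldTheory.SeparablyGenerated
import Mathlib.RingTheory.Localization.LocalizationLocalization
import Mathlib.RingTheory.Ideal.Height
import Mathlib.RingTheory.Kaehler.Polynomial

set_option autoImplicit false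
universe u
open CAlg

namespace Groth.Agent.S11311

open scoped TensorProduct

/-- Let k be a field and B a local ring containing k whose residue field is k (the composite k → B → B/m
is bijective), and which is a localization of a finitely generated k-algebra (essentially of finite
type over k); let d = dim B. If the module of differentials Ω_{B/k} is free of rank d then B is a
regular local ring. Conversely, if k is perfect and B is a regular local ring, then Ω_{B/k} is free
of rank d. (The published statement assumes k perfect as one of its hypotheses and asserts the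
equivalence; its proof of the first implication does not use perfectness, so that hypothesis is
placed on the converse only.) -/
theorem result (k B : Type u) [Field k] [CommRing B] [Algebra k B]
    [IsLocalRing B] [Algebra.EssFiniteType k B]
    (hres : Function.Bijective (algebraMap k (IsLocalRing.ResidueField B)))
    (d : ℕ) (hd : ringKrullDim B = (d : WithBot ℕ∞)) :
    ((Module.Free B (KaehlerDifferential k B) ∧ Module.finrank B (KaehlerDifferential k B) = d) →
        IsRegularLocalRing B) ∧
      (PerfectField k → IsRegularLocalRing B →
        Module.Free B (KaehlerDifferential k B) ∧ Module.finrank B (KaehlerDifferential k B) = d) := by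
  classical
  haveI : IsNoetherianRing B := Algebra.EssFiniteType.isNoetherianRing k B
  let κ := IsLocalRing.ResidueField B
  have hcot : Module.finrank κ (κ ⊗[B] (Ω[B⁄k])) = Module.finrank κ (IsLocalRing.CotangentSpace B) := by
    have hm : IsLocalRing.maximalIdeal k = ⊥ := IsLocalRing.maximalIdeal_eq_bot
    have hle : IsLocalRing.maximalIdeal k ≤
        Ideal.comap (IsScalarTower.toAlgHom k k B) (IsLocalRing.maximalIdeal B) := hm.le.trans bot_le
    have hA : Function.Bijective (algebraMap k (IsLocalRing.ResidueField k)) :=
      ⟨(algebraMap k (IsLocalRing.ResidueField k)).injective, IsLocalRing.residue_surjective⟩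
    have h := Groth.Agent.S14437.result k k B hle hA hres
    rw [show LinearMap.range (Ideal.mapCotangent (IsLocalRing.maximalIdeal k) (IsLocalRing.maximalIdeal B)
      (IsScalarTower.toAlgHom k k B) hle) = ⊥ from eq_bot_iff.mpr (by
        rintro _ ⟨z, rfl⟩
        obtain ⟨z, rfl⟩ := Ideal.toCotangent_surjective _ z
        have h0 : z = 0 := Subtype.ext (Ideal.mem_bot.mp (hm.le z.2))
        simp [h0]), finrank_bot, add_zero] at h
    haveI : IsScalarTower k κ (IsLocalRing.CotangentSpace B) := IsScalarTower.of_algebraMap_smul fun x v => by
      rw [IsScalarTower.algebraMap_apply k B κ, algebraMap_smul, algebraMap_smul]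
    rw [h, ← Module.finrank_mul_finrank k κ (IsLocalRing.CotangentSpace B),
      ← (LinearEquiv.ofBijective (Algebra.linearMap k κ) hres).finrank_eq, Module.finrank_self, one_mul]
  refine ⟨fun ⟨hfree, hrank⟩ => ?_, fun hperf hreg => ?_⟩
  · refine (IsRegularLocalRing.iff_finrank_cotangentSpace B).mpr ?_
    rw [← hcot, Module.finrank_baseChange, hrank, hd]
  haveI := hperf
  haveI := hreg
  haveI : IsDomain B := Groth.L01.isDomain_of_regular B
  have hcd : Module.finrank κ (κ ⊗[B] (Ω[B⁄k])) = d := by
    have h := (IsRegularLocalRing.iff_finrank_cotangentSpace B).mp hreg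
    rw [hd, ← hcot] at h
    exact_mod_cast h
  let b := Module.finBasisOfFinrankEq κ (κ ⊗[B] (Ω[B⁄k])) hcd
  have hsurjT : Function.Surjective (TensorProduct.mk B κ (Ω[B⁄k]) 1) := by
    intro t
    induction t using TensorProduct.induction_on with
    | zero => exact ⟨0, map_zero _⟩
    | add x y hx hy =>
      obtain ⟨a, rfl⟩ := hx
      obtain ⟨c, rfl⟩ := hy
      exact ⟨a + c, map_add _ _ _⟩
    | tmul z ω =>
      obtain ⟨r, rfl⟩ := Ideal.Quotient.mk_surjective z
      refine ⟨r • ω, ?_⟩
      rw [TensorProduct.mk_apply, TensorProduct.tmul_smul, TensorProduct.smul_tmul']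
      congr 1
      exact (Algebra.algebraMap_eq_smul_one r).symm
  choose f hf using fun i => hsurjT (b i)
  have hspan := IsLocalRing.span_eq_top_of_tmul_eq_basis (R := B) f b hf
  let π : (Fin d → B) →ₗ[B] Ω[B⁄k] := Fintype.linearCombination B f
  have hπ : Function.Surjective π := LinearMap.range_eq_top.mp (by rw [Fintype.range_linearCombination, hspan])
  -- generic rank
  let L := FractionRing B
  let R := Algebra.EssFiniteType.subalgebra k B
  let M := Algebra.EssFiniteType.submonoid k B
  haveI : FaithfulSMul R L := (faithfulSMul_iff_algebraMap_injective _ _).mpr <| by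
    rw [IsScalarTower.algebraMap_eq R B L]
    exact (IsFractionRing.injective B L).comp Subtype.val_injective
  haveI : IsFractionRing R L := IsFractionRing.of_field R L fun z => by
    obtain ⟨x, y, -, rfl⟩ := IsFractionRing.div_surjective (A := B) z
    obtain ⟨⟨a, m⟩, hm1⟩ := IsLocalization.surj M x
    obtain ⟨⟨a', m'⟩, hm2⟩ := IsLocalization.surj M y
    refine ⟨a * m', a' * m, ?_⟩
    have e1 := congrArg (algebraMap B L) hm1
    have e2 := congrArg (algebraMap B L) hm2
    rw [map_mul, ← IsScalarTower.algebraMap_apply R B L, ← IsScalarTower.algebraMap_apply R B L] at e1 e2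
    have hu1 : algebraMap R L (m : R) ≠ 0 := by
      rw [IsScalarTower.algebraMap_apply R B L]
      exact ((IsLocalization.map_units B m).map (algebraMap B L)).ne_zero
    have hu2 : algebraMap R L (m' : R) ≠ 0 := by
      rw [IsScalarTower.algebraMap_apply R B L]
      exact ((IsLocalization.map_units B m').map (algebraMap B L)).ne_zero
    rw [map_mul, map_mul, ← e1, ← e2,
      show algebraMap B L y * algebraMap R L (m' : R) * algebraMap R L (m : R) =
        algebraMap B L y * (algebraMap R L (m : R) * algebraMap R L (m' : R)) by ring,
      mul_assoc, mul_div_mul_right _ _ (mul_ne_zero hu1 hu2)]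
  let q := (IsLocalRing.maximalIdeal B).comap (algebraMap R B)
  haveI : q.IsMaximal := by
    have hs : Function.Surjective ((IsLocalRing.residue B).comp (algebraMap R B)) := fun z => by
      obtain ⟨c, rfl⟩ := hres.2 z
      exact ⟨algebraMap k R c, rfl⟩
    have hq : q = RingHom.ker ((IsLocalRing.residue B).comp (algebraMap R B)) := by
      rw [← RingHom.comap_ker, IsLocalRing.ker_residue]
    rw [hq]
    exact RingHom.ker_isMaximal_of_surjective _ hs
  have hRd : ringKrullDim R = (d : WithBot ℕ∞) := by
    rw [← Groth.L22.AffineDim.height_of_isMaximal k R q,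
      show q.height = (IsLocalRing.maximalIdeal B).height from IsLocalization.height_under M _,
      IsLocalRing.maximalIdeal_height_eq_ringKrullDim, hd]
  have htr : Algebra.trdeg k L = d := Groth.L22.AffineDim.trdeg_fractionRing k R L hRd
  haveI : Algebra.EssFiniteType B L := Algebra.EssFiniteType.of_isLocalization L (nonZeroDivisors B)
  haveI : Algebra.EssFiniteType k L := Algebra.EssFiniteType.comp k B L
  obtain ⟨s, hs, hsep⟩ := exists_isTranscendenceBasis_and_isSeparable_of_perfectField (k := k) (K := L)
  obtain ⟨bL, -⟩ := Groth.L01.SepKaehler.exists_kaehler_basis k L ((↑) : s → L) hs.1 (by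
    rw [Subtype.range_coe_subtype]; exact hsep)
  have hcard : Fintype.card s = d := by
    have h := hs.cardinalMk_eq_trdeg
    rw [htr, Cardinal.mk_fintype] at h
    exact_mod_cast h
  have hLd : Module.finrank L (Ω[L⁄k]) = d := by
    rw [Module.finrank_eq_card_basis bL, hcard]
  haveI := KaehlerDifferential.isLocalizedModule_map (R := k) (S := B) (T := L) (nonZeroDivisors B)
  let ι := KaehlerDifferential.map k k B L
  let g : (Fin d → L) →ₗ[L] Ω[L⁄k] := Fintype.linearCombination L fun i => ι (f i)
  have hg : Function.Surjective g := fun y => by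
    obtain ⟨⟨ω, c⟩, hc⟩ := IsLocalizedModule.surj (nonZeroDivisors B) ι y
    obtain ⟨x, rfl⟩ := hπ ω
    have hc0 : algebraMap B L (c : B) ≠ 0 := IsFractionRing.to_map_ne_zero_of_mem_nonZeroDivisors c.2
    refine ⟨fun i => (algebraMap B L (c : B))⁻¹ * algebraMap B L (x i), ?_⟩
    have h1 : ι (π x) = ∑ i, algebraMap B L (x i) • ι (f i) := by
      simp [π, Fintype.linearCombination_apply, algebraMap_smul]
    simp only [g, Fintype.linearCombination_apply, mul_smul, ← Finset.smul_sum, ← h1]
    rw [show ι (π x) = (c : B) • y from hc.symm, ← algebraMap_smul L (c : B) y, inv_smul_smul₀ hc0]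
  have hginj : Function.Injective g := by
    haveI : Module.Finite L (Ω[L⁄k]) := Module.Finite.of_surjective g hg
    exact (LinearMap.injective_iff_surjective_of_finrank_eq_finrank
      (by rw [Module.finrank_fin_fun, hLd])).mpr hg
  have hπinj : Function.Injective π := by
    rw [injective_iff_map_eq_zero]
    intro x hx
    have h0 : g (fun i => algebraMap B L (x i)) = ι (π x) := by
      simp [g, π, Fintype.linearCombination_apply, algebraMap_smul]
    rw [hx, map_zero, ← map_zero g] at h0
    funext i
    exact IsFractionRing.injective B L ((congrFun (hginj h0) i).trans (map_zero _).symm)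
  let e : (Fin d → B) ≃ₗ[B] Ω[B⁄k] := LinearEquiv.ofBijective π ⟨hπinj, hπ⟩
  exact ⟨Module.Free.of_equiv e, by rw [← e.finrank_eq, Module.finrank_fin_fun]⟩

end Groth.Agent.S11311
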