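import Groth.Statements.S0426
import Mathlib.RingTheory.Unramified.Field
import Mathlib.RingTheory.Flat.EquationalCriterion
import Mathlib.RingTheory.Etale.Weakly
import Mathlib.LinearAlgebra.DirectSum.Finsupp
import Mathlib.FieldTheory.IntermediateField.Adjoin.Algebra
import Mathlib.Tactic.LinearCombination

set_option autoImplicit false
universe u
open FlatMor

namespace Groth.Agent.S0426
open TensorProduct

private theorem sep_aux {K E L : Type u} [Field K] [Field E] [Field L] [Algebra K E] [Algebra K L]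
    [Algebra.EssFiniteType K E] [Algebra.FormallyUnramified K E] (f : E →ₐ[K] L) (e : E) :
    IsSeparable K (f e) :=
  have := (Algebra.FormallyUnramified.iff_isSeparable K E).mp inferInstance
  (Algebra.IsSeparable.isSeparable K e).map f f.injective

set_option maxHeartbeats 800000


/-- A field extension L/K such that L is weakly étale over K (equivalently the multiplication map of L
⊗_K L is flat) is algebraic and separable. -/
theorem result {K L : Type u} [Field K] [Field L] [Algebra K L] [Algebra.WeaklyEtale K L] : Algebra.IsSeparable K L := by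
  classical
  refine ⟨fun a => ?_⟩
  let K' : IntermediateField K L := IntermediateField.adjoin K {a}
  letI : Algebra (L ⊗[K] L) L := (Algebra.TensorProduct.lmul' K (S := L)).toRingHom.toAlgebra
  have hfl : Module.Flat (L ⊗[K] L) L := Algebra.WeaklyEtale.flat_lmul' K L
  have hμ : ∀ (w : L ⊗[K] L) (l : L), w • l = Algebra.TensorProduct.lmul' K (S := L) w * l :=
    fun _ _ => rfl
  let x : L ⊗[K] L := a ⊗ₜ 1 - 1 ⊗ₜ a
  have hrel : ∑ i : Fin 1, (fun _ => x) i • (fun _ => (1 : L)) i = 0 := by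
    simp [hμ, x]
  obtain ⟨k, A, y, hy, hA⟩ := Module.Flat.isTrivialRelation_of_sum_smul_eq_zero hrel
  obtain ⟨w, hxw, hw⟩ : ∃ w : L ⊗[K] L, x * w = 0 ∧ Algebra.TensorProduct.lmul' K w ≠ 0 := by
    by_contra hne
    push Not at hne
    have h1 := hy 0
    rw [Finset.sum_eq_zero] at h1
    · exact one_ne_zero h1
    intro j _
    rw [hμ, hne _ (by simpa using hA j), zero_mul]
  let ι := Module.Free.ChooseBasisIndex K' L
  let b : Module.Basis ι K' L := Module.Free.chooseBasis K' L
  let F : L ⊗[K] L →ₗ[K] (ι × ι →₀ K' ⊗[K] K') :=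
    (finsuppTensorFinsupp K K K' K' ι ι).toLinearMap ∘ₗ
      TensorProduct.map (b.repr.toLinearMap.restrictScalars K) (b.repr.toLinearMap.restrictScalars K)
  let μ' : K' ⊗[K] K' →ₐ[K] K' := Algebra.TensorProduct.lmul' K
  let G : (ι × ι →₀ K' ⊗[K] K') →ₗ[K] L :=
    (Finsupp.linearCombination K' fun p : ι × ι => b p.1 * b p.2).restrictScalars K ∘ₗ
      Finsupp.mapRange.linearMap μ'.toLinearMap
  have hGF : G ∘ₗ F = (Algebra.TensorProduct.lmul' K (S := L)).toLinearMap := by
    apply TensorProduct.ext'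
    intro c d
    change G (F (c ⊗ₜ d)) = c * d
    conv_rhs => rw [← b.linearCombination_repr c, ← b.linearCombination_repr d]
    simp only [F, LinearMap.comp_apply, TensorProduct.map_tmul, LinearMap.restrictScalars_apply,
      LinearEquiv.coe_coe]
    generalize b.repr c = f
    generalize b.repr d = g
    induction f using Finsupp.induction_linear with
    | zero => simp
    | add f₁ f₂ h₁ h₂ => simp [TensorProduct.add_tmul, h₁, h₂, add_mul]
    | single i r =>
      induction g using Finsupp.induction_linear with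
      | zero => simp
      | add g₁ g₂ h₁ h₂ => simp [TensorProduct.tmul_add, h₁, h₂, mul_add]
      | single j s => simp [G, μ', Algebra.smul_def]; ring
  let incl : K' ⊗[K] K' →ₐ[K] L ⊗[K] L := Algebra.TensorProduct.map K'.val K'.val
  have hF : ∀ (x' : K' ⊗[K] K') (w : L ⊗[K] L), F (incl x' * w) = x' • F w := by
    intro x' w
    induction x' using TensorProduct.induction_on with
    | zero => ext : 1; simp
    | add p q hp hq => rw [map_add, add_mul, map_add, hp, hq]; ext : 1; simp [add_mul]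
    | tmul r s =>
      induction w using TensorProduct.induction_on with
      | zero => ext : 1; simp
      | add p q hp hq => rw [mul_add, map_add, hp, hq, map_add]; ext : 1; simp [mul_add]
      | tmul c d =>
        ext ⟨i, j⟩
        have hr : (r : L) * c = r • c := rfl
        have hs : (s : L) * d = s • d := rfl
        simp [F, incl, hr, hs, Algebra.TensorProduct.tmul_mul_tmul]
  have ha : a ∈ K' := IntermediateField.mem_adjoin_simple_self K a
  let x' : K' ⊗[K] K' := (⟨a, ha⟩ : K') ⊗ₜ 1 - 1 ⊗ₜ ⟨a, ha⟩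
  have hx' : incl x' = x := by simp [incl, x', x]
  obtain ⟨p, hp⟩ : ∃ p, μ' (F w p) ≠ 0 := by
    by_contra hne
    push Not at hne
    have h0 : Finsupp.mapRange.linearMap μ'.toLinearMap (F w) = 0 := by ext p; simp [hne p]
    apply hw
    have := LinearMap.congr_fun hGF w
    simp only [LinearMap.comp_apply, G, h0, map_zero, AlgHom.toLinearMap_apply] at this
    exact this.symm
  have hxp : x' * F w p = 0 := by
    have := congrArg (fun f => f p) (hF x' w)
    simpa [hx', hxw] using this.symm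
  let t : K' ⊗[K] K' := ((μ' (F w p))⁻¹ ⊗ₜ 1) * F w p
  have ht1 : μ' t = 1 := by simp [t, μ', hp]
  have ht : x' * t = 0 := by
    simp only [t]
    linear_combination ((μ' (F w p))⁻¹ ⊗ₜ[K] (1 : K')) * hxp
  have hEss : Algebra.EssFiniteType K K' :=
    IntermediateField.essFiniteType_iff.mpr (IntermediateField.fg_adjoin_of_finite (Set.finite_singleton a))
  have hFU : Algebra.FormallyUnramified K K' := by
    rw [Algebra.FormallyUnramified.iff_exists_tensorProduct]
    clear_value t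
    refine ⟨t, ?_, ht1⟩
    suffices ∀ s (hs : s ∈ K'), ((1 : K') ⊗ₜ[K] (⟨s, hs⟩ : K')) * t = (⟨s, hs⟩ ⊗ₜ 1) * t by
      intro s; rw [sub_mul, this s.1 s.2, sub_self]
    intro s hs
    induction hs using IntermediateField.adjoin_induction with
    | mem s hs =>
      cases hs
      rw [eq_comm, ← sub_eq_zero, ← sub_mul]
      exact ht
    | algebraMap r =>
      congr 1
      change (1 : K') ⊗ₜ[K] (algebraMap K K' r) = (algebraMap K K' r) ⊗ₜ 1
      rw [Algebra.algebraMap_eq_smul_one, TensorProduct.tmul_smul, TensorProduct.smul_tmul']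
    | add u v hu hv h₁ h₂ =>
      change ((1 : K') ⊗ₜ[K] ((⟨u, hu⟩ : K') + ⟨v, hv⟩)) * t = ((⟨u, hu⟩ + ⟨v, hv⟩ : K') ⊗ₜ 1) * t
      rw [TensorProduct.tmul_add, TensorProduct.add_tmul, add_mul, add_mul, h₁, h₂]
    | inv u hu h₁ =>
      rcases eq_or_ne (⟨u, hu⟩ : K') 0 with h0 | h0
      · change ((1 : K') ⊗ₜ[K] (⟨u, hu⟩ : K')⁻¹) * t = ((⟨u, hu⟩ : K')⁻¹ ⊗ₜ 1) * t
        simp [h0]
      · change ((1 : K') ⊗ₜ[K] (⟨u, hu⟩ : K')⁻¹) * t = ((⟨u, hu⟩ : K')⁻¹ ⊗ₜ 1) * t
        generalize (⟨u, hu⟩ : K') = v at h0 h₁ ⊢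
        have e₁ : (v⁻¹ ⊗ₜ[K] v⁻¹) * (v ⊗ₜ[K] 1) = (1 : K') ⊗ₜ[K] v⁻¹ := by
          rw [Algebra.TensorProduct.tmul_mul_tmul, inv_mul_cancel₀ h0, mul_one]
        have e₂ : (v⁻¹ ⊗ₜ[K] v⁻¹) * ((1 : K') ⊗ₜ[K] v) = v⁻¹ ⊗ₜ[K] (1 : K') := by
          rw [Algebra.TensorProduct.tmul_mul_tmul, inv_mul_cancel₀ h0, mul_one]
        rw [← e₁, ← e₂, mul_assoc, mul_assoc, h₁]
    | mul u v hu hv h₁ h₂ =>
      change ((1 : K') ⊗ₜ[K] ((⟨u, hu⟩ : K') * ⟨v, hv⟩)) * t = ((⟨u, hu⟩ * ⟨v, hv⟩ : K') ⊗ₜ 1) * t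
      generalize (⟨u, hu⟩ : K') = u' at h₁ ⊢
      generalize (⟨v, hv⟩ : K') = v' at h₂ ⊢
      rw [show (1 : K') ⊗ₜ[K] (u' * v') = (1 ⊗ₜ u') * (1 ⊗ₜ v') by simp,
        show (u' * v') ⊗ₜ[K] (1 : K') = (v' ⊗ₜ 1) * (u' ⊗ₜ 1) by simp [mul_comm],
        mul_assoc, h₂, ← mul_assoc, mul_comm ((1 : K') ⊗ₜ[K] u'), mul_assoc, h₁, ← mul_assoc]
  exact @sep_aux K K' L _ _ _ _ _ hEss hFU K'.val ⟨a, ha⟩

end Groth.Agent.S0426
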