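import Groth.Statements.S1412
import Groth.Agent.L20.WeaklyEtaleStalk

set_option autoImplicit false
universe u
open FlatMor

namespace Groth.Agent.S1412
open CategoryTheory CategoryTheory.Limits AlgebraicGeometry

private theorem stalk_setup {X Y : Scheme.{u}} (f : X ⟶ Y) {U : X.Opens} {V : Y.Opens}
    (hle : U ≤ f ⁻¹ᵁ V) (x : X) (hx : x ∈ U) :
    ((f.stalkMap x).hom).comp (Y.presheaf.germ V (f x) (hle hx)).hom =
      ((X.presheaf.germ U x hx).hom).comp (f.appLE V U hle).hom := by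
  rw [← CommRingCat.hom_comp, ← CommRingCat.hom_comp]
  congr 1
  refine (Scheme.Hom.germ_stalkMap f V x (hle hx : f x ∈ V)).trans ?_
  rw [Scheme.Hom.appLE, Category.assoc]
  exact congrArg _ (X.presheaf.germ_res (homOfLE hle) x hx).symm


open AlgebraicGeometry CategoryTheory Limits in
/-- A morphism of schemes f : X → Y is weakly étale (flat with flat diagonal) if and only if for every
point x of X the local ring map O_{Y, f(x)} → O_{X, x} is weakly étale, that is, flat and with flat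
multiplication map O_{X,x} ⊗_{O_{Y, f(x)}} O_{X,x} → O_{X,x}. -/
theorem result {X Y : Scheme.{u}} (f : X ⟶ Y) :
    WeaklyEtale f ↔ ∀ x : X, (f.stalkMap x).hom.Flat ∧
      (letI := (f.stalkMap x).hom.toAlgebra
       (Algebra.TensorProduct.lmul' (S := ↑(X.presheaf.stalk x)) (↑(Y.presheaf.stalk (f x)))).toRingHom.Flat) := by
  constructor
  · intro hw x
    refine ⟨Flat.stalkMap f x, ?_⟩
    obtain ⟨(V : Y.Opens), hV, hxV, -⟩ := TopologicalSpace.Opens.isBasis_iff_nbhd.mp
      Y.isBasis_affineOpens (TopologicalSpace.Opens.mem_top (f x))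
    obtain ⟨(U : X.Opens), hU, hxU, hle⟩ := TopologicalSpace.Opens.isBasis_iff_nbhd.mp
      X.isBasis_affineOpens (show x ∈ f ⁻¹ᵁ V from hxV)
    have hwe := (Groth.L20.weaklyEtale_specMap_iff _).mp (Groth.L20.weaklyEtale_specMap_appLE f hU hV hle)
    let _ := (f.appLE V U hle).hom.toAlgebra
    let _ := (f.stalkMap x).hom.toAlgebra
    let _ : Algebra Γ(Y, V) (Y.presheaf.stalk (f x)) := (Y.presheaf.germ V (f x) hxV).hom.toAlgebra
    let _ : Algebra Γ(X, U) (X.presheaf.stalk x) := (X.presheaf.germ U x hxU).hom.toAlgebra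
    let _ : Algebra Γ(Y, V) (X.presheaf.stalk x) :=
      ((X.presheaf.germ U x hxU).hom.comp (f.appLE V U hle).hom).toAlgebra
    have : IsScalarTower Γ(Y, V) Γ(X, U) (X.presheaf.stalk x) := IsScalarTower.of_algebraMap_eq' rfl
    have : IsScalarTower Γ(Y, V) (Y.presheaf.stalk (f x)) (X.presheaf.stalk x) :=
      IsScalarTower.of_algebraMap_eq' (stalk_setup f hle x hxU).symm
    have hY : IsLocalization.AtPrime (Y.presheaf.stalk (f x)) (hV.primeIdealOf ⟨f x, hxV⟩).asIdeal :=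
      hV.isLocalization_stalk ⟨f x, hxV⟩
    have hX : IsLocalization.AtPrime (X.presheaf.stalk x) (hU.primeIdealOf ⟨x, hxU⟩).asIdeal :=
      hU.isLocalization_stalk ⟨x, hxU⟩
    have : Algebra.WeaklyEtale Γ(Y, V) Γ(X, U) := hwe
    exact (Groth.L20.weaklyEtale_of_isLocalization (A := Γ(Y, V)) (B := Γ(X, U))
      (hV.primeIdealOf ⟨f x, hxV⟩).asIdeal.primeCompl (hU.primeIdealOf ⟨x, hxU⟩).asIdeal.primeCompl
      (Y.presheaf.stalk (f x)) (X.presheaf.stalk x)).flat_lmul'
  · intro h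
    refine Groth.L20.weaklyEtale_of_forall_exists f fun x₀ => ?_
    obtain ⟨(V : Y.Opens), hV, hxV, -⟩ := TopologicalSpace.Opens.isBasis_iff_nbhd.mp
      Y.isBasis_affineOpens (TopologicalSpace.Opens.mem_top (f x₀))
    obtain ⟨(U : X.Opens), hU, hxU, hle⟩ := TopologicalSpace.Opens.isBasis_iff_nbhd.mp
      X.isBasis_affineOpens (show x₀ ∈ f ⁻¹ᵁ V from hxV)
    refine ⟨U, V, hU, hV, hle, hxU, (Groth.L20.weaklyEtale_specMap_iff _).mpr ?_⟩
    let _ := (f.appLE V U hle).hom.toAlgebra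
    refine Groth.L20.weaklyEtale_of_forall_maximal fun q hq => ?_
    obtain ⟨y, hy⟩ := hU.isoSpec.hom.surjective ⟨q, hq.isPrime⟩
    obtain ⟨x, hx⟩ := y
    let _ := (f.stalkMap x).hom.toAlgebra
    let _ : Algebra Γ(Y, V) (Y.presheaf.stalk (f x)) := (Y.presheaf.germ V (f x) (hle hx)).hom.toAlgebra
    let i₁ : Algebra Γ(X, U) (X.presheaf.stalk x) := (X.presheaf.germ U x hx).hom.toAlgebra
    let i₂ : Algebra Γ(Y, V) (X.presheaf.stalk x) :=
      ((X.presheaf.germ U x hx).hom.comp (f.appLE V U hle).hom).toAlgebra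
    have i₃ : IsScalarTower Γ(Y, V) Γ(X, U) (X.presheaf.stalk x) := IsScalarTower.of_algebraMap_eq' rfl
    have : IsScalarTower Γ(Y, V) (Y.presheaf.stalk (f x)) (X.presheaf.stalk x) :=
      IsScalarTower.of_algebraMap_eq' (stalk_setup f hle x hx).symm
    have hY : IsLocalization.AtPrime (Y.presheaf.stalk (f x)) (hV.primeIdealOf ⟨f x, hle hx⟩).asIdeal :=
      hV.isLocalization_stalk ⟨f x, hle hx⟩
    have hX : IsLocalization.AtPrime (X.presheaf.stalk x) (hU.primeIdealOf ⟨x, hx⟩).asIdeal :=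
      hU.isLocalization_stalk ⟨x, hx⟩
    have hqe : (hU.primeIdealOf ⟨x, hx⟩).asIdeal = q := congrArg PrimeSpectrum.asIdeal hy
    obtain ⟨hfl, hlm⟩ := h x
    have hfl' : Module.Flat (Y.presheaf.stalk (f x)) (X.presheaf.stalk x) := hfl
    refine ⟨X.presheaf.stalk x, inferInstance, i₁, i₂, i₃, hqe ▸ hX, ?_, ?_⟩
    · exact (Module.flat_iff_of_isLocalization (Y.presheaf.stalk (f x))
        (hV.primeIdealOf ⟨f x, hle hx⟩).asIdeal.primeCompl _).mp hfl'
    · exact (Groth.L20.flat_lmul'_congr_localization (hV.primeIdealOf ⟨f x, hle hx⟩).asIdeal.primeCompl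
        (Y.presheaf.stalk (f x)) (X.presheaf.stalk x)).mp hlm

end Groth.Agent.S1412
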