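import Groth.Statements.S17727
import Groth.Agent.L26.Neron.Basic
import Groth.Agent.L26.Neron.SchDense
import Mathlib.AlgebraicGeometry.Morphisms.Separated

set_option autoImplicit false
universe u
open Neron

namespace Groth.Agent.S17727

open CategoryTheory AlgebraicGeometry in
/-- Let f : E → S be a morphism of schemes and U ⊆ S a schematically dense open subscheme such that f
restricts to an isomorphism over U and the preimage of U is schematically dense in E. Then for every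
section σ of f and every point s of S there is an open neighbourhood W of σ(s) in E on which f
restricts to an open immersion. (The published statements conclude that the section lands in the
étale locus of f, in one published form for an algebraic space E, in another for f locally of finite
type over a Noetherian base; the affine-local argument gives the sharper conclusion recorded here,
for schemes.) -/
theorem result
    {E S : Scheme.{u}} (f : E ⟶ S) (U : S.Opens) (hU : CInt.IsSchematicallyDense U)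
    (hiso : IsIso (morphismRestrict f U)) (hdense : CInt.IsSchematicallyDense (f ⁻¹ᵁ U))
    (σ : S ⟶ E) (hσ : σ ≫ f = 𝟙 S) (s : S) :
    ∃ W : E.Opens, σ.base s ∈ W ∧ IsOpenImmersion (W.ι ≫ f) := by
  obtain ⟨W, hW, hsW, -⟩ := exists_isAffineOpen_mem_and_subset (x := σ.base s) (U := ⊤) trivial
  obtain ⟨V, hV, hsV, hVW⟩ := exists_isAffineOpen_mem_and_subset (x := s) (U := σ ⁻¹ᵁ W) hsW
  have hfσ : ∀ x : S, f.base (σ.base x) = x := fun x => by
    rw [← Scheme.Hom.comp_apply, hσ]; rfl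
  let W₁ : E.Opens := W ⊓ f ⁻¹ᵁ V
  refine ⟨W₁, ⟨hsW, show f.base (σ.base s) ∈ V from (hfσ s).symm ▸ hsV⟩, ?_⟩
  let f₁ : (W₁ : Scheme.{u}) ⟶ V := IsOpenImmersion.lift V.ι (W₁.ι ≫ f) (by
    rintro _ ⟨x, rfl⟩
    simp only [Scheme.Opens.range_ι]
    exact x.2.2)
  have hf₁ : f₁ ≫ V.ι = W₁.ι ≫ f := IsOpenImmersion.lift_fac _ _ _
  let σ₁ : (V : Scheme.{u}) ⟶ W₁ := IsOpenImmersion.lift W₁.ι (V.ι ≫ σ) (by
    rintro _ ⟨x, rfl⟩
    simp only [Scheme.Opens.range_ι]
    exact ⟨hVW x.2, show f.base (σ.base x.1) ∈ V from (hfσ _).symm ▸ x.2⟩)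
  have hσ₁ : σ₁ ≫ W₁.ι = V.ι ≫ σ := IsOpenImmersion.lift_fac _ _ _
  have h1 : σ₁ ≫ f₁ = 𝟙 _ := by
    rw [← cancel_mono V.ι, Category.assoc, hf₁, reassoc_of% hσ₁, hσ, Category.comp_id, Category.id_comp]
  have hsep : IsSeparated f₁ := by
    have : IsAffine W := hW
    have : W₁.toScheme.IsSeparated := by
      rw [← E.homOfLE_ι (inf_le_left : W₁ ≤ W)] at hσ₁
      refine ⟨?_⟩
      rw [← Limits.terminal.comp_from (E.homOfLE (inf_le_left : W₁ ≤ W))]
      infer_instance
    infer_instance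
  have hd := Groth.Agent.NeronL.schDense_restrict hdense W₁
  set j := (W₁.ι ⁻¹ᵁ (f ⁻¹ᵁ U)).ι with hj
  have h2 : f₁ ≫ σ₁ = 𝟙 _ := by
    refine Groth.Agent.NeronL.eq_of_fac j (fun c _ l hl => Groth.Agent.NeronL.ker_eq_bot_of_schDense hd c l hl) _ _ f₁ ?_ ?_
    · rw [Category.assoc, h1, Category.comp_id, Category.id_comp]
    · rw [← cancel_mono W₁.ι, Category.comp_id, Category.assoc, Category.assoc, hσ₁, reassoc_of% hf₁]
      have hx : ∀ x : (W₁.ι ⁻¹ᵁ (f ⁻¹ᵁ U)).toScheme, f.base x.1.1 ∈ U := fun x => x.2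
      let a : _ ⟶ (f ⁻¹ᵁ U : Scheme.{u}) := IsOpenImmersion.lift (f ⁻¹ᵁ U).ι (j ≫ W₁.ι) (by
        rintro _ ⟨x, rfl⟩
        simp only [Scheme.Opens.range_ι]
        exact hx x)
      let b : _ ⟶ (f ⁻¹ᵁ U : Scheme.{u}) := IsOpenImmersion.lift (f ⁻¹ᵁ U).ι (j ≫ W₁.ι ≫ f ≫ σ) (by
        rintro _ ⟨x, rfl⟩
        simp only [Scheme.Opens.range_ι]
        show f.base (σ.base (f.base x.1.1)) ∈ U
        rw [hfσ]; exact hx x)
      have ha : a ≫ (f ⁻¹ᵁ U).ι = j ≫ W₁.ι := IsOpenImmersion.lift_fac _ _ _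
      have hb : b ≫ (f ⁻¹ᵁ U).ι = j ≫ W₁.ι ≫ f ≫ σ := IsOpenImmersion.lift_fac _ _ _
      have hab : a = b := by
        have := hiso
        rw [← cancel_mono (f ∣_ U), ← cancel_mono U.ι]
        simp only [Category.assoc, morphismRestrict_ι]
        rw [reassoc_of% ha, reassoc_of% hb, hσ, Category.comp_id]
      rw [← hb, ← hab, ha]
  have : IsIso f₁ := ⟨σ₁, h2, h1⟩
  rw [← hf₁]
  infer_instance

end Groth.Agent.S17727
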