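import Groth.Statements.S7640
import Groth.Agent.L22.CurveDeg.PushStalk
import Groth.Agent.L21.CurveMaps
import Groth.Agent.L22.CurveDeg.Devissage
-- import your own Groth.Agent.* helpers here

set_option autoImplicit false
universe u
open CategoryTheory CategoryTheory.Limits AlgebraicGeometry
open Variety

namespace Groth.Agent.S7640

/-- Let k be a field, let X and Y be proper curves over k (integral, proper over k, of dimension one)
and let f : X → Y be a morphism over k that is not constant, i.e. sends the generic point of X to
that of Y. For a finite locally free module E of rank n on Y, the degree of f^*E is deg(X/Y) ·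
deg(E), where deg(X/Y) is the degree of the function field of X over that of Y. -/
theorem result (k : Type u) [Field k] (X Y : Scheme.{u})
    [X.Over (Spec (CommRingCat.of k))] [Y.Over (Spec (CommRingCat.of k))] [IsIntegral X] [IsIntegral Y]
    [IsProper (X ↘ (Spec (CommRingCat.of k)))] [IsProper (Y ↘ (Spec (CommRingCat.of k)))]
    (hX : topologicalKrullDim X = 1) (hY : topologicalKrullDim Y = 1)
    (f : X ⟶ Y) (hf : f ≫ (Y ↘ (Spec (CommRingCat.of k))) = X ↘ (Spec (CommRingCat.of k)))
    (hξ : f.base (genericPoint X) = genericPoint Y)
    (n : ℕ) (E : Y.Modules) (hE : FlatMod.IsFinLocFreeOfRank n E) :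
    Curv2.deg k X ((Scheme.Modules.pullback f).obj E) n =
      (f.residueDegree (genericPoint X) : ℤ) * Curv2.deg k Y E n := by
  let p := X ↘ Spec (CommRingCat.of k)
  let q := Y ↘ Spec (CommRingCat.of k)
  haveI : IsProper f := by
    haveI : IsProper (f ≫ q) := hf ▸ inferInstance
    exact IsProper.of_comp f q
  haveI := Groth.L21.RR.isNoetherian_of_proper (X := X) k
  haveI := Groth.L21.RR.isNoetherian_of_proper (X := Y) k
  have hη : ∀ (Z : Scheme.{u}) [IsIntegral Z], topologicalKrullDim Z = 1 →
      ¬ IsClosed ({genericPoint Z} : Set Z) := by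
    intro Z _ hZ hc
    have huniv : ∀ y : Z, y = genericPoint Z := fun y =>
      hc.closure_eq.le (((genericPoint_spec Z).specializes trivial).mem_closure)
    haveI : Subsingleton Z := ⟨fun a b => (huniv a).trans (huniv b).symm⟩
    haveI : DiscreteTopology Z := Subsingleton.discreteTopology
    have := topologicalKrullDim_zero_of_discreteTopology Z
    rw [hZ] at this
    exact absurd this (by decide)
  have himg : ∀ x : X, IsClosed ({x} : Set X) → f x ≠ genericPoint Y := fun x hx he => by
    have h := f.isClosedMap _ hx
    rw [Set.image_singleton] at h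
    exact hη Y hY (he ▸ h)
  have huniq : ∀ x', f x' = genericPoint Y → x' = genericPoint X := fun x' he =>
    (Groth.L22.CurveDeg.eq_of_specializes_nonclosed hX.le (fun hc => himg x' hc he)
      ((genericPoint_spec X).specializes trivial)).symm
  haveI : IsFinite f := Groth.L21.CurveTop.isFinite_of_nonconstant p q f hf hX.le fun Z hZ _ => by
    obtain ⟨z, hzZ, hzc⟩ := (isClosed_of_mem_irreducibleComponents Z hZ).exists_closed_singleton hZ.1.nonempty
    have hZu : Z = Set.univ := by
      rw [irreducibleComponents_eq_singleton] at hZ
      exact hZ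
    exact ⟨f (genericPoint X), ⟨_, hZu ▸ trivial, rfl⟩, f z, ⟨z, hzZ, rfl⟩, fun e => himg z hzc (e.symm.trans hξ)⟩
  haveI : Y.IsSeparated := ⟨by rw [← terminal.comp_from q]; infer_instance⟩
  have hcoh := Groth.L16.Exist.isCoh_pushforward f (M := Coh.structureModule X)
    Groth.L16.CohClosedPush.isCoh_structure
  have h1 := Groth.L22.CurveDeg.phi_eq_of_integral k hY hE hcoh
  rw [Groth.L22.CurveDeg.phi_push k f hf hE _ Groth.L16.CohClosedPush.isCoh_structure.1,
    Groth.L22.CurveDeg.phi_structure,
    Groth.L22.CurveDeg.len_push_structure_eq_residueDegree f f.isClosedMap hξ huniq] at h1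
  exact h1

end Groth.Agent.S7640
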