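import Groth.Statements.S2103
import Groth.Agent.L02.QuasiRegAppend

set_option autoImplicit false
set_option backward.isDefEq.respectTransparency.types false
set_option backward.isDefEq.respectTransparency false
universe u
open CAlg

namespace Groth.Agent.S2103

/-- Case `M = R`: an `H_1`-regular sequence in a ring (first Koszul homology zero) is quasi-regular (the
associated graded of the ideal it generates is a polynomial ring over the quotient). -/
theorem result {R : Type u} [CommRing R] {c : ℕ} (f : Fin c → R) (hf : CAlgX.IsH1Regular f) :
    CAlgX.IsQuasiRegular f := by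
  classical
  intro n P hP heval d
  rw [pow_succ'] at heval
  obtain ⟨Z, hZ, hZc, hZe⟩ := Groth.L02.QuasiRegAppend.exists_coeff_mem f _ n heval
  have hR : (P - Z).IsHomogeneous n := hP.sub hZ
  have h0 := Groth.L02.QuasiRegAppend.mem_trivRel hf n (P - Z) hR (by rw [map_sub, hZe, sub_self])
  have h1 := MvPolynomial.mem_map_C_iff.mp (Groth.L02.QuasiRegAppend.trivRel_le_map_C f h0) d
  rw [show P.coeff d = (P - Z).coeff d + Z.coeff d by rw [MvPolynomial.coeff_sub]; ring]
  exact add_mem h1 (hZc d)

end Groth.Agent.S2103
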