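import Groth.Statements.S4951
import Mathlib.Topology.Sober
import Mathlib.Topology.NoetherianSpace

set_option autoImplicit false
set_option linter.style.haveILetI false
universe u
open EGA43

namespace Groth.Agent.S4951

/-- Let X be a locally Noetherian topological space in which every irreducible closed subset has a
unique generic point (X quasi-sober and T₀), and Z a closed nowhere dense subset of X such that for
every point x of Z the set of generizations of x distinct from x is connected (possibly empty). If X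
is connected, then X − Z is connected. (Uniqueness of generic points, automatic for the underlying
space of a scheme, is needed: in the four-point space {u, v, z₁, z₂} whose open sets are ∅, {u},
{v}, {u, v} and the whole space, the closed nowhere dense set Z = {z₁, z₂} satisfies the hypothesis,
since z₂ is a generization of z₁ and conversely, yet X − Z = {u, v} is not connected.) -/
theorem result {X : Type u} [TopologicalSpace X]
    [QuasiSober X] [T0Space X] (hloc : ∀ x : X, ∃ U ∈ nhds x, TopologicalSpace.NoetherianSpace ↥U) [ConnectedSpace X]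
    (Z : Set X) (hZ : IsClosed Z) (hZn : IsNowhereDense Z)
    (hgen : ∀ x ∈ Z, IsPreconnected ({x' : X | x' ⤳ x} \ {x})) :
    IsConnected Zᶜ := by
  have hlift : ∀ U : Set X, IsOpen U → ∀ x ∈ closure U, ∃ u ∈ U, u ⤳ x := by
    intro U hU x hx
    obtain ⟨N, hN, hNn⟩ := hloc x
    obtain ⟨W, hWN, hW, hxW⟩ := mem_nhds_iff.mp hN
    haveI := hNn
    haveI : TopologicalSpace.NoetherianSpace ↥N := hNn
    haveI : TopologicalSpace.NoetherianSpace ↥(U ∩ W) :=
      (Topology.IsEmbedding.inclusion (Set.inter_subset_right.trans hWN)).isInducing.noetherianSpace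
    have hxUW : x ∈ closure (U ∩ W) := hW.closure_inter ⟨hx, hxW⟩
    have hfin := TopologicalSpace.NoetherianSpace.finite_irreducibleComponents (α := ↥(U ∩ W))
    have hcov : U ∩ W = ⋃ C ∈ irreducibleComponents ↥(U ∩ W), (Subtype.val '' C : Set X) := by
      refine Set.Subset.antisymm (fun w hw => Set.mem_biUnion (irreducibleComponent_mem_irreducibleComponents
        (⟨w, hw⟩ : ↥(U ∩ W))) ⟨_, mem_irreducibleComponent, rfl⟩) ?_
      exact Set.iUnion₂_subset fun C _ => Subtype.coe_image_subset _ _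
    rw [hcov, hfin.closure_biUnion, Set.mem_iUnion₂] at hxUW
    obtain ⟨C, hC, hxC⟩ := hxUW
    have hirr := (hC.1.image _ continuous_subtype_val.continuousOn).closure
    have hg := hirr.isGenericPoint_genericPoint isClosed_closure
    obtain ⟨c, hc⟩ := hC.1.nonempty
    exact ⟨_, (hg.specializes (subset_closure ⟨c, hc, rfl⟩)).mem_open hU c.2.1, hg.specializes hxC⟩
  have hd : Dense Zᶜ := hZ.isNowhereDense_iff.mp hZn |> interior_eq_empty_iff_dense_compl.mp
  refine ⟨hd.nonempty, fun U V hU hV hsub ⟨a, ha⟩ ⟨b, hb⟩ => ?_⟩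
  by_contra hne
  rw [Set.not_nonempty_iff_eq_empty] at hne
  let U' := U ∩ Zᶜ
  let V' := V ∩ Zᶜ
  have hU' : IsOpen U' := hU.inter hZ.isOpen_compl
  have hV' : IsOpen V' := hV.inter hZ.isOpen_compl
  have huniv : closure U' ∪ closure V' = Set.univ := by
    rw [← closure_union, ← Set.union_inter_distrib_right, Set.inter_eq_right.mpr hsub]
    exact hd.closure_eq
  have hdis : ∀ z ∈ closure U', z ∈ closure V' → z ∈ Z := by
    intro z hz hz'
    by_contra hzZ
    rcases hsub hzZ with h | h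
    · obtain ⟨w, hw, hwV⟩ := mem_closure_iff.mp hz' U' hU' ⟨h, hzZ⟩
      exact (hne ▸ (show w ∈ Zᶜ ∩ (U ∩ V) from ⟨hw.2, hw.1, hwV.1⟩) : w ∈ (∅ : Set X))
    · obtain ⟨w, hw, hwU⟩ := mem_closure_iff.mp hz V' hV' ⟨h, hzZ⟩
      exact (hne ▸ (show w ∈ Zᶜ ∩ (U ∩ V) from ⟨hw.2, hwU.1, hw.1⟩) : w ∈ (∅ : Set X))
  obtain ⟨c, -, hc⟩ := isPreconnected_closed_iff.mp (isPreconnected_univ (α := X)) _ _ isClosed_closure
    isClosed_closure huniv.ge ⟨a, trivial, subset_closure ⟨ha.2, ha.1⟩⟩ ⟨b, trivial, subset_closure ⟨hb.2, hb.1⟩⟩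
  let Cc := closure U' ∩ closure V'
  have hCc : IsClosed Cc := isClosed_closure.inter isClosed_closure
  obtain ⟨S, hSc, hSmax⟩ : ∃ S : Set X, c ∈ S ∧ (IsIrreducible S ∧ S ⊆ Cc ∧
      ∀ T, IsIrreducible T → T ⊆ Cc → S ⊆ T → T ⊆ S) := by
    let C := irreducibleComponent (⟨c, hc⟩ : Cc)
    have hC : IsIrreducible C := isIrreducible_irreducibleComponent
    refine ⟨Subtype.val '' C, ⟨_, mem_irreducibleComponent, rfl⟩, hC.image _ continuous_subtype_val.continuousOn,
      Subtype.coe_image_subset _ _, fun T hT hTC hST => ?_⟩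
    have hT' : IsIrreducible (Subtype.val ⁻¹' T : Set Cc) := by
      refine ⟨?_, fun u v hu hv hu' hv' => ?_⟩
      · obtain ⟨t, ht⟩ := hT.nonempty; exact ⟨⟨t, hTC ht⟩, ht⟩
      obtain ⟨u0, hu0, rfl⟩ := isOpen_induced_iff.mp hu
      obtain ⟨v0, hv0, rfl⟩ := isOpen_induced_iff.mp hv
      obtain ⟨p, hp, hp'⟩ := hu'
      obtain ⟨q, hq, hq'⟩ := hv'
      obtain ⟨r, hr, hr'⟩ := hT.2 u0 v0 hu0 hv0 ⟨_, hp, hp'⟩ ⟨_, hq, hq'⟩
      exact ⟨⟨r, hTC hr⟩, hr, hr'⟩
    have := (irreducibleComponent_mem_irreducibleComponents (⟨c, hc⟩ : Cc)).2 hT'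
      (fun z hz => hST ⟨z, hz, rfl⟩)
    exact fun t ht => ⟨⟨t, hTC ht⟩, this ht, rfl⟩
  obtain ⟨hS, hSC, hSm⟩ := hSmax
  have hg := hS.isGenericPoint_genericPoint_closure
  let ξ := hS.genericPoint
  have hξC : ξ ∈ Cc := closure_minimal hSC hCc hg.mem
  have hmax : ∀ z, z ⤳ ξ → z ∈ Cc → z = ξ := by
    intro z hz hzC
    have hsp : ξ ⤳ z := by
      refine hg.specializes (subset_closure ?_)
      refine hSm (closure {z}) isIrreducible_singleton.closure (closure_minimal (by simpa using hzC) hCc) ?_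
        (subset_closure rfl)
      exact fun w hw => specializes_iff_mem_closure.mp (hz.trans (hg.specializes (subset_closure hw)))
    exact (hz.antisymm hsp).eq
  have hξZ : ξ ∈ Z := hdis ξ hξC.1 hξC.2
  obtain ⟨u, hu, huξ⟩ := hlift U' hU' ξ hξC.1
  obtain ⟨v, hv, hvξ⟩ := hlift V' hV' ξ hξC.2
  have hz : ({x' : X | x' ⤳ ξ} \ {ξ}) ⊆ closure U' ∪ closure V' := by rw [huniv]; exact Set.subset_univ _
  obtain ⟨w, ⟨hwξ, hw⟩, hwC⟩ := isPreconnected_closed_iff.mp (hgen ξ hξZ) _ _ isClosed_closure isClosed_closure hz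
    ⟨u, ⟨huξ, fun h => hu.2 (by rw [show u = ξ from h]; exact hξZ)⟩, subset_closure hu⟩
    ⟨v, ⟨hvξ, fun h => hv.2 (by rw [show v = ξ from h]; exact hξZ)⟩, subset_closure hv⟩
  exact hw (hmax w hwξ hwC)

end Groth.Agent.S4951
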