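import Groth.Statements.S9462
import Groth.Agent.L27.EtaleLift
import Groth.Agent.L03.ModJac
import Mathlib.RingTheory.Etale.Basic
import Mathlib.LinearAlgebra.TensorProduct.RightExactness
import Mathlib.RingTheory.Flat.Basic
import Mathlib.RingTheory.Smooth.Flat

set_option autoImplicit false
universe u
open CAlg

open TensorProduct

namespace Groth.Agent.S9462

open TensorProduct in
/-- Consider surjections A' → A and B' → B with square-zero kernels I and J and a commutative square A'
→ B', A → B. If A → B is étale and J = I ⊗_A B — that is, J = IB' and the multiplication map B'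
⊗_{A'} I → B' is injective — then A' → B' is étale. -/
theorem result (A' : Type u) [CommRing A'] (A : Type u) [CommRing A]
    [Algebra A' A] (hA : Function.Surjective (algebraMap A' A))
    (hI : RingHom.ker (algebraMap A' A) ^ 2 = ⊥)
    (B' : Type u) [CommRing B'] [Algebra A' B'] (B : Type u) [CommRing B] [Algebra B' B]
    [Algebra A B] [Algebra A' B] [IsScalarTower A' A B] [IsScalarTower A' B' B]
    (hB : Function.Surjective (algebraMap B' B)) (hJ : RingHom.ker (algebraMap B' B) ^ 2 = ⊥)
    [Algebra.Etale A B]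
    (hJI : RingHom.ker (algebraMap B' B) = (RingHom.ker (algebraMap A' A)).map (algebraMap A' B'))
    (hinj : Function.Injective ((RingHom.ker (algebraMap A' A)).subtype.baseChange B')) :
    Algebra.Etale A' B' := by
  classical
  set I := RingHom.ker (algebraMap A' A)
  set J := RingHom.ker (algebraMap B' B)
  have hI2 : ∀ x ∈ I, ∀ y ∈ I, x * y = 0 := fun x hx y hy => by
    have := Ideal.mul_mem_mul hx hy
    rwa [← pow_two, hI, Ideal.mem_bot] at this
  let eA : (A' ⧸ I) ≃+* A := RingHom.quotientKerEquivOfSurjective hA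
  letI : Algebra (A' ⧸ I) A := eA.toRingHom.toAlgebra
  haveI : Algebra.Etale (A' ⧸ I) A :=
    Algebra.Etale.of_equiv (AlgEquiv.ofBijective (Algebra.ofId (A' ⧸ I) A) eA.bijective)
  letI : Algebra (A' ⧸ I) B := Algebra.compHom B (algebraMap (A' ⧸ I) A)
  haveI : IsScalarTower (A' ⧸ I) A B := IsScalarTower.of_algebraMap_eq fun _ => rfl
  haveI : Algebra.Etale (A' ⧸ I) B := Algebra.Etale.comp (A' ⧸ I) A B
  obtain ⟨C, _, _, _, ⟨e⟩⟩ := Groth.L27.EtaleLift.exists_lift A' I B
  haveI : IsScalarTower A' (A' ⧸ I) B := IsScalarTower.of_algebraMap_eq fun x => by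
    change algebraMap A' B x = algebraMap A B (eA (Ideal.Quotient.mk I x))
    rw [RingHom.quotientKerEquivOfSurjective_apply_mk, ← IsScalarTower.algebraMap_apply]
  let q : C →ₐ[A'] B := (e.toAlgHom.restrictScalars A').comp Algebra.TensorProduct.includeRight
  have hq : Function.Surjective q := fun y => by
    obtain ⟨c, hc⟩ := TensorProduct.mk_surjective A' C (A' ⧸ I) Ideal.Quotient.mk_surjective (e.symm y)
    exact ⟨c, by change e ((1 : A' ⧸ I) ⊗ₜ c) = y; rw [show (1 : A' ⧸ I) ⊗ₜ c = e.symm y from hc, e.apply_symm_apply]⟩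
  have hqker : ∀ c, q c = 0 → c ∈ I • (⊤ : Submodule A' C) := fun c hc => by
    rw [← Groth.L03.ModJac.one_tmul_eq_zero_iff]
    exact e.injective (hc.trans (map_zero e).symm)
  let g : B' →ₐ[A'] B := IsScalarTower.toAlgHom A' B' B
  have hgJ : IsNilpotent (RingHom.ker (g : B' →+* B)) := ⟨2, hJ⟩
  let φ : C →ₐ[A'] B' := Algebra.FormallySmooth.liftOfSurjective q g hB hgJ
  have hφ : ∀ c, algebraMap B' B (φ c) = q c := fun c =>
    Algebra.FormallySmooth.liftOfSurjective_apply q g hB hgJ c
  have hJmem : ∀ z ∈ J, z ∈ I • (⊤ : Submodule A' B') := fun z hz => by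
    rw [Ideal.smul_top_eq_map, Submodule.restrictScalars_mem, ← hJI]; exact hz
  have hφs : Function.Surjective φ := by
    have hgen : ∀ y : B', ∃ c, φ c - y ∈ J := fun y => by
      obtain ⟨c, hc⟩ := hq (algebraMap B' B y)
      exact ⟨c, by rw [RingHom.mem_ker, map_sub, hφ, hc, sub_self]⟩
    have hJr : ∀ z ∈ J, ∃ c, φ c = z := by
      intro z hz
      refine Submodule.smul_induction_on (hJmem z hz) (fun i hi y _ => ?_) ?_
      · obtain ⟨c, hc⟩ := hgen y
        refine ⟨i • c, ?_⟩
        rw [map_smul]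
        rw [← sub_eq_zero, ← smul_sub]
        refine Submodule.smul_induction_on (hJmem _ hc) (fun i' hi' z _ => ?_) (fun a b ha hb => ?_)
        · rw [smul_smul, hI2 i hi i' hi', zero_smul]
        · rw [smul_add, ha, hb, add_zero]
      · rintro x y ⟨c, rfl⟩ ⟨d, rfl⟩
        exact ⟨c + d, map_add φ c d⟩
    intro y
    obtain ⟨c, hc⟩ := hgen y
    obtain ⟨d, hd⟩ := hJr _ hc
    exact ⟨c - d, by rw [map_sub, hd, sub_sub_cancel]⟩
  haveI : Module.Flat A' C := inferInstance
  let μC : C ⊗[A'] I →ₗ[A'] C := (TensorProduct.rid A' C).toLinearMap ∘ₗ I.subtype.lTensor C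
  let μB : B' ⊗[A'] I →ₗ[A'] B' := (TensorProduct.rid A' B').toLinearMap ∘ₗ I.subtype.lTensor B'
  have hμB : Function.Injective μB := (TensorProduct.rid A' B').injective.comp hinj
  have hμC : Function.Injective μC := (TensorProduct.rid A' C).injective.comp
    (Module.Flat.lTensor_preserves_injective_linearMap _ I.injective_subtype)
  have hcomm : ∀ w, μB (φ.toLinearMap.rTensor I w) = φ (μC w) := by
    intro w
    induction w with
    | zero => simp
    | tmul c i => simp [μB, μC]
    | add a b ha hb => simp only [map_add, ha, hb]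
  have hkerI : ∀ c, φ c = 0 → c ∈ I • (⊤ : Submodule A' C) := fun c hc =>
    hqker c (by rw [← hφ, hc, map_zero])
  have hinjφ : Function.Injective φ := by
    rw [injective_iff_map_eq_zero]
    intro c hc
    have hmem : ∀ c ∈ I • (⊤ : Submodule A' C), ∃ w, μC w = c := by
      intro c hc
      refine Submodule.smul_induction_on hc (fun i hi y _ => ⟨y ⊗ₜ ⟨i, hi⟩, by simp [μC]⟩) ?_
      rintro x y ⟨w, rfl⟩ ⟨w', rfl⟩
      exact ⟨w + w', map_add μC w w'⟩
    obtain ⟨w, rfl⟩ := hmem c (hkerI c hc)
    have h0 : φ.toLinearMap.rTensor I w = 0 := hμB (by rw [hcomm, hc, map_zero])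
    obtain ⟨v, rfl⟩ := ((rTensor_exact I (LinearMap.exact_subtype_ker_map φ.toLinearMap) hφs) w).1 h0
    induction v with
    | zero => simp
    | tmul k i =>
      obtain ⟨k, hk⟩ := k
      simp only [LinearMap.rTensor_tmul, Submodule.subtype_apply]
      have hki : (i : A') • k = 0 := by
        refine Submodule.smul_induction_on (hkerI k hk) (fun i' hi' z _ => ?_) (fun a b ha hb => ?_)
        · rw [smul_smul, hI2 i i.2 i' hi', zero_smul]
        · rw [smul_add, ha, hb, add_zero]
      simpa [μC] using hki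
    | add a b ha hb =>
      have key : ∀ z, φ (μC ((LinearMap.ker φ.toLinearMap).subtype.rTensor I z)) = 0 := fun z => by
        rw [← hcomm, ← LinearMap.comp_apply (f := φ.toLinearMap.rTensor I), ← LinearMap.rTensor_comp,
          LinearMap.comp_ker_subtype, LinearMap.rTensor_zero, LinearMap.zero_apply, map_zero]
      have h0' : ∀ z, φ.toLinearMap.rTensor I ((LinearMap.ker φ.toLinearMap).subtype.rTensor I z) = 0 := fun z =>
        hμB (by rw [hcomm, key, map_zero])
      rw [map_add, map_add, ha (key a) (h0' a), hb (key b) (h0' b), add_zero]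
  exact Algebra.Etale.of_equiv (AlgEquiv.ofBijective φ ⟨hinjφ, hφs⟩)

end Groth.Agent.S9462
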