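import Groth.Statements.S17783
import Groth.Agent.L05.EulerDiv.PowerFibre
import Groth.Agent.L05.EulerDiv.Fibre
import Groth.Agent.L05.InterPair.Model

set_option autoImplicit false
universe u
open CategoryTheory CategoryTheory.Limits AlgebraicGeometry
open Variety

namespace Groth.Agent.S17783

set_option backward.isDefEq.respectTransparency false
set_option linter.style.haveILetI false

/-- Let R be a discrete valuation ring with fraction field K, let 𝒳 be a normal scheme, proper and flat
over Spec R, with generic fibre the K-scheme X, and let m ≥ 1 be an integer such that the special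
fibre of 𝒳 is m times an effective Cartier divisor D, i.e. the ideal sheaf 𝔪_R · O_𝒳 of the special
fibre is the m-th power of the ideal sheaf of D. Then m divides the Euler characteristic χ(X, O_X).
(The published statement asks only that the special fibre be divisible by m as a Cartier divisor and
deduces from normality that the quotient divisor is effective; the divisor is taken effective here.) -/
theorem result (R : Type u) [CommRing R] [IsDomain R]
    [IsDiscreteValuationRing R] (𝒳 : Scheme.{u}) (p : 𝒳 ⟶ Spec (CommRingCat.of R)) [IsProper p] [Flat p]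
    (hn : Pi1.IsNormalScheme 𝒳) (X : Scheme.{u}) [X.Over (Spec (CommRingCat.of (FractionRing R)))]
    (hX : Models.IsModel R 𝒳 p X (X ↘ Spec (CommRingCat.of (FractionRing R)))) (m : ℕ) (hm : 1 ≤ m)
    (I : 𝒳.IdealSheafData) (hI : BlowUp.IsEffCartierIdeal I)
    (hIm : I ^ m = Models.specialFibreIdeal R (Over.mk p)) :
    (m : ℤ) ∣ Curv2.euler (FractionRing R) X (Coh.structureModule X) := by
  -- Reduction to the closed fibre, where the filtration by the powers of the ideal applies.
  letI : (Over.mk p).left.Over (Spec (CommRingCat.of R)) := ⟨(Over.mk p).hom⟩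
  obtain ⟨-, hft, -, g, hg⟩ := hX
  haveI : IsLocallyNoetherian 𝒳 := LocallyOfFiniteType.isLocallyNoetherian p
  haveI : IsNoetherianRing (CommRingCat.of R) := inferInstanceAs (IsNoetherianRing R)
  let K := FractionRing R
  let κ := IsLocalRing.ResidueField R
  let j : Spec (CommRingCat.of K) ⟶ Spec (CommRingCat.of R) := Spec.map (CommRingCat.ofHom (algebraMap R K))
  let i : Spec (CommRingCat.of κ) ⟶ Spec (CommRingCat.of R) := Spec.map (CommRingCat.ofHom (IsLocalRing.residue R))
  haveI : IsClosedImmersion i := Groth.L05.InterPair.isClosedImmersion_pt (R := R)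
  have hfp : CohB1.IsFP (Coh.structureModule 𝒳) := Groth.L16.EtaleFibre.isFP_structure
  have hlc := Groth.Agent.S1026.result p (Coh.structureModule 𝒳) hfp (Groth.L16.EtaleFibre.isFlatOver_structure p)
  haveI : IsDomain (CommRingCat.of R) := inferInstanceAs (IsDomain R)
  have heq := hlc.apply_eq_of_preconnectedSpace (j (IsLocalRing.closedPoint K)) (i (IsLocalRing.closedPoint κ))
  rw [Groth.L05.EulerDiv.eulerChar_eq_of_isPullback p K j g (X ↘ Spec (CommRingCat.of K)) hg,
    Groth.L05.EulerDiv.eulerChar_eq_of_isPullback p κ i (pullback.fst p i) (pullback.snd p i)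
      (IsPullback.of_hasPullback p i)] at heq
  refine Eq.mpr (congrArg ((m : ℤ) ∣ ·) heq) ?_
  let P := pullback p i
  letI : P.Over (Spec (CommRingCat.of κ)) := ⟨pullback.snd p i⟩
  haveI : IsProper (P ↘ Spec (CommRingCat.of κ)) :=
    MorphismProperty.pullback_snd (P := @IsProper) p i inferInstance
  haveI : 𝒳.IsSeparated := ⟨by rw [← terminal.comp_from p]; infer_instance⟩
  have hker : (pullback.fst p i).ker = I ^ m := by
    rw [hIm, Scheme.IdealSheafData.ker_fst_of_isClosedImmersion, Groth.L05.EulerDiv.ker_pt]
    rfl
  haveI : Flat (Over.mk p).hom := ‹Flat p›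
  refine Groth.L05.EulerDiv.dvd_euler_of_ker_eq_pow κ (pullback.fst p i) I hI m hm hker ?_
  rw [hIm]
  exact Groth.L05.InterPair.nonempty_iso_idealMod_fibre (X := Over.mk p)

end Groth.Agent.S17783
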