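import Groth.Statements.S17784
import Groth.Agent.L05.Models.RegularFibre
import Groth.Agent.S17783
import Groth.Agent.S19920
import Mathlib.RingTheory.UniqueFactorizationDomain.GCDMonoid

set_option autoImplicit false
universe u
open CategoryTheory CategoryTheory.Limits AlgebraicGeometry
open Variety

namespace Groth.Agent.S17784

set_option backward.isDefEq.respectTransparency false
set_option linter.style.haveILetI false

/-- Suppose R is a discrete valuation ring that is Henselian, whose residue field is algebraically
closed, and write K for its fraction field; let X be a regular proper K-scheme which admits a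
regular proper model over R (a flat finite-type R-scheme, proper over R and with all local rings
regular, whose generic fibre is X). Then the index of X over K divides χ(X, O_X): the Euler
characteristic of the structure sheaf lies in the subgroup of ℤ generated by the degrees of the
closed points of X. -/
theorem result (R : Type u) [CommRing R]
    [IsDomain R] [IsDiscreteValuationRing R] [HenselianLocalRing R] (hk : IsAlgClosed (IsLocalRing.ResidueField R))
    (X : Scheme.{u}) [X.Over (Spec (CommRingCat.of (FractionRing R)))] [IsProper (X ↘ Spec (CommRingCat.of (FractionRing R)))] (hXreg : Models.IsRegularScheme X)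
    (𝒳 : Scheme.{u}) (p : 𝒳 ⟶ Spec (CommRingCat.of R)) (h𝒳 : Models.IsRegularProperModel R 𝒳 p X (X ↘ Spec (CommRingCat.of (FractionRing R)))) :
    Curv2.euler (FractionRing R) X (Coh.structureModule X) ∈ Curv2.indexSubgroup (X ↘ Spec (CommRingCat.of (FractionRing R))) := by
  -- The special fibre is an `m`-th power, `m` the gcd of the multiplicities, which lies in the index subgroup.
  classical
  obtain ⟨hmod, hproper, hreg⟩ := h𝒳
  haveI := hproper
  haveI : Flat p := hmod.1
  haveI : Flat (Over.mk p).hom := hmod.1
  haveI : IsLocallyNoetherian 𝒳 := LocallyOfFiniteType.isLocallyNoetherian p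
  haveI : IsLocallyNoetherian (Over.mk p).left := ‹IsLocallyNoetherian 𝒳›
  haveI : CompactSpace 𝒳 := QuasiCompact.compactSpace_of_compactSpace p
  haveI : AlgebraicGeometry.IsNoetherian 𝒳 := {}
  have hn : Pi1.IsNormalScheme 𝒳 := fun x => by
    haveI := hreg x
    haveI := Groth.L01.isDomain_of_regular (𝒳.presheaf.stalk x)
    haveI := Groth.L10.RegUFD.isUFD (𝒳.presheaf.stalk x)
    exact ⟨inferInstance, inferInstance⟩
  let f := X ↘ Spec (CommRingCat.of (FractionRing R))
  set H := Curv2.indexSubgroup f with hH
  let P := Models.specialFibre R 𝒳 p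
  let j : P ⟶ 𝒳 := pullback.fst p (Groth.L05.GeomMult.pt R)
  haveI : IsClosedImmersion j := by
    haveI : IsClosedImmersion (Groth.L05.GeomMult.pt R) := Groth.L05.InterPair.isClosedImmersion_pt (R := R)
    exact MorphismProperty.pullback_fst _ _ inferInstance
  haveI : LocallyOfFiniteType j := inferInstance
  haveI : IsLocallyNoetherian P := LocallyOfFiniteType.isLocallyNoetherian j
  haveI : CompactSpace P := QuasiCompact.compactSpace_of_compactSpace j
  haveI : AlgebraicGeometry.IsNoetherian P := {}
  -- the maximal points of the closed fibre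
  let ι := {η : P // ∀ y : P, y ⤳ η → y = η}
  haveI : Finite ι := by
    haveI : Finite (irreducibleComponents P) :=
      TopologicalSpace.NoetherianSpace.finite_irreducibleComponents.to_subtype
    refine Finite.of_injective (fun η : ι => (⟨closure {η.1}, ?_⟩ : irreducibleComponents P)) fun a b hab => ?_
    · refine ⟨isIrreducible_singleton.closure, fun Z hZ hle => ?_⟩
      obtain ⟨z, hz⟩ := QuasiSober.sober hZ.closure isClosed_closure
      have : z = η.1 := η.2 z (hz.specializes (subset_closure (hle (subset_closure rfl))))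
      rw [← this, hz.def]
      exact subset_closure
    · exact Subtype.ext ((IsGenericPoint.eq (congrArg Subtype.val hab : closure {a.1} = closure {b.1})
        (rfl : closure {b.1} = closure {b.1})))
  letI : Fintype ι := Fintype.ofFinite ι
  let ξ : ι → 𝒳 := fun η => j η.1
  have hrange : Set.range j = Models.specialFibreSet R (Over.mk p) :=
    Groth.L05.GeomMult.range_fst_eq (X := Over.mk p)
  have hmem : ∀ i, ξ i ∈ Models.specialFibreSet R (Over.mk p) := fun i => hrange.le ⟨i.1, rfl⟩
  have hmax : ∀ i, ∀ y ∈ Models.specialFibreSet R (Over.mk p), y ⤳ ξ i → y = ξ i := fun i y hy hys => by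
    obtain ⟨y', rfl⟩ := hrange.ge hy
    exact congrArg j (i.2 y' (j.isEmbedding.isInducing.specializes_iff.1 hys))
  have hinj : Function.Injective ξ := fun a b h => Subtype.ext (j.isEmbedding.injective h)
  have hcover : ∀ x ∈ Models.specialFibreSet R (Over.mk p), ∃ i, ξ i ⤳ x := fun x hx => by
    obtain ⟨x', rfl⟩ := hrange.ge hx
    obtain ⟨η, hη⟩ := QuasiSober.sober (isIrreducible_irreducibleComponent (x := x'))
      isClosed_irreducibleComponent
    refine ⟨⟨η, fun y hy => ?_⟩, (hη.specializes mem_irreducibleComponent).map j.continuous⟩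
    have hc : closure {y} = irreducibleComponent x' :=
      eq_irreducibleComponent isIrreducible_singleton.closure.2
        (hη.def.symm.subset.trans (closure_minimal (Set.singleton_subset_iff.2
          (specializes_iff_mem_closure.1 hy)) isClosed_closure))
    exact IsGenericPoint.eq (show IsGenericPoint y (irreducibleComponent x') from hc) hη
  have hdiv : ∀ i, ∃ D : 𝒳.IdealSheafData, BlowUp.IsEffCartierIdeal D ∧ IsIntegral D.subscheme ∧
      IsGenericPoint (ξ i) (D.support : Set 𝒳) := fun i =>
    Groth.L05.PtSeq.isEffCartier_vanishing hreg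
      (Groth.L05.Models.RegFibre.dim_maximal (X := Over.mk p) hreg (hmem i) (hmax i))
  choose D hDc hDi hDg using hdiv
  let a : ι → ℕ := fun i => Groth.L05.Models.RegFibre.multAt R (Over.mk p) (ξ i)
  have hprod : Models.specialFibreIdeal R (Over.mk p) = ∏ i, D i ^ a i :=
    Groth.L05.Models.RegFibre.specialFibreIdeal_eq_prod_pow (X := Over.mk p) hreg ξ hmem hmax hinj hcover D hDi hDg
  -- the multiplicities are positive and lie in the index subgroup
  have ha : ∀ i, a i ≠ 0 ∧ (a i : ℤ) ∈ H := fun i => by
    obtain ⟨ℓ, hℓ, hℓH⟩ := Groth.Agent.S19920.result R hk X f 𝒳 p hmod i.1 i.2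
    have hlen := Groth.L05.Models.RegFibre.length_stalk_specialFibre (X := Over.mk p) i.1
    have hal : a i = ℓ := (congrArg ENat.toNat (hlen.symm.trans hℓ)).trans (ENat.toNat_coe ℓ)
    refine ⟨fun h0 => ?_, hal ▸ hℓH⟩
    rw [← hal, h0, Nat.cast_zero, Module.length_eq_zero_iff] at hℓ
    exact not_subsingleton _ hℓ
  have hpowdvd : ∀ m : ℕ, 1 ≤ m → (∀ i, m ∣ a i) →
      (m : ℤ) ∣ Curv2.euler (FractionRing R) X (Coh.structureModule X) := fun m hm hdvd => by
    refine Groth.Agent.S17783.result R 𝒳 p hn X hmod m hm (∏ i, D i ^ (a i / m)) ?_ ?_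
    · exact Finset.prod_induction _ BlowUp.IsEffCartierIdeal (fun _ _ => Groth.L22.Ideals.isEffCartier_mul)
        Groth.L05.InterPair.isEffCartier_one fun i _ => Groth.L05.InterPair.isEffCartier_pow (hDc i) _
    · rw [hprod, ← Finset.prod_pow]
      exact Finset.prod_congr rfl fun i _ => by rw [← pow_mul, Nat.div_mul_cancel (hdvd i)]
  obtain ⟨g, hg⟩ := Int.subgroup_cyclic H
  have hHg : ∀ z : ℤ, z ∈ H ↔ g ∣ z := fun z => by
    rw [hg, ← AddSubgroup.zmultiples_eq_closure, Int.mem_zmultiples_iff]
  show Curv2.euler (FractionRing R) X (Coh.structureModule X) ∈ H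
  rw [hHg]
  rcases isEmpty_or_nonempty ι with hι | ⟨⟨i₀⟩⟩
  · have h := hpowdvd ((Curv2.euler (FractionRing R) X (Coh.structureModule X)).natAbs + 1) le_add_self
      fun i => isEmptyElim i
    rw [Int.eq_zero_of_dvd_of_natAbs_lt_natAbs h (by omega)]
    exact dvd_zero g
  · refine (Int.natAbs_dvd).1 (hpowdvd g.natAbs ?_ fun i => ?_)
    · refine Nat.one_le_iff_ne_zero.2 fun h0 => (ha i₀).1 ?_
      have := (hHg _).1 (ha i₀).2
      rw [Int.natAbs_eq_zero.1 h0, zero_dvd_iff] at this
      exact_mod_cast this
    · exact Int.natCast_dvd_natCast.1 ((Int.natAbs_dvd).2 ((hHg _).1 (ha i).2))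

end Groth.Agent.S17784
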