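import Groth.Statements.S12460
-- import your own Groth.Agent.* helpers here

set_option autoImplicit false
universe u
open CategoryTheory AlgebraicGeometry
open Props

namespace Groth.Agent.S12460

/-- (1) ⇔ (3) ⇔ (4): let X be a locally Noetherian scheme. Then X is J-2 — for every morphism Y → X
locally of finite type the set of points y with O_{Y,y} a regular local ring is open in Y — if and
only if for every affine open U of X the ring Γ(X, U) is J-2 (every finite type algebra over it has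
open regular locus), if and only if every point of X lies in such an affine open. (Schemes Y over X
are taken in the universe of X.) -/
theorem result (X : Scheme.{u}) [IsLocallyNoetherian X] :
    ((∀ (Y : Scheme.{u}) (g : Y ⟶ X), LocallyOfFiniteType g →
        IsOpen {y : Y | IsRegularLocalRing (Y.presheaf.stalk y)}) ↔
      ∀ U : X.affineOpens, EGA4.IsJ2 Γ(X, U)) ∧
    ((∀ (Y : Scheme.{u}) (g : Y ⟶ X), LocallyOfFiniteType g →
        IsOpen {y : Y | IsRegularLocalRing (Y.presheaf.stalk y)}) ↔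
      ∀ x : X, ∃ U : X.affineOpens, x ∈ (U : X.Opens) ∧ EGA4.IsJ2 Γ(X, U)) := by
  have key : ∀ (Z : Scheme.{u}) (V : Z.Opens) (hV : IsAffineOpen V) (q : Spec Γ(Z, V)),
      IsRegularLocalRing (Z.presheaf.stalk (hV.fromSpec.base q)) ↔ q ∈ EGA4.regLocus Γ(Z, V) := by
    intro Z V hV q
    have hq : hV.fromSpec.base q ∈ V := hV.range_fromSpec.le ⟨q, rfl⟩
    letI := TopCat.Presheaf.algebra_section_stalk Z.presheaf (U := V) ⟨hV.fromSpec.base q, hq⟩
    haveI : IsLocalization.AtPrime (Z.presheaf.stalk (hV.fromSpec.base q)) q.asIdeal := hV.isLocalization_stalk' q hq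
    let e := (IsLocalization.algEquiv q.asIdeal.primeCompl (Z.presheaf.stalk (hV.fromSpec.base q))
      (Localization.AtPrime q.asIdeal)).toRingEquiv
    exact ⟨fun h => IsRegularLocalRing.of_ringEquiv e, fun (h : IsRegularLocalRing _) => IsRegularLocalRing.of_ringEquiv e.symm⟩
  have h1 : (∀ (Y : Scheme.{u}) (g : Y ⟶ X), LocallyOfFiniteType g →
      IsOpen {y : Y | IsRegularLocalRing (Y.presheaf.stalk y)}) → ∀ U : X.affineOpens, EGA4.IsJ2 Γ(X, U) := by
    intro h U S _ _ hS
    let Y := Spec (CommRingCat.of S)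
    haveI : LocallyOfFiniteType (Spec.map (CommRingCat.ofHom (algebraMap Γ(X, U) S))) := by
      rw [HasRingHomProperty.Spec_iff (P := @LocallyOfFiniteType)]
      exact RingHom.finiteType_algebraMap.mpr hS
    have := h Y (Spec.map (CommRingCat.ofHom (algebraMap Γ(X, U) S)) ≫ U.2.fromSpec) inferInstance
    refine (Eq.subst (motive := IsOpen) ?_ this)
    ext q
    let e : Localization.AtPrime (show PrimeSpectrum S from q).asIdeal ≃+* ↑(Y.presheaf.stalk q) :=
      (StructureSheaf.stalkIso S q).toRingEquiv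
    exact ⟨fun (hr : IsRegularLocalRing (Y.presheaf.stalk q)) => IsRegularLocalRing.of_ringEquiv e.symm,
      fun (hr : IsRegularLocalRing _) => IsRegularLocalRing.of_ringEquiv e⟩
  have h2 : (∀ x : X, ∃ U : X.affineOpens, x ∈ (U : X.Opens) ∧ EGA4.IsJ2 Γ(X, U)) →
      ∀ (Y : Scheme.{u}) (g : Y ⟶ X), LocallyOfFiniteType g →
        IsOpen {y : Y | IsRegularLocalRing (Y.presheaf.stalk y)} := by
    intro h Y g hg
    rw [isOpen_iff_forall_mem_open]
    intro y hy
    obtain ⟨U, hyU, hJ⟩ := h (g.base y)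
    obtain ⟨_, ⟨(V : Y.Opens), hV, rfl⟩, hyV, hVU⟩ :=
      Y.isBasis_affineOpens.exists_subset_of_mem_open (show y ∈ g ⁻¹ᵁ U.1 from hyU) (g ⁻¹ᵁ U.1).2
    letI := (g.appLE U.1 V hVU).hom.toAlgebra
    have hopen := hJ Γ(Y, V) (g.finiteType_appLE U.2 hV hVU)
    refine ⟨hV.fromSpec.base '' EGA4.regLocus Γ(Y, V), ?_, hV.fromSpec.isOpenEmbedding.isOpenMap _ hopen, ?_⟩
    · rintro _ ⟨q, hq, rfl⟩
      exact (key Y V hV q).mpr hq
    · obtain ⟨q, rfl⟩ := hV.range_fromSpec.ge hyV
      exact ⟨q, (key Y V hV q).mp hy, rfl⟩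
  have h3 : (∀ U : X.affineOpens, EGA4.IsJ2 Γ(X, U)) →
      ∀ x : X, ∃ U : X.affineOpens, x ∈ (U : X.Opens) ∧ EGA4.IsJ2 Γ(X, U) := by
    intro h x
    obtain ⟨_, ⟨(U : X.Opens), hU, rfl⟩, hxU, -⟩ :=
      X.isBasis_affineOpens.exists_subset_of_mem_open (Set.mem_univ x) isOpen_univ
    exact ⟨⟨U, hU⟩, hxU, h ⟨U, hU⟩⟩
  exact ⟨⟨h1, fun h => h2 (h3 h)⟩, ⟨fun h => h3 (h1 h), h2⟩⟩

end Groth.Agent.S12460
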