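import Groth.Statements.S1971
import Groth.Agent.L05.Hensel.Perm

set_option autoImplicit false
universe u
open EtAlg

namespace Groth.Agent.S1971

/-- Let A be a ring with ideals I and J having the same zero locus in Spec A. Then an A-algebra is a
henselization of the pair (A, I) if and only if it is a henselization of the pair (A, J). -/
theorem result (A : Type u) [CommRing A] (I J : Ideal A)
    (h : PrimeSpectrum.zeroLocus (I : Set A) = PrimeSpectrum.zeroLocus (J : Set A)) (B : Type u) [CommRing B] [Algebra A B] :
    Hens2.IsPairHenselization A I B ↔ Hens2.IsPairHenselization A J B := by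
  have key : ∀ (I J : Ideal A), PrimeSpectrum.zeroLocus (I : Set A) = PrimeSpectrum.zeroLocus (J : Set A) →
      Hens2.IsPairHenselization A I B → Hens2.IsPairHenselization A J B := by
    intro I J h hB
    have hrad : J.radical = I.radical := by
      rw [← PrimeSpectrum.vanishingIdeal_zeroLocus_eq_radical, ← PrimeSpectrum.vanishingIdeal_zeroLocus_eq_radical, h]
    refine ⟨?_, fun C _ K f hC hf => ?_⟩
    · haveI := hB.1
      haveI := Groth.L05.henselianRing_radical (I.map (algebraMap A B))
      exact Groth.L05.henselianRing_mono (((Ideal.map_mono (Ideal.le_radical.trans hrad.le))).trans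
        (Ideal.map_radical_le _))
    · haveI := hC
      haveI hC' := Groth.L05.henselianRing_radical K
      obtain ⟨g, hg, hgu⟩ := hB.2 C K.radical f hC' (((Ideal.map_mono (Ideal.le_radical.trans hrad.ge))).trans
        ((Ideal.map_radical_le _).trans (Ideal.radical_mono hf)))
      exact ⟨g, hg, hgu⟩
  exact ⟨key I J h, key J I h.symm⟩

end Groth.Agent.S1971
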