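import Groth.Statements.S3327
import Groth.Agent.L05.ProjLines.Main
import Groth.Agent.L05.EulerDiv.Divis
import Groth.Agent.S3321
import Groth.Agent.S3326

set_option backward.isDefEq.respectTransparency false
set_option linter.style.haveILetI false

set_option autoImplicit false
universe u
open CategoryTheory CategoryTheory.Limits AlgebraicGeometry
open Models

namespace Groth.Agent.S3327

/-- In the following situation (R a discrete valuation ring with residue field k, C a smooth proper
curve over its fraction field K with H^0(C, O_C) = K, X a regular proper model, Γ_1, …, Γ_n the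
irreducible components of the closed fibre with multiplicities m_l), suppose Γ_i and Γ_j (i ≠ j) are
exceptional curves of the first kind which meet. Then n = 2, all multiplicities are 1, every
component is k-isomorphic to the projective line over k, Γ_i and Γ_j meet in a single point x with
residue field k, scheme-theoretically (I(Γ_i) + I(Γ_j) is the ideal of the reduced point x), and C
has genus zero. -/
theorem result (R : Type u) [CommRing R] [IsDomain R] [IsDiscreteValuationRing R]
    (C X : Scheme.{u}) (f : C ⟶ Spec (CommRingCat.of (FractionRing R))) (p : X ⟶ Spec (CommRingCat.of R))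
    (hC : Curve.IsSmoothProperCurve (FractionRing R) C f) (hH0 : IsIso f.appTop)
    (hX : Models.IsRegularProperModel R X p C f)
    {n : ℕ} (Γ : Fin n → ArSurf.VertComp R (Over.mk p)) (hΓ : Models.IsComponentList R (Over.mk p) Γ)
    (i j : Fin n) (hij : i ≠ j) (hi : Models.IsExcCurve (Γ i).ι) (hj : Models.IsExcCurve (Γ j).ι)
    (hmeet : ¬ Disjoint (Set.range ((Γ i).ι.base : (Γ i).curve.left → X))
      (Set.range ((Γ j).ι.base : (Γ j).curve.left → X))) :
    n = 2 ∧ (∀ l, Models.mult R (Over.mk p) (Γ l) = 1) ∧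
      (∀ l, ∃ e : (Γ l).curve.left ≅ CohB1.ProjSpace 1 (IsLocalRing.ResidueField R),
        e.hom ≫ CohB1.ProjSpace.toSpec 1 (IsLocalRing.ResidueField R) = (Γ l).curve.hom) ∧
      (∃ x : X, Set.range ((Γ i).ι.base : (Γ i).curve.left → X) ∩ Set.range ((Γ j).ι.base : (Γ j).curve.left → X) = {x} ∧
        (Γ i).ι.ker ⊔ (Γ j).ι.ker =
          Scheme.IdealSheafData.vanishingIdeal ⟨closure {x}, isClosed_closure⟩ ∧
        Function.Surjective ((X.residue x).hom.comp (Models.stalkHom R (Over.mk p) x))) ∧
      Models.curveGenus (FractionRing R) C f = 0 := by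
  classical
  have hX' := hX
  obtain ⟨⟨hflat, hft, -, g, hg⟩, hproper, hreg⟩ := hX
  haveI : Flat (Over.mk p).hom := hflat
  haveI : IsProper (Over.mk p).hom := hproper
  haveI : IsLocallyNoetherian (Over.mk p).left := LocallyOfFiniteType.isLocallyNoetherian p
  haveI : IsIntegral C := hC.2.2.1
  haveI : IsIntegral (Over.mk p).left := Groth.L05.InterPair.isIntegral_of_model (X := Over.mk p) hreg hg
  have hreg' : Models.IsRegularScheme (Over.mk p).left := hreg
  choose L hLi hL using fun i => Groth.L08.Cube.exists_inverse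
    ((Groth.Agent.L19.IdealInvertible.isEffCartier_iff _).2
      (Groth.L05.FibreDecomp.isEffCartier (X := Over.mk p) hreg' hΓ i))
  have hL' : ∀ i, ClSub.IsInverseOf (L i) (ClSub.idealMod (Γ i).ι.ker) := fun i =>
    ⟨Groth.L00.Tensor.tensorComm _ _ ≪≫ (hL i).some⟩
  have hconn := Groth.L05.InterPair.isPreconnected_specialFibreSet R f p hC hH0 hX'
  let A : Fin n → Fin n → ℤ := fun a b => ArSurf.inter R (Over.mk p) (L b) (Γ a)
  let w : Fin n → ℤ := fun a => (Models.wdeg R (Over.mk p) (Γ a) : ℤ)
  let m : Fin n → ℕ := fun a => Models.mult R (Over.mk p) (Γ a)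
  obtain ⟨hgi, hsi⟩ := (Groth.Agent.S3326.result R C X f p hC hH0 hX' Γ hΓ L hL' i).1 hi
  obtain ⟨hgj, hsj⟩ := (Groth.Agent.S3326.result R C X f p hC hH0 hX' Γ hΓ L hL' j).1 hj
  have hsymm : A j i = A i j := Groth.L05.InterPair.inter_symm (X := Over.mk p) hreg' hΓ hL' j i
  obtain ⟨hnn, hz⟩ := Groth.L05.InterPair.inter_nonneg_and_eq_zero_iff (X := Over.mk p) hreg' hΓ hL' hij
  have ha : 0 < A i j := lt_of_le_of_ne hnn fun h => hmeet (hz.1 h.symm)
  have hwi : w i ≤ A i j := Int.le_of_dvd ha (Groth.L05.EulerDiv.wdeg_dvd_inter (Γ i) (L j))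
  have hwj : w j ≤ A i j := Int.le_of_dvd ha (hsymm ▸ Groth.L05.EulerDiv.wdeg_dvd_inter (Γ j) (L i))
  have hwpos : 0 < w i := Int.natCast_pos.2 (Groth.L05.EulerDiv.wdeg_pos (Γ i))
  -- the form on the pair
  let a₀ : Fin n → ℤ := fun l => if l = i ∨ l = j then 1 else 0
  obtain ⟨hQ, hQz⟩ := Groth.L05.InterPair.form_nonpos_and_eq_zero_iff (X := Over.mk p) hreg' hΓ hL' hconn a₀
  have hQv : (∑ q : Fin n × Fin n, a₀ q.1 * a₀ q.2 * ArSurf.inter R (Over.mk p) (L q.2) (Γ q.1)) =
      -w i - w j + 2 * A i j := by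
    have hs : ∀ F : Fin n → ℤ, ∑ l, a₀ l * F l = F i + F j := fun F => by
      have h1 : ∀ l, a₀ l * F l = (if l = i then F l else 0) + (if l = j then F l else 0) := fun l => by
        rcases eq_or_ne l i with rfl | hl
        · simp [a₀, hij]
        · simp [a₀, hl]
      simp only [h1, Finset.sum_add_distrib, Finset.sum_ite_eq', Finset.mem_univ, if_true]
    rw [Fintype.sum_prod_type]
    simp only [mul_assoc, ← Finset.mul_sum, hs]
    show A i i + A i j + (A j i + A j j) = _
    rw [hsymm, show A i i = -w i from hsi, show A j j = -w j from hsj]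
    ring
  rw [hQv] at hQ hQz
  have hai : A i j = w i := by omega
  have haj : w j = w i := by omega
  obtain ⟨c, hc⟩ := hQz.1 (by omega)
  have hmpos : ∀ l, 0 < m l := fun l => Groth.L05.InterPair.mult_pos (X := Over.mk p) hreg' hΓ l
  have hci : (1 : ℚ) = c * (m i : ℚ) := by
    have h := hc i
    simpa [a₀] using h
  have hall : ∀ l, l = i ∨ l = j := fun l => by
    by_contra hl
    have h := hc l
    simp only [a₀, if_neg hl, Int.cast_zero] at h
    have hc0 : c ≠ 0 := fun h0 => by rw [h0, zero_mul] at hci; exact one_ne_zero hci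
    exact mul_ne_zero hc0 (Nat.cast_ne_zero.2 (hmpos l).ne') h.symm
  have hmij : m j = m i := by
    have h : (1 : ℚ) = c * (m j : ℚ) := by
      have h := hc j
      simpa [a₀] using h
    have hc0 : c ≠ 0 := fun h0 => by rw [h0, zero_mul] at hci; exact one_ne_zero hci
    exact_mod_cast mul_left_cancel₀ hc0 (h.symm.trans hci)
  have huniv : (Finset.univ : Finset (Fin n)) = {i, j} := by
    ext l
    simpa using hall l
  have hgenus := Groth.Agent.S3321.result R C X f p hC hH0 hX' Γ hΓ L hL'
  rw [huniv, Finset.sum_pair hij, hgi, hgj, hsi, hsj] at hgenus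
  have hdw : (m i : ℤ) * w i = 1 ∧ Models.curveGenus (FractionRing R) C f = 0 := by
    have h1 : (Models.mult R (Over.mk p) (Γ j) : ℤ) = (m i : ℤ) := by exact_mod_cast hmij
    rw [h1, show (Models.wdeg R (Over.mk p) (Γ j) : ℤ) = w i from haj] at hgenus
    have h2 : (Models.curveGenus (FractionRing R) C f : ℤ) = 1 - (m i : ℤ) * w i := by
      simp only [m, w] at hgenus ⊢
      push_cast at hgenus
      linarith
    have h3 : 0 < (m i : ℤ) * w i := mul_pos (by exact_mod_cast hmpos i) hwpos
    omega
  obtain ⟨hdw, hg0⟩ := hdw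
  have hwone : w i = 1 := Int.eq_one_of_mul_eq_one_left hwpos.le hdw
  have hmone : m i = 1 := by
    rw [hwone, mul_one] at hdw
    exact_mod_cast hdw
  have hsi' : ∀ l, Models.wdeg R (Over.mk p) (Γ l) = 1 ∧ Models.h1 R (Over.mk p) (Γ l) = 0 ∧
      ArSurf.inter R (Over.mk p) (L l) (Γ l) = -1 ∧ m l = 1 := fun l => by
    rcases hall l with rfl | rfl
    · exact ⟨Int.natCast_inj.1 (hwone.trans Nat.cast_one.symm), hgi, hsi.trans (congrArg Neg.neg hwone), hmone⟩
    · exact ⟨Int.natCast_inj.1 ((haj.trans hwone).trans Nat.cast_one.symm), hgj, hsj.trans (congrArg Neg.neg (haj.trans hwone)),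
        hmij.trans hmone⟩
  refine ⟨?_, fun l => (hsi' l).2.2.2, fun l => ?_, ?_, hg0⟩
  · have h := congrArg Finset.card huniv
    rwa [Finset.card_univ, Fintype.card_fin, Finset.card_pair hij] at h
  · obtain ⟨h1, h2, h3, -⟩ := hsi' l
    have hE := Groth.L05.FibreDecomp.isEffCartier (X := Over.mk p) hreg' hΓ l
    rw [Groth.L05.InterPair.inter_eq_neg_negDeg (Γ l) hE (hL' l), neg_inj] at h3
    exact Groth.L05.ProjLines.iso_projLine (Γ l)
      (Groth.L18.Ample.isInvertible_pullback _ ((Groth.Agent.L19.IdealInvertible.isEffCartier_iff _).2 hE)) h1 h2 h3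
  · have hgen : Models.genPtOf R (Over.mk p) (Γ i) ∉ ((Γ j).ι.ker.support : Set (Over.mk p).left) := fun h =>
      hij (Groth.L05.FibreDecomp.eq_of_genPtOf_mem (X := Over.mk p) hΓ h)
    have hone := Groth.L05.InterPair.inter_eq_finrank_comap (X := Over.mk p) hreg' hΓ hL' hij
    rw [show ArSurf.inter R (Over.mk p) (L j) (Γ i) = 1 from hai.trans hwone] at hone
    exact Groth.L05.ProjLines.point_of_length_one (X := Over.mk p) (Γ i) (Γ j) hgen (by exact_mod_cast hone.symm)

end Groth.Agent.S3327
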