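import Groth.Statements.S1666
import Groth.Agent.L22.CurveDeg.PushStalk
import Groth.Agent.L21.CurveMaps
-- import your own Groth.Agent.* helpers here

set_option autoImplicit false
universe u
open CategoryTheory CategoryTheory.Limits AlgebraicGeometry
open Variety

namespace Groth.Agent.S1666

/-- Let f : X' → X be a k-morphism of proper schemes of dimension at most one over k which is an
isomorphism over a dense open of X whose preimage is dense in X'. Then for every finite locally free
module E of rank n on X, deg(f^* E) = deg(E). -/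
theorem result (k : Type u) [Field k] (X X' : Scheme.{u}) [X.Over (Spec (CommRingCat.of k))] [X'.Over (Spec (CommRingCat.of k))]
    [IsProper (X ↘ (Spec (CommRingCat.of k)))] [IsProper (X' ↘ (Spec (CommRingCat.of k)))] (hdim : topologicalKrullDim X ≤ 1) (hdim' : topologicalKrullDim X' ≤ 1)
    (f : X' ⟶ X) (hf : f ≫ (X ↘ (Spec (CommRingCat.of k))) = X' ↘ (Spec (CommRingCat.of k)))
    (U : X.Opens) (hU : Dense (U : Set X)) (hU' : Dense ((f ⁻¹ᵁ U : X'.Opens) : Set X')) (hfU : IsIso (f ∣_ U))
    (n : ℕ) (E : X.Modules) (hE : FlatMod.IsFinLocFreeOfRank n E) :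
    Curv2.deg k X' ((Scheme.Modules.pullback f).obj E) n = Curv2.deg k X E n := by
  let p := X' ↘ Spec (CommRingCat.of k)
  let q := X ↘ Spec (CommRingCat.of k)
  haveI : IsProper f := by
    haveI : IsProper (f ≫ q) := hf ▸ inferInstance
    exact IsProper.of_comp f q
  haveI := Groth.L21.RR.isNoetherian_of_proper (X := X) k
  haveI := Groth.L21.RR.isNoetherian_of_proper (X := X') k
  haveI := hfU
  -- maximal points of a space of dimension at most one lie in every dense open
  have hmax : ∀ (Z : Scheme.{u}) [IsNoetherian Z], topologicalKrullDim Z ≤ 1 → ∀ (V : Z.Opens),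
      Dense (V : Set Z) → ∀ z : Z, ¬ IsClosed ({z} : Set Z) → z ∈ V := by
    intro Z _ hd V hV z hz
    by_contra hzV
    have hfinS := Groth.L22.CurveDeg.finite_nonclosed (X := Z) hd
    obtain ⟨S, hSf, hSc, hSi, hSu⟩ :=
      TopologicalSpace.NoetherianSpace.exists_finite_set_isClosed_irreducible (α := Z) (s := Set.univ) isClosed_univ
    let W : Set Z := (⋃₀ {t ∈ S | z ∉ t})ᶜ
    have hWo : IsOpen W :=
      (show IsClosed (⋃₀ {t ∈ S | z ∉ t}) from Set.sUnion_eq_biUnion ▸
        Set.Finite.isClosed_biUnion (hSf.subset (Set.sep_subset _ _)) fun t ht => hSc t ht.1).isOpen_compl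
    have hzW : z ∈ W := by rintro ⟨t, ⟨-, ht⟩, hz'⟩; exact ht hz'
    obtain ⟨w, hwW, hwV⟩ := hV.inter_open_nonempty W hWo ⟨z, hzW⟩
    obtain ⟨t, ht, hwt⟩ : w ∈ ⋃₀ S := hSu ▸ Set.mem_univ w
    have hzt : z ∈ t := by
      by_contra hzt
      exact hwW ⟨t, ⟨ht, hzt⟩, hwt⟩
    obtain ⟨g, hg⟩ := QuasiSober.sober (hSi t ht) (hSc t ht)
    obtain rfl := Groth.L22.CurveDeg.eq_of_specializes_nonclosed hd hz (hg.specializes hzt)
    exact hzV ((hg.specializes hwt).mem_open V.2 hwV)
  have hinj : ∀ x x' : X', f x ∈ U → f x' = f x → x' = x := fun x x' hx he => by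
    have h := (f ∣_ U).homeomorph.injective (a₁ := ⟨x', show f x' ∈ U from he ▸ hx⟩) (a₂ := ⟨x, hx⟩)
    refine congrArg Subtype.val (h (Subtype.ext ?_))
    refine (morphismRestrict_base_coe f U _).trans (Eq.trans ?_ (morphismRestrict_base_coe f U _).symm)
    exact he
  haveI : IsFinite f := Groth.L21.CurveTop.isFinite_of_nonconstant p q f hf hdim' fun Z hZ hZ1 => by
    have hZc := isClosed_of_mem_irreducibleComponents Z hZ
    obtain ⟨ζ, hζ⟩ := QuasiSober.sober hZ.1 hZc
    obtain ⟨z, hzZ, hzc⟩ := hZc.exists_closed_singleton hZ.1.nonempty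
    have hζn : ¬ IsClosed ({ζ} : Set X') := fun hc => by
      have hZe : Z = {ζ} := by rw [← hζ.def, hc.closure_eq]
      haveI : Subsingleton Z := by rw [hZe]; infer_instance
      haveI : DiscreteTopology Z := Subsingleton.discreteTopology
      haveI : _root_.Nonempty Z := ⟨⟨ζ, hζ.mem⟩⟩
      have := topologicalKrullDim_zero_of_discreteTopology Z
      rw [hZ1] at this
      exact absurd this (by decide)
    have hζU : f ζ ∈ U := hmax X' hdim' _ hU' ζ hζn
    refine ⟨f ζ, ⟨ζ, hζ.mem, rfl⟩, f z, ⟨z, hzZ, rfl⟩, fun e => hζn ?_⟩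
    rw [← hinj ζ z hζU e.symm]
    exact hzc
  haveI : X.IsSeparated := ⟨by rw [← terminal.comp_from q]; infer_instance⟩
  have hO' := Groth.L16.CohClosedPush.isCoh_structure (X := X')
  have hO := Groth.L16.CohClosedPush.isCoh_structure (X := X)
  have hlen : ∀ y : X, ¬ IsClosed ({y} : Set X) →
      Groth.L16.CohSupport.len y ((Scheme.Modules.pushforward f).obj (Coh.structureModule X')) =
        Groth.L16.CohSupport.len y (Coh.structureModule X) := by
    intro y hy
    have hyU := hmax X hdim U hU y hy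
    obtain ⟨⟨x, hxU⟩, hx⟩ := (f ∣_ U).homeomorph.surjective ⟨y, hyU⟩
    have hxy : f x = y := by
      rw [← morphismRestrict_base_coe f U ⟨x, hxU⟩]
      exact congrArg Subtype.val hx
    subst hxy
    have hiso : IsIso (f.stalkMap x) := ((MorphismProperty.isomorphisms CommRingCat.{u}).arrow_mk_iso_iff
      (morphismRestrictStalkMap f U ⟨x, hxU⟩)).1 (inferInstanceAs (IsIso ((f ∣_ U).stalkMap ⟨x, hxU⟩)))
    have hφ : Function.Bijective (Groth.L00.PullStalk.φ f x) := ConcreteCategory.bijective_of_isIso (f.stalkMap x)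
    haveI : IsIso (Groth.L17.ClosedPush.cHom f (Coh.structureModule X') x) :=
      (ConcreteCategory.isIso_iff_bijective _).2
        (Groth.L22.CurveDeg.c₀_bijective_of_fiber f f.isClosedMap (fun x' => hinj x x' hxU) _)
    let N := (ModuleCat.restrictScalars (Groth.L00.PullStalk.φ f x)).obj
      ((Groth.L00.Stk.F X' x).obj (Coh.structureModule X'))
    let l : X.presheaf.stalk (f x) →+ N := AddMonoidHom.mk'
      (fun a => (show (Coh.structureModule X').presheaf.stalk x from
        Groth.L00.PullStalk.φ f x a • Groth.L21.RR.one X' x))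
      fun a b => (congrArg (· • Groth.L21.RR.one X' x) (map_add _ a b)).trans (add_smul _ _ _)
    let e₂ : X.presheaf.stalk (f x) ≃ₗ[X.presheaf.stalk (f x)] N :=
      LinearEquiv.ofBijective
        ({ toFun := l
           map_add' := map_add l
           map_smul' := fun c a => (congrArg (· • Groth.L21.RR.one X' x) (map_mul _ c a)).trans
             (mul_smul (Groth.L00.PullStalk.φ f x c) (Groth.L00.PullStalk.φ f x a) (Groth.L21.RR.one X' x)) } :
          X.presheaf.stalk (f x) →ₗ[X.presheaf.stalk (f x)] N)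
        ((Groth.L21.RR.bijective_smul_one x).comp hφ)
    let e₁ := (asIso (Groth.L17.ClosedPush.cHom f (Coh.structureModule X') x)).toLinearEquiv
    let e₃ : X.presheaf.stalk (f x) ≃ₗ[X.presheaf.stalk (f x)] (Coh.structureModule X).presheaf.stalk (f x) :=
      LinearEquiv.ofBijective (LinearMap.toSpanSingleton _ _ (Groth.L21.RR.one X (f x)))
        (Groth.L21.RR.bijective_smul_one (f x))
    exact e₁.length_eq.trans (e₂.length_eq.symm.trans e₃.length_eq)
  have h1 := Groth.L22.CurveDeg.phi_eq_of_len k hdim hE (Groth.L16.Exist.isCoh_pushforward f hO') hO hlen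
  rw [Groth.L22.CurveDeg.phi_push k f hf hE _ hO'.1, Groth.L22.CurveDeg.phi_structure,
    Groth.L22.CurveDeg.phi_structure] at h1
  exact h1

end Groth.Agent.S1666
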