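import Groth.Statements.S17979
import Groth.Agent.L05.Hensel.Gabber
import Mathlib.RingTheory.AdjoinRoot

set_option autoImplicit false
universe u
open Hensel

namespace Groth.Agent.S17979

/-- Let A be a local ring with residue field k and Q, R polynomials over A with Q monic. If the images
of Q and R in k[T] generate the unit ideal, then Q and R already generate the unit ideal of A[T]. -/
theorem result (A : Type u) [CommRing A] [IsLocalRing A]
    (Q R : Polynomial A) (hQ : Q.Monic)
    (h : IsCoprime (Polynomial.map (IsLocalRing.residue A) Q) (Polynomial.map (IsLocalRing.residue A) R)) :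
    IsCoprime Q R := by
  obtain ⟨a, b, hab⟩ := h
  obtain ⟨a', rfl⟩ := Polynomial.map_surjective _ IsLocalRing.residue_surjective a
  obtain ⟨b', rfl⟩ := Polynomial.map_surjective _ IsLocalRing.residue_surjective b
  let B := AdjoinRoot Q
  have : Module.Finite A B := hQ.finite_adjoinRoot
  have hJ := Groth.L05.map_le_jacobson_bot (C := B) (IsLocalRing.maximalIdeal_le_jacobson (⊥ : Ideal A))
  have hmem : AdjoinRoot.mk Q (b' * R) - 1 ∈ (IsLocalRing.maximalIdeal A).map (algebraMap A B) := by
    have h1 : AdjoinRoot.mk Q (b' * R) - 1 = AdjoinRoot.mk Q (a' * Q + b' * R - 1) := by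
      simp [AdjoinRoot.mk_self]
    rw [h1, ← AdjoinRoot.aeval_eq, Polynomial.aeval_eq_sum_range]
    refine Ideal.sum_mem _ fun i _ => ?_
    rw [Algebra.smul_def]
    refine Ideal.mul_mem_right _ _ (Ideal.mem_map_of_mem _ ?_)
    rw [← IsLocalRing.residue_eq_zero_iff, ← Polynomial.coeff_map]
    simp [hab]
  obtain ⟨c, hc⟩ := (Groth.L05.isUnit_of_sub_one_mem hJ hmem).exists_left_inv
  obtain ⟨c', rfl⟩ := AdjoinRoot.mk_surjective c
  rw [← map_mul, ← map_one (AdjoinRoot.mk Q), AdjoinRoot.mk_eq_mk] at hc
  obtain ⟨d, hd⟩ := hc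
  exact ⟨-d, c' * b', by linear_combination hd⟩

end Groth.Agent.S17979
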