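import Groth.Statements.S16253
import Groth.Agent.L07.LocalEmbed
import Groth.Agent.L15.OmegaCoh
import Groth.Agent.L15.FittSheaf
import Groth.Agent.L13.Fitting.Fibre
import Groth.Agent.L13.Fitting.LocFree
import Mathlib.AlgebraicGeometry.Morphisms.Smooth
import Mathlib.RingTheory.Smooth.StandardSmoothCotangent

set_option autoImplicit false
set_option linter.style.haveILetI false
set_option backward.isDefEq.respectTransparency.types false
set_option backward.isDefEq.respectTransparency false
universe u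
open CategoryTheory CategoryTheory.Limits AlgebraicGeometry TopologicalSpace
open SDiv

namespace Groth.Agent.S16253

/-- Let f : X ⟶ Y be locally of finite presentation and quasi-separated and p ≥ 0, and let J^p(X/Y) ⊆ X
be the closed subset cut out by the p-th Fitting ideal of the module of differentials Ω_{X/Y} (the
p-th Jacobian locus). Then a point x of X lies outside J^p(X/Y) if and only if x has an open
neighbourhood U admitting a closed immersion over Y into a Y-scheme U' which is smooth of relative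
dimension p over Y. (The published statement takes f of finite presentation and asks U' smooth over
Y with fibre dimension p at x; after shrinking U' this is smoothness of relative dimension p.
Quasi-separatedness of f is assumed because the module Ω_{X/Y} used here is defined for such f.) -/
theorem result
    {X Y : Scheme.{u}} (f : X ⟶ Y) [LocallyOfFinitePresentation f] [QuasiSeparated f] (p : ℕ) (x : ↥X) :
    x ∉ (Fitt.sheafIdeal (Omega.sheaf f) p).support ↔
      ∃ (U : X.Opens) (U' : Scheme.{u}) (i : (U : Scheme.{u}) ⟶ U') (g : U' ⟶ Y),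
        x ∈ U ∧ IsClosedImmersion i ∧ SmoothOfRelativeDimension p g ∧ i ≫ g = U.ι ≫ f := by
  classical
  have hcoh := Groth.L15.OmegaCoh.isCoh_omega f
  haveI := hcoh.1
  constructor
  · intro hx
    obtain ⟨V, hV, hxV, -⟩ := exists_isAffineOpen_mem_and_subset (x := f x) (U := ⊤) trivial
    obtain ⟨W, hW, hxW, hle⟩ := exists_isAffineOpen_mem_and_subset (x := x) (U := f ⁻¹ᵁ V) hxV
    have e : W ≤ f ⁻¹ᵁ V := fun y hy => hle hy
    rw [Groth.L15.FittSheaf.notMem_support_iff (Omega.sheaf f) hcoh.2 p (U := ⟨W, hW⟩) hxW] at hx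
    letI : Algebra Γ(Y, V) Γ(X, W) := (f.appLE V W e).hom.toAlgebra
    haveI : Algebra.FiniteType Γ(Y, V) Γ(X, W) :=
      RingHom.finiteType_algebraMap.mp (f.finiteType_appLE hV hW e)
    obtain ⟨es⟩ := Groth.L15.OmegaCoh.exists_sections_equiv f hW hV e
    rw [← Groth.L13.Fitting.ideal_congr es p] at hx
    haveI := (hW.primeIdealOf ⟨x, hxW⟩).2
    rw [Groth.L13.Fitting.not_le_iff_finrank] at hx
    obtain ⟨g, hg, D, _, _, hD, φ, hφ⟩ := Groth.L07.LocalEmbed.exists_standardSmooth _ p hx
    have hxg : x ∈ X.basicOpen g := by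
      have h : hW.primeIdealOf ⟨x, hxW⟩ ∈ hW.fromSpec ⁻¹ᵁ (X.basicOpen g) := by
        rw [hW.fromSpec_preimage_basicOpen]; exact hg
      have h' : hW.fromSpec (hW.primeIdealOf ⟨x, hxW⟩) ∈ X.basicOpen g := h
      rwa [hW.fromSpec_primeIdealOf] at h'
    haveI : IsLocalization.Away g Γ(X, X.basicOpen g) := hW.isLocalization_basicOpen g
    letI : Algebra Γ(X, W) Γ(X, X.basicOpen g) := (X.presheaf.map (homOfLE (X.basicOpen_le g)).op).hom.toAlgebra
    haveI : IsLocalization.Away g Γ(X, X.basicOpen g) := hW.isLocalization_basicOpen g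
    let θ : Localization.Away g ≃ₐ[Γ(X, W)] Γ(X, X.basicOpen g) := IsLocalization.algEquiv (Submonoid.powers g) _ _
    let φ' : D →+* Γ(X, X.basicOpen g) := θ.toAlgHom.toRingHom.comp φ.toRingHom
    have hφ' : Function.Surjective φ' := θ.surjective.comp hφ
    let hU := hW.basicOpen g
    let a : CommRingCat.of Γ(Y, V) ⟶ CommRingCat.of D := CommRingCat.ofHom (algebraMap Γ(Y, V) D)
    haveI : IsClosedImmersion (Spec.map (CommRingCat.ofHom φ')) := IsClosedImmersion.spec_of_surjective _ hφ'
    haveI : SmoothOfRelativeDimension p (Spec.map a) :=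
      (HasRingHomProperty.Spec_iff (P := @SmoothOfRelativeDimension p)).2
        (RingHom.locally_of RingHom.isStandardSmoothOfRelativeDimension_respectsIso _
          ((RingHom.isStandardSmoothOfRelativeDimension_algebraMap p).2 hD))
    haveI : SmoothOfRelativeDimension 0 hV.fromSpec := inferInstance
    refine ⟨X.basicOpen g, Spec (CommRingCat.of D), hU.isoSpec.hom ≫ Spec.map (CommRingCat.ofHom φ'),
      Spec.map a ≫ hV.fromSpec, hxg, inferInstance, inferInstanceAs (SmoothOfRelativeDimension (p + 0) _), ?_⟩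
    have hcomp : a ≫ CommRingCat.ofHom φ' = f.appLE V (X.basicOpen g) ((X.basicOpen_le g).trans e) := by
      ext c
      show θ (φ (algebraMap Γ(Y, V) D c)) = _
      rw [φ.commutes, IsScalarTower.algebraMap_apply Γ(Y, V) Γ(X, W) (Localization.Away g), θ.commutes]
      show (f.appLE V W e ≫ X.presheaf.map (homOfLE (X.basicOpen_le g)).op) c = _
      rw [Scheme.Hom.appLE_map]
    rw [Category.assoc, ← Spec.map_comp_assoc, hcomp, IsAffineOpen.SpecMap_appLE_fromSpec _ hV hU,
      IsAffineOpen.isoSpec_hom_fromSpec_assoc]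
  · rintro ⟨U, U', i, g, hxU, hi, hg, hcomp⟩
    haveI := hi
    obtain ⟨V, hV, W', hW', hxW', e', hstd⟩ :=
      SmoothOfRelativeDimension.exists_isStandardSmoothOfRelativeDimension (n := p) (f := g) (i ⟨x, hxU⟩)
    let W : X.Opens := U.ι ''ᵁ (i ⁻¹ᵁ W')
    have hW : IsAffineOpen W := (hW'.preimage i).image_of_isOpenImmersion U.ι
    have hxW : x ∈ W := ⟨⟨x, hxU⟩, hxW', rfl⟩
    have e : W ≤ f ⁻¹ᵁ V := by
      rintro _ ⟨y, hy, rfl⟩
      have h1 : g (i y) ∈ V := e' hy
      rwa [← Scheme.Hom.comp_apply, hcomp, Scheme.Hom.comp_apply] at h1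
    rw [Groth.L15.FittSheaf.notMem_support_iff (Omega.sheaf f) hcoh.2 p (U := ⟨W, hW⟩) hxW]
    letI : Algebra Γ(Y, V) Γ(U', W') := (g.appLE V W' e').hom.toAlgebra
    letI : Algebra Γ(Y, V) Γ(X, W) := (f.appLE V W e).hom.toAlgebra
    let r : Γ(U', W') ⟶ Γ(X, W) := i.app W' ≫ (U.ι.appIso (i ⁻¹ᵁ W')).inv
    letI : Algebra Γ(U', W') Γ(X, W) := r.hom.toAlgebra
    have hr : Function.Surjective (algebraMap Γ(U', W') Γ(X, W)) :=
      (ConcreteCategory.bijective_of_isIso (U.ι.appIso (i ⁻¹ᵁ W')).inv).2.comp (i.app_surjective W' hW')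
    haveI : IsScalarTower Γ(Y, V) Γ(U', W') Γ(X, W) := IsScalarTower.of_algebraMap_eq' (by
      show (f.appLE V W e).hom = ((g.appLE V W' e') ≫ i.app W' ≫ (U.ι.appIso (i ⁻¹ᵁ W')).inv).hom
      congr 1
      rw [← Category.assoc, Scheme.Hom.app_eq_appLE, Scheme.Hom.appLE_comp_appLE,
        Iso.eq_comp_inv, Scheme.Hom.appIso_hom', Scheme.Hom.appLE_comp_appLE]
      congr 1
      exact hcomp.symm)
    haveI := hW'.primeIdealOf ⟨_, hxW'⟩ |>.2
    haveI : Nontrivial Γ(U', W') := (hW'.primeIdealOf ⟨_, hxW'⟩).nontrivial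
    haveI hD : Algebra.IsStandardSmoothOfRelativeDimension p Γ(Y, V) Γ(U', W') := hstd
    haveI : Algebra.IsStandardSmooth Γ(Y, V) Γ(U', W') := hD.isStandardSmooth
    let b := Module.finBasisOfFinrankEq Γ(U', W') Ω[Γ(U', W')⁄Γ(Y, V)] (n := p)
      (Module.finrank_eq_of_rank_eq (Algebra.IsStandardSmoothOfRelativeDimension.rank_kaehlerDifferential p))
    haveI : Algebra.FiniteType Γ(Y, V) Γ(X, W) :=
      RingHom.finiteType_algebraMap.mp (f.finiteType_appLE hV hW e)
    obtain ⟨es⟩ := Groth.L15.OmegaCoh.exists_sections_equiv f hW hV e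
    rw [← Groth.L13.Fitting.ideal_congr es p]
    haveI := (hW.primeIdealOf ⟨x, hxW⟩).2
    rw [Groth.L13.Fitting.ideal_eq_top_of_gens
      (fun j => KaehlerDifferential.map Γ(Y, V) Γ(Y, V) Γ(U', W') Γ(X, W) (b j)) ?_ le_rfl]
    · exact fun h => (hW.primeIdealOf ⟨x, hxW⟩).2.ne_top (top_le_iff.1 h)
    rw [eq_top_iff]
    intro z _
    obtain ⟨y, rfl⟩ := KaehlerDifferential.map_surjective_of_surjective Γ(Y, V) Γ(Y, V) Γ(U', W') Γ(X, W) hr z
    have : y ∈ Submodule.span Γ(U', W') (Set.range b) := b.span_eq ▸ Submodule.mem_top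
    have h2 := Submodule.apply_mem_span_image_of_mem_span
      (KaehlerDifferential.map Γ(Y, V) Γ(Y, V) Γ(U', W') Γ(X, W)) this
    rw [← Set.range_comp] at h2
    exact Submodule.span_le_restrictScalars Γ(U', W') Γ(X, W) _ h2

end Groth.Agent.S16253
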