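import Groth.Agent.L18.NormalizationGeneric
import Groth.Statements.S2351
-- import your own Groth.Agent.* helpers here

set_option autoImplicit false
universe u
open CategoryTheory CategoryTheory.Limits AlgebraicGeometry
open EGA2

namespace Groth.Agent.S2351

/-- Let X be an integral scheme and X' → X its normalization (integral closure of X in its function
field). Then X' is integral with integrally closed local rings, the morphism X' → X is surjective,
maps the generic point to the generic point and induces a bijection between the residue fields of
the generic points. (The quasi-compactness/quasi-separatedness binders on Spec K(X) → X always hold;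
they are only needed to form Mathlib's relative normalization.) -/
theorem result (X : Scheme.{u}) [IsIntegral X]
    [QuasiCompact (X.fromSpecStalk (genericPoint X))] [QuasiSeparated (X.fromSpecStalk (genericPoint X))] :
    ∃ (_ : IsIntegral (Curv2.normalization X)), Pi1.IsNormalScheme (Curv2.normalization X) ∧ Surjective (Curv2.normalizationι X) ∧
      ∃ hgen : (Curv2.normalizationι X).base (genericPoint (Curv2.normalization X)) = genericPoint X,
        Function.Bijective ((Curv2.normalizationι X).residueFieldMap (genericPoint (Curv2.normalization X))).hom := by
  have hg : X.fromSpecStalk (genericPoint X) =
      Spec.map (CommRingCat.ofHom (RingHom.id X.functionField)) ≫ X.fromSpecStalk (genericPoint X) := by simp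
  haveI : IsIntegral (Spec (CommRingCat.of X.functionField)) := inferInstance
  haveI : IsIntegral (Curv2.normalization X) :=
    inferInstanceAs (IsIntegral (Scheme.Hom.normalization (X := Spec (CommRingCat.of X.functionField))
      (X.fromSpecStalk (genericPoint X))))
  exact ⟨inferInstance, Groth.L18.NormField.isNormalScheme (K := X.functionField) hg,
    Groth.L18.NormField.surjective_fromNormalization (K := X.functionField) hg,
    Groth.L18.NormField.fromNormalization_genericPoint (K := X.functionField) hg,
    Groth.L18.NormField.residueFieldMap_bijective hg⟩

end Groth.Agent.S2351
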