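import Groth.Statements.S2179
import Groth.Agent.L26.NumType.Basic

set_option autoImplicit false
open Finset
open Models Models.NumericalType

namespace Groth.Agent.S2179

/-- For a numerical type T, the map Z^n -> Z^n multiplying the i-th coordinate by w i induces a
well-defined injective homomorphism from Pic(T), the cokernel of (a i j / w i), to the cokernel of
the matrix a. -/
theorem result {n : ℕ} (T : Models.NumericalType n) :
    ∃ f : T.Pic →+ T.CokerA, Function.Injective f ∧
      ∀ x : Fin n → ℤ, f (Submodule.Quotient.mk x) = Submodule.Quotient.mk (fun i => T.w i * x i) := by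
  classical
  have hmat : ∀ v i, T.w i * T.picMatrix.mulVec v i = T.a.mulVec v i := by
    intro v i
    simp only [Matrix.mulVec, dotProduct, Models.NumericalType.picMatrix, Finset.mul_sum]
    exact Finset.sum_congr rfl fun j _ => by rw [← mul_assoc, Int.mul_ediv_cancel' (T.w_dvd i j)]
  let g : (Fin n → ℤ) →ₗ[ℤ] (Fin n → ℤ) := LinearMap.pi fun i => T.w i • LinearMap.proj i
  have hg : ∀ x, g x = fun i => T.w i * x i := fun x => by funext i; simp [g]
  have hle : LinearMap.range (Matrix.mulVecLin T.picMatrix) ≤
      (LinearMap.range (Matrix.mulVecLin T.a)).comap g := by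
    rintro x ⟨v, rfl⟩
    refine ⟨v, ?_⟩
    rw [hg]; funext i
    simp [hmat]
  refine ⟨(Submodule.mapQ _ _ g hle).toAddMonoidHom, ?_, fun x => ?_⟩
  · rw [injective_iff_map_eq_zero]
    intro y hy
    obtain ⟨x, rfl⟩ := Submodule.Quotient.mk_surjective _ y
    simp only [LinearMap.toAddMonoidHom_coe, Submodule.mapQ_apply, Submodule.Quotient.mk_eq_zero] at hy
    obtain ⟨v, hv⟩ := hy
    rw [Submodule.Quotient.mk_eq_zero]
    refine ⟨v, funext fun i => mul_left_cancel₀ (T.w_pos i).ne' ?_⟩
    have := congrFun hv i
    rw [hg] at this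
    simp only [Matrix.mulVecLin_apply] at this ⊢
    rw [hmat, this]
  · simp [hg]

end Groth.Agent.S2179
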