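import Groth.Statements.S2156
import Groth.Agent.L19.SmoothLocus
-- import your own Groth.Agent.* helpers here

set_option autoImplicit false
universe u
open CategoryTheory AlgebraicGeometry
open Mor

namespace Groth.Agent.S2156

/-- Let `f : X → S` be locally of finite presentation and `x ∈ X` with image `s`. Then `f` is smooth at
`x` if and only if `O_{S,s} → O_{X,x}` is flat and the fibre `X_s → Spec κ(s)` is smooth at the
point corresponding to `x`. -/
theorem result {X S : Scheme.{u}} (f : X ⟶ S) [LocallyOfFinitePresentation f] (x : X)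
    [LocallyOfFinitePresentation (f.fiberToSpecResidueField (f.base x))] :
    x ∈ f.smoothLocus ↔
      (f.stalkMap x).hom.Flat ∧ f.asFiber x ∈ (f.fiberToSpecResidueField (f.base x)).smoothLocus := by
  rw [Groth.L19.SmoothLocus.mem_iff_nhd, Groth.L19.SmoothLocus.mem_iff_nhd]
  refine ⟨fun h => ⟨Groth.L05.Point.flat_of_nhd_smooth f h,
    Groth.L19.SmoothLocus.fiber_smooth_of_nhd f (f.base x) (w := f.asFiber x)
      ((f.fiberι_asFiber x).symm ▸ h)⟩, fun h => ?_⟩
  exact Groth.L05.Point.nhd_smooth_of_fiber f x h.1 h.2

end Groth.Agent.S2156
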