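import Groth.Statements.S2083
import Groth.Agent.L04.CMBasic

set_option autoImplicit false
universe u
open CAlg

namespace Groth.Agent.S2083

/-- Let `R` be a Noetherian local ring, `M` a finite Cohen–Macaulay `R`-module and `g` a member of the
maximal ideal for which the support of `M/gM` has dimension exactly one less than that of `M`. Then
`g` is a nonzerodivisor on `M`, and the quotient `M/gM` is again Cohen–Macaulay, with depth one
smaller than that of `M`. -/
theorem result {R M : Type u} [CommRing R] [IsLocalRing R] [IsNoetherianRing R]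
    [AddCommGroup M] [Module R M] [Module.Finite R M] (hM : LocCoh.IsCohenMacaulayModule R M) (g : R)
    (hg : g ∈ IsLocalRing.maximalIdeal R)
    (hdim : Module.supportDim R (M ⧸ Ideal.span {g} • (⊤ : Submodule R M)) + 1 = Module.supportDim R M) :
    IsSMulRegular M g ∧ LocCoh.IsCohenMacaulayModule R (M ⧸ Ideal.span {g} • (⊤ : Submodule R M)) ∧
      LocCoh.depth R (M ⧸ Ideal.span {g} • (⊤ : Submodule R M)) + 1 = LocCoh.depth R M := by
  have hreg : IsSMulRegular M g := by
    by_contra hnot
    haveI := Groth.L04.nontrivial_of_isCohenMacaulayModule hM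
    rw [isSMulRegular_iff_right_eq_zero_of_smul] at hnot
    push Not at hnot
    obtain ⟨z, hz, hz0⟩ := hnot
    obtain ⟨P, hP, hPz⟩ := exists_le_isAssociatedPrime_of_isNoetherianRing R z hz0
    have hgP : g ∈ P := hPz (Submodule.mem_colon_singleton.2 (by simp [hz]))
    have hle : Module.supportDim R (R ⧸ P) ≤
        Module.supportDim R (M ⧸ Ideal.span {g} • (⊤ : Submodule R M)) := by
      refine Order.krullDim_le_of_strictMono (Set.inclusion ?_) fun _ _ h => h
      intro x hx
      rw [Module.support_eq_zeroLocus, Ideal.annihilator_quotient, PrimeSpectrum.mem_zeroLocus] at hx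
      rw [Module.support_quotient]
      refine ⟨Module.mem_support_mono (p := ⟨P, hP.isPrime⟩) hx ?_, ?_⟩
      · exact (Module.mem_support_iff_of_finite (p := ⟨P, hP.isPrime⟩)).2
          (Submodule.annihilator_top.ge.trans (IsAssociatedPrime.annihilator_le hP))
      · rw [PrimeSpectrum.mem_zeroLocus]
        exact fun a ha => hx ((Ideal.span_singleton_le_iff_mem _).2 hgP ha)
    rw [Module.supportDim_quotient_eq_ringKrullDim,
      Groth.L04.ringKrullDim_quotient_eq_supportDim_of_isCM hM hP] at hle
    have h1 := (add_le_add hle (le_refl (1 : WithBot ℕ∞))).trans hdim.le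
    obtain ⟨d, hd⟩ := WithBot.ne_bot_iff_exists.1 (Module.supportDim_ne_bot_of_nontrivial R M)
    rw [← hd] at h1
    have hfin : d ≠ ⊤ := by
      rintro rfl
      have hlt : ringKrullDim R < ⊤ := ringKrullDim_lt_top
      have := (Module.supportDim_le_ringKrullDim R M).trans_lt hlt
      rw [← hd] at this
      exact lt_irrefl _ this
    obtain ⟨d, rfl⟩ := ENat.ne_top_iff_exists.1 hfin
    have h2 : d + 1 ≤ d := by exact_mod_cast h1
    omega
  haveI := Groth.L04.nontrivial_of_isCohenMacaulayModule hM
  have hw : RingTheory.Sequence.IsWeaklyRegular M [g] :=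
    (RingTheory.Sequence.isWeaklyRegular_singleton_iff M g).2 hreg
  have hm : ∀ r ∈ [g], r ∈ IsLocalRing.maximalIdeal R := by simpa using hg
  rw [← Ideal.ofList_singleton]
  refine ⟨hreg, Groth.L04.isCohenMacaulayModule_quotient_ofList hM hw hm, ?_⟩
  simpa using Groth.L04.depth_quotient_ofList_add hw hm

end Groth.Agent.S2083
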