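import Groth.Statements.S2082
import Groth.Agent.L13.Wild.Kunz
import Groth.Agent.L06.CMSequences
import Groth.Agent.L04.CMLoc

set_option autoImplicit false
universe u
open CAlg

namespace Groth.Agent.S2082

/-- Take a local homomorphism `R → S` between Noetherian local rings, where `R` is regular, `S` is
Cohen–Macaulay, and `dim S = dim R + dim (S/𝔪_R S)`. Then `S` is flat over `R`. -/
theorem result {R S : Type u} [CommRing R] [CommRing S] [IsRegularLocalRing R]
    [LocCoh.IsCohenMacaulayLocalRing S] [Algebra R S] [IsLocalHom (algebraMap R S)]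
    (hdim : ringKrullDim S = ringKrullDim R +
      ringKrullDim (S ⧸ (IsLocalRing.maximalIdeal R).map (algebraMap R S))) :
    Module.Flat R S := by
  classical
  haveI := Groth.L04.isCohenMacaulayLocalRing_of_regular R
  obtain ⟨s, hcard, hs⟩ :=
    Submodule.FG.exists_span_finset_card_eq_spanFinrank (IsNoetherian.noetherian (IsLocalRing.maximalIdeal R))
  let rs := s.toList
  have hgen : Ideal.ofList rs = IsLocalRing.maximalIdeal R := by
    rw [← hs]
    show Ideal.span {r | r ∈ s.toList} = Ideal.span ↑s
    congr 1
    ext r
    simp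
  have hl : (rs.length : WithBot ℕ∞) = ringKrullDim R := by
    rw [Finset.length_toList, hcard]
    exact (isRegularLocalRing_iff R).mp inferInstance
  have hmem : ∀ x ∈ rs, x ∈ IsLocalRing.maximalIdeal R := fun x hx => hgen ▸ Ideal.subset_span hx
  have hR : RingTheory.Sequence.IsWeaklyRegular R rs := by
    refine Groth.L06.CMSequences.regular_of_dim rs R LocCoh.IsCohenMacaulayLocalRing.supportDim_eq_depth hmem ?_
    have hid : (Ideal.ofList rs • (⊤ : Submodule R R)) = IsLocalRing.maximalIdeal R := by
      rw [smul_eq_mul, Ideal.mul_top, hgen]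
    rw [Module.supportDim_eq_of_equiv (Submodule.quotEquivOfEq _ _ hid), Module.supportDim_quotient_eq_ringKrullDim,
      Module.supportDim_self_eq_ringKrullDim, ← hl, ringKrullDim_eq_zero_of_isField
        ((Ideal.Quotient.maximal_ideal_iff_isField_quotient _).mp (IsLocalRing.maximalIdeal.isMaximal R)), zero_add]
  have hS : RingTheory.Sequence.IsWeaklyRegular S (rs.map (algebraMap R S)) := by
    refine Groth.L06.CMSequences.regular_of_dim _ S LocCoh.IsCohenMacaulayLocalRing.supportDim_eq_depth ?_ ?_
    · intro y hy
      obtain ⟨x, hx, rfl⟩ := List.mem_map.mp hy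
      exact map_nonunit (algebraMap R S) x (hmem x hx)
    · have hid : (Ideal.ofList (rs.map (algebraMap R S)) • (⊤ : Submodule S S)) =
          (IsLocalRing.maximalIdeal R).map (algebraMap R S) := by
        rw [smul_eq_mul, Ideal.mul_top, ← Ideal.map_ofList, hgen]
      rw [Module.supportDim_eq_of_equiv (Submodule.quotEquivOfEq _ _ hid), Module.supportDim_quotient_eq_ringKrullDim,
        Module.supportDim_self_eq_ringKrullDim, List.length_map, hdim, ← hl, add_comm]
  exact Groth.L13.Wild.Kunz.flat_of_isWeaklyRegular rs.length R S rs rfl hgen hR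
    ((RingTheory.Sequence.isWeaklyRegular_map_algebraMap_iff (R := R) (S := S) S rs).mp hS)

end Groth.Agent.S2082
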