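import Groth.Statements.S7140
import Mathlib.RingTheory.Polynomial.Cyclotomic.Roots
import Mathlib.RingTheory.RootsOfUnity.Lemmas
import Mathlib.RingTheory.AdjoinRoot
import Mathlib.Algebra.MvPolynomial.CommRing
import Mathlib.NumberTheory.Wilson
import Mathlib.Data.Nat.Choose.Dvd
import Mathlib.RingTheory.Polynomial.Basic

set_option autoImplicit false
universe u
open EtAlg

namespace Groth.Agent.S7140

open Polynomial in
/-- Let p be a prime and A a ring with an element ζ satisfying 1 + ζ + ... + ζ^(p-1) = 0 (so that A is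
an algebra over the ring of integers of the p-th cyclotomic field); set w = 1 - ζ. Then the
polynomial ((1 + wz)^p - 1)/w^p makes sense in A[z]: there is P in A[z] with w^p·P = (1 + wz)^p - 1,
of the form z^p - z + Σ_{0<i<p} a_i z^i with all a_i in the ideal (w), and P(z₁ + z₂ + w z₁ z₂) =
P(z₁) + P(z₂) + w^p P(z₁)P(z₂) for all z₁, z₂ in any A-algebra. (The published statement asks only
for a primitive p-th root of unity; this row asks that ζ be a root of the p-th cyclotomic
polynomial, the case its proof treats. With ζ only of multiplicative order p the published statement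
fails, for example for ζ = (1, e^{2πi/p}) in ℂ × ℂ.) -/
theorem result (p : ℕ) (hp : p.Prime) (A : Type u) [CommRing A] (ζ : A)
    (hζ : aeval ζ (cyclotomic p ℤ) = 0) :
    ∃ P : A[X], C ((1 - ζ) ^ p) * P = (1 + C (1 - ζ) * X) ^ p - 1 ∧
      (∃ a : ℕ → A, (∀ i, a i ∈ Ideal.span {1 - ζ}) ∧
        P = X ^ p - X + (Finset.Ioo 0 p).sum (fun i => C (a i) * X ^ i)) ∧
      ∀ (S : Type u) [CommRing S] [Algebra A S] (z₁ z₂ : S),
        aeval (z₁ + z₂ + algebraMap A S (1 - ζ) * z₁ * z₂) P =
          aeval z₁ P + aeval z₂ P + algebraMap A S ((1 - ζ) ^ p) * aeval z₁ P * aeval z₂ P := by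
  classical
  obtain ⟨n, rfl⟩ : ∃ n, p = n + 1 := ⟨p - 1, by have := hp.two_le; omega⟩
  let R := AdjoinRoot (cyclotomic (n + 1) ℤ)
  haveI : IsDomain R := AdjoinRoot.isDomain_of_prime (cyclotomic.irreducible hp.pos).prime
  have hinj : Function.Injective (AdjoinRoot.of (cyclotomic (n + 1) ℤ)) :=
    AdjoinRoot.of.injective_of_degree_ne_zero (degree_cyclotomic_pos _ ℤ hp.pos).ne'
  haveI : CharZero R := charZero_of_injective_ringHom hinj
  let μ : R := AdjoinRoot.root _
  have hμ : IsPrimitiveRoot μ (n + 1) := (isRoot_cyclotomic_iff_charZero hp.pos).mp (by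
    have h := map_cyclotomic_int (n + 1) R
    rw [← h, IsRoot, eval_map, Subsingleton.elim (Int.castRingHom R) (AdjoinRoot.of _)]
    exact AdjoinRoot.eval₂_root _)
  let w : R := 1 - μ
  have hw : w ≠ 0 := sub_ne_zero.mpr (fun h => hμ.ne_one hp.one_lt h.symm)
  -- `p = w ^ n * u` with `u = -1 + w * d`
  obtain ⟨u, d, hu, hud⟩ : ∃ u d : R, ((n + 1 : ℕ) : R) = w ^ n * u ∧ u = -1 + w * d := by
    let q := Ideal.Quotient.mk (Ideal.span {w})
    have h1 := IsPrimitiveRoot.prod_one_sub_pow_eq_order hμ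
    have h2 : ∀ k : ℕ, 1 - μ ^ (k + 1) = w * ∑ i ∈ Finset.range (k + 1), μ ^ i := fun k =>
      (mul_neg_geom_sum μ (k + 1)).symm
    simp only [h2, Finset.prod_mul_distrib, Finset.prod_const, Finset.card_range] at h1
    let u : R := ∏ k ∈ Finset.range n, ∑ i ∈ Finset.range (k + 1), μ ^ i
    have hu : ((n + 1 : ℕ) : R) = w ^ n * u := by rw [h1]; push_cast; rfl
    have hqμ : q μ = 1 := by
      have h3 : q (1 - μ) = 0 := Ideal.Quotient.eq_zero_iff_mem.mpr (Ideal.mem_span_singleton_self w)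
      rw [map_sub, map_one, sub_eq_zero] at h3
      exact h3.symm
    have hqu : q u = (Nat.factorial n : ℕ) := by
      show q (∏ k ∈ Finset.range n, ∑ i ∈ Finset.range (k + 1), μ ^ i) = _
      rw [map_prod, ← Finset.prod_range_add_one_eq_factorial, Nat.cast_prod]
      refine Finset.prod_congr rfl fun k _ => ?_
      simp [map_sum, map_pow, hqμ]
    have hqp : q ((n + 1 : ℕ) : R) = 0 := by
      rw [hu, map_mul, map_pow, show q w = 0 from
        Ideal.Quotient.eq_zero_iff_mem.mpr (Ideal.mem_span_singleton_self w),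
        zero_pow (by have := hp.two_le; omega), zero_mul]
    haveI := Fact.mk hp
    have hwil : ((Nat.factorial n + 1 : ℕ) : ZMod (n + 1)) = 0 := by
      rw [Nat.cast_add, Nat.cast_one]
      have := ZMod.wilsons_lemma (n + 1)
      simp only [Nat.add_sub_cancel] at this
      rw [this, neg_add_cancel]
    obtain ⟨m, hm⟩ := (ZMod.natCast_eq_zero_iff _ _).mp hwil
    have hq1 : q (u + 1) = 0 := by
      rw [map_add, hqu, map_one,
        show ((Nat.factorial n : ℕ) : R ⧸ Ideal.span {w}) + 1 = ((Nat.factorial n + 1 : ℕ) : R ⧸ Ideal.span {w})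
          from (Nat.cast_succ _).symm, hm, Nat.cast_mul, ← map_natCast q (n + 1), hqp, zero_mul]
    obtain ⟨d, hd⟩ := Ideal.mem_span_singleton'.mp (Ideal.Quotient.eq_zero_iff_mem.mp hq1)
    exact ⟨u, d, hu, by linear_combination -hd⟩
  -- the coefficients
  have hchoose : ∀ i, ∃ c : ℕ, i ∈ Finset.Ioo 0 (n + 1) → Nat.choose (n + 1) i = (n + 1) * c := by
    intro i
    by_cases hi : i ∈ Finset.Ioo 0 (n + 1)
    · rw [Finset.mem_Ioo] at hi
      obtain ⟨c, hc⟩ := Nat.Prime.dvd_choose_self hp hi.1.ne' hi.2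
      exact ⟨c, fun _ => hc⟩
    · exact ⟨0, fun h => absurd h hi⟩
  choose c hc using hchoose
  let b : ℕ → R := fun i => (c i : R) * u * w ^ (i - 1)
  let a : ℕ → R := fun i => if i = 1 then w * d else if i ∈ Finset.Ioo 0 (n + 1) then b i else 0
  let P : R[X] := X ^ (n + 1) - X + ∑ i ∈ Finset.Ioo 0 (n + 1), C (a i) * X ^ i
  have hone : 1 ∈ Finset.Ioo 0 (n + 1) := Finset.mem_Ioo.mpr ⟨zero_lt_one, hp.one_lt⟩
  have hb1 : b 1 = u := by
    have h := hc 1 hone
    rw [Nat.choose_one_right] at h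
    have : c 1 = 1 := Nat.eq_of_mul_eq_mul_left hp.pos (h.symm.trans (mul_one _).symm)
    simp [b, this]
  have hP : P = X ^ (n + 1) + ∑ i ∈ Finset.Ioo 0 (n + 1), C (b i) * X ^ i := by
    simp only [P]
    rw [← Finset.add_sum_erase _ _ hone, ← Finset.add_sum_erase _ (fun i => C (b i) * X ^ i) hone]
    have : ∑ i ∈ (Finset.Ioo 0 (n + 1)).erase 1, C (a i) * X ^ i =
        ∑ i ∈ (Finset.Ioo 0 (n + 1)).erase 1, C (b i) * X ^ i := by
      refine Finset.sum_congr rfl fun i hi => ?_
      rw [Finset.mem_erase] at hi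
      simp only [a, if_neg hi.1, if_pos hi.2]
    rw [this, hb1, hud]
    simp only [a, if_pos rfl, map_add, map_neg, map_one, pow_one]
    ring
  have hPmul : C (w ^ (n + 1)) * P = (1 + C w * X) ^ (n + 1) - 1 := by
    have h1 : (1 + C w * X : R[X]) ^ (n + 1) =
        1 + C (w ^ (n + 1)) * X ^ (n + 1) +
          ∑ i ∈ Finset.Ioo 0 (n + 1), C ((Nat.choose (n + 1) i : R) * w ^ i) * X ^ i := by
      have h0 : Finset.range (n + 1 + 1) = insert 0 (insert (n + 1) (Finset.Ioo 0 (n + 1))) := by
        ext i; simp only [Finset.mem_range, Finset.mem_insert, Finset.mem_Ioo]; omega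
      rw [add_comm (1 : R[X]), add_pow, h0, Finset.sum_insert (by simp), Finset.sum_insert (by simp),
        ← add_assoc]
      congr 1
      · simp [mul_pow]
      · refine Finset.sum_congr rfl fun i _ => ?_
        rw [one_pow, mul_one, mul_pow, C_mul, C_pow, C_eq_natCast]
        ring
    rw [h1, hP, mul_add, Finset.mul_sum, add_comm (1 : R[X]), add_assoc, add_comm (1 : R[X]),
      add_sub_assoc, add_sub_cancel_right]
    congr 1
    refine Finset.sum_congr rfl fun i hi => ?_
    rw [← mul_assoc, ← C_mul]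
    congr 2
    obtain ⟨j, rfl⟩ : ∃ j, i = j + 1 := ⟨i - 1, by have := (Finset.mem_Ioo.mp hi).1; omega⟩
    rw [hc _ hi, Nat.cast_mul, hu]
    simp only [b, Nat.add_sub_cancel]
    ring
  -- transfer to `A`
  let φ : R →+* A := AdjoinRoot.lift (Int.castRingHom A) ζ (by rwa [aeval_def, algebraMap_int_eq] at hζ)
  have hφ : φ w = 1 - ζ := by
    simp only [φ, w, μ, map_sub, map_one]
    rw [AdjoinRoot.lift_root]
  refine ⟨P.map φ, ?_, ⟨fun i => φ (a i), fun i => ?_, ?_⟩, ?_⟩
  · have := congrArg (Polynomial.map φ) hPmul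
    simpa [Polynomial.map_mul, Polynomial.map_sub, Polynomial.map_pow, hφ] using this
  · rw [← hφ, Ideal.mem_span_singleton]
    refine map_dvd φ ?_
    simp only [a]
    split_ifs with h1 h2
    · exact dvd_mul_right _ _
    · exact dvd_mul_of_dvd_right (dvd_pow_self _ (by rw [Finset.mem_Ioo] at h2; omega)) _
    · exact dvd_zero _
  · simp [P, Polynomial.map_sum]
  · intro S _ _ z₁ z₂
    let Z : Fin 2 → (MvPolynomial (Fin 2) R) := MvPolynomial.X
    let W : (MvPolynomial (Fin 2) R) := MvPolynomial.C w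
    have hW : W ^ (n + 1) ≠ 0 := pow_ne_zero _ ((map_ne_zero_iff _ (MvPolynomial.C_injective _ _)).mpr hw)
    have hmul : ∀ z : (MvPolynomial (Fin 2) R), W ^ (n + 1) * aeval z P = (1 + W * z) ^ (n + 1) - 1 := fun z => by
      have := congrArg (aeval (R := R) z) hPmul
      simpa [W, MvPolynomial.algebraMap_eq] using this
    have key : aeval (Z 0 + Z 1 + W * Z 0 * Z 1) P =
        aeval (Z 0) P + aeval (Z 1) P + W ^ (n + 1) * aeval (Z 0) P * aeval (Z 1) P := by
      refine mul_left_cancel₀ hW ?_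
      have e0 := hmul (Z 0)
      have e1 := hmul (Z 1)
      have hprod : (1 + W * (Z 0 + Z 1 + W * Z 0 * Z 1)) ^ (n + 1) =
          (1 + W * Z 0) ^ (n + 1) * (1 + W * Z 1) ^ (n + 1) := by
        rw [← mul_pow]; ring_nf
      rw [hmul, hprod]
      linear_combination (-(1 + W * Z 1) ^ (n + 1)) * e0 - (1 + W ^ (n + 1) * aeval (Z 0) P) * e1
    letI : Algebra R S := ((algebraMap A S).comp φ).toAlgebra
    have hP' : ∀ z : S, aeval z (P.map φ) = aeval z P := fun z => by
      rw [aeval_def, eval₂_map, aeval_def]; rfl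
    have := congrArg (MvPolynomial.aeval (R := R) (![z₁, z₂] : Fin 2 → S)) key
    simp only [map_add, map_mul, map_pow, Z, W, MvPolynomial.aeval_X, MvPolynomial.aeval_C,
      ← Polynomial.aeval_algHom_apply] at this
    simp only [hP', ← hφ, map_pow]
    simpa [RingHom.algebraMap_toAlgebra] using this

end Groth.Agent.S7140
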