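import Groth.Statements.S0387
import Groth.Agent.L20.FlatLocusOpen

set_option autoImplicit false
universe u
open FlatMor

namespace Groth.Agent.S0387

/-- Openness of the flat locus, algebra form: for a ring map of finite presentation and a finitely
presented module over the target, the primes at which the localized module is flat over the base
ring form an open subset of the spectrum. -/
theorem result {R S M : Type u} [CommRing R] [CommRing S] [Algebra R S] [Algebra.FinitePresentation R S] [AddCommGroup M] [Module S M] [Module R M] [IsScalarTower R S M] [Module.FinitePresentation S M] :
    IsOpen {q : PrimeSpectrum S | Module.Flat R (LocalizedModule q.asIdeal.primeCompl M)} := by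
  exact Groth.L20.isOpen_flatLocus

end Groth.Agent.S0387
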