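import Groth.Statements.S7300
import Groth.Agent.L05.H1Tors.Main

set_option autoImplicit false
universe u
open CategoryTheory CategoryTheory.Limits AlgebraicGeometry
open Resolve

namespace Groth.Agent.S7300
set_option backward.isDefEq.respectTransparency false
set_option backward.isDefEq.respectTransparency.types false
set_option backward.isDefEq.respectTransparency false
set_option backward.isDefEq.respectTransparency.types false
set_option linter.style.haveILetI false

/-- Let (A, m) be a local normal Nagata domain of dimension two and a ∈ A nonzero. There is an integer N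
such that for every proper morphism X → Spec A from an integral normal scheme which is an
isomorphism over some nonempty open (a normal modification), the A-module of a-torsion elements of
H^1(X, O_X) has length at most N. (The published statement bounds the length of the cokernel of A →
H^0(Z, O_Z), where Z ⊂ X is the closed subscheme cut out by a; this row bounds the a-torsion of
H^1(X, O_X), which is the same module by the exact sequence 0 → O_X → O_X → O_Z → 0 given by
multiplication by a and H^0(X, O_X) = A.) -/
theorem result (A : Type u) [CommRing A] [IsDomain A] [IsLocalRing A] [IsNoetherianRing A]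
    [IsIntegrallyClosed A] (hN : CAlg.IsNagata A) (hdim : ringKrullDim A = 2) (a : A) (ha : a ≠ 0) :
    ∃ N : ℕ, ∀ (X : Scheme.{u}) [X.Over (Spec (CommRingCat.of A))], IsProper (X ↘ Spec (CommRingCat.of A)) →
      IsIntegral X → Pi1.IsNormalScheme X →
      (∃ U : (Spec (CommRingCat.of A)).Opens, (U : Set (Spec (CommRingCat.of A))).Nonempty ∧ IsIso ((X ↘ Spec (CommRingCat.of A)) ∣_ U)) →
      Module.length A ↥(Submodule.torsionBy A (Coh.HH X (Coh.structureModule X) 1) a) ≤ (N : ℕ∞) := by
  classical
  haveI : ∀ p : ↥(Groth.L05.H1Tors.Pr a), (p : Ideal A).IsPrime := fun p => p.2.1.1.1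
  have D : ∀ p : ↥(Groth.L05.H1Tors.Pr a), Groth.L05.H1Tors.Datum a (p : Ideal A) := fun p =>
    (Groth.L05.H1Tors.exists_datum hN hdim ha _ p.2).some
  have hne := Groth.L05.H1Tors.length_ne_top hdim ha (fun p => ((D p).s₀ * (D p).c) ^ (D p).e) fun p h => by
    rcases p.2.1.1.1.mem_or_mem (p.2.1.1.1.mem_of_pow_mem _ h) with h | h
    · exact (D p).s₀_notMem h
    · exact (D p).c_notMem h
  obtain ⟨N, hN'⟩ := ENat.ne_top_iff_exists.1 hne
  refine ⟨N, fun X _ hp hi hn hbir => ?_⟩
  haveI := hp
  haveI := hi
  exact (Groth.L05.H1Tors.length_torsionBy_le hdim hn hbir ha D).trans hN'.ge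

end Groth.Agent.S7300
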