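import Groth.Statements.S7328
import Groth.Agent.L05.SepUp.Algebra
import Groth.Agent.L05.SepUp.Cover
import Groth.Agent.L05.SepUp.Push
import Groth.Agent.S7300
import Groth.Agent.S7338
import Groth.Agent.L17.PushQCoh

set_option autoImplicit false
universe u
open CategoryTheory CategoryTheory.Limits AlgebraicGeometry
open Resolve

namespace Groth.Agent.S7328
set_option backward.isDefEq.respectTransparency false
set_option backward.isDefEq.respectTransparency.types false
set_option maxHeartbeats 1000000
set_option backward.isDefEq.respectTransparency false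
set_option backward.isDefEq.respectTransparency.types false
set_option linter.style.haveILetI false

/-- Suppose A and B are two-dimensional local normal Nagata domains and A → B is an injective, finite,
local ring map for which the fraction field of B is separable over that of A. If A admits reduction
to rational singularities (the lengths of the A-modules H^1(X, O_X), over all proper morphisms X →
Spec A from an integral normal scheme which are an isomorphism over a nonempty open, are bounded),
then B admits it as well (the same lengths for B are bounded). The fraction field of B is given an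
algebra structure over that of A compatible with A → B. -/
theorem result (A B : Type u) [CommRing A] [CommRing B] [IsDomain A] [IsDomain B]
    [IsLocalRing A] [IsLocalRing B] [IsNoetherianRing A] [IsNoetherianRing B] [IsIntegrallyClosed A] [IsIntegrallyClosed B]
    (hNA : CAlg.IsNagata A) (hNB : CAlg.IsNagata B) (hdA : ringKrullDim A = 2) (hdB : ringKrullDim B = 2)
    [Algebra A B] [Module.Finite A B] (hinj : Function.Injective (algebraMap A B)) [IsLocalHom (algebraMap A B)]
    [Algebra (FractionRing A) (FractionRing B)]
    (hcompat : ∀ a : A, algebraMap (FractionRing A) (FractionRing B) (algebraMap A (FractionRing A) a) =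
      algebraMap B (FractionRing B) (algebraMap A B a))
    [Algebra.IsSeparable (FractionRing A) (FractionRing B)]
    (hA : (∃ N : ℕ, ∀ (X : Scheme.{u}) [X.Over (Spec (CommRingCat.of A))], IsProper (X ↘ Spec (CommRingCat.of A)) →
        IsIntegral X → Pi1.IsNormalScheme X →
        (∃ U : (Spec (CommRingCat.of A)).Opens, (U : Set (Spec (CommRingCat.of A))).Nonempty ∧ IsIso ((X ↘ Spec (CommRingCat.of A)) ∣_ U)) →
        Module.length A (Coh.HH X (Coh.structureModule X) 1) ≤ (N : ℕ∞))) :
    (∃ N : ℕ, ∀ (X : Scheme.{u}) [X.Over (Spec (CommRingCat.of B))], IsProper (X ↘ Spec (CommRingCat.of B)) →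
        IsIntegral X → Pi1.IsNormalScheme X →
        (∃ U : (Spec (CommRingCat.of B)).Opens, (U : Set (Spec (CommRingCat.of B))).Nonempty ∧ IsIso ((X ↘ Spec (CommRingCat.of B)) ∣_ U)) →
        Module.length B (Coh.HH X (Coh.structureModule X) 1) ≤ (N : ℕ∞)) := by
  classical
  obtain ⟨NA, hNA'⟩ := hA
  haveI : IsScalarTower A (FractionRing A) (FractionRing B) := IsScalarTower.of_algebraMap_eq fun a => by
    rw [hcompat]; exact IsScalarTower.algebraMap_apply A B (FractionRing B) a
  haveI : FiniteDimensional (FractionRing A) (FractionRing B) :=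
    Groth.L05.SepUp.finiteDimensional A B (FractionRing A) (FractionRing B) hinj
  obtain ⟨m, b, c, d, hd, hdual⟩ := Groth.L05.SepUp.exists_dual A B (FractionRing A) (FractionRing B)
  have hd' : algebraMap A B d ≠ 0 := fun h => hd (hinj (h.trans (map_zero _).symm))
  obtain ⟨Nd, hNd⟩ := Groth.Agent.S7300.result B hNB hdB (algebraMap A B d) hd'
  obtain ⟨r, hr⟩ := Groth.L05.SepUp.exists_factor A B
  refine ⟨Nd * r + m * NA, fun Y oY hYp hYi hYn hYb => ?_⟩
  haveI := hYp; haveI := hYi
  obtain ⟨X, f, hXi, hf, hXn, hfb, Z, π, g', hZi, hπ, hg', hZn, hg'b, hsq, hgen, h, hh⟩ :=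
    Groth.L05.SepUp.exists_cover_dominate hNA hNB hdA hdB hinj (Y ↘ Spec (CommRingCat.of B)) hYn hYb
  haveI := hXi; haveI := hf; haveI := hZi; haveI := hπ; haveI := hg'
  letI oZ : Z.Over (Spec (CommRingCat.of B)) := ⟨g'⟩
  letI oX : X.Over (Spec (CommRingCat.of A)) := ⟨f⟩
  letI oZA : Z.Over (Spec (CommRingCat.of A)) := ⟨g' ≫ Spec.map (CommRingCat.ofHom (algebraMap A B))⟩
  haveI : IsProper (Z ↘ Spec (CommRingCat.of B)) := hg'
  haveI : IsLocallyNoetherian Z := LocallyOfFiniteType.isLocallyNoetherian g'
  haveI : X.IsSeparated := ⟨by
    rw [← terminal.comp_from f]; infer_instance⟩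
  haveI := Groth.L17.PushQCoh.hasInjectiveResolutions Z
  obtain ⟨-, -, -, hlen⟩ := Groth.Agent.S7338.result B hdB Y Z hYb hg'b hYn h hh
  refine le_trans (by rw [hlen]; exact le_self_add) (?_ : Module.length B (Coh.HH Z (Coh.structureModule Z) 1) ≤ _)
  have hact : ∀ (a : A) (x : Coh.HH Z (Coh.structureModule Z) 1), algebraMap A B a • x = a • x := fun a x => by
    refine congrArg (fun t : Coh.Γtop Z => t • x) ?_
    exact congrArg g'.appTop congr($(Scheme.ΓSpecIso_inv_naturality (CommRingCat.ofHom (algebraMap A B))) a)
  haveI : IsScalarTower A B (Coh.HH Z (Coh.structureModule Z) 1) := ⟨fun a b' x => by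
    rw [Algebra.smul_def, mul_smul, hact]⟩
  refine le_trans ((Submodule.length_le_length_restrictScalars A (⊤ : Submodule B (Coh.HH Z (Coh.structureModule Z) 1))).trans_eq
    (by rw [Submodule.restrictScalars_top, Module.length_top]) |>.trans' (by rw [Module.length_top]))
    (?_ : Module.length A (Coh.HH Z (Coh.structureModule Z) 1) ≤ _)
  -- the fields
  letI algY : Algebra A X.functionField := (Groth.L05.TraceSplit.baseToFF f).toAlgebra
  letI algZ : Algebra B Z.functionField := (Groth.L05.TraceSplit.baseToFF g').toAlgebra
  haveI : IsFractionRing A X.functionField := Groth.L05.TraceSplit.isFractionRing_baseToFF f hfb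
  haveI : IsFractionRing B Z.functionField := Groth.L05.TraceSplit.isFractionRing_baseToFF g' hg'b
  letI algXZ : Algebra X.functionField Z.functionField := (Groth.L21.Curve.ffMap π hgen).toAlgebra
  let eK : FractionRing A ≃ₐ[A] X.functionField := IsLocalization.algEquiv (nonZeroDivisors A) _ _
  let eL : FractionRing B ≃ₐ[B] Z.functionField := IsLocalization.algEquiv (nonZeroDivisors B) _ _
  have hπA : ∀ a : A, Groth.L21.Curve.ffMap π hgen (algebraMap A X.functionField a) =
      algebraMap B Z.functionField (algebraMap A B a) := fun a => by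
    refine (Groth.L05.TraceSplit.ffMap_germ π hgen (U := ⊤) trivial _).trans ?_
    have h1 : π.app ⊤ (Coh.toGlobal f a) = Coh.toGlobal g' (algebraMap A B a) := by
      have h2 : (π ≫ f).appTop = (g' ≫ Spec.map (CommRingCat.ofHom (algebraMap A B))).appTop := by rw [hsq]
      have h3 := congr($h2 ((Scheme.ΓSpecIso (CommRingCat.of A)).inv a))
      refine h3.trans ?_
      exact congrArg g'.appTop
        congr($(Scheme.ΓSpecIso_inv_naturality (CommRingCat.ofHom (algebraMap A B))) a).symm
    exact congrArg _ h1
  have hcomm : (algebraMap X.functionField Z.functionField).comp eK.toRingEquiv.toRingHom =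
      eL.toRingEquiv.toRingHom.comp (algebraMap (FractionRing A) (FractionRing B)) := by
    refine IsLocalization.ringHom_ext (nonZeroDivisors A) (RingHom.ext fun a => ?_)
    show Groth.L21.Curve.ffMap π hgen (eK (algebraMap A (FractionRing A) a)) =
      eL (algebraMap (FractionRing A) (FractionRing B) (algebraMap A (FractionRing A) a))
    rw [eK.commutes, hcompat, eL.commutes]
    exact hπA a
  have hfd : FiniteDimensional X.functionField Z.functionField :=
    Module.Finite.of_equiv_equiv eK.toRingEquiv eL.toRingEquiv hcomm
  have hN' : ∀ x : X, IsIntegrallyClosed (X.presheaf.stalk x) := fun x => (hXn x).2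
  refine le_trans (Groth.L05.SepUp.length_HH_le π hgen hN' hfd A (show π ≫ f = _ from hsq)
    (fun i => Coh.toGlobal g' (b i)) (fun i => Coh.toGlobal g' (c i)) d (fun s => ?_) 1) ?_
  · obtain ⟨s, rfl⟩ := eL.surjective s
    have hh := congrArg eL (hdual s)
    rw [map_sum, map_mul, IsScalarTower.algebraMap_apply A B (FractionRing B), eL.commutes] at hh
    refine Eq.trans ?_ (hh.trans (congrArg (· * eL s) (hπA d).symm))
    refine Finset.sum_congr rfl fun i _ => ?_
    have ht := Algebra.trace_eq_of_equiv_equiv eK.toRingEquiv eL.toRingEquiv hcomm (algebraMap B (FractionRing B) (b i) * s)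
    rw [map_mul eL, eL.commutes]
    refine congrArg₂ (· * ·) rfl ?_
    show algebraMap X.functionField Z.functionField (Algebra.trace X.functionField Z.functionField
      (algebraMap B Z.functionField (b i) * eL s)) = _
    have h4 := RingHom.congr_fun hcomm (Algebra.trace (FractionRing A) (FractionRing B) (algebraMap B (FractionRing B) (b i) * s))
    refine Eq.trans ?_ h4
    refine congrArg (algebraMap X.functionField Z.functionField) ?_
    rw [ht]
    show _ = eK.toRingEquiv (eK.toRingEquiv.symm (Algebra.trace X.functionField Z.functionField (eL (algebraMap B (FractionRing B) (b i) * s))))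
    rw [RingEquiv.apply_symm_apply, map_mul eL, eL.commutes]
  push_cast
  refine add_le_add ?_ (by gcongr; exact @hNA' X oX hf hXi hXn hfb)
  have he : Submodule.torsionBy A (Coh.HH Z (Coh.structureModule Z) 1) d =
      (Submodule.torsionBy B (Coh.HH Z (Coh.structureModule Z) 1) (algebraMap A B d)).restrictScalars A := by
    ext x
    show d • x = 0 ↔ algebraMap A B d • x = 0
    rw [hact]
  rw [he]
  refine (hr ↥(Submodule.torsionBy B (Coh.HH Z (Coh.structureModule Z) 1) (algebraMap A B d))).trans ?_
  gcongr
  exact @hNd Z oZ hg' hZi hZn hg'b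

end Groth.Agent.S7328
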