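import Groth.Statements.S7298
import Groth.Agent.L13.ModFibre
import Groth.Agent.L19.VanishFibre.Noetherian
import Groth.Agent.L13.GGH1

set_option autoImplicit false
universe u
open CategoryTheory CategoryTheory.Limits AlgebraicGeometry
open Resolve

namespace Groth.Agent.S7298

/-- Let A be a local normal Nagata domain of dimension two defining a rational singularity, and f : X →
Spec A a proper morphism from an integral normal scheme which is an isomorphism over some nonempty
open of Spec A. Then H^1(X, F) = 0 for every quasi-coherent O_X-module F which is globally generated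
(a quotient of a free O_X-module). -/
theorem result (A : Type u) [CommRing A] [IsDomain A] [IsLocalRing A] [IsNoetherianRing A]
    [IsIntegrallyClosed A] (hN : CAlg.IsNagata A) (hdim : ringKrullDim A = 2) (hA : Curv2.IsRationalSing A)
    (X : Scheme.{u}) (f : X ⟶ Spec (CommRingCat.of A)) [IsProper f] [IsIntegral X] (hXn : Pi1.IsNormalScheme X)
    (hbir : ∃ U : (Spec (CommRingCat.of A)).Opens, (U : Set (Spec (CommRingCat.of A))).Nonempty ∧ IsIso (f ∣_ U))
    (F : X.Modules) (hF : Coh.IsQCoh F) (hgg : Curv2.IsGloballyGenerated F) : Subsingleton (Coh.HH X F 1) := by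
  haveI : Coh.IsQCoh F := hF
  haveI : CompactSpace X := QuasiCompact.compactSpace_of_compactSpace f
  haveI : X.IsSeparated := ⟨by rw [← terminal.comp_from f]; infer_instance⟩
  exact Groth.L13.GGH1.subsingleton_H1_of_gg (hA X f ‹_› ‹_› hXn hbir)
    (fun K hK => by
      haveI : Coh.IsQCoh K := hK
      exact Groth.L19.VanishFibre.subsingleton_HH_of_fibre_dim_le (R := CommRingCat.of A) f
        (fun s => Groth.L13.ModFibre.topologicalKrullDim_fiber_le_one_spec (le_of_eq hdim) f hbir s) K (by omega)) F hgg

end Groth.Agent.S7298
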