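import Groth.Statements.S1600
import Groth.Agent.L16.ProperFinite
import Groth.Agent.L19.NormalSections
import Groth.Agent.L03.RegularNormal
import Groth.Agent.L20.GenericFlatScheme
import Groth.Agent.S0565

set_option autoImplicit false
universe u
open CategoryTheory CategoryTheory.Limits AlgebraicGeometry
open Resolve
open TopologicalSpace Opposite

noncomputable section

namespace Groth.Agent.S1600

/-- The structure map on global sections. -/
def glob {A : Type u} [CommRing A] {X : Scheme.{u}} (f : X ⟶ Spec (CommRingCat.of A)) : A →+* Γ(X, ⊤) :=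
  f.appTop.hom.comp (Scheme.ΓSpecIso (CommRingCat.of A)).inv.hom

theorem finite_toGlobal (A : Type u) [CommRing A] [IsNoetherianRing A] {X : Scheme.{u}}
    [X.Over (Spec (CommRingCat.of A))] [IsProper (X ↘ Spec (CommRingCat.of A))] :
    (glob (X ↘ Spec (CommRingCat.of A))).Finite := by
  haveI : IsLocallyNoetherian X :=
    LocallyOfFiniteType.isLocallyNoetherian (X ↘ Spec (CommRingCat.of A))
  have hfin := Groth.L16.ProperFinite.finite_HH A
    (Groth.L16.CohClosedPush.isCoh_structure (X := X)) 0
  let e : Coh.HH X (Coh.structureModule X) 0 ≃+ Γ(X, ⊤) :=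
    CategoryTheory.Sheaf.H.equiv₀ (Coh.toAb (Coh.structureModule X))
      (Limits.IsTerminal.ofUniqueHom (fun U => homOfLE le_top) (fun _ _ => Subsingleton.elim _ _))
  letI := (glob (X ↘ Spec (CommRingCat.of A))).toAlgebra
  have hs : ∀ (c : A) (x : Coh.HH X (Coh.structureModule X) 0), e (c • x) = c • e x := by
    intro c x
    obtain ⟨y, rfl⟩ := e.symm.surjective x
    apply e.symm.injective
    rw [AddEquiv.symm_apply_apply, AddEquiv.apply_symm_apply]
    refine (CategoryTheory.Sheaf.H.equiv₀_symm_naturality _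
      (Coh.smulAb (Coh.structureModule X) (Coh.toGlobal (X ↘ Spec (CommRingCat.of A)) c)) y).trans
      (congrArg e.symm ?_)
    refine (Coh.smulAb_app (Coh.structureModule X) _ (op ⊤) y).trans ?_
    exact congrArg (fun r : Γ(X, ⊤) => r * y)
      (Groth.L18.Frame.ro_self (le_rfl : (⊤ : X.Opens) ≤ ⊤) _)
  exact Module.Finite.equiv ({ e with map_smul' := hs } : Coh.HH X (Coh.structureModule X) 0 ≃ₗ[A] Γ(X, ⊤))

theorem isN1_of_regular (A : Type u) [CommRing A] [IsDomain A] [IsNoetherianRing A]
    (X : Scheme.{u}) [IsIntegral X] (f : X ⟶ Spec (CommRingCat.of A)) [IsProper f] [IsDominant f]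
    (hN : ∀ x : X, IsIntegrallyClosed (X.presheaf.stalk x)) : CAlg.IsN1 A := by
  letI : X.Over (Spec (CommRingCat.of A)) := ⟨f⟩
  haveI : IsProper (X ↘ Spec (CommRingCat.of A)) := ‹IsProper f›
  let φ : A →+* Γ(X, ⊤) := glob f
  have hφf : φ.Finite := finite_toGlobal A (X := X)
  have hφ : Function.Injective φ := by
    refine (injective_iff_map_eq_zero _).2 fun a ha => ?_
    have h1 : f ⁻¹ᵁ (Spec (CommRingCat.of A)).basicOpen ((Scheme.ΓSpecIso (CommRingCat.of A)).inv a) =
        X.basicOpen (φ a) := Scheme.preimage_basicOpen_top f _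
    rw [ha, Scheme.basicOpen_zero] at h1
    have h2 : (Spec (CommRingCat.of A)).basicOpen ((Scheme.ΓSpecIso (CommRingCat.of A)).inv a) = ⊥ := by
      by_contra hne
      obtain ⟨x, hx⟩ := f.denseRange.exists_mem_open
        ((Spec (CommRingCat.of A)).basicOpen ((Scheme.ΓSpecIso (CommRingCat.of A)).inv a)).2
        ((Opens.ne_bot_iff_nonempty _).1 hne)
      have : x ∈ (⊥ : X.Opens) := h1 ▸ hx
      exact this
    haveI : IsReduced (Spec (CommRingCat.of A)) := inferInstance
    have h3 := (basicOpen_eq_bot_iff _).1 h2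
    exact (injective_iff_map_eq_zero _).1
      (Scheme.ΓSpecIso (CommRingCat.of A)).symm.commRingCatIsoToRingEquiv.injective a h3
  have hξ : genericPoint X ∈ (⊤ : X.Opens) := trivial
  let γ : Γ(X, ⊤) →+* X.functionField := (X.presheaf.germ ⊤ (genericPoint X) hξ).hom
  have hγ : Function.Injective γ := germ_injective_of_isIntegral X (genericPoint X) hξ
  letI : Algebra A Γ(X, ⊤) := φ.toAlgebra
  haveI : Module.Finite A Γ(X, ⊤) := hφf
  letI : Algebra A X.functionField := (γ.comp φ).toAlgebra
  have hinj : Function.Injective (algebraMap A X.functionField) := hγ.comp hφ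
  haveI : FaithfulSMul A X.functionField := (faithfulSMul_iff_algebraMap_injective _ _).2 hinj
  let j : FractionRing A →ₐ[A] X.functionField :=
    IsFractionRing.liftAlgHom (g := Algebra.ofId A X.functionField) hinj
  let γ' : Γ(X, ⊤) →ₐ[A] X.functionField := { γ with commutes' := fun a => rfl }
  let ψ : ↥(integralClosure A (FractionRing A)) →ₐ[A] X.functionField :=
    j.comp (integralClosure A (FractionRing A)).val
  have hψ : ∀ c, ψ c ∈ γ'.range := by
    intro c
    obtain ⟨t, ht⟩ := Groth.L19.NormalSec.exists_section_of_isIntegral hN ⊤ hξ φ (ψ c)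
      ((Algebra.IsIntegral.isIntegral c).map ψ)
    exact ⟨t, ht⟩
  let Ψ := ψ.codRestrict γ'.range hψ
  have hΨ : Function.Injective Ψ := fun a b h => by
    have h' := congrArg Subtype.val h
    exact Subtype.ext (j.toRingHom.injective h')
  haveI : Module.Finite A γ'.range :=
    Module.Finite.of_surjective γ'.rangeRestrict.toLinearMap γ'.rangeRestrict_surjective
  exact Module.Finite.of_injective Ψ.toLinearMap hΨ

theorem regular_open (A : Type u) [CommRing A] [IsDomain A] [IsNoetherianRing A]
    (X : Scheme.{u}) (f : X ⟶ Spec (CommRingCat.of A)) [IsProper f] [IsDominant f]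
    (hreg : ∀ x : X, IsRegularLocalRing (X.presheaf.stalk x)) :
    ∃ U : (Spec (CommRingCat.of A)).Opens, (U : Set (Spec (CommRingCat.of A))).Nonempty ∧
      ∀ y ∈ U, IsRegularLocalRing ((Spec (CommRingCat.of A)).presheaf.stalk y) := by
  obtain ⟨U, hU, hfl, -⟩ := Groth.L20.GFR.exists_dense_flat_lfp f
  refine ⟨U, hU.nonempty, fun y hy => ?_⟩
  obtain ⟨x, rfl⟩ : ∃ x, f x = y := by
    have h := f.denseRange.closure_range
    rw [f.isClosedMap.isClosed_range.closure_eq] at h
    exact Set.eq_univ_iff_forall.1 h y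
  haveI := hfl
  have hflat : (f.stalkMap x).hom.Flat :=
    (RingHom.Flat.respectsIso.arrow_mk_iso_iff (morphismRestrictStalkMap f U ⟨x, hy⟩)).1
      (Flat.stalkMap (f ∣_ U) ⟨x, hy⟩)
  letI := (f.stalkMap x).hom.toAlgebra
  haveI : IsLocalHom (algebraMap ((Spec (CommRingCat.of A)).presheaf.stalk (f x)) (X.presheaf.stalk x)) :=
    inferInstanceAs (IsLocalHom (f.stalkMap x).hom)
  haveI : Module.Flat ((Spec (CommRingCat.of A)).presheaf.stalk (f x)) (X.presheaf.stalk x) := hflat
  haveI := hreg x
  exact Groth.Agent.S0565.result _ (X.presheaf.stalk x)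

/-- Let A be a Noetherian domain such that Spec A admits an alteration f : X → Spec A with X regular.
Then the integral closure of A in its fraction field is a finite A-module (A is N-1), and some
nonempty open subset of Spec A consists of points whose local ring is regular. (The published
statement is for any Noetherian integral scheme; it is stated here for an affine one.) -/
theorem result (A : Type u) [CommRing A] [IsDomain A] [IsNoetherianRing A]
    (X : Scheme.{u}) (f : X ⟶ Spec (CommRingCat.of A)) (hf : Curv2.IsAlteration f)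
    (hreg : ∀ x : X, IsRegularLocalRing (X.presheaf.stalk x)) :
    CAlg.IsN1 A ∧ ∃ U : (Spec (CommRingCat.of A)).Opens, (U : Set (Spec (CommRingCat.of A))).Nonempty ∧
      ∀ y ∈ U, IsRegularLocalRing ((Spec (CommRingCat.of A)).presheaf.stalk y) := by
  obtain ⟨h1, h2, -, h4, -⟩ := hf
  haveI := h1
  haveI := h2
  haveI := h4
  refine ⟨isN1_of_regular A X f fun x => ?_, regular_open A X f hreg⟩
  haveI := hreg x
  exact Groth.L03.RegularNormal.isIntegrallyClosed _

end Groth.Agent.S1600
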