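import Mathlib.AlgebraicGeometry.Morphisms.Flat
import Mathlib.AlgebraicGeometry.Morphisms.Preimmersion
import Mathlib.AlgebraicGeometry.Stalk
import Groth.Statements.S4366
-- import your own Groth.Agent.* helpers here

set_option autoImplicit false
universe u
open SchMor

namespace Groth.Agent.S4366

open AlgebraicGeometry in
open CategoryTheory in
open CategoryTheory.Limits in
/-- Let f : X -> Y be a morphism, y a point of Y and Z = Spec O_{Y,y} the local scheme of Y at y with
its canonical morphism to Y. Then the projection p : X x_Y Z -> X induces isomorphisms on all local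
rings: for every point t of X x_Y Z the homomorphism O_{X, p t} -> O_{X x_Y Z, t} is bijective. (The
published statement also asserts that p is a homeomorphism onto the preimage of Z; that part is not
stated here.) -/
theorem result
    {X Y : Scheme.{u}} (f : X ⟶ Y) (y : Y) (t : ↑(pullback f (Y.fromSpecStalk y))) :
    IsIso ((pullback.fst f (Y.fromSpecStalk y)).stalkMap t) := by
  haveI hflat : Flat (Y.fromSpecStalk y) := by
    obtain ⟨U, hU, hy, -⟩ := TopologicalSpace.Opens.isBasis_iff_nbhd.mp Y.isBasis_affineOpens
      (TopologicalSpace.Opens.mem_top y)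
    rw [← hU.fromSpecStalk_eq_fromSpecStalk hy]
    unfold IsAffineOpen.fromSpecStalk
    haveI : Flat (Spec.map (Y.presheaf.germ U y hy)) := by
      rw [HasRingHomProperty.Spec_iff (P := @Flat)]
      letI := Y.presheaf.algebra_section_stalk ⟨y, hy⟩
      haveI := hU.isLocalization_stalk ⟨y, hy⟩
      exact RingHom.flat_algebraMap_iff.mpr
        (IsLocalization.flat (Y.presheaf.stalk y) (hU.primeIdealOf ⟨y, hy⟩).asIdeal.primeCompl)
    exact MorphismProperty.IsStableUnderComposition.comp_mem _ _ inferInstance inferInstance
  set g := pullback.fst f (Y.fromSpecStalk y)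
  haveI : IsPreimmersion g := MorphismProperty.pullback_fst f (Y.fromSpecStalk y) inferInstance
  have hf := Flat.stalkMap g t
  have hinj : Function.Injective (g.stalkMap t).hom := by
    algebraize [(g.stalkMap t).hom]
    have : Module.FaithfullyFlat (X.presheaf.stalk (g t)) ((pullback f (Y.fromSpecStalk y)).presheaf.stalk t) :=
      @Module.FaithfullyFlat.of_flat_of_isLocalHom _ _ _ _ _ _ _ hf (g.toLRSHom.prop t)
    exact ‹RingHom.FaithfullyFlat _›.injective
  exact (ConcreteCategory.isIso_iff_bijective _).mpr ⟨hinj, g.stalkMap_surjective t⟩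

end Groth.Agent.S4366
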