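import Groth.Statements.S1343
import Groth.Agent.L02.CMMor.AffineChart
import Groth.Agent.L23.LocalDimEtale
import Groth.Agent.L16.ProjSpace.StdSmooth
import Groth.Agent.L07.SyntDim
import Groth.Agent.S2768

set_option autoImplicit false
universe u
open FlatMor

set_option backward.isDefEq.respectTransparency.types false
namespace Groth.L20.CMChart

open AlgebraicGeometry CategoryTheory Limits Topology

theorem fibreDimAt_lqf_comp {X Y Z : Scheme.{u}} (a : X ⟶ Y) (h : Y ⟶ Z) [Flat a] [LocallyOfFinitePresentation a]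
    [LocallyQuasiFinite a] (x : X) : FlatMor.fibreDimAt (a ≫ h) x = FlatMor.fibreDimAt h (a x) := by
  rw [Groth.L23.fibreDimAt_eq_preimage, Groth.L23.fibreDimAt_eq_preimage]
  have := Groth.L23.quasiSober_preimage_singleton (a ≫ h) ((a ≫ h) x)
  have := Groth.L23.quasiSober_preimage_singleton h (h (a x))
  let φ : ((a ≫ h) ⁻¹' {(a ≫ h) x}) → (h ⁻¹' {h (a x)}) := fun z => ⟨a z.1, z.2⟩
  refine Groth.L23.localDim_eq_of_open_generalizing (φ := φ) ((a.continuous.comp continuous_subtype_val).subtype_mk _)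
    (IsOpenMap.restrictPreimage a.isOpenMap (h ⁻¹' {h (a x)})) ?_ ?_ _
  · intro z b hb
    obtain ⟨w, hw, hwb⟩ := Flat.generalizingMap a (show b.1 ⤳ a z.1 from hb.map continuous_subtype_val)
    exact ⟨⟨w, by show h (a w) = h (a x); rw [hwb]; exact b.2⟩, (subtype_specializes_iff _ _).2 hw, Subtype.ext hwb⟩
  · exact fun z w hzw e => Subtype.ext
        (Groth.L23.eq_of_specializes_of_lqf a (hzw.map continuous_subtype_val) (congrArg Subtype.val e))

theorem smoothOfRelativeDimension_affineSpace (n : Type u) [Finite n] (S : Scheme.{u}) :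
    SmoothOfRelativeDimension (Nat.card n) (𝔸(n; S) ↘ S) :=
  haveI := smoothOfRelativeDimension_isStableUnderBaseChange.{u} (Nat.card n)
  MorphismProperty.pullback_fst (P := @SmoothOfRelativeDimension (Nat.card n)) _ _ <| by
  have := isIso_of_isTerminal specULiftZIsTerminal.{u} terminalIsTerminal (terminal.from _)
  rw [← terminal.comp_from (Spec.map (CommRingCat.ofHom MvPolynomial.C)),
    MorphismProperty.cancel_right_of_respectsIso (P := @SmoothOfRelativeDimension (Nat.card n)),
    HasRingHomProperty.Spec_iff (P := @SmoothOfRelativeDimension (Nat.card n))]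
  exact RingHom.locally_of RingHom.isStandardSmoothOfRelativeDimension_respectsIso _
    (Groth.L16.isStandardSmoothOfRelativeDimension_C _ n)

theorem main {X S : Scheme.{u}} (f : X ⟶ S) [LocallyOfFinitePresentation f]
    (x : X) (d : ℕ) (hd : FlatMor.fibreDimAt f x = d) :
    MoreMor.IsCMAt f x ↔ ∃ (U : X.Opens) (g : (U : Scheme.{u}) ⟶ 𝔸(ULift.{u} (Fin d); S)), x ∈ U ∧
      g ≫ (𝔸(ULift.{u} (Fin d); S) ↘ S) = U.ι ≫ f ∧ Flat g ∧ LocallyQuasiFinite g := by
  constructor
  · intro hcm
    obtain ⟨n, U, hx, g, hg, hq, hflat⟩ := L02.CMMor.exists_chart f x hcm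
    let π := 𝔸(ULift.{u} (Fin n); S) ↘ S
    haveI : Smooth π := L02.CMMor.smooth_affineSpace _ S
    haveI : LocallyOfFinitePresentation (g ≫ π) := by rw [hg]; infer_instance
    haveI : LocallyOfFinitePresentation g := Groth.L20.locallyOfFinitePresentation_of_comp g π
    let O : (U : Scheme.{u}).Opens := ⟨{y | (g.stalkMap y).hom.Flat}, Groth.L20.isOpen_flat_stalkMap g⟩
    haveI : Flat (O.ι ≫ g) := by
      refine (Flat.iff_flat_stalkMap _).mpr fun y => ?_
      rw [Scheme.Hom.stalkMap_comp]
      exact RingHom.Flat.comp y.2 (RingHom.Flat.of_bijective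
        (ConcreteCategory.bijective_of_isIso (O.ι.stalkMap y)))
    let V : X.Opens := U.ι ''ᵁ O
    let e : (V : Scheme.{u}) ≅ (O : Scheme.{u}) := (IsOpenImmersion.isoOfRangeEq (O.ι ≫ U.ι) V.ι (by
      rw [Scheme.Hom.comp_base, TopCat.coe_comp, Set.range_comp, Scheme.Opens.range_ι, Scheme.Opens.range_ι]
      rfl)).symm
    let g' : (V : Scheme.{u}) ⟶ 𝔸(ULift.{u} (Fin n); S) := e.hom ≫ O.ι ≫ g
    have hg' : g' ≫ π = V.ι ≫ f := by
      show (e.hom ≫ O.ι ≫ g) ≫ π = _
      rw [Category.assoc, Category.assoc, hg, ← Category.assoc O.ι, ← Category.assoc e.hom]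
      congr 1
      exact IsOpenImmersion.lift_fac _ _ _
    haveI : LocallyQuasiFinite (O.ι ≫ g) := inferInstance
    haveI : LocallyQuasiFinite g' := inferInstance
    haveI : Flat g' := inferInstance
    haveI : LocallyOfFinitePresentation g' := inferInstance
    have hxV : x ∈ V := ⟨⟨x, hx⟩, hflat, rfl⟩
    haveI : SmoothOfRelativeDimension n π := by
      have := smoothOfRelativeDimension_affineSpace (ULift.{u} (Fin n)) S
      rwa [Nat.card_eq_fintype_card, Fintype.card_ulift, Fintype.card_fin] at this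
    have h1 := fibreDimAt_lqf_comp g' π (⟨x, hxV⟩ : (V : Scheme.{u}))
    rw [Groth.Agent.S2768.result n π, hg',
      ← Groth.L07.SyntDim.fibreDimAt_congr f (V.ι ≫ f) V.ι (𝟙 _) (Category.comp_id _).symm] at h1
    obtain rfl : n = d := by
      have h2 := h1.symm.trans hd
      exact_mod_cast h2
    exact ⟨V, g', hxV, hg', inferInstance, inferInstance⟩
  · rintro ⟨U, g, hx, hg, hgf, hgq⟩
    exact L02.CMMor.isCMAt_of_chart f x d U hx g hg (Flat.stalkMap g _)

end Groth.L20.CMChart
namespace Groth.Agent.S1343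

open AlgebraicGeometry CategoryTheory Limits in
/-- (1) ⇔ (3): let f be flat and locally of finite presentation and let x be a point whose fibre has
local dimension d at x. Then f is Cohen–Macaulay at x if and only if some open neighbourhood of x
admits a flat, locally quasi-finite morphism to affine d-space over the base, compatible with the
structure morphisms. -/
theorem result {X S : Scheme.{u}} (f : X ⟶ S) [Flat f] [LocallyOfFinitePresentation f]
    (x : X) (d : ℕ) (hd : FlatMor.fibreDimAt f x = d) :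
    MoreMor.IsCMAt f x ↔ ∃ (U : X.Opens) (g : (U : Scheme.{u}) ⟶ 𝔸(ULift.{u} (Fin d); S)), x ∈ U ∧
      g ≫ (𝔸(ULift.{u} (Fin d); S) ↘ S) = U.ι ≫ f ∧ Flat g ∧ LocallyQuasiFinite g := by
  exact Groth.L20.CMChart.main f x d hd


end Groth.Agent.S1343
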