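import Groth.Statements.S3852


set_option autoImplicit false
universe u
open FCompl

namespace Groth.Agent.S3852

open AlgebraicGeometry in
/-- Second assertion; stated for quasi-coherent ideal sheaves, with the condition on supports as an
inclusion, which is what the proof uses: Let X be a Noetherian scheme and I, J ideal sheaves such
that the zero locus of J is contained in the zero locus of I. Then I^n ≤ J for some n ≥ 1. -/
theorem result
    (X : Scheme.{u}) [IsNoetherian X] (I J : X.IdealSheafData)
    (h : (J.support : Set X) ⊆ I.support) :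
    ∃ n : ℕ, I ^ (n + 1) ≤ J := by
  classical
  have hrad : I ≤ J.radical := by
    rw [← Scheme.IdealSheafData.vanishingIdeal_support]
    exact Scheme.IdealSheafData.gc.le_u h
  let 𝒰 := X.affineCover.finiteSubcover
  have hN : ∀ i : 𝒰.I₀, ∃ n : ℕ,
      I.ideal ⟨(𝒰.f i).opensRange, isAffineOpen_opensRange _⟩ ^ n ≤
        J.ideal ⟨(𝒰.f i).opensRange, isAffineOpen_opensRange _⟩ := fun i =>
    haveI : IsNoetherianRing Γ(X, (𝒰.f i).opensRange) :=
      IsLocallyNoetherian.component_noetherian ⟨(𝒰.f i).opensRange, isAffineOpen_opensRange _⟩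
    Ideal.exists_pow_le_of_le_radical_of_fg (hrad _) ((isNoetherianRing_iff_ideal_fg _).mp inferInstance _)
  choose N hN using hN
  refine ⟨Finset.univ.sup N, Scheme.IdealSheafData.le_of_iSup_eq_top
    (fun i : 𝒰.I₀ => ⟨(𝒰.f i).opensRange, isAffineOpen_opensRange _⟩) 𝒰.iSup_opensRange fun i => ?_⟩
  rw [Scheme.IdealSheafData.ideal_pow]
  exact (Ideal.pow_le_pow_right (le_trans (Finset.le_sup (Finset.mem_univ i)) (Nat.le_succ _))).trans (hN i)

end Groth.Agent.S3852
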