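import Groth.Statements.S0600
import Groth.Agent.L06.IAdic

set_option autoImplicit false
set_option linter.style.haveILetI false
set_option maxSynthPendingDepth 3
universe u
open CAlg

namespace Groth.Agent.S0600

/-- If `A` is a G-ring and `I` any ideal, then the map from `A` to its `I`-adic completion is regular. -/
theorem result (A : Type u) [CommRing A] (hA : CAlg.IsGRing A)
    (I : Ideal A) : CAlg.IsRegularHom A (AdicCompletion I A) := by
  haveI := hA.1
  haveI : IsNoetherianRing (AdicCompletion I A) := Groth.Agent.S0543.result A I
  exact Groth.L06.GeomHom.isRegularHom_of_geomHom (Groth.L06.IAdic.geomHom_completion I Groth.L06.PropLoc.good_reg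
    Groth.L06.GeomFG.regImp_reg fun m _ => by
      haveI : IsNoetherianRing (EGA4.Cpl (Localization.AtPrime m)) := Groth.Agent.S0543.result _ _
      exact Groth.L06.GeomHom.geomHom_reg_of_isRegularHom (hA.2 m))

end Groth.Agent.S0600
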