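import Groth.Statements.S9294
import Groth.Agent.L06.GeomHom
import Groth.Agent.L19.FlatComp
import Mathlib.RingTheory.Flat.FaithfullyFlat.Algebra

set_option autoImplicit false
universe u
open CAlg

open TensorProduct Groth.L06 Groth.L06.PropLoc Groth.L06.GeomFG

namespace Groth.Agent.S9294

/-- If A → B and B → C are regular ring maps and every fibre ring of the composite A → C is Noetherian,
the composite is regular. -/
theorem result (A B C : Type u) [CommRing A] [CommRing B] [CommRing C]
    [Algebra A B] [Algebra B C] [Algebra A C] [IsScalarTower A B C]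
    (hAB : CAlg.IsRegularHom A B) (hBC : CAlg.IsRegularHom B C)
    (hN : ∀ (p : Ideal A) [p.IsPrime], IsNoetherianRing (p.Fiber C)) :
    CAlg.IsRegularHom A C := by
  haveI := hAB.1
  haveI := hBC.1
  refine ⟨Module.Flat.trans A B C, fun p hp => ⟨hN p, ?_⟩⟩
  intro K _ _ hK
  haveI := hK
  haveI : IsNoetherianRing (p.Fiber B) := (hAB.2 p).1
  haveI := hN p
  letI : Algebra A K := ((algebraMap p.ResidueField K).comp (algebraMap A p.ResidueField)).toAlgebra
  haveI : IsScalarTower A p.ResidueField K := IsScalarTower.of_algebraMap_eq' rfl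
  haveI : IsNoetherianRing (K ⊗[p.ResidueField] p.Fiber B) := isNoetherianRing_tensor p.ResidueField K _
  haveI : IsNoetherianRing (K ⊗[p.ResidueField] p.Fiber C) := isNoetherianRing_tensor p.ResidueField K _
  haveI : IsNoetherianRing (B ⊗[A] K) :=
    isNoetherianRing_of_ringEquiv _ (Groth.L06.FibreComp.fibreEquivBase (B := B) p K)
  haveI : IsNoetherianRing ((B ⊗[A] K) ⊗[B] C) :=
    isNoetherianRing_of_ringEquiv (K ⊗[p.ResidueField] p.Fiber C) (Groth.L06.FibreComp.fibreEquiv (B := B) p K)
  refine loc_reg_iff.mp (loc_of_ringEquiv good_reg (Groth.L06.FibreComp.fibreEquiv (B := B) p K).symm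
    (good_reg.ascend (loc_of_ringEquiv good_reg (Groth.L06.FibreComp.fibreEquivBase (B := B) p K)
      (loc_reg_iff.mpr ((hAB.2 p).2 K hK))) fun q _ => ?_))
  obtain ⟨i, hi, ⟨e⟩⟩ := Groth.L06.FibreComp.exists_fibre_baseChange (B := B) (C := C) q
  letI := i
  haveI := hi
  haveI hfin : Module.Finite (q.comap (algebraMap B (B ⊗[A] K))).ResidueField q.ResidueField :=
    Groth.Agent.S4696.finite_residueField p K q
  haveI := (hBC.2 (q.comap (algebraMap B (B ⊗[A] K)))).1
  haveI := isNoetherianRing_tensor (q.comap (algebraMap B (B ⊗[A] K))).ResidueField q.ResidueField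
    ((q.comap (algebraMap B (B ⊗[A] K))).Fiber C)
  exact loc_of_ringEquiv good_reg e.symm (loc_reg_iff.mpr ((hBC.2 _).2 q.ResidueField hfin))

end Groth.Agent.S9294
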