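import Groth.Statements.S1481
import Groth.Agent.L09.Subtr
import Mathlib.AlgebraicGeometry.Fiber

set_option autoImplicit false
universe u
open FlatMor

namespace Groth.Agent.S1481

open AlgebraicGeometry in
theorem exists_max {X S : Scheme.{u}} (f : X ⟶ S) {A : Set X} (hA : IsClosed A) (s : S) (a : ↥(A ∩ f ⁻¹' {s})) :
    ∃ c : ↥(A ∩ f ⁻¹' {s}), c ⤳ a ∧ ∃ C ∈ irreducibleComponents ↥(A ∩ f ⁻¹' {s}), IsGenericPoint c C := by
  haveI : QuasiSober ↥(f ⁻¹' {s}) := (f.fiberHomeo s).symm.isClosedEmbedding.quasiSober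
  let i : ↥(A ∩ f ⁻¹' {s}) → ↥(f ⁻¹' {s}) := Set.inclusion Set.inter_subset_right
  have hi : Topology.IsClosedEmbedding i := by
    refine ⟨Topology.IsEmbedding.inclusion _, ?_⟩
    rw [Set.range_inclusion]
    have : {z : ↥(f ⁻¹' {s}) | ↑z ∈ A ∩ f ⁻¹' {s}} = Subtype.val ⁻¹' A := by ext z; simp [z.2]
    rw [this]
    exact hA.preimage continuous_subtype_val
  haveI : QuasiSober ↥(A ∩ f ⁻¹' {s}) := hi.quasiSober
  obtain ⟨C, hC, haC⟩ := exists_mem_irreducibleComponents_subset_of_isIrreducible {a} isIrreducible_singleton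
  obtain ⟨c, hc⟩ := QuasiSober.sober hC.1 (isClosed_of_mem_irreducibleComponents C hC)
  exact ⟨c, hc.specializes (haC rfl), C, hC, hc⟩

theorem eq_of_specializes_generic {T : Type u} [TopologicalSpace T] [T0Space T] {c z : T} {C : Set T}
    (hC : C ∈ irreducibleComponents T) (hc : IsGenericPoint c C) (h : z ⤳ c) : z = c := by
  have h1 : C ⊆ closure {z} := hc.def ▸ specializes_iff_closure_subset.1 h
  have h2 : closure ({z} : Set T) ⊆ C := hC.2 isIrreducible_singleton.closure h1
  exact (h.antisymm (specializes_iff_closure_subset.2 (h2.trans hc.def.ge))).eq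


open AlgebraicGeometry CategoryTheory Limits in
/-- Let f : X → S, y a point of X with image t, Y the closure of y, s a point of S and x a point of Y
over s which is generic in an irreducible component of the fibre of Y over s (fibres as subspaces).
Then there are a valuation ring R and a morphism g : Spec R → S sending the generic point to t and
the closed point to s, such that, writing X' for the base change with projections g' : X' → X and f'
: X' → Spec R, there is a point y' of X' over the generic point with g' y' = y which is generic in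
an irreducible component of the generic fibre of g'⁻¹(Y), and a point x' in the closure of y' over
the closed point with g' x' = x which is generic in an irreducible component of the special fibre of
the closure of y'. -/
theorem result {X S : Scheme.{u}} (f : X ⟶ S) (y : X) (s : S) (x : X)
    (hx : x ∈ closure ({y} : Set ↑X)) (hxs : f x = s)
    (hgen : ∃ C ∈ irreducibleComponents ↑(closure ({y} : Set ↑X) ∩ f ⁻¹' {s}), IsGenericPoint (⟨x, hx, hxs⟩ : ↑(closure ({y} : Set ↑X) ∩ f ⁻¹' {s})) C) :
    ∃ (R : Type u) (_ : CommRing R) (_ : IsDomain R) (_ : ValuationRing R) (g : Spec (CommRingCat.of R) ⟶ S),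
      g (⊥ : PrimeSpectrum R) = f y ∧ g (IsLocalRing.closedPoint R) = s ∧
      ∃ (y' : ↑(pullback f g)) (hy't : pullback.snd f g y' = (⊥ : PrimeSpectrum R)) (hy'Y : pullback.fst f g y' ∈ closure ({y} : Set ↑X)),
        pullback.fst f g y' = y ∧
        (∃ C ∈ irreducibleComponents ↑((pullback.fst f g) ⁻¹' closure ({y} : Set ↑X) ∩ (pullback.snd f g) ⁻¹' {(⊥ : PrimeSpectrum R)}),
          IsGenericPoint (⟨y', hy'Y, hy't⟩ : ↑((pullback.fst f g) ⁻¹' closure ({y} : Set ↑X) ∩ (pullback.snd f g) ⁻¹' {(⊥ : PrimeSpectrum R)})) C) ∧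
        ∃ (x' : ↑(pullback f g)) (hx' : x' ∈ closure ({y'} : Set ↑(pullback f g))) (hx's : pullback.snd f g x' = IsLocalRing.closedPoint R),
          pullback.fst f g x' = x ∧
          ∃ C ∈ irreducibleComponents ↑(closure ({y'} : Set ↑(pullback f g)) ∩ (pullback.snd f g) ⁻¹' {IsLocalRing.closedPoint R}),
            IsGenericPoint (⟨x', hx', hx's⟩ : ↑(closure ({y'} : Set ↑(pullback f g)) ∩ (pullback.snd f g) ⁻¹' {IsLocalRing.closedPoint R})) C := by
  obtain ⟨R, _, _, _, g₀, hg₀, hg₀c⟩ := Groth.L09.Subtr.exists_valuation (specializes_iff_mem_closure.2 hx)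
  have hgen₀ : Groth.L09.Subtr.genPt R = (⊥ : PrimeSpectrum R) := rfl
  rw [hgen₀] at hg₀
  let g := g₀ ≫ f
  let σ : Spec (CommRingCat.of R) ⟶ pullback f g := pullback.lift g₀ (𝟙 _) (Category.id_comp _).symm
  have hσ₁ : ∀ p, pullback.fst f g (σ p) = g₀ p := fun p => by
    rw [← Scheme.Hom.comp_apply, pullback.lift_fst]
  have hσ₂ : ∀ p, pullback.snd f g (σ p) = p := fun p => by
    rw [← Scheme.Hom.comp_apply, pullback.lift_snd]; rfl
  obtain ⟨⟨y', hy'Y, hy't⟩, hy's, C₁, hC₁, hy'C⟩ := exists_max (pullback.snd f g)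
    (isClosed_closure.preimage (pullback.fst f g).continuous) (⊥ : PrimeSpectrum R)
    ⟨σ (⊥ : PrimeSpectrum R), show pullback.fst f g _ ∈ closure ({y} : Set X) by rw [hσ₁, hg₀]; exact subset_closure rfl,
      hσ₂ _⟩
  have hy'0 : y' ⤳ σ (⊥ : PrimeSpectrum R) := hy's.map continuous_subtype_val
  have hy'y : pullback.fst f g y' = y := by
    refine ((specializes_iff_mem_closure.2 hy'Y).antisymm ?_).eq.symm
    have := hy'0.map (pullback.fst f g).continuous
    rwa [hσ₁, hg₀] at this
  have hx₀ : σ (IsLocalRing.closedPoint R) ∈ closure ({y'} : Set ↥(pullback f g)) :=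
    specializes_iff_mem_closure.1 (hy'0.trans (((PrimeSpectrum.le_iff_specializes ⊥ (IsLocalRing.closedPoint R)).1 bot_le).map σ.continuous))
  obtain ⟨⟨x', hx', hx's⟩, hx's', C₂, hC₂, hx'C⟩ := exists_max (pullback.snd f g)
    isClosed_closure (IsLocalRing.closedPoint R)
    ⟨σ (IsLocalRing.closedPoint R), hx₀, hσ₂ _⟩
  have hfs : ∀ z, pullback.snd f g z = IsLocalRing.closedPoint R → f (pullback.fst f g z) = s := fun z hz => by
    rw [← Scheme.Hom.comp_apply, pullback.condition, Scheme.Hom.comp_apply, hz, Scheme.Hom.comp_apply, hg₀c, hxs]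
  have hx'x : pullback.fst f g x' = x := by
    obtain ⟨C, hC, hxC⟩ := hgen
    have hz : pullback.fst f g x' ∈ closure ({y} : Set X) := by
      have := (specializes_iff_mem_closure.2 hx').map (pullback.fst f g).continuous
      rw [hy'y] at this
      exact specializes_iff_mem_closure.1 this
    have hsp : pullback.fst f g x' ⤳ x := by
      have := (hx's'.map continuous_subtype_val).map (pullback.fst f g).continuous
      rwa [hσ₁, hg₀c] at this
    exact congrArg Subtype.val (eq_of_specializes_generic (T := ↥(closure ({y} : Set X) ∩ f ⁻¹' {s})) hC hxC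
      (z := ⟨pullback.fst f g x', hz, hfs x' hx's⟩) (Topology.IsInducing.subtypeVal.specializes_iff.1 hsp))
  refine ⟨R, inferInstance, inferInstance, inferInstance, g, ?_, ?_, y', (hy't :), hy'Y, hy'y, ⟨C₁, hC₁, hy'C⟩, x', hx',
    (hx's :), hx'x, C₂, hC₂, hx'C⟩
  · rw [Scheme.Hom.comp_apply, hg₀]
  · rw [Scheme.Hom.comp_apply, hg₀c, hxs]

end Groth.Agent.S1481
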