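import Mathlib.RingTheory.AdicCompletion.Algebra
import Mathlib.RingTheory.AdicCompletion.Basic
import Mathlib.RingTheory.Noetherian.Defs
import Mathlib.RingTheory.KrullDimension.Basic
import Mathlib.RingTheory.RegularLocalRing.Defs
import Groth.Agent.L05.Henselization.EtaleLike
import Groth.Agent.L01.AdicNoeth
import Mathlib.RingTheory.AdicCompletion.AsTensorProduct
import Mathlib.RingTheory.AdicCompletion.LocalRing

set_option autoImplicit false
namespace CAlg
end CAlg
universe u
open CAlg

namespace Groth.Agent.S19474

/-- Let A be a Noetherian local ring and I an ideal of A different from A. Then the I-adic completion of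
A has the same Krull dimension as A, and A is a regular local ring if and only if the I-adic
completion of A is a regular local ring (in particular the completion is then local and Noetherian).
The case where I is the maximal ideal is the classical one; here I is any proper ideal. -/
theorem result (A : Type u) [CommRing A]
    [IsLocalRing A] [IsNoetherianRing A] (I : Ideal A) (hI : I ≠ ⊤) :
    ringKrullDim (AdicCompletion I A) = ringKrullDim A ∧
      (IsRegularLocalRing A ↔ IsRegularLocalRing (AdicCompletion I A)) := by
  have hfg : I.FG := IsNoetherian.noetherian I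
  let B := AdicCompletion I A
  let 𝔪 := IsLocalRing.maximalIdeal A
  have hle : I ≤ 𝔪 := IsLocalRing.le_maximalIdeal hI
  haveI hmax : (𝔪.map (algebraMap A B)).IsMaximal := AdicCompletion.isMaximal_map_of_le I 𝔪 hle hfg
  haveI hcomp : IsAdicComplete (I.map (algebraMap A B)) B := AdicCompletion.isAdicComplete_self I hfg
  haveI : IsNoetherianRing B := Groth.L01.AdicNoeth.isNoetherianRing_adicCompletion I hfg
  haveI : IsLocalRing B := IsLocalRing.of_unique_max_ideal ⟨_, hmax, fun J hJ => by
    have hIJ : I.map (algebraMap A B) ≤ J :=
      (IsAdicComplete.le_jacobson_bot _).trans (sInf_le ⟨bot_le, hJ⟩)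
    haveI := hJ
    have hker : RingHom.ker (AdicCompletion.evalOneₐ I).toRingHom ≤ J :=
      (AdicCompletion.ker_evalOneₐ_eq_map I hfg).le.trans hIJ
    have hsurj : Function.Surjective (AdicCompletion.evalOneₐ I).toRingHom :=
      AdicCompletion.evalOneₐ_surjective I
    haveI : (J.map (AdicCompletion.evalOneₐ I).toRingHom).IsMaximal :=
      Ideal.IsMaximal.map_of_surjective_of_ker_le hsurj hker
    have hJA : ((J.map (AdicCompletion.evalOneₐ I).toRingHom).comap (Ideal.Quotient.mk I)) = 𝔪 :=
      IsLocalRing.eq_maximalIdeal (Ideal.comap_isMaximal_of_surjective _ Ideal.Quotient.mk_surjective)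
    refine (hmax.eq_of_le hJ.ne_top (Ideal.map_le_iff_le_comap.mpr fun a ha => ?_)).symm
    rw [← hJA, Ideal.mem_comap, ← AdicCompletion.evalOneₐ_comp_algebraMap_eq_mk, RingHom.comp_apply,
      ← Ideal.mem_comap, Ideal.comap_map_of_surjective' _ hsurj, sup_eq_left.mpr hker] at ha
    exact ha⟩
  have h : 𝔪.map (algebraMap A B) = IsLocalRing.maximalIdeal B := IsLocalRing.eq_maximalIdeal hmax
  haveI : Module.Flat A B := AdicCompletion.flat_of_isNoetherian I
  exact ⟨Groth.L05.Henselization.ringKrullDim_eq_of_map_maximalIdeal A B h,
    Groth.L05.Henselization.isRegularLocalRing_iff_of_map_maximalIdeal A B h⟩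

end Groth.Agent.S19474
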