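import Groth.Statements.S8872
import Groth.Agent.L15.FittSheaf
import Groth.Agent.L22.Ideal
import Groth.Agent.L16.AffineBC.Pullback

set_option autoImplicit false
universe u
open CategoryTheory CategoryTheory.Limits AlgebraicGeometry TopologicalSpace
open SDiv

namespace Groth.Agent.S8872

/-- Let f : T ⟶ S be a morphism of schemes and F a quasi-coherent O_S-module of finite type. Then for
every i the inverse image ideal sheaf on T of the i-th Fitting ideal of F is the i-th Fitting ideal
of f^*F. -/
theorem result {T S : Scheme.{u}} (f : T ⟶ S) (F : S.Modules) (hF : Coh.IsQCoh F) (hft : CohB1.IsFT F)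
    (i : ℕ) : (Fitt.sheafIdeal F i).comap f = Fitt.sheafIdeal ((Scheme.Modules.pullback f).obj F) i := by
  haveI : Coh.IsQCoh F := hF
  have hP : Coh.IsCoh ((Scheme.Modules.pullback f).obj F) :=
    Groth.L16.AffineBC.isCoh_pullback (f := f) ⟨hF, hft⟩
  haveI : Coh.IsQCoh ((Scheme.Modules.pullback f).obj F) := hP.1
  choose U V e hxV _ _ using fun x : T => Groth.L22.Ideals.exists_affine_pair f x
    (W := ⊤) (W' := ⊤) trivial trivial
  refine Scheme.IdealSheafData.ext_of_iSup_eq_top V
    (top_unique fun x _ => Opens.mem_iSup.2 ⟨x, hxV x⟩) fun x => ?_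
  letI : Algebra Γ(S, (U x).1) Γ(T, (V x).1) := (f.appLE (U x).1 (V x).1 (e x)).hom.toAlgebra
  haveI := Groth.L20.ModStalk.finite_sections F ⟨hF, hft⟩ (U x).2
  haveI := Groth.L20.ModStalk.finite_sections _ hP (V x).2
  obtain ⟨a⟩ := Groth.L15.FittSheaf.exists_pullback_sections F f (U x).2 (V x).2 (e x)
  rw [Groth.L22.Ideals.comap_ideal f _ (U x) (V x) (e x), Groth.L15.FittSheaf.sheafIdeal_ideal F hft,
    Groth.L15.FittSheaf.sheafIdeal_ideal _ hP.2, Groth.L13.Fitting.ideal_congr a i,
    Groth.L13.Fitting.ideal_baseChange]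
  rfl

end Groth.Agent.S8872
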