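import Groth.Statements.S9365
import Groth.Agent.L07.SyntScheme

set_option autoImplicit false
set_option linter.style.haveILetI false
universe u
open Synt

namespace Groth.Agent.S9365

open AlgebraicGeometry CategoryTheory in
/-- If f : X → S is flat, locally of finite presentation, and every fibre X_s → Spec κ(s) is syntomic
(X_s is a local complete intersection over κ(s)), then f is syntomic. -/
theorem result {X S : Scheme.{u}} (f : X ⟶ S) [Flat f] [LocallyOfFinitePresentation f]
    (hfib : ∀ s : S, Synt.IsSyntomicMor (f.fiberToSpecResidueField s)) :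
    Synt.IsSyntomicMor f := by
  refine (Groth.L07.SyntScheme.isSyntomicMor_iff f).mpr ⟨inferInstance, inferInstance, fun x => ?_⟩
  obtain ⟨-, -, hCI⟩ := (Groth.L07.SyntScheme.isSyntomicMor_iff _).mp (hfib (f x))
  have hsq : IsPullback (f.fiberι (f x)) (f.fiberToSpecResidueField (f x)) f (S.fromSpecResidueField (f x)) :=
    IsPullback.of_hasPullback _ _
  have := (Groth.L07.CIBaseChange.isCI_fiberStalk_baseChange f hsq (f.asFiber x)).mp (hCI _)
  rwa [f.fiberι_asFiber x] at this

end Groth.Agent.S9365
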