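import Groth.Statements.S12722
import Groth.Agent.L12.PSSmooth


set_option autoImplicit false
universe u v
open CategoryTheory
open ArtFun

namespace Groth.Agent.S12722

/-- (1) ⇔ (5): let Λ be a complete local Noetherian ring with residue field k. For a complete local
Noetherian Λ-algebra R with residue field k, the functor h_R on Artinian local Λ-algebras with
residue field k is smooth if and only if R is isomorphic over Λ to a power series ring Λ[[x₁, …,
xₙ]] for some n. -/
theorem result {Λ : Type u} {k : Type u} [CommRing Λ] [Field k] [Algebra Λ k]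
    [IsNoetherianRing Λ] [Module.Finite Λ k]
    [IsLocalRing Λ] [IsAdicComplete (IsLocalRing.maximalIdeal Λ) Λ]
    (hk : Function.Surjective (algebraMap Λ k)) (R : ArtFun.CRing Λ k) :
    ArtFun.IsSmoothFunctor (ArtFun.hR R.carrier R.res) ↔
      ∃ n : ℕ, Nonempty (R.carrier ≃ₐ[Λ] MvPowerSeries (Fin n) Λ) := by
  let L : ArtFun.CRing Λ k := { carrier := Λ, res := Algebra.ofId Λ k, res_surjective := hk, isAdicComplete := inferInstance }
  have hg : R.res.comp (Algebra.ofId Λ R.carrier) = L.res := AlgHom.ext fun l => R.res.commutes l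
  have huniq : ∀ (A : ArtFun.Art Λ k) (x y : ArtFun.HomSet L.carrier L.res A), x = y := fun A x y =>
    Subtype.ext (AlgHom.ext fun l => (x.1.commutes l).trans (y.1.commutes l).symm)
  have key : ArtFun.IsSmoothFunctor (ArtFun.hR R.carrier R.res) ↔
      ArtFun.IsVersal ((ArtFun.Family.self L.carrier L.res).along (Algebra.ofId Λ R.carrier) hg) := by
    constructor
    · intro h B A μ hμ φ y _
      obtain ⟨(ψ : ArtFun.HomSet R.carrier R.res B), (hψ : ArtFun.HomSet.map μ ψ = φ)⟩ := h μ hμ φ
      exact ⟨ψ, hψ, huniq B _ _⟩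
    · intro h B A μ hμ φ
      obtain ⟨ψ, hψ, -⟩ := h μ hμ φ (⟨Algebra.ofId Λ B, AlgHom.ext fun l => B.res.commutes l⟩ :
        ArtFun.HomSet L.carrier L.res B) (huniq A _ _)
      exact ⟨ψ, hψ⟩
  rw [key]
  constructor
  · intro hv
    obtain ⟨n, e, -, heC⟩ := Groth.L12.exists_psEquiv_of_versal L R _ hg hv
    exact ⟨n, ⟨e.symm⟩⟩
  · rintro ⟨n, ⟨e⟩⟩
    exact Groth.L12.versal_of_psEquiv hg (σ := Fin n) e.symm (AlgHom.ext fun l => e.symm.commutes l)
end Groth.Agent.S12722
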