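import Groth.Statements.S2461
import Groth.Agent.L06.FormSmoothAdic
import Groth.Agent.L06.IAdic

set_option autoImplicit false
set_option maxSynthPendingDepth 3
set_option linter.style.haveILetI false
universe u
open EGA41

namespace Groth.Agent.S2461

/-- Let A carry the 𝔞-adic topology and let B be a Noetherian A-algebra with the 𝔟-adic topology. Then B
is formally smooth over A if and only if the 𝔟-adic completion of B, with the adic topology of the
extended ideal, is formally smooth over A. -/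
theorem result {A B : Type u} [CommRing A] (𝔞 : Ideal A) [CommRing B] [IsNoetherianRing B] [Algebra A B] (𝔟 : Ideal B) :
    EGA41.IsFormallySmoothAdic A 𝔞 B 𝔟 ↔
      EGA41.IsFormallySmoothAdic A 𝔞 (AdicCompletion 𝔟 B) (𝔟.map (algebraMap B (AdicCompletion 𝔟 B))) := by
  constructor
  · intro h C _ _ J hJ ha u ⟨k, hk⟩
    obtain ⟨n, hn⟩ := hJ
    obtain ⟨v, hv⟩ := h C J ⟨n, hn⟩ ha (u.comp (IsScalarTower.toAlgHom A B _)) ⟨k, fun x hx => hk _ (by
      rw [← Ideal.map_pow]; exact Ideal.mem_map_of_mem _ hx)⟩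
    have hm : ∀ x ∈ 𝔟 ^ (k * n), v x = 0 := Groth.L06.FormSmoothAdic.kills_lift hn v fun x hx =>
      (DFunLike.congr_fun hv x).trans (hk _ (by rw [← Ideal.map_pow]; exact Ideal.mem_map_of_mem _ hx))
    let φ := Ideal.Quotient.liftₐ (𝔟 ^ (k * n + k)) v fun x hx => hm x (Ideal.pow_le_pow_right (Nat.le_add_right _ _) hx)
    refine ⟨φ.comp
      ((AdicCompletion.evalₐ 𝔟 (k * n + k)).restrictScalars A), AlgHom.ext fun x => ?_⟩
    obtain ⟨a, ha⟩ := Groth.L06.IAdic.exists_approx 𝔟 (k * n + k) x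
    have h1 : u (x - algebraMap B _ a) = 0 := hk _ (Ideal.pow_le_pow_right (Nat.le_add_left _ _) (by
      rw [← Ideal.map_pow]; exact ha))
    have h2 : AdicCompletion.evalₐ 𝔟 (k * n + k) x = Ideal.Quotient.mk _ a := by
      have h3 := (Groth.L06.IAdic.mem_map_pow_iff 𝔟 _ _).mp ha
      rw [map_sub, AlgHom.commutes, sub_eq_zero] at h3
      exact h3
    rw [map_sub, sub_eq_zero] at h1
    show Ideal.Quotient.mk J (φ (AdicCompletion.evalₐ 𝔟 (k * n + k) x)) = u x
    rw [h2, h1]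
    exact DFunLike.congr_fun hv a
  · intro h C _ _ J hJ ha u ⟨k, hk⟩
    obtain ⟨v, hv⟩ := h C J hJ ha ((Ideal.Quotient.liftₐ (𝔟 ^ k) u hk).comp ((AdicCompletion.evalₐ 𝔟 k).restrictScalars A))
      ⟨k, fun x hx => by
        rw [← Ideal.map_pow] at hx
        show Ideal.Quotient.liftₐ (𝔟 ^ k) u hk (AdicCompletion.evalₐ 𝔟 k x) = 0
        rw [(Groth.L06.IAdic.mem_map_pow_iff 𝔟 k x).mp hx, map_zero]⟩
    refine ⟨v.comp (IsScalarTower.toAlgHom A B _), AlgHom.ext fun b => (DFunLike.congr_fun hv _).trans ?_⟩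
    show Ideal.Quotient.liftₐ (𝔟 ^ k) u hk (AdicCompletion.evalₐ 𝔟 k (algebraMap B _ b)) = u b
    rw [AlgHom.commutes]
    rfl

end Groth.Agent.S2461
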