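import Groth.Statements.S4533
import Groth.Agent.L06.CohenLiftings

set_option autoImplicit false
set_option maxSynthPendingDepth 3
set_option linter.style.haveILetI false
universe u
open EGA41

namespace Groth.Agent.S4533

/-- Let A carry the 𝔞-adic topology and let B = A[[T_1, …, T_n]] carry the product topology, i.e. the
adic topology of the ideal 𝔞B + (T_1, …, T_n) (the kernel of the constant-coefficient map added to
the extension of 𝔞). Then B is a formally smooth A-algebra for these topologies. (The published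
statement allows any linearly topologized base ring and any set of indeterminates with the product
topology; this row takes an adic base and finitely many indeterminates, where the product topology
is adic.) -/
theorem result (A : Type u) [CommRing A] (𝔞 : Ideal A) (n : ℕ) :
    EGA41.IsFormallySmoothAdic A 𝔞 (MvPowerSeries (Fin n) A)
      (𝔞.map (MvPowerSeries.C : A →+* MvPowerSeries (Fin n) A) ⊔
        RingHom.ker (MvPowerSeries.constantCoeff : MvPowerSeries (Fin n) A →+* A)) := by
  classical
  intro C _ _ J hJ _ u hu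
  obtain ⟨k, hk⟩ := hu
  obtain ⟨e, he⟩ := hJ
  let V := Groth.L01.PowSerReg.varIdeal A n
  have hV : V ≤ 𝔞.map (MvPowerSeries.C : A →+* MvPowerSeries (Fin n) A) ⊔
      RingHom.ker (MvPowerSeries.constantCoeff : MvPowerSeries (Fin n) A →+* A) :=
    le_sup_of_le_right fun f hf => Groth.L01.PowSerReg.constantCoeff_eq_zero_of_mem hf
  choose t ht using fun i => Ideal.Quotient.mk_surjective (u (MvPowerSeries.X i))
  let I : Ideal C := Ideal.span (Set.range t)
  obtain ⟨N, hN⟩ : ∃ N, I ^ N = ⊥ := by
    have hnil : ∀ i, IsNilpotent (t i) := fun i => by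
      refine ⟨k * e, ?_⟩
      have h1 : t i ^ k ∈ J := by
        rw [← Ideal.Quotient.eq_zero_iff_mem, map_pow, ht, ← map_pow]
        exact hk _ (Ideal.pow_mem_pow (hV (Ideal.subset_span ⟨i, rfl⟩)) k)
      have := Ideal.pow_mem_pow h1 e
      rw [he, Submodule.zero_eq_bot, Ideal.mem_bot, ← pow_mul] at this
      exact this
    obtain ⟨N, hN⟩ := (Ideal.FG.isNilpotent_iff_le_nilradical (I := I) (Submodule.fg_span (Set.finite_range t))).mpr
      (Ideal.span_le.mpr fun _ ⟨i, hi⟩ => hi ▸ hnil i)
    exact ⟨N, hN.trans Submodule.zero_eq_bot⟩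
  haveI := Groth.L06.CohenLiftings.isAdicComplete_of_pow_eq_bot I hN
  obtain ⟨v, hv⟩ := Groth.L12.exists_evalPS (R := A) I t (fun i => Ideal.subset_span ⟨i, rfl⟩)
  refine ⟨v, AlgHom.ext fun f => ?_⟩
  let w : MvPowerSeries (Fin n) A →ₐ[A] C ⧸ J := (Ideal.Quotient.mkₐ A J).comp v
  let K : Subalgebra A (MvPowerSeries (Fin n) A) := AlgHom.equalizer w u
  have hX : ∀ i, MvPowerSeries.X i ∈ K := fun i => by
    show Ideal.Quotient.mk J (v (MvPowerSeries.X i)) = u (MvPowerSeries.X i)
    rw [hv, ht]
  have happ : ∀ (M : ℕ) (g : MvPowerSeries (Fin n) A), ∃ q ∈ K, g - q ∈ V ^ M := by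
    intro M
    induction M with
    | zero => exact fun g => ⟨0, zero_mem _, by simp⟩
    | succ M ih =>
      intro g
      have h1 := Groth.L01.PowSerReg.mem_pow_of_order 1 (g - MvPowerSeries.C (MvPowerSeries.constantCoeff g))
        (by exact_mod_cast MvPowerSeries.one_le_order_iff_constCoeff_eq_zero.mpr (by simp))
      rw [pow_one] at h1
      obtain ⟨c, hc⟩ := Ideal.mem_span_range_iff_exists_fun.mp h1
      choose q hq hqc using fun i => ih (c i)
      refine ⟨algebraMap A _ (MvPowerSeries.constantCoeff g) + ∑ i, q i * MvPowerSeries.X i,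
        add_mem (K.algebraMap_mem _) (sum_mem fun i _ => mul_mem (hq i) (hX i)), ?_⟩
      rw [← sub_sub, show algebraMap A (MvPowerSeries (Fin n) A) (MvPowerSeries.constantCoeff g) =
        MvPowerSeries.C (MvPowerSeries.constantCoeff g) from rfl, ← hc, ← Finset.sum_sub_distrib, pow_succ]
      refine Ideal.sum_mem _ fun i _ => ?_
      rw [← sub_mul]
      exact Ideal.mul_mem_mul (hqc i) (Ideal.subset_span ⟨i, rfl⟩)
  obtain ⟨q, hq, hd⟩ := happ (N + k) f
  have h1 : v (f - q) = 0 := by
    have hle : V.map v.toRingHom ≤ I := by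
      rw [show V = Ideal.span _ from rfl, Ideal.map_span, Ideal.span_le]
      rintro _ ⟨_, ⟨i, rfl⟩, rfl⟩
      exact (hv i).symm ▸ Ideal.subset_span ⟨i, rfl⟩
    have h2 := Ideal.pow_right_mono hle N (by rw [← Ideal.map_pow]; exact Ideal.mem_map_of_mem _ (Ideal.pow_le_pow_right (Nat.le_add_right N k) hd))
    rw [hN, Ideal.mem_bot] at h2
    exact h2
  have h3 : u (f - q) = 0 := hk _ (Ideal.pow_right_mono hV k (Ideal.pow_le_pow_right (Nat.le_add_left k N) hd))
  have h4 : w (f - q) = u (f - q) := by
    rw [h3]; show Ideal.Quotient.mk J (v (f - q)) = 0; rw [h1, map_zero]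
  rw [map_sub, map_sub] at h4
  have h5 : w q = u q := hq
  show w f = u f
  rw [h5] at h4
  exact sub_left_inj.mp h4

end Groth.Agent.S4533
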