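import Groth.Statements.S4996
import Groth.Agent.L05.Smooth.GeomRegular
import Mathlib.RingTheory.Smooth.NoetherianDescent
import Mathlib.RingTheory.Smooth.Flat

set_option autoImplicit false
universe u
open Unram17

namespace Groth.Agent.S4996

open TensorProduct in
/-- Let B be a finitely presented algebra over a commutative ring A. Then B is smooth over A if and only
if B is flat over A and every fibre ring κ(p) ⊗_A B, p a prime of A, is geometrically regular over
the residue field κ(p), i.e. stays a regular ring after base change to any finite extension of κ(p). -/
theorem result (A B : Type u) [CommRing A] [CommRing B]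
    [Algebra A B] [Algebra.FinitePresentation A B] :
    Algebra.Smooth A B ↔
      Module.Flat A B ∧ ∀ (p : Ideal A) [p.IsPrime], CAlg.IsGeometricallyRegular p.ResidueField (p.Fiber B) := by
  constructor
  · intro h
    exact ⟨Algebra.Smooth.flat A B, fun p _ => Groth.L05.Smooth.geometricallyRegular_of_smooth p.ResidueField (p.Fiber B)⟩
  · rintro ⟨hflat, h⟩
    haveI := hflat
    exact Algebra.Smooth.of_formallySmooth_fiber (R := A) (S := B) fun p _ =>
      (Groth.L05.Smooth.smooth_of_geometricallyRegular p.ResidueField (p.Fiber B) (h p)).formallySmooth

end Groth.Agent.S4996
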