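import Groth.Statements.S9812
import Mathlib.RingTheory.LocalRing.Quotient
import Mathlib.RingTheory.LocalRing.RingHom.Basic

set_option autoImplicit false
universe u
open CAlg2

namespace Groth.Agent.S9812

/-- At the level of the local ring: an integrally closed local domain is geometrically unibranch.
Consequently a normal scheme is geometrically unibranch. -/
theorem result (A : Type u) [CommRing A] [IsLocalRing A]
    [IsDomain A] [IsIntegrallyClosed A] : CAlg2.IsGeomUnibranch A := by
  classical
  have hn : nilradical A = ⊥ := nilradical_eq_zero A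
  let e : CAlg2.red A ≃+* A := (Ideal.quotEquivOfEq hn).trans (RingEquiv.quotientBot A)
  haveI : IsDomain (CAlg2.red A) := MulEquiv.isDomain A e.toMulEquiv
  haveI : IsIntegrallyClosed (CAlg2.red A) := IsIntegrallyClosed.of_equiv e.symm
  haveI : IsLocalRing (CAlg2.red A) := IsLocalRing.of_surjective' (Ideal.Quotient.mk _) Ideal.Quotient.mk_surjective
  have hbot : integralClosure (CAlg2.red A) (FractionRing (CAlg2.red A)) = ⊥ :=
    IsIntegrallyClosed.integralClosure_eq_bot _ _
  have hsurj : Function.Surjective (algebraMap (CAlg2.red A) (CAlg2.normRed A)) := by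
    rintro ⟨x, hx⟩
    rw [hbot, Algebra.mem_bot] at hx
    obtain ⟨a, ha⟩ := hx
    exact ⟨a, Subtype.ext ha⟩
  haveI : Nontrivial (CAlg2.normRed A) := inferInstance
  refine ⟨⟨inferInstance, IsLocalRing.of_surjective' _ hsurj⟩, fun m' _ x => ⟨0, ?_⟩⟩
  obtain ⟨y, rfl⟩ := Ideal.Quotient.mk_surjective x
  obtain ⟨a, rfl⟩ := hsurj y
  obtain ⟨a, rfl⟩ := Ideal.Quotient.mk_surjective a
  rw [pow_zero, pow_one]
  exact ⟨a, rfl⟩

end Groth.Agent.S9812
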