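import Groth.Statements.S9268
import Mathlib.RingTheory.Smooth.Local
import Mathlib.RingTheory.Smooth.Locus
import Mathlib.RingTheory.Kaehler.Polynomial
import Mathlib.RingTheory.Filtration
import Mathlib.Tactic.LinearCombination
import Mathlib.RingTheory.Ideal.Quotient.Nilpotent
import Mathlib.RingTheory.Etale.Basic
import Mathlib.RingTheory.LocalRing.ResidueField.Ideal
import Mathlib.RingTheory.Localization.AtPrime.Basic

set_option autoImplicit false
universe u
open CAlg

namespace Groth.Agent.S9268
open IsLocalRing TensorProduct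

theorem formallySmooth_of_adic (R Q S : Type u) [CommRing R] [CommRing Q] [CommRing S] [Algebra R Q] [Algebra R S]
    [Algebra Q S] [IsScalarTower R Q S] [IsLocalRing Q] [IsNoetherianRing Q] [IsLocalRing S]
    [Algebra.FormallySmooth R Q] [Module.Free Q Ω[Q⁄R]] [Module.Finite Q Ω[Q⁄R]]
    (h₁ : Function.Surjective (algebraMap Q S)) (hfs : CAlgX.IsAdicFormallySmooth R S (maximalIdeal S)) :
    Algebra.FormallySmooth R S := by
  let K := ResidueField S
  have hQK : Function.Surjective (algebraMap Q K) :=
    (IsLocalRing.residue_surjective (R := S)).comp h₁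
  have hm : maximalIdeal Q = RingHom.ker (algebraMap Q K) :=
    (IsLocalRing.eq_maximalIdeal (RingHom.ker_isMaximal_of_surjective _ hQK)).symm
  let m := maximalIdeal Q
  let π : Q →ₐ[R] S := IsScalarTower.toAlgHom R Q S
  let I : Ideal Q := RingHom.ker (algebraMap Q S)
  have hπ : Function.Surjective π := h₁
  have hIm : I ≤ m := le_maximalIdeal (RingHom.ker_ne_top _)
  have hmS : ∀ N : ℕ, maximalIdeal S ^ N = (m ^ N).map (algebraMap Q S) := by
    intro N
    rw [Ideal.map_pow]
    congr 1
    refine (eq_maximalIdeal ?_).symm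
    refine (Ideal.map_eq_top_or_isMaximal_of_surjective _ h₁ (maximalIdeal.isMaximal Q)).resolve_left fun e => ?_
    have := congrArg (Ideal.comap (algebraMap Q S)) e
    rw [Ideal.comap_map_of_surjective _ h₁, Ideal.comap_top, ← RingHom.ker_eq_comap_bot] at this
    exact (maximalIdeal.isMaximal Q).ne_top (top_le_iff.1 (this.ge.trans (sup_le le_rfl hIm)))
  rw [Algebra.FormallySmooth.iff_injective_cotangentComplexBaseChange_residueField (R := R) Q h₁
    (IsNoetherian.noetherian _), injective_iff_map_eq_zero]
  intro z hz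
  obtain ⟨j, rfl⟩ := TensorProduct.mk_surjective Q I K hQK z
  have hD : (1 : K) ⊗ₜ[Q] KaehlerDifferential.D R Q (j : Q) = 0 := by
    rw [TensorProduct.mk_apply, KaehlerDifferential.cotangentComplexBaseChange_tmul, one_smul] at hz
    exact hz
  have key : ∀ N : ℕ, (j : Q) ∈ m * I ⊔ m ^ N := by
    intro N
    let 𝔞 : Ideal Q := m * I ⊔ m ^ N
    let J : Ideal (Q ⧸ 𝔞) := I.map (Ideal.Quotient.mk 𝔞)
    have hJM : ∀ r ∈ m, ∀ x ∈ J, Ideal.Quotient.mk 𝔞 r * x = 0 := fun r hr x hx => by
      obtain ⟨y, hy, rfl⟩ := (Ideal.mem_map_iff_of_surjective _ Ideal.Quotient.mk_surjective).1 hx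
      rw [← map_mul, Ideal.Quotient.eq_zero_iff_mem]
      exact Ideal.mem_sup_left (Ideal.mul_mem_mul hr hy)
    have hJ2 : J ^ 2 = ⊥ := by
      refine eq_bot_iff.2 ((pow_two J).le.trans (Ideal.mul_le.2 fun a ha b hb => ?_))
      obtain ⟨y, hy, rfl⟩ := (Ideal.mem_map_iff_of_surjective _ Ideal.Quotient.mk_surjective).1 ha
      rw [Submodule.mem_bot]
      exact hJM y (hIm hy) b hb
    let F : Q →ₐ[R] (Q ⧸ 𝔞) ⧸ J := (Ideal.Quotient.mkₐ R J).comp (Ideal.Quotient.mkₐ R 𝔞)
    have hker : ∀ x ∈ RingHom.ker π, F x = 0 := fun x hx =>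
      Ideal.Quotient.eq_zero_iff_mem.2 (Ideal.mem_map_of_mem _ (show x ∈ I from hx))
    let ψ : S →ₐ[R] (Q ⧸ 𝔞) ⧸ J :=
      (Ideal.Quotient.liftₐ (RingHom.ker π) F hker).comp
        (Ideal.quotientKerAlgEquivOfSurjective hπ).symm.toAlgHom
    have hψ : ∀ x, ψ (π x) = F x := fun x => by
      show Ideal.Quotient.liftₐ _ F hker ((Ideal.quotientKerAlgEquivOfSurjective hπ).symm (π x)) = _
      rw [show (Ideal.quotientKerAlgEquivOfSurjective hπ).symm (π x) = Ideal.Quotient.mk _ x from
        (AlgEquiv.symm_apply_eq _).2 (by simp)]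
      rfl
    obtain ⟨χ, hχ⟩ := hfs (Q ⧸ 𝔞) J hJ2 ψ ⟨N, fun b hb => by
      rw [hmS] at hb
      obtain ⟨y, hy, rfl⟩ := (Ideal.mem_map_iff_of_surjective _ h₁).1 hb
      refine (hψ y).trans ?_
      show Ideal.Quotient.mk J (Ideal.Quotient.mk 𝔞 y) = 0
      rw [Ideal.Quotient.eq_zero_iff_mem.2 (Ideal.mem_sup_right hy : y ∈ 𝔞), map_zero]⟩
    let d : Q → Q ⧸ 𝔞 := fun x => Ideal.Quotient.mk 𝔞 x - χ (π x)
    have hdJ : ∀ x, d x ∈ J := fun x => by
      rw [← Ideal.Quotient.eq_zero_iff_mem, map_sub, sub_eq_zero]
      exact ((AlgHom.congr_fun hχ (π x)).trans (hψ x)).symm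
    let M : Submodule Q (Q ⧸ 𝔞) := J.restrictScalars Q
    let δ : Derivation R Q M := Derivation.mk'
      { toFun := fun x => ⟨d x, hdJ x⟩
        map_add' := fun x w => Subtype.ext (by
          show d (x + w) = d x + d w
          simp only [d, map_add]; ring)
        map_smul' := fun c x => Subtype.ext (by
          show d (c • x) = c • d x
          simp only [d, map_smul, smul_sub]
          rw [← Ideal.Quotient.mkₐ_eq_mk R, map_smul]) }
      fun x w => Subtype.ext (by
        show d (x * w) = x • d w + w • d x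
        have h0 : d x * d w = 0 := by
          have := Ideal.mul_mem_mul (hdJ x) (hdJ w)
          rwa [show J * J = ⊥ from (pow_two J).symm.trans hJ2, Submodule.mem_bot] at this
        have hs : ∀ (a : Q) (b : Q ⧸ 𝔞), a • b = Ideal.Quotient.mk 𝔞 a * b := fun a b => Algebra.smul_def a b
        rw [hs, hs]
        simp only [d, map_mul] at h0 ⊢
        linear_combination -h0)
    let L := δ.liftKaehlerDifferential
    have hkill : ∀ a b : Q, algebraMap Q K a = algebraMap Q K b → ∀ v : M, a • v = b • v := fun a b h v => by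
      refine Subtype.ext ?_
      show a • (v : Q ⧸ 𝔞) = b • (v : Q ⧸ 𝔞)
      rw [← sub_eq_zero, ← sub_smul, Algebra.smul_def]
      refine hJM _ ?_ _ v.2
      rw [show m = RingHom.ker (algebraMap Q K) from hm, RingHom.mem_ker, map_sub, h, sub_self]
    let σ : K → Q := Function.surjInv hQK
    have hσ : ∀ c, algebraMap Q K (σ c) = c := Function.surjInv_eq hQK
    let Φ : K ⊗[Q] Ω[Q⁄R] →+ M := TensorProduct.liftAddHom
      (AddMonoidHom.mk' (fun c : K => AddMonoidHom.mk' (fun w => σ c • L w)
        (fun a b => by rw [map_add, smul_add])) (fun a b => by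
          ext1 w
          show σ (a + b) • L w = σ a • L w + σ b • L w
          rw [← add_smul]
          exact hkill _ _ (by rw [map_add, hσ, hσ, hσ]) _))
      (fun q c w => by
        show σ (q • c) • L w = σ c • L (q • w)
        rw [L.map_smul, smul_smul]
        exact hkill _ _ (by rw [map_mul, hσ, hσ, Algebra.smul_def, mul_comm]) _)
    have hΦ : Φ ((1 : K) ⊗ₜ[Q] KaehlerDifferential.D R Q (j : Q)) = δ j := by
      show σ 1 • L (KaehlerDifferential.D R Q (j : Q)) = δ j
      rw [Derivation.liftKaehlerDifferential_comp_D, hkill (σ 1) 1 (by rw [hσ, map_one]), one_smul]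
    rw [hD, map_zero] at hΦ
    have h1 : d j = 0 := (congrArg Subtype.val hΦ).symm
    have h2 : π (j : Q) = 0 := j.2
    simp only [d, h2, map_zero, sub_zero] at h1
    exact Ideal.Quotient.eq_zero_iff_mem.1 h1
  have hmem : (j : Q) ∈ m * I := by
    have h : Submodule.mkQ (m * I) (j : Q) ∈ (⨅ i : ℕ, m ^ i • ⊤ : Submodule Q (Q ⧸ m * I)) := by
      refine (Submodule.mem_iInf _).2 fun N => ?_
      obtain ⟨a, ha, b, hb, hab⟩ := Submodule.mem_sup.1 (key N)
      rw [← hab, map_add, (Submodule.Quotient.mk_eq_zero _).2 ha |> fun e => (show Submodule.mkQ (m * I) a = 0 from e),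
        zero_add, show Submodule.mkQ (m * I) b = b • Submodule.mkQ (m * I) 1 from by rw [← map_smul, smul_eq_mul, mul_one]]
      exact Submodule.smul_mem_smul hb trivial
    rw [Ideal.iInf_pow_smul_eq_bot_of_isLocalRing _ (maximalIdeal.isMaximal Q).ne_top, Submodule.mem_bot] at h
    exact (Submodule.Quotient.mk_eq_zero _).1 h
  rw [TensorProduct.mk_apply]
  obtain ⟨j', hj', hj'e⟩ : ∃ j' ∈ m • (⊤ : Submodule Q ↥I), Submodule.subtype I j' = (j : Q) := by
    rw [← Submodule.mem_map, Submodule.map_smul'', Submodule.map_subtype_top, smul_eq_mul]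
    exact hmem
  obtain rfl : j' = j := Subtype.ext hj'e
  refine Submodule.smul_induction_on (p := fun v => (1 : K) ⊗ₜ[Q] v = 0) hj' (fun r hr v _ => ?_) ?_
  · rw [← TensorProduct.smul_tmul, Algebra.smul_def,
      show algebraMap Q K r = 0 from (hm ▸ hr : r ∈ RingHom.ker (algebraMap Q K)), zero_mul, TensorProduct.zero_tmul]
  · intro a b ha hb
    rw [TensorProduct.tmul_add, ha, hb, add_zero]

end Groth.Agent.S9268

open TensorProduct

namespace Groth.Agent.S9268

/-- Suppose A is a Noetherian ring and B is a finitely generated A-algebra, and consider a prime q of B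
lying over p in A. Then A → B is smooth at q (meaning some g not in q makes A → B_g smooth) exactly
when the induced map A_p → B_q is formally smooth with respect to the adic topology defined by the
maximal ideal of B_q. -/
theorem result (A B : Type u) [CommRing A] [IsNoetherianRing A]
    [CommRing B] [Algebra A B] [Algebra.FiniteType A B] (q : Ideal B) [q.IsPrime] :
    (∃ g : B, g ∉ q ∧ Algebra.Smooth A (Localization.Away g)) ↔
      letI := (Localization.localRingHom (Ideal.comap (algebraMap A B) q) q (algebraMap A B) rfl).toAlgebra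
      CAlgX.IsAdicFormallySmooth (Localization.AtPrime (Ideal.comap (algebraMap A B) q))
        (Localization.AtPrime q) (IsLocalRing.maximalIdeal (Localization.AtPrime q)) := by
  let p := Ideal.comap (algebraMap A B) q
  letI := (Localization.localRingHom p q (algebraMap A B) rfl).toAlgebra
  haveI : IsScalarTower A (Localization.AtPrime p) (Localization.AtPrime q) :=
    IsScalarTower.of_algebraMap_eq fun a => by
      rw [RingHom.algebraMap_toAlgebra, Localization.localRingHom_to_map,
        IsScalarTower.algebraMap_apply A B (Localization.AtPrime q)]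
  haveI : Algebra.FinitePresentation A B := Algebra.FinitePresentation.of_finiteType.mp inferInstance
  constructor
  · rintro ⟨g, hg, hsm⟩
    haveI := hsm.formallySmooth
    have hloc := (Algebra.basicOpen_subset_smoothLocus_iff (R := A) (A := B) (f := g)).2 inferInstance
    haveI : Algebra.FormallySmooth A (Localization.AtPrime q) :=
      hloc (show (⟨q, ‹_›⟩ : PrimeSpectrum B) ∈ PrimeSpectrum.basicOpen g from hg)
    haveI : Algebra.FormallySmooth (Localization.AtPrime p) (Localization.AtPrime q) :=
      Algebra.FormallySmooth.localization_base p.primeCompl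
    intro C _ _ J hJ ψ _
    exact Algebra.FormallySmooth.comp_surjective _ _ J hJ ψ
  · intro hfs
    have hfsA : CAlgX.IsAdicFormallySmooth A (Localization.AtPrime q)
        (IsLocalRing.maximalIdeal (Localization.AtPrime q)) := by
      intro C _ _ J hJ ψ hψ
      have hu : ∀ s : p.primeCompl, IsUnit (algebraMap A C s) := fun s => by
        rw [← IsNilpotent.isUnit_quotient_mk_iff (I := J) ⟨2, hJ⟩, Ideal.Quotient.mk_algebraMap,
          ← ψ.commutes, IsScalarTower.algebraMap_apply A (Localization.AtPrime p) (Localization.AtPrime q)]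
        exact ((IsLocalization.map_units (Localization.AtPrime p) s).map _).map ψ
      letI : Algebra (Localization.AtPrime p) C := (IsLocalization.lift hu).toAlgebra
      haveI : IsScalarTower A (Localization.AtPrime p) C :=
        IsScalarTower.of_algebraMap_eq fun a => (IsLocalization.lift_eq hu a).symm
      let ψ' : Localization.AtPrime q →ₐ[Localization.AtPrime p] C ⧸ J :=
        { (ψ : Localization.AtPrime q →+* C ⧸ J) with
          commutes' := fun r => RingHom.congr_fun (IsLocalization.ringHom_ext p.primeCompl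
            (j := (ψ : Localization.AtPrime q →+* C ⧸ J).comp (algebraMap (Localization.AtPrime p) (Localization.AtPrime q)))
            (k := algebraMap (Localization.AtPrime p) (C ⧸ J))
            (RingHom.ext fun a => by
              show ψ (algebraMap _ (Localization.AtPrime q) (algebraMap A (Localization.AtPrime p) a)) =
                algebraMap (Localization.AtPrime p) (C ⧸ J) (algebraMap A (Localization.AtPrime p) a)
              rw [← IsScalarTower.algebraMap_apply, ψ.commutes, ← IsScalarTower.algebraMap_apply])) r }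
      obtain ⟨χ, hχ⟩ := hfs C J hJ ψ' hψ
      exact ⟨χ.restrictScalars A, AlgHom.ext fun x => AlgHom.congr_fun hχ x⟩
    obtain ⟨n, φ, hφ⟩ := Algebra.FiniteType.iff_quotient_mvPolynomial''.mp ‹Algebra.FiniteType A B›
    let p' := q.comap φ.toRingHom
    haveI : p'.IsPrime := Ideal.IsPrime.comap _
    let Q := Localization.AtPrime p'
    let f : Q →+* Localization.AtPrime q := Localization.localRingHom p' q φ.toRingHom rfl
    letI := f.toAlgebra
    haveI : IsScalarTower A Q (Localization.AtPrime q) := IsScalarTower.of_algebraMap_eq fun c => by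
      show _ = f (algebraMap A Q c)
      rw [IsScalarTower.algebraMap_apply A (MvPolynomial (Fin n) A) Q, Localization.localRingHom_to_map,
        IsScalarTower.algebraMap_apply A B (Localization.AtPrime q)]
      exact congrArg _ (φ.commutes c).symm
    haveI : Algebra.FormallyEtale (MvPolynomial (Fin n) A) Q := .of_isLocalization p'.primeCompl
    haveI : Algebra.FormallySmooth A Q := .comp _ (MvPolynomial (Fin n) A) _
    haveI : Module.Free Q Ω[Q⁄A] :=
      .of_equiv (KaehlerDifferential.tensorKaehlerEquivOfFormallyEtale A (MvPolynomial (Fin n) A) Q)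
    haveI : Module.Finite Q Ω[Q⁄A] :=
      .equiv (KaehlerDifferential.tensorKaehlerEquivOfFormallyEtale A (MvPolynomial (Fin n) A) Q)
    have h₁ : Function.Surjective f := by
      intro x
      obtain ⟨a, ⟨s, hs⟩, rfl⟩ := IsLocalization.exists_mk'_eq q.primeCompl x
      obtain ⟨a, rfl⟩ := hφ a
      obtain ⟨s, rfl⟩ := hφ s
      exact ⟨IsLocalization.mk' Q a (⟨s, hs⟩ : p'.primeCompl), Localization.localRingHom_mk' p' q _ rfl _ _⟩
    haveI : Algebra.IsSmoothAt A q := formallySmooth_of_adic A Q (Localization.AtPrime q) h₁ hfsA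
    exact Algebra.IsSmoothAt.exists_notMem_smooth A q

end Groth.Agent.S9268
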