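import Groth.Statements.S9782
import Groth.Agent.L23.BranchScheme

set_option autoImplicit false
set_option backward.isDefEq.respectTransparency.types false
universe u
open Brnch

namespace Groth.Agent.S9782

open AlgebraicGeometry CategoryTheory Limits in
/-- The local ring of X at x is geometrically unibranch exactly when, for each étale morphism g : U ⟶ X
and each point u over x, the point u lies on a single irreducible component of U. -/
theorem result (X : Scheme.{u}) (x : X) :
    CAlg2.IsGeomUnibranch ↑(X.presheaf.stalk x) ↔ ∀ (U : Scheme.{u}) (g : U ⟶ X) (u : U), Etale g → g u = x →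
      {Z : Set ↑U | Z ∈ irreducibleComponents ↑U ∧ u ∈ Z}.encard = 1 := by
  obtain ⟨h1, h2⟩ := Groth.L23.Branch.etale_nbhd_facts X x
  rw [← Groth.L23.Branch.numGeomBranches_eq_one_iff]
  refine ⟨fun h U g u hg hu => le_antisymm (le_of_le_of_eq (h1 U g u hg hu) h) ?_, fun h => ?_⟩
  · rw [Set.one_le_encard_iff_nonempty]
    exact ⟨irreducibleComponent u, irreducibleComponent_mem_irreducibleComponents u, mem_irreducibleComponent⟩
  · refine le_antisymm (ENat.forall_natCast_le_iff_le.1 fun m hm => ?_) ?_
    · obtain ⟨U, g, u, hg, hu, hle⟩ := h2 m hm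
      exact hle.trans_eq (h U g u hg hu)
    · exact le_of_eq_of_le (h X (𝟙 X) x inferInstance rfl).symm (h1 X (𝟙 X) x inferInstance rfl)

end Groth.Agent.S9782
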