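import Groth.Statements.S9295
import Groth.Agent.L06.GeomHom
import Groth.Agent.L19.FlatComp
import Mathlib.RingTheory.Flat.FaithfullyFlat.Algebra
import Groth.Agent.S9406

set_option autoImplicit false
universe u
open CAlg

open TensorProduct Groth.L06 Groth.L06.PropLoc Groth.L06.GeomFG

namespace Groth.Agent.S9295

/-- For ring maps A → B → C, if the composite A → C is a regular map and C is flat over B with every
prime of B lying under a prime of C (that is, B → C is faithfully flat), then A → B is a regular
map. -/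
theorem result (A B C : Type u) [CommRing A] [CommRing B] [CommRing C]
    [Algebra A B] [Algebra B C] [Algebra A C] [IsScalarTower A B C]
    (hAC : CAlg.IsRegularHom A C) [Module.Flat B C]
    (hsurj : Function.Surjective (PrimeSpectrum.comap (algebraMap B C))) :
    CAlg.IsRegularHom A B := by
  haveI := hAC.1
  haveI : Module.FaithfullyFlat B C := Module.FaithfullyFlat.of_comap_surjective hsurj
  refine ⟨Groth.L06.FibreComp.flat_of_comp A B C, fun p _ => ?_⟩
  have key : ∀ (K : Type u) [Field K] [Algebra p.ResidueField K], Module.Finite p.ResidueField K →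
      IsNoetherianRing (K ⊗[p.ResidueField] p.Fiber B) ∧ IsRegularRing (K ⊗[p.ResidueField] p.Fiber B) := by
    intro K _ _ hK
    haveI := hK
    haveI := (hAC.2 p).1
    letI : Algebra A K := ((algebraMap p.ResidueField K).comp (algebraMap A p.ResidueField)).toAlgebra
    haveI : IsScalarTower A p.ResidueField K := IsScalarTower.of_algebraMap_eq' rfl
    haveI : IsNoetherianRing (K ⊗[p.ResidueField] p.Fiber C) := isNoetherianRing_tensor p.ResidueField K _
    haveI : IsNoetherianRing ((B ⊗[A] K) ⊗[B] C) :=
      isNoetherianRing_of_ringEquiv (K ⊗[p.ResidueField] p.Fiber C) (Groth.L06.FibreComp.fibreEquiv (B := B) p K)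
    haveI : IsRegularRing ((B ⊗[A] K) ⊗[B] C) := loc_reg_iff.mp (loc_of_ringEquiv good_reg
      (Groth.L06.FibreComp.fibreEquiv (B := B) p K) (loc_reg_iff.mpr ((hAC.2 p).2 K hK)))
    haveI : IsNoetherianRing (B ⊗[A] K) := Groth.L19.isNoetherianRing_of_faithfullyFlat (B ⊗[A] K) ((B ⊗[A] K) ⊗[B] C)
    haveI : IsRegularRing (B ⊗[A] K) := Groth.Agent.S9406.result (B ⊗[A] K) ((B ⊗[A] K) ⊗[B] C)
    exact ⟨isNoetherianRing_of_ringEquiv _ (Groth.L06.FibreComp.fibreEquivBase (B := B) p K).symm,
      IsRegularRing.of_ringEquiv (Groth.L06.FibreComp.fibreEquivBase (B := B) p K).symm⟩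
  refine ⟨?_, fun K _ _ hK => (key K hK).2⟩
  haveI := (key p.ResidueField inferInstance).1
  exact isNoetherianRing_of_ringEquiv _ (Algebra.TensorProduct.lid p.ResidueField (p.Fiber B)).toRingEquiv

end Groth.Agent.S9295
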