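import Groth.Statements.S18844
import Groth.Agent.L15.TFCurve.Endo
import Mathlib.AlgebraicGeometry.Morphisms.FiniteType
-- import your own Groth.Agent.* helpers here

set_option autoImplicit false
universe u
open CategoryTheory CategoryTheory.Limits AlgebraicGeometry
open TFOne

namespace Groth.Agent.S18844
open Groth.L15.TFCurve CategoryTheory.Limits

/-- Let X be a proper, geometrically reduced scheme of pure dimension one over a field k whose
irreducible components (with their reduced structure) are geometrically integral over k, assume X is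
non-empty, and take a torsion-free sheaf I of rank one on X. Then I is simple over k (every
endomorphism of I is multiplication by a scalar) exactly when I is not decomposable, that is, when
there do not exist closed proper subcurves Y and Z of X (non-empty unions of irreducible components,
each different from X) together with the torsion-free quotients I_Y, I_Z of I on them (pinned by
their defining property) such that the canonical map I ⟶ I_Y ⊞ I_Z is an isomorphism. -/
theorem result (k : Type u) [Field k] (X : Scheme.{u}) [X.Over (Spec (CommRingCat.of k))] [IsProper (X ↘ Spec (CommRingCat.of k))] [IsReduced X] [GeometricallyReduced (X ↘ Spec (CommRingCat.of k))] (hpure : ∀ C ∈ irreducibleComponents (X : Type u), topologicalKrullDim C = 1) (hgi : ∀ (C : Set X) (hC : C ∈ irreducibleComponents (X : Type u)), GeometricallyIntegral (VecSt.subschι X C (isClosed_of_mem_irreducibleComponents C hC) ≫ (X ↘ Spec (CommRingCat.of k)))) [Nonempty X] (I : X.Modules) (hI : TFOne.IsTF1 X I) : TFOne.IsSimple X k (X ↘ Spec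 (CommRingCat.of k)) I ↔ ¬ ∃ (Y Z : Set X) (hY : IsClosed Y) (hZ : IsClosed Z) (GY GZ : X.Modules) (πY : I ⟶ GY) (πZ : I ⟶ GZ), VecSt.IsSubcurve X Y ∧ VecSt.IsSubcurve X Z ∧ Y ≠ Set.univ ∧ Z ≠ Set.univ ∧ TFOne.IsQuotOn X I Y GY πY ∧ TFOne.IsQuotOn X I Z GZ πZ ∧ IsIso (biprod.lift πY πZ) := by
  haveI : IsLocallyNoetherian X := LocallyOfFiniteType.isLocallyNoetherian (X ↘ Spec (CommRingCat.of k))
  constructor
  · rintro hs ⟨Y, Z, hY, hZ, GY, GZ, πY, πZ, hYs, hZs, -, -, hGY, hGZ, hiso⟩
    haveI := hiso
    haveI := hGY.1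
    haveI := hGZ.1
    let e : I ⟶ I := biprod.lift πY πZ ≫ (biprod.fst ≫ biprod.inl) ≫ inv (biprod.lift πY πZ)
    have he : e ≫ biprod.lift πY πZ = biprod.lift πY πZ ≫ biprod.fst ≫ biprod.inl := by
      simp only [e, Category.assoc, IsIso.inv_hom_id, Category.comp_id]
    have heY : e ≫ πY = πY := by
      have h := congrArg (fun t => t ≫ (biprod.fst : GY ⊞ GZ ⟶ GY)) he
      simpa using h
    have heZ : e ≫ πZ = 0 := by
      have h := congrArg (fun t => t ≫ (biprod.snd : GY ⊞ GZ ⟶ GZ)) he
      simpa using h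
    obtain ⟨c, hc⟩ : ∃ c : k, e = Formal.smulMod k I c := hs.2 e
    have none : ∀ {S : Set X} {G : X.Modules} {π : I ⟶ G}, VecSt.IsSubcurve X S → TFOne.IsQuotOn X I S G π → π ≠ 0 :=
      fun {S G π} hSs hG h => by
        obtain ⟨η, hη, hηS⟩ := Groth.L15.TFCurve.IsSubcurve.exists_genericPoint hSs
        obtain ⟨m, hm⟩ := exists_ne_zero hI hη
        exact hm (quot_injective hI hG hη hηS (by rw [h]; exact stalkF_map_zero η m))
    by_cases hc0 : c = 0
    · rw [hc, hc0, smulMod_zero, zero_comp] at heY
      exact none hYs hGY heY.symm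
    · haveI := isIso_smulMod (k := k) I hc0
      rw [hc] at heZ
      exact none hZs hGZ (zero_of_epi_comp _ heZ)
  · intro hno
    obtain ⟨η₀, hη₀, -⟩ := exists_genericPoint_specializes (Classical.arbitrary X)
    refine ⟨not_isZero_of_genericPoint hI hη₀, ?_⟩
    by_contra hall
    push Not at hall
    obtain ⟨φ, hφ⟩ := hall
    obtain ⟨e, he, η, η', hη, hη', h1, h0⟩ := exists_idempotent (k := k) hgi hI φ hφ
    obtain ⟨Y, hY, GY, πY, ιY, hYs, hYu, hGY, hπY, hιY⟩ := exists_summand hI e he hη hη' h1 h0
    have he' : (𝟙 I - e) ≫ (𝟙 I - e) = 𝟙 I - e := by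
      simp [Preadditive.sub_comp, Preadditive.comp_sub, he]
    have h1' : chi hI hη' (𝟙 I - e) = 1 := by
      have := map_sub (chi hI hη') (1 : CategoryTheory.End I) e
      rw [map_one, h0, sub_zero] at this
      exact this
    have h0' : chi hI hη (𝟙 I - e) = 0 := by
      have := map_sub (chi hI hη) (1 : CategoryTheory.End I) e
      rw [map_one, h1, sub_self] at this
      exact this
    obtain ⟨Z, hZ, GZ, πZ, ιZ, hZs, hZu, hGZ, hπZ, hιZ⟩ := exists_summand hI _ he' hη' hη h1' h0'
    haveI : Mono ιY := (IsSplitMono.mk' ⟨πY, hιY⟩).mono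
    haveI : Mono ιZ := (IsSplitMono.mk' ⟨πZ, hιZ⟩).mono
    have hYZ : ιY ≫ πZ = 0 := by
      rw [← cancel_mono ιZ, Category.assoc, hπZ, zero_comp, Preadditive.comp_sub, Category.comp_id, ← hπY, ← Category.assoc, hιY, Category.id_comp, sub_self]
    have hZY : ιZ ≫ πY = 0 := by
      rw [← cancel_mono ιY, Category.assoc, hπY, zero_comp,
        show e = 𝟙 I - (𝟙 I - e) from (sub_sub_cancel _ _).symm, Preadditive.comp_sub, Category.comp_id, ← hπZ,
        ← Category.assoc, hιZ, Category.id_comp, sub_self]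
    refine hno ⟨Y, Z, hY, hZ, GY, GZ, πY, πZ, hYs, hZs, hYu, hZu, hGY, hGZ, ⟨⟨biprod.desc ιY ιZ, ?_, ?_⟩⟩⟩
    · rw [biprod.lift_desc, hπY, hπZ, add_sub_cancel]
    · apply biprod.hom_ext' <;> apply biprod.hom_ext <;> simp [hιY, hιZ, hYZ, hZY]

end Groth.Agent.S18844
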