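import Groth.Statements.S9242
import Groth.Agent.L07.BrnchCompl.DimOne

set_option autoImplicit false
universe u
open Brnch

namespace Groth.Agent.S9242

/-- Let A be a Noetherian local ring with henselization S and completion A^, let ψ : S → A^ be the ring
map compatible with the structure maps from A, and let q be a minimal prime of A^ with dim(A^/q) =
1. Then q is the radical of the extension along ψ of some minimal prime of S. -/
theorem result (A S : Type u) [CommRing A]
    [IsLocalRing A] [IsNoetherianRing A] [CommRing S] [IsLocalRing S] [Algebra A S]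
    [IsLocalHom (algebraMap A S)] [Hensel.IsHenselization A S]
    (ψ : S →+* AdicCompletion (IsLocalRing.maximalIdeal A) A)
    (hψ : ψ.comp (algebraMap A S) = algebraMap A (AdicCompletion (IsLocalRing.maximalIdeal A) A))
    (q : Ideal (AdicCompletion (IsLocalRing.maximalIdeal A) A))
    (hq : q ∈ minimalPrimes (AdicCompletion (IsLocalRing.maximalIdeal A) A))
    (hdim : ringKrullDim (AdicCompletion (IsLocalRing.maximalIdeal A) A ⧸ q) = 1) :
    ∃ q' ∈ minimalPrimes S, (Ideal.map ψ q').radical = q := by
  haveI : HenselianLocalRing S := ‹Hensel.IsHenselization A S›.henselian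
  obtain ⟨_, _, _, hm, _, hres⟩ := Groth.L07.BrnchCompl.hens_data A S ψ hψ
  letI := ψ.toAlgebra
  haveI : Module.FaithfullyFlat S (AdicCompletion (IsLocalRing.maximalIdeal A) A) :=
    Module.FaithfullyFlat.of_flat_of_isLocalHom
  haveI := hq.isPrime
  refine ⟨q.comap ψ, Groth.L07.BrnchCompl.mapsTo S _ hq,
    Groth.L07.BrnchCompl.radical_eq S _ hm hres q hq (fun he => ?_) fun p hp hle => ?_⟩
  · subst he
    let := Ideal.Quotient.field
      (IsLocalRing.maximalIdeal (AdicCompletion (IsLocalRing.maximalIdeal A) A))
    rw [ringKrullDim_eq_zero_of_field] at hdim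
    exact zero_ne_one hdim
  · haveI : Ring.KrullDimLE 1 (AdicCompletion (IsLocalRing.maximalIdeal A) A ⧸ q) :=
      Ring.krullDimLE_iff.mpr hdim.le
    haveI := hp
    have hc : (p.map (Ideal.Quotient.mk q)).comap (Ideal.Quotient.mk q) = p := by
      rw [Ideal.comap_map_of_surjective _ Ideal.Quotient.mk_surjective, ← RingHom.ker_eq_comap_bot,
        Ideal.mk_ker, sup_of_le_left hle]
    haveI : (p.map (Ideal.Quotient.mk q)).IsPrime :=
      Ideal.map_isPrime_of_surjective Ideal.Quotient.mk_surjective (by rwa [Ideal.mk_ker])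
    rcases Ring.krullDimLE_one_iff.mp ‹_› (p.map (Ideal.Quotient.mk q)) inferInstance with h | h
    · left
      rw [← hc, le_antisymm (h.2 ⟨Ideal.isPrime_bot, bot_le⟩ bot_le) bot_le,
        ← RingHom.ker_eq_comap_bot, Ideal.mk_ker]
    · right
      haveI := h
      exact IsLocalRing.eq_maximalIdeal
        (hc ▸ Ideal.comap_isMaximal_of_surjective _ Ideal.Quotient.mk_surjective)


end Groth.Agent.S9242
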