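import Groth.Statements.S3006
import Groth.Agent.L25.Locus.Torus

set_option autoImplicit false
universe u
open CategoryTheory MonoidalCategory CartesianMonoidalCategory MonObj GrpObj AlgebraicGeometry
open Red

namespace Groth.Agent.S3006

/-- Let S be a scheme, G an S-group scheme smooth and of finite presentation over S, and q : Q → G a
closed subgroup scheme which is a torus. Then the centralizer and the normalizer of Q in G exist as
closed subgroup schemes of G (characterized on points as in `Red.IsCentralizerOf` /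
`Red.IsNormalizerOf`) and are smooth over S. -/
theorem result (S : Scheme.{u}) (G Q : Over S) [GrpObj G] [GrpObj Q] [Smooth G.hom] [LocallyOfFinitePresentation G.hom] [QuasiCompact G.hom] [QuasiSeparated G.hom] (q : Q ⟶ G) [IsMonHom q] (hq : IsClosedImmersion q.left) (hQ : Red.IsTorus Q) : (∃ (Z : Over S) (_ : GrpObj Z) (z : Z ⟶ G), Red.IsCentralizerOf q z ∧ IsClosedImmersion z.left ∧ Smooth Z.hom) ∧ ∃ (N : Over S) (_ : GrpObj N) (n : N ⟶ G), Red.IsNormalizerOf q n ∧ IsClosedImmersion n.left ∧ Smooth N.hom := by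
  have hQ' := Groth.L25.Locus.isMultTypeFT_of_isTorus hQ
  have := Groth.L25.Locus.isSeparated_of_closed_subgroup hQ' q
  have hl := Groth.L25.Locus.locally_of_multTypeFT hQ'
  refine ⟨Groth.L25.Locus.exists_smooth_centralizer hl q, ?_⟩
  have : Mono q := Over.mono_of_mono_left q
  obtain ⟨W, j, hj, hlfp, hW⟩ := Groth.L25.Locus.exists_subgroupTransporter hl hl q q
  have : LocallyOfFinitePresentation q.left := by
    have := Groth.L25.Locus.lfp_of_multTypeFT hQ'
    have : LocallyOfFinitePresentation (q.left ≫ G.hom) := by rw [Over.w q]; infer_instance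
    exact Groth.L20.locallyOfFinitePresentation_of_comp q.left G.hom
  have := hlfp inferInstance inferInstance
  have : Mono j := Over.mono_of_mono_left j
  have hs := Groth.L25.Locus.smooth_subgroupTransporter hl hl q q j hW
  obtain ⟨hg, him⟩ := Groth.L25.Locus.exists_subgroup j (fun T' x => Groth.L25.Locus.Sends q q T' x ∧ Groth.L25.Locus.SendsBack q q T' x) hW
    ⟨fun X' t h => ⟨h, by simp only [MonObj.comp_one, _root_.one_mul, inv_one, _root_.mul_one]⟩,
      fun X' t h => ⟨h, by simp only [MonObj.comp_one, _root_.one_mul, inv_one, _root_.mul_one]⟩⟩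
    (fun T' a b ha hb => ⟨fun X' t h => by
      obtain ⟨h₁, e₁⟩ := hb.1 X' t h
      obtain ⟨h₂, e₂⟩ := ha.1 X' t h₁
      exact ⟨h₂, by rw [← e₂, ← e₁, MonObj.comp_mul]; group⟩, fun X' t h => by
      obtain ⟨h₁, e₁⟩ := ha.2 X' t h
      obtain ⟨h₂, e₂⟩ := hb.2 X' t h₁
      exact ⟨h₂, by rw [← e₂, ← e₁, MonObj.comp_mul]; group⟩⟩)
    (fun T' a ha => ⟨fun X' t h => by
      obtain ⟨h₁, e₁⟩ := ha.2 X' t h
      exact ⟨h₁, by rw [← e₁, GrpObj.comp_inv, _root_.inv_inv]⟩, fun X' t h => by
      obtain ⟨h₁, e₁⟩ := ha.1 X' t h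
      exact ⟨h₁, by rw [← e₁, GrpObj.comp_inv, _root_.inv_inv]⟩⟩)
  exact ⟨W, hg, j, ⟨him, inferInstance, fun X g => (hW X g).trans ⟨fun h X' x a => ⟨h.1 X' x a, h.2 X' x a⟩,
    fun h => ⟨fun X' x a => (h X' x a).1, fun X' x a => (h X' x a).2⟩⟩⟩, hj, hs⟩

end Groth.Agent.S3006
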