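import Groth.Statements.S11397
import Groth.Agent.L08.Chev.Reduce
-- import your own Groth.Agent.* helpers here

set_option autoImplicit false
set_option backward.isDefEq.respectTransparency.types false
set_option linter.style.haveILetI false
universe u
open CategoryTheory MonoidalCategory CartesianMonoidalCategory MonObj GrpObj AlgebraicGeometry CategoryTheory.Limits
open AlgGrp

namespace Groth.Agent.S11397

/-- Over an algebraically closed field k, let G be an algebraic group (a smooth k-group scheme of finite
type) which is not proper over k. Then G has a smooth closed subgroup scheme which is affine and of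
positive dimension. -/
theorem result (k : Type u) [Field k] [IsAlgClosed k]
    (G : Over (Spec (CommRingCat.of k))) [GrpObj G] [Smooth G.hom] [QuasiCompact G.hom] (hG : ¬ IsProper G.hom) :
    ∃ (H : Over (Spec (CommRingCat.of k))) (_ : GrpObj H) (j : H ⟶ G), IsMonHom j ∧ IsClosedImmersion j.left ∧
      Smooth H.hom ∧ IsAffine H.left ∧ 0 < topologicalKrullDim ↥H.left := by
  haveI : IsSeparated G.hom := Groth.Agent.AV.isSeparated_of_grpObj G
  obtain ⟨N, _, j, hj, hjc, hjo, hrange⟩ := Groth.L08.IdComp.exists_identityComponent G
  haveI : Smooth N.hom := by rw [← Over.w j]; infer_instance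
  haveI : QuasiCompact N.hom := by rw [← Over.w j]; infer_instance
  haveI : ConnectedSpace N.left := by
    rw [connectedSpace_iff_univ]
    refine ⟨⟨η[N].left (IsLocalRing.closedPoint k), trivial⟩, ?_⟩
    rw [← j.left.isEmbedding.isInducing.isPreconnected_image, Set.image_univ, hrange]
    exact isPreconnected_connectedComponent
  haveI := Groth.L08.UnitChar.isIntegral_left N
  have hN : ¬ IsProper N.hom := fun hp => hG (Groth.L08.Chev.isProper_of_component G j hrange hp)
  obtain ⟨H, gH, i, hi, hic, hs, ha, η', p', hsp, hne⟩ := Groth.L08.Chev.exists_affine_pos N hN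
  refine ⟨H, gH, i ≫ j, inferInstance, inferInstanceAs (IsClosedImmersion (i.left ≫ j.left)), hs, ha,
    Groth.L08.Chev.dim_pos_of_specializes hsp hne⟩

end Groth.Agent.S11397
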