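import Groth.Statements.S5785
import Groth.Agent.L06.RegularRing
import Groth.Agent.S0543
import Mathlib.RingTheory.AdicCompletion.LocalRing
import Mathlib.RingTheory.AdicCompletion.AsTensorProduct
import Mathlib.RingTheory.Ideal.KrullsHeightTheorem
import Mathlib.RingTheory.Ideal.GoingDown

set_option autoImplicit false
set_option linter.style.haveILetI false
universe u
open EGA41

namespace Groth.Agent.S5785

/-- Let A be a regular ring and J an ideal of A. Then the separated completion of A for the J-adic
topology is a regular ring. -/
theorem result (A : Type u) [CommRing A] [IsRegularRing A] (J : Ideal A) :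
    IsRegularRing (AdicCompletion J A) := by
  haveI : IsNoetherianRing (AdicCompletion J A) := Groth.Agent.S0543.result A J
  refine Groth.L06.RegularRing.isRegularRing_of_maximal fun M hM => ?_
  have hJ : J.FG := IsNoetherian.noetherian J
  set φ := algebraMap A (AdicCompletion J A) with hφ
  have hker : RingHom.ker (AdicCompletion.evalOneₐ J).toRingHom ≤ M := by
    rw [AdicCompletion.ker_evalOneₐ_eq_map J hJ]
    haveI := AdicCompletion.isAdicComplete_self J hJ
    exact (IsAdicComplete.le_jacobson_bot _).trans (sInf_le ⟨bot_le, hM⟩)
  let m := M.comap φ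
  have hsurj : Function.Surjective ((Ideal.Quotient.mk M).comp φ) := by
    intro z
    obtain ⟨b, rfl⟩ := Ideal.Quotient.mk_surjective z
    obtain ⟨a, ha⟩ := Ideal.Quotient.mk_surjective (AdicCompletion.evalOneₐ J b)
    refine ⟨a, Ideal.Quotient.eq.mpr (hker ?_)⟩
    rw [RingHom.mem_ker, map_sub]
    show AdicCompletion.evalOneₐ J (φ a) - AdicCompletion.evalOneₐ J b = 0
    rw [AlgHom.commutes, ← ha]
    exact sub_self _
  haveI hm : m.IsMaximal := by
    letI : Field (AdicCompletion J A ⧸ M) := Ideal.Quotient.field M
    have := RingHom.ker_isMaximal_of_surjective _ hsurj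
    rwa [← RingHom.comap_ker, Ideal.mk_ker] at this
  have hJm : J ≤ m := fun a ha => hker (by
    rw [AdicCompletion.ker_evalOneₐ_eq_map J hJ]
    exact Ideal.mem_map_of_mem _ ha)
  have hmap : m.map φ = M :=
    (AdicCompletion.isMaximal_map_of_le J m hJm hJ).eq_of_le hM.ne_top Ideal.map_comap_le
  haveI : M.LiesOver m := ⟨rfl⟩
  haveI : Algebra.HasGoingDown A (AdicCompletion J A) := Algebra.HasGoingDown.of_flat
  let ψ := Localization.localRingHom m M φ rfl
  haveI hreg : IsRegularLocalRing (Localization.AtPrime m) := IsRegularRing.isRegularLocalRing_localization m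
  have hmax : IsLocalRing.maximalIdeal (Localization.AtPrime M) = (IsLocalRing.maximalIdeal (Localization.AtPrime m)).map ψ := by
    rw [← Localization.AtPrime.map_eq_maximalIdeal, ← Localization.AtPrime.map_eq_maximalIdeal, Ideal.map_map,
      show ψ.comp (algebraMap A _) = (algebraMap _ (Localization.AtPrime M)).comp φ from
        RingHom.ext (Localization.localRingHom_to_map m M φ rfl), ← Ideal.map_map, hmap]
  have hgen : (IsLocalRing.maximalIdeal (Localization.AtPrime M)).spanFinrank ≤
      (IsLocalRing.maximalIdeal (Localization.AtPrime m)).spanFinrank := by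
    have fg : (IsLocalRing.maximalIdeal (Localization.AtPrime m)).FG := IsNoetherian.noetherian _
    rw [hmax]
    conv_lhs => rw [← Submodule.span_generators (IsLocalRing.maximalIdeal (Localization.AtPrime m)),
      Ideal.map_span]
    exact (Submodule.spanFinrank_span_le_ncard_of_finite ((Submodule.FG.finite_generators fg).image ψ)).trans
      ((Set.ncard_image_le (Submodule.FG.finite_generators fg)).trans_eq (Submodule.FG.generators_ncard fg))
  refine IsRegularLocalRing.of_spanFinrank_maximalIdeal_le _ ?_
  refine le_trans (Nat.cast_le.mpr hgen) ?_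
  rw [(isRegularLocalRing_iff (Localization.AtPrime m)).mp hreg, IsLocalization.AtPrime.ringKrullDim_eq_height m,
    IsLocalization.AtPrime.ringKrullDim_eq_height M, WithBot.coe_le_coe,
    Ideal.height_eq_height_add_of_liesOver_of_hasGoingDown m M]
  exact le_self_add

end Groth.Agent.S5785
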