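import Groth.Statements.S5068
import Groth.Agent.L07.RegularQuotient
import Groth.Agent.L07.FibreRegularLocal
import Groth.Agent.L07.TransFibre

set_option autoImplicit false
set_option linter.style.haveILetI false
universe u
open CInt

namespace Groth.Agent.S5068

/-- Suppose A and C are Noetherian local rings joined by a flat local homomorphism A → C whose closed
fibre C/m_A C is a regular local ring, and consider a local ring B obtained as a quotient of C by an
ideal J (encoded as a surjective C-algebra B, with J taken to be the kernel). The ideal J admits a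
generating sequence that is transversally regular relative to A (each term a non-zero-divisor modulo
the previous ones, and every partial quotient C/(f_1, …, f_j) A-flat) exactly when two things hold:
B is A-flat, and B/m_A B is a complete intersection (meaning its completion is a regular local ring
divided by a regular sequence). -/
theorem result (A C B : Type u) [CommRing A] [IsLocalRing A]
    [IsNoetherianRing A] [CommRing C] [IsLocalRing C] [IsNoetherianRing C] [Algebra A C] [IsLocalHom (algebraMap A C)]
    [Module.Flat A C] (hreg : IsRegularLocalRing (EGA4.FibRing A C))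
    [CommRing B] [IsLocalRing B] [Algebra C B] [Algebra A B] [IsScalarTower A C B] [IsLocalHom (algebraMap A B)]
    (hsurj : Function.Surjective (algebraMap C B)) :
    (∃ rs : List C, Ideal.ofList rs = RingHom.ker (algebraMap C B) ∧ RegImm.IsTransRegularSeq A C rs) ↔
      (Module.Flat A B ∧ Pi1.IsCompleteIntersection (EGA4.FibRing A B)) := by
  classical
  haveI := hreg
  let J := RingHom.ker (algebraMap C B)
  let Cb := EGA4.FibRing A C
  let Bb := EGA4.FibRing A B
  let π : C →+* Cb := Ideal.Quotient.mk (EGA4.mB A C)
  have hmap : (EGA4.mB A C).map (algebraMap C B) = EGA4.mB A B := by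
    rw [Ideal.map_map, ← IsScalarTower.algebraMap_eq]
  haveI : IsNoetherianRing B := isNoetherianRing_of_surjective C B _ hsurj
  haveI : IsNoetherianRing Bb := inferInstanceAs (IsNoetherianRing (B ⧸ EGA4.mB A B))
  haveI : IsNoetherianRing Cb := inferInstanceAs (IsNoetherianRing (C ⧸ EGA4.mB A C))
  let p : Cb →+* Bb := Ideal.quotientMap (EGA4.mB A B) (algebraMap C B) (Ideal.map_le_iff_le_comap.mp hmap.le)
  have hp : Function.Surjective p := by
    intro b
    obtain ⟨b, rfl⟩ := Ideal.Quotient.mk_surjective b
    obtain ⟨c, rfl⟩ := hsurj b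
    exact ⟨π c, rfl⟩
  have hkp : RingHom.ker p = J.map π := by
    apply le_antisymm
    · intro z hz
      obtain ⟨c, rfl⟩ := Ideal.Quotient.mk_surjective z
      have h1 : algebraMap C B c ∈ (EGA4.mB A C).map (algebraMap C B) := by
        rw [hmap]; exact Ideal.Quotient.eq_zero_iff_mem.mp hz
      obtain ⟨c', hc', hcc⟩ := (Ideal.mem_map_iff_of_surjective _ hsurj).mp h1
      have h2 : π c = π (c - c') := by
        rw [map_sub, show π c' = 0 from Ideal.Quotient.eq_zero_iff_mem.mpr hc', sub_zero]
      rw [h2]
      exact Ideal.mem_map_of_mem _ (by rw [RingHom.mem_ker, map_sub, hcc, sub_self])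
    · rw [Ideal.map_le_iff_le_comap]
      intro c hc
      show Ideal.Quotient.mk _ (algebraMap C B c) = 0
      rw [RingHom.mem_ker.mp hc, map_zero]
  have hJm : J ≤ IsLocalRing.maximalIdeal C := IsLocalRing.le_maximalIdeal (RingHom.ker_ne_top _)
  have heB : ∀ l : List C, Ideal.ofList l = J → Module.Flat A (C ⧸ Ideal.ofList l) → Module.Flat A B := by
    intro l hl hflat
    haveI := hflat
    let e : (C ⧸ Ideal.ofList l) ≃ₐ[A] B :=
      (Ideal.quotientEquivAlgOfEq A (by rw [hl]; rfl : Ideal.ofList l = RingHom.ker (IsScalarTower.toAlgHom A C B))).trans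
        (Ideal.quotientKerAlgEquivOfSurjective hsurj)
    exact Module.Flat.of_linearEquiv e.symm.toLinearEquiv
  constructor
  · rintro ⟨rs, hrs, htr⟩
    have hB : Module.Flat A B :=
      heB rs hrs (by have := htr.2 rs.length le_rfl; rwa [List.take_length] at this)
    refine ⟨hB, Groth.L07.RegQuot.isCompleteIntersection_of_isRegularIdeal p hp
      ⟨rs.map π, ⟨?_, ?_⟩, ?_⟩⟩
    · rw [RingTheory.Sequence.isWeaklyRegular_iff]
      intro i hi
      rw [List.length_map] at hi
      haveI := htr.2 (i + 1) hi
      let N := C ⧸ Ideal.ofList (rs.take i)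
      let P := C ⧸ Ideal.ofList (rs.take (i + 1))
      haveI : Module.Flat A N := htr.2 i hi.le
      let μ : N →ₗ[A] N := (LinearMap.lsmul C N rs[i]).restrictScalars A
      have hle : Ideal.ofList (rs.take i) ≤ Ideal.ofList (rs.take (i + 1)) := by
        rw [List.take_succ_eq_append_getElem hi, Ideal.ofList_append]
        exact le_sup_left
      let q : N →ₗ[A] P := (Submodule.factor hle).restrictScalars A
      have hμ : IsSMulRegular N rs[i] := by
        have h := htr.1.regular_mod_prev i hi
        exact ((Submodule.quotEquivOfEq _ _ (by rw [smul_eq_mul, Ideal.mul_top])).isSMulRegular_congr _).mp h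
      have hex : Function.Exact μ q := by
        intro x
        obtain ⟨c, rfl⟩ := Submodule.mkQ_surjective _ x
        show Submodule.Quotient.mk c = (0 : P) ↔ _
        rw [Submodule.Quotient.mk_eq_zero, List.take_succ_eq_append_getElem hi, Ideal.ofList_append,
          Ideal.ofList_singleton, Submodule.mem_sup]
        constructor
        · rintro ⟨u, hu, v, hv, rfl⟩
          obtain ⟨w, rfl⟩ := Ideal.mem_span_singleton'.mp hv
          refine ⟨Submodule.Quotient.mk w, ?_⟩
          show rs[i] • (Submodule.Quotient.mk w : N) = Submodule.Quotient.mk _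
          rw [← Submodule.Quotient.mk_smul, Submodule.Quotient.eq, smul_eq_mul]
          have h3 := (Ideal.ofList (rs.take i)).neg_mem hu
          convert h3 using 1
          ring
        · rintro ⟨y, hy⟩
          obtain ⟨w, rfl⟩ := Submodule.mkQ_surjective _ y
          change rs[i] • (Submodule.Quotient.mk w : N) = Submodule.Quotient.mk c at hy
          rw [← Submodule.Quotient.mk_smul, Submodule.Quotient.eq, smul_eq_mul] at hy
          exact ⟨c - w * rs[i], by rw [← neg_sub, mul_comm]; exact neg_mem hy, w * rs[i],
            Ideal.mem_span_singleton'.mpr ⟨w, rfl⟩, by ring⟩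
      have hinj := LinearMap.lTensor_injective_of_exact_of_flat (P := P) q (Submodule.factor_surjective hle) μ
        (fun a b h => hμ h) hex (IsLocalRing.ResidueField A)
      simp only [List.getElem_map]
      rw [show List.take i (rs.map π) = (rs.take i).map π from List.map_take.symm]
      exact Groth.L07.TransFibre.regular_fibre A C π Ideal.Quotient.mk_surjective Ideal.mk_ker
        (rs.take i) rs[i] hinj
    · rw [smul_eq_mul, Ideal.mul_top, ← Ideal.map_ofList, hrs, ← hkp]
      exact (RingHom.ker_ne_top p).symm
    · rw [← Ideal.map_ofList, hrs, hkp]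
  · rintro ⟨hB, hci⟩
    haveI := hB
    obtain ⟨rsb, hrsb, hgen⟩ := Groth.L07.RegQuot.isRegularIdeal_of_isCompleteIntersection p hp hci
    rw [hkp] at hgen
    have hlift : ∀ b ∈ rsb, ∃ c ∈ J, π c = b := fun b hb =>
      (Ideal.mem_map_iff_of_surjective π Ideal.Quotient.mk_surjective).mp (hgen ▸ Ideal.subset_span hb)
    let lift : Cb → C := fun b => if hb : b ∈ rsb then (hlift b hb).choose else 0
    have hl : ∀ b ∈ rsb, lift b ∈ J ∧ π (lift b) = b := fun b hb => by
      simp only [lift, dif_pos hb]
      exact (hlift b hb).choose_spec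
    let l := rsb.map lift
    have hmap' : l.map π = rsb := by
      rw [List.map_map]
      exact (List.map_congr_left fun b hb => (hl b hb).2).trans (List.map_id _)
    have hlJ : Ideal.ofList l ≤ J := Ideal.span_le.mpr fun c hc => by
      obtain ⟨b, hb, rfl⟩ := List.mem_map.mp hc
      exact (hl b hb).1
    have hw : RingTheory.Sequence.IsWeaklyRegular
        (C ⧸ ((IsLocalRing.maximalIdeal A).map (algebraMap A C) • (⊤ : Submodule C C))) l := by
      have h1 : RingTheory.Sequence.IsWeaklyRegular Cb l := by
        rw [← RingTheory.Sequence.isWeaklyRegular_map_algebraMap_iff Cb Cb]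
        exact hmap'.symm ▸ hrsb.1
      exact ((Submodule.quotEquivOfEq _ _ (by rw [smul_eq_mul, Ideal.mul_top])).isWeaklyRegular_congr l).mpr h1
    obtain ⟨h1, h2⟩ := Groth.L07.FibreRegularLocal.isWeaklyRegular_and_flat l C hw
    have hflat : ∀ j ≤ l.length, Module.Flat A (C ⧸ Ideal.ofList (l.take j)) := fun j hj => by
      haveI := h2 j hj
      exact Module.Flat.of_linearEquiv ((Submodule.quotEquivOfEq (Ideal.ofList (l.take j) • (⊤ : Submodule C C))
        (Ideal.ofList (l.take j)) (by rw [smul_eq_mul, Ideal.mul_top])).restrictScalars A).symm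
    refine ⟨l, le_antisymm hlJ ?_, h1, hflat⟩
    -- generation
    refine Submodule.le_of_le_smul_of_le_jacobson_bot (I := IsLocalRing.maximalIdeal C)
      (IsNoetherian.noetherian J) (IsLocalRing.maximalIdeal_le_jacobson _) fun z hz => ?_
    have h3 : π z ∈ (Ideal.ofList l).map π := by
      rw [Ideal.map_ofList, hmap', hgen]
      exact Ideal.mem_map_of_mem _ hz
    obtain ⟨w, hw', hwz⟩ := (Ideal.mem_map_iff_of_surjective π Ideal.Quotient.mk_surjective).mp h3
    have h4 : z - w ∈ EGA4.mB A C := by rw [← Ideal.Quotient.eq]; exact hwz.symm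
    have h5 : z - w ∈ J := sub_mem hz (hlJ hw')
    have h6 := Groth.L07.TransFibre.mem_smul_of_flat A C B hsurj (IsLocalRing.maximalIdeal A) (z - w) h4 h5
    rw [show z = w + (z - w) by ring]
    refine Submodule.add_mem_sup hw' ?_
    exact (Submodule.smul_mono (IsLocalRing.map_maximalIdeal_le (algebraMap A C)) le_rfl) h6

end Groth.Agent.S5068
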