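import Groth.Statements.S16441
import Groth.Agent.L05.StrictGalois.LocalStage

set_option autoImplicit false
universe u
open EGA4loc

namespace Groth.Agent.S16441

/-- Let A be a reduced local ring with finitely many minimal prime ideals, S a strict henselization of
A, and D an A-subalgebra of S which is a local ring dominated by S (local inclusion). Then the total
ring of fractions K_D of D is finitely generated over that of A — there is a finite subset t of K_D
such that every element of K_D, multiplied by (the image of) some non-zero-divisor of A, is a
polynomial expression in t with coefficients from A — if and only if D is contained in some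
A-subalgebra E of S which is a local ring and an essentially etale local A-algebra (a localization
of an etale A-algebra at a prime over the maximal ideal). -/
theorem result
    (A S : Type u) [CommRing A] [IsLocalRing A] [IsReduced A] (hmin : (minimalPrimes A).Finite)
    [CommRing S] [IsLocalRing S] [Algebra A S] [IsLocalHom (algebraMap A S)]
    [Hensel.IsStrictHenselization A S] (D : Subalgebra A S) [IsLocalRing D]
    [IsLocalHom (algebraMap D S)] :
    (∃ t : Finset (FractionRing D), ∀ x : FractionRing D, ∃ a ∈ nonZeroDivisors A,
        algebraMap A (FractionRing D) a * x ∈ Algebra.adjoin A (t : Set (FractionRing D))) ↔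
      ∃ E : Subalgebra A S, D ≤ E ∧ ∃ _ : IsLocalRing E, EGA4loc.IsEssentiallyEtale A E := by
  classical
  constructor
  · intro hfg
    obtain ⟨E, _, hle, -, hE, -⟩ := Groth.L05.StrictGalois.exists_le_of_fg hmin D hfg
    exact ⟨E, hle, inferInstance, hE⟩
  · rintro ⟨E, hle, _, hE⟩
    open Groth.L05.StrictGalois in
    haveI := flat_of_essEt hE
    let DE : Subalgebra A E := D.comap E.val
    let j : DE →ₐ[A] D := (E.val.comp DE.val).codRestrict D fun z => z.2
    have hj : Function.Injective j := fun x y h =>
      Subtype.ext (Subtype.ext (congrArg (fun d : D => (d : S)) h))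
    have hjs : Function.Surjective j := fun d => ⟨⟨⟨d, hle d.2⟩, d.2⟩, rfl⟩
    obtain ⟨t, ht⟩ := Groth.L05.StrictGalois.exists_finset_sub_smul_mem_span hmin hE DE
    refine ⟨t.image fun z => algebraMap D (FractionRing D) (j z), fun x => ?_⟩
    obtain ⟨c, ⟨s, hs⟩, rfl⟩ := IsLocalization.exists_mk'_eq (nonZeroDivisors D) x
    obtain ⟨c', rfl⟩ := hjs c
    obtain ⟨s', rfl⟩ := hjs s
    obtain ⟨y, a, ha, h⟩ := Groth.L05.StrictGalois.exists_mul_eq_algebraMap hmin hE DE (d := s')
      (mem_nonZeroDivisors_iff_right.2 fun z hz => hj (by
        rw [map_zero]
        exact mem_nonZeroDivisors_iff_right.1 hs _ (by rw [← map_mul, hz, map_zero])))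
    obtain ⟨b, hb, hc⟩ := ht (c' * y)
    refine ⟨b * a, mul_mem hb ha, Algebra.span_le_adjoin A _ ?_⟩
    have heq : algebraMap A (FractionRing D) (b * a) *
        IsLocalization.mk' (FractionRing D) (j c') ⟨j s', hs⟩ =
        ((IsScalarTower.toAlgHom A D (FractionRing D)).comp j).toLinearMap (b • (c' * y)) := by
      show _ = algebraMap D (FractionRing D) (j (b • (c' * y)))
      rw [map_mul (algebraMap A (FractionRing D)), IsScalarTower.algebraMap_apply A D (FractionRing D) a,
        ← AlgHom.commutes j, ← h, map_mul, map_mul, Algebra.smul_def, map_mul j, map_mul j,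
        map_mul, map_mul, AlgHom.commutes, ← IsScalarTower.algebraMap_apply,
        ← IsLocalization.mk'_spec (FractionRing D) (j c') ⟨j s', hs⟩]
      ring
    rw [heq, Finset.coe_image]
    show ((IsScalarTower.toAlgHom A D (FractionRing D)).comp j).toLinearMap (b • (c' * y)) ∈
      Submodule.span A (((IsScalarTower.toAlgHom A D (FractionRing D)).comp j).toLinearMap '' (t : Set DE))
    rw [← Submodule.map_span]
    exact Submodule.mem_map_of_mem hc

end Groth.Agent.S16441
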