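import Groth.Statements.S7403
import Groth.Agent.L19.Tower.Scheme
import Mathlib.FieldTheory.IsAlgClosed.AlgebraicClosure

set_option autoImplicit false
set_option backward.isDefEq.respectTransparency.types false
set_option backward.isDefEq.respectTransparency false
set_option linter.style.haveILetI false
universe u
open CategoryTheory AlgebraicGeometry
open Polynomial
open Mor

namespace Groth.Agent.S7403

/-- Let `A` be a ring, `p` a prime number and `x, y ∈ A` with `p^p x = y^p`. Then `A → B = A[t]/(t^p -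
x, p t - y)` induces a universal homeomorphism on spectra. -/
theorem result (A : Type u) [CommRing A] (p : ℕ) (hp : p.Prime) (x y : A)
    (h : (p : A) ^ p * x = y ^ p) :
    FlatMor.IsUnivHomeo (Spec.map (CommRingCat.ofHom (algebraMap A
      (A[X] ⧸ Ideal.span ({X ^ p - C x, C (p : A) * X - C y} : Set A[X]))))) := by
  open Groth.L19.Tower in
  have hg : Gen A (A[X] ⧸ Ideal.span ({X ^ p - C x, C (p : A) * X - C y} : Set A[X])) PPr := by
    intro S hS
    have e1 : (p : A[X] ⧸ Ideal.span ({X ^ p - C x, C (p : A) * X - C y} : Set A[X])) *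
        Ideal.Quotient.mk _ X = algebraMap A _ y := by
      rw [← map_natCast (Ideal.Quotient.mk _), ← map_mul, ← Ideal.Quotient.mk_algebraMap,
        Ideal.Quotient.mk_eq_mk_iff_sub_mem, ← Polynomial.C_eq_natCast]
      exact Ideal.subset_span (Set.mem_insert_of_mem _ rfl)
    have e2 : (Ideal.Quotient.mk _ X : A[X] ⧸ Ideal.span ({X ^ p - C x, C (p : A) * X - C y} : Set A[X])) ^ p =
        algebraMap A _ x := by
      rw [← map_pow, ← Ideal.Quotient.mk_algebraMap, Ideal.Quotient.mk_eq_mk_iff_sub_mem]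
      exact Ideal.subset_span (Set.mem_insert _ _)
    have ht : (Ideal.Quotient.mk _ X) ∈ S :=
      hS _ (Or.inr ⟨p, hp, e1 ▸ Subalgebra.algebraMap_mem S y, e2 ▸ Subalgebra.algebraMap_mem S x⟩)
    rw [eq_top_iff]
    intro b _
    obtain ⟨f, rfl⟩ := Ideal.Quotient.mk_surjective b
    clear * - ht
    induction f using Polynomial.induction_on with
    | C a => exact Subalgebra.algebraMap_mem S a
    | add f g hf hg => rw [map_add]; exact add_mem hf hg
    | monomial n a _ =>
      rw [map_mul, map_pow]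
      exact mul_mem (Subalgebra.algebraMap_mem S a) (pow_mem ht _)
  refine isUnivHomeo_of_gen hg fun q => ?_
  let κ := AlgebraicClosure q.asIdeal.ResidueField
  let φ : A →+* κ := (algebraMap q.asIdeal.ResidueField κ).comp (algebraMap A _)
  obtain ⟨t, htp, ht1⟩ : ∃ t : κ, t ^ p = φ x ∧ (p : κ) * t = φ y := by
    have he : (p : κ) ^ p * φ x = φ y ^ p := by
      rw [← map_natCast φ, ← map_pow, ← map_pow, ← map_mul, h]
    rcases eq_or_ne (p : κ) 0 with h0 | h0
    · obtain ⟨t, ht⟩ := IsAlgClosed.exists_pow_nat_eq (φ x) hp.pos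
      rw [h0, zero_pow hp.ne_zero, zero_mul] at he
      exact ⟨t, ht, by rw [h0, zero_mul, pow_eq_zero_iff hp.ne_zero |>.mp he.symm]⟩
    · refine ⟨φ y / p, ?_, mul_div_cancel₀ _ h0⟩
      rw [div_pow, div_eq_iff (pow_ne_zero p h0), ← he]; ring
  let ψ : A[X] ⧸ Ideal.span ({X ^ p - C x, C (p : A) * X - C y} : Set A[X]) →+* κ :=
    Ideal.Quotient.lift _ (Polynomial.eval₂RingHom φ t) (fun f hf => by
      refine (Ideal.span_le (I := RingHom.ker (Polynomial.eval₂RingHom φ t))).mpr ?_ hf
      rintro g (rfl | rfl) <;> simp [htp, ht1])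
  refine ⟨⟨RingHom.ker ψ, RingHom.ker_isPrime ψ⟩, PrimeSpectrum.ext ?_⟩
  ext a
  show ψ (algebraMap A _ a) = 0 ↔ a ∈ q.asIdeal
  rw [← Ideal.Quotient.mk_algebraMap, Ideal.Quotient.lift_mk]
  simp [φ, κ]

end Groth.Agent.S7403
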