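import Groth.Statements.S4696
import Groth.Agent.L06.NormalAscent

set_option autoImplicit false
set_option linter.style.haveILetI false
universe u
open EGA4

namespace Groth.Agent.S4696

open TensorProduct in
theorem finite_residueField {A B : Type u} [CommRing A] [CommRing B] [Algebra A B] (p : Ideal A) [p.IsPrime]
    (K : Type u) [Field K] [Algebra p.ResidueField K] [Algebra A K] [IsScalarTower A p.ResidueField K]
    [Module.Finite p.ResidueField K] (Q : Ideal (B ⊗[A] K)) [Q.IsPrime]
    [Algebra (Q.comap (algebraMap B (B ⊗[A] K))).ResidueField Q.ResidueField]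
    [IsScalarTower B (Q.comap (algebraMap B (B ⊗[A] K))).ResidueField Q.ResidueField] :
    Module.Finite (Q.comap (algebraMap B (B ⊗[A] K))).ResidueField Q.ResidueField := by
  classical
  haveI := Algebra.IsAlgebraic.of_finite p.ResidueField K
  haveI := Groth.L06.FibreComp.isAlgebraic_residueField p K Q
  obtain ⟨j, hj⟩ := Groth.L06.FibreComp.exists_residueField_map p K Q
  let φ : K →+* Q.ResidueField := (algebraMap (B ⊗[A] K) Q.ResidueField).comp
    (Algebra.TensorProduct.includeRight (R := A) (A := B) (B := K)).toRingHom
  let b := Module.finBasis p.ResidueField K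
  let S := IntermediateField.adjoin (Q.comap (algebraMap B (B ⊗[A] K))).ResidueField (Set.range fun i => φ (b i))
  have hS : S = ⊤ := Groth.L06.FibreComp.residueField_eq_top K Q S fun c => by
    show φ c ∈ S
    rw [← b.sum_repr c, map_sum]
    refine sum_mem fun i _ => ?_
    rw [Algebra.smul_def, map_mul]
    refine mul_mem ?_ (IntermediateField.subset_adjoin _ _ ⟨i, rfl⟩)
    rw [show φ (algebraMap p.ResidueField K (b.repr c i)) = algebraMap _ Q.ResidueField (j (b.repr c i)) from (hj _).symm]
    exact IntermediateField.algebraMap_mem S _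
  haveI : FiniteDimensional (Q.comap (algebraMap B (B ⊗[A] K))).ResidueField S :=
    IntermediateField.finiteDimensional_adjoin fun x _ => (Algebra.IsAlgebraic.isAlgebraic x).isIntegral
  exact Module.Finite.equiv (((IntermediateField.equivOfEq hS).trans IntermediateField.topEquiv).toLinearEquiv)

/-- Case of normal morphisms, affine form: let A → B → C be homomorphisms of Noetherian rings. If A → B
and B → C are normal (flat, with geometrically normal fibres) then the composite A → C is normal. -/
theorem result (A B C : Type u) [CommRing A] [CommRing B] [CommRing C] [IsNoetherianRing A]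
    [IsNoetherianRing B] [IsNoetherianRing C] [Algebra A B] [Algebra B C] [Algebra A C] [IsScalarTower A B C]
    (hAB : EGA4.IsNormalHom A B) (hBC : EGA4.IsNormalHom B C) : EGA4.IsNormalHom A C := by

  open TensorProduct in
  haveI := hAB.1
  haveI := hBC.1
  refine ⟨Module.Flat.trans A B C, fun p _ K _ _ hK => ?_⟩
  letI : Algebra A K := ((algebraMap p.ResidueField K).comp (algebraMap A p.ResidueField)).toAlgebra
  haveI : IsScalarTower A p.ResidueField K := IsScalarTower.of_algebraMap_eq' rfl
  haveI : IsNoetherianRing (B ⊗[A] K) := Groth.L06.FibreComp.isNoetherianRing_baseChange p K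
  haveI : IsNoetherianRing (C ⊗[A] K) := Groth.L06.FibreComp.isNoetherianRing_baseChange p K
  haveI : IsNoetherianRing ((B ⊗[A] K) ⊗[B] C) := isNoetherianRing_of_ringEquiv (C ⊗[A] K)
    (((Algebra.TensorProduct.cancelBaseChange A B B C K).symm.toRingEquiv).trans
      (Algebra.TensorProduct.comm B C (B ⊗[A] K)).toRingEquiv)
  refine Groth.L06.NormalAscent.isNormalRing_of_ringEquiv (Groth.L06.FibreComp.fibreEquiv (B := B) p K).symm
    (Groth.L06.NormalAscent.isNormalRing_of_flat
      (Groth.L06.NormalAscent.isNormalRing_of_ringEquiv (Groth.L06.FibreComp.fibreEquivBase (B := B) p K) (hAB.2 p K hK)) fun Q _ => ?_)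
  obtain ⟨i, _, ⟨eQ⟩⟩ := Groth.L06.FibreComp.exists_fibre_baseChange (B := B) (C := C) Q
  exact Groth.L06.NormalAscent.isNormalRing_of_ringEquiv eQ.symm (hBC.2 _ Q.ResidueField (finite_residueField p K Q))

end Groth.Agent.S4696
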