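import Groth.Statements.S7125
import Groth.Agent.L01.NormalDomain
import Mathlib.RingTheory.Flat.EquationalCriterion
import Mathlib.RingTheory.Flat.FaithfullyFlat.Algebra
import Mathlib.RingTheory.DiscreteValuationRing.Basic
import Mathlib.RingTheory.KrullDimension.LocalRing
import Mathlib.RingTheory.Ideal.Colon

set_option autoImplicit false
universe u
open CAlg

namespace Groth.S7125aux

theorem dvd_of_codimOne {R : Type u} [CommRing R] [IsDomain R] [IsNoetherianRing R] [IsIntegrallyClosed R]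
    {a b : R} (hb : b ≠ 0) (h : ∀ q : Ideal R, q.IsPrime → q.height = 1 → ∃ c ∉ q, b ∣ c * a) : b ∣ a := by
  by_contra hab
  have hx : (Submodule.Quotient.mk a : R ⧸ Ideal.span {b}) ≠ 0 := by
    rwa [Ne, Submodule.Quotient.mk_eq_zero, Ideal.mem_span_singleton]
  obtain ⟨P, hP, hle⟩ := exists_le_isAssociatedPrime_of_isNoetherianRing R _ hx
  have hPp : P.IsPrime := hP.isPrime
  obtain ⟨c, hc, hdvd⟩ := h P hPp (Groth.L01.height_eq_one_of_mem_associatedPrimes hb hP)
  refine hc (hle ?_)
  rw [Submodule.mem_colon_singleton, Submodule.mem_bot, ← Submodule.Quotient.mk_smul, Submodule.Quotient.mk_eq_zero,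
    Ideal.mem_span_singleton]
  exact hdvd

theorem isDVR_of_height_eq_one {A : Type u} [CommRing A] [IsDomain A] [IsNoetherianRing A] [IsIntegrallyClosed A]
    (p : Ideal A) [p.IsPrime] (hp : p.height = 1) : IsDiscreteValuationRing (Localization.AtPrime p) := by
  let S := Localization.AtPrime p
  have hS : ringKrullDim S = 1 := by
    rw [IsLocalization.AtPrime.ringKrullDim_eq_height p S, hp]; rfl
  have hnf : ¬ IsField S := fun h => by
    rw [ringKrullDim_eq_zero_of_isField h] at hS
    exact zero_ne_one hS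
  haveI : Ring.KrullDimLE 1 S := Ring.krullDimLE_iff.mpr (by rw [hS]; rfl)
  haveI : IsIntegrallyClosed S := isIntegrallyClosed_of_isLocalization S p.primeCompl (Ideal.primeCompl_le_nonZeroDivisors p)
  have key : IsDiscreteValuationRing S ↔ IsIntegrallyClosed S ∧ ∃! P : Ideal S, P ≠ ⊥ ∧ P.IsPrime :=
    (IsDiscreteValuationRing.TFAE S hnf).out 0 3
  refine key.mpr ⟨inferInstance, IsLocalRing.maximalIdeal S,
    ⟨fun h => hnf (IsLocalRing.isField_iff_maximalIdeal_eq.mpr h), inferInstance⟩, fun P hP => ?_⟩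
  exact IsLocalRing.eq_maximalIdeal (Ring.krullDimLE_one_iff_of_noZeroDivisors.mp ‹_› P hP.1 hP.2)

theorem exists_dvd_of_dvd_loc {A : Type u} [CommRing A] [IsDomain A] (p : Ideal A) [p.IsPrime] {a b : A}
    (h : algebraMap A (Localization.AtPrime p) a ∣ algebraMap A (Localization.AtPrime p) b) :
    ∃ s ∉ p, a ∣ s * b := by
  obtain ⟨c, hc⟩ := h
  obtain ⟨⟨e, s⟩, hes⟩ := IsLocalization.surj p.primeCompl c
  refine ⟨s, s.2, e, IsLocalization.injective (Localization.AtPrime p) (Ideal.primeCompl_le_nonZeroDivisors p) ?_⟩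
  rw [map_mul, map_mul, hc, ← hes]
  ring

variable {A B : Type u} [CommRing A] [IsDomain A] [IsNoetherianRing A] [IsIntegrallyClosed A]
  [CommRing B] [IsDomain B] [IsNoetherianRing B] [IsIntegrallyClosed B] [Algebra A B]

theorem exists_root (f : A) (hf0 : f ≠ 0) (h : B) (n : ℕ) (hn : n ≠ 0) (w : Bˣ)
    (hf : algebraMap A B f = (w : B) * h ^ n) (hinj : Function.Injective (algebraMap A B))
    (p : Ideal A) [p.IsPrime] (hp : p.height = 1) (q : Ideal B) [q.IsPrime] (hq : q.height = 1)
    (hqp : q.comap (algebraMap A B) = p)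
    (hram : Ideal.map (algebraMap B (Localization.AtPrime q)) (Ideal.map (algebraMap A B) p) =
      IsLocalRing.maximalIdeal (Localization.AtPrime q)) :
    ∃ x ∈ (Ideal.span {h}).comap (algebraMap A B),
      (∀ a ∈ (Ideal.span {h}).comap (algebraMap A B), ∃ s ∉ p, x ∣ s * a) ∧
      (∃ s ∉ p, f ∣ s * x ^ n) ∧ (∃ s ∉ p, x ^ n ∣ s * f) := by
  let S := Localization.AtPrime p
  let T := Localization.AtPrime q
  haveI := isDVR_of_height_eq_one p hp
  haveI := isDVR_of_height_eq_one q hq
  let ι : S →+* T := Localization.localRingHom p q (algebraMap A B) hqp.symm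
  have hι : ∀ a, ι (algebraMap A S a) = algebraMap B T (algebraMap A B a) := fun a =>
    Localization.localRingHom_to_map p q _ _ a
  have hjS : Function.Injective (algebraMap A S) := IsLocalization.injective S (Ideal.primeCompl_le_nonZeroDivisors p)
  have hjT : Function.Injective (algebraMap B T) := IsLocalization.injective T (Ideal.primeCompl_le_nonZeroDivisors q)
  obtain ⟨π, hπ⟩ := IsDiscreteValuationRing.exists_irreducible S
  have hπ' : Irreducible (ι π) := by
    rw [IsDiscreteValuationRing.irreducible_iff_uniformizer, ← Set.image_singleton, ← Ideal.map_span,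
      ← (IsDiscreteValuationRing.irreducible_iff_uniformizer π).1 hπ, ← hram,
      ← Localization.AtPrime.map_eq_maximalIdeal (I := p), Ideal.map_map, Ideal.map_map]
    congr 1
    exact (RingHom.ext hι).symm
  have hh0 : h ≠ 0 := fun h0 => hf0 (hinj (by rw [hf, h0, zero_pow hn, mul_zero, map_zero]))
  obtain ⟨m, u, hfu⟩ := IsDiscreteValuationRing.eq_unit_mul_pow_irreducible ((map_ne_zero_iff _ hjS).2 hf0) hπ
  obtain ⟨k, v, hhv⟩ := IsDiscreteValuationRing.eq_unit_mul_pow_irreducible ((map_ne_zero_iff _ hjT).2 hh0) hπ'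
  have hmk : m = n * k := by
    refine IsDiscreteValuationRing.unit_mul_pow_congr_pow hπ' hπ' (Units.map ι.toMonoidHom u)
      (Units.map (algebraMap B T).toMonoidHom w * v ^ n) _ _ ?_
    have := hι f
    rw [hfu, map_mul, map_pow, hf, map_mul, map_pow, hhv] at this
    simp only [Units.coe_map, Units.val_mul, Units.val_pow_eq_pow_val, RingHom.toMonoidHom_eq_coe, MonoidHom.coe_coe]
    rw [this, mul_pow, ← pow_mul, mul_comm k n]
    ring
  obtain ⟨⟨x₀, s₀⟩, hx₀⟩ := IsLocalization.surj p.primeCompl (π ^ k)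
  dsimp only at hx₀
  have hs₀ : IsUnit (algebraMap A S s₀) := IsLocalization.map_units S s₀
  obtain ⟨c, hc, hcd⟩ := exists_dvd_of_dvd_loc p (a := f) (b := x₀ ^ n) (by
    rw [hfu, map_pow, ← hx₀, mul_pow, ← pow_mul, mul_comm k n, ← hmk, Units.mul_left_dvd]
    exact dvd_mul_right _ _)
  refine ⟨c * x₀, ?_, ?_, ?_, ?_⟩
  · rw [Ideal.mem_comap, Ideal.mem_span_singleton, ← IsIntegrallyClosed.pow_dvd_pow_iff hn]
    refine dvd_trans (b := algebraMap A B f) ⟨w, by rw [hf, mul_comm]⟩ ?_
    rw [← map_pow]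
    refine map_dvd _ ?_
    rw [mul_pow]
    exact hcd.trans (mul_dvd_mul_right (dvd_pow_self c hn) _)
  · intro a ha
    refine exists_dvd_of_dvd_loc p ?_
    rw [map_mul, ← hx₀, ((IsLocalization.map_units S (⟨c, hc⟩ : p.primeCompl)).mul_left_dvd), hs₀.mul_right_dvd]
    rcases eq_or_ne a 0 with rfl | ha0
    · rw [map_zero]; exact dvd_zero _
    obtain ⟨i, t, hat⟩ := IsDiscreteValuationRing.eq_unit_mul_pow_irreducible ((map_ne_zero_iff _ hjS).2 ha0) hπ
    obtain ⟨z, hz⟩ := Ideal.mem_span_singleton.1 ha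
    have h1 : ι π ^ k ∣ ι π ^ i := by
      have h2 : algebraMap B T h ∣ algebraMap B T (algebraMap A B a) := map_dvd _ ⟨z, hz⟩
      rw [hhv, ← hι, hat, map_mul, map_pow, Units.mul_left_dvd, (t.isUnit.map ι).dvd_mul_left] at h2
      exact h2
    rw [pow_dvd_pow_iff hπ'.ne_zero hπ'.not_isUnit] at h1
    rw [hat]
    exact dvd_mul_of_dvd_right (pow_dvd_pow _ h1) _
  · exact ⟨1, fun h1 => Ideal.IsPrime.ne_top ‹_› ((Ideal.eq_top_iff_one _).2 h1), by
      rw [one_mul, mul_pow]; exact hcd.trans (mul_dvd_mul_right (dvd_pow_self c hn) _)⟩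
  · refine exists_dvd_of_dvd_loc p ?_
    rw [map_pow, map_mul, ← hx₀, mul_pow, mul_pow, ((IsLocalization.map_units S (⟨c, hc⟩ : p.primeCompl)).pow n).mul_left_dvd,
      (hs₀.pow n).mul_right_dvd, ← pow_mul, mul_comm k n, ← hmk, hfu]
    exact dvd_mul_left _ _

end Groth.S7125aux



namespace Groth.Agent.S7125

/-- Let A and B be Noetherian local normal domains and A → B a flat homomorphism that is local, and let
f in A, h in B, n > 1 and a unit w of B satisfy f = w·hⁿ in B. Assume that for every height-one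
prime p of A there is a height-one prime q of B lying over p such that A_p ⊆ B_q is weakly
unramified, i.e. p generates the maximal ideal of B_q. Then f = u·gⁿ for some g in A and some unit u
of A. -/
theorem result (A B : Type u) [CommRing A] [IsDomain A]
    [IsNoetherianRing A] [IsLocalRing A] [IsIntegrallyClosed A] [CommRing B] [IsDomain B] [IsNoetherianRing B]
    [IsLocalRing B] [IsIntegrallyClosed B] [Algebra A B] [IsLocalHom (algebraMap A B)] [Module.Flat A B]
    (f : A) (h : B) (n : ℕ) (hn : 1 < n) (w : Bˣ) (hf : algebraMap A B f = (w : B) * h ^ n)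
    (hram : ∀ (p : Ideal A) [p.IsPrime], p.height = 1 →
      ∃ (q : Ideal B) (_ : q.IsPrime), q.height = 1 ∧ q.comap (algebraMap A B) = p ∧
        Ideal.map (algebraMap B (Localization.AtPrime q)) (Ideal.map (algebraMap A B) p) =
          IsLocalRing.maximalIdeal (Localization.AtPrime q)) :
    ∃ (g : A) (u : Aˣ), f = (u : A) * g ^ n := by
  classical
  have hn0 : n ≠ 0 := by omega
  haveI : Module.FaithfullyFlat A B := Module.FaithfullyFlat.of_flat_of_isLocalHom
  have hinj : Function.Injective (algebraMap A B) := FaithfulSMul.algebraMap_injective A B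
  rcases eq_or_ne f 0 with rfl | hf0
  · exact ⟨0, 1, by rw [zero_pow hn0, mul_zero]⟩
  let I : Ideal A := (Ideal.span {h}).comap (algebraMap A B)
  have hfI : f ∈ I := by
    rw [Ideal.mem_comap, hf, Ideal.mem_span_singleton]
    exact dvd_mul_of_dvd_right (dvd_pow_self h hn0) _
  have hroot : ∀ p : Ideal A, p.IsPrime → p.height = 1 → ∃ x ∈ I, (∀ a ∈ I, ∃ s ∉ p, x ∣ s * a) ∧
      (∃ s ∉ p, f ∣ s * x ^ n) ∧ (∃ s ∉ p, x ^ n ∣ s * f) := fun p hp1 hp => by
    obtain ⟨q, hq', hq, hqp, hr⟩ := hram p hp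
    exact Groth.S7125aux.exists_root f hf0 h n hn0 w hf hinj p hp q hq hqp hr
  -- powers of elements of I are divisible by f
  have hIpow : ∀ a ∈ I, f ∣ a ^ n := fun a ha => Groth.S7125aux.dvd_of_codimOne hf0 fun p hp1 hp => by
    obtain ⟨x, -, hx, ⟨s₁, hs₁, hd⟩, -⟩ := hroot p hp1 hp
    obtain ⟨s, hs, hsd⟩ := hx a ha
    refine ⟨s₁ * s ^ n, fun hh => (hp1.mem_or_mem hh).elim hs₁ (fun h3 => hs (hp1.mem_of_pow_mem _ h3)), ?_⟩
    rw [mul_assoc, ← mul_pow]
    exact hd.trans (mul_dvd_mul_left _ (pow_dvd_pow_of_dvd hsd n))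
  -- the colon ideal
  let L : Ideal A := (Ideal.span {f}).colon (I : Set A)
  have hL : ∀ l, l ∈ L ↔ ∀ a ∈ I, f ∣ l * a := fun l => by
    simp [L, Submodule.mem_colon, Ideal.mem_span_singleton]
  obtain ⟨G, hG⟩ := IsNoetherian.noetherian I
  have hc : ∀ y : A, (∀ l ∈ L, f ∣ l * y) → y ∈ I := fun y hy => by
    have hyn : f ∣ y ^ n := Groth.S7125aux.dvd_of_codimOne hf0 fun p hp1 hp => by
      obtain ⟨x, hxI, hx, ⟨s₁, hs₁, hd⟩, -⟩ := hroot p hp1 hp
      obtain ⟨s₀, hs₀, r, hr⟩ := hx f hfI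
      choose c hc d hd' using fun a : G => hx a (hG ▸ Submodule.subset_span a.2)
      let C := ∏ a, c a
      have hC : C ∉ p := fun hh => by
        obtain ⟨a, -, ha⟩ := (Ideal.IsPrime.prod_mem_iff).1 hh
        exact hc a ha
      have hl : r * C ∈ L := (hL _).2 fun a ha => by
        rw [← hG] at ha
        refine Submodule.span_induction ?_ ⟨0, by ring⟩ (fun u v _ _ hu hv => by rw [mul_add]; exact dvd_add hu hv)
          (fun t u _ hu => by rw [smul_eq_mul, mul_left_comm]; exact dvd_mul_of_dvd_right hu _) ha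
        intro a ha
        refine ⟨s₀ * d ⟨a, ha⟩ * ∏ b ∈ Finset.univ.erase ⟨a, ha⟩, c b, ?_⟩
        have h1 : C = c ⟨a, ha⟩ * ∏ b ∈ Finset.univ.erase ⟨a, ha⟩, c b :=
          (Finset.mul_prod_erase _ _ (Finset.mem_univ _)).symm
        rw [h1, mul_assoc, mul_right_comm (c _), hd' ⟨a, ha⟩]
        linear_combination -(d ⟨a, ha⟩ * ∏ b ∈ Finset.univ.erase ⟨a, ha⟩, c b) * hr
      obtain ⟨e, he⟩ := hy _ hl
      have h2 : y * (s₀ * C) = x * e := mul_left_cancel₀ hf0 (by linear_combination x * he + C * y * hr)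
      refine ⟨s₁ * (s₀ * C) ^ n, fun hh => (hp1.mem_or_mem hh).elim hs₁ (fun h3 => ?_), ?_⟩
      · exact (hp1.mem_or_mem (hp1.mem_of_pow_mem _ h3)).elim hs₀ hC
      · rw [mul_assoc, ← mul_pow, mul_comm _ y, h2, mul_pow, ← mul_assoc]
        exact dvd_mul_of_dvd_left hd _
    rw [Ideal.mem_comap, Ideal.mem_span_singleton, ← IsIntegrallyClosed.pow_dvd_pow_iff hn0, ← map_pow]
    obtain ⟨e, he⟩ := hyn
    exact ⟨w * algebraMap A B e, by rw [he, map_mul, hf]; ring⟩
  have hhl : ∀ l ∈ L, algebraMap A B f ∣ h * algebraMap A B l := fun l hl => by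
    rw [← IsIntegrallyClosed.pow_dvd_pow_iff hn0, mul_pow, ← map_pow, ← map_pow]
    have h1 : f ^ n ∣ f * l ^ n := Groth.S7125aux.dvd_of_codimOne (pow_ne_zero _ hf0) fun p hp1 hp => by
      obtain ⟨x, hxI, -, -, s₂, hs₂, g, hg⟩ := hroot p hp1 hp
      obtain ⟨e, he⟩ := (hL l).1 hl x hxI
      refine ⟨s₂, hs₂, e ^ n * g, ?_⟩
      rw [← mul_assoc, hg, ← mul_assoc, ← mul_pow, ← he, mul_pow]
      ring
    obtain ⟨e, he⟩ := h1
    refine ⟨(↑w⁻¹ : B) * algebraMap A B e, ?_⟩
    have h2 := congrArg (algebraMap A B) he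
    rw [map_mul, map_mul, hf] at h2
    calc h ^ n * algebraMap A B (l ^ n) = (↑w⁻¹ : B) * ((w : B) * h ^ n * algebraMap A B (l ^ n)) := by
          rw [mul_assoc, ← mul_assoc, w.inv_mul, one_mul]
      _ = _ := by rw [h2]; ring
  -- flatness: h lies in the extension of I
  have hhI : h ∈ I.map (algebraMap A B) := by
    obtain ⟨GL, hGL⟩ := IsNoetherian.noetherian L
    choose b hb using fun l : GL => hhl l (hGL ▸ Submodule.subset_span l.2)
    let F : (GL → A) →ₗ[A] (Option GL → A) :=
      Fintype.linearCombination A (fun l => Pi.single none (l : A) - Pi.single (some l) f)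
    let X : (Option GL → A) →ₗ[A] B := Fintype.linearCombination A (fun o => o.elim h b)
    have hXF : X.comp F = 0 := LinearMap.pi_ext' fun l => LinearMap.ext_ring (by
      show X (F (Pi.single l 1)) = 0
      rw [Fintype.linearCombination_apply_single, one_smul, map_sub, Fintype.linearCombination_apply_single,
        Fintype.linearCombination_apply_single, Algebra.smul_def, Algebra.smul_def]
      show algebraMap A B l * h - algebraMap A B f * b l = 0
      rw [← hb]; ring)
    obtain ⟨k, a, y, hya, haF⟩ := Module.Flat.exists_factorization_of_comp_eq_zero_of_free hXF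
    have hh : h = y (a (Pi.single none 1)) := by
      rw [← LinearMap.comp_apply, ← hya, Fintype.linearCombination_apply_single, one_smul]
      rfl
    rw [hh]
    have hmem : ∀ j, a (Pi.single none 1) j ∈ I := fun j => hc _ fun l hl => by
      rw [← hGL] at hl
      refine Submodule.span_induction ?_ (by rw [zero_mul]; exact dvd_zero f) (fun u v _ _ hu hv => by rw [add_mul]; exact dvd_add hu hv)
        (fun t u _ hu => by rw [smul_eq_mul, mul_assoc]; exact dvd_mul_of_dvd_right hu _) hl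
      intro l hl
      have h3 := LinearMap.congr_fun haF (Pi.single ⟨l, hl⟩ 1)
      simp only [LinearMap.comp_apply, LinearMap.zero_apply, F] at h3
      rw [Fintype.linearCombination_apply_single, one_smul, map_sub, sub_eq_zero,
        show (Pi.single none (l : A) : Option GL → A) = l • Pi.single none 1 by rw [← Pi.single_smul', smul_eq_mul, mul_one],
        show (Pi.single (some ⟨l, hl⟩) f : Option GL → A) = f • Pi.single (some ⟨l, hl⟩) 1 by rw [← Pi.single_smul', smul_eq_mul, mul_one],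
        map_smul, map_smul] at h3
      exact ⟨_, DFunLike.congr_fun h3 j⟩
    rw [← Finsupp.univ_sum_single (a (Pi.single none 1)), map_sum]
    refine sum_mem fun j _ => ?_
    rw [show (Finsupp.single j (a (Pi.single none 1) j) : Fin k →₀ A) = a (Pi.single none 1) j • Finsupp.single j 1 by simp,
      map_smul, Algebra.smul_def]
    exact Ideal.mul_mem_right _ _ (Ideal.mem_map_of_mem _ (hmem j))
  -- locality
  have hex : ∃ g ∈ I, ∃ c : Bˣ, algebraMap A B g = h * c := by
    by_contra hne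
    push Not at hne
    have h1 : I.map (algebraMap A B) ≤ Ideal.span {h} * IsLocalRing.maximalIdeal B := Ideal.map_le_iff_le_comap.2 fun a ha => by
      obtain ⟨c, hc⟩ := Ideal.mem_span_singleton.1 (Ideal.mem_comap.1 ha)
      rw [Ideal.mem_comap, hc]
      exact Ideal.mul_mem_mul (Ideal.mem_span_singleton_self _) ((IsLocalRing.mem_maximalIdeal _).2 fun hu => hne a ha hu.unit hc)
    obtain ⟨z, hz, hzh⟩ := Ideal.mem_span_singleton_mul.1 (h1 hhI)
    have hh0 : h ≠ 0 := fun h0 => hf0 (hinj (by rw [hf, h0, zero_pow hn0, mul_zero, map_zero]))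
    rw [mul_eq_left₀ hh0] at hzh
    exact (IsLocalRing.mem_maximalIdeal _).1 hz (hzh ▸ isUnit_one)
  obtain ⟨g, hg, c, hgc⟩ := hex
  obtain ⟨e, he⟩ := hIpow g hg
  have he' : IsUnit e := by
    refine isUnit_of_map_unit (algebraMap A B) e ?_
    have h2 := congrArg (algebraMap A B) he
    rw [map_pow, map_mul, hgc, hf, mul_pow] at h2
    have hh0 : h ≠ 0 := fun h0 => hf0 (hinj (by rw [hf, h0, zero_pow hn0, mul_zero, map_zero]))
    have h3 : (c : B) ^ n = (w : B) * algebraMap A B e := mul_left_cancel₀ (pow_ne_zero n hh0) (by linear_combination h2)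
    exact (IsUnit.mul_iff.1 (h3 ▸ c.isUnit.pow n)).2
  exact ⟨g, he'.unit⁻¹, by rw [he, mul_left_comm, IsUnit.val_inv_mul, mul_one]⟩

end Groth.Agent.S7125
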