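import Groth.Statements.S0567
import Groth.Agent.L01.NagataFiniteType

set_option autoImplicit false
universe u
open CAlg

namespace Groth.Agent.S0567

/-- A ring is Nagata exactly when it is Noetherian and universally Japanese. -/
theorem result (R : Type u) [CommRing R] :
    CAlg.IsNagata R ↔ (IsNoetherianRing R ∧ CAlg.IsUniversallyJapanese R) := by
  refine ⟨fun h => ⟨h.1, fun S _ _ _ hS => ?_⟩, fun h => ⟨h.1, fun p _ => h.2 (R ⧸ p) inferInstance⟩⟩
  haveI := hS
  exact Groth.L01.Nagata.isN2_of_isNagata (Groth.L01.Nagata.isNagata_of_finiteType (R := R) h)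

end Groth.Agent.S0567
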