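import Groth.Statements.S19416
import Groth.Agent.L22.SmoothInter
-- import your own Groth.Agent.* helpers here

set_option autoImplicit false
universe u
open CategoryTheory AlgebraicGeometry
open IntMult

namespace Groth.Agent.S19416

/-- Let k be a field and X a smooth variety over k (the structure morphism X → Spec k smooth, separated
and quasi-compact, X integral) of dimension n, and let V, W ⊆ X be closed irreducible subsets of
dimensions r and s. Then every irreducible component Z of V ∩ W has dimension at least r + s − n,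
stated as r + s ≤ dim Z + n with Krull dimensions of the subspaces; equivalently the codimension of
Z is at most the sum of the codimensions of V and W. The base field is arbitrary here; the same
statement over an algebraically closed field is the classical dimension count for intersections on a
nonsingular variety. -/
theorem result (k : Type u) [Field k] (X : Scheme.{u})
    (f : X ⟶ Spec (CommRingCat.of k)) [Smooth f] [IsSeparated f] [QuasiCompact f] [IsIntegral X]
    (n r s : ℕ) (hn : topologicalKrullDim X = n) (V W : Set X) (hVc : IsClosed V)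
    (hVi : IsIrreducible V) (hWc : IsClosed W) (hWi : IsIrreducible W)
    (hr : topologicalKrullDim ↥V = r) (hs : topologicalKrullDim ↥W = s) (Z : Set ↥(V ∩ W))
    (hZ : Z ∈ irreducibleComponents ↥(V ∩ W)) :
    ((r + s : ℕ) : WithBot ℕ∞) ≤ topologicalKrullDim ↥Z + n := by
  have hcVW : IsClosed (V ∩ W) := hVc.inter hWc
  have hZc : IsClosed Z := isClosed_of_mem_irreducibleComponents Z hZ
  let Z' : Set X := Subtype.val '' Z
  have hZ'c : IsClosed Z' := hcVW.isClosedMap_subtype_val Z hZc
  have hZ'i : IsIrreducible Z' := hZ.1.image _ continuous_subtype_val.continuousOn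
  obtain ⟨η, hη⟩ := QuasiSober.sober hVi hVc
  obtain ⟨ξ, hξ⟩ := QuasiSober.sober hWi hWc
  obtain ⟨ζ, hζ⟩ := QuasiSober.sober hZ'i hZ'c
  rw [isGenericPoint_def] at hη hξ hζ
  have hmemV : ∀ z, η ⤳ z ↔ z ∈ V := fun z => by rw [specializes_iff_mem_closure, hη]
  have hmemW : ∀ z, ξ ⤳ z ↔ z ∈ W := fun z => by rw [specializes_iff_mem_closure, hξ]
  have hζm : ζ ∈ Z' := hζ ▸ subset_closure rfl
  obtain ⟨z₀, hz₀, hz₀e⟩ := hζm
  have h₁ : η ⤳ ζ := (hmemV ζ).2 (hz₀e ▸ z₀.2.1)
  have h₂ : ξ ⤳ ζ := (hmemW ζ).2 (hz₀e ▸ z₀.2.2)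
  have hmax : ∀ z : X, η ⤳ z → ξ ⤳ z → z ⤳ ζ → z = ζ := by
    intro z a₁ a₂ a₃
    let zz : ↥(V ∩ W) := ⟨z, (hmemV z).1 a₁, (hmemW z).1 a₂⟩
    have hsub : Z ⊆ closure {zz} := by
      intro t ht
      rw [closure_subtype, Set.image_singleton]
      have : t.1 ∈ closure ({ζ} : Set X) := hζ.symm ▸ ⟨t, ht, rfl⟩
      exact (a₃.trans (specializes_iff_mem_closure.2 this)).mem_closure
    have hge := hZ.2 isIrreducible_singleton.closure hsub
    have hz : z ∈ closure ({ζ} : Set X) := by
      rw [hζ]
      exact ⟨zz, hge (subset_closure rfl), rfl⟩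
    exact (a₃.antisymm (specializes_iff_mem_closure.2 hz)).eq
  have h := Groth.L22.SmoothInter.dim_closure_add_le f h₁ h₂ hmax
  rw [hη, hξ, hζ, hr, hs, hn] at h
  have hZdim : topologicalKrullDim ↥Z' = topologicalKrullDim ↥Z :=
    Groth.L22.SchemeDim.topologicalKrullDim_eq_of_isEmbedding
      (f := fun t : ↥Z => t.1.1) (Topology.IsEmbedding.subtypeVal.comp Topology.IsEmbedding.subtypeVal)
      (by rw [Set.range_comp', Subtype.range_coe])
  rw [hZdim] at h
  push_cast
  exact h

end Groth.Agent.S19416
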