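import Groth.Statements.S6575
import Groth.Agent.L00.CauchyBinet
import Mathlib.RingTheory.Ideal.Quotient.Operations

set_option autoImplicit false
universe u
open Curves

namespace Groth.Agent.S6575

/-- Let k be a field, A = k[[x_1, …, x_n]] and I ⊆ A an ideal generated by f_1, …, f_m and also by g_1,
…, g_l. Then for every r ≥ 0 the ideal of A/I generated by the r × r minors of (∂f_j/∂x_i) equals
the one generated by the r × r minors of (∂g_s/∂x_i); stated in A as equality of the ideals
generated by the minors together with I. (The published result also asserts independence of the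
regular system of parameters x_1, …, x_n, which is not stated here.) -/
theorem result (k : Type u) [Field k] (n m l r : ℕ)
    (f : Fin m → MvPowerSeries (Fin n) k) (g : Fin l → MvPowerSeries (Fin n) k)
    (hfg : Ideal.span (Set.range f) = Ideal.span (Set.range g)) :
    Ideal.span {d : MvPowerSeries (Fin n) k | ∃ (ρ : Fin r → Fin m) (γ : Fin r → Fin n), Function.Injective ρ ∧ Function.Injective γ ∧
          d = ((Matrix.of fun (j : Fin m) (i : Fin n) => MvPowerSeries.pderiv k i (f j)).submatrix ρ γ).det} ⊔ Ideal.span (Set.range f) =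
      Ideal.span {d : MvPowerSeries (Fin n) k | ∃ (ρ : Fin r → Fin l) (γ : Fin r → Fin n), Function.Injective ρ ∧ Function.Injective γ ∧
          d = ((Matrix.of fun (j : Fin l) (i : Fin n) => MvPowerSeries.pderiv k i (g j)).submatrix ρ γ).det} ⊔ Ideal.span (Set.range g) := by
  classical
  have key : ∀ (p q : ℕ) (F : Fin p → MvPowerSeries (Fin n) k) (G : Fin q → MvPowerSeries (Fin n) k),
      Ideal.span (Set.range F) = Ideal.span (Set.range G) →
      Ideal.span {d : MvPowerSeries (Fin n) k | ∃ (ρ : Fin r → Fin p) (γ : Fin r → Fin n), Function.Injective ρ ∧ Function.Injective γ ∧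
          d = ((Matrix.of fun (j : Fin p) (i : Fin n) => MvPowerSeries.pderiv k i (F j)).submatrix ρ γ).det} ⊔ Ideal.span (Set.range F) ≤
      Ideal.span {d : MvPowerSeries (Fin n) k | ∃ (ρ : Fin r → Fin q) (γ : Fin r → Fin n), Function.Injective ρ ∧ Function.Injective γ ∧
          d = ((Matrix.of fun (j : Fin q) (i : Fin n) => MvPowerSeries.pderiv k i (G j)).submatrix ρ γ).det} ⊔ Ideal.span (Set.range G) := by
    intro p q F G hFG
    refine sup_le (Ideal.span_le.2 ?_) (hFG.le.trans le_sup_right)
    rintro _ ⟨ρ, γ, -, hγ, rfl⟩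
    rw [SetLike.mem_coe]
    generalize hJ : Ideal.span {d : MvPowerSeries (Fin n) k | ∃ (ρ : Fin r → Fin q) (γ : Fin r → Fin n), Function.Injective ρ ∧ Function.Injective γ ∧
          d = ((Matrix.of fun (j : Fin q) (i : Fin n) => MvPowerSeries.pderiv k i (G j)).submatrix ρ γ).det} ⊔ Ideal.span (Set.range G) = J
    rw [← Ideal.Quotient.eq_zero_iff_mem]
    have hGJ : ∀ s, Ideal.Quotient.mk J (G s) = 0 := fun s => Ideal.Quotient.eq_zero_iff_mem.2
      (hJ ▸ Ideal.mem_sup_right (Ideal.subset_span ⟨s, rfl⟩))
    choose a ha using fun j => Ideal.mem_span_range_iff_exists_fun.1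
      (show F j ∈ Ideal.span (Set.range G) from hFG ▸ Ideal.subset_span ⟨j, rfl⟩)
    have hder : ∀ j i, Ideal.Quotient.mk J (MvPowerSeries.pderiv k i (F j)) =
        ∑ s, Ideal.Quotient.mk J (a j s) * Ideal.Quotient.mk J (MvPowerSeries.pderiv k i (G s)) := by
      intro j i
      rw [← ha j, map_sum, map_sum]
      refine Finset.sum_congr rfl fun s _ => ?_
      rw [Derivation.leibniz, map_add, smul_eq_mul, smul_eq_mul, map_mul, map_mul, hGJ]
      ring
    rw [RingHom.map_det]
    have hmul : (Ideal.Quotient.mk J).mapMatrix ((Matrix.of fun (j : Fin p) (i : Fin n) => MvPowerSeries.pderiv k i (F j)).submatrix ρ γ) =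
        (Matrix.of fun (x : Fin r) (s : Fin q) => Ideal.Quotient.mk J (a (ρ x) s)) *
          (Matrix.of fun (s : Fin q) (y : Fin r) => Ideal.Quotient.mk J (MvPowerSeries.pderiv k (γ y) (G s))) := by
      ext x y
      simp [Matrix.mul_apply, hder]
    rw [hmul, Groth.L00.CB.det_mul_expand]
    refine Finset.sum_eq_zero fun t _ => ?_
    suffices hdet : ((Matrix.of fun (s : Fin q) (y : Fin r) =>
        Ideal.Quotient.mk J (MvPowerSeries.pderiv k (γ y) (G s))).submatrix t id).det = 0 by rw [hdet, mul_zero]
    by_cases ht : Function.Injective t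
    · have he : (Matrix.of fun (s : Fin q) (y : Fin r) =>
          Ideal.Quotient.mk J (MvPowerSeries.pderiv k (γ y) (G s))).submatrix t id =
          (Ideal.Quotient.mk J).mapMatrix ((Matrix.of fun (j : Fin q) (i : Fin n) => MvPowerSeries.pderiv k i (G j)).submatrix t γ) := by
        ext x y
        simp
      rw [he, ← RingHom.map_det]
      exact Ideal.Quotient.eq_zero_iff_mem.2 (hJ ▸ Ideal.mem_sup_left (Ideal.subset_span ⟨t, γ, ht, hγ, rfl⟩))
    · rw [Function.not_injective_iff] at ht
      obtain ⟨x, y, hxy, hne⟩ := ht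
      exact Matrix.det_zero_of_row_eq hne (by funext z; simp [hxy])
  exact le_antisymm (key m l f g hfg) (key l m g f hfg.symm)

end Groth.Agent.S6575
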