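import Groth.Statements.S13731
import Groth.Agent.L07.DVRProper
import Mathlib.AlgebraicGeometry.Limits
import Mathlib.AlgebraicGeometry.PullbackCarrier
import Mathlib.RingTheory.DiscreteValuationRing.Basic
import Mathlib.Topology.Sober

set_option linter.style.haveILetI false

set_option autoImplicit false
universe u
open HTop

namespace Groth.Agent.S13731

open Topology in
theorem exists_gen {B : Type u} [CommRing B] (f : B) (w : PrimeSpectrum B)
    (h : w ∈ closure (PrimeSpectrum.basicOpen f : Set (PrimeSpectrum B))) :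
    ∃ q : PrimeSpectrum B, q ∈ PrimeSpectrum.basicOpen f ∧ q ⤳ w := by
  let M : Submonoid B := w.asIdeal.primeCompl ⊔ Submonoid.powers f
  by_cases h0 : (0 : B) ∈ M
  · obtain ⟨c, hc, d, hd, hcd⟩ := Submonoid.mem_sup.1 h0
    obtain ⟨n, rfl⟩ := hd
    obtain ⟨v, hvc, hvf⟩ := mem_closure_iff.1 h (PrimeSpectrum.basicOpen c) (PrimeSpectrum.basicOpen c).2 hc
    have : c * f ^ n ∈ v.asIdeal := by rw [hcd]; exact zero_mem _
    exact absurd this fun hm => (v.isPrime.mem_or_mem hm).elim hvc fun hp => hvf (v.isPrime.mem_of_pow_mem n hp)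
  · obtain ⟨q, hq, -, hdisj⟩ := Ideal.exists_le_prime_disjoint (⊥ : Ideal B) M
      (Set.disjoint_left.2 fun x hx hx' => h0 ((Ideal.mem_bot.1 hx) ▸ hx'))
    refine ⟨⟨q, hq⟩, fun hf => Set.disjoint_left.1 hdisj hf
      (Submonoid.mem_sup_right (Submonoid.mem_powers f)), ?_⟩
    rw [← PrimeSpectrum.le_iff_specializes]
    intro x hx
    by_contra hxw
    exact Set.disjoint_left.1 hdisj hx (Submonoid.mem_sup_left hxw)

open CategoryTheory CategoryTheory.Limits AlgebraicGeometry in
theorem exists_gen' {P : Scheme.{u}} {W : Type u} [CommRing W] (p : P ⟶ Spec (CommRingCat.of W)) (π : W)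
    (w : P) (h : w ∈ closure (p ⁻¹' (PrimeSpectrum.basicOpen π : Set (PrimeSpectrum W)))) :
    ∃ q : P, p q ∈ PrimeSpectrum.basicOpen π ∧ q ⤳ w := by
  obtain ⟨A, hA, hwA, -⟩ := exists_isAffineOpen_mem_and_subset (x := w) (U := (⊤ : P.Opens)) trivial
  obtain ⟨w₀, rfl⟩ : w ∈ Set.range hA.fromSpec := by rw [hA.range_fromSpec]; exact hwA
  let φ := Spec.preimage (hA.fromSpec ≫ p)
  have hφ : Spec.map φ = hA.fromSpec ≫ p := Spec.map_preimage _
  have hpre : hA.fromSpec ⁻¹' (p ⁻¹' (PrimeSpectrum.basicOpen π : Set (PrimeSpectrum W))) =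
      (PrimeSpectrum.basicOpen (φ.hom π) : Set (PrimeSpectrum Γ(P, A))) := by
    ext v
    show (hA.fromSpec ≫ p) v ∈ PrimeSpectrum.basicOpen π ↔ _
    rw [← hφ]
    rfl
  have h2 : w₀ ∈ closure (PrimeSpectrum.basicOpen (φ.hom π) : Set (PrimeSpectrum Γ(P, A))) := by
    rw [← hpre]
    exact (hA.fromSpec.isOpenEmbedding.isOpenMap.preimage_closure_eq_closure_preimage
      hA.fromSpec.continuous _).subset h
  obtain ⟨q, hq, hqw⟩ := exists_gen _ _ h2
  exact ⟨hA.fromSpec q, hpre.ge hq, hqw.map hA.fromSpec.continuous⟩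

open CategoryTheory CategoryTheory.Limits AlgebraicGeometry in
/-- Let X be a separated Noetherian scheme and {p_i : U_i → X} a finite family of separated morphisms of
finite type whose induced morphism from the disjoint union of the U_i to X is universally submersive
(an h-covering). Then every point x of X is p_i(u) for some i and some point u of U_i admitting a
generization ξ in U_i whose image p_i(ξ) is a generic point of an irreducible component of X.
Equivalently, the irreducible components of the U_i dominating an irreducible component of X jointly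
cover X. -/
theorem result {X : Scheme.{u}} [IsNoetherian X] [X.IsSeparated] (E : PreZeroHypercover.{u} X) [Finite E.I₀] [∀ i, LocallyOfFiniteType (E.f i)] [∀ i, QuasiCompact (E.f i)] [∀ i, IsSeparated (E.f i)] (hE : SGA1.UnivSubmersive (Sigma.desc E.f)) (x : X) : ∃ (i : E.I₀) (ξ u : E.X i), ξ ⤳ u ∧ E.f i u = x ∧ closure {E.f i ξ} ∈ irreducibleComponents ↥X := by
  have hq : Topology.IsQuotientMap (Sigma.desc E.f) := hE (𝟙 _) (𝟙 _) _ (IsPullback.of_vert_isIso ⟨by simp⟩)
  obtain ⟨η, hη, hηx⟩ : ∃ η : X, closure {η} ∈ irreducibleComponents ↥X ∧ η ⤳ x := by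
    have hZ := irreducibleComponent_mem_irreducibleComponents x
    have hg := hZ.1.isGenericPoint_genericPoint_closure
    rw [isClosed_irreducibleComponent.closure_eq] at hg
    exact ⟨hZ.1.genericPoint, hg.def.symm ▸ hZ, hg.specializes mem_irreducibleComponent⟩
  by_cases hxη : η = x
  · subst hxη
    obtain ⟨v, hv⟩ := hq.surjective η
    obtain ⟨i, u, rfl⟩ := (sigmaOpenCover E.X).exists_eq v
    have hu : E.f i u = η :=
      (congrArg (fun m : E.X i ⟶ X => m u) (Sigma.ι_desc E.f i)).symm.trans hv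
    exact ⟨i, u, u, specializes_rfl, hu, hu ▸ hη⟩
  obtain ⟨W, t, hW, ht0, ht1⟩ := Groth.L07.DVRProper.exists_dvr_through' hηx hxη
  obtain ⟨π, hπ⟩ := IsDiscreteValuationRing.exists_irreducible W
  let D : Set (Spec (CommRingCat.of W)) := (PrimeSpectrum.basicOpen π : Set (PrimeSpectrum W))
  have hcl : ∀ v : PrimeSpectrum W, π ∈ v.asIdeal → v = IsLocalRing.closedPoint W := fun v hv => by
    refine PrimeSpectrum.ext ?_
    show v.asIdeal = IsLocalRing.maximalIdeal W
    refine le_antisymm (IsLocalRing.le_maximalIdeal v.isPrime.ne_top) ?_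
    rw [hπ.maximalIdeal_eq]
    exact (Ideal.span_singleton_le_iff_mem _).2 hv
  have hgen : ∀ v : PrimeSpectrum W, π ∉ v.asIdeal → v.asIdeal = ⊥ := fun v hv => by
    by_contra hne
    obtain ⟨n, hn⟩ := IsDiscreteValuationRing.ideal_eq_span_pow_irreducible hne hπ
    rcases n with _ | n
    · exact v.isPrime.ne_top (by rw [hn, pow_zero, Ideal.span_singleton_one])
    · exact hv (v.isPrime.mem_of_pow_mem (n + 1) (hn ▸ Ideal.mem_span_singleton_self _))
  let γ : Spec (CommRingCat.of W) :=
    Spec.map (CommRingCat.ofHom W.subtype) (IsLocalRing.closedPoint (X.residueField η))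
  have htγ : t γ = η := by
    show (Spec.map (CommRingCat.ofHom W.subtype) ≫ t) _ = η
    rw [ht1]
    exact Scheme.fromSpecResidueField_apply η _
  have hγ : γ ∈ D := fun h => hxη (by rw [← htγ, hcl γ h, ht0])
  have hDeq : ∀ v ∈ D, v = γ := fun v hv => PrimeSpectrum.ext ((hgen v hv).trans (hgen γ hγ).symm)
  let p : pullback (Sigma.desc E.f) t ⟶ Spec (CommRingCat.of W) := pullback.snd _ _
  have hp : Topology.IsQuotientMap p := hE (pullback.fst (Sigma.desc E.f) t) t p (IsPullback.of_hasPullback (Sigma.desc E.f) t).flip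
  have hDc : ¬ IsClosed D := fun hD => by
    have hsp : γ ⤳ IsLocalRing.closedPoint W := IsLocalRing.specializes_closedPoint γ
    refine hsp.mem_closed hD hγ ?_
    show π ∈ IsLocalRing.maximalIdeal W
    rw [hπ.maximalIdeal_eq]
    exact Ideal.mem_span_singleton_self π
  have hDc' : ¬ IsClosed (p ⁻¹' D) := fun h => hDc (hp.isClosed_preimage.1 h)
  obtain ⟨w, hw, hwD⟩ : ∃ w, w ∈ closure (p ⁻¹' D) ∧ w ∉ p ⁻¹' D := by
    by_contra hne
    push Not at hne
    exact hDc' (closure_subset_iff_isClosed.1 hne)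
  obtain ⟨q, hqD, hqw⟩ := exists_gen' p π w hw
  have hf : ∀ z, Sigma.desc E.f (pullback.fst (Sigma.desc E.f) t z) = t (p z) := fun z => by
    show (pullback.fst (Sigma.desc E.f) t ≫ Sigma.desc E.f) z = (p ≫ t) z
    rw [pullback.condition]
  obtain ⟨i, u, hu⟩ := (sigmaOpenCover E.X).exists_eq (pullback.fst (Sigma.desc E.f) t w)
  obtain ⟨ξ, hξ⟩ : pullback.fst (Sigma.desc E.f) t q ∈ Set.range (Sigma.ι E.X i) :=
    (hqw.map (pullback.fst (Sigma.desc E.f) t).continuous).mem_open
      (Sigma.ι E.X i).isOpenEmbedding.isOpen_range ⟨u, hu⟩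
  have hi : ∀ a, E.f i a = Sigma.desc E.f (Sigma.ι E.X i a) := fun a =>
    (congrArg (fun m : E.X i ⟶ X => m a) (Sigma.ι_desc E.f i)).symm
  refine ⟨i, ξ, u, ?_, ?_, ?_⟩
  · refine (Sigma.ι E.X i).isOpenEmbedding.toIsEmbedding.toIsInducing.specializes_iff.1 ?_
    rw [hξ]
    exact hu ▸ hqw.map (pullback.fst (Sigma.desc E.f) t).continuous
  · exact (hi u).trans ((congrArg (fun z => Sigma.desc E.f z) hu).trans
      ((hf w).trans ((congrArg (fun z => t z) (hcl (p w) (not_not.1 hwD))).trans ht0)))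
  · have : E.f i ξ = η := (hi ξ).trans ((congrArg (fun z => Sigma.desc E.f z) hξ).trans
      ((hf q).trans ((congrArg (fun z => t z) (hDeq (p q) hqD)).trans htγ)))
    rw [this]
    exact hη

end Groth.Agent.S13731
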