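import Groth.Statements.S1454
import Groth.Agent.S2593
import Mathlib.AlgebraicGeometry.Morphisms.QuasiFinite
import Mathlib.AlgebraicGeometry.Noetherian
import Mathlib.Topology.KrullDimension

set_option autoImplicit false
universe u
open FlatMor

set_option linter.style.haveILetI false
set_option backward.isDefEq.respectTransparency.types false

namespace Groth.Agent.S1454

open AlgebraicGeometry CategoryTheory Limits in
/-- Consider a locally quasi-finite f : X → Y whose target is locally Noetherian with geometrically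
unibranch local rings, and assume every irreducible component of X dominates an irreducible
component of Y (its generic point maps to a generic point of an irreducible component of Y). Then f
is universally open. -/
theorem result {X Y : Scheme.{u}} (f : X ⟶ Y) [LocallyQuasiFinite f] [LocallyOfFiniteType f] [IsLocallyNoetherian Y]
    (hY : ∀ y : Y, CAlg2.IsGeomUnibranch (Y.presheaf.stalk y))
    (hdom : ∀ Z ∈ irreducibleComponents ↑X, ∀ x : X, IsGenericPoint x Z → ∃ W ∈ irreducibleComponents ↑Y, IsGenericPoint (f x) W) :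
    UniversallyOpen f := by
  refine Groth.Agent.S2593.result hY f fun x => ?_
  haveI : IsLocallyNoetherian X := LocallyOfFiniteType.isLocallyNoetherian f
  obtain ⟨V, hV, hxV, -⟩ := exists_isAffineOpen_mem_and_subset (X := X) (x := x) (U := ⊤)
    (TopologicalSpace.Opens.mem_top _)
  haveI : IsNoetherianRing Γ(X, V) := IsLocallyNoetherian.component_noetherian ⟨V, hV⟩
  haveI : TopologicalSpace.NoetherianSpace (V : Type u) := noetherianSpace_of_isAffineOpen V hV
  let C : Set V := ⋃ Z ∈ {Z ∈ irreducibleComponents (V : Type u) | (⟨x, hxV⟩ : V) ∉ Z}, Z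
  have hC : IsClosed C :=
    (TopologicalSpace.NoetherianSpace.finite_irreducibleComponents.subset
      (fun Z hZ => hZ.1)).isClosed_biUnion fun Z hZ => isClosed_of_mem_irreducibleComponents Z hZ.1
  let U : X.Opens := V.ι ''ᵁ ⟨Cᶜ, hC.isOpen_compl⟩
  have hxU : x ∈ U := ⟨⟨x, hxV⟩, by
    intro hh
    obtain ⟨Z, ⟨-, hxZ⟩, hxZ'⟩ := Set.mem_iUnion₂.mp hh
    exact hxZ hxZ', rfl⟩
  have hUV : U ≤ V := by
    rintro _ ⟨w, -, rfl⟩
    exact w.2
  refine ⟨0, U, hxU, fun Z hZ => ?_, fun x' Z hZ => ?_⟩
  · haveI : QuasiSober (↥U : Type u) := inferInstanceAs (QuasiSober U.toScheme)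
    obtain ⟨ξ, hξ⟩ : ∃ ξ, IsGenericPoint ξ Z :=
      QuasiSober.sober hZ.1 (isClosed_of_mem_irreducibleComponents Z hZ)
    have hmax : ∀ η : X, η ⤳ ξ.1 → ξ.1 ⤳ η := by
      intro η hη
      have hηU : η ∈ U := hη.mem_open U.isOpen ξ.2
      have h1 : (⟨η, hηU⟩ : (U : Type u)) ⤳ ξ :=
        (Topology.IsInducing.specializes_iff Topology.IsInducing.subtypeVal).mp hη
      have h2 : Z ⊆ closure {(⟨η, hηU⟩ : (U : Type u))} := by
        rw [← hξ.def]; exact closure_minimal (Set.singleton_subset_iff.mpr
          (specializes_iff_mem_closure.mp h1)) isClosed_closure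
      have h3 := hZ.2 isIrreducible_singleton.closure h2
      have h4 : ξ ⤳ (⟨η, hηU⟩ : (U : Type u)) := by
        rw [specializes_iff_mem_closure, hξ.def]; exact h3 (subset_closure rfl)
      exact h4.map continuous_subtype_val
    have hcomp : closure {ξ.1} ∈ irreducibleComponents (X : Type u) := by
      refine ⟨isIrreducible_singleton.closure, fun T hT hle => ?_⟩
      obtain ⟨η, hη⟩ : ∃ η, IsGenericPoint η (closure T) :=
        QuasiSober.sober hT.closure isClosed_closure
      have h1 : η ⤳ ξ.1 := by
        rw [specializes_iff_mem_closure, hη.def]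
        exact subset_closure (hle (subset_closure rfl))
      refine subset_closure.trans ?_
      rw [← hη.def]
      exact closure_minimal (Set.singleton_subset_iff.mpr
        (specializes_iff_mem_closure.mp (hmax η h1))) isClosed_closure
    obtain ⟨W, hW, hWg⟩ := hdom _ hcomp (ξ.1) isGenericPoint_closure
    -- the component passes through `x`
    obtain ⟨w, hwC, hw⟩ : ξ.1 ∈ U := ξ.2
    obtain ⟨W₀, hW₀, hwW₀⟩ :=
      exists_mem_irreducibleComponents_subset_of_isIrreducible {w} isIrreducible_singleton
    have hxW₀ : (⟨x, hxV⟩ : V) ∈ W₀ := by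
      by_contra hh
      exact hwC (Set.mem_biUnion ⟨hW₀, hh⟩ (hwW₀ rfl))
    obtain ⟨η, hη⟩ : ∃ η, IsGenericPoint η W₀ :=
      QuasiSober.sober hW₀.1 (isClosed_of_mem_irreducibleComponents W₀ hW₀)
    have hsp : ξ.1 ⤳ x := by
      have h1 : V.ι η ⤳ ξ.1 := by
        rw [← hw]
        exact (hη.specializes (hwW₀ rfl)).map V.ι.continuous
      exact (hmax _ h1).trans ((hη.specializes hxW₀).map V.ι.continuous)
    refine ⟨W, hW, ?_, ?_⟩
    · rw [← hWg.def]
      exact specializes_iff_mem_closure.mp (hsp.map f.continuous)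
    · rw [← hξ.def]
      refine Eq.trans (closure_image_closure (U.ι ≫ f).continuous) ?_
      exact (congrArg closure Set.image_singleton).trans hWg.def
  · haveI : DiscreteTopology (↥((U.ι ≫ f).fiber ((U.ι ≫ f).base x')) : Type u) := inferInstance
    haveI : Nonempty (↥Z : Type u) := hZ.1.nonempty.to_subtype
    haveI : DiscreteTopology (↥Z : Type u) := inferInstance
    haveI : Nonempty (TopologicalSpace.IrreducibleCloseds (↥Z : Type u)) :=
      ⟨⟨closure {Classical.arbitrary _}, isIrreducible_singleton.closure, isClosed_closure⟩⟩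
    refine le_antisymm ?_ ?_
    · exact_mod_cast topologicalKrullDim_zero_of_discreteTopology (↥Z : Type u)
    · exact_mod_cast (Order.krullDim_nonneg (α := TopologicalSpace.IrreducibleCloseds (↥Z : Type u)))

end Groth.Agent.S1454
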