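import Groth.Statements.S1370
import Mathlib.AlgebraicGeometry.Morphisms.FinitePresentation
import Groth.Agent.L02.Cons.CMFibre
import Groth.Agent.L07.GeomRk.RelAss
import Groth.Agent.L07.GeomRk.ZComp
import Groth.Agent.L02.FibDepth.ConstrResults
-- import your own Groth.Agent.* helpers here

set_option autoImplicit false
universe u
open FlatMor

open Topology L02.FibDepth
namespace Groth.Agent.S1370

open AlgebraicGeometry CategoryTheory Limits in
/-- Let f be of finite presentation, F a quasi-coherent module of finite presentation on the source, and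
U an open of the source which is quasi-compact over the target. Then the set of points y of the
target such that all associated points of F restricted to the fibre over y lie in U is locally
constructible. -/
theorem result {X Y : Scheme.{u}} (f : X ⟶ Y) [LocallyOfFinitePresentation f] [QuasiCompact f] [QuasiSeparated f]
    (F : X.Modules) (hFq : Coh.IsQCoh F) (hFp : CohB1.IsFP F) (U : X.Opens) [QuasiCompact (U.ι ≫ f)] :
    Topology.IsLocallyConstructible {y : ↑Y | ∀ x ∈ MoreMor.relAss f F, f x = y → x ∈ U} := by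

  haveI : QuasiCompact U.ι := QuasiCompact.of_comp U.ι f
  have hU : IsLocallyConstructible (U : Set X) :=
    ((IsRetrocompact_iff_isSpectralMap_subtypeVal.mpr
      (quasiCompact_iff_isSpectralMap.mp (inferInstance : QuasiCompact U.ι))).isConstructible U.2).isLocallyConstructible
  let D := pd f F hFp
  let T : ℕ → Set X := fun j => LD (fun x : X => f x) D.δ ({x | x ∈ D.S ∧ D.a x + D.δ x = j} ∩ (U : Set X)ᶜ) j
  have hT : ∀ j, IsLocallyConstructible (T j) := fun j => Groth.L07.GeomRk.isLocallyConstructible_LD f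
    ((isLocallyConstructible_rect_eq (hasCharts₀_module f F hFp) j).inter
      (L02.Cons.isLocallyConstructible_compl hU)) j
  have hTE : ∀ (x : X) (j : ℕ), x ∈ T j → ∃ z ∈ D.Ass, z ⤳ x ∧ f z = f x ∧ z ∉ U ∧ D.δ z = j := by
    rintro x j ⟨z, ⟨⟨hzS, hz⟩, hzU⟩, hzx, hp, hj⟩
    exact ⟨z, ⟨hzS, by omega⟩, hzx, hp, hzU, by omega⟩
  have hE : IsLocallyConstructible (⋃ j, T j) := by
    intro x₀
    obtain ⟨W, N, hW, hxW, hN⟩ := D.exists_bdd x₀
    obtain ⟨W', hW', hW'o, hc⟩ :=
      (IsLocallyConstructible.biUnion (Finset.range (N + 1)).finite_toSet fun j _ => hT j) x₀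
    refine ⟨W' ∩ W, Filter.inter_mem hW' (hW.mem_nhds hxW), hW'o.inter hW, ?_⟩
    refine (congrArg IsConstructible ?_).mp (hc.preimage_of_isOpenEmbedding
      (IsOpenEmbedding.inclusion Set.inter_subset_left ((hW'o.inter hW).preimage continuous_subtype_val)))
    ext ⟨x, hxW', hxW⟩
    simp only [Set.mem_preimage, Set.mem_iUnion]
    constructor
    · rintro ⟨j, -, hj⟩
      exact ⟨j, hj⟩
    · rintro ⟨j, hj⟩
      obtain ⟨z, -, hzx, -, -, rfl⟩ := hTE x j hj
      exact ⟨D.δ z, Finset.mem_coe.2 (Finset.mem_range.2 (Nat.lt_succ_of_le (hN z (hzx.mem_open hW hxW)).1)), hj⟩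
  convert L02.Cons.isLocallyConstructible_compl (f.isLocallyConstructible_image hE) using 1
  ext y
  have hass : ∀ x, x ∈ MoreMor.relAss f F ↔ x ∈ D.Ass := fun x =>
    (Groth.L07.RelAss.mem_relAss_iff f F x).trans (mem_ass_fiber_iff f F hFp x)
  simp only [Set.mem_ofPred_eq, Set.mem_compl_iff, Set.mem_image, Set.mem_iUnion, not_exists, not_and]
  constructor
  · rintro h x ⟨j, hj⟩ hxy
    obtain ⟨z, hz, -, hp, hzU, -⟩ := hTE x j hj
    exact hzU (h z ((hass z).2 hz) (hp.trans hxy))
  · intro h x hx hxy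
    by_contra hxU
    obtain ⟨hxS, hxa⟩ := (hass x).1 hx
    exact h x ⟨D.δ x, x, ⟨⟨hxS, by omega⟩, hxU⟩, specializes_rfl, rfl, le_rfl⟩ hxy

end Groth.Agent.S1370
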