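import Groth.Statements.S4118
import Groth.Agent.L08.Borel.CentTorus
import Groth.Agent.L25.Central
import Groth.Agent.L25.Locus.Transporter
import Groth.Agent.L08.Borel.CentBorel
-- import your own Groth.Agent.* helpers here

set_option autoImplicit false
set_option backward.isDefEq.respectTransparency.types false
set_option linter.style.haveILetI false
set_option backward.isDefEq.respectTransparency.types false
set_option linter.style.haveILetI false
universe u
open CategoryTheory MonoidalCategory CartesianMonoidalCategory MonObj GrpObj AlgebraicGeometry CategoryTheory.Limits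
open SGA3x

namespace Groth.Agent.S4118

/-- Let G be an S-group scheme, smooth, separated and of finite type over S, and i : T → G a maximal
torus. Then the centralizer of T is represented by a closed subgroup scheme c : C → G which is a
Cartan subgroup of G (smooth over S with Cartan geometric fibres); T factors through C as a maximal
torus of C, and every maximal torus of C coincides with T (as a subgroup of C). -/
theorem result (S : Scheme.{u}) (G : Over S) [GrpObj G]
    [Smooth G.hom] [IsSeparated G.hom] [QuasiCompact G.hom]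
    (T : Over S) [GrpObj T] (i : T ⟶ G) (hT : Red.IsMaximalTorus i) :
    ∃ (C : Over S) (_ : GrpObj C) (c : C ⟶ G), Red.IsCentralizerOf i c ∧ IsClosedImmersion c.left ∧ SGA3x.IsCartan c ∧
      ∃ i' : T ⟶ C, i' ≫ c = i ∧ Red.IsMaximalTorus i' ∧
        ∀ (T' : Over S) [GrpObj T'] (j : T' ⟶ C), Red.IsMaximalTorus j → ∃ φ : T' ≅ T, φ.hom ≫ i' = j := by
  haveI := hT.1; haveI := hT.2.1
  haveI : LocallyOfFiniteType G.hom := inferInstance
  have hm := Groth.L25.Locus.isMultTypeFT_of_isTorus hT.2.2.1
  obtain ⟨C, gC, c, hc, hcl, hCs⟩ := Groth.L25.Locus.exists_smooth_centralizer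
    (Groth.L25.Locus.locally_of_multTypeFT hm) i
  haveI := hc.1; haveI := hc.2.1; haveI := hcl; haveI := hCs
  haveI : QuasiCompact C.hom := by rw [← Over.w c]; infer_instance
  haveI : IsSeparated C.hom := by rw [← Over.w c]; infer_instance
  obtain ⟨i', hi'⟩ := (hc.2.2 T i).2 fun X' x s => by
    rw [← MonObj.mul_comp, ← MonObj.mul_comp, Groth.L25.Central.mul_comm_of_multTypeFT hm x s]
  haveI : IsMonHom i' := Groth.L25.Bridge.isMonHom_of_mul i' fun X a b => by
    rw [← cancel_mono c, Category.assoc, hi', MonObj.mul_comp, MonObj.mul_comp, Category.assoc, Category.assoc, hi']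
  haveI : Mono i' := by haveI : Mono (i' ≫ c) := hi'.symm ▸ inferInstance; exact mono_of_mono i' c
  have hcen : ∀ (X : Over S) (g : X ⟶ C) (s : X ⟶ T), g * (s ≫ i') = (s ≫ i') * g := fun X g s => by
    rw [← cancel_mono c, MonObj.mul_comp, MonObj.mul_comp, Category.assoc, hi']
    have := (hc.2.2 X (g ≫ c)).1 ⟨g, rfl⟩ X (𝟙 _) s
    rwa [Category.id_comp] at this
  have hmax : Red.IsMaximalTorus i' := ⟨inferInstance, inferInstance, hT.2.2.1, fun s T' _ j _ _ f hT' hf => by
    haveI : IsMonHom ((Over.pullback (Red.geomPt s)).map c) := Groth.L25.MonoClosed.isMonHom_pullbackMap _ _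
    haveI : Mono ((Over.pullback (Red.geomPt s)).map c) := Functor.map_mono _ _
    exact hT.2.2.2 s T' (j ≫ (Over.pullback (Red.geomPt s)).map c) f hT' (by
      rw [reassoc_of% hf, ← Functor.map_comp, hi'])⟩
  refine ⟨C, gC, c, hc, hcl, ⟨hc.1, hc.2.1, hCs, fun s => ?_⟩, i', hi', hmax,
    fun T' _ j hj => Groth.L08.Borel.exists_iso_of_central_maximal hmax hcen hj⟩
  refine ⟨Groth.L25.MonoClosed.isMonHom_pullbackMap _ _, Functor.map_mono _ _, _, inferInstance,
    (Over.pullback (Red.geomPt s)).map i, ?_, Groth.L08.Borel.isCentralizerOf_bc (Red.geomPt s) hc⟩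
  exact Groth.L08.Borel.isMaximalTorus_of_isMaxTorus
    ⟨Groth.L25.MonoClosed.isMonHom_pullbackMap _ _, Functor.map_mono _ _,
      Groth.L25.Locus.isTorus_bc hT.2.2.1 (Red.geomPt s), fun T₁ _ j _ _ f h₁ hf => hT.2.2.2 s T₁ j f h₁ hf⟩

end Groth.Agent.S4118
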