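import Groth.Statements.S14754
import Groth.Agent.L25.DescHom
import Groth.Agent.L25.SplitSub.LocalChar
import Groth.Agent.L25.TorusTorsion

set_option autoImplicit false
universe u
open CategoryTheory CategoryTheory.Limits MonoidalCategory CartesianMonoidalCategory MonObj GrpObj AlgebraicGeometry
open AlgGrp

namespace Groth.Agent.S14754

set_option linter.style.haveILetI false
set_option backward.isDefEq.respectTransparency.types false

section

open Groth.L25

variable {k : Type u} [Field k] {M N : Type} [AddCommGroup M] [AddCommGroup N]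

theorem DSmap_injective {φ ψ : M →+ N}
    (h : Red.DSmap (Spec (CommRingCat.of k)) φ = Red.DSmap (Spec (CommRingCat.of k)) ψ) : φ = ψ := by
  let R : Type u := MonoidAlgebra k (Multiplicative N)
  let T : Over (Spec (CommRingCat.of k)) := Over.mk (Spec.map (CommRingCat.ofHom (algebraMap k R)))
  let χ : Multiplicative N →* Γ(T.left, ⊤) :=
    ((Scheme.ΓSpecIso (CommRingCat.of R)).inv.hom.toMonoidHom).comp (MonoidAlgebra.of k (Multiplicative N))
  have hχ : Function.Injective χ :=
    ((Scheme.ΓSpecIso (CommRingCat.of R)).symm.commRingCatIsoToRingEquiv.injective).comp MonoidAlgebra.of_injective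
  have e := congrArg DSPts.char (congrArg ((DSPts.pt χ : T ⟶ _) ≫ ·) h)
  rw [SplitSub.char_DSmap, SplitSub.char_DSmap, DSPts.char_pt] at e
  refine AddMonoidHom.ext fun m => ?_
  exact hχ (DFunLike.congr_fun e (Multiplicative.ofAdd m))

theorem DSmap_zero : Red.DSmap (Spec (CommRingCat.of k)) (0 : M →+ N) = 1 := by
  rw [← Category.id_comp (Red.DSmap _ _)]
  refine DSPts.char_injective ?_
  rw [SplitSub.char_DSmap, DSPts.char_one]
  exact MonoidHom.ext fun m => map_one (DSPts.char (𝟙 (Red.DS (Spec (CommRingCat.of k)) N)))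

theorem exists_DSmap [Monoid.FG (Multiplicative M)]
    (u : Red.DS (Spec (CommRingCat.of k)) N ⟶ Red.DS (Spec (CommRingCat.of k)) M) [IsMonHom u] :
    ∃ φ : M →+ N, u = Red.DSmap _ φ := by
  haveI : Subsingleton ↥(Spec (CommRingCat.of k)) := inferInstanceAs (Subsingleton (PrimeSpectrum k))
  obtain ⟨U, hs, φ, hφ⟩ := SplitSub.exists_local_DSmap u (default : PrimeSpectrum k)
  exact ⟨φ, by simpa using hφ (Red.DS _ N) (fun y => (congrArg (· ∈ U) (Subsingleton.elim (default : PrimeSpectrum k) ((Red.DS (Spec (CommRingCat.of k)) N).hom y))).mp hs) (𝟙 _)⟩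

theorem isAffine_of_iso {G : Over (Spec (CommRingCat.of k))} (a : G ≅ Red.DS (Spec (CommRingCat.of k)) M) :
    IsAffine G.left := by
  haveI : IsAffineHom (Red.DS (Spec (CommRingCat.of k)) M).hom :=
    MorphismProperty.pullback_snd _ _ (inferInstanceAs (IsAffineHom (Spec.map (CommRingCat.ofHom
      (algebraMap (ULift.{u} ℤ) (MonoidAlgebra (ULift.{u} ℤ) (Multiplicative M)))))))
  haveI : IsAffine (Red.DS (Spec (CommRingCat.of k)) M).left := isAffine_of_isAffineHom (Red.DS _ M).hom
  haveI : IsIso a.hom.left := ((Over.forget _).mapIso a).isIso_hom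
  exact IsAffine.of_isIso a.hom.left

omit [AddCommGroup M] [AddCommGroup N] in
/-- a saturated injection of lattices has a retraction -/
theorem exists_retraction {a b : ℕ} (φ : (Fin a → ℤ) →+ (Fin b → ℤ)) (hinj : Function.Injective φ)
    (hsat : ∀ (n : ℤ) (x : Fin b → ℤ), n ≠ 0 → n • x ∈ φ.range → x ∈ φ.range) :
    ∃ r : (Fin b → ℤ) →+ (Fin a → ℤ), r.comp φ = AddMonoidHom.id _ := by
  let f := φ.toIntLinearMap
  haveI : Module.IsTorsionFree ℤ ((Fin b → ℤ) ⧸ LinearMap.range f) := by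
    refine Module.isTorsionFree_iff_smul_eq_zero.2 fun n q hq => ?_
    obtain ⟨x, rfl⟩ := Submodule.Quotient.mk_surjective _ q
    rw [← Submodule.Quotient.mk_smul, Submodule.Quotient.mk_eq_zero] at hq
    rcases eq_or_ne n 0 with hn | hn
    · exact Or.inl hn
    · exact Or.inr ((Submodule.Quotient.mk_eq_zero _).2 (hsat n x hn hq))
  haveI : Module.Free ℤ ((Fin b → ℤ) ⧸ LinearMap.range f) := Module.free_of_finite_type_torsion_free'
  obtain ⟨σ, hσ⟩ := Module.projective_lifting_property (LinearMap.range f).mkQ LinearMap.id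
    (Submodule.mkQ_surjective _)
  have hmem : ∀ x, x - σ ((LinearMap.range f).mkQ x) ∈ LinearMap.range f := fun x => by
    exact (Submodule.Quotient.eq _).1 (LinearMap.congr_fun hσ _).symm
  let e := LinearEquiv.ofInjective f hinj
  refine ⟨(e.symm.toLinearMap ∘ₗ LinearMap.codRestrict _ (LinearMap.id - σ ∘ₗ (LinearMap.range f).mkQ)
    hmem).toAddMonoidHom, AddMonoidHom.ext fun v => ?_⟩
  refine e.injective ?_
  refine Subtype.ext ?_
  have h0 : (LinearMap.range f).mkQ (f v) = 0 := (Submodule.Quotient.mk_eq_zero _).2 ⟨v, rfl⟩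
  simp only [AddMonoidHom.coe_comp, Function.comp_apply, LinearMap.toAddMonoidHom_coe, LinearMap.coe_comp,
    LinearEquiv.coe_coe, LinearEquiv.apply_symm_apply, AddMonoidHom.id_apply]
  show f v - σ ((LinearMap.range f).mkQ (f v)) = f v
  rw [h0, map_zero, sub_zero]

end

/-- Over an algebraically closed field k, every exact sequence of split tori splits: if K, G, Q are
split tori over k, i : K → G a closed subgroup scheme which is the kernel of a flat surjective
homomorphism π : G → Q, then π has a section which is a homomorphism. -/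
theorem result (k : Type u) [Field k] [IsAlgClosed k]
    (K G Q : Over (Spec (CommRingCat.of k))) [GrpObj K] [GrpObj G] [GrpObj Q] (nK nG nQ : ℕ)
    (hK : Red.IsSplitTorusWith (Fin nK → ℤ) K) (hG : Red.IsSplitTorusWith (Fin nG → ℤ) G)
    (hQ : Red.IsSplitTorusWith (Fin nQ → ℤ) Q)
    (i : K ⟶ G) [IsMonHom i] [IsClosedImmersion i.left]
    (π : G ⟶ Q) [IsMonHom π] [Flat π.left] [Surjective π.left] (hker : AlgGrp.IsKernel i π) :
    ∃ s : Q ⟶ G, IsMonHom s ∧ s ≫ π = 𝟙 Q := by
  obtain ⟨eK⟩ := hK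
  obtain ⟨eG⟩ := hG
  obtain ⟨eQ⟩ := hQ
  haveI : Subsingleton ↥(Spec (CommRingCat.of k)) := inferInstanceAs (Subsingleton (PrimeSpectrum k))
  let aK : K ≅ Red.DS (Spec (CommRingCat.of k)) (Fin nK → ℤ) := (Grp.forget _).mapIso eK
  let aG : G ≅ Red.DS (Spec (CommRingCat.of k)) (Fin nG → ℤ) := (Grp.forget _).mapIso eG
  let aQ : Q ≅ Red.DS (Spec (CommRingCat.of k)) (Fin nQ → ℤ) := (Grp.forget _).mapIso eQ
  haveI : IsMonHom aK.hom := eK.hom.hom.isMonHom_hom
  haveI : IsMonHom aK.inv := eK.inv.hom.isMonHom_hom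
  haveI : IsMonHom aG.hom := eG.hom.hom.isMonHom_hom
  haveI : IsMonHom aG.inv := eG.inv.hom.isMonHom_hom
  haveI : IsMonHom aQ.hom := eQ.hom.hom.isMonHom_hom
  haveI : IsMonHom aQ.inv := eQ.inv.hom.isMonHom_hom
  obtain ⟨ψ, hψ⟩ := exists_DSmap (aK.inv ≫ i ≫ aG.hom)
  obtain ⟨φ, hφ⟩ := exists_DSmap (aG.inv ≫ π ≫ aQ.hom)
  haveI : IsAffine G.left := isAffine_of_iso aG
  haveI : IsAffine Q.left := isAffine_of_iso aQ
  haveI : QuasiCompact π.left := inferInstance
  have hcov := Groth.L25.DescHom.cov_of_flat π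
  have hiπ : ψ.comp φ = 0 := by
    refine DSmap_injective (k := k) ?_
    rw [← Groth.L25.TorusTorsion.DSmap_comp, DSmap_zero, ← hψ, ← hφ]
    simp only [Category.assoc, Iso.hom_inv_id_assoc]
    have e1 : η[Q] ≫ aQ.hom = η[Red.DS (Spec (CommRingCat.of k)) (Fin nQ → ℤ)] := eQ.hom.hom.isMonHom_hom.one_hom
    rw [← Category.assoc i, hker.w, Category.assoc, e1, ← Hom.one_def, MonObj.comp_one]
  have hinj : Function.Injective φ := by
    rw [injective_iff_map_eq_zero]
    intro m hm
    have h1 : (zmultiplesHom _ m : ℤ →+ (Fin nQ → ℤ)) = 0 := by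
      refine DSmap_injective (k := k) ?_
      rw [DSmap_zero, ← cancel_epi aQ.hom, MonObj.comp_one]
      refine Groth.L27.Torsor.cancel hcov ?_
      rw [MonObj.comp_one, ← cancel_epi aG.inv, MonObj.comp_one, ← Category.assoc π, ← Category.assoc, hφ,
        Groth.L25.TorusTorsion.DSmap_comp,
        show φ.comp (zmultiplesHom _ m : ℤ →+ (Fin nQ → ℤ)) = 0 from AddMonoidHom.ext_int (by simpa using hm),
        DSmap_zero]
    simpa using DFunLike.congr_fun h1 1
  have hsat : ∀ (n : ℤ) (x : Fin nG → ℤ), n ≠ 0 → n • x ∈ φ.range → x ∈ φ.range := by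
    rintro n x hn ⟨m, hm⟩
    have h1 : ψ x = 0 := by
      refine (smul_eq_zero.1 (?_ : n • ψ x = 0)).resolve_left hn
      rw [← map_zsmul, ← hm, ← AddMonoidHom.comp_apply, hiπ, AddMonoidHom.zero_apply]
    let g : G ⟶ Red.DS (Spec (CommRingCat.of k)) ℤ := aG.hom ≫ Red.DSmap (Spec (CommRingCat.of k)) (zmultiplesHom _ x)
    haveI : IsMonHom (Red.DSmap (Spec (CommRingCat.of k)) (zmultiplesHom (Fin nG → ℤ) x : ℤ →+ (Fin nG → ℤ))) :=
      Groth.L25.TorusTorsion.isMonHom_DSmap (Spec (CommRingCat.of k)) _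
    have hig : i ≫ g = 1 := by
      rw [← cancel_epi aK.inv, MonObj.comp_one]
      show aK.inv ≫ i ≫ aG.hom ≫ _ = _
      rw [← Category.assoc i, ← Category.assoc, hψ, Groth.L25.TorusTorsion.DSmap_comp,
        show ψ.comp (zmultiplesHom _ x : ℤ →+ (Fin nG → ℤ)) = 0 from AddMonoidHom.ext_int (by simpa using h1),
        DSmap_zero]
    obtain ⟨h, _, hh⟩ := Groth.L25.DescHom.exists_desc_hom i π hcov hker g hig
    obtain ⟨c, hc⟩ := exists_DSmap (aQ.inv ≫ h)
    have h2 : φ.comp c = (zmultiplesHom _ x : ℤ →+ (Fin nG → ℤ)) := by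
      refine DSmap_injective (k := k) ?_
      rw [← Groth.L25.TorusTorsion.DSmap_comp, ← hφ, ← hc]
      simp only [Category.assoc, Iso.hom_inv_id_assoc, hh, g, Iso.inv_hom_id_assoc]
    exact ⟨c 1, by simpa using DFunLike.congr_fun h2 1⟩
  obtain ⟨r, hr⟩ := exists_retraction φ hinj hsat
  haveI : IsMonHom (Red.DSmap (Spec (CommRingCat.of k)) r) := Groth.L25.TorusTorsion.isMonHom_DSmap (Spec (CommRingCat.of k)) _
  refine ⟨aQ.hom ≫ Red.DSmap (Spec (CommRingCat.of k)) r ≫ aG.inv, inferInstance, ?_⟩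
  rw [← cancel_mono aQ.hom, Category.assoc, Category.assoc, Category.assoc, Category.id_comp, hφ,
    Groth.L25.TorusTorsion.DSmap_comp, hr, Groth.L25.TorusTorsion.DSmap_id, Category.comp_id]

end Groth.Agent.S14754
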