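import Groth.Statements.S18082
import Groth.Agent.Lead.EqDense
import Groth.Agent.S3844
import Groth.Agent.S7999
import Mathlib.RingTheory.DiscreteValuationRing.Basic
import Mathlib.GroupTheory.Nilpotent
import Mathlib.GroupTheory.Solvable

set_option autoImplicit false
universe u
open CategoryTheory MonoidalCategory CartesianMonoidalCategory MonObj GrpObj AlgebraicGeometry CategoryTheory.Limits
open AlgGrp

namespace Groth.Agent.S18082

open Functor
open scoped commutatorElement

section Group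

variable {Γ Δ : Type*} [Group Γ] [Group Δ]

theorem lcs_eq_bot (φ : Γ →* Δ) (hφ : Function.Injective φ) {n : ℕ}
    (h : (⊤ : Subgroup Δ).lowerCentralSeries n = ⊥) : (⊤ : Subgroup Γ).lowerCentralSeries n = ⊥ :=
  (Subgroup.map_eq_bot_iff_of_injective _ hφ).1 (le_bot_iff.1 (h ▸ Subgroup.lowerCentralSeries.map φ n))

theorem der_eq_bot (φ : Γ →* Δ) (hφ : Function.Injective φ) {n : ℕ}
    (h : derivedSeries Δ n = ⊥) : derivedSeries Γ n = ⊥ :=
  (Subgroup.map_eq_bot_iff_of_injective _ hφ).1 (le_bot_iff.1 (h ▸ map_derivedSeries_le_derivedSeries φ n))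

theorem commutator_closure_le {S T U : Set Γ} (hU : ∀ g : Γ, ∀ x ∈ U, g * x * g⁻¹ ∈ U)
    (h : ∀ s ∈ S, ∀ t ∈ T, ⁅s, t⁆ ∈ U) :
    ⁅Subgroup.closure S, Subgroup.closure T⁆ ≤ Subgroup.closure U := by
  haveI hN : (Subgroup.closure U).Normal := ⟨fun x hx g => by
    induction hx using Subgroup.closure_induction with
    | mem x hx => exact Subgroup.subset_closure (hU g x hx)
    | one => simp
    | mul x y _ _ hx hy => rw [← conj_mul]; exact mul_mem hx hy
    | inv x _ hx => rw [← conj_inv]; exact inv_mem hx⟩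
  rw [Subgroup.commutator_le]
  intro a ha b hb
  let q := QuotientGroup.mk' (Subgroup.closure U)
  rw [← QuotientGroup.ker_mk' (Subgroup.closure U), MonoidHom.mem_ker, map_commutatorElement,
    commutatorElement_eq_one_iff_commute]
  induction ha using Subgroup.closure_induction with
  | mem s hs =>
    induction hb using Subgroup.closure_induction with
    | mem t ht =>
      rw [← commutatorElement_eq_one_iff_commute, ← map_commutatorElement, ← MonoidHom.mem_ker,
        QuotientGroup.ker_mk']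
      exact Subgroup.subset_closure (h s hs t ht)
    | one => simp
    | mul x y _ _ hx hy => rw [map_mul]; exact hx.mul_right hy
    | inv x _ hx => rw [_root_.map_inv]; exact hx.inv_right
  | one => simp
  | mul x y _ _ hx hy => rw [map_mul]; exact hx.mul_left hy
  | inv x _ hx => rw [_root_.map_inv]; exact hx.inv_left

end Group

variable {S S' : Scheme.{u}} (G : Over S) [GrpObj G]

/-- Precomposition as a group homomorphism of points. -/
def precomp {X Y : Over S} (f : X ⟶ Y) : (Y ⟶ G) →* (X ⟶ G) where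
  toFun a := f ≫ a
  map_one' := MonObj.comp_one f
  map_mul' := MonObj.comp_mul f

/-- Points of the base change. -/
noncomputable def pullEquiv (i : S' ⟶ S) (Z : Over S') :
    ((Over.map i).obj Z ⟶ G) ≃* (Z ⟶ (Over.pullback i).obj G) where
  __ := (Over.mapPullbackAdj i).homEquiv Z G
  map_mul' a b := by
    simp only [Equiv.toFun_as_coe, Adjunction.homEquiv_unit, Functor.map_mul, MonObj.comp_mul]

noncomputable def pull (i : S' ⟶ S) (Z : Over S') := (pullEquiv G i Z).toMonoidHom

theorem pull_inj (i : S' ⟶ S) (Z : Over S') : Function.Injective (pull G i Z) := (pullEquiv G i Z).injective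

noncomputable def push (i : S' ⟶ S) (Z : Over S') := (pullEquiv G i Z).symm.toMonoidHom

theorem push_inj (i : S' ⟶ S) (Z : Over S') : Function.Injective (push G i Z) := (pullEquiv G i Z).symm.injective

noncomputable def ε (i : S' ⟶ S) (Y : Over S) : (Over.map i).obj ((Over.pullback i).obj Y) ⟶ Y :=
  Over.homMk (pullback.fst Y.hom i) pullback.condition

theorem eq_one (i : S' ⟶ S) [IsOpenImmersion i] (hi : CInt.IsSchematicallyDense i.opensRange)
    [IsLocallyNoetherian S] [IsSeparated G.hom] {Y : Over S} [Flat Y.hom] (a : Y ⟶ G)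
    (h : ε i Y ≫ a = 1) : a = 1 := by
  let j := pullback.fst Y.hom i
  rw [← MonObj.comp_one (ε i Y)] at h
  have hj : j ≫ a.left = j ≫ (1 : Y ⟶ G).left := congr(CommaMorphism.left $h)
  have hU : Y.hom ⁻¹ᵁ i.opensRange = j.opensRange := by
    ext1
    exact (Scheme.Pullback.range_fst _ _).symm
  refine Over.OverMorphism.ext (Groth.Lead.EqDense.eq_of_separated G.hom _ _
    (hU ▸ Groth.Agent.S3844.result Y.hom i.opensRange hi) ((Over.w a).trans (Over.w _).symm) ?_)
  rw [← cancel_epi j.isoOpensRange.hom, Scheme.Hom.isoOpensRange_hom_ι_assoc, Scheme.Hom.isoOpensRange_hom_ι_assoc]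
  exact hj

theorem flat_tensor {X Y : Over S} [Flat X.hom] [Flat Y.hom] : Flat (X ⊗ Y).hom :=
  inferInstanceAs (Flat (pullback.fst X.hom Y.hom ≫ X.hom))

theorem comp_commutator {X Y : Over S} (f : X ⟶ Y) (a b : Y ⟶ G) : f ≫ ⁅a, b⁆ = ⁅f ≫ a, f ≫ b⁆ :=
  map_commutatorElement (precomp G f) a b

noncomputable def lP : ℕ → Over S
  | 0 => G
  | k + 1 => lP k ⊗ G

/-- The universal iterated commutator. -/
noncomputable def lW : (k : ℕ) → (lP G k ⟶ G)
  | 0 => 𝟙 G
  | k + 1 => (⁅fst (lP G k) G ≫ lW k, snd (lP G k) G⁆ : lP G k ⊗ G ⟶ G)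

noncomputable def dP : ℕ → Over S
  | 0 => G
  | k + 1 => dP k ⊗ dP k

/-- The universal derived word. -/
noncomputable def dW : (k : ℕ) → (dP G k ⟶ G)
  | 0 => 𝟙 G
  | k + 1 => (⁅fst (dP G k) (dP G k) ≫ dW k, snd (dP G k) (dP G k) ≫ dW k⁆ : dP G k ⊗ dP G k ⟶ G)

def lS (Γ : Type*) [Group Γ] : ℕ → Set Γ
  | 0 => Set.univ
  | k + 1 => {x | ∃ a ∈ lS Γ k, ∃ b, ⁅a, b⁆ = x}

def dS (Γ : Type*) [Group Γ] : ℕ → Set Γ
  | 0 => Set.univ
  | k + 1 => {x | ∃ a ∈ dS Γ k, ∃ b ∈ dS Γ k, ⁅a, b⁆ = x}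

theorem lS_conj {Γ : Type*} [Group Γ] : ∀ (k : ℕ) (g : Γ), ∀ x ∈ lS Γ k, g * x * g⁻¹ ∈ lS Γ k
  | 0 => fun _ _ _ => trivial
  | k + 1 => by
    rintro g _ ⟨a, ha, b, rfl⟩
    exact ⟨_, lS_conj k g a ha, _, (conjugate_commutatorElement _ _ _).symm⟩

theorem dS_conj {Γ : Type*} [Group Γ] : ∀ (k : ℕ) (g : Γ), ∀ x ∈ dS Γ k, g * x * g⁻¹ ∈ dS Γ k
  | 0 => fun _ _ _ => trivial
  | k + 1 => by
    rintro g _ ⟨a, ha, b, hb, rfl⟩
    exact ⟨_, dS_conj k g a ha, _, dS_conj k g b hb, (conjugate_commutatorElement _ _ _).symm⟩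

theorem lcs_le {Γ : Type*} [Group Γ] : ∀ k : ℕ, (⊤ : Subgroup Γ).lowerCentralSeries k ≤ Subgroup.closure (lS Γ k)
  | 0 => fun x _ => Subgroup.subset_closure trivial
  | k + 1 => by
    rw [Subgroup.lowerCentralSeries_succ]
    exact (Subgroup.commutator_mono (lcs_le k) (Subgroup.closure_univ).ge).trans
      (commutator_closure_le (lS_conj (k + 1)) fun s hs t _ => ⟨s, hs, t, rfl⟩)

theorem der_le {Γ : Type*} [Group Γ] : ∀ k : ℕ, derivedSeries Γ k ≤ Subgroup.closure (dS Γ k)
  | 0 => fun x _ => Subgroup.subset_closure trivial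
  | k + 1 => (Subgroup.commutator_mono (der_le k) (der_le k)).trans
      (commutator_closure_le (dS_conj (k + 1)) fun s hs t ht => ⟨s, hs, t, ht, rfl⟩)

theorem lS_exists (Z : Over S) : ∀ k, ∀ s ∈ lS (Z ⟶ G) k, ∃ f : Z ⟶ lP G k, f ≫ lW G k = s
  | 0 => fun s _ => ⟨s, Category.comp_id s⟩
  | k + 1 => by
    rintro _ ⟨a, ha, b, rfl⟩
    obtain ⟨f, rfl⟩ := lS_exists Z k a ha
    refine ⟨lift f b, ?_⟩
    change lift f b ≫ ⁅fst (lP G k) G ≫ lW G k, snd (lP G k) G⁆ = _
    simp [comp_commutator]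

theorem dS_exists (Z : Over S) : ∀ k, ∀ s ∈ dS (Z ⟶ G) k, ∃ f : Z ⟶ dP G k, f ≫ dW G k = s
  | 0 => fun s _ => ⟨s, Category.comp_id s⟩
  | k + 1 => by
    rintro _ ⟨a, ha, b, hb, rfl⟩
    obtain ⟨f, rfl⟩ := dS_exists Z k a ha
    obtain ⟨g, rfl⟩ := dS_exists Z k b hb
    refine ⟨lift f g, ?_⟩
    change lift f g ≫ ⁅fst (dP G k) (dP G k) ≫ dW G k, snd (dP G k) (dP G k) ≫ dW G k⁆ = _
    simp [comp_commutator]

theorem lP_flat [Flat G.hom] : ∀ k, Flat (lP G k).hom
  | 0 => inferInstanceAs (Flat G.hom)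
  | k + 1 => haveI := lP_flat k; flat_tensor

theorem dP_flat [Flat G.hom] : ∀ k, Flat (dP G k).hom
  | 0 => inferInstanceAs (Flat G.hom)
  | k + 1 => haveI := dP_flat k; flat_tensor

theorem lW_mem : ∀ k, lW G k ∈ (⊤ : Subgroup (lP G k ⟶ G)).lowerCentralSeries k
  | 0 => trivial
  | k + 1 => Subgroup.commutator_mem_commutator
      (Subgroup.lowerCentralSeries.map (precomp G (fst (lP G k) G)) k (Subgroup.mem_map_of_mem _ (lW_mem k))) trivial

theorem dW_mem : ∀ k, dW G k ∈ derivedSeries (dP G k ⟶ G) k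
  | 0 => trivial
  | k + 1 => Subgroup.commutator_mem_commutator
      (map_derivedSeries_le_derivedSeries (precomp G (fst (dP G k) (dP G k))) k (Subgroup.mem_map_of_mem _ (dW_mem k)))
      (map_derivedSeries_le_derivedSeries (precomp G (snd (dP G k) (dP G k))) k (Subgroup.mem_map_of_mem _ (dW_mem k)))

theorem lcs_all [Flat G.hom] (n : ℕ)
    (h : ∀ (Y : Over S) [Flat Y.hom] (a : Y ⟶ G), a ∈ (⊤ : Subgroup (Y ⟶ G)).lowerCentralSeries n → a = 1)
    (Z : Over S) : (⊤ : Subgroup (Z ⟶ G)).lowerCentralSeries n = ⊥ := by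
  refine le_bot_iff.1 ((lcs_le n).trans ((Subgroup.closure_le _).2 fun s hs => ?_))
  obtain ⟨f, rfl⟩ := lS_exists G Z n s hs
  haveI := lP_flat G n
  rw [h _ _ (lW_mem G n), MonObj.comp_one]
  exact one_mem _

theorem der_all [Flat G.hom] (n : ℕ)
    (h : ∀ (Y : Over S) [Flat Y.hom] (a : Y ⟶ G), a ∈ derivedSeries (Y ⟶ G) n → a = 1)
    (Z : Over S) : derivedSeries (Z ⟶ G) n = ⊥ := by
  refine le_bot_iff.1 ((der_le n).trans ((Subgroup.closure_le _).2 fun s hs => ?_))
  obtain ⟨f, rfl⟩ := dS_exists G Z n s hs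
  haveI := dP_flat G n
  rw [h _ _ (dW_mem G n), MonObj.comp_one]
  exact one_mem _


/-- A is a discrete valuation ring, with K denoting its field of fractions and k its residue field, and
G is an A-group scheme that is flat, separated and of finite presentation. If the generic fibre G_K
is nilpotent then the special fibre G_k is nilpotent; if G_K is solvable then G_k is solvable. (The
published statement does not require G separated over A; gluing copies of Spec A indexed by a finite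
non-nilpotent, resp. non-solvable, group along their common generic point gives a flat group scheme
of finite presentation with trivial generic fibre and that constant group as special fibre, so G is
taken separated here, the case covered by the density argument of the published proof.) -/
theorem result (A : Type u) [CommRing A] [IsDomain A] [IsDiscreteValuationRing A]
    (K : Type u) [Field K] [Algebra A K] [IsFractionRing A K]
    (G : Over (Spec (CommRingCat.of A))) [GrpObj G] [Flat G.hom] [LocallyOfFinitePresentation G.hom] [QuasiCompact G.hom]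
    [IsSeparated G.hom] :
    (AGF.IsNilpotentGrp (Red.bc (Spec.map (CommRingCat.ofHom (algebraMap A K))) G) → AGF.IsNilpotentGrp (Red.bc (Spec.map (CommRingCat.ofHom (algebraMap A (IsLocalRing.ResidueField A)))) G)) ∧
    (Red.IsSolvableGrp (Red.bc (Spec.map (CommRingCat.ofHom (algebraMap A K))) G) → Red.IsSolvableGrp (Red.bc (Spec.map (CommRingCat.ofHom (algebraMap A (IsLocalRing.ResidueField A)))) G)) := by
  obtain ⟨ϖ, hϖ⟩ := IsDiscreteValuationRing.exists_irreducible A
  haveI : IsLocalization.Away ϖ K := by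
    refine (IsLocalization.iff_of_le_of_exists_dvd (S := K) (M := Submonoid.powers ϖ) (nonZeroDivisors A)
      (powers_le_nonZeroDivisors_of_noZeroDivisors hϖ.ne_zero) fun r hr => ?_).2 ‹_›
    obtain ⟨n, u, rfl⟩ := IsDiscreteValuationRing.eq_unit_mul_pow_irreducible (nonZeroDivisors.ne_zero hr) hϖ
    exact ⟨ϖ ^ n, ⟨n, rfl⟩, ⟨↑u⁻¹, by rw [mul_comm (↑u : A), _root_.mul_assoc, Units.mul_inv, _root_.mul_one]⟩⟩
  let i : Spec (CommRingCat.of K) ⟶ Spec (CommRingCat.of A) := Spec.map (CommRingCat.ofHom (algebraMap A K))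
  haveI : IsOpenImmersion i := IsOpenImmersion.of_isLocalization ϖ
  let i₀ : Spec (CommRingCat.of (IsLocalRing.ResidueField A)) ⟶ Spec (CommRingCat.of A) :=
    Spec.map (CommRingCat.ofHom (algebraMap A (IsLocalRing.ResidueField A)))
  have hi : CInt.IsSchematicallyDense i.opensRange := fun V => by
    by_cases hV : Nonempty V
    · haveI : Nonempty ↥(V ⊓ i.opensRange).toScheme := by
        obtain ⟨⟨x, hx⟩⟩ := hV
        obtain ⟨y, hy⟩ := nonempty_preirreducible_inter V.2 i.opensRange.2 ⟨x, hx⟩ ⟨_, IsLocalRing.closedPoint K, rfl⟩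
        exact ⟨⟨y, hy⟩⟩
      exact map_injective_of_isIntegral _ (homOfLE inf_le_left)
    · have : V = ⊥ := by
        ext x; exact ⟨fun hx => (hV ⟨⟨x, hx⟩⟩).elim, False.elim⟩
      subst this
      exact fun a b _ => Subsingleton.elim _ _
  constructor
  · rintro ⟨n, hn⟩
    refine ⟨n, fun X => (Groth.Agent.S7999.upper_eq_top_iff n).2 ?_⟩
    have hK : ∀ Z, (⊤ : Subgroup ((Over.map i).obj Z ⟶ G)).lowerCentralSeries n = ⊥ := fun Z =>
      lcs_eq_bot (pull G i Z) (pull_inj G i Z) ((Groth.Agent.S7999.upper_eq_top_iff n).1 (hn Z))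
    exact lcs_eq_bot (push G i₀ X) (push_inj G i₀ X) (lcs_all G n (fun Y _ a ha =>
      eq_one G i hi a (Subgroup.mem_bot.1 ((hK ((Over.pullback i).obj Y)).le
        (Subgroup.lowerCentralSeries.map (precomp G (ε i Y)) n (Subgroup.mem_map_of_mem _ ha))))) _)
  · rintro ⟨n, hn⟩
    refine ⟨n, fun X => ?_⟩
    have hK : ∀ Z, derivedSeries ((Over.map i).obj Z ⟶ G) n = ⊥ := fun Z =>
      der_eq_bot (pull G i Z) (pull_inj G i Z) (hn Z)
    exact der_eq_bot (push G i₀ X) (push_inj G i₀ X) (der_all G n (fun Y _ a ha =>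
      eq_one G i hi a (Subgroup.mem_bot.1 ((hK ((Over.pullback i).obj Y)).le
        (map_derivedSeries_le_derivedSeries (precomp G (ε i Y)) n (Subgroup.mem_map_of_mem _ ha))))) _)


end Groth.Agent.S18082
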