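import Groth.Statements.S18813
import Groth.Agent.L08.Retract

set_option autoImplicit false
universe u
open scoped TensorProduct
open HopfRep

namespace Groth.Agent.S18813
open TensorProduct

/-- Let k be a field, K a field extension of k and A a commutative Hopf algebra over k, the coordinate
ring of an affine group scheme G (no finiteness assumed). Then G is linearly reductive (every
finite-dimensional A-comodule is semisimple) if and only if the base change G_K is (every
finite-dimensional comodule over the K-Hopf algebra K ⊗_k A is semisimple). (The source phrases both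
sides as semisimplicity of all representations, which over a field is equivalent to semisimplicity
of the finite-dimensional ones since every comodule is the union of its finite-dimensional
subcomodules.) -/
theorem result (k K A : Type u) [Field k] [Field K]
    [Algebra k K] [CommRing A] [HopfAlgebra k A] :
    HopfRep.IsLinearlyReductive k A ↔ HopfRep.IsLinearlyReductive K (K ⊗[k] A) := by
  classical
  have hu : ∀ α : A →ₗ[k] k, L08.IsIntegral α →
      L08.IsIntegral (k := K) (A := TensorProduct k K A) ((TensorProduct.AlgebraTensorModule.rid k K K).toLinearMap ∘ₗ α.baseChange K) := by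
    intro α hα
    refine ⟨fun x => ?_, by simp [Algebra.TensorProduct.one_def, hα.2]⟩
    induction x with
    | zero => simp
    | add a b ha hb => simp only [map_add, TensorProduct.add_tmul, ha, hb]
    | tmul s a =>
      let f : TensorProduct k K A →ₗ[K] K :=
        (TensorProduct.AlgebraTensorModule.rid k K K).toLinearMap ∘ₗ α.baseChange K
      let Ψ : TensorProduct k k A →ₗ[k] TensorProduct K K (TensorProduct k K A) :=
        TensorProduct.lift (LinearMap.mk₂ k (fun c z => (c • (1 : K)) ⊗ₜ[K] (s ⊗ₜ[k] z))
          (fun c c' z => by simp [add_smul, TensorProduct.add_tmul])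
          (fun r c z => by simp [mul_smul, TensorProduct.smul_tmul'])
          (fun c z z' => by simp [TensorProduct.tmul_add])
          (fun r c z => by simp [TensorProduct.tmul_smul]))
      have hfs : ∀ x y : A, f ((1 : K) ⊗ₜ[k] x) ⊗ₜ[K] (s ⊗ₜ[k] y) = Ψ (α x ⊗ₜ[k] y) := by
        intro x y
        simp [f, Ψ, Algebra.smul_def]
      change LinearMap.rTensor _ f (Coalgebra.comul (R := K) (s ⊗ₜ[k] a)) = f (s ⊗ₜ[k] a) ⊗ₜ[K] 1
      have e : LinearMap.rTensor _ f (Coalgebra.comul (R := K) (s ⊗ₜ[k] a)) =
          Ψ (α.rTensor A (Coalgebra.comul (R := k) a)) := by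
        rw [TensorProduct.comul_tmul, CommSemiring.comul_apply]
        induction Coalgebra.comul (R := k) a with
        | zero => simp
        | add p q hp hq => simp only [TensorProduct.tmul_add, map_add, hp, hq]
        | tmul x y => simp [← hfs]
      rw [e, hα.1 a, Algebra.TensorProduct.one_def]
      have h1 : (s ⊗ₜ[k] (1 : A) : TensorProduct k K A) = s • ((1 : K) ⊗ₜ[k] (1 : A)) := by
        simp [TensorProduct.smul_tmul']
      simp only [Ψ, TensorProduct.lift.tmul, LinearMap.mk₂_apply, h1, ← TensorProduct.smul_tmul]
      simp [f, Algebra.smul_def]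
      rw [mul_comm (algebraMap k K (α a)) s, ← smul_eq_mul, TensorProduct.smul_tmul]
  refine ⟨fun h => ?_, fun h => ?_⟩
  · obtain ⟨α, hα⟩ := L08.exists_isIntegral h
    exact L08.isLinearlyReductive_of_isIntegral (hu α hα)
  · obtain ⟨β, hβ⟩ := L08.exists_isIntegral h
    obtain ⟨p, hp⟩ := (Algebra.linearMap k K).exists_leftInverse_of_injective
      (LinearMap.ker_eq_bot.2 (algebraMap k K).injective)
    have hp1 : p 1 = 1 := by simpa using LinearMap.congr_fun hp 1
    let α : A →ₗ[k] k := p ∘ₗ β.restrictScalars k ∘ₗ TensorProduct.mk k K A 1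
    refine L08.isLinearlyReductive_of_isIntegral (α := α) ⟨fun a => ?_, by
      simp [α, ← Algebra.TensorProduct.one_def, hβ.2, hp1]⟩
    have h := hβ.1 ((1 : K) ⊗ₜ[k] a)
    let q : TensorProduct K K (TensorProduct k K A) →ₗ[k] TensorProduct k k A :=
      p.rTensor A ∘ₗ (TensorProduct.lid K (TensorProduct k K A)).toLinearMap.restrictScalars k
    have hq1 : ∀ c : K, q (c ⊗ₜ[K] (1 : TensorProduct k K A)) = p c ⊗ₜ[k] (1 : A) := by
      intro c
      simp [q, Algebra.TensorProduct.one_def, TensorProduct.smul_tmul']
    refine Eq.trans ?_ ((congrArg q h).trans (hq1 _))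
    rw [TensorProduct.comul_tmul, CommSemiring.comul_apply]
    induction Coalgebra.comul (R := k) a with
    | zero => simp
    | add x y hx hy => simp only [map_add, TensorProduct.tmul_add, hx, hy]
    | tmul x y => simp [q, α, TensorProduct.smul_tmul']

end Groth.Agent.S18813
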