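import Groth.Statements.S18063
import Groth.Agent.Lead.EqDense
import Groth.Agent.S3844
import Mathlib.RingTheory.DiscreteValuationRing.Basic

set_option autoImplicit false
universe u
open CategoryTheory MonoidalCategory CartesianMonoidalCategory MonObj GrpObj AlgebraicGeometry CategoryTheory.Limits
open AlgGrp

namespace Groth.Agent.S18063

/-- A is a discrete valuation ring, K denotes its field of fractions and k its residue field, and G is
an A-group scheme that is flat, separated and of finite presentation. If the generic fibre G_K is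
commutative, then the special fibre G_k is commutative. (The published statement does not require G
separated over A, and its proof argues by density of the generic fibre; without separatedness the
conclusion fails: gluing copies of Spec A indexed by a finite non-abelian group along their common
generic point gives a flat group scheme of finite presentation over A whose generic fibre is the
trivial group and whose special fibre is that non-abelian constant group. So G is taken separated
here.) -/
theorem result (A : Type u) [CommRing A] [IsDomain A] [IsDiscreteValuationRing A]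
    (K : Type u) [Field K] [Algebra A K] [IsFractionRing A K]
    (G : Over (Spec (CommRingCat.of A))) [GrpObj G] [Flat G.hom] [LocallyOfFinitePresentation G.hom] [QuasiCompact G.hom]
    [IsSeparated G.hom] [IsCommMonObj (Red.bc (Spec.map (CommRingCat.ofHom (algebraMap A K))) G)] :
    IsCommMonObj (Red.bc (Spec.map (CommRingCat.ofHom (algebraMap A (IsLocalRing.ResidueField A)))) G) := by
  suffices IsCommMonObj G from inferInstanceAs (IsCommMonObj ((Over.pullback _).obj G))
  obtain ⟨ϖ, hϖ⟩ := IsDiscreteValuationRing.exists_irreducible A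
  haveI : IsLocalization.Away ϖ K := by
    refine (IsLocalization.iff_of_le_of_exists_dvd (S := K) (M := Submonoid.powers ϖ) (nonZeroDivisors A)
      (powers_le_nonZeroDivisors_of_noZeroDivisors hϖ.ne_zero) fun r hr => ?_).2 ‹_›
    obtain ⟨n, u, rfl⟩ := IsDiscreteValuationRing.eq_unit_mul_pow_irreducible (nonZeroDivisors.ne_zero hr) hϖ
    exact ⟨ϖ ^ n, ⟨n, rfl⟩, ⟨↑u⁻¹, by rw [mul_comm (↑u : A), _root_.mul_assoc, Units.mul_inv, _root_.mul_one]⟩⟩
  let i : Spec (CommRingCat.of K) ⟶ Spec (CommRingCat.of A) := Spec.map (CommRingCat.ofHom (algebraMap A K))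
  haveI : IsOpenImmersion i := IsOpenImmersion.of_isLocalization ϖ
  let F := Over.pullback i
  haveI hc : IsCommMonObj (F.obj G) := inferInstanceAs (IsCommMonObj (Red.bc i G))
  have hF : F.map ((β_ G G).hom ≫ μ[G]) = F.map μ[G] := by
    have h := hc.mul_comm
    rw [Functor.obj.μ_def, ← Category.assoc, ← Functor.LaxBraided.braided, Category.assoc, ← F.map_comp] at h
    exact (cancel_epi _).1 h
  refine ⟨Over.OverMorphism.ext ?_⟩
  let j := pullback.fst (G ⊗ G).hom i
  have hj : j ≫ ((β_ G G).hom ≫ μ[G]).left = j ≫ μ[G].left := by
    have e : ∀ m : G ⊗ G ⟶ G, (F.map m).left ≫ pullback.fst G.hom i = j ≫ m.left := fun m =>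
      pullback.lift_fst _ _ _
    rw [← e, ← e, hF]
  haveI : Flat (G ⊗ G).hom := inferInstanceAs (Flat (pullback.fst G.hom G.hom ≫ G.hom))
  have hi : CInt.IsSchematicallyDense i.opensRange := fun V => by
    by_cases hV : Nonempty V
    · haveI : Nonempty ↥(V ⊓ i.opensRange).toScheme := by
        obtain ⟨⟨x, hx⟩⟩ := hV
        obtain ⟨y, hy⟩ := nonempty_preirreducible_inter V.2 i.opensRange.2 ⟨x, hx⟩ ⟨_, IsLocalRing.closedPoint K, rfl⟩
        exact ⟨⟨y, hy⟩⟩
      exact map_injective_of_isIntegral _ (homOfLE inf_le_left)
    · have : V = ⊥ := by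
        ext x; exact ⟨fun hx => (hV ⟨⟨x, hx⟩⟩).elim, False.elim⟩
      subst this
      exact fun a b _ => Subsingleton.elim _ _
  have hU : (G ⊗ G).hom ⁻¹ᵁ i.opensRange = j.opensRange := by
    ext1
    exact (Scheme.Pullback.range_fst _ _).symm
  refine Groth.Lead.EqDense.eq_of_separated G.hom _ _ (hU ▸ Groth.Agent.S3844.result (G ⊗ G).hom i.opensRange hi)
    ((Over.w _).trans (Over.w _).symm) ?_
  rw [← cancel_epi j.isoOpensRange.hom, Scheme.Hom.isoOpensRange_hom_ι_assoc, Scheme.Hom.isoOpensRange_hom_ι_assoc]
  exact hj

end Groth.Agent.S18063
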