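
import Groth.Statements.S4619
import Groth.Agent.L22.GeomConn.Irred

set_option autoImplicit false
open CategoryTheory AlgebraicGeometry
universe u
open FBase

namespace Groth.Agent.S4619

/-- For a connected scheme: let X be a connected scheme over a field k and x a point of X whose residue
field κ(x) is a primary extension of k, i.e. the separable algebraic closure of k in κ(x) is k
itself (this holds in particular when x is a k-rational point). Then X is geometrically connected
over k. (The published statement concerns the connected component of x in an arbitrary scheme over
k; this row takes X connected.) -/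
theorem result {k : Type u} [Field k] {X : Scheme.{u}}
    [ConnectedSpace X] (f : X ⟶ Spec (CommRingCat.of k)) (x : X)
    (hx : FBase.ResidueFieldProp f x (fun K _ _ => separableClosure k K = ⊥)) :
    GeometricallyConnected f := by
  obtain ⟨φ, hψ, hE⟩ := hx
  letI := φ.toAlgebra
  have hsep : ∀ a : X.residueField x, IsSeparable k a → a ∈ Set.range (algebraMap k (X.residueField x)) :=
    fun a ha => IntermediateField.mem_bot.1 ((show separableClosure k (X.residueField x) = ⊥ from hE) ▸ mem_separableClosure_iff.2 ha)
  haveI : ConnectedSpace ↥(FBase.bc f (AlgebraicClosure k)) := by
    have h := Groth.L22.GeomConn.isConnected_preimage_of_fibre f (AlgebraicClosure k) x _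
      (Groth.L22.GeomConn.isIrreducible_fibre f (AlgebraicClosure k) x hψ hsep).isPreirreducible.isPreconnected Set.Subset.rfl
    rw [PreconnectedSpace.connectedComponent_eq_univ, Set.preimage_univ] at h
    exact connectedSpace_iff_univ.2 h
  exact Groth.L22.GeomConn.geometricallyConnected_of_sepClosed f (AlgebraicClosure k)

end Groth.Agent.S4619
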