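import Groth.Statements.S5421
import Groth.Agent.L25.SplitSub.Greatest
import Groth.Agent.L25.HomLocus.Props
import Groth.Agent.L25.Locus.Torus

set_option autoImplicit false
universe u
open CategoryTheory MonoidalCategory CartesianMonoidalCategory MonObj GrpObj AlgebraicGeometry CategoryTheory.Limits
open Red

namespace Groth.Agent.S5421

set_option backward.isDefEq.respectTransparency.types false
set_option linter.style.haveILetI false

open Groth.L25 Groth.L25.SplitSub CategoryTheory.Limits

theorem DSmap_zero (S : Scheme.{u}) (M N : Type) [AddCommGroup M] [AddCommGroup N] :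
    Red.DSmap S (0 : M →+ N) = 1 := by
  refine DSPts.char_injective (MonoidHom.ext fun m => ?_)
  rw [← Category.id_comp (Red.DSmap S 0), char_DSmap, DSPts.char_one]
  exact map_one (DSPts.char (𝟙 (Red.DS S N)))

set_option maxHeartbeats 1200000 in
/-- Let T be an S-torus and α : T → G_{m,S} a character. The following are equivalent: (i) for every
point s of S the character induced on the geometric fibre at s is not the trivial character; (ii)
for every morphism S' → S with S' non-empty the base change of α is not the trivial character; (iii)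
α is faithfully flat (flat and surjective). -/
theorem result (S : Scheme.{u}) (T : Over S) [GrpObj T] (hT : Red.IsTorus T) (α : T ⟶ Red.Gm S) [IsMonHom α] :
    ((∀ s : S, (Over.pullback (Red.geomPt s)).map α ≠ 1) ↔
      (∀ (S' : Scheme.{u}) (g : S' ⟶ S), Nonempty ↥S' → (Over.pullback g).map α ≠ 1)) ∧
    ((∀ s : S, (Over.pullback (Red.geomPt s)).map α ≠ 1) ↔ (Flat α.left ∧ Surjective α.left)) := by
  have htriv : ∀ {L : Type u} [Field L] (ξ : Spec (CommRingCat.of L) ⟶ S) (s : S),
      ξ (IsLocalRing.closedPoint L) = s → (Over.pullback ξ).map α = 1 → (Over.pullback (Red.geomPt s)).map α = 1 := by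
    intro L _ ξ s hs h
    rw [← TrivLocus.triv_iff_map] at h ⊢
    obtain ⟨g, hg⟩ : ∃ g : Spec (CommRingCat.of L) ⟶ Spec (S.residueField s), g ≫ S.fromSpecResidueField s = ξ := by
      subst hs
      exact ⟨Spec.map _, Scheme.descResidueField_stalkClosedPointTo_fromSpecResidueField L S ξ⟩
    haveI : Surjective g := ⟨fun x => ⟨IsLocalRing.closedPoint L,
      Subsingleton.elim (α := PrimeSpectrum (S.residueField s)) _ _⟩⟩
    haveI : Flat g := by
      obtain ⟨φ, rfl⟩ := Spec.map_surjective g
      rw [HasRingHomProperty.Spec_iff (P := @Flat)]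
      letI := φ.hom.toAlgebra
      exact Module.Flat.of_free
    have h1 : TrivLocus.Triv α (S.fromSpecResidueField s) := TrivLocus.Triv.of_flat_surjective α g (hg ▸ h)
    exact h1.comp α _ rfl
  have ff_ne : (Flat α.left ∧ Surjective α.left) →
      ∀ (S' : Scheme.{u}) (g : S' ⟶ S), Nonempty ↥S' → (Over.pullback g).map α ≠ 1 := by
    rintro ⟨hf, hs⟩ S' g ⟨x⟩ h
    haveI : Flat ((Over.pullback g).map α).left := MorphismProperty.overPullbackMap (P := @Flat) g α hf
    haveI : Surjective ((Over.pullback g).map α).left := MorphismProperty.overPullbackMap (P := @Surjective) g α hs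
    haveI : Epi ((Over.pullback g).map α) := by
      haveI : Epi ((Over.pullback g).map α).left := Flat.epi_of_flat_of_surjective _
      exact Over.epi_of_epi_left _
    have h1 : 𝟙 (Red.bc g (Red.Gm S)) = 1 := by
      rw [← cancel_epi ((Over.pullback g).map α), Category.comp_id, MonObj.comp_one, h]
    let C : Type u := MonoidAlgebra (S'.residueField x) (Multiplicative ℤ)
    let c : Spec (CommRingCat.of C) ⟶ S' := Spec.map (CommRingCat.ofHom (algebraMap (S'.residueField x) C)) ≫
      S'.fromSpecResidueField x
    let t : Over.mk c ⟶ Red.Gm S' := DSPts.pt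
      ((Scheme.ΓSpecIso (CommRingCat.of C)).inv.hom.toMonoidHom.comp (MonoidAlgebra.of (S'.residueField x) _))
    have h2 : t ≫ (bcDS (S := S) (N := ℤ) g).inv = 1 := by
      rw [← Category.comp_id (t ≫ (bcDS (S := S) (N := ℤ) g).inv), h1, MonObj.comp_one]
    haveI := isMonHom_bcDS (S := S) (N := ℤ) g
    have h3 := congrArg DSPts.char
      (congrArg (· ≫ (bcDS (S := S) (N := ℤ) g).hom) h2)
    rw [Category.assoc, Iso.inv_hom_id, Category.comp_id,
      @MonObj.one_comp _ _ _ _ _ _ _ _ (bcDS (S := S) (N := ℤ) g).hom (isMonHom_bcDS g), DSPts.char_pt, DSPts.char_one] at h3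
    have h4 := (ConcreteCategory.bijective_of_isIso (Scheme.ΓSpecIso (CommRingCat.of C)).inv).1
      ((DFunLike.congr_fun h3 (Multiplicative.ofAdd 1)).trans (map_one _).symm)
    have h5 : Multiplicative.ofAdd (1 : ℤ) = 1 :=
      MonoidAlgebra.of_injective (R := S'.residueField x) (h4.trans (map_one _).symm)
    exact absurd (Multiplicative.ofAdd.injective (h5.trans ofAdd_zero.symm)) one_ne_zero
  have to_ff : (∀ s : S, (Over.pullback (Red.geomPt s)).map α ≠ 1) → (Flat α.left ∧ Surjective α.left) := by
    intro hne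
    have hH := Locus.isMultTypeFT_of_isTorus hT
    obtain ⟨S', f, hf, hsurj, -, hloc⟩ := hT
    have hG : SGA3x.IsMultTypeFT (Red.Gm S) := by
      refine ⟨S, 𝟙 S, inferInstance, inferInstance, fun V hV => ⟨V, hV.isCompact, Set.image_id _⟩,
        fun s => ⟨⊤, trivial, ℤ, inferInstance, inferInstance, ⟨Grp.mkIso' (bcDS _)⟩⟩⟩
    obtain ⟨U, -, hU, hff⟩ := HomLocus.exists_ff_locus α (Locus.locally_of_multTypeFT hH) hG
    haveI := Groth.L25.Actions.descendsAlong_flat_fpqc.{u}
    have hall : ∀ s, s ∈ U := fun s => by
      rw [hU]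
      obtain ⟨z, hz⟩ := hsurj.surj s
      obtain ⟨V, hzV, r, ⟨e⟩⟩ := hloc z
      let L : Type u := S'.residueField z
      let k : Spec (CommRingCat.of L) ⟶ V.toScheme := IsOpenImmersion.lift V.ι (S'.fromSpecResidueField z) (by
        rw [Scheme.range_fromSpecResidueField, Scheme.Opens.range_ι]
        exact Set.singleton_subset_iff.2 hzV)
      let ξ : Spec (CommRingCat.of L) ⟶ S := S'.fromSpecResidueField z ≫ f
      obtain ⟨p, p', hp, hp', hpp', hp'p, hpi⟩ := exists_std (M := Fin r → ℤ)
        ⟨TrivLocus.restrictIso (V.ι ≫ f) k e (show k ≫ V.ι ≫ f = ξ by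
          rw [← Category.assoc, IsOpenImmersion.lift_fac])⟩
      have hξ : ξ (IsLocalRing.closedPoint L) = s := by
        show f (S'.fromSpecResidueField z _) = s
        rw [Scheme.fromSpecResidueField_apply]
        exact hz
      have hm : IsMonHom ((Over.pullback ξ).map α) :=
        ((Over.pullback ξ).mapGrp.map (Grp.homMk'' (A := Grp.mk T) (B := Grp.mk (Red.Gm S)) α
          (IsMonHom.one_hom α) (IsMonHom.mul_hom α))).hom.isMonHom_hom
      let B := bcDS (S := S) (N := ℤ) ξ
      let α' : Red.DS (Spec (CommRingCat.of L)) (Fin r → ℤ) ⟶ Red.DS (Spec (CommRingCat.of L)) ℤ :=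
        p ≫ (Over.pullback ξ).map α ≫ B.hom
      have hB : IsMonHom B.hom := isMonHom_bcDS ξ
      haveI : IsMonHom α' := isMonHom_of_mul _ fun X a b => by
        simp only [α', ← Category.assoc]
        rw [@MonObj.mul_comp _ _ _ _ _ _ _ _ a b p hp, @MonObj.mul_comp _ _ _ _ _ _ _ _ _ _ _ hm,
          @MonObj.mul_comp _ _ _ _ _ _ _ _ _ _ _ hB]
      haveI : Monoid.FG (Multiplicative ℤ) :=
        monoidFG_of_addGroupFG (Module.Finite.iff_addGroup_fg.1 inferInstance)
      obtain ⟨W, hW, φ, hφ⟩ := exists_local_DSmap α' (IsLocalRing.closedPoint L)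
      have hWall : ∀ y, y ∈ W := fun y => by
        rwa [show y = IsLocalRing.closedPoint L from Subsingleton.elim (α := PrimeSpectrum L) _ _]
      have hα' : α' = Red.DSmap _ φ := by
        simpa only [Category.id_comp] using hφ _ (fun y => hWall _) (𝟙 _)
      have hinj : Function.Injective φ := by
        rw [injective_iff_map_eq_zero]
        intro n hn
        by_contra hn0
        have h0 : φ 1 = 0 := funext fun i => by
          have h := congrFun hn i
          rw [show n = n • (1 : ℤ) by simp, map_zsmul] at h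
          simpa [hn0] using h
        have hφ0 : φ = 0 := AddMonoidHom.ext_int h0
        refine hne s (htriv ξ s hξ ?_)
        have h1 : α' = 1 := by
          rw [hα', hφ0]
          exact DSmap_zero _ _ _
        have h2 := congrArg (fun w => p' ≫ w ≫ B.inv) h1
        haveI := isMonHom_bcDS (S := S) (N := ℤ) ξ
        simpa only [α', Category.assoc, Iso.hom_inv_id, Category.comp_id, reassoc_of% hp'p, MonObj.one_comp,
          MonObj.comp_one] using h2
      obtain ⟨hφf, hφs, -⟩ := DSmap_cover (S := Spec (CommRingCat.of L)) φ hinj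
      haveI := hpi
      haveI : IsIso p.left := (Over.forget _).map_isIso p
      haveI : IsIso B.hom.left := (Over.forget _).map_isIso B.hom
      haveI : IsIso (inv p).left := (Over.forget _).map_isIso (inv p)
      have e1 : ((Over.pullback ξ).map α).left = (inv p).left ≫ (Red.DSmap _ φ).left ≫ B.inv.left := by
        rw [← Over.comp_left, ← Over.comp_left, ← hα']
        simp [α']
      haveI : IsIso B.inv.left := (Over.forget _).map_isIso B.inv
      haveI := hφf
      haveI := hφs
      exact (HomLocus.fib_iff α (@Flat ⊓ @Surjective : MorphismProperty Scheme.{u}) ξ s hξ).2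
        ⟨by show Flat _; rw [e1]; infer_instance, by show Surjective _; rw [e1]; infer_instance⟩
    haveI : IsIso U.ι := ⟨⟨IsOpenImmersion.lift U.ι (𝟙 S) (fun x _ => ⟨⟨x, hall x⟩, rfl⟩),
      by rw [← cancel_mono U.ι, Category.assoc, IsOpenImmersion.lift_fac, Category.id_comp, Category.comp_id],
      IsOpenImmersion.lift_fac _ _ _⟩⟩
    haveI := hff.1
    haveI := hff.2
    have h3 : α.left = inv (pullback.fst T.hom U.ι) ≫ ((Over.pullback U.ι).map α).left ≫
        pullback.fst (Red.Gm S).hom U.ι := by
      rw [IsIso.eq_inv_comp]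
      exact (HomLocus.isPullback_map α U.ι).w
    exact ⟨by rw [h3]; infer_instance, by rw [h3]; infer_instance⟩
  refine ⟨⟨fun h => ff_ne (to_ff h), fun h s => h _ _ ⟨IsLocalRing.closedPoint (AlgebraicClosure (S.residueField s))⟩⟩,
    to_ff, fun h s => ff_ne h _ _ ⟨IsLocalRing.closedPoint (AlgebraicClosure (S.residueField s))⟩⟩

end Groth.Agent.S5421
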