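import Groth.Statements.S7382
import Groth.Agent.L19.Approx.AffineFinite

set_option autoImplicit false
set_option backward.isDefEq.respectTransparency.types false
set_option backward.isDefEq.respectTransparency false
set_option linter.style.haveILetI false
universe u
open CategoryTheory AlgebraicGeometry
open Lim

namespace Groth.Agent.S7382

/-- Let `f : X → S` be integral with `S` quasi-compact and quasi-separated. Then, in the category of
schemes over `S`, `X` is the limit of a nonempty directed inverse system of schemes `X_i → S` that
are finite and locally of finite presentation. -/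
theorem result {X S : Scheme.{u}} (f : X ⟶ S) [IsIntegralHom f]
    [CompactSpace S] [QuasiSeparatedSpace S] :
    ∃ (I : Type u) (_ : Preorder I) (_ : IsDirected I (fun a b => a ≤ b)) (_ : Nonempty I)
      (D : Iᵒᵖ ⥤ Over S) (c : Limits.Cone D) (_ : Limits.IsLimit c),
      (∀ i, IsFinite (D.obj i).hom ∧ LocallyOfFinitePresentation (D.obj i).hom) ∧
      Nonempty (c.pt ≅ Over.mk f) := by
  have h : Groth.L19.Approx.Cofinal f @IsFinite :=
    fun {_} => Groth.L19.Approx.cofinal_isFinite f
  exact ⟨Groth.L19.Approx.Idx f @IsFinite, inferInstance, Groth.L19.Approx.isDirected_idx h,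
    Groth.L19.Approx.nonempty_idx h, Groth.L19.Approx.system f @IsFinite,
    Groth.L19.Approx.cone f @IsFinite, (Groth.L19.Approx.nonempty_isLimit_cone f @IsFinite h).some,
    fun i => ⟨Groth.L19.Approx.prop_system_hom f @IsFinite i,
      Groth.L19.Approx.lfp_system_hom f @IsFinite i⟩, ⟨CategoryTheory.Iso.refl _⟩⟩

end Groth.Agent.S7382
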