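import Groth.Statements.S14770
import Groth.Agent.L09.SubtrNoeth

set_option autoImplicit false
universe u
open CategoryTheory CategoryTheory.Limits AlgebraicGeometry
open Subtr

namespace Groth.Agent.S14770

/-- Let Y be a locally Noetherian scheme and f : X ⟶ Y a quasi-compact morphism. Then f is universally
submersive if and only if every base change of f has the lifting property for ordered pairs of
points. (The published statement assumes f universally submersive for the constructible topologies
rather than quasi-compact; for quasi-compact morphisms both sides force surjectivity and that
condition follows.) -/
theorem result {X Y : Scheme.{u}}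
    [IsLocallyNoetherian Y] (f : X ⟶ Y) [QuasiCompact f] :
    SGA1.UnivSubmersive f ↔ Subtr.UnivSSubtrusive f := by
  exact ⟨fun h => (Groth.L09.Subtr.dvrPair_of_univSubmersive h).univSSubtrusive,
    Groth.L09.Subtr.univSubmersive_of_univSSubtrusive f⟩

end Groth.Agent.S14770
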