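import Groth.Statements.S14792
import Groth.Agent.L09.SubtrLimit
import Groth.Agent.L09.SubtrNoeth
import Groth.Agent.L05.ModelFG

set_option autoImplicit false
universe u
open CategoryTheory CategoryTheory.Limits AlgebraicGeometry
open Subtr

namespace Groth.Agent.S14792

/-- (i) ⇔ (iii): let A be a commutative ring and f : X ⟶ Spec A a morphism of finite presentation. Then
every base change of f has the lifting property for ordered pairs of points if and only if there are
a finitely generated subring A₀ ⊆ A, a scheme X₀ and a universally submersive morphism f₀ : X₀ ⟶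
Spec A₀ of finite presentation such that f is the base change of f₀ along Spec A ⟶ Spec A₀. -/
theorem result (A : Type u) [CommRing A]
    {X : Scheme.{u}} (f : X ⟶ Spec (CommRingCat.of A))
    [LocallyOfFinitePresentation f] [QuasiCompact f] [QuasiSeparated f] :
    Subtr.UnivSSubtrusive f ↔
      ∃ (A₀ : Subalgebra ℤ A) (_ : A₀.FG) (X₀ : Scheme.{u}) (f₀ : X₀ ⟶ Spec (CommRingCat.of A₀))
        (q : X ⟶ X₀), IsPullback q f f₀ (Spec.map (CommRingCat.ofHom A₀.val.toRingHom)) ∧
        LocallyOfFinitePresentation f₀ ∧ QuasiCompact f₀ ∧ QuasiSeparated f₀ ∧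
        SGA1.UnivSubmersive f₀ := by
  open Groth.L19.Limit in
  constructor
  · intro hf
    have hd : Descends (Subtr.UnivSSubtrusive ⊓ @QuasiSeparated) qcqsfp.{u} := by
      intro I _ _ D c _ hc i _ Z a ha hP
      obtain ⟨j, φ, hj⟩ := Groth.L09.SubtrLimit.descends_univSSubtrusive hc a ha hP.1
      haveI : QuasiSeparated a := ha.1.2
      exact ⟨j, φ, hj, MorphismProperty.pullback_fst (P := @QuasiSeparated) _ _ inferInstance⟩
    obtain ⟨A₀, hA₀, X₀, f₀, g, ⟨h1, h2⟩, h3, h4, h5⟩ :=
      Groth.L05.ModelFG.exists_model A hd f ⟨hf, inferInstance⟩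
    exact ⟨A₀, hA₀, X₀, f₀, g, h5, h3, h4, h2,
      Groth.L09.Subtr.univSubmersive_of_univSSubtrusive f₀ h1⟩
  · rintro ⟨A₀, hA₀, X₀, f₀, q, hq, h1, h2, h3, h4⟩
    haveI : Algebra.FiniteType ℤ A₀ := A₀.fg_iff_finiteType.mp hA₀
    haveI : IsNoetherianRing A₀ := Algebra.FiniteType.isNoetherianRing ℤ A₀
    exact MorphismProperty.of_isPullback hq
      (Groth.L09.Subtr.dvrPair_of_univSubmersive h4).univSSubtrusive

end Groth.Agent.S14792
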