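import Groth.Statements.S0429
import Groth.Agent.L20.RG.FlatOpenFt

set_option autoImplicit false
universe u
open FlatMor

set_option backward.isDefEq.respectTransparency.types false
namespace Groth.Agent.S0429

open AlgebraicGeometry CategoryTheory Limits in
/-- A flat morphism locally of finite type to an integral scheme is locally of finite presentation. -/
theorem result {X S : Scheme.{u}} (f : X ⟶ S) [IsIntegral S] [Flat f] [LocallyOfFiniteType f] : LocallyOfFinitePresentation f := by
  rw [HasRingHomProperty.iff_appLE (P := @LocallyOfFinitePresentation)]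
  intro W U hUW
  have hflat := HasRingHomProperty.appLE (P := @Flat) f ‹Flat f› W U hUW
  have hft := HasRingHomProperty.appLE (P := @LocallyOfFiniteType) f ‹LocallyOfFiniteType f› W U hUW
  by_cases hW : Nonempty ↥(W.1 : S.Opens)
  · haveI := hW
    letI : Algebra Γ(S, W.1) Γ(X, U.1) := (f.appLE W.1 U.1 hUW).hom.toAlgebra
    haveI : IsDomain Γ(S, W.1) := @IsIntegral.component_integral S _ W.1 hW
    haveI : Module.Flat Γ(S, W.1) Γ(X, U.1) := hflat
    haveI : Algebra.FiniteType Γ(S, W.1) Γ(X, U.1) := hft
    exact (Groth.L20.RG.algebra_fp_of_flat Groth.L20.RG.finite_weakAss_domain :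
      Algebra.FinitePresentation Γ(S, W.1) Γ(X, U.1))
  · have hW' : W.1 = ⊥ := by
      ext x
      exact ⟨fun hx => absurd ⟨⟨x, hx⟩⟩ hW, fun hx => hx.elim⟩
    have hU' : U.1 = ⊥ := le_bot_iff.mp (hUW.trans (by rw [hW']; simp))
    haveI : Subsingleton Γ(S, W.1) := by rw [hW']; exact inferInstance
    haveI : Subsingleton Γ(X, U.1) := by rw [hU']; exact inferInstance
    exact RingHom.FinitePresentation.of_bijective ⟨fun a b _ => Subsingleton.elim a b, fun y => ⟨0, Subsingleton.elim _ _⟩⟩

end Groth.Agent.S0429
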