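import Groth.Statements.S18934
import Groth.Agent.L19.RootSynt

set_option autoImplicit false
set_option backward.isDefEq.respectTransparency.types false
set_option backward.isDefEq.respectTransparency false
set_option linter.style.haveILetI false
universe u
open Synt

namespace Groth.Agent.S18934

open Polynomial in
/-- Let p be a prime, A a commutative ring and a an element of A. Then the A-algebra A[T]/(T^p − a) is
syntomic and faithfully flat over A. This is the step of the source's proof showing that adjoining a
p-th root of any element is a covering for the syntomic topology. -/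
theorem result (p : ℕ) [Fact p.Prime]
    (A : Type u) [CommRing A] (a : A) :
    Synt.IsSyntomic A (AdjoinRoot (X ^ p - C a)) ∧ Module.FaithfullyFlat A (AdjoinRoot (X ^ p - C a)) := by
  rcases subsingleton_or_nontrivial A with hA | hA
  · haveI := hA
    have h1 : (X ^ p - C a : Polynomial A) = X ^ (p + 1) := Subsingleton.elim _ _
    rw [h1]
    have hm : (X ^ (p + 1) : Polynomial A).Monic := Polynomial.monic_X_pow _
    refine ⟨Groth.L19.RootSynt.isSyntomic_adjoinRoot A _ hm, ?_⟩
    haveI : Subsingleton (AdjoinRoot (X ^ (p + 1) : Polynomial A)) := Module.subsingleton A _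
    exact { toFlat := inferInstance
            submodule_ne_top := fun {m} hm => absurd (Subsingleton.elim m ⊤) hm.ne_top }
  have hp : p ≠ 0 := (Fact.out : p.Prime).ne_zero
  have hm : (X ^ p - C a : Polynomial A).Monic := Polynomial.monic_X_pow_sub_C a hp
  refine ⟨Groth.L19.RootSynt.isSyntomic_adjoinRoot A _ hm,
    Groth.L19.RootSynt.faithfullyFlat_adjoinRoot A _ hm ?_⟩
  rw [Polynomial.natDegree_X_pow_sub_C]
  exact Nat.pos_of_ne_zero hp

end Groth.Agent.S18934
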