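import Groth.Statements.S1216
import Groth.Agent.L20.RG.HenselML
import Groth.Agent.L05.Henselization.ValuationExt
import Groth.Agent.L05.IndEt.Localization

set_option autoImplicit false
universe u
open FlatMor

set_option backward.isDefEq.respectTransparency.types false
open IsLocalRing TensorProduct

/-- Membership in `IM` through the tensor product with the quotient. -/
theorem mem_smul_top_iff {A M : Type u} [CommRing A] [AddCommGroup M] [Module A M] (I : Ideal A) (x : M) :
    x ∈ (I • ⊤ : Submodule A M) ↔ (Ideal.Quotient.mk I 1) ⊗ₜ[A] x = (0 : (A ⧸ I) ⊗[A] M) := by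
  rw [← (TensorProduct.quotTensorEquivQuotSMul M I).map_eq_zero_iff, TensorProduct.quotTensorEquivQuotSMul_mk_tmul,
    one_smul, Submodule.Quotient.mk_eq_zero]

theorem exists_content_of_cover {A : Type u} [CommRing A] [IsDomain A] [ValuationRing A] {R' : Type u} [CommRing R']
    [Algebra A R'] {p' : Ideal R'} [p'.IsPrime] (hp : FlatCA.IsEtaleNhd A R' (maximalIdeal A) p')
    (N' : Type u) [AddCommGroup N'] [Module (Localization.AtPrime p') N'] [Module A N']
    [IsScalarTower A (Localization.AtPrime p') N'] [Module.Flat (Localization.AtPrime p') N']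
    (hML : CAlg.IsMittagLeffler (Localization.AtPrime p') N')
    {N : Type u} [AddCommGroup N] [Module A N] (g : N →ₗ[A] N') (hg : FlatCA.UnivInj A g) (x : N) :
    ∃ I : Ideal A, I.IsPrincipal ∧ x ∈ I • (⊤ : Submodule A N) ∧ ∀ J : Ideal A, x ∈ J • (⊤ : Submodule A N) → I ≤ J := by
  classical
  haveI := hp.1
  let A₁ := Localization.AtPrime p'
  have hA1 : Groth.L20.RG.TrivRes A (maximalIdeal A) (maximalIdeal A₁) :=
    (show Groth.L20.RG.TrivRes A (maximalIdeal A) p' from hp.2).trans (Groth.L20.RG.trivRes_atPrime p')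
  haveI : IsLocalHom (algebraMap A A₁) :=
    ((local_hom_TFAE (algebraMap A A₁)).out 0 4 rfl rfl).mpr hA1.1.over.symm
  haveI : Module.Flat A A₁ := by
    haveI : Module.Flat A R' := Algebra.Smooth.flat A R'
    haveI : Module.Flat R' A₁ := IsLocalization.flat A₁ p'.primeCompl
    exact Module.Flat.trans A R' A₁
  haveI : Module.FaithfullyFlat A A₁ := Module.FaithfullyFlat.of_flat_of_isLocalHom
  obtain ⟨-, -, -, hunit⟩ := Groth.L05.Henselization.ValuationExt.main A A₁
    (Groth.L05.IndEt.isIndEtale_localization A R' A₁ p'.primeCompl)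
  let 𝒥 := {J : Ideal A₁ // g x ∈ (J • ⊤ : Submodule A₁ N')}
  let J₀ : Ideal A₁ := ⨅ J : 𝒥, J.1
  have hJ₀ : g x ∈ (J₀ • ⊤ : Submodule A₁ N') := by
    rw [mem_smul_top_iff]
    let π : (A₁ ⧸ J₀) →ₗ[A₁] ∀ J : 𝒥, A₁ ⧸ J.1 := LinearMap.pi fun J => Submodule.factor (iInf_le (fun J : 𝒥 => J.1) J)
    have hπ : Function.Injective π := by
      refine (injective_iff_map_eq_zero _).mpr fun w hw => ?_
      obtain ⟨w, rfl⟩ := Submodule.Quotient.mk_surjective _ w
      refine (Submodule.Quotient.mk_eq_zero _).mpr (Submodule.mem_iInf _ |>.mpr fun J => ?_)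
      exact (Submodule.Quotient.mk_eq_zero _).mp (congrFun hw J)
    refine (TensorProduct.comm A₁ _ _).injective
      (Module.Flat.lTensor_preserves_injective_linearMap (M := N') π hπ (hML 𝒥 _ ?_))
    funext J
    show TensorProduct.piRightHom A₁ A₁ N' (fun J : 𝒥 => A₁ ⧸ J.1) (g x ⊗ₜ[A₁] π (Ideal.Quotient.mk J₀ 1)) J = 0
    rw [TensorProduct.piRightHom_tmul]
    have h := congrArg (TensorProduct.comm A₁ _ _) ((mem_smul_top_iff J.1 (g x)).mp J.2)
    rw [map_zero] at h
    exact h
  -- a generator from the base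
  obtain ⟨s, hs⟩ : ∃ s : Finset A₁, (s : Set A₁) ⊆ J₀ ∧ g x ∈ (Ideal.span (s : Set A₁) • ⊤ : Submodule A₁ N') := by
    refine Submodule.smul_induction_on hJ₀ (fun a ha n _ => ⟨{a}, by simpa using ha, ?_⟩) fun a b ha hb => ?_
    · exact Submodule.smul_mem_smul (Ideal.subset_span (by simp)) trivial
    · obtain ⟨s, hs, hs'⟩ := ha
      obtain ⟨t, ht, ht'⟩ := hb
      refine ⟨s ∪ t, by simp [hs, ht], add_mem ?_ ?_⟩
      · exact Submodule.smul_mono (Ideal.span_mono (by simp)) le_rfl hs'
      · exact Submodule.smul_mono (Ideal.span_mono (by simp)) le_rfl ht'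
  have hJeq : Ideal.span (s : Set A₁) = J₀ :=
    le_antisymm (Ideal.span_le.mpr hs.1) (iInf_le (fun J : 𝒥 => J.1) ⟨_, hs.2⟩)
  obtain ⟨c, hc⟩ : ∃ c : A, J₀ = Ideal.span {algebraMap A A₁ c} := by
    have hc : ∀ a : A₁, ∃ (c : A) (u : A₁ˣ), a = u * algebraMap A A₁ c := fun a => by
      by_cases ha : a = 0
      · exact ⟨0, 1, by simp [ha]⟩
      · obtain ⟨c, u, h⟩ := hunit a ha
        exact ⟨c, u, h⟩
    choose c u hcu using hc
    obtain hs0 | hs0 := s.eq_empty_or_nonempty
    · exact ⟨0, by rw [← hJeq, hs0]; simp⟩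
    obtain ⟨i, hi, hdvd⟩ := Groth.L05.Henselization.ValuationExt.exists_dvd_all s hs0 c
    refine ⟨c i, le_antisymm ?_ ?_⟩
    · rw [← hJeq, Ideal.span_le]
      intro a ha
      refine Ideal.mem_span_singleton.mpr ?_
      rw [hcu a]
      exact Dvd.dvd.mul_left ((algebraMap A A₁).map_dvd (hdvd a ha)) _
    · rw [Ideal.span_le, Set.singleton_subset_iff, ← hJeq]
      exact (Ideal.unit_mul_mem_iff_mem _ (u i).isUnit).mp (by rw [← hcu i]; exact Ideal.subset_span hi)
  refine ⟨Ideal.span {c}, ⟨c, rfl⟩, ?_, fun J hJ => ?_⟩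
  · rw [mem_smul_top_iff]
    refine hg (A ⧸ Ideal.span {c}) ?_
    rw [map_zero, LinearMap.lTensor_tmul, ← mem_smul_top_iff]
    rw [hc, Submodule.ideal_span_singleton_smul] at hJ₀
    obtain ⟨n, -, hn⟩ := Submodule.mem_map.mp hJ₀
    rw [← hn]
    show algebraMap A A₁ c • n ∈ _
    rw [algebraMap_smul]
    exact Submodule.smul_mem_smul (Ideal.mem_span_singleton_self c) trivial
  · rw [Ideal.span_le, Set.singleton_subset_iff]
    have h1 : g x ∈ (J.map (algebraMap A A₁) • ⊤ : Submodule A₁ N') := by
      have h0 := Submodule.mem_map_of_mem (f := g) hJ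
      rw [Submodule.map_smul''] at h0
      refine Submodule.smul_induction_on (Submodule.smul_mono le_rfl le_top h0) (fun a ha n _ => ?_)
        fun a b ha hb => add_mem ha hb
      rw [← algebraMap_smul A₁ a n]
      exact Submodule.smul_mem_smul (Ideal.mem_map_of_mem _ ha) trivial
    have h2 : algebraMap A A₁ c ∈ J.map (algebraMap A A₁) :=
      (iInf_le (fun J : 𝒥 => J.1) ⟨_, h1⟩) (show algebraMap A A₁ c ∈ J₀ by rw [hc]; exact Ideal.mem_span_singleton_self _)
    show c ∈ J
    rwa [← Ideal.comap_map_eq_self_of_faithfullyFlat (B := A₁) J, Ideal.mem_comap]namespace Groth.Agent.S1216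

/-- Let A → B be a local homomorphism of local rings which is essentially of finite type, with A a
valuation ring, and N a finite B-module flat over A. Then every element x of N has a content ideal,
that is a smallest ideal I of A with x ∈ IN, and this ideal is principal. -/
theorem result {A B : Type u} [CommRing A] [IsDomain A] [ValuationRing A] [CommRing B] [IsLocalRing B] [Algebra A B]
    [IsLocalHom (algebraMap A B)] [Algebra.EssFiniteType A B]
    (N : Type u) [AddCommGroup N] [Module B N] [Module A N] [IsScalarTower A B N] [Module.Finite B N] [Module.Flat A N] (x : N) :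
    ∃ I : Ideal A, I.IsPrincipal ∧ x ∈ I • (⊤ : Submodule A N) ∧ ∀ J : Ideal A, x ∈ J • (⊤ : Submodule A N) → I ≤ J := by
  classical
  obtain ⟨S, _, _, _, _, _, T, hloc⟩ : ∃ (S : Type u) (_ : CommRing S) (_ : Algebra A S) (_ : Algebra S B)
      (_ : IsScalarTower A S B) (_ : Algebra.FiniteType A S) (T : Submonoid S), IsLocalization T B :=
    ⟨Algebra.EssFiniteType.subalgebra A B, inferInstance, inferInstance, inferInstance, inferInstance, inferInstance,
      Algebra.EssFiniteType.submonoid A B, Algebra.EssFiniteType.isLocalization A B⟩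
  haveI := hloc
  let q : Ideal S := (maximalIdeal B).comap (algebraMap S B)
  haveI hq : IsLocalization q.primeCompl B := IsLocalization.of_le T q.primeCompl
    (fun t ht (h : algebraMap S B t ∈ maximalIdeal B) => h (IsLocalization.map_units B (⟨t, ht⟩ : T)))
    (fun t (ht : algebraMap S B t ∉ maximalIdeal B) => not_not.mp ht)
  haveI : q.LiesOver (maximalIdeal A) := ⟨by
    rw [Ideal.under, Ideal.comap_comap, ← IsScalarTower.algebraMap_eq]
    exact (((local_hom_TFAE (algebraMap A B)).out 0 4 rfl rfl).mp ‹IsLocalHom (algebraMap A B)› :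
      (maximalIdeal B).comap (algebraMap A B) = maximalIdeal A).symm⟩
  letI : Module S N := Module.compHom N (algebraMap S B)
  haveI : IsScalarTower S B N := IsScalarTower.of_algebraMap_smul fun _ _ => rfl
  haveI : IsScalarTower A S N := IsScalarTower.of_algebraMap_smul fun a m => by
    rw [← algebraMap_smul B (algebraMap A S a) m, ← IsScalarTower.algebraMap_apply, algebraMap_smul]
  obtain ⟨N₀, hfin, hN₀⟩ := Groth.L20.RG.exists_finite_model_of_isLocalization q.primeCompl (B := B) N
  haveI := hfin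
  haveI := hN₀
  let e := (IsLocalizedModule.iso q.primeCompl N₀.subtype).restrictScalars A
  by_cases hsupp : (⟨q, inferInstance⟩ : PrimeSpectrum S) ∈ Module.support S N₀
  swap
  · haveI : Subsingleton (LocalizedModule q.primeCompl N₀) := Module.notMem_support_iff.mp hsupp
    haveI : Subsingleton N := e.symm.toEquiv.subsingleton
    exact ⟨⊥, inferInstance, by rw [Subsingleton.elim x 0]; exact zero_mem _, fun J _ => bot_le⟩
  obtain ⟨R', _, _, p', _, N', _, _, _, _, g, hp, hflat, hML, hg⟩ :=
    Groth.L20.RG.exists_ml_cover q N₀ (Module.Flat.of_linearEquiv e) hsupp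
  exact exists_content_of_cover hp N' hML (g ∘ₗ e.symm.toLinearMap)
    (fun Q _ _ => by
      rw [LinearMap.lTensor_comp]
      exact (hg Q).comp (e.symm.lTensor Q).injective) x

end Groth.Agent.S1216
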