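import Groth.Statements.S6742
import Groth.Agent.L29.BCAdj.HomVanish

set_option autoImplicit false
set_option backward.defeqAttrib.useBackward true
set_option backward.isDefEq.respectTransparency false
set_option backward.isDefEq.respectTransparency.types false
set_option backward.isDefEq.respectTransparency false
universe u
open CategoryTheory AlgebraicGeometry
attribute [local instance] HasDerivedCategory.standard
open DEquiv

namespace Groth.Agent.S6742

/-- Let X be a scheme proper over a field k, let K be an object of D(O_X) which is bounded and has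
coherent cohomology sheaves, and let E be a perfect object of D(O_X). Then the k-vector spaces
Ext^i_X(E, K) = Hom(E, K⟦i⟧) (k-linear structure induced by X → Spec k) are finite-dimensional for
all i ∈ ℤ and nonzero for only finitely many i. -/
theorem result
    (k : Type u) [Field k] (X : Scheme.{u}) [X.Over (Spec (.of k))] [IsProper (X ↘ Spec (.of k))]
    (K : DCoh.D X) (hK : SGA6.cohbP X K) (E : DCoh.D X) (hE : DCoh.IsPerfect E) :
    (∀ i : ℤ, Module.Finite k (E ⟶ (shiftFunctor (DCoh.D X) i).obj K)) ∧
        Set.Finite {i : ℤ | Nontrivial (E ⟶ (shiftFunctor (DCoh.D X) i).obj K)} := by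
  let f := X ↘ Spec (CommRingCat.of k)
  haveI : IsLocallyNoetherian X := LocallyOfFiniteType.isLocallyNoetherian f
  haveI : CompactSpace X := QuasiCompact.compactSpace_of_compactSpace f
  obtain ⟨hKc, lo, hi, hlo, hhi⟩ := hK
  obtain ⟨a, b, ha, hb⟩ := Groth.L29.CohSupp.exists_bounds_of_perfect hE
  haveI := hb
  have hKi : ∀ i : ℤ, DCoh.IsCohD (K⟦i⟧) := fun i j => Groth.L16.CohSupport.isCoh_of_iso
    (((DerivedCategory.homologyFunctor X.Modules 0).shiftIso i j (i + j) rfl).app K).symm (hKc (i + j))
  refine ⟨fun i => Groth.L29.BCAdj.finite_hom_proper (Groth.L29.CohSupp.isCohD_of_perfect hE) b (hKi i) (lo - i)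
    (Groth.L29.DC.RHom.isGE_shift hlo i), ?_⟩
  obtain ⟨N, hN⟩ := Groth.L29.BCAdj.exists_hom_perfect_eq_zero f hE
  refine Set.Finite.subset (Set.finite_Icc (lo - b) (hi - N)) fun i hi' => ?_
  haveI : DerivedCategory.TStructure.t.IsGE K lo := hlo
  haveI : DerivedCategory.TStructure.t.IsLE K hi := hhi
  by_contra hcon
  haveI : Nontrivial (E ⟶ K⟦i⟧) := hi'
  obtain ⟨u, hu⟩ := exists_ne (0 : E ⟶ K⟦i⟧)
  refine hu ?_
  by_cases h1 : lo - b ≤ i
  · have h2 : hi - N < i := by
      by_contra h3
      exact hcon ⟨h1, by omega⟩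
    haveI := DerivedCategory.TStructure.t.isLE_shift K hi i (hi - i) (by omega)
    exact hN _ (fun j => (hKi i j).1) (DerivedCategory.TStructure.t.isLE_of_le _ (hi - i) N (by omega)) u
  · haveI := DerivedCategory.TStructure.t.isGE_shift K lo i (lo - i) (by omega)
    exact DerivedCategory.TStructure.t.zero_of_isLE_of_isGE u b (lo - i) (by omega) hb inferInstance

end Groth.Agent.S6742
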