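import Groth.Statements.S1005
import Groth.Agent.L10.DRing.PD
import Groth.Agent.L10.DRing.Coherent
import Groth.Agent.L29.DCoh.PCNoeth
import Groth.Agent.L29.DCoh.EvalMain

set_option autoImplicit false
set_option backward.isDefEq.respectTransparency false
universe u
open CategoryTheory CategoryTheory.Limits AlgebraicGeometry
attribute [local instance] HasDerivedCategory.standard
open Perf

namespace Groth.Agent.S1005

/-- Let X be a locally Noetherian scheme all of whose local rings are regular. Then every object of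
D(O_X) with bounded, coherent cohomology is perfect. -/
theorem result (X : Scheme.{u}) [IsLocallyNoetherian X]
    (hreg : ∀ x : X, IsRegularLocalRing (X.presheaf.stalk x))
    (K : DCoh.D X) (a b : ℤ) [K.IsGE a] [K.IsLE b] (hK : DCoh.IsCohD K) : DCoh.IsPerfect K := by
  have hq : DCoh.IsQCohD K := fun i => (hK i).1
  refine Groth.L29.DC.perfect_of_on fun x => ?_
  obtain ⟨U, hU, M, hx, ⟨e⟩⟩ := Groth.L29.DC.PCNoeth.exists_affine_repr K hq x
  haveI : IsNoetherianRing Γ(X, U) := IsLocallyNoetherian.component_noetherian ⟨U, hU⟩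
  haveI : IsRegularRing Γ(X, U) := by
    constructor
    intro p hp
    let q : PrimeSpectrum Γ(X, U) := ⟨p, hp⟩
    have hy : hU.fromSpec q ∈ U := by
      rw [← SetLike.mem_coe, ← hU.range_fromSpec]; exact ⟨_, rfl⟩
    haveI := hreg (hU.fromSpec q)
    have hp' : hU.primeIdealOf ⟨hU.fromSpec q, hy⟩ = q :=
      hU.fromSpec.isOpenEmbedding.injective (hU.fromSpec_primeIdealOf ⟨hU.fromSpec q, hy⟩)
    letI : Algebra Γ(X, U) (X.presheaf.stalk (hU.fromSpec q)) := (X.presheaf.germ U _ hy).hom.toAlgebra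
    haveI : IsLocalization.AtPrime (X.presheaf.stalk (hU.fromSpec q)) q.asIdeal :=
      hU.isLocalization_stalk' q hy
    exact IsRegularLocalRing.of_ringEquiv
      (IsLocalization.algEquiv q.asIdeal.primeCompl (X.presheaf.stalk (hU.fromSpec q)) (Localization.AtPrime q.asIdeal)).toRingEquiv
  have hz : ∀ i, (i < a ∨ b < i) → IsZero ((Groth.L02.PC.HH i).obj M) := fun i hi =>
    Groth.L29.DC.TildeAlg.isZero_of_isZero_tilde
      (((Scheme.Modules.restrictFunctor hU.fromSpec).map_isZero (by
          rcases hi with hi | hi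
          · exact DerivedCategory.isZero_of_isGE K a i hi
          · exact DerivedCategory.isZero_of_isLE K b i hi)).of_iso
        (Groth.L29.DC.PCNoeth.hdResIso K hU.fromSpec e i).symm)
  have hfin : ∀ i, Module.Finite Γ(X, U) ((Groth.L02.PC.HH i).obj M) := fun i => by
    haveI : Coh.IsQCoh (DCoh.HD K i) := hq i
    exact Groth.L16.CohKernel.finite_of_tilde_iso _ (hK i).2 hU.fromSpec _
      (Groth.L29.DC.PCNoeth.hdResIso K hU.fromSpec e i)
  let P : ObjectProperty (Dual.D Γ(X, U)) := fun Z => DRing.IsPerfect Γ(X, U) Z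
  haveI : P.IsClosedUnderIsomorphisms := ⟨fun e h => Groth.L29.Perfect.of_iso e h⟩
  have hM : DRing.IsPerfect Γ(X, U) M := Groth.L10.DR.of_homology P
    (fun Z hZ => Groth.L10.DR.perfect_of_isZero hZ)
    (fun T hT h1 h3 => Groth.L29.Perfect.second T hT h1 h3) M a b
    ((DerivedCategory.isGE_iff M a).2 fun i hi => hz i (Or.inl hi))
    ((DerivedCategory.isLE_iff M b).2 fun i hi => hz i (Or.inr hi)) fun i _ _ =>
      haveI := hfin i
      Groth.L29.Perfect.of_iso (Groth.L10.DR.singleShift i _)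
        (Groth.L29.Perfect.shift (Groth.L10.DR.perfectModule_of_regular ((Groth.L02.PC.HH i).obj M)) (-i))
  obtain ⟨y, rfl⟩ := hx
  obtain ⟨V, hyV, hV⟩ := (Groth.L29.DC.isPerfect_iff_wit _).1
    (Groth.L29.DC.isPerfect_of_iso e (Groth.L29.DC.TildeAlg.perfect_tilde hM)) y
  exact ⟨_, V.ι ≫ hU.fromSpec, inferInstance, ⟨⟨y, hyV⟩, rfl⟩,
    hV.of_iso ((Groth.L29.DC.resTransD hU.fromSpec V.ι (V.ι ≫ hU.fromSpec) rfl).app K)⟩

end Groth.Agent.S1005
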