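import Groth.Statements.S6747
import Groth.Agent.S6746
import Groth.Agent.L07.BvdB.DualPerf

set_option autoImplicit false
set_option linter.style.haveILetI false
set_option backward.isDefEq.respectTransparency.types false
universe u
open CategoryTheory AlgebraicGeometry
attribute [local instance] HasDerivedCategory.standard
open DEquiv

namespace Groth.Agent.S6747

open CategoryTheory.Limits CategoryTheory.Pretriangulated Opposite in
/-- Let X be a scheme proper over a field k which is regular (all local rings regular), and write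
D_perf(O_X) for the full subcategory of perfect objects of D(O_X) with its induced triangulated
structure (the instance hypothesis records that it is a triangulated subcategory). Let G be a
covariant functor from D_perf(O_X) to k-vector spaces which is k-linear and homological and such
that for every perfect E the spaces G(E⟦n⟧) are finite-dimensional for all n ∈ ℤ and nonzero for
only finitely many n. Then G is isomorphic to the functor E ↦ Hom(K, E) for some perfect object K
(existence of K and of an isomorphism of functors). -/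
theorem result
    (k : Type u) [Field k] (X : Scheme.{u}) [X.Over (Spec (.of k))] [IsProper (X ↘ Spec (.of k))]
    (hreg : Models.IsRegularScheme X)
    [(SGA6.perfP X).IsTriangulated]
    (G : (SGA6.perfP X).FullSubcategory ⥤ ModuleCat.{u + 1} k) [G.Additive] [G.Linear k] [G.IsHomological]
    (hfin : ∀ E : (SGA6.perfP X).FullSubcategory,
      (∀ n : ℤ, Module.Finite k (G.obj ((shiftFunctor ((SGA6.perfP X).FullSubcategory) n).obj E))) ∧
      Set.Finite {n : ℤ | Nontrivial (G.obj ((shiftFunctor ((SGA6.perfP X).FullSubcategory) n).obj E))}) :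
    ∃ K : (SGA6.perfP X).FullSubcategory, Nonempty (G ≅ (linearCoyoneda k ((SGA6.perfP X).FullSubcategory)).obj (op K)) := by
  let D := Groth.L07.BvdB.DualPerf.dualP (X := X)
  haveI : D.Full := Groth.L07.BvdB.DualPerf.full_dualP (k := k)
  haveI : D.IsEquivalence := { }
  let H : ((SGA6.perfP X).FullSubcategory)ᵒᵖ ⥤ ModuleCat.{u + 1} k := D ⋙ G
  have hlinD : ∀ (A B : (SGA6.perfP X).FullSubcategory) (r : k) (f : A ⟶ B), D.map (r • f).op = r • D.map f.op :=
    fun A B r f => ObjectProperty.hom_ext _ (Groth.L07.BvdB.DualFun.dualMap_smul r f.hom)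
  have hlin : ∀ (A B : (SGA6.perfP X).FullSubcategory) (r : k) (f : A ⟶ B), H.map (r • f).op = r • H.map f.op :=
    fun A B r f => by
      show G.map (D.map (r • f).op) = r • G.map (D.map f.op)
      rw [hlinD, Functor.map_smul]
  have hcoh : ∀ T ∈ distTriang (DCoh.D X), ∀ (h₁ : DCoh.IsPerfect T.obj₁)
      (h₂ : DCoh.IsPerfect T.obj₂) (h₃ : DCoh.IsPerfect T.obj₃)
      (y : H.obj (op ⟨T.obj₂, h₂⟩)),
      H.map (ObjectProperty.homMk T.mor₁ : (⟨T.obj₁, h₁⟩ : (SGA6.perfP X).FullSubcategory) ⟶ ⟨T.obj₂, h₂⟩).op y = 0 →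
        ∃ z : H.obj (op ⟨T.obj₃, h₃⟩),
          H.map (ObjectProperty.homMk T.mor₂ : (⟨T.obj₂, h₂⟩ : (SGA6.perfP X).FullSubcategory) ⟶ ⟨T.obj₃, h₃⟩).op z = y := by
    intro T hT h₁ h₂ h₃ y hy
    let a : (⟨T.obj₁, h₁⟩ : (SGA6.perfP X).FullSubcategory) ⟶ ⟨T.obj₂, h₂⟩ := ObjectProperty.homMk T.mor₁
    obtain ⟨Z, x, h, hS⟩ := distinguished_cocone_triangle₁ (D.map a.op)
    have hex := G.map_distinguished_exact _ hS
    rw [ShortComplex.moduleCat_exact_iff] at hex
    obtain ⟨z, hz⟩ := hex y hy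
    have hxa : x ≫ D.map a.op = 0 := comp_distTriang_mor_zero₁₂ _ hS
    obtain ⟨x', hx'⟩ : ∃ x' : Z.obj ⟶ Groth.L07.BvdB.DualFun.dual T.obj₂, x' = x.hom := ⟨x.hom, rfl⟩
    have hxa' : x' ≫ Groth.L07.BvdB.DualFun.dualMap T.mor₁ = 0 := by
      rw [hx']
      exact congrArg InducedCategory.Hom.hom hxa
    have h1 : T.mor₁ ≫ Groth.L07.BvdB.DualFun.thetaL (k := k) Z.obj T.obj₂ x' = 0 := by
      rw [← Groth.L07.BvdB.DualFun.thetaL_dualMap, hxa', map_zero]
    obtain ⟨w, hw⟩ := Triangle.yoneda_exact₂ T hT _ h1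
    obtain ⟨ψ, rfl⟩ := (Groth.L07.BvdB.DualFun.thetaL (k := k) Z.obj T.obj₃).surjective w
    rw [← Groth.L07.BvdB.DualFun.thetaL_dualMap] at hw
    have hψ : ψ ≫ Groth.L07.BvdB.DualFun.dualMap T.mor₂ = x' :=
      ((Groth.L07.BvdB.DualFun.thetaL (k := k) Z.obj T.obj₂).injective hw).symm
    let ψ' : Z ⟶ D.obj (op ⟨T.obj₃, h₃⟩) := ObjectProperty.homMk ψ
    refine ⟨G.map ψ' z, ?_⟩
    have : ψ' ≫ D.map (ObjectProperty.homMk T.mor₂ : (⟨T.obj₂, h₂⟩ : (SGA6.perfP X).FullSubcategory) ⟶ ⟨T.obj₃, h₃⟩).op = x :=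
      ObjectProperty.hom_ext _ (hψ.trans hx')
    refine Eq.trans ?_ hz
    change _ = (ConcreteCategory.hom (G.map x)) z
    rw [← this, G.map_comp]
    rfl
  have hfinH : ∀ E : (SGA6.perfP X).FullSubcategory,
      (∀ n : ℤ, Module.Finite k (H.obj (op ((shiftFunctor ((SGA6.perfP X).FullSubcategory) n).obj E)))) ∧
      Set.Finite {n : ℤ | Nontrivial (H.obj (op ((shiftFunctor ((SGA6.perfP X).FullSubcategory) n).obj E)))} := fun E => by
    have e : ∀ n : ℤ, Nonempty (D.obj (op ((shiftFunctor ((SGA6.perfP X).FullSubcategory) n).obj E)) ≅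
        (shiftFunctor ((SGA6.perfP X).FullSubcategory) (-n)).obj (D.obj (op E))) := fun n => by
      obtain ⟨e⟩ := Groth.L07.BvdB.DualFun.nonempty_dual_shift E.obj n
      obtain ⟨e'⟩ : Nonempty (Groth.L07.BvdB.DualFun.dual ((shiftFunctor ((SGA6.perfP X).FullSubcategory) n).obj E).obj ≅
          Groth.L07.BvdB.DualFun.dual (E.obj⟦n⟧)) :=
        let c : ((shiftFunctor ((SGA6.perfP X).FullSubcategory) n).obj E).obj ≅ E.obj⟦n⟧ :=
          ((SGA6.perfP X).ι.commShiftIso n).app E
        ⟨{ hom := Groth.L07.BvdB.DualFun.dualMap c.inv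
           inv := Groth.L07.BvdB.DualFun.dualMap c.hom
           hom_inv_id := by rw [← Groth.L07.BvdB.DualFun.dualMap_comp, c.hom_inv_id, Groth.L07.BvdB.DualFun.dualMap_id]
           inv_hom_id := by rw [← Groth.L07.BvdB.DualFun.dualMap_comp, c.inv_hom_id, Groth.L07.BvdB.DualFun.dualMap_id] }⟩
      exact ⟨(SGA6.perfP X).isoMk (e' ≪≫ e ≪≫ (((SGA6.perfP X).ι.commShiftIso (-n)).app (D.obj (op E))).symm)⟩
    refine ⟨fun n => ?_, ((hfin (D.obj (op E))).2.image fun n => -n).subset fun n hn => ⟨-n, ?_, neg_neg n⟩⟩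
    · obtain ⟨e⟩ := e n
      haveI := (hfin (D.obj (op E))).1 (-n)
      exact Module.Finite.equiv (G.mapIso e).toLinearEquiv.symm
    · obtain ⟨e⟩ := e n
      exact (G.mapIso e).toLinearEquiv.toEquiv.nontrivial_congr.1 hn
  obtain ⟨K, hK, ⟨e⟩⟩ := Groth.Agent.S6746.result k X hreg H hlin hcoh hfinH
  let Kp : (SGA6.perfP X).FullSubcategory := ⟨K, hK⟩
  refine ⟨D.obj (op Kp), ⟨?_⟩⟩
  let F := (linearCoyoneda k ((SGA6.perfP X).FullSubcategory)).obj (op (D.obj (op Kp)))
  let φ : ∀ A : ((SGA6.perfP X).FullSubcategory)ᵒᵖ, (A.unop.obj ⟶ K) ≃ₗ[k] (D.obj (op Kp) ⟶ D.obj A) := fun A =>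
    LinearEquiv.ofBijective
      { toFun := fun f => D.map (ObjectProperty.homMk f : A.unop ⟶ Kp).op
        map_add' := fun f g => ObjectProperty.hom_ext _ (Groth.L07.BvdB.DualFun.dualMap_add f g)
        map_smul' := fun r f => by
          rw [RingHom.id_apply]
          exact ObjectProperty.hom_ext _ (Groth.L07.BvdB.DualFun.dualMap_smul r f) }
      ⟨fun f g h => congrArg (fun w => InducedCategory.Hom.hom (Quiver.Hom.unop w)) (D.map_injective h),
        fun g => by
          obtain ⟨f, hf⟩ := D.map_surjective g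
          exact ⟨f.unop.hom, hf⟩⟩
  let e₂ : D ⋙ G ≅ D ⋙ F := e ≪≫ NatIso.ofComponents (fun A => (φ A).toModuleIso) (fun {A B} f => by
    apply ModuleCat.hom_ext
    apply LinearMap.ext
    intro x
    exact (congrArg D.map (Quiver.Hom.unop_inj (ObjectProperty.hom_ext _ rfl) :
        (ObjectProperty.homMk (f.unop.hom ≫ x) : B.unop ⟶ Kp).op = (ObjectProperty.homMk x : A.unop ⟶ Kp).op ≫ f)).trans
      (D.map_comp _ _))
  exact G.leftUnitor.symm ≪≫ Functor.isoWhiskerRight D.asEquivalence.counitIso.symm G ≪≫ Functor.associator _ _ _ ≪≫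
    Functor.isoWhiskerLeft _ e₂ ≪≫ (Functor.associator _ _ _).symm ≪≫
    Functor.isoWhiskerRight D.asEquivalence.counitIso F ≪≫ F.leftUnitor

end Groth.Agent.S6747
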