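import Groth.Statements.S6748
import Groth.Agent.S6742
import Groth.Agent.S6746
import Groth.Agent.S6747
import Mathlib.CategoryTheory.Adjunction.PartialAdjoint

set_option autoImplicit false
set_option linter.style.haveILetI false
set_option backward.isDefEq.respectTransparency.types false
universe u
open CategoryTheory AlgebraicGeometry
attribute [local instance] HasDerivedCategory.standard
open DEquiv

namespace Groth.Agent.S6748

/-- Let X and Y be schemes proper over a field k with X regular (all local rings regular), and let F :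
D_perf(O_X) ⥤ D_perf(O_Y) be a k-linear exact functor between the full subcategories of perfect
objects of D(O_X) and D(O_Y) (the instance hypotheses record that these are triangulated
subcategories). Then F has a right adjoint and a left adjoint. (Both adjoints are then exact
functors of triangulated categories; that general fact is not restated.) -/
theorem result
    (k : Type u) [Field k] (X Y : Scheme.{u}) [X.Over (Spec (.of k))] [Y.Over (Spec (.of k))]
    [IsProper (X ↘ Spec (.of k))] [IsProper (Y ↘ Spec (.of k))] (hreg : Models.IsRegularScheme X)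
    [(SGA6.perfP X).IsTriangulated] [(SGA6.perfP Y).IsTriangulated]
    (F : (SGA6.perfP X).FullSubcategory ⥤ (SGA6.perfP Y).FullSubcategory) [F.Additive] [F.Linear k]
    [F.CommShift ℤ] [F.IsTriangulated] :
    F.IsLeftAdjoint ∧ F.IsRightAdjoint := by
  haveI : IsLocallyNoetherian Y := LocallyOfFiniteType.isLocallyNoetherian (Y ↘ Spec (CommRingCat.of k))
  haveI : CompactSpace Y := QuasiCompact.compactSpace_of_compactSpace (Y ↘ Spec (CommRingCat.of k))
  have hfinY : ∀ A B : (SGA6.perfP Y).FullSubcategory,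
      (∀ i : ℤ, Module.Finite k (A.obj ⟶ B.obj⟦i⟧)) ∧ Set.Finite {i : ℤ | Nontrivial (A.obj ⟶ B.obj⟦i⟧)} := fun A B => by
    obtain ⟨a, b, ha, hb⟩ := Groth.L29.CohSupp.exists_bounds_of_perfect B.property
    exact Groth.Agent.S6742.result k Y B.obj ⟨Groth.L29.CohSupp.isCohD_of_perfect B.property, a, b, ha, hb⟩ A.obj A.property
  let ι := (SGA6.perfP Y).ι
  let inn : ∀ A B : (SGA6.perfP Y).FullSubcategory, (A ⟶ B) ≃ₗ[k] (A.obj ⟶ B.obj) := fun A B =>
    LinearEquiv.ofBijective (ι.mapLinearMap k) ((Functor.FullyFaithful.ofFullyFaithful ι).map_bijective A B)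
  let cs : ∀ (A : (SGA6.perfP X).FullSubcategory) (n : ℤ), (F.obj (A⟦n⟧)).obj ≅ (F.obj A).obj⟦n⟧ := fun A n =>
    ι.mapIso ((F.commShiftIso n).app A) ≪≫ (ι.commShiftIso n).app (F.obj A)
  constructor
  · apply Functor.isLeftAdjoint_of_rightAdjointObjIsDefined_eq_top
    ext B
    simp only [Pi.top_apply, Prop.top_eq_true, iff_true]
    let H : ((SGA6.perfP X).FullSubcategory)ᵒᵖ ⥤ ModuleCat.{u + 1} k :=
      F.op ⋙ (linearYoneda k ((SGA6.perfP Y).FullSubcategory)).obj B
    obtain ⟨K, hK, ⟨e⟩⟩ := Groth.Agent.S6746.result k X hreg H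
      (fun A A' r f => by
        apply ModuleCat.hom_ext
        apply LinearMap.ext
        intro g
        show F.map (r • f) ≫ g = r • (F.map f ≫ g)
        rw [Functor.map_smul, Linear.smul_comp])
      (fun T hT h₁ h₂ h₃ y hy => by
        let a : (⟨T.obj₁, h₁⟩ : (SGA6.perfP X).FullSubcategory) ⟶ ⟨T.obj₂, h₂⟩ := ObjectProperty.homMk T.mor₁
        let b : (⟨T.obj₂, h₂⟩ : (SGA6.perfP X).FullSubcategory) ⟶ ⟨T.obj₃, h₃⟩ := ObjectProperty.homMk T.mor₂
        let c : (⟨T.obj₃, h₃⟩ : (SGA6.perfP X).FullSubcategory) ⟶ (⟨T.obj₁, h₁⟩ : (SGA6.perfP X).FullSubcategory)⟦(1 : ℤ)⟧ :=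
          ObjectProperty.homMk (T.mor₃ ≫ (((SGA6.perfP X).ι.commShiftIso (1 : ℤ)).app ⟨T.obj₁, h₁⟩).inv)
        have hT' : Pretriangulated.Triangle.mk a b c ∈ Pretriangulated.distinguishedTriangles := by
          rw [← (SGA6.perfP X).ι.map_distinguished_iff]
          refine Pretriangulated.isomorphic_distinguished _ hT _
            (Pretriangulated.Triangle.isoMk _ _ (Iso.refl _) (Iso.refl _) (Iso.refl _) ?_ ?_ ?_)
          · exact (Category.comp_id _).trans (Category.id_comp _).symm
          · exact (Category.comp_id _).trans (Category.id_comp _).symm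
          · erw [CategoryTheory.Functor.map_id]
            refine (Category.comp_id _).trans (Eq.trans ?_ (Category.id_comp _).symm)
            exact (Category.assoc _ _ _).trans
              ((congrArg (T.mor₃ ≫ ·) (((SGA6.perfP X).ι.commShiftIso (1 : ℤ)).app ⟨T.obj₁, h₁⟩).inv_hom_id).trans (Category.comp_id _))
        obtain ⟨z, hz⟩ := Pretriangulated.Triangle.yoneda_exact₂ _ (F.map_distinguished _ hT') y hy
        exact ⟨z, hz.symm⟩)
      (fun A => by
        let φ : ∀ n : ℤ, ((F.obj (A⟦n⟧)) ⟶ B) ≃ₗ[k] ((F.obj A).obj ⟶ B.obj⟦-n⟧) := fun n =>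
          (inn _ _).trans ((Linear.homCongr k (cs A n) (Iso.refl B.obj)).trans
            ((LinearEquiv.ofBijective ((shiftFunctor (DCoh.D Y) (-n)).mapLinearMap k :
                ((F.obj A).obj⟦n⟧ ⟶ B.obj) →ₗ[k] _) ((Functor.FullyFaithful.ofFullyFaithful _).map_bijective _ _)).trans
              (Linear.homCongr k ((shiftFunctorCompIsoId (DCoh.D Y) n (-n) (by omega)).app (F.obj A).obj) (Iso.refl _))))
        refine ⟨fun n => ?_, ((hfinY (F.obj A) B).2.image fun n => -n).subset fun n hn => ⟨-n, ?_, neg_neg n⟩⟩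
        · haveI := (hfinY (F.obj A) B).1 (-n)
          exact Module.Finite.equiv (φ n).symm
        · exact (φ n).toEquiv.nontrivial_congr.1 hn)
    let Kp : (SGA6.perfP X).FullSubcategory := ⟨K, hK⟩
    exact ⟨⟨Kp, ⟨{
      homEquiv := fun {A} => (Functor.FullyFaithful.ofFullyFaithful (SGA6.perfP X).ι).homEquiv.trans
        (e.app (Opposite.op A)).toLinearEquiv.symm.toEquiv
      homEquiv_comp := fun {A A'} f g => congrArg (fun w => (ConcreteCategory.hom w)
        ((SGA6.perfP X).ι.map g)) (e.inv.naturality f.op) }⟩⟩⟩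
  · apply Functor.isRightAdjoint_of_leftAdjointObjIsDefined_eq_top
    ext B
    simp only [Pi.top_apply, Prop.top_eq_true, iff_true]
    let G : (SGA6.perfP X).FullSubcategory ⥤ ModuleCat.{u + 1} k :=
      F ⋙ (linearCoyoneda k ((SGA6.perfP Y).FullSubcategory)).obj (Opposite.op B)
    haveI : G.Linear k := ⟨fun {A A'} f r => by
      apply ModuleCat.hom_ext
      apply LinearMap.ext
      intro g
      show g ≫ F.map (r • f) = r • (g ≫ F.map f)
      rw [Functor.map_smul, Linear.comp_smul]⟩
    haveI : G.IsHomological := Functor.IsHomological.mk' _ fun T hT => ⟨T, Iso.refl T, by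
      rw [ShortComplex.moduleCat_exact_iff]
      intro y hy
      obtain ⟨z, hz⟩ := Pretriangulated.Triangle.coyoneda_exact₂ _ (F.map_distinguished _ hT) y hy
      exact ⟨z, hz.symm⟩⟩
    obtain ⟨K, ⟨e⟩⟩ := Groth.Agent.S6747.result k X hreg G fun A => by
      let φ : ∀ n : ℤ, (B ⟶ F.obj (A⟦n⟧)) ≃ₗ[k] (B.obj ⟶ (F.obj A).obj⟦n⟧) := fun n =>
        (inn _ _).trans (Linear.homCongr k (Iso.refl B.obj) (cs A n))
      refine ⟨fun n => ?_, (hfinY B (F.obj A)).2.subset fun n hn => ?_⟩
      · haveI := (hfinY B (F.obj A)).1 n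
        exact Module.Finite.equiv (φ n).symm
      · exact (φ n).toEquiv.nontrivial_congr.1 hn
    exact ⟨⟨K, ⟨{
      homEquiv := fun {A} => (e.app A).toLinearEquiv.symm.toEquiv
      homEquiv_comp := fun {A A'} f g => congrArg (fun w => (ConcreteCategory.hom w) g) (e.inv.naturality f) }⟩⟩⟩

end Groth.Agent.S6748
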