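import Groth.Statements.S4270
import Groth.Agent.L20.ResAmple

set_option autoImplicit false
universe u
open CategoryTheory CategoryTheory.Limits AlgebraicGeometry
attribute [local instance] HasDerivedCategory.standard
open KSix

set_option backward.isDefEq.respectTransparency.types false

namespace Groth.Agent.S4270

/-- A scheme admitting an ample family of invertible modules has the resolution property: every
quasi-coherent module of finite type is a quotient of a finite locally free module. -/
theorem result (X : Scheme.{u}) (hX : MoreMor.HasAmpleFamily X) :
    PerfAux.HasResolutionProperty X := by
  haveI := hX.1
  refine Groth.L20.ResDescent.hasResolutionProperty_of_genLocus fun x => ?_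
  obtain ⟨L, n, s, hL, -, hx, hs⟩ := hX.2 x
  exact ⟨_, s, Groth.L18.Ample.isInvertible_tensorPow hL n, hx, hs⟩

end Groth.Agent.S4270
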