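import Groth.Statements.S0031
import Groth.Agent.L17.CohSections
import Groth.Agent.L17.CoverVanishing
import Groth.Agent.L21.Mod.Locality

set_option autoImplicit false
universe u
open Coherent

namespace Groth.Agent.S0031

open AlgebraicGeometry CategoryTheory in
/-- If f : X → S is quasi-compact and quasi-separated and S is quasi-compact, there is an integer n with
R^p f_* F = 0 for all p ≥ n and all quasi-coherent F (higher direct images of the underlying abelian
sheaves). -/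
theorem result {X S : Scheme.{u}} (f : X ⟶ S) [QuasiCompact f]
    [QuasiSeparated f] [CompactSpace S] :
    ∃ n : ℕ, ∀ (M : X.Modules), Coh.IsQCoh M → ∀ p : ℕ, n ≤ p →
      Limits.IsZero ((Coh.RpushAb f p).obj (Coh.toAb M)) := by
  classical
  have key : ∀ V : S.affineOpens, ∃ d : ℕ, ∀ (M : X.Modules), Coh.IsQCoh M → ∀ n : ℕ, d ≤ n →
      ∀ x : Groth.L17.HU (X := X.toTopCat) (f ⁻¹ᵁ V.1) (Coh.toAb M) n, x = 0 := by
    intro V
    haveI : CompactSpace (f ⁻¹ᵁ V.1 : Scheme.{u}) :=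
      isCompact_iff_compactSpace.1 (QuasiCompact.isCompact_preimage (f := f) _ V.1.2 V.2.isCompact)
    haveI : IsAffine (V.1 : Scheme.{u}) := V.2
    haveI : QuasiSeparatedSpace (f ⁻¹ᵁ V.1 : Scheme.{u}) := quasiSeparatedSpace_of_quasiSeparated (f ∣_ V.1)
    obtain ⟨d, hd⟩ := Groth.L17.exists_bound_qcqs (⊤ : (f ⁻¹ᵁ V.1).toScheme.Opens) CompactSpace.isCompact_univ
    refine ⟨d, fun M hM n hn x => ?_⟩
    obtain ⟨e⟩ := Groth.L17.nonempty_hu_image (f ⁻¹ᵁ V.1).ι (⊤ : (f ⁻¹ᵁ V.1).toScheme.Opens) (Coh.toAb M) n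
    rw [Scheme.Hom.image_top_eq_opensRange, Scheme.Opens.opensRange_ι] at e
    haveI : Coh.IsQCoh (M.restrict (f ⁻¹ᵁ V.1).ι) := Scheme.Modules.isQuasicoherent_restrictFunctor _ M
    exact e.map_eq_zero_iff.1 (hd (M.restrict (f ⁻¹ᵁ V.1).ι) n hn (e x))
  choose d hd using key
  obtain ⟨t, ht⟩ := isCompact_univ.elim_finite_subcover (fun V : S.affineOpens => (V.1 : Set S))
    (fun V => V.1.2) (fun x _ => by
      obtain ⟨_, ⟨V, hV, rfl⟩, hxV, -⟩ :=
        S.isBasis_affineOpens.exists_subset_of_mem_open (Set.mem_univ x) isOpen_univ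
      exact Set.mem_iUnion.2 ⟨⟨V, hV⟩, hxV⟩)
  refine ⟨t.sup d, fun M hM p hp => ?_⟩
  haveI := Groth.L17.PushQCoh.hasInjectiveResolutions X
  haveI := Groth.L17.PushQCoh.isQCoh_Rpush f M p
  obtain ⟨e⟩ := Groth.L17.nonempty_toAb_Rpush_iso f M p
  refine Limits.IsZero.of_iso ((Groth.L17.toAbShF S).map_isZero ?_) e.symm
  refine Groth.L21.Mod.isZero_of_restrict (fun i : t => i.1.2.fromSpec) (fun x => ?_) _ fun i => ?_
  · obtain ⟨V, hV, hxV⟩ := Set.mem_iUnion₂.1 (ht (Set.mem_univ x))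
    exact ⟨⟨V, hV⟩, (IsAffineOpen.opensRange_fromSpec (U := V.1) V.2).ge hxV⟩
  · haveI : Coh.IsQCoh (((Coh.Rpush f p).obj M).restrict i.1.2.fromSpec) :=
      Scheme.Modules.isQuasicoherent_restrictFunctor _ _
    have h : ∀ y : ((Coh.toAb ((Coh.Rpush f p).obj M)).obj.obj (Opposite.op i.1.1) : AddCommGrpCat.{u}), y = 0 :=
      fun y => by
        have h' := hd i.1 M hM p ((Finset.le_sup i.2).trans hp)
          ((Groth.L17.CohSections.equiv f i.1.2 M p).symm y)
        rw [← (Groth.L17.CohSections.equiv f i.1.2 M p).apply_symm_apply y, h', map_zero]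
    refine (((tilde.functor _).map_isZero ?_).of_iso (Groth.L18.TildeF.counitIso _).symm)
    refine @ModuleCat.isZero_of_subsingleton _ _ _ ?_
    refine subsingleton_of_forall_eq 0 fun y => ?_
    have e' : i.1.2.fromSpec ''ᵁ ⊤ = i.1.1 := by
      rw [Scheme.Hom.image_top_eq_opensRange, IsAffineOpen.opensRange_fromSpec]
    have : ∀ U : S.Opens, U = i.1.1 → ∀ z : ((Coh.toAb ((Coh.Rpush f p).obj M)).obj.obj (Opposite.op U) : AddCommGrpCat.{u}), z = 0 := by
      rintro U rfl; exact h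
    exact this _ e' y

end Groth.Agent.S0031
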