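import Groth.Statements.S0844
import Groth.Agent.L16.ProjSpace.CohTwist

set_option autoImplicit false
universe u
open Coherent

namespace Groth.Agent.S0844

open CategoryTheory AlgebraicGeometry in
/-- For a ring R, n ≥ 0, d ∈ ℤ and q ≥ 0, the group H^q(P^n_R, O(d)) is zero unless q = 0 and d ≥ 0, or
q = n and d ≤ -n-1. -/
theorem result (R : Type u) [CommRing R] (n : ℕ) (d : ℤ) (q : ℕ)
    (h₀ : ¬ (q = 0 ∧ 0 ≤ d)) (hn : ¬ (q = n ∧ d ≤ -((n : ℤ) + 1))) :
    Subsingleton (Coh.HH (CohB1.ProjSpace n R) (Twist.twistProjSpace n R d) q) := Groth.L16.ProjSpace.subsingleton_HH_twist n R d q h₀ hn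

end Groth.Agent.S0844
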