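import Groth.Statements.S16087
import Groth.Agent.L15.Ref.PrimeIdeal
-- import your own Groth.Agent.* helpers here

set_option autoImplicit false
universe u
open CategoryTheory CategoryTheory.Limits AlgebraicGeometry TopologicalSpace
open SDiv

namespace Groth.Agent.S16087

/-- The class map takes values in Weil divisor classes and is surjective: suppose X is a normal scheme
that is integral and locally Noetherian, and denote its generic point by η. For a rank one coherent
reflexive O_X-module F and a nonzero rational section s ∈ F_η write ord_{x,F}(s) for the order of s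
with respect to a generator of the free rank one O_{X,x}-module F_x at a point x of codimension 1.
Then (1) the function sending a codimension-1 point x to ord_{x,F}(s) and every other point to 0 has
locally finite support, so it is a Weil divisor; and (2) every Weil divisor D on X (an
integer-valued function with locally finite support vanishing outside the codimension-1 points)
arises this way: D(x) = ord_{x,F}(s) at all codimension-1 points x for some rank one coherent
reflexive F and nonzero s ∈ F_η. -/
theorem result (X : Scheme.{u}) [IsIntegral X] [IsLocallyNoetherian X]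
    (hX : Pi1.IsNormalScheme X) :
    (∀ (F : X.Modules) (hF : RefHull.IsRef1 F) (s : Cyc.secFibre F (genericPoint ↥X)), s ≠ 0 →
        ∃ D : AlgebraicCycle X ℤ, (∀ x : ↥X, Order.coheight x ≠ 1 → D x = 0) ∧
          ∀ (x : ↥X), Order.coheight x = 1 →
            D x = Cyc.secOrdAt F (genericPoint ↥X) x ((genericPoint_spec ↥X).specializes (Set.mem_univ x)) s) ∧
      ∀ D : AlgebraicCycle X ℤ, (∀ x : ↥X, Order.coheight x ≠ 1 → D x = 0) →
        ∃ (F : X.Modules) (_ : RefHull.IsRef1 F) (s : Cyc.secFibre F (genericPoint ↥X)), s ≠ 0 ∧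
          ∀ (x : ↥X), Order.coheight x = 1 →
            D x = Cyc.secOrdAt F (genericPoint ↥X) x ((genericPoint_spec ↥X).specializes (Set.mem_univ x)) s := by
  classical
  constructor
  · intro F hF s hs
    obtain ⟨s', rfl⟩ := Submodule.mkQ_surjective _ s
    have hs' : s' ≠ 0 := fun h => hs (by rw [h, map_zero])
    obtain ⟨e, he⟩ := Groth.L15.Ref.exists_gen_eta hF.2.2
    obtain ⟨W, m, hηW, hm⟩ := Groth.L15.Ref.exists_frame_generic hF.1
      (Groth.L15.Ref.isTorsionFree_stalk hF.1 hF.2.1) he
    obtain ⟨r, hr⟩ := Groth.L15.SecOrd.exists_smul_germ hm hηW s'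
    have hr0 : (r : X.functionField) ≠ 0 := fun h => hs' (by rw [← hr, show r = 0 from h, zero_smul])
    let k : CDiv.KUnits X := Units.mk0 (G₀ := X.functionField) r hr0
    let d : ↥X → ℤ := fun x => if Order.coheight x = 1 then
      Cyc.secOrdAt F (genericPoint ↥X) x ((genericPoint_spec ↥X).specializes (Set.mem_univ x)) (Submodule.mkQ _ s') else 0
    let Z : Set ↥X := (W : Set ↥X)ᶜ ∪ CDiv.supp (CDiv.div k)
    have hZ : IsClosed Z := W.2.isClosed_compl.union (Groth.L15.CDivLib.isClosed_supp _)
    have hηZ : genericPoint ↥X ∉ Z := fun h => h.elim (fun h => h hηW) (Groth.L15.CDivLib.supp_ne_genericPoint _)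
    have hd : ∀ x, d x ≠ 0 → Order.coheight x = 1 ∧ x ∈ Z := by
      intro x hx
      simp only [d] at hx
      split_ifs at hx with hc
      · refine ⟨hc, ?_⟩
        by_contra hxZ
        simp only [Z, Set.mem_union, Set.mem_compl_iff, not_or, not_not, SetLike.mem_coe] at hxZ
        refine hx ?_
        have hspan : Submodule.span (X.presheaf.stalk x) {F.presheaf.germ W x hxZ.1 m} = ⊤ :=
          Submodule.eq_top_iff'.2 fun v => Submodule.mem_span_singleton.2 (Groth.L15.SecOrd.exists_smul_germ hm hxZ.1 v)
        have htg : Groth.L15.Ref.toEta F x (F.presheaf.germ W x hxZ.1 m) = F.presheaf.germ W _ hηW m :=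
          Groth.L15.Ref.toEta_germ F hxZ.1 m
        have h1 : CDiv.germOf X x k = 1 := Classical.not_not.1 hxZ.2
        obtain ⟨a, hu, ha⟩ := Groth.L15.CDivLib.germOf_eq_one_iff.1 h1
        rw [← hr, ← htg, show Cyc.secOrdAt F _ x _ (Submodule.mkQ _ _) = _ from
          Groth.L15.Ref.secOrdAt_eq hF.2.2 hc _ hspan (by
            rw [htg]; intro h0; exact hs' (by rw [← hr, h0, smul_zero])) hr0]
        show Scheme.ord (k : X.functionField) x = 0
        rw [← ha]
        exact Groth.L15.CDivLib.ord_eq_zero_of_isUnit hu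
      · exact absurd rfl hx
    let D : AlgebraicCycle X ℤ :=
      { toFun := d
        supportWithinDomain' := fun _ _ => Set.mem_univ _
        supportLocallyFiniteWithinDomain' := fun x _ => by
          obtain ⟨V, hV, hxV, -⟩ := exists_isAffineOpen_mem_and_subset (x := x) (U := ⊤) trivial
          exact ⟨V, V.2.mem_nhds hxV, (Groth.L15.CDivLib.finite_coheight_one hV hZ hηZ).subset
            fun z hz => ⟨hz.1, (hd z hz.2).2, (hd z hz.2).1⟩⟩ }
    exact ⟨D, fun x hx => if_neg hx, fun x hx => if_pos hx⟩
  · intro D hD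
    have hfin : ∀ g : ℤ → ℤ, g 0 = 0 → ∃ E : AlgebraicCycle X ℤ, ∀ x, E x = g (D x) := fun g hg =>
      ⟨{ toFun := fun x => g (D x)
         supportWithinDomain' := fun _ _ => Set.mem_univ _
         supportLocallyFiniteWithinDomain' := fun x _ => by
          obtain ⟨t, ht, hf⟩ := D.supportLocallyFiniteWithinDomain' x trivial
          refine ⟨t, ht, hf.subset fun z hz => ⟨hz.1, fun h0 => hz.2 ?_⟩⟩
          show g (D z) = 0
          rw [show D z = 0 from h0, hg] }, fun x => rfl⟩
    obtain ⟨P, hP⟩ := hfin (fun n => max n 0) rfl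
    obtain ⟨N, hN⟩ := hfin (fun n => max (-n) 0) rfl
    obtain ⟨A, hA, hAd⟩ := Groth.L15.Ref.exists_ref1_hasDiv_effective P hX fun z _ => (hP z).symm ▸ le_max_right _ _
    obtain ⟨B, hB, hBd⟩ := Groth.L15.Ref.exists_ref1_hasDiv_effective N hX fun z _ => (hN z).symm ▸ le_max_right _ _
    have hB' := Groth.L15.Ref.isRef1_dual hB
    obtain ⟨s, hs, hsd⟩ := Groth.L15.Ref.hasDiv_refTensor hX hA hB' hAd (Groth.L15.Ref.hasDiv_dual hX hB hBd)
    refine ⟨_, Groth.L15.Ref.isRef1_refTensor hA hB', s, hs, fun x hx => ?_⟩
    rw [hsd x hx, Pi.add_apply, Pi.neg_apply, hP, hN]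
    omega

end Groth.Agent.S16087
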