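import Groth.Statements.S0590
import Groth.Agent.L19.Approx.FactorSystem

set_option autoImplicit false
set_option backward.isDefEq.respectTransparency.types false
set_option backward.isDefEq.respectTransparency false
set_option linter.style.haveILetI false
universe u
open CategoryTheory AlgebraicGeometry
open Lim

namespace Groth.Agent.S0590

/-- Every quasi-compact quasi-separated scheme is the limit of an inverse system, indexed by a nonempty
directed preorder, of quasi-compact schemes locally of finite type over the integers with affine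
transition morphisms. -/
theorem result (S : Scheme.{u}) [CompactSpace S] [QuasiSeparatedSpace S] :
    ∃ (I : Type u) (_ : Preorder I) (_ : IsDirected I (fun a b => a ≤ b)) (_ : Nonempty I)
      (D : Iᵒᵖ ⥤ Scheme.{u}) (c : Limits.Cone D) (_ : Limits.IsLimit c),
      (∀ (i j : Iᵒᵖ) (f : i ⟶ j), IsAffineHom (D.map f)) ∧
      (∀ i, CompactSpace (D.obj i) ∧
        LocallyOfFiniteType (Limits.IsTerminal.from specULiftZIsTerminal (D.obj i))) ∧
      Nonempty (c.pt ≅ S) := by
  haveI : QuasiSeparatedSpace (Spec (CommRingCat.of (ULift.{u} ℤ))) := inferInstance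
  obtain ⟨M, g, a, hg, hc, hq, ha, hag⟩ :=
    Groth.L19.Approx.affFactors (Limits.IsTerminal.from specULiftZIsTerminal S)
  have h : Groth.L19.Approx.Cofinal a ⊤ := fun {_} => Groth.L19.Approx.cofinal_top a
  refine ⟨Groth.L19.Approx.Idx a ⊤, inferInstance, Groth.L19.Approx.isDirected_idx h,
    Groth.L19.Approx.nonempty_idx h,
    CategoryTheory.Functor.comp (Groth.L19.Approx.system a ⊤) (CategoryTheory.Over.forget M),
    (CategoryTheory.Over.forget M).mapCone (Groth.L19.Approx.cone a ⊤),
    (Groth.L19.Approx.nonempty_isLimit_forget_cone a).some,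
    fun i j φ => Groth.L19.Approx.isAffineHom_system_map a ⊤ φ,
    fun i => ⟨Groth.L19.Approx.compactSpace_factorSystem a g i, ?_⟩, ⟨CategoryTheory.Iso.refl _⟩⟩
  haveI := Groth.L19.Approx.lfp_factorSystem a g i
  exact (specULiftZIsTerminal.hom_ext ((Groth.L19.Approx.factorSystem a g).obj i).hom
    (Limits.IsTerminal.from specULiftZIsTerminal _)) ▸
    (inferInstanceAs (LocallyOfFiniteType ((Groth.L19.Approx.factorSystem a g).obj i).hom))

end Groth.Agent.S0590
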