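import Groth.Statements.S7409
-- import your own Groth.Agent.* helpers here

import Groth.Agent.S7395
import Groth.Agent.S0590
import Groth.Agent.S0591
import Groth.Agent.S9190
import Groth.Agent.L16.Chow.Dense
import Groth.Agent.L02.An.Fib

set_option autoImplicit false
universe u
open CategoryTheory AlgebraicGeometry
open Lim

namespace Groth.Agent.S7409

/-- Chow's lemma for finite type morphisms over a quasi-compact quasi-separated base: let `S` be
quasi-compact and quasi-separated and `f : X → S` separated of finite type. Then for some `n` there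
are a scheme `X'`, a proper surjective `π : X' → X` and an immersion `X' → P^n_S` compatible with
the maps to `S`. -/
theorem result {X S : Scheme.{u}} (f : X ⟶ S) [CompactSpace S] [QuasiSeparatedSpace S]
    [IsSeparated f] [LocallyOfFiniteType f] [QuasiCompact f] :
    ∃ (n : ℕ) (X' : Scheme.{u}) (π : X' ⟶ X) (j : X' ⟶ CohB1.ProjSpaceOver n S),
      IsImmersion j ∧ j ≫ CohB1.ProjSpaceOver.toBase n S = π ≫ f ∧ IsProper π ∧ Surjective π := by
  obtain ⟨X₁, f', jc, hsep, hfp, hqc, hjc, hjf⟩ := Groth.Agent.S7395.result f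
  obtain ⟨I, _, _, _, D, c, hc, htr, hD, ⟨e⟩⟩ := Groth.Agent.S0590.result S
  haveI : ∀ i j (a : i ⟶ j), IsAffineHom (D.map a) := htr
  haveI : ∀ i, CompactSpace (D.obj i) := fun i => (hD i).1
  have hNloc : ∀ i, IsLocallyNoetherian (D.obj i) := fun i =>
    haveI := (hD i).2
    haveI : IsNoetherianRing (ULift.{u} ℤ) := isNoetherianRing_of_ringEquiv ℤ ULift.ringEquiv.symm
    LocallyOfFiniteType.isLocallyNoetherian (Limits.IsTerminal.from specULiftZIsTerminal (D.obj i))
  haveI : ∀ i, IsLocallyNoetherian (D.obj i) := hNloc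
  haveI : ∀ i, IsNoetherian (D.obj i) := fun i => {}
  obtain ⟨i, Xi, fi, g, hifp, hiqc, hiqs, hpb⟩ :=
    Groth.Agent.S0591.result D c hc X₁ (f' ≫ e.inv)
  haveI : CompactSpace Xi := QuasiCompact.compactSpace_of_compactSpace fi
  haveI : QuasiSeparatedSpace Xi := quasiSeparatedSpace_of_quasiSeparated fi
  haveI : IsSeparated (f' ≫ e.inv) := inferInstance
  have hid : IsPullback (c.π.app i) (𝟙 c.pt) (𝟙 (D.obj i)) (c.π.app i) :=
    IsPullback.id_vert _
  obtain ⟨k, φ, Xk, Yk, fk, gk, pY, pX, hY, hX, hks⟩ :=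
    Groth.Agent.S9190.result D c hc i fi (𝟙 (D.obj i)) (f' ≫ e.inv) (𝟙 c.pt) (c.π.app i) g hid hpb
  haveI : IsIso gk := hY.isIso_snd_of_isIso
  let fk' : Xk ⟶ D.obj k := fk ≫ gk
  have hk : IsPullback pX fk' fi (D.map φ) := by
    have := hX.paste_vert hY
    simpa only [Category.comp_id] using this
  haveI : LocallyOfFinitePresentation fk' := MorphismProperty.of_isPullback hk hifp
  haveI : QuasiCompact fk' := MorphismProperty.of_isPullback hk hiqc
  haveI : IsSeparated fk' := inferInstance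
  let v : S ⟶ D.obj k := e.inv ≫ c.π.app k
  have hv : IsPullback g f' fi (v ≫ D.map φ) := by
    refine hpb.of_iso (Iso.refl _) (Iso.refl _) e (Iso.refl _) (by simp) (by simp) (by simp) ?_
    simp [v, Limits.Cone.w]
  let gk' : X₁ ⟶ Xk := hk.lift g (f' ≫ v) (by rw [hv.w, ← Category.assoc])
  have hgk : IsPullback gk' f' fk' v :=
    IsPullback.of_right (by rw [hk.lift_fst]; exact hv) (hk.lift_snd _ _ _) hk
  obtain ⟨n, Z, π₀, j₀, hj₀, hjπ, hπp, hπs, -⟩ := Groth.L16.Chow.exists_chow_dense fk'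
  obtain ⟨m, hm⟩ := Groth.L02.An.isPullback_projSpaceOver v n
  let Z' := Limits.pullback gk' π₀
  let π₁ : Z' ⟶ X₁ := Limits.pullback.fst gk' π₀
  let q : Z' ⟶ Z := Limits.pullback.snd gk' π₀
  have hZ : IsPullback q (π₁ ≫ f') (π₀ ≫ fk') v :=
    (IsPullback.of_hasPullback gk' π₀).flip.paste_vert hgk
  let j₁ : Z' ⟶ CohB1.ProjSpaceOver n S :=
    hm.lift (q ≫ j₀) (π₁ ≫ f') (by rw [Category.assoc, hjπ]; exact hZ.w)
  have hj₁ : IsPullback q j₁ j₀ m := by
    refine IsPullback.of_bot ?_ (hm.lift_fst _ _ _).symm hm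
    rw [hm.lift_snd, hjπ]
    exact hZ
  haveI : IsImmersion j₁ := MorphismProperty.of_isPullback hj₁ hj₀
  haveI : IsProper π₁ := MorphismProperty.of_isPullback (IsPullback.of_hasPullback gk' π₀).flip hπp
  haveI : Surjective π₁ := MorphismProperty.of_isPullback (IsPullback.of_hasPullback gk' π₀).flip hπs
  refine ⟨n, Limits.pullback jc π₁, Limits.pullback.fst jc π₁,
    Limits.pullback.snd jc π₁ ≫ j₁, inferInstance, ?_, inferInstance, inferInstance⟩
  rw [Category.assoc, hm.lift_snd, ← hjf, Limits.pullback.condition_assoc]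

end Groth.Agent.S7409
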