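import Groth.Statements.S2116
import Groth.Agent.L07.RationalSmooth
import Groth.Agent.L21.Smooth.EtaleRegular
import Mathlib.RingTheory.RingHom.LocallyStandardSmooth
import Mathlib.RingTheory.Jacobson.Ring
import Mathlib.FieldTheory.IsAlgClosed.Basic

set_option autoImplicit false
universe u
open CAlg

namespace Groth.Agent.S2116

/-- Let `k` be algebraically closed, `S` of finite type over `k` and `𝔪` a maximal ideal of `S`. Then
the local ring `S_𝔪` is regular if and only if `S` is smooth over `k` at `𝔪`. -/
theorem result {k S : Type u} [Field k] [IsAlgClosed k] [CommRing S] [Algebra k S]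
    [Algebra.FiniteType k S] (m : Ideal S) [m.IsMaximal] :
    IsRegularLocalRing (Localization.AtPrime m) ↔ Algebra.IsSmoothAt k m := by
  haveI : IsNoetherianRing S := Algebra.FiniteType.isNoetherianRing k S
  haveI : Algebra.FinitePresentation k S := Algebra.FinitePresentation.of_finiteType.mp ‹_›
  constructor
  · intro h
    letI : Field (S ⧸ m) := Ideal.Quotient.field m
    haveI : Algebra.FiniteType k (S ⧸ m) :=
      Algebra.FiniteType.of_surjective (Ideal.Quotient.mkₐ k m) Ideal.Quotient.mk_surjective
    haveI : Module.Finite k (S ⧸ m) := finite_of_finite_type_of_isJacobsonRing k (S ⧸ m)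
    let e : k ≃ₐ[k] S ⧸ m :=
      AlgEquiv.ofBijective (Algebra.ofId k (S ⧸ m)) IsAlgClosed.algebraMap_bijective_of_isIntegral
    let χ : S →ₐ[k] k := e.symm.toAlgHom.comp (Ideal.Quotient.mkₐ k m)
    have hm : m = RingHom.ker χ := by
      ext x
      rw [RingHom.mem_ker]
      show x ∈ m ↔ e.symm (Ideal.Quotient.mk m x) = 0
      rw [map_eq_zero_iff _ e.symm.injective, Ideal.Quotient.eq_zero_iff_mem]
    exact Groth.L07.RationalSmooth.isSmoothAt_of_regular m χ hm
  · intro h
    obtain ⟨f, hf, hsm⟩ := Algebra.IsSmoothAt.exists_notMem_smooth (R := k) m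
    haveI := hsm
    obtain ⟨s, hs, hstd⟩ := Algebra.Smooth.exists_span_eq_top_isStandardSmooth k (Localization.Away f)
    have hcast : ∀ {T : Type u} [CommRing T] (I J : Ideal T) [I.IsPrime] [J.IsPrime], I = J →
        IsRegularLocalRing (Localization.AtPrime I) → IsRegularLocalRing (Localization.AtPrime J) := by
      intro T _ I J _ _ hIJ hI
      subst hIJ
      exact hI
    let q := m.map (algebraMap S (Localization.Away f))
    have hdisj : Disjoint (Submonoid.powers f : Set S) (m : Set S) := by
      rw [Set.disjoint_left]
      rintro _ ⟨i, rfl⟩ hi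
      exact hf (Ideal.IsPrime.mem_of_pow_mem inferInstance i hi)
    haveI hq : q.IsPrime :=
      IsLocalization.isPrime_of_isPrime_disjoint (Submonoid.powers f) _ m inferInstance hdisj
    obtain ⟨t, ht, htq⟩ : ∃ t ∈ s, t ∉ q := by
      by_contra! hcon
      exact hq.ne_top (top_le_iff.mp (hs ▸ Ideal.span_le.mpr hcon))
    let r := q.map (algebraMap (Localization.Away f) (Localization.Away t))
    have hdisj' : Disjoint (Submonoid.powers t : Set (Localization.Away f)) (q : Set (Localization.Away f)) := by
      rw [Set.disjoint_left]
      rintro _ ⟨i, rfl⟩ hi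
      exact htq (hq.mem_of_pow_mem i hi)
    haveI : r.IsPrime := IsLocalization.isPrime_of_isPrime_disjoint (Submonoid.powers t) _ q hq hdisj'
    haveI : IsRegularLocalRing (Localization.AtPrime r) :=
      Groth.L21.Smooth.regular_of_isStandardSmooth k (algebraMap k (Localization.Away t))
        (RingHom.isStandardSmooth_algebraMap.mpr (hstd t ht)) r
    have h1 : r.comap (algebraMap (Localization.Away f) (Localization.Away t)) = q :=
      IsLocalization.comap_map_of_isPrime_disjoint (Submonoid.powers t) _ hq hdisj'
    have h2 : q.comap (algebraMap S (Localization.Away f)) = m :=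
      IsLocalization.comap_map_of_isPrime_disjoint (Submonoid.powers f) _ inferInstance hdisj
    haveI : IsRegularLocalRing (Localization.AtPrime
        (r.comap (algebraMap (Localization.Away f) (Localization.Away t)))) :=
      IsRegularLocalRing.of_ringEquiv (R := Localization.AtPrime r)
        (IsLocalization.localizationLocalizationAtPrimeIsoLocalization (Submonoid.powers t) r).toRingEquiv.symm
    haveI : IsRegularLocalRing (Localization.AtPrime q) := hcast _ _ h1 ‹_›
    haveI : IsRegularLocalRing (Localization.AtPrime (q.comap (algebraMap S (Localization.Away f)))) :=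
      IsRegularLocalRing.of_ringEquiv (R := Localization.AtPrime q)
        (IsLocalization.localizationLocalizationAtPrimeIsoLocalization (Submonoid.powers f) q).toRingEquiv.symm
    exact hcast _ _ h2 ‹_›

end Groth.Agent.S2116
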