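import Groth.Statements.S9447
import Mathlib.RingTheory.Smooth.Basic
import Mathlib.RingTheory.Extension.Cotangent.BaseChange
import Mathlib.RingTheory.Kaehler.TensorProduct
import Mathlib.RingTheory.Flat.FaithfullyFlat.Basic
import Groth.Agent.L01.ProjDescent

set_option autoImplicit false
universe u
open CAlg

open TensorProduct

namespace Groth.Agent.S9447

open TensorProduct in
/-- Formal smoothness descends along faithfully flat base change: for R → S arbitrary and R → R'
faithfully flat, the R-algebra S is formally smooth exactly when the R'-algebra R' ⊗_R S is formally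
smooth. No finiteness hypothesis on S. -/
theorem result (R : Type u) [CommRing R]
    (S : Type u) [CommRing S] [Algebra R S] (R' : Type u) [CommRing R'] [Algebra R R']
    [Module.FaithfullyFlat R R'] :
    Algebra.FormallySmooth R S ↔ Algebra.FormallySmooth R' (R' ⊗[R] S) := by
  refine ⟨fun _ => inferInstance, fun h => ?_⟩
  letI : Algebra S (R' ⊗[R] S) := Algebra.TensorProduct.rightAlgebra
  haveI : Module.FaithfullyFlat S (R' ⊗[R] S) :=
    Module.FaithfullyFlat.of_linearEquiv _ _ (Algebra.TensorProduct.commRight R S R').toLinearEquiv.symm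
  have e := KaehlerDifferential.tensorKaehlerEquiv R R' S (R' ⊗[R] S)
  haveI : Module.Projective (R' ⊗[R] S) ((R' ⊗[R] S) ⊗[S] Ω[S⁄R]) := Module.Projective.of_equiv e.symm
  refine ⟨Groth.L01.ProjDescent.projective (R := S) (S := R' ⊗[R] S), ?_⟩
  haveI : Subsingleton (R' ⊗[R] Algebra.H1Cotangent R S) :=
    (Algebra.tensorH1CotangentOfFlat R S R').toEquiv.subsingleton
  exact (Module.FaithfullyFlat.subsingleton_tensorProduct_iff_right R R').mp inferInstance

end Groth.Agent.S9447
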