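import Groth.Statements.S18543
import Groth.Agent.L08.FinEtalePoints
import Mathlib.RingTheory.Etale.Field
import Mathlib.FieldTheory.IsAlgClosed.AlgebraicClosure
import Mathlib.LinearAlgebra.Dimension.Finite
import Mathlib.RingTheory.HopfAlgebra.Convolution
import Mathlib.RingTheory.HopfAlgebra.TensorProduct
import Mathlib.RingTheory.LocalRing.Basic
import Mathlib.Algebra.CharP.Lemmas

set_option autoImplicit false
universe u
open Hopf

namespace Groth.Agent.S18543

variable {_unused : Unit}

open WithConv
open scoped TensorProduct

theorem card_points_closure (p : ℕ) [Fact p.Prime] (k : Type u) [Field k] (K : Type u) [Field K] [Algebra k K] [IsAlgClosed K]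
    (A : Type u) [CommRing A] [HopfAlgebra k A] [Module.Finite k A] [Algebra.Etale k A] :
    Nat.card (WithConv (A →ₐ[k] K)) = Module.finrank k A := by
  haveI : Algebra.Etale K (K ⊗[k] A) := inferInstance
  haveI : IsReduced (K ⊗[k] A) := Algebra.FormallyUnramified.isReduced_of_field K _
  have h := Groth.L08.FinEtalePoints.card_points (k := K) (A := K ⊗[k] A)
  rw [Module.finrank_baseChange] at h
  rw [← h]
  refine Nat.card_congr ⟨fun f => toConv (Algebra.TensorProduct.lift (Algebra.ofId K K) f.ofConv fun _ _ => Commute.all _ _),
    fun g => toConv ((g.ofConv.restrictScalars k).comp Algebra.TensorProduct.includeRight), fun f => ?_, fun g => ?_⟩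
  · refine WithConv.ofConv_injective (AlgHom.ext fun a => ?_)
    simp
  · refine WithConv.ofConv_injective (Algebra.TensorProduct.ext' fun c a => ?_)
    show Algebra.ofId K K c * g.ofConv (1 ⊗ₜ[k] a) = g.ofConv (c ⊗ₜ[k] a)
    rw [show Algebra.ofId K K c = c from rfl, ← smul_eq_mul, ← map_smul, TensorProduct.smul_tmul', smul_eq_mul, mul_one]

theorem isLocalRing_D (p : ℕ) [Fact p.Prime]
    (k : Type u) [Field k] [CharP k p] (A : Type u) [CommRing A] [HopfAlgebra k A] [Coalgebra.IsCocomm k A]
    [Module.Finite k A] [Algebra.Etale k A] (n : ℕ) (hA : Module.finrank k A = p ^ n) :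
    IsLocalRing (CartDual.D k A) := by
  classical
  let K := AlgebraicClosure k
  have hcard := card_points_closure p k K A
  rw [hA] at hcard
  haveI : Finite (WithConv (A →ₐ[k] K)) := Nat.finite_of_card_ne_zero (by rw [hcard]; exact pow_ne_zero _ (Fact.out : p.Prime).ne_zero)
  letI := Fintype.ofFinite (WithConv (A →ₐ[k] K))
  let γ : WithConv (A →ₐ[k] K) → WithConv (A →ₗ[k] K) := fun g => toConv g.ofConv.toLinearMap
  have hli : LinearIndependent K γ := by
    have h0 : LinearIndependent K (fun g : A →ₐ[k] K => g.toLinearMap) := linearIndependent_toLinearMap k A K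
    have h1 := h0.comp WithConv.ofConv WithConv.ofConv_injective
    exact h1.map' (WithConv.linearEquiv K (A →ₗ[k] K)).symm.toLinearMap (LinearEquiv.ker _)
  have hfin : Module.finrank K (WithConv (A →ₗ[k] K)) = p ^ n := by
    rw [(WithConv.linearEquiv K (A →ₗ[k] K)).finrank_eq, Module.finrank_linearMap k K A K, hA, Module.finrank_self, mul_one]
  haveI : Module.Finite K (WithConv (A →ₗ[k] K)) := Module.finite_of_finrank_pos (by rw [hfin]; exact pow_pos (Fact.out : p.Prime).pos n)
  have hspan : Submodule.span K (Set.range γ) = ⊤ :=
    hli.span_eq_top_of_card_eq_finrank' (by rw [hfin, ← Nat.card_eq_fintype_card, hcard])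
  have hone : (1 : WithConv (A →ₗ[k] K)) 1 = 1 := by simp
  haveI : Nontrivial (WithConv (A →ₗ[k] K)) := ⟨⟨1, 0, fun h => by
    have := congrArg (fun f : WithConv (A →ₗ[k] K) => f 1) h
    rw [hone] at this
    exact one_ne_zero this⟩⟩
  haveI : CharP K p := charP_of_injective_algebraMap (algebraMap k K).injective p
  haveI : CharP (WithConv (A →ₗ[k] K)) p := charP_of_injective_algebraMap (algebraMap K _).injective p
  have hpow : ∀ y : WithConv (A →ₗ[k] K), y ^ p ^ n = algebraMap K _ ((y 1) ^ p ^ n) := by
    intro y
    obtain ⟨c, rfl⟩ := (Submodule.mem_span_range_iff_exists_fun K).1 (hspan.ge (Submodule.mem_top (x := y)))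
    rw [sum_pow_char_pow p n]
    have e1 : (∑ g, c g • γ g : WithConv (A →ₗ[k] K)) 1 = ∑ g, c g := by
      simp [γ]
    rw [e1, sum_pow_char_pow p n, map_sum]
    refine Finset.sum_congr rfl fun g _ => ?_
    have hg : γ g ^ p ^ n = 1 := by
      have h1 : g ^ p ^ n = 1 := by
        have h3 := map_pow (Groth.L25.OrderKills.postHom (A := A) g.ofConv) Groth.L25.OrderKills.idc (p ^ n)
        rw [← hA, Groth.L25.OrderKills.convPow_id_finrank k A, map_one] at h3
        rw [← hA]
        exact h3.symm
      have h2 := AlgHom.toLinearMap_convPow g (p ^ n)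
      rw [h1] at h2
      exact h2.symm.trans AlgHom.toLinearMap_convOne
    rw [smul_pow, hg, Algebra.algebraMap_eq_smul_one]
  let ι : CartDual.D k A →+* WithConv (A →ₗ[k] K) :=
    { toFun := fun x => toConv ((Algebra.ofId k K).toLinearMap.comp x.ofConv)
      map_one' := by
        refine WithConv.ofConv_injective (LinearMap.ext fun a => ?_)
        show algebraMap k K ((1 : CartDual.D k A) a) = (1 : WithConv (A →ₗ[k] K)) a
        simp
      map_mul' := fun x y => congrArg toConv (LinearMap.algHom_comp_convMul_distrib (Algebra.ofId k K) x y)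
      map_zero' := WithConv.ofConv_injective (LinearMap.ext fun a => by simp)
      map_add' := fun x y => WithConv.ofConv_injective (LinearMap.ext fun a => by simp) }
  haveI : Nontrivial (CartDual.D k A) := ⟨⟨1, 0, fun h => by
    have := congrArg ι h
    rw [map_one, map_zero] at this
    exact one_ne_zero this⟩⟩
  haveI : CharP (CartDual.D k A) p := charP_of_injective_algebraMap (algebraMap k _).injective p
  have hinj : Function.Injective ι := fun x y h => WithConv.ofConv_injective (LinearMap.ext fun a =>
    (algebraMap k K).injective (congrArg (fun f : WithConv (A →ₗ[k] K) => f a) h))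
  have hnil : ∀ x : CartDual.D k A, IsNilpotent (x - algebraMap k _ (x 1)) := by
    intro x
    refine ⟨p ^ n, ?_⟩
    rw [sub_pow_char_pow, sub_eq_zero]
    apply hinj
    rw [map_pow, hpow, ← map_pow (algebraMap k (CartDual.D k A))]
    refine WithConv.ofConv_injective (LinearMap.ext fun a => ?_)
    show (algebraMap K (WithConv (A →ₗ[k] K)) ((algebraMap k K (x 1)) ^ p ^ n)) a =
      algebraMap k K ((algebraMap k (CartDual.D k A) ((x 1) ^ p ^ n)) a)
    rw [LinearMap.convAlgebraMap_apply, LinearMap.convAlgebraMap_apply]
    simp
  refine IsLocalRing.of_isUnit_or_isUnit_one_sub_self fun x => ?_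
  have hnx := hnil x
  by_cases hx : x 1 = 0
  · rw [hx, map_zero, sub_zero] at hnx
    exact Or.inr hnx.isUnit_one_sub
  · have := hnx.isUnit_add_left_of_commute ((isUnit_iff_ne_zero.2 hx).map (algebraMap k (CartDual.D k A))) (Commute.all _ _)
    rw [add_sub_cancel] at this
    exact Or.inl this

open Hopf in

/-- Let p be a prime number, k a field of characteristic p and A a finite-dimensional commutative,
cocommutative Hopf algebra over k — the coordinate ring of a finite commutative group scheme G over
k — such that A is étale over k and dim_k A = p^n for some n (G is an étale group scheme of p-power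
order). Then the Cartier dual A^∨ = Hom_k(A, k), with its convolution ring structure, is a local
ring; that is, the Cartier dual group scheme G^∨ = Spec A^∨ is infinitesimal (its underlying space
is a single point). -/
theorem result (p : ℕ) [Fact p.Prime]
    (k : Type u) [Field k] [CharP k p] (A : Type u) [CommRing A] [HopfAlgebra k A] [Coalgebra.IsCocomm k A]
    [Module.Finite k A] [Algebra.Etale k A] (n : ℕ) (hA : Module.finrank k A = p ^ n) :
    IsLocalRing (CartDual.D k A) := by
  exact isLocalRing_D p k A n hA

end Groth.Agent.S18543
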