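import Groth.Statements.S13793
import Mathlib.Algebra.MonoidAlgebra.NoZeroDivisors
import Mathlib.Algebra.MonoidAlgebra.Basic
import Mathlib.RingTheory.Ideal.Quotient.Operations
import Mathlib.RingTheory.Nilpotent.Lemmas
import Mathlib.RingTheory.Nilpotent.Basic
import Mathlib.RingTheory.Noetherian.Nilpotent
import Mathlib.RingTheory.LocalRing.Basic
import Mathlib.LinearAlgebra.Matrix.Notation
import Mathlib.Tactic.LinearCombination
import Mathlib.Tactic.Abel
import Mathlib.Data.Matrix.Reflection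

set_option autoImplicit false
universe u
open CAlg

namespace Groth.Agent.S13793

open AddMonoidAlgebra in
theorem exists_single_of_isUnit {D : Type u} [CommRing D] [IsDomain D] {x : AddMonoidAlgebra D (Fin 2 → ℤ)}
    (hx : IsUnit x) : ∃ g a, a ≠ 0 ∧ x = AddMonoidAlgebra.single g a := by
  classical
  obtain ⟨y, hy⟩ := hx.exists_right_inv
  have hxs : x.coeff.support.Nonempty := Finsupp.support_nonempty_iff.mpr fun h => by
    have : x = 0 := by ext g; simp [h]
    rw [this, zero_mul] at hy; exact zero_ne_one hy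
  have hys : y.coeff.support.Nonempty := Finsupp.support_nonempty_iff.mpr fun h => by
    have : y = 0 := by ext g; simp [h]
    rw [this, mul_zero] at hy; exact zero_ne_one hy
  rcases Nat.lt_or_ge 1 x.coeff.support.card with hc | hc
  · exfalso
    obtain ⟨p, hp, q, hq, hne, hup, huq⟩ := TwoUniqueSums.uniqueAdd_of_one_lt_card
      (lt_of_lt_of_le hc (Nat.le_mul_of_pos_right _ hys.card_pos))
    have key : ∀ r ∈ x.coeff.support ×ˢ y.coeff.support,
        UniqueAdd x.coeff.support y.coeff.support r.1 r.2 → r.1 + r.2 = 0 := fun r hr hu => by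
      by_contra h
      have h1 := AddMonoidAlgebra.coeff_mul_add_of_uniqueAdd hu
      rw [hy, AddMonoidAlgebra.one_def, AddMonoidAlgebra.coeff_single, Finsupp.single_eq_of_ne h] at h1
      rw [Finset.mem_product, Finsupp.mem_support_iff, Finsupp.mem_support_iff] at hr
      exact mul_ne_zero hr.1 hr.2 h1.symm
    rw [Finset.mem_product] at hq
    have := hup hq.1 hq.2 ((key q (Finset.mem_product.mpr hq) huq).trans (key p hp hup).symm)
    exact hne (Prod.ext this.1.symm this.2.symm)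
  · obtain ⟨g, hg⟩ := Finset.card_eq_one.mp (le_antisymm hc hxs.card_pos)
    exact ⟨g, x.coeff g, (Finsupp.support_eq_singleton.mp hg).1, AddMonoidAlgebra.coeff_injective
      (by rw [AddMonoidAlgebra.coeff_single]; exact (Finsupp.support_eq_singleton.mp hg).2)⟩

section
variable {A : Type u} [CommRing A]

theorem mem_map_iff {M : Type*} [AddCommMonoid M] (J : Ideal A) (z : AddMonoidAlgebra A M) :
    z ∈ J.map (algebraMap A (AddMonoidAlgebra A M)) ↔ ∀ g, z.coeff g ∈ J := by
  constructor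
  · intro hz g
    have h : J.map (algebraMap A (AddMonoidAlgebra A M)) ≤
        RingHom.ker (AddMonoidAlgebra.mapRingHom M (Ideal.Quotient.mk J)) := by
      refine Ideal.map_le_iff_le_comap.mpr fun a ha => ?_
      rw [Ideal.mem_comap, RingHom.mem_ker]
      simp [Ideal.Quotient.eq_zero_iff_mem.mpr ha]
    have h2 := congrArg (fun w => w.coeff g) (h hz)
    simpa [Ideal.Quotient.eq_zero_iff_mem] using h2
  · intro h
    rw [← AddMonoidAlgebra.sum_coeff_single z]
    refine Submodule.sum_mem _ fun g _ => ?_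
    rw [show AddMonoidAlgebra.single g (z.coeff g) =
      algebraMap A (AddMonoidAlgebra A M) (z.coeff g) * AddMonoidAlgebra.single g 1 by simp]
    exact Ideal.mul_mem_right _ _ (Ideal.mem_map_of_mem _ (h g))

theorem map_mem {M N : Type*} [AddCommMonoid M] [AddCommMonoid N] (f : M →+ N) {J : Ideal A}
    {z : AddMonoidAlgebra A M} (hz : z ∈ J.map (algebraMap A (AddMonoidAlgebra A M))) :
    AddMonoidAlgebra.mapDomainRingHom A f z ∈ J.map (algebraMap A (AddMonoidAlgebra A N)) := by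
  have h := Ideal.mem_map_of_mem (AddMonoidAlgebra.mapDomainRingHom A f) hz
  rwa [Ideal.map_map, show (AddMonoidAlgebra.mapDomainRingHom A f).comp
    (algebraMap A (AddMonoidAlgebra A M)) = algebraMap A (AddMonoidAlgebra A N) by ext; simp] at h

theorem coeff_map_of_eq {M N : Type*} [AddCommMonoid M] [AddCommMonoid N] (f : M →+ N)
    (hf : Function.Injective f) (z : AddMonoidAlgebra A M) {g : M} {w : N} (h : f g = w) :
    (AddMonoidAlgebra.mapDomainRingHom A f z).coeff w = z.coeff g := by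
  subst h
  change Finsupp.mapDomain f z.coeff (f g) = _
  exact Finsupp.mapDomain_apply hf z.coeff g

theorem coeff_map_of_ne {M N : Type*} [AddCommMonoid M] [AddCommMonoid N] (f : M →+ N)
    (z : AddMonoidAlgebra A M) {w : N} (h : ∀ g, f g ≠ w) :
    (AddMonoidAlgebra.mapDomainRingHom A f z).coeff w = 0 := by
  change Finsupp.mapDomain f z.coeff w = _
  exact Finsupp.mapDomain_notin_range z.coeff w (by rintro ⟨g, hg⟩; exact h g hg)

/-- The four maps `ℤ² → ℤ³`. -/
noncomputable def F : Fin 4 → ((Fin 2 → ℤ) →+ (Fin 3 → ℤ)) :=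
  ![(Matrix.mulVecLin (!![0, 0; 1, 0; 0, 1] : Matrix (Fin 3) (Fin 2) ℤ)).toAddMonoidHom,
    (Matrix.mulVecLin (!![1, 0; 1, 0; 0, 1] : Matrix (Fin 3) (Fin 2) ℤ)).toAddMonoidHom,
    (Matrix.mulVecLin (!![1, 0; 0, 1; 0, 1] : Matrix (Fin 3) (Fin 2) ℤ)).toAddMonoidHom,
    (Matrix.mulVecLin (!![1, 0; 0, 1; 0, 0] : Matrix (Fin 3) (Fin 2) ℤ)).toAddMonoidHom]

/-- The three maps `ℤ → ℤ²`. -/
noncomputable def G : Fin 3 → ((Fin 1 → ℤ) →+ (Fin 2 → ℤ)) :=
  ![(Matrix.mulVecLin (!![0; 1] : Matrix (Fin 2) (Fin 1) ℤ)).toAddMonoidHom,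
    (Matrix.mulVecLin (!![1; 1] : Matrix (Fin 2) (Fin 1) ℤ)).toAddMonoidHom,
    (Matrix.mulVecLin (!![1; 0] : Matrix (Fin 2) (Fin 1) ℤ)).toAddMonoidHom]

theorem F_apply (g : Fin 2 → ℤ) :
    F 0 g = ![0, g 0, g 1] ∧ F 1 g = ![g 0, g 0, g 1] ∧ F 2 g = ![g 0, g 1, g 1] ∧ F 3 g = ![g 0, g 1, 0] := by
  refine ⟨?_, ?_, ?_, ?_⟩ <;>
  · funext i
    fin_cases i <;> simp [F, Matrix.mulVec, dotProduct, Fin.sum_univ_two]

theorem G_apply (g : Fin 1 → ℤ) : G 0 g = ![0, g 0] ∧ G 1 g = ![g 0, g 0] ∧ G 2 g = ![g 0, 0] := by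
  refine ⟨?_, ?_, ?_⟩ <;>
  · funext i
    fin_cases i <;> simp [G, Matrix.mulVec, dotProduct]

theorem F_injective : ∀ i, Function.Injective (F i) := by
  intro i g h hgh
  obtain ⟨a, b, c, d⟩ := F_apply g
  obtain ⟨a', b', c', d'⟩ := F_apply h
  fin_cases i <;> simp only [Fin.zero_eta, Fin.mk_one, Fin.reduceFinMk] at hgh
  all_goals
    first
      | rw [a, a'] at hgh | rw [b, b'] at hgh | rw [c, c'] at hgh | rw [d, d'] at hgh
    simp at hgh
    funext j
    fin_cases j <;> simp [hgh]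

theorem G_injective : ∀ i, Function.Injective (G i) := by
  intro i g h hgh
  obtain ⟨a, b, c⟩ := G_apply g
  obtain ⟨a', b', c'⟩ := G_apply h
  fin_cases i <;> simp only [Fin.zero_eta, Fin.mk_one, Fin.reduceFinMk] at hgh
  all_goals
    first
      | rw [a, a'] at hgh | rw [b, b'] at hgh | rw [c, c'] at hgh
    simp at hgh
    funext j
    fin_cases j
    simp [hgh]

/-- The additive cocycle lemma modulo an ideal. -/
theorem linear_step (J K : Ideal A) (x : AddMonoidAlgebra A (Fin 2 → ℤ))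
    (hx : x ∈ K.map (algebraMap A _))
    (h : AddMonoidAlgebra.mapDomainRingHom A (F 0) x - AddMonoidAlgebra.mapDomainRingHom A (F 1) x +
      AddMonoidAlgebra.mapDomainRingHom A (F 2) x - AddMonoidAlgebra.mapDomainRingHom A (F 3) x ∈
        J.map (algebraMap A _)) :
    ∃ y ∈ K.map (algebraMap A (AddMonoidAlgebra A (Fin 1 → ℤ))),
      x - (AddMonoidAlgebra.mapDomainRingHom A (G 0) y - AddMonoidAlgebra.mapDomainRingHom A (G 1) y +
        AddMonoidAlgebra.mapDomainRingHom A (G 2) y) ∈ J.map (algebraMap A _) := by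
  classical
  let φ : (Fin 1 → ℤ) → (Fin 2 → ℤ) := fun g => ![g 0, g 0]
  have hφ : Function.Injective φ := fun g g' hg => by
    funext j
    fin_cases j
    exact congrFun hg 0
  let y : AddMonoidAlgebra A (Fin 1 → ℤ) :=
    AddMonoidAlgebra.ofCoeff (- Finsupp.comapDomain φ x.coeff hφ.injOn) +
      AddMonoidAlgebra.single 0 (2 * x.coeff 0)
  have hy : ∀ g, y.coeff g = if g = 0 then x.coeff 0 else - x.coeff ![g 0, g 0] := fun g => by
    split_ifs with hg
    · subst hg
      have : φ 0 = 0 := by funext j; fin_cases j <;> simp [φ]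
      simp [y, Finsupp.comapDomain_apply, this]
      ring
    · simp [y, Finsupp.comapDomain_apply, Finsupp.single_eq_of_ne hg, φ]
  refine ⟨y, (mem_map_iff K y).mpr fun g => ?_, (mem_map_iff J _).mpr fun w => ?_⟩
  · rw [hy]
    split_ifs
    exacts [(mem_map_iff K x).mp hx _, neg_mem ((mem_map_iff K x).mp hx _)]
  have E := (mem_map_iff J _).mp h
  obtain ⟨a, b, rfl⟩ : ∃ a b, w = ![a, b] := ⟨w 0, w 1, by funext j; fin_cases j <;> rfl⟩
  simp only [AddMonoidAlgebra.coeff_sub, AddMonoidAlgebra.coeff_add, Finsupp.sub_apply, Finsupp.add_apply] at E ⊢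
  have hne : ∀ i p q r, (∀ g : Fin 2 → ℤ, F i g ≠ ![p, q, r]) →
      (AddMonoidAlgebra.mapDomainRingHom A (F i) x).coeff ![p, q, r] = 0 := fun i p q r hh =>
    coeff_map_of_ne _ _ hh
  by_cases ha : a = 0
  · subst ha
    by_cases hb : b = 0
    · subst hb
      have h00 : (![0, 0] : Fin 2 → ℤ) = 0 := by funext j; fin_cases j <;> rfl
      rw [coeff_map_of_eq (G 0) (G_injective 0) y (g := 0) (by rw [map_zero, h00]),
        coeff_map_of_eq (G 1) (G_injective 1) y (g := 0) (by rw [map_zero, h00]),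
        coeff_map_of_eq (G 2) (G_injective 2) y (g := 0) (by rw [map_zero, h00]), hy, if_pos rfl, h00]
      simp
    · have e := E ![0, b, b]
      rw [coeff_map_of_eq (F 0) (F_injective 0) x (g := ![b, b]) (by rw [(F_apply _).1]; simp),
        coeff_map_of_eq (F 2) (F_injective 2) x (g := ![0, b]) (by rw [(F_apply _).2.2.1]; simp),
        hne 1 0 b b (fun g hg => by rw [(F_apply g).2.1] at hg; simp at hg; omega),
        hne 3 0 b b (fun g hg => by rw [(F_apply g).2.2.2] at hg; simp at hg; omega)] at e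
      rw [coeff_map_of_eq (G 0) (G_injective 0) y (g := ![b]) (by rw [(G_apply _).1]; simp),
        coeff_map_of_ne (G 1) y (w := ![0, b]) (fun g hg => by rw [(G_apply g).2.1] at hg; simp at hg; omega),
        coeff_map_of_ne (G 2) y (w := ![0, b]) (fun g hg => by rw [(G_apply g).2.2] at hg; simp at hg; omega),
        hy, if_neg (fun h => hb (by simpa using congrFun h 0))]
      simpa [add_comm] using e
  · by_cases hb : b = 0
    · subst hb
      have e := E ![a, a, 0]
      rw [coeff_map_of_eq (F 1) (F_injective 1) x (g := ![a, 0]) (by rw [(F_apply _).2.1]; simp),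
        coeff_map_of_eq (F 3) (F_injective 3) x (g := ![a, a]) (by rw [(F_apply _).2.2.2]; simp),
        hne 0 a a 0 (fun g hg => by rw [(F_apply g).1] at hg; simp at hg; omega),
        hne 2 a a 0 (fun g hg => by rw [(F_apply g).2.2.1] at hg; simp at hg; omega)] at e
      rw [coeff_map_of_eq (G 2) (G_injective 2) y (g := ![a]) (by rw [(G_apply _).2.2]; simp),
        coeff_map_of_ne (G 0) y (w := ![a, 0]) (fun g hg => by rw [(G_apply g).1] at hg; simp at hg; omega),
        coeff_map_of_ne (G 1) y (w := ![a, 0]) (fun g hg => by rw [(G_apply g).2.1] at hg; simp at hg; omega),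
        hy, if_neg (fun h => ha (by simpa using congrFun h 0))]
      convert neg_mem e using 1
      simp
      ring
    · by_cases hab : a = b
      · subst hab
        rw [coeff_map_of_eq (G 1) (G_injective 1) y (g := ![a]) (by rw [(G_apply _).2.1]; simp),
          coeff_map_of_ne (G 0) y (w := ![a, a]) (fun g hg => by rw [(G_apply g).1] at hg; simp at hg; omega),
          coeff_map_of_ne (G 2) y (w := ![a, a]) (fun g hg => by rw [(G_apply g).2.2] at hg; simp at hg; omega),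
          hy, if_neg (fun h => ha (by simpa using congrFun h 0))]
        simp
      · have e := E ![a, a, b]
        rw [coeff_map_of_eq (F 1) (F_injective 1) x (g := ![a, b]) (by rw [(F_apply _).2.1]; simp),
          hne 0 a a b (fun g hg => by rw [(F_apply g).1] at hg; simp at hg; omega),
          hne 2 a a b (fun g hg => by rw [(F_apply g).2.2.1] at hg; simp at hg; omega),
          hne 3 a a b (fun g hg => by rw [(F_apply g).2.2.2] at hg; simp at hg; omega)] at e
        rw [coeff_map_of_ne (G 0) y (w := ![a, b]) (fun g hg => by rw [(G_apply g).1] at hg; simp at hg; omega),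
          coeff_map_of_ne (G 1) y (w := ![a, b]) (fun g hg => by rw [(G_apply g).2.1] at hg; simp at hg; omega),
          coeff_map_of_ne (G 2) y (w := ![a, b]) (fun g hg => by rw [(G_apply g).2.2] at hg; simp at hg; omega)]
        simpa using e

/-- The differential `C¹ → C²`. -/
noncomputable def dU (η : (AddMonoidAlgebra A (Fin 1 → ℤ))ˣ) : (AddMonoidAlgebra A (Fin 2 → ℤ))ˣ :=
  Units.map (AddMonoidAlgebra.mapDomainRingHom A (G 0)).toMonoidHom η *
    (Units.map (AddMonoidAlgebra.mapDomainRingHom A (G 1)).toMonoidHom η)⁻¹ *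
    Units.map (AddMonoidAlgebra.mapDomainRingHom A (G 2)).toMonoidHom η

theorem dU_mul (η η' : (AddMonoidAlgebra A (Fin 1 → ℤ))ˣ) : dU (η * η') = dU η * dU η' := by
  simp only [dU, map_mul, mul_inv]
  ac_rfl

/-- The cocycle condition. -/
def IsCocycle (ξ : (AddMonoidAlgebra A (Fin 2 → ℤ))ˣ) : Prop :=
  AddMonoidAlgebra.mapDomainRingHom A (F 0) ξ * AddMonoidAlgebra.mapDomainRingHom A (F 2) ξ =
    AddMonoidAlgebra.mapDomainRingHom A (F 1) ξ * AddMonoidAlgebra.mapDomainRingHom A (F 3) ξ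

theorem isCocycle_dU (η : (AddMonoidAlgebra A (Fin 1 → ℤ))ˣ) : IsCocycle (dU η) := by
  have key : ∀ i j k l, ((F i).comp (G j) : (Fin 1 → ℤ) →+ (Fin 3 → ℤ)) = (F k).comp (G l) →
      Units.map (AddMonoidAlgebra.mapDomainRingHom A (F i)).toMonoidHom
        (Units.map (AddMonoidAlgebra.mapDomainRingHom A (G j)).toMonoidHom η) =
      Units.map (AddMonoidAlgebra.mapDomainRingHom A (F k)).toMonoidHom
        (Units.map (AddMonoidAlgebra.mapDomainRingHom A (G l)).toMonoidHom η) := fun i j k l h => by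
    ext1
    simp only [Units.coe_map, RingHom.toMonoidHom_eq_coe, MonoidHom.coe_coe]
    rw [← RingHom.comp_apply, ← AddMonoidAlgebra.mapDomainRingHom_comp, h,
      AddMonoidAlgebra.mapDomainRingHom_comp, RingHom.comp_apply]
  have e00 := key 0 0 1 0 (AddMonoidHom.ext fun g => by rw [AddMonoidHom.comp_apply, AddMonoidHom.comp_apply]; simp [F_apply, G_apply])
  have e01 := key 0 1 2 0 (AddMonoidHom.ext fun g => by rw [AddMonoidHom.comp_apply, AddMonoidHom.comp_apply]; simp [F_apply, G_apply])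
  have e02 := key 0 2 3 0 (AddMonoidHom.ext fun g => by rw [AddMonoidHom.comp_apply, AddMonoidHom.comp_apply]; simp [F_apply, G_apply])
  have e11 := key 1 1 2 1 (AddMonoidHom.ext fun g => by rw [AddMonoidHom.comp_apply, AddMonoidHom.comp_apply]; simp [F_apply, G_apply])
  have e12 := key 1 2 3 1 (AddMonoidHom.ext fun g => by rw [AddMonoidHom.comp_apply, AddMonoidHom.comp_apply]; simp [F_apply, G_apply])
  have e22 := key 2 2 3 2 (AddMonoidHom.ext fun g => by rw [AddMonoidHom.comp_apply, AddMonoidHom.comp_apply]; simp [F_apply, G_apply])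
  have h : Units.map (AddMonoidAlgebra.mapDomainRingHom A (F 0)).toMonoidHom (dU η) *
      Units.map (AddMonoidAlgebra.mapDomainRingHom A (F 2)).toMonoidHom (dU η) =
    Units.map (AddMonoidAlgebra.mapDomainRingHom A (F 1)).toMonoidHom (dU η) *
      Units.map (AddMonoidAlgebra.mapDomainRingHom A (F 3)).toMonoidHom (dU η) := by
    simp only [dU, map_mul, map_inv, e00, e01, e02, e11, e12, e22]
    apply Additive.ofMul.injective
    simp only [ofMul_mul, ofMul_inv]
    abel
  exact congrArg Units.val h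

theorem isCocycle_mul_inv {ξ ζ : (AddMonoidAlgebra A (Fin 2 → ℤ))ˣ} (h : IsCocycle ξ) (h' : IsCocycle ζ) :
    IsCocycle (ξ * ζ⁻¹) := by
  have hz : AddMonoidAlgebra.mapDomainRingHom A (F 0) ↑ζ⁻¹ * AddMonoidAlgebra.mapDomainRingHom A (F 2) ↑ζ⁻¹ =
      AddMonoidAlgebra.mapDomainRingHom A (F 1) ↑ζ⁻¹ * AddMonoidAlgebra.mapDomainRingHom A (F 3) ↑ζ⁻¹ := by
    have hu : Units.map (AddMonoidAlgebra.mapDomainRingHom A (F 0)).toMonoidHom ζ *
        Units.map (AddMonoidAlgebra.mapDomainRingHom A (F 2)).toMonoidHom ζ =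
      Units.map (AddMonoidAlgebra.mapDomainRingHom A (F 1)).toMonoidHom ζ *
        Units.map (AddMonoidAlgebra.mapDomainRingHom A (F 3)).toMonoidHom ζ := Units.ext h'
    have hu' := congrArg (·⁻¹) hu
    simp only [mul_inv, ← map_inv] at hu'
    exact congrArg Units.val hu'
  unfold IsCocycle at h ⊢
  simp only [Units.val_mul, map_mul]
  rw [mul_mul_mul_comm, h, hz, mul_mul_mul_comm]

theorem one_add_isUnit {M : Type*} [AddCommMonoid M] {I : Ideal A} (hI : IsNilpotent I)
    {z : AddMonoidAlgebra A M} (hz : z ∈ I.map (algebraMap A _)) : IsUnit (1 + z) := by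
  obtain ⟨N, hN⟩ := hI
  rw [← sub_neg_eq_add]
  refine IsNilpotent.isUnit_one_sub (IsNilpotent.neg ⟨N, ?_⟩)
  have h := Ideal.pow_mem_pow hz N
  rwa [← Ideal.map_pow, hN, Ideal.zero_eq_bot, Ideal.map_bot, Ideal.mem_bot] at h

theorem step {I : Ideal A} (hI : IsNilpotent I) (k : ℕ) (ξ : (AddMonoidAlgebra A (Fin 2 → ℤ))ˣ)
    (hc : IsCocycle ξ) (hk : (ξ : AddMonoidAlgebra A (Fin 2 → ℤ)) - 1 ∈ (I ^ (k + 1)).map (algebraMap A _)) :
    ∃ η, ((ξ * (dU η)⁻¹ : (AddMonoidAlgebra A (Fin 2 → ℤ))ˣ) : AddMonoidAlgebra A (Fin 2 → ℤ)) - 1 ∈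
      (I ^ (k + 2)).map (algebraMap A _) := by
  set x := (ξ : AddMonoidAlgebra A (Fin 2 → ℤ)) - 1 with hx
  have hle : ∀ {M : Type} [AddCommMonoid M] (z w : AddMonoidAlgebra A M),
      z ∈ (I ^ (k + 1)).map (algebraMap A _) → w ∈ (I ^ (k + 1)).map (algebraMap A _) →
      z * w ∈ (I ^ (k + 2)).map (algebraMap A _) := fun z w hz hw => by
    have h := Ideal.mul_mem_mul hz hw
    rw [← Ideal.map_mul, ← pow_add] at h
    exact Ideal.map_mono (Ideal.pow_le_pow_right (by omega)) h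
  have hlin : AddMonoidAlgebra.mapDomainRingHom A (F 0) x - AddMonoidAlgebra.mapDomainRingHom A (F 1) x +
      AddMonoidAlgebra.mapDomainRingHom A (F 2) x - AddMonoidAlgebra.mapDomainRingHom A (F 3) x ∈
      (I ^ (k + 2)).map (algebraMap A _) := by
    unfold IsCocycle at hc
    rw [show (ξ : AddMonoidAlgebra A (Fin 2 → ℤ)) = 1 + x by rw [hx]; ring] at hc
    simp only [map_add, map_one] at hc
    have h2 := sub_mem (hle _ _ (map_mem (F 1) hk) (map_mem (F 3) hk)) (hle _ _ (map_mem (F 0) hk) (map_mem (F 2) hk))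
    convert h2 using 1
    linear_combination hc
  obtain ⟨y, hy, hy'⟩ := linear_step _ _ x hk hlin
  have hI' : IsNilpotent (I ^ (k + 1)) := hI.pow_succ k
  set η := (one_add_isUnit hI' hy).unit
  refine ⟨η, ?_⟩
  obtain ⟨a, ha, hav⟩ : ∃ a : (AddMonoidAlgebra A (Fin 2 → ℤ))ˣ, a = Units.map (AddMonoidAlgebra.mapDomainRingHom A (G 1)).toMonoidHom η ∧
      (a : AddMonoidAlgebra A (Fin 2 → ℤ)) = 1 + AddMonoidAlgebra.mapDomainRingHom A (G 1) y :=
    ⟨_, rfl, by simp [η, AddMonoidAlgebra.mapDomain_add]⟩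
  set g0 := AddMonoidAlgebra.mapDomainRingHom A (G 0) y with hg0
  set g1 := AddMonoidAlgebra.mapDomainRingHom A (G 1) y with hg1
  set g2 := AddMonoidAlgebra.mapDomainRingHom A (G 2) y with hg2
  set d := Units.map (AddMonoidAlgebra.mapDomainRingHom A (G 0)).toMonoidHom η *
    Units.map (AddMonoidAlgebra.mapDomainRingHom A (G 2)).toMonoidHom η with hd
  have hdv : (d : AddMonoidAlgebra A (Fin 2 → ℤ)) = (1 + g0) * (1 + g2) := by
    simp [hd, η, hg0, hg2, AddMonoidAlgebra.mapDomain_add]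
  have e : ξ * (dU η)⁻¹ = ξ * a * d⁻¹ := by
    rw [dU, ← ha, hd]
    simp only [mul_inv, inv_inv]
    ac_rfl
  have hm : ((ξ * a : (AddMonoidAlgebra A (Fin 2 → ℤ))ˣ) : AddMonoidAlgebra A (Fin 2 → ℤ)) - d ∈
      (I ^ (k + 2)).map (algebraMap A _) := by
    rw [Units.val_mul, hav, hdv, show (ξ : AddMonoidAlgebra A (Fin 2 → ℤ)) = 1 + x by rw [hx]; ring,
      show (1 + x) * (1 + g1) - (1 + g0) * (1 + g2) = (x - (g0 - g1 + g2)) + (x * g1 - g0 * g2) by ring]
    exact add_mem hy' (sub_mem (hle _ _ hk (map_mem _ hy)) (hle _ _ (map_mem _ hy) (map_mem _ hy)))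
  rw [e, Units.val_mul]
  have := Ideal.mul_mem_right (↑d⁻¹ : AddMonoidAlgebra A (Fin 2 → ℤ)) _ hm
  rwa [sub_mul, Units.mul_inv] at this

theorem unipotent {I : Ideal A} (hI : IsNilpotent I) (ξ : (AddMonoidAlgebra A (Fin 2 → ℤ))ˣ)
    (hc : IsCocycle ξ) (hk : (ξ : AddMonoidAlgebra A (Fin 2 → ℤ)) - 1 ∈ I.map (algebraMap A _)) :
    ∃ η, ξ = dU η := by
  obtain ⟨N, hN⟩ := hI
  have h : ∀ k, ∃ η, ((ξ * (dU η)⁻¹ : (AddMonoidAlgebra A (Fin 2 → ℤ))ˣ) : AddMonoidAlgebra A (Fin 2 → ℤ)) - 1 ∈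
      (I ^ (k + 1)).map (algebraMap A _) := by
    intro k
    induction k with
    | zero => exact ⟨1, by simpa [dU] using hk⟩
    | succ k ih =>
      obtain ⟨η, hη⟩ := ih
      obtain ⟨η', hη'⟩ := step ⟨N, hN⟩ k _ (isCocycle_mul_inv hc (isCocycle_dU η)) hη
      refine ⟨η * η', ?_⟩
      rwa [dU_mul, mul_inv, ← mul_assoc]
  obtain ⟨η, hη⟩ := h N
  rw [pow_succ, hN, zero_mul, Ideal.zero_eq_bot, Ideal.map_bot, Ideal.mem_bot, sub_eq_zero] at hη
  exact ⟨η, mul_inv_eq_one.mp (Units.ext hη)⟩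

theorem mem_nilradical_of_ne_zero (ξ : (AddMonoidAlgebra A (Fin 2 → ℤ))ˣ) (hc : IsCocycle ξ)
    (g : Fin 2 → ℤ) (hg : g ≠ 0) : (ξ : AddMonoidAlgebra A (Fin 2 → ℤ)).coeff g ∈ nilradical A := by
  rw [nilradical_eq_sInf, Ideal.mem_sInf]
  intro P (hP : P.IsPrime)
  let π {M : Type} [AddCommMonoid M] := AddMonoidAlgebra.mapRingHom (R := A) M (Ideal.Quotient.mk P)
  obtain ⟨g', a, ha, hx⟩ := exists_single_of_isUnit (ξ.isUnit.map (π (M := Fin 2 → ℤ)))
  have hcomm : ∀ i, π (AddMonoidAlgebra.mapDomainRingHom A (F i) ξ) = AddMonoidAlgebra.single (F i g') a := fun i => by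
    change ((AddMonoidAlgebra.mapRingHom _ (Ideal.Quotient.mk P)).comp (AddMonoidAlgebra.mapDomainRingHom A (F i))) _ = _
    rw [AddMonoidAlgebra.mapRingHom_comp_mapDomainRingHom, RingHom.comp_apply]
    change AddMonoidAlgebra.mapDomainRingHom _ (F i) (π (ξ : AddMonoidAlgebra A (Fin 2 → ℤ))) = _
    rw [hx]
    simp
  have h := congrArg π hc
  rw [map_mul, map_mul, hcomm, hcomm, hcomm, hcomm, AddMonoidAlgebra.single_mul_single,
    AddMonoidAlgebra.single_mul_single] at h
  have h' := congrArg AddMonoidAlgebra.coeff h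
  rw [AddMonoidAlgebra.coeff_single, AddMonoidAlgebra.coeff_single] at h'
  have h'' := (Finsupp.single_left_inj (mul_ne_zero ha ha)).mp h'
  obtain ⟨f0, f1, f2, f3⟩ := F_apply g'
  rw [f0, f1, f2, f3] at h''
  have hg' : g' = 0 := by
    have h0 := congrFun h'' 0
    have h2 := congrFun h'' 2
    simp at h0 h2
    funext j
    fin_cases j <;> simp <;> omega
  have h1 := congrArg (fun z => z.coeff g) hx
  simp [π, hg', Finsupp.single_eq_of_ne hg] at h1
  exact Ideal.Quotient.eq_zero_iff_mem.mp h1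

theorem main (ξ : (AddMonoidAlgebra A (Fin 2 → ℤ))ˣ) (hc : IsCocycle ξ) : ∃ η, ξ = dU η := by
  classical
  let x : AddMonoidAlgebra A (Fin 2 → ℤ) := ξ
  have hnil := mem_nilradical_of_ne_zero ξ hc
  have hu : IsUnit (x.coeff 0) := by
    rw [← not_not (a := IsUnit _), ← mem_nonunits_iff]
    intro hn
    obtain ⟨m, hm, hxm⟩ := exists_max_ideal_of_mem_nonunits hn
    have hall : x ∈ m.map (algebraMap A _) := (mem_map_iff m x).mpr fun g => by
      rcases eq_or_ne g 0 with rfl | hg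
      · exact hxm
      · exact (nilradical_le_prime m) (hnil g hg)
    have htop := Ideal.eq_top_of_isUnit_mem _ hall ξ.isUnit
    have h1 := (mem_map_iff m (1 : AddMonoidAlgebra A (Fin 2 → ℤ))).mp (htop ▸ Submodule.mem_top) 0
    rw [AddMonoidAlgebra.one_def, AddMonoidAlgebra.coeff_single, Finsupp.single_eq_same] at h1
    exact hm.ne_top ((Ideal.eq_top_iff_one m).mpr h1)
  let c : (AddMonoidAlgebra A (Fin 2 → ℤ))ˣ := Units.map (algebraMap A _).toMonoidHom hu.unit
  let c1 : (AddMonoidAlgebra A (Fin 1 → ℤ))ˣ := Units.map (algebraMap A _).toMonoidHom hu.unit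
  have hcc : dU c1 = c := by
    have : ∀ j, Units.map (AddMonoidAlgebra.mapDomainRingHom A (G j)).toMonoidHom c1 = c := fun j => by
      ext1; simp [c, c1]
    unfold dU
    rw [this 0, this 1, this 2, mul_inv_cancel, one_mul]
  have hc' : IsCocycle (ξ * c⁻¹) := isCocycle_mul_inv hc (hcc ▸ isCocycle_dU c1)
  set z := ((ξ * c⁻¹ : (AddMonoidAlgebra A (Fin 2 → ℤ))ˣ) : AddMonoidAlgebra A (Fin 2 → ℤ)) - 1 with hz
  let I : Ideal A := Ideal.span (z.coeff.support.image z.coeff)
  have hmem : z ∈ (nilradical A).map (algebraMap A _) := by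
    have h1 : x - c ∈ (nilradical A).map (algebraMap A _) := (mem_map_iff _ _).mpr fun g => by
      rcases eq_or_ne g 0 with rfl | hg
      · simp [x, c]
      · simpa [x, c, Finsupp.single_eq_of_ne hg] using hnil g hg
    have := Ideal.mul_mem_right (↑c⁻¹ : AddMonoidAlgebra A (Fin 2 → ℤ)) _ h1
    rwa [sub_mul, Units.mul_inv, ← Units.val_mul, ← hz] at this
  have hI : IsNilpotent I := by
    refine (Ideal.FG.isNilpotent_iff_le_nilradical ⟨_, rfl⟩).mpr (Ideal.span_le.mpr fun a ha => ?_)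
    obtain ⟨g, -, rfl⟩ := Finset.mem_image.mp ha
    exact (mem_map_iff _ _).mp hmem g
  obtain ⟨η, hη⟩ := unipotent hI _ hc' ((mem_map_iff I z).mpr fun g => by
    by_cases hg : g ∈ z.coeff.support
    · exact Ideal.subset_span (Finset.mem_image_of_mem _ hg)
    · rw [Finsupp.notMem_support_iff.mp hg]; exact zero_mem _)
  exact ⟨η * c1, by rw [dU_mul, hcc, ← hη, inv_mul_cancel_right]⟩

end


/-- For any commutative ring A, the second cohomology of the complex of unit groups A[t₁^±]ˣ → A[t₁^±,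
t₂^±]ˣ → A[t₁^±, t₂^±, t₃^±]ˣ → ⋯ attached to the cosimplicial ring of Laurent polynomial rings
(coface maps (t₁, t₂) ↦ (t₂, t₃), (t₁t₂, t₃), (t₁, t₂t₃), (t₁, t₂) and t₁ ↦ t₂, t₁t₂, t₁) vanishes:
every unit ξ of A[t₁^±, t₂^±] with ξ(t₂,t₃) ξ(t₁t₂,t₃)⁻¹ ξ(t₁,t₂t₃) ξ(t₁,t₂)⁻¹ = 1 is of the form
η(t₂) η(t₁t₂)⁻¹ η(t₁) for a unit η of A[t^±]. Laurent polynomial rings are written as group algebras
of ℤ^p and the coface maps as the maps induced by the corresponding additive maps ℤ^p → ℤ^(p+1). -/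
theorem result (A : Type u) [CommRing A] (ξ : (AddMonoidAlgebra A (Fin 2 → ℤ))ˣ)
    (hξ : Units.map (AddMonoidAlgebra.mapDomainRingHom A
          (Matrix.mulVecLin (!![0, 0; 1, 0; 0, 1] : Matrix (Fin 3) (Fin 2) ℤ)).toAddMonoidHom).toMonoidHom ξ *
        (Units.map (AddMonoidAlgebra.mapDomainRingHom A
          (Matrix.mulVecLin (!![1, 0; 1, 0; 0, 1] : Matrix (Fin 3) (Fin 2) ℤ)).toAddMonoidHom).toMonoidHom ξ)⁻¹ *
        Units.map (AddMonoidAlgebra.mapDomainRingHom A
          (Matrix.mulVecLin (!![1, 0; 0, 1; 0, 1] : Matrix (Fin 3) (Fin 2) ℤ)).toAddMonoidHom).toMonoidHom ξ *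
        (Units.map (AddMonoidAlgebra.mapDomainRingHom A
          (Matrix.mulVecLin (!![1, 0; 0, 1; 0, 0] : Matrix (Fin 3) (Fin 2) ℤ)).toAddMonoidHom).toMonoidHom ξ)⁻¹ = 1) :
    ∃ η : (AddMonoidAlgebra A (Fin 1 → ℤ))ˣ,
      ξ = Units.map (AddMonoidAlgebra.mapDomainRingHom A
          (Matrix.mulVecLin (!![0; 1] : Matrix (Fin 2) (Fin 1) ℤ)).toAddMonoidHom).toMonoidHom η *
        (Units.map (AddMonoidAlgebra.mapDomainRingHom A
          (Matrix.mulVecLin (!![1; 1] : Matrix (Fin 2) (Fin 1) ℤ)).toAddMonoidHom).toMonoidHom η)⁻¹ *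
        Units.map (AddMonoidAlgebra.mapDomainRingHom A
          (Matrix.mulVecLin (!![1; 0] : Matrix (Fin 2) (Fin 1) ℤ)).toAddMonoidHom).toMonoidHom η := by
  refine main ξ ?_
  have h := congrArg Units.val hξ
  have h2 : Units.map (AddMonoidAlgebra.mapDomainRingHom A (F 0)).toMonoidHom ξ *
      Units.map (AddMonoidAlgebra.mapDomainRingHom A (F 2)).toMonoidHom ξ =
    Units.map (AddMonoidAlgebra.mapDomainRingHom A (F 1)).toMonoidHom ξ *
      Units.map (AddMonoidAlgebra.mapDomainRingHom A (F 3)).toMonoidHom ξ := by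
    rw [← mul_inv_eq_one, mul_inv]
    refine Eq.trans ?_ hξ
    simp only [F, Matrix.cons_val_zero, Matrix.cons_val_one, Matrix.cons_val]
    ac_rfl
  exact congrArg Units.val h2

end Groth.Agent.S13793
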