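import Groth.Agent.L18.ValCrit2
import Groth.Statements.S4450
-- import your own Groth.Agent.* helpers here

set_option autoImplicit false
universe u
open CategoryTheory CategoryTheory.Limits AlgebraicGeometry
open EGA2

namespace Groth.Agent.S4450

/-- Let Y be a locally Noetherian scheme, p : X ⟶ Y a morphism locally of finite type, x a point of X, y
= p(x) and y' a specialization of y distinct from y. Then there are a discrete valuation ring A with
field of fractions the residue field k(x) and a morphism Spec A ⟶ Y mapping the closed point to y'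
and restricting on Spec k(x) to the canonical morphism Spec k(x) ⟶ X ⟶ Y (so the generic point goes
to y, and the rational map from Spec A to X so defined induces the identity of k(x)). -/
theorem result {X Y : Scheme.{u}} [IsLocallyNoetherian Y]
    (p : X ⟶ Y) [LocallyOfFiniteType p] (x : X) (y' : Y) (hsp : p.base x ⤳ y') (hne : y' ≠ p.base x) :
    ∃ (A : ValuationSubring (X.residueField x)) (h : Spec (CommRingCat.of A) ⟶ Y), IsDiscreteValuationRing A ∧
      h.base (IsLocalRing.closedPoint A) = y' ∧
      Spec.map (CommRingCat.ofHom A.subtype) ≫ h = X.fromSpecResidueField x ≫ p := by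
  classical
  set ψ := Y.presheaf.stalkSpecializes hsp ≫ p.stalkMap x ≫ X.residue x with hψ
  obtain ⟨_, ⟨W, hW, rfl⟩, hyW, -⟩ :=
    Y.isBasis_affineOpens.exists_subset_of_mem_open (Set.mem_univ y') isOpen_univ
  replace hW : IsAffineOpen W := hW
  have hxW : x ∈ p ⁻¹ᵁ W := hsp.mem_open W.2 hyW
  obtain ⟨_, ⟨U, hU, rfl⟩, hxU, hUW⟩ :=
    X.isBasis_affineOpens.exists_subset_of_mem_open hxW (p ⁻¹ᵁ W).2
  replace hU : IsAffineOpen U := hU
  obtain ⟨t, ht, hgen⟩ := Groth.L18.exists_finite_generating p hU hxU hW hUW
  let _ : Algebra (Y.presheaf.stalk y') (X.residueField x) := ψ.hom.toAlgebra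
  have heq : Y.presheaf.germ W y' hyW ≫ ψ = p.appLE W U hUW ≫ X.evaluation U x hxU := by
    rw [hψ, TopCat.Presheaf.germ_stalkSpecializes_assoc, Scheme.Hom.germ_stalkMap_assoc,
      Scheme.Hom.appLE, Category.assoc, ← Scheme.germ_residue (X := X) x hxU,
      TopCat.Presheaf.germ_res_assoc]
  have hgen' : Subfield.closure
      (Set.range (algebraMap (Y.presheaf.stalk y') (X.residueField x)) ∪ t) = ⊤ := by
    refine top_unique (hgen.ge.trans (Subfield.closure_mono (Set.union_subset_union_left _ ?_)))
    rintro _ ⟨a, rfl⟩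
    exact ⟨Y.presheaf.germ W y' hyW a, congr($heq a)⟩
  obtain ⟨A, hA, hmem, hlt⟩ := Groth.L18.exists_isDiscreteValuationRing_dominating ht hgen'
    (Groth.L18.ker_toResidueField_ne hsp hne)
  let φ : Y.presheaf.stalk y' →+* A := ψ.hom.codRestrict A.toSubring hmem
  have : IsLocalHom φ := ⟨fun a ha => by_contra fun hu =>
    (A.valuation_lt_one_iff (φ a)).mpr (hlt a hu) ha⟩
  refine ⟨A, Spec.map (CommRingCat.ofHom φ) ≫ Y.fromSpecStalk y', hA, ?_, ?_⟩
  · rw [Groth.L18.apply_closedPoint_of_isLocalHom]
    exact Y.fromSpecStalk_closedPoint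
  · rw [Scheme.fromSpecResidueField, Category.assoc, ← Scheme.SpecMap_stalkMap_fromSpecStalk,
      ← Scheme.SpecMap_stalkSpecializes_fromSpecStalk hsp]
    simp only [← Spec.map_comp_assoc]
    rfl

end Groth.Agent.S4450
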