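import Groth.Statements.S0797
import Mathlib.RingTheory.AdicCompletion.Basic
import Mathlib.Algebra.BigOperators.Pi
import Mathlib.LinearAlgebra.Pi
import Mathlib.RingTheory.Finiteness.Basic

set_option autoImplicit false
universe u
open Formal2

namespace Groth.Agent.S0797

theorem mem_pow_smul_top_pi {A : Type u} [CommRing A] (J : Ideal A) {k : ℕ} (x : Fin k → A) :
    x ∈ J • (⊤ : Submodule A (Fin k → A)) ↔ ∀ i, x i ∈ J := by
  classical
  constructor
  · intro hx i
    refine Submodule.smul_induction_on hx (fun r hr y _ => ?_) (fun a b ha hb => J.add_mem ha hb)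
    exact J.mul_mem_right _ hr
  · intro h
    rw [← Finset.univ_sum_single x]
    refine Submodule.sum_mem _ fun i _ => ?_
    rw [show (Pi.single i (x i) : Fin k → A) = x i • Pi.single i 1 by
      rw [← Pi.single_smul, smul_eq_mul, mul_one]]
    exact Submodule.smul_mem_smul (h i) trivial

theorem exists_limit {A : Type u} [CommRing A] (I : Ideal A) [IsAdicComplete I A] {k : ℕ}
    (a : ℕ → Fin k → A)
    (ha : ∀ m, a (m + 1) - a m ∈ I ^ (m + 1) • (⊤ : Submodule A (Fin k → A))) :
    ∃ c : Fin k → A, ∀ m, c - a m ∈ I ^ (m + 1) • (⊤ : Submodule A (Fin k → A)) := by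
  simp only [mem_pow_smul_top_pi] at ha ⊢
  have H : ∀ i, ∃ L : A, ∀ m, L - a m i ∈ I ^ (m + 1) := by
    intro i
    have hle : ∀ m d, a (m + d) i - a m i ∈ I ^ (m + 1) := by
      intro m d
      induction d with
      | zero => simp
      | succ d ih =>
        have h1 : I ^ (m + d + 1) ≤ I ^ (m + 1) := Ideal.pow_le_pow_right (by omega)
        have := Ideal.add_mem _ (h1 (ha (m + d) i)) ih
        simpa [← add_assoc] using this
    obtain ⟨L, hL⟩ := IsPrecomplete.prec' (I := I) (fun m => a m i) (fun {m n} hmn => by
      obtain ⟨d, rfl⟩ := Nat.exists_eq_add_of_le hmn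
      rw [SModEq.sub_mem, smul_eq_mul, Ideal.mul_top, ← neg_sub]
      exact neg_mem (Ideal.pow_le_pow_right (by omega) (hle m d)))
    refine ⟨L, fun m => ?_⟩
    have h2 := hL (m + 1)
    rw [SModEq.sub_mem, smul_eq_mul, Ideal.mul_top] at h2
    have := Ideal.sub_mem _ (ha m i) h2
    simpa using this
  choose L hL using H
  exact ⟨L, fun m i => hL i m⟩

/-- The module-theoretic heart, over a base that is already complete (so that the completion of A is A).
Let A be Noetherian and I-adically complete, and let (M_n, f_n : M_{n+1} → M_n) be an inverse system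
of finite A-modules with M_n annihilated by I^(n+1) and f_n surjective with kernel I^(n+1) M_{n+1}
(indices shifted by one). Then the A-module of compatible sequences is finitely generated, each
projection to M_n is surjective, and its kernel is I^(n+1) times the module of compatible sequences. -/
theorem result (A : Type u) [CommRing A] [IsNoetherianRing A] (I : Ideal A)
    [IsAdicComplete I A] (M : ℕ → Type u) [∀ n, AddCommGroup (M n)] [∀ n, Module A (M n)]
    [∀ n, Module.Finite A (M n)] (f : ∀ n, M (n + 1) →ₗ[A] M n) (hf : ∀ n, Function.Surjective (f n))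
    (hk : ∀ n, I ^ (n + 1) • (⊤ : Submodule A (M n)) = ⊥)
    (hker : ∀ n, LinearMap.ker (f n) = I ^ (n + 1) • (⊤ : Submodule A (M (n + 1))))
    (L : Submodule A (∀ n, M n)) (hL : ∀ x : ∀ n, M n, x ∈ L ↔ ∀ n, f n (x (n + 1)) = x n) :
    Module.Finite A L ∧ ∀ n, Function.Surjective ((LinearMap.proj n).comp L.subtype : L →ₗ[A] M n) ∧
      LinearMap.ker ((LinearMap.proj n).comp L.subtype : L →ₗ[A] M n) = I ^ (n + 1) • (⊤ : Submodule A L) := by
  classical
  have hsurjL : ∀ n (m : M n), ∃ x ∈ L, x n = m := by
    intro n m
    choose g hg using fun i (b : M i) => hf i b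
    let up : ∀ d, M (n + d) := fun d => Nat.rec m (fun d b => g (n + d) b) d
    have hdown : ∀ d, ∃ x : ∀ i, M i, (∀ i, i < n + d → f i (x (i + 1)) = x i) ∧
        x (n + d) = up d ∧ x n = m := by
      intro d
      induction d with
      | zero =>
        have : ∀ j b, ∃ x : ∀ i, M i, (∀ i, i < j → f i (x (i + 1)) = x i) ∧ x j = b := by
          intro j
          induction j with
          | zero => exact fun b => ⟨Function.update 0 0 b, fun i hi => by omega, by simp⟩
          | succ j ih =>
            intro b
            obtain ⟨x, hx, hxj⟩ := ih (f j b)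
            refine ⟨Function.update x (j + 1) b, fun i hi => ?_, by simp⟩
            rw [Function.update_of_ne (show i ≠ j + 1 by omega)]
            rcases eq_or_lt_of_le (Nat.lt_succ_iff.mp hi) with rfl | hi'
            · simp [hxj]
            · rw [Function.update_of_ne (by omega)]
              exact hx i hi'
        obtain ⟨x, hx, hxn⟩ := this n m
        exact ⟨x, hx, hxn, hxn⟩
      | succ d ih =>
        obtain ⟨x, hx, hxd, hxn⟩ := ih
        refine ⟨Function.update x (n + d + 1) (g (n + d) (up d)), fun i hi => ?_,
          by show Function.update x (n + d + 1) _ (n + d + 1) = _; simp [up],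
          by rw [Function.update_of_ne (by omega)]; exact hxn⟩
        rw [Function.update_of_ne (show i ≠ n + d + 1 by omega)]
        rcases eq_or_lt_of_le (Nat.lt_succ_iff.mp (show i < (n + d) + 1 from hi)) with rfl | hi'
        · simp [hxd, hg]
        · rw [Function.update_of_ne (by omega)]
          exact hx i hi'
    choose X hX hXd hXn using hdown
    have hstab : ∀ i d d', i ≤ n + d → d ≤ d' → X d' i = X d i := by
      intro i d d' hid hdd'
      have agree : ∀ e b, b + e = n + d → X d' b = X d b := by
        have top : X d' (n + d) = X d (n + d) := by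
          rw [hXd]
          obtain ⟨c, rfl⟩ := Nat.exists_eq_add_of_le hdd'
          clear hid hdd'
          induction c generalizing d with
          | zero => exact hXd d
          | succ c ih =>
            have h1 := ih (d + 1)
            rw [show d + (c + 1) = d + 1 + c by omega, ← hX (d + 1 + c) (n + d) (by omega)]
            refine (congrArg (f (n + d)) h1).trans ?_
            exact hg _ _
        intro e
        induction e with
        | zero => intro b hb; obtain rfl : b = n + d := hb; exact top
        | succ e ih =>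
          intro b hb
          rw [← hX d' b (by omega), ← hX d b (by omega), ih (b + 1) (by omega)]
      exact agree (n + d - i) i (by omega)
    refine ⟨fun i => X i i, (hL _).mpr fun i => ?_, hXn n⟩
    rw [← hstab i i (i + 1) (by omega) (by omega)]
    exact hX (i + 1) i (by omega)
  obtain ⟨k, s, hs⟩ := Module.Finite.exists_fin (R := A) (M := M 0)
  choose σ hσL hσ using fun i => hsurjL 0 (s i)
  let φ : (Fin k → A) →ₗ[A] L := Fintype.linearCombination A fun i => ⟨σ i, hσL i⟩
  let p : ∀ n, (Fin k → A) →ₗ[A] M n := fun n => (LinearMap.proj n).comp (L.subtype.comp φ)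
  have hfp : ∀ n a, f n (p (n + 1) a) = p n a := fun n a => (hL _).mp (φ a).2 n
  have hp0 : ∀ m, ∃ a, p 0 a = m := by
    intro m
    have hm : m ∈ Submodule.span A (Set.range s) := by rw [hs]; trivial
    obtain ⟨c, hc⟩ := (Submodule.mem_span_range_iff_exists_fun A).mp hm
    exact ⟨c, by simpa [p, φ, Fintype.linearCombination_apply, hσ] using hc⟩
  have hp : ∀ n, Function.Surjective (p n) := by
    intro n
    induction n with
    | zero => exact hp0
    | succ n ih =>
      -- Nakayama for the nilpotent ideal `I`
      have hsup : ∀ y, y ∈ LinearMap.range (p (n + 1)) ⊔ I • (⊤ : Submodule A (M (n + 1))) := by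
        intro y
        obtain ⟨a, ha⟩ := ih (f n y)
        have hk' : y - p (n + 1) a ∈ LinearMap.ker (f n) := by
          rw [LinearMap.mem_ker, map_sub, hfp, ha, sub_self]
        rw [hker] at hk'
        exact Submodule.mem_sup.mpr ⟨p (n + 1) a, ⟨a, rfl⟩, y - p (n + 1) a,
          Submodule.smul_mono (Ideal.pow_le_self (by omega)) le_rfl hk', by abel⟩
      have htop : ∀ e, LinearMap.range (p (n + 1)) ⊔ I ^ e • (⊤ : Submodule A (M (n + 1))) = ⊤ := by
        intro e
        induction e with
        | zero => simp
        | succ e ihe =>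
          refine top_le_iff.mp (le_trans ihe.ge (sup_le le_sup_left ?_))
          rw [Submodule.smul_le]
          intro r hr y _
          obtain ⟨u', hu', v', hv', rfl⟩ := Submodule.mem_sup.mp (hsup y)
          rw [smul_add]
          refine add_mem (Submodule.mem_sup_left (Submodule.smul_mem _ r hu'))
            (Submodule.mem_sup_right ?_)
          rw [pow_succ, Submodule.mul_smul]
          exact Submodule.smul_mem_smul hr hv'
      intro y
      have hy : y ∈ LinearMap.range (p (n + 1)) ⊔ I ^ (n + 2) • (⊤ : Submodule A (M (n + 1))) := by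
        rw [htop]; trivial
      rw [show n + 2 = n + 1 + 1 from rfl, hk (n + 1), sup_bot_eq] at hy
      exact hy
  have hKsub : ∀ n, ∀ a ∈ I ^ (n + 1) • (⊤ : Submodule A (Fin k → A)), p n a = 0 := by
    intro n a ha
    have : p n a ∈ I ^ (n + 1) • (⊤ : Submodule A (M n)) := by
      have h1 := Submodule.mem_map_of_mem (f := p n) ha
      rw [Submodule.map_smul''] at h1
      exact Submodule.smul_mono le_rfl le_top h1
    rwa [hk n] at this
  -- `ker (p n) = ker (p (n+1)) + I^(n+1) F`
  have hKdec : ∀ n a, p n a = 0 → ∃ i ∈ I ^ (n + 1) • (⊤ : Submodule A (Fin k → A)),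
      p (n + 1) (a - i) = 0 := by
    intro n a ha
    have h1 : p (n + 1) a ∈ LinearMap.ker (f n) := by rw [LinearMap.mem_ker, hfp, ha]
    rw [hker] at h1
    have h2 : I ^ (n + 1) • (⊤ : Submodule A (M (n + 1))) =
        (I ^ (n + 1) • (⊤ : Submodule A (Fin k → A))).map (p (n + 1)) := by
      rw [Submodule.map_smul'', Submodule.map_top, LinearMap.range_eq_top.mpr (hp (n + 1))]
    rw [h2] at h1
    obtain ⟨i, hi, hi'⟩ := h1
    exact ⟨i, hi, by rw [map_sub, hi', sub_self]⟩
  have hφ : Function.Surjective φ := by
    intro x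
    have hxc := (hL x.1).mp x.2
    have step : ∀ n a, p n a = (x : ∀ n, M n) n →
        ∃ a', p (n + 1) a' = (x : ∀ n, M n) (n + 1) ∧
          a' - a ∈ I ^ (n + 1) • (⊤ : Submodule A (Fin k → A)) := by
      intro n a ha
      obtain ⟨b, hb⟩ := hp (n + 1) ((x : ∀ n, M n) (n + 1))
      obtain ⟨i, hi, hi'⟩ := hKdec n (b - a) (by rw [map_sub, ← hfp, hb, hxc, ha, sub_self])
      refine ⟨a + i, ?_, by simpa using hi⟩
      rw [← hb, ← sub_eq_zero, ← map_sub, ← neg_eq_zero, ← map_neg,
        show -(a + i - b) = b - a - i by abel]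
      exact hi'
    choose nxt hn₁ hn₂ using step
    obtain ⟨a₀, ha₀⟩ := hp 0 ((x : ∀ n, M n) 0)
    let seq : ∀ n, {a // p n a = (x : ∀ n, M n) n} := fun n =>
      Nat.rec ⟨a₀, ha₀⟩ (fun n a => ⟨nxt n a.1 a.2, hn₁ n a.1 a.2⟩) n
    obtain ⟨c, hc⟩ := exists_limit I (fun n => (seq n).1) (fun n => hn₂ n _ _)
    refine ⟨c, Subtype.ext (funext fun n => ?_)⟩
    have := hKsub n _ (hc n)
    rw [map_sub, sub_eq_zero] at this
    exact this.trans (seq n).2
  refine ⟨Module.Finite.of_surjective φ hφ, fun n => ⟨fun m => ?_, ?_⟩⟩
  · obtain ⟨x, hx, hxn⟩ := hsurjL n m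
    exact ⟨⟨x, hx⟩, hxn⟩
  · refine le_antisymm (fun x hx => ?_) ?_
    · obtain ⟨a, rfl⟩ := hφ x
      have ha : p n a = 0 := hx
      -- `c m ∈ I^(n+1) F` with `a - c m ∈ ker (p (n + m))`
      have step : ∀ m c, p (n + m) (a - c) = 0 → c ∈ I ^ (n + 1) • (⊤ : Submodule A (Fin k → A)) →
          ∃ c', p (n + m + 1) (a - c') = 0 ∧ c' ∈ I ^ (n + 1) • (⊤ : Submodule A (Fin k → A)) ∧
            c' - c ∈ I ^ (m + 1) • (⊤ : Submodule A (Fin k → A)) := by
        intro m c hc hc'
        obtain ⟨i, hi, hi'⟩ := hKdec (n + m) (a - c) hc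
        refine ⟨c + i, by rwa [show a - (c + i) = a - c - i by abel],
          add_mem hc' (Submodule.smul_mono (Ideal.pow_le_pow_right (by omega)) le_rfl hi), ?_⟩
        simpa using Submodule.smul_mono (Ideal.pow_le_pow_right (by omega)) le_rfl hi
      choose nxt hn₁ hn₂ hn₃ using step
      let seq : ∀ m, {c // p (n + m) (a - c) = 0 ∧
          c ∈ I ^ (n + 1) • (⊤ : Submodule A (Fin k → A))} := fun m =>
        Nat.rec ⟨0, by simpa using ha, zero_mem _⟩
          (fun m c => ⟨nxt m c.1 c.2.1 c.2.2, hn₁ m _ _ _, hn₂ m _ _ _⟩) m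
      obtain ⟨c, hc⟩ := exists_limit I (fun m => (seq m).1) (fun m => hn₃ m _ _ _)
      have hcI : c ∈ I ^ (n + 1) • (⊤ : Submodule A (Fin k → A)) := by
        simpa using add_mem (hc n) (seq n).2.2
      have hzero : φ a = φ c := by
        refine Subtype.ext (funext fun j => ?_)
        have hj : ∀ d i, p (i + d) (a - c) = 0 → p i (a - c) = 0 := by
          intro d
          induction d with
          | zero => exact fun i h => h
          | succ d ihd =>
            intro i h
            exact ihd i (by rw [← hfp]; exact (congrArg (f (i + d)) h).trans (map_zero _))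
        have h1 : p j (a - c) = 0 := by
          have e1 : p (n + j) (a - (seq j).1) = 0 := (seq j).2.1
          have e2 : p j (a - (seq j).1) = 0 := by
            have hj' : ∀ d i, p (i + d) (a - (seq j).1) = 0 → p i (a - (seq j).1) = 0 := by
              intro d
              induction d with
              | zero => exact fun i h => h
              | succ d ihd =>
                intro i h
                exact ihd i (by rw [← hfp]; exact (congrArg (f (i + d)) h).trans (map_zero _))
            exact hj' n j ((Nat.add_comm n j) ▸ e1)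
          rw [show a - c = (a - (seq j).1) - (c - (seq j).1) by abel, map_sub, e2,
            hKsub j _ (hc j), sub_zero]
        rw [map_sub, sub_eq_zero] at h1
        exact h1
      rw [hzero]
      have h2 := Submodule.mem_map_of_mem (f := φ) hcI
      rw [Submodule.map_smul''] at h2
      exact Submodule.smul_mono le_rfl le_top h2
    · rw [Submodule.smul_le]
      intro r hr y _
      rw [LinearMap.mem_ker, map_smul]
      have : r • ((LinearMap.proj n).comp L.subtype y) ∈ I ^ (n + 1) • (⊤ : Submodule A (M n)) :=
        Submodule.smul_mem_smul hr trivial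
      rwa [hk n] at this

end Groth.Agent.S0797
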