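import Groth.Statements.S9350
import Groth.Agent.L20.ModPullback

set_option autoImplicit false
universe u
open FlatMod

namespace Groth.Agent.S9350
open scoped TensorProduct in
/-- Flatness descends along a faithfully flat extension of the intermediate ring. -/
theorem flat_of_faithfullyFlat_tensorProduct {R S T M : Type u} [CommRing R] [CommRing S] [CommRing T] [Algebra R S]
    [Algebra S T] [Algebra R T] [IsScalarTower R S T] [AddCommGroup M] [Module R M] [Module S M] [IsScalarTower R S M]
    [Module.FaithfullyFlat S T] [Module.Flat R (T ⊗[S] M)] : Module.Flat R M := by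
  rw [Module.Flat.iff_lTensor_injective']
  intro J
  have key : ∀ z : (T ⊗[S] M) ⊗[R] J, (TensorProduct.AlgebraTensorModule.lTensor S M J.subtype).lTensor T
      (TensorProduct.AlgebraTensorModule.assoc R S S T M J z) =
      TensorProduct.AlgebraTensorModule.assoc R S S T M R (J.subtype.lTensor (T ⊗[S] M) z) := by
    intro z
    induction z using TensorProduct.induction_on with
    | zero => simp
    | tmul w j =>
      induction w using TensorProduct.induction_on with
      | zero => simp
      | tmul t m => simp
      | add x y hx hy => simp only [TensorProduct.add_tmul, map_add, hx, hy]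
    | add x y hx hy => simp only [map_add, hx, hy]
  have h1 : Function.Injective (J.subtype.lTensor (T ⊗[S] M)) :=
    Module.Flat.lTensor_preserves_injective_linearMap J.subtype Subtype.val_injective
  have h2 : Function.Injective ((TensorProduct.AlgebraTensorModule.lTensor S M J.subtype).lTensor T) := by
    intro a b hab
    obtain ⟨a, rfl⟩ := (TensorProduct.AlgebraTensorModule.assoc R S S T M J).surjective a
    obtain ⟨b, rfl⟩ := (TensorProduct.AlgebraTensorModule.assoc R S S T M J).surjective b
    rw [key, key] at hab
    rw [h1 ((TensorProduct.AlgebraTensorModule.assoc R S S T M R).injective hab)]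
  exact (Module.FaithfullyFlat.lTensor_injective_iff_injective S T
    (TensorProduct.AlgebraTensorModule.lTensor S M J.subtype)).mp h2


open AlgebraicGeometry CategoryTheory in
/-- Let h : X → Y be a morphism of S-schemes, q : Y → S, G a quasi-coherent O_Y-module and x ∈ X with h
flat at x. Flatness of G over S at h x is equivalent to flatness of h^*G over S at x. -/
theorem result {X Y S : Scheme.{u}} (h : X ⟶ Y) (q : Y ⟶ S)
    (G : Y.Modules) (hG : Coh.IsQCoh G) (x : X) (hflat : (h.stalkMap x).hom.Flat) :
    FlatMod.IsFlatOverAt q G (h.base x) ↔ FlatMod.IsFlatOverAt (h ≫ q) ((Scheme.Modules.pullback h).obj G) x := by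
  letI : Algebra (Y.presheaf.stalk (h.base x)) (X.presheaf.stalk x) := (h.stalkMap x).hom.toAlgebra
  letI : Algebra (S.presheaf.stalk (q.base (h.base x))) (Y.presheaf.stalk (h.base x)) :=
    (q.stalkMap (h.base x)).hom.toAlgebra
  letI : Algebra (S.presheaf.stalk (q.base (h.base x))) (X.presheaf.stalk x) :=
    ((h.stalkMap x).hom.comp (q.stalkMap (h.base x)).hom).toAlgebra
  haveI : IsScalarTower (S.presheaf.stalk (q.base (h.base x))) (Y.presheaf.stalk (h.base x)) (X.presheaf.stalk x) :=
    IsScalarTower.of_algebraMap_eq fun _ => rfl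
  haveI : Module.Flat (Y.presheaf.stalk (h.base x)) (X.presheaf.stalk x) := hflat
  haveI : IsLocalHom (algebraMap (Y.presheaf.stalk (h.base x)) (X.presheaf.stalk x)) :=
    inferInstanceAs (IsLocalHom (h.stalkMap x).hom)
  haveI : Module.FaithfullyFlat (Y.presheaf.stalk (h.base x)) (X.presheaf.stalk x) :=
    Module.FaithfullyFlat.of_flat_of_isLocalHom
  letI : Module (S.presheaf.stalk (q.base (h.base x))) (G.presheaf.stalk (h.base x)) :=
    FlatMod.moduleStalkOver q G (h.base x)
  haveI : IsScalarTower (S.presheaf.stalk (q.base (h.base x))) (Y.presheaf.stalk (h.base x))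
      (G.presheaf.stalk (h.base x)) := IsScalarTower.of_algebraMap_smul fun _ _ => rfl
  letI : Module (S.presheaf.stalk (q.base (h.base x))) (((Scheme.Modules.pullback h).obj G).presheaf.stalk x) :=
    Module.compHom _ ((h.stalkMap x).hom.comp (q.stalkMap (h.base x)).hom)
  haveI : IsScalarTower (S.presheaf.stalk (q.base (h.base x))) (X.presheaf.stalk x)
      (((Scheme.Modules.pullback h).obj G).presheaf.stalk x) := IsScalarTower.of_algebraMap_smul fun _ _ => rfl
  let e : ((Scheme.Modules.pullback h).obj G).presheaf.stalk x ≃ₗ[X.presheaf.stalk x]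
      TensorProduct (Y.presheaf.stalk (h.base x)) (X.presheaf.stalk x) (G.presheaf.stalk (h.base x)) :=
    ((Groth.L00.PullStalk.stalkIso h x).app G).toLinearEquiv
  have hB : FlatMod.IsFlatOverAt (h ≫ q) ((Scheme.Modules.pullback h).obj G) x ↔
      Module.Flat (S.presheaf.stalk (q.base (h.base x))) (((Scheme.Modules.pullback h).obj G).presheaf.stalk x) := by
    dsimp only [FlatMod.IsFlatOverAt]
    have hc : ((h ≫ q).stalkMap x).hom = (h.stalkMap x).hom.comp (q.stalkMap (h.base x)).hom := by
      rw [Scheme.Hom.stalkMap_comp]; rfl
    unfold FlatMod.moduleStalkOver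
    rw [hc]
    rfl
  rw [hB]
  constructor
  · intro hA
    haveI : Module.Flat (S.presheaf.stalk (q.base (h.base x))) (G.presheaf.stalk (h.base x)) := hA
    haveI := Groth.L20.ModStalk.flat_tensorProduct (R := S.presheaf.stalk (q.base (h.base x)))
      (S := Y.presheaf.stalk (h.base x)) (T := X.presheaf.stalk x) (M := G.presheaf.stalk (h.base x))
    exact Module.Flat.of_linearEquiv (e.restrictScalars _)
  · intro hA
    haveI := Module.Flat.of_linearEquiv (M := ((Scheme.Modules.pullback h).obj G).presheaf.stalk x)
      (e.symm.restrictScalars (S.presheaf.stalk (q.base (h.base x))))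
    exact flat_of_faithfullyFlat_tensorProduct (S := Y.presheaf.stalk (h.base x)) (T := X.presheaf.stalk x)

end Groth.Agent.S9350
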