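import Groth.Statements.S9435
import Mathlib.RingTheory.Etale.StandardEtale
import Mathlib.FieldTheory.PrimitiveElement
import Mathlib.RingTheory.Polynomial.ScaleRoots
import Mathlib.RingTheory.LocalRing.ResidueField.Ideal

set_option autoImplicit false
universe u
open CAlg

namespace Groth.Agent.S9435

/-- Given a prime p of a ring R and a finite separable extension L of κ(p), there is an étale R-algebra
R' with a prime p' over p whose residue field is κ(p)-isomorphic to L. Stated through an R-algebra
map ψ : R' → L whose image generates the field L: its kernel is such a prime p' and the induced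
κ(p') → L is then an isomorphism over κ(p). -/
theorem result (R : Type u) [CommRing R]
    (p : Ideal R) [p.IsPrime] (L : Type u) [Field L] [Algebra p.ResidueField L] [Algebra R L]
    [IsScalarTower R p.ResidueField L] [Module.Finite p.ResidueField L]
    [Algebra.IsSeparable p.ResidueField L] :
    ∃ (R' : Type u) (_ : CommRing R') (_ : Algebra R R') (_ : Algebra.Etale R R') (ψ : R' →ₐ[R] L),
      Subfield.closure (Set.range ψ) = ⊤ := by
  obtain ⟨α, hα⟩ := Field.exists_primitive_element p.ResidueField L
  have hint : IsIntegral p.ResidueField α := IsIntegral.of_finite _ α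
  let m := minpoly p.ResidueField α
  have hmm : m.Monic := minpoly.monic hint
  obtain ⟨⟨c, hc⟩, hcm⟩ := IsLocalization.exist_integer_multiples (nonZeroDivisors (R ⧸ p))
    (Finset.range m.natDegree) (fun i => m.coeff i)
  obtain ⟨c₀, rfl⟩ := Ideal.Quotient.mk_surjective c
  have hc0 : algebraMap R p.ResidueField c₀ ≠ 0 := by
    simp only [ne_eq, Ideal.algebraMap_residueField_eq_zero]
    intro h; exact nonZeroDivisors.ne_zero hc (Ideal.Quotient.eq_zero_iff_mem.mpr h)
  set cK : p.ResidueField := algebraMap R p.ResidueField c₀ with hcK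
  let β : L := algebraMap p.ResidueField L cK * α
  let m' := m.scaleRoots cK
  have hβ0 : Polynomial.aeval β m' = 0 :=
    Polynomial.scaleRoots_aeval_eq_zero (minpoly.aeval _ _)
  have hm'mon : m'.Monic := (Polynomial.monic_scaleRoots_iff _).mpr hmm
  have hβint : IsIntegral p.ResidueField β := IsIntegral.of_finite _ β
  have hadj : IntermediateField.adjoin p.ResidueField {β} = ⊤ := by
    rw [eq_top_iff, ← hα, IntermediateField.adjoin_simple_le_iff]
    have h1 : α = algebraMap p.ResidueField L cK⁻¹ * β := by
      simp only [β, ← mul_assoc, ← map_mul, inv_mul_cancel₀ hc0, map_one, one_mul]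
    rw [h1]
    exact mul_mem (IntermediateField.algebraMap_mem _ _) (IntermediateField.mem_adjoin_simple_self _ _)
  have hdeg : m'.natDegree = (minpoly p.ResidueField β).natDegree := by
    rw [Polynomial.natDegree_scaleRoots, ← IntermediateField.adjoin.finrank hint,
      ← IntermediateField.adjoin.finrank hβint, hα, hadj]
  have hm'eq : m' = minpoly p.ResidueField β :=
    (Polynomial.eq_of_monic_of_dvd_of_natDegree_le (minpoly.monic hβint) hm'mon
      (minpoly.dvd _ _ hβ0) hdeg.le)
  have hlift : m' ∈ Polynomial.lifts (algebraMap R p.ResidueField) := by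
    rw [Polynomial.lifts_iff_coeff_lifts]
    intro i
    rw [Polynomial.coeff_scaleRoots]
    rcases lt_trichotomy i m.natDegree with hi | hi | hi
    · obtain ⟨k, hk⟩ := Nat.exists_eq_add_of_lt hi
      obtain ⟨a, ha⟩ := hcm i (Finset.mem_range.mpr hi)
      obtain ⟨a₀, rfl⟩ := Ideal.Quotient.mk_surjective a
      refine ⟨a₀ * c₀ ^ k, ?_⟩
      rw [show m.natDegree - i = k + 1 from by omega, map_mul, map_pow, pow_succ']
      have ha' : algebraMap R p.ResidueField a₀ = cK * m.coeff i := by
        simpa [Algebra.smul_def, ← IsScalarTower.algebraMap_apply, hcK] using ha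
      rw [ha', ← hcK]; ring
    · subst hi
      exact ⟨1, by simp [hmm.coeff_natDegree]⟩
    · exact ⟨0, by simp [Polynomial.coeff_eq_zero_of_natDegree_lt hi]⟩
  obtain ⟨g, hg, -, hgmon⟩ := Polynomial.lifts_and_natDegree_eq_and_monic hlift hm'mon
  let P : StandardEtalePair R := ⟨g, hgmon, Polynomial.derivative g, 1, 0, 1, by simp⟩
  have hP : P.HasMap β := by
    refine ⟨?_, ?_⟩
    · show Polynomial.aeval β g = 0
      rw [← Polynomial.aeval_map_algebraMap p.ResidueField, hg, hβ0]
    · show IsUnit (Polynomial.aeval β (Polynomial.derivative g))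
      rw [isUnit_iff_ne_zero, ← Polynomial.aeval_map_algebraMap p.ResidueField,
        ← Polynomial.derivative_map, hg, hm'eq]
      exact (Algebra.IsSeparable.isSeparable p.ResidueField β).aeval_derivative_ne_zero (minpoly.aeval _ _)
  refine ⟨P.Ring, inferInstance, inferInstance, inferInstance, P.lift β hP, ?_⟩
  set K := Subfield.closure (Set.range (P.lift β hP)) with hK
  have hR : ∀ r : R, algebraMap R L r ∈ K := fun r =>
    Subfield.subset_closure ⟨algebraMap R P.Ring r, (P.lift β hP).commutes r⟩
  have hκ : ∀ x : p.ResidueField, algebraMap p.ResidueField L x ∈ K := by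
    intro x
    obtain ⟨a, b, -, rfl⟩ := IsFractionRing.div_surjective (R ⧸ p) x
    obtain ⟨a, rfl⟩ := Ideal.Quotient.mk_surjective a
    obtain ⟨b, rfl⟩ := Ideal.Quotient.mk_surjective b
    rw [map_div₀]
    have key : ∀ r : R, algebraMap p.ResidueField L (algebraMap (R ⧸ p) p.ResidueField (Ideal.Quotient.mk p r)) ∈ K := by
      intro r
      have h2 : algebraMap (R ⧸ p) p.ResidueField (Ideal.Quotient.mk p r) = algebraMap R p.ResidueField r :=
        (IsScalarTower.algebraMap_apply R (R ⧸ p) p.ResidueField r).symm
      rw [h2, ← IsScalarTower.algebraMap_apply]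
      exact hR r
    exact div_mem (key a) (key b)
  have hβK : β ∈ K := Subfield.subset_closure ⟨P.X, P.lift_X β hP⟩
  let E : IntermediateField p.ResidueField L := K.toIntermediateField hκ
  have : (⊤ : IntermediateField p.ResidueField L) ≤ E := by
    rw [← hadj, IntermediateField.adjoin_simple_le_iff]; exact hβK
  exact eq_top_iff.mpr fun x _ => this (IntermediateField.mem_top : x ∈ (⊤ : IntermediateField p.ResidueField L))

end Groth.Agent.S9435
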