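import Groth.Statements.S6884
import Groth.Agent.L07.FlatStage
import Groth.Agent.L03.FlatDescent
import Mathlib.RingTheory.IntegralClosure.IsIntegral.Basic
import Mathlib.RingTheory.Polynomial.Basic
import Mathlib.RingTheory.FiniteType

set_option autoImplicit false
universe u
open TensorProduct
open CAlg

set_option maxHeartbeats 2000000
set_option synthInstance.maxHeartbeats 100000

open TensorProduct Groth.L07.FlatDescent

namespace Groth.Agent.S6884

/-- For an injective integral ring map `R → S` and `n ≥ 0`, let `M` be a module of finite presentation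
over the polynomial ring `R[x_1, …, x_n]`. Then flatness of `S ⊗_R M` over `S` forces flatness of
`M` over `R`. -/
theorem result (R S : Type u) [CommRing R]
    [CommRing S] [Algebra R S] [Algebra.IsIntegral R S] (hinj : Function.Injective (algebraMap R S)) (n : ℕ)
    (M : Type u) [AddCommGroup M] [Module (MvPolynomial (Fin n) R) M] [Module R M]
    [IsScalarTower R (MvPolynomial (Fin n) R) M] [Module.FinitePresentation (MvPolynomial (Fin n) R) M]
    [Module.Flat S (S ⊗[R] M)] : Module.Flat R M := by
  classical
  obtain ⟨d, m, R₀, hR₀, K, ⟨e⟩⟩ :=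
    Groth.L07.FlatDescent.exists_model R (B₀ := MvPolynomial (Fin n) R) M
  haveI := hR₀
  obtain ⟨eS⟩ := Groth.L07.FlatDescent.exists_modelEquiv K e S
  haveI : Module.Flat S (MC S K) := Module.Flat.of_linearEquiv eS.symm
  obtain ⟨B, ⟨t, ht⟩, hB⟩ := Groth.L07.FlatDescent.exists_fg_stage K S
  choose P hPm hP0 using fun s : S => Algebra.IsIntegral.isIntegral (R := R) s
  let W : Finset R := t.biUnion fun s => (P s).coeffs
  let A : Subalgebra R₀ R := Algebra.adjoin R₀ (W : Set R)
  haveI : Algebra.FiniteType R₀ A := A.fg_iff_finiteType.mp ⟨W, rfl⟩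
  haveI : IsNoetherianRing A := Algebra.FiniteType.isNoetherianRing R₀ A
  let B' : Subalgebra A S := Algebra.adjoin A (t : Set S)
  have hint : ∀ s ∈ t, IsIntegral A s := by
    intro s hs
    have hW : ((P s).coeffs : Set R) ⊆ A.toSubring := fun c hc =>
      Algebra.subset_adjoin (Finset.mem_biUnion.mpr ⟨s, hs, hc⟩)
    refine ⟨(P s).toSubring A.toSubring hW, (Polynomial.monic_toSubring _ _ _).mpr (hPm s), ?_⟩
    rw [IsScalarTower.algebraMap_eq A R S, ← Polynomial.eval₂_map,
      show ((P s).toSubring A.toSubring hW).map (algebraMap A R) = P s from Polynomial.map_toSubring (P s) A.toSubring hW]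
    exact hP0 s
  haveI : Module.Finite A B' := Module.Finite.iff_fg.mpr (fg_adjoin_of_finite t.finite_toSet hint)
  haveI : IsNoetherianRing B' := IsNoetherianRing.of_finite A B'
  have hle : B ≤ B'.restrictScalars R₀ := by
    rw [← ht, Algebra.adjoin_le_iff]
    exact fun s hs => Algebra.subset_adjoin hs
  let i : B →ₐ[R₀] B' := Subalgebra.inclusion hle
  letI : Algebra B B' := i.toRingHom.toAlgebra
  haveI : IsScalarTower R₀ B B' := IsScalarTower.of_algebraMap_eq fun r => (i.commutes r).symm
  haveI : Module.Flat B' (MC B' K) := Groth.L07.FlatDescent.flat_MC_of_flat K (A := B) (C := B')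
  obtain ⟨eB⟩ := Groth.L07.FlatDescent.exists_modelEquiv K (LinearEquiv.refl A (MC A K)) B'
  haveI : Module.Flat B' (B' ⊗[A] MC A K) := Module.Flat.of_linearEquiv eB
  have hinj' : Function.Injective (algebraMap A B') := fun a b h => Subtype.ext (hinj (congrArg Subtype.val h))
  haveI : Module.Flat A (MC A K) := Groth.L03.FlatDescent.flat_of_finite_injective A B' hinj' (MC A K)
  haveI : Module.Flat R (MC R K) := Groth.L07.FlatDescent.flat_MC_of_flat K (A := A) (C := R)
  exact Module.Flat.of_linearEquiv e

end Groth.Agent.S6884
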