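import Groth.Statements.S0236
import Groth.Agent.L28.GmH1.Iff

set_option autoImplicit false
universe u
open CategoryTheory CategoryTheory.Limits AlgebraicGeometry
open Curves

namespace Groth.Agent.S0236

/-- For any scheme X, the first étale cohomology of G_m (small site) vanishes exactly when every
invertible O_X-module is isomorphic to the structure sheaf — the part of the identification
H^1_et(X, G_m) = Pic(X) that can be stated without a group structure on Pic. -/
theorem result (X : Scheme.{u}) :
    Subsingleton (EtCoh.H X (EtCoh.Gm X) 1) ↔
      ∀ L : X.Modules, PicF.IsInvertible L → Nonempty (L ≅ Coh.structureModule X) := by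
  exact Groth.L28.GmH1.subsingleton_iff X

end Groth.Agent.S0236
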