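import Groth.Statements.S8876
import Groth.Agent.L15.FittSheaf

set_option autoImplicit false
universe u
open CategoryTheory CategoryTheory.Limits AlgebraicGeometry TopologicalSpace
open SDiv

namespace Groth.Agent.S8876

/-- Let S be a scheme and F a quasi-coherent O_S-module of finite type. Then the closed subset of S cut
out by Fit_0(F) equals the support of F (the scheme-theoretic support and the Fit_0 subscheme have
the same underlying set). -/
theorem result (S : Scheme.{u}) (F : S.Modules) (hF : Coh.IsQCoh F) (hft : CohB1.IsFT F) :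
    ((Fitt.sheafIdeal F 0).support : Set ↥S) = CohB1.support F := by
  haveI : Coh.IsQCoh F := hF
  ext x
  obtain ⟨_, ⟨W, hW, rfl⟩, hxW, -⟩ :=
    S.isBasis_affineOpens.exists_subset_of_mem_open (Set.mem_univ x) isOpen_univ
  replace hW : IsAffineOpen W := hW
  haveI := Groth.L20.ModStalk.finite_sections F ⟨hF, hft⟩ hW
  letI := Groth.L20.ModStalk.stalkModule F hxW
  haveI := Groth.L20.ModStalk.isLocalizedModule_germ F hW hxW
  rw [SetLike.mem_coe, ← not_iff_not, Groth.L15.FittSheaf.notMem_support_iff F hft 0 (U := ⟨W, hW⟩) hxW]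
  let p := hW.primeIdealOf ⟨x, hxW⟩
  have h1 : Fitt.ideal Γ(S, W) Γ(F, W) 0 ≤ p.asIdeal ↔ Nontrivial (LocalizedModule p.asIdeal.primeCompl Γ(F, W)) := by
    rw [← Module.mem_support_iff, ← Groth.L13.Fitting.zeroLocus_ideal_zero]
    rfl
  show ¬ Fitt.ideal Γ(S, W) Γ(F, W) 0 ≤ p.asIdeal ↔ x ∉ CohB1.support F
  rw [h1, not_nontrivial_iff_subsingleton]
  show _ ↔ ¬¬ Subsingleton (F.presheaf.stalk x)
  rw [not_not]
  exact (IsLocalizedModule.iso p.asIdeal.primeCompl (Groth.L20.ModStalk.germₗ F hxW)).toEquiv.subsingleton_congr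

end Groth.Agent.S8876
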