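import Groth.Statements.S8574
import Groth.Agent.L10.EtDescent.SS
import Groth.Agent.L10.EtDescent.Piece
import Groth.Agent.S9432
import Groth.Agent.L20.Weight.Isolate
import Mathlib.RingTheory.RingHom.FaithfullyFlat
import Mathlib.AlgebraicGeometry.Morphisms.Flat
import Mathlib.AlgebraicGeometry.Morphisms.UniversallyOpen

set_option autoImplicit false
set_option linter.style.haveILetI false
set_option backward.isDefEq.respectTransparency.types false
open CategoryTheory CategoryTheory.Limits AlgebraicGeometry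
universe u
open EtDesc

namespace Groth.Agent.S8574

theorem hloc {X Y : Scheme.{u}} (f : X ⟶ Y) [Flat f] [LocallyOfFinitePresentation f] [Surjective f] (y : Y) :
    ∃ (S' : Scheme.{u}) (e : S' ⟶ Y) (_ : Etale e) (_ : y ∈ Set.range e.base)
      (W : Scheme.{u}) (h : W ⟶ S') (_ : IsFinite h) (_ : Surjective h) (k : W ⟶ X), k ≫ f = h ≫ e := by
  obtain ⟨x, rfl⟩ := f.surjective y
  obtain ⟨_, ⟨Y0, hY0, rfl⟩, hxY0, -⟩ :=
    Y.isBasis_affineOpens.exists_subset_of_mem_open (Set.mem_univ (f x)) isOpen_univ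
  replace hY0 : IsAffineOpen Y0 := hY0
  obtain ⟨_, ⟨U0, hU0, rfl⟩, hxU0, hU0Y⟩ :=
    X.isBasis_affineOpens.exists_subset_of_mem_open (show x ∈ (f ⁻¹ᵁ Y0 : Set X) from hxY0) (f ⁻¹ᵁ Y0).2
  replace hU0 : IsAffineOpen U0 := hU0
  have hop : IsOpen (f '' (U0 : Set X)) := f.isOpenMap _ U0.2
  obtain ⟨a, hale, hxa⟩ := hY0.exists_basicOpen_le (V := ⟨_, hop⟩)
    ⟨f x, ⟨x, hxU0, rfl⟩⟩ hxY0
  let Y1 := Y.basicOpen a
  have hY1 : IsAffineOpen Y1 := hY0.basicOpen a
  let U1 := X.basicOpen (f.appLE Y0 U0 hU0Y a)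
  have hU1 : IsAffineOpen U1 := hU0.basicOpen _
  have hU1eq : U1 = U0 ⊓ f ⁻¹ᵁ Y1 := Scheme.basicOpen_appLE f U0 Y0 hU0Y a
  have hU1Y : U1 ≤ f ⁻¹ᵁ Y1 := hU1eq ▸ inf_le_right
  let φ := f.appLE Y1 U1 hU1Y
  have hflat : φ.hom.Flat := HasRingHomProperty.appLE (P := @Flat) f inferInstance ⟨Y1, hY1⟩ ⟨U1, hU1⟩ hU1Y
  have hfp : φ.hom.FinitePresentation :=
    HasRingHomProperty.appLE (P := @LocallyOfFinitePresentation) f inferInstance ⟨Y1, hY1⟩ ⟨U1, hU1⟩ hU1Y
  have hcomp : Spec.map φ ≫ hY1.fromSpec = hU1.fromSpec ≫ f := hY1.SpecMap_appLE_fromSpec f hU1 hU1Y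
  have hsurj : Function.Surjective (PrimeSpectrum.comap φ.hom) := fun p => by
    have hp : hY1.fromSpec p ∈ Y1 := hY1.range_fromSpec.le ⟨p, rfl⟩
    obtain ⟨x', hx', hx''⟩ := hale hp
    have hx1 : x' ∈ U1 := by rw [hU1eq]; exact ⟨hx', show f x' ∈ Y1 by rw [hx'']; exact hp⟩
    obtain ⟨q, hq⟩ := hU1.range_fromSpec.ge hx1
    refine ⟨q, hY1.fromSpec.isOpenEmbedding.injective ?_⟩
    show hY1.fromSpec (Spec.map φ q) = _
    rw [← Scheme.Hom.comp_apply, hcomp, Scheme.Hom.comp_apply, hq, hx'']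
  algebraize [φ.hom]
  haveI : Module.FaithfullyFlat Γ(Y, Y1) Γ(X, U1) :=
    haveI : Module.Flat Γ(Y, Y1) Γ(X, U1) := hflat
    Module.FaithfullyFlat.of_comap_surjective hsurj
  obtain ⟨B', iC, iA, hqf, hft, hff, hfp', ⟨ψ⟩⟩ := Groth.Agent.S9432.result Γ(Y, Y1) Γ(X, U1)
  let σ : CommRingCat.of Γ(Y, Y1) ⟶ CommRingCat.of B' := CommRingCat.ofHom (algebraMap Γ(Y, Y1) B')
  let g : Spec (CommRingCat.of B') ⟶ Y := Spec.map σ ≫ hY1.fromSpec
  haveI : LocallyQuasiFinite (Spec.map σ) :=
    (HasRingHomProperty.Spec_iff (P := @LocallyQuasiFinite)).2 (RingHom.quasiFinite_algebraMap.2 hqf)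
  haveI : LocallyOfFinitePresentation (Spec.map σ) :=
    (HasRingHomProperty.Spec_iff (P := @LocallyOfFinitePresentation)).2
      (RingHom.finitePresentation_algebraMap.2 hfp')
  haveI : Flat (Spec.map σ) :=
    (HasRingHomProperty.Spec_iff (P := @Flat)).2 (RingHom.flat_algebraMap_iff.2 inferInstance)
  let k0 : Spec (CommRingCat.of B') ⟶ X :=
    Spec.map (CommRingCat.ofHom ψ.toRingHom) ≫ hU1.fromSpec
  have hk0 : k0 ≫ f = g := by
    simp only [k0, g, Category.assoc, ← hcomp]
    rw [← Spec.map_comp_assoc]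
    congr 2
    exact CommRingCat.hom_ext (RingHom.ext fun r => ψ.commutes r)
  obtain ⟨p, hp⟩ := hY1.range_fromSpec.ge hxa
  obtain ⟨z, hz⟩ := PrimeSpectrum.comap_surjective_of_faithfullyFlat (A := Γ(Y, Y1)) (B := B') p
  have hgz : g z = f x := by
    show hY1.fromSpec (Spec.map σ z) = f x
    exact (congrArg hY1.fromSpec hz).trans hp
  obtain ⟨V, e, u, he, heu, κ, _, W, v, -, -, hW, hcov⟩ :=
    Groth.L20.Weight.exists_isolate g (f x) {z} (fun w _ => g.quasiFiniteAt w)
  obtain ⟨w, hw1, hw2⟩ := Scheme.Pullback.exists_preimage_pullback (f := g) (g := e) z u (hgz.trans heu.symm)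
  obtain ⟨a', hwa⟩ := hcov w hw2 (by rw [hw1]; exact Finset.mem_singleton_self z)
  haveI := (hW a').2.1
  have hopen : IsOpen (pullback.snd g e '' (W a' : Set ↑(pullback g e))) :=
    (pullback.snd g e).isOpenMap _ (W a').2
  refine Groth.L10.EtDescent.exists_refinement_of_piece f (f x) e u heu (pullback.snd g e)
    (pullback.fst g e ≫ k0) ?_ (W a') ⟨_, hopen⟩ ⟨w, hwa, hw2⟩ (fun v hv => hv)
  rw [Category.assoc, hk0, pullback.condition]

/-- Let f : X → Y be a surjective morphism of schemes which is flat and locally of finite presentation,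
and F any abelian sheaf on the small etale site of Y (sheaves of Z/n-modules for every n ≥ 0 are
allowed, n = 0 giving all abelian sheaves). Then f is of cohomological descent for F, and the
descent spectral sequence reads, in existence form: there is a bounded spectral sequence of abelian
groups starting at page one with E_1^{p,q} isomorphic, for p, q ≥ 0, to the etale cohomology group
H^q(X_p, F|X_p), where X_p is the (p+1)-fold fibre product of X over Y and F|X_p the inverse image
of F along its projection to Y, and zero otherwise, together with abutment data whose filtrations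
are finite on H^n(Y_et, F) for n ≥ 0 (zero for n < 0). (The E_1 identifications and the abutment
isomorphisms are asserted to exist only; the differentials are not part of this statement.) -/
theorem result {X Y : Scheme.{u}} (f : X ⟶ Y)
    [Flat f] [LocallyOfFinitePresentation f] [Surjective f] (F : EtCoh.Ab Y) :
    ∃ (E : CohomologicalSpectralSequence AddCommGrpCat.{u + 1} 1)
      (a : SpSeq.Abutment E (fun n : ℤ =>
        if 0 ≤ n then AddCommGrpCat.of (EtCoh.H Y F n.toNat) else AddCommGrpCat.of PUnit.{u + 2})),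
      (∀ n, a.IsFinite n) ∧ SpSeq.IsBounded E ∧
      ∀ p q : ℤ, Nonempty ((E.page 1 le_rfl).X (p, q) ≅
        (if 0 ≤ p ∧ 0 ≤ q then
          AddCommGrpCat.of (EtCoh.H (widePullback Y (fun _ : Fin (p.toNat + 1) => X) (fun _ => f))
            ((EtCoh.pull (WidePullback.base (fun _ : Fin (p.toNat + 1) => f) :
              widePullback Y (fun _ : Fin (p.toNat + 1) => X) (fun _ => f) ⟶ Y)).obj F) q.toNat)
         else AddCommGrpCat.of PUnit.{u + 2})) :=
  Groth.L10.EtDescent.exists_spectralSequence f F (hloc f)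

end Groth.Agent.S8574
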