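import Groth.Statements.S15870
import Groth.Agent.L09.TorsorSch
import Groth.Agent.L23.EtaleSplit
import Groth.Agent.L24.Boot.SmoothSection
import Mathlib.AlgebraicGeometry.Morphisms.LocalFlatDescent
import Mathlib.AlgebraicGeometry.Sites.Fpqc

set_option autoImplicit false
universe u
open CategoryTheory MonoidalCategory CartesianMonoidalCategory MonObj GrpObj AlgebraicGeometry
open NonAbH1

set_option backward.isDefEq.respectTransparency.types false

namespace Groth.Agent.S15870

open CategoryTheory.Limits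

theorem exists_affine_etale_section {P X : Scheme.{u}} [IsAffine P] (q : X ⟶ P) [Smooth q] [Surjective q] :
    ∃ (U : Scheme.{u}) (g : U ⟶ P) (t : U ⟶ X), IsAffine U ∧ Etale g ∧ Surjective g ∧ t ≫ q = g := by
  choose x hx using fun p => q.surjective p
  choose S' g s' h hg hs hh using fun p => Groth.L24.Boot.exists_etale_nhd_section q (x p)
  choose A hA hmem hsub using fun p => exists_isAffineOpen_mem_and_subset (X := S' p) (U := ⊤) (x := s' p) trivial
  have := hg
  obtain ⟨t, ht⟩ := isCompact_univ.elim_finite_subcover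
    (fun p => Set.range ((A p).ι ≫ g p)) (fun p => ((A p).ι ≫ g p).isOpenMap.isOpen_range) fun p _ =>
      Set.mem_iUnion.2 ⟨p, ⟨s' p, hmem p⟩, (hs p).trans (hx p)⟩
  have : ∀ p, IsAffine (A p).toScheme := hA
  refine ⟨∐ fun p : t => (A p.1).toScheme, Sigma.desc fun p => (A p.1).ι ≫ g p.1,
    Sigma.desc fun p => (A p.1).ι ≫ h p.1, inferInstance, IsZariskiLocalAtSource.sigmaDesc fun p => inferInstance,
    ⟨fun p => ?_⟩, Sigma.hom_ext _ _ fun p => by simp [hh]⟩
  obtain ⟨i, hi, y, hy⟩ := Set.mem_iUnion₂.1 (ht (Set.mem_univ p))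
  refine ⟨Sigma.ι (fun p : t => (A p.1).toScheme) ⟨i, hi⟩ y, ?_⟩
  rw [← Scheme.Hom.comp_apply, Sigma.ι_desc]
  exact hy

/-- Let π : S' → S be finite locally free (finite, flat, locally of finite presentation), G a smooth
S'-group scheme and E an fppf G-torsor over S'. Then E trivializes fppf locally on S: some fppf
covering family of S consists of morphisms U → S such that E has a section over U ×_S S' → S'. (The
published statement is for a variable S-scheme T, torsors over S' ×_S T and G a group algebraic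
space; this row is the case T = S with G a scheme, to which the general case reduces by base change
of π.) -/
theorem result
    {S S' : Scheme.{u}} (π : S' ⟶ S) [IsFinite π] [Flat π] [LocallyOfFinitePresentation π]
    (G : Over S') [GrpObj G] [Smooth G.hom]
    (E : NonAbH1.TorsorSch G Scheme.fppfPrecoverage) :
    ∃ R ∈ Scheme.fppfPrecoverage S, ∀ ⦃U : Scheme.{u}⦄ (g : U ⟶ S), R g →
      NonAbH1.HasSectionOver E.X (Limits.pullback.snd g π) := by
  have hT : NonAbH1.IsTorsorFor Scheme.fpqcPrecoverage E.act :=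
    ⟨E.isTorsor.1, E.isTorsor.2.imp fun _ hR => ⟨Scheme.fppfPrecoverage_le_fpqcPrecoverage _ hR.1, hR.2⟩⟩
  have : Smooth E.X.hom := Groth.L09.TorsorSch.of_grp @Smooth E.act hT ‹_›
  have : Surjective E.X.hom :=
    Groth.L09.TorsorSch.of_grp @Surjective E.act hT (Groth.L25.Actions.surjective_grp G)
  have key : ∀ V : S.affineOpens, ∃ (W : Scheme.{u}) (v : W ⟶ V.1.toScheme), Etale v ∧ Surjective v ∧
      NonAbH1.HasSectionOver E.X (Limits.pullback.snd (v ≫ V.1.ι) π) := fun V => by
    have : IsAffine V.1.toScheme := V.2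
    let k := pullback.fst V.1.ι π
    have : IsAffine (pullback V.1.ι π) := isAffine_of_isAffineHom k
    obtain ⟨U, g, t, _, _, _, ht⟩ := exists_affine_etale_section
      (pullback.fst (pullback.snd V.1.ι π) E.X.hom)
    obtain ⟨W, v, _, hv, hvs, τ, hτ⟩ := Groth.L23.exists_etale_section k g
    refine ⟨W, v, hv, hvs,
      pullback.lift (pullback.map (v ≫ V.1.ι) π V.1.ι π v (𝟙 _) (𝟙 _) (by simp) (by simp)) (pullback.fst _ _)
        (pullback.lift_fst _ _ _) ≫ τ ≫ t ≫ pullback.snd _ _, ?_⟩
    simp only [Category.assoc, ← pullback.condition, reassoc_of% ht, reassoc_of% hτ]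
    exact (pullback.lift_fst_assoc _ _ _ _).trans ((pullback.lift_snd _ _ _).trans (Category.comp_id _))
  choose W v hv hvs hsec using key
  refine ⟨Presieve.ofArrows W fun V => v V ≫ V.1.ι, ?_, fun U g hg => ?_⟩
  · refine (Scheme.ofArrows_mem_precoverage_iff _).2 ⟨fun s => ?_, fun V => ?_⟩
    · obtain ⟨V, hV, hsV, -⟩ := exists_isAffineOpen_mem_and_subset (X := S) (U := ⊤) (x := s) trivial
      obtain ⟨w, hw⟩ := (v ⟨V, hV⟩).surjective ⟨s, hsV⟩
      exact ⟨⟨V, hV⟩, w, by rw [Scheme.Hom.comp_apply, hw]; rfl⟩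
    · have := hv V
      exact ⟨inferInstance, inferInstance⟩
  · obtain ⟨V⟩ := hg
    exact hsec V

end Groth.Agent.S15870
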