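import Groth.Statements.S7188
import Groth.Agent.L20.DescLocus.Closure
import Groth.Agent.L20.DescLocus.Main

set_option autoImplicit false
universe u
open FlatMor

set_option backward.isDefEq.respectTransparency.types false
namespace Groth.Agent.S7188

open AlgebraicGeometry CategoryTheory Limits in
/-- Let f : X → S be flat, proper and of finite presentation with O_T → (f_T)_* O_{X_T} an isomorphism
for every base change, let E be an invertible O_X-module, and let j : Z → S be the immersion of
finite presentation representing the locus of those T → S over which the pullback of E comes from a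
finite locally free O_T-module. If every geometric fibre of f is an integral scheme, j is a closed
immersion (the locus is a closed subscheme of S). -/
theorem result {X S Z : Scheme.{u}} (f : X ⟶ S) [Flat f] [IsProper f] [LocallyOfFinitePresentation f]
    (hO : ∀ (T : Scheme.{u}) (g : T ⟶ S) (U : T.Opens), IsIso ((pullback.snd f g).app U))
    (E : X.Modules) (hE : PicF.IsInvertible E)
    (j : Z ⟶ S) [IsImmersion j] [LocallyOfFinitePresentation j]
    (hZ : ∀ (T : Scheme.{u}) (g : T ⟶ S), (∃ g' : T ⟶ Z, g' ≫ j = g) ↔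
        ∃ N : T.Modules, FlatMod.IsFinLocFree N ∧
          Nonempty ((Scheme.Modules.pullback (pullback.snd f g)).obj N ≅ (Scheme.Modules.pullback (pullback.fst f g)).obj E))
    (hgeo : ∀ (K : Type u) [Field K] (x : Spec (CommRingCat.of K) ⟶ S), IsIntegral (pullback f x)) :
    IsClosedImmersion j := by
  haveI : GeometricallyIntegral f := ⟨fun K _ x W fst snd h => by
    haveI := hgeo K x
    haveI : Nonempty W := ⟨h.isoPullback.inv (Nonempty.some inferInstance)⟩
    exact isIntegral_of_isOpenImmersion h.isoPullback.hom⟩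
  haveI := Groth.L21.Extend.isQCoh_of_isInvertible hE
  haveI := Groth.L17.PushQCoh.hasInjectiveResolutions X
  let free1 : ∀ W : Scheme.{u}, Coh.structureModule W ≅ FlatMod.freeMod W 1 := fun W =>
    { hom := Limits.Sigma.ι (fun _ : Fin 1 => Coh.structureModule W) 0
      inv := Limits.Sigma.desc fun _ => 𝟙 _
      hom_inv_id := Limits.Sigma.ι_desc _ _
      inv_hom_id := Limits.Sigma.hom_ext _ _ fun b => by
        rw [Subsingleton.elim b 0, Limits.Sigma.ι_desc_assoc, Category.id_comp, Category.comp_id] }
  have htriv : ∀ s ∈ Set.range (fun z => j z),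
      Nonempty (CohIII.fiberMod f E s ≅ Coh.structureModule (f.fiber s)) := by
    rintro _ ⟨z, rfl⟩
    haveI : IsIso (j.residueFieldMap z) := by
      rw [ConcreteCategory.isIso_iff_bijective]
      refine ⟨(j.residueFieldMap z).hom.injective, fun a => ?_⟩
      obtain ⟨b, rfl⟩ := IsLocalRing.residue_surjective a
      obtain ⟨c, rfl⟩ := j.stalkMap_surjective z b
      exact ⟨S.residue _ c, congr(($(Scheme.residue_residueFieldMap j z)) c)⟩
    obtain ⟨N, hN, ⟨e⟩⟩ := (hZ _ (S.fromSpecResidueField (j z))).1
      ⟨Spec.map (inv (j.residueFieldMap z)) ≫ Z.fromSpecResidueField z, by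
        rw [Category.assoc, ← Scheme.Hom.SpecMap_residueFieldMap_fromSpecResidueField, ← Spec.map_comp_assoc,
          IsIso.hom_inv_id, Spec.map_id, Category.id_comp]⟩
    obtain ⟨U, n, hU, ⟨a⟩⟩ := hN default
    have hU' : ∀ t, t ∈ U := fun t => Subsingleton.elim default t ▸ hU
    let k : Spec (S.residueField (j z)) ⟶ (U : Scheme.{u}) := IsOpenImmersion.lift U.ι (𝟙 _) (by
      rintro t -
      exact ⟨⟨t, hU' t⟩, rfl⟩)
    obtain ⟨b⟩ := Groth.L20.DescLocus.nonempty_free_pullback a
      (pullback.snd f (S.fromSpecResidueField (j z)) ≫ k)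
      (show (_ ≫ k) ≫ U.ι = pullback.snd f (S.fromSpecResidueField (j z)) by
        rw [Category.assoc, IsOpenImmersion.lift_fac, Category.comp_id])
    let i : CohIII.fiberMod f E (j z) ≅ FlatMod.freeMod (f.fiber (j z)) n := e.symm ≪≫ b
    obtain ⟨y⟩ : Nonempty (f.fiber (j z)) := by
      haveI : IsIntegral (f.fiber (j z)) := hgeo _ (S.fromSpecResidueField (j z))
      infer_instance
    have hn : 1 = n := by
      refine Groth.L20.DescLocus.rk_unique E (f.fiberι (j z)) y i ?_
      obtain ⟨W, hW, ⟨w⟩⟩ := hE (f.fiberι (j z) y)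
      exact TopologicalSpace.Opens.mem_sSup.2 ⟨W,
        ⟨((Scheme.Modules.restrictFunctorIsoPullback _).app E).symm ≪≫ w ≪≫ free1 _⟩, hW⟩
    subst hn
    exact ⟨i ≪≫ (free1 _).symm⟩
  refine IsClosedImmersion.of_isPreimmersion j (closure_subset_iff_isClosed.1 fun w hw => ?_)
  obtain ⟨θ⟩ := Groth.L20.DescLocus.trivial_on_fibres_of_closure f E hE htriv w hw
  obtain ⟨g', hg'⟩ := (hZ _ (S.fromSpecResidueField w)).2 ⟨Coh.structureModule _,
    Groth.L16.Existence.isFinLocFree_of_isInvertible (Groth.L18.Ample.isInvertible_structureModule _),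
    ⟨Groth.L29.LocFree.pullbackUnitIso _ ≪≫ θ.symm⟩⟩
  refine ⟨g' (IsLocalRing.closedPoint _), ?_⟩
  rw [← Scheme.Hom.comp_apply, hg', Scheme.fromSpecResidueField_apply]


end Groth.Agent.S7188
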