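import Groth.Statements.S19775
import Groth.Agent.L26.KL.Basic
import Groth.Agent.L26.AbDual.Additive

set_option autoImplicit false
universe u
open CategoryTheory MonoidalCategory CartesianMonoidalCategory MonObj GrpObj AlgebraicGeometry
open AbVar

namespace Groth.Agent.S19775

open Groth.Agent.AbDualLib Groth.Agent.KLLib

/-- Let X be an abelian variety over a field k (a proper, geometrically integral k-group scheme), (X^t,
φ) a given dual abelian variety of X for the fppf topology (φ sends classes of modules on X ×_k T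
algebraically trivial on the geometric fibres to T-valued points of X^t), L an invertible
O_X-module, and λ : X → X^t the homomorphism φ_L attached to L through φ (the X-valued point of X^t
that φ assigns to the class of an invertible module N on X ×_k X with N ⊗ p_1^*L ⊗ p_2^*L ≅ m^*L, a
Mumford module of L). Let i : K → X be a closed immersion exhibiting K as K(L) (the maximal closed
subscheme over which the Mumford bundle, restricted to X ×_k K, is the inverse image of an
invertible module on K, with its universal property). Then K(L) is the kernel of φ_L: the square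
with sides i, K → Spec k, λ and the unit Spec k → X^t is cartesian. (The published statement makes
this assertion for L ample, together with φ_L being an isogeny and the dimension count for the dual;
the kernel identification is the translation description of the points of K(L) read through the
Picard functor and holds for every invertible L, as stated here; the isogeny and dimension
assertions are not part of this row.) -/
theorem result (k : Type u) [Field k] (X Xt : Over (Spec (CommRingCat.of k)))
    [GrpObj X] [IsProper X.hom] [GeometricallyIntegral X.hom]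
    [GrpObj Xt] [IsProper Xt.hom] [GeometricallyIntegral Xt.hom]
    (φ : ∀ T : Over (Spec (CommRingCat.of k)), PicF.Cl (PicF.XT X.hom T) → (T ⟶ Xt))
    (hφ : AbDual.IsDualAV Scheme.fppfPrecoverage X Xt φ)
    (L : X.left.Modules) (hL : PicF.IsInvertible L) (lam : X ⟶ Xt) (hlam : AgPol.IsLambda X Xt φ L lam)
    (K : Over (Spec (CommRingCat.of k))) (i : K ⟶ X) (hK : ThetaGrp.IsKL X L i) :
    AlgGrp.IsKernel i lam := by
  obtain ⟨N, hN, ⟨ψ⟩, hφN⟩ := hlam
  have hc : PicF.IsInvertibleCl (PicF.cl L) := ⟨L, rfl, hL⟩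
  have h1 := pullCl_unit_eq_one hc
  have hNc : PicGrp.mulCl (PicGrp.mulCl (PicF.cl N) (PicF.pullCl (fst X X).left (PicF.cl L)))
      (PicF.pullCl (snd X X).left (PicF.cl L)) = PicF.pullCl μ[X].left (PicF.cl L) :=
    (PicGrp.cl_eq_cl_iff _ _).2 ⟨ψ⟩
  have hNz : ∀ {T : Over (Spec (CommRingCat.of k))} (z : T ⟶ X),
      PicGrp.mulCl (PicGrp.mulCl (PicF.pullCl (X ◁ z).left (PicF.cl N)) (PicF.pullCl (fst X T).left (PicF.cl L)))
        (PicF.pullCl (snd X T ≫ z).left (PicF.cl L)) = PicF.pullCl (fst X T * (snd X T ≫ z)).left (PicF.cl L) := by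
    intro T z
    have h := congrArg (PicF.pullCl (X ◁ z).left) hNc
    rw [pullCl_mulCl, pullCl_mulCl] at h
    erw [pullCl_left_comp (X ◁ z) (fst X X), pullCl_left_comp (X ◁ z) (snd X X), pullCl_left_comp (X ◁ z) μ[X]] at h
    rwa [whiskerLeft_fst, whiskerLeft_snd, whiskerLeft_comp_mul] at h
  have hcancel : ∀ {T : Over (Spec (CommRingCat.of k))} (z : T ⟶ X),
      Groth.Agent.KLLib.Inv (PicF.cl L) z ↔ PicF.pullCl (PicF.XTmap X.hom z) (PicF.cl N) = oneCl _ := by
    intro T z
    rw [XTmap_eq_whiskerLeft, Groth.Agent.KLLib.Inv, ← hNz z, mulCl_assoc]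
    constructor
    · intro h
      refine mulCl_right_cancel (PicLoc.isInvertibleCl_pullCl _ ⟨N, rfl, hN⟩)
        ⟨_, rfl, Groth.L18.Ample.isInvertible_structureModule _⟩
        (isInvertibleCl_mulCl (PicLoc.isInvertibleCl_pullCl _ hc) (PicLoc.isInvertibleCl_pullCl _ hc))
        (h.trans (oneCl_mul _).symm)
    · intro h
      rw [h]
      exact oneCl_mul _
  haveI : GeometricallyConnected X.hom := inferInstance
  have hN0 : AbDual.IsPicZeroCl X.hom X (PicF.cl N) :=
    isPicZeroCl_of_slice X X η[X] ⟨N, rfl, hN⟩ ((hcancel η[X]).1 (by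
      rw [show η[X] = (1 : _ ⟶ X) by rw [Hom.one_def, toUnit_unit, Category.id_comp]]
      exact inv_one h1))
  haveI : IsLocallyNoetherian (Spec (CommRingCat.of k)) := inferInstance
  haveI : Flat X.hom := inferInstance
  haveI : Surjective X.hom := inferInstance
  have key : ∀ {T : Over (Spec (CommRingCat.of k))} (z : T ⟶ X), z ≫ lam = 1 ↔ ∃ y : T ⟶ K, y ≫ i = z := by
    intro T z
    rw [factors_iff L hL h1 hK, hcancel, ← hφN, ← hφ.relPic.natural X T z _ hN0]
    refine ⟨fun h => ?_, fun h => by rw [h, map_oneCl hφ]⟩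
    have hp := isPicZeroCl_XTmap X.hom z hN0
    obtain ⟨R, hR, hloc⟩ := hφ.relPic.locallyInjective T _ _ hp (isPicZeroCl_oneCl X.hom T)
      (h.trans (map_oneCl hφ T).symm)
    refine cl_eq_of_cover X.hom η[X].left (Over.w η[X]) hR
      (fun T' _ _ => surjective_appTop_XTproj' X.hom (fun s => Groth.Agent.AV.fibConst_of_geometrically X.hom s)
        η[X].left (Over.w η[X]) T')
      (isInvertibleCl_of_isPicZeroCl hp) (isInvertibleCl_of_isPicZeroCl (isPicZeroCl_oneCl X.hom T)) ?_ hloc
    rw [pullCl_oneCl, secT_eq_lift, XTmap_eq_whiskerLeft]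
    erw [pullCl_left_comp (lift (toUnit T ≫ η[X]) (𝟙 T)) (X ◁ z)]
    have hz := congrArg (PicF.pullCl (lift (toUnit T ≫ η[X]) (𝟙 T)).left) (hNz z)
    rw [pullCl_mulCl, pullCl_mulCl] at hz
    erw [pullCl_left_comp (lift (toUnit T ≫ η[X]) (𝟙 T)) (X ◁ z),
      pullCl_left_comp (lift (toUnit T ≫ η[X]) (𝟙 T)) (fst X T),
      pullCl_left_comp (lift (toUnit T ≫ η[X]) (𝟙 T)) (snd X T ≫ z),
      pullCl_left_comp (lift (toUnit T ≫ η[X]) (𝟙 T)) (fst X T * (snd X T ≫ z))] at hz
    rw [MonObj.comp_mul, lift_fst, lift_snd_assoc, Category.id_comp, ← Hom.one_def, _root_.one_mul, pullCl_one h1,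
      mul_oneCl] at hz
    exact mulCl_right_cancel (PicLoc.isInvertibleCl_pullCl _ ⟨N, rfl, hN⟩)
      ⟨_, rfl, Groth.L18.Ample.isInvertible_structureModule _⟩ (PicLoc.isInvertibleCl_pullCl z.left hc)
      (hz.trans (oneCl_mul _).symm)
  haveI : Mono i := (Over.forget _).mono_of_mono_map (haveI := hK.closed; inferInstanceAs (Mono i.left))
  have hi : i ≫ lam = toUnit K ≫ η[Xt] := by
    rw [(key i).2 ⟨𝟙 K, Category.id_comp i⟩, Hom.one_def]
  have hs : ∀ s : Limits.PullbackCone lam η[Xt], ∃ y : s.pt ⟶ K, y ≫ i = s.fst := fun s => (key s.fst).1 (by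
    rw [s.condition, Hom.one_def]
    congr 1
    exact toUnit_unique _ _)
  choose l hl using hs
  refine IsPullback.of_isLimit (c := Limits.PullbackCone.mk i (toUnit K) hi) (Limits.PullbackCone.IsLimit.mk _
    l hl (fun s => toUnit_unique _ _) fun s m h _ => ?_)
  rw [← cancel_mono i, h, hl]

end Groth.Agent.S19775
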