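import Groth.Statements.S19945
import Groth.Agent.L26.KL.Theta

set_option autoImplicit false
universe u
open CategoryTheory MonoidalCategory CartesianMonoidalCategory MonObj GrpObj AlgebraicGeometry
open ThetaGrp

namespace Groth.Agent.S19945

open Groth.Agent.AbDualLib Groth.Agent.KLLib
open CategoryTheory.Pseudofunctor

/-- Let X be an abelian variety over a field k (a proper, geometrically integral, commutative k-group
scheme), L an invertible O_X-module and i : K → X a closed immersion exhibiting K as K(L), the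
maximal closed subscheme of X over which the Mumford bundle m^*L ⊗ p_1^*L⁻¹ ⊗ p_2^*L⁻¹, restricted
to X ×_k K, is the inverse image of an invertible module on K, with its universal property for
morphisms T → X. For a k-scheme T and a T-valued point x of X, the following are equivalent: x
factors through i; every point of T has an open neighbourhood U over which some point of the theta
group G(L)(U) lies over the restriction of x, that is, there is an isomorphism L_U ≅ t_x^*L_U of
modules on X ×_k U. In other words the map G(L) → X, (x, φ) ↦ x, has image the subfunctor K(L),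
surjectively for the Zariski topology. -/
theorem result (k : Type u) [Field k]
    (A : Over (Spec (CommRingCat.of k))) [GrpObj A] [IsCommMonObj A] [IsProper A.hom] [GeometricallyIntegral A.hom]
    (L : A.left.Modules) (hL : PicF.IsInvertible L)
    (K : Over (Spec (CommRingCat.of k))) (iK : K ⟶ A) (hK : ThetaGrp.IsKL A L iK)
    (T : Over (Spec (CommRingCat.of k))) (x : T ⟶ A) :
    (∃ y : T ⟶ K, y ≫ iK = x) ↔
      ∀ t : ↥T.left, ∃ U : T.left.Opens, t ∈ U ∧
        ∃ β : ThetaGrp.thetaPts A L (Over.mk (U.ι ≫ T.hom)),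
          ThetaGrp.IsOverPt β ((Over.homMk U.ι rfl : Over.mk (U.ι ≫ T.hom) ⟶ T) ≫ x) := by
  have hc : PicF.IsInvertibleCl (PicF.cl L) := ⟨L, rfl, hL⟩
  have h1 := pullCl_unit_eq_one hc
  rw [factors_iff L hL h1 hK]
  have hiso : ∀ {T' : Over (Spec (CommRingCat.of k))} (z : T' ⟶ A) (β : ThetaGrp.thetaPts A L T'),
      ThetaGrp.IsOverPt β z → PicF.pullCl (fst A T' * (snd A T' ≫ z)).left (PicF.cl L) =
        PicF.pullCl (fst A T').left (PicF.cl L) := by
    intro T' z β hβ
    exact cl_eq_of_isOverPt β hβ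
  constructor
  · intro h t
    obtain ⟨M, hM, hMinv⟩ := PicLoc.isInvertibleCl_pullCl x.left hc
    obtain ⟨U, htU, ⟨ψ⟩⟩ := hMinv t
    refine ⟨U, htU, ?_⟩
    let j : Over.mk (U.ι ≫ T.hom) ⟶ T := Over.homMk U.ι rfl
    have hz : PicF.pullCl (j ≫ x).left (PicF.cl L) = oneCl _ := by
      rw [Over.comp_left, PicLoc.pullCl_comp, ← hM]
      exact (PicGrp.cl_eq_cl_iff _ _).2 ⟨((Scheme.Modules.restrictFunctorIsoPullback U.ι).app M).symm ≪≫ ψ⟩
    have e : PicF.pullCl (ThetaGrp.transl A (j ≫ x) ≫ fst A _).left (PicF.cl L) =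
        PicF.pullCl (fst A (Over.mk (U.ι ≫ T.hom))).left (PicF.cl L) := by
      rw [ThetaGrp.transl_fst, ← Category.assoc, h.at (fst A _) (snd A _ ≫ j), Category.assoc]
      refine (congrArg (PicGrp.mulCl _) ?_).trans (mul_oneCl _)
      rw [Over.comp_left, PicLoc.pullCl_comp, hz]
      exact pullCl_oneCl _
    rw [ThetaGrp.transl_fst] at e
    exact exists_isOverPt e
  · intro h
    choose U htU β hβ using h
    haveI : IsLocallyNoetherian (Spec (CommRingCat.of k)) := inferInstance
    haveI : Flat A.hom := inferInstance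
    haveI : Surjective A.hom := inferInstance
    have hR : (Presieve.ofArrows (fun t : ↥T.left => ((U t : T.left.Opens) : Scheme.{u})) fun t => (U t).ι) ∈
        Scheme.fppfPrecoverage T.left :=
      Scheme.zariskiPrecoverage_le_fppfPrecoverage _ ((Scheme.ofArrows_mem_precoverage_iff _).2
        ⟨fun t => ⟨t, ⟨t, htU t⟩, rfl⟩, fun t => inferInstance⟩)
    refine cl_eq_of_cover A.hom η[A].left (Over.w η[A]) (T := T) hR
      (fun T' _ _ => surjective_appTop_XTproj' A.hom (fun s => Groth.Agent.AV.fibConst_of_geometrically A.hom s)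
        η[A].left (Over.w η[A]) T') (PicLoc.isInvertibleCl_pullCl _ hc)
      (isInvertibleCl_mulCl (PicLoc.isInvertibleCl_pullCl _ hc) (PicLoc.isInvertibleCl_pullCl _ hc)) ?_ ?_
    · rw [pullCl_mulCl, secT_eq_lift]
      erw [pullCl_left_comp (lift (toUnit T ≫ η[A]) (𝟙 T)) (fst A T * (snd A T ≫ x)),
        pullCl_left_comp (lift (toUnit T ≫ η[A]) (𝟙 T)) (fst A T),
        pullCl_left_comp (lift (toUnit T ≫ η[A]) (𝟙 T)) (snd A T ≫ x)]
      rw [MonObj.comp_mul, lift_fst, lift_snd_assoc, Category.id_comp, ← Hom.one_def, _root_.one_mul,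
        pullCl_one h1, oneCl_mul]
    · rintro _ _ ⟨t⟩
      let j : Over.mk ((U t).ι ≫ T.hom) ⟶ T := Over.homMk (U t).ι rfl
      have e := hiso (j ≫ x) (β t) (hβ t)
      have hz : PicF.pullCl (j ≫ x).left (PicF.cl L) = oneCl _ :=
        (eq_pullCl_of_eq h1 (m := oneCl _) (z := j ≫ x) (by rw [pullCl_oneCl, e]; exact mul_oneCl _)).symm
      rw [pullCl_mulCl, XTmap_eq_whiskerLeft]
      erw [pullCl_left_comp (A ◁ j) (fst A T * (snd A T ≫ x)), pullCl_left_comp (A ◁ j) (fst A T),
        pullCl_left_comp (A ◁ j) (snd A T ≫ x)]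
      rw [MonObj.comp_mul, whiskerLeft_fst, whiskerLeft_snd_assoc]
      refine e.trans ((mul_oneCl _).symm.trans (congrArg (PicGrp.mulCl _) ?_))
      rw [Over.comp_left, PicLoc.pullCl_comp, hz]
      exact (pullCl_oneCl _).symm

end Groth.Agent.S19945
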