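import Groth.Statements.S1842
import Groth.Agent.S7788

set_option autoImplicit false
universe u v
open CategoryTheory MonoidalCategory CartesianMonoidalCategory MonObj GrpObj AlgebraicGeometry
open GrpSch

namespace Groth.Agent.S1842
set_option backward.isDefEq.respectTransparency false

/-- Let A be an abelian variety of dimension g over a field (a proper, geometrically integral group
scheme) and d a nonzero integer. Multiplication by d (the d-th power of the identity in the group
Hom(A, A)) is finite and flat, and its rank function is constant with value d^(2g). (The source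
writes no hypothesis on d; d = 0 is excluded here since the constant map is not finite in positive
dimension.) -/
theorem result (K : Type u) [Field K] (A : Over (Spec (CommRingCat.of K))) [GrpObj A] [IsProper A.hom] [GeometricallyIntegral A.hom] (g : ℕ) (hg : topologicalKrullDim A.left = g) (d : ℤ) (hd : d ≠ 0) : IsFinite (𝟙 A ^ d).left ∧ Flat (𝟙 A ^ d).left ∧ ∀ a : A.left, Scheme.Hom.finrank (𝟙 A ^ d).left a = d.natAbs ^ (2 * g) := by
  haveI : LocallyOfFinitePresentation A.hom := inferInstance
  haveI : Flat A.hom := inferInstance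
  have hg' : ∀ s : Spec (CommRingCat.of K), topologicalKrullDim ↥(A.hom.fiber s) = (fun _ => g) s := by
    intro s
    haveI : Surjective (A.hom.fiberι s) := ⟨fun x => by
      have hx : x ∈ Set.range (A.hom.fiberι s) := by
        rw [Scheme.Hom.range_fiberι]
        exact @Subsingleton.elim (PrimeSpectrum K) _ _ _
      exact hx⟩
    have hh : IsHomeomorph (A.hom.fiberι s) :=
      isHomeomorph_iff_isEmbedding_surjective.2 ⟨(A.hom.fiberι s).isEmbedding, (A.hom.fiberι s).surjective⟩
    rw [IsHomeomorph.topologicalKrullDim_eq _ hh, hg]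
  obtain ⟨hf, hfl, -, -⟩ := Groth.Agent.S7788.result A (fun _ => g) hg' d hd
  refine ⟨hf, hfl, fun a => ?_⟩
  rcases Int.natAbs_eq d with e | e
  · rw [show (𝟙 A ^ d) = 𝟙 A ^ d.natAbs from (congrArg (𝟙 A ^ ·) e).trans (zpow_natCast _ _)]
    exact Groth.Agent.AV.Degree.finrank_pow (Int.natAbs_pos.2 hd) hg a
  · have hι : (𝟙 A)⁻¹ ≫ (𝟙 A)⁻¹ = 𝟙 A := by simp [GrpObj.comp_inv]
    haveI : IsIso (𝟙 A)⁻¹ := ⟨⟨(𝟙 A)⁻¹, hι, hι⟩⟩
    haveI : IsIso ((𝟙 A)⁻¹ : A ⟶ A).left := inferInstanceAs (IsIso ((Over.forget _).map (𝟙 A)⁻¹))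
    haveI : IsCommMonObj A := Groth.Agent.AV.isCommMonObj_base A
    haveI := (Groth.Agent.S7788.result A (fun _ => g) hg' (d.natAbs : ℤ) (by simpa using hd)).1
    rw [zpow_natCast] at this
    haveI := (Groth.Agent.S7788.result A (fun _ => g) hg' (d.natAbs : ℤ) (by simpa using hd)).2.1
    rw [zpow_natCast] at this
    have hneg : (𝟙 A ^ d).left = ((𝟙 A)⁻¹ : A ⟶ A).left ≫ (𝟙 A ^ d.natAbs).left := by
      conv_lhs => rw [e, zpow_neg, zpow_natCast]
      rw [← Over.comp_left, MonObj.comp_pow, Category.comp_id, inv_pow]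
    rw [hneg, Scheme.Hom.finrank_comp_left_of_isIso]
    exact Groth.Agent.AV.Degree.finrank_pow (Int.natAbs_pos.2 hd) hg _

end Groth.Agent.S1842
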