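import Groth.Statements.S1843
import Groth.Agent.L08.PRankBound
import Groth.Agent.L08.MulEtaleBC
import Groth.Agent.L22.Cyc.FieldExt

set_option autoImplicit false
set_option maxSynthPendingDepth 3
universe u v
open CategoryTheory MonoidalCategory CartesianMonoidalCategory MonObj GrpObj AlgebraicGeometry
open GrpSch

namespace Groth.Agent.S1843

open Limits Groth.L25.GrpDeriv

theorem smooth_hom {L : Type u} [Field L] (G : Over (Spec (CommRingCat.of L))) [GrpObj G] [IsProper G.hom]
    [GeometricallyIntegral G.hom] : Smooth G.hom :=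
  haveI : GrpObj (Over.mk G.hom) := inferInstanceAs (GrpObj G)
  smooth_of_grpObj G.hom

theorem isClosed_one {L : Type u} [Field L] [IsAlgClosed L] (G : Over (Spec (CommRingCat.of L))) [GrpObj G]
    [LocallyOfFiniteType G.hom] : IsClosed ({Groth.L25.Component.one G} : Set G.left) :=
  ((pointEquivClosedPoint G.hom) ⟨(η[G]).left, Over.w η[G]⟩).2

/-- A point mapped to the identity by an endomorphism with finite underlying morphism is rational. -/
theorem exists_rational {L : Type u} [Field L] [IsAlgClosed L] (G : Over (Spec (CommRingCat.of L))) [GrpObj G]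
    [LocallyOfFiniteType G.hom] (f : G ⟶ G) [IsFinite f.left] (z : G.left)
    (hz : f.left z = Groth.L25.Component.one G) :
    ∃ x : sp (K := L) L ⟶ G, x ≫ f = 1 ∧ x.left (IsLocalRing.closedPoint L) = z := by
  have hid : Spec.map (CommRingCat.ofHom (algebraMap L L)) = 𝟙 (Spec (CommRingCat.of L)) := by
    rw [Algebra.algebraMap_self, CommRingCat.ofHom_id, Spec.map_id]
  have hcz : IsClosed ({z} : Set G.left) := by
    have hd := f.left.isDiscrete_preimage_singleton (Groth.L25.Component.one G)
    have hc : IsClosed (f.left ⁻¹' {Groth.L25.Component.one G}) :=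
      (isClosed_one G).preimage f.left.continuous
    refine closure_subset_iff_isClosed.1 fun w hw => ?_
    have hw' : w ∈ f.left ⁻¹' {Groth.L25.Component.one G} :=
      hc.closure_subset_iff.2 (Set.singleton_subset_iff.2 hz) hw
    obtain ⟨U, hU, hUw⟩ := isDiscrete_iff_forall_exists_isOpen.1 hd w hw'
    obtain ⟨y, hyU, rfl⟩ := mem_closure_iff.1 hw U hU (hUw.ge rfl).1
    exact (hUw.le ⟨hyU, hz⟩).symm
  let q := (pointEquivClosedPoint G.hom).symm ⟨z, hcz⟩
  have hq : q.1 (IsLocalRing.closedPoint L) = z :=
    congrArg Subtype.val ((pointEquivClosedPoint G.hom).apply_symm_apply ⟨z, hcz⟩)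
  refine ⟨Over.homMk q.1 (q.2.trans hid.symm), Over.OverMorphism.ext ?_, hq⟩
  refine ext_of_apply_closedPoint_eq G.hom ((Over.w _).trans hid) ((Over.w _).trans hid) ?_
  exact ((congrArg f.left hq).trans hz).trans (Groth.L25.Translate.one_left_apply (T := sp (K := L) L) _).symm

/-- Let A be an abelian variety of dimension g over a field of characteristic p > 0. The set of points
of A mapped to the identity point by multiplication by p has at most p^g elements. -/
theorem result (K : Type u) [Field K] (p : ℕ) [Fact p.Prime] [CharP K p] (A : Over (Spec (CommRingCat.of K))) [GrpObj A] [IsProper A.hom] [GeometricallyIntegral A.hom] (g : ℕ) (hg : topologicalKrullDim A.left = g) : Set.encard {a : A.left | (𝟙 A ^ p).left a = η[A].left (IsLocalRing.closedPoint K)} ≤ (p ^ g : ℕ) := by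
  classical
  let L := AlgebraicClosure K
  haveI : CharP L p := charP_of_injective_algebraMap (algebraMap K L).injective p
  let ψ : CommRingCat.of K ⟶ CommRingCat.of L := CommRingCat.ofHom (algebraMap K L)
  let t := Spec.map ψ
  let G : Over (Spec (CommRingCat.of L)) := (Over.pullback t).obj A
  letI : GrpObj G := Functor.grpObjObj
  haveI : IsProper G.hom := inferInstanceAs (IsProper (pullback.snd A.hom t))
  haveI : GeometricallyIntegral G.hom := inferInstanceAs (GeometricallyIntegral (pullback.snd A.hom t))
  haveI : IsCommMonObj G := isCommMonObj_of_isProper_of_geometricallyIntegral G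
  haveI : Smooth G.hom := smooth_hom G
  let π : G.left ⟶ A.left := pullback.fst A.hom t
  haveI : Surjective t := ⟨fun _ => ⟨IsLocalRing.closedPoint L, Subsingleton.elim (α := PrimeSpectrum K) _ _⟩⟩
  haveI : Surjective π := MorphismProperty.pullback_fst A.hom t ‹Surjective t›
  have hgG : topologicalKrullDim G.left = g := by
    haveI : IrreducibleSpace G.left := GeometricallyIrreducible.irreducibleSpace_of_subsingleton G.hom
    have hcl : closure ({genericPoint G.left} : Set G.left) = Set.univ := genericPoint_spec G.left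
    have hmax : ∀ w, w ⤳ genericPoint G.left → w = genericPoint G.left := fun w hw =>
      (hw.antisymm ((genericPoint_spec G.left).specializes trivial)).eq
    have hcl' : closure ({π (genericPoint G.left)} : Set A.left) = Set.univ := by
      refine Set.eq_univ_of_forall fun a => ?_
      obtain ⟨z, rfl⟩ := π.surjective a
      exact (((genericPoint_spec G.left).specializes (trivial : z ∈ _)).map π.continuous).mem_closure
    have h := Groth.L22.Cyc.dim_closure_baseChange K L A.hom ψ G.hom π (IsPullback.of_hasPullback A.hom t)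
      hmax (n := g) (by
        rw [hcl', (Homeomorph.Set.univ A.left).isHomeomorph.topologicalKrullDim_eq, hg])
    rwa [hcl, (Homeomorph.Set.univ G.left).isHomeomorph.topologicalKrullDim_eq] at h
  -- the square of multiplication by `p`
  have hF : (Over.pullback t).map (𝟙 A ^ (p : ℤ)) = 𝟙 G ^ (p : ℤ) := Groth.L08.MulEtale.map_pow_eq t A p
  have sq := Groth.L08.MulEtale.isPullback_map t (𝟙 A ^ (p : ℤ))
  rw [hF] at sq
  have hone : π (Groth.L25.Component.one G) = Groth.L25.Component.one A := by
    have h1 : (Over.pullback t).map (1 : A ⟶ A) = (1 : G ⟶ G) := map_one (Over.pullback t).homMonoidHom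
    have sq1 := (Groth.L08.MulEtale.isPullback_map t (1 : A ⟶ A)).w
    rw [h1] at sq1
    have := congrArg (fun f : G.left ⟶ A.left => f (Groth.L25.Component.one G)) sq1
    exact ((congrArg π (Groth.L25.Translate.one_left_apply _)).symm.trans this).trans
      (Groth.L25.Translate.one_left_apply _)
  obtain ⟨hfin, -, -⟩ := Groth.Agent.S1842.result L G g hgG (p : ℤ)
    (by exact_mod_cast (Fact.out : p.Prime).ne_zero)
  haveI : IsFinite (𝟙 G ^ (p : ℤ)).left := hfin
  have key : ∀ a : A.left, (𝟙 A ^ p).left a = η[A].left (IsLocalRing.closedPoint K) →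
      ∃ x : sp (K := L) L ⟶ G, x ≫ (𝟙 G ^ (p : ℤ)) = 1 ∧ π (x.left (IsLocalRing.closedPoint L)) = a := by
    intro a ha
    obtain ⟨z, hz1, hz2⟩ := Scheme.exists_preimage_of_isPullback sq (Groth.L25.Component.one G) a (by
      rw [zpow_natCast]
      exact hone.trans ha.symm)
    obtain ⟨x, hx, hxz⟩ := exists_rational G (𝟙 G ^ (p : ℤ)) z hz1
    exact ⟨x, hx, (congrArg π hxz).trans hz2⟩
  choose! x hx hxa using key
  by_contra hlt
  rw [not_le] at hlt
  have hlt' : ((p ^ g + 1 : ℕ) : ℕ∞) ≤ Set.encard {a : A.left | (𝟙 A ^ p).left a = η[A].left (IsLocalRing.closedPoint K)} := by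
    rw [Nat.cast_add, Nat.cast_one]
    exact Order.add_one_le_of_lt hlt
  obtain ⟨T, hT, hTc⟩ := Set.exists_subset_encard_eq hlt'
  have hTfin : T.Finite := Set.finite_of_encard_eq_coe hTc
  have hcard : hTfin.toFinset.card = p ^ g + 1 := by
    rw [hTfin.encard_eq_coe_toFinset_card] at hTc
    exact_mod_cast hTc
  have := Groth.L08.PRankBound.card_le hgG (hTfin.toFinset.image x) (by
    intro y hy
    obtain ⟨a, ha, rfl⟩ := Finset.mem_image.1 hy
    exact hx a (hT (hTfin.mem_toFinset.1 ha)))
  rw [Finset.card_image_of_injOn (fun a ha b hb hab => by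
    have ha' := hxa a (hT (hTfin.mem_toFinset.1 ha))
    have hb' := hxa b (hT (hTfin.mem_toFinset.1 hb))
    rw [← ha', hab, hb']), hcard] at this
  omega

end Groth.Agent.S1843
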