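import Groth.Statements.S19949
import Groth.Agent.L26.Theta.Kernel

set_option autoImplicit false
universe u
open CategoryTheory MonoidalCategory CartesianMonoidalCategory MonObj GrpObj AlgebraicGeometry
open ThetaGrp

namespace Groth.Agent.S19949

open MonoidalCategory CartesianMonoidalCategory MonObj GrpObj
open Groth.Agent.ThetaPts Groth.Agent.ThetaPairing Groth.Agent.ThetaPull

/-- Let f : X → Y be a surjective homomorphism of abelian varieties over a field k (proper,
geometrically integral, commutative k-group schemes), i : N → X its kernel (a homomorphism forming a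
cartesian square with the unit section of Y), M an invertible O_Y-module and L = f^*M. Let i_L : K_L
→ X and i_M : K_M → Y be closed immersions exhibiting K_L as K(L) and K_M as K(M): the maximal
closed subschemes over which the Mumford bundles of L, resp. M, restricted to X ×_k K_L, resp. Y ×_k
K_M, are inverse images of invertible modules on K_L, resp. K_M, with their universal properties.
Then f⁻¹(K(M)) = Ker(f)^⊥ inside K(L): for a k-scheme T and a T-valued point x of X, the point f(x)
factors through i_M if and only if x factors through i_L and x is orthogonal to N for the commutator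
pairing e_L, meaning that after every base change T' → T every point of G(L)(T') lying over the
translation by x commutes with every point lying over the translation by a point of N. (In
particular every point x with f(x) in K(M) lies in K(f^*M). The source's further identifications of
G(M) with the centralizer of the level subgroup modulo it, and of K(M) with Ker(f)^⊥/Ker(f), are not
part of this statement.) -/
theorem result (k : Type u) [Field k]
    (A : Over (Spec (CommRingCat.of k))) [GrpObj A] [IsCommMonObj A] [IsProper A.hom] [GeometricallyIntegral A.hom]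
    (B : Over (Spec (CommRingCat.of k))) [GrpObj B] [IsCommMonObj B] [IsProper B.hom] [GeometricallyIntegral B.hom]
    (f : A ⟶ B) [IsMonHom f] (hf : Surjective f.left)
    (N : Over (Spec (CommRingCat.of k))) [GrpObj N] (i : N ⟶ A) [IsMonHom i] (hN : AlgGrp.IsKernel i f)
    (M : B.left.Modules) (hM : PicF.IsInvertible M)
    (KL : Over (Spec (CommRingCat.of k))) (iL : KL ⟶ A)
    (hKL : ThetaGrp.IsKL A ((Scheme.Modules.pullback f.left).obj M) iL)
    (KM : Over (Spec (CommRingCat.of k))) (iM : KM ⟶ B) (hKM : ThetaGrp.IsKL B M iM)
    (T : Over (Spec (CommRingCat.of k))) (x : T ⟶ A) :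
    (∃ y : T ⟶ KM, y ≫ iM = x ≫ f) ↔
      ((∃ y : T ⟶ KL, y ≫ iL = x) ∧ ThetaGrp.IsPerpPt ((Scheme.Modules.pullback f.left).obj M) i x) := by
  let L := (Scheme.Modules.pullback f.left).obj M
  have hL : PicF.IsInvertible L := Groth.L18.Ample.isInvertible_pullback f.left hM
  let e : (Scheme.Modules.pullback f.left).obj M ≅ L := Iso.refl _
  have hA := fun T => ThetaAV.bijective_snd (A := A) T
  have hB := fun T => ThetaAV.bijective_snd (A := B) T
  rw [ThetaAV.locLift_iff M hM iM hKM, ThetaAV.locLift_iff L hL iL hKL]
  constructor
  · intro h
    exact ⟨locLift_of_comp f e h,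
      isPerpPt_of_locLift f e hA hB hL hM (fun _ y => ThetaAV.comp_kernel_eq_one hN y) h⟩
  · rintro ⟨h, hperp⟩ t
    obtain ⟨U, htU, α, hα⟩ := h t
    obtain ⟨_, _⟩ := ThetaAV.flat_lfp (f := f) hf
    obtain ⟨β, hβ⟩ := exists_descend f hf hM e hN hα fun T' g y β₁ β₂ h₁ h₂ =>
      hperp T' (g ≫ opnι T U) y β₁ β₂ (by rw [Category.assoc]; exact h₁) h₂
    exact ⟨U, htU, β, by rw [← Category.assoc]; exact hβ⟩

end Groth.Agent.S19949
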