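import Groth.Statements.S5429
import Groth.Agent.L01.UnipSplit.Conj
import Groth.Agent.L08.CartierRed

set_option autoImplicit false
universe u
open TensorProduct
open SGA3

namespace Groth.Agent.S5429

/-- Hopf form: let k be an algebraically closed field, A a finitely generated commutative Hopf algebra
(an algebraic group E), ψ : B → A an injective bialgebra map from a diagonalizable finitely
generated Hopf algebra B (the quotient H of multiplicative type), J the Hopf ideal generated by the
image of the augmentation ideal of B (the kernel U), with U = Spec (A/J) unipotent in the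
fixed-vector sense. Suppose H is smooth (B reduced) or U is smooth (A/J reduced). If r′, r″ : A → B
are two bialgebra retractions of ψ (two liftings H′, H″ of H in E), then there is a k-point u of E
lying in U (an algebra map u : A → k killing J) such that r″ = u · r′ · u⁻¹ as points of E with
values in B (triple convolution of u, r′ and u composed with the antipode). -/
theorem result (k : Type u) [Field k] [IsAlgClosed k] (A B : Type u) [CommRing A] [HopfAlgebra k A] [Algebra.FiniteType k A] [CommRing B] [HopfAlgebra k B]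
    [Algebra.FiniteType k B] (hB : SGA3b.IsDiag k B) (ψ : B →ₐc[k] A) (hψ : Function.Injective ψ)
    (J : Ideal A) [J.IsHopfIdeal k] (hJ : J = Ideal.map (ψ : B →+* A) (RingHom.ker (Bialgebra.counitAlgHom k B)))
    (hU : HopfRep.IsUnipotent k (A ⧸ J))
    (hsm : IsReduced B ∨ IsReduced (A ⧸ J)) (r' r'' : A →ₐc[k] B)
    (hr' : r'.comp ψ = BialgHom.id k B) (hr'' : r''.comp ψ = BialgHom.id k B) :
    ∃ u : A →ₐ[k] k, (∀ a ∈ J, u a = 0) ∧
      (r'' : A →ₐ[k] B) = Dyn.conv3 k A ((Algebra.ofId k B).comp u) (r' : A →ₐ[k] B)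
        (((Algebra.ofId k B).comp u).comp (HopfAlgebra.antipodeAlgHom k A)) := by
  obtain ⟨M, _, ⟨e⟩⟩ := hB
  let d := Groth.L01.UnipSplit.GLBasis.ofEquiv e
  have hsec : ∀ r : A →ₐc[k] B, r.comp ψ = BialgHom.id k B → Groth.L01.UnipSplit.IsSection ψ (r : A →ₐ[k] B) := by
    intro r hr
    exact ⟨fun R _ _ x y => Groth.L01.UnipSplit.pre_mul r x y, fun b => congrArg (fun f : B →ₐc[k] B => f b) hr⟩
  have hbot : (⊥ : Ideal A).IsHopfIdeal k := by
    refine { toIsCoideal := ⟨fun x hx => ?_, fun x hx => ?_⟩, antipode_mem := fun x hx => ?_ }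
    · rw [(Submodule.mem_bot _).1 hx, map_zero]
    · rw [(Submodule.mem_bot _).1 hx, map_zero, map_zero]
    · rw [Ideal.mem_bot.1 hx, map_zero]; exact zero_mem _
  have hcond : Groth.L01.UnipSplit.SmoothCond k B (A ⧸ ((⊥ : Ideal A) ⊔ J)) := by
    by_cases h0 : IsReduced B
    · exact Or.inl h0
    haveI : IsReduced (A ⧸ J) := hsm.resolve_left h0
    haveI : Algebra.FiniteType k (A ⧸ J) :=
      Algebra.FiniteType.of_surjective (Ideal.Quotient.mkₐ k J) Ideal.Quotient.mk_surjective
    haveI := Groth.L01.SmoothKer.formallySmooth_of_isReduced (k := k) (U := A ⧸ J)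
    obtain ⟨p, hp⟩ := CharP.exists k
    haveI := hp
    rcases CharP.char_is_prime_or_zero k p with hpp | rfl
    · exact Or.inr ⟨Algebra.FormallySmooth.of_equiv (Ideal.quotientEquivAlgOfEq k (show J = ⊥ ⊔ J by rw [bot_sup_eq])),
        p, hpp, hp⟩
    · haveI := CharP.charP_to_charZero k
      exact absurd (Groth.L08.CartierRed.isReduced_of_charZero (k := k) (A := B)) h0
  obtain ⟨u, hu, he⟩ := Groth.L01.UnipSplit.exists_conj hJ d hU ⊥ hbot
    (eq_bot_iff.2 fun b hb => hψ (hb.trans (map_zero ψ).symm)) hcond _ _ (hsec r' hr') (hsec r'' hr'')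
    (fun a ha => by rw [Ideal.mem_bot.1 ha, map_zero]) (fun a ha => by rw [Ideal.mem_bot.1 ha, map_zero])
  refine ⟨u.ofConv, hu.kills hJ, ?_⟩
  apply WithConv.toConv_injective
  rw [Groth.L08.toConv_conv3]
  exact congrArg WithConv.toConv he

end Groth.Agent.S5429
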