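import Groth.Statements.S14585
import Groth.Agent.L19.SpecSub.LineInUnip
import Groth.Agent.S4141
import Groth.Agent.S8061

set_option autoImplicit false
set_option backward.isDefEq.respectTransparency.types false
universe u
open CategoryTheory MonoidalCategory CartesianMonoidalCategory MonObj GrpObj AlgebraicGeometry CategoryTheory.Limits
open AlgGrp

namespace Groth.Agent.S14585

/-- Let k be an algebraically closed field and G a smooth connected k-group scheme of finite type. Then
G is a semi-abelian variety, i.e. an extension of an abelian variety by a torus (there are a closed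
subgroup scheme i : T → G with T a torus and a flat surjective homomorphism q : G → A with kernel T
onto a proper smooth connected k-group scheme), if and only if every k-morphism from the affine line
to G is constant. (The published statement is over a perfect field with constancy asked of morphisms
defined over k only; over the real numbers the group of quaternions of norm one receives only
constant morphisms from the affine line, by comparing leading coefficients in a sum of four squares
equal to 1, yet it is non-commutative, so not such an extension; the published proof uses root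
subgroups, available over an algebraic closure, so k is taken algebraically closed here.) -/
theorem result (k : Type u) [Field k] [IsAlgClosed k]
    (G : Over (Spec (CommRingCat.of k))) [GrpObj G] [Smooth G.hom] [QuasiCompact G.hom] [ConnectedSpace ↥G.left] :
    (∃ (T : Over (Spec (CommRingCat.of k))) (_ : GrpObj T) (i : T ⟶ G) (A : Over (Spec (CommRingCat.of k))) (_ : GrpObj A) (q : G ⟶ A),
        IsMonHom i ∧ IsClosedImmersion i.left ∧ Red.IsTorus T ∧ IsMonHom q ∧ Surjective q.left ∧ Flat q.left ∧
        AlgGrp.IsKernel i q ∧ IsProper A.hom ∧ Smooth A.hom ∧ ConnectedSpace ↥A.left) ↔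
    ∀ f : Over.mk (𝔸(PUnit.{u + 1}; Spec (CommRingCat.of k)) ↘ Spec (CommRingCat.of k)) ⟶ G, ∃ g : 𝟙_ (Over (Spec (CommRingCat.of k))) ⟶ G, f = toUnit _ ≫ g := by
  let φ : MvPolynomial PUnit.{u + 1} k ≃ₐ[k] Polynomial k := MvPolynomial.pUnitAlgEquiv k
  let eA : Spec (CommRingCat.of (Polynomial k)) ≅ 𝔸(PUnit.{u + 1}; Spec (CommRingCat.of k)) :=
    Scheme.Spec.mapIso φ.toRingEquiv.toCommRingCatIso.op ≪≫ (AffineSpace.SpecIso PUnit.{u + 1} (CommRingCat.of k)).symm
  have heA : eA.hom ≫ (𝔸(PUnit.{u + 1}; Spec (CommRingCat.of k)) ↘ Spec (CommRingCat.of k)) =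
      (Groth.L08.P1Hom.lineK k).hom := by
    show (Spec.map _ ≫ (AffineSpace.SpecIso _ _).inv) ≫ _ = Spec.map _
    rw [Category.assoc, AffineSpace.SpecIso_inv_over, ← Spec.map_comp]
    congr 1
    exact CommRingCat.hom_ext (RingHom.ext fun c => φ.commutes c)
  let e : Groth.L08.P1Hom.lineK k ≅
      Over.mk (𝔸(PUnit.{u + 1}; Spec (CommRingCat.of k)) ↘ Spec (CommRingCat.of k)) := Over.isoMk eA heA
  constructor
  · rintro ⟨T, _, i, A, _, q, hi, _, hT, hq, _, _, hker, hA, _, _⟩ f
    haveI := hi; haveI := hq; haveI := hA
    have h := Groth.L19.SpecSub.const_of_semiabelian i hT q hker (e.hom ≫ f)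
    refine ⟨Groth.L08.P1Hom.lineAt k 0 ≫ e.hom ≫ f, ?_⟩
    refine (cancel_epi e.hom).1 (h.trans ?_)
    rw [← Category.assoc e.hom (toUnit _), Subsingleton.elim (e.hom ≫ toUnit _) (toUnit _)]
  · intro hconst
    obtain ⟨L, _, l, Q, _, q, hl, hlc, hLa, hLs, hLc, -, hq, hqs, hqf, hker, hQp, hQs, hQc, -⟩ :=
      Groth.Agent.S4141.result k G
    haveI := hl; haveI := hlc; haveI := hLa; haveI := hLs; haveI := hLc
    refine ⟨L, inferInstance, l, Q, inferInstance, q, hl, hlc,
      Groth.Agent.S8061.result k L ?_, hq, hqs, hqf, hker, hQp, hQs, hQc⟩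
    intro U _ i _ hic hUs hUc hns
    by_contra hU
    haveI := hic; haveI := hUs; haveI := hUc
    haveI : IsAffine U.left := isAffine_of_isAffineHom i.left
    obtain ⟨f, hf⟩ := Groth.L19.SpecSub.exists_line_of_noSubtorus U hns hU
    apply hf
    haveI : Mono (i ≫ l) := (Over.forget _).mono_of_mono_map (inferInstanceAs (Mono (i.left ≫ l.left)))
    obtain ⟨g, hg⟩ := hconst (e.inv ≫ f ≫ i ≫ l)
    have h2 : f ≫ i ≫ l = toUnit _ ≫ g := by
      rw [← cancel_epi e.inv, hg, ← Category.assoc e.inv, Subsingleton.elim (e.inv ≫ toUnit _) (toUnit _)]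
    rw [← cancel_mono (i ≫ l), Category.assoc, Category.assoc, h2, ← Category.assoc, ← Category.assoc]
    exact congrArg (· ≫ g) (Subsingleton.elim _ _)

end Groth.Agent.S14585
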