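import Groth.Prelude.Def_CAlg
import Groth.Prelude.Def_FlatMod2
import Groth.Prelude.Def_CohB1
import Groth.Prelude.Def_FDesc
import Groth.Prelude.Def_MoreMor
import Groth.Prelude.Def_EGA4b
import Mathlib.AlgebraicGeometry.Morphisms.FinitePresentation
import Mathlib.AlgebraicGeometry.Morphisms.Flat
import Mathlib.AlgebraicGeometry.Morphisms.Proper
import Mathlib.AlgebraicGeometry.Fiber
import Mathlib.AlgebraicGeometry.Geometrically.Reduced
import Mathlib.Topology.KrullDimension
import Mathlib.Topology.LocallyConstant.Basic
import Mathlib.RingTheory.Support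
import Mathlib.RingTheory.KrullDimension.Basic
import Mathlib.RingTheory.IntegralClosure.IntegrallyClosed
import Groth.Agent.L07.GeomRk.Open

set_option autoImplicit false
namespace EGA43
end EGA43
open CategoryTheory AlgebraicGeometry
universe u
open EGA43

namespace Groth.Agent.S5923

/-- Let f : X ⟶ Y be a morphism locally of finite presentation. The set of points x of X such that f is
flat at x and the fibre of f through x is geometrically normal at x over the residue field of f x —
for every finite field extension K of that residue field and every point x' over x of the base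
change of the fibre to K, the local ring at x' is an integrally closed domain — is open in X. In
particular, when f is moreover flat, the set of x at which the fibre through x is geometrically
normal is open. -/
theorem result {X Y : Scheme.{u}} (f : X ⟶ Y) [LocallyOfFinitePresentation f] :
    IsOpen {x : X | (f.stalkMap x).hom.Flat ∧
      ∀ (K : Type u) [Field K] [Algebra (IsLocalRing.ResidueField (Y.presheaf.stalk (f.base x))) K],
        Module.Finite (IsLocalRing.ResidueField (Y.presheaf.stalk (f.base x))) K →
        ∀ x' : ↥(FBase.bc (f.fiberToSpecResidueField (f.base x)) K),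
          (FBase.bcπ (f.fiberToSpecResidueField (f.base x)) K).base x' = f.asFiber x →
          IsDomain ((FBase.bc (f.fiberToSpecResidueField (f.base x)) K).presheaf.stalk x') ∧
            IsIntegrallyClosed ((FBase.bc (f.fiberToSpecResidueField (f.base x)) K).presheaf.stalk x')} := by
  let O : X.Opens := ⟨{y | (f.stalkMap y).hom.Flat}, Groth.L20.isOpen_flat_stalkMap f⟩
  haveI : Flat (O.ι ≫ f) := by
    refine (Flat.iff_flat_stalkMap _).mpr fun y => ?_
    rw [Scheme.Hom.stalkMap_comp]
    exact RingHom.Flat.comp y.2 (RingHom.Flat.of_bijective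
      (ConcreteCategory.bijective_of_isIso (O.ι.stalkMap y)))
  have h2 := O.ι.isOpenEmbedding.isOpenMap _ (Groth.L07.GeomRk.isOpen_normal (O.ι ≫ f))
  refine (congrArg IsOpen ?_).mp h2
  ext x
  constructor
  · rintro ⟨z, hz, rfl⟩
    exact ⟨z.2, (Groth.L07.GeomRk.normal_iff f (O.ι z)
      (fun K _ _ => Module.Finite (Y.residueField (f.base (O.ι z))) K) fun _ _ _ h => h).2
      ((Groth.L07.GeomRk.normal_pair_openImmersion f O.ι z).1 hz)⟩
  · rintro ⟨hx, h⟩
    exact ⟨⟨x, hx⟩, (Groth.L07.GeomRk.normal_pair_openImmersion f O.ι ⟨x, hx⟩).2
      ((Groth.L07.GeomRk.normal_iff f x (fun K _ _ => Module.Finite (Y.residueField (f.base x)) K) fun _ _ _ h => h).1 h),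
      rfl⟩

end Groth.Agent.S5923
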