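import Groth.Statements.S5103
import Groth.Agent.L15.SecOrd
-- import your own Groth.Agent.* helpers here

set_option autoImplicit false
universe u
open CategoryTheory CategoryTheory.Limits AlgebraicGeometry TopologicalSpace
open Div21

namespace Groth.Agent.S5103

/-- For an integral scheme (the canonical homomorphism Pic(X) → Cl(X) to the group of codimension-1
cycle classes is injective): let X be a normal locally Noetherian integral scheme, L an invertible
O_X-module and s a nonzero rational section of L (a nonzero element of the fibre of L at the generic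
point). If the Weil divisor of s is principal — there is a nonzero rational function f whose order
of vanishing at every point of codimension 1 (coheight 1 in the specialization order) equals the
order of s there — then L is isomorphic to O_X. -/
theorem result (X : Scheme.{u}) [IsIntegral X] [IsLocallyNoetherian X]
    (hX : Pi1.IsNormalScheme X) (L : X.Modules) (hL : PicF.IsInvertible L)
    (s : Cyc.secFibre L (genericPoint ↥X)) (hs : s ≠ 0) (f : ↑X.functionField) (hf : f ≠ 0)
    (h : ∀ x : ↥X, Order.coheight x = 1 →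
      Cyc.secOrdAt L (genericPoint ↥X) x (genericPoint_specializes x) s = Scheme.ord f x) :
    Nonempty (L ≅ Coh.structureModule X) := by
  classical
  obtain ⟨v, rfl⟩ := Submodule.mkQ_surjective _ s
  let η := genericPoint ↥X
  let tgt : L.presheaf.stalk η := ((f⁻¹ : X.functionField) : X.presheaf.stalk η) • v
  have hloc : ∀ x : X, ∃ (W : X.Opens) (e : Γ(L, W)) (hηW : η ∈ W), x ∈ W ∧ Groth.L18.Frame.IsFrame L W e ∧
      L.presheaf.germ W η hηW e = tgt := by
    intro x
    obtain ⟨U, e, φ, hηU, he, hxU, hφ, hv⟩ := Groth.L15.SecOrd.exists_frame_coeff hL x _ hs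
    have hv' := (Groth.L15.SecOrd.mk_bijective L).1 hv
    let k : CDiv.KUnits X := Units.mk0 (G₀ := X.functionField) (f⁻¹ * φ) (mul_ne_zero (inv_ne_zero hf) hφ)
    have hk : ∀ z : X, z ⤳ x → Order.coheight z = 1 → Scheme.ord (k : X.functionField) z = 0 := by
      intro z hz hc
      have h1 := h z hc
      rw [hv, Groth.L15.SecOrd.secOrdAt_eq hc _ he (hz.mem_open U.2 hxU) hηU φ hφ] at h1
      have h2 := Scheme.ord_mul (X := X) (x := z) hf (mul_ne_zero (inv_ne_zero hf) hφ)
      rw [mul_inv_cancel_left₀ hf] at h2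
      change Scheme.ord φ z = Scheme.ord f z + Scheme.ord (f⁻¹ * φ) z at h2
      show Scheme.ord (f⁻¹ * φ) z = 0
      omega
    have h1 : CDiv.germOf X x k = 1 := (Groth.L15.CDivLib.germOf_eq_of_ord hX x k 1 fun z hz hc => by
      rw [hk z hz hc, Units.val_one, ← map_one (Groth.L15.CDivLib.am z),
        Groth.L15.CDivLib.ord_eq_zero_of_isUnit isUnit_one]).trans (QuotientGroup.mk_one _)
    obtain ⟨a, hau, ha⟩ := Groth.L15.CDivLib.germOf_eq_one_iff.1 h1
    obtain ⟨V, hxV, c, rfl⟩ := TopCat.Presheaf.exists_germ_eq (F := X.presheaf) (x := x) a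
    let W : X.Opens := X.basicOpen c ⊓ U
    have hxW : x ∈ W := ⟨(X.mem_basicOpen c x hxV).2 hau, hxU⟩
    have hηW : η ∈ W := ((genericPoint_spec ↥X).specializes trivial).mem_open W.2 hxW
    have hcu : IsUnit (Groth.L18.Frame.ro (inf_le_left.trans (X.basicOpen_le c) : W ≤ V) c) := by
      have := (RingedSpace.isUnit_res_basicOpen X.toRingedSpace c).map
        (X.presheaf.map (homOfLE (inf_le_left : W ≤ X.basicOpen c)).op).hom
      rw [← Groth.L18.Frame.ro_ro (X.basicOpen_le c) (inf_le_left : W ≤ X.basicOpen c) c]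
      exact this
    refine ⟨W, _, hηW, hxW, (he.mono inf_le_right).smul_unit hcu, ?_⟩
    rw [Groth.L20.ModStalk.germ_smul, Groth.L20.ModStalk.germ_rs, TopCat.Presheaf.germ_res_apply]
    show _ = ((f⁻¹ : X.functionField) : X.presheaf.stalk η) • v
    rw [hv', smul_smul]
    refine congrArg (· • _) ?_
    rw [← TopCat.Presheaf.germ_stalkSpecializes_apply X.presheaf hxV ((genericPoint_spec ↥X).specializes trivial) c]
    exact ha
  choose W e hηW hxW he hge using hloc
  let OM : TopCat.Sheaf Ab.{u} X.toTopCat := ⟨L.presheaf, L.isSheaf⟩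
  have hcov : (⊤ : X.Opens) ≤ iSup W := fun x _ => Opens.mem_iSup.2 ⟨x, hxW x⟩
  obtain ⟨t, ht, -⟩ := OM.existsUnique_gluing' W ⊤ (fun _ => homOfLE le_top) hcov e fun i j => by
    show Groth.L18.Frame.rs L inf_le_left (e i) = Groth.L18.Frame.rs L inf_le_right (e j)
    have hij : η ∈ W i ⊓ W j := ⟨hηW i, hηW j⟩
    obtain ⟨a, ha⟩ := (he j).exists_coeff (inf_le_right : W i ⊓ W j ≤ W j) (Groth.L18.Frame.rs L inf_le_left (e i))
    have h1 := congrArg (L.presheaf.germ _ η hij) ha
    rw [Groth.L20.ModStalk.germ_smul, Groth.L20.ModStalk.germ_rs, Groth.L20.ModStalk.germ_rs, hge i, ← hge j] at h1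
    have h2 : X.presheaf.germ _ η hij a = 1 :=
      Groth.L15.SecOrd.smul_germ_injective (he j) (hηW j) (h1.trans (one_smul _ _).symm)
    have h3 : a = 1 := germ_injective_of_isIntegral X η hij (h2.trans (map_one _).symm)
    rw [← ha, h3, one_smul]
  have hframe : Groth.L18.Frame.IsFrame L ⊤ t :=
    Groth.L18.Frame.IsFrame.of_cover W (fun _ => le_top) hcov fun i => by
      rw [show Groth.L18.Frame.rs L le_top t = e i from ht i]
      exact he i
  haveI := Groth.L16.isIso_homOfSection L t fun V => hframe V le_top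
  exact ⟨(asIso (Groth.L16.homOfSection L t)).symm⟩

end Groth.Agent.S5103
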