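import Groth.Statements.S10860
import Mathlib.AlgebraicGeometry.ZariskisMainTheorem
-- import your own Groth.Agent.* helpers here

set_option autoImplicit false
universe u
open Mor

namespace Groth.Agent.S10860

open CategoryTheory AlgebraicGeometry in
/-- For a proper morphism f : X → Y, the set V of points of Y with finite fibre is open, and f
restricted over V is finite (stated as the existence of an open subscheme of Y whose underlying set
is exactly V and over which f is finite). -/
theorem result {X Y : Scheme.{u}} (f : X ⟶ Y) [IsProper f] :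
    ∃ U : Y.Opens, (U : Set Y) = {y : Y | (f.base ⁻¹' {y}).Finite} ∧ IsFinite (f ∣_ U) := by
  have key : ∀ y : Y, (f.base ⁻¹' {y}).Finite → ∃ V : Y.Opens, y ∈ V ∧ IsFinite (f ∣_ V) := fun y hy =>
    exists_isFinite_morphismRestrict_of_finite_preimage_singleton f y hy
  have sub : ∀ (V : Y.Opens), IsFinite (f ∣_ V) → ∀ z ∈ V, (f.base ⁻¹' {z}).Finite := by
    intro V hV z hz
    have h := ((f ∣_ V).finite_preimage_singleton ⟨z, hz⟩).image (f ⁻¹ᵁ V).ι
    refine h.subset fun x hx => ?_
    obtain rfl : f x = z := hx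
    exact ⟨⟨x, hz⟩, Subtype.ext (morphismRestrict_base_coe f V ⟨x, hz⟩), rfl⟩
  choose V hyV hV using fun y : {y : Y // (f.base ⁻¹' {y}).Finite} => key y.1 y.2
  refine ⟨⨆ y, V y, ?_, ?_⟩
  · ext z
    simp only [TopologicalSpace.Opens.coe_iSup, Set.mem_iUnion, Set.mem_setOf_eq]
    exact ⟨fun ⟨y, hy⟩ => sub _ (hV y) z hy, fun hz => ⟨⟨z, hz⟩, hyV _⟩⟩
  · refine IsZariskiLocalAtTarget.of_iSup_eq_top (P := @IsFinite) (fun y => (⨆ y, V y).ι ⁻¹ᵁ V y) ?_ fun y => ?_
    · rw [← Scheme.Hom.preimage_iSup, Scheme.Opens.ι_preimage_self]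
    · exact (MorphismProperty.arrow_mk_iso_iff @IsFinite (morphismRestrictRestrict f _ _ ≪≫ eqToIso (by rw [Scheme.Hom.image_preimage_eq_opensRange_inf, Scheme.Opens.opensRange_ι, inf_eq_right.mpr (le_iSup V y)]))).mpr (hV y)

end Groth.Agent.S10860
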