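import Groth.Statements.S11166
import Groth.Agent.L29.Sib.InjEquiv
import Groth.Agent.L29.Sib.InjSub

set_option autoImplicit false
set_option backward.isDefEq.respectTransparency false
universe u
open CategoryTheory CategoryTheory.Limits AlgebraicGeometry
attribute [local instance] HasDerivedCategory.standard
open Coherent

namespace Groth.Agent.S11166

/-- For a locally Noetherian scheme X the natural functor D⁺(QCoh(X)) ⥤ D⁺_qc(O_X) is an equivalence:
granting that quasi-coherent modules form an abelian full subcategory of all O_X-modules with exact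
inclusion (instance hypotheses that always hold), the induced functor D(QCoh(X)) ⥤ D(O_X) is fully
faithful on cohomologically bounded below objects, and every object of D(O_X) with Hⁱ = 0 for i < a
and quasi-coherent cohomology sheaves is isomorphic to the image of an object of D(QCoh(X)) with Hⁱ
= 0 for i < a. -/
theorem result (X : Scheme.{u}) [IsLocallyNoetherian X]
    [ObjectProperty.ContainsZero (fun M : X.Modules => Coh.IsQCoh M)] [ObjectProperty.IsClosedUnderKernels (fun M : X.Modules => Coh.IsQCoh M)]
    [ObjectProperty.IsClosedUnderCokernels (fun M : X.Modules => Coh.IsQCoh M)] [ObjectProperty.IsClosedUnderFiniteProducts (fun M : X.Modules => Coh.IsQCoh M)]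
    [PreservesFiniteLimits (ObjectProperty.ι (fun M : X.Modules => Coh.IsQCoh M))] [PreservesFiniteColimits (ObjectProperty.ι (fun M : X.Modules => Coh.IsQCoh M))] :
    (∀ (M N : DerivedCategory (ObjectProperty.FullSubcategory (fun M : X.Modules => Coh.IsQCoh M))) (a b : ℤ), M.IsGE a → N.IsGE b →
        Function.Bijective (fun f : M ⟶ N => (ObjectProperty.ι (fun M : X.Modules => Coh.IsQCoh M)).mapDerivedCategory.map f)) ∧
      ∀ (K : DCoh.D X) (a : ℤ), K.IsGE a → DCoh.IsQCohD K →
        ∃ M : DerivedCategory (ObjectProperty.FullSubcategory (fun M : X.Modules => Coh.IsQCoh M)), M.IsGE a ∧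
          Nonempty ((ObjectProperty.ι (fun M : X.Modules => Coh.IsQCoh M)).mapDerivedCategory.obj M ≅ K) := by
  let P : ObjectProperty X.Modules := fun M => Coh.IsQCoh M
  have h₁ : ∀ M : P.FullSubcategory, P (P.ι.obj M) := fun M => M.property
  have h₂ : ∀ Y : X.Modules, P Y → ∃ M : P.FullSubcategory, Nonempty (P.ι.obj M ≅ Y) := fun Y hY =>
    ⟨⟨Y, hY⟩, ⟨Iso.refl _⟩⟩
  have hemb : ∀ Y : X.Modules, P Y → ∃ (T : X.Modules) (i : Y ⟶ T), Mono i ∧ P T ∧ Injective T := fun Y hY => by
    haveI : Coh.IsQCoh Y := hY
    exact Groth.L29.InjSub.exists_mono_injective Y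
  refine ⟨fun M N a b _ hN => Groth.L29.InjEquiv.map_bijective P.ι P h₁ h₂ hemb M N b hN,
    fun K a ha hK => Groth.L29.InjEquiv.exists_preimage P.ι P h₁ h₂ (fun e h => Groth.L29.DC.isQCoh_of_iso' e h)
      (fun f hX hY => Groth.L29.DC.isQCoh_cokernel' f hX hY) (fun hX hY => Groth.L17.HTorRG.Acyc.isQCoh_biprod hX hY)
      (fun h => Groth.L29.DC.isQCoh_of_isZero h) hemb K a ha (fun n => hK n)⟩

end Groth.Agent.S11166
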