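import Groth.Statements.S1049
import Groth.Agent.S7262
import Groth.Agent.S11166
import Groth.Agent.L29.Sib.CohLift
import Groth.Agent.L09.DerivedRetract

set_option autoImplicit false
set_option backward.isDefEq.respectTransparency false
universe u
open CategoryTheory CategoryTheory.Limits AlgebraicGeometry
attribute [local instance] HasDerivedCategory.standard
open Perf

namespace Groth.Agent.S1049

open Groth.L09.DerivedRetract in
theorem isGE_map_iff {A : Type*} [Category A] [Abelian A] [HasDerivedCategory A] {B : Type*} [Category B]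
    [Abelian B] [HasDerivedCategory B] (F : A ⥤ B) [F.Additive] [PreservesFiniteLimits F] [PreservesFiniteColimits F]
    [F.Full] [F.Faithful] (M : DerivedCategory A) (a : ℤ) :
    (F.mapDerivedCategory.obj M).IsGE a ↔ M.IsGE a := by
  have e : ∀ i : ℤ, Nonempty ((DerivedCategory.homologyFunctor B i).obj (F.mapDerivedCategory.obj M) ≅
      F.obj ((DerivedCategory.homologyFunctor A i).obj M)) := fun i => by
    obtain ⟨M₀, ⟨e₀⟩⟩ : ∃ M₀, Nonempty (DerivedCategory.Q.obj M₀ ≅ M) :=
      ⟨_, ⟨DerivedCategory.Q.objObjPreimageIso M⟩⟩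
    exact ⟨(DerivedCategory.homologyFunctor B i).mapIso (F.mapDerivedCategory.mapIso e₀.symm ≪≫
      F.mapDerivedCategoryFactors.app M₀) ≪≫ (DerivedCategory.homologyFunctorFactors B i).app _ ≪≫
      (M₀.sc i).mapHomologyIso F ≪≫ F.mapIso (((DerivedCategory.homologyFunctorFactors A i).app M₀).symm ≪≫
      (DerivedCategory.homologyFunctor A i).mapIso e₀)⟩
  simp only [DerivedCategory.isGE_iff]
  exact forall_congr' fun i => imp_congr_right fun _ =>
    ⟨fun h => IsZero.of_full_of_faithful_of_isZero F _ (h.of_iso (e i).some.symm),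
      fun h => (F.map_isZero h).of_iso (e i).some⟩

theorem isQCoh_instances (X : Scheme.{u}) :
    ObjectProperty.ContainsZero (fun M : X.Modules => Coh.IsQCoh M) ∧
      ObjectProperty.IsClosedUnderKernels (fun M : X.Modules => Coh.IsQCoh M) ∧
      ObjectProperty.IsClosedUnderCokernels (fun M : X.Modules => Coh.IsQCoh M) ∧
      ObjectProperty.IsClosedUnderFiniteProducts (fun M : X.Modules => Coh.IsQCoh M) := by
  have hz : ObjectProperty.ContainsZero (fun M : X.Modules => Coh.IsQCoh M) :=
    ⟨⟨_, isZero_zero _, Groth.L29.DC.isQCoh_of_isZero (isZero_zero _)⟩⟩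
  haveI := hz
  haveI : ObjectProperty.IsClosedUnderIsomorphisms (fun M : X.Modules => Coh.IsQCoh M) :=
    ⟨fun e h => Groth.L29.DC.isQCoh_of_iso' e h⟩
  refine ⟨hz, ⟨?_⟩, ⟨?_⟩, ?_⟩
  · rintro _ ⟨f, c, hc, hM, hN⟩
    exact Groth.L29.DC.isQCoh_of_iso' ((kernelIsKernel f).conePointUniqueUpToIso hc)
      (Groth.L29.DC.isQCoh_kernel' f hM hN)
  · rintro _ ⟨f, c, hc, hM, hN⟩
    exact Groth.L29.DC.isQCoh_of_iso' ((cokernelIsCokernel f).coconePointUniqueUpToIso hc)
      (Groth.L29.DC.isQCoh_cokernel' f hM hN)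
  · haveI : ObjectProperty.IsClosedUnderBinaryProducts (fun M : X.Modules => Coh.IsQCoh M) := by
      refine ⟨?_⟩
      rintro Z ⟨p⟩
      let c : BinaryFan (p.diag.obj ⟨.left⟩) (p.diag.obj ⟨.right⟩) :=
        (Cone.postcompose (diagramIsoPair p.diag).hom).obj p.cone
      have hc : IsLimit c := (IsLimit.postcomposeHomEquiv _ _).symm p.isLimit
      exact Groth.L29.DC.isQCoh_of_iso'
        (biprod.isoProd _ _ ≪≫ (limit.isLimit _).conePointUniqueUpToIso hc)
        (Groth.L17.HTorRG.Acyc.isQCoh_biprod (p.prop_diag_obj ⟨.left⟩) (p.prop_diag_obj ⟨.right⟩))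
    exact ObjectProperty.IsClosedUnderFiniteProducts.mk'

/-- Let X be a Noetherian scheme. Granting that coherent modules contain zero and are closed under
kernels, cokernels and finite products in all O_X-modules, with exact inclusion (true on a
Noetherian scheme, carried as instance hypotheses; they make Coh(O_X) an abelian category), the
induced functor D(Coh(O_X)) ⥤ D(O_X) is fully faithful on bounded objects, and a bounded object of
D(O_X) with coherent cohomology sheaves is isomorphic to the image of a bounded object of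
D(Coh(O_X)). -/
theorem result (X : Scheme.{u}) [IsNoetherian X]
    [ObjectProperty.ContainsZero (fun M : X.Modules => Coh.IsCoh M)] [ObjectProperty.IsClosedUnderKernels (fun M : X.Modules => Coh.IsCoh M)]
    [ObjectProperty.IsClosedUnderCokernels (fun M : X.Modules => Coh.IsCoh M)] [ObjectProperty.IsClosedUnderFiniteProducts (fun M : X.Modules => Coh.IsCoh M)]
    [PreservesFiniteLimits (ObjectProperty.ι (fun M : X.Modules => Coh.IsCoh M))] [PreservesFiniteColimits (ObjectProperty.ι (fun M : X.Modules => Coh.IsCoh M))] :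
    (∀ (M N : DerivedCategory (ObjectProperty.FullSubcategory (fun M : X.Modules => Coh.IsCoh M))) (a b : ℤ), M.IsGE a → M.IsLE b → N.IsGE a → N.IsLE b →
      Function.Bijective (fun φ : M ⟶ N => (ObjectProperty.ι (fun M : X.Modules => Coh.IsCoh M)).mapDerivedCategory.map φ)) ∧
    ∀ (K : DCoh.D X) (a b : ℤ), K.IsGE a → K.IsLE b → DCoh.IsCohD K →
      ∃ M : DerivedCategory (ObjectProperty.FullSubcategory (fun M : X.Modules => Coh.IsCoh M)), M.IsGE a ∧ M.IsLE b ∧
        Nonempty ((ObjectProperty.ι (fun M : X.Modules => Coh.IsCoh M)).mapDerivedCategory.obj M ≅ K) := by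
  obtain ⟨hz, hk, hc, hp⟩ := isQCoh_instances X
  let P : ObjectProperty X.Modules := fun M => Coh.IsQCoh M
  let Q : ObjectProperty X.Modules := fun M => Coh.IsCoh M
  let L := P.lift Q.ι (fun M => M.property.1)
  haveI := Groth.L29.CohLift.preservesFiniteLimits_ι (X := X)
  haveI := Groth.L29.CohLift.preservesFiniteColimits_ι (X := X)
  haveI : PreservesFiniteLimits (L ⋙ P.ι) := preservesFiniteLimits_of_natIso (P.liftCompιIso Q.ι _).symm
  haveI : PreservesFiniteColimits (L ⋙ P.ι) := preservesFiniteColimits_of_natIso (P.liftCompιIso Q.ι _).symm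
  haveI : PreservesFiniteLimits L := ⟨fun J _ _ => preservesLimitsOfShape_of_reflects_of_preserves L P.ι⟩
  haveI : PreservesFiniteColimits L := ⟨fun J _ _ => preservesColimitsOfShape_of_reflects_of_preserves L P.ι⟩
  let Φ : L.mapDerivedCategory ⋙ P.ι.mapDerivedCategory ≅ Q.ι.mapDerivedCategory :=
    Groth.L09.DerivedRetract.compIso L P.ι ≪≫ Groth.L09.DerivedRetract.natIso (P.liftCompιIso Q.ι _)
  obtain ⟨h1, h2⟩ := Groth.Agent.S7262.result X
  obtain ⟨g1, g2⟩ := Groth.Agent.S11166.result X
  refine ⟨fun M N a b hMa hMb hNa hNb => ?_, fun K a b hKa hKb hK => ?_⟩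
  · haveI := (isGE_map_iff L M a).2 hMa
    haveI := (isGE_map_iff L N a).2 hNa
    have hcomp := (g1 (L.mapDerivedCategory.obj M) (L.mapDerivedCategory.obj N) a a inferInstance inferInstance).comp
      (h1 M N b hMb hNb)
    have e : (fun φ : M ⟶ N => Q.ι.mapDerivedCategory.map φ) = (Φ.app M).homCongr (Φ.app N) ∘
        ((fun f => P.ι.mapDerivedCategory.map f) ∘ fun φ => L.mapDerivedCategory.map φ) := by
      funext φ
      have h := Φ.hom.naturality φ
      simp only [Function.comp_apply, Iso.homCongr_apply, Iso.app_hom, Iso.app_inv]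
      exact ((congrArg (Φ.inv.app M ≫ ·) h).trans (Iso.inv_hom_id_app_assoc Φ M _)).symm
    show Function.Bijective (fun φ : M ⟶ N => Q.ι.mapDerivedCategory.map φ)
    rw [e]
    exact (Equiv.bijective _).comp hcomp
  · obtain ⟨K', hK'a, ⟨eK⟩⟩ := g2 K a hKa (fun i => (hK i).1)
    haveI : PreservesFiniteLimits P.ι := inferInstance
    have hhom : ∀ i : ℤ, Nonempty (P.ι.obj ((DerivedCategory.homologyFunctor P.FullSubcategory i).obj K') ≅
        (DerivedCategory.homologyFunctor X.Modules i).obj K) := fun i => by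
      obtain ⟨M₀, ⟨e₀⟩⟩ : ∃ M₀, Nonempty (DerivedCategory.Q.obj M₀ ≅ K') :=
        ⟨_, ⟨DerivedCategory.Q.objObjPreimageIso K'⟩⟩
      exact ⟨P.ι.mapIso ((DerivedCategory.homologyFunctor _ i).mapIso e₀.symm ≪≫
        (DerivedCategory.homologyFunctorFactors _ i).app M₀) ≪≫ ((M₀.sc i).mapHomologyIso P.ι).symm ≪≫
        ((DerivedCategory.homologyFunctorFactors X.Modules i).app
          ((P.ι.mapHomologicalComplex (ComplexShape.up ℤ)).obj M₀)).symm ≪≫
        (DerivedCategory.homologyFunctor X.Modules i).mapIso ((P.ι.mapDerivedCategoryFactors.app M₀).symm ≪≫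
          P.ι.mapDerivedCategory.mapIso e₀ ≪≫ eK)⟩
    have hK'b : K'.IsLE b := by
      rw [DerivedCategory.isLE_iff]
      intro i hi
      exact IsZero.of_full_of_faithful_of_isZero P.ι _
        (((DerivedCategory.isLE_iff K b).1 hKb i hi).of_iso (hhom i).some)
    obtain ⟨M, hMb, ⟨eM⟩⟩ := h2 K' b hK'b (fun i =>
      Groth.L16.CohSupport.isCoh_of_iso (hhom i).some.symm (hK i))
    haveI : (L.mapDerivedCategory.obj M).IsGE a := DerivedCategory.TStructure.t.isGE_of_iso eM.symm a
    exact ⟨M, (isGE_map_iff L M a).1 inferInstance, hMb,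
      ⟨(Φ.app M).symm ≪≫ P.ι.mapDerivedCategory.mapIso eM ≪≫ eK⟩⟩

end Groth.Agent.S1049
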