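import Groth.Statements.S6750
import Groth.Agent.L07.BvdB.PointSelf

set_option autoImplicit false
set_option linter.style.haveILetI false
set_option backward.isDefEq.respectTransparency.types false
universe u
open CategoryTheory AlgebraicGeometry
attribute [local instance] HasDerivedCategory.standard
open DEquiv

namespace Groth.Agent.S6750

/-- Let X be a scheme proper over a field k which is regular (all local rings regular), and let F :
D_perf(O_X) ⥤ D_perf(O_X) be a k-linear exact functor on the full subcategory of perfect objects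
(the instance hypothesis records that it is a triangulated subcategory). Assume that for every
coherent O_X-module M whose support has dimension 0 (a nonempty finite set of closed points) there
is an isomorphism M ≅ F(M), where M is viewed in degree 0 (a perfect object since X is regular; the
statement quantifies over a proof of this). Then F is fully faithful. -/
theorem result
    (k : Type u) [Field k] (X : Scheme.{u}) [X.Over (Spec (.of k))] [IsProper (X ↘ Spec (.of k))]
    (hreg : Models.IsRegularScheme X) [(SGA6.perfP X).IsTriangulated]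
    (F : (SGA6.perfP X).FullSubcategory ⥤ (SGA6.perfP X).FullSubcategory) [F.Additive] [F.Linear k]
    [F.CommShift ℤ] [F.IsTriangulated]
    (h : ∀ (M : X.Modules), Coh.IsCoh M → (CohB1.support M).Finite → (CohB1.support M).Nonempty →
        (∀ x ∈ CohB1.support M, IsClosed ({x} : Set X)) →
        ∀ (hM : DCoh.IsPerfect (DCoh.inD X M)),
          Nonempty ((⟨DCoh.inD X M, hM⟩ : (SGA6.perfP X).FullSubcategory) ≅ F.obj ⟨DCoh.inD X M, hM⟩)) :
    F.Full ∧ F.Faithful := by
  haveI : IsLocallyNoetherian X := LocallyOfFiniteType.isLocallyNoetherian (X ↘ Spec (CommRingCat.of k))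
  refine Groth.L07.BvdB.PointFF.fullyFaithful (k := k) hreg F fun x x' hx hx' hp hp' i => ?_
  by_cases hxx : x = x'
  · subst hxx
    obtain ⟨s⟩ := Groth.L07.BvdB.PointSky.nonempty_iso_sky x
    have hR : IsFiniteLength (X.presheaf.stalk x) (Groth.L21.RR.resMod x) := by
      haveI : IsSimpleModule (X.presheaf.stalk x) (Groth.L21.RR.resMod x) :=
        isSimpleModule_iff_quot_maximal.2 ⟨IsLocalRing.maximalIdeal (X.presheaf.stalk x), inferInstance,
          ⟨LinearEquiv.refl _ _⟩⟩
      exact isFiniteLength_iff_isNoetherian_isArtinian.2 ⟨inferInstance, inferInstance⟩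
    let e : Groth.L07.BvdB.PointSelf.skyP hreg hx (Groth.L21.RR.resMod x) hR ≅
        Groth.L07.BvdB.PointFF.ptP x hp :=
      ObjectProperty.isoMk _ ((DerivedCategory.singleFunctor X.Modules 0).mapIso s.symm)
    exact Groth.L07.BvdB.PointFF.bij_of_iso F e ((shiftFunctor _ i).mapIso e)
      (Groth.L07.BvdB.PointSelf.bij_sky (k := k) hreg hx h i _ _ hR hR)
  · have hsupp : ∀ j : ℤ, x' ∉ CohB1.support (DCoh.HD (Groth.L07.BvdB.PointHom.ptD x) j) := fun j hs => by
      rcases eq_or_ne j 0 with rfl | hj
      · exact hxx (Set.mem_singleton_iff.1 (Groth.L07.BvdB.PointSky.support_pt_subset hx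
          ((Groth.L21.Mod.support_congr
            ((DerivedCategory.singleFunctorCompHomologyFunctorIso X.Modules 0).app
              (Groth.L07.BvdB.PointSky.pt x))).subset hs))).symm
      · refine (Groth.L29.CohSupp.support_of_isZero ?_).subset hs
        rcases lt_or_gt_of_ne hj with h0 | h0
        · exact DerivedCategory.isZero_of_isGE (Groth.L07.BvdB.PointHom.ptD x) 0 j h0
        · exact DerivedCategory.isZero_of_isLE (Groth.L07.BvdB.PointHom.ptD x) 0 j h0
    have hz : ∀ φ : Groth.L07.BvdB.PointFF.ptP x hp ⟶ (Groth.L07.BvdB.PointFF.ptP x' hp')⟦i⟧, φ = 0 := fun φ => by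
      refine ObjectProperty.hom_ext _ ?_
      let c := (((SGA6.perfP X).ι.commShiftIso i).app (Groth.L07.BvdB.PointFF.ptP x' hp')).hom
      have h0 := (Groth.L07.BvdB.PointHom.hom_pt_zero_iff hx' (Groth.L07.BvdB.PointHom.ptD x)
        (Groth.L29.CohSupp.isCohD_of_perfect hp) 0 (-i - 1)).1 (fun j _ => hsupp j) (-i) (by omega)
      rw [neg_neg] at h0
      exact (cancel_mono c).1 ((h0 (φ.hom ≫ c)).trans Limits.zero_comp.symm)
    have hfix : ∀ (y : X) (hy : IsClosed ({y} : Set X)) (hpy : DCoh.IsPerfect (Groth.L07.BvdB.PointHom.ptD y)),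
        Nonempty (Groth.L07.BvdB.PointFF.ptP y hpy ≅ F.obj (Groth.L07.BvdB.PointFF.ptP y hpy)) := fun y hy hpy =>
      Groth.L07.BvdB.PointSelf.iso_of_support hy h (Groth.L07.BvdB.PointSky.isCoh_pt hy)
        (Groth.L07.BvdB.PointSky.support_pt_subset hy) hpy
    refine ⟨fun a b _ => (hz a).trans (hz b).symm, fun ψ => ⟨0, ?_⟩⟩
    let a := (hfix x hx hp).some
    let b := (shiftFunctor _ i).mapIso (hfix x' hx' hp').some ≪≫ ((F.commShiftIso i).app _).symm
    have : a.hom ≫ ψ ≫ b.inv = 0 := hz _
    show F.map 0 = ψ
    rw [Functor.map_zero, ← cancel_epi a.hom, ← cancel_mono b.inv, Limits.comp_zero, Limits.zero_comp, Category.assoc]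
    exact this.symm

end Groth.Agent.S6750
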