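import Groth.Statements.S6751
import Groth.Agent.L07.BvdB.PointFF

set_option autoImplicit false
set_option linter.style.haveILetI false
set_option backward.isDefEq.respectTransparency.types false
universe u
open CategoryTheory AlgebraicGeometry
attribute [local instance] HasDerivedCategory.standard
open DEquiv

namespace Groth.Agent.S6751

/-- Let X and Y be schemes proper over a field k with X regular (all local rings regular), and let F, G
: D_perf(O_X) ⥤ D_perf(O_Y) be k-linear exact functors between the full subcategories of perfect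
objects (the instance hypotheses record that these are triangulated subcategories). Assume that F(M)
≅ G(M) for every coherent O_X-module M whose support has dimension 0 (a nonempty finite set of
closed points; M viewed in degree 0, a perfect object since X is regular, the statement quantifying
over a proof of this), and suppose moreover that the functor F is both full and faithful. Under
these conditions, for each perfect object M on X the object G(M) is isomorphic to F applied to some
perfect object, i.e. everything G hits lies in F's essential image. -/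
theorem result
    (k : Type u) [Field k] (X Y : Scheme.{u}) [X.Over (Spec (.of k))] [Y.Over (Spec (.of k))]
    [IsProper (X ↘ Spec (.of k))] [IsProper (Y ↘ Spec (.of k))] (hreg : Models.IsRegularScheme X)
    [(SGA6.perfP X).IsTriangulated] [(SGA6.perfP Y).IsTriangulated]
    (F : (SGA6.perfP X).FullSubcategory ⥤ (SGA6.perfP Y).FullSubcategory) [F.Additive] [F.Linear k]
    [F.CommShift ℤ] [F.IsTriangulated]
    (G : (SGA6.perfP X).FullSubcategory ⥤ (SGA6.perfP Y).FullSubcategory) [G.Additive] [G.Linear k]
    [G.CommShift ℤ] [G.IsTriangulated]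
    (h1 : ∀ (M : X.Modules), Coh.IsCoh M → (CohB1.support M).Finite → (CohB1.support M).Nonempty →
        (∀ x ∈ CohB1.support M, IsClosed ({x} : Set X)) →
        ∀ (hM : DCoh.IsPerfect (DCoh.inD X M)),
          Nonempty (F.obj ⟨DCoh.inD X M, hM⟩ ≅ G.obj ⟨DCoh.inD X M, hM⟩))
    [F.Full] [F.Faithful] (M : (SGA6.perfP X).FullSubcategory) :
    F.essImage (G.obj M) := by
  haveI : IsLocallyNoetherian X := LocallyOfFiniteType.isLocallyNoetherian (X ↘ Spec (CommRingCat.of k))
  haveI : CompactSpace X := QuasiCompact.compactSpace_of_compactSpace (X ↘ Spec (CommRingCat.of k))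
  haveI := (Groth.Agent.S6748.result k X Y hreg F).1
  haveI := (Groth.Agent.S6748.result k X Y hreg G).1
  let adjF := Adjunction.ofIsLeftAdjoint F
  let adjG := Adjunction.ofIsLeftAdjoint G
  let ι := (SGA6.perfP X).ι
  let B := G.obj M
  obtain ⟨C, g, w, hT⟩ := Pretriangulated.distinguished_cocone_triangle (adjF.counit.app B)
  have hF0 : ∀ (A : (SGA6.perfP X).FullSubcategory) (φ : F.obj A ⟶ C), φ = 0 := fun A φ => by
    have hA : ∀ n : ℤ, Function.Bijective (fun θ : (F.obj A)⟦n⟧ ⟶ F.obj (F.rightAdjoint.obj B) => θ ≫ adjF.counit.app B) := fun n => by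
      have hb : Function.Bijective (fun θ : F.obj (A⟦n⟧) ⟶ F.obj (F.rightAdjoint.obj B) => θ ≫ adjF.counit.app B) := by
        refine Function.Bijective.of_comp_iff _ ((Functor.FullyFaithful.ofFullyFaithful F).map_bijective (A⟦n⟧) (F.rightAdjoint.obj B)) |>.1 ?_
        have h1 := (adjF.homEquiv (A⟦n⟧) B).symm.bijective
        refine (congrArg Function.Bijective (funext fun θ => ?_)).mp h1
        exact adjF.homEquiv_counit _ _ θ
      have e : (fun θ : (F.obj A)⟦n⟧ ⟶ F.obj (F.rightAdjoint.obj B) => θ ≫ adjF.counit.app B) =
          ((F.commShiftIso n).app A).homFromEquiv ∘ (fun θ : F.obj (A⟦n⟧) ⟶ F.obj (F.rightAdjoint.obj B) => θ ≫ adjF.counit.app B) ∘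
            ((F.commShiftIso n).app A).homFromEquiv.symm := funext fun θ => by
        simp
      rw [e]
      exact (Equiv.bijective _).comp (hb.comp (Equiv.bijective _))
    have hz := Groth.L07.BvdB.PointFF.cone_in_zero hT (F.obj A) hA 0
      ((shiftFunctorZero ((SGA6.perfP Y).FullSubcategory) ℤ).hom.app (F.obj A) ≫ φ)
    rwa [← cancel_epi ((shiftFunctorZero ((SGA6.perfP Y).FullSubcategory) ℤ).hom.app (F.obj A)), Limits.comp_zero]
  have hR : Limits.IsZero (G.rightAdjoint.obj C).obj :=
    Groth.L07.BvdB.PointFF.isZero_of_near (k := k) _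
      (fun x hx => Groth.L07.BvdB.PointDual.zero_near_of_from_pt hreg hx _ (G.rightAdjoint.obj C).property fun i φ => by
        have hp := Groth.L07.BvdB.PointDual.isPerfect_ptD hreg hx
        let P : (SGA6.perfP X).FullSubcategory := ⟨Groth.L07.BvdB.PointHom.ptD x, hp⟩
        obtain ⟨e⟩ := h1 (Groth.L07.BvdB.PointSky.pt x) (Groth.L07.BvdB.PointSky.isCoh_pt hx)
          ((Set.finite_singleton x).subset (Groth.L07.BvdB.PointSky.support_pt_subset hx))
          (by
            rw [Set.nonempty_iff_ne_empty, ne_eq, ← Groth.L21.Mod.isZero_iff_support_eq_empty]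
            intro hz
            obtain ⟨s⟩ := Groth.L07.BvdB.PointSky.nonempty_stalk_iso x
            exact (ModuleCat.isZero_iff_subsingleton.not.2 (not_subsingleton (IsLocalRing.ResidueField (X.presheaf.stalk x))))
              (((Groth.L00.Stk.F X x).map_isZero hz).of_iso s.symm))
          (fun y hy => (Groth.L07.BvdB.PointSky.support_pt_subset hx hy : y = x) ▸ hx) hp
        let χ : P⟦-i⟧ ⟶ G.rightAdjoint.obj C := ObjectProperty.homMk (((ι.commShiftIso (-i)).app P).hom ≫
          φ⟦-i⟧' ≫ ((shiftFunctorCompIsoId (DCoh.D X) i (-i) (by omega)).app (G.rightAdjoint.obj C).obj).hom)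
        have hχ : χ = 0 := by
          apply (adjG.homEquiv _ _).symm.injective
          have key : ∀ v : G.obj (P⟦-i⟧) ⟶ C, v = 0 := fun v => by
            let j : F.obj (P⟦-i⟧) ≅ G.obj (P⟦-i⟧) := (F.commShiftIso (-i)).app P ≪≫
              (shiftFunctor _ (-i)).mapIso e ≪≫ ((G.commShiftIso (-i)).app P).symm
            rw [← cancel_epi j.hom, Limits.comp_zero]
            exact hF0 _ _
          exact (key _).trans (key _).symm
        have h0 := congrArg InducedCategory.Hom.hom hχ
        have h2 : φ⟦-i⟧' = 0 := by
          rw [← cancel_epi ((ι.commShiftIso (-i)).app P).hom,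
            ← cancel_mono ((shiftFunctorCompIsoId (DCoh.D X) i (-i) (by omega)).app (G.rightAdjoint.obj C).obj).hom,
            Category.assoc, Limits.comp_zero, Limits.zero_comp]
          exact h0
        exact (shiftFunctor (DCoh.D X) (-i)).map_injective (h2.trans ((shiftFunctor (DCoh.D X) (-i)).map_zero _ _).symm))
      (G.rightAdjoint.obj C).property
  have hg : g = 0 := by
    apply (adjG.homEquiv M C).injective
    exact ObjectProperty.hom_ext _ (hR.eq_of_tgt _ _)
  have hw : Mono w := (Pretriangulated.Triangle.mor₂_eq_zero_iff_mono₃ _ hT).1 hg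
  have hC : Limits.IsZero C := by
    haveI : IsSplitMono w := isSplitMono_of_mono w
    rw [Limits.IsZero.iff_id_eq_zero, ← IsSplitMono.id w]
    have h0 : retraction w = 0 := by
      rw [← cancel_epi ((F.commShiftIso (1 : ℤ)).app (F.rightAdjoint.obj B)).hom, Limits.comp_zero]
      exact hF0 _ _
    rw [h0, Limits.comp_zero]
  haveI : IsIso (adjF.counit.app B) := (Pretriangulated.Triangle.isZero₃_iff_isIso₁ _ hT).1 hC
  exact ⟨F.rightAdjoint.obj B, ⟨asIso (adjF.counit.app B)⟩⟩

end Groth.Agent.S6751
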