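import Groth.Statements.S1352
import Mathlib.Algebra.MvPolynomial.Nilpotent
import Mathlib.RingTheory.MvPolynomial.Localization
import Mathlib.RingTheory.Jacobson.Ring
import Mathlib.Algebra.MvPolynomial.NoZeroDivisors
import Mathlib.FieldTheory.IsAlgClosed.Basic

set_option autoImplicit false
universe u
open FlatMor

namespace Groth.Agent.S1352
open MvPolynomial

variable {A : Type u} [CommRing A] {n : ℕ}

/-- exponents bounded by `d` -/
private noncomputable def box (n d : ℕ) : Finset (Fin n →₀ ℕ) :=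
  Finset.univ.image fun g : Fin n → Fin (d + 1) => Finsupp.equivFunOnFinite.symm fun i => (g i : ℕ)

private theorem mem_box {d : ℕ} {e : Fin n →₀ ℕ} (h : ∀ i, e i ≤ d) : e ∈ box n d := by
  rw [box, Finset.mem_image]
  exact ⟨fun i => ⟨e i, Nat.lt_succ_of_le (h i)⟩, Finset.mem_univ _, by ext i; rfl⟩

private abbrev Idx (n d : ℕ) := (↥(box n d) ⊕ ↥(box n d)) ⊕ Unit

private noncomputable def genQ (A : Type u) [CommRing A] (n d : ℕ) :
    MvPolynomial (Fin n) (MvPolynomial (Idx n d) A) :=
  ∑ e : ↥(box n d), monomial e.1 (X (Sum.inl (Sum.inl e)))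

private noncomputable def genR (A : Type u) [CommRing A] (n d : ℕ) :
    MvPolynomial (Fin n) (MvPolynomial (Idx n d) A) :=
  ∑ e : ↥(box n d), monomial e.1 (X (Sum.inl (Sum.inr e)))

private noncomputable def relIdeal (P : MvPolynomial (Fin n) A) (d : ℕ) (α β : ↥(box n d)) :
    Ideal (MvPolynomial (Idx n d) A) :=
  Ideal.span (Set.range fun e => coeff e (genQ A n d * genR A n d - MvPolynomial.map C P)) ⊔
    Ideal.span {X (Sum.inl (Sum.inl α)) - 1, X (Sum.inr ()) * X (Sum.inl (Sum.inr β)) - 1}

private theorem sum_monomial_eq {R : Type*} [CommRing R] {d : ℕ} (Q : MvPolynomial (Fin n) R)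
    (h : ∀ e ∈ Q.support, e ∈ box n d) :
    ∑ e : ↥(box n d), monomial e.1 (coeff e.1 Q) = Q := by
  classical
  conv_rhs => rw [Q.as_sum]
  rw [Finset.univ_eq_attach, Finset.sum_attach (box n d) (fun e => monomial e (coeff e Q))]
  exact (Finset.sum_subset h fun e _ he => by rw [notMem_support_iff.mp he, map_zero]).symm

/-- A factorisation gives a point of the parameter scheme. -/
private theorem exists_point {κ : Type u} [Field κ] (g : A →+* κ) (P : MvPolynomial (Fin n) A)
    (Q R : MvPolynomial (Fin n) κ) (hP : MvPolynomial.map g P = Q * R)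
    (hQ : ¬ IsUnit Q) (hR : ¬ IsUnit R) (h0 : MvPolynomial.map g P ≠ 0) :
    ∃ (α β : ↥(box n P.totalDegree)) (x : Idx n P.totalDegree → κ), α.1 ≠ 0 ∧ β.1 ≠ 0 ∧
      relIdeal P P.totalDegree α β ≤ RingHom.ker (eval₂Hom g x) := by
  classical
  have hQ0 : Q ≠ 0 := fun e => h0 (by rw [hP, e, zero_mul])
  have hR0 : R ≠ 0 := fun e => h0 (by rw [hP, e, mul_zero])
  have hdeg : Q.totalDegree + R.totalDegree ≤ P.totalDegree := by
    rw [← totalDegree_mul_of_isDomain hQ0 hR0, ← hP]
    exact Finset.sup_mono (support_map_subset _ _)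
  have hsupp : ∀ (S : MvPolynomial (Fin n) κ), S.totalDegree ≤ P.totalDegree →
      ∀ e ∈ S.support, e ∈ box n P.totalDegree := fun S hS e he => mem_box fun i => by
    refine le_trans ?_ ((le_totalDegree he).trans hS)
    by_cases hi : i ∈ e.support
    · exact Finset.single_le_sum (f := fun j => e j) (fun _ _ => Nat.zero_le _) hi
    · simp [Finsupp.notMem_support_iff.mp hi]
  have hex : ∀ (S : MvPolynomial (Fin n) κ), S ≠ 0 → ¬ IsUnit S → ∃ e ∈ S.support, e ≠ 0 := by
    intro S hS hu
    by_contra hne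
    push Not at hne
    refine hu ?_
    have hS' : S = C (coeff 0 S) := by
      ext e
      rw [coeff_C]
      by_cases he : (0 : Fin n →₀ ℕ) = e
      · rw [if_pos he, he]
      · rw [if_neg he, ← notMem_support_iff]
        exact fun h => he (hne e h).symm
    rw [hS'] at hS ⊢
    exact (IsUnit.mk0 _ fun e => hS (by rw [e, map_zero])).map C
  obtain ⟨α, hα, hα0⟩ := hex Q hQ0 hQ
  obtain ⟨β, hβ, hβ0⟩ := hex R hR0 hR
  have hc : coeff α Q ≠ 0 := mem_support_iff.mp hα
  let c := coeff α Q
  let α' : ↥(box n P.totalDegree) := ⟨α, hsupp Q (le_trans (Nat.le_add_right _ _) hdeg) α hα⟩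
  let β' : ↥(box n P.totalDegree) := ⟨β, hsupp R (le_trans (Nat.le_add_left _ _) hdeg) β hβ⟩
  let x : Idx n P.totalDegree → κ := Sum.elim
    (Sum.elim (fun e => c⁻¹ * coeff e.1 Q) (fun e => c * coeff e.1 R)) (fun _ => (c * coeff β R)⁻¹)
  refine ⟨α', β', x, hα0, hβ0, sup_le (Ideal.span_le.mpr ?_) (Ideal.span_le.mpr ?_)⟩
  · have e1 : MvPolynomial.map (eval₂Hom g x) (genQ A n P.totalDegree) = C c⁻¹ * Q := by
      conv_rhs => rw [← sum_monomial_eq Q (hsupp Q (le_trans (Nat.le_add_right _ _) hdeg))]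
      simp [genQ, map_sum, map_monomial, x, Finset.mul_sum, C_mul_monomial]
    have e2 : MvPolynomial.map (eval₂Hom g x) (genR A n P.totalDegree) = C c * R := by
      conv_rhs => rw [← sum_monomial_eq R (hsupp R (le_trans (Nat.le_add_left _ _) hdeg))]
      simp [genR, map_sum, map_monomial, x, Finset.mul_sum, C_mul_monomial]
    have e3 : MvPolynomial.map (eval₂Hom g x) (MvPolynomial.map C P) = MvPolynomial.map g P := by
      have hgC : (eval₂Hom g x).comp C = g := RingHom.ext fun a => eval₂Hom_C g x a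
      rw [map_map, hgC]
    have hzero : MvPolynomial.map (eval₂Hom g x)
        (genQ A n P.totalDegree * genR A n P.totalDegree - MvPolynomial.map C P) = 0 := by
      rw [map_sub, map_mul, e1, e2, e3, hP, sub_eq_zero, mul_mul_mul_comm, ← map_mul,
        inv_mul_cancel₀ hc, map_one, one_mul]
    rintro _ ⟨e, rfl⟩
    rw [SetLike.mem_coe, RingHom.mem_ker, ← coeff_map, hzero, coeff_zero]
  · have hcβ : c * coeff β R ≠ 0 := mul_ne_zero hc (mem_support_iff.mp hβ)
    simp only [Set.insert_subset_iff, Set.singleton_subset_iff, SetLike.mem_coe, RingHom.mem_ker,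
      map_sub, map_mul, map_one, eval₂Hom_X', sub_eq_zero]
    exact ⟨by simp [x, α', c, hc], by simp only [x, β', Sum.elim_inl, Sum.elim_inr]; exact inv_mul_cancel₀ hcβ⟩


/-- For a domain A and a polynomial P in finitely many variables over A which is irreducible over an
algebraic closure of the fraction field of A: Then there is a nonzero f in A such that for every
ring map from A[1/f] to a field (in the same universe) the image of P is irreducible. (The source
leaves the nonvanishing of f implicit; for f = 0 the conclusion would be vacuous.) -/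
theorem result {A : Type u} [CommRing A] [IsDomain A] {n : ℕ} (P : MvPolynomial (Fin n) A)
    (hP : Irreducible (MvPolynomial.map (algebraMap A (AlgebraicClosure (FractionRing A))) P)) :
    ∃ f : A, f ≠ 0 ∧ ∀ (κ : Type u) [Field κ] (φ : Localization.Away f →+* κ),
      Irreducible (MvPolynomial.map (φ.comp (algebraMap A (Localization.Away f))) P) := by
  classical
  let d := P.totalDegree
  let K := FractionRing A
  let Kb := AlgebraicClosure K
  have hP0 : MvPolynomial.map (algebraMap A Kb) P ≠ 0 := hP.ne_zero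
  have key : ∀ α β : ↥(box n d), α.1 ≠ 0 → β.1 ≠ 0 →
      ∃ f : A, f ≠ 0 ∧ C f ∈ relIdeal P d α β := by
    intro α β hα hβ
    by_contra hne
    push Not at hne
    let ι := MvPolynomial.map (σ := Idx n d) (algebraMap A K)
    let _ : Algebra (MvPolynomial (Idx n d) A) (MvPolynomial (Idx n d) K) := ι.toAlgebra
    have : IsLocalization ((nonZeroDivisors A).map (C (σ := Idx n d))) (MvPolynomial (Idx n d) K) :=
      MvPolynomial.isLocalization (nonZeroDivisors A) K
    have htop : (relIdeal P d α β).map ι ≠ ⊤ := by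
      show (relIdeal P d α β).map (algebraMap (MvPolynomial (Idx n d) A) (MvPolynomial (Idx n d) K)) ≠ ⊤
      rw [IsLocalization.map_algebraMap_ne_top_iff_disjoint ((nonZeroDivisors A).map (C (σ := Idx n d))),
        Set.disjoint_left]
      rintro _ ⟨a, ha, rfl⟩ hmem
      exact hne a (nonZeroDivisors.ne_zero ha) hmem
    obtain ⟨m, hm, hle⟩ := Ideal.exists_le_maximal _ htop
    let _ : Field (MvPolynomial (Idx n d) K ⧸ m) := Ideal.Quotient.field m
    have : Module.Finite K (MvPolynomial (Idx n d) K ⧸ m) := finite_of_finite_type_of_isJacobsonRing K _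
    let θ : (MvPolynomial (Idx n d) K ⧸ m) →ₐ[K] Kb := IsAlgClosed.lift
    let ψ : MvPolynomial (Idx n d) A →+* Kb := (θ.toRingHom.comp (Ideal.Quotient.mk m)).comp ι
    have hker : relIdeal P d α β ≤ RingHom.ker ψ := fun r hr => by
      have := hle (Ideal.mem_map_of_mem ι hr)
      simp [ψ, Ideal.Quotient.eq_zero_iff_mem.mpr this]
    have hψC : ψ.comp C = algebraMap A Kb := by
      ext a
      simp only [ψ, ι, RingHom.comp_apply, map_C]
      rw [IsScalarTower.algebraMap_apply A K Kb]
      exact θ.commutes _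
    let Qk := MvPolynomial.map ψ (genQ A n d)
    let Rk := MvPolynomial.map ψ (genR A n d)
    have heq : MvPolynomial.map (algebraMap A Kb) P = Qk * Rk := by
      have hz : MvPolynomial.map ψ (genQ A n d * genR A n d - MvPolynomial.map C P) = 0 := by
        ext e
        rw [coeff_map, coeff_zero]
        exact hker (Ideal.mem_sup_left (Ideal.subset_span ⟨e, rfl⟩))
      rw [map_sub, map_mul, map_map, hψC, sub_eq_zero] at hz
      exact hz.symm
    have hcoe : ∀ (v : ↥(box n d) → MvPolynomial (Idx n d) A) (e₀ : ↥(box n d)),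
        coeff e₀.1 (MvPolynomial.map ψ (∑ e : ↥(box n d), monomial e.1 (v e))) = ψ (v e₀) := by
      intro v e₀
      rw [coeff_map, coeff_sum, Finset.sum_eq_single e₀]
      · simp
      · intro b _ hb
        rw [coeff_monomial, if_neg (fun e => hb (Subtype.ext e))]
      · simp
    have hnu : ∀ (S : MvPolynomial (Fin n) Kb) (e : Fin n →₀ ℕ), e ≠ 0 → coeff e S ≠ 0 → ¬ IsUnit S :=
      fun S e he hc hu => hc (((MvPolynomial.isUnit_iff.mp hu).2 e he).eq_zero)
    have hq : ψ (X (Sum.inl (Sum.inl α))) = 1 := by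
      have : ψ (X (Sum.inl (Sum.inl α)) - 1) = 0 :=
        hker (Ideal.mem_sup_right (Ideal.subset_span (Set.mem_insert _ _)))
      rwa [map_sub, map_one, sub_eq_zero] at this
    have hr : ψ (X (Sum.inr ())) * ψ (X (Sum.inl (Sum.inr β))) = 1 := by
      have : ψ (X (Sum.inr ()) * X (Sum.inl (Sum.inr β)) - 1) = 0 :=
        hker (Ideal.mem_sup_right (Ideal.subset_span (Set.mem_insert_of_mem _ rfl)))
      rwa [map_sub, map_mul, map_one, sub_eq_zero] at this
    rcases hP.isUnit_or_isUnit heq with h | h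
    · have hQα : coeff α.1 Qk = 1 := (hcoe _ α).trans hq
      exact hnu _ _ hα (by rw [hQα]; exact one_ne_zero) h
    · have hRβ : coeff β.1 Rk = ψ (X (Sum.inl (Sum.inr β))) := hcoe _ β
      exact hnu _ _ hβ (by rw [hRβ]; exact right_ne_zero_of_mul_eq_one hr) h
  choose f hf0 hfmem using key
  obtain ⟨e₀, he₀, he₀'⟩ : ∃ e ∈ P.support, e ≠ 0 := by
    by_contra hne
    push Not at hne
    refine hP.not_isUnit (MvPolynomial.isUnit_iff.mpr ⟨isUnit_iff_ne_zero.mpr fun h => hP0 ?_, fun i hi => ?_⟩)
    · ext i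
      rcases eq_or_ne i 0 with rfl | hi
      · rw [h, coeff_zero]
      · rw [coeff_map, notMem_support_iff.mp (fun hs => hi (hne i hs)), map_zero, coeff_zero]
    · rw [coeff_map, notMem_support_iff.mp (fun hs => hi (hne i hs)), map_zero]
      exact IsNilpotent.zero
  let F : A := coeff e₀ P * ∏ p : {p : ↥(box n d) × ↥(box n d) // p.1.1 ≠ 0 ∧ p.2.1 ≠ 0}, f p.1.1 p.1.2 p.2.1 p.2.2
  refine ⟨F, mul_ne_zero (mem_support_iff.mp he₀) (Finset.prod_ne_zero_iff.mpr fun p _ => hf0 _ _ _ _), fun κ _ φ => ?_⟩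
  let g := φ.comp (algebraMap A (Localization.Away F))
  have hF : IsUnit (g F) := (IsLocalization.Away.algebraMap_isUnit (S := Localization.Away F) F).map φ
  rw [map_mul] at hF
  obtain ⟨hF₁, hF₂⟩ := IsUnit.mul_iff.mp hF
  have hmap0 : MvPolynomial.map g P ≠ 0 := fun h => hF₁.ne_zero (by rw [← coeff_map, h, coeff_zero])
  refine ⟨fun hu => hF₁.ne_zero ?_, fun Q R hQR => ?_⟩
  · rw [← coeff_map]; exact ((MvPolynomial.isUnit_iff.mp hu).2 e₀ he₀').eq_zero
  · by_contra hne
    push Not at hne
    obtain ⟨α, β, x, hα, hβ, hker⟩ := exists_point g P Q R hQR hne.1 hne.2 hmap0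
    have h1 := hker (hfmem α β hα hβ)
    rw [RingHom.mem_ker, eval₂Hom_C] at h1
    rw [map_prod, IsUnit.prod_iff] at hF₂
    exact (hF₂ ⟨(α, β), hα, hβ⟩ (Finset.mem_univ _)).ne_zero h1

end Groth.Agent.S1352
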