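import Groth.Statements.S4585
import Mathlib.RingTheory.Jacobson.Ring
import Mathlib.RingTheory.Valuation.LocalSubring
import Mathlib.RingTheory.Algebraic.Integral
import Mathlib.RingTheory.LocalRing.ResidueField.Fiber
import Mathlib.RingTheory.Localization.Integral

set_option autoImplicit false
set_option linter.style.haveILetI false
universe u
open AlgebraicGeometry CategoryTheory
open EGA41

namespace Groth.Agent.S4585

open TopologicalSpace

theorem exists_basicOpen_subset_range {A B : Type u} [CommRing A] [CommRing B] [Algebra A B]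
    [Algebra.FiniteType A B] (P : PrimeSpectrum A)
    (hP : P ∈ Set.range (PrimeSpectrum.comap (algebraMap A B))) :
    ∃ f : A, f ∉ P.asIdeal ∧ ∀ p : PrimeSpectrum A, P.asIdeal ≤ p.asIdeal → f ∉ p.asIdeal →
      p ∈ Set.range (PrimeSpectrum.comap (algebraMap A B)) := by
  classical
  let A₀ := A ⧸ P.asIdeal
  let K := P.asIdeal.ResidueField
  let T := TensorProduct A K B
  haveI : Nontrivial T := (PrimeSpectrum.nontrivial_iff_mem_rangeComap P).mpr hP
  obtain ⟨L, _, _, _, ψ₀, hψ₀⟩ : ∃ (L : Type u) (_ : Field L) (_ : Algebra K L) (_ : Module.Finite K L)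
      (ψ₀ : B →+* L), ψ₀.comp (algebraMap A B) = (algebraMap K L).comp (algebraMap A K) := by
    obtain ⟨Q, hQ⟩ := Ideal.exists_maximal T
    letI : Field (T ⧸ Q) := Ideal.Quotient.field Q
    haveI : Module.Finite K (T ⧸ Q) := finite_of_finite_type_of_isJacobsonRing K (T ⧸ Q)
    refine ⟨T ⧸ Q, inferInstance, inferInstance, inferInstance,
      (Ideal.Quotient.mk Q).comp Algebra.TensorProduct.includeRight.toRingHom, RingHom.ext fun a => ?_⟩
    show Ideal.Quotient.mk Q (Algebra.TensorProduct.includeRight (algebraMap A B a)) = _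
    rw [AlgHom.commutes, IsScalarTower.algebraMap_apply A K T]
    rfl
  haveI : Algebra.IsAlgebraic K L := Algebra.IsAlgebraic.of_finite K L
  letI : Algebra A L := ((algebraMap K L).comp (algebraMap A K)).toAlgebra
  letI : Algebra A₀ L := ((algebraMap K L).comp (algebraMap A₀ K)).toAlgebra
  haveI : IsScalarTower A₀ K L := IsScalarTower.of_algebraMap_eq fun _ => rfl
  let ψ : B →ₐ[A] L := { ψ₀ with commutes' := RingHom.congr_fun hψ₀ }
  have hA : ∀ a : A, algebraMap A L a = algebraMap A₀ L (Ideal.Quotient.mk P.asIdeal a) := fun a => by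
    show algebraMap K L (algebraMap A K a) = algebraMap K L (algebraMap A₀ K (algebraMap A A₀ a))
    rw [← IsScalarTower.algebraMap_apply A A₀ K]
  haveI : Algebra.IsAlgebraic A₀ L :=
    (IsFractionRing.comap_isAlgebraic_iff (A := A₀) (K := K) (C := L)).mpr inferInstance
  obtain ⟨s, hs⟩ := Algebra.FiniteType.out (R := A) (A := B)
  obtain ⟨y, hy, hint⟩ := Algebra.IsAlgebraic.exists_integral_multiples A₀ (s.image ψ)
  obtain ⟨f, rfl⟩ := Ideal.Quotient.mk_surjective y
  refine ⟨f, fun hf => hy (Ideal.Quotient.eq_zero_iff_mem.mpr hf), fun p hPp hfp => ?_⟩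
  let p₀ := p.asIdeal.map (Ideal.Quotient.mk P.asIdeal)
  have hp₀c : p₀.comap (Ideal.Quotient.mk P.asIdeal) = p.asIdeal := by
    rw [Ideal.comap_map_of_surjective' _ Ideal.Quotient.mk_surjective, Ideal.mk_ker, sup_eq_left.mpr hPp]
  haveI : p₀.IsPrime := Ideal.map_isPrime_of_surjective Ideal.Quotient.mk_surjective (by rwa [Ideal.mk_ker])
  have hp₀ : ∀ a : A, Ideal.Quotient.mk P.asIdeal a ∈ p₀ ↔ a ∈ p.asIdeal := fun a => by
    rw [← Ideal.mem_comap, hp₀c]
  have hinj : Function.Injective (algebraMap A₀ L) :=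
    (algebraMap K L).injective.comp (IsFractionRing.injective A₀ K)
  have hu : ∀ z : p₀.primeCompl, IsUnit (algebraMap A₀ L z) := fun z =>
    IsUnit.mk0 _ fun h => z.2 (by
      have : (z : A₀) = 0 := hinj (h.trans (map_zero _).symm)
      rw [this]; exact zero_mem _)
  let φ : Localization.AtPrime p₀ →+* L := IsLocalization.lift hu
  have hφ : ∀ a : A₀, φ (algebraMap _ _ a) = algebraMap A₀ L a := fun a => IsLocalization.lift_eq hu a
  have hφinj : Function.Injective φ := by
    rw [injective_iff_map_eq_zero]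
    intro z hz
    obtain ⟨a, t, rfl⟩ := IsLocalization.exists_mk'_eq p₀.primeCompl z
    rw [IsLocalization.lift_mk'_spec, mul_zero] at hz
    rw [show a = 0 from hinj (hz.trans (map_zero _).symm), IsLocalization.mk'_zero]
  let R := φ.range
  let e : Localization.AtPrime p₀ ≃+* R := RingEquiv.ofBijective φ.rangeRestrict
    ⟨fun a b h => hφinj (congrArg Subtype.val h), φ.rangeRestrict_surjective⟩
  let I : Ideal R := (IsLocalRing.maximalIdeal (Localization.AtPrime p₀)).comap e.symm.toRingHom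
  obtain ⟨V, hV⟩ := Ideal.image_subset_nonunits_valuationSubring I
    (Ideal.comap_ne_top _ (IsLocalRing.maximalIdeal.isMaximal _).ne_top)
  have hA₀V : ∀ a : A₀, algebraMap A₀ L a ∈ V := fun a => hV.1 ⟨algebraMap _ _ a, hφ a⟩
  let ι : A₀ →+* V := (algebraMap A₀ L).codRestrict V.toSubring hA₀V
  letI : Algebra A₀ V := ι.toAlgebra
  haveI : IsScalarTower A₀ V L := IsScalarTower.of_algebraMap_eq fun _ => rfl
  have hunit : ∀ a : A₀, a ∉ p₀ → IsUnit (ι a) := fun a ha => by
    obtain ⟨w, hw⟩ := (IsLocalization.map_units (Localization.AtPrime p₀) (⟨a, ha⟩ : p₀.primeCompl)).exists_right_inv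
    refine IsUnit.of_mul_eq_one (b := ⟨φ w, hV.1 ⟨w, rfl⟩⟩) (Subtype.ext ?_)
    show algebraMap A₀ L a * φ w = 1
    rw [← hφ, ← map_mul, hw, map_one]
  have hnon : ∀ a : A₀, a ∈ p₀ → ¬ IsUnit (ι a) := fun a ha h => by
    have hm : algebraMap A₀ L a ∈ V.nonunits := hV.2 ⟨e (algebraMap _ _ a), by
      show e.symm (e _) ∈ IsLocalRing.maximalIdeal _
      rw [RingEquiv.symm_apply_apply]
      exact (IsLocalization.AtPrime.to_map_mem_maximal_iff _ p₀ a).mpr ha, hφ a⟩
    obtain ⟨_, h'⟩ := ValuationSubring.mem_nonunits_iff_exists_mem_maximalIdeal.mp hm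
    exact h' h
  have hmemV : ∀ b : B, ψ b ∈ V := by
    let S : Subalgebra A B :=
      { (V.toSubring.comap ψ.toRingHom).toSubsemiring with
        algebraMap_mem' := fun a => by
          show ψ (algebraMap A B a) ∈ V
          rw [ψ.commutes, hA]; exact hA₀V _ }
    have : Algebra.adjoin A (s : Set B) ≤ S := Algebra.adjoin_le fun b hb => by
      show ψ b ∈ V
      have h1 := (hint (ψ b) (Finset.mem_image_of_mem _ hb)).tower_top (A := V)
      obtain ⟨v, hv⟩ := IsIntegrallyClosed.isIntegral_iff.mp h1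
      obtain ⟨w, hw⟩ := (hunit _ (fun h => hfp ((hp₀ f).mp h))).exists_left_inv
      have : ψ b = algebraMap V L (w * v) := by
        rw [map_mul, hv, Algebra.smul_def, IsScalarTower.algebraMap_apply A₀ V L, ← mul_assoc, ← map_mul]
        rw [show w * algebraMap A₀ V (Ideal.Quotient.mk P.asIdeal f) = 1 from hw, map_one, one_mul]
      rw [this]; exact (w * v).2
    rw [hs] at this
    exact fun b => this trivial
  let ψV : B →+* V := ψ.toRingHom.codRestrict V.toSubring hmemV
  have hc : ψV.comp (algebraMap A B) = ι.comp (Ideal.Quotient.mk P.asIdeal) :=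
    RingHom.ext fun a => Subtype.ext ((ψ.commutes a).trans (hA a))
  refine ⟨PrimeSpectrum.comap ψV (IsLocalRing.closedPoint V), PrimeSpectrum.ext ?_⟩
  show ((IsLocalRing.maximalIdeal V).comap ψV).comap (algebraMap A B) = p.asIdeal
  rw [Ideal.comap_comap, hc]
  ext a
  show ¬ IsUnit (ι (Ideal.Quotient.mk P.asIdeal a)) ↔ a ∈ p.asIdeal
  rw [← hp₀ a]
  exact ⟨fun h => by_contra fun h' => h (hunit _ h'), hnon _⟩

/-- Let Y be an irreducible scheme with generic point η and f : X → Y locally of finite type with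
nonempty fibre over η. Then some open neighbourhood of η is contained in f(X). (The second
assertion, on fibres of a quasi-coherent module of finite type, is not stated.) -/
theorem result {X Y : Scheme.{u}} (f : X ⟶ Y)
    [LocallyOfFiniteType f] [IrreducibleSpace Y] (h : genericPoint Y ∈ Set.range f.base) :
    genericPoint Y ∈ interior (Set.range f.base) := by

  obtain ⟨x, hx⟩ := h
  obtain ⟨_, ⟨(V : Y.Opens), hV, rfl⟩, hηV, -⟩ :=
    Y.isBasis_affineOpens.exists_subset_of_mem_open (Set.mem_univ (genericPoint Y)) isOpen_univ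
  obtain ⟨_, ⟨(W : X.Opens), hW, rfl⟩, hxW, hWV⟩ := X.isBasis_affineOpens.exists_subset_of_mem_open
    (show x ∈ (f ⁻¹ᵁ V : X.Opens) by show f x ∈ V; rw [show f x = genericPoint Y from hx]; exact hηV) (f ⁻¹ᵁ V).2
  replace hV : IsAffineOpen V := hV
  replace hW : IsAffineOpen W := hW
  letI := (f.appLE V W hWV).hom.toAlgebra
  haveI : Algebra.FiniteType Γ(Y, V) Γ(X, W) := LocallyOfFiniteType.finiteType_appLE f hV hW hWV
  let η := hV.primeIdealOf ⟨genericPoint Y, hηV⟩
  have key : ∀ w : Spec Γ(X, W), hV.fromSpec (Spec.map (f.appLE V W hWV) w) = f (hW.fromSpec w) := fun w => by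
    rw [← Scheme.Hom.comp_apply, hV.SpecMap_appLE_fromSpec f hW hWV, Scheme.Hom.comp_apply]
  have hη : η ∈ Set.range (PrimeSpectrum.comap (algebraMap Γ(Y, V) Γ(X, W))) := by
    refine ⟨hW.primeIdealOf ⟨x, hxW⟩, hV.fromSpec.isOpenEmbedding.injective ?_⟩
    exact (key _).trans (by rw [IsAffineOpen.fromSpec_primeIdealOf, IsAffineOpen.fromSpec_primeIdealOf]; exact hx)
  obtain ⟨g, hg, hsub⟩ := exists_basicOpen_subset_range η hη
  rw [mem_interior]
  refine ⟨hV.fromSpec '' (PrimeSpectrum.basicOpen g : Set (PrimeSpectrum Γ(Y, V))), ?_,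
    hV.fromSpec.isOpenEmbedding.isOpenMap _ (PrimeSpectrum.basicOpen g).2, ⟨η, hg, IsAffineOpen.fromSpec_primeIdealOf _ _⟩⟩
  rintro _ ⟨p, hp, rfl⟩
  have hle : η.asIdeal ≤ p.asIdeal := by
    refine (PrimeSpectrum.le_iff_specializes η p).mpr ?_
    refine hV.fromSpec.isOpenEmbedding.isInducing.specializes_iff.mp ?_
    rw [IsAffineOpen.fromSpec_primeIdealOf]
    exact genericPoint_specializes _
  obtain ⟨w, hw⟩ := hsub p hle hp
  exact ⟨hW.fromSpec w, by rw [← hw]; exact (key w).symm⟩

end Groth.Agent.S4585
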