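import Groth.Statements.S0396
import Groth.Agent.L20.LocalizedFlat

set_option autoImplicit false
universe u
open FlatMor

namespace Groth.Agent.S0396

open TensorProduct in
/-- For a map of Noetherian rings R → S, an ideal I of R and a finite S-module M such that M/IⁿM is flat
over R/Iⁿ for every n ≥ 1, the localization of M at any prime of S containing IS is flat over R. -/
theorem result {R S M : Type u} [CommRing R] [CommRing S] [IsNoetherianRing R] [IsNoetherianRing S] [Algebra R S]
    [AddCommGroup M] [Module R M] [Module S M] [IsScalarTower R S M] [Module.Finite S M] (I : Ideal R)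
    (h : ∀ n : ℕ, 0 < n → Module.Flat (R ⧸ I ^ n) ((R ⧸ I ^ n) ⊗[R] M))
    (q : Ideal S) [q.IsPrime] (hq : I.map (algebraMap R S) ≤ q) :
    Module.Flat R (LocalizedModule q.primeCompl M) := by
  exact Groth.L20.flat_localizedModule_of_flat_pow I h q hq

end Groth.Agent.S0396
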