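import Groth.Statements.S1265
import Groth.Agent.L20.Nilpotent
import Groth.Agent.L20.Purity
import Mathlib.RingTheory.Artinian.Ring
import Mathlib.RingTheory.Flat.Localization
import Mathlib.RingTheory.LocalRing.Basic
import Mathlib.RingTheory.Localization.AtPrime.Basic

set_option autoImplicit false
universe u
open FlatMor

namespace Groth.Agent.S1265
open TensorProduct

private theorem local_case {R : Type u} [CommRing R] [IsArtinianRing R] [IsLocalRing R]
    (M : Type u) [AddCommGroup M] [Module R M] :
    ∃ I : Ideal R, ∀ (S : Type u) [CommRing S] [Algebra R S],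
      (Module.Flat S (S ⊗[R] M) ↔ I.map (algebraMap R S) = ⊥) := by
  classical
  have hm : IsNilpotent (IsLocalRing.maximalIdeal R) := by
    rw [← IsLocalRing.jacobson_eq_maximalIdeal (⊥ : Ideal R) bot_ne_top]
    exact IsArtinianRing.isNilpotent_jacobson_bot
  obtain ⟨ι, φ, hφ, hker⟩ := Groth.L20.exists_free_cover (R := R) (M := M) hm
  refine ⟨Ideal.span {x | ∃ c, φ c = 0 ∧ ∃ i, c i = x}, fun S _ _ => ⟨fun hfl => ?_, fun h => ?_⟩⟩
  · rw [Ideal.map_eq_bot_iff_le_ker, Ideal.span_le]
    rintro _ ⟨c, hc, i, rfl⟩
    have h0 := Groth.L20.baseChange_relations_eq_zero (A := S) _ hm φ hφ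
      (fun x hx => hker x (by rw [hx]; exact zero_mem _)) c hc
    have h1 := congrArg (fun f => f i) (congrArg (finsuppScalarRight R S S ι) h0)
    simpa [Algebra.smul_def] using h1
  · have hc : ∀ c : LinearMap.ker φ, (1 : S) ⊗ₜ[R] (c : ι →₀ R) = 0 := by
      intro c
      apply (finsuppScalarRight R S S ι).injective
      ext i
      rw [finsuppScalarRight_apply_tmul_apply, map_zero, Finsupp.zero_apply, Algebra.smul_def,
        mul_one, ← Ideal.mem_bot, ← h]
      exact Ideal.mem_map_of_mem _ (Ideal.subset_span ⟨c.1, c.2, i, rfl⟩)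
    have hinj : Function.Injective (φ.baseChange S) := by
      rw [injective_iff_map_eq_zero]
      intro y hy
      obtain ⟨w, rfl⟩ := Groth.L20.mem_range_lTensor_of_exact (A := LinearMap.ker φ)
        (f := (LinearMap.ker φ).subtype) (LinearMap.exact_subtype_ker_map φ) hφ hy
      clear hy
      induction w using TensorProduct.induction_on with
      | zero => simp
      | add a b ha hb => rw [map_add, ha, hb, add_zero]
      | tmul a c =>
        rw [LinearMap.lTensor_tmul, Submodule.subtype_apply,
          show a ⊗ₜ[R] (c : ι →₀ R) = a • ((1 : S) ⊗ₜ[R] (c : ι →₀ R)) by simp [smul_tmul'],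
          hc, smul_zero]
    exact Module.Flat.of_linearEquiv
      (LinearEquiv.ofBijective (φ.baseChange S) ⟨hinj, LinearMap.lTensor_surjective S hφ⟩).symm

private theorem main {A : Type u} [CommRing A] [IsArtinianRing A] (N : Type u) [AddCommGroup N]
    [Module A N] :
    ∃ I : Ideal A, ∀ (A' : Type u) [CommRing A'] [Algebra A A'],
      (Module.Flat A' (A' ⊗[A] N) ↔ I.map (algebraMap A A') = ⊥) := by
  choose J hJ using fun m : MaximalSpectrum A =>
    local_case (R := Localization.AtPrime m.asIdeal) (Localization.AtPrime m.asIdeal ⊗[A] N)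
  refine ⟨⨅ m, (J m).comap (algebraMap A (Localization.AtPrime m.asIdeal)), fun A' _ _ => ?_⟩
  have hloc : ∀ (P : Ideal A') [P.IsPrime] (m : MaximalSpectrum A),
      m.asIdeal = P.comap (algebraMap A A') →
      ∃ f : Localization.AtPrime m.asIdeal →+* Localization.AtPrime P,
        f.comp (algebraMap A _) = (algebraMap A' _).comp (algebraMap A A') ∧
        ((J m).map f = ⊥ ↔ Module.Flat (Localization.AtPrime P)
          (Localization.AtPrime P ⊗[A] N)) := by
    intro P _ m hm
    refine ⟨Localization.localRingHom m.asIdeal P (algebraMap A A') hm, ?_, ?_⟩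
    · ext a
      exact Localization.localRingHom_to_map m.asIdeal P (algebraMap A A') hm a
    · let _ : Algebra (Localization.AtPrime m.asIdeal) (Localization.AtPrime P) :=
        (Localization.localRingHom m.asIdeal P (algebraMap A A') hm).toAlgebra
      have : IsScalarTower A (Localization.AtPrime m.asIdeal) (Localization.AtPrime P) :=
        IsScalarTower.of_algebraMap_eq fun a => by
          rw [RingHom.algebraMap_toAlgebra, Localization.localRingHom_to_map,
            IsScalarTower.algebraMap_apply A A' (Localization.AtPrime P)]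
      exact (hJ m (Localization.AtPrime P)).symm.trans
        (Module.Flat.equiv_iff (TensorProduct.AlgebraTensorModule.cancelBaseChange A
          (Localization.AtPrime m.asIdeal) (Localization.AtPrime P) (Localization.AtPrime P) N))
  have hprime : ∀ (P : Ideal A') [P.IsPrime], ∃ m : MaximalSpectrum A,
      m.asIdeal = P.comap (algebraMap A A') :=
    fun P hP => ⟨⟨P.comap (algebraMap A A'),
      (IsArtinianRing.isPrime_iff_isMaximal _).mp (hP.comap _)⟩, rfl⟩
  constructor
  · intro hfl
    rw [Ideal.map_eq_bot_iff_le_ker]
    intro a ha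
    rw [RingHom.mem_ker]
    refine eq_zero_of_localization _ fun P hP => ?_
    obtain ⟨m, hm⟩ := hprime P
    obtain ⟨f, hf, hiff⟩ := hloc P m hm
    have : Module.Flat (Localization.AtPrime P) (Localization.AtPrime P ⊗[A] N) :=
      Module.Flat.of_linearEquiv (TensorProduct.AlgebraTensorModule.cancelBaseChange A A'
        (Localization.AtPrime P) (Localization.AtPrime P) N).symm
    have h0 := hiff.mpr this
    rw [Submodule.mem_iInf] at ha
    have hmem : f (algebraMap A _ a) ∈ (J m).map f := Ideal.mem_map_of_mem _ (ha m)
    rw [h0, Ideal.mem_bot] at hmem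
    rwa [← RingHom.comp_apply, hf, RingHom.comp_apply] at hmem
  · intro hI
    refine Module.flat_of_localized_maximal (A' ⊗[A] N) fun P hP => ?_
    obtain ⟨m, hm⟩ := hprime P
    obtain ⟨f, hf, hiff⟩ := hloc P m hm
    have hJ0 : (J m).map f = ⊥ := by
      classical
      rw [Ideal.map_eq_bot_iff_le_ker]
      intro x hx
      obtain ⟨a, rfl⟩ := IsArtinianRing.localization_surjective m.asIdeal.primeCompl
        (Localization.AtPrime m.asIdeal) x
      have hsep : ∀ n : MaximalSpectrum A, ∃ s ∈ m.asIdeal.primeCompl,
          n ≠ m → algebraMap A (Localization.AtPrime n.asIdeal) s = 0 := by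
        intro n
        by_cases hn : n = m
        · exact ⟨1, one_mem _, fun h => absurd hn h⟩
        obtain ⟨s, hs, hsm⟩ := SetLike.not_le_iff_exists.mp fun hle =>
          hn (MaximalSpectrum.ext (n.isMaximal.eq_of_le m.isMaximal.ne_top hle))
        have : IsNilpotent (algebraMap A (Localization.AtPrime n.asIdeal) s) := by
          have h1 : IsNilpotent (IsLocalRing.maximalIdeal (Localization.AtPrime n.asIdeal)) := by
            rw [← IsLocalRing.jacobson_eq_maximalIdeal (⊥ : Ideal _) bot_ne_top]
            exact IsArtinianRing.isNilpotent_jacobson_bot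
          obtain ⟨k, hk⟩ := h1
          refine ⟨k, ?_⟩
          rw [← Ideal.mem_bot, ← Ideal.zero_eq_bot, ← hk]
          exact Ideal.pow_mem_pow
            ((IsLocalization.AtPrime.to_map_mem_maximal_iff _ n.asIdeal s).mpr hs) k
        obtain ⟨k, hk⟩ := this
        exact ⟨s ^ k, fun hc => hsm (m.isMaximal.isPrime.mem_of_pow_mem k hc),
          fun _ => by rw [map_pow, hk]⟩
      choose s hs hs0 using hsep
      have := Fintype.ofFinite (MaximalSpectrum A)
      let e := ∏ n, s n
      have he : e * a ∈ ⨅ n : MaximalSpectrum A,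
          (J n).comap (algebraMap A (Localization.AtPrime n.asIdeal)) := by
        rw [Submodule.mem_iInf]
        intro n
        rw [Ideal.mem_comap, map_mul]
        by_cases hn : n = m
        · subst hn; exact Ideal.mul_mem_left _ _ hx
        · rw [map_prod, Finset.prod_eq_zero (Finset.mem_univ n) (hs0 n hn), zero_mul]
          exact zero_mem _
      have h0 : algebraMap A A' (e * a) = 0 := by
        rw [← Ideal.mem_bot, ← hI]; exact Ideal.mem_map_of_mem _ he
      have h2 : f (algebraMap A _ e) * f (algebraMap A _ a) = 0 := by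
        rw [← map_mul, ← map_mul, ← RingHom.comp_apply, hf, RingHom.comp_apply, h0, map_zero]
      exact (((IsLocalization.map_units (Localization.AtPrime m.asIdeal)
        (⟨e, Submonoid.prod_mem _ fun n _ => hs n⟩ : m.asIdeal.primeCompl)).map f).mul_right_eq_zero).mp h2
    have := hiff.mp hJ0
    have : Module.Flat (Localization.AtPrime P) (Localization.AtPrime P ⊗[A'] (A' ⊗[A] N)) :=
      Module.Flat.of_linearEquiv (TensorProduct.AlgebraTensorModule.cancelBaseChange A A'
        (Localization.AtPrime P) (Localization.AtPrime P) N)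
    have : Module.Flat (Localization.AtPrime P) (LocalizedModule P.primeCompl (A' ⊗[A] N)) :=
      Module.Flat.of_linearEquiv (LocalizedModule.equivTensorProduct P.primeCompl (A' ⊗[A] N))
    exact Module.Flat.trans A' (Localization.AtPrime P) _


/-- Ring form, stated for X = Spec B affine: let A be an Artinian ring, B an A-algebra and N a B-module.
Then there is an ideal I of A such that for every A-algebra A', with B' = B ⊗_A A' and N' the base
change of N (any models), N' is flat over A' if and only if IA' = 0. -/
theorem result {A B : Type u} [CommRing A] [IsArtinianRing A] [CommRing B] [Algebra A B]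
    (N : Type u) [AddCommGroup N] [Module B N] [Module A N] [IsScalarTower A B N] :
    ∃ I : Ideal A, ∀ (A' B' N' : Type u) [CommRing A'] [CommRing B'] [Algebra A A'] [Algebra B B'] [Algebra A' B'] [Algebra A B']
      [IsScalarTower A B B'] [IsScalarTower A A' B'] [Algebra.IsPushout A B A' B']
      [AddCommGroup N'] [Module B' N'] [Module B N'] [IsScalarTower B B' N'] [Module A' N'] [IsScalarTower A' B' N']
      (f : N →ₗ[B] N'), IsBaseChange B' f →
      (Module.Flat A' N' ↔ I.map (algebraMap A A') = ⊥) := by
  obtain ⟨I, hI⟩ := main (A := A) N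
  refine ⟨I, ?_⟩
  intros
  rename_i A' B' N' _ _ _ _ _ _ _ _ _ _ _ _ _ _ _ f hf
  rw [Module.Flat.equiv_iff (Groth.L20.pushoutModuleEquiv (A := A) hf)]
  exact hI A'

end Groth.Agent.S1265
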