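import Groth.Statements.S9273
import Groth.Agent.L05.Glue.Flat
import Mathlib.LinearAlgebra.TensorProduct.RightExactness
import Mathlib.LinearAlgebra.TensorProduct.Pi
import Mathlib.RingTheory.TensorProduct.Maps
-- import your own Groth.Agent.* helpers here

set_option autoImplicit false
universe u
open CAlgX

namespace Groth.Agent.S9273

/-- Let A → B and A → A' be ring maps and B' = A' ⊗_A B. If f_1, ..., f_r is an H_1-regular sequence in
B with B/(f_1, ..., f_r) flat over A, then the images of the f_i in B' form an H_1-regular sequence. -/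
theorem result (A B A' : Type u) [CommRing A] [CommRing B]
    [CommRing A'] [Algebra A B] [Algebra A A'] (r : ℕ) (f : Fin r → B)
    (hflat : Module.Flat A (B ⧸ Ideal.span (Set.range f))) (hq : CAlgX.IsH1Regular f) :
    CAlgX.IsH1Regular (fun i => ((1 : A') ⊗ₜ[A] f i : TensorProduct A A' B)) := by
  classical
  set J : Submodule A B := (Ideal.span (Set.range f)).restrictScalars A with hJ
  let π₀ : (Fin r → B) →ₗ[A] B := ∑ i, (LinearMap.mulRight A (f i)) ∘ₗ LinearMap.proj i
  have hπ₀ : ∀ v, π₀ v = ∑ i, v i * f i := fun v => by simp [π₀]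
  let π : (Fin r → B) →ₗ[A] J := π₀.codRestrict J fun v => by
    rw [hπ₀]
    exact Ideal.sum_mem _ fun i _ => Ideal.mul_mem_left _ _ (Ideal.subset_span ⟨i, rfl⟩)
  have hπ : Function.Surjective π := fun ⟨x, hx⟩ => by
    obtain ⟨c, hc⟩ := Submodule.mem_span_range_iff_exists_fun (R := B) |>.1 hx
    exact ⟨c, Subtype.ext ((hπ₀ c).trans hc)⟩
  let triv : Fin r → Fin r → Fin r → B := fun i j => Pi.single i (f j) - Pi.single j (f i)
  let κ : (Fin r × Fin r → B) →ₗ[A] (Fin r → B) :=
    (Fintype.linearCombination B (fun p : Fin r × Fin r => triv p.1 p.2)).restrictScalars A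
  have hκ : Function.Exact κ π := by
    intro v
    constructor
    · intro hv
      have h1 := hq v ((hπ₀ v).symm.trans (congrArg Subtype.val hv))
      have h2 : v ∈ Submodule.span B (Set.range fun p : Fin r × Fin r => triv p.1 p.2) := by
        refine Submodule.span_mono ?_ h1
        rintro _ ⟨i, j, rfl⟩
        exact ⟨(i, j), rfl⟩
      obtain ⟨c, hc⟩ := (Submodule.mem_span_range_iff_exists_fun B).1 h2
      exact ⟨c, by simpa [κ, Fintype.linearCombination_apply] using hc⟩
    · rintro ⟨c, rfl⟩
      apply Subtype.ext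
      show π₀ (κ c) = 0
      rw [hπ₀]
      simp only [κ, LinearMap.coe_restrictScalars, Fintype.linearCombination_apply, Finset.sum_apply,
        Pi.smul_apply, smul_eq_mul, Finset.sum_mul]
      rw [Finset.sum_comm]
      refine Finset.sum_eq_zero fun p _ => ?_
      simp [triv, mul_sub, Finset.sum_sub_distrib, Pi.single_apply, mul_comm]
      ring
  have : Module.Flat A (B ⧸ J) := Module.Flat.of_linearEquiv
    (Submodule.Quotient.restrictScalarsEquiv A (Ideal.span (Set.range f)))
  have hinj : Function.Injective (J.subtype.lTensor A') :=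
    Groth.L05.Glue.lTensor_injective_of_flat_coker J.subtype J.mkQ J.injective_subtype
      (LinearMap.exact_subtype_mkQ J) J.mkQ_surjective A'
  let e := TensorProduct.piRight A A A' (fun _ : Fin r => B)
  have he : ∀ z, J.subtype.lTensor A' (π.lTensor A' z) =
      ∑ i, e z i * ((1 : A') ⊗ₜ[A] f i) := by
    intro z
    induction z using TensorProduct.induction_on with
    | zero => simp
    | tmul x v =>
      simp only [LinearMap.lTensor_tmul, e, TensorProduct.piRight_apply, TensorProduct.piRightHom_tmul,
        Algebra.TensorProduct.tmul_mul_tmul, mul_one]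
      rw [← TensorProduct.tmul_sum, ← hπ₀]
      rfl
    | add x y hx hy => simp only [map_add, hx, hy, Pi.add_apply, add_mul, Finset.sum_add_distrib]
  intro a ha
  obtain ⟨z, rfl⟩ := e.surjective a
  have hz : π.lTensor A' z = 0 := hinj (by rw [he, map_zero]; exact ha)
  obtain ⟨w, rfl⟩ := (lTensor_exact A' hκ hπ z).1 hz
  clear ha hz
  induction w using TensorProduct.induction_on with
  | zero => simp
  | tmul x c =>
    rw [LinearMap.lTensor_tmul]
    have : e (x ⊗ₜ[A] κ c) = ∑ p : Fin r × Fin r, (x ⊗ₜ[A] c p) •
        (Pi.single p.1 ((1 : A') ⊗ₜ[A] f p.2) - Pi.single p.2 ((1 : A') ⊗ₜ[A] f p.1)) := by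
      funext l
      rw [TensorProduct.piRight_apply, TensorProduct.piRightHom_tmul]
      simp only [κ, LinearMap.coe_restrictScalars, Fintype.linearCombination_apply, Finset.sum_apply, Pi.smul_apply, smul_eq_mul, TensorProduct.tmul_sum]
      refine Finset.sum_congr rfl fun p _ => ?_
      show x ⊗ₜ[A] (c p * triv p.1 p.2 l) = _
      simp [triv, Pi.sub_apply, Pi.single_apply, Algebra.TensorProduct.tmul_mul_tmul, TensorProduct.tmul_sub, mul_sub]
      split_ifs <;> simp
    rw [this]
    exact Submodule.sum_mem _ fun p _ => Submodule.smul_mem _ _ (Submodule.subset_span ⟨p.1, p.2, rfl⟩)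
  | add x y hx hy => rw [map_add, map_add]; exact Submodule.add_mem _ hx hy

end Groth.Agent.S9273
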