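import Groth.Statements.S4989
import Groth.Agent.L05.SmoothCrit.LocalModelScheme

set_option autoImplicit false
universe u
open CategoryTheory CategoryTheory.Limits AlgebraicGeometry TopologicalSpace
open Unram17

namespace Groth.Agent.S4989

/-- Let f : X ⟶ Y be locally of finite presentation and smooth at a point x with image y. Then the local
ring of X at x is reduced if and only if the local ring of Y at y is reduced, and it is an
integrally closed domain if and only if the local ring of Y at y is one. (The published statement
also covers geometrically unibranch local rings; this row states only the reduced and the integrally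
closed cases.) -/
theorem result {X Y : Scheme.{u}} (f : X ⟶ Y)
    [LocallyOfFinitePresentation f] (x : ↥X) (hx : x ∈ f.smoothLocus) :
    (IsReduced ↑(X.presheaf.stalk x) ↔ IsReduced ↑(Y.presheaf.stalk (f.base x))) ∧
    ((IsDomain ↑(X.presheaf.stalk x) ∧ IsIntegrallyClosed ↑(X.presheaf.stalk x)) ↔
      (IsDomain ↑(Y.presheaf.stalk (f.base x)) ∧ IsIntegrallyClosed ↑(Y.presheaf.stalk (f.base x)))) := by
  obtain ⟨A, B, _, _, _, _, q, _, -, ⟨eX⟩, ⟨eY⟩⟩ := Groth.L05.SmoothCrit.exists_smooth_chart f x hx
  constructor
  · constructor
    · intro h
      haveI : IsReduced (Localization.AtPrime q) := isReduced_of_injective eX.symm.toRingHom eX.symm.injective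
      haveI := (Groth.L05.SmoothCrit.isReduced_iff A B q).mp inferInstance
      exact isReduced_of_injective eY.toRingHom eY.injective
    · intro h
      haveI : IsReduced (Localization.AtPrime (q.comap (algebraMap A B))) :=
        isReduced_of_injective eY.symm.toRingHom eY.symm.injective
      haveI := (Groth.L05.SmoothCrit.isReduced_iff A B q).mpr inferInstance
      exact isReduced_of_injective eX.toRingHom eX.injective
  · constructor
    · rintro ⟨h1, h2⟩
      haveI := h1
      haveI := h2
      obtain ⟨h3, h4⟩ := (Groth.L05.SmoothCrit.isNormal_iff A B q).mp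
        ⟨eX.symm.toMulEquiv.isDomain, IsIntegrallyClosed.of_equiv eX⟩
      haveI := h3
      haveI := h4
      exact ⟨eY.toMulEquiv.isDomain, IsIntegrallyClosed.of_equiv eY.symm⟩
    · rintro ⟨h1, h2⟩
      haveI := h1
      haveI := h2
      obtain ⟨h3, h4⟩ := (Groth.L05.SmoothCrit.isNormal_iff A B q).mpr
        ⟨eY.symm.toMulEquiv.isDomain, IsIntegrallyClosed.of_equiv eY⟩
      haveI := h3
      haveI := h4
      exact ⟨eX.toMulEquiv.isDomain, IsIntegrallyClosed.of_equiv eX.symm⟩

end Groth.Agent.S4989
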