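import Groth.Statements.S16676
import Groth.Agent.L15.KerFlat.Basic
import Mathlib.AlgebraicGeometry.Morphisms.FlatDescent

set_option autoImplicit false
universe u
open CategoryTheory CategoryTheory.Limits MonoidalCategory CartesianMonoidalCategory MonObj GrpObj AlgebraicGeometry
open AbVar

namespace Groth.Agent.S16676

theorem universallyInjective_of_surjective_section {A B : Scheme.{u}} (g : A ⟶ B) (s : B ⟶ A)
    (hs : s ≫ g = 𝟙 B) [Surjective s] : UniversallyInjective g := by
  rw [UniversallyInjective.iff_diagonal]
  refine ⟨fun z => ?_⟩
  let m := pullback.map (𝟙 B) (𝟙 B) g g s s (𝟙 B) (by simp [hs]) (by simp [hs])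
  have hm : z ∈ Set.range m := by
    rw [Scheme.Pullback.range_map]
    exact ⟨s.surjective _, s.surjective _⟩
  obtain ⟨a, ha⟩ := hm
  refine ⟨(pullback.fst (𝟙 B) (𝟙 B) ≫ s) a, ?_⟩
  have hmeq : (pullback.fst (𝟙 B) (𝟙 B) ≫ s) ≫ pullback.diagonal g = m := ?_
  · rw [← ha, ← hmeq]
    rfl
  have hc : pullback.fst (𝟙 B) (𝟙 B) = pullback.snd (𝟙 B) (𝟙 B) := by
    simpa using pullback.condition (f := 𝟙 B) (g := 𝟙 B)
  apply pullback.hom_ext
  · rw [Category.assoc, Category.assoc, pullback.diagonal_fst, Category.comp_id]
    exact (pullback.lift_fst _ _ _).symm
  · rw [Category.assoc, Category.assoc, pullback.diagonal_snd, Category.comp_id, hc]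
    exact (pullback.lift_snd _ _ _).symm

/-- The equivalence of its second and third conditions. Let X and Y be abelian varieties over a field k
(proper, geometrically integral k-group schemes), f : X → Y a homomorphism which is finite, flat and
surjective (an isogeny), and i : N → X the kernel of f (the square formed by i, f, the unit section
of Y and the structure map of N is cartesian). Then f is universally injective (a purely inseparable
morphism) if and only if the scheme N is connected. (The published item also includes the equivalent
condition that the function field of X is purely inseparable over that of Y; that clause is not part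
of this statement.) -/
theorem result (k : Type u) [Field k]
    (X Y : Over (Spec (CommRingCat.of k)))
    [GrpObj X] [IsProper X.hom] [GeometricallyIntegral X.hom]
    [GrpObj Y] [IsProper Y.hom] [GeometricallyIntegral Y.hom]
    (f : X ⟶ Y) [IsMonHom f] [IsFinite f.left] [Flat f.left] [Surjective f.left]
    (N : Over (Spec (CommRingCat.of k))) (i : N ⟶ X) (hN : AlgGrp.IsKernel i f) :
    UniversallyInjective f.left ↔ ConnectedSpace ↥N.left := by
  haveI : IsIso (𝟙_ (Over (Spec (CommRingCat.of k)))).hom := inferInstanceAs (IsIso (𝟙 _))
  have hNl := hN.map (Over.forget _)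
  haveI : IsFinite N.hom := by
    rw [← Over.w (toUnit N)]
    exact (MorphismProperty.cancel_right_of_respectsIso @IsFinite _ (𝟙_ (Over (Spec (CommRingCat.of k)))).hom).2
      (MorphismProperty.of_isPullback hNl ‹IsFinite f.left›)
  let e : 𝟙_ (Over (Spec (CommRingCat.of k))) ⟶ N :=
    hN.lift η[X] (𝟙 _) (by rw [IsMonHom.one_hom f, Category.id_comp])
  haveI : Subsingleton ↥(Spec (CommRingCat.of k)) := inferInstanceAs (Subsingleton (PrimeSpectrum k))
  constructor
  · intro h
    haveI : UniversallyInjective N.hom := by
      rw [← Over.w (toUnit N)]
      exact (MorphismProperty.cancel_right_of_respectsIso @UniversallyInjective _ (𝟙_ (Over (Spec (CommRingCat.of k)))).hom).2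
        (MorphismProperty.of_isPullback hNl h)
    haveI : Subsingleton N.left := N.hom.injective.subsingleton
    haveI : Nonempty N.left := ⟨e.left (IsLocalRing.closedPoint k)⟩
    exact { toNonempty := inferInstance }
  · intro h
    haveI : Finite ↥N.left := by
      refine Finite.of_finite_univ ?_
      simpa using N.hom.finite_preimage_singleton (IsLocalRing.closedPoint k) |>.subset (fun x _ => Subsingleton.elim (N.hom x) _)
    haveI : IsLocallyArtinian N.left := IsLocallyArtinian.of_locallyQuasiFinite N.hom
    haveI : DiscreteTopology N.left := IsLocallyArtinian.discreteTopology (X := N.left)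
    haveI : Surjective e.left := ⟨fun x => ⟨IsLocalRing.closedPoint k,
      PreconnectedSpace.constant inferInstance (f := id) continuous_id⟩⟩
    haveI : UniversallyInjective N.hom := universallyInjective_of_surjective_section N.hom e.left (Over.w e)
    have h2 := (Groth.L15.KerFlat.isPullback_kernelPair hN).map (Over.forget _)
    have h3 : UniversallyInjective (fst X N).left := MorphismProperty.pullback_fst X.hom N.hom ‹_›
    exact MorphismProperty.of_isPullback_of_descendsAlong (P := @UniversallyInjective)
      (Q := @Surjective ⊓ @Flat ⊓ @QuasiCompact) h2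
      ⟨⟨‹Surjective f.left›, ‹Flat f.left›⟩, inferInstanceAs (QuasiCompact f.left)⟩ h3

end Groth.Agent.S16676
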