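import Groth.Statements.S9696
import Groth.Agent.L05.Point.UnramDescent
-- import your own Groth.Agent.* helpers here

set_option autoImplicit false
universe u
open CategoryTheory CategoryTheory.Limits AlgebraicGeometry
open Mor

namespace Groth.Agent.S9696

/-- Let f : X ⟶ S be flat and locally of finite presentation and g : S' ⟶ S any morphism, with base
change f' : X ×_S S' ⟶ S' and projection g' : X ×_S S' ⟶ X. Then the open set of points where f' is
etale is the inverse image under g' of the open set of points where f is etale. -/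
theorem result {X S S' : Scheme.{u}} (f : X ⟶ S) [Flat f]
    [LocallyOfFinitePresentation f] (g : S' ⟶ S) (x' : ↑(pullback f g)) :
    (∃ U' : (pullback f g).Opens, x' ∈ U' ∧ Etale (U'.ι ≫ pullback.snd f g)) ↔
      (∃ U : X.Opens, (pullback.fst f g).base x' ∈ U ∧ Etale (U.ι ≫ f)) := by
  refine ⟨fun h => ?_, fun h => Groth.L05.Point.nhd_of_isPullback (P := @Etale) (IsPullback.of_hasPullback f g) x' h⟩
  obtain ⟨U', hx', hU'⟩ := h
  exact (Groth.L05.Point.nhd_etale_iff f (pullback.fst f g x')).mpr
    ⟨Groth.L05.Point.nhd_formallyUnramified_of_isPullback (IsPullback.of_hasPullback f g)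
      ⟨U', hx', inferInstance⟩, (Flat.iff_flat_stalkMap _).mp ‹Flat f› _⟩

end Groth.Agent.S9696
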