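import Groth.Statements.S11218
import Groth.Agent.L19.AlgGrpBasic.OrbitClosure
import Groth.Agent.L19.QuotientMap
import Groth.Agent.L25.Actions

set_option autoImplicit false
set_option backward.isDefEq.respectTransparency.types false
set_option backward.isDefEq.respectTransparency false
set_option linter.style.haveILetI false
universe u
open CategoryTheory MonoidalCategory CartesianMonoidalCategory MonObj GrpObj AlgebraicGeometry
open scoped TensorProduct
open AGF
open Groth.L08.ProfiniteImage (pt lt comp_lt)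
open Groth.L08.Homog (A comp_A orbit_lt)
open Groth.L19.AlgGrpBasic (exists_point_of_closed)
open Groth.L19.QuotientMap (comp_whisker_mul)

namespace Groth.Agent.S11218

/-- Let k be an algebraically closed field, G a linear algebraic group over k (an affine smooth group
scheme over k) and H a closed subgroup of G (a smooth closed subgroup scheme, i : H → G), such that
the quotient G/H (the scheme Y with action b and base point o′) is proper over k (complete). Let G
act on a variety X over k (separated, of finite type) and let x be a rational point of X; let Z ⊆ X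
be the closure of the H-orbit of x. Then the closure of the G-orbit of x is G·Z, the image under the
action map of the preimage of Z in G × X. (The published statement takes X affine; the argument does
not use this, and this row drops it.) -/
theorem result (k : Type u) [Field k] [IsAlgClosed k]
    (G : Over (Spec (CommRingCat.of k))) [GrpObj G] [IsAffine G.left] [Smooth G.hom]
    (H : Over (Spec (CommRingCat.of k))) [GrpObj H] [Smooth H.hom] (i : H ⟶ G) [IsMonHom i]
    [IsClosedImmersion i.left]
    (Y : Over (Spec (CommRingCat.of k))) (b : AlgGrp.Action G Y) (o' : 𝟙_ (Over (Spec (CommRingCat.of k))) ⟶ Y) (hY : AGF.IsQuotient i Y b o')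
    [IsProper Y.hom]
    (X : Over (Spec (CommRingCat.of k))) [IsSeparated X.hom] [LocallyOfFiniteType X.hom] [QuasiCompact X.hom]
    (a : AlgGrp.Action G X) (x : 𝟙_ (Over (Spec (CommRingCat.of k))) ⟶ X) :
    closure (Set.range ⇑(a.orbitMap x).left.base) =
      ⇑a.act.left.base '' (⇑(snd G X).left.base ⁻¹' closure (Set.range ⇑(i ≫ a.orbitMap x).left.base)) := by
  obtain ⟨hYl, hfl, hsur, hsq⟩ := hY
  haveI := hYl
  set π := a.orbitMap x with hπ
  set q := b.orbitMap o'
  haveI : Flat q.left := hfl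
  haveI : Surjective q.left := hsur
  haveI : JacobsonSpace G.left := LocallyOfFiniteType.jacobsonSpace G.hom
  haveI : LocallyOfFiniteType (G ⊗ X).hom := by
    haveI : LocallyOfFiniteType (fst G X).left :=
      MorphismProperty.of_isPullback (P := @LocallyOfFiniteType) (Groth.L25.Actions.isPullback_snd G X).flip ‹LocallyOfFiniteType X.hom›
    rw [← Over.w (fst G X)]
    infer_instance
  haveI : LocallyOfFiniteType (Y ⊗ X).hom := by
    haveI : LocallyOfFiniteType (fst Y X).left :=
      MorphismProperty.of_isPullback (P := @LocallyOfFiniteType) (Groth.L25.Actions.isPullback_snd Y X).flip ‹LocallyOfFiniteType X.hom›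
    rw [← Over.w (fst Y X)]
    infer_instance
  haveI : IsLocallyNoetherian Y.left := LocallyOfFiniteType.isLocallyNoetherian Y.hom
  haveI : LocallyOfFiniteType (q.left ≫ Y.hom) := by rw [Over.w]; infer_instance
  haveI : LocallyOfFiniteType q.left := locallyOfFiniteType_of_comp q.left Y.hom
  haveI : LocallyOfFinitePresentation q.left := inferInstance
  let Q : G ⊗ X ⟶ Y ⊗ X := q ▷ X
  haveI : Surjective Q.left := Groth.L25.Actions.of_whiskerRight (@Surjective) q X ‹_›
  haveI : Flat Q.left := Groth.L25.Actions.of_whiskerRight (@Flat) q X ‹_›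
  haveI : LocallyOfFinitePresentation Q.left :=
    Groth.L25.Actions.of_whiskerRight (@LocallyOfFinitePresentation) q X ‹_›
  haveI : UniversallyOpen Q.left := inferInstance
  have hptcl : ∀ {W : Over (Spec (CommRingCat.of k))} [LocallyOfFiniteType W.hom] (p : 𝟙_ _ ⟶ W),
      IsClosed ({pt p} : Set W.left) := fun {W} _ p => ((pointEquivClosedPoint W.hom) ⟨p.left, Over.w p⟩).2
  have hptinj : ∀ {W : Over (Spec (CommRingCat.of k))} [LocallyOfFiniteType W.hom] (p p' : 𝟙_ _ ⟶ W),
      pt p = pt p' → p = p' := fun {W} _ p p' e => by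
    ext1
    exact congrArg Subtype.val ((pointEquivClosedPoint W.hom).injective (a₁ := ⟨p.left, Over.w p⟩)
      (a₂ := ⟨p'.left, Over.w p'⟩) (Subtype.ext e))
  set Zc := closure (Set.range ⇑(i ≫ π).left.base) with hZc
  set D := closure (Set.range ⇑π.left.base) with hD
  let φ : G ⊗ X ⟶ X := lift (fst G X)⁻¹ (snd G X) ≫ a.act
  let e : G ⊗ X ⟶ G ⊗ X := lift (fst G X) a.act
  let e' : G ⊗ X ⟶ G ⊗ X := lift (fst G X) φ
  have heφ : e ≫ φ = snd G X := by
    simp only [φ, e, comp_lift_assoc, GrpObj.comp_inv, lift_fst, lift_snd]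
    have h := Groth.L25.Actions.inv_act a (fst G X) (snd G X)
    rwa [lift_fst_snd, Category.id_comp] at h
  have he'act : e' ≫ a.act = snd G X := Groth.L25.Actions.act_inv a _ _
  set S : Set (G ⊗ X).left := φ.left ⁻¹' Zc
  have hS : IsClosed S := isClosed_closure.preimage φ.left.continuous
  have hRHS : ⇑a.act.left.base '' (⇑(snd G X).left.base ⁻¹' Zc) = (snd G X).left '' S := by
    apply Set.Subset.antisymm
    · rintro _ ⟨w, hw, rfl⟩
      refine ⟨e.left w, ?_, ?_⟩
      · show φ.left (e.left w) ∈ Zc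
        rw [← Scheme.Hom.comp_apply, ← Over.comp_left, heφ]
        exact hw
      · rw [← Scheme.Hom.comp_apply, ← Over.comp_left]
        simp only [e, lift_snd]
    · rintro _ ⟨w, hw, rfl⟩
      refine ⟨e'.left w, ?_, ?_⟩
      · show (snd G X).left (e'.left w) ∈ Zc
        rw [← Scheme.Hom.comp_apply, ← Over.comp_left]
        simp only [e', lift_snd]
        exact hw
      · rw [← Scheme.Hom.comp_apply, ← Over.comp_left, he'act]
  have hstab : ∀ (c : 𝟙_ _ ⟶ H) (z : X.left), z ∈ Zc → (A a (c ≫ i)).left z ∈ Zc := by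
    intro c z hz
    refine map_mem_closure (A a (c ≫ i)).left.continuous hz ?_
    rintro _ ⟨h, rfl⟩
    refine ⟨(lt c).left h, ?_⟩
    rw [← Scheme.Hom.comp_apply, ← Scheme.Hom.comp_apply, ← Over.comp_left, ← Over.comp_left]
    have hlt : lt c ≫ i = i ≫ lt (c ≫ i) := by
      rw [comp_lt]
      simp only [lt, MonObj.mul_comp (g := i), Category.id_comp, Category.assoc]
    rw [Category.assoc, ← orbit_lt a x, ← Category.assoc, hlt, Category.assoc]
  set C : Set (Y ⊗ X).left := (Q.left '' Sᶜ)ᶜ
  have hC : IsClosed C := (Q.left.isOpenMap _ hS.isOpen_compl).isClosed_compl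
  haveI : JacobsonSpace (G ⊗ X).left := LocallyOfFiniteType.jacobsonSpace (G ⊗ X).hom
  have hsat : Q.left ⁻¹' C = S := by
    apply Set.Subset.antisymm
    · intro w hw
      by_contra hwS
      exact hw ⟨w, hwS, rfl⟩
    · intro w hw
      by_contra hwC
      have hlc : IsLocallyClosed (S ∩ (Q.left ⁻¹' C)ᶜ) :=
        hS.isLocallyClosed.inter (hC.preimage Q.left.continuous).isOpen_compl.isLocallyClosed
      obtain ⟨s, ⟨hsS, hsC⟩, hsc⟩ := nonempty_inter_closedPoints (Z := S ∩ (Q.left ⁻¹' C)ᶜ) ⟨w, hw, hwC⟩ hlc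
      obtain ⟨p, rfl⟩ := exists_point_of_closed hsc
      obtain ⟨u, hu, hus⟩ : Q.left (pt p) ∈ Q.left '' Sᶜ := Set.notMem_compl_iff.1 hsC
      have hfc : IsClosed ({Q.left (pt p)} : Set (Y ⊗ X).left) := hptcl (p ≫ Q)
      obtain ⟨v, ⟨hvu, hvS⟩, hvc⟩ := nonempty_inter_closedPoints (Z := Q.left ⁻¹' {Q.left (pt p)} ∩ Sᶜ)
        ⟨u, hus, hu⟩ ((hfc.preimage Q.left.continuous).isLocallyClosed.inter hS.isOpen_compl.isLocallyClosed)
      obtain ⟨p', rfl⟩ := exists_point_of_closed hvc
      have hpQ : p' ≫ Q = p ≫ Q := hptinj _ _ hvu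
      have h1 : (p' ≫ fst G X) ≫ q = (p ≫ fst G X) ≫ q := by
        have := hpQ =≫ fst Y X
        simpa [Q] using this
      have h2 : p' ≫ snd G X = p ≫ snd G X := by
        have := hpQ =≫ snd Y X
        simpa [Q] using this
      obtain ⟨n, hn1, hn2⟩ := hsq.exists_lift (p ≫ fst G X) (p' ≫ fst G X) h1.symm
      rw [comp_whisker_mul, hn1] at hn2
      apply hvS
      show φ.left (pt p') ∈ Zc
      have hφ : ∀ r : 𝟙_ _ ⟶ G ⊗ X, r ≫ φ = lift (r ≫ fst G X)⁻¹ (r ≫ snd G X) ≫ a.act := fun r => by
        simp only [φ, comp_lift_assoc, GrpObj.comp_inv]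
      have hpφ : p' ≫ φ = (p ≫ φ) ≫ A a ((n ≫ snd G H)⁻¹ ≫ i) := by
        rw [comp_A, toUnit_unique (toUnit (𝟙_ _)) (𝟙 _), Category.id_comp, hφ, hφ, h2,
          ← Groth.L25.Actions.mul_act, ← hn2, _root_.mul_inv_rev, GrpObj.inv_comp, Category.assoc]
      have := hstab (n ≫ snd G H)⁻¹ _ (show φ.left (pt p) ∈ Zc from hsS)
      rw [← Scheme.Hom.comp_apply, ← Over.comp_left] at this
      show (p' ≫ φ).left (IsLocalRing.closedPoint k) ∈ Zc
      rw [hpφ]
      exact this
  haveI : UniversallyClosed (snd Y X).left :=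
    MorphismProperty.of_isPullback (P := @UniversallyClosed) (Groth.L25.Actions.isPullback_snd Y X) inferInstance
  have hclR : IsClosed ((snd G X).left '' S) := by
    have : (snd G X).left '' S = (snd Y X).left '' C := by
      rw [← hsat, show (snd G X).left = Q.left ≫ (snd Y X).left by rw [← Over.comp_left]; simp [Q],
        Scheme.Hom.comp_base, TopCat.coe_comp, Set.image_comp, Set.image_preimage_eq _ Q.left.surjective]
    rw [this]
    exact (snd Y X).left.isClosedMap _ hC
  apply Set.Subset.antisymm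
  · rw [hRHS]
    refine closure_minimal ?_ hclR
    rw [← hRHS]
    rintro _ ⟨g, rfl⟩
    refine ⟨(lift (𝟙 G) (toUnit G ≫ x)).left g, ?_, ?_⟩
    · show (snd G X).left ((lift (𝟙 G) (toUnit G ≫ x)).left g) ∈ Zc
      rw [← Scheme.Hom.comp_apply, ← Over.comp_left, lift_snd, Over.comp_left, Scheme.Hom.comp_apply]
      refine subset_closure ⟨pt (1 : 𝟙_ _ ⟶ H), ?_⟩
      have h1 : (1 : 𝟙_ _ ⟶ H) ≫ i ≫ π = x := by
        rw [← Category.assoc, MonObj.one_comp, hπ, Groth.L19.QuotientMap.orbit_apply,
          toUnit_unique (toUnit (𝟙_ _)) (𝟙 _), Category.id_comp]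
        exact Groth.L25.Actions.one_act a x
      show ((1 : 𝟙_ _ ⟶ H) ≫ i ≫ π).left (IsLocalRing.closedPoint k) = _
      rw [h1]
      exact congrArg x.left (Subsingleton.elim (α := PrimeSpectrum k) _ _)
    · rw [← Scheme.Hom.comp_apply, ← Over.comp_left]
      rfl
  · intro z hz
    obtain ⟨w, hw, rfl⟩ := hz
    by_contra hwD
    have hlc : IsLocallyClosed ((snd G X).left ⁻¹' Zc ∩ (a.act.left ⁻¹' D)ᶜ) :=
      (isClosed_closure.preimage (snd G X).left.continuous).isLocallyClosed.inter
        (isClosed_closure.preimage a.act.left.continuous).isOpen_compl.isLocallyClosed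
    obtain ⟨s, ⟨hs1, hs2⟩, hsc⟩ := nonempty_inter_closedPoints (Z := (snd G X).left ⁻¹' Zc ∩ (a.act.left ⁻¹' D)ᶜ) ⟨w, hw, hwD⟩ hlc
    obtain ⟨p, rfl⟩ := exists_point_of_closed hsc
    apply hs2
    show a.act.left (pt p) ∈ D
    have hp : p ≫ a.act = (p ≫ snd G X) ≫ A a (p ≫ fst G X) := by
      rw [comp_A, toUnit_unique (toUnit (𝟙_ _)) (𝟙 _), Category.id_comp, ← comp_lift, lift_fst_snd,
        Category.comp_id]
    show (p ≫ a.act).left (IsLocalRing.closedPoint k) ∈ D
    rw [hp, Over.comp_left, Scheme.Hom.comp_apply]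
    refine map_mem_closure (A a (p ≫ fst G X)).left.continuous
      (closure_mono (show Set.range ⇑(i ≫ π).left.base ⊆ Set.range ⇑π.left.base by
        rintro _ ⟨h, rfl⟩; exact ⟨i.left h, rfl⟩) hs1) ?_
    rintro _ ⟨g, rfl⟩
    refine ⟨(lt (p ≫ fst G X)).left g, ?_⟩
    rw [← Scheme.Hom.comp_apply, ← Scheme.Hom.comp_apply, ← Over.comp_left, ← Over.comp_left, orbit_lt]

end Groth.Agent.S11218
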