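import Groth.Statements.S5364
import Groth.Agent.L08.FactorLocus
import Groth.Agent.L08.SubgroupObj
import Mathlib.Tactic.Group

set_option linter.style.haveILetI false

set_option autoImplicit false
universe u
open CategoryTheory CategoryTheory.Limits MonoidalCategory CartesianMonoidalCategory MonObj GrpObj AlgebraicGeometry
open SGA3

namespace Groth.Agent.S5364

/-- Let G be a group scheme over a field k and a : A → G, b : B → G two closed subgroup schemes which
are geometrically reduced over k and normal in G. Let i : Γ → G be the commutator subgroup scheme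
(A, B): the smallest closed subgroup scheme of G through which the morphism A ×_k B → G, (x, y) ↦
a(x) b(y) a(x)⁻¹ b(y)⁻¹, factors. Then Γ is normal in G. (The published statement also covers
characteristic subgroups; this row states the case of normal subgroups only.) -/
theorem result (k : Type u) [Field k] (G A B : Over (Spec (CommRingCat.of k))) [GrpObj G] [GrpObj A] [GrpObj B]
    (a : A ⟶ G) [IsMonHom a] [IsClosedImmersion a.left] (b : B ⟶ G) [IsMonHom b] [IsClosedImmersion b.left]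
    [GeometricallyReduced A.hom] [GeometricallyReduced B.hom] (hA : AlgGrp.IsNormalHom a) (hB : AlgGrp.IsNormalHom b)
    (Γ : Over (Spec (CommRingCat.of k))) [GrpObj Γ] (i : Γ ⟶ G) [IsMonHom i] [IsClosedImmersion i.left]
    (hf : ∃ f' : A ⊗ B ⟶ Γ, f' ≫ i = (((fst A B) ≫ a) * ((snd A B) ≫ b) * ((fst A B) ≫ a)⁻¹ * ((snd A B) ≫ b)⁻¹))
    (hmin : ∀ (Γ' : Over (Spec (CommRingCat.of k))) (_ : GrpObj Γ') (i' : Γ' ⟶ G), IsMonHom i' → IsClosedImmersion i'.left →
        (∃ f'' : A ⊗ B ⟶ Γ', f'' ≫ i' = (((fst A B) ≫ a) * ((snd A B) ≫ b) * ((fst A B) ≫ a)⁻¹ * ((snd A B) ≫ b)⁻¹)) → ∃ j : Γ ⟶ Γ', j ≫ i' = i) :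
    AlgGrp.IsNormalHom i := by
  haveI : Mono i := Over.mono_of_mono_left i
  obtain ⟨Z, t, ht, hZ⟩ := Groth.L08.FactorLocus.exists_closedImmersion_lands
    (fst G G * snd G G * (fst G G)⁻¹) i
  haveI : Mono t := Over.mono_of_mono_left t
  have crit : ∀ (X : Over (Spec (CommRingCat.of k))) (g : X ⟶ G), (∃ z : X ⟶ Z, z ≫ t = g) ↔
      ∀ (X' : Over (Spec (CommRingCat.of k))) (x : X' ⟶ X) (h : X' ⟶ G),
        ∃ w : X' ⟶ Γ, w ≫ i = h * (x ≫ g) * h⁻¹ := by
    intro X g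
    rw [hZ X g]
    simp only [MonObj.comp_mul, GrpObj.comp_inv, whiskerLeft_fst, whiskerLeft_snd]
    constructor
    · rintro ⟨w, hw⟩ X' x h
      refine ⟨lift h x ≫ w, ?_⟩
      rw [Category.assoc, hw]
      simp only [MonObj.comp_mul, GrpObj.comp_inv, lift_fst, lift_snd_assoc]
    · intro h
      exact h (G ⊗ X) (snd G X) (fst G X)
  have hc : ∀ (X' : Over (Spec (CommRingCat.of k))) (a : X' ⟶ Z) (h : X' ⟶ G),
      ∃ w : X' ⟶ Γ, w ≫ i = h * (a ≫ t) * h⁻¹ := fun X' a h => by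
    have := (crit X' (a ≫ t)).1 ⟨a, rfl⟩ X' (𝟙 _) h
    rwa [Category.id_comp] at this
  obtain ⟨gZ, hti⟩ := Groth.L08.exists_grpObj_of_mono t
    ((crit _ η[G]).2 fun X' x h => ⟨1, by
      rw [toUnit_unique x (toUnit X'), ← Hom.one_def, MonObj.one_comp, _root_.mul_one, mul_inv_cancel]⟩)
    ((crit _ _).2 fun X' x h => by
      obtain ⟨w₁, h₁⟩ := hc X' (x ≫ fst Z Z) h
      obtain ⟨w₂, h₂⟩ := hc X' (x ≫ snd Z Z) h
      simp only [Category.assoc] at h₁ h₂
      refine ⟨w₁ * w₂, ?_⟩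
      rw [MonObj.mul_comp, h₁, h₂, MonObj.comp_mul]
      group)
    ((crit _ _).2 fun X' x h => by
      obtain ⟨w, hw⟩ := hc X' x h
      refine ⟨w⁻¹, ?_⟩
      rw [GrpObj.inv_comp, hw, GrpObj.comp_inv]
      group)
  obtain ⟨f', hf'⟩ := hf
  obtain ⟨j, hj⟩ := hmin Z gZ t hti ht ((crit _ _).2 fun X' x h => by
    obtain ⟨n₁, h₁⟩ := hA X' h (x ≫ fst A B)
    obtain ⟨n₂, h₂⟩ := hB X' h (x ≫ snd A B)
    refine ⟨lift n₁ n₂ ≫ f', ?_⟩
    rw [Category.assoc, hf']
    simp only [MonObj.comp_mul, GrpObj.comp_inv, lift_fst_assoc, lift_snd_assoc, ← h₁, ← h₂, Category.assoc]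
    group)
  intro T g n
  obtain ⟨w, hw⟩ := hc T (n ≫ j) g
  exact ⟨w, by rw [hw, Category.assoc, hj]⟩


end Groth.Agent.S5364
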