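import Groth.Agent.L18.ValCrit2
import Mathlib.AlgebraicGeometry.Morphisms.Proper
import Groth.Statements.S2353
-- import your own Groth.Agent.* helpers here

set_option autoImplicit false
universe u
open CategoryTheory CategoryTheory.Limits AlgebraicGeometry
open EGA2

namespace Groth.Agent.S2353

/-- Let Y be an integral separated locally Noetherian scheme, X an integral separated scheme and f : X →
Y dominant and of finite type, with generic point ξ of X. Suppose that for every discrete valuation
subring R of the function field K(X) and every point y of Y such that R dominates the local ring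
O_{Y,y} (through O_{Y,y} → O_{Y,f(ξ)} → K(X): the image lies in R and the maximal ideal maps into
the maximal ideal of R), there is a point x of X whose local ring is dominated by R (through O_{X,x}
→ K(X)). Then f is proper. -/
theorem result {X Y : Scheme.{u}} [IsIntegral X] [IsIntegral Y] [X.IsSeparated] [Y.IsSeparated]
    [IsLocallyNoetherian Y] (f : X ⟶ Y) [IsDominant f] [LocallyOfFiniteType f] [QuasiCompact f]
    (h : ∀ (R : ValuationSubring X.functionField), IsDiscreteValuationRing R →
      ∀ (y : Y) (hy : f.base (genericPoint X) ⤳ y), ((∀ a : (Y.presheaf.stalk y), (Y.presheaf.stalkSpecializes hy ≫ f.stalkMap (genericPoint X)).hom a ∈ R) ∧ ∀ a ∈ IsLocalRing.maximalIdeal (Y.presheaf.stalk y), R.valuation ((Y.presheaf.stalkSpecializes hy ≫ f.stalkMap (genericPoint X)).hom a) < 1) →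
        ∃ x : X, ((∀ a : (X.presheaf.stalk x), algebraMap (X.presheaf.stalk x) X.functionField a ∈ R) ∧ ∀ a ∈ IsLocalRing.maximalIdeal (X.presheaf.stalk x), R.valuation (algebraMap (X.presheaf.stalk x) X.functionField a) < 1)) :
    IsProper f := by
  have : IsSeparated (f ≫ terminal.from Y) := by
    rw [terminal.comp_from]; infer_instance
  have : IsSeparated f := IsSeparated.of_comp f (terminal.from Y)
  set ξ := genericPoint X
  have hlift : ∀ (R : ValuationSubring (X.residueField ξ)) (φ : Spec (CommRingCat.of R) ⟶ Y),
      Spec.map (CommRingCat.ofHom R.subtype) ≫ φ = X.fromSpecResidueField ξ ≫ f →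
      ∃ l : Spec (CommRingCat.of R) ⟶ X,
        l ≫ f = φ ∧ Spec.map (CommRingCat.ofHom R.subtype) ≫ l = X.fromSpecResidueField ξ := by
    refine fun R φ w => Groth.L18.exists_lift_of_dvr f (fun R hR φ w => ?_) R φ w
    refine Groth.L18.exists_lift_of_center f R φ w fun y hy hd => h _ ?_ y hy hd
    exact IsDiscreteValuationRing.RingEquivClass.isDiscreteValuationRing
      (RingEquiv.symm (RingEquiv.ofBijective
        ((X.residue ξ).hom.restrict (R.comap (X.residue ξ).hom) R fun _ h => h)
        ⟨fun a b hab => Subtype.ext (Groth.L18.bijective_residue_genericPoint.1 (congrArg Subtype.val hab)),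
          fun b => by
            obtain ⟨a, ha⟩ := X.residue_surjective ξ b.1
            exact ⟨⟨a, ValuationSubring.mem_comap.mpr (Set.mem_of_eq_of_mem ha b.2)⟩, Subtype.ext ha⟩⟩))
  refine .of_valuativeCriterion f (ValuativeCriterion.iff.mpr
    ⟨Groth.L18.existence_of_residueField f fun y V φ w => ?_, IsSeparated.valuativeCriterion f⟩)
  refine Groth.L18.exists_lift_of_refined (𝟙 X) f (z := ξ)
    ((genericPoint_spec X).specializes trivial) (fun R φ' w' => ?_)
    (fun R φ₁ φ₂ e₁ e₂ _ => Groth.L18.ext_of_isSeparated φ₁ φ₂ (e₁.trans e₂.symm)) V φ w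
  obtain ⟨l, hl, hl'⟩ := hlift R φ' (by rw [w', Category.id_comp])
  exact ⟨l, by rw [hl', Category.comp_id], hl⟩

end Groth.Agent.S2353
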