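import Groth.Statements.S11398
import Groth.Agent.S8004
import Groth.Agent.S7983
import Groth.Agent.L08.AbelianGrp

set_option autoImplicit false
set_option backward.isDefEq.respectTransparency.types false
set_option backward.isDefEq.respectTransparency false
set_option linter.style.haveILetI false
universe u
open CategoryTheory MonoidalCategory CartesianMonoidalCategory MonObj GrpObj AlgebraicGeometry CategoryTheory.Limits
open AlgGrp

namespace Groth.Agent.S11398

/-- Over an algebraically closed field k, every algebraic group G (a smooth k-group scheme of finite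
type) has a largest connected affine normal algebraic subgroup G_aff: a homomorphism and closed
immersion i : N → G from a smooth, connected, affine k-group scheme, normal in G, through which
every other such subgroup factors. Moreover the quotient G/G_aff has trivial G_aff: for every flat
surjective homomorphism q : G → Q of k-group schemes of finite type with kernel i, every smooth
connected affine normal closed subgroup of Q is the trivial group. -/
theorem result (k : Type u) [Field k] [IsAlgClosed k]
    (G : Over (Spec (CommRingCat.of k))) [GrpObj G] [Smooth G.hom] [QuasiCompact G.hom] :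
    ∃ (N : Over (Spec (CommRingCat.of k))) (_ : GrpObj N) (i : N ⟶ G), (IsMonHom i ∧ IsClosedImmersion i.left ∧ Smooth N.hom ∧
      ConnectedSpace ↥N.left ∧ IsAffine N.left ∧ AlgGrp.IsNormalHom i) ∧
      (∀ (N' : Over (Spec (CommRingCat.of k))) [GrpObj N'] (i' : N' ⟶ G) [IsMonHom i'] [IsClosedImmersion i'.left]
        [Smooth N'.hom] [ConnectedSpace ↥N'.left] [IsAffine N'.left], AlgGrp.IsNormalHom i' → ∃ f : N' ⟶ N, f ≫ i = i') ∧
      (∀ (Q : Over (Spec (CommRingCat.of k))) [GrpObj Q] [LocallyOfFiniteType Q.hom] [QuasiCompact Q.hom] (q : G ⟶ Q) [IsMonHom q]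
        [Surjective q.left] [Flat q.left], AlgGrp.IsKernel i q →
        ∀ (N'' : Over (Spec (CommRingCat.of k))) [GrpObj N''] (i'' : N'' ⟶ Q) [IsMonHom i''] [IsClosedImmersion i''.left]
          [Smooth N''.hom] [ConnectedSpace ↥N''.left] [IsAffine N''.left], AlgGrp.IsNormalHom i'' → IsIso N''.hom) := by
  let E₀ := 𝟙_ (Over (Spec (CommRingCat.of k)))
  haveI : IsClosedImmersion η[G].left := Groth.L08.AbelianGrp.isClosedImmersion_one G
  haveI : Smooth E₀.hom := inferInstanceAs (Smooth (𝟙 (Spec (CommRingCat.of k))))
  haveI : Subsingleton E₀.left := inferInstanceAs (Subsingleton (Spec (CommRingCat.of k)))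
  haveI : ConnectedSpace E₀.left := inferInstanceAs (ConnectedSpace ↥(Spec (CommRingCat.of k)))
  haveI : IsMonHom η[G] :=
    { one_hom := by simp [MonObj.one_eq_one]
      mul_hom := by
        rw [tensorHom_def_assoc, MonObj.mul_one, MonObj.one_eq_one, rightUnitor_hom, whiskerRight_fst]
        congr 1
        exact toUnit_unique _ _ }
  obtain ⟨H, gH, j, hj, hjc, hjs, hjC, hjN, hjA, hmax, hquot⟩ :=
    Groth.Agent.S8004.result k (fun E _ => IsAffine E.left)
      (fun N E Q _ _ _ _ _ _ _ _ _ i q _ _ _ _ hker hN hQ => (Groth.Agent.S7982.result k N E Q i q hker).1 hN hQ)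
      (fun E Q _ _ _ _ _ _ q _ _ _ hE => (Groth.Agent.S7983.result k E Q q).1 hE)
      G ⟨E₀, inferInstance, η[G], inferInstance, inferInstance, inferInstance, inferInstance,
        fun T g n => ⟨n, by rw [toUnit_unique n (toUnit T), ← Hom.one_def, _root_.mul_one, mul_inv_cancel]⟩,
        inferInstanceAs (IsAffine (Spec (CommRingCat.of k)))⟩
  refine ⟨H, gH, j, ⟨hj, hjc, hjs, hjC, hjA, hjN⟩, fun N' _ i' _ _ _ _ _ hn => ?_, ?_⟩
  · exact hmax N' i' inferInstance inferInstance inferInstance hn inferInstance
  · intro Q _ _ _ q _ _ _ hker N'' _ i'' _ _ _ _ _ hn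
    haveI := hquot Q q hker N'' i'' inferInstance inferInstance inferInstance hn inferInstance
    haveI : IsIso η[N''].left := inferInstanceAs (IsIso ((Over.forget _).map η[N'']))
    have h1 : η[N''].left ≫ N''.hom = 𝟙 _ := Over.w η[N'']
    exact IsIso.of_isIso_fac_left h1

end Groth.Agent.S11398
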