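import Groth.Statements.S5345
import Groth.Agent.L25.Component
import Mathlib.AlgebraicGeometry.ResidueField

set_option autoImplicit false
universe u
open CategoryTheory CategoryTheory.Limits MonoidalCategory CartesianMonoidalCategory MonObj GrpObj AlgebraicGeometry
open SGA3

namespace Groth.Agent.S5345

/-- Let A be a local artinian ring and G an A-group scheme locally of finite type. Then every connected
component of G, in particular the connected component of the unit, is quasi-compact (so the open
subscheme it carries is of finite type over A). (The published statement also asserts that the
components are irreducible and of equal dimension; this row states only their quasi-compactness.) -/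
theorem result (A : Type u) [CommRing A] [IsArtinianRing A] [IsLocalRing A] (G : Over (Spec (CommRingCat.of A))) [GrpObj G] [LocallyOfFiniteType G.hom]
    (g : G.left) : IsCompact (connectedComponent g) := by
  let q : Spec (CommRingCat.of (IsLocalRing.ResidueField A)) ⟶ Spec (CommRingCat.of A) :=
    Spec.map (CommRingCat.ofHom (IsLocalRing.residue A))
  have : IsClosedImmersion q := IsClosedImmersion.spec_of_surjective _ IsLocalRing.residue_surjective
  have : Surjective q := ⟨fun x => by
    refine ⟨IsLocalRing.closedPoint (IsLocalRing.ResidueField A), ?_⟩
    let y : PrimeSpectrum A := PrimeSpectrum.comap (IsLocalRing.residue A) (IsLocalRing.closedPoint _)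
    show y = x
    have hm : ∀ z : PrimeSpectrum A, z.asIdeal = IsLocalRing.maximalIdeal A := fun z =>
      IsLocalRing.eq_maximalIdeal (IsArtinianRing.isMaximal_of_isPrime z.asIdeal)
    exact PrimeSpectrum.ext ((hm y).trans (hm x).symm)⟩
  let f := Limits.pullback.fst G.hom q
  have : LocallyOfFiniteType (Red.bc q G).hom :=
    inferInstanceAs (LocallyOfFiniteType (Limits.pullback.snd G.hom q))
  let e := f.isClosedEmbedding.isEmbedding.toHomeomorphOfSurjective f.surjective
  exact Groth.L25.Component.isCompact_connectedComponent_homeomorph e (e.apply_symm_apply g)
    (Groth.L25.Component.isCompact_connectedComponent (Red.bc q G) _)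
end Groth.Agent.S5345
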