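import Groth.Statements.S2168
import Groth.Agent.L07.Avramov
import Groth.Agent.L06.FlatFibre
import Groth.Agent.S0564

set_option autoImplicit false
set_option linter.style.haveILetI false
universe u
open LCI

namespace Groth.Agent.S2168

/-- Let A be a Noetherian local ring which is a complete intersection (its completion is a regular local
ring modulo a regular sequence) and let p be a prime ideal of A. Then the localization A_p is a
complete intersection as well. -/
theorem result {A : Type u} [CommRing A] [IsNoetherianRing A]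
    [IsLocalRing A] (hA : Pi1.IsCompleteIntersection A) (p : Ideal A) [p.IsPrime] :
    Pi1.IsCompleteIntersection (Localization.AtPrime p) := by
  classical
  let Ah := AdicCompletion (IsLocalRing.maximalIdeal A) A
  haveI := Groth.L01.AnalUnram.isNoetherianRing_completion A
  haveI := Groth.L01.CompletionExt.faithfullyFlat A
  obtain ⟨C, _, hC, rs, hrs, hreg, ⟨e⟩⟩ := hA
  haveI := hC
  obtain ⟨P, hP, hlies⟩ := Ideal.exists_isPrime_liesOver_of_faithfullyFlat (B := Ah) p
  let π : C →+* Ah := e.symm.toRingHom.comp (Ideal.Quotient.mk _)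
  have hπ : Function.Surjective π := e.symm.surjective.comp Ideal.Quotient.mk_surjective
  have hker : RingHom.ker π = Ideal.ofList rs := by
    ext x
    rw [RingHom.mem_ker]
    exact (map_eq_zero_iff _ e.symm.injective).trans Ideal.Quotient.eq_zero_iff_mem
  let Q := P.comap π
  haveI : IsRegularLocalRing (Localization.AtPrime Q) := Groth.Agent.S0564.result C Q
  let g : Localization.AtPrime Q →+* Localization.AtPrime P := Localization.localRingHom Q P π rfl
  have hg : Function.Surjective g := by
    intro z
    obtain ⟨a, ⟨s, hs⟩, rfl⟩ := IsLocalization.exists_mk'_eq P.primeCompl z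
    obtain ⟨a, rfl⟩ := hπ a
    obtain ⟨s, rfl⟩ := hπ s
    exact ⟨IsLocalization.mk' _ a (⟨s, hs⟩ : Q.primeCompl), Localization.localRingHom_mk' Q P π rfl a ⟨s, hs⟩⟩
  have hgker : RingHom.ker g = (Ideal.ofList rs).map (algebraMap C (Localization.AtPrime Q)) := by
    refine le_antisymm (fun z hz => ?_) (Ideal.map_le_iff_le_comap.mpr fun x hx => ?_)
    · obtain ⟨c, ⟨s, hs⟩, rfl⟩ := IsLocalization.exists_mk'_eq Q.primeCompl z
      rw [RingHom.mem_ker, Localization.localRingHom_mk', IsLocalization.mk'_eq_zero_iff] at hz
      obtain ⟨⟨t, ht⟩, htc⟩ := hz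
      obtain ⟨t, rfl⟩ := hπ t
      have h1 : t * c ∈ Ideal.ofList rs := by rw [← hker, RingHom.mem_ker, map_mul]; exact htc
      rw [IsLocalization.mk'_mem_map_algebraMap_iff Q.primeCompl]
      exact ⟨t, ht, h1⟩
    · rw [Ideal.mem_comap, RingHom.mem_ker, Localization.localRingHom_to_map,
        RingHom.mem_ker.mp (hker.ge hx), map_zero]
  haveI : IsNoetherianRing (Localization.AtPrime P) := IsLocalization.isNoetherianRing P.primeCompl _ inferInstance
  haveI : IsNoetherianRing (Localization.AtPrime p) := IsLocalization.isNoetherianRing p.primeCompl _ inferInstance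
  have hmem : ∀ r ∈ rs, r ∈ Q := fun r hr => by
    show π r ∈ P
    rw [RingHom.mem_ker.mp (hker.ge (Ideal.subset_span hr))]
    exact zero_mem _
  have hP' : Pi1.IsCompleteIntersection (Localization.AtPrime P) :=
    Groth.L07.RegQuot.isCompleteIntersection_of_isRegularIdeal g hg
      ⟨_, hreg.toIsWeaklyRegular.isRegular_of_isLocalization_of_mem _ Q hmem,
        by rw [← Ideal.map_ofList, hgker]⟩
  obtain ⟨i, hl, hf, -⟩ := Groth.L06.FlatFibre.exists_local_fibre p P
  letI := i
  haveI := hl
  haveI := hf
  exact ((Groth.L07.Avramov.isCompleteIntersection_iff (Localization.AtPrime p)).mp hP').1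

end Groth.Agent.S2168
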