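import Groth.Statements.S6502
import Groth.Agent.S2168
import Groth.Agent.L07.Avramov

set_option autoImplicit false
set_option linter.style.haveILetI false
universe u
open LCI

namespace Groth.Agent.S6502

/-- A Noetherian ring A is a local complete intersection (every localization A_p at a prime is a
complete intersection, that is, its completion is a regular complete local ring modulo a regular
sequence) exactly when, for each maximal ideal m of A, the localization A_m is itself a complete
intersection. -/
theorem result {A : Type u} [CommRing A] [IsNoetherianRing A] :
    (∀ (p : Ideal A) [p.IsPrime], Pi1.IsCompleteIntersection (Localization.AtPrime p)) ↔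
    (∀ (m : Ideal A) [m.IsMaximal], Pi1.IsCompleteIntersection (Localization.AtPrime m)) := by
  constructor
  · intro h m _
    exact h m
  · intro h p _
    obtain ⟨m, hm, hpm⟩ := Ideal.exists_le_maximal p (Ideal.IsPrime.ne_top ‹_›)
    haveI : IsNoetherianRing (Localization.AtPrime m) := IsLocalization.isNoetherianRing m.primeCompl _ inferInstance
    let q : Ideal (Localization.AtPrime m) := p.map (algebraMap A _)
    have hd : Disjoint (m.primeCompl : Set A) (p : Set A) :=
      Set.disjoint_left.mpr fun x hx hxp => hx (hpm hxp)
    haveI : q.IsPrime := IsLocalization.isPrime_of_isPrime_disjoint m.primeCompl _ p inferInstance hd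
    have hq : q.comap (algebraMap A _) = p := IsLocalization.comap_map_of_isPrime_disjoint m.primeCompl (Localization.AtPrime m) inferInstance hd
    have h1 := Groth.Agent.S2168.result (h m) q
    haveI : IsLocalization.AtPrime (Localization.AtPrime q) p := by
      have := IsLocalization.isLocalization_isLocalization_atPrime_isLocalization m.primeCompl (Localization.AtPrime q) q
      simp only [hq] at this
      exact this
    haveI : IsNoetherianRing (Localization.AtPrime q) := IsLocalization.isNoetherianRing q.primeCompl _ inferInstance
    haveI : IsNoetherianRing (Localization.AtPrime p) := IsLocalization.isNoetherianRing p.primeCompl _ inferInstance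
    exact Groth.L07.Avramov.isCompleteIntersection_of_ringEquiv
      (IsLocalization.algEquiv p.primeCompl (Localization.AtPrime q) (Localization.AtPrime p)).toRingEquiv h1

end Groth.Agent.S6502
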