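import Groth.Statements.S8439
import Groth.Agent.L25.Descent.Subgroup

set_option autoImplicit false
universe u
open CategoryTheory MonoidalCategory CartesianMonoidalCategory MonObj GrpObj AlgebraicGeometry
open SGA3x

set_option backward.isDefEq.respectTransparency.types false

namespace Groth.Agent.S8439

open CategoryTheory.Limits in
/-- a central homomorphism from a group of multiplicative type factors pointwise through the centre -/
private theorem key {S S' T P : Scheme.{u}} {π : S' ⟶ S} {G : Over S} [GrpObj G] {Z' : Over S'}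
    (z' : Z' ⟶ Red.bc π G)
    (huniv : ∀ (S'' : Scheme.{u}) (f' : S'' ⟶ S') (H : Over S'') [GrpObj H] (v : H ⟶ Red.bc f' (Red.bc π G)) [IsMonHom v],
      SGA3x.IsMultTypeFT H →
      (∀ (X : Over S'') (x : X ⟶ H) (g : X ⟶ Red.bc f' (Red.bc π G)), (x ≫ v) * g = g * (x ≫ v)) →
      ∃ w : H ⟶ Red.bc f' Z', w ≫ (Over.pullback f').map z' = v)
    (f₁ : T ⟶ S) {H : Over T} [GrpObj H] (v : H ⟶ Red.bc f₁ G) [IsMonHom v] (hH : SGA3x.IsMultTypeFT H)
    (hc : ∀ (X : Over T) (g : X ⟶ Red.bc f₁ G) (h : X ⟶ H), g * (h ≫ v) = (h ≫ v) * g)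
    (s : P ⟶ H.left) (p : P ⟶ S') (h : (s ≫ H.hom) ≫ f₁ = p ≫ π) :
    ∃ w : P ⟶ Z'.left, w ≫ Z'.hom = p ∧
      (w ≫ z'.left) ≫ pullback.fst G.hom π = (s ≫ v.left) ≫ pullback.fst G.hom f₁ := by
  let q := s ≫ H.hom
  let e := ActBC.bcCompIso p π G (rfl : p ≫ π = _)
  obtain ⟨w', hw'⟩ := huniv P p (Red.bc q H) (Groth.L25.Descent.pullInc v q h ≫ e.inv)
    (Groth.L25.MultTypeBC.isMultTypeFT_bc hH q) fun X x g => by
      have hx : x ≫ Groth.L25.Descent.pullInc v q h ≫ e.inv = (x ≫ Groth.L25.Descent.pullInc v q h) ≫ e.inv :=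
        (Category.assoc _ _ _).symm
      have hg : g = (g ≫ e.hom) ≫ e.inv := by rw [Category.assoc, e.hom_inv_id, Category.comp_id]
      rw [hx, hg, ← MonObj.mul_comp, ← MonObj.mul_comp, Groth.L25.Descent.pullInc_central v hc q h]
  have h1 : w' ≫ Groth.L25.Descent.pullInc z' p rfl = Groth.L25.Descent.pullInc v q h := by
    refine (Category.assoc _ _ _).symm.trans ((congrArg (· ≫ e.hom) hw').trans ?_)
    rw [Category.assoc, e.inv_hom_id, Category.comp_id]
  have h2 : w'.left ≫ pullback.fst Z'.hom p ≫ z'.left ≫ pullback.fst G.hom π =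
      pullback.fst H.hom q ≫ v.left ≫ pullback.fst G.hom f₁ := by
    have := congrArg (fun m => m.left ≫ pullback.fst G.hom (p ≫ π)) h1
    refine ((congrArg (w'.left ≫ ·) (Groth.L25.Descent.pullInc_fst z' p rfl)).symm.trans
      ((Category.assoc _ _ _).symm.trans (this.trans ?_)))
    exact Groth.L25.Descent.pullInc_fst v q h
  let σ : P ⟶ pullback H.hom q := pullback.lift s (𝟙 P) (by simp [q])
  have h3 : w'.left ≫ pullback.snd Z'.hom p = pullback.snd H.hom q := Over.w w'
  refine ⟨σ ≫ w'.left ≫ pullback.fst Z'.hom p, ?_, ?_⟩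
  · rw [Category.assoc, Category.assoc, pullback.condition, ← Category.assoc w'.left]
    refine (congrArg (fun m => σ ≫ m ≫ p) h3).trans ?_
    rw [← Category.assoc, pullback.lift_snd, Category.id_comp]
  · simp only [Category.assoc]
    refine (congrArg (σ ≫ ·) h2).trans ?_
    rw [← Category.assoc, pullback.lift_fst]

/-- Let G be an S-group scheme of finite presentation over S with affine fibres. If G admits a reductive
centre locally for the faithfully flat quasi-compact topology — after some flat surjective base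
change S′ → S which is an fpqc covering — then G admits a reductive centre. -/
theorem result (S : Scheme.{u}) (G : Over S) [GrpObj G]
    [QuasiCompact G.hom] [QuasiSeparated G.hom] [LocallyOfFinitePresentation G.hom]
    (haff : ∀ s : S, IsAffine (Limits.pullback G.hom (S.fromSpecResidueField s)))
    (h : (∃ (S' : Scheme.{u}) (f : S' ⟶ S), Flat f ∧ Surjective f ∧
      (∀ V : S.Opens, IsAffineOpen V → ∃ W : S'.Opens, IsCompact (W : Set ↥S') ∧ f.base '' (W : Set ↥S') = (V : Set ↥S)) ∧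
      ∃ (Z' : Over S') (_ : GrpObj Z') (z' : Z' ⟶ Red.bc f G), (IsMonHom z' ∧ Mono z' ∧ SGA3x.IsMultTypeFT Z' ∧
      (∀ (X : Over S') (x : X ⟶ Z') (g : X ⟶ (Red.bc f G)), (x ≫ z') * g = g * (x ≫ z')) ∧
      ∀ (S'' : Scheme.{u}) (f' : S'' ⟶ S') (H : Over S'') [GrpObj H] (v : H ⟶ Red.bc f' (Red.bc f G)) [IsMonHom v],
        SGA3x.IsMultTypeFT H →
        (∀ (X : Over S'') (x : X ⟶ H) (g : X ⟶ Red.bc f' (Red.bc f G)), (x ≫ v) * g = g * (x ≫ v)) →
        ∃ w : H ⟶ Red.bc f' Z', w ≫ (Over.pullback f').map z' = v))) :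
    ∃ (Z : Over S) (_ : GrpObj Z) (z : Z ⟶ G), (IsMonHom z ∧ Mono z ∧ SGA3x.IsMultTypeFT Z ∧
      (∀ (X : Over S) (x : X ⟶ Z) (g : X ⟶ G), (x ≫ z) * g = g * (x ≫ z)) ∧
      ∀ (S' : Scheme.{u}) (f : S' ⟶ S) (H : Over S') [GrpObj H] (v : H ⟶ Red.bc f G) [IsMonHom v],
        SGA3x.IsMultTypeFT H →
        (∀ (X : Over S') (x : X ⟶ H) (g : X ⟶ Red.bc f G), (x ≫ v) * g = g * (x ≫ v)) →
        ∃ w : H ⟶ Red.bc f Z, w ≫ (Over.pullback f).map z = v) := by
  obtain ⟨S', π, hflat, hsurj, hcov, Z', hg', z', hzm, hzmono, hZ', hzc, huniv⟩ := h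
  letI := hg'
  have := hzm
  have := hzmono
  have := hflat
  have := hsurj
  have hc' : ∀ (X : Over S') (g : X ⟶ Red.bc π G) (x : X ⟶ Z'), g * (x ≫ z') = (x ≫ z') * g :=
    fun X g x => (hzc X x g).symm
  have hml : Mono z'.left := inferInstanceAs (Mono ((Over.forget S').map z'))
  have hzs : z'.left ≫ Limits.pullback.snd G.hom π = Z'.hom := Over.w z'
  let m : Z'.left ⟶ G.left := z'.left ≫ Limits.pullback.fst G.hom π
  have ext' : ∀ {T : Scheme.{u}} (a b : T ⟶ Z'.left), a ≫ Z'.hom = b ≫ Z'.hom → a ≫ m = b ≫ m → a = b := by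
    intro T a b h1 h2
    rw [← cancel_mono z'.left]
    refine Limits.pullback.hom_ext ?_ ?_
    · simpa only [m, Category.assoc] using h2
    · rw [Category.assoc, hzs, Category.assoc, hzs, h1]
  -- the descent datum
  have hex : ∀ {T : Scheme.{u}} (v : T ⟶ Z'.left) (x : T ⟶ S'), v ≫ Z'.hom ≫ π = x ≫ π →
      ∃ w : T ⟶ Z'.left, w ≫ Z'.hom = x ∧ w ≫ m = v ≫ m := by
    intro T v x h
    obtain ⟨w, hw1, hw2⟩ := key z' huniv π z' hZ' hc' v x ((Category.assoc _ _ _).trans h)
    exact ⟨w, hw1, by simpa only [m, Category.assoc] using hw2⟩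
  choose act hact1 hact2 using @hex
  let P : Groth.L20.SchDesc.Pre π Z'.hom :=
    { act := act
      hom := hact1
      natural := fun g v x e e' => ext' _ _ (by rw [hact1, Category.assoc, hact1])
        (by rw [hact2, Category.assoc, Category.assoc, hact2])
      self := fun v e => ext' _ _ (hact1 _ _ _) (hact2 _ _ _)
      comp := fun v x y e e' e'' => ext' _ _ (by rw [hact1, hact1]) (by rw [hact2, hact2, hact2]) }
  have := Groth.L25.Descent.cov_of_cover π hcov
  have haz : IsAffineHom Z'.hom :=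
    Groth.L25.HomSmooth.isAffineHom_of_locally (Groth.L25.Locus.locally_of_multTypeFT hZ')
  obtain ⟨d⟩ := Groth.L20.SchDesc.effective_of_isIndQuasiAffineHom
    (Groth.L20.isIndQuasiAffineHom_of_isQuasiAffineHom Z'.hom ⟨inferInstance, fun V hV => by
      have : IsAffine (Z'.hom ⁻¹ᵁ V : Scheme.{u}) := hV.preimage Z'.hom
      infer_instance⟩) P
  -- descent of the inclusion
  have sq : IsPullback d.q Z'.hom d.a π := d.isPullback.flip
  let q₀ := Limits.pullback.fst d.a π
  have : EffectiveEpi q₀ := Groth.L25.Descent.effectiveEpi_pullback_fst d.a π hcov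
  have hq0 : sq.isoPullback.inv ≫ d.q = q₀ := sq.isoPullback_inv_fst
  have hdesc : ∀ {T : Scheme.{u}} (g₁ g₂ : T ⟶ Limits.pullback d.a π), g₁ ≫ q₀ = g₂ ≫ q₀ →
      g₁ ≫ sq.isoPullback.inv ≫ m = g₂ ≫ sq.isoPullback.inv ≫ m := by
    intro T g₁ g₂ hg
    have hq : (g₁ ≫ sq.isoPullback.inv) ≫ d.q = (g₂ ≫ sq.isoPullback.inv) ≫ d.q := by
      rw [Category.assoc, Category.assoc, hq0, hg]
    have h1 := d.act_eq _ _ hq (d.cond _ _ hq)
    simp only [← Category.assoc]
    conv_rhs => rw [← h1]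
    exact (hact2 _ _ _).symm
  let zl : d.U ⟶ G.left := EffectiveEpi.desc q₀ (sq.isoPullback.inv ≫ m) hdesc
  have hzl : q₀ ≫ zl = sq.isoPullback.inv ≫ m := EffectiveEpi.fac _ _ _
  let Z : Over S := Over.mk d.a
  let z : Z ⟶ G := Over.homMk zl (by
    show zl ≫ G.hom = d.a
    rw [← cancel_epi q₀, ← Category.assoc, hzl, ← hq0]
    simp only [m, Category.assoc, Limits.pullback.condition]
    rw [reassoc_of% hzs, sq.w])
  let φ : Red.bc π Z ≅ Z' := (Over.isoMk sq.isoPullback sq.isoPullback_hom_snd).symm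
  have hφ : φ.hom ≫ z' = (Over.pullback π).map z := by
    apply Over.OverMorphism.ext
    apply Limits.pullback.hom_ext
    · refine ((Category.assoc _ _ _).trans hzl.symm).trans (ActBC.pullback_map_left_fst π z).symm
    · exact (Over.w (φ.hom ≫ z')).trans (Over.w ((Over.pullback π).map z)).symm
  have hzmap : Mono ((Over.pullback π).map z) := by rw [← hφ]; infer_instance
  -- the parameter
  let p : ∀ Y : Over S, Y ⊗ Over.mk π ⟶ Over.mk π := fun Y => snd Y (Over.mk π)
  have hepi : ∀ Y : Over S, EffectiveEpi (fst Y (Over.mk π)).left := fun Y =>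
    Groth.L25.Descent.effectiveEpi_pullback_fst Y.hom π hcov
  have hzmono' : Mono z := by
    refine ⟨fun {Y} t₁ t₂ ht => ?_⟩
    have := hepi Y
    have : Epi (fst Y (Over.mk π)) := Over.epi_of_epi_left _
    let e := Groth.L25.Descent.adjP (p Y)
    have h1 : Groth.L25.NilAction.ofBase π (e.hom ≫ fst Y _ ≫ t₁) =
        Groth.L25.NilAction.ofBase π (e.hom ≫ fst Y _ ≫ t₂) := by
      rw [← cancel_mono ((Over.pullback π).map z), Groth.L25.NilAction.ofBase_comp,
        Groth.L25.NilAction.ofBase_comp]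
      simp only [Category.assoc, ht]
    have h2 := congrArg (Groth.L25.NilAction.toBase π) h1
    rw [Groth.L25.NilAction.toBase_ofBase, Groth.L25.NilAction.toBase_ofBase, cancel_epi, cancel_epi] at h2
    exact h2
  obtain ⟨hgz, hzmon⟩ := Groth.L25.Locus.exists_subgroup z (Groth.L25.Descent.Sub z')
    (Groth.L25.Descent.points_iff z' hcov z φ hφ) (Groth.L25.Descent.sub_one z')
    (Groth.L25.Descent.sub_mul z') (Groth.L25.Descent.sub_inv z')
  letI := hgz
  have := hzmon
  have : IsMonHom φ.hom := Groth.L25.Bridge.isMonHom_of_mul φ.hom fun Y a b => by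
    rw [← cancel_mono z', Category.assoc, hφ, MonObj.mul_comp (a ≫ φ.hom) (b ≫ φ.hom) z', Category.assoc,
      Category.assoc, hφ]
    exact MonObj.mul_comp a b ((Over.pullback π).map z)
  refine ⟨Z, hgz, z, hzmon, hzmono', Groth.L25.Descent.isMultTypeFT_descend hcov φ hZ', ?_, ?_⟩
  · intro X x g
    have := hepi X
    have : Epi (fst X (Over.mk π)) := Over.epi_of_epi_left _
    let e := Groth.L25.Descent.adjP (p X)
    let a := Groth.L25.NilAction.ofBase π (e.hom ≫ fst X _ ≫ x) ≫ φ.hom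
    have ha : a ≫ z' = Groth.L25.NilAction.ofBase π (e.hom ≫ fst X _ ≫ x ≫ z) := by
      simp only [a, Category.assoc, hφ, Groth.L25.NilAction.ofBase_comp]
    have h1 := congrArg (Groth.L25.NilAction.toBase π)
      (hzc _ a (Groth.L25.NilAction.ofBase π (e.hom ≫ fst X _ ≫ g)))
    rw [ha, Groth.L25.NilAction.toBase_mul, Groth.L25.NilAction.toBase_mul, Groth.L25.NilAction.toBase_ofBase,
      Groth.L25.NilAction.toBase_ofBase] at h1
    simp only [← MonObj.comp_mul, cancel_epi] at h1
    exact h1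
  · intro T f₁ H _ v _ hH hv
    let Y : Over S := Over.mk (H.hom ≫ f₁)
    let y : Y ⟶ G := Over.homMk (v.left ≫ Limits.pullback.fst G.hom f₁) (by
      show (v.left ≫ Limits.pullback.fst G.hom f₁) ≫ G.hom = H.hom ≫ f₁
      rw [Category.assoc, Limits.pullback.condition, ← Category.assoc]
      exact congrArg (· ≫ f₁) (Over.w v))
    let q := fst Y (Over.mk π)
    let s : (Y ⊗ Over.mk π).left ⟶ H.left := q.left
    obtain ⟨w₀, hw1, hw2⟩ := key z' huniv f₁ v hH (fun X g x => (hv X x g).symm) s (p Y).left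
      ((Category.assoc _ _ _).trans ((Over.w q).trans (Over.w (p Y)).symm))
    let e : Y ⊗ Over.mk π ⟶ Z := Over.homMk (w₀ ≫ d.q) (by
      show (w₀ ≫ d.q) ≫ d.a = _
      rw [Category.assoc, sq.w, ← Category.assoc, hw1]
      exact Over.w (p Y))
    have he : e ≫ z = q ≫ y := by
      apply Over.OverMorphism.ext
      show (w₀ ≫ d.q) ≫ zl = q.left ≫ v.left ≫ Limits.pullback.fst G.hom f₁
      have h2 : sq.isoPullback.hom ≫ q₀ = d.q := sq.isoPullback_hom_fst
      rw [← h2]
      simp only [Category.assoc, hzl, Iso.hom_inv_id_assoc]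
      simpa only [m, Category.assoc] using hw2
    have : EffectiveEpi q.left := hepi Y
    have : Mono z := hzmono'
    obtain ⟨l, hl, -⟩ := Groth.L25.Actions.existsUnique_desc q e fun W g₁ g₂ hg => by
      rw [← cancel_mono z, Category.assoc, Category.assoc, he, ← Category.assoc, ← Category.assoc, hg]
    have : Epi q := Over.epi_of_epi_left _
    have hlz : l ≫ z = y := by rw [← cancel_epi q, ← Category.assoc, hl, he]
    have hlw : l.left ≫ d.a = H.hom ≫ f₁ := Over.w l
    refine ⟨Over.homMk (Limits.pullback.lift l.left H.hom hlw) (Limits.pullback.lift_snd _ _ _), ?_⟩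
    apply Over.OverMorphism.ext
    apply Limits.pullback.hom_ext
    · refine (Category.assoc _ _ _).trans ?_
      rw [ActBC.pullback_map_left_fst]
      refine (Limits.pullback.lift_fst_assoc _ _ _ _).trans ?_
      exact congrArg (fun k => k.left) hlz
    · exact (Over.w _).trans (Over.w v).symm

end Groth.Agent.S8439
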