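import Groth.Statements.S8399
import Groth.Agent.L08.TorusWeights.Global

set_option autoImplicit false
set_option backward.isDefEq.respectTransparency.types false
set_option linter.style.haveILetI false
universe u
open CategoryTheory MonoidalCategory CartesianMonoidalCategory MonObj GrpObj AlgebraicGeometry
open SGA3x

namespace Groth.Agent.S8399

/-- Let G be an S-group scheme, smooth and affine over S with connected fibres, whose reductive rank is
locally constant on S. Then G admits a reductive centre, that is, a subgroup scheme Z which is
central and of multiplicative type, such that for every S′ → S, every central homomorphism H → G ×_S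
S′ from an S′-group H of multiplicative type and of finite type factors through Z ×_S S′. (The
published item c) also asserts that the quotient G/Z has unipotent rank zero; this row states only
the existence of the reductive centre.) -/
theorem result (S : Scheme.{u}) (G : Over S) [GrpObj G]
    [Smooth G.hom] [IsAffineHom G.hom] (hconn : ∀ s : S, _root_.IsConnected (G.hom.base ⁻¹' {s})) (hr : SGA3x.RedRankLocallyConstant G) :
    ∃ (Z : Over S) (_ : GrpObj Z) (z : Z ⟶ G), (IsMonHom z ∧ Mono z ∧ SGA3x.IsMultTypeFT Z ∧
      (∀ (X : Over S) (x : X ⟶ Z) (g : X ⟶ G), (x ≫ z) * g = g * (x ≫ z)) ∧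
      ∀ (S' : Scheme.{u}) (f : S' ⟶ S) (H : Over S') [GrpObj H] (v : H ⟶ Red.bc f G) [IsMonHom v],
        SGA3x.IsMultTypeFT H →
        (∀ (X : Over S') (x : X ⟶ H) (g : X ⟶ Red.bc f G), (x ≫ v) * g = g * (x ≫ v)) →
        ∃ w : H ⟶ Red.bc f Z, w ≫ (Over.pullback f).map z = v) := by
  haveI : QuasiCompact G.hom := inferInstance
  haveI : QuasiSeparated G.hom := inferInstance
  haveI : LocallyOfFinitePresentation G.hom := inferInstance
  obtain ⟨S', F, hF, hFs, Z, gZ, z, z1, z2, z3, z4, z5⟩ := Groth.L08.TorusWeights.exists_cover_centre hconn hr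
  haveI := hF; haveI := hFs; haveI := z1; haveI := z2
  haveI : LocallyOfFinitePresentation (Red.bc F G).hom :=
    inferInstanceAs (LocallyOfFinitePresentation (Limits.pullback.snd G.hom F))
  haveI : IsAffineHom (Red.bc F G).hom := MorphismProperty.pullback_snd (P := @IsAffineHom) G.hom F inferInstance
  refine Groth.Agent.S8439.result S G (fun s => isAffine_of_isAffineHom (Limits.pullback.snd G.hom (S.fromSpecResidueField s)))
    ⟨S', F, inferInstance, inferInstance, fun V hV => ?_, Z, gZ, z, z1, z2, z3, z4,
      fun S'' f H _ v _ hH hv => z5.univ z3 f H v hH hv⟩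
  obtain ⟨W, h1, h2⟩ := F.isOpenMap.exists_opens_image_eq_of_prespectralSpace F.continuous
    (U := (V : Set S)) (by rw [F.surjective.range_eq]; exact Set.subset_univ _) V.2 hV.isCompact
  exact ⟨W, h1, h2⟩

end Groth.Agent.S8399
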