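import Groth.Statements.S14577
import Groth.Agent.L26.AV.FormalRigidity
import Mathlib.AlgebraicGeometry.FunctionField

set_option autoImplicit false
universe u
open CategoryTheory MonoidalCategory CartesianMonoidalCategory MonObj GrpObj AlgebraicGeometry CategoryTheory.Limits
open AlgGrp

namespace Groth.Agent.S14577

/-- Let k be a field, X a quasi-compact separated k-scheme with O(X) = k, Y a separated, reduced and
irreducible locally Noetherian k-scheme, Z a separated k-scheme, and x₀, y₀ rational points of X, Y.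
If a k-morphism f : X × Y → Z satisfies f(x, y₀) = f(x₀, y₀) identically (as morphisms from X), then
f(x, y) = f(x₀, y) identically on X × Y. (The published statement does not ask Y to be reduced; the
final density step of its proof uses that the infinitesimal neighbourhoods of y₀ are schematically
dense in Y, which holds when Y is moreover reduced, so Y is taken reduced, hence integral, here.) -/
theorem result (k : Type u) [Field k]
    (X Y Z : Over (Spec (CommRingCat.of k))) [QuasiCompact X.hom] [IsSeparated X.hom]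
    (hX : Function.Bijective ((Scheme.ΓSpecIso (CommRingCat.of k)).inv ≫ X.hom.appTop).hom)
    [IsSeparated Y.hom] [IsLocallyNoetherian Y.left] [IrreducibleSpace ↥Y.left] [IsReduced Y.left] [IsSeparated Z.hom]
    (x₀ : 𝟙_ (Over (Spec (CommRingCat.of k))) ⟶ X) (y₀ : 𝟙_ (Over (Spec (CommRingCat.of k))) ⟶ Y) (f : X ⊗ Y ⟶ Z)
    (hf : (X ◁ y₀) ≫ f = toUnit _ ≫ lift x₀ y₀ ≫ f) :
    f = snd X Y ≫ lift (toUnit Y ≫ x₀) (𝟙 Y) ≫ f := by
  let pt : ↥(Spec (CommRingCat.of k)) := IsLocalRing.closedPoint k
  let y : Y.left := y₀.left pt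
  let z₀ : Z.left := (lift x₀ y₀ ≫ f).left pt
  let g : X ⊗ Y ⟶ Z := snd X Y ≫ lift (toUnit Y ≫ x₀) (𝟙 Y) ≫ f
  have hX' : Function.Surjective X.hom.appTop.hom := by
    intro b
    obtain ⟨c, hc⟩ := hX.2 b
    exact ⟨_, hc⟩
  have : CompactSpace X.left := (quasiCompact_iff_compactSpace X.hom).mp inferInstance
  have : QuasiSeparatedSpace X.left := quasiSeparatedSpace_of_quasiSeparated X.hom
  have hx₀ : x₀.left ≫ X.hom = 𝟙 (Spec (CommRingCat.of k)) := Over.w x₀
  have : IsIntegral Y.left := by
    have : Nonempty Y.left := ⟨y⟩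
    exact isIntegral_of_irreducibleSpace_of_isReduced Y.left
  have hP : IsPullback (X ◁ y₀).left (snd X (𝟙_ _)).left (snd X Y).left y₀.left := by
    refine IsPullback.of_right (h₁₂ := (fst X Y).left) ?_ ?_ (IsPullback.of_hasPullback X.hom Y.hom)
    · rw [← Over.comp_left, whiskerLeft_fst, Over.w y₀]
      exact IsPullback.of_hasPullback X.hom (𝟙_ (Over (Spec (CommRingCat.of k)))).hom
    · rw [← Over.comp_left, whiskerLeft_snd, Over.comp_left]
  have keyf : ∀ p : (X ⊗ Y).left, (snd X Y).left p = y → f.left p = z₀ := by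
    intro p hp
    obtain ⟨z, hz, hz'⟩ := Scheme.Pullback.exists_preimage_pullback p pt hp
    have hx : (X ◁ y₀).left (hP.isoPullback.inv z) = p := by
      rw [← hz]
      exact congrArg (fun φ => φ z) hP.isoPullback_inv_fst
    rw [← hx]
    have h1 := congrArg (fun φ : X ⊗ 𝟙_ _ ⟶ Z => φ.left (hP.isoPullback.inv z)) hf
    simp only [Over.comp_left, Scheme.Hom.comp_apply] at h1
    rw [h1]
    exact congrArg (fun w : Spec (CommRingCat.of k) => (lift x₀ y₀ ≫ f).left w) (@Subsingleton.elim (PrimeSpectrum k) _ _ _)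
  have keyg : ∀ p : (X ⊗ Y).left, (snd X Y).left p = y → g.left p = z₀ := by
    intro p hp
    show (lift (toUnit Y ≫ x₀) (𝟙 Y) ≫ f).left ((snd X Y).left p) = _
    rw [hp]
    show (y₀ ≫ lift (toUnit Y ≫ x₀) (𝟙 Y) ≫ f).left pt = _
    rw [comp_lift_assoc, Category.comp_id, ← Category.assoc, Subsingleton.elim (y₀ ≫ toUnit Y) (𝟙 _), Category.id_comp]
  -- agreement over the local ring at the point
  let A := Y.left.presheaf.stalk y
  let φ : CommRingCat.of k ⟶ A := Spec.preimage (Y.left.fromSpecStalk y ≫ Y.hom)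
  have hφ : Spec.map φ = Y.left.fromSpecStalk y ≫ Y.hom := Spec.map_preimage _
  let mA : pullback X.hom (Spec.map φ) ⟶ (X ⊗ Y).left :=
    pullback.lift (pullback.fst _ _) (pullback.snd _ _ ≫ Y.left.fromSpecStalk y)
      (by rw [Category.assoc, ← hφ, pullback.condition])
  have hA : mA ≫ f.left = mA ≫ g.left := by
    refine Groth.Agent.AV.eq_of_collapse' (A := A) X.hom hX' x₀.left hx₀ φ _ _ Z.hom
      (by simp only [Category.assoc, Over.w f, Over.w g]) ?_ z₀ (fun p hp => ?_) (fun p hp => ?_)
    · let σ := pullback.lift (f := X.hom) (g := Spec.map φ) (Spec.map φ ≫ x₀.left) (𝟙 _)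
        (by rw [Category.assoc, hx₀, Category.comp_id, Category.id_comp])
      have hσ : σ ≫ mA = Y.left.fromSpecStalk y ≫ (lift (toUnit Y ≫ x₀) (𝟙 Y)).left := by
        apply pullback.hom_ext
        · show (σ ≫ mA) ≫ pullback.fst X.hom Y.hom = (_ ≫ _) ≫ (fst X Y).left
          rw [Category.assoc, pullback.lift_fst, pullback.lift_fst, Category.assoc, ← Over.comp_left, lift_fst,
            Over.comp_left, Over.toUnit_left, hφ, Category.assoc]
        · show (σ ≫ mA) ≫ pullback.snd X.hom Y.hom = (_ ≫ _) ≫ (snd X Y).left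
          rw [Category.assoc, pullback.lift_snd, pullback.lift_snd_assoc, Category.id_comp, Category.assoc,
            ← Over.comp_left, lift_snd, Over.id_left, Category.comp_id]
      show σ ≫ mA ≫ f.left = σ ≫ mA ≫ g.left
      rw [reassoc_of% hσ, reassoc_of% hσ, ← Over.comp_left, ← Over.comp_left]
      simp only [g, lift_snd_assoc, Category.id_comp]
    · refine keyf _ ?_
      show (mA ≫ pullback.snd X.hom Y.hom) p = y
      rw [pullback.lift_snd, Scheme.Hom.comp_apply, hp]
      exact Scheme.fromSpecStalk_closedPoint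
    · refine keyg _ ?_
      show (mA ≫ pullback.snd X.hom Y.hom) p = y
      rw [pullback.lift_snd, Scheme.Hom.comp_apply, hp]
      exact Scheme.fromSpecStalk_closedPoint
  let η₀ := genericPoint Y.left
  have hspec : η₀ ⤳ y := genericPoint_specializes y
  show f = g
  ext1
  show f.left = g.left
  have h0 : ∀ p : (X ⊗ Y).left, ∃ U : (X ⊗ Y).left.Opens, p ∈ U ∧ U.ι ≫ f.left = U.ι ≫ g.left := by
    intro p
    obtain ⟨_, ⟨(V : Y.left.Opens), hV, rfl⟩, hpV, -⟩ := Y.left.isBasis_affineOpens.exists_subset_of_mem_open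
      (Set.mem_univ ((snd X Y).left p)) isOpen_univ
    let φV : CommRingCat.of k ⟶ Γ(Y.left, V) := Spec.preimage (hV.fromSpec ≫ Y.hom)
    have hφV : Spec.map φV = hV.fromSpec ≫ Y.hom := Spec.map_preimage _
    let mV : pullback X.hom (Spec.map φV) ⟶ pullback X.hom Y.hom :=
      pullback.map _ _ _ _ (𝟙 _) hV.fromSpec (𝟙 _) (by simp) (by simp [hφV])
    have : IsOpenImmersion mV := by
      refine MorphismProperty.of_isPullback (P := @IsOpenImmersion) (f := pullback.snd X.hom Y.hom)
        (g := hV.fromSpec) (f' := pullback.snd X.hom (Spec.map φV)) (g' := mV) ?_ hV.isOpenImmersion_fromSpec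
      refine (IsPullback.of_right (h₁₂ := pullback.fst X.hom Y.hom) ?_ (pullback.lift_snd _ _ _)
        (IsPullback.of_hasPullback _ _)).flip
      rw [pullback.lift_fst, Category.comp_id, ← hφV]
      exact IsPullback.of_hasPullback _ _
    have hηV : η₀ ∈ V := (genericPoint_specializes ((snd X Y).left p)).mem_open V.2 hpV
    let gV : Γ(Y.left, V) ⟶ Y.left.presheaf.stalk η₀ := Y.left.presheaf.germ V η₀ hηV
    have hι : Function.Injective gV.hom := germ_injective_of_isIntegral _ η₀ hηV
    have hVeq : mV ≫ f.left = mV ≫ g.left := by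
      refine Groth.Agent.AV.eq_of_injective_extension' (R := Γ(Y.left, V)) (K := Y.left.presheaf.stalk η₀)
        X.hom φV gV hι _ _ Z.hom (by simp only [Category.assoc, Over.w f, Over.w g]) fun {T} u v w => ?_
      have hK : Spec.map gV ≫ hV.fromSpec = Spec.map (Y.left.presheaf.stalkSpecializes hspec) ≫
          Y.left.fromSpecStalk y := by
        rw [Scheme.SpecMap_stalkSpecializes_fromSpecStalk, ← IsAffineOpen.fromSpecStalk_eq_fromSpecStalk hV hηV]
        rfl
      let l : T ⟶ pullback X.hom (Spec.map φ) :=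
        pullback.lift u (v ≫ Spec.map (Y.left.presheaf.stalkSpecializes hspec))
          (by rw [Category.assoc, hφ, ← reassoc_of% hK, w, Category.assoc, hφV])
      have hl : pullback.lift u (v ≫ Spec.map gV) w ≫ mV = l ≫ mA := by
        apply pullback.hom_ext
        · rw [Category.assoc, pullback.lift_fst, Category.comp_id, pullback.lift_fst, Category.assoc]
          erw [pullback.lift_fst, pullback.lift_fst]
        · rw [Category.assoc, pullback.lift_snd, pullback.lift_snd_assoc, Category.assoc, Category.assoc, hK]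
          erw [pullback.lift_snd, pullback.lift_snd_assoc]
          rw [Category.assoc]
      have h1 := congrArg (· ≫ f.left) hl
      have h2 := congrArg (· ≫ g.left) hl
      simp only [Category.assoc] at h1 h2
      exact h1.trans ((congrArg (l ≫ ·) hA).trans h2.symm)
    refine ⟨mV.opensRange, ?_, ?_⟩
    · have hr : Set.range mV = pullback.fst X.hom Y.hom ⁻¹' Set.univ ∩ pullback.snd X.hom Y.hom ⁻¹' (V : Set Y.left) := by
        rw [Scheme.Pullback.range_map, hV.range_fromSpec]
        simp
      show p ∈ Set.range mV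
      rw [hr]
      exact ⟨trivial, hpV⟩
    · rw [← cancel_epi mV.isoOpensRange.hom]
      rw [Scheme.Hom.isoOpensRange_hom_ι_assoc, Scheme.Hom.isoOpensRange_hom_ι_assoc]
      exact hVeq
  have := Groth.Agent.AV.opens_ι_comp_eq f.left g.left ⊤ fun p _ => h0 p
  exact (cancel_epi (X ⊗ Y).left.topIso.hom).1 this

end Groth.Agent.S14577
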