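import Groth.Statements.S5430
import Groth.Agent.L25.TrivLocus
import Groth.Agent.L25.Central
import Groth.Agent.L25.Locus.Normalizer

set_option autoImplicit false
set_option backward.isDefEq.respectTransparency.types false
universe u
open CategoryTheory MonoidalCategory CartesianMonoidalCategory MonObj GrpObj AlgebraicGeometry CategoryTheory.Limits
open SGA3x

namespace Groth.Agent.S5430

/-- Let S be a scheme and E an S-group scheme which is an extension of an S-group scheme U with
connected fibres by an S-group H of multiplicative type and of finite type: p : E → U is a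
homomorphism which is surjective, flat and quasi-compact (U is the fpqc quotient E/H) and i : H → E
is its kernel. Then the extension is central: every point of H commutes with every point of E. -/
theorem result (S : Scheme.{u}) (E H U : Over S) [GrpObj E] [GrpObj H] [GrpObj U]
    (p : E ⟶ U) [IsMonHom p] [Surjective p.left] [Flat p.left] [QuasiCompact p.left]
    (i : H ⟶ E) [IsMonHom i] (hker : AlgGrp.IsKernel i p) (hH : SGA3x.IsMultTypeFT H)
    (hU : ∀ s : S, _root_.IsConnected (U.hom.base ⁻¹' {s})) :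
    ∀ (X : Over S) (h : X ⟶ H) (e : X ⟶ E), (h ≫ i) * e = e * (h ≫ i) := by
  let NB : ∀ {Y : Over E.left}, (Y ⟶ Red.bc E.hom H) → (Over.mk (Y.hom ≫ E.hom) ⟶ H) :=
    fun g => Groth.L25.NilAction.toBase E.hom g
  have hcomm : ∀ {Y : Over S} (a b : Y ⟶ H), a * b = b * a :=
    fun a b => Groth.L25.Central.mul_comm_of_multTypeFT hH a b
  -- conjugation inside `H`
  have hconj : ((fst E H * (snd E H ≫ i) * (fst E H)⁻¹) ≫ p) = 1 := by
    rw [MonObj.mul_comp, MonObj.mul_comp, GrpObj.inv_comp, Category.assoc, hker.w, ← Category.assoc,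
      toUnit_unique (snd E H ≫ toUnit H) (toUnit (E ⊗ H)), ← Hom.one_def,
      _root_.mul_one, mul_inv_cancel]
  let a : E ⊗ H ⟶ H := hker.lift (fst E H * (snd E H ≫ i) * (fst E H)⁻¹) (toUnit _) (by
    rw [hconj, Hom.one_def])
  have ha : a ≫ i = fst E H * (snd E H ≫ i) * (fst E H)⁻¹ := hker.lift_fst _ _ _
  have hai : ∀ {Y : Over S} (y : Y ⟶ E) (h : Y ⟶ H), (lift y h ≫ a) ≫ i = y * (h ≫ i) * y⁻¹ := by
    intro Y y h
    rw [Category.assoc, ha, MonObj.comp_mul, MonObj.comp_mul, GrpObj.comp_inv, lift_fst, lift_snd_assoc]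
  have hmono : ∀ {Y : Over S} (h h' : Y ⟶ H), h ≫ i = h' ≫ i → h = h' :=
    fun h h' e => hker.hom_ext e (toUnit_unique _ _)
  have haMul : ∀ {Y : Over S} (y : Y ⟶ E) (h h' : Y ⟶ H),
      lift y (h * h') ≫ a = (lift y h ≫ a) * (lift y h' ≫ a) := by
    intro Y y h h'
    apply hmono
    rw [MonObj.mul_comp, hai, hai, hai, MonObj.mul_comp]
    group
  let T : Over E.left := Red.bc E.hom H
  have : IsSeparated T.hom := by
    have := Groth.L25.Central.isAffineHom_of_multTypeFT hH
    exact MorphismProperty.pullback_snd H.hom E.hom inferInstance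
  have hT : SGA3x.IsMultTypeFT T := Groth.L25.MultTypeBC.isMultTypeFT_bc hH E.hom
  have hTfp : LocallyOfFinitePresentation T.hom ∧ QuasiCompact T.hom ∧ QuasiSeparated T.hom := by
    have := Groth.L25.Central.isAffineHom_of_multTypeFT hT
    exact ⟨Groth.L25.Locus.lfp_of_multTypeFT hT, inferInstance, inferInstance⟩
  -- the point of `E` underlying a scheme over `E.left`
  let yb : ∀ Y : Over E.left, Over.mk (Y.hom ≫ E.hom) ⟶ E := fun Y => Over.homMk Y.hom rfl
  let hb := NB (Y := T) (𝟙 T)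
  let w : T ⟶ T := Groth.L25.NilAction.ofBase E.hom ((lift (yb T) hb ≫ a) * hb⁻¹)
  have hw : ∀ (Y : Over E.left) (g : Y ⟶ T),
      NB (g ≫ w) = (lift (yb Y) (NB g) ≫ a) * (NB g)⁻¹ := by
    intro Y g
    let c : Over.mk (Y.hom ≫ E.hom) ⟶ Over.mk (T.hom ≫ E.hom) := Over.homMk g.left (by
      show g.left ≫ T.hom ≫ E.hom = Y.hom ≫ E.hom
      rw [← Category.assoc, Over.w g])
    have hc : ∀ (x : Over.mk (T.hom ≫ E.hom) ⟶ H),
        NB (g ≫ Groth.L25.NilAction.ofBase E.hom x) = c ≫ x := by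
      intro x
      apply Over.OverMorphism.ext
      show (g.left ≫ Limits.pullback.lift x.left T.hom _) ≫ Limits.pullback.fst H.hom E.hom = g.left ≫ x.left
      rw [Category.assoc, Limits.pullback.lift_fst]
    have h1 : NB g = c ≫ hb := by
      apply Over.OverMorphism.ext
      show g.left ≫ _ = g.left ≫ 𝟙 T.left ≫ _
      rw [Category.id_comp]
    have h2 : c ≫ yb T = yb Y := Over.OverMorphism.ext (Over.w g)
    rw [hc, MonObj.comp_mul, GrpObj.comp_inv, comp_lift_assoc, h1, h2]
  have hwMul : ∀ (Y : Over E.left) (g g' : Y ⟶ T), (g * g') ≫ w = (g ≫ w) * (g' ≫ w) := by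
    intro Y g g'
    rw [← Groth.L25.NilAction.ofBase_toBase E.hom ((g * g') ≫ w),
      ← Groth.L25.NilAction.ofBase_toBase E.hom ((g ≫ w) * (g' ≫ w))]
    refine congrArg _ ?_
    change NB ((g * g') ≫ w) = NB ((g ≫ w) * (g' ≫ w))
    rw [show NB ((g ≫ w) * (g' ≫ w)) = NB (g ≫ w) * NB (g' ≫ w) from
      Groth.L25.NilAction.toBase_mul E.hom _ _, hw, hw, hw,
      show NB (g * g') = NB g * NB g' from Groth.L25.NilAction.toBase_mul E.hom _ _, haMul, _root_.mul_inv_rev,
      hcomm (NB g')⁻¹ (NB g)⁻¹, _root_.mul_assoc, _root_.mul_assoc, ← _root_.mul_assoc (lift (yb Y) (NB g') ≫ a),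
      hcomm (lift (yb Y) (NB g') ≫ a) (NB g)⁻¹, _root_.mul_assoc]
  have : IsMonHom w := by
    constructor
    · have h1 := hwMul _ (1 : 𝟙_ (Over E.left) ⟶ T) 1
      rw [_root_.mul_one, left_eq_mul] at h1
      rw [show (η[T] : 𝟙_ (Over E.left) ⟶ T) = 1 by
        rw [Hom.one_def, toUnit_unique (toUnit _) (𝟙 _), Category.id_comp]]
      exact h1
    · have e : μ[T] = fst T T * snd T T := by rw [Hom.mul_def, lift_fst_snd, Category.id_comp]
      have e2 : (w ⊗ₘ w) ≫ μ[T] = (fst T T ≫ w) * (snd T T ≫ w) := by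
        rw [e, MonObj.comp_mul, tensorHom_fst, tensorHom_snd]
      rw [e2, e, hwMul]
  obtain ⟨W, hWc, hWiff, hW1⟩ := Groth.L25.TrivLocus.main hT (Or.inr hTfp) w
  -- triviality at a point, through conjugation
  have htriv : ∀ {P : Scheme.{u}} (ξ : P ⟶ E.left), Groth.L25.TrivLocus.Triv w ξ ↔
      ∀ (X : Over S) (x : X ⟶ E) (h : X ⟶ H), (∃ c, c ≫ ξ = x.left) → (lift x h ≫ a) = h := by
    intro P ξ
    constructor
    · rintro ht X x h ⟨c, hc⟩
      let Y : Over E.left := Over.mk x.left
      let cY : Over.mk (Y.hom ≫ E.hom) ⟶ X := Over.homMk (𝟙 X.left) ((Category.id_comp _).trans (Over.w x).symm)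
      let g := Groth.L25.NilAction.ofBase E.hom (X := H) (Y := Y) (cY ≫ h)
      have h1 : NB (g ≫ w) = 1 := by
        rw [ht Y (Over.homMk c hc) g]
        exact Groth.L25.NilAction.toBase_one E.hom
      rw [hw, show NB g = cY ≫ h from Groth.L25.NilAction.toBase_ofBase E.hom _, mul_inv_eq_one,
        show yb Y = cY ≫ x from Over.OverMorphism.ext (Category.id_comp _).symm, ← comp_lift,
        Category.assoc] at h1
      apply Over.OverMorphism.ext
      exact ((Category.id_comp _).symm.trans (congrArg (fun m => m.left) h1)).trans (Category.id_comp _)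
    · intro hh Y q g
      rw [← Groth.L25.NilAction.ofBase_toBase E.hom (g ≫ w),
        show Groth.L25.NilAction.toBase E.hom (g ≫ w) = 1 from ?_,
        ← Groth.L25.NilAction.toBase_one E.hom, Groth.L25.NilAction.ofBase_toBase]
      change NB (g ≫ w) = 1
      rw [hw, hh _ (yb Y) (NB g) ⟨q.left, Over.w q⟩, mul_inv_cancel]
  have hmem : ∀ e : E.left, e ∈ W ↔ Groth.L25.TrivLocus.Triv w (E.left.fromSpecResidueField e) :=
    fun e => (hWiff e).trans (Groth.L25.TrivLocus.triv_iff_map w _).symm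
  -- the locus is saturated
  have hsat : ∀ e e' : E.left, p.left e = p.left e' → e ∈ W → e' ∈ W := by
    intro e e' hee he
    obtain ⟨z, hz1, hz2⟩ := Scheme.Pullback.exists_preimage_pullback (f := p.left) (g := p.left) e e' hee
    let L := (Limits.pullback p.left p.left).residueField z
    let ζ : Spec (CommRingCat.of L) ⟶ Limits.pullback p.left p.left :=
      (Limits.pullback p.left p.left).fromSpecResidueField z
    let ξ₁ := ζ ≫ Limits.pullback.fst p.left p.left
    let ξ₂ := ζ ≫ Limits.pullback.snd p.left p.left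
    have hp₁ : ξ₁ (IsLocalRing.closedPoint L) = e := by
      show Limits.pullback.fst p.left p.left (ζ (IsLocalRing.closedPoint L)) = e
      rw [Scheme.fromSpecResidueField_apply]
      exact hz1
    have hp₂ : ξ₂ (IsLocalRing.closedPoint L) = e' := by
      show Limits.pullback.snd p.left p.left (ζ (IsLocalRing.closedPoint L)) = e'
      rw [Scheme.fromSpecResidueField_apply]
      exact hz2
    have h1 : Groth.L25.TrivLocus.Triv w ξ₁ := by
      rw [Groth.L25.TrivLocus.triv_field_iff, hp₁, ← hmem]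
      exact he
    rw [hmem, ← hp₂, ← Groth.L25.TrivLocus.triv_field_iff, htriv]
    rintro X x₂ h ⟨c, hc⟩
    have hcond : ξ₁ ≫ p.left = ξ₂ ≫ p.left := by
      simp only [ξ₁, ξ₂, Category.assoc, Limits.pullback.condition]
    let x₁ : X ⟶ E := Over.homMk (c ≫ ξ₁) (by
      show (c ≫ ξ₁) ≫ E.hom = X.hom
      rw [← Over.w x₂, ← hc, Category.assoc, Category.assoc, ← Over.w p]
      simp only [ξ₁, ξ₂, Category.assoc, Limits.pullback.condition_assoc])
    have hx : x₁ ≫ p = x₂ ≫ p := by
      apply Over.OverMorphism.ext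
      show (c ≫ ξ₁) ≫ p.left = x₂.left ≫ p.left
      rw [← hc, Category.assoc c ξ₁, Category.assoc c ξ₂, hcond]
    obtain ⟨n, hn⟩ : ∃ n : X ⟶ H, n ≫ i = x₂ * x₁⁻¹ :=
      ⟨hker.lift (x₂ * x₁⁻¹) (toUnit X) (by
        rw [MonObj.mul_comp, GrpObj.inv_comp, hx, mul_inv_cancel, Hom.one_def]), hker.lift_fst _ _ _⟩
    have hx2 : x₂ = (n ≫ i) * x₁ := by rw [hn, inv_mul_cancel_right]
    apply hmono
    have h3 : x₁ * (h ≫ i) * x₁⁻¹ = h ≫ i := by
      rw [← hai, (htriv ξ₁).1 h1 X x₁ h ⟨c, rfl⟩]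
    rw [hai, hx2, _root_.mul_inv_rev, show n ≫ i * x₁ * h ≫ i * (x₁⁻¹ * (n ≫ i)⁻¹) =
      n ≫ i * (x₁ * h ≫ i * x₁⁻¹) * (n ≫ i)⁻¹ by group, h3, ← MonObj.mul_comp, ← GrpObj.inv_comp,
      ← MonObj.mul_comp, hcomm n h, mul_inv_cancel_right]
  let A : Set U.left := p.left '' (W : Set E.left)
  have hpre : p.left ⁻¹' A = (W : Set E.left) :=
    Set.Subset.antisymm (fun e ⟨e', he', hee⟩ => hsat e' e hee he') (Set.subset_preimage_image _ _)
  have hq := AlgebraicGeometry.Flat.isQuotientMap_of_surjective p.left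
  have hAopen : IsOpen A := hq.isOpen_preimage.1 (hpre ▸ W.2)
  have hAclosed : IsClosed A := hq.isClosed_preimage.1 (hpre ▸ hWc)
  have hηE : ∀ s : S, η[E].left s ∈ W := by
    intro s
    let ξ : Spec (CommRingCat.of (S.residueField s)) ⟶ E.left := S.fromSpecResidueField s ≫ η[E].left
    have hξ : ξ (IsLocalRing.closedPoint (S.residueField s)) = η[E].left s :=
      congrArg η[E].left (Scheme.fromSpecResidueField_apply s _)
    rw [hmem, ← hξ, ← Groth.L25.TrivLocus.triv_field_iff, htriv]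
    rintro X x h ⟨c, hc⟩
    have hx : x = 1 := by
      apply Over.OverMorphism.ext
      rw [Groth.L25.MonoFibres.one_left, ← hc, ← Category.assoc]
      congr 1
      rw [← Over.w x, ← hc, Category.assoc, Category.assoc]
      erw [Groth.L25.GrpBasics.unit_comp_hom E, Category.comp_id]
    apply hmono
    rw [hai, hx, inv_one, _root_.one_mul, _root_.mul_one]
  have hA : ∀ q : U.left, q ∈ A := by
    intro q
    let s := U.hom q
    have hηU : η[U].left s ∈ A := ⟨η[E].left s, hηE s, by
      rw [← Scheme.Hom.comp_apply, ← Over.comp_left, IsMonHom.one_hom]⟩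
    have hs' : η[U].left s ∈ U.hom ⁻¹' {s} := by
      show U.hom (η[U].left s) = s
      rw [← Scheme.Hom.comp_apply]
      erw [Groth.L25.GrpBasics.unit_comp_hom U]
      rfl
    exact (hU s).isPreconnected.subset_isClopen ⟨hAclosed, hAopen⟩ ⟨_, hs', hηU⟩ (show q ∈ _ from rfl)
  intro X h e
  have hX : Groth.L25.TrivLocus.Triv w e.left := by
    refine Groth.L25.TrivLocus.Triv.comp (t := W.ι) w
      ((Groth.L25.TrivLocus.triv_iff_map w _).2 hW1) (IsOpenImmersion.lift W.ι e.left ?_)
      (IsOpenImmersion.lift_fac _ _ _)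
    rw [Scheme.Opens.range_ι]
    rintro _ ⟨z, rfl⟩
    exact hpre.le (hA (p.left (e.left z)))
  have h1 := congrArg (· ≫ i) ((htriv e.left).1 hX X e h ⟨𝟙 _, Category.id_comp _⟩)
  simp only [hai] at h1
  exact (mul_inv_eq_iff_eq_mul.1 h1).symm

end Groth.Agent.S5430
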