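import Groth.Statements.S1866
import Groth.Agent.L08.Cube.AmpleDiv
import Groth.Agent.L08.Cube.MulSurj
import Groth.Agent.L22.VeryAmple.Immersion
import Groth.Agent.L16.ProjSpace.Basic

set_option autoImplicit false
universe u v
open CategoryTheory MonoidalCategory CartesianMonoidalCategory MonObj GrpObj AlgebraicGeometry
open GrpSch

namespace Groth.Agent.S1866

/-- An abelian variety over a field K is projective over K; stated as: there is a closed immersion into
projective n-space over K compatible with the structure morphisms, for some n. -/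
theorem result (K : Type u) [Field K] (A : Over (Spec (CommRingCat.of K))) [GrpObj A] [IsProper A.hom] [GeometricallyIntegral A.hom] : ∃ (n : ℕ) (j : A.left ⟶ CohB1.ProjSpace n K), IsClosedImmersion j ∧ j ≫ CohB1.ProjSpace.toSpec n K = A.hom := by
  haveI : Smooth A.hom :=
    haveI : GrpObj (Over.mk A.hom) := inferInstanceAs (GrpObj A)
    smooth_of_grpObj A.hom
  haveI : IsIntegral A.left := GeometricallyIntegral.isIntegral_of_subsingleton A.hom
  haveI : A.left.IsSeparated := ⟨by rw [← Limits.terminal.comp_from A.hom]; infer_instance⟩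
  haveI : IsLocallyNoetherian A.left := LocallyOfFiniteType.isLocallyNoetherian A.hom
  haveI : CompactSpace A.left := QuasiCompact.compactSpace_of_compactSpace A.hom
  haveI : IsNoetherian A.left := {}
  obtain ⟨U, hU, haU, -⟩ := exists_isAffineOpen_mem_and_subset (x := genericPoint A.left) (U := (⊤ : A.left.Opens)) trivial
  haveI := Groth.L22.Div.isAffineHom_ι_of_inf (fun V W hV hW => hV.inf hW) hU
  obtain ⟨D, hD, hDs⟩ := Groth.L22.Div.exists_effCartier_compl U (U.2.dense ⟨_, haU⟩) fun x _ => by
    haveI := Groth.L08.Cube.isRegularLocalRing_of_smooth A.hom x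
    exact ⟨Groth.L01.isDomain_of_regular _, Groth.L10.RegUFD.isUFD _⟩
  obtain ⟨L, s, hL, -, hs⟩ := Groth.L08.Cube.exists_section_of_effCartier D hD
  have hgl : CohB1.genLocus L s = U := SetLike.coe_injective (by rw [hs, hDs, compl_compl])
  have hamp : CohB1.IsAmple L :=
    Groth.L08.Cube.isAmple_of_affine_genLocus L hL s (by rw [hgl]; exact hU) ⟨_, by rw [hgl]; exact haU⟩
  obtain ⟨N, -, n, r, hr, hi, -⟩ := Groth.L22.VeryAmple.exists_immersion_of_isAmple A.hom hamp
  haveI := hi
  haveI : IsProper (r ≫ Groth.L18.PUP.pr n K) := by rw [hr]; infer_instance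
  haveI : IsProper r := IsProper.of_comp r (Groth.L18.PUP.pr n K)
  exact ⟨n, r, IsClosedImmersion.of_isPreimmersion r r.isClosedMap.isClosed_range, hr⟩

end Groth.Agent.S1866
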