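import Groth.Statements.S11063
import Groth.Agent.L26.FF.Clifford

set_option autoImplicit false
open FunFld

namespace Groth.Agent.S11063

open Groth.Agent.FF WithZero

/-- Over an algebraically closed constant field, for a place `P` of a function field of genus `g` and `1
≤ l ≤ g`, the `l`-th gap number at `P` is at most `2l - 1`, i.e. at least `l` of the integers `1 ≤ m
≤ 2l - 1` satisfy `L(mP) = L((m-1)P)`. (The published statement bounds the `l`-th order of the
canonical map at `P` by `2l`; the orders of the canonical map at `P` are the gap numbers at `P` less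
one, which gives the form stated here.) -/
theorem result
    (k K : Type*) [Field k] [IsAlgClosed k] [Field K] [Algebra k K]
    (hK : FunFld.IsFunctionField k K) (P : FunFld.Place k K) (l : ℕ)
    (hl : 1 ≤ l) (hlg : l ≤ FunFld.genus k K) :
    l ≤ Set.ncard {m : ℕ | 1 ≤ m ∧ m ≤ 2 * l - 1 ∧
      FunFld.L (Finsupp.single P (m : ℤ)) = FunFld.L (Finsupp.single P ((m : ℤ) - 1))} := by
  have h := ell_single_eq hK P (2 * l - 1)
  suffices (FunFld.ell (Finsupp.single P ((2 * l - 1 : ℕ) : ℤ) : FunFld.Divisor k K) : ℤ) ≤ l by omega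
  have hd : FunFld.Divisor.deg (Finsupp.single P ((2 * l - 1 : ℕ) : ℤ)) = 2 * (l : ℤ) - 1 := by
    rw [deg_single, deg_eq_one hK]; omega
  by_cases hl2 : (l : ℤ) < FunFld.genus k K
  · have := clifford hK (D := Finsupp.single P ((2 * l - 1 : ℕ) : ℤ)) (by rw [hd]; omega)
      (by rw [hd]; omega)
    rw [hd] at this
    omega
  · have := ell_eq_of_deg_ge hK (D := Finsupp.single P ((2 * l - 1 : ℕ) : ℤ)) (by rw [hd]; omega)
    rw [hd] at this
    omega

end Groth.Agent.S11063
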