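import Groth.Statements.S11047
import Groth.Agent.L26.FF.RR
import Groth.Agent.L26.FF.Closed

set_option autoImplicit false
open FunFld

namespace Groth.Agent.S11047

open Groth.Agent.FF WithZero
variable {k K : Type*} [Field k] [Field K] [Algebra k K]

/-- The place moved by an automorphism. -/
def autPlace (σ : K ≃ₐ[k] K) (Q : FunFld.Place k K) : FunFld.Place k K :=
  ⟨Q.1.comap (σ : K →+* K), fun c => by
    show Q.1 (σ (algebraMap k K c)) ≤ 1
    rw [AlgEquiv.commutes]; exact Q.2.1 c,
   fun y => (Q.2.2 y).elim fun x hx => ⟨σ.symm x, by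
    show Q.1 (σ (σ.symm x)) = y
    rw [AlgEquiv.apply_symm_apply, hx]⟩⟩

lemma autPlace_eq_of_fixed (σ : K ≃ₐ[k] K) (P : FunFld.Place k K)
    (h : ∀ x, P.1 x < 1 → P.1 (σ x) < 1) : autPlace σ P = P := by
  refine eq_of_le fun z hz => ?_
  change P.1 (σ z) ≤ 1 at hz
  by_contra hc
  have hz0 : z ≠ 0 := fun h0 => hc (by simp [h0])
  have h2 := h z⁻¹ (by rw [map_inv₀]; exact inv_lt_one_of_one_lt₀ (not_le.1 hc))
  rw [map_inv₀, map_inv₀] at h2
  exact absurd h2 (not_lt.2 ((one_le_inv₀ (zero_lt_iff.2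
    (val_ne_zero P ((map_ne_zero_iff _ σ.injective).2 hz0)))).2 hz))

/-- Over an algebraically closed constant field, a `k`-automorphism of a function field of one variable
of genus `g` that fixes more than `2g + 2` places is the identity. -/
theorem result
    (k K : Type*) [Field k] [IsAlgClosed k] [Field K] [Algebra k K]
    (hK : FunFld.IsFunctionField k K) (σ : K ≃ₐ[k] K)
    (h : ((2 * FunFld.genus k K + 2 : ℕ) : ℕ∞) <
      Set.encard {P : FunFld.Place k K | ∀ x : K, P.1 x < 1 → P.1 (σ x) < 1}) :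
    σ = 1 := by
  classical
  by_contra hσ
  obtain ⟨P, hP⟩ : ∃ P : FunFld.Place k K, autPlace σ P ≠ P := by
    by_contra hall
    push Not at hall
    refine hσ (AlgEquiv.ext fun z => ?_)
    have hscal : ∀ y : K, y ≠ 0 → ∃ c : k, σ y = algebraMap k K c * y := fun y hy => by
      have hne : σ y ≠ 0 := (map_ne_zero_iff _ σ.injective).2 hy
      have h0 : σ y / y ∈ FunFld.L (0 : FunFld.Divisor k K) := fun Q => by
        have h1 : Q.1 (σ y) = Q.1 y := congrArg (fun R : FunFld.Place k K => R.1 y) (hall Q)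
        rw [map_div₀, h1, div_self (val_ne_zero Q hy), Finsupp.zero_apply, exp_zero]
      rw [L_zero hK, Submodule.mem_one] at h0
      obtain ⟨c, hc⟩ := h0
      exact ⟨c, by rw [hc, div_mul_cancel₀ _ hy]⟩
    show σ z = z
    by_cases hz : z ∈ Set.range (algebraMap k K)
    · obtain ⟨c, rfl⟩ := hz; exact σ.commutes c
    have hz0 : z ≠ 0 := fun h0 => hz ⟨0, by simp [h0]⟩
    have hz1 : z + 1 ≠ 0 := fun h0 => hz ⟨-1, by simp [eq_neg_of_add_eq_zero_left h0]⟩
    obtain ⟨a, ha⟩ := hscal z hz0
    obtain ⟨b, hb⟩ := hscal (z + 1) hz1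
    rw [map_add, map_one, ha] at hb
    have e : (algebraMap k K (a - b)) * z = algebraMap k K (b - 1) := by
      rw [map_sub, map_sub, map_one]; linear_combination hb
    rcases eq_or_ne a b with rfl | hab
    · rw [sub_self, map_zero, zero_mul] at e
      have := (map_eq_zero_iff _ (algebraMap k K).injective).1 e.symm
      rw [sub_eq_zero] at this
      rw [ha, this, map_one, one_mul]
    · exact absurd ⟨(b - 1) / (a - b), by
        rw [map_div₀, ← e, mul_div_cancel_left₀ _ ((map_ne_zero _).2 (sub_ne_zero.2 hab))]⟩ hz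
  -- a function with its only pole at `P`
  set g := FunFld.genus k K
  obtain ⟨f, hf, hfc⟩ : ∃ f ∈ FunFld.L (Finsupp.single P ((g : ℤ) + 1)), f ∉ (1 : Submodule k K) := by
    by_contra hc
    push Not at hc
    have hle : FunFld.L (Finsupp.single P ((g : ℤ) + 1)) ≤ FunFld.L (0 : FunFld.Divisor k K) := by
      rw [L_zero hK]; exact hc
    have := finite_L hK.1 (0 : FunFld.Divisor k K)
    have h1 : FunFld.ell (Finsupp.single P ((g : ℤ) + 1)) ≤ FunFld.ell (0 : FunFld.Divisor k K) :=
      Submodule.finrank_mono hle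
    obtain ⟨C, hC⟩ := exists_isCanonical hK
    have h2 := riemann_roch hK hC (Finsupp.single P ((g : ℤ) + 1))
    rw [ell_zero hK] at h1
    rw [deg_single, deg_eq_one hK] at h2
    push_cast at h2
    omega
  have htr : Transcendental k f :=
    transcendental_of_not_const hK (fun ⟨c, hc⟩ => hfc (Submodule.mem_one.2 ⟨c, hc⟩))
  have hf0 : f ≠ 0 := fun h => htr (h ▸ isAlgebraic_zero)
  obtain ⟨R, hR⟩ := exists_pole hK.1 htr
  have hRP : R = P := by
    by_contra hne
    have := hf R
    rw [Finsupp.single_eq_of_ne hne, exp_zero] at this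
    exact absurd hR (not_lt.2 this)
  subst hRP
  have hQ1 : ∀ Q : FunFld.Place k K, Q ≠ R → Q.1 f ≤ 1 := fun Q hQ => by
    have := hf Q
    rwa [Finsupp.single_eq_of_ne hQ, exp_zero] at this
  have hQ2 : ∀ Q : FunFld.Place k K, autPlace σ Q ≠ R → Q.1 (σ f) ≤ 1 := fun Q hQ => hQ1 (autPlace σ Q) hQ
  set d := σ f - f
  have hd0 : d ≠ 0 := fun h => by
    rw [sub_eq_zero] at h
    have h1 := hQ1 (autPlace σ R) hP
    change R.1 (σ f) ≤ 1 at h1
    rw [h] at h1
    exact absurd hR (not_lt.2 h1)
  -- its pole divisor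
  set S : FunFld.Divisor k K := Finsupp.single R ((g : ℤ) + 1) +
    Finsupp.single (autPlace σ.symm R) ((g : ℤ) + 1)
  have hsymm : ∀ Q, autPlace σ Q = R → Q = autPlace σ.symm R := fun Q hQ => by
    subst hQ
    exact Subtype.ext (Valuation.ext fun x => congrArg Q.1 (σ.apply_symm_apply x).symm)
  have hdS : d ∈ FunFld.L S := fun Q => by
    have a1 : Q.1 f ≤ exp (S Q) := by
      refine (hf Q).trans (exp_le_exp.2 ?_)
      simp only [S, Finsupp.add_apply, le_add_iff_nonneg_right, Finsupp.single_apply]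
      split_ifs <;> omega
    have a2 : Q.1 (σ f) ≤ exp (S Q) := by
      by_cases hQ : autPlace σ Q = R
      · refine le_trans (le_of_eq_of_le (congrArg (fun T : FunFld.Place k K => T.1 f) hQ) (hf R)) (exp_le_exp.2 ?_)
        simp only [S]
        rw [← hsymm Q hQ]
        simp only [Finsupp.add_apply, Finsupp.single_eq_same, le_add_iff_nonneg_left,
          Finsupp.single_apply]
        split_ifs <;> omega
      · refine (hQ2 Q hQ).trans ?_
        rw [← exp_zero, exp_le_exp]
        simp only [S, Finsupp.add_apply, Finsupp.single_apply]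
        split_ifs <;> omega
    exact (Q.1.map_sub _ _).trans (max_le a2 a1)
  -- the fixed places are zeros
  let n : ℕ := 2 * g + 2
  obtain ⟨T, hT, hTc⟩ : ∃ T : Finset (FunFld.Place k K),
      (∀ Q ∈ T, autPlace σ Q = Q) ∧ n < T.card := by
    obtain ⟨t, ht, htc⟩ := Set.exists_subset_encard_eq (k := ((n + 1 : ℕ) : ℕ∞))
      (s := {P : FunFld.Place k K | ∀ x : K, P.1 x < 1 → P.1 (σ x) < 1})
      (by
        push_cast
        exact Order.add_one_le_of_lt h)
    have htf : t.Finite := Set.finite_of_encard_eq_coe htc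
    refine ⟨htf.toFinset, fun Q hQ => autPlace_eq_of_fixed σ Q (ht (htf.mem_toFinset.1 hQ)), ?_⟩
    have := htf.encard_eq_coe_toFinset_card
    rw [htc] at this
    have h2 : n + 1 = htf.toFinset.card := by exact_mod_cast this
    omega
  let Z : FunFld.Divisor k K := ∑ Q ∈ T, Finsupp.single Q 1
  have hZ : ∀ Q, Z Q = if Q ∈ T then 1 else 0 := fun Q => by
    simp [Z, Finsupp.finsetSum_apply, Finsupp.single_apply]
  have hmem : d ∈ FunFld.L (S - Z) := fun Q => by
    rw [Finsupp.sub_apply, hZ]
    by_cases hQT : Q ∈ T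
    · rw [if_pos hQT]
      have hfix := hT Q hQT
      have hQR : Q ≠ R := fun h' => hP (h' ▸ hfix)
      have hQR' : Q ≠ autPlace σ.symm R := fun h' => hQR (by
        rw [← hfix, h']
        exact Subtype.ext (Valuation.ext fun x => congrArg R.1 (σ.symm_apply_apply x)))
      obtain ⟨c, hc⟩ := exists_value Q (deg_eq_one hK Q) (hQ1 Q hQR)
      have hc' : Q.1 (σ f - algebraMap k K c) < 1 := by
        have : Q.1 (σ (f - algebraMap k K c)) = Q.1 (f - algebraMap k K c) :=
          congrArg (fun R : FunFld.Place k K => R.1 (f - algebraMap k K c)) hfix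
        rw [map_sub, σ.commutes] at this
        rw [this]; exact hc
      have hd1 : Q.1 d < 1 := by
        rw [show d = (σ f - algebraMap k K c) - (f - algebraMap k K c) by simp [d]]
        exact Q.1.map_sub_lt hc' hc
      refine (lt_one_le_exp hd1).trans (exp_le_exp.2 ?_)
      simp [S, hQR, hQR']
    · rw [if_neg hQT, sub_zero]; exact hdS Q
  have h3 := deg_nonneg ((mem_L_iff_div hK.1 hd0).1 hmem)
  rw [deg_add, deg_div hK.1, zero_add] at h3
  have hdegZ : Z.deg = T.card := by
    simp only [Z, deg_sum, deg_single, deg_eq_one hK, Nat.cast_one, mul_one, Finset.sum_const,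
      nsmul_eq_mul]
  rw [deg_sub, hdegZ] at h3
  simp only [S, deg_add, deg_single, deg_eq_one hK] at h3
  push_cast at h3
  omega

end Groth.Agent.S11047
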