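import Groth.Statements.S12609
import Groth.Agent.L26.FF.OrdersUse

set_option autoImplicit false
open FunFld

namespace Groth.Agent.S12609

open Groth.Agent.FF

/-- Over an algebraically closed constant field, let `φ` be the canonical map (a basis of `L(C)`, `C`
canonical), normalized at the place `P` after multiplication by `y ≠ 0`, and `t` a local parameter
at `P`. For `j ≥ 1`: the canonical orders at `P` include `j` exactly when `j + 1` is a gap number at
`P`, i.e. `L((j+1)P) = L(jP)`. -/
theorem result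
    (k K : Type*) [Field k] [IsAlgClosed k] [Field K] [Algebra k K]
    (hK : FunFld.IsFunctionField k K) (C : FunFld.Divisor k K) (hC : FunFld.IsCanonical k K C)
    {n : ℕ} (φ : Fin (n + 1) → K) (hφ : LinearIndependent k φ)
    (hspan : Submodule.span k (Set.range φ) = FunFld.L C)
    (P : FunFld.Place k K) (y : K) (hy : y ≠ 0)
    (heff : (1 : K) ∈ Submodule.span k (Set.range (y • φ))) (hnorm : ∀ i, P.1 (y * φ i) ≤ 1)
    (t : K) (ht : P.1 t = WithZero.exp (-1))
    (Ht : K →ₐ[k] PowerSeries K) (hHt : LocRes.IsHasseFamily t Ht) (j : ℕ) (hj : 1 ≤ j) :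
    FunFld.IsJump (IsLocalRing.ResidueField P.O) (FunFld.hcolAt P Ht (y • φ)) (j + 1) ↔
      FunFld.L (Finsupp.single P ((j : ℤ) + 1)) = FunFld.L (Finsupp.single P (j : ℤ)) := by
  classical
  have hφne : ∀ i, φ i ≠ 0 := hφ.ne_zero
  have hyφ : LinearIndependent k (y • φ) :=
    hφ.map' (LinearMap.mulLeft k y) (LinearMap.ker_eq_bot.2 (mul_right_injective₀ hy))
  obtain ⟨J', hJ'⟩ := exists_ordersAt hK ht hHt hyφ heff hnorm
  obtain ⟨h1, -, hiff⟩ := adapted_basis hK hyφ heff hnorm ht hHt hJ'
  -- facts on `C`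
  have hd : (P.deg : ℤ) = 1 := by rw [deg_eq_one hK P, Nat.cast_one]
  obtain ⟨eC, dC⟩ := ell_canonical hK hC
  have hfin := finite_L hK.1 C
  have hg : 0 < FunFld.genus k K := by
    rw [← eC]
    refine Module.finrank_pos_iff_exists_ne_zero.2 ⟨⟨φ 0, hspan ▸ Submodule.subset_span ⟨0, rfl⟩⟩, ?_⟩
    exact fun h => hφne 0 (congrArg Subtype.val h)
  set E : ℤ → FunFld.Divisor k K := fun i => C - Finsupp.single P i with hE
  have hrr : ∀ i : ℤ, (FunFld.ell (E i) : ℤ) - FunFld.ell (Finsupp.single P i : FunFld.Divisor k K) =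
      (FunFld.genus k K : ℤ) - 1 - i := fun i => by
    have h := riemann_roch hK hC (Finsupp.single P i)
    rw [deg_single, hd] at h
    simp only [hE]
    omega
  -- order of `y`
  have hmem : ∀ g : K, g ∈ FunFld.L C ↔ y * g ∈ Submodule.span k (Set.range (y • φ)) := fun g => by
    rw [← hspan]
    simp only [Submodule.mem_span_range_iff_exists_fun]
    refine exists_congr fun c => ?_
    have e : ∑ i, c i • (y • φ) i = y * ∑ i, c i • φ i := by
      simp [Finset.mul_sum, mul_smul_comm]
    rw [e, mul_right_inj' hy]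
  have hyo : P.ord y = C P := by
    refine le_antisymm ?_ ?_
    · have h := (hmem y⁻¹).2 (by rw [mul_inv_cancel₀ hy]; exact heff)
      rw [mem_L_iff_ord (inv_ne_zero hy)] at h
      have := h P
      rw [ord_inv] at this
      omega
    · have h0 := hrr 0
      have h1' := hrr 1
      rw [Finsupp.single_zero, ell_zero hK] at h0
      rw [ell_single_one hK hg P] at h1'
      have hlt : ¬ FunFld.L (E 0) ≤ FunFld.L (E 1) := fun hle => by
        have := finite_L hK.1 (E 1)
        have : FunFld.ell (E 0) ≤ FunFld.ell (E 1) := Submodule.finrank_mono hle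
        omega
      obtain ⟨g, hg0, hg1⟩ := SetLike.not_le_iff_exists.1 hlt
      simp only [hE, Finsupp.single_zero, sub_zero] at hg0
      have hgne : g ≠ 0 := fun h => hg1 (h ▸ zero_mem _)
      have hgo : P.ord g = -C P := by
        rw [mem_L_iff_ord hgne] at hg0
        by_contra hne
        refine hg1 ((mem_L_iff_ord hgne).2 fun Q => ?_)
        have := hg0 Q
        simp only [hE, Finsupp.sub_apply, Finsupp.single_apply]
        split_ifs with hQ
        · subst hQ; omega
        · omega
      obtain ⟨c, hc⟩ := (Submodule.mem_span_range_iff_exists_fun k).1 ((hmem g).1 hg0)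
      have hle : P.1 (y * g) ≤ 1 := by
        rw [← hc]
        refine P.1.map_sum_le fun i _ => ?_
        rw [Algebra.smul_def, map_mul]
        exact Left.mul_le_one (P.2.1 _) (hnorm i)
      rw [val_le_one_iff P (mul_ne_zero hy hgne), ord_mul P hy hgne] at hle
      omega
  have hex : (∃ f ∈ Submodule.span k (Set.range (y • φ)), P.1 f = WithZero.exp (-(j : ℤ))) ↔
      ¬ FunFld.L (E j) ≤ FunFld.L (E ((j : ℤ) + 1)) := by
    rw [SetLike.not_le_iff_exists]
    constructor
    · rintro ⟨f, hf, hfv⟩
      have hf0 : f ≠ 0 := fun h => WithZero.exp_ne_zero (hfv.symm.trans (by rw [h, map_zero]))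
      have hg0 : y⁻¹ * f ≠ 0 := mul_ne_zero (inv_ne_zero hy) hf0
      have hgL : y⁻¹ * f ∈ FunFld.L C := (hmem _).2 (by rwa [← mul_assoc, mul_inv_cancel₀ hy, one_mul])
      have hgo : P.ord (y⁻¹ * f) = -C P + j := by
        rw [ord_mul P (inv_ne_zero hy) hf0, ord_inv, hyo, ord_eq_of_val P hfv, neg_neg]
      rw [mem_L_iff_ord hg0] at hgL
      refine ⟨y⁻¹ * f, (mem_L_iff_ord hg0).2 fun Q => ?_, fun hmem' => ?_⟩
      · have := hgL Q
        simp only [hE, Finsupp.sub_apply, Finsupp.single_apply]
        split_ifs with hQ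
        · subst hQ; omega
        · omega
      · have := (mem_L_iff_ord hg0).1 hmem' P
        simp only [hE, Finsupp.sub_apply, Finsupp.single_eq_same] at this
        omega
    · rintro ⟨g, hgj, hgj1⟩
      have hg0 : g ≠ 0 := fun h => hgj1 (h ▸ zero_mem _)
      rw [mem_L_iff_ord hg0] at hgj
      have hgC : g ∈ FunFld.L C := (mem_L_iff_ord hg0).2 fun Q => by
        have := hgj Q
        simp only [hE, Finsupp.sub_apply, Finsupp.single_apply] at this
        split_ifs at this <;> omega
      have hgo : P.ord g = -C P + j := by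
        by_contra hne
        refine hgj1 ((mem_L_iff_ord hg0).2 fun Q => ?_)
        have := hgj Q
        simp only [hE, Finsupp.sub_apply, Finsupp.single_apply] at this ⊢
        split_ifs at this ⊢ with hQ
        · subst hQ; omega
        · omega
      exact ⟨y * g, (hmem g).1 hgC, by
        rw [val_eq_exp P (mul_ne_zero hy hg0), ord_mul P hy hg0, hyo, hgo]; congr 1; ring⟩
  have hle : ∀ i : ℤ, (Finsupp.single P i : FunFld.Divisor k K) ≤ Finsupp.single P (i + 1) := fun i Q => by
    simp only [Finsupp.single_apply]; split_ifs <;> omega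
  have hleE : ∀ i : ℤ, FunFld.L (E (i + 1)) ≤ FunFld.L (E i) := fun i => L_mono fun Q => by
    simp only [hE, Finsupp.sub_apply, Finsupp.single_apply]; split_ifs <;> omega
  rw [← hJ'.2 j, show j ∈ Set.range J' ↔ (j = 0 ∨ j ∈ Set.range J') from
    ⟨Or.inr, fun h => h.resolve_left (by omega)⟩, hiff j, hex]
  have r0 := hrr j
  have r1 := hrr ((j : ℤ) + 1)
  have := finite_L hK.1 (E j)
  have := finite_L hK.1 (Finsupp.single P ((j : ℤ) + 1) : FunFld.Divisor k K)
  constructor
  · intro hn'
    have hlt : FunFld.ell (E ((j : ℤ) + 1)) < FunFld.ell (E j) :=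
      Submodule.finrank_lt_finrank_of_lt (lt_of_le_of_ne (hleE j) fun h => hn' h.ge)
    refine (Submodule.eq_of_le_of_finrank_le (L_mono (hle j)) ?_).symm
    show FunFld.ell (Finsupp.single P ((j : ℤ) + 1) : FunFld.Divisor k K) ≤
      FunFld.ell (Finsupp.single P (j : ℤ) : FunFld.Divisor k K)
    omega
  · intro heq hle'
    have h : FunFld.ell (Finsupp.single P ((j : ℤ) + 1) : FunFld.Divisor k K) =
        FunFld.ell (Finsupp.single P (j : ℤ) : FunFld.Divisor k K) := by rw [FunFld.ell, FunFld.ell, heq]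
    have h' : FunFld.ell (E j) = FunFld.ell (E ((j : ℤ) + 1)) := by
      rw [FunFld.ell, FunFld.ell, le_antisymm hle' (hleE j)]
    omega

end Groth.Agent.S12609
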