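import Groth.Statements.S9137
import Mathlib.RingTheory.ZariskisMainTheorem
import Mathlib.RingTheory.EssentialFiniteness
import Mathlib.RingTheory.Artinian.Ring
import Mathlib.RingTheory.HopkinsLevitzki
import Mathlib.RingTheory.Artinian.Module
import Mathlib.RingTheory.LocalRing.ResidueField.Basic
import Mathlib.RingTheory.KrullDimension.Basic

set_option autoImplicit false
universe u
open CAlg

namespace Groth.S9137aux

theorem finite_of_artinian_residue (R F : Type u) [CommRing R] [CommRing F] [IsLocalRing F] [Algebra R F]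
    [IsArtinianRing F] [Module.Finite R (IsLocalRing.ResidueField F)] : Module.Finite R F := by
  classical
  let m := IsLocalRing.maximalIdeal F
  obtain ⟨k, hk⟩ : IsNilpotent m := by
    have := IsArtinianRing.isNilpotent_jacobson_bot (R := F)
    rwa [IsLocalRing.jacobson_eq_maximalIdeal ⊥ bot_ne_top] at this
  obtain ⟨B, hB⟩ := (inferInstance : Module.Finite R (IsLocalRing.ResidueField F)).fg_top
  choose b hb using fun x : IsLocalRing.ResidueField F => IsLocalRing.residue_surjective x
  have key : ∀ j n, j + n = k → ((m ^ n).restrictScalars R).FG := by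
    intro j
    induction j with
    | zero =>
      intro n hn
      rw [show n = k by omega, hk]
      simpa using Submodule.fg_bot (R := R) (M := F)
    | succ j ih =>
      intro n hn
      obtain ⟨G, hG⟩ := IsNoetherian.noetherian (m ^ n)
      obtain ⟨H, hH⟩ := ih (n + 1) (by omega)
      refine ⟨H ∪ Finset.image₂ (fun g x => b x * g) G B, le_antisymm (Submodule.span_le.2 ?_) fun y hy => ?_⟩
      · intro y hy
        rcases Finset.mem_union.1 (Finset.mem_coe.1 hy) with h | h
        · exact Ideal.pow_le_pow_right (Nat.le_succ n) ((Submodule.restrictScalars_mem R _ y).1 (hH ▸ Submodule.subset_span h))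
        · obtain ⟨g, hg, x, -, rfl⟩ := Finset.mem_image₂.1 h
          exact Ideal.mul_mem_left _ _ (hG ▸ Submodule.subset_span hg)
      · have hy' : y ∈ Submodule.span F (G : Set F) := hG.symm ▸ hy
        have hsub : ∀ z ∈ m ^ (n + 1), z ∈ Submodule.span R (↑(H ∪ Finset.image₂ (fun g x => b x * g) G B) : Set F) := fun z hz => by
          have : z ∈ Submodule.span R (H : Set F) := hH.symm ▸ hz
          exact Submodule.span_mono (Finset.coe_subset.2 Finset.subset_union_left) this
        have hmul : ∀ g ∈ G, ∀ c : F, c * g ∈ Submodule.span R (↑(H ∪ Finset.image₂ (fun g x => b x * g) G B) : Set F) := by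
          intro g hg c
          have h1 : IsLocalRing.residue F c ∈ Submodule.span R (B : Set _) := hB ▸ Submodule.mem_top
          obtain ⟨a, ha⟩ := (Submodule.mem_span_finset.1 h1)
          have h2 : c - ∑ x ∈ B, a x • b x ∈ m := by
            rw [← IsLocalRing.residue_eq_zero_iff, map_sub, map_sum, sub_eq_zero, ← ha.2]
            refine Finset.sum_congr rfl fun x _ => ?_
            rw [Algebra.smul_def, Algebra.smul_def, map_mul, hb]
            rfl
          have h3 : c * g = (∑ x ∈ B, a x • (b x * g)) + (c - ∑ x ∈ B, a x • b x) * g := by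
            rw [sub_mul, Finset.sum_mul]
            simp only [smul_mul_assoc]
            ring
          rw [h3]
          refine add_mem (sum_mem fun x hx => Submodule.smul_mem _ _ (Submodule.subset_span ?_)) (hsub _ ?_)
          · exact Finset.mem_coe.2 (Finset.mem_union_right _ (Finset.mem_image₂.2 ⟨g, hg, x, hx, rfl⟩))
          · rw [pow_succ']
            exact Ideal.mul_mem_mul h2 (hG ▸ Submodule.subset_span hg)
        obtain ⟨c, hc⟩ := Submodule.mem_span_finset.1 hy'
        rw [← hc.2]
        exact sum_mem fun g hg => hmul g hg (c g)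
  have h0 := key k 0 (by omega)
  rw [pow_zero, Ideal.one_eq_top, Submodule.restrictScalars_top] at h0
  exact ⟨h0⟩

theorem finite_closedFibre (R S : Type u) [CommRing R] [CommRing S] [IsLocalRing R] [IsLocalRing S]
    [Algebra R S] [IsLocalHom (algebraMap R S)] [Algebra.EssFiniteType R S]
    (hres : Module.Finite (IsLocalRing.ResidueField R) (IsLocalRing.ResidueField S))
    (hdim : ringKrullDim (S ⧸ (IsLocalRing.maximalIdeal R).map (algebraMap R S)) = 0) :
    Module.Finite R (S ⧸ (IsLocalRing.maximalIdeal R).map (algebraMap R S)) := by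
  let F := S ⧸ (IsLocalRing.maximalIdeal R).map (algebraMap R S)
  let κ := R ⧸ IsLocalRing.maximalIdeal R
  letI : Field κ := Ideal.Quotient.field _
  letI : Algebra κ F := (Ideal.quotientMap _ (algebraMap R S) Ideal.le_comap_map).toAlgebra
  haveI : IsScalarTower R κ F := IsScalarTower.of_algebraMap_eq fun _ => rfl
  haveI : Algebra.EssFiniteType κ F := Algebra.EssFiniteType.of_comp R κ F
  haveI : IsNoetherianRing F := Algebra.EssFiniteType.isNoetherianRing κ F
  haveI : Ring.KrullDimLE 0 F := Ring.krullDimLE_iff.mpr (by rw [hdim]; rfl)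
  haveI : IsArtinianRing F := IsNoetherianRing.isArtinianRing_of_krullDimLE_zero
  haveI : Nontrivial F := Ideal.Quotient.nontrivial_iff.2 fun h =>
    (IsLocalRing.maximalIdeal.isMaximal S).ne_top (top_le_iff.1 (h ▸ IsLocalRing.map_maximalIdeal_le (algebraMap R S)))
  haveI : IsLocalRing F := IsLocalRing.of_surjective' _ Ideal.Quotient.mk_surjective
  haveI : Module.Finite R (IsLocalRing.ResidueField S) := by
    haveI := hres
    exact Module.Finite.trans (IsLocalRing.ResidueField R) _
  haveI : IsLocalHom (Ideal.Quotient.mk ((IsLocalRing.maximalIdeal R).map (algebraMap R S))) :=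
    IsLocalHom.of_surjective _ Ideal.Quotient.mk_surjective
  let g : IsLocalRing.ResidueField S →ₐ[R] IsLocalRing.ResidueField F :=
    { IsLocalRing.ResidueField.map (Ideal.Quotient.mk ((IsLocalRing.maximalIdeal R).map (algebraMap R S))) with
      commutes' := fun r => rfl }
  haveI : Module.Finite R (IsLocalRing.ResidueField F) := Module.Finite.of_surjective g.toLinearMap fun y => by
    obtain ⟨z, rfl⟩ := IsLocalRing.residue_surjective y
    obtain ⟨w, rfl⟩ := Ideal.Quotient.mk_surjective z
    exact ⟨IsLocalRing.residue S w, rfl⟩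
  exact finite_of_artinian_residue R F

theorem quasiFinite_of_finite (R A : Type u) [CommRing R] [CommRing A] [Algebra R A] [Module.Finite R A] :
    Algebra.QuasiFinite R A := inferInstance

end Groth.S9137aux



namespace Groth.Agent.S9137

/-- Let R → S be a local ring homomorphism between local rings, essentially of finite type, such that
the residue field of S is finite over that of R and S/m_R S has dimension zero. Then S is, as an
R-algebra, the localization of a finite R-algebra at a prime. -/
theorem result (R S : Type u) [CommRing R] [CommRing S]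
    [IsLocalRing R] [IsLocalRing S] [Algebra R S] [IsLocalHom (algebraMap R S)]
    [Algebra.EssFiniteType R S]
    (hres : Module.Finite (IsLocalRing.ResidueField R) (IsLocalRing.ResidueField S))
    (hdim : ringKrullDim (S ⧸ (IsLocalRing.maximalIdeal R).map (algebraMap R S)) = 0) :
    ∃ (S' : Type u) (_ : CommRing S') (_ : Algebra R S') (_ : Algebra S' S) (_ : IsScalarTower R S' S)
      (q : Ideal S') (_ : q.IsPrime), Module.Finite R S' ∧ IsLocalization.AtPrime S q := by
  classical
  let T := Algebra.EssFiniteType.subalgebra R S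
  let q : Ideal T := (IsLocalRing.maximalIdeal S).comap (algebraMap T S)
  haveI hq : q.IsPrime := Ideal.IsPrime.comap _
  haveI hloc : IsLocalization.AtPrime S q := by
    have h1 : IsLocalization (Algebra.EssFiniteType.submonoid R S) S := inferInstance
    have h2 : Algebra.EssFiniteType.submonoid R S = q.primeCompl := by
      ext x
      simp only [Algebra.EssFiniteType.submonoid, Submonoid.mem_comap, IsUnit.mem_submonoid_iff]
      show IsUnit (algebraMap T S x) ↔ ¬ (algebraMap T S x ∈ IsLocalRing.maximalIdeal S)
      rw [IsLocalRing.notMem_maximalIdeal]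
    show IsLocalization q.primeCompl S
    rw [← h2]
    exact h1
  have hover : q.under R = IsLocalRing.maximalIdeal R := by
    have h1 : q.under R = (IsLocalRing.maximalIdeal S).comap (algebraMap R S) := by
      show (Ideal.comap (algebraMap T S) (IsLocalRing.maximalIdeal S)).comap (algebraMap R T) = _
      rw [Ideal.comap_comap, ← IsScalarTower.algebraMap_eq R T S]
    rw [h1]
    exact le_antisymm (IsLocalRing.le_maximalIdeal (Ideal.IsPrime.comap _).ne_top)
      (Ideal.map_le_iff_le_comap.1 (IsLocalRing.map_maximalIdeal_le (algebraMap R S)))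
  haveI hfin := Groth.S9137aux.finite_closedFibre R S hres hdim
  haveI : Algebra.WeaklyQuasiFiniteAt R q := by
    rw [Algebra.weaklyQuasiFiniteAt_iff, hover]
    let e : Localization.AtPrime q ≃ₐ[R] S :=
      (IsLocalization.algEquiv q.primeCompl (Localization.AtPrime q) S).restrictScalars R
    let e' := Ideal.quotientEquivAlg ((IsLocalRing.maximalIdeal R).map (algebraMap R (Localization.AtPrime q)))
      ((IsLocalRing.maximalIdeal R).map (algebraMap R S)) e (by
        rw [Ideal.map_map]; congr 1; exact (RingHom.ext e.commutes).symm)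
    haveI : Module.Finite R (Localization.AtPrime q ⧸ (IsLocalRing.maximalIdeal R).map (algebraMap R (Localization.AtPrime q))) :=
      Module.Finite.equiv e'.symm.toLinearEquiv
    exact Groth.S9137aux.quasiFinite_of_finite R _
  obtain ⟨S', hS', r, hr, hbij⟩ := Algebra.QuasiFiniteAt.exists_fg_and_exists_notMem_and_awayMap_bijective (R := R) q
  have hsat := Localization.awayMap_surjective_iff.1 hbij.2
  letI alg : Algebra S' S := ((algebraMap T S).comp S'.val.toRingHom).toAlgebra
  have tower : @IsScalarTower R S' S _ alg.toSMul _ := @IsScalarTower.of_algebraMap_eq R S' S _ _ _ _ alg _ (fun _ => rfl)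
  let q' : Ideal S' := q.comap S'.val.toRingHom
  haveI hq' : q'.IsPrime := Ideal.IsPrime.comap _
  have hmem : ∀ x : T, ∃ n, ∀ i, n ≤ i → r.1 ^ i * x ∈ S' := fun x => by
    obtain ⟨a, n, ha⟩ := hsat x
    have h0 : r.1 ^ n * x ∈ S' := by
      rw [show r.1 ^ n * x = a.1 from ha.symm]; exact a.2
    refine ⟨n, fun i hi => ?_⟩
    obtain ⟨d, rfl⟩ := Nat.le.dest hi
    rw [pow_add, mul_comm (r.1 ^ n), mul_assoc]
    exact mul_mem (pow_mem r.2 _) h0
  refine ⟨S', inferInstance, inferInstance, alg, tower, q', hq', ⟨(Submodule.fg_top _).mpr hS'⟩, ?_⟩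
  constructor
  constructor
  · intro y
    exact IsLocalization.map_units S (⟨y.1.1, y.2⟩ : q.primeCompl)
  · intro z
    obtain ⟨⟨a, ⟨t, ht⟩⟩, hz⟩ := IsLocalization.surj q.primeCompl z
    obtain ⟨n₁, hn₁⟩ := hmem a
    obtain ⟨n₂, hn₂⟩ := hmem t
    refine ⟨⟨⟨_, hn₁ (n₁ + n₂) (Nat.le_add_right _ _)⟩, ⟨⟨_, hn₂ (n₁ + n₂) (Nat.le_add_left _ _)⟩, ?_⟩⟩, ?_⟩
    · exact fun hh => (hq.mem_or_mem hh).elim (fun h => hr (hq.mem_of_pow_mem _ h)) ht
    · show z * algebraMap T S (r.1 ^ _ * t) = algebraMap T S (r.1 ^ _ * a)
      dsimp only at hz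
      rw [map_mul, map_mul, ← hz]
      ring
  · intro a b hab
    obtain ⟨⟨t, ht⟩, htab⟩ := IsLocalization.exists_of_eq (M := q.primeCompl) (S := S) (x := (a : T)) (y := (b : T)) hab
    obtain ⟨n, hn⟩ := hmem t
    refine ⟨⟨⟨_, hn n le_rfl⟩, fun hh => (hq.mem_or_mem hh).elim (fun h => hr (hq.mem_of_pow_mem _ h)) ht⟩, Subtype.ext ?_⟩
    show r.1 ^ n * t * a = r.1 ^ n * t * b
    rw [mul_assoc, mul_assoc, show t * (a : T) = t * b from htab]

end Groth.Agent.S9137
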