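import Groth.Statements.S0422
import Groth.Agent.L20.FibreFT
import Mathlib.RingTheory.LocalRing.ResidueField.Ideal

set_option autoImplicit false
universe u
open FlatMor

set_option linter.style.haveILetI false

namespace Groth.Agent.S0422

open TensorProduct in
/-- Fibrewise criterion of flatness modulo a locally nilpotent ideal: let R → S be of finite type, S' an
S-algebra which is of finite presentation over R, I an ideal of R all of whose elements are
nilpotent, and M a finitely presented S'-module which is flat over R and such that M/IM is flat over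
S/IS. Then M is flat over S. (The published statement also asserts flatness over R of suitable
localizations of S; that part is not stated here.) -/
theorem result {R S S' M : Type u} [CommRing R] [CommRing S] [CommRing S'] [Algebra R S] [Algebra S S'] [Algebra R S'] [IsScalarTower R S S']
    [Algebra.FiniteType R S] [Algebra.FinitePresentation R S'] (I : Ideal R) (hI : ∀ a ∈ I, IsNilpotent a)
    [AddCommGroup M] [Module S' M] [Module S M] [Module R M] [IsScalarTower S S' M] [IsScalarTower R S M]
    [Module.FinitePresentation S' M] [Module.Flat R M]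
    (h : Module.Flat (S ⧸ I.map (algebraMap R S)) ((S ⧸ I.map (algebraMap R S)) ⊗[S] M)) : Module.Flat S M := by
  classical
  haveI : IsScalarTower R S' M := IsScalarTower.of_algebraMap_smul fun r m => by
    rw [IsScalarTower.algebraMap_apply R S S', algebraMap_smul, algebraMap_smul]
  refine Module.flat_of_isLocalized_maximal (R := S) (S := S') (M := M) (fun P _ => LocalizedModule P.primeCompl M)
    (fun P _ => LocalizedModule.mkLinearMap P.primeCompl M) fun q _ => ?_
  haveI := Groth.L20.FibreCrit.flat_localizedModule_of_flat (R := R) (S := S') (M := M) q.primeCompl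
  obtain ⟨p, hp⟩ : ∃ p : Ideal R, p = q.comap (algebraMap R S') := ⟨_, rfl⟩
  haveI : p.IsPrime := hp ▸ inferInstance
  letI : Algebra S (p.ResidueField ⊗[R] S) := Algebra.TensorProduct.rightAlgebra
  letI : Algebra S' (p.ResidueField ⊗[R] S') := Algebra.TensorProduct.rightAlgebra
  letI : Algebra (p.ResidueField ⊗[R] S) (p.ResidueField ⊗[R] S') :=
    (Algebra.TensorProduct.map (AlgHom.id R p.ResidueField) (IsScalarTower.toAlgHom R S S')).toRingHom.toAlgebra
  letI : Algebra S (p.ResidueField ⊗[R] S') :=
    ((algebraMap S' (p.ResidueField ⊗[R] S')).comp (algebraMap S S')).toAlgebra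
  haveI : IsScalarTower S S' (p.ResidueField ⊗[R] S') := IsScalarTower.of_algebraMap_eq fun x => rfl
  haveI : IsScalarTower S (p.ResidueField ⊗[R] S) (p.ResidueField ⊗[R] S') :=
    IsScalarTower.of_algebraMap_eq fun x => by
      simp [RingHom.algebraMap_toAlgebra]
  haveI : IsScalarTower p.ResidueField (p.ResidueField ⊗[R] S) (p.ResidueField ⊗[R] S') :=
    IsScalarTower.of_algebraMap_eq fun x => by
      simp [RingHom.algebraMap_toAlgebra]
  haveI : IsScalarTower R S (p.ResidueField ⊗[R] S') := IsScalarTower.of_algebraMap_eq fun x => by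
    rw [IsScalarTower.algebraMap_apply S S' (p.ResidueField ⊗[R] S'), ← IsScalarTower.algebraMap_apply R S S',
      ← IsScalarTower.algebraMap_apply]
  haveI : Algebra.IsPushout R S p.ResidueField (p.ResidueField ⊗[R] S) := .symm inferInstance
  haveI : Algebra.IsPushout R S' p.ResidueField (p.ResidueField ⊗[R] S') := .symm inferInstance
  haveI : Algebra.IsPushout S S' (p.ResidueField ⊗[R] S) (p.ResidueField ⊗[R] S') :=
    (Algebra.IsPushout.comp_iff (R := R) (S := S) (R' := p.ResidueField) (S' := p.ResidueField ⊗[R] S) (T := S')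
      (T' := p.ResidueField ⊗[R] S')).mp inferInstance
  haveI : Algebra.IsPushout S (p.ResidueField ⊗[R] S) S' (p.ResidueField ⊗[R] S') := .symm inferInstance
  -- a prime of the fibre over `q`
  let φ : p.ResidueField →ₐ[R] q.ResidueField :=
    Ideal.ResidueField.mapₐ p q (Algebra.ofId R S') hp
  let ψ : p.ResidueField ⊗[R] S' →ₐ[R] q.ResidueField :=
    Algebra.TensorProduct.lift φ (IsScalarTower.toAlgHom R S' q.ResidueField) fun _ _ => Commute.all _ _
  have hq' : (RingHom.ker ψ.toRingHom).comap (algebraMap S' (p.ResidueField ⊗[R] S')) = q := by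
    ext x
    rw [Ideal.mem_comap, RingHom.mem_ker]
    show ψ (1 ⊗ₜ[R] x) = 0 ↔ x ∈ q
    rw [Algebra.TensorProduct.lift_tmul, map_one, one_mul, IsScalarTower.toAlgHom_apply,
      Ideal.algebraMap_residueField_eq_zero]
  -- the fibre is flat
  have hIp : I ≤ p := fun a ha => nilradical_le_prime p (mem_nilradical.mpr (hI a ha))
  letI : Algebra (S ⧸ I.map (algebraMap R S)) (p.ResidueField ⊗[R] S) :=
    (Ideal.Quotient.lift (I.map (algebraMap R S)) (algebraMap S (p.ResidueField ⊗[R] S)) fun x hx => by
      have : I.map (algebraMap R S) ≤ RingHom.ker (algebraMap S (p.ResidueField ⊗[R] S)) :=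
        Ideal.map_le_iff_le_comap.mpr fun a ha => by
          rw [Ideal.mem_comap, RingHom.mem_ker, ← IsScalarTower.algebraMap_apply,
            IsScalarTower.algebraMap_apply R p.ResidueField (p.ResidueField ⊗[R] S),
            Ideal.algebraMap_residueField_eq_zero.mpr (hIp ha), map_zero]
      exact this hx).toAlgebra
  haveI : IsScalarTower S (S ⧸ I.map (algebraMap R S)) (p.ResidueField ⊗[R] S) :=
    IsScalarTower.of_algebraMap_eq fun x => rfl
  haveI := h
  haveI : Module.Flat (p.ResidueField ⊗[R] S) ((p.ResidueField ⊗[R] S) ⊗[S] M) :=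
    Module.Flat.of_linearEquiv (TensorProduct.AlgebraTensorModule.cancelBaseChange S (S ⧸ I.map (algebraMap R S))
      (p.ResidueField ⊗[R] S) (p.ResidueField ⊗[R] S) M).symm
  haveI : (RingHom.ker ψ.toRingHom).IsPrime := RingHom.ker_isPrime _
  exact Groth.L20.FibreCrit.flat_of_fibre_ft (K := p.ResidueField) (B := p.ResidueField ⊗[R] S)
    (C := p.ResidueField ⊗[R] S') q (by rw [Ideal.ker_algebraMap_residueField, hp]) (RingHom.ker ψ.toRingHom) hq'
    (Groth.L20.FibreCrit.flat_fibre_module (S := S) (RingHom.ker ψ.toRingHom))

end Groth.Agent.S0422
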