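import Groth.Statements.S10350
import Groth.Agent.L23.Decent2

set_option autoImplicit false
set_option backward.isDefEq.respectTransparency.types false
universe u
open CategoryTheory CategoryTheory.Limits AlgebraicGeometry Topology TopologicalSpace
open AlgSp

namespace Groth.Agent.S10350

/-- For a scheme S, every algebraic space X over S whose diagonal X ⟶ X ×_S X is representable
quasi-compact (X quasi-separated over S) is decent: each point of |X| is the class of some
monomorphism Spec k ⟶ X which is representable quasi-compact. (The published statement assumes X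
quasi-separated in the absolute sense, a condition which implies quasi-separatedness over S; this
row assumes only quasi-separatedness over S.) -/
theorem result {S : Scheme.{u}} (X : AlgSp.Space S)
    (hX : AlgSp.IsQuasiSeparatedSp X.obj) : AlgSp.IsDecent X.obj := by
  intro x
  obtain ⟨p, rfl⟩ := AlgSp.Points.mk_surjective x
  refine Groth.L23.Pt.goodPt_of_qc X.property p ((Groth.L23.Pt.qc_iff X.property p).2 fun U φ hU hφ => ?_)
  let T : Over S := Over.mk (𝟙 S)
  have hT : Limits.IsTerminal T := Over.mkIdTerminal
  have hyT : Limits.IsTerminal ((AlgSp.yon S).obj T) := hT.isTerminalObj (AlgSp.yon S) _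
  let h := hyT.from X.obj
  let i : pullback h h ≅ X.obj ⨯ X.obj :=
    { hom := prod.lift (pullback.fst h h) (pullback.snd h h)
      inv := pullback.lift prod.fst prod.snd (hyT.hom_ext _ _)
      hom_inv_id := by
        apply pullback.hom_ext
        · rw [Category.assoc, pullback.lift_fst]; erw [prod.lift_fst]; rw [Category.id_comp]
        · rw [Category.assoc, pullback.lift_snd]; erw [prod.lift_snd]; rw [Category.id_comp]
      inv_hom_id := by
        apply prod.hom_ext
        · rw [Category.assoc, prod.lift_fst, Category.id_comp]; exact pullback.lift_fst _ _ _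
        · rw [Category.assoc, prod.lift_snd, Category.id_comp]; exact pullback.lift_snd _ _ _ }
  have hd : AlgSp.RepWith @QuasiCompact (pullback.diagonal h) := by
    have e : pullback.diagonal h = Limits.diag X.obj ≫ i.inv := by
      apply pullback.hom_ext
      · rw [pullback.diagonal_fst, Category.assoc, pullback.lift_fst]; exact (prod.lift_fst _ _).symm
      · rw [pullback.diagonal_snd, Category.assoc, pullback.lift_snd]; exact (prod.lift_snd _ _).symm
    rw [e]
    have : IsIso i.inv := Iso.isIso_inv i
    exact Groth.L23.repWith_comp hX
      (Groth.L23.repWith_of_isIso (P := (@QuasiCompact : MorphismProperty Scheme.{u})) i.inv)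
  obtain ⟨a, ha⟩ := (AlgSp.yon S).map_surjective (p.toHom ≫ h)
  obtain ⟨b, hb⟩ := (AlgSp.yon S).map_surjective (φ ≫ h)
  have sab := (IsPullback.of_hasPullback a b).map (AlgSp.yon S)
  rw [ha, hb] at sab
  have : QuasiCompact a.left := by
    have : Finite ↥p.pt.left := inferInstance
    exact Groth.L23.Pt.quasiCompact_of_finite _
  have : QuasiCompact (pullback.snd a b).left :=
    MorphismProperty.of_isPullback ((IsPullback.of_hasPullback a b).map (Over.forget S)) this
  have : CompactSpace (pullback a b).left := QuasiCompact.compactSpace_of_compactSpace (pullback.snd a b).left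
  exact Groth.L23.Pt.compact_of_qcDiag hd p.toHom φ (Groth.L23.Pt.compact_of_iso sab.isoPullback (Groth.L23.Pt.compact_yon))
    (Groth.L23.isAlgSpace_of_isPullback (AlgSp.IsAlgSpace.yon_obj T).diag (AlgSp.IsAlgSpace.yon_obj _)
      (AlgSp.IsAlgSpace.yon_obj _) (IsPullback.of_hasPullback _ _))


end Groth.Agent.S10350
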