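import Groth.Statements.S10181
import Groth.Agent.L23.QsTop
import Groth.Agent.L23.MorCalc

set_option autoImplicit false
set_option backward.isDefEq.respectTransparency.types false
universe u
open CategoryTheory CategoryTheory.Limits AlgebraicGeometry Topology TopologicalSpace
open AlgSp

namespace Groth.Agent.S10181

/-- Let X be an algebraic space over a scheme S and a : h_U ⟶ X a representable etale map from a scheme
U over S whose underlying scheme is separated. Then a is (representable and) separated, and the
scheme R = U ×_X U representing the fibre product h_U ×_X h_U is separated. -/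
theorem result {S : Scheme.{u}} (X : AlgSp.Space S) {U : Over S}
    (a : (AlgSp.yon S).obj U ⟶ X.obj) (ha : AlgSp.RepWith @Etale a) [U.left.IsSeparated] :
    AlgSp.RepWith @IsSeparated a ∧
      ∀ (R : Over S) (s t : R ⟶ U), IsPullback ((AlgSp.yon S).map t) ((AlgSp.yon S).map s) a a →
        R.left.IsSeparated := by
  have key : ∀ (T : Over S) (g : (AlgSp.yon S).obj T ⟶ X.obj) (P : Over S) (p : P ⟶ U) (q : P ⟶ T),
      IsPullback ((AlgSp.yon S).map p) ((AlgSp.yon S).map q) a g → IsSeparated q.left := by
    intro T g P p q sq
    let m : P.left ⟶ Limits.pullback (terminal.from U.left) (terminal.from T.left) :=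
      Limits.pullback.lift p.left q.left (Subsingleton.elim _ _)
    have : Mono m := ⟨fun {Z} φ ψ e => by
      have e₁ : φ ≫ p.left = ψ ≫ p.left := by simpa [m, pullback.lift_fst] using e =≫ pullback.fst _ _
      have e₂ : φ ≫ q.left = ψ ≫ q.left := by simpa [m, pullback.lift_snd] using e =≫ pullback.snd _ _
      have hh : φ ≫ P.hom = ψ ≫ P.hom := by rw [← Over.w p, ← Category.assoc, e₁, Category.assoc]
      have : (Over.homMk φ rfl : Over.mk (φ ≫ P.hom) ⟶ P) = Over.homMk ψ hh.symm := (AlgSp.yon S).map_injective (sq.hom_ext
        (by rw [← Functor.map_comp, ← Functor.map_comp]; congr 1; exact Over.OverMorphism.ext e₁)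
        (by rw [← Functor.map_comp, ← Functor.map_comp]; congr 1; exact Over.OverMorphism.ext e₂))
      exact congrArg CommaMorphism.left this⟩
    have : IsSeparated (terminal.from U.left) := Scheme.IsSeparated.isSeparated_terminal_from
    have : IsSeparated m := inferInstance
    rw [show q.left = m ≫ pullback.snd _ _ by simp [m, pullback.lift_snd]]
    infer_instance
  have hrep := X.property.representable_from_yon a
  refine ⟨Groth.L23.repWith_of_exists fun T g => ?_, fun R s t sq => ?_⟩
  · obtain ⟨P, p, q, sq⟩ := Groth.L23.exists_isPullback_of_representable hrep g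
    exact ⟨P, _, q, sq, key T g P p q sq⟩
  · have := key U a R t s sq
    exact ⟨by rw [← terminal.comp_from s.left]; exact inferInstanceAs (IsSeparated (s.left ≫ terminal.from U.left))⟩

end Groth.Agent.S10181
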