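import Groth.Statements.S7488
import Groth.Agent.L24.Quot.Affine
import Groth.Agent.L24.Quot.QuotSh
import Mathlib.AlgebraicGeometry.Sites.Fpqc
-- import your own Groth.Agent.* helpers here

set_option autoImplicit false
universe u
open CategoryTheory CategoryTheory.Limits AlgebraicGeometry
open Grpd

namespace Groth.Agent.S7488

/-- Let (U, R, s, t, c) be a groupoid scheme over S with U and R affine, s and t finite locally free,
and j = (t, s) : R -> U x_S U a monomorphism. Let C be the ring of R-invariant functions on U and M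
= Spec C. Then the structure morphism U -> S factors uniquely through U -> M, and for the resulting
structure of scheme over S on M, the morphism U -> M represents the quotient sheaf U/R in the fppf
topology: it coequalizes s and t and the induced map from the coequalizer of h_R => h_U (sheaves of
sets on the big fppf site of S) to h_M is an isomorphism. (The published statement also asserts that
U -> M is finite locally free and that R = U x_M U; this row states only the quotient-sheaf clause.)
(A groupoid scheme carries U, R, s, t, c, e, i over S with the groupoid axioms on T-points; c is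
defined on the fibre product of s and t and sends a pair (a, b) with s(a) = t(b) to a composed with
b.) -/
theorem result (S : Scheme.{u}) (G : Grpd.GroupoidScheme S) [IsAffine G.U] [IsAffine G.R] [IsFinite G.s] [Flat G.s] [LocallyOfFinitePresentation G.s] [IsFinite G.t] [Flat G.t] [LocallyOfFinitePresentation G.t] [Mono G.j] : ∃! m : Spec (CommRingCat.of G.invariants) ⟶ S, ∃ h : G.toQuot ≫ m = G.pU, QuotSh.IsQuotient Scheme.fppfPrecoverage (Over.homMk G.s G.s_over : Over.mk G.pR ⟶ Over.mk G.pU) (Over.homMk G.t G.t_over : Over.mk G.pR ⟶ Over.mk G.pU) (Over.homMk G.toQuot h : Over.mk G.pU ⟶ Over.mk m) := by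
  obtain ⟨h1, h2, h3, h4⟩ := L24.Quot.finite_flat_toQuot G
  haveI : Surjective G.toQuot := by
    letI := L24.Quot.algR G
    letI := L24.Quot.algD G
    obtain ⟨d, hs, ht, hfull⟩ := L24.Quot.exists_dat G
    obtain ⟨N, a, ha⟩ := L24.Quot.exists_finite_gen G
    haveI := d.faithfullyFlat_of_gen hfull Subtype.val_injective (a := a) (fun y => by
      obtain ⟨c, hc⟩ := ha y
      exact ⟨c, by rw [hs, ht]; exact hc⟩)
    rw [Grpd.GroupoidScheme.toQuot]
    have hsp : Surjective (Spec.map (CommRingCat.ofHom G.invariants.subtype)) :=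
      ⟨PrimeSpectrum.comap_surjective_of_faithfullyFlat (A := G.invariants) (B := Γ(G.U, ⊤))⟩
    exact inferInstanceAs (Surjective (_ ≫ _))
  haveI : EffectiveEpi G.toQuot := inferInstance
  have hw : ∀ {Z : Scheme.{u}} (g₁ g₂ : Z ⟶ G.U), g₁ ≫ G.toQuot = g₂ ≫ G.toQuot →
      g₁ ≫ G.pU = g₂ ≫ G.pU := by
    intro Z g₁ g₂ h
    rw [← h4.lift_fst g₁ g₂ h, Category.assoc, G.t_over, ← G.s_over, ← Category.assoc, h4.lift_snd]
  refine ⟨EffectiveEpi.desc G.toQuot G.pU hw, ?_, fun m ⟨h, _⟩ => (EffectiveEpi.uniq G.toQuot G.pU hw m h)⟩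
  have h := EffectiveEpi.fac G.toQuot G.pU hw
  refine ⟨h, ?_⟩
  haveI : Flat (Over.homMk (U := Over.mk G.pU) (V := Over.mk (EffectiveEpi.desc G.toQuot G.pU hw)) G.toQuot h).left := h2
  haveI : LocallyOfFinitePresentation (Over.homMk (U := Over.mk G.pU) (V := Over.mk (EffectiveEpi.desc G.toQuot G.pU hw)) G.toQuot h).left := h3
  haveI : Surjective (Over.homMk (U := Over.mk G.pU) (V := Over.mk (EffectiveEpi.desc G.toQuot G.pU hw)) G.toQuot h).left := ‹Surjective G.toQuot›
  exact L24.Quot.isQuotient_of_isPullback
    (IsPullback.of_map (Over.forget S) (Over.OverMorphism.ext h4.w.symm) h4.flip)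
end Groth.Agent.S7488
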