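import Groth.Statements.S1310
import Groth.Agent.L20.ThickeningDescent

set_option autoImplicit false
universe u
open FlatMor

namespace Groth.Agent.S1310

open AlgebraicGeometry CategoryTheory Limits in
/-- Let S ⟶ S' be a finite order thickening and let X be the base change of a scheme X' over S' to S (so
X ⟶ X' is again a thickening). Then X ⟶ S is formally unramified if and only if X' ⟶ S' is. (The
source states this as the vanishing of the sheaf of relative differentials; formal unramifiedness is
the equivalent phrasing available here.) -/
theorem result {X X' S S' : Scheme.{u}} (iX : X ⟶ X') (iS : S ⟶ S') (f : X ⟶ S) (f' : X' ⟶ S')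
    (hS : MoreMor.IsFiniteOrderThickening iS) (hc : IsPullback iX f f' iS) :
    FormallyUnramified f ↔ FormallyUnramified f' := by
  have := hS.1.1
  exact ⟨fun h => Groth.L20.Thick.descend (@FormallyUnramified)
      (Q := fun f => RingHom.FormallyUnramified f)
      (fun A B A₀ _ _ _ _ _ h1 h2 h3 => RingHom.formallyUnramified_algebraMap.mpr
        (Groth.L20.Thick.formallyUnramified_of_baseChange h1 h2 (RingHom.formallyUnramified_algebraMap.mp h3))) hS.2 hc h,
    fun h => MorphismProperty.of_isPullback hc h⟩

end Groth.Agent.S1310
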