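import Groth.Statements.S1311
import Groth.Agent.S1310

set_option autoImplicit false
universe u
open FlatMor

namespace Groth.Agent.S1311

open AlgebraicGeometry CategoryTheory Limits in
/-- Let S ⟶ S' be a finite order thickening and let X be the base change of a scheme X' over S' to S (so
X ⟶ X' is again a thickening). Then X ⟶ S is a monomorphism if and only if X' ⟶ S' is. -/
theorem result {X X' S S' : Scheme.{u}} (iX : X ⟶ X') (iS : S ⟶ S') (f : X ⟶ S) (f' : X' ⟶ S')
    (hS : MoreMor.IsFiniteOrderThickening iS) (hc : IsPullback iX f f' iS) :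
    Mono f ↔ Mono f' := by
  have := hS.1.1
  refine ⟨fun h => ?_, fun h => (MorphismProperty.monomorphisms Scheme.{u}).of_isPullback hc h⟩
  have : FormallyUnramified f' := (Groth.Agent.S1310.result iX iS f f' hS hc).mp inferInstance
  refine ⟨fun {T} a b hab => ?_⟩
  have hn : IsNilpotent (pullback.fst (a ≫ f') iS).ker :=
    Groth.L20.Thick.isNilpotent_ker_of_isPullback hS.2 (IsPullback.of_hasPullback (a ≫ f') iS)
  refine FormallyUnramified.hom_ext (pullback.fst (a ≫ f') iS) hn f' ?_ hab
  have wa : (pullback.fst (a ≫ f') iS ≫ a) ≫ f' = pullback.snd (a ≫ f') iS ≫ iS := by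
    rw [Category.assoc, pullback.condition]
  have wb : (pullback.fst (a ≫ f') iS ≫ b) ≫ f' = pullback.snd (a ≫ f') iS ≫ iS := by
    rw [Category.assoc, ← hab, pullback.condition]
  have key : hc.lift _ _ wa = hc.lift _ _ wb := by rw [← cancel_mono f, hc.lift_snd, hc.lift_snd]
  have := congrArg (· ≫ iX) key
  simpa only [hc.lift_fst] using this

end Groth.Agent.S1311
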