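import Groth.Statements.S16811
import Groth.Agent.L09.FieldPt.Basic
import Groth.Agent.L07.SyntKoszul
import Groth.Agent.L23.SourceRegular

set_option autoImplicit false
universe u
open CategoryTheory AlgebraicGeometry
open Gerb

set_option backward.isDefEq.respectTransparency false
set_option backward.isDefEq.respectTransparency.types false

open Groth.L09.FieldPt Groth.L24.St Groth.L24.LocQ

namespace Groth.Agent.S16811

/-- A reduced, locally Noetherian algebraic stack with exactly one point is regular (all local rings of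
all schemes smooth over it are regular local rings). -/
theorem result
    (S : Scheme.{u}) (𝒵 : AlgSt.Cat S) (h𝒵 : AlgSt.IsAlgStack Scheme.fppfPrecoverage 𝒵)
    (hred : AlgSt.SmoothLocally (fun T => IsReduced T) 𝒵)
    (hnoeth : AlgSt.SmoothLocally (fun T => IsLocallyNoetherian T) 𝒵)
    (hne : Nonempty (AlgSt.Points 𝒵)) (hsub : Subsingleton (AlgSt.Points 𝒵)) :
    AlgSt.SmoothLocally (fun T => ∀ t : T, IsRegularLocalRing (T.presheaf.stalk t)) 𝒵 := by
  obtain ⟨k, _, a, z, hz₁, hzs, hzf⟩ := exists_surjective_flat_fieldPt h𝒵 hred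
  intro U x hx t
  obtain ⟨W, h, ρ, hρ, hs, hQ⟩ := exists_cover_chart h𝒵 hzs hx
  have : Flat h.left := hQ isSmoothLocalST_flat Groth.L23.etLocal_flat hzf
  obtain ⟨w, rfl⟩ := h.left.surjective t
  exact Groth.L23.isRegularLocalRing_stalk_of_flat h.left w
    (Groth.L07.SyntKoszul.isRegularLocalRing_of_smooth (k := k) ρ.left w)

end Groth.Agent.S16811
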