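import Groth.Statements.S16861
import Groth.Agent.L09.Gerbe.CoarseSpace
import Groth.Agent.L09.Gerbe.SheafClasses

set_option autoImplicit false
universe u
open CategoryTheory AlgebraicGeometry
open Gerb

namespace Groth.Agent.S16861

/-- An algebraic stack is a gerbe (over some algebraic space) exactly when its inertia is flat and
locally of finite presentation over it. -/
theorem result
    (S : Scheme.{u}) (𝒳 : AlgSt.Cat S) (h𝒳 : AlgSt.IsAlgStack Scheme.fppfPrecoverage 𝒳) :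
    Gerb.IsAlgGerbe Scheme.fppfPrecoverage 𝒳 ↔
      AlgSt.LocQ (AlgSp.LocP @Flat) (FibCat.inertiaToBase (FibCat.toSelf 𝒳)) ∧
        AlgSt.LocQ (AlgSp.LocP @LocallyOfFinitePresentation) (FibCat.inertiaToBase (FibCat.toSelf 𝒳)) := by
  constructor
  · rintro ⟨X, π, hπ⟩
    have hX := Groth.L09.Gerbe.isAlgStack_ofSp X
    have h := Groth.L09.Gerbe.isFF_inertiaToBase_of_gerbe h𝒳 hX hπ.2
    obtain ⟨a, ha, -, ⟨i⟩⟩ := Groth.L24.St.exists_inverse (Groth.L09.Gerbe.inertiaAbs_isEquivOver π)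
    have hI := Groth.L09.Gerbe.isAlgStack_inertia h𝒳 Groth.L24.St.isAlgStack_selfOver (FibCat.toSelf 𝒳)
    have hIπ := Groth.L09.Gerbe.isAlgStack_inertia h𝒳 hX π
    exact ((Groth.L09.Gerbe.IsFF.of_isEquivOver hI hIπ ha).comp hI hIπ h𝒳 h).congr
      (Groth.L24.St.whiskerR i (FibCat.inertiaToBase (FibCat.toSelf 𝒳)))
  · intro hI
    have hπ := Groth.L09.Gerbe.isGerbeOver_clsFun h𝒳.isStack.1
    exact ⟨⟨_, Groth.L09.Gerbe.isAlgSpace_of_gerbe_over_sheaf h𝒳 hπ hI⟩,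
      Groth.L09.Gerbe.clsFun h𝒳.isStack.1, hπ⟩

end Groth.Agent.S16861
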