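import Groth.Statements.S12795
import Groth.Agent.L09.GerbFull


set_option autoImplicit false
open CategoryTheory
universe w v u
open Stk

namespace Groth.Agent.S12795

/-- Let `𝒳` be a stack in groupoids over `C` for the topology `J` and `Q` a property of objects of `𝒳`
such that (1) for every morphism `y ⟶ x` of `𝒳` whose target satisfies `Q`, `y` is isomorphic, by an
isomorphism lying over an identity, to an object satisfying `Q`, and (3) for every covering sieve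
`R` on `U` and every object `x` over `U`: if every source of a morphism to `x` lying over an arrow
of `R` is isomorphic over an identity to an object satisfying `Q`, then so is `x`. Then the full
subcategory of `𝒳` on `Q`, with the restricted structure functor, is a stack in groupoids for `J`.
(The published statement has a further condition (2), fullness of the subcategory, which is built
into the full subcategory here; and its word isomorphic is read as isomorphic by an isomorphism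
lying over an identity; the published statement is for stacks that are not necessarily in groupoids,
this row treats stacks in groupoids.) -/
theorem result {C : Type u} [Category.{v} C] (J : GrothendieckTopology C) {𝒳 : BasedCategory.{v, max u v} C}
    (h𝒳 : Stk.IsStack J 𝒳) (Q : ObjectProperty 𝒳.obj)
    (h1 : ∀ ⦃y x : 𝒳.obj⦄ (φ : y ⟶ x), Q x → ∃ (y' : 𝒳.obj) (e : y ≅ y'), Q y' ∧ 𝒳.p.IsHomLift (𝟙 (𝒳.p.obj y)) e.hom)
    (h3 : ∀ ⦃U : C⦄ (R : Sieve U), R ∈ J U → ∀ (x : 𝒳.obj), 𝒳.p.obj x = U →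
      (∀ ⦃V : C⦄ (f : V ⟶ U), R f → ∀ (y : 𝒳.obj) (φ : y ⟶ x), 𝒳.p.IsHomLift f φ →
        ∃ (y' : 𝒳.obj) (e : y ≅ y'), Q y' ∧ 𝒳.p.IsHomLift (𝟙 V) e.hom) →
      ∃ (x' : 𝒳.obj) (e : x ≅ x'), Q x' ∧ 𝒳.p.IsHomLift (𝟙 U) e.hom) :
    Stk.IsStack J (BasedCategory.ofFunctor (Q.ι ⋙ 𝒳.p)) := by
  set 𝒬 : BasedCategory.{v, max u v} C := BasedCategory.ofFunctor (Q.ι ⋙ 𝒳.p) with h𝒬
  let ι : 𝒬 ⥤ᵇ 𝒳 := { toFunctor := Q.ι, w := rfl }
  haveI : ι.toFunctor.Full := inferInstanceAs Q.ι.Full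
  haveI : ι.toFunctor.Faithful := inferInstanceAs Q.ι.Faithful
  have := Groth.L09.Fib.isFibered_of_isFibGrpd _ h𝒳.1
  have hgrpd : FibCat.IsFibGrpd 𝒬.p := by
    refine ⟨fun {x V} (f : V ⟶ 𝒳.p.obj x.obj) => ?_, fun {y x} φ => ⟨fun {a'} g φ' hφ' => ?_⟩⟩
    · obtain ⟨y, φ, hφ⟩ := h𝒳.1.exists_lift (x := x.obj) f
      obtain ⟨y', e, hy', he⟩ := h1 φ x.property
      obtain rfl : 𝒳.p.obj y = V := CategoryTheory.IsHomLift.domain_eq 𝒳.p f φ
      have hl : 𝒳.p.IsHomLift f (e.inv ≫ φ) :=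
        CategoryTheory.IsHomLift.comp_lift_id_left' 𝒳.p (𝒳.p.obj y) e.inv f φ
      exact ⟨⟨y', hy'⟩, ObjectProperty.homMk (e.inv ≫ φ), (BasedFunctor.isHomLift_iff ι f _).1 hl⟩
    · haveI := h𝒳.1.isStronglyCartesian φ.hom
      haveI : 𝒳.p.IsHomLift (g ≫ 𝒳.p.map φ.hom) φ'.hom := (BasedFunctor.isHomLift_iff ι _ φ').2 hφ'
      obtain ⟨χ, ⟨hχ, hχ'⟩, hu⟩ := Functor.IsStronglyCartesian.universal_property 𝒳.p
        (𝒳.p.map φ.hom) φ.hom g (g ≫ 𝒳.p.map φ.hom) rfl φ'.hom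
      exact ⟨ObjectProperty.homMk χ,
        ⟨(BasedFunctor.isHomLift_iff ι g (ObjectProperty.homMk χ)).1 hχ,
          ObjectProperty.hom_ext _ hχ'⟩, fun χ' hh => ObjectProperty.hom_ext _
            (hu χ'.hom ⟨(BasedFunctor.isHomLift_iff ι g χ').2 hh.1, congrArg (·.hom) hh.2⟩)⟩
  refine ⟨hgrpd, fun U R hR => ?_⟩
  haveI : (Stk.resSieve R 𝒳).IsEquivalence := h𝒳.2 R hR
  haveI := Groth.L09.Fib.postF_full (FibCat.overCat U) ι
  haveI := Groth.L09.Fib.postF_faithful (FibCat.overCat U) ι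
  haveI := Groth.L09.Fib.postF_full (Stk.sieveCat R) ι
  haveI := Groth.L09.Fib.postF_faithful (Stk.sieveCat R) ι
  have key : Groth.L09.Fib.postF (FibCat.overCat U) ι ⋙ Stk.resSieve R 𝒳 =
      Stk.resSieve R 𝒬 ⋙ Groth.L09.Fib.postF (Stk.sieveCat R) ι := rfl
  haveI : (Stk.resSieve R 𝒬 ⋙ Groth.L09.Fib.postF (Stk.sieveCat R) ι).Full := key ▸ inferInstance
  haveI : (Stk.resSieve R 𝒬 ⋙ Groth.L09.Fib.postF (Stk.sieveCat R) ι).Faithful := key ▸ inferInstance
  haveI : (Stk.resSieve R 𝒬).Full :=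
    Functor.Full.of_comp_faithful _ (Groth.L09.Fib.postF (Stk.sieveCat R) ι)
  haveI : (Stk.resSieve R 𝒬).Faithful :=
    Functor.Faithful.of_comp _ (Groth.L09.Fib.postF (Stk.sieveCat R) ι)
  haveI : (Stk.resSieve R 𝒬).EssSurj := by
    refine ⟨fun d => ?_⟩
    let G := (Stk.resSieve R 𝒳).objPreimage (BasedFunctor.comp d ι)
    let β := (Stk.resSieve R 𝒳).objObjPreimageIso (BasedFunctor.comp d ι)
    let q := Over.mk (𝟙 U)
    have hq : 𝒳.p.obj (G.obj q) = U := G.w_obj q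
    obtain ⟨x₀, e₀, hx₀, he₀⟩ := h3 R hR (G.obj q) hq (fun V f hf z φ hφ => by
      let k : (Stk.sieveCat R).obj := ⟨Over.mk f, hf⟩
      have hm : 𝒳.p.IsHomLift f (G.map (Groth.L09.Fib.toTerm k.obj)) :=
        (Groth.L09.Fib.map_toTerm_sc G
          (Groth.L09.Fib.preservesStronglyCartesian_of_isFibGrpd G h𝒳.1) k.obj).toIsHomLift
      obtain ⟨χ, hχ, -⟩ := Groth.L09.Gerb.connect h𝒳.1 f φ (G.map (Groth.L09.Fib.toTerm k.obj))
      let i : G.obj k.obj ≅ (d.obj k).obj := ((BasedNatTrans.forgetful _ _).mapIso β).app k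
      have hi : 𝒳.p.IsHomLift (𝟙 V) i.hom := β.hom.isHomLift' k
      exact ⟨(d.obj k).obj, χ ≪≫ i, (d.obj k).property,
        CategoryTheory.IsHomLift.comp_lift_id_right 𝒳.p (𝟙 V) χ.hom i.hom⟩)
    obtain ⟨L, ⟨eL⟩⟩ := Groth.L09.Stk.exists_lift ι G (fun a => by
      haveI : 𝒳.p.IsHomLift a.hom (G.map (Groth.L09.Fib.toTerm a)) :=
        (Groth.L09.Fib.map_toTerm_sc G
          (Groth.L09.Fib.preservesStronglyCartesian_of_isFibGrpd G h𝒳.1) a).toIsHomLift
      obtain ⟨y', e, hy', he⟩ := h1 (G.map (Groth.L09.Fib.toTerm a) ≫ e₀.hom) hx₀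
      refine ⟨⟨y', hy'⟩, e.symm, ?_⟩
      have ha : 𝒳.p.obj (G.obj a) = a.left := G.w_obj a
      rw [ha] at he
      exact @CategoryTheory.IsHomLift.lift_id_inv _ _ _ _ 𝒳.p a.left _ _ e he)
    exact ⟨L, ⟨(Groth.L09.Fib.postF (Stk.sieveCat R) ι).preimageIso
      ((Stk.resSieve R 𝒳).mapIso eL ≪≫ β)⟩⟩
  exact Functor.IsEquivalence.mk

end Groth.Agent.S12795
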