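import Groth.Statements.S12842
import Groth.Agent.L24.St.DiagCover
import Groth.Agent.L24.St.SpaceStack
import Groth.Agent.L24.St.MonoLocal
import Groth.Agent.L24.St.DiagSpace
import Groth.Agent.L24.St.Bootstrap
import Groth.Agent.S12978
-- import your own Groth.Agent.* helpers here

set_option autoImplicit false
open CategoryTheory AlgebraicGeometry
universe u
open AlgSt

namespace Groth.Agent.S12842

/-- (2) ⇒ (1): let `f : 𝒳 ⟶ 𝒴` be a 1-morphism of algebraic stacks over `S`, `W` an algebraic space over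
`S` and `w : W ⟶ 𝒴` surjective, flat and locally of finite presentation. If the 2-fibre product `W
×_𝒴 𝒳` is representable by an algebraic space, then `f` is representable by algebraic spaces. -/
theorem result {S : Scheme.{u}} {𝒳 𝒴 : AlgSt.Cat S}
    (h𝒳 : AlgSt.IsAlgStack Scheme.fppfPrecoverage 𝒳) (h𝒴 : AlgSt.IsAlgStack Scheme.fppfPrecoverage 𝒴)
    (f : 𝒳 ⥤ᵇ 𝒴) (W : AlgSp.Space S) (w : AlgSt.ofSp W.obj ⥤ᵇ 𝒴)
    (hw₁ : AlgSt.RepByAlgSpWith (AlgSp.LocP @Flat) w)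
    (hw₂ : AlgSt.RepByAlgSpWith (AlgSp.LocP @LocallyOfFinitePresentation) w)
    (hw₃ : AlgSt.RepByAlgSpWith AlgSp.IsSurjectiveMor w)
    (h : AlgSt.RepByAlgSp (FibCat.fp w f)) : AlgSt.RepByAlgSp1 f := by
  have hW : AlgSt.IsAlgStack Scheme.fppfPrecoverage (AlgSt.ofSp W.obj) :=
    Groth.L24.St.isAlgStack_of_repByAlgSp ⟨W, BasedFunctor.id _, Groth.L24.St.isEquivOver_id _⟩
  have hF : FibCat.IsFibSetoid (FibCat.fp w f).p := Groth.L24.St.isFibSetoid_of_repByAlgSp h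
  have hfp := Groth.L24.St.isAlgStack_of_repByAlgSp h
  have hk : AlgSt.RepByAlgSp1 (FibCat.fpFst w f) := by
    refine (Groth.L24.St.rep1_iff_trivialKernel hfp hW _).2 fun a φ hp _ => ?_
    haveI : (FibCat.fp w f).p.IsHomLift (𝟙 ((FibCat.fp w f).p.obj a)) φ := by rw [← hp]; infer_instance
    haveI : (FibCat.fp w f).p.IsHomLift (𝟙 ((FibCat.fp w f).p.obj a)) (𝟙 a) := Groth.L24.St.overId_id a
    exact Groth.L09.Fib.setoid_ext hF (𝟙 ((FibCat.fp w f).p.obj a))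
  have hd : AlgSt.RepByAlgSpWith (MorphismProperty.monomorphisms (AlgSp.Sp S)) (FibCat.diag (FibCat.fpFst w f)) :=
    Groth.L24.St.isMono_diag_of_rep1 hk
  have := Groth.L24.St.diag_repWith_of_fpFst_cover Groth.L24.St.pBase_mono Groth.L24.St.isLocalOnBase_mono_fppf
    h𝒳.isStack.1 h𝒴.isStack.1 hW.isStack.1 (Groth.L24.St.diag_rep1_alg h𝒳 h𝒴 f) hw₁ hw₂ hw₃ hd
  exact Groth.Agent.S12978.result S 𝒳 𝒴 h𝒳 h𝒴 f this

end Groth.Agent.S12842
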