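import Groth.Statements.S12878
import Groth.Agent.L09.Residual.FullFaithful
import Groth.Agent.L24.St.Monotone
import Groth.Agent.L24.St.Fibrewise
import Groth.Agent.L24.St.AlgStackInv

set_option autoImplicit false
open CategoryTheory AlgebraicGeometry
universe u
open AlgSt

set_option backward.isDefEq.respectTransparency false
set_option backward.isDefEq.respectTransparency.types false

namespace Groth.Agent.S12878

open Groth.L09.Residual CategoryTheory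

/-- Let `i : 𝒵 ⟶ 𝒳` be an immersion of algebraic stacks over `S`. Then there is a unique locally closed
substack `𝒳' ⊂ 𝒳` (a predicate on objects closed under isomorphisms, with algebraic full subcategory
and immersion inclusion) such that `i` is 2-isomorphic to an equivalence `𝒵 ⟶ 𝒳'` over `(Sch/S)`
followed by the inclusion `𝒳' ⟶ 𝒳`; moreover `𝒳'` is closed (resp. open) as a substack whenever `i`
is a closed (resp. open) immersion. -/
theorem result {S : Scheme.{u}} {𝒵 𝒳 : AlgSt.Cat S}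
    (h𝒵 : AlgSt.IsAlgStack Scheme.fppfPrecoverage 𝒵) (h𝒳 : AlgSt.IsAlgStack Scheme.fppfPrecoverage 𝒳) (i : 𝒵 ⥤ᵇ 𝒳) (hi : AlgSt.IsImm i) :
    ∃ Q : 𝒳.obj → Prop,
      (AlgSt.IsLocClosedSubstack 𝒳 Q Scheme.fppfPrecoverage ∧
        (∃ i' : 𝒵 ⥤ᵇ AlgSt.fullSub 𝒳 Q, FibCat.IsEquivOver i' ∧
          Nonempty (BasedFunctor.comp i' (AlgSt.subIncl 𝒳 Q) ≅ i)) ∧
        (AlgSt.IsClosedImm i → AlgSt.IsClosedSubstack 𝒳 Q Scheme.fppfPrecoverage) ∧
        (AlgSt.IsOpenImm i → AlgSt.IsOpenSubstack 𝒳 Q Scheme.fppfPrecoverage)) ∧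
      ∀ Q' : 𝒳.obj → Prop, AlgSt.IsLocClosedSubstack 𝒳 Q' Scheme.fppfPrecoverage →
        (∃ i' : 𝒵 ⥤ᵇ AlgSt.fullSub 𝒳 Q', FibCat.IsEquivOver i' ∧
          Nonempty (BasedFunctor.comp i' (AlgSt.subIncl 𝒳 Q') ≅ i)) → Q' = Q := by
  have hm := Groth.L24.St.isMono_of_isImm hi
  have := Groth.L24.St.full_of_isMono h𝒵.isStack.1 h𝒳.isStack.1 i hm
  have := Groth.L24.St.faithful_of_rep1 h𝒵.isStack.1 h𝒳.isStack.1 i (Groth.L24.St.repWith_rep1 hm)
  have he := essLift_isEquivOver i h𝒳.isStack.1 h𝒵.isStack.1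
  have hA := Groth.L24.St.isAlgStack_of_equiv he h𝒵
  have hr : ∀ {P : MorphismProperty (AlgSp.Sp S)}, AlgSt.RepByAlgSpWith P i →
      AlgSt.RepByAlgSpWith P (AlgSt.subIncl 𝒳 (essProp i)) := fun h =>
    (Groth.L24.St.repWith_precomp he _).1 h
  refine ⟨essProp i, ⟨⟨essProp_isClosed i, hA, hr hi⟩, ⟨essLift i, he, ⟨Iso.refl _⟩⟩,
    fun h => ⟨essProp_isClosed i, hA, hr h⟩, fun h => ⟨essProp_isClosed i, hA, hr h⟩⟩, ?_⟩
  rintro Q' ⟨hc, -, -⟩ ⟨i', hi', ⟨γ⟩⟩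
  funext ξ
  apply propext
  let γ₀ := (BasedNatTrans.forgetful _ _).mapIso γ
  constructor
  · intro h
    obtain ⟨G, -, -, ⟨j⟩⟩ := Groth.L24.St.exists_inverse hi'
    let η : (AlgSt.fullSub 𝒳 Q').obj := ⟨ξ, h⟩
    let j₀ : i'.obj (G.obj η) ≅ η := ((BasedNatTrans.forgetful _ _).mapIso j).app η
    exact ⟨G.obj η, ⟨(γ₀.app (G.obj η)).symm ≪≫ (ObjectProperty.ι Q').mapIso j₀⟩⟩
  · rintro ⟨w, ⟨e⟩⟩
    exact hc.of_iso (γ₀.app w ≪≫ e) (i'.obj w).property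

end Groth.Agent.S12878
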