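import Groth.Statements.S16868
import Groth.Agent.L09.FieldPt.Basic
import Groth.Agent.L09.Gerbe.CoarseSpace
import Groth.Agent.L09.Gerbe.SheafClasses
import Groth.Agent.L24.St.DiagLft
import Groth.Agent.L24.St.InertiaSep

set_option autoImplicit false
universe u
open CategoryTheory AlgebraicGeometry
open Gerb

set_option backward.isDefEq.respectTransparency false
set_option backward.isDefEq.respectTransparency.types false

open Groth.L09.FieldPt Groth.L09.Gerbe Groth.L24.St Groth.L24.LocQ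

namespace Groth.Agent.S16868

/-- If an algebraic stack is reduced, locally Noetherian and has a single point, then it is a gerbe,
along some morphism, over an algebraic space that is itself reduced, locally Noetherian and has a
single point. -/
theorem result
    (S : Scheme.{u}) (𝒵 : AlgSt.Cat S) (h𝒵 : AlgSt.IsAlgStack Scheme.fppfPrecoverage 𝒵)
    (hred : AlgSt.SmoothLocally (fun T => IsReduced T) 𝒵)
    (hnoeth : AlgSt.SmoothLocally (fun T => IsLocallyNoetherian T) 𝒵)
    (hne : Nonempty (AlgSt.Points 𝒵)) (hsub : Subsingleton (AlgSt.Points 𝒵)) :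
    ∃ (Z : AlgSp.Space S) (π : 𝒵 ⥤ᵇ AlgSt.ofSp Z.obj),
      Gerb.IsGerbeOver (QuotSh.J Scheme.fppfPrecoverage S) π ∧
        AlgSp.EtaleLocally (fun T => IsReduced T) Z.obj ∧ AlgSp.IsLocNoethSp Z.obj ∧
        Nonempty (AlgSp.Points Z.obj) ∧ Subsingleton (AlgSp.Points Z.obj) := by
  obtain ⟨k, _, a, z, hz₁, hzs, hzf⟩ := exists_surjective_flat_fieldPt h𝒵 hred
  have hP := isAlgStack_overCat (Over.mk a)
  have hzp := lfp_of_lft h𝒵 hnoeth hz₁
  have hzF : IsFF z := ⟨locQ_of_repWith_locP Groth.L23.etLocal_flat hP h𝒵 hzf,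
    locQ_of_repWith_locP Groth.L23.etLocal_lfp hP h𝒵 hzp⟩
  have hzS : AlgSt.IsSurjective z := isSurjective_of_repWith hP.isStack.1 h𝒵.isStack.1 hzs
  let b : FibCat.inertia (FibCat.toSelf 𝒵) ⥤ᵇ 𝒵 := FibCat.inertiaToBase (FibCat.toSelf 𝒵)
  have hI := isAlgStack_inertia h𝒵 isAlgStack_selfOver (FibCat.toSelf 𝒵)
  have hfp := isAlgStack_fp hP hI h𝒵 z b
  have hN : AlgSt.SmoothLocally (fun T => IsLocallyNoetherian T) (FibCat.overCat (Over.mk a)) := by
    have : IsLocallyNoetherian (Over.mk a).left := inferInstanceAs (IsLocallyNoetherian (Spec (CommRingCat.of k)))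
    exact smoothLocally_of_chart hP.isStack.1 smoothLocalProp_isLocallyNoetherian (smooth_id _)
      (surjective_ofChart_of_repWith hP.isStack.1 (surjective_id _)) inferInstance
  have hb : IsFF b := isFF_of_fpFst h𝒵 hI hP hzF hzS
    ⟨locQ_flat_to_field hfp _, locQ_lfp_of_noetherian hfp hP hN (locQ_fpFst isSmoothLocalST_lft
      (pBase_locP Groth.L23.etLocal_lft) hI h𝒵 hP z (locQ_of_repWith_locP Groth.L23.etLocal_lft hI h𝒵
        (inertiaToBase_repWith h𝒵 isAlgStack_selfOver (diag_toSelf_lft h𝒵))))⟩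
  have hπ := isGerbeOver_clsFun h𝒵.isStack.1
  let Z : AlgSp.Space S := ⟨_, isAlgSpace_of_gerbe_over_sheaf h𝒵 hπ hb⟩
  let π : 𝒵 ⥤ᵇ AlgSt.ofSp Z.obj := clsFun h𝒵.isStack.1
  have hZ := Groth.L09.Gerbe.isAlgStack_ofSp Z
  have hπF : IsFF π := isFF_of_gerbe h𝒵 hZ hπ
  have hπs : AlgSt.IsSurjective π := isSurjective_of_gerbe h𝒵 hπ
  let y := BasedFunctor.comp z π
  have hyS : AlgSt.IsSurjective y := isSurjective_comp hzS hπs
  have hyr := rep1_overCat hZ y
  have hys := repWith_surjective_of_isSurjective hP.isStack.1 hZ.isStack.1 hyr hyS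
  have hyF : IsFF y := hzF.comp hP h𝒵 hZ hπF
  have hyf := repWith_of_locQ isSmoothLocalST_flat (pBase_locP Groth.L23.etLocal_flat)
    (isLocalOnBase_locP_fppf Groth.L23.etLocal_flat) hP hZ hyr hyF.1
  have hyp := repWith_of_locQ isSmoothLocalST_lfp (pBase_locP Groth.L23.etLocal_lfp)
    (isLocalOnBase_locP_fppf Groth.L23.etLocal_lfp) hP hZ hyr hyF.2
  have hr := reduced_of_flat hZ hys hyf
  have hn := locallyNoetherian_of_lfp hZ hyp hys hyf
  obtain ⟨U, g, hg, hgs⟩ := Z.property.atlas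
  have hU := smooth_spChart Z.property hg
  have hpt := subsingleton_points hZ hys
  refine ⟨Z, π, hπ, ⟨U, g, hg, hgs, hr U _ hU⟩, ⟨U, g, hg, hgs, hn U _ hU⟩,
    (nonempty_points y).map (Equiv.ofBijective _ (ptMap_bijective Z.obj)).symm,
    (Equiv.ofBijective _ (ptMap_bijective Z.obj)).subsingleton⟩

end Groth.Agent.S16868
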