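import Groth.Statements.S3433
import Mathlib.RingTheory.Spectrum.Prime.Topology
import Mathlib.Topology.JacobsonSpace
import Groth.Agent.L00.ArtinTate
-- import your own Groth.Agent.* helpers here

set_option autoImplicit false
universe u
open EGA43

namespace Groth.Agent.S3433

/-- Let A be a Noetherian local ring with maximal ideal m and let Y be the punctured spectrum Spec A ∖
{m}. Then Y is a Jacobson space, and a point p of Y is closed in Y if and only if dim A/p = 1. -/
theorem result (A : Type u) [CommRing A] [IsNoetherianRing A] [IsLocalRing A] :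
    JacobsonSpace ↥({IsLocalRing.closedPoint A}ᶜ : Set (PrimeSpectrum A)) ∧
      ∀ p : ↥({IsLocalRing.closedPoint A}ᶜ : Set (PrimeSpectrum A)),
        IsClosed ({p} : Set ↥({IsLocalRing.closedPoint A}ᶜ : Set (PrimeSpectrum A))) ↔
          ringKrullDim (A ⧸ p.1.asIdeal) = 1 := by
  classical
  let Y : Set (PrimeSpectrum A) := {IsLocalRing.closedPoint A}ᶜ
  have hle : ∀ q : Ideal A, q.IsPrime → q ≤ IsLocalRing.maximalIdeal A := fun q hq => IsLocalRing.le_maximalIdeal hq.ne_top
  have hcl : ∀ p : ↥Y, IsClosed ({p} : Set ↥Y) ↔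
      ∀ q : PrimeSpectrum A, p.1.asIdeal ≤ q.asIdeal → q = p.1 ∨ q = IsLocalRing.closedPoint A := by
    intro p
    constructor
    · intro h q hq
      by_cases hm : q = IsLocalRing.closedPoint A
      · exact Or.inr hm
      · left
        obtain ⟨C, hC, hCp⟩ := isClosed_induced_iff.mp h
        have hpC : p.1 ∈ C := by
          have : p ∈ Subtype.val ⁻¹' C := hCp.symm ▸ rfl
          exact this
        have hqC : q ∈ C := ((PrimeSpectrum.le_iff_specializes p.1 q).mp hq).mem_closed hC hpC
        have : (⟨q, hm⟩ : ↥Y) ∈ ({p} : Set ↥Y) := hCp ▸ hqC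
        exact congrArg Subtype.val (Set.mem_singleton_iff.mp this)
    · intro h
      have : ({p} : Set ↥Y) = Subtype.val ⁻¹' (closure ({p.1} : Set (PrimeSpectrum A))) := by
        ext r
        refine ⟨fun hr => ?_, fun hr => ?_⟩
        · rw [Set.mem_singleton_iff.mp hr]; exact subset_closure rfl
        · rcases h r.1 ((PrimeSpectrum.le_iff_specializes p.1 r.1).mpr (specializes_iff_mem_closure.mpr hr)) with e | e
          · exact Subtype.ext e
          · exact absurd e r.2
      rw [this]
      exact isClosed_closure.preimage continuous_subtype_val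
  refine ⟨jacobsonSpace_iff_locallyClosed.mpr fun s hs hs' => ?_, fun p => (hcl p).trans ?_⟩
  · obtain ⟨z, hz⟩ := hs
    obtain ⟨o, c, ho, hc, rfl⟩ := hs'
    obtain ⟨O, hO, rfl⟩ := isOpen_induced_iff.mp ho
    obtain ⟨C, hC, rfl⟩ := isClosed_induced_iff.mp hc
    have hO' : IsOpen (O ∩ Y) := hO.inter (IsLocalRing.isClosed_singleton_closedPoint A).isOpen_compl
    obtain ⟨_, ⟨_, ⟨f, rfl⟩, rfl⟩, hzf, hfO⟩ :=
      PrimeSpectrum.isBasis_basic_opens.exists_subset_of_mem_open (show z.1 ∈ O ∩ Y from ⟨hz.1, z.2⟩) hO'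
    obtain ⟨r, ⟨hr, hzr, hfr⟩, hrmax⟩ := (wellFounded_gt (α := Ideal A)).has_min
      {r : Ideal A | r.IsPrime ∧ z.1.asIdeal ≤ r ∧ f ∉ r} ⟨_, z.1.2, le_rfl, hzf⟩
    haveI := hr
    have hrO : (⟨r, hr⟩ : PrimeSpectrum A) ∈ O ∩ Y := hfO hfr
    have hmem : ∀ q : Ideal A, q.IsPrime → r ≤ q → q ≠ r → f ∈ q := fun q hq hrq hne => by
      by_contra hf
      exact hrmax q ⟨hq, hzr.trans hrq, hf⟩ (lt_of_le_of_ne hrq (Ne.symm hne))
    have hrC : (⟨r, hr⟩ : PrimeSpectrum A) ∈ C :=
      ((PrimeSpectrum.le_iff_specializes z.1 ⟨r, hr⟩).mp hzr).mem_closed hC hz.2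
    refine ⟨⟨⟨r, hr⟩, hrO.2⟩, ⟨hrO.1, hrC⟩, (hcl _).mpr fun q hq => ?_⟩
    by_cases e : q.asIdeal = r
    · exact Or.inl (PrimeSpectrum.ext e)
    · right
      haveI := q.2
      exact PrimeSpectrum.ext (Groth.L00.ArtinTate.eq_of_le hfr hmem hq e (hle _ q.2))
  · have hpm : p.1.asIdeal ≠ IsLocalRing.maximalIdeal A := fun e => p.2 (PrimeSpectrum.ext e)
    constructor
    · intro h
      refine le_antisymm ?_ ?_
      · haveI : Ring.KrullDimLE 1 (A ⧸ p.1.asIdeal) := Ring.krullDimLE_one_iff.mpr fun I hI => by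
          let π := Ideal.Quotient.mk p.1.asIdeal
          have hpI : p.1.asIdeal ≤ I.comap π := fun x hx => by
            show π x ∈ I
            rw [Ideal.Quotient.eq_zero_iff_mem.mpr hx]; exact I.zero_mem
          rcases h ⟨I.comap π, inferInstance⟩ hpI with e | e
          · left
            have : I = ⊥ := by
              rw [← Ideal.map_comap_of_surjective π Ideal.Quotient.mk_surjective I,
                show I.comap π = p.1.asIdeal from congrArg PrimeSpectrum.asIdeal e, Ideal.map_quotient_self]
            subst this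
            exact ⟨⟨hI, le_rfl⟩, fun _ _ _ => bot_le⟩
          · right
            rw [← Ideal.map_comap_of_surjective π Ideal.Quotient.mk_surjective I]
            refine (Ideal.map_eq_top_or_isMaximal_of_surjective π Ideal.Quotient.mk_surjective ?_).resolve_left ?_
            · rw [show I.comap π = IsLocalRing.maximalIdeal A from congrArg PrimeSpectrum.asIdeal e]
              exact IsLocalRing.maximalIdeal.isMaximal A
            · rw [Ideal.map_comap_of_surjective π Ideal.Quotient.mk_surjective I]; exact hI.ne_top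
        exact Ring.krullDimLE_iff.mp this
      · by_contra hcon
        have h0 : ringKrullDim (A ⧸ p.1.asIdeal) ≤ ((0 : ℕ) : WithBot ℕ∞) := by
          revert hcon
          generalize ringKrullDim (A ⧸ p.1.asIdeal) = d
          cases d with
          | bot => exact fun _ => bot_le
          | coe n =>
            intro hcon
            have hn : n < 1 := WithBot.coe_lt_coe.mp (not_le.mp hcon)
            exact WithBot.coe_le_coe.mpr (ENat.lt_one_iff_eq_zero.mp hn).le
        haveI : Ring.KrullDimLE 0 (A ⧸ p.1.asIdeal) := Ring.krullDimLE_iff.mpr h0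
        have hF : IsField (A ⧸ p.1.asIdeal) := Ring.KrullDimLE.isField_of_isDomain
        exact hpm (IsLocalRing.eq_maximalIdeal (Ideal.Quotient.maximal_of_isField _ hF))
    · intro hd q hq
      by_contra hcon
      push Not at hcon
      haveI : Ring.KrullDimLE 1 (A ⧸ p.1.asIdeal) := Ring.krullDimLE_iff.mpr hd.le
      let π := Ideal.Quotient.mk p.1.asIdeal
      haveI : (q.asIdeal.map π).IsPrime := Ideal.map_isPrime_of_surjective Ideal.Quotient.mk_surjective (by rwa [Ideal.mk_ker])
      have hqc : (q.asIdeal.map π).comap π = q.asIdeal := by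
        rw [Ideal.comap_map_of_surjective _ Ideal.Quotient.mk_surjective]
        exact sup_eq_left.mpr (by
          show RingHom.ker π ≤ q.asIdeal
          rwa [Ideal.mk_ker])
      rcases Ring.krullDimLE_one_iff.mp ‹Ring.KrullDimLE 1 _› (q.asIdeal.map π) inferInstance with hmin | hmax
      · refine hcon.1 (PrimeSpectrum.ext (le_antisymm ?_ hq))
        rw [← hqc]
        refine (Ideal.comap_mono (hmin.2 ⟨Ideal.isPrime_bot, le_rfl⟩ bot_le)).trans ?_
        show RingHom.ker π ≤ _
        rw [Ideal.mk_ker]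
      · refine hcon.2 (PrimeSpectrum.ext ?_)
        haveI := Ideal.comap_isMaximal_of_surjective π Ideal.Quotient.mk_surjective (K := q.asIdeal.map π)
        rw [hqc] at this
        exact IsLocalRing.eq_maximalIdeal this

end Groth.Agent.S3433
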