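import Groth.Statements.S12840
import Groth.Agent.L24.St.Bootstrap
-- import your own Groth.Agent.* helpers here

set_option autoImplicit false
open CategoryTheory AlgebraicGeometry
universe u
open AlgSt

set_option backward.isDefEq.respectTransparency false
set_option backward.isDefEq.respectTransparency.types false

namespace Groth.Agent.S12840

/-- (2) ⇒ (1): a 1-morphism `f : 𝒳 ⟶ 𝒴` of algebraic stacks over `S` which is fully faithful (its
underlying functor is full and faithful) is a monomorphism, i.e. representable by algebraic spaces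
with every base change to a scheme a monomorphism of algebraic spaces. -/
theorem result {S : Scheme.{u}} {𝒳 𝒴 : AlgSt.Cat S}
    (h𝒳 : AlgSt.IsAlgStack Scheme.fppfPrecoverage 𝒳) (h𝒴 : AlgSt.IsAlgStack Scheme.fppfPrecoverage 𝒴)
    (f : 𝒳 ⥤ᵇ 𝒴) [f.toFunctor.Full] [f.toFunctor.Faithful] : AlgSt.IsMono f := by
  intro U y
  obtain ⟨F, e, he⟩ := Groth.L24.St.rep1_of_faithful h𝒳 h𝒴 f U y
  refine ⟨F, e, he, ?_⟩
  obtain ⟨_, _⟩ := Groth.L24.St.eqv_fullFaithful he
  haveI : (FibCat.fpFst y f).toFunctor.Full := ⟨fun {a b} m => by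
    obtain ⟨m2, hm2⟩ := f.toFunctor.map_surjective (a.obj.iso.inv ≫ y.map m ≫ b.obj.iso.hom)
    exact ⟨Groth.L24.St.fpHom m m2 (by rw [hm2, Iso.hom_inv_id_assoc]), rfl⟩⟩
  let Φ := BasedFunctor.comp e (FibCat.fpFst y f)
  haveI : Φ.toFunctor.Full := inferInstanceAs (e.toFunctor ⋙ (FibCat.fpFst y f).toFunctor).Full
  rw [MorphismProperty.monomorphisms.iff]
  apply (sheafToPresheaf _ _).mono_of_mono_map
  haveI : ∀ T, Mono ((AlgSt.spMapOfOver Φ).hom.app T) := fun T => by
    rw [mono_iff_injective]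
    intro x x' h
    let a : (AlgSt.ofSp F.obj).obj := ⟨T.unop, x⟩
    let a' : (AlgSt.ofSp F.obj).obj := ⟨T.unop, x'⟩
    have h' : AlgSt.secHom Φ a = AlgSt.secHom Φ a' := congrArg ULift.down h
    let m : Φ.obj a ⟶ Φ.obj a' := Over.homMk (eqToHom ((Φ.w_obj a).trans (Φ.w_obj a').symm)) (by
      have h₂ := eqToHom (Φ.w_obj a) ≫= h'
      simpa [AlgSt.secHom] using h₂.symm)
    obtain ⟨μ, hμ⟩ := Φ.toFunctor.map_surjective m
    have hw : μ.hom = 𝟙 _ := by
      have h₁ := Functor.congr_hom Φ.w μ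
      change (Φ.map μ).left = _ at h₁
      rw [hμ] at h₁
      simp only [m, Over.homMk_left] at h₁
      change eqToHom _ = _ ≫ μ.hom ≫ _ at h₁
      rw [← cancel_epi (eqToHom (Φ.w_obj a)), ← cancel_mono (eqToHom (Φ.w_obj a').symm), Category.assoc, ← h₁]
      simp
    have h₃ := μ.map_sec
    rw [hw] at h₃
    change F.obj.obj.map (𝟙 _) x' = x at h₃
    rw [F.obj.obj.map_id] at h₃
    exact h₃.symm
  exact @NatTrans.mono_of_mono_app _ _ _ _ _ _ _ this

end Groth.Agent.S12840
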