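import Groth.Statements.S16807
import Groth.Agent.L09.FieldPt.Basic
import Groth.Agent.L09.Gerbe.LocSurj
import Groth.Agent.L09.StkLift
import Groth.Agent.L23.MonoField
import Groth.Agent.L24.St.Fibrewise
import Groth.Agent.L24.St.MonoQcStack

set_option autoImplicit false
universe u
open CategoryTheory AlgebraicGeometry
open Gerb

set_option backward.isDefEq.respectTransparency false
set_option backward.isDefEq.respectTransparency.types false

open Groth.L09.FieldPt Groth.L24.St Groth.L24.LocQ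

namespace Groth.Agent.S16807

/-- Let 𝒵' → 𝒵 be a monomorphism of algebraic stacks and suppose 𝒵 receives a locally finitely
presented, surjective, flat morphism from the spectrum of a field. Then either 𝒵' is empty (has no
points) or 𝒵' → 𝒵 is an equivalence. -/
theorem result
    (S : Scheme.{u}) (𝒵' 𝒵 : AlgSt.Cat S) (h𝒵' : AlgSt.IsAlgStack Scheme.fppfPrecoverage 𝒵')
    (h𝒵 : AlgSt.IsAlgStack Scheme.fppfPrecoverage 𝒵) (f : 𝒵' ⥤ᵇ 𝒵) (hf : AlgSt.IsMono f)
    (k : Type u) [Field k] (a : Spec (CommRingCat.of k) ⟶ S)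
    (z : FibCat.overCat (Over.mk a) ⥤ᵇ 𝒵)
    (hzp : AlgSt.RepByAlgSpWith (AlgSp.LocP @LocallyOfFinitePresentation) z)
    (hzs : AlgSt.RepByAlgSpWith AlgSp.IsSurjectiveMor z) (hzf : AlgSt.RepByAlgSpWith (AlgSp.LocP @Flat) z) :
    IsEmpty (AlgSt.Points 𝒵') ∨ FibCat.IsEquivOver f := by
  refine (isEmpty_or_nonempty (AlgSt.Points 𝒵')).imp id fun ⟨p⟩ => ?_
  have hP := isAlgStack_overCat (Over.mk a)
  have hzS : AlgSt.IsSurjective z := isSurjective_of_repWith hP.isStack.1 h𝒵.isStack.1 hzs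
  obtain ⟨F, e, he, hν⟩ := hf (Over.mk a) z
  obtain ⟨t, ht⟩ := hzS (AlgSt.Points.map f p)
  obtain ⟨w, -, -⟩ := exists_points_fp h𝒵'.isStack.1 h𝒵.isStack.1 hP.isStack.1 f z t p ht
  obtain ⟨v, -⟩ := (bijective_map_of_isEquivOver he).2 w
  obtain ⟨v', -⟩ := (ptMap_bijective F.obj).2 v
  have : Mono (AlgSt.spMapOfOver (BasedFunctor.comp e (FibCat.fpFst z f))) := hν
  obtain h0 | h1 := Groth.L23.isEmpty_or_isIso_of_mono_to_field a F.property
    (AlgSt.spMapOfOver (BasedFunctor.comp e (FibCat.fpFst z f)))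
  · exact (h0.false v').elim
  obtain ⟨y, ⟨i⟩⟩ := exists_lift_of_section e (𝟙 (Over.mk a))
    (inv (AlgSt.spMapOfOver (BasedFunctor.comp e (FibCat.fpFst z f))))
    (by rw [IsIso.inv_hom_id, CategoryTheory.Functor.map_id])
  have hid : AlgSt.IsSurjective (AlgSt.overMap (𝟙 (Over.mk a))) := fun q => by
    obtain ⟨t, rfl⟩ := (overPtEquiv (Over.mk a)).symm.surjective q
    exact ⟨ptOver t, map_overMap_ptOver _ _⟩
  have hl : Gerb.LocSurjObj (AlgSp.J S) (BasedFunctor.comp y f) := by
    refine Groth.L09.Gerbe.locSurjObj_of_flat_lfp hP h𝒵 ?_ ?_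
      (isSurjective_congr i.symm (isSurjective_comp hid hzS))
    · exact locQ_of_repWith_locP Groth.L23.etLocal_flat hP h𝒵
        ((repWith_congr i).2 (repWith_comp_locP Groth.L23.etLocal_flat hP.isStack.1 hP.isStack.1
          (repWith_mono (fun _ _ _ _ h => Groth.L23.locP_of_repWith Groth.L23.etLocal_flat h)
            (repWith_overMap (R := @Flat) (show Flat (𝟙 (Over.mk a).left) from inferInstance))) hzf))
    · exact locQ_of_repWith_locP Groth.L23.etLocal_lfp hP h𝒵
        ((repWith_congr i).2 (repWith_comp_locP Groth.L23.etLocal_lfp hP.isStack.1 hP.isStack.1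
          (repWith_mono (fun _ _ _ _ h => Groth.L23.locP_of_repWith Groth.L23.etLocal_lfp h)
            (repWith_overMap (R := @LocallyOfFinitePresentation)
              (show LocallyOfFinitePresentation (𝟙 (Over.mk a).left) from inferInstance))) hzp))
  have := full_of_isMono h𝒵'.isStack.1 h𝒵.isStack.1 f hf
  have := faithful_of_rep1 h𝒵'.isStack.1 h𝒵.isStack.1 f (repWith_rep1 hf)
  refine Groth.L09.Stk.isEquivOver_of_locally (AlgSp.J S) h𝒵'.isStack h𝒵.isStack f fun η => ?_
  obtain ⟨R, hR, h⟩ := hl η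
  exact ⟨R, hR, fun V g hg => (h g hg).imp' y.obj fun _ h => h⟩

end Groth.Agent.S16807
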