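import Groth.Statements.S3081
import Groth.Prelude.Def_SGA4a
import Groth.Agent.L09.ShfRel
import Groth.Agent.L09.CoprodTopos
import Mathlib.CategoryTheory.Sites.Canonical
import Mathlib.CategoryTheory.Limits.Shapes.Pullback.HasPullback
import Mathlib.CategoryTheory.Limits.Preserves.Shapes.Products

set_option autoImplicit false
universe u
open CategoryTheory
open SGA4

namespace Groth.Agent.S3081
open CategoryTheory CategoryTheory.Limits Opposite

open CategoryTheory.Limits in
/-- c): in the category of sheaves of u-small sets on a u-small site, every u-small family has a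
coproduct which is disjoint and stable under base change, and every equivalence relation is
effective with universally effective-epimorphic quotient map. -/
theorem result {C : Type u} [SmallCategory C] (J : GrothendieckTopology C) :
    SGA4.HasDisjointUniversalCoproducts.{u + 1, u} (Sheaf J (Type u)) ∧
    ∀ (R A : Sheaf J (Type u)) (p₁ p₂ : R ⟶ A), SGA4.IsEquivRel p₁ p₂ → SGA4.IsEffectiveUniversalEquivRel p₁ p₂ := by
  refine ⟨fun ι X => Groth.L09.CoprodTopos.exists_disjointUniversal X, fun R A p₁ p₂ h => ?_⟩
  choose r hr₁ hr₂ using fun T (a : T ⟶ A) => (h T).2.refl a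
  obtain ⟨sy, hs₁, hs₂⟩ := (h R).2.symm (x := p₁) (y := p₂) ⟨𝟙 R, Category.id_comp _, Category.id_comp _⟩
  obtain ⟨t, ht₁, ht₂⟩ := (h (pullback p₂ p₁)).2.trans (x := pullback.fst p₂ p₁ ≫ p₁) (y := pullback.fst p₂ p₁ ≫ p₂)
    (z := pullback.snd p₂ p₁ ≫ p₂) ⟨_, rfl, rfl⟩ ⟨_, pullback.condition.symm, rfl⟩
  let e : EquivalenceRelation p₁ p₂ :=
    { right_cancellation := fun T f g e₁ e₂ => (h T).1 (Prod.ext e₁ e₂)
      r := r A (𝟙 A)
      reflexivity₁ := hr₁ A _
      reflexivity₂ := hr₂ A _
      s := sy
      symmetry₁ := hs₁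
      symmetry₂ := hs₂
      c := PullbackCone.mk (pullback.fst p₂ p₁) (pullback.snd p₂ p₁) pullback.condition
      isLimit := pullbackIsPullback _ _
      t := t
      transitivity₁ := ht₁
      transitivity₂ := ht₂ }
  let q := Groth.L09.ShfRel.shfUEER e
  exact ⟨q.B, q.π, q.isKernelPair, q.isPushout, fun B' g =>
    Groth.L09.UEffEpi.effectiveEpi (Groth.L09.UEffEpi.pullback_snd q.universally_effectiveEpi_π g)⟩

end Groth.Agent.S3081
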