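import Groth.Statements.S3082
import Groth.Agent.L09.LanInd
import Groth.Prelude.Def_SGA4a
import Mathlib.CategoryTheory.Subobject.Basic
import Mathlib.CategoryTheory.Limits.Shapes.Diagonal
import Mathlib.CategoryTheory.Preadditive.Injective.Basic
import Mathlib.CategoryTheory.Sites.LocallyBijective
import Mathlib.CategoryTheory.Sites.Limits

set_option autoImplicit false
universe u
open CategoryTheory
open SGA4

namespace Groth.Agent.S3082
open CategoryTheory Category Functor Limits Opposite

/-- Let (C, J) be a small site and G a set of objects of C such that each object of C has a covering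
family whose members all lie in G. Then the sheafifications of the presheaves represented by the
members of G form a detecting family in the category Sh(C, J) of set-valued sheaves on (C, J): any
morphism of sheaves that is bijective on sections over each member of G is an isomorphism. -/
theorem result {C : Type u} [SmallCategory C] (J : GrothendieckTopology C) (G : Set C)
    (hG : ∀ X : C, ∃ (ι : Type u) (Y : ι → C) (f : ∀ i, Y i ⟶ X), Sieve.ofArrows Y f ∈ J X ∧ ∀ i, Y i ∈ G) :
    (ObjectProperty.ofObj fun X : G => (presheafToSheaf J (Type u)).obj (yoneda.obj (X : C))).IsDetecting := by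
  intro A B f hf
  let e := fun (X : C) (F : Sheaf J (Type u)) =>
    ((sheafificationAdjunction J (Type u)).homEquiv (yoneda.obj X) F).trans yonedaEquiv
  have hbij : ∀ X ∈ G, Function.Bijective (f.hom.app (op X)) := by
    intro X hX
    have hnat : ∀ h, e X B (h ≫ f) = f.hom.app (op X) (e X A h) := fun h =>
      congrArg yonedaEquiv ((sheafificationAdjunction J (Type u)).homEquiv_naturality_right h f)
    refine (Function.bijective_iff_existsUnique _).mpr fun y => ?_
    obtain ⟨h, hh, hu⟩ := hf _ ⟨(⟨X, hX⟩ : G)⟩ ((e X B).symm y)
    refine ⟨e X A h, ?_, fun a ha => ?_⟩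
    · show f.hom.app (op X) (e X A h) = y
      rw [← hnat h, hh, Equiv.apply_symm_apply]
    · rw [← hu ((e X A).symm a) ((e X B).injective (by rw [hnat, Equiv.apply_symm_apply, Equiv.apply_symm_apply]; exact ha)), Equiv.apply_symm_apply]
  have hW : J.W f.hom := by
    rw [J.W_iff_isLocallyBijective]
    refine ⟨⟨fun {U} a b hab => ?_⟩, ⟨fun {U} s => ?_⟩⟩
    · induction U with
      | op U =>
        obtain ⟨ι, Y, g, hcov, hY⟩ := hG U
        refine J.superset_covering ?_ hcov
        rintro W h hh
        rw [Sieve.mem_ofArrows_iff] at hh
        obtain ⟨i, k, rfl⟩ := hh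
        show A.obj.map (k ≫ g i).op a = A.obj.map (k ≫ g i).op b
        rw [op_comp, FunctorToTypes.map_comp_apply, FunctorToTypes.map_comp_apply]
        refine congrArg _ ((hbij _ (hY i)).1 ?_)
        exact (NatTrans.naturality_apply f.hom (g i).op a).trans ((congrArg _ hab).trans (NatTrans.naturality_apply f.hom (g i).op b).symm)
    · obtain ⟨ι, Y, g, hcov, hY⟩ := hG U
      refine J.superset_covering ?_ hcov
      rintro W h hh
      rw [Sieve.mem_ofArrows_iff] at hh
      obtain ⟨i, k, rfl⟩ := hh
      obtain ⟨t, ht⟩ := (hbij _ (hY i)).2 (B.obj.map (g i).op s)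
      refine ⟨A.obj.map k.op t, ?_⟩
      rw [NatTrans.naturality_apply, ht, op_comp, FunctorToTypes.map_comp_apply]
  rw [J.W_iff] at hW
  have hnat := (sheafificationAdjunction J (Type u)).counit.naturality f
  have : IsIso ((sheafificationAdjunction J (Type u)).counit.app A ≫ f) := by
    rw [← show _ = (sheafificationAdjunction J (Type u)).counit.app A ≫ f from hnat]
    have : IsIso ((sheafToPresheaf J (Type u) ⋙ presheafToSheaf J (Type u)).map f) := hW
    infer_instance
  exact IsIso.of_isIso_comp_left ((sheafificationAdjunction J (Type u)).counit.app A) f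

end Groth.Agent.S3082
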