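import Groth.Statements.S10293
import Groth.Agent.L23.AffineMor
import Groth.Agent.L23.Cover
import Groth.Agent.L23.QFDescent

set_option autoImplicit false
set_option backward.isDefEq.respectTransparency.types false
universe u
open CategoryTheory CategoryTheory.Limits AlgebraicGeometry
open AlgSp

namespace Groth.Agent.S10293
open Groth.L23

/-- (3) ⇒ (1): being finite locally free descends along a surjective etale base change from a scheme. -/
theorem result {S : Scheme.{u}} {X Y : AlgSp.Space S} (f : X ⟶ Y) (V : Over S)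
    (p : (AlgSp.yon S).obj V ⟶ Y.obj) (hp : AlgSp.RepWith @Etale p) (hps : AlgSp.RepWith @Surjective p)
    {P : AlgSp.Sp S} (fst : P ⟶ X.obj) (snd : P ⟶ (AlgSp.yon S).obj V) (sq : IsPullback fst snd f.hom p)
    (h : AlgSp.IsFinLocFreeMor snd) : AlgSp.IsFinLocFreeMor f.hom := by
  have := isLocallySurjective_of_etale p hp hps
  have hA : IsAffineMor f.hom :=
    isAffineMor_of_cover hp hps sq (isAffineMor_iff.2
      (repWith_mono (fun φ ⟨h₁, _, _⟩ => have := h₁; inferInstanceAs (IsAffineHom φ)) h))
  have h1 : MorphismProperty.IsLocalAtTarget @IsFinite Scheme.fppfPrecoverage.{u} :=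
    isLocalAtTarget_fppf _
  have h2 : MorphismProperty.IsLocalAtTarget @Flat Scheme.fppfPrecoverage.{u} :=
    isLocalAtTarget_fppf _
  have h3 : MorphismProperty.IsLocalAtTarget @LocallyOfFinitePresentation Scheme.fppfPrecoverage.{u} :=
    isLocalAtTarget_fppf _
  have hr := (isAffineMor_iff.1 hA).1
  have a := repWith_of_locallySurjective hr sq (repWith_mono (Q := @IsFinite) (fun φ hφ => hφ.1) h)
  have b := repWith_of_locallySurjective hr sq (repWith_mono (Q := @Flat) (fun φ hφ => hφ.2.1) h)
  have c := repWith_of_locallySurjective hr sq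
    (repWith_mono (Q := @LocallyOfFinitePresentation) (fun φ hφ => hφ.2.2) h)
  exact repWith_mono (fun φ hφ => ⟨hφ.1.1, hφ.1.2, hφ.2⟩)
    (repWith_inf_iff.2 ⟨repWith_inf_iff.2 ⟨a, b⟩, c⟩)

end Groth.Agent.S10293
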