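import Groth.Statements.S8933
import Groth.Agent.L04.RGamma.Derived

set_option autoImplicit false
universe u
open CategoryTheory CategoryTheory.Limits
attribute [local instance] HasDerivedCategory.standard
open LocCoh

namespace Groth.Agent.S8933

/-- For a ring A, a finitely generated ideal I and a complex K of A-modules such that multiplication by
some f ∈ I is bijective on every term of K, the object RΓ_I(K) of D(A) is zero; here RΓ_I is the
right derived functor of the I-power torsion functor, assumed to exist. -/
theorem result (A : Type u) [CommRing A] (I : Ideal A) (hI : I.FG) [DRing.HasRgammaI I] (K : CochainComplex (ModuleCat.{u} A) ℤ) (f : A) (hf : f ∈ I) (hK : ∀ n : ℤ, Function.Bijective (fun x : K.X n => f • x)) : IsZero ((DRing.RgammaI I).obj (DerivedCategory.Q.obj K)) := by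

    open CategoryTheory CategoryTheory.Limits Groth.L04.RGamma in
    let R := Groth.L10.KInjRes.res K
    let r := Groth.L10.KInjRes.resι K
    haveI := isIso_toR_of_isKInjective I R
    let φ : ∀ X : DRing.Cx A, X ⟶ X := fun X => f • 𝟙 X
    haveI : IsIso (φ K) := by
      haveI : ∀ n, IsIso ((φ K).f n) := fun n => (ConcreteCategory.isIso_iff_bijective _).2 (hK n)
      exact HomologicalComplex.Hom.isIso_of_components _
    haveI : QuasiIso (φ R) := by
      have h : r ≫ φ R = φ K ≫ r := by simp [φ]; erw [Category.comp_id]
      haveI : QuasiIso (r ≫ φ R) := h ▸ inferInstance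
      exact quasiIso_of_comp_left r (φ R)
    haveI := isIso_qq_map (φ R)
    haveI : IsIso ((DRing.gammaIKh I).map ((HomotopyCategory.quotient _ _).map (φ R))) := by
      have hu := toR_naturality I (φ R)
      show IsIso (qq.map ((gammaCx I).map (φ R)))
      haveI : IsIso (qq.map ((gammaCx I).map (φ R)) ≫ toR I R) := by rw [hu]; infer_instance
      exact IsIso.of_isIso_comp_right _ (toR I R)
    haveI : IsIso (qq.map ((gammaCx I).map (φ R))) := this
    haveI := quasiIso_of_isIso_qq_map ((gammaCx I).map (φ R))
    have hz : ∀ n, IsZero (((gammaCx I).obj R).homology n) := fun n => by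
      have hb := Groth.L28.HomElt.bijective_homologyMap_of_quasiIso ((gammaCx I).map (φ R)) n
      have hφ : ∀ x, HomologicalComplex.homologyMap ((gammaCx I).map (φ R)) n x = f • x := fun x => by
        obtain ⟨z, rfl⟩ := Groth.L28.HomElt.homologyπ_surjective _ _ x
        rw [Groth.L28.HomElt.homologyMap_π, ← map_smul]
        refine congrArg _ (Groth.L28.HomElt.iCycles_injective _ _ ?_)
        rw [Groth.L28.HomElt.iCycles_cyclesMap, map_smul]
        rfl
      rw [ModuleCat.isZero_iff_subsingleton]
      refine ⟨fun x y => sub_eq_zero.1 ?_⟩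
      obtain ⟨m, hm⟩ := isPowerTorsion_homology_gammaCx I R n (x - y)
      have h := hm (f ^ m) (Ideal.pow_mem_pow hf m)
      clear hm
      induction m with
      | zero => rwa [pow_zero, one_smul] at h
      | succ m ih =>
        refine ih (hb.1 ?_)
        rw [map_zero, hφ, ← mul_smul, ← pow_succ']
        exact h
    have hR : IsZero (qq.obj ((gammaCx I).obj R)) := by
      have h0 : IsIso (qq.map (0 : (gammaCx I).obj R ⟶ (gammaCx I).obj R)) := by
        haveI : QuasiIso (0 : (gammaCx I).obj R ⟶ (gammaCx I).obj R) :=
          ⟨fun n => (quasiIsoAt_iff_isIso_homologyMap _ n).2 ⟨0, (hz n).eq_of_src _ _, (hz n).eq_of_src _ _⟩⟩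
        exact isIso_qq_map _
      rw [Functor.map_zero] at h0
      exact (IsZero.iff_id_eq_zero _).2 ((@IsIso.hom_inv_id _ _ _ _ _ h0).symm.trans zero_comp)
    exact hR.of_iso ((DRing.RgammaI I).mapIso (((DerivedCategory.quotientCompQhIso _).app K).symm ≪≫
      (haveI := isIso_qq_map r; asIso (qq.map r))) ≪≫ (asIso (toR I R)).symm)

end Groth.Agent.S8933
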