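import Groth.Statements.S6587
import Mathlib.CategoryTheory.Triangulated.Pretriangulated
-- import your own Groth.Agent.* helpers here

set_option autoImplicit false
universe v u
open CategoryTheory CategoryTheory.Limits Opposite
open CohDer

namespace Groth.Agent.S6587

open CategoryTheory.Pretriangulated in
/-- Let D be a triangulated category and let X_n → Y_n → Z_n → X_n⟦1⟧ be an inverse system of
distinguished triangles of D indexed by ℕ (levelwise maps f, g, h of inverse systems, each level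
distinguished). If the inverse system (Z_n) is pro-zero, then the levelwise map f : (X_n) → (Y_n) is
a pro-isomorphism. -/
theorem result {D : Type u} [Category.{v} D] [Preadditive D] [HasZeroObject D] [HasShift D ℤ]
    [∀ n : ℤ, (shiftFunctor D n).Additive] [Pretriangulated D] [IsTriangulated D]
    (X Y Z : ARSys.PS D) (f : X ⟶ Y) (g : Y ⟶ Z) (h : Z ⟶ X ⋙ shiftFunctor D (1 : ℤ))
    (hT : ∀ n : ℕ, Triangle.mk (f.app (op n)) (g.app (op n)) (h.app (op n)) ∈ distinguishedTriangles)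
    (hZ : DerCA.IsProZero Z) :
    DerCA.IsProIso f := by
  intro n
  obtain ⟨m, hm, hzm⟩ := hZ n
  obtain ⟨p, hp, hzp⟩ := hZ m
  obtain ⟨b0, hb0⟩ := Triangle.coyoneda_exact₂ _ (hT m) (ARSys.tr Y hp) (by
    show ARSys.tr Y hp ≫ g.app (op m) = 0
    rw [g.naturality]
    exact (congrArg (g.app (op p) ≫ ·) hzp).trans comp_zero)
  change Y.obj (op p) ⟶ X.obj (op m) at b0
  change ARSys.tr Y hp = b0 ≫ f.app (op m) at hb0
  let d : X.obj (op p) ⟶ X.obj (op m) := f.app (op p) ≫ b0 - ARSys.tr X hp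
  have hd : d ≫ f.app (op m) = 0 := by
    simp only [d, Preadditive.sub_comp, Category.assoc, ← hb0]
    rw [sub_eq_zero]
    exact (f.naturality _).symm
  obtain ⟨e, he⟩ := Triangle.coyoneda_exact₁ _ (hT m) (d⟦(1 : ℤ)⟧') (by
    show d⟦(1 : ℤ)⟧' ≫ (f.app (op m))⟦(1 : ℤ)⟧' = 0
    rw [← Functor.map_comp, hd, Functor.map_zero])
  change (X.obj (op p))⟦(1 : ℤ)⟧ ⟶ Z.obj (op m) at e
  change d⟦(1 : ℤ)⟧' = e ≫ h.app (op m) at he
  have hd' : d ≫ ARSys.tr X hm = 0 := by
    refine (shiftFunctor D (1 : ℤ)).map_injective ?_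
    have hn : ARSys.tr Z hm ≫ h.app (op n) = h.app (op m) ≫ (ARSys.tr X hm)⟦(1 : ℤ)⟧' :=
      h.naturality (homOfLE hm).op
    rw [Functor.map_comp, he, Category.assoc, ← hn, hzm, zero_comp, comp_zero, Functor.map_zero]
  have htX : ARSys.tr X hp ≫ ARSys.tr X hm = ARSys.tr X (hm.trans hp) := (X.map_comp _ _).symm
  have htY : ARSys.tr Y hp ≫ ARSys.tr Y hm = ARSys.tr Y (hm.trans hp) := (Y.map_comp _ _).symm
  refine ⟨p, hm.trans hp, b0 ≫ ARSys.tr X hm, ?_, ?_⟩
  · rw [← htX, ← sub_eq_zero, ← Category.assoc, ← Preadditive.sub_comp]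
    exact hd'
  · have hn : ARSys.tr X hm ≫ f.app (op n) = f.app (op m) ≫ ARSys.tr Y hm :=
      f.naturality (homOfLE hm).op
    rw [Category.assoc, hn, ← Category.assoc, ← hb0, htY]

end Groth.Agent.S6587
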