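import Groth.Statements.S1830
import Groth.Agent.L07.SyntLCI
import Groth.Agent.L07.SyntCM
import Groth.Agent.L21.GorensteinLCI
-- import your own Groth.Agent.* helpers here

set_option autoImplicit false
universe u
open CategoryTheory
open scoped TensorProduct
attribute [local instance] HasDerivedCategory.standard
open Goren

namespace Groth.Agent.S1830

/-- A flat local complete intersection ring map has Gorenstein fibres: let A → B be a flat ring
homomorphism which is a local complete intersection. Then for every prime p of A the fibre ring B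
⊗_A κ(p) is a Gorenstein ring. (This is the affine form of the statement that a syntomic morphism is
a Gorenstein morphism.) -/
theorem result (A B : Type u) [CommRing A] [CommRing B] [Algebra A B] [Module.Flat A B] (hl : LCI.IsLCI A B) (p : PrimeSpectrum A) : LocCoh.IsGorensteinRing (B ⊗[A] p.asIdeal.ResidueField) := by
  have hs := Groth.L07.SyntLCI.isSyntomic_of_flat_isLCI hl
  obtain ⟨hft, h⟩ := Groth.L07.Synt.isLCIOver_iff.mp (hs.2.2 p)
  haveI := hft
  haveI : IsNoetherianRing (p.asIdeal.Fiber B) := Algebra.FiniteType.isNoetherianRing p.asIdeal.ResidueField _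
  have key : ∀ (Q : Ideal (p.asIdeal.Fiber B)) [Q.IsPrime], LocCoh.IsGorensteinLocalRing (Localization.AtPrime Q) := by
    intro Q hQ
    obtain ⟨R, _, _, _, -, rs, hrs, hreg, ⟨e⟩⟩ :=
      (Groth.L07.Synt.isCIOver_atPrime_iff (k := p.asIdeal.ResidueField) Q).mpr (h ⟨Q, hQ⟩)
    haveI : LocCoh.IsGorensteinLocalRing R := Groth.Agent.S0342.result R
    exact Groth.L21.GorensteinAscend.isGorensteinLocalRing_of_ringEquiv e.symm.toRingEquiv
      (Groth.L21.GorensteinLCI.gorenstein_quot_list R rs hrs hreg.toIsWeaklyRegular)
  let e : p.asIdeal.Fiber B ≃+* B ⊗[A] p.asIdeal.ResidueField :=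
    (Algebra.TensorProduct.comm A p.asIdeal.ResidueField B).toRingEquiv
  haveI : IsNoetherianRing (B ⊗[A] p.asIdeal.ResidueField) := isNoetherianRing_of_ringEquiv _ e
  exact { isGorensteinLocalRing_localization := Groth.L21.GorensteinFieldExt.locGor_of_ringEquiv e key }

end Groth.Agent.S1830
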