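import Groth.Statements.S9429
import Groth.Agent.L07.SyntFieldExtra
import Groth.Agent.L07.CIFibre
import Groth.Agent.L03.GeomRegular

set_option autoImplicit false
set_option linter.style.haveILetI false
universe u
open Synt

namespace Groth.Agent.S9429

/-- A smooth algebra over a field k is a local complete intersection over k (finite type, and locally on
Spec S by principal opens a global complete intersection). -/
theorem result (k : Type u) [Field k] (S : Type u) [CommRing S] [Algebra k S]
    [Algebra.Smooth k S] : Synt.IsLCIOver k S := by
  classical
  haveI := Groth.L03.GeomRegular.isRegularRing_of_smooth k S
  exact Groth.L07.Synt.isLCIOver_iff.mpr ⟨inferInstance, fun P => by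
    haveI := IsRegularRing.isRegularLocalRing_localization (R := S) P.asIdeal
    exact Groth.L07.CIFibre.isCompleteIntersection_of_regular _⟩

end Groth.Agent.S9429
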