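import Groth.Statements.S11177
import Groth.Agent.L29.Dual.GorensteinFlatBC
import Groth.Agent.S1830
import Groth.Agent.S9429
import Groth.Agent.L07.SyntLCI

set_option autoImplicit false
set_option backward.isDefEq.respectTransparency false
universe u
open CategoryTheory
attribute [local instance] HasDerivedCategory.standard
open Dual
open scoped TensorProduct

namespace Groth.Agent.S11177

/-- Let A be a Noetherian ring, A → B a smooth ring homomorphism (formally smooth and of finite
presentation), and ω a dualizing complex for A. Assuming the derived base change functor D(A) → D(B)
(the total left derived functor of extension of scalars) exists, the derived base change ω ⊗^L_A B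
is a dualizing complex for B. (The published statement is for a smooth morphism of finite type to a
Noetherian scheme and concludes that the pull-back of a dualizing complex twisted by the top
relative differentials, shifted by the relative dimension, is dualizing; removing that invertible
twist does not affect being dualizing.) -/
theorem result (A B : Type u) [CommRing A] [CommRing B] [Algebra A B] [IsNoetherianRing A] [Algebra.Smooth A B] [DRing.HasLBaseChange (algebraMap A B)] (ω : Dual.D A) (hω : Dual.IsDualizing A ω) : Dual.IsDualizing B ((DRing.LBaseChange (algebraMap A B)).obj ω) := by
  haveI : Module.Flat A B := inferInstance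
  haveI : IsNoetherianRing B := Algebra.FiniteType.isNoetherianRing A B
  have hl : LCI.IsLCI A B := Groth.L07.SyntLCI.isLCI_of_isSyntomic
    ⟨inferInstance, inferInstance, fun p => Groth.Agent.S9429.result p.asIdeal.ResidueField (p.asIdeal.Fiber B)⟩
  refine Groth.L29.HomD.isDualizing_of_iso ((Groth.L29.FlatBC.lbcIso (A := A) (B := B)).app ω).symm
    (Groth.L29.GorBC.isDualizing_L_of_gorenstein_fibres (fun p hp => ?_) hω)
  haveI : IsNoetherianRing (p.ResidueField ⊗[A] B) := Algebra.FiniteType.isNoetherianRing p.ResidueField _
  haveI : IsNoetherianRing (B ⊗[A] p.ResidueField) :=
    isNoetherianRing_of_ringEquiv _ (Algebra.TensorProduct.comm A p.ResidueField B).toRingEquiv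
  refine Groth.L21.GorensteinFieldExt.locGor_of_ringEquiv (A := B ⊗[A] p.ResidueField)
    (Algebra.TensorProduct.comm A B p.ResidueField).toRingEquiv fun P _ => ?_
  exact (Groth.Agent.S1830.result A B hl ⟨p, hp⟩).isGorensteinLocalRing_localization P

end Groth.Agent.S11177
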