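import Groth.Statements.S1782
import Groth.Agent.L29.Dual.Coind
import Groth.Agent.S11177
import Groth.Agent.L29.Dual.SurjRes

set_option autoImplicit false
set_option backward.isDefEq.respectTransparency false
universe u
open CategoryTheory
attribute [local instance] HasDerivedCategory.standard
open Dual2

namespace Groth.Agent.S1782

/-- Let R → A be a ring map of finite type between Noetherian rings, where φ^!(K) is formed from a
presentation ψ : R[x_1, …, x_n] → A as RHom_P(A, K ⊗^L_R P)[n], assuming the derived base change to
P exists and taking for RHom_P(A, −) a right adjoint of restriction of scalars along ψ. If ω is a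
dualizing complex for R then φ^!(ω) is a dualizing complex for A. -/
theorem result (R A : Type u) [CommRing R] [CommRing A] [IsNoetherianRing R] [IsNoetherianRing A] [Algebra R A] (n : ℕ) (ψ : MvPolynomial (Fin n) R →ₐ[R] A) (hψ : Function.Surjective ψ) [DRing.HasLBaseChange (algebraMap R (MvPolynomial (Fin n) R))] (Rψ : Dual.D (MvPolynomial (Fin n) R) ⥤ Dual.D A) (adj : DRing.restrictD ψ.toRingHom ⊣ Rψ) (ω : Dual.D R) (hω : Dual.IsDualizing R ω) : Dual.IsDualizing A (Dual2.shriekVia n Rψ ω) := by
  let P := MvPolynomial (Fin n) R
  haveI : Algebra.Smooth R P := { }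
  have h1 := Groth.Agent.S11177.result R P ω hω
  refine Groth.L29.HomD.isDualizing_shift (Groth.L29.RestrictAdj.isDualizing_rightAdjoint _ adj ?_ h1) n
  exact Groth.L29.RestrictAdj.finite_ringRes _ hψ

end Groth.Agent.S1782
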