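import Groth.Statements.S1783
import Groth.Agent.L29.Dual.DualBC
import Groth.Agent.L29.Dual.SurjRes

set_option autoImplicit false
set_option backward.isDefEq.respectTransparency false
universe u
open CategoryTheory
attribute [local instance] HasDerivedCategory.standard
open Dual2

namespace Groth.Agent.S1783

/-- Let R → A be a ring map of finite type between Noetherian rings, where φ^!(K) is formed from a
presentation ψ : R[x_1, …, x_n] → A as RHom_P(A, K ⊗^L_R P)[n], assuming the derived base change to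
P exists and taking for RHom_P(A, −) a right adjoint of restriction of scalars along ψ. If K in D(R)
has vanishing cohomology below some degree, then so does φ^!(K); if moreover all cohomology modules
of K are finite R-modules, then all cohomology modules of φ^!(K) are finite A-modules. -/
theorem result (R A : Type u) [CommRing R] [CommRing A] [IsNoetherianRing R] [IsNoetherianRing A] [Algebra R A] (n : ℕ) (ψ : MvPolynomial (Fin n) R →ₐ[R] A) (hψ : Function.Surjective ψ) [DRing.HasLBaseChange (algebraMap R (MvPolynomial (Fin n) R))] (Rψ : Dual.D (MvPolynomial (Fin n) R) ⥤ Dual.D A) (adj : DRing.restrictD ψ.toRingHom ⊣ Rψ) (K : Dual.D R) (a : ℤ) (hKa : ∀ i : ℤ, i < a → Subsingleton (Dual.HD R K i)) : (∃ b : ℤ, ∀ i : ℤ, i < b → Subsingleton (Dual.HD A (Dual2.shriekVia n Rψ K) i)) ∧ ((∀ i : ℤ, Module.Finite R (Dual.HD R K i)) → ∀ i : ℤ, Module.Finite A (Dual.HD A (Dual2.shriekVia n Rψ K) i)) := by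
  open Groth.L29 Groth.L29.HomD in
  let P := MvPolynomial (Fin n) R
  haveI : Module.Flat R P := Module.Flat.of_free
  haveI : DerivedCategory.IsGE K a := (DerivedCategory.isGE_iff K a).2 fun i hi => by
    haveI := hKa i hi
    exact ModuleCat.isZero_of_subsingleton _
  let LK := (FlatBC.L R P).obj K
  haveI : DerivedCategory.IsGE LK a := FlatBC.isGE_L K a
  let e := (FlatBC.lbcIso (A := R) (B := P)).app K
  let Ares : ModuleCat.{u} P := (ModuleCat.restrictScalars.{u} ψ.toRingHom).obj (ModuleCat.of A A)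
  refine ⟨⟨a - (n : ℤ), fun i hi => ?_⟩, fun hfin i => ?_⟩
  · haveI : Subsingleton (Dual.inD P Ares ⟶ ((DRing.LBaseChange (algebraMap R P)).obj K)⟦(n : ℤ) + i⟧) := by
      haveI : DerivedCategory.IsGE (LK⟦(n : ℤ) + i⟧) (a - ((n : ℤ) + i)) :=
        DerivedCategory.TStructure.t.isGE_shift LK a _ _ (by lia)
      haveI : Subsingleton (Dual.inD P Ares ⟶ LK⟦(n : ℤ) + i⟧) := ⟨fun p q => by
        rw [DerivedCategory.TStructure.t.zero p 0 (a - ((n : ℤ) + i)) (by lia),
          DerivedCategory.TStructure.t.zero q 0 (a - ((n : ℤ) + i)) (by lia)]⟩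
      exact (Linear.homCongr P (Iso.refl (Dual.inD P Ares))
        ((shiftFunctor (Dual.D P) ((n : ℤ) + i)).mapIso e)).toEquiv.subsingleton
    haveI := (Groth.L29.RestrictAdj.subsingleton_hom_iff _ adj (ModuleCat.of A A)
      ((DRing.LBaseChange (algebraMap R P)).obj K) ((n : ℤ) + i)).2 this
    haveI : Subsingleton (Dual.inD A A ⟶ (Dual2.shriekVia n Rψ K)⟦i⟧) :=
      (homShiftEquiv (Dual.inD A A) (Rψ.obj ((DRing.LBaseChange (algebraMap R P)).obj K)) n i ((n : ℤ) + i) rfl).toEquiv.subsingleton
    exact (evalShiftEquiv (Dual2.shriekVia n Rψ K) i).symm.toEquiv.subsingleton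
  · haveI : Module.Finite P Ares := by
      exact Groth.L29.RestrictAdj.finite_ringRes _ hψ
    haveI h1 : Module.Finite P (Dual.inD P Ares ⟶ LK⟦(n : ℤ) + i⟧) :=
      finite_hom LK (FlatBC.good_L a hfin) Ares ((n : ℤ) + i)
    haveI : Module.Finite P (Dual.inD P Ares ⟶ ((DRing.LBaseChange (algebraMap R P)).obj K)⟦(n : ℤ) + i⟧) :=
      Module.Finite.equiv (Linear.homCongr P (Iso.refl (Dual.inD P Ares))
        ((shiftFunctor (Dual.D P) ((n : ℤ) + i)).mapIso e)).symm
    haveI := Groth.L29.RestrictAdj.finite_hom_shift _ adj (ModuleCat.of A A)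
      ((DRing.LBaseChange (algebraMap R P)).obj K) ((n : ℤ) + i) this
    haveI : Module.Finite A (Dual.inD A A ⟶ (Dual2.shriekVia n Rψ K)⟦i⟧) :=
      Module.Finite.equiv (homShiftEquiv (Dual.inD A A) (Rψ.obj ((DRing.LBaseChange (algebraMap R P)).obj K)) n i ((n : ℤ) + i) rfl).symm
    exact Module.Finite.equiv (evalShiftEquiv (Dual2.shriekVia n Rψ K) i)

end Groth.Agent.S1783
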