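import Groth.Statements.S1801
import Groth.Agent.L10.Shriek.PerfectEnd
import Groth.Agent.L10.Shriek.PerfectDual
import Groth.Agent.L10.DRing.TorRestrict
import Groth.Agent.L19.PerfectHom
import Groth.Agent.L29.Dual.RegularDual
import Groth.Agent.L10.DRing.KFlatLBC
import Groth.Agent.L20.TorAmpWeaklyEtale
import Groth.Agent.S1782
import Groth.Agent.S1783
import Groth.Agent.S1807

set_option autoImplicit false
set_option backward.defeqAttrib.useBackward true
set_option backward.isDefEq.respectTransparency false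
set_option backward.defeqAttrib.useBackward true
set_option backward.isDefEq.respectTransparency false
universe u
open CategoryTheory
open scoped TensorProduct
attribute [local instance] HasDerivedCategory.standard
open Dual2

namespace Groth.Agent.S1801

/-- Flat case (part (2) with (1)(a)–(c) and (2)(b)). Let R → A be a ring map between Noetherian rings
which is flat and of finite type, where φ^!(K) is formed from a presentation ψ : R[x_1, …, x_n] → A
as RHom_P(A, K ⊗^L_R P)[n], assuming the derived base change to P exists and taking for RHom_P(A, −)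
a right adjoint of restriction of scalars along ψ; put ω = φ^!(R). Then: (a) ω has finitely many
nonzero cohomology modules, all finite over A; (b) after restriction of scalars to R, ω is
isomorphic to a bounded complex of flat R-modules (finite tor dimension over R); (c) a ↦ a·id is a
bijection A → End(ω) and ω has no self-maps of nonzero degree; (d) for every ring map R → k to a
field, assuming the derived base change D(A) → D(k ⊗_R A) exists, the base change of ω is a
dualizing complex for k ⊗_R A. -/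
theorem result (R A : Type u) [CommRing R] [CommRing A] [IsNoetherianRing R] [IsNoetherianRing A] [Algebra R A] [Module.Flat R A] (n : ℕ) (ψ : MvPolynomial (Fin n) R →ₐ[R] A) (hψ : Function.Surjective ψ) [DRing.HasLBaseChange (algebraMap R (MvPolynomial (Fin n) R))] (Rψ : Dual.D (MvPolynomial (Fin n) R) ⥤ Dual.D A) (adj : DRing.restrictD ψ.toRingHom ⊣ Rψ) : (∃ a b : ℤ, ∀ i : ℤ, (i < a ∨ b < i) → Subsingleton (Dual.HD A (Dual2.shriekVia n Rψ (Dual.inD R R)) i)) ∧ (∀ i : ℤ, Module.Finite A (Dual.HD A (Dual2.shriekVia n Rψ (Dual.inD R R)) i)) ∧ DRing.HasFiniteTorDimCx R ((DRing.restrictD (algebraMap R A)).obj (Dual2.shriekVia n Rψ (Dual.inD R R))) ∧ (Function.Bijective (fun a : A => a • CategoryTheory.CategoryStruct.id (Dual2.shriekVia n Rψ (Dual.inD R R))) ∧ ∀ i : ℤ, i ≠ 0 → Subsingleton (Dual2.shriekVia n Rψ (Dual.inD R R) ⟶ (Dual2.shriekVia n Rψ (Dual.inD R R))⟦i⟧)) ∧ ∀ (k : Type u) [Field k] [Algebra R k] [DRing.HasLBaseChange (Algebra.TensorProduct.includeRight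 : A →ₐ[R] k ⊗[R] A).toRingHom], Dual.IsDualizing (k ⊗[R] A) ((DRing.LBaseChange (Algebra.TensorProduct.includeRight : A →ₐ[R] k ⊗[R] A).toRingHom).obj (Dual2.shriekVia n Rψ (Dual.inD R R))) := by
  haveI := Groth.L10.DTen.hasLTen (MvPolynomial (Fin n) R)
  letI : Algebra (MvPolynomial (Fin n) R) A := ψ.toRingHom.toAlgebra
  haveI : IsScalarTower R (MvPolynomial (Fin n) R) A :=
    IsScalarTower.of_algebraMap_eq fun r => (ψ.commutes r).symm
  let Ares := Groth.L29.RestrictAdj.ringRes ψ.toRingHom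
  have hfinres : Module.Finite (MvPolynomial (Fin n) R) Ares := Groth.L29.RestrictAdj.finite_ringRes _ hψ
  letI : Module R Ares := (inferInstance : Module R A)
  haveI : IsScalarTower R (MvPolynomial (Fin n) R) Ares := ⟨fun r x (m : A) => by
    show ψ (r • x) * m = r • (ψ x * m)
    rw [map_smul, smul_mul_assoc]⟩
  have hamp : DRing.HasTorAmplitudeIn (MvPolynomial (Fin n) R) (-(n : ℤ)) 0
      (Dual.inD (MvPolynomial (Fin n) R) Ares) := by
    have h0 : DRing.HasTorAmplitudeIn R (-((0 : ℕ) : ℤ)) 0 (Dual.inD R Ares) :=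
      (Groth.L10.DR.hasTorDimLE_iff_amp 0).1 (Groth.L10.DR.hasTorDimLE_zero_iff.2
        (inferInstanceAs (Module.Flat R A)))
    simpa using Groth.L19.PerfectHom.amp_mvPolynomial n Ares 0 h0
  obtain ⟨hbij, hsub, hperf⟩ := Groth.L10.Shriek.end_rightAdjoint ψ.toRingHom adj hfinres n hamp
  obtain ⟨e₁⟩ := Groth.L10.Shriek.nonempty_lbc_inD (algebraMap R (MvPolynomial (Fin n) R))
  let e₂ : (DRing.LBaseChange (algebraMap R (MvPolynomial (Fin n) R))).obj (Dual.inD R R) ≅
      Dual.inD (MvPolynomial (Fin n) R) (MvPolynomial (Fin n) R) :=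
    e₁ ≪≫ ((DerivedCategory.singleFunctorIsoCompQ (ModuleCat.{u} (MvPolynomial (Fin n) R)) 0).app
      (ModuleCat.of (MvPolynomial (Fin n) R) (MvPolynomial (Fin n) R))).symm
  let ω₀ := Rψ.obj (Dual.inD (MvPolynomial (Fin n) R) (MvPolynomial (Fin n) R))
  let eω : Dual2.shriekVia n Rψ (Dual.inD R R) ≅ ω₀⟦(n : ℤ)⟧ :=
    (shiftFunctor (Dual.D A) (n : ℤ)).mapIso (Rψ.mapIso e₂)
  have hperfω : DRing.IsPerfect (MvPolynomial (Fin n) R)
      ((DRing.restrictD ψ.toRingHom).obj (Dual2.shriekVia n Rψ (Dual.inD R R))) :=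
    Groth.L10.DTen.perfect_of_iso'
      ((((DRing.restrictD ψ.toRingHom).commShiftIso (n : ℤ)).app ω₀).symm ≪≫
        (DRing.restrictD ψ.toRingHom).mapIso eω.symm)
      (Groth.L10.DTen.perfect_shift' hperf (n : ℤ))
  obtain ⟨⟨a₀, ha₀⟩, hfinH⟩ := Groth.Agent.S1783.result R A n ψ hψ Rψ adj (Dual.inD R R) 0
    (fun i hi => ModuleCat.subsingleton_of_isZero
      (Groth.L10.DR.isZero_HH_single 0 i (ModuleCat.of R R) (by omega)))
  obtain ⟨F, a, b, hFv, hFp, ⟨eF⟩⟩ := hperfω
  refine ⟨⟨a₀, b, fun i hi => ?_⟩, hfinH (Groth.L29.HomD.finite_HD_single R), ?_, ⟨?_, ?_⟩, ?_⟩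
  · rcases hi with hi | hi
    · exact ha₀ i hi
    · obtain ⟨E, ⟨eE⟩⟩ : ∃ E : DRing.Cx A, Nonempty (DRing.toD E ≅ Dual2.shriekVia n Rψ (Dual.inD R R)) :=
        ⟨_, ⟨DerivedCategory.Q.objObjPreimageIso _⟩⟩
      let eR : DRing.toD F ≅
          DRing.toD (((ModuleCat.restrictScalars.{u} ψ.toRingHom).mapHomologicalComplex _).obj E) :=
        eF ≪≫ (DRing.restrictD ψ.toRingHom).mapIso eE.symm ≪≫
          (ModuleCat.restrictScalars.{u} ψ.toRingHom).mapDerivedCategoryFactors.app E
      have hz1 := (Groth.L10.DR.HH_iso_zero eR i).2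
        ((F.exactAt_iff_isZero_homology i).1 (HomologicalComplex.ExactAt.of_isZero (hFv i (Or.inr hi))))
      have hz2 := (Groth.L02.PC.isZero_HH_Q_iff _ i).1 hz1
      have hz3 : Limits.IsZero (E.homology i) :=
        Groth.L20.TorAmp.isZero_of_isZero_restrict (A := MvPolynomial (Fin n) R) (B := A) _
          (hz2.of_iso ((E.sc i).mapHomologyIso (ModuleCat.restrictScalars.{u} ψ.toRingHom)).symm)
      exact ModuleCat.subsingleton_of_isZero ((Groth.L10.DR.HH_iso_zero eE i).2 hz3)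
  · have hPfl : DRing.HasTorAmplitudeIn R (-((0 : ℕ) : ℤ)) 0 (Dual.inD R (MvPolynomial (Fin n) R)) :=
      (Groth.L10.DR.hasTorDimLE_iff_amp 0).1 (Groth.L10.DR.hasTorDimLE_zero_iff.2 inferInstance)
    have hK : DRing.HasTorAmplitudeIn (MvPolynomial (Fin n) R) a b
        ((DRing.restrictD ψ.toRingHom).obj (Dual2.shriekVia n Rψ (Dual.inD R R))) :=
      ⟨F, hFv, fun i => by haveI := (hFp i).2; infer_instance, ⟨eF⟩⟩
    exact ⟨_, _, Groth.L10.DR.amp_of_iso
      ((Groth.L10.Shriek.restrictDCompIso (algebraMap R (MvPolynomial (Fin n) R)) ψ.toRingHom (algebraMap R A)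
        ψ.comp_algebraMap.symm).symm.app _)
      (Groth.L10.TorRestrict.amp_restrict (A := R) (B := MvPolynomial (Fin n) R) 0 hPfl _ a b hK)⟩
  · let G := shiftFunctor (Dual.D A) (n : ℤ)
    let e : (ω₀ ⟶ ω₀) ≃ₗ[A] (ω₀⟦(n : ℤ)⟧ ⟶ ω₀⟦(n : ℤ)⟧) :=
      LinearEquiv.ofBijective (G.mapLinearMap A) ⟨G.map_injective, G.map_surjective⟩
    convert ((Iso.homCongr eω.symm eω.symm).bijective.comp (e.bijective.comp hbij)) using 1
    funext x
    change x • 𝟙 _ = Iso.homCongr eω.symm eω.symm (G.map (x • 𝟙 ω₀))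
    rw [Functor.map_smul, CategoryTheory.Functor.map_id]
    simp [Iso.homCongr, Linear.smul_comp]
    exact congrArg (x • ·) ((congrArg (eω.hom ≫ ·) (Category.id_comp eω.inv)).trans eω.hom_inv_id).symm
  · intro i hi
    haveI := hsub i hi
    let G := shiftFunctor (Dual.D A) (n : ℤ)
    let e : (ω₀ ⟶ ω₀⟦i⟧) ≃ (ω₀⟦(n : ℤ)⟧ ⟶ (ω₀⟦(n : ℤ)⟧)⟦i⟧) :=
      (Equiv.ofBijective (fun f => G.map f) ⟨G.map_injective, G.map_surjective⟩).trans
        (Iso.homCongr (Iso.refl _) (shiftComm ω₀ i (n : ℤ)))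
    exact (e.trans (Iso.homCongr eω.symm ((shiftFunctor (Dual.D A) i).mapIso eω.symm))).symm.subsingleton
  · intro k _ _ _
    let T := k ⊗[R] A
    haveI hRA : Algebra.FiniteType R A := Algebra.FiniteType.of_surjective ψ hψ
    haveI : Algebra.FiniteType k T := inferInstance
    haveI : IsNoetherianRing T := Algebra.FiniteType.isNoetherianRing k T
    obtain ⟨m, ψ', hψ'⟩ := Algebra.FiniteType.iff_quotient_mvPolynomial''.1 (show Algebra.FiniteType k (k ⊗[R] A) from inferInstance)
    haveI := Groth.L10.KFlatLBC.hasLBaseChange (algebraMap k (MvPolynomial (Fin m) k))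
    haveI := Groth.L10.KFlatLBC.hasLBaseChange (algebraMap R k)
    obtain ⟨Rψ', ⟨adj'⟩⟩ := Groth.L10.Shriek.exists_rightAdjoint ψ'.toRingHom
    obtain ⟨e⟩ := Groth.Agent.S1807.result R k A n ψ hψ Rψ adj m ψ' hψ' Rψ' adj' (Dual.inD R R)
    obtain ⟨e₄⟩ := Groth.L10.Shriek.nonempty_lbc_inD (algebraMap R k)
    have hk : Dual.IsDualizing k ((DRing.LBaseChange (algebraMap R k)).obj (Dual.inD R R)) :=
      Groth.L29.HomD.isDualizing_of_iso
        ((DerivedCategory.singleFunctorIsoCompQ (ModuleCat.{u} k) 0).app (ModuleCat.of k k) ≪≫ e₄.symm)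
        (Groth.L29.HomD.isDualizing_inD_of_regularLocal k)
    exact Groth.L29.HomD.isDualizing_of_iso e.symm
      (Groth.Agent.S1782.result k T m ψ' hψ' Rψ' adj' _ hk)

end Groth.Agent.S1801
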