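import Groth.Statements.S5752
import Groth.Agent.L01.DepthBasic
import Groth.Agent.L04.Depth
import Mathlib.RingTheory.Ideal.AssociatedPrime.Basic

-- import your own Groth.Agent.* helpers here

set_option autoImplicit false
universe u
open EGA41

namespace Groth.Agent.S5752

/-- Let A be a Noetherian local ring with maximal ideal m and M a finitely generated A-module. Then M
has depth 0 if and only if m is an associated prime of M, i.e. if and only if M contains a copy of
the residue field. (For M = 0 the depth is ⊤ and there are no associated primes.) -/
theorem result (A : Type u) [CommRing A] [IsLocalRing A]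
    [IsNoetherianRing A] (M : Type u) [AddCommGroup M] [Module A M] [Module.Finite A M] :
    LocCoh.depth A M = 0 ↔ IsLocalRing.maximalIdeal A ∈ associatedPrimes A M := by
  refine ⟨fun h => ?_, fun h => ?_⟩
  · rcases Groth.L04.exists_regular_or_killed (IsLocalRing.maximalIdeal A) M with ⟨r, hr, hrr⟩ | ⟨w, hw0, hw⟩
    · have h1 := Groth.L01.one_le_depth hr hrr
      rw [h] at h1
      exact absurd h1 (by simp)
    · refine isAssociatedPrime_iff.2 ⟨inferInstance, w, ?_⟩
      refine (IsLocalRing.maximalIdeal.isMaximal _).eq_of_le ?_ fun z hz => ?_
      · intro h'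
        have h1 := (Ideal.eq_top_iff_one _).mp h'
        rw [Submodule.mem_colon_singleton, Submodule.mem_bot, one_smul] at h1
        exact hw0 h1
      · rw [Submodule.mem_colon_singleton, Submodule.mem_bot]
        exact hw z hz
  · obtain ⟨-, w, hw⟩ := isAssociatedPrime_iff.1 h
    refine Groth.L01.depth_eq_zero_of_smul_eq_zero (m := w) (fun h0 => ?_) fun x hx => ?_
    · refine (IsLocalRing.maximalIdeal.isMaximal A).ne_top ?_
      rw [hw, Ideal.eq_top_iff_one, Submodule.mem_colon_singleton, h0, smul_zero]
      exact Submodule.zero_mem _
    · rw [hw, Submodule.mem_colon_singleton, Submodule.mem_bot] at hx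
      exact hx

end Groth.Agent.S5752
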