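import Groth.Statements.S1718
import Groth.Agent.L29.Dual.Normalized
import Mathlib.Algebra.Category.ModuleCat.FilteredColimits
import Mathlib.Algebra.Category.ModuleCat.Colimits
import Mathlib.Algebra.Category.Grp.FilteredColimits
import Mathlib.CategoryTheory.Limits.ConcreteCategory.Basic

set_option autoImplicit false
set_option backward.isDefEq.respectTransparency false
universe u
open CategoryTheory
attribute [local instance] HasDerivedCategory.standard
open Dual

namespace Groth.Agent.S1718

/-- Let A be a Noetherian local ring with maximal ideal m, residue field κ and a normalized dualizing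
complex ω, and let κ → E be an injective hull. Then the degree-0 local cohomology of ω with support
in m (the direct limit of Hom(A/m^n, ω)) is isomorphic to E, and the local cohomology of ω in every
other degree is zero. -/
theorem result (A : Type u) [CommRing A] [IsLocalRing A] [IsNoetherianRing A] (ω : Dual.D A) (hω : Dual.IsDualizing A ω) (hn : Dual.IsNormalized A ω) (E : Type u) [AddCommGroup E] [Module A E] (f : IsLocalRing.ResidueField A →ₗ[A] E) (hf : InjHull.IsInjectiveHull f) : Nonempty (Dual2.HDI A (IsLocalRing.maximalIdeal A) ω 0 ≃ₗ[A] E) ∧ ∀ i : ℤ, i ≠ 0 → Subsingleton (Dual2.HDI A (IsLocalRing.maximalIdeal A) ω i) := by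
  let m := IsLocalRing.maximalIdeal A
  let D := localCohomology.idealPowersDiagram m
  have hkill : ∀ (j : ℕᵒᵖᵒᵖ), ∀ r ∈ m ^ (j.unop.unop), ∀ x : (localCohomology.ringModIdeals D).obj j.unop,
      r • x = 0 := fun j r hr x => by
    obtain ⟨x, rfl⟩ := Submodule.mkQ_surjective _ x
    change (Submodule.Quotient.mk (r • x) : A ⧸ m ^ (j.unop.unop)) = 0
    exact (Submodule.Quotient.mk_eq_zero _).2 (Ideal.mul_mem_right _ _ hr)
  haveI : IsFiltered ℕᵒᵖᵒᵖ := IsFiltered.of_equivalence (opOpEquivalence ℕ).symm
  haveI : Limits.PreservesFilteredColimitsOfSize.{0, 0} (forget AddCommGrpCat.{u + 1}) :=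
    Limits.preservesSmallestFilteredColimits_of_preservesFilteredColimits.{u + 1, u + 1} _
  haveI : Limits.PreservesColimitsOfShape ℕᵒᵖᵒᵖ (forget AddCommGrpCat.{u + 1}) :=
    Limits.PreservesFilteredColimitsOfSize.preserves_filtered_colimits _
  haveI : Limits.PreservesColimitsOfShape ℕᵒᵖᵒᵖ (forget (ModuleCat.{u + 1} A)) :=
    Limits.comp_preservesColimitsOfShape (forget₂ (ModuleCat.{u + 1} A) AddCommGrpCat.{u + 1})
      (forget AddCommGrpCat.{u + 1})
  constructor
  · obtain ⟨I, a, hGE, hinj, hK, hc, ⟨eI⟩, ⟨e⟩⟩ := Groth.L29.HomD.exists_gamma_hull hω hn f hf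
    let F := (localCohomology.ringModIdeals D ⋙ DerivedCategory.singleFunctor (ModuleCat.{u} A) 0).op ⋙
      (linearYoneda A (Dual.D A)).obj (ω⟦(0 : ℤ)⟧)
    let val : ∀ (j : ℕᵒᵖᵒᵖ),
        (Dual.inD A ((localCohomology.ringModIdeals D).obj j.unop) ⟶ ω⟦(0 : ℤ)⟧) →ₗ[A] E := fun j =>
      e.toLinearMap ∘ₗ (LinearMap.applyₗ (Submodule.Quotient.mk (p := D.obj j.unop) 1)) ∘ₗ
        (Groth.L29.HomD.homGH hinj a hc ((localCohomology.ringModIdeals D).obj j.unop) j.unop.unop (hkill j)).toLinearMap ∘ₗ
        (Linear.rightComp A _ (((shiftFunctorZero (Dual.D A) ℤ).app ω).hom ≫ eI.inv))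
    let c : Limits.Cocone F :=
      { pt := ModuleCat.of A (ULift.{u + 1} E)
        ι :=
          { app := fun j => ModuleCat.ofHom (ULift.moduleEquiv.symm.toLinearMap ∘ₗ val j)
            naturality := fun j j' w => by
              refine ModuleCat.hom_ext (LinearMap.ext fun t => ULift.ext _ _ ?_)
              refine congrArg e ?_
              have h := Groth.L29.HomD.homGH_natural hinj a hc
                ((localCohomology.ringModIdeals D).obj j.unop) j.unop.unop (hkill j)
                ((localCohomology.ringModIdeals D).obj j'.unop) j'.unop.unop (hkill j')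
                ((localCohomology.ringModIdeals D).map w.unop)
                (t ≫ ((shiftFunctorZero (Dual.D A) ℤ).app ω).hom ≫ eI.inv)
              rw [← Category.assoc] at h
              exact LinearMap.congr_fun h (Submodule.Quotient.mk (p := D.obj j'.unop) 1) } }
    have hbij : Function.Bijective (Limits.colimit.desc F c).hom := by
      constructor
      · rw [injective_iff_map_eq_zero]
        intro x hx
        obtain ⟨j, t, rfl⟩ := Limits.Concrete.colimit_exists_rep F x
        have h1 : (ULift.moduleEquiv.symm.toLinearMap ∘ₗ val j) t = 0 :=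
          (LinearMap.congr_fun (congrArg ModuleCat.Hom.hom (Limits.colimit.ι_desc c j)) t).symm.trans hx
        have h2 : val j t = 0 := congrArg ULift.down h1
        have h3 : Groth.L29.HomD.homGH hinj a hc ((localCohomology.ringModIdeals D).obj j.unop) j.unop.unop (hkill j)
            (t ≫ ((shiftFunctorZero (Dual.D A) ℤ).app ω).hom ≫ eI.inv) = 0 := by
          refine LinearMap.ext fun x => ?_
          obtain ⟨r, rfl⟩ := Submodule.mkQ_surjective _ x
          have h4 := e.map_eq_zero_iff.1 h2
          rw [show Submodule.mkQ (D.obj j.unop) r = r • Submodule.Quotient.mk (p := D.obj j.unop) 1 from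
            congrArg Submodule.Quotient.mk (mul_one r).symm]
          erw [map_smul, h4, smul_zero]
          rfl
        rw [LinearEquiv.map_eq_zero_iff] at h3
        have h5 : t = 0 := by
          rw [← cancel_mono (((shiftFunctorZero (Dual.D A) ℤ).app ω).hom ≫ eI.inv)]
          exact h3.trans Limits.zero_comp.symm
        rw [h5]
        exact map_zero _
      · intro y
        obtain ⟨k, hk⟩ := (Groth.L04.isInjectiveHull_iff.1 ⟨f, hf⟩).2.1 y.down
        let j : ℕᵒᵖᵒᵖ := Opposite.op (Opposite.op k)
        let g : (localCohomology.ringModIdeals D).obj j.unop →ₗ[A] Groth.L29.HomD.GH m I :=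
          Submodule.liftQ (m ^ k) (LinearMap.toSpanSingleton A _ (e.symm y.down)) fun r hr => by
            change r • e.symm y.down = 0
            rw [← map_smul, hk r hr, map_zero]
        obtain ⟨t, ht⟩ := (Groth.L29.HomD.homGH hinj a hc ((localCohomology.ringModIdeals D).obj j.unop)
          j.unop.unop (hkill j)).surjective g
        let t' : Dual.inD A ((localCohomology.ringModIdeals D).obj j.unop) ⟶ ω⟦(0 : ℤ)⟧ :=
          t ≫ eI.hom ≫ ((shiftFunctorZero (Dual.D A) ℤ).app ω).inv
        refine ⟨(Limits.colimit.ι F j).hom t', ?_⟩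
        refine (LinearMap.congr_fun (congrArg ModuleCat.Hom.hom (Limits.colimit.ι_desc c j)) t').trans
          (ULift.ext _ _ ?_)
        change e (Groth.L29.HomD.homGH hinj a hc ((localCohomology.ringModIdeals D).obj j.unop) j.unop.unop
          (hkill j) (t' ≫ ((shiftFunctorZero (Dual.D A) ℤ).app ω).hom ≫ eI.inv) _) = y.down
        rw [show t' ≫ ((shiftFunctorZero (Dual.D A) ℤ).app ω).hom ≫ eI.inv = t by simp [t'], ht]
        change e ((1 : A) • e.symm y.down) = y.down
        rw [one_smul, LinearEquiv.apply_symm_apply]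
    exact ⟨LinearEquiv.ofBijective _ hbij ≪≫ₗ ULift.moduleEquiv⟩
  · intro i hi
    refine ⟨fun x y => ?_⟩
    obtain ⟨j, tx, rfl⟩ := Limits.Concrete.colimit_exists_rep _ x
    obtain ⟨k, ty, rfl⟩ := Limits.Concrete.colimit_exists_rep _ y
    haveI : ∀ j : ℕᵒᵖᵒᵖ, Module.Finite A ((localCohomology.ringModIdeals D).obj j.unop) := fun j =>
      inferInstanceAs (Module.Finite A (A ⧸ D.obj j.unop))
    haveI := Groth.L29.HomD.subsingleton_hom_of_kills hω hn _ j.unop.unop (hkill j) i hi
    haveI := Groth.L29.HomD.subsingleton_hom_of_kills hω hn _ k.unop.unop (hkill k) i hi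
    rw [show tx = 0 from Subsingleton.elim (α := Dual.inD A ((localCohomology.ringModIdeals D).obj j.unop) ⟶ ω⟦i⟧) _ _,
      show ty = 0 from Subsingleton.elim (α := Dual.inD A ((localCohomology.ringModIdeals D).obj k.unop) ⟶ ω⟦i⟧) _ _]
    exact (map_zero _).trans (map_zero _).symm

end Groth.Agent.S1718
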