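import Groth.Statements.S1789
import Groth.Agent.L10.Shriek.Normalized

set_option autoImplicit false
set_option backward.defeqAttrib.useBackward true
set_option backward.isDefEq.respectTransparency false
universe u
open CategoryTheory
attribute [local instance] HasDerivedCategory.standard
open Dual2

namespace Groth.Agent.S1789

/-- Let R → A be a ring map of finite type between Noetherian rings with R local, where φ^!(K) is formed
from a presentation ψ : R[x_1, …, x_n] → A as RHom_P(A, K ⊗^L_R P)[n], assuming the derived base
change to P exists and taking for RHom_P(A, −) a right adjoint of restriction of scalars along ψ.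
Let m be a maximal ideal of A lying over the maximal ideal of R and ω a normalized dualizing complex
for R. Assuming the derived base change D(A) → D(A_m) exists, the base change of φ^!(ω) to A_m is a
normalized dualizing complex for A_m. -/
theorem result (R A : Type u) [CommRing R] [CommRing A] [IsNoetherianRing R] [IsNoetherianRing A] [Algebra R A] (n : ℕ) (ψ : MvPolynomial (Fin n) R →ₐ[R] A) (hψ : Function.Surjective ψ) [DRing.HasLBaseChange (algebraMap R (MvPolynomial (Fin n) R))] (Rψ : Dual.D (MvPolynomial (Fin n) R) ⥤ Dual.D A) (adj : DRing.restrictD ψ.toRingHom ⊣ Rψ) [IsLocalRing R] (m : Ideal A) [m.IsMaximal] (hm : m.comap (algebraMap R A) = IsLocalRing.maximalIdeal R) (ω : Dual.D R) (hω : Dual.IsDualizing R ω) (hn : Dual.IsNormalized R ω) [DRing.HasLBaseChange (algebraMap A (Localization.AtPrime m))] : Dual.IsDualizing (Localization.AtPrime m) ((DRing.LBaseChange (algebraMap A (Localization.AtPrime m))).obj (Dual2.shriekVia n Rψ ω)) ∧ Dual.IsNormalized (Localization.AtPrime m) ((DRing.LBaseChange (algebraMap A (Localization.AtPrime m))).obj (Dual2.shriekVia n Rψ ω)) := by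
  exact Groth.L10.Shriek.Normalized.isDualizing_and_isNormalized ψ hψ adj m hm ω hω hn

end Groth.Agent.S1789
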