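import Groth.Statements.S1790
import Groth.Agent.L10.Shriek.FlatRange

set_option autoImplicit false
set_option backward.defeqAttrib.useBackward true
set_option backward.isDefEq.respectTransparency false
universe u
open CategoryTheory
attribute [local instance] HasDerivedCategory.standard
open Dual2

namespace Groth.Agent.S1790

/-- Let R → A be a ring map between Noetherian rings which is flat and of finite type, where φ^!(K) is
formed from a presentation ψ : R[x_1, …, x_n] → A as RHom_P(A, K ⊗^L_R P)[n], assuming the derived
base change to P exists and taking for RHom_P(A, −) a right adjoint of restriction of scalars along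
ψ, and ω_{A/R} = φ^!(R). (a) If q is a prime of A at which the fibre of Spec A → Spec R has local
dimension d and H^i(ω_{A/R}) localized at q is nonzero, then −d ≤ i ≤ 0. (b) If every fibre has
local dimension at most d at every point, then ω_{A/R}, regarded as a complex of R-modules, is
isomorphic to a complex of flat R-modules concentrated in degrees [−d, 0]. -/
theorem result (R A : Type u) [CommRing R] [CommRing A] [IsNoetherianRing R] [IsNoetherianRing A] [Algebra R A] (n : ℕ) (ψ : MvPolynomial (Fin n) R →ₐ[R] A) (hψ : Function.Surjective ψ) [DRing.HasLBaseChange (algebraMap R (MvPolynomial (Fin n) R))] (Rψ : Dual.D (MvPolynomial (Fin n) R) ⥤ Dual.D A) (adj : DRing.restrictD ψ.toRingHom ⊣ Rψ) [Module.Flat R A] (d : ℕ) : (∀ (q : PrimeSpectrum A), FlatMor.fibreDimAt (AlgebraicGeometry.Spec.map (CommRingCat.ofHom (algebraMap R A))) q = d → ∀ i : ℤ, Nontrivial (LocalizedModule q.asIdeal.primeCompl (Dual.HD A (Dual2.shriekVia n Rψ (Dual.inD R R)) i)) → -(d : ℤ) ≤ i ∧ i ≤ 0) ∧ ((∀ q : PrimeSpectrum A, FlatMor.fibreDimAt (AlgebraicGeometry.Spec.map (CommRingCat.ofHom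 (algebraMap R A))) q ≤ (d : WithBot ℕ∞)) → DRing.HasTorAmplitudeIn R (-(d : ℤ)) 0 ((DRing.restrictD (algebraMap R A)).obj (Dual2.shriekVia n Rψ (Dual.inD R R)))) := by
  exact ⟨fun q hq i h => Groth.L10.Shriek.FlatRange.range n ψ hψ adj q d hq.le i h,
    fun h => Groth.L10.Shriek.FlatRange.amp n ψ hψ adj d h⟩

end Groth.Agent.S1790
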