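import Groth.Statements.S0365
import Groth.Agent.L29.Dual.Depth

set_option autoImplicit false
universe u v
open CategoryTheory
attribute [local instance] HasDerivedCategory.standard
open Dual

namespace Groth.Agent.S0365

/-- For a Noetherian local ring with normalized dualizing complex ω, the depth of the ring is the least
δ ≥ 0 with H^{-δ}(ω) nonzero. -/
theorem result (A : Type u) [CommRing A] [IsLocalRing A] [IsNoetherianRing A] (ω : Dual.D A) (hω : Dual.IsDualizing A ω) (hn : Dual.IsNormalized A ω) (n : ℕ) : LocCoh.depth A A = n ↔ ((∀ δ : ℕ, δ < n → Subsingleton (Dual.HD A ω (-(δ : ℤ)))) ∧ Nontrivial (Dual.HD A ω (-(n : ℤ)))) := by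
  haveI : Nontrivial A := inferInstance
  obtain ⟨m, hm, h1, h2⟩ := Groth.L29.HomD.depth_spec hω hn A
  have e := fun i : ℤ => (Groth.L29.HomD.evalShiftEquiv ω i).toEquiv
  rw [hm]
  constructor
  · intro h
    obtain rfl : m = n := by exact_mod_cast h
    haveI := h2
    exact ⟨fun δ hδ => haveI := h1 δ hδ; (e _).symm.subsingleton, (e _).symm.nontrivial⟩
  · rintro ⟨h1', h2'⟩
    rcases lt_trichotomy m n with h | h | h
    · haveI := h1' m h
      exact absurd ((e (-(m : ℤ))).subsingleton) (not_subsingleton_iff_nontrivial.2 h2)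
    · exact_mod_cast h
    · haveI := h1 n h
      exact absurd ((e (-(n : ℤ))).symm.subsingleton) (not_subsingleton_iff_nontrivial.2 h2')

end Groth.Agent.S0365
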