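import Groth.Statements.S3677
import Groth.Agent.L10.ShriekLoc.LocalBase
import Groth.Agent.L10.ShriekLoc.SuppTools

set_option autoImplicit false
set_option linter.style.haveILetI false
set_option backward.isDefEq.respectTransparency.types false
set_option backward.isDefEq.respectTransparency false
set_option maxHeartbeats 800000
set_option backward.defeqAttrib.useBackward true
set_option backward.isDefEq.respectTransparency false
universe u
open CategoryTheory CategoryTheory.Limits AlgebraicGeometry
attribute [local instance] HasDerivedCategory.standard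
open Dual3

namespace Groth.Agent.S3677

/-- Let A be a Noetherian local ring with a normalized dualizing complex ω_A and X proper over Spec A
with dim X = n. Assume the derived pushforward Rf_* along the structure morphism f exists and
preserves complexes with quasi-coherent cohomology (carried as hypotheses), let a be a right adjoint
to Rf_* : D_QCoh(O_X) → D_QCoh(Spec A), and let W be an object of D_QCoh(Spec A) isomorphic to the
derived tilde of ω_A (tilde assumed left exact); put ω_X^• = a(W) and ω_X = H^{−n}(ω_X^•). Then (1)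
H^i(ω_X^•) = 0 unless −n ≤ i ≤ 0; (2) the set of points where H^i(ω_X^•) has nonzero stalk has Krull
dimension at most −i; (3) ω_X has nonzero stalk at a point exactly when that point lies on some
irreducible component of X of dimension n; (4) the stalks of ω_X satisfy Serre's condition (S_2). -/
theorem result (A : Type u) [CommRing A] [IsLocalRing A] [IsNoetherianRing A] (ω : Dual.D A) (hω : Dual.IsDualizing A ω) (hn : Dual.IsNormalized A ω) (X : Scheme.{u}) (f : X ⟶ Spec (CommRingCat.of A)) [IsProper f] [DCoh.HasRpush f] (hf : DCoh.RpushPreservesQCoh f) (a : DCoh.DQCoh (Spec (CommRingCat.of A)) ⥤ DCoh.DQCoh X) (adj : DCoh.RpushQ f hf ⊣ a) [PreservesFiniteLimits (tilde.functor (CommRingCat.of A))] (W : DCoh.DQCoh (Spec (CommRingCat.of A))) (hW : Nonempty (W.obj ≅ (DCoh.tildeD (CommRingCat.of A)).obj ω)) (n : ℕ) (hdim : topologicalKrullDim X = (n : WithBot ℕ∞)) : (∀ i : ℤ, (i < -(n : ℤ) ∨ 0 < i) → IsZero (DCoh.HD (a.obj W).obj i)) ∧ (∀ (i : ℤ) (m : ℕ), (m : ℤ) = -i → topologicalKrullDim {x : X | Nontrivial ((DCoh.HD (a.obj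 W).obj i).presheaf.stalk x)} ≤ (m : WithBot ℕ∞)) ∧ {x : X | Nontrivial ((DCoh.HD (a.obj W).obj (-(n : ℤ))).presheaf.stalk x)} = (⋃ Z ∈ {Z : Set X | Z ∈ irreducibleComponents X ∧ topologicalKrullDim ↥Z = (n : WithBot ℕ∞)}, Z) ∧ ∀ x : X, LocCoh.HasSk 2 (X.presheaf.stalk x) ((DCoh.HD (a.obj W).obj (-(n : ℤ))).presheaf.stalk x) := by
  open Groth.L29 Groth.L29.DC Groth.L29.HomD Groth.L10.ShriekLoc L02.FibDepth in
  haveI := fun (R : CommRingCat.{u}) => Groth.L18.TildeF.tilde_preservesFiniteLimits (R := R)
  haveI : IsLocallyNoetherian X := LocallyOfFiniteType.isLocallyNoetherian f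
  -- facts at the closed point above `q`
  have hloc : ∀ {B : Type u} [CommRing B] [IsNoetherianRing B] (jU : Spec (CommRingCat.of B) ⟶ X)
      [IsOpenImmersion jU] (m : Spec (CommRingCat.of B)),
      ringKrullDim (Localization.AtPrime m.asIdeal) ≤ (n : WithBot ℕ∞) := by
    intro B _ _ jU _ m
    exact ((IsLocalization.AtPrime.ringKrullDim_eq_height m.asIdeal (Localization.AtPrime m.asIdeal)).le.trans
      (Ideal.height_le_ringKrullDim_of_ne_top m.2.ne_top)).trans ((ringKrullDim_le_of_chart jU).trans hdim.le)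
  -- range
  have hrange : ∀ (i : ℤ) (x : X), Nontrivial ((DCoh.HD (a.obj W).obj i).presheaf.stalk x) →
      -(n : ℤ) ≤ i ∧ i ≤ 0 := by
    intro i x hx
    obtain ⟨B, _, _, jU, _, η, q, m, rfl, hqm, -, hη, hnm, ⟨e⟩⟩ := exists_chart_closed ω hω hn adj W hW x
    have hq := (SchLocus.nontrivial_stalk_iff jU e q i).1 hx
    haveI : Module.Flat B (Localization.AtPrime m.asIdeal) := IsLocalization.flat _ m.asIdeal.primeCompl
    have hB := FlatBC.isDualizing_L_localization (B := Localization.AtPrime m.asIdeal) m.asIdeal.primeCompl hη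
    haveI := hB.isNoetherianRing
    have hmS : m ∈ Module.support B (Dual.HD B η i) := Module.mem_support_mono (R := B) hqm hq
    obtain ⟨E⟩ := nonempty_semi_HD jU e m i
    haveI : Nontrivial (Dual.HD (Localization.AtPrime m.asIdeal)
        ((FlatBC.L B (Localization.AtPrime m.asIdeal)).obj η) i) :=
      E.e.toEquiv.nontrivial_congr.2 ((SchLocus.nontrivial_stalk_iff jU e m i).2 hmS)
    obtain ⟨d, hd, h1, h2, -⟩ := range_of_nontrivial _ hB hnm i inferInstance
    have h3 := hloc jU m
    rw [hd] at h3
    have : d ≤ n := by exact_mod_cast h3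
    omega
  -- dimension of supports
  have hsupp : ∀ (i : ℤ) (k : ℕ), (k : ℤ) = -i →
      topologicalKrullDim {x : X | Nontrivial ((DCoh.HD (a.obj W).obj i).presheaf.stalk x)} ≤ (k : WithBot ℕ∞) := by
    intro i k hk
    let S := {x : X | Nontrivial ((DCoh.HD (a.obj W).obj i).presheaf.stalk x)}
    have hclosed : IsClosed S := isClosed_supp_local ω hω adj W hW i
    haveI : QuasiSober S := hclosed.isClosedEmbedding_subtypeVal.quasiSober
    refine iSup_le fun l => ?_
    have hgp : ∀ p, ∃ c : S, IsGenericPoint c (l p : Set S) := fun p =>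
      QuasiSober.sober (l p).isIrreducible (l p).isClosed
    choose c hc using hgp
    obtain ⟨B, _, _, jU, _, η, q₀, m, hq₀, hqm, -, hη, hnm, ⟨e⟩⟩ := exists_chart_closed ω hω hn adj W hW (c 0).1
    have hspec : ∀ p, (c p).1 ⤳ (c 0).1 := fun p =>
      (IsGenericPoint.specializes (hc p) (l.monotone (Fin.zero_le p) (hc 0).mem)).map continuous_subtype_val
    have hmem : ∀ p, ∃ q : PrimeSpectrum B, jU q = (c p).1 := fun p =>
      (hspec p).mem_open jU.isOpenEmbedding.isOpen_range ⟨q₀, hq₀⟩
    choose q hq using hmem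
    have hlt : ∀ p : Fin l.length, q p.succ < q p.castSucc := fun p => by
      have h : l p.castSucc < l p.succ := l.step p
      refine lt_of_le_of_ne ?_ fun hh => h.ne ?_
      swap
      · have hcc : c p.castSucc = c p.succ := Subtype.ext ((hq _).symm.trans ((congrArg _ hh.symm).trans (hq _)))
        refine TopologicalSpace.IrreducibleCloseds.ext ?_
        rw [← (hc p.castSucc).def, ← (hc p.succ).def, hcc]
      rw [PrimeSpectrum.le_iff_specializes]
      refine jU.isOpenEmbedding.isInducing.specializes_iff.1 ?_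
      rw [hq, hq]
      exact ((hc _).specializes (h.le (hc p.castSucc).mem)).map continuous_subtype_val
    have hle : ∀ p, (q p).asIdeal ≤ m.asIdeal := fun p => by
      refine le_trans ((PrimeSpectrum.le_iff_specializes (q p) q₀).2 ?_) hqm
      exact jU.isOpenEmbedding.isInducing.specializes_iff.1 (by rw [hq, hq₀]; exact hspec p)
    haveI : Module.Flat B (Localization.AtPrime m.asIdeal) := IsLocalization.flat _ m.asIdeal.primeCompl
    have hB := FlatBC.isDualizing_L_localization (B := Localization.AtPrime m.asIdeal) m.asIdeal.primeCompl hη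
    haveI := hB.isNoetherianRing
    haveI : ∀ p, ((q p).asIdeal.map (algebraMap B (Localization.AtPrime m.asIdeal))).IsPrime := fun p =>
      Ideal.isPrime_map_of_isLocalizationAtPrime m.asIdeal (hle p)
    let P : Fin (l.length + 1) → PrimeSpectrum (Localization.AtPrime m.asIdeal) := fun p =>
      ⟨(q p).asIdeal.map (algebraMap B _), inferInstance⟩
    have hcom : ∀ p, PrimeSpectrum.comap (algebraMap B (Localization.AtPrime m.asIdeal)) (P p) = q p := fun p =>
      PrimeSpectrum.ext (Ideal.under_map_of_isLocalizationAtPrime m.asIdeal (hle p))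
    let t : Dual.HD (Localization.AtPrime m.asIdeal) ((FlatBC.L B (Localization.AtPrime m.asIdeal)).obj η) i ≃ₗ[
        Localization.AtPrime m.asIdeal] LocalizedModule m.asIdeal.primeCompl (Dual.HD B η i) :=
      (FlatBC.hEquiv B (Localization.AtPrime m.asIdeal) _ _).trans
        (LocalizedModule.equivTensorProduct m.asIdeal.primeCompl _).symm
    have hP : ∀ p, P p ∈ Module.support (Localization.AtPrime m.asIdeal)
        (Dual.HD (Localization.AtPrime m.asIdeal) ((FlatBC.L B (Localization.AtPrime m.asIdeal)).obj η) i) := fun p => by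
      rw [t.support_eq, Groth.L04.support_localization]
      refine (show q p = _ from (hcom p).symm) ▸ (SchLocus.nontrivial_stalk_iff jU e (q p) i).1 ?_
      rw [hq]
      exact (c p).2
    haveI := (Module.nonempty_support_iff (R := Localization.AtPrime m.asIdeal)).1 ⟨_, hP 0⟩
    obtain ⟨d, -, -, -, hs⟩ := range_of_nontrivial _ hB hnm i inferInstance
    let l' : LTSeries (Module.support (Localization.AtPrime m.asIdeal)
        (Dual.HD (Localization.AtPrime m.asIdeal) ((FlatBC.L B (Localization.AtPrime m.asIdeal)).obj η) i)) :=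
      LTSeries.mk l.length (fun p => ⟨P p.rev, hP _⟩) (by
        refine Fin.strictMono_iff_lt_succ.2 fun p => ?_
        change P p.castSucc.rev < P p.succ.rev
        rw [Fin.rev_castSucc, Fin.rev_succ]
        refine lt_of_le_of_ne (Ideal.map_mono (hlt p.rev).le) fun h => (hlt p.rev).ne ?_
        rw [← hcom, ← hcom, h])
    have h1 : (l'.length : WithBot ℕ∞) ≤ Module.supportDim (Localization.AtPrime m.asIdeal)
        (Dual.HD (Localization.AtPrime m.asIdeal) ((FlatBC.L B (Localization.AtPrime m.asIdeal)).obj η) i) :=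
      Order.LTSeries.length_le_krullDim l'
    refine le_trans h1 (hs.trans ?_)
    exact_mod_cast (show (-i).toNat ≤ k by omega)
  have hcomp : ∀ Z ∈ irreducibleComponents X, topologicalKrullDim ↥Z = (n : WithBot ℕ∞) →
      Z ⊆ {x : X | Nontrivial ((DCoh.HD (a.obj W).obj (-(n : ℤ))).presheaf.stalk x)} := by
    intro Z hZ hZn
    obtain ⟨z, hz⟩ := QuasiSober.sober hZ.1 (isClosed_of_mem_irreducibleComponents _ hZ)
    obtain ⟨B, _, _, jU, _, η, q, m, rfl, -, -, hη, -, ⟨e⟩⟩ := exists_chart_closed ω hω hn adj W hW z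
    obtain ⟨i, hi⟩ := Groth.L29.SchLocus.exists_mem_support hη q
    rw [(HomD.evalShiftEquiv (W := η) i).support_eq] at hi
    have hnt := (SchLocus.nontrivial_stalk_iff jU e q i).2 hi
    have h := hrange i _ hnt
    obtain ⟨k, hk⟩ := Int.eq_ofNat_of_zero_le (show (0 : ℤ) ≤ -i by omega)
    have hsub : Z ⊆ {x : X | Nontrivial ((DCoh.HD (a.obj W).obj i).presheaf.stalk x)} :=
      hz.def ▸ closure_minimal (Set.singleton_subset_iff.2 hnt) (isClosed_supp_local ω hω adj W hW i)
    have h1 := hZn.ge.trans ((Groth.L22.SchemeDim.topologicalKrullDim_mono hsub).trans (hsupp i k hk.symm))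
    have h2 : n ≤ k := by exact_mod_cast h1
    obtain rfl : i = -(n : ℤ) := by omega
    exact hsub
  refine ⟨fun i hi => (Groth.L21.Mod.isZero_iff_stalk_subsingleton _).2 fun x =>
      not_nontrivial_iff_subsingleton.1 fun h => by
        have := hrange i x h
        omega,
    hsupp, ?_, fun x => ?_⟩
  · refine Set.Subset.antisymm (fun x hx => ?_) (Set.iUnion₂_subset fun Z hZ => hcomp Z hZ.1 hZ.2)
    obtain ⟨B, _, _, jU, _, η, q, m, rfl, hqm, -, hη, hnm, ⟨e⟩⟩ := exists_chart_closed ω hω hn adj W hW x
    have hq := (SchLocus.nontrivial_stalk_iff jU e q _).1 hx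
    haveI : Module.Flat B (Localization.AtPrime m.asIdeal) := IsLocalization.flat _ m.asIdeal.primeCompl
    have hB := FlatBC.isDualizing_L_localization (B := Localization.AtPrime m.asIdeal) m.asIdeal.primeCompl hη
    haveI := hB.isNoetherianRing
    let t : Dual.HD (Localization.AtPrime m.asIdeal) ((FlatBC.L B (Localization.AtPrime m.asIdeal)).obj η) (-(n : ℤ)) ≃ₗ[
        Localization.AtPrime m.asIdeal] LocalizedModule m.asIdeal.primeCompl (Dual.HD B η (-(n : ℤ))) :=
      (FlatBC.hEquiv B (Localization.AtPrime m.asIdeal) _ _).trans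
        (LocalizedModule.equivTensorProduct m.asIdeal.primeCompl _).symm
    haveI : (q.asIdeal.map (algebraMap B (Localization.AtPrime m.asIdeal))).IsPrime :=
      Ideal.isPrime_map_of_isLocalizationAtPrime m.asIdeal hqm
    let P : PrimeSpectrum (Localization.AtPrime m.asIdeal) := ⟨q.asIdeal.map (algebraMap B _), inferInstance⟩
    have hcom : PrimeSpectrum.comap (algebraMap B (Localization.AtPrime m.asIdeal)) P = q :=
      PrimeSpectrum.ext (Ideal.under_map_of_isLocalizationAtPrime m.asIdeal hqm)
    have hP : P ∈ Module.support (Localization.AtPrime m.asIdeal)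
        (Dual.HD (Localization.AtPrime m.asIdeal) ((FlatBC.L B (Localization.AtPrime m.asIdeal)).obj η) (-(n : ℤ))) := by
      rw [t.support_eq, Groth.L04.support_localization]
      exact (show q = _ from hcom.symm) ▸ hq
    haveI := (Module.nonempty_support_iff (R := Localization.AtPrime m.asIdeal)).1 ⟨P, hP⟩
    rw [(Groth.Agent.S0369.result _ _ hB hnm n
      ((hasSk_two_of_dim_le _ hB hnm n (hloc jU m)).2 inferInstance)).1] at hP
    obtain ⟨Q, hQ, hQP, hQd⟩ := hP
    haveI : Q.IsPrime := hQ.1.1
    obtain ⟨Z, hZ, hZd, hxZ⟩ := exists_component jU n hdim.le m Q q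
      ((Ideal.comap_mono hQP).trans (congrArg PrimeSpectrum.asIdeal hcom).le) hQd.ge
    exact Set.mem_iUnion₂.2 ⟨Z, ⟨hZ, hZd⟩, hxZ⟩
  · obtain ⟨B, _, _, jU, _, η, q, m, rfl, hqm, -, hη, hnm, ⟨e⟩⟩ := exists_chart_closed ω hω hn adj W hW x
    haveI : Module.Flat B (Localization.AtPrime m.asIdeal) := IsLocalization.flat _ m.asIdeal.primeCompl
    have hB := FlatBC.isDualizing_L_localization (B := Localization.AtPrime m.asIdeal) m.asIdeal.primeCompl hη
    haveI := hB.isNoetherianRing
    exact hasSk_stalk jU e q m hqm hη (hasSk_two_of_dim_le _ hB hnm n (hloc jU m)).1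

end Groth.Agent.S3677
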