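import Groth.Statements.S3671
import Groth.Agent.Lead.CMPoint.Loc
import Groth.Agent.L10.ShriekLoc.Omega
import Groth.Agent.L29.Dual.SchLocus
import Groth.Agent.L29.DCoh.RHomCoh
import Groth.Agent.S8947
import Groth.Agent.S1783
import Groth.Agent.S7407


set_option autoImplicit false
universe u
open CategoryTheory CategoryTheory.Limits AlgebraicGeometry
attribute [local instance] HasDerivedCategory.standard
open Dual3

namespace Groth.Agent.S3671

/-- Let S be a Noetherian scheme, X and Y schemes separated and of finite type over S and f : X → Y a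
morphism over S; compute f^! through a compactification f = j ∘ p (j : X → X' an open immersion, p :
X' → Y proper, Rp_* on D_QCoh assumed to exist and to preserve quasi-coherence of cohomology, a a
right adjoint of Rp_*, restriction of modules to opens assumed exact), so that f^!K = a(K)|_X. Let O
be the structure sheaf of Y in degree 0, x a point of X with y = f(x), and r a natural number.
Assume O_{Y,y} is Cohen–Macaulay and trdeg_{κ(f ξ)} κ(ξ) ≤ r for every generic point ξ of an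
irreducible component of X containing x. Then a nonzero stalk of H^i(f^!O) at x forces -r ≤ i, and
the stalk of H^{-r}(f^!O) at x satisfies Serre's condition (S_2) as an O_{X,x}-module. -/
theorem result (S X Y : Scheme.{u}) [IsNoetherian S] (p : X ⟶ S) (q : Y ⟶ S) [Dual3.IsSepFT p] [Dual3.IsSepFT q] (f : X ⟶ Y) (w : f ≫ q = p) (c : DEt.Compactification f) [DCoh.HasRpush c.fbar] (hc : DCoh.RpushPreservesQCoh c.fbar) (a : DCoh.DQCoh Y ⥤ DCoh.DQCoh c.Xbar) (adj : DCoh.RpushQ c.fbar hc ⊣ a) [∀ (U V : Scheme.{u}) (j : U ⟶ V) [IsOpenImmersion j], PreservesFiniteLimits (Scheme.Modules.restrictFunctor j)] (O : DCoh.DQCoh Y) (hO : Nonempty (O.obj ≅ DCoh.inD Y (Coh.structureModule Y))) (x : X) (r : ℕ) (hCM : LocCoh.IsCohenMacaulayLocalRing (Y.presheaf.stalk (f x))) (htr : ∀ Z : Set X, Z ∈ irreducibleComponents X → x ∈ Z → ∀ ξ : X, closure ({ξ} : Set X) = Z → Dual3.resTrdeg f ξ ≤ (r : Cardinal.{u})) : (∀ i : ℤ, Nontrivial ((DCoh.HD ((Dual3.shriekC c a).obj O) i).presheaf.stalk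 x) → -(r : ℤ) ≤ i) ∧ LocCoh.HasSk 2 (X.presheaf.stalk x) ((DCoh.HD ((Dual3.shriekC c a).obj O) (-(r : ℤ))).presheaf.stalk x) := by
  open Groth.L29 Groth.L29.DC Groth.L10.ShriekLoc L02.FibDepth in
  haveI := fun {A B : Scheme.{u}} (k : A ⟶ B) => Groth.L00.KFlat.hasLpull k
  haveI := fun (R : CommRingCat.{u}) => Groth.L18.TildeF.tilde_preservesFiniteLimits (R := R)
  haveI : IsNoetherian Y := isNoetherian_of_sepFT q
  haveI : IsNoetherian X := isNoetherian_of_sepFT p
  haveI : LocallyOfFiniteType f := locallyOfFiniteType_of_sepFT w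
  -- avoid the components not through `x`
  let F : Set X := ⋃ Z ∈ {Z ∈ irreducibleComponents X | x ∉ Z}, Z
  have hF : IsClosed F := by
    refine Set.Finite.isClosed_biUnion ?_ fun Z hZ => isClosed_of_mem_irreducibleComponents Z hZ.1
    exact TopologicalSpace.NoetherianSpace.finite_irreducibleComponents.subset fun Z hZ => hZ.1
  have hxF : x ∉ F := fun h => by
    obtain ⟨Z, hZ, hxZ⟩ := Set.mem_iUnion₂.1 h
    exact hZ.2 hxZ
  obtain ⟨_, ⟨V, hV, rfl⟩, hxV, -⟩ :=
    Y.isBasis_affineOpens.exists_subset_of_mem_open (Set.mem_univ (f x)) isOpen_univ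
  obtain ⟨_, ⟨U, hU, rfl⟩, hxU, hle⟩ :=
    X.isBasis_affineOpens.exists_subset_of_mem_open (show x ∈ ((f ⁻¹ᵁ V : X.Opens) : Set X) ∩ Fᶜ from ⟨hxV, hxF⟩)
      ((f ⁻¹ᵁ V).2.inter hF.isOpen_compl)
  letI : Algebra Γ(Y, V) Γ(X, U) := (f.appLE V U (fun y hy => (hle hy).1)).hom.toAlgebra
  let C : Chart f := { R := Γ(Y, V), A := Γ(X, U), jV := hV.fromSpec, jU := hU.fromSpec,
                       w := (IsAffineOpen.SpecMap_appLE_fromSpec f hV hU (fun y hy => (hle hy).1)).symm }
  obtain ⟨z, hz⟩ : x ∈ Set.range C.jU := by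
    show x ∈ Set.range hU.fromSpec
    rw [hU.range_fromSpec]
    exact hxU
  haveI := isNoetherian_R C
  haveI := isNoetherian_A C
  obtain ⟨n, ψ, hψ, _, Rψ, adjψ, ⟨e⟩⟩ := exists_omega c adj O hO C
  let π : Spec (CommRingCat.of C.A) ⟶ Spec (CommRingCat.of C.R) :=
    Spec.map (CommRingCat.ofHom (algebraMap C.R C.A))
  have hfz : f (C.jU z) = C.jV (π z) := by
    rw [← Scheme.Hom.comp_apply, C.w, Scheme.Hom.comp_apply]
  haveI hcm : LocCoh.IsCohenMacaulayLocalRing (Localization.AtPrime (π z).asIdeal) :=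
    (SchLocus.cm_stalk_iff C.jV (π z)).1 (by rw [← hfz, hz]; exact hCM)
  have hr : ∀ Q : PrimeSpectrum C.A, Q.asIdeal ∈ minimalPrimes C.A → Dual3.resTrdeg π Q ≤ (r : Cardinal.{u}) := by
    intro Q hQ
    let Q' : Spec (CommRingCat.of C.A) := Q
    let Z : Set X := closure {C.jU Q'}
    obtain ⟨η, hη⟩ : ∃ η : X, IsGenericPoint η (irreducibleComponent (C.jU Q')) :=
      QuasiSober.sober isIrreducible_irreducibleComponent isClosed_irreducibleComponent
    have hsp : η ⤳ C.jU Q' := hη.specializes mem_irreducibleComponent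
    obtain ⟨Q₁, hQ₁⟩ : η ∈ Set.range C.jU := hsp.mem_open C.jU.isOpenEmbedding.isOpen_range ⟨Q', rfl⟩
    have hle₁ : Q₁.asIdeal ≤ Q'.asIdeal := (PrimeSpectrum.le_iff_specializes Q₁ Q').2
      (C.jU.isOpenEmbedding.isEmbedding.isInducing.specializes_iff.1 (by rw [hQ₁]; exact hsp))
    have hQQ : Q₁ = Q' := PrimeSpectrum.ext (le_antisymm hle₁ (hQ.2 ⟨Q₁.isPrime, bot_le⟩ hle₁))
    have hZ : closure ({C.jU Q'} : Set X) = irreducibleComponent (C.jU Q') := by
      rw [← hQQ, hQ₁]
      exact hη.def.trans (by rw [← hQ₁, hQQ])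
    have hmem : irreducibleComponent (C.jU Q') ∈ irreducibleComponents X :=
      irreducibleComponent_mem_irreducibleComponents _
    have hxZ : C.jU z ∈ irreducibleComponent (C.jU Q') := by
      by_contra hn
      have hU' : C.jU Q' ∈ (U : Set X) := hU.range_fromSpec.le ⟨Q', rfl⟩
      exact (hle hU').2 (Set.mem_biUnion (s := {Z ∈ irreducibleComponents X | x ∉ Z}) ⟨hmem, hz ▸ hn⟩
        mem_irreducibleComponent)
    exact le_of_eq_of_le
      (Groth.Agent.S7407.result f π C.jU C.jV C.w.symm Q').symm (htr _ hmem (hz ▸ hxZ) (C.jU Q') hZ)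
  obtain ⟨hlow, hSk⟩ := Groth.Agent.S8947.result C.R C.A n ψ hψ Rψ adjψ (π z).asIdeal r hr
  have hd : Disjoint ((Algebra.algebraMapSubmonoid C.A (π z).asIdeal.primeCompl) : Set C.A) (z.asIdeal : Set C.A) := by
    rw [Set.disjoint_left]
    rintro _ ⟨a', ha', rfl⟩ hmem
    exact ha' hmem
  obtain ⟨r'⟩ := nonempty_Lpull_iso_restrictD C.jU ((Dual3.shriekC c a).obj O)
  have hfin : ∀ i : ℤ, Module.Finite C.A (Dual.HD C.A (Dual2.shriekVia n Rψ (Dual.inD C.R C.R)) i) := by
    refine (Groth.Agent.S1783.result C.R C.A n ψ hψ Rψ adjψ (Dual.inD C.R C.R) 0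
      (fun i hi => subsingleton_O C.R i hi)).2 fun i => ?_
    by_cases hi : i = 0
    · subst hi
      haveI : Module.Finite C.R ((𝟭 (ModuleCat.{u} C.R)).obj (ModuleCat.of C.R C.R)) := Module.Finite.self C.R
      exact Module.Finite.equiv ((DerivedCategory.singleFunctorCompHomologyFunctorIso (ModuleCat.{u} C.R) 0).app
        (ModuleCat.of C.R C.R)).toLinearEquiv.symm
    · haveI : Subsingleton (Dual.HD C.R (Dual.inD C.R C.R) i) := by
        rcases lt_or_gt_of_ne hi with h | h
        · exact subsingleton_O C.R i h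
        · exact ModuleCat.subsingleton_of_isZero (DerivedCategory.isZero_of_isLE _ 0 i h)
      exact inferInstance
  haveI := hfin
  rw [← hz]
  refine ⟨fun i hi => hlow i (Groth.Lead.CMPoint.nontrivial_of_mem_support _ _ z hd
    ((nontrivial_stalk C ⟨e⟩ z i).1 hi)), ?_⟩
  obtain ⟨E⟩ := nonempty_semi_chart (R := CommRingCat.of C.A) C.jU (DCoh.HD ((Dual3.shriekC c a).obj O) (-(r : ℤ)))
    (show ModuleCat.{u} (CommRingCat.of C.A) from (Groth.L02.PC.HH (-(r : ℤ))).obj _)
    ((HDResIso C.jU _ _).symm ≪≫ (DerivedCategory.homologyFunctor _ _).mapIso (r'.symm ≪≫ e) ≪≫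
      TildeAlg.hdIso (R := CommRingCat.of C.A) _ _) z
  haveI : Module.Finite (Localization.AtPrime z.asIdeal)
      (LocalizedModule z.asIdeal.primeCompl (Dual.HD C.A (Dual2.shriekVia n Rψ (Dual.inD C.R C.R)) (-(r : ℤ)))) :=
    Module.Finite.of_isLocalizedModule z.asIdeal.primeCompl (LocalizedModule.mkLinearMap z.asIdeal.primeCompl _)
  exact (E.hasSk_iff 2).1 (Groth.Lead.CMPoint.hasSkAt_of_localization _ _ hSk z.asIdeal hd)


end Groth.Agent.S3671
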