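import Groth.Statements.S19826
import Groth.Agent.L10.RelCan.Reflexive
import Groth.Agent.L10.RelCan.CMEnd
import Groth.Agent.L16.ProjSpace.Twist

set_option autoImplicit false
set_option linter.style.haveILetI false
set_option maxHeartbeats 800000
set_option backward.defeqAttrib.useBackward true
set_option backward.isDefEq.respectTransparency.types false
set_option backward.isDefEq.respectTransparency false
set_option backward.defeqAttrib.useBackward true
set_option backward.isDefEq.respectTransparency false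
universe u
open QGor

namespace Groth.Agent.S19826

open CategoryTheory AlgebraicGeometry in
/-- For a proper S₂-morphism Y → Spec A to a Noetherian affine base, of pure relative dimension d, with
relative canonical sheaf ω (characterised by the d-dualizing property over A), the sheaf of
endomorphisms 𝓗om_{O_Y}(ω, ω) is isomorphic to O_Y. (Existence of an isomorphism of O_Y-modules
only: the map O_Y → 𝓗om(ω, ω) by scalar multiplication is not named here.) -/
theorem result
    (A : Type u) [CommRing A] [IsNoetherianRing A] (Y : Scheme.{u}) [Y.Over (Spec (CommRingCat.of A))]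
    [IsProper (Y ↘ Spec (CommRingCat.of A))] (d : ℕ)
    (hS : RelCanon.IsSkMor (Y ↘ Spec (CommRingCat.of A)) 2) (hd : Cyc.HasRelDim (Y ↘ Spec (CommRingCat.of A)) d)
    (ω : Y.Modules) (hω : RelCanon.IsDualizingSheaf A Y d ω) :
    Nonempty (RefHull.homSh ω ω ≅ Coh.structureModule Y) := by
  classical
  let f := Y ↘ Spec (CommRingCat.of A)
  haveI := hS.1
  haveI : IsLocallyNoetherian Y := LocallyOfFiniteType.isLocallyNoetherian f
  have hωc : Coh.IsCoh ω := (Groth.L10.RelCan.isCoh_and_nontrivial d hd ω hω).1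
  haveI : Coh.IsQCoh ω := hωc.1
  let E := RefHull.homSh ω ω
  have hO : Coh.IsCoh (Coh.structureModule Y) := Groth.L16.CohClosedPush.isCoh_structure
  haveI : Coh.IsQCoh (Coh.structureModule Y) := hO.1
  haveI : Coh.IsQCoh E := (Groth.L15.Ref.isCoh_homSh ω ω hωc hωc).1
  let φ : Coh.structureModule Y ⟶ E :=
    Groth.L16.homOfSection E (RefHull.ofHom (CategoryStruct.id ω) ⊤)
  have hφ : ∀ (x : Y) (a : Y.presheaf.stalk x),
      Groth.L10.RelCan.homE hωc x (Groth.L10.RelCan.stk φ x (Groth.L15.Ref.strE x a)) =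
        a • (LinearMap.id : ω.presheaf.stalk x →ₗ[Y.presheaf.stalk x] ω.presheaf.stalk x) := fun x a => by
    have h1 : Groth.L10.RelCan.stk φ x (Groth.L21.RR.one Y x) =
        E.presheaf.germ ⊤ x trivial (RefHull.ofHom (CategoryStruct.id ω) ⊤) := by
      refine (Groth.L21.Mod.stalkF_map_germ φ ⊤ x trivial (Groth.L21.RR.oneSec Y)).trans (congrArg _ ?_)
      refine (Groth.L16.homOfSection_app E _ ⊤ _).trans ?_
      show (1 : Γ(Y, ⊤)) • E.presheaf.map (homOfLE (le_refl (⊤ : Y.Opens))).op _ = _
      rw [one_smul]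
      rfl
    show Groth.L10.RelCan.homE hωc x (Groth.L10.RelCan.stk φ x (a • Groth.L21.RR.one Y x)) = _
    rw [map_smul, map_smul, h1]
    refine congrArg (a • ·) ?_
    show RefHull.evalStalk ω ω x _ = _
    rw [RefHull.evalStalk_germ, RefHull.ofHom_apply]
    refine LinearMap.ext fun v => ?_
    obtain ⟨V, hV, m, rfl⟩ := TopCat.Presheaf.exists_germ_eq ω.presheaf v
    rw [RefHull.stalkMapₗ_germ]
    rfl
  have hcm : ∀ x : Y, ¬ (2 : WithBot ℕ∞) ≤ ringKrullDim ((f.fiber (f x)).presheaf.stalk (f.asFiber x)) →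
      Function.Bijective (Groth.L10.RelCan.stk φ x) := fun x hdim => by
    haveI : LocallyOfFiniteType (f.fiberToSpecResidueField (f x)) :=
      MorphismProperty.pullback_snd f ((Spec (CommRingCat.of A)).fromSpecResidueField (f x)) inferInstance
    haveI : IsLocallyNoetherian (f.fiber (f x)) :=
      LocallyOfFiniteType.isLocallyNoetherian (f.fiberToSpecResidueField (f x))
    let Ov := (f.fiber (f x)).presheaf.stalk (f.asFiber x)
    have hk : LocCoh.HasSk 2 Ov Ov :=
      Groth.L29.SchStalk.hasSk_congr (Groth.L15.Ref.strE (f.asFiber x)).symm (hS.2.2 x)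
    have hx : MoreMor.IsCMAt f x := by
      refine ⟨(Flat.iff_flat_stalkMap f).1 inferInstance x, ?_⟩
      refine { supportDim_eq_depth := le_antisymm ?_ Groth.L04.depth_le_supportDim }
      rw [Module.supportDim_self_eq_ringKrullDim]
      have h3 := Groth.L19.SkLocal.min_le_depth_of_local hk
      have h4 : ringKrullDim Ov ≤ ((2 : ℕ) : WithBot ℕ∞) := by exact_mod_cast le_of_lt (not_le.1 hdim)
      rwa [min_eq_right h4] at h3
    have h := Groth.L10.RelCan.endIsScalar_stalk_of_cm hd ω hω x hx
    have h' : Function.Bijective (Groth.L10.RelCan.homE hωc x ∘ Groth.L10.RelCan.stk φ x ∘ Groth.L15.Ref.strE x) := by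
      convert (show Function.Bijective _ from h) using 1
      exact funext (hφ x)
    rw [Function.Bijective.of_comp_iff' (Groth.L10.RelCan.homE hωc x).bijective,
      Function.Bijective.of_comp_iff _ (Groth.L15.Ref.strE x).bijective] at h'
    exact h'
  have hpair := fun (x : Y) (hdim : (2 : WithBot ℕ∞) ≤ ringKrullDim ((f.fiber (f x)).presheaf.stalk (f.asFiber x))) =>
    Groth.L10.RelCan.exists_pair_stalk f hS x hdim
  haveI : Mono φ := Groth.L10.RelCan.mono_of_noTors φ fun x => by
    by_cases hdim : (2 : WithBot ℕ∞) ≤ ringKrullDim ((f.fiber (f x)).presheaf.stalk (f.asFiber x))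
    · obtain ⟨b, hbm, c, -, hb, -⟩ := hpair x hdim
      exact .inr (Groth.L10.RelCan.noTors_of_regular hbm (((Groth.L15.Ref.strE x).isSMulRegular_congr b).1 hb))
    · exact .inl (hcm x hdim).1
  haveI : Epi φ := Groth.L10.RelCan.epi_of_pairs φ fun x => by
    by_cases hdim : (2 : WithBot ℕ∞) ≤ ringKrullDim ((f.fiber (f x)).presheaf.stalk (f.asFiber x))
    · obtain ⟨b, hbm, c, hcm', hb, hc⟩ := hpair x hdim
      refine .inr ⟨Groth.L10.RelCan.noTors_homSh hωc x
        (Groth.L10.RelCan.noTors_dualizing hd ω hω x (le_trans (by norm_num) hdim)), b, hbm, c, hcm', ?_, ?_⟩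
      · exact ((Groth.L15.Ref.strE x).isSMulRegular_congr b).1 hb
      · exact ((QuotSMulTop.congr b (Groth.L15.Ref.strE x)).isSMulRegular_congr c).1 hc
    · exact .inl (hcm x hdim).2
  haveI := isIso_of_mono_of_epi φ
  exact ⟨(asIso φ).symm⟩

end Groth.Agent.S19826
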