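import Groth.Statements.S0368
import Groth.Agent.L29.Dual.Depth

set_option autoImplicit false
universe u v
open CategoryTheory
attribute [local instance] HasDerivedCategory.standard
open Dual

namespace Groth.Agent.S0368

/-- (1)⇔(3): for a Noetherian local ring with normalized dualizing complex ω, a nonzero finite module M
with support of dimension d is Cohen–Macaulay exactly when Hom(M, ω[−i]) vanishes in D(A) for every
i ≠ d. -/
theorem result (A : Type u) [CommRing A] [IsLocalRing A] [IsNoetherianRing A] (ω : Dual.D A) (hω : Dual.IsDualizing A ω) (hn : Dual.IsNormalized A ω) (M : Type u) [AddCommGroup M] [Module A M] [Module.Finite A M] [Nontrivial M] (d : ℕ) (hd : Module.supportDim A M = d) : LocCoh.IsCohenMacaulayModule A M ↔ ∀ i : ℤ, i ≠ d → Subsingleton (Dual.inD A M ⟶ ω⟦(-i)⟧) := by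
  obtain ⟨m, hm, h1, h2⟩ := Groth.L29.HomD.depth_spec hω hn M
  have hgood := Groth.L29.HomD.good_of_isDualizing hω
  have hb := fun i => (Groth.L29.HomD.bound ω hgood hn d M hd.le i).1
  have hmd : m ≤ d := by
    by_contra h
    exact not_subsingleton_iff_nontrivial.2 h2 (hb (-(m : ℤ)) (by lia))
  unfold LocCoh.IsCohenMacaulayModule
  rw [hm, hd]
  constructor
  · intro h i hi
    obtain rfl : d = m := by exact_mod_cast h
    rcases lt_or_ge i 0 with hi0 | hi0
    · exact hb (-i) (by lia)
    rcases lt_or_gt_of_ne hi with hlt | hgt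
    · obtain ⟨δ, rfl⟩ : ∃ δ : ℕ, i = (δ : ℤ) := ⟨i.toNat, by lia⟩
      exact h1 δ (by exact_mod_cast hlt)
    · exact hb (-i) (by lia)
  · intro h
    obtain rfl : d = m := by
      by_contra hne
      exact not_subsingleton_iff_nontrivial.2 h2 (h m (by exact_mod_cast Ne.symm hne))
    rfl

end Groth.Agent.S0368
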