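import Groth.Statements.S1767
import Groth.Agent.L29.DCoh.Gen.Amp
import Groth.Agent.L29.DCoh.Cpt.QCoh

set_option autoImplicit false
set_option backward.isDefEq.respectTransparency false
universe u
open CategoryTheory CategoryTheory.Limits AlgebraicGeometry
attribute [local instance] HasDerivedCategory.standard
open Dual

namespace Groth.Agent.S1767

/-- Let f : X → Y be a morphism between quasi-compact quasi-separated schemes. Assume the derived direct
image Rf_* exists and preserves quasi-coherence of cohomology sheaves (both known results), so that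
it restricts to a functor D_QCoh(O_X) → D_QCoh(O_Y), and let a : D_QCoh(O_Y) → D_QCoh(O_X) be a
right adjoint of this restricted functor. Then there is an integer N ≥ 0 such that for every K in
D_QCoh(O_Y) and every integer c, if H^i(K) = 0 for all i ≤ c then H^i(a(K)) = 0 for all i ≤ c − N;
in particular a sends bounded-below objects to bounded-below objects. -/
theorem result (X Y : Scheme.{u}) [CompactSpace X] [QuasiSeparatedSpace X] [CompactSpace Y] [QuasiSeparatedSpace Y] (f : X ⟶ Y) [DCoh.HasRpush f] (h : ∀ K : DCoh.D X, DCoh.IsQCohD K → DCoh.IsQCohD ((DCoh.Rpush f).obj K)) (a : DCoh.DQCoh Y ⥤ DCoh.DQCoh X) (adj : (ObjectProperty.lift DCoh.IsQCohD (ObjectProperty.ι DCoh.IsQCohD ⋙ DCoh.Rpush f) (fun K => h K.obj K.property)) ⊣ a) : ∃ N : ℕ, ∀ (K : DCoh.DQCoh Y) (c : ℤ), (∀ i : ℤ, i ≤ c → IsZero (DCoh.HD K.obj i)) → ∀ i : ℤ, i ≤ c - N → IsZero (DCoh.HD (a.obj K).obj i) := by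
  obtain ⟨N, hN⟩ := Groth.L29.DC.Gen.exists_amp f
  refine ⟨N, fun K c hK i hi => ?_⟩
  let t := DerivedCategory.TStructure.t (C := X.Modules)
  let tY := DerivedCategory.TStructure.t (C := Y.Modules)
  let M := (a.obj K).obj
  let b : ℤ := c - N + 1
  let E : DCoh.DQCoh X := ⟨(t.truncLT b).obj M, Groth.L29.DC.Cpt.isQCohD_truncLT (a.obj K).property b⟩
  have hle : E.obj.IsLE (c - N) := t.isLE_truncLT_obj _ _ _ (by omega)
  let g : E ⟶ a.obj K := ObjectProperty.homMk ((t.truncLTι b).app M)
  have hg : g = 0 := by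
    apply (adj.homEquiv E K).symm.injective
    haveI h1 : tY.IsLE ((DCoh.Rpush f).obj E.obj) c := by
      have := hN E.obj E.property (c - N) hle
      rwa [show c - (N : ℤ) + N = c by omega] at this
    haveI h2 : tY.IsGE K.obj (c + 1) :=
      (DerivedCategory.isGE_iff _ _).2 fun j hj => hK j (by omega)
    have hz : ∀ φ : (DCoh.Rpush f).obj E.obj ⟶ K.obj, φ = 0 := fun φ => tY.zero φ c (c + 1) (by omega)
    exact ObjectProperty.hom_ext _ ((hz _).trans (hz _).symm)
  have h0 : (t.truncLTι b).app M = 0 := congrArg (fun k : E ⟶ a.obj K => k.hom) hg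
  have hiso := Groth.L10.isIso_H_ι (A := X.Modules) b i (by omega) M
  rw [h0, Functor.map_zero] at hiso
  refine (IsZero.iff_id_eq_zero _).2 ?_
  haveI := hiso
  rw [← IsIso.inv_hom_id (0 : (DerivedCategory.homologyFunctor X.Modules i).obj ((t.truncLT b).obj M) ⟶
    (DerivedCategory.homologyFunctor X.Modules i).obj M)]
  exact comp_zero

end Groth.Agent.S1767
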