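import Groth.Statements.S6200
import Groth.Agent.L29.DCoh.Amplitude
import Groth.Agent.L10.DRing.TorTest
import Groth.Agent.L10.DRing.Amp
set_option linter.style.haveILetI false
set_option backward.isDefEq.respectTransparency false
set_option backward.isDefEq.respectTransparency.types false
set_option backward.defeqAttrib.useBackward true

set_option autoImplicit false
universe u
open CategoryTheory CategoryTheory.Limits AlgebraicGeometry
attribute [local instance] HasDerivedCategory.standard
open KSix

namespace Groth.Agent.S6200

/-- For the identity morphism of a scheme: let X be a scheme and E ∈ D⁻(O_X) be given by a cochain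
complex F. Then E has tor amplitude in [a, b] in the absolute sense (it is isomorphic in D(O_X) to a
complex of flat O_X-modules placed in [a, b]) if and only if at every point x the complex of stalks
F_x has tor amplitude in [a, b] over the local ring of X at x (tor amplitude relative to the
identity of X, stalkwise form). (The published statement is for a morphism of ringed topoi with
enough points and tor amplitude over the inverse image of the structure sheaf of the base; this row
is the case of the identity of a scheme.) -/
theorem result {X : Scheme.{u}} (F : CochainComplex X.Modules ℤ) (d : ℤ)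
    [(DCoh.toD X F).IsLE d] (a b : ℤ) :
    DCoh.HasFlatAmplitudeIn a b (DCoh.toD X F) ↔ DerSch.HasTorAmplitude (𝟙 X) a b F := by
  let ν : ∀ x : X, DerSch.stalkOver (𝟙 X) x ≅ Groth.L00.Stk.F X x := fun x =>
    NatIso.ofComponents (fun M => LinearEquiv.toModuleIso
        (X₁ := ((DerSch.stalkOver (𝟙 X) x).obj M : Type u)) (X₂ := ((Groth.L00.Stk.F X x).obj M : Type u))
        { AddEquiv.refl (M.presheaf.stalk x) with
          map_smul' := fun r m => by
            change ((𝟙 X : X ⟶ X).stalkMap x).hom r • (show M.presheaf.stalk x from m) =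
              (show X.presheaf.stalk x from r) • (show M.presheaf.stalk x from m)
            rw [Scheme.Hom.stalkMap_id]
            rfl })
      fun φ => rfl
  let S := fun x : X => (Groth.L00.Stk.F X x).mapHomologicalComplex (ComplexShape.up ℤ)
  have key : DerSch.HasTorAmplitude (𝟙 X) a b F ↔
      ∀ x : X, DRing.HasTorAmplitudeIn (X.presheaf.stalk x) a b (DRing.toD ((S x).obj F)) := by
    refine forall_congr' fun x => ?_
    let e := DerivedCategory.Q.mapIso ((NatIso.mapHomologicalComplex (ν x) (ComplexShape.up ℤ)).app F)
    exact ⟨fun h => Groth.L10.DR.amp_of_iso e h, fun h => Groth.L10.DR.amp_of_iso e.symm h⟩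
  rw [key]
  constructor
  · rintro ⟨E, hv, hf, ⟨e⟩⟩ x
    let R := Groth.L00.Stk.F X x
    refine Groth.L10.DR.amp_of_iso ((R.mapDerivedCategoryFactors.app E).symm ≪≫ R.mapDerivedCategory.mapIso e ≪≫
      R.mapDerivedCategoryFactors.app F) ?_
    exact ⟨(S x).obj E, fun n hn => R.map_isZero (hv n hn), fun n => hf n x, ⟨Iso.refl _⟩⟩
  · intro h
    let K := DCoh.toD X F
    have hz : ∀ i, i < a ∨ b < i → IsZero (DCoh.HD K i) := fun i hi => by
      refine IsZero.of_iso ?_ ((DerivedCategory.homologyFunctorFactors X.Modules i).app F)
      refine (Groth.L00.Stk.acyclic_iff F i).2 fun x => ?_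
      obtain ⟨E, hE, -, ⟨eE⟩⟩ := h x
      refine IsZero.of_iso (ShortComplex.isZero_homology_of_isZero_X₂ (E.sc i) (hE i hi)) ?_
      exact ((DerivedCategory.homologyFunctorFactors _ i).app _).symm ≪≫
        (DerivedCategory.homologyFunctor _ i).mapIso eE.symm ≪≫ (DerivedCategory.homologyFunctorFactors _ i).app E
    obtain ⟨P, hP, -, hf, ⟨eP⟩⟩ := Groth.L29.DC.exists_flat_representative_le K b fun i hi => hz i (Or.inr hi)
    haveI := hP
    haveI : P.IsGE a := (CochainComplex.isGE_iff P a).2 fun i hi =>
      (HomologicalComplex.exactAt_iff_isZero_homology _ _).2 ((hz i (Or.inl hi)).of_iso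
        (((DerivedCategory.homologyFunctorFactors X.Modules i).app P).symm ≪≫
          (DerivedCategory.homologyFunctor X.Modules i).mapIso eP))
    haveI : IsIso (DerivedCategory.Q.map (P.πTruncGE a)) :=
      (DerivedCategory.isIso_Q_map_iff_quasiIso _ _).2 inferInstance
    refine ⟨P.truncGE a, fun i hi => ?_, fun i => ?_, ⟨(asIso (DerivedCategory.Q.map (P.πTruncGE a))).symm ≪≫ eP⟩⟩
    · rcases hi with hi | hi
      · exact CochainComplex.isZero_of_isStrictlyGE (P.truncGE a) a i hi
      · by_cases hia : i < a
        · exact CochainComplex.isZero_of_isStrictlyGE (P.truncGE a) a i hia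
        rcases (not_lt.1 hia).lt_or_eq with hlt | rfl
        · exact (CochainComplex.isZero_of_isStrictlyLE P b i hi).of_iso (P.truncGEXIso a i hlt)
        · have h0 : IsZero (P.X a) := CochainComplex.isZero_of_isStrictlyLE P b a hi
          haveI : Epi (P.pOpcycles a) := inferInstance
          exact (IsZero.of_epi (P.pOpcycles a) h0).of_iso (P.truncGEXIsoOpcycles a)
    · rcases lt_trichotomy i a with hi | rfl | hi
      · exact Groth.L00.KFlat.isFlat_zero (CochainComplex.isZero_of_isStrictlyGE (P.truncGE a) a i hi)
      · refine Groth.L00.KFlat.isFlat_of_iso ((P.truncGEXIsoOpcycles i) ≪≫ (IsColimit.coconePointUniqueUpToIso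
          (P.opcyclesIsCokernel (i - 1) i (by simp)) (cokernelIsCokernel (P.d (i - 1) i)))).symm (fun x => ?_)
        let R := Groth.L00.Stk.F X x
        let Px : DRing.Cx (X.presheaf.stalk x) := (S x).obj P
        let e' : DRing.toD Px ≅ DRing.toD ((S x).obj F) :=
          (R.mapDerivedCategoryFactors.app P).symm ≪≫ R.mapDerivedCategory.mapIso eP ≪≫ R.mapDerivedCategoryFactors.app F
        have hPb : DRing.VanishesAbove Px b := fun n hn =>
          R.map_isZero (CochainComplex.isZero_of_isStrictlyLE P b n hn)
        have htz := ((Groth.L10.DR.amp_iff e' hPb (fun n => hf n x) i b).1 (h x)).1 (i - 1) (by omega)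
        let Sc : ShortComplex X.Modules := ShortComplex.mk (P.d (i - 1) i) (cokernel.π _) (cokernel.condition _)
        have hS : (Sc.map R).Exact :=
          (Sc.exact_of_g_is_cokernel (cokernelIsCokernel (P.d (i - 1) i))).map R
        haveI : Epi (R.map Sc.g) := by
          haveI : Epi Sc.g := inferInstanceAs (Epi (cokernel.π _))
          infer_instance
        haveI : Module.Flat (X.presheaf.stalk x) (R.obj (P.X i)) := hf i x
        refine Groth.L00.TorAmp.flat_of_shifted_exact (R.map (P.d (i - 1 - 1) (i - 1))).hom (R.map (P.d (i - 1) i)).hom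
          (R.map Sc.g).hom ((ShortComplex.ShortExact.moduleCat_exact_iff_function_exact _).1 hS)
          ((ModuleCat.epi_iff_surjective _).1 inferInstance) ?_ fun I _ => ?_
        · rw [← ModuleCat.hom_comp, ← Functor.map_comp, HomologicalComplex.d_comp_d, Functor.map_zero]
          rfl
        · exact (Groth.L10.DR.tensor_exact_iff Px (ModuleCat.of _ (X.presheaf.stalk x ⧸ I)) (i - 1 - 1) (i - 1) i
            (by omega) (by omega)).1 (htz _)
      · exact Groth.L00.KFlat.isFlat_of_iso (P.truncGEXIso a i hi).symm (hf i)

end Groth.Agent.S6200
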