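import Groth.Statements.S6187
import Groth.Agent.L10.DRing.TorRestrict
import Groth.Agent.L29.DCoh.Flat
set_option linter.style.haveILetI false
set_option backward.isDefEq.respectTransparency false
set_option backward.isDefEq.respectTransparency.types false
set_option backward.defeqAttrib.useBackward true

set_option autoImplicit false
universe u
open CategoryTheory CategoryTheory.Limits AlgebraicGeometry
attribute [local instance] HasDerivedCategory.standard
open KSix

namespace Groth.Agent.S6187

/-- Case of schemes: let f : X ⟶ Y and g : Y ⟶ Z be morphisms of schemes with composite h, let n be a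
natural number such that g has tor dimension at most n (the structure sheaf of Y has tor amplitude
in [-n, 0] relative to g, stalkwise), and let F be a cochain complex of O_X-modules with tor
amplitude in [a, b] relative to f (at every point x the complex of stalks F_x, over the local ring
of Y at f(x), is isomorphic in the derived category to a complex of flat modules placed in [a, b]).
Then F has tor amplitude in [a - n, b] relative to h. (The published statement is for a commutative
triangle of ringed topoi in which X has enough points; this row is the case of schemes, with tor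
amplitude relative to a morphism in its stalkwise form.) -/
theorem result {X Y Z : Scheme.{u}} (f : X ⟶ Y) (g : Y ⟶ Z) (h : X ⟶ Z)
    (w : f ≫ g = h) (n : ℕ) (hg : DerSch.HasTorDimLE g n) (F : CochainComplex X.Modules ℤ) (a b : ℤ)
    (hF : DerSch.HasTorAmplitude f a b F) :
    DerSch.HasTorAmplitude h (a - n) b F := by
  subst w
  intro x
  let y := f x
  let B := Y.presheaf.stalk y
  let A := Z.presheaf.stalk (g y)
  letI : Algebra A B := (g.stalkMap y).hom.toAlgebra
  let σ : B ≃ₗ[B] (Coh.structureModule Y).presheaf.stalk y := LinearEquiv.ofBijective
    (LinearMap.toSpanSingleton (Y.presheaf.stalk y) ((Coh.structureModule Y).presheaf.stalk y)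
      (Groth.L22.oneGerm y))
    ⟨(injective_iff_map_eq_zero _).2 fun a ha => Groth.L22.eq_zero_of_smul_oneGerm ha,
      Groth.L22.stalk_smul_oneGerm_surjective y⟩
  let e₁ : (DerSch.stalkOver g y).obj (Coh.structureModule Y) ≅ ModuleCat.of A B :=
    LinearEquiv.toModuleIso (X₁ := ((DerSch.stalkOver g y).obj (Coh.structureModule Y) : Type u))
      { σ.symm.toAddEquiv with
        map_smul' := fun a m => σ.symm.map_smul ((g.stalkMap y).hom a) (show (Coh.structureModule Y).presheaf.stalk y from m) }
  have hd : DRing.HasTorAmplitudeIn A (-(n : ℤ)) 0 (Dual.inD A B) :=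
    Groth.L10.DR.amp_of_iso
      (DerivedCategory.Q.mapIso ((HomologicalComplex.singleMapHomologicalComplex (DerSch.stalkOver g y) (ComplexShape.up ℤ) 0).app
          (Coh.structureModule Y)) ≪≫ ((DerivedCategory.singleFunctorIsoCompQ (ModuleCat.{u} A) 0).symm.app _) ≪≫
        (DerivedCategory.singleFunctor _ 0).mapIso e₁) (hg y)
  have h1 := Groth.L10.TorRestrict.amp_restrict n hd (DRing.toD ((DerSch.stalkCxOver f x).obj F)) a b (hF x)
  let e₂ : DerSch.stalkOver f x ⋙ ModuleCat.restrictScalars (algebraMap A B) ≅ DerSch.stalkOver (f ≫ g) x :=
    NatIso.ofComponents (fun M => LinearEquiv.toModuleIso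
        (X₁ := ((DerSch.stalkOver f x ⋙ ModuleCat.restrictScalars (algebraMap A B)).obj M : Type u))
        (X₂ := ((DerSch.stalkOver (f ≫ g) x).obj M : Type u))
        { AddEquiv.refl (M.presheaf.stalk x) with
          map_smul' := fun a m => by
            change (f.stalkMap x).hom ((g.stalkMap y).hom a) • (show M.presheaf.stalk x from m) =
              ((f ≫ g).stalkMap x).hom a • (show M.presheaf.stalk x from m)
            rw [Scheme.Hom.stalkMap_comp]
            rfl })
      fun φ => rfl
  refine Groth.L10.DR.amp_of_iso
    ((ModuleCat.restrictScalars (algebraMap A B)).mapDerivedCategoryFactors.app _ ≪≫ DerivedCategory.Q.mapIso ?_) h1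
  exact (NatIso.mapHomologicalComplex e₂ (ComplexShape.up ℤ)).app F

end Groth.Agent.S6187
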