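import Groth.Statements.S1719
import Groth.Agent.L29.Dual.DimFun

set_option autoImplicit false
universe u
open CategoryTheory
attribute [local instance] HasDerivedCategory.standard
open Dual

namespace Groth.Agent.S1719

/-- Let A be a Noetherian local ring with a normalized dualizing complex ω and p a minimal prime of A
with dim(A/p) = e. Then the cohomology module H^i(ω) localized at p is nonzero if and only if i =
−e. -/
theorem result (A : Type u) [CommRing A] [IsLocalRing A] [IsNoetherianRing A] (ω : Dual.D A) (hω : Dual.IsDualizing A ω) (hn : Dual.IsNormalized A ω) (p : Ideal A) (hp : p ∈ minimalPrimes A) (e : ℕ) (he : ringKrullDim (A ⧸ p) = e) (i : ℤ) : Nontrivial (LocalizedModule (Ideal.primeCompl p (hp := hp.1.1)) (Dual.HD A ω i)) ↔ i = -(e : ℤ) := by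
  haveI := hp.1.1
  let P : PrimeSpectrum A := ⟨p, hp.1.1⟩
  open Groth.L29.HomD in
  rw [show (i = -(e : ℤ)) ↔ i = -dimFun hω P by
    suffices dimFun hω P = (e : ℤ) by rw [this]
    let m : PrimeSpectrum A := IsLocalRing.closedPoint A
    have hm0 : dimFun hω m = 0 := by
      by_contra hne
      haveI : Subsingleton (Dual.inD A (A ⧸ m.asIdeal) ⟶ ω⟦-dimFun hω m⟧) := hn _ (by lia)
      exact (not_lz_iff_eq hω m _).2 rfl LZ.of_subsingleton
    refine le_antisymm ?_ ?_
    · by_contra hlt
      haveI := ((bound ω (good_of_isDualizing hω) hn e (A ⧸ p)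
        (by rw [Module.supportDim_quotient_eq_ringKrullDim, he])) (-dimFun hω P)).1
        (Or.inl (by lia))
      exact (not_lz_iff_eq hω P _).2 rfl LZ.of_subsingleton
    · rw [ringKrullDim_quotient] at he
      obtain ⟨l, hl⟩ := Order.le_krullDim_iff.1 he.ge
      let g : ℕ → ℤ := fun k => if h : k ≤ l.length then dimFun hω (l ⟨k, by lia⟩).1 + k else 0
      have hg : ∀ k, k ≤ l.length → g k ≤ g 0 := by
        intro k
        induction k with
        | zero => intro; exact le_rfl
        | succ k ihk =>
          intro hk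
          refine le_trans ?_ (ihk (by lia))
          have hlt : (l ⟨k, by lia⟩).1 < (l ⟨k + 1, by lia⟩).1 :=
            l.step ⟨k, by lia⟩
          have := dimFun_strictAnti hω hlt
          simp only [g, dif_pos hk, dif_pos (show k ≤ l.length by lia)]
          push_cast
          lia
      have h1 := hg l.length le_rfl
      simp only [g, dif_pos le_rfl, dif_pos (Nat.zero_le _), Nat.cast_zero, add_zero] at h1
      have h2 : dimFun hω m ≤ dimFun hω (l ⟨l.length, by lia⟩).1 :=
        (dimFun_strictAnti hω).antitone (IsLocalRing.le_maximalIdeal (l ⟨l.length, by lia⟩).1.2.ne_top)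
      have h3 : dimFun hω (l ⟨0, by lia⟩).1 ≤ dimFun hω P :=
        (dimFun_strictAnti hω).antitone (l ⟨0, by lia⟩).2
      lia]
  rw [← Groth.L29.HomD.not_lz_HD_iff hω P hp i, Groth.L29.HomD.lz_iff,
    not_subsingleton_iff_nontrivial]

end Groth.Agent.S1719
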