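import Groth.Statements.S7278
import Groth.Agent.Lead.TildeAmp
import Groth.Agent.Lead.FibreBounded
import Groth.Agent.L29.DCoh.TildeAlg
import Groth.Agent.L29.DCoh.TildeD
import Groth.Agent.L29.DCoh.QCohLocal
import Groth.Agent.L29.DCoh.PCDescent

set_option linter.style.haveILetI false
set_option backward.isDefEq.respectTransparency false
set_option backward.isDefEq.respectTransparency.types false
set_option backward.defeqAttrib.useBackward true


set_option autoImplicit false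
universe u
open CategoryTheory CategoryTheory.Limits AlgebraicGeometry Opposite
attribute [local instance] HasDerivedCategory.standard
open Perf

namespace Groth.Agent.S7278
noncomputable section

theorem amp_base_iff {Y Z T : Scheme.{u}} (g : Y ⟶ Z) (φ₀ : Z ⟶ T) [IsOpenImmersion φ₀]
    (G : CochainComplex Y.Modules ℤ) (x : Y) (a b : ℤ) :
    DerSch.HasTorAmplitudeAt (g ≫ φ₀) a b G x ↔ DerSch.HasTorAmplitudeAt g a b G x := by
  refine ⟨fun h => ?_, Groth.Lead.FibreBounded.ampAt_base g φ₀ G x a b⟩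
  let ε := (asIso (φ₀.stalkMap (g x))).commRingCatIsoToRingEquiv
  let ρ : Z.presheaf.stalk (g x) →+* T.presheaf.stalk ((g ≫ φ₀) x) := ε.symm.toRingHom
  have hρ : ρ.Flat := RingHom.Flat.of_bijective ε.symm.bijective
  have hc : (((g ≫ φ₀).stalkMap x).hom.comp ρ) = (g.stalkMap x).hom := RingHom.ext fun z => by
    rw [Scheme.Hom.stalkMap_comp]
    exact congrArg (g.stalkMap x).hom (ε.apply_symm_apply z)
  letI : Algebra (Z.presheaf.stalk (g x)) (T.presheaf.stalk ((g ≫ φ₀) x)) := ρ.toAlgebra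
  haveI : Module.Flat (Z.presheaf.stalk (g x)) (T.presheaf.stalk ((g ≫ φ₀) x)) := hρ
  obtain ⟨E, hEv, hE, ⟨e⟩⟩ := h
  let e' : Groth.L20.TorAmp.res (A := Z.presheaf.stalk (g x)) ((DerSch.stalkCxOver (g ≫ φ₀) x).obj G) ≅
      (DerSch.stalkCxOver g x).obj G :=
    ((NatIso.mapHomologicalComplex (Functor.isoWhiskerLeft (DerSch.stalkFunctor Y x)
      ((ModuleCat.restrictScalarsComp.{u} ρ ((g ≫ φ₀).stalkMap x).hom).symm ≪≫
        ModuleCat.restrictScalarsCongr hc)) (ComplexShape.up ℤ)).app G)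
  exact ⟨Groth.L20.TorAmp.res E, fun i hi => Functor.map_isZero (ModuleCat.restrictScalars.{u} _) (hEv i hi),
    fun i => (haveI := hE i; Groth.L20.TorAmp.flat_restrict (E.X i)),
    ⟨(Groth.L20.TorAmp.resIso E).symm ≪≫ (DRing.restrictD _).mapIso e ≪≫
      Groth.L20.TorAmp.resIso ((DerSch.stalkCxOver (g ≫ φ₀) x).obj G) ≪≫ DerivedCategory.Q.mapIso e'⟩⟩

variable {X S : Scheme.{u}} (f : X ⟶ S)

/-- amplitude of a tilde model on an affine chart -/
theorem chart_iff [∀ R : CommRingCat.{u}, PreservesFiniteLimits (tilde.functor R)] (G : CochainComplex X.Modules ℤ)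
    {U : X.Opens} (hU : IsAffineOpen U) {V : S.Opens} (hV : IsAffineOpen V) (hUV : U ≤ f ⁻¹ᵁ V)
    (M : DerivedCategory (ModuleCat.{u} Γ(X, U)))
    (e : (DCoh.restrictD hU.fromSpec).obj (DCoh.toD X G) ≅ (DCoh.tildeD Γ(X, U)).obj M) (a b : ℤ) :
    (∀ x ∈ U, DerSch.HasTorAmplitudeAt f a b G x) ↔
      DRing.HasTorAmplitudeIn Γ(S, V) a b ((DRing.restrictD (f.appLE V U hUV).hom).obj M) := by
  let φ := (f.appLE V U hUV).hom
  let j := hU.fromSpec
  let FY := ((Scheme.Modules.restrictFunctor j).mapHomologicalComplex (ComplexShape.up ℤ)).obj G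
  let K := DerivedCategory.Q.objPreimage M
  let eK : DRing.toD K ≅ M := DerivedCategory.Q.objObjPreimageIso M
  let eF : DCoh.toD _ FY ≅ (DCoh.tildeD (CommRingCat.of Γ(X, U))).obj (DRing.toD K) :=
    ((Scheme.Modules.restrictFunctor j).mapDerivedCategoryFactors.app G).symm ≪≫ e ≪≫
      (DCoh.tildeD Γ(X, U)).mapIso eK.symm
  have h1 : DerSch.HasTorAmplitude (Groth.Lead.TildeAmp.π φ) a b FY ↔
      DRing.HasTorAmplitudeIn Γ(S, V) a b ((DRing.restrictD φ).obj M) :=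
    (Groth.Lead.TildeAmp.hasTorAmplitude_iff φ K FY eF a b).trans
      ⟨Groth.L10.DR.amp_of_iso ((DRing.restrictD φ).mapIso eK),
        Groth.L10.DR.amp_of_iso ((DRing.restrictD φ).mapIso eK).symm⟩
  refine Iff.trans ?_ h1
  have hw : Groth.Lead.TildeAmp.π φ ≫ hV.fromSpec = j ≫ f := hV.SpecMap_appLE_fromSpec f hU hUV
  have key : ∀ y, DerSch.HasTorAmplitudeAt (Groth.Lead.TildeAmp.π φ) a b FY y ↔
      DerSch.HasTorAmplitudeAt f a b G (j y) := fun y => by
    have hb := amp_base_iff (Groth.Lead.TildeAmp.π φ) hV.fromSpec FY y a b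
    rw [hw] at hb
    exact hb.symm.trans (Groth.Lead.SmoothStalk.amp_restrict_iff f j y G a b)
  constructor
  · intro h y
    exact (key y).2 (h _ (hU.range_fromSpec ▸ Set.mem_range_self y : j y ∈ (U : Set X)))
  · intro h x hx
    obtain ⟨y, rfl⟩ : x ∈ Set.range j := hU.range_fromSpec ▸ hx
    exact (key y).1 (h y)

/-- restriction to an affine chart in one step -/
def chartIso {U : X.Opens} (hU : IsAffineOpen U) (E : DCoh.D X) :
    (DCoh.restrictD hU.isoSpec.inv).obj ((DCoh.restrictD U.ι).obj E) ≅ (DCoh.restrictD hU.fromSpec).obj E :=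
  (Groth.L29.DC.resTransD U.ι hU.isoSpec.inv hU.fromSpec rfl).app E


/-- Let f : X ⟶ S be flat and locally of finite presentation and E an object of D(O_X) with
quasi-coherent cohomology sheaves (tilde recorded as exact). For affine opens U ⊆ X and V ⊆ S with
f(U) ⊆ V, say that E is algebraically perfect on U over V when every M ∈ D(Γ(U, O_X)) whose
associated object M~ on Spec Γ(U, O_X) is isomorphic to the restriction E|_U (transported along U ≅
Spec Γ(U, O_X)) is Γ(V, O_S)-perfect: pseudo-coherent as a complex of Γ(U, O_X)-modules and of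
finite tor dimension over Γ(V, O_S) through f^♯ (such M exist and are unique up to isomorphism,
namely RΓ(U, E)). Then: E is S-perfect (pseudo-coherent, and locally on X represented by a bounded
complex of O_X-modules flat over S) if and only if E is algebraically perfect on every affine open U
over every affine open V with U ⊆ f⁻¹V; and E is S-perfect as soon as this holds for the members
U_ij of affine open coverings f⁻¹V_i = ⋃ U_ij attached to an affine open covering S = ⋃ V_i. -/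
theorem result {X S : Scheme.{u}} (f : X ⟶ S) [Flat f] [LocallyOfFinitePresentation f]
    [∀ R : CommRingCat.{u}, PreservesFiniteLimits (tilde.functor R)]
    (E : DCoh.D X) (hE : DCoh.IsQCohD E) :
    (((∀ m : ℤ, DCoh.IsPseudoCoherentD m E) ∧ DCoh.LocHasFiniteRelTorDim f E) ↔
      ∀ (U : X.Opens) (hU : IsAffineOpen U) (V : S.Opens) (hV : IsAffineOpen V) (hUV : U ≤ f ⁻¹ᵁ V)
        (M : DerivedCategory (ModuleCat.{u} Γ(X, U))),
        Nonempty ((DCoh.restrictD hU.isoSpec.inv).obj ((DCoh.restrictD U.ι).obj E) ≅ (DCoh.tildeD Γ(X, U)).obj M) →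
          @Dual2.IsRelPerfect Γ(S, V) Γ(X, U) _ _ (f.appLE V U hUV).hom.toAlgebra M) ∧
    (∀ (ι : Type u) (V : ι → S.Opens) (hV : ∀ i, IsAffineOpen (V i)) (hVcov : ⨆ i, V i = ⊤)
        (κ : ι → Type u) (U : ∀ i, κ i → X.Opens) (hU : ∀ i j, IsAffineOpen (U i j))
        (hUV : ∀ i j, U i j ≤ f ⁻¹ᵁ V i) (hUcov : ∀ i, ⨆ j, U i j = f ⁻¹ᵁ V i),
        (∀ (i : ι) (j : κ i) (M : DerivedCategory (ModuleCat.{u} Γ(X, U i j))),
          Nonempty ((DCoh.restrictD (hU i j).isoSpec.inv).obj ((DCoh.restrictD (U i j).ι).obj E) ≅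
              (DCoh.tildeD Γ(X, U i j)).obj M) →
            @Dual2.IsRelPerfect Γ(S, V i) Γ(X, U i j) _ _ (f.appLE (V i) (U i j) (hUV i j)).hom.toAlgebra M) →
        (∀ m : ℤ, DCoh.IsPseudoCoherentD m E) ∧ DCoh.LocHasFiniteRelTorDim f E) := by

  let G := DerivedCategory.Q.objPreimage E
  let eG : DCoh.toD X G ≅ E := DerivedCategory.Q.objObjPreimageIso E
  have hrel : DCoh.LocHasFiniteRelTorDim f E ↔ DerSch.LocFiniteTorAmplitude f G :=
    Groth.Lead.RelTorStalk.locRel_iff f E G eG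
  have hcov : ∀ (ι : Type u) (V : ι → S.Opens) (_ : ∀ i, IsAffineOpen (V i)) (_ : ⨆ i, V i = ⊤)
        (κ : ι → Type u) (U : ∀ i, κ i → X.Opens) (hU : ∀ i j, IsAffineOpen (U i j))
        (hUV : ∀ i j, U i j ≤ f ⁻¹ᵁ V i) (_ : ∀ i, ⨆ j, U i j = f ⁻¹ᵁ V i),
        (∀ (i : ι) (j : κ i) (M : DerivedCategory (ModuleCat.{u} Γ(X, U i j))),
          Nonempty ((DCoh.restrictD (hU i j).isoSpec.inv).obj ((DCoh.restrictD (U i j).ι).obj E) ≅
              (DCoh.tildeD Γ(X, U i j)).obj M) →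
            @Dual2.IsRelPerfect Γ(S, V i) Γ(X, U i j) _ _ (f.appLE (V i) (U i j) (hUV i j)).hom.toAlgebra M) →
        (∀ m : ℤ, DCoh.IsPseudoCoherentD m E) ∧ DCoh.LocHasFiniteRelTorDim f E := by
    intro ι V hV hVc κ U hU hUV hUc h
    have hex : ∀ x : X, ∃ (i : ι) (j : κ i), x ∈ U i j := fun x => by
      obtain ⟨i, hi⟩ := TopologicalSpace.Opens.mem_iSup.1 (show f x ∈ ⨆ i, V i by rw [hVc]; trivial)
      obtain ⟨j, hj⟩ := TopologicalSpace.Opens.mem_iSup.1 (show x ∈ ⨆ j, U i j by rw [hUc]; exact hi)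
      exact ⟨i, j, hj⟩
    have hM : ∀ i j, ∃ M : DerivedCategory (ModuleCat.{u} Γ(X, U i j)),
        Nonempty ((DCoh.restrictD (hU i j).fromSpec).obj E ≅ (DCoh.tildeD Γ(X, U i j)).obj M) := fun i j => by
      obtain ⟨M, ⟨e⟩⟩ := (Groth.L29.DC.TildeD.isQCohD_iff _).1
        (Groth.L29.DC.isQCohD_restrictD (hU i j).fromSpec hE)
      exact ⟨M, ⟨e.symm⟩⟩
    refine ⟨fun m => Groth.L29.DC.pc_of_on fun x => ?_, hrel.2 fun x => ?_⟩
    all_goals obtain ⟨i, j, hx⟩ := hex x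
    all_goals obtain ⟨M, ⟨e⟩⟩ := hM i j
    all_goals obtain ⟨hpc, a, b, hab⟩ := h i j M ⟨chartIso (hU i j) E ≪≫ e⟩
    · obtain ⟨y, rfl⟩ : x ∈ Set.range (hU i j).fromSpec := (hU i j).range_fromSpec ▸ hx
      obtain ⟨W, hyW, hW⟩ := (Groth.L29.DC.isPC_iff_wit m _).1 (Groth.L29.DC.isPseudoCoherentD_of_iso e.symm
        (Groth.L29.DC.TildeAlg.pc_tilde (Groth.L02.PC.pc_of_pc' hpc m))) y
      exact ⟨_, W.ι ≫ (hU i j).fromSpec, inferInstance, ⟨⟨y, hyW⟩, rfl⟩,
        Groth.L29.DC.wit_iso ((Groth.L29.DC.resTransD (hU i j).fromSpec W.ι (W.ι ≫ (hU i j).fromSpec) rfl).app E) hW⟩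
    · exact ⟨U i j, a, b, hx, (chart_iff f G (hU i j) (hV i) (hUV i j) M
        ((DCoh.restrictD (hU i j).fromSpec).mapIso eG ≪≫ e) a b).2 hab⟩
  refine ⟨⟨fun ⟨hpc, hloc⟩ U hU V hV hUV M ⟨e⟩ => ?_, fun h => ?_⟩, hcov⟩
  · let e' : (DCoh.restrictD hU.fromSpec).obj E ≅ (DCoh.tildeD Γ(X, U)).obj M := (chartIso hU E).symm ≪≫ e
    refine ⟨Groth.L02.PC.pc'_of_forall fun m => Groth.L29.DC.TildeAlg.pc_of_tilde
      (Groth.L29.DC.isPseudoCoherentD_of_iso e' (Groth.L29.DC.PCStalk.pc_res hU.fromSpec (hpc m))), ?_⟩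
    choose W a b hxW hW using hrel.1 hloc
    obtain ⟨t, ht⟩ := hU.isCompact.elim_finite_subcover (fun x => (W x : Set X))
      (fun x => (W x).isOpen) (fun x _ => Set.mem_iUnion.2 ⟨x, hxW x⟩)
    obtain ⟨lo, hlo⟩ := (t.image a).finite_toSet.bddBelow
    obtain ⟨hi, hhi⟩ := (t.image b).finite_toSet.bddAbove
    refine ⟨lo, hi, (chart_iff f G hU hV hUV M ((DCoh.restrictD hU.fromSpec).mapIso eG ≪≫ e') lo hi).1 fun x hx => ?_⟩
    obtain ⟨k, hk, hxk⟩ := Set.mem_iUnion₂.1 (ht hx)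
    exact Groth.L10.DR.amp_mono (hW k x hxk) (hlo (Finset.mem_coe.2 (Finset.mem_image_of_mem a hk)))
      (hhi (Finset.mem_coe.2 (Finset.mem_image_of_mem b hk)))
  · refine hcov {V : S.Opens // IsAffineOpen V} (fun V => V.1) (fun V => V.2) ?_
      (fun V => {U : X.Opens // IsAffineOpen U ∧ U ≤ f ⁻¹ᵁ V.1}) (fun V U => U.1) (fun V U => U.2.1)
      (fun V U => U.2.2) (fun V => ?_) fun V U M hM => h U.1 U.2.1 V.1 V.2 U.2.2 M hM
    · refine eq_top_iff.2 fun s _ => ?_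
      obtain ⟨_, ⟨V, hV, rfl⟩, hs, -⟩ :=
        S.isBasis_affineOpens.exists_subset_of_mem_open (Set.mem_univ s) isOpen_univ
      exact TopologicalSpace.Opens.mem_iSup.2 ⟨⟨V, hV⟩, hs⟩
    · refine le_antisymm (iSup_le fun U => U.2.2) fun x hx => ?_
      obtain ⟨_, ⟨U, hU, rfl⟩, hxU, hsub⟩ :=
        X.isBasis_affineOpens.exists_subset_of_mem_open (show x ∈ (↑(f ⁻¹ᵁ V.1) : Set X) from hx) (f ⁻¹ᵁ V.1).isOpen
      exact TopologicalSpace.Opens.mem_iSup.2 ⟨⟨U, hU, hsub⟩, hxU⟩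

end

end Groth.Agent.S7278
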