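import Groth.Statements.S0369
import Groth.Agent.L04.LC.LowestDegree
import Groth.Agent.L29.Dual.NormLoc

set_option autoImplicit false
set_option backward.isDefEq.respectTransparency false
universe u v
open CategoryTheory
attribute [local instance] HasDerivedCategory.standard
open Dual

namespace Groth.Agent.S0369

/-- For a Noetherian local ring of dimension d with normalized dualizing complex ω, the module ω_A =
H^{−d}(ω) has support equal to the union of those irreducible components of Spec A whose dimension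
is d, and satisfies Serre's condition (S_2). -/
theorem result (A : Type u) [CommRing A] [IsLocalRing A] [IsNoetherianRing A] (ω : Dual.D A) (hω : Dual.IsDualizing A ω) (hn : Dual.IsNormalized A ω) (d : ℕ) (hd : ringKrullDim A = d) : Module.support A (Dual.HD A ω (-(d : ℤ))) = {p : PrimeSpectrum A | ∃ q ∈ minimalPrimes A, q ≤ p.asIdeal ∧ ringKrullDim (A ⧸ q) = d} ∧ LocCoh.HasSk 2 A (Dual.HD A ω (-(d : ℤ))) := by
  open Groth.L29.HomD Groth.L04.SkLocus in
  have hdimQ : ∀ Q : PrimeSpectrum A, ∃ e : ℕ, ringKrullDim (A ⧸ Q.asIdeal) = e ∧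
      dimFun hω Q = (e : ℤ) ∧ e ≤ d := fun Q => by
    have h := Groth.L04.Lowest.ringKrullDim_quotient_local hω Q
    refine ⟨_, h, dimFun_eq_dim hω hn Q _ h, ?_⟩
    have h2 := ringKrullDim_quotient_le Q.asIdeal
    rw [h, hd] at h2
    exact_mod_cast h2
  have hQ : ∀ Q : PrimeSpectrum A, Q.asIdeal ∈ (Module.annihilator A A).minimalPrimes →
      Groth.L29.HomD.dimFun hω Q ≤ -(-(d : ℤ)) := fun Q _ => by
    obtain ⟨e, -, h2, h3⟩ := hdimQ Q
    lia
  refine ⟨Set.ext fun p => ⟨fun hp => ?_, ?_⟩, Groth.L04.Lowest.hasSk_two_lowest hω _ hQ⟩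
  · open Groth.L29.HomD Groth.L04.SkLocus in
    have hp' := (Groth.L04.Lowest.mem_SE_self_iff p (-(d : ℤ))).2 hp
    have hps := Groth.L04.SkLocus.mem_support_of_mem_SE (M := A) hω hp'
    obtain ⟨m, D, -, -, hD, -, -, hint⟩ := Groth.L04.SkLocus.exists_data (M := A) hω hps
    obtain ⟨D', hD', -, Q, hQm, hQp, hQD⟩ := Groth.L04.SkLocus.exists_dim (M := A) hω p hps
    obtain rfl : D' = D := by exact_mod_cast hD'.symm.trans hD
    have h1 := (hint _ hp').2
    obtain ⟨e, he, h2, h3⟩ := hdimQ Q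
    refine ⟨Q.asIdeal, ?_, hQp, he.trans (by exact_mod_cast congrArg (Nat.cast (R := WithBot ℕ∞)) (show e = d by lia))⟩
    rw [minimalPrimes]
    rwa [Module.annihilator_eq_bot.2 inferInstance] at hQm
  · rintro ⟨q, hq, hqp, hdim⟩
    let Q : PrimeSpectrum A := ⟨q, hq.1.1⟩
    haveI : q.IsPrime := hq.1.1
    haveI : Q.asIdeal.IsPrime := Q.isPrime
    obtain ⟨e, he, h2, -⟩ := hdimQ Q
    obtain rfl : d = e := by exact_mod_cast hdim.symm.trans he
    have hQs : Q ∈ Module.support A (Dual.HD A ω (-(d : ℤ))) := by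
      rw [Module.mem_support_iff, ← not_subsingleton_iff_nontrivial, ← Groth.L29.HomD.lz_iff]
      exact (Groth.L29.HomD.not_lz_HD_iff hω Q hq _).2 (by rw [h2])
    exact Module.mem_support_mono hqp hQs

end Groth.Agent.S0369
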