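import Groth.Statements.S15583
import Groth.Agent.L09.RInvHerm

set_option autoImplicit false
universe u v
open RInv

namespace Groth.Agent.S15583

/-- Let `A` be a commutative ring with an involution `lam` whose fixed ring `B` is local, let `ε = ±1`,
and let `h` be an invertible `n × n` matrix over `A` that is `(ε, lam)`-hermitian: `h` equals `ε`
times the transpose of `lam` applied entrywise to `h`. If `lam` is not the identity modulo the
Jacobson radical of `A`, or `ε ≠ -1` modulo that radical, or `n` is odd, then `h` is congruent to a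
diagonal matrix: there is an invertible `v` with `(lam v)ᵀ h v` diagonal. -/
theorem result (B : Type u) (A : Type v) [CommRing B] [CommRing A]
    [Algebra B A] (lam : A ≃+* A) (hlam : Function.Involutive lam) (hB : RInv.IsFixedRing B A lam)
    [IsLocalRing B] (n : ℕ) (ε : A) (hε : ε = 1 ∨ ε = -1) (h : Matrix (Fin n) (Fin n) A)
    (hh : IsUnit h) (herm : ε • (h.map lam).transpose = h)
    (hcase : (∃ a : A, lam a - a ∉ Ring.jacobson A) ∨ ε + 1 ∉ Ring.jacobson A ∨ Odd n) :
    ∃ v : Matrix (Fin n) (Fin n) A, IsUnit v ∧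
      ∃ d : Fin n → A, (v.map lam).transpose * h * v = Matrix.diagonal d := by
  have hlε : lam ε = ε := by rcases hε with rfl | rfl <;> simp
  haveI : Nontrivial A := ⟨⟨algebraMap B A 0, algebraMap B A 1, fun h => zero_ne_one (hB.1 h)⟩⟩
  obtain ⟨M₀, hM₀⟩ := Ideal.exists_maximal A
  have go : ∀ M : Ideal A, M.IsMaximal → (n = 0 ∨ Groth.L09.RInvHerm.NonAlt lam M h) → ∃ v : Matrix (Fin n) (Fin n) A, IsUnit v ∧
      ∃ d : Fin n → A, (v.map lam).transpose * h * v = Matrix.diagonal d := fun M hM hN =>
    @Groth.L09.RInvHerm.diagonalise _ _ _ _ _ _ lam hlam hB M hM ε hlε n h hh herm hN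
  rcases n with _ | n
  · exact go M₀ hM₀ (Or.inl rfl)
  rcases hcase with ⟨a, ha⟩ | hε1 | hodd
  · obtain ⟨M, hM, haM⟩ := Groth.L09.RInvBasic.exists_maximal_not_mem ha
    haveI := hM
    exact go M hM (Or.inr (Groth.L09.RInvHerm.nonAlt_of_ne hlam hB herm hh 0 (Or.inl ⟨a, haM⟩)))
  · obtain ⟨M, hM, haM⟩ := Groth.L09.RInvBasic.exists_maximal_not_mem hε1
    haveI := hM
    exact go M hM (Or.inr (Groth.L09.RInvHerm.nonAlt_of_ne hlam hB herm hh 0 (Or.inr haM)))
  · refine go M₀ hM₀ (Or.inr ?_)
    haveI := hM₀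
    by_cases hc : (∃ a : A, lam a - a ∉ M₀) ∨ ε + 1 ∉ M₀
    · exact Groth.L09.RInvHerm.nonAlt_of_ne hlam hB herm hh 0 hc
    push Not at hc
    by_contra hn
    simp only [Groth.L09.RInvHerm.NonAlt, not_exists, not_not] at hn
    let q := Ideal.Quotient.mk M₀
    have hq : ∀ a, q (lam a) = q a := fun a => Ideal.Quotient.eq.2 (hc.1 a)
    have he : q ε = -1 := by
      rw [← map_one q, ← map_neg, Ideal.Quotient.eq, sub_neg_eq_add]
      exact hc.2
    have hdet : (h.map q).det = 0 := Groth.L09.RInvHerm.det_alternating hodd _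
      (fun i j => by
        simp only [Matrix.map_apply]
        conv_lhs => rw [← Groth.L09.RInvHerm.herm_apply h herm j i]
        rw [map_mul, hq, he, neg_one_mul])
      (fun i => Ideal.Quotient.eq_zero_iff_mem.2 (by simpa [Groth.L09.RInvHerm.hf_single] using hn (Pi.single i 1)))
    have hu : IsUnit (h.map q) := hh.map q.mapMatrix
    rw [Matrix.isUnit_iff_isUnit_det, hdet] at hu
    exact not_isUnit_zero hu

end Groth.Agent.S15583
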