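import Groth.Statements.S15584
import Groth.Agent.L09.RInvHerm
import Groth.Agent.L09.RInvEtale

set_option autoImplicit false
universe u v
open RInv

namespace Groth.Agent.S15584

open Matrix Groth.L09.RInvHerm Groth.L09.RInvBasic

/-- the block shape. -/
def Good {A : Type v} [CommRing A] {n : ℕ} (g : Matrix (Fin n) (Fin n) A) : Prop :=
  ∀ i j : Fin n,
    (i.val / 2 ≠ j.val / 2 → g i j = 0) ∧
    (i.val / 2 = j.val / 2 → (Even i.val ↔ Even j.val) → g i j ∈ Ring.jacobson A) ∧
    (i.val / 2 = j.val / 2 → Even i.val → ¬ Even j.val → g i j - 1 ∈ Ring.jacobson A) ∧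
    (i.val / 2 = j.val / 2 → ¬ Even i.val → Even j.val → g i j + 1 ∈ Ring.jacobson A)

variable {B : Type u} {A : Type v} [CommRing B] [CommRing A] [Algebra B A] [IsLocalRing B] {lam : A ≃+* A}
  (hlam : Function.Involutive lam) (hB : RInv.IsFixedRing B A lam)
  (hid : ∀ a : A, lam a - a ∈ Ring.jacobson A) (h2 : IsUnit (2 : A))

include hid h2 in
omit [IsLocalRing B] in
lemma diag_mem {n : ℕ} {h : Matrix (Fin n) (Fin n) A} (herm : (-1 : A) • (h.map lam).transpose = h) (i : Fin n) :
    h i i ∈ Ring.jacobson A := by
  have h1 := hid (h i i)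
  have h3 := herm_apply h herm i i
  rw [show lam (h i i) = -h i i by linear_combination -h3] at h1
  obtain ⟨u, hu⟩ := h2
  have := Ideal.mul_mem_left (Ring.jacobson A) (-(↑u⁻¹ : A)) h1
  rwa [show -(↑u⁻¹ : A) * (-h i i - h i i) = (↑u⁻¹ : A) * (↑u : A) * h i i by rw [hu]; ring,
    Units.inv_mul, one_mul] at this

include hlam hB hid h2 in
lemma even_size {n : ℕ} {h : Matrix (Fin n) (Fin n) A} (hh : IsUnit h)
    (herm : (-1 : A) • (h.map lam).transpose = h) : Even n := by
  by_contra hodd
  rw [Nat.not_even_iff_odd] at hodd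
  haveI : Nontrivial A := ⟨⟨algebraMap B A 0, algebraMap B A 1, fun h => zero_ne_one (hB.1 h)⟩⟩
  obtain ⟨M, hM⟩ := Ideal.exists_maximal A
  haveI := hM
  let q := Ideal.Quotient.mk M
  have hq : ∀ a, q (lam a) = q a := fun a => Ideal.Quotient.eq.2 ((mem_jacobson_iff hlam hB M _).1 (hid a)).1
  have hdet : (h.map q).det = 0 := det_alternating hodd _
    (fun i j => by
      simp only [Matrix.map_apply]
      conv_lhs => rw [← herm_apply h herm j i]
      rw [map_mul, map_neg, map_one, hq, neg_one_mul])
    (fun i => Ideal.Quotient.eq_zero_iff_mem.2 ((mem_jacobson_iff hlam hB M _).1 (diag_mem hid h2 herm i)).1)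
  have hu : IsUnit (h.map q) := hh.map q.mapMatrix
  rw [Matrix.isUnit_iff_isUnit_det, hdet] at hu
  exact not_isUnit_zero hu

include hlam hB hid h2 in
theorem symplectic : ∀ (n : ℕ) (h : Matrix (Fin n) (Fin n) A), IsUnit h → (-1 : A) • (h.map lam).transpose = h →
    ∃ v : Matrix (Fin n) (Fin n) A, IsUnit v ∧ Good ((v.map lam).transpose * h * v) := by
  intro n
  induction n using Nat.strong_induction_on with
  | _ n ih =>
  intro h hh herm
  match n, h, hh, herm with
  | 0, h, _, _ => exact ⟨1, isUnit_one, fun i => i.elim0⟩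
  | 1, h, hh, herm => exact absurd (even_size hlam hB hid h2 hh herm) (by norm_num)
  | m + 2, h, hh, herm =>
    haveI := Groth.L09.RInvEtale.isLocalRing_of_id hlam hB hid
    have hJ : ∀ a : A, a ∈ Ring.jacobson A ↔ a ∈ IsLocalRing.maximalIdeal A := fun a => by
      rw [← Ideal.jacobson_bot, IsLocalRing.jacobson_eq_maximalIdeal _ bot_ne_top]
    obtain ⟨j, hj⟩ := exists_not_mem (M := IsLocalRing.maximalIdeal A) hh 0
    have hj0 : j ≠ 0 := fun h' => hj ((hJ _).1 (h' ▸ diag_mem hid h2 herm 0))
    obtain ⟨w, hw⟩ := (IsLocalRing.notMem_maximalIdeal.1 hj : IsUnit (h 0 j))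
    -- normalise the first pair
    have one0 : (Fin.succ 0 : Fin (m + 2)) ≠ 0 := Fin.succ_ne_zero _
    let σ := Equiv.swap (Fin.succ 0 : Fin (m + 2)) j
    have hσ0 : σ 0 = 0 := Equiv.swap_apply_of_ne_of_ne one0.symm hj0.symm
    let cols : Fin (m + 2) → Fin (m + 2) → A := fun b =>
      if b = Fin.succ 0 then (↑w⁻¹ : A) • e j else e (σ b)
    let P : Matrix (Fin (m + 2)) (Fin (m + 2)) A := Matrix.of fun a b => cols b a
    have hP : IsUnit P := by
      refine isUnit_of_span _ fun a => ?_
      have hcol : ∀ b, P *ᵥ e b = cols b := fun b => by ext c; simp [P, Matrix.mulVec_single]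
      by_cases ha : a = j
      · refine ⟨(↑w : A) • e (Fin.succ 0), ?_⟩
        rw [Matrix.mulVec_smul, hcol, ha]
        simp only [cols, ↓reduceIte, smul_smul, Units.mul_inv, one_smul]
      · refine ⟨e (σ a), ?_⟩
        have h4 : σ a ≠ Fin.succ 0 := fun h' => ha (by simpa [σ] using congrArg σ h')
        rw [hcol]
        simp only [cols, h4, ↓reduceIte, σ, Equiv.swap_apply_self]
    set g := (P.map lam).transpose * h * P with hgdef
    have hermg : (-1 : A) • (g.map lam).transpose = g := herm_congr hlam h herm (by simp) P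
    have hg : IsUnit g := isUnit_congr hlam h hh hP
    have c0 : (fun a => P a 0) = e 0 := by
      funext a; simp only [P, Matrix.of_apply, cols, one0.symm, ↓reduceIte, hσ0]
    have c1 : (fun a => P a (Fin.succ 0)) = (↑w⁻¹ : A) • e j := by
      funext a; simp only [P, Matrix.of_apply, cols, ↓reduceIte]
    have g01 : g 0 (Fin.succ 0) = 1 := by
      rw [hgdef, congr_apply, c0, c1, hf_smul_right, hf_single, ← hw, Units.inv_mul]
    have g10 : g (Fin.succ 0) 0 = -1 := by rw [← herm_apply g hermg, g01, map_one, mul_one]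
    -- clear the first two rows
    set a := g 0 0 with hadef
    set d := g (Fin.succ 0) (Fin.succ 0) with hddef
    obtain ⟨Δ, hΔ⟩ : IsUnit (a * d + 1) := by
      refine IsLocalRing.notMem_maximalIdeal.1 fun hmem => ?_
      have : a * d ∈ IsLocalRing.maximalIdeal A := Ideal.mul_mem_right _ _ ((hJ _).1 (diag_mem hid h2 hermg 0))
      exact (IsLocalRing.maximalIdeal.isMaximal A).ne_top
        ((Ideal.eq_top_iff_one _).2 ((Ideal.add_mem_iff_right _ this).1 hmem))
    let s : Fin m → A := fun k => (↑Δ⁻¹ : A) * (-d * g 0 k.succ.succ + g (Fin.succ 0) k.succ.succ)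
    let t : Fin m → A := fun k => (↑Δ⁻¹ : A) * (-a * g (Fin.succ 0) k.succ.succ - g 0 k.succ.succ)
    let cols' : Fin (m + 2) → Fin (m + 2) → A := fun b =>
      Fin.cases (e 0) (fun b' => Fin.cases (e (Fin.succ 0))
        (fun k => e k.succ.succ + s k • e 0 + t k • e (Fin.succ 0)) b') b
    let Q : Matrix (Fin (m + 2)) (Fin (m + 2)) A := Matrix.of fun a b => cols' b a
    have d0 : (fun a => Q a 0) = e 0 := rfl
    have d1 : (fun a => Q a (Fin.succ 0)) = e (Fin.succ 0) := rfl
    have dk : ∀ k : Fin m, (fun a => Q a k.succ.succ) = e k.succ.succ + s k • e 0 + t k • e (Fin.succ 0) :=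
      fun k => rfl
    have hQ : IsUnit Q := by
      refine isUnit_of_span _ fun b => ?_
      have hcol : ∀ b, Q *ᵥ e b = fun a => Q a b := fun b => by ext c; simp [Matrix.mulVec_single]
      induction b using Fin.cases with
      | zero => exact ⟨e 0, by rw [hcol, d0]⟩
      | succ b =>
        induction b using Fin.cases with
        | zero => exact ⟨e (Fin.succ 0), by rw [hcol, d1]⟩
        | succ k =>
          refine ⟨e k.succ.succ - s k • e 0 - t k • e (Fin.succ 0), ?_⟩
          rw [Matrix.mulVec_sub, Matrix.mulVec_sub, Matrix.mulVec_smul, Matrix.mulVec_smul, hcol, hcol, hcol,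
            d0, d1, dk]
          abel
    set g' := (Q.map lam).transpose * g * Q with hg'def
    have hermg' : (-1 : A) • (g'.map lam).transpose = g' := herm_congr hlam g hermg (by simp) Q
    have hΔi : (↑Δ⁻¹ : A) * (a * d + 1) = 1 := by rw [← hΔ, Units.inv_mul]
    have r0 : ∀ k : Fin m, g' 0 k.succ.succ = 0 := fun k => by
      rw [hg'def, congr_apply, d0, dk]
      simp only [hf_add_right, hf_smul_right, hf_single, g01, ← hadef, s, t]
      linear_combination (-g 0 k.succ.succ) * hΔi
    have r1 : ∀ k : Fin m, g' (Fin.succ 0) k.succ.succ = 0 := fun k => by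
      rw [hg'def, congr_apply, d1, dk]
      simp only [hf_add_right, hf_smul_right, hf_single, g10, ← hddef, s, t]
      linear_combination (-g (Fin.succ 0) k.succ.succ) * hΔi
    have l0 : ∀ k : Fin m, g' k.succ.succ 0 = 0 := fun k => by
      rw [← herm_apply g' hermg', r0, map_zero, mul_zero]
    have l1 : ∀ k : Fin m, g' k.succ.succ (Fin.succ 0) = 0 := fun k => by
      rw [← herm_apply g' hermg', r1, map_zero, mul_zero]
    let H : Matrix (Fin m) (Fin m) A := Matrix.of fun k l => g' k.succ.succ l.succ.succ
    have hermH : (-1 : A) • (H.map lam).transpose = H := by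
      ext k l; exact herm_apply g' hermg' k.succ.succ l.succ.succ
    have hH : IsUnit H := by
      obtain ⟨U, hU⟩ := isUnit_congr hlam g hg hQ
      refine IsUnit.of_mul_eq_one (Matrix.of fun k l => (↑U⁻¹ : Matrix _ _ A) k.succ.succ l.succ.succ) ?_
      ext k l
      have h1 := congrFun (congrFun U.mul_inv k.succ.succ) l.succ.succ
      rw [hU, ← hg'def] at h1
      rw [Matrix.mul_apply, Fin.sum_univ_succ, Fin.sum_univ_succ, l0, l1, zero_mul, zero_mul, zero_add, zero_add] at h1
      simpa [H, Matrix.mul_apply, Matrix.one_apply] using h1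
    obtain ⟨v, hv, hgood⟩ := ih m (by omega) H hH hermH
    let V := cornerMat (1 : A) (cornerMat (1 : A) v)
    have hV : IsUnit V := (isUnit_cornerMat_iff 1 isUnit_one _).2 ((isUnit_cornerMat_iff 1 isUnit_one v).2 hv)
    refine ⟨P * Q * V, (hP.mul hQ).mul hV, ?_⟩
    have hcomb : ((P * Q * V).map lam).transpose * h * (P * Q * V) = (V.map lam).transpose * g' * V := by
      rw [Matrix.map_mul, Matrix.map_mul, Matrix.transpose_mul, Matrix.transpose_mul, hg'def, hgdef]
      simp only [Matrix.mul_assoc]
    rw [hcomb]
    set G := (V.map lam).transpose * g' * V with hGdef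
    have f0 : ∀ k : Fin m, G k.succ.succ 0 = 0 ∧ G 0 k.succ.succ = 0 ∧
        G k.succ.succ (Fin.succ 0) = 0 ∧ G (Fin.succ 0) k.succ.succ = 0 := fun k => by
      refine ⟨?_, ?_, ?_, ?_⟩ <;>
      · rw [hGdef, congr_apply]
        simp only [hf, V, Fin.sum_univ_succ (n := m + 1), Fin.sum_univ_succ (n := m)]
        simp only [cornerMat_zero_zero, cornerMat_zero_succ, cornerMat_succ_zero, cornerMat_succ_succ,
          map_zero, map_one, r0, r1, l0, l1, zero_mul, mul_zero, Finset.sum_const_zero, add_zero]
    have fb : G 0 0 = g' 0 0 ∧ G 0 (Fin.succ 0) = g' 0 (Fin.succ 0) ∧ G (Fin.succ 0) 0 = g' (Fin.succ 0) 0 ∧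
        G (Fin.succ 0) (Fin.succ 0) = g' (Fin.succ 0) (Fin.succ 0) := by
      refine ⟨?_, ?_, ?_, ?_⟩ <;>
      · rw [hGdef, congr_apply]
        simp only [hf, V, Fin.sum_univ_succ (n := m + 1), Fin.sum_univ_succ (n := m)]
        simp only [cornerMat_zero_zero, cornerMat_zero_succ, cornerMat_succ_zero, cornerMat_succ_succ,
          map_zero, map_one, zero_mul, mul_zero, one_mul, mul_one, Finset.sum_const_zero, add_zero, zero_add]
    have fH : ∀ k l : Fin m, G k.succ.succ l.succ.succ = ((v.map lam).transpose * H * v) k l := fun k l => by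
      rw [hGdef, congr_apply, congr_apply]
      simp only [hf, V, Fin.sum_univ_succ (n := m + 1), Fin.sum_univ_succ (n := m)]
      simp only [cornerMat_zero_zero, cornerMat_zero_succ, cornerMat_succ_zero, cornerMat_succ_succ,
        map_zero, zero_mul, mul_zero, Finset.sum_const_zero, add_zero, zero_add, H, Matrix.of_apply]
    obtain ⟨f00, f01, f10, f11⟩ := fb
    have e01 : g' 0 (Fin.succ 0) = 1 := by rw [hg'def, congr_apply, d0, d1, hf_single, g01]
    have e10 : g' (Fin.succ 0) 0 = -1 := by rw [hg'def, congr_apply, d0, d1, hf_single, g10]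
    rw [← f01] at e01
    rw [← f10] at e10
    have e00 : G 0 0 ∈ Ring.jacobson A := by
      rw [f00]; exact diag_mem hid h2 hermg' 0
    have e11 : G (Fin.succ 0) (Fin.succ 0) ∈ Ring.jacobson A := by
      rw [f11]; exact diag_mem hid h2 hermg' _
    have par : ∀ k : ℕ, (k + 1 + 1) / 2 = k / 2 + 1 := fun k => by omega
    have ev : ∀ k : ℕ, Even (k + 1 + 1) ↔ Even k := fun k => by simp [Nat.even_add_one]
    intro i
    induction i using Fin.cases with
    | zero =>
      intro j
      induction j using Fin.cases with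
      | zero => simp [e00]
      | succ j =>
        induction j using Fin.cases with
        | zero =>
          rw [e01]
          simp
        | succ l =>
          rw [(f0 l).2.1]
          simp only [Fin.val_succ, Fin.val_zero, par]
          refine ⟨fun _ => by trivial, fun h' => absurd h' ?_, fun h' => absurd h' ?_, fun h' => absurd h' ?_⟩ <;> omega
    | succ i =>
      induction i using Fin.cases with
      | zero =>
        intro j
        induction j using Fin.cases with
        | zero =>
          rw [e10]
          simp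
        | succ j =>
          induction j using Fin.cases with
          | zero => simpa using e11
          | succ l =>
            rw [(f0 l).2.2.2]
            simp only [Fin.val_succ, Fin.val_zero, par]
            refine ⟨fun _ => by trivial, fun h' => absurd h' ?_, fun h' => absurd h' ?_, fun h' => absurd h' ?_⟩ <;> omega
      | succ k =>
        intro j
        induction j using Fin.cases with
        | zero =>
          rw [(f0 k).1]
          simp only [Fin.val_succ, Fin.val_zero, par]
          refine ⟨fun _ => by trivial, fun h' => absurd h' ?_, fun h' => absurd h' ?_, fun h' => absurd h' ?_⟩ <;> omega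
        | succ j =>
          induction j using Fin.cases with
          | zero =>
            rw [(f0 k).2.2.1]
            simp only [Fin.val_succ, Fin.val_zero, par]
            refine ⟨fun _ => by trivial, fun h' => absurd h' ?_, fun h' => absurd h' ?_, fun h' => absurd h' ?_⟩ <;> omega
          | succ l =>
            simp only [Fin.val_succ, par, ev, fH, add_left_inj, ne_eq]
            exact hgood k l


/-- Let `A` be a commutative ring with an involution `lam` whose fixed ring `B` is local; assume `lam`
is the identity modulo the Jacobson radical of `A`, that `2` is invertible in `A`, and that `h` is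
an invertible `n × n` matrix with `h = -(lam h)ᵀ`. Then `n` is even and there is an invertible `v`
such that `(lam v)ᵀ h v` is a block sum of `2 × 2` blocks on the index pairs `{2k, 2k+1}`, each
congruent to `[[0,1],[-1,0]]` modulo the Jacobson radical. (The published statement writes the
congruence with the plain transpose `vᵀ h v`; its proof computes the Gram matrix of the hermitian
form `(x, y) ↦ (lam x)ᵀ h y` in a new basis, which is `(lam v)ᵀ h v`, and that is what is stated
here.) -/
theorem result (B : Type u) (A : Type v) [CommRing B] [CommRing A]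
    [Algebra B A] (lam : A ≃+* A) (hlam : Function.Involutive lam) (hB : RInv.IsFixedRing B A lam)
    [IsLocalRing B] (n : ℕ) (hid : ∀ a : A, lam a - a ∈ Ring.jacobson A) (h2 : IsUnit (2 : A))
    (h : Matrix (Fin n) (Fin n) A) (hh : IsUnit h) (herm : -(h.map lam).transpose = h) :
    Even n ∧ ∃ v : Matrix (Fin n) (Fin n) A, IsUnit v ∧
      ∀ i j : Fin n,
        (i.val / 2 ≠ j.val / 2 → ((v.map lam).transpose * h * v) i j = 0) ∧
        (i.val / 2 = j.val / 2 → (Even i.val ↔ Even j.val) →
          ((v.map lam).transpose * h * v) i j ∈ Ring.jacobson A) ∧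
        (i.val / 2 = j.val / 2 → Even i.val → ¬ Even j.val →
          ((v.map lam).transpose * h * v) i j - 1 ∈ Ring.jacobson A) ∧
        (i.val / 2 = j.val / 2 → ¬ Even i.val → Even j.val →
          ((v.map lam).transpose * h * v) i j + 1 ∈ Ring.jacobson A) := by
  have herm' : (-1 : A) • (h.map lam).transpose = h := by rw [neg_one_smul]; exact herm
  obtain ⟨v, hv, hgood⟩ := symplectic hlam hB hid h2 n h hh herm'
  exact ⟨even_size hlam hB hid h2 hh herm', v, hv, hgood⟩

end Groth.Agent.S15584
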