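import Groth.Statements.S17363
import Groth.Agent.L09.RInvBasic
import Mathlib.LinearAlgebra.Matrix.NonsingularInverse
import Mathlib.RingTheory.Localization.Away.Basic

set_option autoImplicit false
universe u v
open scoped TensorProduct
open RInv

namespace Groth.Agent.S17363

lemma congr_std {T : Type*} [CommRing T] (L : T →+* T) (hL : ∀ x, L (L x) = x)
    (a b d β σ σi ι half : T) (ha : L a = -a) (hd : L d = -d) (hb : β * b = 1) (hσL : L σ = σ)
    (hσiL : L σi = σi) (hιL : L ι = ι) (hhL : L half = half)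
    (hσ : σ ^ 2 = 1 + a * (L β * d * β)) (hσi : σ * σi = 1) (hι : (1 + σ) * ι = 1) (hhalf : half * 2 = 1) :
    ∃ v : Matrix (Fin 2) (Fin 2) T, IsUnit v ∧
      (v.map L).transpose * Matrix.of ![![a, b], ![-L b, d]] * v = Matrix.of ![![(0 : T), 1], ![-1, 0]] := by
  have hb' : L β * L b = 1 := by rw [← map_mul, hb, map_one]
  set d' := L β * d * β with hd'
  have hd'L : L d' = -d' := by rw [hd', map_mul, map_mul, hL, hd]; ring
  set y := -(a * ι) with hy
  have hyL : L y = -y := by rw [hy, map_neg, map_mul, ha, hιL]; ring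
  set δ := d' * σi * σi with hδ
  set c := δ * half with hc
  have hcL : L c = -c := by rw [hc, hδ, map_mul, map_mul, map_mul, hd'L, hσiL, hhL]; ring
  -- the isotropic vector
  have hw : 1 - y * d' = σ := by linear_combination (-ι) * hσ + (-(1 - σ)) * hι
  have hq : a + 2 * y - y ^ 2 * d' = 0 := by
    linear_combination (a * (-1 - (σ - 1) * ι)) * hι + (a * ι ^ 2) * hσ
  let M : Matrix (Fin 2) (Fin 2) T := Matrix.of ![![1, 0], ![0, β]]
  let w : Matrix (Fin 2) (Fin 2) T := Matrix.of ![![1, c], ![y, c * y + σi]]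
  have hM : (M.map L).transpose * Matrix.of ![![a, b], ![-L b, d]] * M =
      Matrix.of ![![a, 1], ![-1, d']] := by
    ext i j
    fin_cases i <;> fin_cases j <;>
      simp [M, hd', Matrix.mul_apply, Fin.sum_univ_two, mul_comm b β, hb, hb']
  have hw' : (w.map L).transpose * Matrix.of ![![a, 1], ![-1, d']] * w = Matrix.of ![![(0 : T), 1], ![-1, 0]] := by
    have e : L (c * y + σi) = c * y + σi := by rw [map_add, map_mul, hcL, hyL, hσiL]; ring
    ext i j
    fin_cases i <;> fin_cases j <;>
      simp [w, Matrix.mul_apply, Fin.sum_univ_two, hyL, hcL, e]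
    · linear_combination hq
    · linear_combination c * hq + σi * hw + hσi
    · linear_combination (-c) * hq + (-σi) * hw - hσi
    · linear_combination (-c ^ 2) * hq + (-2 * c * σi) * hw - 2 * c * hσi - δ * hhalf
  refine ⟨M * w, ?_, ?_⟩
  · refine ((Matrix.isUnit_iff_isUnit_det _).2 (IsUnit.of_mul_eq_one (b * σ) ?_))
    simp only [M, w, Matrix.det_mul, Matrix.det_fin_two, Matrix.of_apply, Matrix.cons_val', Matrix.cons_val_zero,
      Matrix.cons_val_one, Matrix.empty_val']
    linear_combination (σ * σi) * hb + hσi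
  · rw [Matrix.map_mul, Matrix.transpose_mul,
      show (w.map L).transpose * (M.map L).transpose * Matrix.of ![![a, b], ![-L b, d]] * (M * w) =
        (w.map L).transpose * ((M.map L).transpose * Matrix.of ![![a, b], ![-L b, d]] * M) * w by
        simp only [Matrix.mul_assoc], hM, hw']

/-- Let `A` be a commutative ring with an involution `lam` whose fixed ring `B` is local; assume that
`lam` is the identity modulo the Jacobson radical of `A`, that `2` is a unit of `A`, and that `h` is
an invertible `2 × 2` matrix over `A` with `h = -(lam h)ᵀ` whose entries are congruent modulo the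
Jacobson radical to those of the matrix with rows `(0, 1)`, `(-1, 0)`. Then there are units `s, t`
of `B`, finitely many elements `f_i` of `B' = B[X, Y]/(X² - s, Y² - t)` (`B` with square roots of
`s` and `t` adjoined) that generate the unit ideal, and for every `i` an invertible `2 × 2` matrix
`v` over `B'_{f_i} ⊗_B A` (that is, `A` with the two square roots adjoined, localised at `f_i`;
`lam` extends so as to fix the square roots) such that `(lam v)ᵀ h v` is the matrix with rows `(0,
1)`, `(-1, 0)`. (The published statement writes the congruence with the plain transpose `vᵀ h v`,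
which fails in general: for a field `k` of characteristic not `2`, the ring `A` of formal power
series in `y` over `k`, with `B` its subring of series in `y²`, `lam y = -y` and `h` with rows `(y,
1)`, `(-1, y)`, satisfies every hypothesis, while `vᵀ h v` equal to the matrix with rows `(0, 1)`,
`(-1, 0)` would, added to its transpose, give `2y · vᵀ v = 0` and hence `det v = 0` over a nonzero
ring in which `y` is not a zero divisor. The proof computes the Gram matrix of the hermitian form
`(a, b) ↦ (lam a)ᵀ h b` in a new basis, which is `(lam v)ᵀ h v`, and that is what is stated here.) -/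
theorem result (B : Type u) (A : Type v) [CommRing B] [CommRing A]
    [Algebra B A] (lam : A ≃ₐ[B] A) (hlam : ∀ a, lam (lam a) = a) (hB : RInv.IsFixedRing B A lam.toRingEquiv)
    [IsLocalRing B] (hid : ∀ a : A, lam a - a ∈ Ring.jacobson A) (h2 : IsUnit (2 : A))
    (h : Matrix (Fin 2) (Fin 2) A) (hh : IsUnit h) (herm : -(h.map lam).transpose = h)
    (hJ : ∀ i j : Fin 2, h i j - Matrix.of ![![(0 : A), 1], ![-1, 0]] i j ∈ Ring.jacobson A) :
    ∃ (s t : Bˣ) (r : ℕ) (f : Fin r → (MvPolynomial (Fin 2) B ⧸ Ideal.span ({MvPolynomial.X 0 ^ 2 - MvPolynomial.C (s : B), MvPolynomial.X 1 ^ 2 - MvPolynomial.C (t : B)} : Set (MvPolynomial (Fin 2) B)))),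
      Ideal.span (Set.range f) = ⊤ ∧
      ∀ i : Fin r, ∃ v : Matrix (Fin 2) (Fin 2) (Localization.Away (f i) ⊗[B] A), IsUnit v ∧
        (v.map (Algebra.TensorProduct.congr (AlgEquiv.refl : Localization.Away (f i) ≃ₐ[Localization.Away (f i)] Localization.Away (f i)) lam)).transpose * h.map (Algebra.TensorProduct.includeRight : A →ₐ[B] Localization.Away (f i) ⊗[B] A) * v
          = (Matrix.of ![![(0 : A), 1], ![-1, 0]]).map (Algebra.TensorProduct.includeRight : A →ₐ[B] Localization.Away (f i) ⊗[B] A) := by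
  haveI : Nontrivial A := ⟨⟨algebraMap B A 0, algebraMap B A 1, fun h => zero_ne_one (hB.1 h)⟩⟩
  obtain ⟨M, hM⟩ := Ideal.exists_maximal A
  haveI := hM
  have hinv : Function.Involutive lam.toRingEquiv := hlam
  have he : ∀ i j, -lam (h j i) = h i j := fun i j => congrFun (congrFun herm i) j
  have hJ00 : h 0 0 ∈ Ring.jacobson A := by simpa using hJ 0 0
  -- the off diagonal entry is a unit
  obtain ⟨β, hβ⟩ : ∃ β, β * h 0 1 = 1 := by
    have h1 : IsUnit (h 0 1) := by
      refine (Groth.L09.RInvBasic.isUnit_iff hinv hB M _).2 ⟨fun hm => ?_, fun hm => ?_⟩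
      · have := M.sub_mem hm ((Groth.L09.RInvBasic.mem_jacobson_iff hinv hB M _).1 (hJ 0 1)).1
        exact hM.ne_top ((Ideal.eq_top_iff_one _).2 (by simpa using this))
      · have := M.sub_mem hm ((Groth.L09.RInvBasic.mem_jacobson_iff hinv hB M _).1 (hJ 0 1)).2
        exact hM.ne_top ((Ideal.eq_top_iff_one _).2 (by simpa using this))
    exact h1.exists_left_inv
  have ha : lam (h 0 0) = -h 0 0 := neg_eq_iff_eq_neg.1 (he 0 0)
  have hd : lam (h 1 1) = -h 1 1 := neg_eq_iff_eq_neg.1 (he 1 1)
  have hsfix : lam (1 + h 0 0 * (lam β * h 1 1 * β)) = 1 + h 0 0 * (lam β * h 1 1 * β) := by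
    rw [map_add, map_one, map_mul, map_mul, map_mul, hlam, ha, hd]; ring
  obtain ⟨s₀, hs₀⟩ := (hB.2 _).1 hsfix
  have hs₀u : IsUnit s₀ := by
    refine Groth.L09.RInvBasic.isUnit_of_map hB ?_
    rw [hs₀]
    have hx : h 0 0 * (lam β * h 1 1 * β) ∈ M :=
      M.mul_mem_right _ ((Groth.L09.RInvBasic.mem_jacobson_iff hinv hB M _).1 hJ00).1
    have hne : 1 + h 0 0 * (lam β * h 1 1 * β) ∉ M := fun h' =>
      hM.ne_top ((Ideal.eq_top_iff_one _).2 ((Ideal.add_mem_iff_left _ hx).1 h'))
    exact (Groth.L09.RInvBasic.isUnit_iff hinv hB M _).2 ⟨hne, fun h' => hne (hsfix ▸ h')⟩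
  have h2B : IsUnit (2 : B) := Groth.L09.RInvBasic.isUnit_of_map hB (by rw [map_ofNat]; exact h2)
  obtain ⟨e2, he2⟩ := h2B.exists_left_inv
  set I := Ideal.span ({MvPolynomial.X 0 ^ 2 - MvPolynomial.C (hs₀u.unit : B),
    MvPolynomial.X 1 ^ 2 - MvPolynomial.C ((1 : Bˣ) : B)} : Set (MvPolynomial (Fin 2) B)) with hI
  let X₀ : MvPolynomial (Fin 2) B ⧸ I := Ideal.Quotient.mk I (MvPolynomial.X 0)
  let sg : Fin 2 → MvPolynomial (Fin 2) B ⧸ I := ![X₀, -X₀]
  refine ⟨hs₀u.unit, 1, 2, fun i => 1 + sg i, ?_, fun i => ?_⟩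
  · rw [Ideal.eq_top_iff_one]
    have h0 : (1 : MvPolynomial (Fin 2) B ⧸ I) =
        algebraMap B _ e2 * (1 + sg 0) + algebraMap B _ e2 * (1 + sg 1) := by
      have := congrArg (algebraMap B (MvPolynomial (Fin 2) B ⧸ I)) he2
      rw [map_mul, map_one, map_ofNat] at this
      simp only [sg, Matrix.cons_val_zero, Matrix.cons_val_one]
      linear_combination -this
    refine (congrArg (· ∈ _) h0).mpr ?_
    exact Ideal.add_mem _ (Ideal.mul_mem_left _ _ (Ideal.subset_span ⟨0, rfl⟩))
      (Ideal.mul_mem_left _ _ (Ideal.subset_span ⟨1, rfl⟩))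
  · show ∃ v : Matrix (Fin 2) (Fin 2) (Localization.Away (1 + sg i) ⊗[B] A), _
    have hsq : sg i * sg i = algebraMap B _ s₀ := by
      have : X₀ * X₀ = algebraMap B _ s₀ := by
        show Ideal.Quotient.mk I _ * Ideal.Quotient.mk I _ = Ideal.Quotient.mk I (MvPolynomial.C s₀)
        rw [← map_mul, Ideal.Quotient.eq, ← pow_two]
        exact Ideal.subset_span (Or.inl (by rw [IsUnit.unit_spec]))
      fin_cases i
      · simpa [sg] using this
      · simp only [sg, Fin.mk_one, Matrix.cons_val_one, Matrix.cons_val_zero]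
        linear_combination this
    let C := Localization.Away (1 + sg i)
    let σC : C := algebraMap (MvPolynomial (Fin 2) B ⧸ I) C (sg i)
    have hσC : σC * σC = algebraMap B C s₀ := by
      rw [← map_mul, hsq, ← IsScalarTower.algebraMap_apply]
    obtain ⟨ιC, hιC⟩ : ∃ ιC, ιC * (1 + σC) = 1 := by
      have := IsLocalization.Away.algebraMap_isUnit (S := C) (1 + sg i)
      rw [map_add, map_one] at this
      exact this.exists_left_inv
    let L : C ⊗[B] A →+* C ⊗[B] A :=
      (Algebra.TensorProduct.congr (AlgEquiv.refl : C ≃ₐ[C] C) lam).toRingEquiv.toRingHom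
    have hLt : ∀ c x, L (c ⊗ₜ x) = c ⊗ₜ lam x := fun c x => by simp [L]
    let inc : A →ₐ[B] C ⊗[B] A := Algebra.TensorProduct.includeRight
    have hLi : ∀ x, L (inc x) = inc (lam x) := fun x => hLt 1 x
    have hLc : ∀ c : C, L (c ⊗ₜ 1) = c ⊗ₜ 1 := fun c => by rw [hLt, map_one]
    have hLL : ∀ z, L (L z) = z := fun z => by
      induction z using TensorProduct.induction_on with
      | zero => simp
      | tmul c x => rw [hLt, hLt, hlam]
      | add x y hx hy => rw [map_add, map_add, hx, hy]
    have hBC : ∀ r : B, (algebraMap B C r) ⊗ₜ[B] (1 : A) = inc (algebraMap B A r) := fun r => by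
      rw [Algebra.algebraMap_eq_smul_one, Algebra.algebraMap_eq_smul_one, TensorProduct.smul_tmul]
      rfl
    obtain ⟨v, hv, hvv⟩ := congr_std L hLL (inc (h 0 0)) (inc (h 0 1)) (inc (h 1 1)) (inc β) (σC ⊗ₜ 1)
      ((σC * algebraMap B C ↑(hs₀u.unit⁻¹)) ⊗ₜ 1) (ιC ⊗ₜ 1) ((algebraMap B C e2) ⊗ₜ 1)
      (by rw [hLi, ha, map_neg]) (by rw [hLi, hd, map_neg]) (by rw [← map_mul, hβ, map_one])
      (hLc _) (hLc _) (hLc _) (hLc _)
      (by rw [hLi, pow_two, Algebra.TensorProduct.tmul_mul_tmul, one_mul, hσC, hBC, hs₀]; simp only [map_add, map_one, map_mul])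
      (by rw [Algebra.TensorProduct.tmul_mul_tmul, one_mul, ← mul_assoc, hσC, ← map_mul,
        IsUnit.mul_val_inv, map_one]; rfl)
      (by
        rw [Algebra.TensorProduct.one_def, ← TensorProduct.add_tmul, Algebra.TensorProduct.tmul_mul_tmul,
          one_mul, mul_comm, hιC])
      (by rw [← map_ofNat (algebraMap B (C ⊗[B] A)) 2, Algebra.TensorProduct.algebraMap_apply,
        Algebra.TensorProduct.tmul_mul_tmul, one_mul, ← map_mul, he2, map_one]; rfl)
    refine ⟨v, hv, ?_⟩
    have hstd : (Matrix.of ![![(0 : A), 1], ![-1, 0]]).map inc = Matrix.of ![![0, 1], ![-1, 0]] := by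
      ext a b; fin_cases a <;> fin_cases b <;> simp
    have hmat : h.map inc = Matrix.of ![![inc (h 0 0), inc (h 0 1)], ![-L (inc (h 0 1)), inc (h 1 1)]] := by
      ext a b
      fin_cases a <;> fin_cases b <;> simp [hLi]
      rw [← he 1 0, map_neg]
    rw [hstd, hmat]
    exact hvv

end Groth.Agent.S17363
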