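import Groth.Statements.S19315
import Groth.Agent.L13.DecBound.Basic
import Groth.Agent.L16.NegPow.Gen
import Groth.Agent.L23.SourceRegular
import Groth.Agent.L22.CurveDeg.ZeroDim

set_option autoImplicit false
universe u
open CategoryTheory CategoryTheory.Limits AlgebraicGeometry
open DecSh

namespace Groth.Agent.S19315

theorem finrank_sub_le {K V : Type*} [Field K] [AddCommGroup V] [Module K V] {r : ℕ} (hr : 0 < r)
    (h : Module.finrank K V = r) (W : Submodule K V) : Module.finrank K W ≤ r := by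
  haveI : Module.Finite K V := Module.finite_of_finrank_pos (by omega)
  exact h ▸ Submodule.finrank_le W


/-- Let k be an algebraically closed field of characteristic zero, Y a smooth proper k-scheme of
dimension one without isolated points (possibly disconnected), L an ample invertible O_Y-module, χ
the Euler characteristic over k and α(M) = χ(M ⊗ L) − χ(M) the multiplicity. Let E be a locally free
O_Y-module of rank r with a generalized parabolic structure: finitely many effective Cartier ideal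
sheaves I_1, …, I_ν (the divisors D_i) and, for each i, a k-subspace K_i of H⁰(E ⊗ O_{D_i}) whose
quotient has dimension r (K_i is the kernel of the parabolic quotient q_i). Fix rational weights κ_i
with 0 < κ_i < 1, δ > 0, and a tensor field T of type (a, b) on E with values in a module D such
that (E, K, T) is (κ, δ)-semistable with respect to L. Then every nonzero proper coherent subsheaf F
⊂ E satisfies χ(F)/α(F) ≤ χ(E)/α(E) + (a·δ + r·ν). (The source states the bound for the slopes deg/α
with deg as the constant term of the Hilbert polynomial corrected by the rank; these differ from χ/α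
by the same constant on both sides. The published target of the tensor field is det(E)^{⊗c} ⊗ L' and
the D_i are the pairs of points over the nodes; the bound uses neither.) -/
theorem result
    (k : Type u) [Field k] [IsAlgClosed k] [CharZero k]
    (Y : Scheme.{u}) [Y.Over (Spec (CommRingCat.of k))] [IsProper (Y ↘ Spec (CommRingCat.of k))]
    [Smooth (Y ↘ Spec (CommRingCat.of k))] (hdim : topologicalKrullDim Y = 1)
    (hpure : ∀ y : Y, ¬ IsOpen ({y} : Set Y))
    (L : Y.Modules) (hL : CohB1.IsAmple L)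
    (E : Y.Modules) (r : ℕ) (hE : FlatMod.IsFinLocFreeOfRank r E)
    {ν : ℕ} (I : Fin ν → Y.IdealSheafData) (hI : ∀ i, FGA.IsEffCartier (I i))
    (K : ∀ i, Submodule k (ParSh.fibD Y (I i) E))
    (hK : ∀ i, Module.finrank k (ParSh.fibD Y (I i) E ⧸ K i) = r)
    (κ : Fin ν → ℚ) (hκ : ∀ i, 0 < κ i ∧ κ i < 1)
    {D : Y.Modules} {a b : ℕ} (T : DecSh.TF E a b D)
    (δ : ℚ) (hδ : 0 < δ) (hT : T.IsParSemistable k I K κ L δ)
    (F : Y.Modules) (ι : F ⟶ E) [Mono ι] (hF : Coh.IsCoh F) (hF0 : ¬ IsZero F) (hι : ¬ IsIso ι) :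
    (Curv2.euler k Y F : ℚ) / (DecSh.mult k Y L F : ℚ) ≤
      (Curv2.euler k Y E : ℚ) / (DecSh.mult k Y L E : ℚ) + ((a : ℚ) * δ + (r : ℚ) * (ν : ℚ)) := by
  haveI : IsLocallyNoetherian Y := LocallyOfFiniteType.isLocallyNoetherian (Y ↘ Spec (CommRingCat.of k))
  haveI : AlgebraicGeometry.IsReduced Y := Groth.L23.isReduced_of_smooth (Y ↘ Spec (CommRingCat.of k))
  have hEc : Coh.IsCoh E := Groth.L16.NegPow.isCoh_of_isFinLocFree (fun y => let ⟨U, h, e⟩ := hE y; ⟨U, r, h, e⟩)
  have htf : TorSh.IsTorsionFree E := fun x => by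
    obtain ⟨θ⟩ := Groth.L22.CurveDeg.nonempty_stalk_equiv hE x
    exact Function.Injective.moduleIsTorsionFree _ θ.symm.injective fun c v => θ.symm.map_smul c v
  have hr : 0 < r := by
    by_contra h
    obtain rfl : r = 0 := by omega
    refine hF0 ((Groth.L21.Mod.isZero_iff_stalk_subsingleton F).2 fun x => ?_)
    obtain ⟨θ⟩ := Groth.L22.CurveDeg.nonempty_stalk_equiv hE x
    haveI hs : Subsingleton (E.presheaf.stalk x) := θ.symm.toEquiv.subsingleton
    exact @Function.Injective.subsingleton _ _ _ ((Groth.L21.Mod.mono_iff_stalk_injective ι).1 ‹_› x) hs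
  have hP : Subobject.mk ι ≠ ⊤ := fun h => hι ((Subobject.isIso_iff_mk_eq_top ι).2 h)
  let θ : ((Subobject.mk ι : Subobject E) : Y.Modules) ≅ F := Subobject.underlyingIso ι
  have hP0 : ¬ IsZero ((Subobject.mk ι : Subobject E) : Y.Modules) := fun h => hF0 (h.of_iso θ.symm)
  have hPc : Coh.IsCoh ((Subobject.mk ι : Subobject E) : Y.Modules) := Groth.L16.CohSupport.isCoh_of_iso θ.symm hF
  have hm : DecSh.mult k Y L ((Subobject.mk ι : Subobject E) : Y.Modules) = DecSh.mult k Y L F := by
    simp only [DecSh.mult]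
    rw [Groth.L03.Euler.euler_iso (k := k) θ, Groth.L03.Euler.euler_iso (k := k) (Groth.L00.Tensor.tensorIso θ (Iso.refl L))]
  have he : Curv2.euler k Y ((Subobject.mk ι : Subobject E) : Y.Modules) = Curv2.euler k Y F :=
    Groth.L03.Euler.euler_iso θ
  have hα : 1 ≤ DecSh.mult k Y L F :=
    Groth.L13.DecBound.mult_pos hL hdim.le hpure hF (Groth.L13.DecBound.isTorsionFree_sub' ι htf) hF0
  have hle : DecSh.mult k Y L F ≤ DecSh.mult k Y L E := Groth.L13.DecBound.mult_le hL hdim.le ι hF hEc
  have h := hT (DecSh.WFilt.single (Subobject.mk ι) hP hP0) fun _ => hPc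
  have hmu := Groth.L13.DecBound.single_mu_ge (DecSh.mult k Y L E) (fun P : Subobject E => DecSh.mult k Y L (P : Y.Modules))
    hP hP0 (le_trans (le_trans zero_le_one hα) hle) T.nv
  rw [Groth.L13.DecBound.msum_single] at h
  beta_reduce at h hmu
  simp only [DecSh.parChi] at h
  rw [hm, he] at h
  rw [hm] at hmu
  set A : ℚ := (DecSh.mult k Y L E : ℚ) with hA
  set B : ℚ := (DecSh.mult k Y L F : ℚ) with hB
  set SF : ℚ := ∑ i, κ i * (Module.finrank k ((LinearMap.range (ParSh.fibDMap k Y (I i) (Subobject.mk ι).arrow)).map (K i).mkQ) : ℚ) with hSF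
  set SE : ℚ := ∑ i, κ i * (Module.finrank k ((LinearMap.range (ParSh.fibDMap k Y (I i) (𝟙 E))).map (K i).mkQ) : ℚ) with hSE
  have hSFle : SF ≤ (r : ℚ) * ν := by
    refine (Finset.sum_le_card_nsmul _ _ (r : ℚ) fun i _ => ?_).trans (le_of_eq (by simp [mul_comm]))
    have h1 : (Module.finrank k ((LinearMap.range (ParSh.fibDMap k Y (I i) (Subobject.mk ι).arrow)).map (K i).mkQ) : ℚ) ≤ r :=
      Nat.cast_le.2 (finrank_sub_le hr (hK i) _)
    exact (mul_le_of_le_one_left (Nat.cast_nonneg _) (hκ i).2.le).trans h1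
  have hSE0 : 0 ≤ SE := Finset.sum_nonneg fun i _ => mul_nonneg (hκ i).1.le (Nat.cast_nonneg _)
  have hB1 : (1 : ℚ) ≤ B := by rw [hB]; exact_mod_cast hα
  have hBA : B ≤ A := by rw [hA, hB]; exact_mod_cast hle
  have hApos : 0 < A := lt_of_lt_of_le (lt_of_lt_of_le zero_lt_one hB1) hBA
  have ha : (0 : ℚ) ≤ (a : ℚ) * δ := mul_nonneg (Nat.cast_nonneg a) hδ.le
  have hmuδ := mul_le_mul_of_nonneg_left hmu hδ.le
  have key : (Curv2.euler k Y F : ℚ) * A ≤
      (Curv2.euler k Y E : ℚ) * B + ((a : ℚ) * δ + (r : ℚ) * ν) * (A * B) := by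
    have hC : (0 : ℚ) ≤ (r : ℚ) * ν := by positivity
    nlinarith [mul_le_mul_of_nonneg_left hSFle hApos.le, mul_nonneg (le_trans zero_le_one hB1) hSE0,
      mul_le_mul_of_nonneg_left hB1 (mul_nonneg ha hApos.le), mul_le_mul_of_nonneg_left hB1 (mul_nonneg hC hApos.le),
      mul_nonneg ha (le_trans zero_le_one hB1)]
  rw [div_add' _ _ _ hApos.ne', div_le_div_iff₀ (lt_of_lt_of_le zero_lt_one hB1) hApos]
  nlinarith [key]

end Groth.Agent.S19315
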