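import Groth.Statements.S11449
import Groth.Agent.L15.HilbertBurch
import Groth.Agent.L04.RegularPd
import Mathlib.Algebra.Module.SpanRank
import Mathlib.RingTheory.LocalRing.Module
import Mathlib.Algebra.Category.ModuleCat.Projective
import Mathlib.LinearAlgebra.Dimension.StrongRankCondition
-- import your own Groth.Agent.* helpers here

set_option autoImplicit false
universe u
open DefT

namespace Groth.Agent.S11449

open CategoryTheory IsLocalRing

variable {A : Type u} [CommRing A]

theorem depth_le_of_quotient [IsNoetherianRing A] [IsLocalRing A] (I : Ideal A)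
    [LocCoh.IsCohenMacaulayLocalRing (A ⧸ I)] {d : ℕ} (hd : ringKrullDim (A ⧸ I) = d) :
    (d : ℕ∞) ≤ LocCoh.depth A (A ⧸ I) := by
  have h := LocCoh.IsCohenMacaulayLocalRing.supportDim_eq_depth (R := A ⧸ I)
  rw [Module.supportDim_self_eq_ringKrullDim, hd] at h
  obtain ⟨rs, hlen, hreg, hmem⟩ := Groth.L04.exists_of_le_idealDepth
    (I := maximalIdeal (A ⧸ I)) (M := A ⧸ I)
    (by rw [smul_eq_mul, Ideal.mul_top]; exact (maximalIdeal.isMaximal _).ne_top)
    (n := d) (WithBot.coe_inj.1 h).le
  obtain ⟨as, rfl⟩ : ∃ as : List A, as.map (Ideal.Quotient.mk I) = rs :=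
    List.map_surjective_iff.mpr Ideal.Quotient.mk_surjective rs
  rw [← Ideal.Quotient.algebraMap_eq, RingTheory.Sequence.isWeaklyRegular_map_algebraMap_iff] at hreg
  rw [LocCoh.depth, LocCoh.idealDepth]
  split_ifs with h0
  · exact le_top
  · refine le_trans (le_of_eq ?_) (le_iSup₂ (f := fun (rs : List A) (_ : RingTheory.Sequence.IsWeaklyRegular (A ⧸ I) rs ∧
      ∀ r ∈ rs, r ∈ maximalIdeal A) => (rs.length : ℕ∞)) as ⟨hreg, fun a ha => ?_⟩)
    · rw [← hlen, List.length_map]
    · have h1 := hmem _ (List.mem_map_of_mem (f := Ideal.Quotient.mk I) ha)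
      rw [mem_maximalIdeal, mem_nonunits_iff] at h1 ⊢
      exact fun hu => h1 (hu.map _)

theorem projective_relations [IsRegularLocalRing A] (I : Ideal A) [LocCoh.IsCohenMacaulayLocalRing (A ⧸ I)]
    (hcodim : ringKrullDim (A ⧸ I) + 2 = ringKrullDim A) {n : ℕ} (f : Fin n → A)
    (hf : Ideal.span (Set.range f) = I) :
    Module.Projective A (LinearMap.ker (Fintype.linearCombination A f)) := by
  obtain ⟨d, hd⟩ := Groth.L01.exists_dim_eq_nat (R := A ⧸ I)
  have hdA : ringKrullDim A = ((d + 2 : ℕ) : WithBot ℕ∞) := by rw [← hcodim, hd]; rfl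
  haveI h3 : HasProjectiveDimensionLT (ModuleCat.of A (A ⧸ I)) (2 + 1) :=
    Groth.L04.hasProjectiveDimensionLE_of_dim_le_add_depth (A ⧸ I) hdA (t := 2) (by
      push_cast
      rw [add_comm]
      gcongr
      exact depth_le_of_quotient I hd)
  let S₁ : ShortComplex (ModuleCat.{u} A) := ShortComplex.mk
    (ModuleCat.ofHom (Submodule.subtype I)) (ModuleCat.ofHom (Submodule.mkQ I))
    (ModuleCat.hom_ext (LinearMap.ext fun z => (Submodule.Quotient.mk_eq_zero I).mpr z.2))
  have hS₁ : S₁.ShortExact :=
    { exact := (ShortComplex.ShortExact.moduleCat_exact_iff_function_exact _).2 (LinearMap.exact_subtype_mkQ I)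
      mono_f := (ModuleCat.mono_iff_injective _).2 (Submodule.injective_subtype I)
      epi_g := (ModuleCat.epi_iff_surjective _).2 (Submodule.mkQ_surjective I) }
  haveI : Projective (ModuleCat.of A A) := (IsProjective.iff_projective _).mp inferInstance
  haveI : HasProjectiveDimensionLT S₁.X₂ 2 := hasProjectiveDimensionLT_of_ge (ModuleCat.of A A) 1 2 (by omega)
  haveI hI : HasProjectiveDimensionLT (ModuleCat.of A I) (1 + 1) :=
    hS₁.hasProjectiveDimensionLT_X₁ 2 inferInstance h3
  have hmem : ∀ v, Fintype.linearCombination A f v ∈ I := fun v => by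
    rw [← hf]
    show _ ∈ Submodule.span A (Set.range f)
    rw [← Fintype.range_linearCombination A f]
    exact LinearMap.mem_range_self _ v
  let π : (Fin n → A) →ₗ[A] I := LinearMap.codRestrict I (Fintype.linearCombination A f) hmem
  have hπ : Function.Surjective π := by
    rintro ⟨a, ha⟩
    rw [← hf] at ha
    obtain ⟨v, hv⟩ : a ∈ LinearMap.range (Fintype.linearCombination A f) := by
      rw [Fintype.range_linearCombination]; exact ha
    exact ⟨v, Subtype.ext hv⟩
  have hker : LinearMap.ker π = LinearMap.ker (Fintype.linearCombination A f) := LinearMap.ker_codRestrict _ _ _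
  let S₂ : ShortComplex (ModuleCat.{u} A) := ShortComplex.mk
    (ModuleCat.ofHom (LinearMap.ker π).subtype) (ModuleCat.ofHom π)
    (ModuleCat.hom_ext (LinearMap.ext fun z => LinearMap.mem_ker.mp z.2))
  have hS₂ : S₂.ShortExact :=
    { exact := (ShortComplex.ShortExact.moduleCat_exact_iff_function_exact _).2 π.exact_subtype_ker_map
      mono_f := (ModuleCat.mono_iff_injective _).2 (LinearMap.ker π).injective_subtype
      epi_g := (ModuleCat.epi_iff_surjective _).2 hπ }
  haveI : Projective (ModuleCat.of A (Fin n → A)) := (IsProjective.iff_projective _).mp inferInstance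
  haveI : HasProjectiveDimensionLT S₂.X₂ 1 :=
    (projective_iff_hasProjectiveDimensionLT_one).mp (inferInstanceAs (Projective (ModuleCat.of A (Fin n → A))))
  have hK : HasProjectiveDimensionLT (ModuleCat.of A (LinearMap.ker π)) 1 :=
    hS₂.hasProjectiveDimensionLT_X₁ 1 inferInstance hI
  haveI : Module.Projective A (LinearMap.ker π) :=
    (IsProjective.iff_projective _).mpr (projective_iff_hasProjectiveDimensionLT_one.mpr hK)
  exact Module.Projective.of_equiv (LinearEquiv.ofEq _ _ hker)

theorem two_le_height [IsRegularLocalRing A] (I : Ideal A)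
    (hcodim : ringKrullDim (A ⧸ I) + 2 = ringKrullDim A) (P : Ideal A) [P.IsPrime] (hIP : I ≤ P) :
    (2 : ℕ∞) ≤ P.height := by
  have h1 := Groth.L04.height_add_ringKrullDim_quotient P
  have h2 : ringKrullDim (A ⧸ P) ≤ ringKrullDim (A ⧸ I) :=
    ringKrullDim_le_of_surjective (Ideal.Quotient.factor hIP) (Ideal.Quotient.factor_surjective hIP)
  haveI : Nontrivial (A ⧸ P) := Ideal.Quotient.nontrivial_iff.2 (Ideal.IsPrime.ne_top ‹_›)
  haveI : IsLocalRing (A ⧸ P) := IsLocalRing.of_surjective' _ Ideal.Quotient.mk_surjective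
  obtain ⟨e, he⟩ := Groth.L01.exists_dim_eq_nat (R := A ⧸ P)
  haveI : Nontrivial (A ⧸ I) := Ideal.Quotient.nontrivial_iff.2 (ne_top_of_le_ne_top (Ideal.IsPrime.ne_top ‹_›) hIP)
  haveI : IsLocalRing (A ⧸ I) := IsLocalRing.of_surjective' _ Ideal.Quotient.mk_surjective
  obtain ⟨d, hd⟩ := Groth.L01.exists_dim_eq_nat (R := A ⧸ I)
  rw [← hcodim, he, hd] at h1
  rw [he, hd] at h2
  have h2' : e ≤ d := by exact_mod_cast h2
  generalize P.height = t at h1 ⊢
  induction t with
  | top => exact le_top
  | coe t =>
    have h3 : e + t = d + 2 := by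
      rw [show ((t : ℕ∞) : WithBot ℕ∞) = (t : WithBot ℕ∞) from rfl] at h1
      exact_mod_cast h1
    exact_mod_cast (by omega : 2 ≤ t)

/-- Let A be a regular local ring and I an ideal such that A/I is a Cohen–Macaulay local ring whose
Krull dimension is dim A − 2. Then for some r there is an (r+1) × r matrix φ with entries in A such
that, writing f_i for (−1)^i times the determinant of φ with its i-th row removed (i = 0, …, r), the
elements f_0, …, f_r generate I, no family of fewer than r + 1 elements generates I, multiplication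
by φ is an injective map A^r → A^{r+1}, and the image of that map is exactly the kernel of the map
A^{r+1} → A sending v to Σ_i v_i f_i; together with A → A/I this is a free resolution 0 → A^r →
A^{r+1} → A → A/I → 0. -/
theorem result
    (A : Type u) [CommRing A] [IsRegularLocalRing A] (I : Ideal A)
    [LocCoh.IsCohenMacaulayLocalRing (A ⧸ I)]
    (hcodim : ringKrullDim (A ⧸ I) + 2 = ringKrullDim A) :
    ∃ (r : ℕ) (φ : Matrix (Fin (r + 1)) (Fin r) A),
      Ideal.span (Set.range (fun i : Fin (r + 1) => (-1 : A) ^ (i : ℕ) * (φ.submatrix i.succAbove id).det)) = I ∧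
      I.spanFinrank = r + 1 ∧
      Function.Injective φ.mulVecLin ∧
      LinearMap.range φ.mulVecLin =
        LinearMap.ker (Fintype.linearCombination A (fun i : Fin (r + 1) => (-1 : A) ^ (i : ℕ) * (φ.submatrix i.succAbove id).det)) := by
  haveI : IsDomain A := Groth.L01.isDomain_of_regular A
  obtain ⟨t, ht, htI⟩ := Submodule.FG.exists_span_finset_card_eq_spanFinrank (IsNoetherian.noetherian I)
  have hI_top : I ≠ ⊤ := fun e => by
    subst e
    haveI : Subsingleton (A ⧸ (⊤ : Ideal A)) := Submodule.Quotient.subsingleton_iff.mpr rfl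
    exact false_of_nontrivial_of_subsingleton (A ⧸ (⊤ : Ideal A))
  have hI_bot : I ≠ ⊥ := fun e => by
    obtain ⟨P, hP⟩ := Ideal.nonempty_minimalPrimes (I := I) hI_top
    haveI := hP.1.1
    have h0 : P.height = 0 := by
      rw [Ideal.height_eq_zero_iff]
      subst e
      exact hP
    have := two_le_height I hcodim P hP.1.2
    rw [h0] at this
    simp at this
  rw [← ht]
  obtain ⟨m, hm⟩ : ∃ m, t.card = m + 1 := by
    refine Nat.exists_eq_succ_of_ne_zero fun h0 => hI_bot ?_
    rw [← htI, Finset.card_eq_zero.mp h0]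
    simp
  let f : Fin (m + 1) → A := fun i => (t.equivFinOfCardEq hm).symm i
  have hf : Ideal.span (Set.range f) = I := by
    conv_rhs => rw [← htI]
    congr 1
    ext a
    constructor
    · rintro ⟨i, rfl⟩; exact ((t.equivFinOfCardEq hm).symm i).2
    · exact fun ha => ⟨t.equivFinOfCardEq hm ⟨a, ha⟩, by simp [f]⟩
  set K := LinearMap.ker (Fintype.linearCombination A f) with hK
  haveI : Module.Projective A K := projective_relations I hcodim f hf
  haveI : Module.Finite A K := Module.Finite.iff_fg.mpr (IsNoetherian.noetherian _)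
  haveI : Module.Flat A K := inferInstance
  haveI : Module.Free A K := Module.free_of_flat_of_isLocalRing
  obtain ⟨r, ⟨b⟩⟩ : ∃ r, Nonempty (Module.Basis (Fin r) A K) := ⟨_, ⟨Module.finBasis A K⟩⟩
  let φ : Matrix (Fin (m + 1)) (Fin r) A := Matrix.of fun i l => (b l : Fin (m + 1) → A) i
  have hφ : φ.mulVecLin = K.subtype ∘ₗ (b.equivFun.symm : (Fin r → A) →ₗ[A] K) := by
    refine LinearMap.ext fun w => funext fun i => ?_
    simp [φ, Matrix.mulVec, dotProduct, Module.Basis.equivFun_symm_apply, mul_comm]
  have hinj : Function.Injective φ.mulVecLin := by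
    rw [hφ]; exact K.injective_subtype.comp b.equivFun.symm.injective
  have hrange : LinearMap.range φ.mulVecLin = K := by
    rw [hφ, LinearMap.range_comp, LinearEquiv.range, Submodule.map_top, Submodule.range_subtype]
  have hz : ∀ j i, ∃ z, φ.mulVecLin z = f j • Pi.single i 1 - f i • Pi.single j 1 := fun j i => by
    rw [← LinearMap.mem_range, hrange, hK, LinearMap.mem_ker, map_sub, map_smul, map_smul,
      Fintype.linearCombination_apply_single, Fintype.linearCombination_apply_single]
    simp [mul_comm]
  choose z hz using hz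
  obtain ⟨j₀, hj₀⟩ : ∃ j, f j ≠ 0 := by
    by_contra h
    simp only [not_exists, not_not] at h
    refine hI_bot ?_
    rw [← hf, Ideal.span_eq_bot]
    rintro _ ⟨i, rfl⟩
    exact h i
  -- the rank of the relation module
  have hsucc : ∀ (j : Fin (m + 1)) (y : Fin m → A) (k : Fin m),
      φ.mulVecLin (∑ i, y i • z j (j.succAbove i)) (j.succAbove k) = f j * y k := fun j y k => by
    simp only [map_sum, map_smul, hz, Finset.sum_apply, Pi.smul_apply, Pi.sub_apply, smul_eq_mul,
      Pi.single_apply, Fin.succAbove_ne j k, if_false, mul_zero, sub_zero, Fin.succAbove_right_inj]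
    simp [mul_comm]
  have hrm : r = m := by
    refine le_antisymm ?_ ?_
    · let L : (Fin r → A) →ₗ[A] (Fin m → A) := LinearMap.funLeft A A j₀.succAbove ∘ₗ φ.mulVecLin
      have hL : Function.Injective L := by
        rw [← LinearMap.ker_eq_bot, LinearMap.ker_eq_bot']
        intro w hw
        refine hinj ((funext fun i => ?_).trans (map_zero φ.mulVecLin).symm)
        have hk : ∀ k, φ.mulVecLin w (j₀.succAbove k) = 0 := fun k => congrFun hw k
        have h0 : Fintype.linearCombination A f (φ.mulVecLin w) = 0 := by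
          rw [← LinearMap.mem_ker, ← hK, ← hrange]; exact LinearMap.mem_range_self _ _
        rw [Fintype.linearCombination_apply, Fin.sum_univ_succAbove _ j₀] at h0
        simp only [hk, smul_eq_mul, zero_mul, Finset.sum_const_zero, add_zero, mul_eq_zero, hj₀, or_false] at h0
        rcases Fin.eq_self_or_eq_succAbove j₀ i with rfl | ⟨k, rfl⟩
        · exact h0
        · exact hk k
      simpa using LinearMap.finrank_le_finrank_of_injective hL
    · let L : (Fin m → A) →ₗ[A] (Fin r → A) := Fintype.linearCombination A fun i => z j₀ (j₀.succAbove i)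
      have hL : Function.Injective L := by
        intro y y' h
        funext k
        have h1 := hsucc j₀ y k
        have h2 := hsucc j₀ y' k
        rw [← Fintype.linearCombination_apply] at h1 h2
        rw [show L y = L y' from h] at h1
        exact mul_left_cancel₀ hj₀ (h1.symm.trans h2)
      simpa using LinearMap.finrank_le_finrank_of_injective hL
  subst hrm
  set g : Fin (r + 1) → A := fun i => (-1 : A) ^ (i : ℕ) * (φ.submatrix i.succAbove id).det
  -- `g j ∣ f j ^ r`
  have hdvd : ∀ j, g j ∣ f j ^ r := fun j => by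
    let Z : Matrix (Fin r) (Fin r) A := Matrix.of fun l i => z j (j.succAbove i) l
    have hmul : φ.submatrix j.succAbove id * Z = f j • (1 : Matrix (Fin r) (Fin r) A) := by
      ext k i
      have := hsucc j (Pi.single i 1) k
      simp only [Pi.single_apply, ite_smul, one_smul, zero_smul, Finset.sum_ite_eq', Finset.mem_univ, if_true] at this
      simp only [Matrix.mul_apply, Matrix.submatrix_apply, id, Matrix.smul_apply, Matrix.one_apply, smul_eq_mul]
      exact this
    have hdet := congrArg Matrix.det hmul
    rw [Matrix.det_mul, Matrix.det_smul, Matrix.det_one, mul_one, Fintype.card_fin] at hdet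
    exact ⟨(-1 : A) ^ (j : ℕ) * Z.det, by
      rw [← hdet]
      simp only [g]
      rw [mul_mul_mul_comm, ← mul_pow]
      simp⟩
  have hgf : ∀ i j, g i * f j = g j * f i := fun i j => by
    have h := Groth.L15.HB.linearCombination_mulVec φ g (fun l => Groth.L15.HB.sum_minor_mul φ l) (z j i)
    rw [hz j i, map_sub, map_smul, map_smul, Fintype.linearCombination_apply_single,
      Fintype.linearCombination_apply_single, sub_eq_zero] at h
    simpa [mul_comm] using h
  -- a regular pair in `I`
  have hdep : (2 : ℕ∞) ≤ LocCoh.idealDepth I A := by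
    haveI := Groth.L04.isCohenMacaulayLocalRing_of_regular A
    rw [Groth.L04.isCohenMacaulayRing_iff_height.1 (Groth.L04.isCohenMacaulayRing_of_local A) I hI_top,
      Ideal.height_eq_inf_minimalPrimes]
    exact le_iInf₂ fun P hP => by haveI := hP.1.1; exact two_le_height I hcodim P hP.1.2
  obtain ⟨rs, hlen, hreg, hmem⟩ := Groth.L04.exists_of_le_idealDepth
    (I := I) (M := A) (by rwa [smul_eq_mul, Ideal.mul_top]) (n := 2) (by exact_mod_cast hdep)
  match rs, hlen with
  | [x, y], _ =>
  rw [RingTheory.Sequence.isWeaklyRegular_cons_iff, RingTheory.Sequence.isWeaklyRegular_singleton_iff] at hreg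
  obtain ⟨v, hv⟩ : x ∈ LinearMap.range (Fintype.linearCombination A f) := by
    rw [Fintype.range_linearCombination]; exact hf.ge (hmem x (by simp))
  obtain ⟨w, hw⟩ : y ∈ LinearMap.range (Fintype.linearCombination A f) := by
    rw [Fintype.range_linearCombination]; exact hf.ge (hmem y (by simp))
  have hkill : ∀ p q, Fintype.linearCombination A g p * Fintype.linearCombination A f q =
      Fintype.linearCombination A g q * Fintype.linearCombination A f p := by
    intro p q
    simp only [Fintype.linearCombination_apply, smul_eq_mul, Finset.sum_mul, Finset.mul_sum]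
    conv_lhs => rw [Finset.sum_comm]
    refine Finset.sum_congr rfl fun j _ => Finset.sum_congr rfl fun i _ => ?_
    linear_combination (p j * q i) * hgf j i
  obtain ⟨u, hu⟩ : ∃ u, u * x = Fintype.linearCombination A g v := by
    rw [← Ideal.mem_span_singleton']
    have h1 : y • (Submodule.Quotient.mk (Fintype.linearCombination A g v) : QuotSMulTop x A) = 0 := by
      rw [← Submodule.Quotient.mk_smul, Submodule.Quotient.mk_eq_zero, ← Submodule.ideal_span_singleton_smul,
        smul_eq_mul, smul_eq_mul, Ideal.mul_top, Ideal.mem_span_singleton']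
      refine ⟨Fintype.linearCombination A g w, ?_⟩
      rw [← hv, ← hw, hkill w v]
      ring
    have h2 := hreg.2.right_eq_zero_of_smul h1
    rw [Submodule.Quotient.mk_eq_zero, ← Submodule.ideal_span_singleton_smul, smul_eq_mul, Ideal.mul_top] at h2
    exact h2
  have hx0 : x ≠ 0 := fun e => one_ne_zero (hreg.1 (show x • (1 : A) = x • 0 by simp [e]))
  have hgu : ∀ i, g i = u * f i := fun i => by
    have h := hkill (Pi.single i 1) v
    rw [hv, ← hu, Fintype.linearCombination_apply_single, Fintype.linearCombination_apply_single] at h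
    simp only [one_smul] at h
    exact mul_right_cancel₀ hx0 (h.trans (by ring))
  have hunit : IsUnit u := by
    by_contra hnu
    obtain ⟨P, hP⟩ := Ideal.nonempty_minimalPrimes (I := Ideal.span {u})
      (fun e => hnu (Ideal.span_singleton_eq_top.mp e))
    haveI := hP.1.1
    have hle : I ≤ P := by
      rw [← hf, Ideal.span_le]
      rintro _ ⟨j, rfl⟩
      refine hP.1.1.mem_of_pow_mem r (hP.1.2 ?_)
      exact Ideal.mem_span_singleton.mpr (dvd_trans ⟨f j, hgu j⟩ (hdvd j))
    haveI : (Ideal.span {u}).IsPrincipal := ⟨⟨u, rfl⟩⟩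
    have h1 := Ideal.height_le_one_of_isPrincipal_of_mem_minimalPrimes (Ideal.span {u}) P hP
    exact absurd ((two_le_height I hcodim P hle).trans h1) (by simp)
  refine ⟨r, φ, ?_, hm, hinj, ?_⟩
  · rw [← hf]
    refine le_antisymm (Ideal.span_le.2 ?_) (Ideal.span_le.2 ?_)
    · rintro _ ⟨i, rfl⟩
      show g i ∈ _
      rw [hgu i]
      exact Ideal.mul_mem_left _ _ (Ideal.subset_span (Set.mem_range_self i))
    · rintro _ ⟨i, rfl⟩
      refine (Ideal.unit_mul_mem_iff_mem _ hunit).mp ?_
      rw [← hgu i]
      exact Ideal.subset_span (Set.mem_range_self i)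
  · rw [hrange, hK]
    have hG : ∀ p, Fintype.linearCombination A g p = u * Fintype.linearCombination A f p := fun p => by
      simp only [Fintype.linearCombination_apply, smul_eq_mul, hgu, Finset.mul_sum]
      exact Finset.sum_congr rfl fun i _ => by ring
    ext p
    show _ ↔ p ∈ LinearMap.ker (Fintype.linearCombination A g)
    rw [LinearMap.mem_ker, LinearMap.mem_ker, hG, hunit.mul_right_eq_zero]

end Groth.Agent.S11449
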