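import Groth.Statements.S9203
import Groth.Agent.L20.Chevalley.Reduction
import Groth.Agent.L20.Weight.Sep

set_option autoImplicit false
universe u v
open CategoryTheory AlgebraicGeometry
open Lim

set_option linter.style.haveILetI false
set_option backward.isDefEq.respectTransparency.types false

namespace Groth.Agent.S9203

/-- Suppose a scheme X is covered, as a topological space, by finitely many closed subschemes each of
which is affine: there are closed immersions Z_k → X, indexed by a finite type, with each Z_k affine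
and whose images cover X. Then X is affine. -/
theorem result (X : Scheme.{u}) {κ : Type v} [Finite κ]
    (Z : κ → Scheme.{u}) (ι : ∀ k, Z k ⟶ X) [∀ k, IsClosedImmersion (ι k)] [∀ k, IsAffine (Z k)]
    (hcov : ∀ x : X, ∃ k, x ∈ Set.range (ι k).base) : IsAffine X := by
  obtain ⟨n, ⟨e⟩⟩ := Finite.exists_equiv_fin κ
  let Z' : ULift.{u} (Fin n) → Scheme.{u} := fun i => Z (e.symm i.down)
  let d : (∐ Z') ⟶ X := Limits.Sigma.desc fun i => ι (e.symm i.down)
  have hcov' : ∀ x : X, ∃ i : ULift.{u} (Fin n), x ∈ Set.range (ι (e.symm i.down)) := fun x => by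
    obtain ⟨k, hk⟩ := hcov x
    obtain ⟨i, rfl⟩ := e.symm.surjective k
    exact ⟨⟨i⟩, hk⟩
  haveI : Surjective d := by
    refine ⟨fun x => ?_⟩
    obtain ⟨i, z, hz⟩ := hcov' x
    refine ⟨Limits.Sigma.ι Z' i z, ?_⟩
    rw [← Scheme.Hom.comp_apply, Limits.Sigma.ι_desc]
    exact hz
  haveI : UniversallyClosed d := by
    refine Groth.L20.Weight.universallyClosed_of_cover d (fun i => (Limits.Sigma.ι Z' i).opensRange)
      (fun x => ?_) fun i => ?_
    · obtain ⟨i, z, hz⟩ := (sigmaOpenCover Z').exists_eq x
      exact ⟨i, z, hz⟩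
    · haveI : UniversallyClosed ((Limits.Sigma.ι Z' i).isoOpensRange.hom ≫ (Limits.Sigma.ι Z' i).opensRange.ι ≫ d) := by
        rw [Scheme.Hom.isoOpensRange_hom_ι_assoc, Limits.Sigma.ι_desc]
        infer_instance
      exact UniversallyClosed.of_comp_surjective (Limits.Sigma.ι Z' i).isoOpensRange.hom _
  exact Groth.L20.Chevalley.isAffine_of_surjective_universallyClosed d

end Groth.Agent.S9203
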