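import Groth.Prelude.Def_HilbD
import Groth.Prelude.Def_Curve
import Mathlib.AlgebraicGeometry.Morphisms.Smooth
import Mathlib.AlgebraicGeometry.Morphisms.Separated
import Mathlib.AlgebraicGeometry.Morphisms.ClosedImmersion
import Mathlib.AlgebraicGeometry.Morphisms.Proper
import Groth.Agent.L02.Hilb.Repr
import Groth.Agent.L02.Hilb.FibreCard
import Groth.Agent.L22.FinAff.Glue

set_option autoImplicit false
set_option linter.style.haveILetI false
namespace CAlg
end CAlg
open CategoryTheory CategoryTheory.Limits AlgebraicGeometry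
universe u
open HilbD

namespace Groth.Agent.S1166

/-- Let f : X ⟶ S be a separated morphism of schemes and d a natural number such that any d points of X
lying in one fibre of f are contained in a common affine open of X. Then the Hilbert functor of
points of degree d of X over S is representable by a scheme. The published statement omits
separatedness of X ⟶ S; as published it fails for d = 1 (the hypothesis then always holds, but for
Spec ℤ doubled along D(2) over Spec ℤ the functor Hilb¹, i.e. sections with closed image, is not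
representable by a scheme), and only the separated case is stated here. For d ≥ 2 the hypothesis
already forces X ⟶ S to be separated, so the added assumption matters only for d = 1. -/
theorem result {X S : Scheme.{u}} (f : X ⟶ S) [IsSeparated f] (d : ℕ)
    (h : ∀ (s : S) (x : Fin d → X), (∀ i, f.base (x i) = s) → ∃ U : X.Opens, IsAffineOpen U ∧ ∀ i, x i ∈ U) :
    HilbD.Representable f d := by
  classical
  let J : Type u := {p : X.affineOpens × S.affineOpens // (p.1 : X.Opens) ≤ f ⁻¹ᵁ (p.2 : S.Opens)}
  let Ch : J → Groth.L02.Hilb.Chart f d := fun p =>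
    letI : Algebra Γ(S, p.1.2) Γ(X, p.1.1) := (f.appLE p.1.2 p.1.1 p.2).hom.toAlgebra
    have hV : IsAffineOpen (p.1.2 : S.Opens) := p.1.2.2
    have hU : IsAffineOpen (p.1.1 : X.Opens) := p.1.1.2
    { R := Γ(S, p.1.2), B := Γ(X, p.1.1), i := hV.fromSpec, j := hU.fromSpec
      w := (hV.SpecMap_appLE_fromSpec f hU p.2).symm
      s := fun _ => 0 }
  refine Groth.L02.Hilb.representable_of_charts Ch fun T x y => ?_
  obtain ⟨V, hV, hyV, -⟩ := exists_isAffineOpen_mem_and_subset (x := T.hom y) (U := (⊤ : S.Opens)) trivial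
  let q := x.1.subschemeι ≫ PicF.XTproj f T
  let P : Set X := (x.1.subschemeι ≫ pullback.fst f T.hom) '' (q ⁻¹' {y})
  suffices hU : ∃ U : X.Opens, IsAffineOpen U ∧ U ≤ f ⁻¹ᵁ V ∧ P ⊆ U by
    obtain ⟨U, hU, hUV, hPU⟩ := hU
    refine ⟨⟨(⟨U, hU⟩, ⟨V, hV⟩), hUV⟩, ?_, fun w hw => ?_⟩
    · show T.hom y ∈ Set.range hV.fromSpec
      rw [hV.range_fromSpec]; exact hyV
    · show _ ∈ Set.range hU.fromSpec
      rw [hU.range_fromSpec]; exact hPU ⟨w, hw, rfl⟩
  rcases P.eq_empty_or_nonempty with hP | hP
  · exact ⟨⊥, isAffineOpen_bot X, bot_le, by simp [hP]⟩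
  obtain ⟨⟨hfin, hflat, -⟩, hrank⟩ := x.2
  haveI : IsFinite q := hfin
  haveI : Flat q := hflat
  obtain ⟨hPfin, t, htP, htall⟩ := Groth.L02.Hilb.exists_tuple (d := d) hP fun s hs => by
    choose pre hpre hval using fun a : s => hs a.2
    have hinj : Function.Injective pre := fun a b hab => Subtype.ext (by rw [← hval a, ← hval b, hab])
    have h1 := Groth.L02.Hilb.card_fibre_le_finrank q y (Finset.univ.image pre) (fun w hw => by
      obtain ⟨a, -, rfl⟩ := Finset.mem_image.1 hw
      exact hpre a)
    rw [Finset.card_image_of_injective _ hinj, Finset.card_univ, Fintype.card_coe] at h1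
    exact h1.trans (hrank y).le
  have hf : ∀ a ∈ P, f a = T.hom y := by
    rintro _ ⟨w, hw, rfl⟩
    rw [← Scheme.Hom.comp_apply, Category.assoc, pullback.condition, ← Category.assoc, Scheme.Hom.comp_apply]
    exact congrArg T.hom hw
  obtain ⟨U, hU, htU⟩ := h (T.hom y) t fun i => hf _ (htP i)
  obtain ⟨U', hU', hle, hPU⟩ := Groth.L22.FinAff.exists_affine_le_finset hU (f ⁻¹ᵁ V) P hPfin
    (fun a ha => by obtain ⟨i, rfl⟩ := htall a ha; exact htU i)
    (fun a ha => show f a ∈ V by rw [hf a ha]; exact hyV)
  exact ⟨U', hU', hle.trans inf_le_right, hPU⟩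

end Groth.Agent.S1166
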