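import Groth.Statements.S11300
import Groth.Agent.L11.HilbConn.Start
import Groth.Agent.L16.ProjSpace.Basic

set_option autoImplicit false
set_option linter.style.haveILetI false
set_option backward.isDefEq.respectTransparency false
set_option backward.isDefEq.respectTransparency.types false
universe u
open CategoryTheory CategoryTheory.Limits AlgebraicGeometry
open HilbD

namespace Groth.Agent.S11300

theorem nontrivial_component {X : Type u} [TopologicalSpace X] [TopologicalSpace.NoetherianSpace X] [PreconnectedSpace X]
    (hX : 0 < topologicalKrullDim X) (C : Set X) (hC : C ∈ irreducibleComponents X) : C.Nontrivial := by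
  by_contra h
  obtain ⟨a, ha⟩ := hC.1.nonempty
  have hsub : C.Subsingleton := Set.not_nontrivial_iff.1 h
  have hCa : C = {a} := hsub.eq_singleton_of_mem ha
  have hopen : IsOpen C := by
    have e : Cᶜ = ⋃ D ∈ irreducibleComponents X \ {C}, D := by
      ext z
      constructor
      · intro hz
        exact Set.mem_iUnion₂.2 ⟨irreducibleComponent z, ⟨irreducibleComponent_mem_irreducibleComponents z,
          fun e => hz (e ▸ mem_irreducibleComponent)⟩, mem_irreducibleComponent⟩
      · intro hz hzC
        obtain ⟨D, ⟨hD, hne⟩, hzD⟩ := Set.mem_iUnion₂.1 hz
        have hza : z = a := hsub hzC ha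
        have hle : C ≤ D := by rw [hCa]; exact Set.singleton_subset_iff.2 (hza ▸ hzD)
        exact hne (Set.mem_singleton_iff.2 (Set.Subset.antisymm (hC.2 hD.1 hle) hle))
    rw [← compl_compl C, e]
    exact (((TopologicalSpace.NoetherianSpace.finite_irreducibleComponents).subset Set.sdiff_subset).isClosed_biUnion
      fun D hD => isClosed_of_mem_irreducibleComponents D hD.1).isOpen_compl
  have huniv : C = Set.univ :=
    (show IsClopen C from ⟨isClosed_of_mem_irreducibleComponents C hC, hopen⟩).eq_univ ⟨a, ha⟩
  have hdim : topologicalKrullDim X ≤ 0 := by
    haveI : Subsingleton X := ⟨fun x y => hsub (huniv ▸ trivial) (huniv ▸ trivial)⟩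
    haveI : Subsingleton (TopologicalSpace.IrreducibleCloseds X) := ⟨fun D E => TopologicalSpace.IrreducibleCloseds.ext
      (Set.ext fun z => ⟨fun _ => (Subsingleton.elim E.2.nonempty.some z) ▸ E.2.nonempty.some_mem,
        fun _ => (Subsingleton.elim D.2.nonempty.some z) ▸ D.2.nonempty.some_mem⟩)⟩
    exact Order.krullDim_nonpos_of_subsingleton
  exact absurd hX (not_lt.2 hdim)

/-- Let k be an algebraically closed field and Y a connected projective scheme over k (a closed
subscheme of some projective space over k) of positive dimension. Let n ≥ 0 and let (H, Z) represent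
the Hilbert functor of n points of Y over k: Z is a closed subscheme of Y ×_k H finite locally free
of degree n over H, and every such family over a k-scheme T is the pullback of Z along a unique
k-morphism T → H. Then H (the Hilbert scheme Y^[n]) is connected, in particular non-empty. (The
published assertion does not exclude Y of dimension zero; for Y a single reduced point and n ≥ 2 the
Hilbert scheme of n points is empty, hence not connected. The published induction uses that the
universal ideal sheaf is supported on all of Y × Y^[n], which holds when Y has no isolated point,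
and a connected scheme of finite type over k of positive dimension has none; this row therefore
assumes Y of positive dimension.) -/
theorem result (k : Type u) [Field k] [IsAlgClosed k]
    (Y : Over (Spec (CommRingCat.of k))) (hproj : Neron.IsProjectiveOver k Y) [ConnectedSpace Y.left]
    (hY : 0 < topologicalKrullDim Y.left)
    (n : ℕ) (H : Over (Spec (CommRingCat.of k))) (Z : HilbD.Obj Y.hom n H)
    (hH : HilbD.IsUniversal Y.hom n H Z) : ConnectedSpace H.left := by
  obtain ⟨N, i, hi, hcomp⟩ := id hproj
  haveI := hi
  haveI : IsProper (CohB1.ProjSpaceOver.toBase N (Spec (CommRingCat.of k))) := MorphismProperty.pullback_snd (P := @IsProper) _ _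
    (Groth.L16.ProjSpace.isProper_toSpec N (ULift.{u} ℤ))
  haveI : IsProper Y.hom := by rw [← hcomp]; infer_instance
  haveI : IsSeparated Y.hom := inferInstance
  haveI : LocallyOfFiniteType Y.hom := inferInstance
  haveI : IsLocallyNoetherian Y.left := LocallyOfFiniteType.isLocallyNoetherian Y.hom
  haveI : CompactSpace Y.left := QuasiCompact.compactSpace_of_compactSpace Y.hom
  haveI : IsNoetherian Y.left := {}
  haveI : TopologicalSpace.NoetherianSpace Y.left := inferInstance
  have hfin := Groth.L11.HilbConn.exists_affine_of_finite Y hproj
  induction n generalizing H with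
  | zero =>
    haveI := Groth.L11.HilbConn.lft_of_isUniversal hH hfin
    exact Groth.L11.HilbConn.connectedSpace_zero hfin hH
  | succ n ih =>
    obtain ⟨H₀, Z₀, hH₀⟩ := Groth.Agent.S1166.result Y.hom n fun s x _ => by
      obtain ⟨U, hU, hE⟩ := hfin (Set.range x) (Set.finite_range x)
      exact ⟨U, hU, fun i => hE ⟨i, rfl⟩⟩
    haveI := ih H₀ Z₀ hH₀
    haveI := Groth.L11.HilbConn.lft_of_isUniversal hH₀ hfin
    haveI := Groth.L11.HilbConn.lft_of_isUniversal hH hfin
    exact Groth.L11.HilbConn.connectedSpace_succ hH₀ hH hfin (nontrivial_component hY)

end Groth.Agent.S11300
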