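import Groth.Statements.S1709
import Groth.Agent.L15.WeakAss
import Mathlib.AlgebraicGeometry.Morphisms.Affine

set_option autoImplicit false
universe u
open CategoryTheory CategoryTheory.Limits AlgebraicGeometry TopologicalSpace
open SDiv

namespace Groth.Agent.S1709

/-- Let f : X ⟶ S be an affine morphism with X locally Noetherian and F a quasi-coherent module on X.
Then the following subsets of S coincide: the image of the associated points of F, the associated
points of f_* F, the weakly associated points of f_* F, and the image of the weakly associated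
points of F. -/
theorem result {X S : Scheme.{u}} (f : X ⟶ S) [IsAffineHom f] [IsLocallyNoetherian X] (F : X.Modules)
    (hF : Coh.IsQCoh F) :
    (fun x => f x) '' {x : ↥X | Curv2.IsAssPoint F x} = {s : ↥S | Curv2.IsAssPoint ((Scheme.Modules.pushforward f).obj F) s} ∧
      {s : ↥S | Curv2.IsAssPoint ((Scheme.Modules.pushforward f).obj F) s} =
        {s : ↥S | Curv2.IsWeakAssPoint ((Scheme.Modules.pushforward f).obj F) s} ∧
      {s : ↥S | Curv2.IsWeakAssPoint ((Scheme.Modules.pushforward f).obj F) s} =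
        (fun x => f x) '' {x : ↥X | Curv2.IsWeakAssPoint F x} := by
  haveI : Coh.IsQCoh F := hF
  haveI : Coh.IsQCoh ((Scheme.Modules.pushforward f).obj F) := Groth.L16.QcqsPush.isQCoh_push f (M := F)
  have h1 : ∀ x, Curv2.IsAssPoint F x → Curv2.IsAssPoint ((Scheme.Modules.pushforward f).obj F) (f x) := by
    intro x hx
    obtain ⟨_, ⟨V, hV, rfl⟩, hxV, -⟩ :=
      S.isBasis_affineOpens.exists_subset_of_mem_open (Set.mem_univ (f x)) isOpen_univ
    replace hV : IsAffineOpen V := hV
    exact Groth.L19.Ass.image_mem_ass_push f F hV (hV.preimage f) hxV hx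
  have h2 : ∀ s, Curv2.IsWeakAssPoint ((Scheme.Modules.pushforward f).obj F) s →
      ∃ x, f x = s ∧ Curv2.IsAssPoint F x := fun s hs => by
    obtain ⟨x, hx, hw⟩ := Groth.L15.WeakAss.weakAss_push_subset F f s hs
    exact ⟨x, hx, Groth.L15.WeakAss.isAssPoint_of_isWeakAssPoint F hw⟩
  refine ⟨Set.ext fun s => ⟨?_, fun hs => ?_⟩, Set.ext fun s => ⟨fun hs => ?_, fun hs => ?_⟩,
    Set.ext fun s => ⟨fun hs => ?_, ?_⟩⟩
  · rintro ⟨x, hx, rfl⟩
    exact h1 x hx
  · obtain ⟨x, hx, ha⟩ := h2 s (Groth.L15.WeakAss.isWeakAssPoint_of_isAssPoint hs)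
    exact ⟨x, ha, hx⟩
  · exact Groth.L15.WeakAss.isWeakAssPoint_of_isAssPoint hs
  · obtain ⟨x, rfl, ha⟩ := h2 s hs
    exact h1 x ha
  · obtain ⟨x, hx, ha⟩ := h2 s hs
    exact ⟨x, Groth.L15.WeakAss.isWeakAssPoint_of_isAssPoint ha, hx⟩
  · rintro ⟨x, hx, rfl⟩
    exact Groth.L15.WeakAss.isWeakAssPoint_of_isAssPoint
      (h1 x (Groth.L15.WeakAss.isAssPoint_of_isWeakAssPoint F hx))

end Groth.Agent.S1709
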