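import Groth.Statements.S17015
import Groth.Agent.L15.QuadHalf
import Mathlib.RingTheory.LocalRing.ResidueField.Ideal
import Mathlib.LinearAlgebra.QuadraticForm.Radical
import Mathlib.LinearAlgebra.Matrix.ToLinearEquiv
import Mathlib.LinearAlgebra.TensorProduct.Basis
import Mathlib.LinearAlgebra.FiniteDimensional.Lemmas
import Mathlib.LinearAlgebra.Basis.VectorSpace
import Mathlib.Tactic.Ring
import Mathlib.Tactic.LinearCombination
import Mathlib.Tactic.FieldSimp
import Mathlib.Algebra.BigOperators.Ring.Finset

set_option autoImplicit false
universe u v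
open QuadGrp

namespace Groth.Agent.S17015

open Groth.L15 Matrix

theorem polar_sum {k : Type v} [Field k] {V : Type*} [AddCommGroup V] [Module k V] {n : ℕ}
    (b : Module.Basis (Fin n) k V) (Q : QuadraticForm k V) (x : V) (i : Fin n) :
    QuadraticMap.polar Q (b i) x = (polarMat b Q *ᵥ b.repr x) i := by
  conv_lhs => rw [← b.sum_repr x, ← QuadraticMap.polarBilin_apply_apply, map_sum]
  simp [Matrix.mulVec, dotProduct, polarMat, mul_comm]

theorem halfDisc_ne_zero_iff {k : Type v} [Field k] {V : Type*} [AddCommGroup V] [Module k V] (m : ℕ)
    (b : Module.Basis (Fin (2 * m + 1)) k V) (Q : QuadraticForm k V) :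
    QuadGrp.halfDisc b (LinearEquiv.refl k k) Q ≠ 0 ↔ QuadraticMap.Nondegenerate (Q := Q) := by
  classical
  haveI := Module.Finite.of_basis b
  have hodd : Odd (2 * m + 1) := ⟨m, rfl⟩
  have hdet := two_mul_halfDisc hodd b Q
  have hker : LinearMap.ker Q.polarBilin = ⊥ ↔ (polarMat b Q).det ≠ 0 := by
    constructor
    · intro h h0
      obtain ⟨v, hv, hv'⟩ := Matrix.exists_mulVec_eq_zero_iff.2 h0
      refine hv ?_
      have hx : b.equivFun.symm v ∈ LinearMap.ker Q.polarBilin := by
        rw [LinearMap.mem_ker]
        apply b.ext
        intro i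
        rw [QuadraticMap.polarBilin_apply_apply, QuadraticMap.polar_comm, polar_sum b,
          show (⇑(b.repr (b.equivFun.symm v))) = v from b.equivFun.apply_symm_apply v, hv']
        rfl
      rw [h, Submodule.mem_bot] at hx
      exact (map_eq_zero_iff _ b.equivFun.symm.injective).1 hx
    · intro h
      rw [Submodule.eq_bot_iff]
      intro x hx
      have h0 : polarMat b Q *ᵥ b.repr x = 0 := by
        funext i
        rw [← polar_sum b Q x i, QuadraticMap.polar_comm]
        exact LinearMap.congr_fun hx (b i)
      have := Matrix.eq_zero_of_mulVec_eq_zero h h0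
      exact b.repr.injective (Finsupp.ext fun i => by rw [map_zero]; exact congrFun this i)
  by_cases h2 : (2 : k) = 0
  swap
  · have hrad : Q.radical = LinearMap.ker Q.polarBilin := by
      ext x
      refine ⟨fun h => h.2, fun h => ⟨?_, h⟩⟩
      have : QuadraticMap.polar Q x x = 0 := LinearMap.congr_fun h x
      rw [QuadraticMap.polar_self, nsmul_eq_mul] at this
      exact (mul_eq_zero.1 this).resolve_left h2
    constructor
    · intro h
      have hb := hker.2 (by rw [← hdet]; exact mul_ne_zero h2 h)
      exact ⟨by rw [hrad, hb], by rw [hb]; simp⟩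
    · intro h
      have := hker.1 (hrad ▸ h.radical_eq_bot)
      rw [← hdet] at this
      exact right_ne_zero_of_mul this
  · have hKne : LinearMap.ker Q.polarBilin ≠ ⊥ := fun h => hker.1 h (by rw [← hdet, h2, zero_mul])
    obtain ⟨z, hz, hz0⟩ := (Submodule.ne_bot_iff _).1 hKne
    set U := Submodule.span k {z}
    obtain ⟨W, hW⟩ := Submodule.exists_isCompl U
    have hWd : Module.finrank k W = 2 * m := by
      have h := Submodule.finrank_add_eq_of_isCompl hW
      rw [finrank_span_singleton hz0, Module.finrank_eq_card_basis b, Fintype.card_fin] at h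
      omega
    let c := Module.finBasisOfFinrankEq k W hWd
    let v : Fin (2 * m + 1) → V := Fin.cons z fun j => (c j : V)
    have hli : LinearIndependent k v := by
      refine linearIndependent_finCons.2 ⟨c.linearIndependent.map' W.subtype W.ker_subtype, ?_⟩
      intro hmem
      have hzW : z ∈ W := by
        refine Submodule.span_le.2 ?_ hmem
        rintro _ ⟨j, rfl⟩
        exact (c j).2
      exact hz0 ((Submodule.disjoint_def.1 hW.disjoint) z (Submodule.mem_span_singleton_self z) hzW)
    let b' := basisOfLinearIndependentOfCardEqFinrank hli (by rw [Module.finrank_eq_card_basis b])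
    have hb' : ⇑b' = v := coe_basisOfLinearIndependentOfCardEqFinrank hli _
    have hb0 : b' 0 = z := by rw [hb']; rfl
    let g := b.equiv b' (Equiv.refl _)
    have hchange : QuadGrp.halfDisc b (LinearEquiv.refl k k) (Q.comp g.toLinearMap) =
        QuadGrp.halfDisc b' (LinearEquiv.refl k k) Q := by
      have hs : Specialises (RingHom.id k) b' Q b (Q.comp g.toLinearMap) := fun x => by
        simp [g, map_sum, Module.Basis.equiv_apply]
      simpa using hs.map_halfDisc (RingHom.id k)
    rw [halfDisc_comp hodd b Q] at hchange
    have hdg : LinearMap.det g.toLinearMap ≠ 0 := g.isUnit_det'.ne_zero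
    have hz' : ∀ y, QuadraticMap.polar Q z y = 0 := fun y => LinearMap.congr_fun hz y
    have horth : QuadGrp.halfDisc b' (LinearEquiv.refl k k) Q =
        Q z * ((polarMat b' Q).submatrix Fin.succ Fin.succ).det := by
      rw [halfDisc_eq_of_orth (m := 2 * m) hodd b' Q (fun j => by rw [hb0]; exact hz' _), hb0]
    set S := (polarMat b' Q).submatrix Fin.succ Fin.succ with hS
    have hmul : ∀ (x : V) (j : Fin (2 * m)),
        (S *ᵥ fun l => b'.repr x l.succ) j = QuadraticMap.polar Q (b' j.succ) x := by
      intro x j
      rw [polar_sum b' Q x, Matrix.mulVec, Matrix.mulVec, dotProduct, dotProduct, Fin.sum_univ_succ (fun l => polarMat b' Q j.succ l * _)]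
      have : polarMat b' Q j.succ 0 = 0 := by
        show QuadraticMap.polar Q (b' j.succ) (b' 0) = 0
        rw [QuadraticMap.polar_comm, hb0]; exact hz' _
      rw [this, zero_mul, zero_add]
      rfl
    constructor
    · intro h
      have h' : Q z * S.det ≠ 0 := by
        rw [← horth, ← hchange]; exact mul_ne_zero (pow_ne_zero 2 hdg) h
      have hKle : LinearMap.ker Q.polarBilin ≤ U := by
        intro x hx
        have h0 : (S *ᵥ fun l => b'.repr x l.succ) = 0 := by
          funext j
          rw [hmul, QuadraticMap.polar_comm]
          exact LinearMap.congr_fun hx _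
        have hrest := Matrix.eq_zero_of_mulVec_eq_zero (right_ne_zero_of_mul h') h0
        rw [← b'.sum_repr x, Fin.sum_univ_succ, Finset.sum_eq_zero fun l _ => by rw [congrFun hrest l]; simp,
          add_zero, hb0]
        exact Submodule.smul_mem _ _ (Submodule.mem_span_singleton_self z)
      refine ⟨?_, ?_⟩
      · rw [Submodule.eq_bot_iff]
        rintro x ⟨hQx, hx⟩
        obtain ⟨a, rfl⟩ := Submodule.mem_span_singleton.1 (hKle hx)
        rw [QuadraticMap.map_smul, smul_eq_mul] at hQx
        rcases mul_eq_zero.1 hQx with ha | hQz
        · rw [mul_self_eq_zero.1 ha, zero_smul]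
        · exact absurd hQz (left_ne_zero_of_mul h')
      · refine (Submodule.rank_mono hKle).trans ?_
        exact (rank_span_le _).trans (by simp)
    · intro h
      have hQz : Q z ≠ 0 := fun h0 => hz0 (by
        have : z ∈ Q.radical := ⟨h0, hz⟩
        rwa [h.radical_eq_bot, Submodule.mem_bot] at this)
      have hSdet : S.det ≠ 0 := by
        intro h0
        obtain ⟨w, hw, hw'⟩ := Matrix.exists_mulVec_eq_zero_iff.2 h0
        let y := b'.equivFun.symm (Fin.cons 0 w)
        have hy : ∀ l : Fin (2 * m), b'.repr y l.succ = w l := fun l => by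
          show b'.equivFun y l.succ = _
          rw [show b'.equivFun y = Fin.cons 0 w from b'.equivFun.apply_symm_apply _, Fin.cons_succ]
        have hyK : y ∈ LinearMap.ker Q.polarBilin := by
          rw [LinearMap.mem_ker]
          apply b'.ext
          intro i
          rw [QuadraticMap.polarBilin_apply_apply, QuadraticMap.polar_comm]
          refine Fin.cases ?_ (fun j => ?_) i
          · rw [hb0]; exact hz' y
          · rw [← hmul y j, funext hy, hw']; rfl
        have hd : Module.finrank k (LinearMap.ker Q.polarBilin) ≤ 1 :=
          Module.finrank_le_of_rank_le (by exact_mod_cast h.rank_rad_polar_le)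
        have hyz : y ∈ U := by
          have hUK : U ≤ LinearMap.ker Q.polarBilin := (Submodule.span_singleton_le_iff_mem _ _).2 hz
          rw [Submodule.eq_of_le_of_finrank_le hUK (by rw [finrank_span_singleton hz0]; exact hd)]
          exact hyK
        obtain ⟨a, ha⟩ := Submodule.mem_span_singleton.1 hyz
        refine hw (funext fun l => ?_)
        rw [← hy l, ← ha, ← hb0]
        simp [(Fin.succ_ne_zero l).symm]
      intro h0
      rw [h0, mul_zero, horth] at hchange
      exact mul_ne_zero hQz hSdet hchange.symm

/-- For a quadratic form Q on a free module with a basis b indexed by Fin (2m+1) over a commutative ring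
R, the half-discriminant of Q relative to b is a unit if and only if for every prime ideal p of R
the base change of Q to the residue field of p is nondegenerate (zero quadratic radical and polar
kernel of dimension at most one — over a field this is the fibrewise non-degeneracy of the source:
smooth projective quadric, defect one with non-zero restriction in characteristic two). -/
theorem result {R : Type u} [CommRing R]
    {M : Type v} [AddCommGroup M] [Module R M] [Module.Free R M]
    (m : ℕ) (b : Module.Basis (Fin (2 * m + 1)) R M) (Q : QuadraticForm R M) :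
    IsUnit (QuadGrp.halfDisc b (LinearEquiv.refl R R) Q) ↔
      ∀ (p : Ideal R) [p.IsPrime], QuadraticMap.Nondegenerate (Q := QuadGrp.baseChangeForm p.ResidueField Q) := by
  classical
  have key : ∀ (p : Ideal R) [p.IsPrime],
      (algebraMap R p.ResidueField (QuadGrp.halfDisc b (LinearEquiv.refl R R) Q) ≠ 0 ↔
        QuadraticMap.Nondegenerate (Q := QuadGrp.baseChangeForm p.ResidueField Q)) := by
    intro p _
    rw [← halfDisc_ne_zero_iff m (b.baseChange p.ResidueField)]
    have hs : Groth.L15.Specialises (algebraMap R p.ResidueField) (b.baseChange p.ResidueField)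
        (QuadGrp.baseChangeForm p.ResidueField Q) b Q := by
      intro x
      have hx : ∑ i, algebraMap R p.ResidueField (x i) • b.baseChange p.ResidueField i =
          (1 : p.ResidueField) ⊗ₜ[R] (∑ i, x i • b i) := by
        rw [TensorProduct.tmul_sum]
        refine Finset.sum_congr rfl fun i _ => ?_
        rw [Module.Basis.baseChange_apply, TensorProduct.smul_tmul', TensorProduct.tmul_smul,
          TensorProduct.smul_tmul', algebraMap_smul]
      rw [hx]
      simp [QuadGrp.baseChangeForm, QuadGrp.baseChange_tmul, Algebra.smul_def]
    rw [hs.map_halfDisc]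
  constructor
  · intro h p _
    exact (key p).1 (h.map (algebraMap R p.ResidueField)).ne_zero
  · intro h
    by_contra hu
    obtain ⟨p, hp, hmem⟩ := exists_max_ideal_of_mem_nonunits hu
    exact (key p).2 (h p) (Ideal.algebraMap_residueField_eq_zero.2 hmem)

end Groth.Agent.S17015
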