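import Groth.Statements.S18299
import Groth.Agent.L20.SchDesc.Main
import Groth.Agent.L20.SchDesc.Fppf
import Groth.Agent.L20.QuasiAffine
import Groth.Agent.L23.Descent
import Mathlib.AlgebraicGeometry.Morphisms.Etale
import Mathlib.CategoryTheory.Limits.Types.Pullbacks

set_option autoImplicit false
universe u
open CategoryTheory MonoidalCategory CartesianMonoidalCategory MonObj AlgebraicGeometry Opposite
open Magnet
open CategoryTheory.Limits

namespace Groth.Agent.S18299

/-- Let Q be a commutative group, X and U S-schemes with actions of the diagonalizable group scheme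
D(Q)_S, and f : U → X an equivariant morphism over S which is étale and surjective and fixed-point
reflecting: the square formed by the fixed-point functors U^{D(Q)} → X^{D(Q)} over U → X is
cartesian (an FPR atlas). If the fixed-point functor of U is represented by a closed subscheme of U
— which holds when U is a disjoint union of D(Q)_S-stable S-affine schemes, by the affine
representability of attractors — then the fixed-point functor of X is represented by a closed
subscheme of X, compatibly with its inclusion into X. (In the source Q = M/Z for a subgroup Z of a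
commutative group M acting through D(M)_S, the fixed points of D(M/Z)_S being the attractor X^Z, and
X may be an algebraic space; here X is a scheme.) -/
theorem result (S : Scheme.{u}) (Q : Type)
    [AddCommGroup Q] (X U : Over S) (aX : AlgGrp.Action (Red.DS S Q) X) (aU : AlgGrp.Action (Red.DS S Q) U)
    (f : U ⟶ X) [Etale f.left] [Surjective f.left]
    (hf : Magnet.MonAct.IsEquivariant (Magnet.MonAct.ofAction aU) (Magnet.MonAct.ofAction aX) f)
    (hfpr : IsPullback (Magnet.MonAct.fixedPsh.map f hf) (Magnet.MonAct.fixedPshι (Magnet.MonAct.ofAction aU))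
      (Magnet.MonAct.fixedPshι (Magnet.MonAct.ofAction aX)) (yoneda.map f))
    (hU : ∃ (W' : Over S) (i' : W' ⟶ U) (e' : (Magnet.MonAct.fixedPsh (Magnet.MonAct.ofAction aU)).RepresentableBy W'),
      IsClosedImmersion i'.left ∧ ∀ (T : Over S) (w : T ⟶ W'),
        (Magnet.MonAct.fixedPshι (Magnet.MonAct.ofAction aU)).app (op T) (e'.homEquiv w) = w ≫ i') :
    ∃ (W : Over S) (i : W ⟶ X) (e : (Magnet.MonAct.fixedPsh (Magnet.MonAct.ofAction aX)).RepresentableBy W),
      IsClosedImmersion i.left ∧ ∀ (T : Over S) (w : T ⟶ W),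
        (Magnet.MonAct.fixedPshι (Magnet.MonAct.ofAction aX)).app (op T) (e.homEquiv w) = w ≫ i := by
  classical
  obtain ⟨W', i', e', hi', he'⟩ := hU
  let A := Magnet.MonAct.ofAction aU
  let B := Magnet.MonAct.ofAction aX
  have : Mono i' := Over.mono_of_mono_left i'
  -- fixed points of `U` are those over fixed points of `X`
  have F1 : ∀ {T : Over S} (u : T ⟶ U) (x : (Magnet.MonAct.fixedPsh B).obj (op T)), x.1 = u ≫ f →
      ∃ w : T ⟶ W', w ≫ i' = u := by
    intro T u x hx
    obtain ⟨u', -, hu'⟩ := Types.exists_of_isPullback (hfpr.app (op T)) x u hx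
    refine ⟨e'.homEquiv.symm u', ?_⟩
    rw [← he', Equiv.apply_symm_apply]
    exact hu'
  have F2 : ∀ {T : Over S} (w : T ⟶ W'), ∃ x : (Magnet.MonAct.fixedPsh B).obj (op T), x.1 = (w ≫ i') ≫ f := by
    intro T w
    refine ⟨(Magnet.MonAct.fixedPsh.map f hf).app (op T) (e'.homEquiv w), ?_⟩
    rw [← he' T w]
    rfl
  -- the descent datum
  have hex : ∀ {T : Scheme.{u}} (v : T ⟶ W'.left) (x : T ⟶ U.left),
      v ≫ i'.left ≫ f.left = x ≫ f.left → ∃ w : T ⟶ W'.left, w ≫ i'.left = x := by
    intro T v x h
    have hv : v ≫ W'.hom = x ≫ U.hom := by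
      rw [← Over.w i', ← Over.w f, reassoc_of% h]
    let v' : Over.mk (x ≫ U.hom) ⟶ W' := Over.homMk v hv
    let x' : Over.mk (x ≫ U.hom) ⟶ U := Over.homMk x rfl
    obtain ⟨y, hy⟩ := F2 v'
    obtain ⟨w, hw⟩ := F1 x' y (hy.trans (Over.OverMorphism.ext ((Category.assoc _ _ _).trans h)))
    exact ⟨w.left, congrArg CommaMorphism.left hw⟩
  choose act hact using @hex
  let P : Groth.L20.SchDesc.Pre f.left i'.left :=
    { act := act
      hom := hact
      natural := fun g v x h h' => (cancel_mono i'.left).1 (by rw [hact, Category.assoc, hact])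
      self := fun v h => (cancel_mono i'.left).1 (hact _ _ _)
      comp := fun v x y h h' h'' => (cancel_mono i'.left).1 (by rw [hact, hact]) }
  obtain ⟨d⟩ := Groth.L20.SchDesc.effective_of_isIndQuasiAffineHom
    (Groth.L20.isIndQuasiAffineHom_of_isImmersion i'.left) P
  have hcl : IsClosedImmersion d.a :=
    MorphismProperty.of_isPullback_of_descendsAlong (P := @IsClosedImmersion)
      (Q := @Surjective ⊓ @Flat ⊓ @LocallyOfFinitePresentation) d.isPullback
      ⟨⟨inferInstance, inferInstance⟩, inferInstance⟩ hi'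
  let W : Over S := Over.mk (d.a ≫ X.hom)
  let i : W ⟶ X := Over.homMk d.a rfl
  -- the cover pulled back along a point
  have key1 : ∀ {T : Over S} (w : T ⟶ W), ∀ (T₁ : Over S) (t : T₁ ⟶ T) (g : T₁ ⟶ Red.DS S Q),
      lift g (t ≫ w ≫ i) ≫ B.act = t ≫ w ≫ i := by
    intro T w T₁ t g
    let π := pullback.fst (t ≫ w ≫ i).left f.left
    let k : Over.mk (π ≫ T₁.hom) ⟶ T₁ := Over.homMk π rfl
    have : Epi π := Flat.epi_of_flat_of_surjective π
    have : Epi k.left := this
    have : Epi k := Over.epi_of_epi_left k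
    let v : pullback (t ≫ w ≫ i).left f.left ⟶ W'.left :=
      d.isPullback.lift (pullback.snd _ _) (π ≫ (t ≫ w).left) (by
        rw [← pullback.condition]; simp [π, i])
    have hv : v ≫ i'.left ≫ f.left = π ≫ (t ≫ w ≫ i).left := by
      rw [d.isPullback.lift_fst_assoc]; exact pullback.condition.symm
    let v' : Over.mk (π ≫ T₁.hom) ⟶ W' := Over.homMk v (by
      show v ≫ W'.hom = π ≫ T₁.hom
      rw [← Over.w i', ← Over.w f, reassoc_of% hv, Over.w (t ≫ w ≫ i)])
    obtain ⟨y, hy⟩ := F2 v'
    have e : k ≫ t ≫ w ≫ i = y.1 :=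
      (Over.OverMorphism.ext hv.symm : k ≫ t ≫ w ≫ i = (v' ≫ i') ≫ f).trans hy.symm
    rw [← cancel_epi k, comp_lift_assoc, e]
    simpa using y.2 _ (𝟙 _) (k ≫ g)
  have key2 : ∀ {T : Over S} (x : (Magnet.MonAct.fixedPsh B).obj (op T)), ∃ w : T ⟶ W, w ≫ i = x.1 := by
    intro T x
    let π := pullback.fst x.1.left f.left
    let k : Over.mk (π ≫ T.hom) ⟶ T := Over.homMk π rfl
    let u : Over.mk (π ≫ T.hom) ⟶ U := Over.homMk (pullback.snd _ _) (by
      show pullback.snd x.1.left f.left ≫ U.hom = π ≫ T.hom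
      rw [← Over.w f, ← pullback.condition_assoc]
      exact congrArg (π ≫ ·) (Over.w x.1))
    obtain ⟨v, hv⟩ := F1 u ((Magnet.MonAct.fixedPsh B).map k.op x)
      (Over.OverMorphism.ext pullback.condition)
    have hva : (v.left ≫ d.q) ≫ d.a = π ≫ x.1.left := by
      rw [Category.assoc, ← d.isPullback.w, ← Category.assoc,
        show v.left ≫ i'.left = pullback.snd _ _ from congrArg CommaMorphism.left hv]
      exact pullback.condition.symm
    obtain ⟨m, hm⟩ := Groth.L20.SchDesc.Cov.exists_desc (p := π) (v.left ≫ d.q) fun g₁ g₂ h => by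
      rw [← cancel_mono d.a, Category.assoc g₁, Category.assoc g₂, hva, reassoc_of% h]
    have : Epi π := Flat.epi_of_flat_of_surjective π
    have hma : m ≫ d.a = x.1.left := by rw [← cancel_epi π, ← Category.assoc, hm, hva]
    exact ⟨Over.homMk m (by show m ≫ d.a ≫ X.hom = T.hom; rw [reassoc_of% hma]; exact Over.w x.1),
      Over.OverMorphism.ext hma⟩
  have : Mono i.left := inferInstanceAs (Mono d.a)
  have : Mono i := Over.mono_of_mono_left i
  let h : ∀ (T : Over S), (T ⟶ W) → (Magnet.MonAct.fixedPsh B).obj (op T) := fun T w => ⟨w ≫ i, key1 w⟩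
  refine ⟨W, i, { homEquiv := fun {T} => Equiv.ofBijective (h T) ⟨fun w₁ w₂ e => ?_, fun x => ?_⟩
                  homEquiv_comp := fun g w => ?_ }, hcl, fun T w => rfl⟩
  · exact (cancel_mono i).1 (congrArg Subtype.val e)
  · obtain ⟨w, hw⟩ := key2 x
    exact ⟨w, Subtype.ext hw⟩
  · exact Subtype.ext (Category.assoc _ _ _)

end Groth.Agent.S18299
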