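import Groth.Agent.S4418
import Groth.Agent.S4414
import Groth.Agent.S9705
import Groth.Agent.S9717
import Groth.Statements.S4420
-- import your own Groth.Agent.* helpers here

set_option autoImplicit false
universe u
open CategoryTheory CategoryTheory.Limits AlgebraicGeometry
open EGA2

namespace Groth.Agent.S4420

/-- Let Y be a quasi-compact separated scheme possessing an ample invertible O_Y-module and f : X → Y a
morphism. Then f is projective if and only if there are r ≥ 0 and a closed immersion of X into
projective r-space over Y compatible with the projections (f is H-projective). -/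
theorem result {X Y : Scheme.{u}} [CompactSpace Y] [Y.IsSeparated]
    (hY : ∃ M : Y.Modules, CohB1.IsAmple M) (f : X ⟶ Y) :
    RelProj.IsProjective f ↔ RelProj.IsHProjective f := by
  refine ⟨fun hf => ?_, Groth.Agent.S9717.result f⟩
  obtain ⟨hq, hp⟩ := Groth.Agent.S4418.result f hf
  obtain ⟨_, hqc, r, i, hi, hif⟩ := (Groth.Agent.S4414.result hY f).1 hq
  haveI : QuasiCompact i := by
    haveI : QuasiCompact (i ≫ CohB1.ProjSpaceOver.toBase r Y) := by rw [hif]; exact hqc
    exact QuasiCompact.of_comp i (CohB1.ProjSpaceOver.toBase r Y)
  exact (Groth.Agent.S9705.result f).2 ⟨⟨r, i, hi, inferInstance, hif⟩, hp⟩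

end Groth.Agent.S4420
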