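import Groth.Statements.S9704
import Groth.Agent.L18.ProjAlg.BaseChange
import Groth.Agent.L18.ProjAlg.Consequences
import Groth.Agent.L18.AmpleOps
import Groth.Agent.S4420


set_option autoImplicit false
universe u
open CategoryTheory CategoryTheory.Limits AlgebraicGeometry
open Mor

namespace Groth.Agent.S9704

theorem isPullback_restrict {X S : Scheme.{u}} (f : X ⟶ S) {W U : S.Opens} (h : W ≤ U) :
    IsPullback (X.homOfLE (f.preimage_mono h)) (f ∣_ W) (f ∣_ U) (S.homOfLE h) := by
  have h2 : IsPullback (f ⁻¹ᵁ U).ι (f ∣_ U) f U.ι := (isPullback_morphismRestrict f U).flip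
  refine IsPullback.of_right ?_ ?_ h2
  · rw [Scheme.homOfLE_ι, Scheme.homOfLE_ι]
    exact (isPullback_morphismRestrict f W).flip
  · rw [← cancel_mono U.ι, Category.assoc, morphismRestrict_ι, Scheme.homOfLE_ι_assoc, Category.assoc,
      Scheme.homOfLE_ι, morphismRestrict_ι]

/-- A morphism f : X ⟶ S is locally projective if and only if S has an open covering by opens U such
that each restriction f⁻¹(U) ⟶ U is H-projective (a closed immersion into some P^n_U followed by the
projection). Here f⁻¹(U) ⟶ U projective means isomorphic over U to the relative Proj of a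
quasi-coherent graded algebra generated by its finite-type degree-one part; the published definition
uses closed subschemes of P(E) with E of finite type, an equivalent condition. -/
theorem result {X S : Scheme.{u}} (f : X ⟶ S) :
    RelProj.IsLocallyProjective f ↔ ∀ s : S, ∃ U : S.Opens, s ∈ U ∧ RelProj.IsHProjective (f ∣_ U) := by
  constructor
  · intro hf s
    obtain ⟨U, hU, hproj⟩ := hf s
    obtain ⟨W, hW, hsW, hWU⟩ := TopologicalSpace.Opens.isBasis_iff_nbhd.mp S.isBasis_affineOpens hU
    refine ⟨W, hsW, ?_⟩
    haveI : IsAffine W := hW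
    obtain ⟨𝒮, P, p, chart, e, hgen, hft, hP, hef⟩ :=
      Groth.L18.PullGrade.isProjective_baseChange (f ∣_ U) hproj (S.homOfLE hWU)
    have hWp : RelProj.IsProjective (f ∣_ W) := ⟨𝒮, P, p, chart, (isPullback_restrict f hWU).isoPullback ≪≫ e,
      hgen, hft, hP, by
        rw [Iso.trans_hom, Category.assoc, hef]
        exact (isPullback_restrict f hWU).isoPullback_hom_snd⟩
    exact (Groth.Agent.S4420.result ⟨_, Groth.L18.Ample.isAmple_structureModule⟩ _).1 hWp
  · intro h s
    obtain ⟨U, hU, hp⟩ := h s
    exact ⟨U, hU, Groth.L18.ProjPerm.isProjective_of_isHProjective _ hp⟩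

end Groth.Agent.S9704
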