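
import Groth.Statements.S10823
import Groth.Agent.L22.ProjInter

set_option autoImplicit false
universe u
open AlgebraicGeometry Topology TopologicalSpace
open Variety

namespace Groth.Agent.S10823

/-- Let k be a field, X an irreducible closed subset of projective n-space over k, and f_1, …, f_r
nonzero homogeneous polynomials of positive degrees in n + 1 variables. Then every irreducible
component C of X ∩ V_+(f_1, …, f_r) has codimension at most r in X, i.e. dim X ≤ dim C + r, and if
dim X ≥ r the intersection is nonempty. -/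
theorem result (k : Type u) [Field k] (n r : ℕ)
    (X : Set (ProjectiveSpectrum (CohB1.polyGrading n k))) (hXc : IsClosed X) (hXi : IsIrreducible X)
    (f : Fin r → MvPolynomial (Fin (n + 1)) k) (d : Fin r → ℕ)
    (hf : ∀ i, (f i).IsHomogeneous (d i)) (hd : ∀ i, 0 < d i) (hf0 : ∀ i, f i ≠ 0) :
    (∀ C ∈ irreducibleComponents ↥(X ∩ ProjectiveSpectrum.zeroLocus (CohB1.polyGrading n k) (Set.range f)),
        topologicalKrullDim ↥X ≤ topologicalKrullDim ↥C + (r : WithBot ℕ∞)) ∧
      ((r : WithBot ℕ∞) ≤ topologicalKrullDim ↥X →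
        (X ∩ ProjectiveSpectrum.zeroLocus (CohB1.polyGrading n k) (Set.range f)).Nonempty) := by
  obtain ⟨x, hx, hxmem⟩ := Groth.L22.ProjDict.exists_generic hXc hXi
  obtain ⟨e, he, hed⟩ := Groth.L22.ProjDict.exists_dim_closure x
  have hXe : topologicalKrullDim ↥X = (e : WithBot ℕ∞) := by rw [hx]; exact he
  set P := x.asHomogeneousIdeal.toIdeal with hP
  have hhom : (P ⊔ Ideal.span (Set.range f)).IsHomogeneous (CohB1.polyGrading n k) :=
    x.asHomogeneousIdeal.isHomogeneous.sup (Ideal.homogeneous_span _ _ (by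
      rintro _ ⟨i, rfl⟩
      exact ⟨d i, (MvPolynomial.mem_homogeneousSubmodule _ _).2 (hf i)⟩))
  have hne : P ⊔ Ideal.span (Set.range f) ≠ ⊤ :=
    ne_top_of_le_ne_top (Groth.L22.ProjDict.vertex_isMaximal (k := k) (n := n)).ne_top
      (sup_le (Groth.L22.ProjDict.le_vertex x.asHomogeneousIdeal.isHomogeneous x.isPrime.ne_top)
        (Ideal.span_le.2 (by
          rintro _ ⟨i, rfl⟩
          exact Groth.L22.ProjDict.mem_vertex_of_isHomogeneous (hf i) (hd i))))
  have hmem : ∀ y, y ∈ X ∩ ProjectiveSpectrum.zeroLocus (CohB1.polyGrading n k) (Set.range f) ↔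
      P ⊔ Ideal.span (Set.range f) ≤ y.asHomogeneousIdeal.toIdeal := fun y => by
    rw [Set.mem_inter_iff, sup_le_iff, hxmem y, Groth.L22.ProjDict.mem_zeroLocus_iff]
  refine ⟨fun C hC => ?_, fun hr => ?_⟩
  · obtain ⟨y, -, hy, hCd⟩ := Groth.L22.ProjDict.component_minimalPrimes hhom hmem hC
    obtain ⟨c, hc, hcd⟩ := Groth.L22.ProjDict.exists_dim_closure y
    have h := Groth.L22.ProjDict.dim_le_of_mem_minimalPrimes (P := P) f hy
    rw [hed, hcd] at h
    have h' : e + 1 ≤ c + 1 + r := by exact_mod_cast h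
    rw [hCd, hXe, hc]
    exact_mod_cast (show e ≤ c + r by omega)
  · obtain ⟨R, hR⟩ := Ideal.nonempty_minimalPrimes hne
    haveI := hR.1.1
    have h := Groth.L22.ProjDict.dim_le_of_mem_minimalPrimes (P := P) f hR
    obtain ⟨c, -, -, -, hc, -⟩ :=
      Groth.L22.AffineDim.exists_normalization k (MvPolynomial (Fin (n + 1)) k ⧸ R)
    rw [hed, hc] at h
    rw [hXe] at hr
    have h' : e + 1 ≤ c + r := by exact_mod_cast h
    have hre : r ≤ e := by exact_mod_cast hr
    exact ⟨Groth.L22.ProjDict.mkPt R hR.1.1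
      (Groth.L22.ProjDict.isHomogeneous_of_mem_minimalPrimes hhom hR)
      (by rw [hc]; exact_mod_cast (show 1 ≤ c by omega)), (hmem _).2 hR.1.2⟩

end Groth.Agent.S10823
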