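import Groth.Statements.S0829
import Groth.Agent.L16.Exist.TorsionLeft

set_option autoImplicit false
universe u
open Formal2

namespace Groth.Agent.S0829

open CategoryTheory CategoryTheory.Limits AlgebraicGeometry Opposite in
/-- Let A be a ring, I ⊆ A an ideal and X a Noetherian scheme over Spec A; inverse systems are indexed
so that position n holds the quotient by I^(n+1). Let G be a coherent O_X-module, (F_n) a coherent
formal module for I (every F_n coherent and killed by I^(n+1), with transition maps inducing
isomorphisms F_{n+1}/I^(n+1)F_{n+1} ≅ F_n), and α : (F_n) → (G/I^(n+1)G) a map of inverse systems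
such that one fixed power of I kills the kernel and the cokernel of every component α_n. Then there
are a coherent O_X-module F, a map a : F → G whose kernel and cokernel are killed by a power of I,
and an isomorphism of systems β : (F_n) ≅ (F/I^(n+1)F) under which α becomes the map of systems
induced by a: for every n, the projection F → F/I^(n+1)F followed by β_n⁻¹ and then α_n equals a
followed by the projection G → G/I^(n+1)G. (The published statement also asserts uniqueness of (F,
a, β) and has a further part; only existence is stated here.) -/
theorem result (A : Type u) [CommRing A] (I : Ideal A) (X : Scheme.{u})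
    [X.Over (Spec (CommRingCat.of A))] [IsNoetherian X] (G : X.Modules) (hG : Coh.IsCoh G)
    (F : ℕᵒᵖ ⥤ X.Modules) (hF : Formal.IsCohFormal I F) (α : F ⟶ Formal.completion I G)
    (hα : Formal2.KerCokerKilledByIPow I α) :
    ∃ (F' : X.Modules) (a : F' ⟶ G) (β : F ≅ Formal.completion I F'), Coh.IsCoh F' ∧
      Formal2.KerCokerKilledByIPowHom I a ∧
      ∀ n : ℕ, Formal.modPowπ I (n + 1) F' ≫ β.inv.app (op n) ≫ α.app (op n) = a ≫ Formal.modPowπ I (n + 1) G :=  by
  obtain ⟨F', a, β, hF', ha, -, hc⟩ := Groth.L16.Exist.exists_algebraization_left I hG hF α hα
  exact ⟨F', a, β, hF', ha, hc⟩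
end Groth.Agent.S0829
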