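import Groth.Agent.L18.ExtendCodimOne
import Groth.Statements.S2344
-- import your own Groth.Agent.* helpers here

set_option autoImplicit false
universe u
open CategoryTheory CategoryTheory.Limits AlgebraicGeometry
open EGA2

namespace Groth.Agent.S2344

/-- Let X be a normal algebraic curve over k (separated, of finite type, nonempty, local rings at closed
points of dimension one, all local rings integrally closed domains), Y proper over k, U a dense open
of X and g : U → Y a k-morphism. Then g extends uniquely to a k-morphism X → Y. -/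
theorem result (k : Type u) [Field k] (X Y : Scheme.{u}) [X.Over (Spec (CommRingCat.of k))] [Y.Over (Spec (CommRingCat.of k))]
    [LocallyOfFiniteType (X ↘ (Spec (CommRingCat.of k)))] [QuasiCompact (X ↘ (Spec (CommRingCat.of k)))] [IsSeparated (X ↘ (Spec (CommRingCat.of k)))] [Nonempty X] (hcurve : (∀ x : X, IsClosed ({x} : Set X) → ringKrullDim (X.presheaf.stalk x) = 1)) (hnorm : Pi1.IsNormalScheme X)
    [IsProper (Y ↘ (Spec (CommRingCat.of k)))] (U : X.Opens) (hU : Dense (U : Set X)) (g : (U : Scheme.{u}) ⟶ Y)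
    (hg : g ≫ (Y ↘ (Spec (CommRingCat.of k))) = U.ι ≫ (X ↘ (Spec (CommRingCat.of k)))) :
    ∃! g' : X ⟶ Y, U.ι ≫ g' = g ∧ g' ≫ (Y ↘ (Spec (CommRingCat.of k))) = X ↘ (Spec (CommRingCat.of k)) := by
  let pX := X ↘ (Spec (CommRingCat.of k))
  let pY := Y ↘ (Spec (CommRingCat.of k))
  haveI : CompactSpace X := QuasiCompact.compactSpace_of_compactSpace pX
  haveI : IsLocallyNoetherian X := LocallyOfFiniteType.isLocallyNoetherian pX
  haveI : IsReduced X := by
    haveI : ∀ x : X, _root_.IsReduced (X.presheaf.stalk x) := fun x => by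
      haveI := (hnorm x).1
      infer_instance
    exact isReduced_of_isReduced_stalk X
  have hT : ∀ x ∈ (Set.univ : Set X), ∃ (_ : IsDomain (X.presheaf.stalk x)), ValuationRing (X.presheaf.stalk x) := by
    intro x _
    haveI := (hnorm x).1
    haveI := (hnorm x).2
    refine ⟨inferInstance, Groth.L18.Codim1.valuationRing_of_normal _ ?_⟩
    obtain ⟨y, hy, hyc⟩ := (isClosed_closure (s := ({x} : Set X))).exists_closed_singleton
      ⟨x, subset_closure rfl⟩
    exact (Groth.L18.Codim1.ringKrullDim_stalk_le_of_specializes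
      (specializes_iff_mem_closure.mpr hy)).trans (hcurve y hyc).le
  obtain ⟨W, hUW, g', hg', hgU, hW⟩ := Groth.L18.Codim1.exists_extension_proper pY pX U hU g hg Set.univ hT
  obtain rfl : W = ⊤ := top_le_iff.mp fun x _ => hW x trivial
  haveI : IsDominant U.ι := ⟨by rw [DenseRange, Scheme.Opens.range_ι]; exact hU⟩
  refine ⟨X.topIso.inv ≫ g', ⟨?_, ?_⟩, fun h ⟨hh, hh'⟩ => ?_⟩
  · rw [← hgU, ← Category.assoc]
    congr 1
    rw [← cancel_mono (⊤ : X.Opens).ι, Category.assoc, Scheme.homOfLE_ι]
    exact (congrArg (U.ι ≫ ·) X.topIso.inv_hom_id).trans (Category.comp_id _)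
  · rw [Category.assoc, hg']
    exact X.topIso.inv_hom_id_assoc _
  · refine ext_of_isDominant_of_isSeparated pY ?_ U.ι ?_
    · rw [hh', Category.assoc, hg']
      exact (X.topIso.inv_hom_id_assoc _).symm
    · rw [hh, ← hgU, ← Category.assoc]
      congr 1
      rw [← cancel_mono (⊤ : X.Opens).ι, Category.assoc, Scheme.homOfLE_ι]
      exact ((congrArg (U.ι ≫ ·) X.topIso.inv_hom_id).trans (Category.comp_id _)).symm

end Groth.Agent.S2344
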