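import Mathlib.Tactic
import Mathlib.LinearAlgebra.Basis.VectorSpace
import Groth.Statements.S19748


set_option autoImplicit false
universe u
open scoped TensorProduct
open GrSegre

namespace Groth.Agent.S19748

/-- Let R and S be graded rings defined over a field k with Segre product T = R # S, M a graded R-module
and N a graded S-module. Suppose that multiplication by some homogeneous element f ∈ R_d of positive
degree d is bijective on M and multiplication by some homogeneous g ∈ S_e of positive degree e is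
bijective on N. Then multiplication by some homogeneous element of T of positive degree is bijective
on M # N. Here a graded ring defined over k is a commutative k-algebra of finite type, graded in
nonnegative degrees by k-subspaces with degree-zero part k·1; the Segre product T = R # S = ⊕_n R_n
⊗_k S_n is presented abstractly as a graded k-algebra T with an injective k-algebra homomorphism ψ :
T → R ⊗_k S carrying T_n onto the k-span of the elementary tensors a ⊗ b with a ∈ R_n, b ∈ S_n; the
Segre product M # N = ⊕_n M_n ⊗_k N_n of a graded R-module M and a graded S-module N is presented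
abstractly as a graded T-module P with an injective k-linear map φ : P → M ⊗_k N carrying P_n onto
the k-span of the tensors x ⊗ y with x ∈ M_n, y ∈ N_n and turning the action of t ∈ T into that of
ψ(t) (acting factorwise on M ⊗_k N). -/
theorem result (k : Type u) [Field k] (R : Type u) [CommRing R] [Algebra k R] (𝒜 : ℤ → Submodule k R) [GradedAlgebra 𝒜] (hposR : ∀ n : ℤ, n < 0 → 𝒜 n = ⊥) (h0R : 𝒜 0 = Submodule.span k {(1 : R)}) [Algebra.FiniteType k R] (S : Type u) [CommRing S] [Algebra k S] (ℬ : ℤ → Submodule k S) [GradedAlgebra ℬ] (hposS : ∀ n : ℤ, n < 0 → ℬ n = ⊥) (h0S : ℬ 0 = Submodule.span k {(1 : S)}) [Algebra.FiniteType k S] (T : Type u) [CommRing T] [Algebra k T] (𝒯 : ℤ → Submodule k T) [GradedAlgebra 𝒯] (ψ : T →ₐ[k] TensorProduct k R S) (hT : GrSeg.IsSegreRing 𝒜 ℬ 𝒯 ψ) (M : Type u) [AddCommGroup M] [Module R M] [Module k M] [IsScalarTower k R M] (ℳ : ℤ → AddSubgroup M) [DirectSum.Decomposition ℳ] [SetLike.GradedSMul 𝒜 ℳ] (N : Type u) [AddCommGroup N] [Module S N] [Module k N] [IsScalarTower k S N] (𝒩 :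 ℤ → AddSubgroup N) [DirectSum.Decomposition 𝒩] [SetLike.GradedSMul ℬ 𝒩] (P : Type u) [AddCommGroup P] [Module T P] [Module k P] [IsScalarTower k T P] (𝒬 : ℤ → AddSubgroup P) [DirectSum.Decomposition 𝒬] (φ : P →ₗ[k] TensorProduct k M N) (hP : GrSeg.IsSegreMod ψ ℳ 𝒩 𝒬 φ) (d : ℕ) (hd : 0 < d) (f : R) (hf : f ∈ 𝒜 (d : ℤ)) (hfM : Function.Bijective (fun x : M => f • x)) (e : ℕ) (he : 0 < e) (g : S) (hg : g ∈ ℬ (e : ℤ)) (hgN : Function.Bijective (fun y : N => g • y)) : ∃ (c : ℤ) (t : T), 0 < c ∧ t ∈ 𝒯 c ∧ Function.Bijective (fun p : P => t • p) := by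
  classical
  let c : ℤ := (d * e : ℕ)
  have hfe : f ^ e ∈ 𝒜 c := by
    have := SetLike.pow_mem_graded (A := 𝒜) e hf
    rwa [nsmul_eq_mul, ← Nat.cast_mul, mul_comm e d] at this
  have hgd : g ^ d ∈ ℬ c := by
    have := SetLike.pow_mem_graded (A := ℬ) d hg
    rwa [nsmul_eq_mul, ← Nat.cast_mul] at this
  have hFb : ∀ j : ℕ, Function.Bijective (fun x : M => f ^ j • x) := by
    intro j
    induction j with
    | zero => simp only [pow_zero, one_smul]; exact Function.bijective_id
    | succ j ih => simpa [pow_succ, mul_smul, Function.comp_def] using ih.comp hfM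
  have hGb : ∀ j : ℕ, Function.Bijective (fun x : N => g ^ j • x) := by
    intro j
    induction j with
    | zero => simp only [pow_zero, one_smul]; exact Function.bijective_id
    | succ j ih => simpa [pow_succ, mul_smul, Function.comp_def] using ih.comp hgN
  let eM : M ≃ₗ[k] M := LinearEquiv.ofBijective ((Algebra.lsmul k k M (f ^ e) : Module.End k M)) (hFb e)
  let eN : N ≃ₗ[k] N := LinearEquiv.ofBijective ((Algebra.lsmul k k N (g ^ d) : Module.End k N)) (hGb d)
  obtain ⟨t, ht, htψ⟩ : ∃ t ∈ 𝒯 c, ψ t = (f ^ e) ⊗ₜ[k] (g ^ d) := by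
    have h1 : (f ^ e) ⊗ₜ[k] (g ^ d) ∈ (𝒯 c).map ψ.toLinearMap :=
      (hT.2 c).symm ▸ Submodule.subset_span ⟨_, hfe, _, hgd, rfl⟩
    obtain ⟨t, ht, htψ⟩ := h1
    exact ⟨t, ht, htψ⟩
  have hact : ∀ p, φ (t • p) = TensorProduct.congr eM eN (φ p) := fun p => by
    rw [hP.map_smul, htψ]
    induction φ p using TensorProduct.induction_on with
    | zero => simp
    | tmul m n => rw [GrSeg.act_tmul, TensorProduct.congr_tmul]; rfl
    | add a b ha hb => rw [map_add, map_add, ha, hb]
  refine ⟨c, t, by positivity, ht, fun p q hpq => hP.injective ?_, fun p => ?_⟩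
  · have := congrArg φ (show t • p = t • q from hpq)
    rw [hact, hact] at this
    exact (TensorProduct.congr eM eN).injective this
  · rw [← DirectSum.sum_support_decompose 𝒬 p]
    have hn : ∀ n, ∀ v ∈ 𝒬 n, ∃ q, t • q = v := by
      intro n v hv
      have h1 : φ v ∈ GrSeg.segrePiece k ℳ 𝒩 n := by
        have := (hP.image_piece n).subset ⟨v, hv, rfl⟩
        exact this
      suffices ∀ z ∈ GrSeg.segrePiece k ℳ 𝒩 n, ∃ q, φ (t • q) = z by
        obtain ⟨q, hq⟩ := this _ h1
        exact ⟨q, hP.injective hq⟩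
      intro z hz
      induction hz using Submodule.span_induction with
      | mem z hz =>
        obtain ⟨a, ha, b, hb, rfl⟩ := hz
        have hpre : ∀ {Q : Type u} [AddCommGroup Q] {A : Type u} [CommRing A] [Module A Q] {τ : Type u} [SetLike τ A]
            [AddSubmonoidClass τ A] (𝒞 : ℤ → τ) (𝒟 : ℤ → AddSubgroup Q) [DirectSum.Decomposition 𝒟]
            [SetLike.GradedSMul 𝒞 𝒟] (u : A) (hu : u ∈ 𝒞 c) (hbij : Function.Bijective fun x : Q => u • x)
            (a : Q) (ha : a ∈ 𝒟 n), ∃ a' ∈ 𝒟 (n - c), u • a' = a := by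
          intro Q _ A _ _ τ _ _ 𝒞 𝒟 _ _ u hu hbij a ha
          obtain ⟨a', ha'⟩ := hbij.2 a
          refine ⟨a', ?_, ha'⟩
          have hcomp : ∀ i, u • (DirectSum.decompose 𝒟 a' i : Q) = (DirectSum.decompose 𝒟 a (c + i) : Q) := fun i => by
            rw [← ha']
            change _ = (DirectSum.decompose 𝒟 (u • a') (c + i) : Q)
            conv_rhs => rw [← DirectSum.sum_support_decompose 𝒟 a', Finset.smul_sum]
            rw [DirectSum.decompose_sum, DirectSum.sum_apply, AddSubmonoidClass.coe_finset_sum,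
              Finset.sum_eq_single i]
            · refine (DirectSum.decompose_of_mem_same 𝒟 ?_).symm
              have := SetLike.GradedSMul.smul_mem (A := 𝒞) (B := 𝒟) hu (SetLike.coe_mem (DirectSum.decompose 𝒟 a' i))
              rwa [vadd_eq_add] at this
            · intro l _ hl
              have := SetLike.GradedSMul.smul_mem (A := 𝒞) (B := 𝒟) hu (SetLike.coe_mem (DirectSum.decompose 𝒟 a' l))
              rw [vadd_eq_add] at this
              exact DirectSum.decompose_of_mem_ne 𝒟 this (by omega)
            · intro hi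
              rw [DFinsupp.notMem_support_iff.1 hi]
              simp
          rw [← DirectSum.sum_support_decompose 𝒟 a']
          refine AddSubgroup.sum_mem _ fun i _ => ?_
          by_cases hi : i = n - c
          · exact hi ▸ SetLike.coe_mem _
          · have h2 := hcomp i
            rw [DirectSum.decompose_of_mem_ne 𝒟 ha (by omega)] at h2
            rw [hbij.1 (show u • (DirectSum.decompose 𝒟 a' i : Q) = u • (0 : Q) by rw [h2, smul_zero])]
            exact zero_mem _
        obtain ⟨a', ha', rfl⟩ := hpre 𝒜 ℳ (f ^ e) hfe (hFb e) a ha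
        obtain ⟨b', hb', rfl⟩ := hpre ℬ 𝒩 (g ^ d) hgd (hGb d) b hb
        obtain ⟨q, -, hq⟩ := (hP.image_piece (n - c)).superset (Submodule.subset_span ⟨a', ha', b', hb', rfl⟩)
        exact ⟨q, by rw [hact, hq, TensorProduct.congr_tmul]; rfl⟩
      | zero => exact ⟨0, by simp⟩
      | add x y _ _ hx hy =>
        obtain ⟨qx, rfl⟩ := hx
        obtain ⟨qy, rfl⟩ := hy
        exact ⟨qx + qy, by rw [smul_add, map_add]⟩
      | smul r x _ hx =>
        obtain ⟨qx, rfl⟩ := hx
        exact ⟨r • qx, by rw [smul_comm t r, map_smul]⟩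
    choose q hq using fun n => hn n _ (SetLike.coe_mem (DirectSum.decompose 𝒬 p n))
    exact ⟨∑ n ∈ (DirectSum.decompose 𝒬 p).support, q n, by
      change t • (∑ n ∈ (DirectSum.decompose 𝒬 p).support, q n) = _
      rw [Finset.smul_sum]
      exact Finset.sum_congr rfl fun n _ => hq n⟩
end Groth.Agent.S19748
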