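import Groth.Statements.S14413
import Groth.Agent.L01.PdRes
import Mathlib.CategoryTheory.Abelian.Projective.Ext

set_option autoImplicit false
universe u
open CategoryTheory CategoryTheory.Limits
open CAlg

namespace Groth.Agent.S14413

/-- Let R be a commutative ring, M an R-module and d ≥ 0. Then M has projective dimension at most d in
the sense that Ext^i_R(M, N) = 0 for every i > d and every R-module N (Mathlib's Ext-vanishing
definition) if and only if M has a projective resolution of length at most d, i.e. a projective
resolution P whose terms P_i are zero for all i > d (the definition of pd_R(M) ≤ d by resolutions). -/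
theorem result (R : Type u) [CommRing R]
    (M : ModuleCat.{u} R) (d : ℕ) :
    HasProjectiveDimensionLE M d ↔
      ∃ P : ProjectiveResolution M, ∀ i : ℕ, d < i → IsZero (P.complex.X i) := by
  constructor
  · intro h
    obtain ⟨C, ε, hC, hp, hz⟩ := Groth.L01.PdRes.exists_res_of_pdLE d (M : Type u) h
    obtain ⟨P, rfl⟩ := Groth.L01.PdRes.exists_projRes_of_isRes (M := M) C ε hC hp
    exact ⟨P, hz⟩
  · rintro ⟨P, hP⟩
    let := HasExt.standard (ModuleCat.{u} R)
    rw [HasProjectiveDimensionLE, hasProjectiveDimensionLT_iff]
    intro i hi Y e
    obtain ⟨f, hf, rfl⟩ := P.extMk_surjective e (i + 1) rfl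
    obtain rfl : f = 0 := (hP i (by omega)).eq_of_src _ _
    exact P.extMk_zero _ _

end Groth.Agent.S14413
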