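import Groth.Statements.S6554
import Groth.Agent.L05.Point.Stalk
import Mathlib.RingTheory.Etale.Field
import Mathlib.AlgebraicGeometry.FunctionField

set_option autoImplicit false
universe u
open CategoryTheory CategoryTheory.Limits AlgebraicGeometry
open Curves

namespace Groth.Agent.S6554

/-- (3) ⇔ (4) ⇔ (5): let k be a field and f : X → Y a morphism over k of smooth curves over k (integral,
separated, of finite type and smooth over k, of dimension one) which is nonconstant: f(ξ_X) = ξ_Y
for the generic points ξ_X of X and ξ_Y of Y (hypothesis e), so that the function field k(Y) maps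
into k(X). Then: some nonempty open U ⊆ X has f|_U unramified if and only if some nonempty open U ⊆
X has f|_U étale; and the latter holds if and only if k(X)/k(Y) is a finite separable extension.
(The published statement also lists two further equivalent conditions, that df : f^*Ω_{Y/k} →
Ω_{X/k} is nonzero and that Ω_{X/Y} is supported on a proper closed subset; this row omits them. For
a constant f every condition stated here fails, so assuming f nonconstant loses nothing.) -/
theorem result (k : Type u) [Field k]
    (X Y : Scheme.{u}) [X.Over (Spec (CommRingCat.of k))] [Y.Over (Spec (CommRingCat.of k))]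
    [IsIntegral X] [IsSeparated (X ↘ (Spec (CommRingCat.of k)))] [LocallyOfFiniteType (X ↘ (Spec (CommRingCat.of k)))] [QuasiCompact (X ↘ (Spec (CommRingCat.of k)))] (hdX : topologicalKrullDim X = 1) [Smooth (X ↘ (Spec (CommRingCat.of k)))]
    [IsIntegral Y] [IsSeparated (Y ↘ (Spec (CommRingCat.of k)))] [LocallyOfFiniteType (Y ↘ (Spec (CommRingCat.of k)))] [QuasiCompact (Y ↘ (Spec (CommRingCat.of k)))] (hdY : topologicalKrullDim Y = 1) [Smooth (Y ↘ (Spec (CommRingCat.of k)))]
    (f : X ⟶ Y) (hf : f ≫ (Y ↘ (Spec (CommRingCat.of k))) = X ↘ (Spec (CommRingCat.of k))) (e : f (genericPoint X) = genericPoint Y) :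
    letI := ((Y.presheaf.stalkSpecializes (specializes_of_eq e) ≫ f.stalkMap (genericPoint X)).hom).toAlgebra
    ((∃ U : X.Opens, (U : Set X).Nonempty ∧ FormallyUnramified (U.ι ≫ f)) ↔
      (∃ U : X.Opens, (U : Set X).Nonempty ∧ Etale (U.ι ≫ f))) ∧
    ((∃ U : X.Opens, (U : Set X).Nonempty ∧ Etale (U.ι ≫ f)) ↔
      (FiniteDimensional Y.functionField X.functionField ∧ Algebra.IsSeparable Y.functionField X.functionField)) := by
  letI := ((Y.presheaf.stalkSpecializes (specializes_of_eq e) ≫ f.stalkMap (genericPoint X)).hom).toAlgebra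
  let ξ := genericPoint X
  let ψ := (Y.presheaf.stalkSpecializes (specializes_of_eq e) ≫ f.stalkMap ξ)
  haveI : LocallyOfFiniteType (f ≫ (Y ↘ (Spec (CommRingCat.of k)))) := by rw [hf]; infer_instance
  haveI : LocallyOfFiniteType f := locallyOfFiniteType_of_comp f (Y ↘ (Spec (CommRingCat.of k)))
  haveI : IsLocallyNoetherian Y := LocallyOfFiniteType.isLocallyNoetherian (Y ↘ (Spec (CommRingCat.of k)))
  haveI : LocallyOfFinitePresentation f := inferInstance
  haveI : IsIso (Y.presheaf.stalkSpecializes (specializes_of_eq e)) := by
    have : ∀ (y : Y) (h : f ξ = y), IsIso (Y.presheaf.stalkSpecializes (specializes_of_eq h)) := fun y h => by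
      subst h
      rw [TopCat.Presheaf.stalkSpecializes_refl]
      infer_instance
    exact this _ e
  have hfld : IsField (Y.presheaf.stalk (f ξ)) :=
    (asIso (Y.presheaf.stalkSpecializes (specializes_of_eq e))).commRingCatIsoToRingEquiv.symm.toMulEquiv.isField
      (Field.toIsField Y.functionField)
  have hflat : (f.stalkMap ξ).hom.Flat := by
    letI := hfld.toField
    letI := (f.stalkMap ξ).hom.toAlgebra
    exact (inferInstanceAs (Module.Flat (Y.presheaf.stalk (f ξ)) (X.presheaf.stalk ξ)))
  have hψ : ψ.hom.FormallyUnramified ↔ (f.stalkMap ξ).hom.FormallyUnramified := by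
    constructor
    · intro h
      have e2 : f.stalkMap ξ = inv (Y.presheaf.stalkSpecializes (specializes_of_eq e)) ≫ ψ := by simp [ψ]
      rw [e2, CommRingCat.hom_comp]
      exact RingHom.FormallyUnramified.stableUnderComposition _ _
        (RingHom.FormallyUnramified.of_surjective (ConcreteCategory.bijective_of_isIso _).2) h
    · intro h
      rw [CommRingCat.hom_comp]
      exact RingHom.FormallyUnramified.stableUnderComposition _ _
        (RingHom.FormallyUnramified.of_surjective (ConcreteCategory.bijective_of_isIso _).2) h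
  have hgen : ∀ P : MorphismProperty Scheme.{u}, (∃ U : X.Opens, (U : Set X).Nonempty ∧ P (U.ι ≫ f)) ↔
      Groth.L05.Point.Nhd P f ξ := fun P =>
    ⟨fun ⟨U, hU, h⟩ => ⟨U, (genericPoint_spec X).mem_open_set_iff U.2 |>.2 (by simpa using hU), h⟩,
      fun ⟨U, hU, h⟩ => ⟨U, ⟨ξ, hU⟩, h⟩⟩
  have key : Groth.L05.Point.Nhd @Etale f ξ ↔ Groth.L05.Point.Nhd @FormallyUnramified f ξ := by
    rw [Groth.L05.Point.nhd_etale_iff]
    exact ⟨fun h => h.1, fun h => ⟨h, hflat⟩⟩
  refine ⟨?_, ?_⟩
  · rw [hgen @FormallyUnramified, hgen @Etale, key]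
  · rw [hgen @Etale, key, Groth.L05.Point.nhd_formallyUnramified_iff_stalkMap, ← hψ]
    have hess : ψ.hom.EssFiniteType := by
      rw [CommRingCat.hom_comp]
      exact RingHom.EssFiniteType.comp
        (RingHom.FiniteType.of_surjective _ (ConcreteCategory.bijective_of_isIso _).2).essFiniteType
        (LocallyOfFiniteType.stalkMap f ξ)
    haveI : Algebra.EssFiniteType Y.functionField X.functionField := RingHom.essFiniteType_algebraMap.1 hess
    constructor
    · intro h
      haveI : Algebra.FormallyUnramified Y.functionField X.functionField := RingHom.formallyUnramified_algebraMap.1 h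
      exact ⟨Algebra.FormallyUnramified.finite_of_free _ _, Algebra.FormallyUnramified.isSeparable _ _⟩
    · rintro ⟨hfd, hsep⟩
      haveI := hfd
      haveI := hsep
      haveI : Algebra.FormallyEtale Y.functionField X.functionField := Algebra.FormallyEtale.of_isSeparable _ _
      exact RingHom.formallyUnramified_algebraMap.2 inferInstance

end Groth.Agent.S6554
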