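import Groth.Statements.S1108
import Groth.Agent.L20.ResAmple

set_option autoImplicit false
universe u
open CategoryTheory AlgebraicGeometry
open Perf

set_option backward.isDefEq.respectTransparency.types false

namespace Groth.Agent.S1108

/-- A scheme X admitting an ample invertible O_X-module has the resolution property: every
quasi-coherent O_X-module of finite type is a quotient of a finite locally free O_X-module. -/
theorem result (X : Scheme.{u}) (L : X.Modules) (hL : CohB1.IsAmple L) : PerfAux.HasResolutionProperty X := by
  haveI := hL.2.1
  refine Groth.L20.ResDescent.hasResolutionProperty_of_genLocus fun x => ?_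
  obtain ⟨n, s, hx, hs⟩ := hL.2.2 x
  exact ⟨_, s, Groth.L18.Ample.isInvertible_tensorPow hL.1 (n + 1), hx, hs⟩

end Groth.Agent.S1108
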