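import Groth.Statements.S4691
import Groth.Agent.L07.OpenDim
import Groth.Agent.L22.PicGlue.Curve
import Groth.Agent.L22.BM.Dim
import Mathlib.AlgebraicGeometry.Morphisms.FiniteType
-- import your own Groth.Agent.* helpers here

set_option autoImplicit false
universe u
open EGA4

namespace Groth.Agent.S4691

open AlgebraicGeometry CategoryTheory in
/-- Let Y be a locally Noetherian scheme, f : X → Y a morphism locally of finite type and n a natural
number such that every fibre of f has dimension at most n. Then dim X ≤ dim Y + n. -/
theorem result {X Y : Scheme.{u}} (f : X ⟶ Y) [IsLocallyNoetherian Y]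
    [LocallyOfFiniteType f] (n : ℕ) (h : ∀ y : Y, topologicalKrullDim (f.fiber y) ≤ n) :
    topologicalKrullDim X ≤ topologicalKrullDim Y + n := by
  haveI : IsLocallyNoetherian X := LocallyOfFiniteType.isLocallyNoetherian f
  letI := specializationOrder ↥X
  rw [Groth.L22.BM.topologicalKrullDim_eq_krullDim ↥X, Order.krullDim_eq_iSup_coheight]
  refine iSup_le fun x => ?_
  rw [← AlgebraicGeometry.ringKrullDim_stalk_eq_coheight]
  refine (Groth.L07.OpenDim.ringKrullDim_stalk_le f x).trans (add_le_add ?_ ?_)
  · exact Groth.L22.PicGlue.ringKrullDim_stalk_le _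
  · exact (Groth.L22.PicGlue.ringKrullDim_stalk_le _).trans (h _)

end Groth.Agent.S4691
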