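import Groth.Statements.S7410
-- import your own Groth.Agent.* helpers here

import Groth.Agent.L16.Chow.Dense

set_option autoImplicit false
universe u
open CategoryTheory AlgebraicGeometry
open Lim

namespace Groth.Agent.S7410

open TopologicalSpace in
theorem exists_cover (X : Scheme.{u}) [CompactSpace X]
    (hfin : (irreducibleComponents (X : Type u)).Finite) :
    ∃ (k : ℕ) (U : Fin k → X.Opens) (U₀ : X.Opens), (∀ i, IsAffineOpen (U i)) ∧ (∀ x, ∃ i, x ∈ U i) ∧
      (∀ i, U₀ ≤ U i) ∧ Dense (U₀ : Set X) ∧ IsCompact (U₀ : Set X) := by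
  classical
  obtain ⟨s, hs⟩ := isCompact_univ.elim_finite_subcover (fun V : X.affineOpens => ((V.1 : X.Opens) : Set X))
    (fun V => V.1.2) fun x _ => by
      obtain ⟨_, ⟨V, hV, rfl⟩, hxV, -⟩ :=
        X.isBasis_affineOpens.exists_subset_of_mem_open (Set.mem_univ x) isOpen_univ
      exact Set.mem_iUnion.2 ⟨⟨V, hV⟩, hxV⟩
  let k := Fintype.card s
  let A : Fin k → X.affineOpens := fun i => ((Fintype.equivFin s).symm i).1
  have hA : ∀ x : X, ∃ i, x ∈ (A i).1 := fun x => by
    obtain ⟨V, hV, hx⟩ := Set.mem_iUnion₂.1 (hs (Set.mem_univ x))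
    exact ⟨Fintype.equivFin s ⟨V, hV⟩, by simpa [A] using hx⟩
  let C := irreducibleComponents X
  haveI : Finite C := hfin.to_subtype
  have hCc : ∀ c : C, IsClosed c.1 := fun c => isClosed_of_mem_irreducibleComponents _ c.2
  have hCi : ∀ c : C, IsIrreducible c.1 := fun c => c.2.1
  let η : C → X := fun c => (hCi c).genericPoint
  have hη : ∀ c : C, IsGenericPoint (η c) c.1 := fun c => (hCi c).isGenericPoint_genericPoint (hCc c)
  -- small affine neighbourhoods of the generic points
  have hW : ∀ c : C, ∃ W : X.Opens, IsAffineOpen W ∧ η c ∈ W ∧ (∀ d : C, d ≠ c → Disjoint (W : Set X) d.1) ∧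
      ∀ i, η c ∈ (A i).1 → W ≤ (A i).1 := by
    intro c
    let O : Set X := (⋂ d : {d : C // d ≠ c}, (Subtype.val (Subtype.val d) : Set X)ᶜ) ∩
      ⋂ i : {i : Fin k // η c ∈ (A i).1}, ((A (Subtype.val i)).1 : Set X)
    have hO : IsOpen O :=
      (isOpen_iInter_of_finite fun d : {d : C // d ≠ c} => (hCc d.1).isOpen_compl).inter
        (isOpen_iInter_of_finite fun i : {i : Fin k // η c ∈ (A i).1} => (A i.1).1.2)
    have hηO : η c ∈ O := by
      refine ⟨Set.mem_iInter.2 fun d hd => d.2 ?_, Set.mem_iInter.2 fun i => i.2⟩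
      have hsub : c.1 ⊆ d.1.1 := ((hη c).mem_closed_set_iff (hCc d.1)).1 hd
      exact Subtype.ext (le_antisymm (c.2.2 (hCi d.1) hsub) hsub)
    obtain ⟨_, ⟨W, hWa, rfl⟩, hηW, hWO⟩ := X.isBasis_affineOpens.exists_subset_of_mem_open hηO hO
    exact ⟨W, hWa, hηW, fun d hd => Set.disjoint_left.2 fun x hx hxd =>
        Set.mem_iInter.1 (hWO hx).1 ⟨d, hd⟩ hxd,
      fun i hi x hx => Set.mem_iInter.1 (hWO hx).2 ⟨i, hi⟩⟩
  choose W hWa hηW hWd hWA using hW
  have hcomp : ∀ x : X, ∃ c : C, x ∈ c.1 := fun x =>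
    ⟨⟨_, irreducibleComponent_mem_irreducibleComponents x⟩, mem_irreducibleComponent⟩
  let V : ∀ i : Fin k, Option {c : C // η c ∉ (A i).1} → X.Opens := fun i o =>
    o.elim (A i).1 fun c => W c.1
  refine ⟨k, fun i => ⨆ o, V i o, ⨆ c, W c, fun i => IsAffineOpen.iSup_of_disjoint (fun o => ?_) ?_,
    fun x => ?_, fun i => iSup_le fun c => ?_, fun x => ?_,
    by rw [Opens.coe_iSup]; exact isCompact_iUnion fun c => (hWa c).isCompact⟩
  · cases o with
    | none => exact (A i).2
    | some c => exact hWa _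
  · have h1 : ∀ c : {c : C // η c ∉ (A i).1}, Disjoint (A i).1 (W c.1) := by
      intro c
      rw [disjoint_iff_inf_le]
      intro x hx
      obtain ⟨d, hd⟩ := hcomp x
      obtain rfl : d = c.1 := by
        by_contra hne
        exact Set.disjoint_left.1 (hWd c.1 d hne) hx.2 hd
      exact c.2 (((hη c.1).mem_open_set_iff (A i).1.2).2 ⟨x, hd, hx.1⟩)
    intro o o' hoo'
    cases o with
    | none =>
      cases o' with
      | none => exact absurd rfl hoo'
      | some c => exact h1 c
    | some c =>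
      cases o' with
      | none => exact (h1 c).symm
      | some c' =>
        show Disjoint (W c.1) (W c'.1)
        rw [disjoint_iff_inf_le]
        intro x hx
        obtain ⟨d, hd⟩ := hcomp x
        have e : ∀ c : C, x ∈ W c → d = c := fun c hc => by
          by_contra hne
          exact Set.disjoint_left.1 (hWd c d hne) hc hd
        exact absurd (congrArg some (Subtype.ext ((e _ hx.1).symm.trans (e _ hx.2)))) hoo'
  · obtain ⟨i, hi⟩ := hA x
    exact ⟨i, Opens.mem_iSup.2 ⟨none, hi⟩⟩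
  · by_cases h : η c ∈ (A i).1
    · exact le_iSup_of_le none (hWA c i h)
    · exact le_iSup_of_le (some ⟨c, h⟩) le_rfl
  · obtain ⟨c, hc⟩ := hcomp x
    refine closure_mono (Set.singleton_subset_iff.2 ?_) ((hη c).def.symm ▸ hc)
    exact Opens.mem_iSup.2 ⟨c, hηW c⟩


/-- Chow's lemma, version with a dense open: let `S` be quasi-compact and quasi-separated and `f : X →
S` separated of finite type, with `X` having finitely many irreducible components. Then for some `n`
there are a scheme `X'`, a proper surjective `π : X' → X`, an immersion `X' → P^n_S` compatible with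
the maps to `S`, and a dense open `U ⊆ X` such that `π⁻¹(U) → U` is an isomorphism. -/
theorem result {X S : Scheme.{u}} (f : X ⟶ S) [CompactSpace S]
    [QuasiSeparatedSpace S] [IsSeparated f] [LocallyOfFiniteType f] [QuasiCompact f]
    (hirr : (irreducibleComponents (X : Type u)).Finite) :
    ∃ (n : ℕ) (X' : Scheme.{u}) (π : X' ⟶ X) (j : X' ⟶ CohB1.ProjSpaceOver n S),
      IsImmersion j ∧ j ≫ CohB1.ProjSpaceOver.toBase n S = π ≫ f ∧ IsProper π ∧ Surjective π ∧
      ∃ U : X.Opens, Dense (U : Set X) ∧ IsIso (π ∣_ U) := by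
  haveI : CompactSpace X := QuasiCompact.compactSpace_of_compactSpace f
  haveI : QuasiSeparatedSpace X := quasiSeparatedSpace_of_quasiSeparated f
  obtain ⟨k, U, U₀, hUa, hU, hle, hd, hc⟩ := exists_cover X hirr
  choose n e hei he using fun i => Groth.L16.Chow.exists_immersion_affine f (hUa i)
  haveI : CompactSpace U₀.toScheme := isCompact_iff_compactSpace.1 hc
  haveI : QuasiCompact U₀.ι := quasiCompact_of_compactSpace U₀.ι
  obtain ⟨N, Γ', π, q, hq, hqπ, hπ, hiso, -⟩ := Groth.L16.Chow.exists_chow f U n e he hU U₀ hle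
  refine ⟨N, Γ', π, q, hq, hqπ, hπ, ⟨fun x => ?_⟩, U₀, hd, hiso⟩
  have hsub : (U₀ : Set X) ⊆ Set.range π := fun y hy =>
    ⟨_, (Scheme.Hom.comp_apply (π ⁻¹ᵁ U₀).ι π (inv (π ∣_ U₀) ⟨y, hy⟩)).symm.trans (by
      rw [← morphismRestrict_ι, Scheme.Hom.comp_apply, ← Scheme.Hom.comp_apply (inv _), IsIso.inv_hom_id]
      rfl)⟩
  exact π.isClosedMap.isClosed_range.closure_subset_iff.2 hsub (hd x)

end Groth.Agent.S7410
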