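import Groth.Statements.S3746
import Groth.Agent.L12.KRes.Regular
-- import your own Groth.Agent.* helpers here

set_option autoImplicit false
universe v u
open CategoryTheory CategoryTheory.Limits AlgebraicGeometry
attribute [local instance] HasDerivedCategory.standard
open KRR

namespace Groth.Agent.S3746

/-- Let X be a Noetherian scheme all of whose local rings are regular, on which every coherent module is
a quotient of a finite locally free module (the source assumes an ample invertible module, which it
uses only through this property). Then the homomorphism δ : K₀(finite locally free O_X-modules) ⟶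
K₀(coherent O_X-modules) induced by the inclusion (recorded by the argument h) is bijective. -/
theorem result (X : Scheme.{u}) [IsNoetherian X]
    (hreg : ∀ x : X, IsRegularLocalRing (X.presheaf.stalk x)) (hX : KRR.HasEnoughLocFree X)
    (h : ∀ M : X.Modules, FlatMod.IsFinLocFree M → Coh.IsCoh M) :
    Function.Bijective (SGA6.mapSub (𝟭 X.Modules) (KRR.vbP X) (fun M : X.Modules => Coh.IsCoh M) h) := by
  have e : (fun M : X.Modules => Coh.IsCoh M) = fun M : X.Modules => Groth.L12.KRes.CohPd M :=
    funext fun M => propext ⟨fun hM => Groth.L12.KRes.cohPd_of_regular hreg hX hM, fun hM => hM.1⟩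
  have hb := Groth.L29.Resolution.bijective (Groth.L12.KRes.hyp hX) (Groth.L12.KRes.hfin hX)
  have key : ∀ (P : ObjectProperty X.Modules) (h' : ∀ M, FlatMod.IsFinLocFree M → P M),
      P = (fun M : X.Modules => Groth.L12.KRes.CohPd M) →
      Function.Bijective (SGA6.mapSub (𝟭 X.Modules) (KRR.vbP X) P h') := by
    rintro P h' rfl
    exact hb
  exact key _ h e

end Groth.Agent.S3746
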