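import Groth.Statements.S3785
import Groth.Agent.L12.KBun.Split
-- import your own Groth.Agent.* helpers here

set_option autoImplicit false
universe v u
open CategoryTheory CategoryTheory.Limits AlgebraicGeometry
attribute [local instance] HasDerivedCategory.standard
open KRR

namespace Groth.Agent.S3785

/-- Let X be a connected Noetherian scheme and (K, P, φ) a model of K(X), as a λ-ring with positive
structure, in Type (u+1). Then (K, P) has the splitting property: it belongs to a class of λ-rings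
with positive structure in which every positive element of every member becomes a sum of line
elements in some extension lying again in the class. -/
theorem result (X : Scheme.{u}) [IsNoetherian X] [ConnectedSpace ↥X]
    (K : Type (u + 1)) [CommRing K] [LambdaRing.LambdaOps K] (P : LambdaRing.PosStructure K) (φ : SGA6.Kvb X →+ K)
    (hK : KRR.IsModel X K P φ) : LambdaRing.HasSplitting K P := by
  refine ⟨{M | ∃ (Y : Scheme.{u}) (_ : IsNoetherian Y) (_ : ConnectedSpace ↥Y) (ψ : SGA6.Kvb Y →+ M.carrier),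
    KRR.IsModel Y M.carrier M.posStr ψ}, ⟨X, inferInstance, inferInstance, φ, hK⟩, ?_⟩
  rintro M ⟨Y, _, _, ψ, hM⟩ e he
  obtain ⟨m, E, -, hE, rfl⟩ := (hM.mem_pos_iff e).1 he
  obtain ⟨Y', iN, iC, f, K', iR, iO, P', φ', hK', g, hg, hinj, -, L, hL, heq⟩ :=
    Groth.L12.KBun.exists_split m Y _ _ _ hM E hE
  obtain ⟨Q, hQ⟩ := Groth.L12.KRR.exists_pullHom hK' hM hg
  refine ⟨⟨K', P'⟩, ⟨Y', iN, iC, φ', hK'⟩, Q, ?_, Finset.univ.val.map fun j => φ' (KRR.cl Y' (L j)), ?_, ?_⟩
  · refine ⟨fun i x => ?_, fun a b h => hinj (by rw [← hQ, ← hQ]; exact h), fun x => ?_, fun z hz => ?_⟩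
    · rw [hQ, hQ]
      exact Groth.L12.KRR.pull_lam hK' hM hg i x
    · rw [hQ]
      exact Groth.L12.KRR.aug_pull hK' hM hg x
    · obtain ⟨n, F, hn, hF, rfl⟩ := (hM.mem_pos_iff z).1 hz
      rw [hQ, hg F (Groth.L18.KRRAmple.isFinLocFree_of_rank hF)]
      exact (hK'.mem_pos_iff _).2 ⟨n, _, hn, Groth.L18.MapEpi.isFinLocFreeOfRank_pullback f hF, rfl⟩
  · intro u hu
    obtain ⟨j, -, rfl⟩ := Multiset.mem_map.1 hu
    exact ⟨(hK'.mem_pos_iff _).2 ⟨1, _, le_rfl, hL j, rfl⟩, by exact_mod_cast hK'.aug_cl 1 _ (hL j)⟩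
  · exact (hQ _).trans heq |>.symm

end Groth.Agent.S3785
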