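import Groth.Statements.S1676
import Groth.Agent.L16.SmoothSection.Algebra
import Mathlib.AlgebraicGeometry.Morphisms.Smooth
import Mathlib.AlgebraicGeometry.IdealSheaf.Subscheme

set_option autoImplicit false
universe u
open CategoryTheory CategoryTheory.Limits AlgebraicGeometry TopologicalSpace
open SDiv

namespace Groth.Agent.S1676

/-- For a section that is a closed immersion, e.g. when f is separated: let f : X ⟶ S be a smooth
morphism and σ : S ⟶ X a section of f which is a closed immersion. Then σ is a regular closed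
immersion. -/
theorem result {X S : Scheme.{u}} (f : X ⟶ S) [Smooth f] (σ : S ⟶ X)
    (hσ : σ ≫ f = 𝟙 S) [IsClosedImmersion σ] : Mor2.IsRegularClosedImmersion σ := by
  refine ⟨inferInstance, fun z => ?_⟩
  have hfσ : ∀ t, f (σ t) = t := fun t => by
    rw [← Scheme.Hom.comp_apply, hσ]; rfl
  obtain ⟨U, hU, W, hW, hzW, e, hstd⟩ := Smooth.exists_isStandardSmooth f (σ z)
  have hzU : z ∈ U := by simpa [hfσ] using e hzW
  obtain ⟨r, hr, hzr⟩ := hU.exists_basicOpen_le (V := σ ⁻¹ᵁ W) (x := ⟨z, hzW⟩) hzU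
  let φ₀ := f.appLE U W e
  let W' := X.basicOpen (φ₀ r)
  have hW' : IsAffineOpen W' := hW.basicOpen _
  have hU' : IsAffineOpen (S.basicOpen r) := hU.basicOpen r
  have hW'eq : W' = W ⊓ f ⁻¹ᵁ S.basicOpen r := Scheme.basicOpen_appLE f W U e r
  have e₁ : W' ≤ f ⁻¹ᵁ S.basicOpen r := hW'eq ▸ inf_le_right
  have hpre : σ ⁻¹ᵁ W' = S.basicOpen r := by
    rw [hW'eq]
    ext t
    refine ⟨fun h => ?_, fun h => ⟨hr h, ?_⟩⟩
    · have h2 : f (σ t) ∈ S.basicOpen r := h.2
      rwa [hfσ] at h2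
    · show f (σ t) ∈ S.basicOpen r
      rw [hfσ]; exact h
  let φ := f.appLE (S.basicOpen r) W' e₁
  have hφ : φ.hom.IsStandardSmooth := by
    letI := hU.isLocalization_basicOpen r
    letI := hW.isLocalization_basicOpen (φ₀ r)
    have h := RingHom.LocalizationPreserves.away RingHom.isStandardSmooth_localizationPreserves φ₀.hom r
      Γ(S, S.basicOpen r) Γ(X, W') hstd
    have e' : φ = CommRingCat.ofHom
        (IsLocalization.Away.map Γ(S, S.basicOpen r) Γ(X, W') φ₀.hom r) :=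
      IsAffineOpen.appLE_eq_away_map f hU hW e r
    rw [e']
    exact h
  let q := σ.appLE W' (S.basicOpen r) hpre.ge
  have hq : q.hom.comp φ.hom = RingHom.id _ := by
    rw [← CommRingCat.hom_comp, Scheme.Hom.appLE_comp_appLE]
    have : ∀ (g : S ⟶ S) (e'' : S.basicOpen r ≤ g ⁻¹ᵁ S.basicOpen r), g = 𝟙 S →
        (g.appLE (S.basicOpen r) (S.basicOpen r) e'').hom = RingHom.id _ := by
      rintro g e'' rfl
      rw [Scheme.Hom.appLE, Scheme.Hom.id_app]
      exact congrArg CommRingCat.Hom.hom ((Category.id_comp _).trans (S.presheaf.map_id _))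
    exact this _ _ hσ
  obtain ⟨f₀, hf₀, H⟩ := Groth.L16.SmoothSection.exists_regular_sequence φ.hom hφ q.hom hq
  let W'' := X.basicOpen f₀
  have hW'' : IsAffineOpen W'' := hW'.basicOpen _
  haveI := hW'.isLocalization_basicOpen f₀
  obtain ⟨rs, hrs, hmap⟩ := H Γ(X, W'')
  have hzW'' : σ z ∈ W'' := by
    have h1 : S.basicOpen (q f₀) = S.basicOpen r ⊓ σ ⁻¹ᵁ W'' := Scheme.basicOpen_appLE σ _ W' hpre.ge f₀
    rw [show q f₀ = 1 from hf₀, Scheme.basicOpen_of_isUnit _ isUnit_one] at h1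
    exact (h1.le hzr).2
  have hker₀ : σ.ker.ideal ⟨W', hW'⟩ = RingHom.ker q.hom := by
    rw [Scheme.Hom.ker_apply]
    have : q = σ.app W' ≫ S.presheaf.map (eqToHom hpre.symm).op := by
      simp [q, Scheme.Hom.appLE]; rfl
    rw [this, CommRingCat.hom_comp]
    exact (RingHom.ker_comp_of_injective _
      ((ConcreteCategory.bijective_of_isIso (S.presheaf.map (eqToHom hpre.symm).op)).1)).symm
  have hker : σ.ker.ideal ⟨W'', hW''⟩ = Ideal.ofList rs := by
    rw [← hmap, ← hker₀]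
    exact (σ.ker.map_ideal_basicOpen ⟨W', hW'⟩ f₀).symm
  refine ⟨W'', hW'', hzW'', rs, ⟨hrs, fun htop => ?_⟩, hker⟩
  have htop' : σ.ker.ideal ⟨W'', hW''⟩ = ⊤ := by
    rw [hker]
    exact (htop.trans (by simp)).symm
  have hsupp : σ z ∈ σ.ker.support := σ.range_subset_ker_support ⟨z, rfl⟩
  rw [Scheme.IdealSheafData.mem_support_iff_of_mem (U := ⟨W'', hW''⟩) hzW'', htop'] at hsupp
  rw [Scheme.mem_zeroLocus_iff] at hsupp
  exact hsupp 1 trivial (by simp [Scheme.basicOpen_of_isUnit _ isUnit_one, hzW''])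
end Groth.Agent.S1676
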