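import Groth.Statements.S3775
import Groth.Agent.L12.RR.Def.Build
import Groth.Agent.L12.RR.Models
import Groth.Agent.L12.RR.PushShift
-- import your own Groth.Agent.* helpers here

set_option autoImplicit false
universe v u
open CategoryTheory CategoryTheory.Limits AlgebraicGeometry
attribute [local instance] HasDerivedCategory.standard
open KRR

set_option maxHeartbeats 400000
set_option backward.isDefEq.respectTransparency false
set_option backward.isDefEq.respectTransparency.types false

namespace Groth.Agent.S3775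

/-- Let S be affine Noetherian, Y connected and quasi-projective over S, f : X ⟶ Y a regular closed
imbedding with X connected and conormal module finite locally free of rank d. With models and f_K
the push-forward: for every n and x ∈ F^n K(X) (γ-filtration) there is an integer N ≥ 1 with N ·
f_K(x) ∈ F^{n+d} K(Y); that is, f_K(ℚF^n K(X)) ⊆ ℚF^{n+d} K(Y). (The source warns that tensoring
with ℚ is essential here.) -/
theorem result (S : Scheme.{u}) [IsAffine S] [IsNoetherian S] {X Y : Scheme.{u}} [IsNoetherian Y] [ConnectedSpace ↥Y] (qY : Y ⟶ S) (hqY : KRR.IsQProjOver qY)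
    (f : X ⟶ Y) (hf : Mor2.IsRegularClosedImmersion f) [ConnectedSpace ↥X] (d : ℕ)
    (hC : FlatMod.IsFinLocFreeOfRank d (Omega.conormal f))
    (KX : Type v) [CommRing KX] [LambdaRing.LambdaOps KX] (PX : LambdaRing.PosStructure KX) (φX : SGA6.Kvb X →+ KX) (hKX : KRR.IsModel X KX PX φX)
    (KY : Type v) [CommRing KY] [LambdaRing.LambdaOps KY] (PY : LambdaRing.PosStructure KY) (φY : SGA6.Kvb Y →+ KY) (hKY : KRR.IsModel Y KY PY φY)
    (h : KX →+ KY) (hh : KRR.IsPushCl f φX φY h) (n : ℕ) (x : KX) (hx : x ∈ LambdaRing.gammaFiltration PX n) :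
    ∃ N : ℕ, 1 ≤ N ∧ (N : KY) * h x ∈ LambdaRing.gammaFiltration PY (n + d) := by
  haveI := hf.1
  haveI : IsLocallyNoetherian X := LocallyOfFiniteType.isLocallyNoetherian f
  haveI : CompactSpace X := QuasiCompact.compactSpace_of_compactSpace f
  haveI : IsNoetherian X := {}
  have hqX : KRR.IsQProjOver (f ≫ qY) := by
    obtain ⟨m, i, hi, hiq⟩ := hqY
    exact ⟨m, f ≫ i, inferInstance, by rw [Category.assoc, hiq]⟩
  obtain ⟨L, hL⟩ := Groth.L12.RR.exists_ample_of_qproj hqX
  have hYe := Groth.L12.RR.hasEnough_of_ample (Groth.L12.RR.exists_ample_of_qproj hqY)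
  obtain ⟨eX, heX, hlX, haX⟩ := Groth.L12.KBun.exists_modelEquiv Groth.L12.Kvb.isModel hKX
  obtain ⟨eY, heY, hlY, haY⟩ := Groth.L12.KBun.exists_modelEquiv Groth.L12.Kvb.isModel hKY
  have hX : ∀ z, eX (Groth.L12.Kvb.toKR X z) = φX z := fun z =>
    DFunLike.congr_fun (Groth.L29.KSub.hom_ext (φ := eX.toAddMonoidHom.comp (Groth.L12.Kvb.toKR X))
      fun F hF => heX F hF) z
  have hY : ∀ z, eY (Groth.L12.Kvb.toKR Y z) = φY z := fun z =>
    DFunLike.congr_fun (Groth.L29.KSub.hom_ext (φ := eY.toAddMonoidHom.comp (Groth.L12.Kvb.toKR Y))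
      fun F hF => heY F hF) z
  obtain ⟨x₀, rfl⟩ := eX.surjective x
  have hx₀ : x₀ ∈ LambdaRing.gammaFiltration (Groth.L12.Kvb.posStructure (X := X)) n := by
    rw [← Groth.L12.KBun.comap_gammaFiltration_of_bijective eX hlX haX n]
    exact hx
  obtain ⟨N, hN, hmem⟩ := Groth.L12.RR.exists_natMul_push_mem hL (Groth.L12.RR.pushK f hf hYe)
    (θ := Groth.L12.RR.theta 2 d (Groth.L12.KBunQ.kc X (Omega.conormal f))) (d := d)
    (fun y => Groth.L12.RR.adamsRR hqY f hf hC hYe two_ne_zero y)
    (Groth.L12.RR.incl_theta_sub_mem hL hC) hx₀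
  refine ⟨N, hN, ?_⟩
  rw [← Groth.L12.KBun.comap_gammaFiltration_of_bijective eY hlY haY (n + d)] at hmem
  rw [Groth.L12.RR.map_pushK f hf hYe hh hX hY, ← map_natCast eY N, ← map_mul]
  exact hmem

end Groth.Agent.S3775
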