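import Groth.Statements.S3762
import Groth.Agent.L12.PushFree.KPush
import Groth.Agent.L17.ProjFormula
-- import your own Groth.Agent.* helpers here

set_option autoImplicit false
universe v u
open CategoryTheory CategoryTheory.Limits AlgebraicGeometry
attribute [local instance] HasDerivedCategory.standard
open KRR

namespace Groth.Agent.S3762

open Groth.L00.Tensor (tensorIso tensorComm tensorAssoc) in
/-- Twisting a regular bundle by a bundle from the base. -/
theorem regular_tensor (n : ℕ) (Y : Scheme.{u}) {F : (KRR.PY n Y).Modules} (hreg : KRR.IsRegSheaf n Y F)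
    {E : Y.Modules} (hE : FlatMod.IsFinLocFree E) :
    KRR.IsRegSheaf n Y (CohB1.tensorMod F ((Scheme.Modules.pullback (KRR.pr n Y)).obj E)) ∧
      Nonempty ((Scheme.Modules.pushforward (KRR.pr n Y)).obj
          (CohB1.tensorMod F ((Scheme.Modules.pullback (KRR.pr n Y)).obj E)) ≅
        CohB1.tensorMod ((Scheme.Modules.pushforward (KRR.pr n Y)).obj F) E) := by
  haveI := Groth.L17.PushQCoh.hasInjectiveResolutions (KRR.PY n Y)
  haveI := Groth.L17.PushQCoh.additive_push (KRR.pr n Y)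
  let p := KRR.pr n Y
  refine ⟨Groth.L22.Reg.isRegSheaf_iff.2 fun i hi => ?_, ?_⟩
  · let A := CohB1.tensorMod F (Twist.twistOver n Y (-(i : ℤ)))
    obtain ⟨e⟩ := Groth.L17.nonempty_toAb_Rpush_iso p A i
    have hz : IsZero ((Coh.Rpush p i).obj A) :=
      Groth.L17.PushQCoh.isZero_of_toAb ((Groth.L22.Reg.isRegSheaf_iff.1 hreg i hi).of_iso e)
    obtain ⟨π⟩ := Groth.L17.ProjFormula.nonempty_Rpush_iso p E A hE i
    have hz' : IsZero ((Coh.Rpush p i).obj (CohB1.tensorMod ((Scheme.Modules.pullback p).obj E) A)) :=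
      (((Groth.L00.Tensor.tensorRightF E).map_isZero hz).of_iso (tensorComm _ _)).of_iso π.symm
    obtain ⟨e'⟩ := Groth.L17.nonempty_toAb_Rpush_iso p (CohB1.tensorMod ((Scheme.Modules.pullback p).obj E) A) i
    exact (Groth.L22.Reg.isVan_vpush p).iso
      ((tensorAssoc _ _ _).symm ≪≫ tensorIso (tensorComm _ _) (Iso.refl _)) i
      (((Groth.L17.toAbShF Y).map_isZero hz').of_iso e'.symm)
  · obtain ⟨π⟩ := Groth.L17.ProjFormula.nonempty_Rpush_iso p E F hE 0
    let z := (Scheme.Modules.pushforward p).rightDerivedZeroIsoSelf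
    exact ⟨(Scheme.Modules.pushforward p).mapIso (tensorComm _ _) ≪≫ (z.app _).symm ≪≫ π.symm ≪≫
      tensorIso (Iso.refl E) (z.app F) ≪≫ tensorComm _ _⟩


/-- Let Y be a connected Noetherian scheme, p : P = P^n_Y ⟶ Y, with models of K(P), K(Y), g = p_K the
push-forward and q = p^K the pull-back. Then p_K (x · p^K y) = p_K (x) · y for all x ∈ K(P), y ∈
K(Y). -/
theorem result (n : ℕ) (Y : Scheme.{u}) [IsNoetherian Y] [ConnectedSpace ↥Y]
    (KP : Type v) [CommRing KP] [LambdaRing.LambdaOps KP] (PP : LambdaRing.PosStructure KP) (φP : SGA6.Kvb (KRR.PY n Y) →+ KP) (hKP : KRR.IsModel (KRR.PY n Y) KP PP φP)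
    (KY : Type v) [CommRing KY] [LambdaRing.LambdaOps KY] (PY : LambdaRing.PosStructure KY) (φY : SGA6.Kvb Y →+ KY) (hKY : KRR.IsModel Y KY PY φY)
    (g : KP →+ KY) (hg : KRR.IsPushPr n Y φP φY g) (q : KY →+ KP) (hq : KRR.IsPull (KRR.pr n Y) φY φP q) (x : KP) (y : KY) :
    g (x * q y) = g x * y := by
  have key : ∀ F : (KRR.PY n Y).Modules, FlatMod.IsFinLocFree F → KRR.IsRegSheaf n Y F →
      ∀ E : Y.Modules, FlatMod.IsFinLocFree E →
        g (φP (KRR.cl (KRR.PY n Y) F) * q (φY (KRR.cl Y E))) = g (φP (KRR.cl (KRR.PY n Y) F)) * φY (KRR.cl Y E) :=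
    fun F hF hreg E hE => by
      have hpE := Groth.L29.LocFree.pullback (KRR.pr n Y) hE
      have hpush := Groth.L12.PushFree.isFinLocFree_push_regular n Y hF hreg
      obtain ⟨hG, ⟨w⟩⟩ := regular_tensor n Y hreg hE
      have hvb : FlatMod.IsFinLocFree (CohB1.tensorMod F ((Scheme.Modules.pullback (KRR.pr n Y)).obj E)) :=
        Groth.L29.DC.isFinLocFree_tensor hF hpE
      rw [hq E hE, hKP.map_mul F _ hF hpE, hg F hF hreg, hKY.map_mul _ E hpush hE]
      refine (hg _ hvb hG).trans (congrArg φY ?_)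
      exact Groth.L12.PushFree.cl_iso w (Groth.L12.PushFree.isFinLocFree_push_regular n Y hvb hG)
  obtain ⟨b, rfl⟩ := hKY.bijective.2 y
  have h : ((AddMonoidHom.mulRight (φY b)).comp g).comp φP = (g.comp (AddMonoidHom.mulRight (q (φY b)))).comp φP :=
    Groth.L12.KReg.hom_ext_regular n Y fun F hF hreg => by
      simp only [AddMonoidHom.comp_apply, AddMonoidHom.coe_mulRight]
      have h' : (AddMonoidHom.mulLeft (g (φP (KRR.cl (KRR.PY n Y) F)))).comp φY =
          (g.comp ((AddMonoidHom.mulLeft (φP (KRR.cl (KRR.PY n Y) F))).comp q)).comp φY :=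
        Groth.L29.KSub.hom_ext fun E hE => by
          simp only [AddMonoidHom.comp_apply, AddMonoidHom.coe_mulLeft]
          exact (key F hF hreg E hE).symm
      have := DFunLike.congr_fun h' b
      simpa only [AddMonoidHom.comp_apply, AddMonoidHom.coe_mulLeft] using this
  obtain ⟨a, rfl⟩ := hKP.bijective.2 x
  exact (DFunLike.congr_fun h a).symm

end Groth.Agent.S3762
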