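import Groth.Statements.S3776
import Groth.Agent.S3762
import Groth.Agent.L12.KRR.Gen
import Groth.Agent.L12.KRR.Pull
import Groth.Agent.L13.ElemExt.Gamma
-- import your own Groth.Agent.* helpers here

set_option autoImplicit false
universe v u
open CategoryTheory CategoryTheory.Limits AlgebraicGeometry
attribute [local instance] HasDerivedCategory.standard
open KRR

namespace Groth.Agent.S3776

open Groth.L12.KReg Groth.L22.Reg in
/-- The Koszul relation `([O(1)] - 1)^{n+1} = 0`. -/
theorem sub_one_pow_eq_zero (n : ℕ) (Y : Scheme.{u}) [IsNoetherian Y]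
    (KP : Type v) [CommRing KP] [LambdaRing.LambdaOps KP] (PP : LambdaRing.PosStructure KP) (φP : SGA6.Kvb (KRR.PY n Y) →+ KP) (hKP : KRR.IsModel (KRR.PY n Y) KP PP φP) :
    (φP (KRR.cl _ (Twist.twistOver n Y 1)) - 1) ^ (n + 1) = 0 := by
  set ℓ := φP (KRR.cl _ (Twist.twistOver n Y 1))
  have hO : FlatMod.IsFinLocFree (Coh.structureModule (KRR.PY n Y)) := Groth.L12.Kvb.isFinLocFree_O
  have hpow : ∀ k : ℕ, φP (KRR.cl _ (Twist.twistOver n Y (k : ℤ))) = ℓ ^ k := fun k => by
    induction k with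
    | zero => rw [pow_zero, Nat.cast_zero, Groth.L12.KRR.cl_O_zero hKP]
    | succ k ih =>
      rw [pow_succ, ← ih, Groth.L12.KRR.cl_O_add hKP, show (k : ℤ) + 1 = ((k + 1 : ℕ) : ℤ) by push_cast; rfl]
  have htw : ∀ k : ℕ, φP (KRR.cl _ (KRR.twF n Y (k : ℤ) (Coh.structureModule (KRR.PY n Y)))) = ℓ ^ k := fun k => by
    rw [Groth.L12.KRR.cl_twF hKP _ hO, hKP.map_one, mul_one, hpow]
  have hT := congrArg φP (cl_eq_T isSumClosed_vb hO (fun k => isFinLocFree_tw _ hO) (vb_kosG hO) (vb_Z hO))
  rw [map_T, T_congr (h' := fun M => φP (KRR.cl _ M)) _ fun k _ => rfl, T, htw,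
    show φP (KZero.clSub _ (Coh.structureModule (KRR.PY n Y))) = 1 from hKP.map_one,
    Finset.sum_congr rfl fun j (hj : j ∈ Finset.range n) => show
      (-1 : ℤ) ^ j • ((n + 1).choose (j + 1) • φP (KRR.cl _ (KRR.twF n Y ((n : ℤ) - j) (Coh.structureModule (KRR.PY n Y))))) =
        (-1 : KP) ^ j * ((n + 1).choose (j + 1) : KP) * ℓ ^ (n - j) by
      rw [Finset.mem_range] at hj
      rw [show (n : ℤ) - j = ((n - j : ℕ) : ℤ) by omega, htw]
      simp only [zsmul_eq_mul, nsmul_eq_mul, Int.cast_pow, Int.cast_neg, Int.cast_one, mul_assoc],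
    zsmul_eq_mul, Int.cast_pow, Int.cast_neg, Int.cast_one] at hT
  have hsq : (-1 : KP) ^ n * (-1 : KP) ^ n = 1 := by rw [← pow_add, Even.neg_one_pow (Even.add_self n)]
  rw [sub_eq_add_neg, add_pow, Finset.sum_range_succ, Finset.sum_range_succ', pow_zero, one_mul,
    Nat.choose_self, Nat.choose_zero_right, Nat.sub_self, Nat.sub_zero, Nat.cast_one, mul_one, mul_one, pow_zero, mul_one,
    ← Finset.sum_range_reflect,
    Finset.sum_congr rfl fun j (hj : j ∈ Finset.range n) => show
      ℓ ^ (n - 1 - j + 1) * (-1 : KP) ^ (n + 1 - (n - 1 - j + 1)) * ((n + 1).choose (n - 1 - j + 1) : KP) =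
        -((-1 : KP) ^ j * ((n + 1).choose (j + 1) : KP) * ℓ ^ (n - j)) by
      rw [Finset.mem_range] at hj
      rw [show n - 1 - j + 1 = n - j by omega, show n + 1 - (n - j) = j + 1 by omega,
        Nat.choose_symm_of_eq_add (show n + 1 = (n - j) + (j + 1) by omega)]
      ring, Finset.sum_neg_distrib, pow_succ (-1 : KP) n]
  generalize ∑ j ∈ Finset.range n, (-1 : KP) ^ j * ((n + 1).choose (j + 1) : KP) * ℓ ^ (n - j) = S at hT
  linear_combination (-(-1 : KP) ^ n) * hT - (ℓ ^ (n + 1) - S) * hsq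

open LambdaRing Groth.L08.Lambda in
/-- `F^k K(ℙⁿ_Y)` lies in `Σ_j p^*(F^{k-j}) (1 - [O(-1)])^j`. -/
theorem gammaFiltration_le_closure (n : ℕ) (Y : Scheme.{u}) [IsNoetherian Y] [ConnectedSpace ↥Y]
    (KP : Type v) [CommRing KP] [LambdaRing.LambdaOps KP] (PP : LambdaRing.PosStructure KP) (φP : SGA6.Kvb (KRR.PY n Y) →+ KP) (hKP : KRR.IsModel (KRR.PY n Y) KP PP φP)
    (KY : Type v) [CommRing KY] [LambdaRing.LambdaOps KY] (PY : LambdaRing.PosStructure KY) (φY : SGA6.Kvb Y →+ KY) (hKY : KRR.IsModel Y KY PY φY)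
    (q : KY →+ KP) (hq : KRR.IsPull (KRR.pr n Y) φY φP q) (k : ℕ) :
    gammaFiltration PP k ≤ AddSubgroup.closure {z | ∃ (j : ℕ) (a : KY), a ∈ gammaFiltration PY (k - j) ∧
      z = q a * (1 - φP (KRR.cl _ (Twist.twistOver n Y (-1)))) ^ j} := by
  set lm := φP (KRR.cl _ (Twist.twistOver n Y (-1)))
  obtain ⟨Q, hQ⟩ := Groth.L12.KRR.exists_pullHom hKP hKY hq
  suffices H : ∀ J : ℕ → AddSubgroup KP,
      (∀ (k j : ℕ) (a : KY), a ∈ gammaFiltration PY (k - j) → q a * (1 - lm) ^ j ∈ J k) →
      (∀ (k : ℕ) (S : AddSubgroup KP),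
        (∀ (j : ℕ) (a : KY), a ∈ gammaFiltration PY (k - j) → q a * (1 - lm) ^ j ∈ S) → J k ≤ S) →
      gammaFiltration PP k ≤ J k by
    exact H (fun k => AddSubgroup.closure
        {z | ∃ (j : ℕ) (a : KY), a ∈ gammaFiltration PY (k - j) ∧ z = q a * (1 - lm) ^ j})
      (fun k j a ha => AddSubgroup.subset_closure ⟨j, a, ha, rfl⟩)
      fun k S h => (AddSubgroup.closure_le _).2 (by rintro _ ⟨j, a, ha, rfl⟩; exact h j a ha)
  intro J hgen hle
  have F0 : ∀ a : KY, a ∈ gammaFiltration PY 0 := fun a => by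
    rw [gammaFiltration, if_pos rfl]; exact AddSubgroup.mem_top a
  have hof : ∀ (k : ℕ) (a : KY), a ∈ gammaFiltration PY k → q a ∈ J k := fun k a ha => by
    simpa using hgen k 0 a ha
  have hone : (1 : KP) ∈ J 0 := by
    have := hof 0 1 (F0 1)
    rwa [Groth.L12.KRR.pull_one hKP hKY hq] at this
  have hanti : ∀ {i k : ℕ}, i ≤ k → J k ≤ J i := fun {i k} h => hle k _ fun j a ha =>
    hgen i j a (gammaFiltration_antitone PY (by omega) ha)
  have hmul : ∀ {i k : ℕ} {x y : KP}, x ∈ J i → y ∈ J k → x * y ∈ J (i + k) := by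
    intro i k x y hx hy
    have h : J i ≤ (J (i + k)).comap (AddMonoidHom.mulRight y) := hle i _ (by
      intro j a ha
      have h' : J k ≤ (J (i + k)).comap (AddMonoidHom.mulLeft (q a * (1 - lm) ^ j)) := hle k _ (by
        intro l b hb
        have := hgen (i + k) (j + l) (a * b)
          (gammaFiltration_antitone PY (by omega) (mul_mem_gammaFiltration PY ha hb))
        rw [Groth.L12.KRR.pull_mul hKP hKY hq, pow_add] at this
        show q a * (1 - lm) ^ j * (q b * (1 - lm) ^ l) ∈ J (i + k)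
        rwa [mul_mul_mul_comm] at this)
      exact h' hy)
    exact h hx
  have hlm : ∀ i : ℕ, lm ^ i ∈ J 0 := fun i => by
    induction i with
    | zero => rw [pow_zero]; exact hone
    | succ i ih =>
      rw [pow_succ]
      suffices hl : lm ∈ J 0 by simpa only [Nat.add_zero] using hmul ih hl
      have h1 := hgen 0 1 1 (F0 1)
      rw [Groth.L12.KRR.pull_one hKP hKY hq, one_mul, pow_one] at h1
      simpa using sub_mem hone h1
  have htop : ∀ z : KP, z ∈ J 0 := fun z =>
    (AddSubgroup.closure_le _).2 (by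
      rintro _ ⟨y, i, rfl⟩
      simpa only [Nat.add_zero, SetLike.mem_coe] using hmul (hof 0 y (F0 y)) (hlm i)) (Groth.L12.KRR.mem_closure_twists hKP hq z)
  rcases Nat.eq_zero_or_pos k with rfl | hk
  · exact fun z _ => htop z
  have hline : PP.IsLine lm := by
    have hr : FlatMod.IsFinLocFreeOfRank 1 (Twist.twistOver n Y (-1)) :=
      Groth.L18.KRRAmple.isRankOne_of_isInvertible (Groth.L17.Strat.isInvertible_twistOver n Y (-1))
    exact ⟨(hKP.mem_pos_iff _).2 ⟨1, _, le_rfl, hr, rfl⟩, by exact_mod_cast hKP.aug_cl 1 _ hr⟩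
  have hu1 : ∀ i : ℕ, lm ^ i - 1 ∈ J 1 := fun i => by
    have h1 := hgen 1 1 1 (F0 1)
    rw [Groth.L12.KRR.pull_one hKP hKY hq, one_mul, pow_one] at h1
    rw [← geom_sum_mul, show lm - 1 = -(1 - lm) by ring]
    simpa using hmul (htop (∑ j ∈ Finset.range i, lm ^ j)) (neg_mem h1)
  let S : AddSubgroup KP :=
    { carrier := {z | ∀ r, gamma r z ∈ J r}
      zero_mem' := fun r => by
        rcases Nat.eq_zero_or_pos r with rfl | hr
        · rw [gamma_zero]; exact hone
        · rw [gamma_zero_arg r hr]; exact zero_mem _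
      add_mem' := fun {a b} ha hb r => by
        rw [gamma_add]
        refine sum_mem fun i hi => ?_
        have h := hmul (ha i) (hb (r - i))
        rwa [Nat.add_sub_cancel' (by have := Finset.mem_range.1 hi; omega)] at h
      neg_mem' := fun {a} ha r => by
        induction r using Nat.strong_induction_on with
        | _ r ih =>
          rcases Nat.eq_zero_or_pos r with rfl | hr
          · rw [gamma_zero]; exact hone
          have h := gamma_add r a (-a)
          rw [add_neg_cancel, gamma_zero_arg r hr, Finset.sum_range_succ', gamma_zero, one_mul, Nat.sub_zero, eq_comm] at h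
          rw [eq_neg_of_add_eq_zero_right h]
          refine neg_mem (sum_mem fun i hi => ?_)
          have := Finset.mem_range.1 hi
          have h2 := hmul (ha (i + 1)) (ih (r - (i + 1)) (by omega))
          rwa [Nat.add_sub_cancel' (by omega)] at h2 }
  have hpowline : ∀ i : ℕ, lm ^ i - 1 ∈ S := fun i r => by
    have h1 := fun j hj => Groth.L22.Lambda.lam_eq_zero_of_isLine PP (Groth.L22.Lambda.isLine_one PP) (i := j) hj
    rw [← coeff_gammaSeries, gammaSeries_sub_one h1
      fun j hj => Groth.L22.Lambda.lam_eq_zero_of_isLine PP (Groth.L22.Lambda.isLine_pow PP hline i) hj,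
      Groth.L22.Lambda.coeff_one_add_C_mul_X]
    split_ifs with h h'
    · subst h; exact hone
    · subst h'; exact hu1 i
    · exact zero_mem _
  have hmulline : ∀ (i : ℕ) (b : KY), PY.aug b = 0 → lm ^ i * q b ∈ S := fun i b hb r => by
    rcases Nat.eq_zero_or_pos r with rfl | hr
    · rw [gamma_zero]; exact hone
    obtain ⟨N, rfl⟩ : ∃ N, r = N + 1 := ⟨r - 1, by omega⟩
    rw [Groth.L13.ElemExt.gamma_succ_line_mul (lm ^ i) (q b) fun j =>
      Groth.L12.KRR.lam_line_mul hKP (Groth.L22.Lambda.isLine_pow PP hline i) j (q b)]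
    refine sum_mem fun j hj => ?_
    have := Finset.mem_range.1 hj
    have hpow : ∀ d, (-(lm ^ i - 1)) ^ d ∈ J d := fun d => by
      induction d with
      | zero => rw [pow_zero]; exact hone
      | succ d ih => rw [pow_succ]; exact hmul ih (neg_mem (hu1 i))
    rw [← Groth.L12.KRR.pull_gamma hKP hKY hq, mul_assoc _ ((lm ^ i) ^ (j + 1)) (N.choose j : KP)]
    have hg : gamma (j + 1) b ∈ gammaFiltration PY (j + 1) := by
      simpa using prod_mem_gammaFiltration PY [(j + 1, b)]
        (fun p hp => by simp only [List.mem_singleton] at hp; subst hp; exact hb) (j + 1) (by simp)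
    have := hmul (hmul (hpow (N - j)) (htop ((lm ^ i) ^ (j + 1) * (N.choose j : KP)))) (hof _ _ hg)
    rwa [show N - j + 0 + (j + 1) = N + 1 by omega] at this
  have hS : ∀ z : KP, z - (PP.aug z : KP) ∈ S := fun z => by
    have h := Groth.L12.KRR.mem_closure_twists hKP hq z
    induction h using AddSubgroup.closure_induction with
    | mem w hw =>
      obtain ⟨y, i, rfl⟩ := hw
      rw [map_mul, map_pow, hline.2, one_pow, mul_one, Groth.L12.KRR.aug_pull hKP hKY hq,
        show q y * lm ^ i - (PY.aug y : KP) = lm ^ i * q (y - (PY.aug y : KY)) + PY.aug y • (lm ^ i - 1) by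
          rw [← hQ (y - _), map_sub, map_intCast, hQ, zsmul_eq_mul]; ring]
      exact add_mem (hmulline i _ (by simp)) (zsmul_mem (hpowline i) _)
    | zero => simp only [map_zero, Int.cast_zero, sub_zero]; exact zero_mem _
    | add a b _ _ ha hb =>
      rw [map_add, Int.cast_add, add_sub_add_comm]
      exact add_mem ha hb
    | neg a _ ha =>
      rw [map_neg, Int.cast_neg, neg_sub_neg, ← neg_sub]
      exact neg_mem ha
  rw [gammaFiltration, if_neg (by omega), AddSubgroup.closure_le]
  rintro y ⟨l, hl, hw, rfl⟩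
  refine hanti hw ?_
  clear hw
  induction l with
  | nil => simpa using hone
  | cons p l ih =>
    simp only [List.map_cons, List.sum_cons, List.prod_cons]
    refine hmul ?_ (ih fun p' hp' => hl p' (List.mem_cons_of_mem _ hp'))
    have := hS p.2
    rw [hl p List.mem_cons_self, Int.cast_zero, sub_zero] at this
    exact this p.1

/-- For the trivial bundle of rank n+1: let Y be a connected Noetherian scheme and p : P^n_Y ⟶ Y. With
models and p_K the push-forward: p_K(F^k K(P^n_Y)) ⊆ F^{k-n} K(Y) for all k (γ-filtrations; F^m = K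
for m ≤ 0). No tensoring with ℚ is needed here. -/
theorem result (n : ℕ) (Y : Scheme.{u}) [IsNoetherian Y] [ConnectedSpace ↥Y]
    (KP : Type v) [CommRing KP] [LambdaRing.LambdaOps KP] (PP : LambdaRing.PosStructure KP) (φP : SGA6.Kvb (KRR.PY n Y) →+ KP) (hKP : KRR.IsModel (KRR.PY n Y) KP PP φP)
    (KY : Type v) [CommRing KY] [LambdaRing.LambdaOps KY] (PY : LambdaRing.PosStructure KY) (φY : SGA6.Kvb Y →+ KY) (hKY : KRR.IsModel Y KY PY φY)
    (g : KP →+ KY) (hg : KRR.IsPushPr n Y φP φY g) (k : ℕ) (x : KP) (hx : x ∈ LambdaRing.gammaFiltration PP k) :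
    g x ∈ LambdaRing.gammaFiltration PY (k - n) := by
  obtain ⟨q, hq⟩ := Groth.L12.KRR.exists_isPull (φX := φP) (KRR.pr n Y) hKY.bijective
  set lm := φP (KRR.cl _ (Twist.twistOver n Y (-1)))
  have hz : (1 - lm) ^ (n + 1) = 0 := by
    have h1 : lm * φP (KRR.cl _ (Twist.twistOver n Y 1)) = 1 := by
      rw [Groth.L12.KRR.cl_O_add hKP, show (-1 : ℤ) + 1 = 0 by norm_num, Groth.L12.KRR.cl_O_zero hKP]
    rw [show 1 - lm = lm * (φP (KRR.cl _ (Twist.twistOver n Y 1)) - 1) by rw [mul_sub, h1, mul_one],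
      mul_pow, sub_one_pow_eq_zero n Y KP PP φP hKP, mul_zero]
  have hJ := gammaFiltration_le_closure n Y KP PP φP hKP KY PY φY hKY q hq k hx
  suffices hs : ∀ (j : ℕ) (a : KY), a ∈ LambdaRing.gammaFiltration PY (k - j) →
      g (q a * (1 - lm) ^ j) ∈ LambdaRing.gammaFiltration PY (k - n) by
    clear hx
    induction hJ using AddSubgroup.closure_induction with
    | mem w hw =>
      obtain ⟨j, a, ha, rfl⟩ := hw
      exact hs j a ha
    | zero => rw [map_zero]; exact zero_mem _
    | add y z _ _ hy hz => rw [map_add]; exact add_mem hy hz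
    | neg y _ hy => rw [map_neg]; exact neg_mem hy
  intro j a ha
  rcases Nat.lt_or_ge n j with hj | hj
  · rw [show (1 - lm) ^ j = 0 by
      rw [show j = n + 1 + (j - (n + 1)) by omega, pow_add, hz, zero_mul], mul_zero, map_zero]
    exact zero_mem _
  · rw [mul_comm, Groth.Agent.S3762.result n Y KP PP φP hKP KY PY φY hKY g hg q hq]
    exact Groth.L08.Lambda.smul_mem_gammaFiltration PY _ _
      (Groth.L08.Lambda.gammaFiltration_antitone PY (by omega) ha)

end Groth.Agent.S3776
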