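import Groth.Statements.S7679
import Groth.Agent.L22.EnrSev.Basic

set_option autoImplicit false
universe u
open CategoryTheory CategoryTheory.Limits AlgebraicGeometry
open Variety

namespace Groth.Agent.S7679

/-- Let X be proper over a field k, L an ample invertible module and F a coherent module such that
Ass(F) contains no closed point. Then Γ(X, F ⊗ L^{⊗n}) = 0 for n ≪ 0; here negative powers of L are
written as positive powers of an inverse M of L. -/
theorem result (k : Type u) [Field k] (X : Scheme.{u}) [X.Over (Spec (CommRingCat.of k))] [IsProper (X ↘ (Spec (CommRingCat.of k)))]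
    (L : X.Modules) (hL : CohB1.IsAmple L) (M : X.Modules) (hM : ClSub.IsInverseOf L M)
    (F : X.Modules) (hF : Coh.IsCoh F) (hass : ∀ x : X, IsClosed ({x} : Set X) → ¬ Curv2.IsAssPoint F x) :
    ∃ n₀ : ℕ, ∀ n : ℕ, n₀ ≤ n →
      Subsingleton (Coh.HH X (CohB1.tensorMod F (CohB1.tensorPow M n)) 0) := by
  haveI := Groth.L21.RR.isNoetherian_of_proper (X := X) k
  haveI : Coh.IsQCoh F := hF.1
  obtain ⟨i⟩ := hM
  have hMi : PicF.IsInvertible M := Groth.L22.EnrSev.isInvertible_of_inverse hL.1 i
  obtain ⟨n, s, hs, -, haff⟩ := Groth.L18.Ample.exists_pow_genLocus_of_isAmple hL _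
    (Groth.L22.EnrSev.finite_setOf_isAssPoint hF.2) ⊤ (fun _ _ => trivial)
  obtain ⟨n₀, hn₀⟩ := Groth.L22.EnrSev.exists_bound
    (fun r j => Subsingleton (Coh.HH X (CohB1.tensorMod F (CohB1.tensorPow M (r + (n + 1) * j))) 0))
    (Nat.succ_pos n) (fun r _ => by
      have hMr := Groth.L18.Ample.isInvertible_tensorPow hMi r
      have hass' := fun x : X => Groth.L22.EnrSev.isAssPoint_tensor_iff hMr F x
      obtain ⟨j₀, hj₀⟩ := Groth.L22.EnrSev.subsingleton_H0_tw k (Groth.L22.EnrSev.powInv i (n + 1))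
        (Groth.L18.Ample.isInvertible_tensorPow hL.1 _) (Groth.L18.Ample.isInvertible_tensorPow hMi _)
        (Groth.L03.Euler.isCoh_tensor hMr hF) (fun x hx h => hass x hx ((hass' x).1 h)) s haff
        (fun x hx => hs ((hass' x).1 hx))
      exact ⟨j₀, fun j hj => Groth.L22.EnrSev.subsingleton_of_iso
        (Groth.L22.EnrSev.twPowIso F M r (n + 1) j) 0 (hj₀ j hj)⟩)
  refine ⟨n₀, fun m hm => ?_⟩
  have h := hn₀ m hm
  rwa [Nat.mod_add_div] at h

end Groth.Agent.S7679
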