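import Groth.Statements.S7680
import Groth.Agent.L22.EnrSev.Gen
import Groth.Agent.S7679

set_option autoImplicit false
universe u
open CategoryTheory CategoryTheory.Limits AlgebraicGeometry
open Variety

namespace Groth.Agent.S7680

/-- Let X be proper over a field k, L an ample invertible module and F a coherent module with depth(F_x)
≥ 2 for every closed point x. Then H^1(X, F ⊗ L^{⊗m}) = 0 for m ≪ 0; negative powers of L are
written as powers of an inverse M of L. -/
theorem result (k : Type u) [Field k] (X : Scheme.{u}) [X.Over (Spec (CommRingCat.of k))] [IsProper (X ↘ (Spec (CommRingCat.of k)))]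
    (L : X.Modules) (hL : CohB1.IsAmple L) (M : X.Modules) (hM : ClSub.IsInverseOf L M)
    (F : X.Modules) (hF : Coh.IsCoh F)
    (hdepth : ∀ x : X, IsClosed ({x} : Set X) → 2 ≤ LocCoh.depth (X.presheaf.stalk x) (F.presheaf.stalk x)) :
    ∃ m₀ : ℕ, ∀ m : ℕ, m₀ ≤ m →
      Subsingleton (Coh.HH X (CohB1.tensorMod F (CohB1.tensorPow M m)) 1) := by
  haveI := Groth.L21.RR.isNoetherian_of_proper (X := X) k
  haveI : Coh.IsQCoh F := hF.1
  obtain ⟨i⟩ := hM
  have hMi : PicF.IsInvertible M := Groth.L22.EnrSev.isInvertible_of_inverse hL.1 i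
  have hass : ∀ x : X, IsClosed ({x} : Set X) → ¬ Curv2.IsAssPoint F x := fun x hx h => by
    haveI : Module.Finite (X.presheaf.stalk x) (F.presheaf.stalk x) :=
      Groth.L19.SupportPullback.finite_stalk F hF x
    obtain ⟨-, f, hf⟩ := (isAssociatedPrime_iff_exists_injective_linearMap _ _).1 h
    have h1 : f (Submodule.Quotient.mk 1) ≠ 0 := fun h0 => by
      have := hf (h0.trans (map_zero f).symm)
      rw [Submodule.Quotient.mk_eq_zero] at this
      exact (IsLocalRing.maximalIdeal.isMaximal _).ne_top ((Ideal.eq_top_iff_one _).2 this)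
    have h0 := Groth.L01.depth_eq_zero_of_smul_eq_zero h1 fun y hy => by
      rw [← map_smul, ← Submodule.Quotient.mk_smul, smul_eq_mul, mul_one,
        (Submodule.Quotient.mk_eq_zero _).2 hy, map_zero]
    have := hdepth x hx
    rw [h0] at this
    exact absurd this (by norm_num)
  obtain ⟨N, Q, eQ, φ, ψ, hgen⟩ := Groth.L22.EnrSev.exists_general_pair k hL
    (Groth.L22.EnrSev.finite_setOf_isAssPoint hF.2) (fun ξ hξ hc => hass ξ hc hξ)
  have hMN := Groth.L18.Ample.isInvertible_tensorPow hMi (N + 1)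
  have hQ : PicF.IsInvertible Q :=
    Groth.L18.Ample.isInvertible_of_iso eQ.symm (Groth.L18.Ample.isInvertible_tensorPow hL.1 _)
  let e : CohB1.tensorMod (CohB1.tensorPow M (N + 1)) Q ≅ Coh.structureModule X :=
    Groth.L00.Tensor.tensorIso (Iso.refl _) eQ ≪≫ Groth.L22.EnrSev.powInv i (N + 1)
  have hH0 : ∀ C : X.Modules, Coh.IsCoh C → (∀ x : X, IsClosed ({x} : Set X) → ¬ Curv2.IsAssPoint C x) →
      ∃ j₀ : ℕ, ∀ j, j₀ ≤ j →
        Subsingleton (Coh.HH X (Groth.L18.Ample.tw C (CohB1.tensorPow M (N + 1)) j) 0) := fun C hC hCass => by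
    obtain ⟨n₀, hn₀⟩ := Groth.Agent.S7679.result k X L hL M ⟨i⟩ C hC hCass
    refine ⟨n₀, fun j hj => Groth.L22.EnrSev.subsingleton_of_iso
      ((Groth.L22.EnrSev.twPowIso C M 0 (N + 1) j).symm ≪≫
        Groth.L22.EnrSev.twCongr (Groth.L00.Tensor.tensorUnitRight C) _ j) 0 (hn₀ _ ?_)⟩
    rw [zero_add]
    exact hj.trans (Nat.le_mul_of_pos_left j N.succ_pos)
  obtain ⟨n₀, hn₀⟩ := Groth.L22.EnrSev.exists_bound
    (fun r j => Subsingleton (Coh.HH X (CohB1.tensorMod F (CohB1.tensorPow M (r + (N + 1) * j))) 1))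
    (Nat.succ_pos N) (fun r _ => by
      have hMr := Groth.L18.Ample.isInvertible_tensorPow hMi r
      have hass' := fun x : X => Groth.L22.EnrSev.isAssPoint_tensor_iff hMr F x
      have hdepth' : ∀ x : X, IsClosed ({x} : Set X) → 2 ≤ LocCoh.depth (X.presheaf.stalk x)
          ((CohB1.tensorMod F (CohB1.tensorPow M r)).presheaf.stalk x) := fun x hx => by
        obtain ⟨θ⟩ := Groth.L03.Euler.nonempty_stalk_tensor hMr F x
        exact (hdepth x hx).trans_eq (Groth.L04.idealDepth_congr θ)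
      obtain ⟨j₀, hj₀⟩ := Groth.L22.EnrSev.subsingleton_H1_tw e k _ φ ψ hQ hMN
        (Groth.L03.Euler.isCoh_tensor hMr hF) hdepth' hH0 (fun ξ hξ => hgen ξ ((hass' ξ).1 hξ))
      exact ⟨j₀, fun j hj => Groth.L22.EnrSev.subsingleton_of_iso
        (Groth.L22.EnrSev.twPowIso F M r (N + 1) j) 1 (hj₀ j hj)⟩)
  refine ⟨n₀, fun m hm => ?_⟩
  have h := hn₀ m hm
  rwa [Nat.mod_add_div] at h

end Groth.Agent.S7680
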