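import Groth.Statements.S0291
import Groth.Agent.L13.HartogsFF.Scheme
import Groth.Agent.L20.FlatHartogs

set_option autoImplicit false
universe u
open Pi1

namespace Groth.Agent.S0291

open AlgebraicGeometry CategoryTheory CategoryTheory.Limits in
/-- Let A be a Noetherian local ring and B a finite A-algebra such that the local rings of Spec B at all
closed points have depth at least 2. Then restriction from global sections of Spec B to sections
over the preimage of the punctured spectrum of A is an isomorphism. -/
theorem result (A B : Type u) [CommRing A] [IsNoetherianRing A] [IsLocalRing A] [CommRing B] [Algebra A B]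
    [Module.Finite A B]
    (h : ∀ (m : Ideal B) (_ : m.IsMaximal), (2 : ℕ∞) ≤ LocCoh.depth (Localization.AtPrime m) (Localization.AtPrime m)) :
    IsIso ((Spec (CommRingCat.of B)).presheaf.map (homOfLE (le_top :
      Spec.map (CommRingCat.ofHom (algebraMap A B)) ⁻¹ᵁ FEt.puncturedSpec A ≤ ⊤)).op) := by
  haveI : IsNoetherianRing B := IsNoetherianRing.of_finite A B
  haveI : IsNoetherian (Spec (CommRingCat.of B)) := inferInstance
  let π := Spec.map (CommRingCat.ofHom (algebraMap A B))
  let U := π ⁻¹ᵁ FEt.puncturedSpec A
  have hdepth : ∀ x : Spec (CommRingCat.of B), x ∉ U →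
      (2 : ℕ∞) ≤ LocCoh.depth ((Spec (CommRingCat.of B)).presheaf.stalk x)
        ((Spec (CommRingCat.of B)).presheaf.stalk x) := by
    intro x hx
    have hpx : π x = IsLocalRing.closedPoint A := by
      by_contra hne
      exact hx hne
    have hc : Ideal.comap (algebraMap A B) x.asIdeal = IsLocalRing.maximalIdeal A :=
      congrArg PrimeSpectrum.asIdeal hpx
    let P : PrimeSpectrum B := x
    haveI := P.2
    have hm : x.asIdeal.IsMaximal := Ideal.isMaximal_of_isIntegral_of_isMaximal_comap P.asIdeal
      (hc ▸ IsLocalRing.maximalIdeal.isMaximal A)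
    letI : Algebra B ((Spec (CommRingCat.of B)).presheaf.stalk x) :=
      StructureSheaf.stalkAlgebra B P
    haveI : IsLocalization.AtPrime ((Spec (CommRingCat.of B)).presheaf.stalk x) P.asIdeal :=
      StructureSheaf.IsLocalization.to_stalk B P
    exact (h P.asIdeal hm).trans_eq (Groth.L06.FlatFibre.depth_eq_of_ringEquiv
      (IsLocalization.algEquiv P.asIdeal.primeCompl (Localization.AtPrime P.asIdeal)
        ((Spec (CommRingCat.of B)).presheaf.stalk x)).toRingEquiv).symm
  have key := Groth.L13.HartogsFF.res_bijective (𝟙 (Spec (CommRingCat.of B))) U hdepth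
    (isAffineOpen_top (Spec (CommRingCat.of B)))
  rw [ConcreteCategory.isIso_iff_bijective]
  have hle : U ≤ ⊤ ⊓ U := le_inf le_top le_rfl
  have hiso : Function.Bijective ((Spec (CommRingCat.of B)).presheaf.map
      (homOfLE (show U ≤ (𝟙 (Spec (CommRingCat.of B))) ⁻¹ᵁ (⊤ ⊓ U) from hle)).op) := by
    haveI : IsIso (homOfLE (show U ≤ (𝟙 (Spec (CommRingCat.of B))) ⁻¹ᵁ (⊤ ⊓ U) from hle)) :=
      ⟨homOfLE (inf_le_right : (⊤ : (Spec (CommRingCat.of B)).Opens) ⊓ U ≤ U), Subsingleton.elim _ _, Subsingleton.elim _ _⟩
    exact ConcreteCategory.bijective_of_isIso _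
  have hc := hiso.comp key
  exact (show Function.Bijective _ from by
    convert! hc using 1)

end Groth.Agent.S0291
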