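import Groth.Statements.S11133
import Groth.Agent.L17.FlatBase.DegZero

set_option autoImplicit false
universe u
open CategoryTheory AlgebraicGeometry
open Coherent

namespace Groth.Agent.S11133

/-- Let f : X → Y be quasi-compact and quasi-separated, g : Y' → Y flat, and X' the fibre product with
projections g' : X' → X, f' : X' → Y'. For a quasi-coherent O_X-module M the base change morphism
g^* f_* M → f'_* g'^* M, namely the composite g^* f_* M → g^* f_* g'_* g'^* M = g^* g_* f'_* g'^* M
→ f'_* g'^* M of the unit of g', the identification of the two composite direct images, and the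
counit of g, is an isomorphism. -/
theorem result {X Y X' Y' : Scheme.{u}} (f : X ⟶ Y) (g : Y' ⟶ Y)
    (g' : X' ⟶ X) (f' : X' ⟶ Y') (h : IsPullback g' f' f g) [QuasiCompact f] [QuasiSeparated f] [Flat g]
    (M : X.Modules) [Coh.IsQCoh M] :
    IsIso ((Scheme.Modules.pullback g).map ((Scheme.Modules.pushforward f).map
        ((Scheme.Modules.pullbackPushforwardAdjunction g').unit.app M)) ≫
      (Scheme.Modules.pullback g).map ((Scheme.Modules.pushforwardComp g' f ≪≫
          Scheme.Modules.pushforwardCongr h.w ≪≫ (Scheme.Modules.pushforwardComp f' g).symm).hom.app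
        ((Scheme.Modules.pullback g').obj M)) ≫
      (Scheme.Modules.pullbackPushforwardAdjunction g).counit.app
        ((Scheme.Modules.pushforward f').obj ((Scheme.Modules.pullback g').obj M))) := by
  have key := Groth.L17.DegZero.isIso_of_flat f g g' f' M h
  rw [Adjunction.homEquiv_counit, Functor.map_comp, Category.assoc] at key
  exact key

end Groth.Agent.S11133
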