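import Groth.Statements.S0813
import Groth.Agent.S0291
import Groth.Agent.S11951
import Groth.Agent.L07.ParaF.Ascend
import Groth.Agent.L07.ParaF.StalkOfPair
import Groth.Agent.L06.FlatFibre

set_option autoImplicit false
set_option linter.style.haveILetI false
set_option backward.isDefEq.respectTransparency.types false
set_option maxHeartbeats 2000000
universe u
open CategoryTheory CategoryTheory.Limits AlgebraicGeometry Formal2

namespace Groth.Agent.S0813

/-- Let (A, 𝔪) be a Noetherian local ring of depth at least 2, A^ its 𝔪-adic completion, U the punctured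
spectrum of A and U^ its preimage in Spec A^ (the punctured spectrum of A^). Then an invertible
O_U-module whose pullback to U^ is trivial is trivial. -/
theorem result (A : Type u) [CommRing A] [IsNoetherianRing A]
    [IsLocalRing A] (hdepth : (2 : ℕ∞) ≤ LocCoh.depth A A) :
    Formal2.PicPullbackInjective
      (Spec.map (CommRingCat.ofHom (algebraMap A (AdicCompletion (IsLocalRing.maximalIdeal A) A))) ∣_
        FEt.puncturedSpec A) := by
  let R := CommRingCat.of A
  let U := FEt.puncturedSpec A
  let g : Spec (CommRingCat.of (AdicCompletion (IsLocalRing.maximalIdeal A) A)) ⟶ Spec R :=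
    Spec.map (CommRingCat.ofHom (algebraMap A (AdicCompletion (IsLocalRing.maximalIdeal A) A)))
  haveI hFl : Flat g := (HasRingHomProperty.Spec_iff (P := @Flat)).mpr
    (RingHom.flat_algebraMap_iff.2 (AdicCompletion.flat_of_isNoetherian _))
  haveI : Module.Flat A (AdicCompletion (IsLocalRing.maximalIdeal A) A) := AdicCompletion.flat_of_isNoetherian _
  haveI hFF : Module.FaithfullyFlat A (AdicCompletion (IsLocalRing.maximalIdeal A) A) := Module.FaithfullyFlat.of_flat_of_isLocalHom
  haveI : Surjective g := ⟨PrimeSpectrum.comap_surjective_of_faithfullyFlat⟩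
  have hb : Groth.L14.ParaF.Bij (Coh.structureModule (Spec R)) ⊤ U := by
    refine ⟨le_top, ?_⟩
    haveI := S0291.result A A (fun m hm => ?_)
    · have he : Spec.map (CommRingCat.ofHom (algebraMap A A)) ⁻¹ᵁ U = U := by
        rw [Algebra.algebraMap_self]
        erw [Spec.map_id]
        rfl
      have h2 := ConcreteCategory.bijective_of_isIso ((Spec R).presheaf.map (homOfLE (le_top :
        Spec.map (CommRingCat.ofHom (algebraMap A A)) ⁻¹ᵁ U ≤ ⊤)).op)
      exact (Groth.L14.ParaF.Bij.congr (M := Coh.structureModule (Spec R)) ⟨le_top, h2⟩ rfl he).2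
    · obtain rfl := IsLocalRing.eq_maximalIdeal hm
      have e : A ≃+* Localization.AtPrime (IsLocalRing.maximalIdeal A) :=
        (IsLocalization.atUnits A (IsLocalRing.maximalIdeal A).primeCompl
          (fun a ha => IsLocalRing.notMem_maximalIdeal.1 ha)).toRingEquiv
      exact hdepth.trans (Groth.L06.FlatFibre.depth_eq_of_ringEquiv e).ge
  have hU : Groth.L21.Extend.SupportedOn (Coh.structureModule (Spec R)) U := by
    refine (Groth.L14.ParaF.supportedOn_iff _ _).mpr fun V => ?_
    by_cases hV : V = ⊤
    · subst hV; exact hb.congr rfl (top_inf_eq U).symm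
    · exact (Groth.L14.ParaF.bij_self _ V).congr rfl (inf_eq_left.mpr (Groth.L14.ParaF.le_punctured V hV)).symm
  have happ := (Groth.L07.ParaF.supportedOn_iff_isIso_app U).1 hU
  haveI : IsLocallyNoetherian (Spec R) := inferInstance
  haveI : QuasiCompact U.ι := inferInstance
  have hg : Formal2.PicPullbackInjective g := fun L hL _ => Groth.L07.ParaF.trivial_of_local L hL
  have key := S11951.result U.ι (fun V => (ConcreteCategory.isIso_iff_bijective _).1 (happ V)) g hg
  intro L hL ht
  obtain ⟨t⟩ := ht
  let e := (isPullback_morphismRestrict g U).isoPullback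
  have he : e.inv ≫ (g ∣_ U) = pullback.fst U.ι g := (isPullback_morphismRestrict g U).isoPullback_inv_fst
  refine key L hL ⟨(Scheme.Modules.pullbackCongr he.symm).app L ≪≫
    ((Scheme.Modules.pullbackComp e.inv (g ∣_ U)).symm).app L ≪≫
    (Scheme.Modules.pullback e.inv).mapIso t ≪≫ Groth.L29.LocFree.pullbackUnitIso e.inv⟩

end Groth.Agent.S0813
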