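import Groth.Statements.S2944
import Groth.Agent.L18.LefExtend
import Groth.Agent.L18.LefTwists
import Groth.Agent.L06.AmpleDisjoint
import Groth.Agent.L07.BoxSurj.Basic
import Groth.Agent.L19.AmpleAffineLocus
import Groth.Agent.L19.FPExtend.Main
import Groth.Agent.L22.EnrSev.H0

set_option autoImplicit false
set_option linter.style.haveILetI false
set_option backward.isDefEq.respectTransparency.types false
set_option backward.isDefEq.respectTransparency false
universe u
open CategoryTheory CategoryTheory.Limits AlgebraicGeometry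
open Lef

namespace Groth.Agent.S2944

open Groth.L00.Tensor (tensorMap tensorComm tensorUnitLeft)

/-- The points whose closure avoids an ample divisor are closed. -/
theorem isClosed_of_notMem {k : Type u} [Field k] {X : Scheme.{u}} [X.Over (Spec (CommRingCat.of k))]
    [IsProper (X ↘ (Spec (CommRingCat.of k)))] (𝓘 : X.IdealSheafData) (L : X.Modules)
    (hL : ClSub.IsInverseOf L (ClSub.idealMod 𝓘)) (hamp : CohB1.IsAmple L)
    (U : X.Opens) (hU : (𝓘.support : Set X) ⊆ (U : Set X)) (x : X) (hx : x ∉ U) : IsClosed ({x} : Set X) := by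
  obtain ⟨i⟩ := hL
  let V : X.Opens := ⟨(𝓘.support : Set X)ᶜ, 𝓘.support.isClosed.isOpen_compl⟩
  let R := Scheme.Modules.restrictFunctor V.ι
  have h0 : R.map (ClSub.toSubscheme 𝓘) = 0 := by
    refine Scheme.Modules.hom_ext _ _ fun W => ?_
    ext m
    have e0 : 𝓘.subschemeι ⁻¹ᵁ (V.ι ''ᵁ W) = ⊥ := by
      refine TopologicalSpace.Opens.ext (Set.eq_empty_of_forall_notMem fun z hz => ?_)
      refine (V.opensRange_ι.le (Scheme.Hom.image_le_opensRange V.ι W hz) : 𝓘.subschemeι z ∈ V) ?_
      rw [← Scheme.IdealSheafData.range_subschemeι]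
      exact ⟨z, rfl⟩
    have : Subsingleton Γ(𝓘.subscheme, 𝓘.subschemeι ⁻¹ᵁ (V.ι ''ᵁ W)) := by
      rw [e0]; exact CommRingCat.subsingleton_of_isTerminal 𝓘.subscheme.sheaf.isTerminalOfEmpty
    exact @Subsingleton.elim _ this _ _
  haveI : IsIso (R.map (ClSub.idealModι 𝓘)) := by
    haveI : IsIso (kernel.ι (R.map (ClSub.toSubscheme 𝓘))) := by
      have : kernel.ι (R.map (ClSub.toSubscheme 𝓘)) = (kernelIsoOfEq h0 ≪≫ kernelZeroIsoSource).hom := by
        simp
      rw [this]
      infer_instance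
    rw [show R.map (ClSub.idealModι 𝓘) = (PreservesKernel.iso R (ClSub.toSubscheme 𝓘)).hom ≫
      kernel.ι (R.map (ClSub.toSubscheme 𝓘)) from (kernelComparison_comp_ι _ _).symm]
    infer_instance
  haveI := Groth.L07.BoxSurj.isIso_restrict_tensorMap (ClSub.idealModι 𝓘) L V
  let s : Coh.structureModule X ⟶ L := i.inv ≫ (tensorComm L (ClSub.idealMod 𝓘)).hom ≫
    tensorMap (ClSub.idealModι 𝓘) (𝟙 L) ≫ (tensorUnitLeft L).hom
  have hle : V ≤ CohB1.genLocus L s := by
    refine le_sSup ?_
    show IsIso (R.map s)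
    rw [show R.map s = R.map i.inv ≫ R.map (tensorComm L (ClSub.idealMod 𝓘)).hom ≫
      R.map (tensorMap (ClSub.idealModι 𝓘) (𝟙 L)) ≫ R.map (tensorUnitLeft L).hom by simp only [s, Functor.map_comp]]
    infer_instance
  refine Groth.L22.EnrSev.isClosed_of_closure_subset_affine k
    (Groth.L19.AmpleAffine.isAffineOpen_genLocus (X ↘ Spec (CommRingCat.of k)) hamp s) fun z hz => hle fun hzY => ?_
  exact hx ((specializes_iff_mem_closure.2 hz).mem_open U.2 (hU hzY))

/-- Case 'resp.', over S = Spec k: Let k be a field, X a proper k-scheme and 𝓘 a quasi-coherent ideal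
sheaf whose ideal module is invertible with an ample inverse L (𝓘 defines an effective Cartier
divisor Y with O_X(Y) ample). If O_{X,x} has depth ≥ 2 at every closed point x, then Lef(X, Y)
holds: for every open U ⊇ Y and every finite locally free O_U-module D, the map Hom(D, O_U) → lim_n
Hom(D, O_U/𝓘^{n+1}) is bijective (equivalently Γ(U, E) ≅ Γ(X̂, Ê) for every finite locally free E on
U). -/
theorem result (k : Type u) [Field k] (X : Scheme.{u}) [X.Over (Spec (CommRingCat.of k))] [IsProper (X ↘ (Spec (CommRingCat.of k)))] (𝓘 : X.IdealSheafData) (L : X.Modules) (hL : ClSub.IsInverseOf L (ClSub.idealMod 𝓘)) (hamp : CohB1.IsAmple L) (hdepth : ∀ x : X, IsClosed ({x} : Set X) → (2 : ℕ∞) ≤ LocCoh.depth (X.presheaf.stalk x) (X.presheaf.stalk x)) : Lef.LefCond X 𝓘 := by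
  intro U hU D hD
  haveI := Groth.L21.RR.isNoetherian_of_proper (X := X) k
  haveI : IsLocallyNoetherian (U : Scheme.{u}) := isLocallyNoetherian_of_isOpenImmersion U.ι
  haveI := Groth.L18.LefExtend.isIso_unitToPush_of_bijective U
    (Groth.L07.RefExtend.supportedOn_structureModule fun x hx => hdepth x (isClosed_of_notMem (k := k) 𝓘 L hL hamp U hU x hx))
  have hO : Coh.IsCoh (Coh.structureModule X) := Groth.L16.CohClosedPush.isCoh_structure
  haveI : Coh.IsQCoh (Coh.structureModule X) := hO.1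
  obtain ⟨G, -, e, hG, -⟩ := Groth.L19.FPExtend.exists_fp_extension (Coh.structureModule X) U
    (TopologicalSpace.NoetherianSpace.isCompact (U : Set X)) D
    (Groth.L15.Ref.isFP_of_isCoh (Groth.L16.NegPow.isCoh_of_isFinLocFree hD)) 0
  haveI := Groth.L05.Prufer.isQCoh_of_isFP hG
  have h := Groth.L18.LefExtend.homToFormalBijective_restrict 𝓘 U hU
    (Groth.L18.LefTwists.homToFormalBijective_of_ample k 𝓘 L hL hamp hdepth
      (G := G) ⟨inferInstance, Groth.L19.LimMod.isFT_of_isFP hG⟩)
  refine ⟨fun φ ψ hφψ => (cancel_epi e.hom).1 (h.1 _ _ fun n => by simp only [Category.assoc, hφψ n]), fun y hy => ?_⟩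
  obtain ⟨φ, hφ⟩ := h.2 (fun n => e.hom ≫ y n) fun n => by simp only [Category.assoc, hy n]
  exact ⟨e.inv ≫ φ, fun n => by rw [Category.assoc, hφ n, e.inv_hom_id_assoc]⟩

end Groth.Agent.S2944
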