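import Groth.Statements.S2949
import Groth.Agent.L18.LeffField
import Groth.Agent.L18.PicLefPara
import Groth.Agent.L18.PicLefFibre
-- import your own Groth.Agent.* helpers here

set_option autoImplicit false
set_option linter.style.haveILetI false
set_option backward.isDefEq.respectTransparency.types false
set_option backward.isDefEq.respectTransparency false
universe u
open CategoryTheory CategoryTheory.Limits AlgebraicGeometry
open Lef

namespace Groth.Agent.S2949

/-- Case 'resp.' with the parafactoriality hypothesis. Let k be a field, X a proper k-scheme, 𝓘 a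
quasi-coherent ideal sheaf whose ideal module 𝓘O_X is invertible with ample inverse L (so X₀ = V(𝓘)
is an effective Cartier divisor with O_X(X₀) = L ample and X is projective), and let ι : X₀ → X be
the closed immersion. Assume: every closed point of X has depth O_{X,x} ≥ 2; H^i(X, (𝓘O_X)^{⊗m} ⊗
O_X/𝓘) = 0 for all m ≥ 1 and i = 1, 2 (these are the groups H^i(X₀, O_{X₀}(−m))); and for every
closed point x ∉ X₀ every invertible module on the punctured spectrum of O_{X,x} is trivial (O_{X,x}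
parafactorial). Then pullback along ι induces a bijection on isomorphism classes of invertible
modules: invertible M, M' on X with ι^*M ≅ ι^*M' are isomorphic, and every invertible O_{X₀}-module
is isomorphic to ι^*M for some invertible M on X. -/
theorem result (k : Type u) [Field k] (X : Scheme.{u}) [X.Over (Spec (CommRingCat.of k))] [IsProper (X ↘ (Spec (CommRingCat.of k)))] (𝓘 : X.IdealSheafData) (L : X.Modules) (hL : ClSub.IsInverseOf L (ClSub.idealMod 𝓘)) (hamp : CohB1.IsAmple L) (hdepth : ∀ x : X, IsClosed ({x} : Set X) → (2 : ℕ∞) ≤ LocCoh.depth (X.presheaf.stalk x) (X.presheaf.stalk x)) (hH : ∀ m : ℕ, 1 ≤ m → ∀ i : ℕ, (i = 1 ∨ i = 2) → Subsingleton (Coh.HH X ((DCoh.tensorBi.obj (CohB1.tensorPow (ClSub.idealMod 𝓘) m)).obj (ClSub.quotMod 𝓘)) i)) (hpf : ∀ x : X, IsClosed ({x} : Set X) → x ∉ (𝓘.support : Set X) → ∀ N : (↑(FEt.puncturedSpec (X.presheaf.stalk x)) : Scheme.{u}).Modules, PicF.IsInvertible N → Nonempty (N ≅ Coh.structureModule _)) : (∀ M M' : X.Modules,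 PicF.IsInvertible M → PicF.IsInvertible M' → Nonempty ((Scheme.Modules.pullback 𝓘.subschemeι).obj M ≅ (Scheme.Modules.pullback 𝓘.subschemeι).obj M') → Nonempty (M ≅ M')) ∧ ∀ N : (𝓘.subscheme).Modules, PicF.IsInvertible N → ∃ M : X.Modules, PicF.IsInvertible M ∧ Nonempty ((Scheme.Modules.pullback 𝓘.subschemeι).obj M ≅ N) := by
  haveI := Groth.L21.RR.isNoetherian_of_proper (X := X) k
  obtain ⟨i⟩ := id hL
  have hI : PicF.IsInvertible (ClSub.idealMod 𝓘) := Groth.L22.EnrSev.isInvertible_of_inverse hamp.1 i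
  have hLeff : LefX.LeffCond X 𝓘 := Groth.L18.LeffField.leffCond k 𝓘 L hL hamp hdepth
    ⟨1, fun m hm => Groth.L22.EnrSev.subsingleton_of_iso (Groth.L00.Tensor.tensorComm _ _) 1 (hH m hm 1 (Or.inl rfl))⟩
  have h := Groth.L18.PicLefPara.bijective_thickening 𝓘 0 hLeff (fun n _ j hj => by
      obtain ⟨e⟩ := Groth.L18.PicLefFibre.nonempty_kernel_tensor 𝓘 hI n
      exact Groth.L22.EnrSev.subsingleton_of_iso e.symm j (hH (n + 1) (Nat.le_add_left 1 n) j hj))
    (fun U hU x hx => by
      have hc := Groth.Agent.S2944.isClosed_of_notMem (k := k) 𝓘 L hL hamp U hU x hx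
      exact (Groth.Agent.S2824.result _).2 ⟨Groth.L18.GrFreePic.bijective_restrict (hdepth x hc),
        hpf x hc fun h => hx (hU h)⟩) 0 le_rfl
  have h1 : 𝓘 ^ (0 + 1) = 𝓘 := by rw [zero_add, pow_one]
  rw [h1] at h
  refine ⟨fun M M' hM hM' ⟨e⟩ => ?_, h.2⟩
  obtain ⟨N, hN, ⟨eN⟩⟩ := Groth.L08.Cube.exists_inverse hM'
  let f := 𝓘.subschemeι
  obtain ⟨t⟩ := h.1 (CohB1.tensorMod M N) (Groth.L18.GenLoc.isInvertible_tensor hM hN)
    ⟨(Groth.L29.DC.PullTensor.pullTensor f M N).symm ≪≫ Groth.L00.Tensor.tensorIso e (Iso.refl _) ≪≫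
      Groth.L29.DC.PullTensor.pullTensor f M' N ≪≫ (Scheme.Modules.pullback f).mapIso eN ≪≫
      Groth.L29.LocFree.pullbackUnitIso f⟩
  exact ⟨(Groth.L00.Tensor.tensorUnitRight M).symm ≪≫
    Groth.L00.Tensor.tensorIso (Iso.refl M) ((Groth.L00.Tensor.tensorComm N M' ≪≫ eN).symm) ≪≫
    (Groth.L00.Tensor.tensorAssoc M N M').symm ≪≫ Groth.L00.Tensor.tensorIso t (Iso.refl M') ≪≫
    Groth.L00.Tensor.tensorUnitLeft M'⟩

end Groth.Agent.S2949
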