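import Groth.Statements.S11381
import Groth.Agent.L13.LeffCI.Main
import Groth.Agent.L22.Reg.PnGen
-- import your own Groth.Agent.* helpers here

set_option autoImplicit false
set_option backward.isDefEq.respectTransparency false
set_option linter.style.haveILetI false
set_option backward.isDefEq.respectTransparency.types false
universe u
open CategoryTheory CategoryTheory.Limits AlgebraicGeometry TopologicalSpace
open LefX

namespace Groth.Agent.S11381

/-- Let k be an algebraically closed field, ι : X ⟶ P^N_k a closed immersion with X integral, all local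
rings of X regular and dim X = n, and let G_1, …, G_r be homogeneous forms of positive degrees whose
common zero scheme meets X in a closed subscheme Y = X ∩ V(G_1, …, G_r) of dimension n - r (a
complete intersection in X of codimension r), with n - r ≥ 2. Then the effective Lefschetz condition
Leff(X, Y) holds: Lef(X, Y), and every levelwise finite locally free module on the completion of X
along Y is the completion of a finite locally free module on an open neighbourhood of Y. -/
theorem result
    (k : Type u) [Field k] [IsAlgClosed k] (N : ℕ) (X : Scheme.{u})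
    (ι : X ⟶ CohB1.ProjSpace N k) [IsClosedImmersion ι] [IsIntegral X]
    (hreg : ∀ x : X, IsRegularLocalRing (X.presheaf.stalk x))
    (n r : ℕ) (hdim : topologicalKrullDim X = n) (hr : r + 2 ≤ n)
    (a : Fin r → ℕ) (ha : ∀ j, 1 ≤ a j) (G : ∀ j : Fin r, LefPen.Form N k (a j))
    (hY : topologicalKrullDim ((((LefPen.ciIdeal G).comap ι).support : Set X)) = ((n - r : ℕ) : WithBot ℕ∞)) :
    LefX.LeffCond X ((LefPen.ciIdeal G).comap ι) := by
  letI : X.Over (Spec (CommRingCat.of k)) := ⟨ι ≫ CohB1.ProjSpace.toSpec N k⟩
  haveI : IsProper (CohB1.ProjSpace.toSpec N k) := Groth.L16.ProjSpace.isProper_toSpec N k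
  haveI : IsProper (X ↘ Spec (CommRingCat.of k)) := inferInstanceAs (IsProper (ι ≫ CohB1.ProjSpace.toSpec N k))
  have hA : CohB1.IsAmple (Groth.L22.Reg.O' N k ((1 : ℕ) : ℤ)) :=
    Groth.L16.ProjTwist.isAmple_twist (CohB1.polyGrading N k) one_pos
      (fun i : Fin (N + 1) => (⟨MvPolynomial.X i, Groth.L16.ProjSpace.X_mem N k i⟩ : CohB1.polyGrading N k 1))
      (Groth.L16.ProjSpace.iSup_basicOpen_X_eq_top N k)
  exact Groth.L13.LeffCI.leffCond (k := k) (ι := ι)
    (Groth.L18.Ample.isAmple_pullback_of_isAffineHom ι hA) hreg hdim hr ha G hY

end Groth.Agent.S11381
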