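import Groth.Statements.S2948
import Groth.Agent.L18.PicLefInj
-- import your own Groth.Agent.* helpers here

set_option autoImplicit false
set_option linter.style.haveILetI false
set_option backward.isDefEq.respectTransparency.types false
set_option backward.isDefEq.respectTransparency false
universe u
open CategoryTheory CategoryTheory.Limits AlgebraicGeometry
open Lef

namespace Groth.Agent.S2948

open Groth.L00.Tensor (tensorIso tensorComm tensorAssoc tensorUnitLeft tensorUnitRight) in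
/-- The graded pieces have the same first cohomology on an open containing the support. -/
theorem subsingleton_restrict {X : Scheme.{u}} [IsLocallyNoetherian X] (𝓘 : X.IdealSheafData) (U : X.Opens)
    (hU : (𝓘.support : Set X) ⊆ (U : Set X)) (m : ℕ)
    (h : Subsingleton (Coh.HH X (kernel (Lef.quotMap (Lef.pow_succ_le 𝓘 m))) 1)) :
    Subsingleton (Coh.HH (U : Scheme.{u}) (kernel (Lef.quotMap (Lef.pow_succ_le (𝓘.comap U.ι) m))) 1) := by
  haveI : IsLocallyNoetherian (U : Scheme.{u}) := isLocallyNoetherian_of_isOpenImmersion U.ι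
  let 𝓙 := 𝓘.comap U.ι
  let P := Scheme.Modules.pushforward U.ι
  choose ω hω using Groth.L18.LefExtend.exists_omega 𝓘 U hU
  have hq : (ω (m + 1)).hom ≫ P.map (Lef.quotMap (Lef.pow_succ_le 𝓙 m)) =
      Lef.quotMap (Lef.pow_succ_le 𝓘 m) ≫ (ω m).hom := by
    haveI := Groth.L18.AffineCrit.epi_toSubscheme (𝓘 ^ (m + 1 + 1))
    rw [← cancel_epi (ClSub.toSubscheme (𝓘 ^ (m + 1 + 1))), ← Category.assoc, hω, Category.assoc, ← Functor.map_comp,
      Groth.L18.LefConnected.toSubscheme_quotMap, ← Category.assoc,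
      Groth.L18.LefConnected.toSubscheme_quotMap, hω]
  haveI : P.IsRightAdjoint := (Scheme.Modules.pullbackPushforwardAdjunction U.ι).isRightAdjoint
  obtain ⟨A, ⟨α⟩⟩ := Groth.L18.PicLefInj.exists_push 𝓙 m
  let i := (𝓙 ^ (0 + 1)).subschemeι
  obtain ⟨τ, hτ⟩ := Groth.L18.LefExtend.exists_thickeningIso 𝓘 U hU 0
  haveI : IsClosedImmersion (i ≫ U.ι) := by
    rw [show i ≫ U.ι = τ.hom ≫ (𝓘 ^ (0 + 1)).subschemeι from hτ.symm]
    infer_instance
  let β : kernel (Lef.quotMap (Lef.pow_succ_le 𝓘 m)) ≅ (Scheme.Modules.pushforward (i ≫ U.ι)).obj A :=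
    kernel.mapIso _ _ (ω (m + 1)) (ω m) hq.symm ≪≫ (PreservesKernel.iso P _).symm ≪≫ P.mapIso α ≪≫
      (Scheme.Modules.pushforwardComp i U.ι).app A
  obtain ⟨e1⟩ := Groth.L17.nonempty_HH_push_of_isClosedImmersion (i ≫ U.ι) A 1
  obtain ⟨e2⟩ := Groth.L17.nonempty_HH_push_of_isClosedImmersion i A 1
  have h1 : Subsingleton (Coh.HH X ((Scheme.Modules.pushforward (i ≫ U.ι)).obj A) 1) :=
    Groth.L22.EnrSev.subsingleton_of_iso β 1 h
  exact Groth.L22.EnrSev.subsingleton_of_iso α.symm 1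
    (e2.toEquiv.subsingleton_congr.1 (e1.toEquiv.subsingleton_congr.2 h1))

/-- Let X be a locally Noetherian scheme, 𝓘 a quasi-coherent ideal sheaf with Y = V(𝓘), and p ≥ 0;
suppose Lef(X, Y) holds and H^1(X, 𝓘^{n+1}/𝓘^{n+2}) = 0 for every n ≥ p (these are the groups H^1(Y,
P_n) of the source, P_n being supported on Y). Then for every open U ⊇ Y and every n ≥ p, if two
invertible O_U-modules have isomorphic pullbacks to the closed subscheme Y_n ∩ U = V(𝓘^{n+1}) ∩ U,
they are isomorphic. -/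
theorem result (X : Scheme.{u}) [IsLocallyNoetherian X] (𝓘 : X.IdealSheafData) (h : Lef.LefCond X 𝓘) (p : ℕ) (hH1 : ∀ n : ℕ, p ≤ n → Subsingleton (Coh.HH X (kernel (Lef.quotMap (Lef.pow_succ_le 𝓘 n))) 1)) (U : X.Opens) (hU : (𝓘.support : Set X) ⊆ (U : Set X)) (n : ℕ) (hn : p ≤ n) (L L' : (U : Scheme.{u}).Modules) (hL : PicF.IsInvertible L) (hL' : PicF.IsInvertible L') (e : Nonempty ((Scheme.Modules.pullback (((𝓘.comap U.ι) ^ (n + 1)).subschemeι)).obj L ≅ (Scheme.Modules.pullback (((𝓘.comap U.ι) ^ (n + 1)).subschemeι)).obj L')) : Nonempty (L ≅ L') := by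
  obtain ⟨e⟩ := e
  haveI : IsLocallyNoetherian (U : Scheme.{u}) := isLocallyNoetherian_of_isOpenImmersion U.ι
  let 𝓙 := 𝓘.comap U.ι
  let ι : ∀ m, (𝓙 ^ (m + 1)).subscheme ⟶ (U : Scheme.{u}) := fun m => (𝓙 ^ (m + 1)).subschemeι
  obtain ⟨N, hN, ⟨eN⟩⟩ := Groth.L08.Cube.exists_inverse hL'
  let D := CohB1.tensorMod L N
  have hD : PicF.IsInvertible D := Groth.L18.GenLoc.isInvertible_tensor hL hN
  obtain ⟨D', -, ⟨eD⟩⟩ := Groth.L08.Cube.exists_inverse hD
  let a : ∀ m, ((Scheme.Modules.pullback (ι m)).obj L ≅ (Scheme.Modules.pullback (ι m)).obj L') →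
      ((Scheme.Modules.pullback (ι m)).obj D ≅ Coh.structureModule _) := fun m φ =>
    (Groth.L29.DC.PullTensor.pullTensor (ι m) L N).symm ≪≫ Groth.L00.Tensor.tensorIso φ (Iso.refl _) ≪≫
      Groth.L29.DC.PullTensor.pullTensor (ι m) L' N ≪≫ (Scheme.Modules.pullback (ι m)).mapIso eN ≪≫
      Groth.L29.LocFree.pullbackUnitIso (ι m)
  let j := Scheme.IdealSheafData.inclusion (Groth.L18.PicLefInj.pow_le (𝓙 := 𝓙) (show 0 + 1 ≤ n + 1 by omega))
  have hj : j ≫ ι n = ι 0 := Scheme.IdealSheafData.inclusion_subschemeι _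
  let res : ∀ M : (U : Scheme.{u}).Modules,
      (Scheme.Modules.pullback (ι 0)).obj M ≅ (Scheme.Modules.pullback j).obj ((Scheme.Modules.pullback (ι n)).obj M) :=
    fun M => (Scheme.Modules.pullbackCongr hj.symm).app M ≪≫ ((Scheme.Modules.pullbackComp j (ι n)).app M).symm
  let an := a n e
  let a0 := a 0 (res L ≪≫ (Scheme.Modules.pullback j).mapIso e ≪≫ (res L').symm)
  let dual : ∀ m, ((Scheme.Modules.pullback (ι m)).obj D ≅ Coh.structureModule _) →
      ((Scheme.Modules.pullback (ι m)).obj D' ≅ Coh.structureModule _) := fun m φ =>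
    (Groth.L00.Tensor.tensorUnitLeft _).symm ≪≫ Groth.L00.Tensor.tensorIso φ.symm (Iso.refl _) ≪≫
      Groth.L29.DC.PullTensor.pullTensor (ι m) D D' ≪≫ (Scheme.Modules.pullback (ι m)).mapIso eD ≪≫
      Groth.L29.LocFree.pullbackUnitIso (ι m)
  obtain ⟨t⟩ := Groth.L18.PicLefInj.nonempty_iso_structure 𝓙 (h U hU) eD hD n an (dual n an) a0 (dual 0 a0)
    fun m hm => subsingleton_restrict 𝓘 U hU m (hH1 m (le_trans hn hm))
  exact ⟨(Groth.L00.Tensor.tensorUnitRight L).symm ≪≫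
    Groth.L00.Tensor.tensorIso (Iso.refl L) ((Groth.L00.Tensor.tensorComm N L' ≪≫ eN).symm) ≪≫
    (Groth.L00.Tensor.tensorAssoc L N L').symm ≪≫ Groth.L00.Tensor.tensorIso t (Iso.refl L') ≪≫
    Groth.L00.Tensor.tensorUnitLeft L'⟩

end Groth.Agent.S2948
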