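import Groth.Statements.S8855
import Groth.Agent.L14.RegImmStalk.Pair

set_option autoImplicit false
universe u
open CategoryTheory CategoryTheory.Limits AlgebraicGeometry TopologicalSpace
open SDiv

namespace Groth.Agent.S8855

/-- Let i : Z ⟶ X be an immersion of schemes with Z and X regular (locally Noetherian, all local rings
regular local rings). Then i is a regular immersion. -/
theorem result {Z X : Scheme.{u}} (i : Z ⟶ X) [IsImmersion i]
    [IsLocallyNoetherian X] [IsLocallyNoetherian Z]
    (hX : ∀ x : ↥X, IsRegularLocalRing ↑(X.presheaf.stalk x)) (hZ : ∀ z : ↥Z, IsRegularLocalRing ↑(Z.presheaf.stalk z)) :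
    RegImm.IsRegularImmersion RegImm.Kind.regular i := by
  refine ⟨inferInstance, fun z => ?_⟩
  haveI := Groth.L14.RegImmStalk.isNoetherianRing_stalk' (i z)
  haveI := hX (i z)
  haveI := hZ z
  haveI : IsRegularLocalRing (X.presheaf.stalk (i z) ⧸ RingHom.ker (i.stalkMap z).hom) :=
    IsRegularLocalRing.of_ringEquiv
      (RingHom.quotientKerEquivOfSurjective (Scheme.Hom.stalkMap_surjective i z)).symm
  rw [Groth.L14.RegImmStalk.regularAt_iff_stalk i RegImm.Kind.regular z]
  exact (Groth.Agent.S5033.result _ _).mp inferInstance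

end Groth.Agent.S8855
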