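import Groth.Statements.S3378
import Groth.Agent.L18.GrFreeFEt

set_option autoImplicit false
set_option linter.style.haveILetI false
set_option backward.isDefEq.respectTransparency.types false
set_option backward.isDefEq.respectTransparency false
universe u
open CategoryTheory CategoryTheory.Limits AlgebraicGeometry TopologicalSpace
open LefX

namespace Groth.Agent.S3378

theorem connected_punctured (B : Type u) [CommRing B] [IsLocalRing B] [IsNoetherianRing B]
    (h : (2 : ℕ∞) ≤ LocCoh.depth B B) : ConnectedSpace ↥(FEt.puncturedSpec B) := by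
  have h1 := Groth.Agent.S0335.result B h
  have h2 : ({x : PrimeSpectrum B | x.asIdeal ≠ IsLocalRing.maximalIdeal B} : Set (PrimeSpectrum B)) =
      ({IsLocalRing.closedPoint B}ᶜ : Set (PrimeSpectrum B)) := by
    ext x
    exact not_congr ⟨fun e => PrimeSpectrum.ext e, fun e => congrArg PrimeSpectrum.asIdeal e⟩
  rw [h2] at h1
  exact isConnected_iff_connectedSpace.1 h1

/-- Let A be a Noetherian local ring, J a proper ideal with (i) depth A/J ≥ 3, (ii) every J^n/J^(n+1)
free over A/J, (iii) A separated and complete for the J-adic topology. Let U be the punctured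
spectrum of A and U_0 = U ∩ V(J), the closed subscheme of U defined by J. Then (a) U and U_0 are
connected and restriction of finite étale covers from U to U_0 is fully faithful (π₁(U_0) → π₁(U) is
surjective), and (b) the pull-back map Pic(U) → Pic(U_0) has trivial kernel. -/
theorem result (A : Type u) [CommRing A] [IsLocalRing A] [IsNoetherianRing A] (J : Ideal A) (hJ : J ≠ ⊤) [IsLocalRing (A ⧸ J)] (hd : (3 : ℕ∞) ≤ LocCoh.depth (A ⧸ J) (A ⧸ J)) (hgr : ∀ n : ℕ, Module.Free (A ⧸ J) (↥(J ^ n) ⧸ (J • (⊤ : Submodule A ↥(J ^ n))))) [IsAdicComplete J A] : (ConnectedSpace ↥(FEt.puncturedSpec A) ∧ ConnectedSpace ↥(((Spec.map (CommRingCat.ofHom (Ideal.Quotient.mk J))).ker.comap (FEt.puncturedSpec A).ι).subscheme) ∧ (FEt.restrict ((Spec.map (CommRingCat.ofHom (Ideal.Quotient.mk J))).ker.comap (FEt.puncturedSpec A).ι).subschemeι).Full ∧ (FEt.restrict ((Spec.map (CommRingCat.ofHom (Ideal.Quotient.mk J))).ker.comap (FEt.puncturedSpec A).ι).subschemeι).Faithful) ∧ Formal2.PicPullbackInjective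 ((Spec.map (CommRingCat.ofHom (Ideal.Quotient.mk J))).ker.comap (FEt.puncturedSpec A).ι).subschemeι := by
  have hdA : (2 : ℕ∞) ≤ LocCoh.depth A A :=
    (show (2 : ℕ∞) ≤ 3 by norm_num).trans (Groth.L18.GrFreePic.three_le_depth J hd hgr)
  obtain ⟨ℓ, hℓ⟩ := Groth.L18.GrFreePic.exists_iso_subscheme J (FEt.puncturedSpec A)
  refine ⟨⟨connected_punctured A hdA, ?_, ?_⟩, fun L hL ⟨φ⟩ => ?_⟩
  · have key : ∀ V : (Spec (CommRingCat.of (A ⧸ J))).Opens, V = FEt.puncturedSpec (A ⧸ J) → ConnectedSpace ↥V := by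
      rintro V rfl
      exact connected_punctured (A ⧸ J) ((show (2 : ℕ∞) ≤ 3 by norm_num).trans hd)
    haveI : ConnectedSpace ↥(↑(Spec.map (CommRingCat.ofHom (Ideal.Quotient.mk J)) ⁻¹ᵁ FEt.puncturedSpec A) : Scheme.{u}) :=
      key _ (Groth.L18.GrFreeFEt.preimage_quot J)
    exact ℓ.hom.homeomorph.surjective.connectedSpace ℓ.hom.homeomorph.continuous
  · haveI : CompactSpace ↥(↑(FEt.puncturedSpec A) : Scheme.{u}) :=
      isCompact_iff_compactSpace.1 (NoetherianSpace.isCompact (α := PrimeSpectrum A) _)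
    haveI : (↑(FEt.puncturedSpec A) : Scheme.{u}).IsQuasiAffine :=
      Scheme.IsQuasiAffine.of_isImmersion (FEt.puncturedSpec A).ι
    haveI : AlgebraicGeometry.IsNoetherian (↑(FEt.puncturedSpec A) : Scheme.{u}) := { }
    exact Groth.Agent.S9489.result _ _ (Or.inl ⟨inferInstance, Groth.L18.GrFreeFEt.homToFormalBijective J hd hgr⟩)
  · exact Groth.L18.GrFreePic.nonempty_iso_of_trivial J hd hgr L hL
      ((Scheme.Modules.pullbackCongr hℓ.symm).app L ≪≫ ((Scheme.Modules.pullbackComp ℓ.hom _).app L).symm ≪≫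
        (Scheme.Modules.pullback ℓ.hom).mapIso φ ≪≫ Groth.L29.LocFree.pullbackUnitIso _)

end Groth.Agent.S3378
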