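import Groth.Statements.S3360
import Groth.Agent.L18.LefExtend
import Groth.Agent.L18.NegVanishLef
import Groth.Agent.L06.AmpleDisjoint
import Groth.Agent.L19.FPExtend.Main
-- import your own Groth.Agent.* helpers here

set_option autoImplicit false
set_option backward.isDefEq.respectTransparency.types false
set_option backward.isDefEq.respectTransparency false
universe u
open CategoryTheory CategoryTheory.Limits AlgebraicGeometry
open Lef

namespace Groth.Agent.S3360

/-- Case 'resp.', over an affine base. Let A be a Noetherian ring, X a proper flat A-scheme, 𝓘 a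
quasi-coherent ideal whose ideal module is invertible with ample inverse L (𝓘 is cut out by a
regular section of L; X is projective over A), Y = V(𝓘). If every fibre X_s has depth ≥ 2 at each of
its closed points, then Lef(X, Y) holds: for every open U ⊇ Y and every finite locally free
O_U-module D, Hom(D, O_U) → lim_n Hom(D, O_U/𝓘^(n+1)) is bijective. -/
theorem result (A : Type u) [CommRing A] [IsNoetherianRing A] (X : Scheme.{u}) [X.Over (Spec (CommRingCat.of A))] [IsProper (X ↘ Spec (CommRingCat.of A))] [Flat (X ↘ Spec (CommRingCat.of A))] (𝓘 : X.IdealSheafData) (L : X.Modules) (hL : ClSub.IsInverseOf L (ClSub.idealMod 𝓘)) (hamp : CohB1.IsAmple L) (hdepth : ∀ x : X, IsClosed ({((X ↘ Spec (CommRingCat.of A))).asFiber x} : Set ↥(((X ↘ Spec (CommRingCat.of A))).fiber (((X ↘ Spec (CommRingCat.of A))).base x))) → (2 : ℕ∞) ≤ LocCoh.depth ↑(CInt.fiberStalk (X ↘ Spec (CommRingCat.of A)) x) ↑(CInt.fiberStalk (X ↘ Spec (CommRingCat.of A)) x)) : Lef.LefCond X 𝓘 := by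
  intro U hU D hD
  let f := X ↘ Spec (CommRingCat.of A)
  haveI : IsLocallyNoetherian X := LocallyOfFiniteType.isLocallyNoetherian f
  haveI : CompactSpace X := QuasiCompact.compactSpace_of_compactSpace f
  haveI : IsNoetherian X := {}
  haveI : IsLocallyNoetherian (U : Scheme.{u}) := isLocallyNoetherian_of_isOpenImmersion U.ι
  let Z : Set X := (U : Set X)ᶜ
  have hZY : Disjoint Z (𝓘.support : Set X) := Set.disjoint_left.2 fun z hz hz' => hz (hU hz')
  haveI := Groth.L18.LefExtend.isIso_unitToPush_of_bijective U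
    (Groth.L07.RefExtend.supportedOn_structureModule fun x hx =>
      Groth.L06.AmpleDisj.le_depth f x _
        (hdepth x (Groth.L06.AmpleDisj.isClosed_asFiber f 𝓘 L hL hamp Z U.2.isClosed_compl hZY x hx)))
  have hO : Coh.IsCoh (Coh.structureModule X) := Groth.L16.CohClosedPush.isCoh_structure
  haveI : Coh.IsQCoh (Coh.structureModule X) := hO.1
  obtain ⟨G, -, e, hG, -⟩ := Groth.L19.FPExtend.exists_fp_extension (Coh.structureModule X) U
    (TopologicalSpace.NoetherianSpace.isCompact (U : Set X)) D
    (Groth.L15.Ref.isFP_of_isCoh (Groth.L16.NegPow.isCoh_of_isFinLocFree hD)) 0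
  haveI := Groth.L05.Prufer.isQCoh_of_isFP hG
  obtain ⟨i⟩ := id hL
  have h := Groth.L18.LefExtend.homToFormalBijective_restrict 𝓘 U hU
    (Groth.L18.NegVanish.homToFormalBijective_of_vanishing 𝓘 hL hamp
      (Groth.L18.NegVanish.exists_vanish_pow f hamp i 1 hdepth)
      (G := G) ⟨inferInstance, Groth.L19.LimMod.isFT_of_isFP hG⟩)
  refine ⟨fun φ ψ hφψ => (cancel_epi e.hom).1 (h.1 _ _ fun n => by simp only [Category.assoc, hφψ n]), fun y hy => ?_⟩
  obtain ⟨φ, hφ⟩ := h.2 (fun n => e.hom ≫ y n) fun n => by simp only [Category.assoc, hy n]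
  exact ⟨e.inv ≫ φ, fun n => by rw [Category.assoc, hφ n, e.inv_hom_id_assoc]⟩

end Groth.Agent.S3360
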