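import Groth.Statements.S3361
import Groth.Agent.L18.LefTowerVan
import Groth.Agent.L18.ModSysAlgz
import Groth.Agent.S3360
-- import your own Groth.Agent.* helpers here

set_option autoImplicit false
set_option linter.style.haveILetI false
set_option backward.isDefEq.respectTransparency.types false
set_option backward.isDefEq.respectTransparency false
universe u
open CategoryTheory CategoryTheory.Limits AlgebraicGeometry
open LefX

namespace Groth.Agent.S3361

/-- Over an affine base. Let A be a Noetherian ring, X a proper flat A-scheme, 𝓘 a quasi-coherent ideal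
whose ideal module is invertible with ample inverse L, such that the closed subscheme X_0 = V(𝓘) is
also flat over A (so 𝓘 is cut out by a section t of L whose restriction to every fibre is regular).
Assume that for every s the fibre (X_0)_s has depth ≥ 2 at its closed points and the fibre X_s has
depth ≥ 2 at its closed points. Then the effective Lefschetz condition Leff(X, X_0) holds: Lef(X,
X_0), and every levelwise finite locally free system of modules on the completion of X along X_0 is
the completion of a finite locally free module defined on an open neighbourhood of X_0. -/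
theorem result (A : Type u) [CommRing A] [IsNoetherianRing A] (X : Scheme.{u}) [X.Over (Spec (CommRingCat.of A))] [IsProper (X ↘ Spec (CommRingCat.of A))] [Flat (X ↘ Spec (CommRingCat.of A))] (𝓘 : X.IdealSheafData) (L : X.Modules) (hL : ClSub.IsInverseOf L (ClSub.idealMod 𝓘)) (hamp : CohB1.IsAmple L) [Flat (𝓘.subschemeι ≫ (X ↘ Spec (CommRingCat.of A)))] (hdepth0 : ∀ y : ↥(𝓘.subscheme), IsClosed ({((𝓘.subschemeι ≫ (X ↘ Spec (CommRingCat.of A)))).asFiber y} : Set ↥(((𝓘.subschemeι ≫ (X ↘ Spec (CommRingCat.of A)))).fiber (((𝓘.subschemeι ≫ (X ↘ Spec (CommRingCat.of A)))).base y))) → (2 : ℕ∞) ≤ LocCoh.depth ↑(CInt.fiberStalk (𝓘.subschemeι ≫ (X ↘ Spec (CommRingCat.of A))) y) ↑(CInt.fiberStalk (𝓘.subschemeι ≫ (X ↘ Spec (CommRingCat.of A))) y)) (hdepth : ∀ x : X, IsClosed ({((X ↘ Spec (CommRingCat.of A))).asFiber x} : Set ↥(((X ↘ Spec (CommRingCat.of A))).fiber (((X ↘ Spec (CommRingCat.of A))).base x))) → (2 : ℕ∞) ≤ LocCoh.depth ↑(CInt.fiberStalk (X ↘ Spec (CommRingCat.of A)) x) ↑(CInt.fiberStalk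 (X ↘ Spec (CommRingCat.of A)) x)) : LefX.LeffCond X 𝓘 := by
  let f := X ↘ Spec (CommRingCat.of A)
  haveI : IsLocallyNoetherian X := LocallyOfFiniteType.isLocallyNoetherian f
  refine ⟨Groth.Agent.S3360.result A X 𝓘 L hL hamp hdepth, fun 𝔐 hfree => ?_⟩
  obtain ⟨i⟩ := id hL
  have hI : PicF.IsInvertible (ClSub.idealMod 𝓘) := Groth.L22.EnrSev.isInvertible_of_inverse hamp.1 i
  obtain ⟨F, β, hF, hβ, hs, hk⟩ := Groth.L18.LefTower.exists_module (A := A) hL hamp
    (Groth.L18.LefTower.sysTower 𝓘 𝔐 hI hfree)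
    (Groth.L18.LefTower.van_sysTower f 𝓘 hamp i hdepth0 hI hfree) hI
    (fun E hE => Groth.L18.LefTower.van_bundleTower f 𝓘 hamp i hdepth0 hI hE)
    (fun E hE => Groth.L18.LefTower.van_bundle f hamp i hdepth hE)
  obtain ⟨e⟩ := Groth.L18.LefTower.nonempty_complMod_iso 𝓘 𝔐 hfree hF β hβ hs hk
    (fun x => (Groth.L18.LefTower.exists_gen_stalk hI x).imp fun _ h => h.1)
  have hl : ∀ n, FlatMod.IsFinLocFree ((Scheme.Modules.pullback (FSch.completionToX X 𝓘 n)).obj F) := fun n =>
    Groth.L29.LocFree.of_iso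
      ({ hom := e.inv.app n, inv := e.hom.app n
         hom_inv_id := congrFun (congrArg FSch.ModSys.Hom.app e.inv_hom_id) n
         inv_hom_id := congrFun (congrArg FSch.ModSys.Hom.app e.hom_inv_id) n } :
        𝔐.F n ≅ (Scheme.Modules.pullback (FSch.completionToX X 𝓘 n)).obj F) (hfree n)
  obtain ⟨U, hU, hE⟩ := Groth.L18.FreeNearLevels.exists_open 𝓘 hF hl
  obtain ⟨c⟩ := Groth.L18.FreeNearLevels.nonempty_complMod_push 𝓘 U hU F
  exact ⟨U, F.restrict U.ι, hU, hE, ⟨eqToIso (Groth.L18.ModSysAlgz.completionMod_eq 𝓘 _) ≪≫ c.symm ≪≫ e⟩⟩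

end Groth.Agent.S3361
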