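import Groth.Statements.S0247
import Groth.Agent.L13.Purity.Equiv
import Groth.Agent.S0564

set_option autoImplicit false
universe u
open Pi1

namespace Groth.Agent.S0247

open AlgebraicGeometry CategoryTheory CategoryTheory.Limits in
/-- For a regular local ring A of Krull dimension at least 2, every finite etale cover of the punctured
spectrum of A extends to a finite etale cover of Spec A. -/
theorem result (A : Type u) [CommRing A] [IsRegularLocalRing A] (h : (2 : WithBot ℕ∞) ≤ ringKrullDim A) :
    FEt.PurityHolds A := by
  haveI : IsNoetherianRing (CommRingCat.of A) := ‹IsRegularLocalRing A›.toIsNoetherian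
  have key : ∀ x : Spec (CommRingCat.of A),
      IsRegularLocalRing ((Spec (CommRingCat.of A)).presheaf.stalk x) ∧
        ringKrullDim ((Spec (CommRingCat.of A)).presheaf.stalk x) = x.asIdeal.height := by
    intro x
    letI k : Algebra (CommRingCat.of A) ((Spec (CommRingCat.of A)).presheaf.stalk x) :=
      StructureSheaf.stalkAlgebra A x
    haveI : IsLocalization.AtPrime ((Spec (CommRingCat.of A)).presheaf.stalk x) x.asIdeal :=
      StructureSheaf.IsLocalization.to_stalk A x
    haveI := Groth.Agent.S0564.result A x.asIdeal
    exact ⟨IsRegularLocalRing.of_ringEquiv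
      (IsLocalization.algEquiv x.asIdeal.primeCompl (Localization.AtPrime x.asIdeal)
        ((Spec (CommRingCat.of A)).presheaf.stalk x)).toRingEquiv,
      IsLocalization.AtPrime.ringKrullDim_eq_height x.asIdeal _⟩
  refine Groth.L13.Purity.essSurj_restrict (X := Spec (CommRingCat.of A)) (FEt.puncturedSpec A)
    (fun x => (key x).1) fun x hx => ?_
  have hx' : x = IsLocalRing.closedPoint A := not_not.1 hx
  rw [(key x).2, hx']
  exact h.trans IsLocalRing.maximalIdeal_height_eq_ringKrullDim.ge

end Groth.Agent.S0247
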