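import Groth.Statements.S3372
import Groth.Agent.L29.Formal.Quasi

set_option autoImplicit false
set_option backward.isDefEq.respectTransparency false
universe u
open CategoryTheory CategoryTheory.Limits AlgebraicGeometry
open Formal

namespace Groth.Agent.S3372

/-- Let A be a Noetherian local ring which is a quotient of a regular ring, and t a member of the
maximal ideal for which A is separated and complete in the t-adic topology; let X be the punctured
spectrum of A and F a coherent O_X-module on which multiplication by t is injective. Let n be a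
natural number and assume that for every closed point x of X (the primes p with dim A/p = 1) the
stalk F_x has depth ≥ n + 1 over O_{X,x}. Then the canonical map H^i(X, F) → lim_k H^i(X,
F/t^(k+1)F) is bijective for i < n and injective for i = n. -/
theorem result (R : Type u) [CommRing R] [IsRegularRing R] (A : Type u) [CommRing A] [IsLocalRing A] [IsNoetherianRing A] (π : R →+* A) (hπ : Function.Surjective π) (t : A) (ht : t ∈ IsLocalRing.maximalIdeal A) [IsAdicComplete (Ideal.span {t}) A] (F : (↑(FEt.puncturedSpec A) : Scheme.{u}).Modules) (hF : Coh.IsCoh F) (hreg : Mono (Formal.smulMod A F t)) (n : ℕ) (hdepth : ∀ x : (↑(FEt.puncturedSpec A) : Scheme.{u}), IsClosed ({x} : Set (↑(FEt.puncturedSpec A) : Scheme.{u})) → ((n + 1 : ℕ) : ℕ∞) ≤ LocCoh.depth ((↑(FEt.puncturedSpec A) : Scheme.{u}).presheaf.stalk x) (F.presheaf.stalk x)) (i : ℕ) : (i < n → Function.Bijective (Formal.toHHlim (Ideal.span {t}) F i)) ∧ (i = n → Function.Injective (Formal.toHHlim (Ideal.span {t}) F i)) := by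
  have hU : FEt.puncturedSpec A = LocCoh.puncturedOpen A (IsLocalRing.maximalIdeal A) := by
    refine TopologicalSpace.Opens.ext (Set.ext fun p => not_congr ?_)
    exact ⟨fun h => (show p = IsLocalRing.closedPoint A from h) ▸ (fun _ hm => hm),
      fun h => PrimeSpectrum.ext (((IsLocalRing.maximalIdeal.isMaximal A).eq_of_le p.2.ne_top h).symm)⟩
  refine Groth.L29.FormalReg.toHHlim_of_relCodim (IsLocalRing.maximalIdeal A) hπ t _ hU F hF hreg n
    (fun x hx => hdepth x ?_) i
  obtain ⟨q, hpq, hq, hh⟩ := Groth.L04.LC.exists_of_relCodim_eq (c := 1) hx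
  have hcov := (Groth.L04.LC.height_quot_eq_one_iff_covBy hpq).1 hh
  have hq' : q.asIdeal = IsLocalRing.maximalIdeal A := ((IsLocalRing.maximalIdeal.isMaximal A).eq_of_le q.2.ne_top hq).symm
  refine isClosed_of_closure_subset fun y hy => ?_
  have hs : (FEt.puncturedSpec A).ι x ⤳ (FEt.puncturedSpec A).ι y :=
    (specializes_iff_mem_closure.2 hy).map (FEt.puncturedSpec A).ι.continuous
  let p' : PrimeSpectrum A := (FEt.puncturedSpec A).ι x
  let r : PrimeSpectrum A := (FEt.puncturedSpec A).ι y
  have hle : p' ≤ r := (PrimeSpectrum.le_iff_specializes p' r).2 hs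
  rcases eq_or_lt_of_le hle with h | h
  · exact Subtype.ext h.symm
  · have hyq : r ≤ q := fun a ha => by rw [hq']; exact IsLocalRing.le_maximalIdeal r.2.ne_top ha
    rcases eq_or_lt_of_le hyq with h' | h'
    · exact absurd (PrimeSpectrum.ext ((congrArg PrimeSpectrum.asIdeal h').trans hq')) y.2
    · exact absurd h' (hcov.2 h)

end Groth.Agent.S3372
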