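import Groth.Statements.S5199
import Groth.Agent.L18.LefPunct
import Groth.Agent.L18.ModSysAlgz
import Groth.Agent.L18.NormFlatGr
import Groth.Agent.L18.FreeNearLevels
import Groth.Agent.L04.LC.Codim
import Groth.Agent.L04.LC.Annihilate
import Groth.Agent.L04.Depth2
import Groth.Agent.L29.Formal.NormFlatDepth
import Groth.Agent.S0564

set_option autoImplicit false
set_option linter.style.haveILetI false
set_option backward.isDefEq.respectTransparency.types false
set_option backward.isDefEq.respectTransparency false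
universe u
open CategoryTheory CategoryTheory.Limits AlgebraicGeometry
open LefX

namespace Groth.Agent.S5199

open scoped Pointwise in
theorem isNormallyFlat_span {A : Type u} [CommRing A] (t : A) (hreg : IsSMulRegular A t) :
    EGA4.IsNormallyFlat (Ideal.span {t}) A := by
  refine Groth.L18.NormFlatGr.isNormallyFlat_of_flat _ fun n => ?_
  let J : Ideal A := Ideal.span {t}
  have ht : t ^ n ∈ J ^ n := Ideal.pow_mem_pow (Ideal.mem_span_singleton_self t) n
  let P : Submodule A ↥(J ^ n) := J • ⊤
  let f : A →ₗ[A] ↥(J ^ n) ⧸ P := P.mkQ ∘ₗ LinearMap.toSpanSingleton A ↥(J ^ n) ⟨t ^ n, ht⟩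
  have hmem : ∀ w : ↥(J ^ n), w ∈ P ↔ (w : A) ∈ J ^ (n + 1) := by
    intro w
    have h : P.map (J ^ n : Submodule A A).subtype = J ^ (n + 1) := by
      rw [Submodule.map_smul'', Submodule.map_top, Submodule.range_subtype, pow_succ' J n]
      rfl
    rw [← h]
    exact ⟨fun hw => ⟨w, hw, rfl⟩, fun ⟨w', hw', he⟩ => Subtype.ext he ▸ hw'⟩
  have hs : Function.Surjective f := fun z => by
    obtain ⟨⟨w, hw⟩, rfl⟩ := Submodule.Quotient.mk_surjective P z
    have hw' : w ∈ (Ideal.span {t} : Ideal A) ^ n := hw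
    rw [Ideal.span_singleton_pow, Ideal.mem_span_singleton'] at hw'
    obtain ⟨c, rfl⟩ := hw'
    exact ⟨c, rfl⟩
  have hk : LinearMap.ker f = (J : Submodule A A) := by
    ext a
    rw [LinearMap.mem_ker, LinearMap.comp_apply, Submodule.mkQ_apply, Submodule.Quotient.mk_eq_zero, hmem]
    show a * t ^ n ∈ J ^ (n + 1) ↔ a ∈ J
    rw [show J ^ (n + 1) = Ideal.span {t ^ (n + 1)} from Ideal.span_singleton_pow t (n + 1),
      Ideal.mem_span_singleton', Ideal.mem_span_singleton']
    refine exists_congr fun c => ⟨fun h => (hreg.pow n) ?_, fun h => by rw [← h]; ring⟩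
    show t ^ n * (c * t) = t ^ n * a
    rw [mul_comm (t ^ n) a, ← h]
    ring
  let e : (A ⧸ J) ≃ₗ[A] ↥(J ^ n) ⧸ P :=
    (Submodule.quotEquivOfEq _ _ hk.symm).trans (f.quotKerEquivOfSurjective hs)
  exact Module.Flat.of_linearEquiv (e.extendScalarsOfSurjective Ideal.Quotient.mk_surjective).symm

theorem two_le_depth {A : Type u} [CommRing A] [IsNoetherianRing A] (t : A) (hreg : IsSMulRegular A t)
    (p : PrimeSpectrum A) (htp : t ∈ p.asIdeal)
    (h : (3 : ℕ∞) ≤ LocCoh.depth (Localization.AtPrime p.asIdeal) (Localization.AtPrime p.asIdeal)) :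
    ((2 : ℕ) : ℕ∞) ≤ LocCoh.depth (Localization.AtPrime p.asIdeal)
      (LocalizedModule p.asIdeal.primeCompl (A ⧸ (Ideal.span {t} : Ideal A))) := by
  let R := Localization.AtPrime p.asIdeal
  let x : R := algebraMap A R t
  have hx : x ∈ IsLocalRing.maximalIdeal R := (IsLocalization.AtPrime.to_map_mem_maximal_iff R p.asIdeal t).2 htp
  have hr : IsSMulRegular R x := hreg.of_flat
  let e : LocalizedModule p.asIdeal.primeCompl (A ⧸ (Ideal.span {t} : Ideal A)) ≃ₗ[R]
      R ⧸ (Ideal.span {t} : Ideal A).map (algebraMap A R) :=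
    (LocalizedModule.equivTensorProduct p.asIdeal.primeCompl (A ⧸ (Ideal.span {t} : Ideal A))).trans
      (Algebra.TensorProduct.quotIdealMapEquivTensorQuot R (Ideal.span {t} : Ideal A)).toLinearEquiv.symm
  let e' : (R ⧸ (Ideal.span {t} : Ideal A).map (algebraMap A R)) ≃ₗ[R] QuotSMulTop x R :=
    Submodule.quotEquivOfEq _ _ (by
      rw [Ideal.map_span, Set.image_singleton, ← Submodule.ideal_span_singleton_smul x ⊤, Ideal.smul_eq_mul,
        Ideal.mul_top])
  rw [LocCoh.depth, Groth.L04.idealDepth_congr (e.trans e')]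
  refine (ENat.add_le_add_iff_right ENat.one_ne_top).1 ?_
  rw [Groth.L04.idealDepth_quotSMulTop_add_one hx hr]
  exact le_trans (by norm_num) h

open Groth.L04.LC in
theorem exists_kill {R A : Type u} [CommRing R] [IsRegularRing R] [CommRing A] [IsLocalRing A] [IsNoetherianRing A]
    (π : R →+* A) (hπ : Function.Surjective π) (t : A) (hreg : IsSMulRegular A t)
    (h3 : ∀ p : Ideal A, ∀ _ : p.IsPrime, t ∈ p → ringKrullDim (A ⧸ p) = 1 →
      (3 : ℕ∞) ≤ LocCoh.depth (Localization.AtPrime p) (Localization.AtPrime p)) (i : ℕ) (hi : i ≤ 2) :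
    ∃ k : ℕ, ∀ a ∈ IsLocalRing.maximalIdeal A ^ k,
      ∀ z : LocCoh.H (IsLocalRing.maximalIdeal A) i (A ⧸ (Ideal.span {t} : Ideal A)), a • z = 0 := by
  let m := IsLocalRing.maximalIdeal A
  haveI : Module.Finite A (LocCoh.H m i (A ⧸ (Ideal.span {t} : Ideal A))) := by
    refine (finite_H_below_iff_depth π hπ m (A ⧸ (Ideal.span {t} : Ideal A)) 2).2 (fun p q hp hq hpq => ?_) i hi
    by_cases htp : t ∈ p.asIdeal
    · refine two_le_depth t hreg p htp (h3 p.asIdeal p.2 htp (Groth.L18.LefPunct.ringKrullDim_eq_one p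
        (fun h => hp h.ge) fun r hr => ?_))
      have hqm : q = IsLocalRing.closedPoint A :=
        PrimeSpectrum.ext ((IsLocalRing.maximalIdeal.isMaximal A).eq_of_le q.2.ne_top hq).symm
      have hrm : r ≤ q := fun a ha => by rw [hqm]; exact IsLocalRing.le_maximalIdeal r.2.ne_top ha
      rcases eq_or_lt_of_le hr with h | h
      · exact Or.inl h.symm
      · rcases eq_or_lt_of_le hrm with h' | h'
        · exact Or.inr (h'.trans hqm)
        · exact absurd h' (hpq.2 h)
    · haveI := Groth.L29.NormFlatDepth.subsingleton_localized (Ideal.span {t} : Ideal A) p.asIdeal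
        fun h => htp (h (Ideal.mem_span_singleton_self t))
      rw [LocCoh.depth, Groth.L04.idealDepth_eq_top (Subsingleton.elim _ _)]
      exact le_top
  exact exists_pow_smul_eq_zero_of_finite m (isPowerTorsion_H m i (ModuleCat.of A (A ⧸ (Ideal.span {t} : Ideal A))))

/-- Let A be a Noetherian local ring which is a quotient of a regular local ring, t an A-regular element
of the maximal ideal such that A is separated and complete for the (t)-adic topology, X the
punctured spectrum of A and Y = V(t) ∩ X, the closed subscheme of X defined by t. Assume that depth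
A_p ≥ 2 for every prime ideal p with dim A/p = 1 (the closed points of X), and that depth A_p ≥ 3
for every such p containing t (the closed points of Y). Then the effective Lefschetz condition
Leff(X, Y) holds: for every open U ⊇ Y of X and every finite locally free O_U-module D, Hom(D, O_U)
→ lim_n Hom(D, O_U/t^(n+1)O_U) is bijective, and every levelwise finite locally free system of
modules on the completion of X along Y is the completion of a finite locally free module on some
open neighbourhood of Y. -/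
theorem result (A : Type u) [CommRing A] [IsLocalRing A] [IsNoetherianRing A] (hq : ∃ (B : Type u) (_ : CommRing B) (_ : IsRegularLocalRing B) (φ : B →+* A), Function.Surjective φ) (t : A) (ht : t ∈ IsLocalRing.maximalIdeal A) (hreg : IsSMulRegular A t) [IsAdicComplete (Ideal.span {t}) A] (h2 : ∀ p : Ideal A, ∀ _ : p.IsPrime, ringKrullDim (A ⧸ p) = 1 → (2 : ℕ∞) ≤ LocCoh.depth (Localization.AtPrime p) (Localization.AtPrime p)) (h3 : ∀ p : Ideal A, ∀ _ : p.IsPrime, t ∈ p → ringKrullDim (A ⧸ p) = 1 → (3 : ℕ∞) ≤ LocCoh.depth (Localization.AtPrime p) (Localization.AtPrime p)) : LefX.LeffCond (↑(FEt.puncturedSpec A) : Scheme.{u}) ((Spec.map (CommRingCat.ofHom (Ideal.Quotient.mk (Ideal.span {t})))).ker.comap (FEt.puncturedSpec A).ι) := by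
  obtain ⟨B, _, _, φ, hφ⟩ := hq
  haveI : IsRegularRing B := { isRegularLocalRing_localization := fun p _ => Groth.Agent.S0564.result B p }
  let V := FEt.puncturedSpec A
  let 𝓘 := (Spec.map (CommRingCat.ofHom (Ideal.Quotient.mk (Ideal.span {t})))).ker.comap V.ι
  refine ⟨Groth.L18.LefPunct.lefCond t φ hφ ht hreg fun p hp => h2 p.asIdeal p.2 hp, fun 𝔐 hfree => ?_⟩
  haveI : AlgebraicGeometry.IsNoetherian (Spec (CommRingCat.of A)) := inferInstance
  haveI : IsLocallyNoetherian (V : Scheme.{u}) := isLocallyNoetherian_of_isOpenImmersion V.ι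
  have hV : V = LocCoh.puncturedOpen A (IsLocalRing.maximalIdeal A) := by
    refine TopologicalSpace.Opens.ext (Set.ext fun p => not_congr ?_)
    exact ⟨fun h => (show p = IsLocalRing.closedPoint A from h) ▸ (fun _ hm => hm),
      fun h => PrimeSpectrum.ext (((IsLocalRing.maximalIdeal.isMaximal A).eq_of_le p.2.ne_top h).symm)⟩
  obtain ⟨F, hF, ⟨e⟩⟩ := Groth.L18.ModSysAlgz.exists_algebraization (Ideal.span {t}) (isNormallyFlat_span t hreg)
    (IsLocalRing.maximalIdeal A) V hV (exists_kill φ hφ t hreg h3) 𝓘 rfl 𝔐 hfree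
  have hl : ∀ n, FlatMod.IsFinLocFree ((Scheme.Modules.pullback (FSch.completionToX (V : Scheme.{u}) 𝓘 n)).obj F) :=
    fun n => Groth.L29.LocFree.of_iso
      ({ hom := e.inv.app n, inv := e.hom.app n
         hom_inv_id := congrFun (congrArg FSch.ModSys.Hom.app e.inv_hom_id) n
         inv_hom_id := congrFun (congrArg FSch.ModSys.Hom.app e.hom_inv_id) n } :
        𝔐.F n ≅ (Scheme.Modules.pullback (FSch.completionToX (V : Scheme.{u}) 𝓘 n)).obj F) (hfree n)
  obtain ⟨U, hU, hE⟩ := Groth.L18.FreeNearLevels.exists_open 𝓘 hF hl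
  obtain ⟨c⟩ := Groth.L18.FreeNearLevels.nonempty_complMod_push 𝓘 U hU F
  refine ⟨U, F.restrict U.ι, hU, hE, ⟨eqToIso (Groth.L18.ModSysAlgz.completionMod_eq 𝓘 _) ≪≫ c.symm ≪≫
    eqToIso (Groth.L18.ModSysAlgz.completionMod_eq 𝓘 F).symm ≪≫ e⟩⟩

end Groth.Agent.S5199
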