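import Groth.Statements.S6900
import Groth.Agent.L05.Mil.Algebra

set_option autoImplicit false
universe u
open TensorProduct
open EtAlg

namespace Groth.Agent.S6900

/-- Let `B' = B ×_A A'` be a fibre square of rings with `A' → A` surjective. Let `D` be a `B`-algebra
and `C'` an `A'`-algebra with a common base change `C = D ⊗_B A = C' ⊗_{A'} A`, and let `D' = D ×_C
C'` be the fibre product ring with its `B'`-algebra structure. Then `B' → D'` is of finite type
(resp. flat, resp. flat and of finite presentation, resp. smooth, resp. étale) if and only if `B →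
D` and `A' → C'` both are. -/
theorem result (B' B A' A : Type u) [CommRing B'] [CommRing B] [CommRing A'] [CommRing A]
    [Algebra B' B] [Algebra B' A'] [Algebra B A] [Algebra A' A] [Algebra B' A] [IsScalarTower B' B A] [IsScalarTower B' A' A]
    (hsq : EtMil.IsFibreSquare B' B A' A)
    (D' D C' C : Type u) [CommRing D'] [CommRing D] [CommRing C'] [CommRing C]
    [Algebra D' D] [Algebra D' C'] [Algebra D C] [Algebra C' C] [Algebra D' C] [IsScalarTower D' D C] [IsScalarTower D' C' C]
    (hsq' : EtMil.IsFibreSquare D' D C' C)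
    [Algebra B' D'] [Algebra B D] [Algebra A' C'] [Algebra A C]
    [Algebra B' D] [IsScalarTower B' B D] [IsScalarTower B' D' D]
    [Algebra B' C'] [IsScalarTower B' A' C'] [IsScalarTower B' D' C']
    [Algebra B C] [IsScalarTower B A C] [IsScalarTower B D C]
    [Algebra A' C] [IsScalarTower A' A C] [IsScalarTower A' C' C]
    [Algebra.IsPushout B D A C] [Algebra.IsPushout A' C' A C] :
    (Algebra.FiniteType B' D' ↔ Algebra.FiniteType B D ∧ Algebra.FiniteType A' C') ∧
    (Module.Flat B' D' ↔ Module.Flat B D ∧ Module.Flat A' C') ∧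
    (Module.Flat B' D' ∧ Algebra.FinitePresentation B' D' ↔
      (Module.Flat B D ∧ Algebra.FinitePresentation B D) ∧ (Module.Flat A' C' ∧ Algebra.FinitePresentation A' C')) ∧
    (Algebra.Smooth B' D' ↔ Algebra.Smooth B D ∧ Algebra.Smooth A' C') ∧
    (Algebra.Etale B' D' ↔ Algebra.Etale B D ∧ Algebra.Etale A' C') := by
  obtain ⟨hD, hC⟩ := Groth.L05.Mil.isPushout_of_fibreSquare (D := D) (C' := C') (C := C) hsq hsq'
  haveI := hD; haveI := hC; haveI := hD.symm; haveI := hC.symm
  let e₁ := Algebra.IsPushout.equiv B' B D' D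
  let e₂ := Algebra.IsPushout.equiv B' A' D' C'
  have hflat : Module.Flat B' D' ↔ Module.Flat B D ∧ Module.Flat A' C' := by
    constructor
    · intro _
      exact ⟨Module.Flat.of_linearEquiv e₁.symm.toLinearEquiv, Module.Flat.of_linearEquiv e₂.symm.toLinearEquiv⟩
    · rintro ⟨_, _⟩
      haveI : Module.Flat B (B ⊗[B'] D') := Module.Flat.of_linearEquiv e₁.toLinearEquiv
      haveI : Module.Flat A' (A' ⊗[B'] D') := Module.Flat.of_linearEquiv e₂.toLinearEquiv
      exact Groth.L05.Mil.flat_of_both hsq D'
  refine ⟨?_, hflat, ?_, ?_, ?_⟩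
  · constructor
    · intro _
      exact ⟨Algebra.FiniteType.equiv inferInstance e₁, Algebra.FiniteType.equiv inferInstance e₂⟩
    · rintro ⟨_, _⟩
      haveI : Algebra.FiniteType B (B ⊗[B'] D') := Algebra.FiniteType.equiv inferInstance e₁.symm
      haveI : Algebra.FiniteType A' (A' ⊗[B'] D') := Algebra.FiniteType.equiv inferInstance e₂.symm
      exact Groth.L05.Mil.finiteType_of_both D' hsq
  · constructor
    · rintro ⟨h, _⟩
      exact ⟨⟨(hflat.mp h).1, Algebra.FinitePresentation.equiv e₁⟩,
        (hflat.mp h).2, Algebra.FinitePresentation.equiv e₂⟩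
    · rintro ⟨⟨h₁, _⟩, h₂, _⟩
      haveI := hflat.mpr ⟨h₁, h₂⟩
      haveI : Algebra.FinitePresentation B (B ⊗[B'] D') := Algebra.FinitePresentation.equiv e₁.symm
      haveI : Algebra.FinitePresentation A' (A' ⊗[B'] D') := Algebra.FinitePresentation.equiv e₂.symm
      exact ⟨inferInstance, Groth.L05.Mil.algebra_finitePresentation_of_both D' hsq⟩
  · constructor
    · intro _
      exact ⟨Algebra.Smooth.of_equiv e₁, Algebra.Smooth.of_equiv e₂⟩
    · rintro ⟨_, _⟩
      haveI := hflat.mpr ⟨inferInstance, inferInstance⟩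
      haveI : Algebra.Smooth B (B ⊗[B'] D') := Algebra.Smooth.of_equiv e₁.symm
      haveI : Algebra.Smooth A' (A' ⊗[B'] D') := Algebra.Smooth.of_equiv e₂.symm
      exact Groth.L05.Mil.smooth_of_both D' hsq
  · constructor
    · intro _
      exact ⟨Algebra.Etale.of_equiv e₁, Algebra.Etale.of_equiv e₂⟩
    · rintro ⟨_, _⟩
      haveI := hflat.mpr ⟨inferInstance, inferInstance⟩
      haveI : Algebra.Etale B (B ⊗[B'] D') := Algebra.Etale.of_equiv e₁.symm
      haveI : Algebra.Etale A' (A' ⊗[B'] D') := Algebra.Etale.of_equiv e₂.symm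
      haveI := Groth.L05.Mil.smooth_of_both (B := B) (A' := A') D' hsq
      haveI := Groth.L05.Mil.formallyUnramified_of_both (B := B) (A' := A') D' hsq
      exact Algebra.Etale.of_formallyUnramified_of_flat

end Groth.Agent.S6900
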