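import Groth.Statements.S1186
import Groth.Agent.L20.Pinch.Rel
import Groth.Agent.L20.Pinch.Lqf
import Groth.Agent.L20.Pinch.Cases
import Groth.Agent.L20.Pinch.Nhd
import Mathlib.AlgebraicGeometry.ZariskisMainTheorem

set_option autoImplicit false
set_option linter.style.haveILetI false
set_option backward.isDefEq.respectTransparency.types false
universe u
open Pi1

namespace Groth.Agent.S1186

open AlgebraicGeometry CategoryTheory CategoryTheory.Limits in
/-- Let i : Z ⟶ X be a closed immersion and j : Z ⟶ Y an integral morphism such that every fibre of j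
lies in the preimage under i of some affine open of X, and let a : X ⟶ W, b : Y ⟶ W exhibit W as the
pushout of i and j in the category of schemes. If U is finite étale over X and V is finite étale
over Y with U ×_X Z ≅ V ×_Y Z over Z, then there is a finite étale cover T of W whose restrictions
to X and to Y are isomorphic to U and to V respectively. (This is the essential-surjectivity part of
an equivalence between finite étale covers of W and the 2-fibre product of the categories of finite
étale covers of X and of Y over that of Z; only the gluing of objects is asserted, and the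
compatibility of the two identifications over Z is not asserted.) -/
theorem result {Z X Y W : Scheme.{u}} (i : Z ⟶ X) [IsClosedImmersion i] (j : Z ⟶ Y) [IsIntegralHom j]
    (h3 : ∀ y : Y, ∃ U : X.Opens, IsAffineOpen U ∧ ∀ z : Z, j.base z = y → i.base z ∈ U)
    (a : X ⟶ W) (b : Y ⟶ W) (hpo : IsPushout i j a b)
    (U : FEt.Cat X) (V : FEt.Cat Y) (e : (FEt.restrict i).obj U ≅ (FEt.restrict j).obj V) :
    ∃ T : FEt.Cat W, Nonempty ((FEt.restrict a).obj T ≅ U) ∧ Nonempty ((FEt.restrict b).obj T ≅ V) := by
  let f : U.left ⟶ X := U.hom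
  let g : V.left ⟶ Y := V.hom
  have hf : IsFinite f ∧ Etale f := U.prop
  have hg : IsFinite g ∧ Etale g := V.prop
  haveI := hf.1; haveI := hf.2; haveI := hg.1; haveI := hg.2
  let φ : pullback f i ≅ pullback g j :=
    ((MorphismProperty.Over.forget _ _ _ ⋙ CategoryTheory.Over.forget _).mapIso e)
  have hw : φ.hom ≫ pullback.snd g j = pullback.snd f i := CategoryTheory.Over.w e.hom.hom
  have hX : IsPullback (pullback.snd f i) (pullback.fst f i) i f := (IsPullback.of_hasPullback f i).flip
  have hY : IsPullback (pullback.snd f i) (φ.hom ≫ pullback.fst g j) j g :=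
    (IsPullback.of_hasPullback g j).flip.of_iso φ.symm (Iso.refl _) (Iso.refl _) (Iso.refl _)
      (by simp [← hw]) (by simp) (by simp) (by simp)
  haveI : IsClosedImmersion (pullback.fst f i) := MorphismProperty.of_isPullback hX inferInstance
  haveI : IsIntegralHom (φ.hom ≫ pullback.fst g j) := MorphismProperty.of_isPullback hY inferInstance
  have hs : Groth.L20.Pinch.Std i j := Groth.L20.Pinch.std_of_isIntegralHom fun y => by
    obtain ⟨O, hO, hy⟩ := h3 y
    exact ⟨O, hO, fun z hz => hy z hz⟩
  have hs' : Groth.L20.Pinch.Std (pullback.fst f i) (φ.hom ≫ pullback.fst g j) :=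
    Groth.L20.Pinch.std_of_isIntegralHom fun y => by
      obtain ⟨O, hO, hy⟩ := h3 (g y)
      refine ⟨f ⁻¹ᵁ O, hO.preimage f, fun z hz => ?_⟩
      show f (pullback.fst f i z) ∈ O
      rw [← Scheme.Hom.comp_apply, ← hX.w, Scheme.Hom.comp_apply]
      refine hy _ ?_
      rw [← Scheme.Hom.comp_apply, hY.w, Scheme.Hom.comp_apply, show (φ.hom ≫ pullback.fst g j) z = y from hz]
  have hW : Groth.L20.Pinch.IsPinch i j a b := Groth.L20.Pinch.IsPinch.of_isPushout hs hpo
  obtain ⟨W', a', b', hW'⟩ := hs'.exists_isPinch
  obtain ⟨k, hka, hkb⟩ := hW'.exists_desc (f ≫ a) (g ≫ b) (by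
    rw [← Category.assoc, ← hX.w, Category.assoc, hW.comm, ← Category.assoc, hY.w, Category.assoc])
  have pX := hW.isPullback_relX hW' hX hY hka hkb
  have pY := hW.isPullback_relY hW' hX hY hka hkb
  haveI := hW.isIntegralHom_a
  haveI := hW.isClosedImmersion_b
  haveI := hW'.isIntegralHom_a
  haveI := hW'.isClosedImmersion_b
  haveI : Etale k := hW.property_k hW' hX hY hka hkb (Q := @Etale)
    (fun o _ => inferInstance) fun k0 k1 ho => (ho.isRelFib hX hY).conclusion.2.2.2.2.2
      (HasRingHomProperty.appLE @Etale g inferInstance ⟨_, k0.hV⟩ ⟨_, k1.hV⟩ ho.leV)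
      (HasRingHomProperty.appLE @Etale f inferInstance ⟨_, k0.hU⟩ ⟨_, k1.hU⟩ ho.leU)
  haveI : IsSeparated k := Groth.L20.Pinch.isSeparated_of_cover hW'.exists_preimage hka hkb
  haveI : QuasiCompact k := Groth.L20.Pinch.quasiCompact_of_cover hW'.exists_preimage hka hkb
  haveI : UniversallyClosed k := Groth.L20.Pinch.universallyClosed_of_cover hW'.exists_preimage hka hkb
  haveI : LocallyQuasiFinite k := Groth.L20.Pinch.locallyQuasiFinite_of_relative hW hW' hX hY hka hkb
  haveI : IsProper k := { }
  have hk : FEt.prop k := ⟨IsFinite.of_isProper_of_locallyQuasiFinite k, inferInstance⟩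
  refine ⟨MorphismProperty.Over.mk ⊤ k hk, ⟨?_⟩, ⟨?_⟩⟩
  · exact MorphismProperty.Over.isoMk pX.flip.isoPullback.symm pX.flip.isoPullback_inv_snd
  · exact MorphismProperty.Over.isoMk pY.flip.isoPullback.symm pY.flip.isoPullback_inv_snd

end Groth.Agent.S1186
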