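import Groth.Statements.S1141
import Groth.Agent.L13.FEtLeff.Torsion

set_option autoImplicit false
set_option maxSynthPendingDepth 3
set_option linter.style.haveILetI false
set_option backward.isDefEq.respectTransparency false
universe u
attribute [local instance] HasDerivedCategory.standard
open Pi1

namespace Groth.Agent.S1141

open AlgebraicGeometry CategoryTheory CategoryTheory.Limits in
/-- Let A be a Noetherian local ring with a dualizing complex, f an element of the maximal ideal with A
complete for the (f)-adic topology. Assume either that the ring A_f satisfies (S_2) while all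
irreducible components of Spec A meeting the locus f ≠ 0 have dimension at least 4, or that
depth(A_p) + dim(A/p) > 3 for every prime p not containing f such that V(p) meets V(f) outside the
closed point; and assume purity holds for the local rings of A_f at its maximal ideals. Then
restriction of finite etale covers from the punctured spectrum of A to the punctured spectrum of
A/fA is essentially surjective. -/
theorem result (A : Type u) [CommRing A] [IsNoetherianRing A] [IsLocalRing A] (f : A) (hf : f ∈ IsLocalRing.maximalIdeal A) (hd : ∃ ω : Dual.D A, Dual.IsDualizing A ω)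
    [IsAdicComplete (Ideal.span {f}) A]
    (hc : ((LocCoh.HasSk 2 (Localization.Away f) (Localization.Away f) ∧
        ∀ p : Ideal A, p ∈ minimalPrimes A → f ∉ p → (4 : WithBot ℕ∞) ≤ ringKrullDim (A ⧸ p)) ∨
      (∀ p : Ideal A, ∀ _ : p.IsPrime, f ∉ p → (p ⊔ Ideal.span {f}).radical ≠ IsLocalRing.maximalIdeal A →
        (3 : WithBot ℕ∞) < (LocCoh.depth (Localization.AtPrime p) (Localization.AtPrime p) : WithBot ℕ∞) + ringKrullDim (A ⧸ p))))
    (hp : ∀ P : Ideal (Localization.Away f), ∀ _ : P.IsMaximal, FEt.PurityHolds (Localization.AtPrime P)) :
    (FEt.restrict (pullback.fst (FEt.puncturedSpec A).ι (Spec.map (CommRingCat.ofHom (Ideal.Quotient.mk (Ideal.span {f})))))).EssSurj := by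
  exact Groth.L13.FEtLeff.essSurj_fst_punctured f hf hp fun R =>
    Groth.L13.FEtLeff.exists_extension_subscheme (Ideal.span {f}) (FEt.puncturedSpec A)
      (Groth.L13.FEtLeff.exists_extension_of_dualizing f hf hd (Groth.L13.FEtLeff.depth_condition f hf hd hc)) R

end Groth.Agent.S1141
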