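import Groth.Statements.S17153
import Groth.Agent.L13.Isoc.Final

set_option autoImplicit false
universe u
open Isoc

namespace Groth.Agent.S17153

/-- Let k be a perfect field of characteristic p, W = W(k), L its fraction field, a ∈ ℤ, and λ = d/h
with h > 0 and gcd(d, h) = 1. The standard σ^a-F-isocrystal N_λ of slope λ — the space L^h with the
σ^a-semilinear F determined by F e_i = e_{i+1} (i + 1 < h) and F e_{h−1} = p^d · e_0 — is a simple
isocrystal: an L-subspace of L^h carried into itself by F is either 0 or everything. (The source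
introduces N_λ for a ≠ 0 only; the simplicity argument, via sub-isocrystals of an isoclinic
isocrystal having the same slope, does not use that restriction, and the statement is made for all
a.) -/
theorem result (p : ℕ) [Fact p.Prime] (k : Type u) [Field k] [CharP k p] [PerfectRing k p]
    (a : ℤ) (d : ℤ) (h : ℕ) (hh : 0 < h) (hdh : Int.gcd d h = 1)
    (P : Submodule (FractionRing (WittVector p k)) (Fin h → (FractionRing (WittVector p k))))
    (hP : ∀ x ∈ P, Isoc.stdIsoc (Isoc.frob p k a) d h x ∈ P) : P = ⊥ ∨ P = ⊤ := by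
  open Groth.L13.Isoc in
  set F := Isoc.stdIsoc (Isoc.frob p k a) d h with hFdef
  have hb : Function.Bijective F := stdIsoc_bijective _ d h
  have htop : OnSub F ⊤ ((d : ℚ) / h) := (isIsoclinic_iff_onSub_top F).1
    ⟨stdLattice h, isLattice_stdLattice h, d, h, hh, rfl, latImg_stdLattice _ d h⟩
  obtain ⟨M, hM, r, s, hs, hrs, he⟩ := (isIsoclinic_restrict_iff F hP).2 (OnSub.inter F hb.1 htop hP le_top)
  refine or_iff_not_imp_left.2 fun hne => ?_
  have hsurj : Function.Surjective (F.restrict hP) := fun y => by
    obtain ⟨x, hx, hxy⟩ := surjOn_of_stable F hb.1 hP y.2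
    exact ⟨⟨x, hx⟩, Subtype.ext hxy⟩
  set n := Module.finrank (FractionRing (WittVector p k)) P with hn
  let b := Module.finBasis (FractionRing (WittVector p k)) P
  obtain ⟨e, hde⟩ := exists_detCoeff_ord (F.restrict hP) b hsurj
  have h1 := mul_eq_of_latImg_eq (F.restrict hP) b hde hM he
  have h2 : r * h = s * d := by
    rw [div_eq_div_iff (by exact_mod_cast hs.ne') (by exact_mod_cast hh.ne')] at hrs
    rw [mul_comm (s : ℤ) d]
    exact_mod_cast hrs
  rw [← hn] at h1
  have h3 : e * (h : ℤ) = d * n := by
    have : (s : ℤ) * (e * h) = s * (d * n) := by linear_combination (-(h : ℤ)) * h1 + (n : ℤ) * h2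
    exact mul_left_cancel₀ (by exact_mod_cast hs.ne') this
  have h4 : h ∣ n := by
    have h5 : (h : ℤ) ∣ (n : ℤ) * d := ⟨e, by rw [mul_comm (n : ℤ) d, ← h3, mul_comm]⟩
    exact_mod_cast Int.dvd_of_dvd_mul_left_of_gcd_one h5 (by rwa [Int.gcd_comm])
  have hpos : 0 < n := Nat.pos_of_ne_zero fun h0 => hne (Submodule.finrank_eq_zero.1 (hn ▸ h0))
  have hle : n ≤ h := by
    have := Submodule.finrank_le P
    rwa [Module.finrank_fin_fun] at this
  apply Submodule.eq_top_of_finrank_eq
  rw [Module.finrank_fin_fun, ← hn]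
  exact le_antisymm hle (Nat.le_of_dvd hpos h4)

end Groth.Agent.S17153
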