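import Groth.Statements.S8857
import Groth.Agent.L07.FittStrict
import Groth.Agent.L19.Approx.IdealExt
import Groth.Agent.L17.Approx.Extend
import Groth.Agent.L13.BlowUp.Exists

set_option autoImplicit false
set_option linter.style.haveILetI false
universe u
open CategoryTheory CategoryTheory.Limits AlgebraicGeometry TopologicalSpace
open SDiv

namespace Groth.Agent.S8857

/-- Let X be a quasi-compact and quasi-separated scheme, U, V ⊆ X quasi-compact open subschemes and 𝓘 a
quasi-coherent ideal sheaf on V which is of finite type with support disjoint from U ∩ V (a blowing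
up of V in 𝓘 is a (U ∩ V)-admissible blow-up). Then there is a quasi-coherent ideal sheaf 𝓙 on X, of
finite type with support disjoint from U, whose restriction to V is 𝓘; and every blowing up of X in
𝓙 restricts over V to a blowing up of V in 𝓘 (the U-admissible blow-up of X extends the given one of
V). -/
theorem result (X : Scheme.{u}) [CompactSpace ↥X] [QuasiSeparatedSpace ↥X]
    (U V : X.Opens) (hU : IsCompact (U : Set ↥X)) (hV : IsCompact (V : Set ↥X))
    (𝓘 : (V : Scheme.{u}).IdealSheafData) (h𝓘 : BlowUp.IsAdmissibleFor (V.ι ⁻¹ᵁ U) 𝓘) :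
    ∃ 𝓙 : X.IdealSheafData, BlowUp.IsAdmissibleFor U 𝓙 ∧ 𝓙.comap V.ι = 𝓘 ∧
      ∀ (X' : Scheme.{u}) (c : X' ⟶ X), BlowUp.IsBlowUp c 𝓙 → BlowUp.IsBlowUp (c ∣_ V) 𝓘 := by
  haveI := Groth.L17.Approx.quasiCompact_ι V hV
  let L : X.IdealSheafData := 𝓘.map V.ι
  have hsL : ∀ x ∈ U, x ∉ L.support := by
    intro x hx hs
    rw [Scheme.IdealSheafData.support_map] at hs
    obtain ⟨_, hU', ⟨v, hv, rfl⟩⟩ := mem_closure_iff.1 (show x ∈ closure (V.ι '' (𝓘.support : Set _)) from hs)
      (U : Set X) U.2 hx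
    exact Set.disjoint_left.1 h𝓘.2 hv hU'
  have hLU : ∀ W : X.affineOpens, W.1 ≤ U → L.ideal W = ⊤ := fun W hW =>
    Groth.L07.FittStrict.ideal_eq_top_of_disjoint L W fun x hx => hsL x (hW hx)
  have hpre : ∀ W : (V : Scheme.{u}).affineOpens, V.ι ⁻¹ᵁ (V.ι ''ᵁ W.1) = W.1 := fun W => V.ι.preimage_image_eq W.1
  have hLV : L.comap V.ι = 𝓘 := by
    refine le_antisymm (Scheme.IdealSheafData.comap_map_le _ _) fun W a ha => ?_
    have hW0 : IsAffineOpen (V.ι ⁻¹ᵁ (V.ι ''ᵁ W.1)) := by rw [hpre W]; exact W.2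
    rw [Scheme.IdealSheafData.ideal_comap_of_isOpenImmersion, Ideal.mem_comap,
      Scheme.IdealSheafData.ideal_map 𝓘 V.ι _ hW0, Ideal.mem_comap]
    have h2 : (V.ι.app (V.ι ''ᵁ W.1)).hom ((V.ι.appIso W.1).inv.hom a) =
        ((V : Scheme.{u}).presheaf.map (eqToHom (hpre W)).op).hom a := congrArg (fun φ => φ.hom a) (V.ι.appIso_inv_app W.1)
    rw [h2]
    exact (𝓘.map_ideal (U := ⟨_, hW0⟩) (V := W) (hpre W).le).le (Ideal.mem_map_of_mem _ ha)
  let ι' := Option {W : X.affineOpens // W.1 ≤ U}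
  have hfgV : ∀ W : X.affineOpens, W.1 ≤ V → (L.ideal W).FG := by
    intro W hW
    let W' : (V : Scheme.{u}).affineOpens := ⟨V.ι ⁻¹ᵁ W.1, (V.ι.isAffineOpen_iff_of_isOpenImmersion).1 (by
      rw [V.ι.image_preimage_eq_opensRange_inf, Scheme.Opens.opensRange_ι, inf_eq_right.2 hW]; exact W.2)⟩
    have himg : V.ι ''ᵁ W'.1 = W.1 := by
      rw [V.ι.image_preimage_eq_opensRange_inf, Scheme.Opens.opensRange_ι, inf_eq_right.2 hW]
    let W'' : X.affineOpens := ⟨V.ι ''ᵁ W'.1, W'.2.image_of_isOpenImmersion V.ι⟩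
    have hW'' : W'' = W := Subtype.ext himg
    rw [← hW'']
    have h1 : 𝓘.ideal W' = (L.ideal W'').comap (V.ι.appIso W'.1).inv.hom := by
      rw [← Scheme.IdealSheafData.ideal_comap_of_isOpenImmersion L V.ι W', hLV]
    have h2 : L.ideal W'' = (𝓘.ideal W').map (V.ι.appIso W'.1).inv.hom := by
      rw [h1, Ideal.map_comap_of_surjective _ (ConcreteCategory.bijective_of_isIso (V.ι.appIso W'.1).inv).2]
    rw [h2]
    exact (h𝓘.1 W').map _
  have hfg : Groth.L19.Approx.FGOn L (U ⊔ V) := by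
    refine Groth.L19.Approx.fgOn_of_le_iSup L _
      (ι := {W : X.affineOpens // W.1 ≤ U} ⊕ {W : X.affineOpens // W.1 ≤ V}) (Sum.elim Subtype.val Subtype.val)
      (sup_le ?_ ?_) fun k => ?_
    · exact (Groth.L19.Approx.le_iSup_affineOpens U).trans (iSup_le fun W => le_iSup_of_le (Sum.inl W) le_rfl)
    · exact (Groth.L19.Approx.le_iSup_affineOpens V).trans (iSup_le fun W => le_iSup_of_le (Sum.inr W) le_rfl)
    · rcases k with W | W
      · show (L.ideal W.1).FG
        rw [hLU W.1 W.2]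
        exact Module.Finite.fg_top
      · exact hfgV W.1 W.2
  obtain ⟨K, -, hK, heq⟩ := Groth.L19.Approx.exists_fgOn_top L
    (U := U ⊔ V) (by rw [Opens.coe_sup]; exact hU.union hV) hfg
  have hKV : K.comap V.ι = 𝓘 := by
    rw [← hLV]
    refine Scheme.IdealSheafData.ext (funext fun W => ?_)
    rw [Scheme.IdealSheafData.ideal_comap_of_isOpenImmersion, Scheme.IdealSheafData.ideal_comap_of_isOpenImmersion,
      heq _ (((V.ι.image_mono le_top).trans V.ι_image_top.le).trans le_sup_right)]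
  refine ⟨K, ⟨fun W => hK W le_top, Set.disjoint_left.2 fun x hxK hxU => ?_⟩, hKV, fun X' c hc => ?_⟩
  · obtain ⟨W, hxW⟩ := Opens.mem_iSup.1 (Groth.L19.Approx.le_iSup_affineOpens U hxU)
    have h1 := (K.mem_support_iff_of_mem hxW).1 hxK
    rw [heq W.1 (W.2.trans le_sup_left), hLU W.1 W.2, Scheme.mem_zeroLocus_iff] at h1
    exact h1 1 Submodule.mem_top (by rw [Scheme.basicOpen_of_isUnit _ isUnit_one]; exact hxW)
  · have hb := Groth.L13.BU.isBlowUp_pullback V.ι hc
    rw [hKV] at hb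
    let e := (isPullback_morphismRestrict c V).isoPullback
    have he : e.hom ≫ pullback.fst V.ι c = c ∣_ V := (isPullback_morphismRestrict c V).isoPullback_hom_fst
    refine ⟨?_, fun Y g hg => ?_⟩
    · rw [← he, Scheme.IdealSheafData.comap_comp]
      exact Groth.L22.Ideals.isEffCartier_comap_of_flat _ hb.1
    · obtain ⟨k, hk, huniq⟩ := hb.2 Y g hg
      refine ⟨k ≫ e.inv, ?_, fun l hl => ?_⟩
      · show (k ≫ e.inv) ≫ c ∣_ V = g
        rw [← he, Category.assoc, e.inv_hom_id_assoc]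
        exact hk
      · rw [Iso.eq_comp_inv]
        refine huniq _ ?_
        show (l ≫ e.hom) ≫ pullback.fst V.ι c = g
        rw [Category.assoc, he]
        exact hl

end Groth.Agent.S8857
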