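import Groth.Statements.S5600
import Mathlib.Algebra.Homology.DerivedCategory.HomologySequence
import Mathlib.Algebra.Homology.HomotopyCategory.MappingCocone
import Mathlib.Algebra.Homology.Embedding.CochainComplex

set_option autoImplicit false
universe w v u
open CategoryTheory CategoryTheory.Limits
open PCoh

namespace Groth.Agent.S5600

open CochainComplex HomComplex HomologicalComplex Pretriangulated

section Cocone

variable {C : Type u} [Category.{v} C] [Abelian C] {E F : CochainComplex C ℤ} (u : E ⟶ F)

theorem inl_eq_liftCochain :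
    mappingCocone.inl u = mappingCocone.liftCochain u (Cochain.ofHom (𝟙 E)) 0 (by lia : (-1 : ℤ) + 1 = 0) := by
  ext p
  have hid := mappingCocone.id_X u p (p - 1) (by lia)
  rw [← cancel_mono (𝟙 ((mappingCocone u).X p)), ← hid]
  simp

theorem snd_eq_descCochain :
    mappingCocone.snd u = mappingCocone.descCochain u 0 (Cochain.ofHom (𝟙 F)) (by lia : (-1 : ℤ) + 1 = 0) := by
  ext p q hpq
  have hid := mappingCocone.id_X u p q hpq
  rw [← cancel_epi (𝟙 ((mappingCocone u).X p)), ← hid]
  simp

theorem δ_inl : δ 0 1 (mappingCocone.inl u) =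
    -(Cochain.ofHom u).comp (mappingCocone.inr u).1 (zero_add 1) := by
  rw [inl_eq_liftCochain, mappingCocone.δ_liftCochain _ _ _ _ 1 rfl]
  simp

theorem δ_snd : δ (-1) 0 (mappingCocone.snd u) = -Cochain.ofHom (mappingCocone.fst u ≫ u) := by
  rw [snd_eq_descCochain, mappingCocone.δ_descCochain _ _ _ _ 1 rfl]
  simp [Cochain.ofHom_comp]

noncomputable def w : mappingCone (mappingCocone.fst u) ⟶ F :=
  mappingCone.desc _ (-mappingCocone.snd u) u (by simp [δ_snd])

noncomputable def s : F ⟶ mappingCone (mappingCocone.fst u) :=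
  Cocycle.homOf (Cocycle.mk
    (-((mappingCocone.inr u).1.comp (mappingCone.inl (mappingCocone.fst u)) (add_neg_cancel 1))) 1 (zero_add 1) (by
    rw [δ_neg, δ_comp _ _ (add_neg_cancel 1) 2 0 1 (zero_add 1) (by lia) (by lia)]
    ext p q hpq
    simp [Cocycle.δ_eq_zero]))

theorem s_w : s u ≫ w u = 𝟙 F := by
  ext p
  simp [s, w, Cochain.comp_v _ _ (add_neg_cancel 1) p (p + 1) p rfl (by lia)]

theorem δ_h : δ (-1) 0 ((mappingCone.snd (mappingCocone.fst u)).comp
      ((mappingCocone.inl u).comp (mappingCone.inl (mappingCocone.fst u)) (zero_add (-1))) (zero_add (-1))) +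
      Cochain.ofHom (w u ≫ s u) = Cochain.ofHom (𝟙 _) := by
  rw [δ_zero_cochain_comp _ _ 0 (by lia), δ_zero_cochain_comp _ _ 0 (by lia), δ_inl,
    mappingCone.δ_inl, mappingCone.δ_snd]
  ext p
  have hid := mappingCocone.id_X u (p + 1) p (by lia)
  simp [mappingCone.ext_from_iff _ _ _ rfl, s, w,
    Cochain.comp_v _ _ (add_neg_cancel 1) p (p + 1) p rfl (by lia)]
  rw [← Category.comp_id ((mappingCone.inl (mappingCocone.fst u)).v (p + 1) p (by lia))] 
  conv_rhs => rw [Category.comp_id, ← Category.id_comp ((mappingCone.inl (mappingCocone.fst u)).v (p + 1) p (by lia)), ← hid]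
  simp

noncomputable def equivW : HomotopyEquiv (mappingCone (mappingCocone.fst u)) F where
  hom := w u
  inv := s u
  homotopyHomInvId := ((Cochain.equivHomotopy _ _).symm ⟨_, (δ_h u).symm⟩).symm
  homotopyInvHomId := Homotopy.ofEq (s_w u)

end Cocone
end Groth.Agent.S5600

namespace Groth.Agent.S5600
open CochainComplex HomComplex HomologicalComplex Pretriangulated

/-- Let C be an abelian category, n an integer, and u : E ⟶ F a morphism of cochain complexes of C which
is an n-quasi-isomorphism (an isomorphism on H^i for i > n and an epimorphism on H^n). Then u = v ≫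
u' with u' : E' ⟶ F a quasi-isomorphism and v : E ⟶ E' a monomorphism in each degree which is an
isomorphism in every degree ≥ n. (The source obtains v equal to the identity in degrees ≥ n; stated
here up to isomorphism in those degrees.) -/
theorem result {C : Type u} [Category.{v} C] [Abelian C]
    (n : ℤ) (E F : CochainComplex C ℤ) (u : E ⟶ F)
    (hiso : ∀ i : ℤ, n < i → IsIso (HomologicalComplex.homologyMap u i))
    (hepi : Epi (HomologicalComplex.homologyMap u n)) :
    ∃ (E' : CochainComplex C ℤ) (v : E ⟶ E') (u' : E' ⟶ F), v ≫ u' = u ∧ QuasiIso u' ∧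
      (∀ i : ℤ, Mono (v.f i)) ∧ (∀ i : ℤ, n ≤ i → IsIso (v.f i)) := by
  have : QuasiIso (w u) := inferInstanceAs (QuasiIso (equivW u).hom)
  letI := HasDerivedCategory.standard C
  have hT := DerivedCategory.mappingCocone_triangle_distinguished u
  have hLE : (mappingCocone u).IsLE n := by
    rw [isLE_iff]
    intro i hi
    rw [exactAt_iff_isZero_homology]
    have e1 := homologyMap_exact₂_of_distTriang _ hT i
    have e2 := homologyMap_exact₁_of_distTriang _ hT (i - 1) i (by lia)
    have e3 := homologyMap_exact₃_of_distTriang _ hT (i - 1) i (by lia)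
    refine e2.isZero_X₂ ?_ ?_
    · refine e3.epi_f_iff.1 ?_
      rcases (show n ≤ i - 1 by lia).lt_or_eq with h | h
      · exact @IsIso.epi_of_iso _ _ _ _ _ (hiso _ h)
      · exact h ▸ hepi
    · exact e1.mono_g_iff.1 (@IsIso.mono_of_iso _ _ _ _ _ (hiso i hi))
  let T := (mappingCocone u).truncLE n
  let ι : T ⟶ mappingCocone u := (mappingCocone u).ιTruncLE n
  let g : T ⟶ E := ι ≫ mappingCocone.fst u
  let m : mappingCone g ⟶ mappingCone (mappingCocone.fst u) :=
    mappingCone.map g (mappingCocone.fst u) ι (𝟙 E) (by simp [g])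
  have : QuasiIso m := by
    let τ := DerivedCategory.Q.mapTriangle.map
      (mappingCone.triangleMap g (mappingCocone.fst u) ι (𝟙 E) (by simp [g]))
    rw [← DerivedCategory.isIso_Q_map_iff_quasiIso]
    exact isIso₃_of_isIso₁₂ τ (DerivedCategory.mappingCone_triangle_distinguished g)
      (DerivedCategory.mappingCone_triangle_distinguished (mappingCocone.fst u))
      (show IsIso (DerivedCategory.Q.map ι) from inferInstance)
      (show IsIso (DerivedCategory.Q.map (𝟙 E)) from inferInstance)
  refine ⟨mappingCone g, mappingCone.inr g, m ≫ w u, ?_, inferInstance, fun i => ?_, fun i hi => ?_⟩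
  · simp [m, w, mappingCone.map]
  · exact mono_of_mono_fac (mappingCone.inr_f_snd_v g i)
  · refine ⟨(mappingCone.snd g).v i i (add_zero i), mappingCone.inr_f_snd_v g i, ?_⟩
    have hz : (mappingCone.fst g).1.v i (i + 1) rfl = 0 :=
      (T.isZero_of_isStrictlyLE n (i + 1) (by lia)).eq_of_tgt _ _
    simpa [hz] using mappingCone.id_X g i (i + 1) rfl

end Groth.Agent.S5600
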