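import Groth.Statements.S5598
import Groth.Agent.L13.PCoh.Limit

set_option autoImplicit false
universe w v u
open CategoryTheory CategoryTheory.Limits
open PCoh

namespace Groth.Agent.S5598

open scoped ZeroObject

/-- (i') ⇔ (ii') (punctual site): let C be an abelian category and C₀ a strictly full additive
subcategory, quasi-stable under kernels of epimorphisms and quasi-liftable. An object F of D(C) is
n-pseudo-coherent (isomorphic in D(C) to a strictly n-pseudo-coherent complex) if and only if there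
are a strictly perfect complex E (bounded, all terms in C₀) and a morphism E ⟶ F of D(C) which is an
n-isomorphism: an isomorphism on H^i for i > n and an epimorphism on H^n. -/
theorem result {C : Type u} [Category.{v} C] [Abelian C] [HasDerivedCategory.{w} C]
    (P : ObjectProperty C) [P.IsClosedUnderIsomorphisms] [P.ContainsZero] (hsum : ∀ X Y : C, P X → P Y → P (X ⨯ Y))
    (hqs : PCoh.IsQuasiStableUnderKernels P) (hql : PCoh.IsQuasiLiftable P)
    (n : ℤ) (F : DerivedCategory C) :
    (∃ E : CochainComplex C ℤ, PCoh.IsStrictPC P n E ∧ Nonempty (DerivedCategory.Q.obj E ≅ F)) ↔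
      ∃ (E : CochainComplex C ℤ) (a b : ℤ) (α : DerivedCategory.Q.obj E ⟶ F),
        (∀ i : ℤ, i < a ∨ b < i → IsZero (E.X i)) ∧ (∀ i : ℤ, P (E.X i)) ∧
        (∀ i : ℤ, n < i → IsIso ((DerivedCategory.homologyFunctor C i).map α)) ∧
        Epi ((DerivedCategory.homologyFunctor C n).map α) := by
  constructor
  · rintro ⟨E₀, hE₀, ⟨e⟩⟩
    obtain ⟨b, hb⟩ := hE₀.1
    obtain ⟨E', v, u', -, hE', hu', -, hhi, hlo⟩ := Groth.L13.PCoh.descend P hsum hql n
      (0 : (0 : CochainComplex C ℤ) ⟶ E₀) (Groth.L13.PCoh.isStrictPC_zero P n) (max n (b + 1)) (le_max_left _ _)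
      (Groth.L13.PCoh.approx_zero _ fun i hi => ShortComplex.isZero_homology_of_isZero_X₂ _ (hb i (by omega)))
      (Groth.L13.PCoh.crit_of_quasiIso P hsum hqs (𝟙 E₀) hE₀)
    have hlow : ∀ i, i < n → IsZero (E'.X i) := fun i hi => by
      haveI := hlo i hi
      exact (Groth.L13.PCoh.isZero_zero_X i).of_iso (asIso (v.f i)).symm
    have happ := hu'.comp (Groth.L13.PCoh.Approx.of_isIso e.hom n)
    refine ⟨E', n, max n (b + 1), DerivedCategory.Q.map u' ≫ e.hom, fun i hi => ?_, fun i => ?_, happ.1, happ.2⟩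
    · rcases hi with hi | hi
      · exact hlow i hi
      · haveI := hhi i hi.le
        exact (Groth.L13.PCoh.isZero_zero_X i).of_iso (asIso (v.f i)).symm
    · rcases lt_or_ge i n with hi | hi
      · exact Groth.L13.PCoh.prop_of_isZero P (hlow i hi)
      · exact hE'.2 i hi
  · rintro ⟨E, a, b, α, hz, hP, h1, h2⟩
    exact Groth.L13.PCoh.isN_of_approx P hsum hqs hql
      ⟨⟨b, fun i hi => hz i (Or.inr hi)⟩, fun i _ => hP i⟩ α ⟨h1, h2⟩

end Groth.Agent.S5598
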