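import Groth.Statements.S5603
import Groth.Agent.L13.PCoh.Descend

set_option autoImplicit false
universe w v u
open CategoryTheory CategoryTheory.Limits
open PCoh

namespace Groth.Agent.S5603

open scoped ZeroObject

/-- Punctual site: let C be an abelian category and C₀ a strictly full additive subcategory,
quasi-stable under kernels of epimorphisms and quasi-liftable. If F ∈ D(C) is acyclic in degrees >
n, then F is n-pseudo-coherent (isomorphic to a strictly n-pseudo-coherent complex) if and only if
H^n(F) is of C₀-finite type. -/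
theorem result {C : Type u} [Category.{v} C] [Abelian C] [HasDerivedCategory.{w} C]
    (P : ObjectProperty C) [P.IsClosedUnderIsomorphisms] [P.ContainsZero] (hsum : ∀ X Y : C, P X → P Y → P (X ⨯ Y))
    (hqs : PCoh.IsQuasiStableUnderKernels P) (hql : PCoh.IsQuasiLiftable P)
    (n : ℤ) (F : DerivedCategory C) (hac : ∀ i : ℤ, n < i → IsZero ((DerivedCategory.homologyFunctor C i).obj F)) :
    (∃ E : CochainComplex C ℤ, PCoh.IsStrictPC P n E ∧ Nonempty (DerivedCategory.Q.obj E ≅ F)) ↔ PCoh.IsOfFiniteType P ((DerivedCategory.homologyFunctor C n).obj F) := by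
  refine ⟨fun h => Groth.L13.PCoh.IsN.ft_homology P hqs h hac, fun h => ?_⟩
  let X := DerivedCategory.Q.objPreimage F
  let e : DerivedCategory.Q.obj X ≅ F := DerivedCategory.Q.objObjPreimageIso F
  have hz : ∀ i, n < i → IsZero (X.homology i) := fun i hi =>
    (Groth.L13.PCoh.isZero_homologyFunctor_Q_iff X i).1
      ((hac i hi).of_iso ((DerivedCategory.homologyFunctor C i).mapIso e))
  let z : (0 : CochainComplex C ℤ) ⟶ X := 0
  have hz0 : ∀ i, IsZero ((0 : CochainComplex C ℤ).homology i) := fun i =>
    (HomologicalComplex.homologyFunctor C (ComplexShape.up ℤ) i).map_isZero (isZero_zero _)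
  haveI : IsIso (CochainComplex.mappingCone.inr z) := by
    have hfi : ∀ i, IsIso ((CochainComplex.mappingCone.inr z).f i) := fun i => by
      refine ⟨(CochainComplex.mappingCone.snd z).v i i (add_zero i), CochainComplex.mappingCone.inr_f_snd_v z i, ?_⟩
      have h0 : (CochainComplex.mappingCone.fst z).1.v i (i + 1) rfl = 0 :=
        (Groth.L13.PCoh.isZero_zero_X (i + 1)).eq_of_tgt _ _
      simpa [h0] using CochainComplex.mappingCone.id_X z i (i + 1) rfl
    exact HomologicalComplex.Hom.isIso_of_components _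
  have hft : PCoh.IsOfFiniteType P ((CochainComplex.mappingCone z).homology n) := by
    refine Groth.L13.PCoh.ft_of_iso P ?_ h
    exact ((DerivedCategory.homologyFunctor C n).mapIso e).symm ≪≫
      (DerivedCategory.homologyFunctorFactors C n).app X ≪≫
      (HomologicalComplex.homologyFunctor C (ComplexShape.up ℤ) n).mapIso (asIso (CochainComplex.mappingCone.inr z))
  obtain ⟨E, v, t, P₁, -, -, hi, -, hP₁, ⟨i₀⟩, ht⟩ := Groth.L13.PCoh.step P hql n z
    (Groth.L13.PCoh.approx_zero (n + 1) fun i hi => hz i (by omega)) hft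
  refine Groth.L13.PCoh.IsN.of_iso P (Groth.L13.PCoh.isN_of_approx_Q P hsum hql t ⟨⟨n, fun j hj => ?_⟩,
    fun j hj => ?_⟩ ht) e
  · haveI := hi j hj.ne'
    exact (Groth.L13.PCoh.isZero_zero_X j).of_iso (asIso (v.f j)).symm
  · rcases eq_or_ne j n with rfl | hne
    · exact P.prop_of_iso i₀.symm (Groth.L13.PCoh.prop_biprod P hsum hP₁
        (Groth.L13.PCoh.prop_of_isZero P (Groth.L13.PCoh.isZero_zero_X j)))
    · haveI := hi j hne
      exact P.prop_of_iso (asIso (v.f j)) (Groth.L13.PCoh.prop_of_isZero P (Groth.L13.PCoh.isZero_zero_X j))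

end Groth.Agent.S5603
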