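import Groth.Statements.S18745
import Groth.Agent.L13.ModPair.Limit

set_option autoImplicit false
universe u
open CategoryTheory CategoryTheory.Limits AlgebraicGeometry TopologicalSpace
open ModPair

namespace Groth.Agent.S18745

/-- Let S be a quasi-compact quasi-separated scheme, (X_i, I_i) a cofiltered system of S-schemes, all
quasi-compact and quasi-separated, carrying quasi-coherent ideal sheaves of effective Cartier
divisors, with affine and minimal transition morphisms, and let X be its limit (as an S-scheme) with
projections π_i and modulus I = I_i.comap π_i for every i. Let Y ⟶ S be locally of finite type with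
Y quasi-compact and quasi-separated, carrying the ideal sheaf I_Y of an effective Cartier divisor.
Assume that either every transition morphism is scheme-theoretically dominant, or Y ⟶ S is locally
of finite presentation. Then every S-morphism φ : X ⟶ Y satisfying the modulus condition I ≤
I_Y.comap φ descends: for some i there is an S-morphism φ_i : X_i ⟶ Y satisfying the modulus
condition I_i ≤ I_Y.comap φ_i with π_i ≫ φ_i = φ. (The base is taken to be a scheme, that is the
base modulus pair with empty modulus; morphisms over an arbitrary base modulus pair are among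
these.) -/
theorem result {S : Scheme.{u}}
    [CompactSpace S] [QuasiSeparatedSpace S] {I : Type u} [SmallCategory I] [IsCofiltered I]
    (D : I ⥤ Over S) (c : Cone D) (hc : IsLimit c)
    [∀ (i j : I) (t : i ⟶ j), IsAffineHom (D.map t).left]
    [∀ i, CompactSpace (D.obj i).left] [∀ i, QuasiSeparatedSpace (D.obj i).left]
    (J : ∀ i, (D.obj i).left.IdealSheafData) (hJ : ∀ i, BlowUp.IsEffCartierIdeal (J i))
    (hmin : ∀ (i j : I) (t : i ⟶ j), ModPair.IsMinimal (J i) (J j) (D.map t).left)
    (IX : c.pt.left.IdealSheafData) (hIX : ∀ i, IX = (J i).comap (c.π.app i).left)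
    (Y : Over S) [CompactSpace Y.left] [QuasiSeparatedSpace Y.left] [LocallyOfFiniteType Y.hom]
    (IY : Y.left.IdealSheafData) (hY : BlowUp.IsEffCartierIdeal IY)
    (h : (∀ (i j : I) (t : i ⟶ j), IsSchemeTheoreticallyDominant (D.map t).left) ∨
      LocallyOfFinitePresentation Y.hom)
    (φ : c.pt ⟶ Y) (hφ : ModPair.IsAmbient IX IY φ.left) :
    ∃ (i : I) (φi : D.obj i ⟶ Y), ModPair.IsAmbient (J i) IY φi.left ∧ c.π.app i ≫ φi = φ := by
  obtain ⟨i, φi, hi⟩ := Groth.L13.MP.exists_factor_stage hc Y h φ
  haveI : ∀ {i j : I} (f : i ⟶ j), IsAffineHom ((D ⋙ Over.forget S).map f) := fun {i j} f =>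
    inferInstanceAs (IsAffineHom (D.map f).left)
  haveI : ∀ i, CompactSpace ((D ⋙ Over.forget S).obj i) := fun i => inferInstanceAs (CompactSpace (D.obj i).left)
  haveI : ∀ i, QuasiSeparatedSpace ((D ⋙ Over.forget S).obj i) := fun i =>
    inferInstanceAs (QuasiSeparatedSpace (D.obj i).left)
  have hle : (J i).comap (c.π.app i).left ≤ (IY.comap φi.left).comap (c.π.app i).left := by
    rw [← hIX i, ← Scheme.IdealSheafData.comap_comp, show (c.π.app i).left ≫ φi.left = φ.left from congrArg CommaMorphism.left hi]
    exact hφ
  obtain ⟨j, t, ht⟩ := Groth.L13.MP.exists_le_comap_stage (D := D ⋙ Over.forget S) (c := (Over.forget S).mapCone c)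
    (isLimitOfPreserves _ hc) (i := i) (J i) (IY.comap φi.left) (Groth.L13.MP.LocFG.of_isEffCartier (hJ i)) hle
  refine ⟨j, D.map t ≫ φi, ?_, ?_⟩
  · show J j ≤ IY.comap ((D.map t).left ≫ φi.left)
    rw [hmin j i t, Scheme.IdealSheafData.comap_comp]
    exact ht
  · rw [← hi, ← Category.assoc, c.w]

end Groth.Agent.S18745
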