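import Groth.Statements.S16642
import Groth.Agent.L08.TorusWeights.Parabolic
import Groth.Agent.L08.TorusWeights.Reductive
import Groth.Agent.L08.Borel.RedRankTorus
-- import your own Groth.Agent.* helpers here

set_option autoImplicit false
set_option backward.isDefEq.respectTransparency.types false
set_option linter.style.haveILetI false
open CategoryTheory MonoidalCategory CartesianMonoidalCategory MonObj GrpObj AlgebraicGeometry
universe u
open RedSub

namespace Groth.Agent.S16642

/-- For a parabolic subgroup P of a reductive group scheme G over a scheme S, etale-locally on S there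
is a maximal torus of G contained in P. -/
theorem result {S : Scheme.{u}} {G P : Over S} [GrpObj G] [GrpObj P]
    (hG : Red.IsReductive G) (p : P ⟶ G) (hP : Red.IsParabolic p) (s : S) :
    ∃ (S' : Scheme.{u}) (f : S' ⟶ S) (_ : Etale f), s ∈ Set.range f.base ∧
      ∃ (T : Over S') (_ : GrpObj T) (t : T ⟶ Red.bc f P), IsMonHom t ∧
        Red.IsMaximalTorus (t ≫ (Over.pullback f).map p) := by
  haveI := hG.1; haveI := hG.2.1
  haveI := hP.1; haveI := hP.2.1; haveI := hP.2.2.1
  haveI : QuasiCompact G.hom := inferInstance
  obtain ⟨S₁, f, hf, hfs, T, gT, i, hi⟩ := Groth.L08.Borel.hasMaxTorusEtaleLocally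
    (Groth.L08.TorusWeights.redRankLocallyConstant_of_isReductive hG)
  haveI := hf; haveI := hfs
  haveI : Smooth (Red.bc f G).hom := inferInstanceAs (Smooth (Limits.pullback.snd G.hom f))
  haveI : IsAffineHom (Red.bc f G).hom := MorphismProperty.pullback_snd (P := @IsAffineHom) G.hom f inferInstance
  haveI : Smooth (Red.bc f P).hom := inferInstanceAs (Smooth (Limits.pullback.snd P.hom f))
  haveI : IsMonHom ((Over.pullback f).map p) := Groth.L25.MonoClosed.isMonHom_pullbackMap _ _
  haveI : IsClosedImmersion ((Over.pullback f).map p).left :=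
    MorphismProperty.of_isPullback (Groth.L25.SchImage.isPullback_fst_map f p) ‹_›
  obtain ⟨S₂, F, hF, hFs, t, ht, hmax⟩ := Groth.L08.TorusWeights.exists_maxTorus_in_parabolic hi
    ((Over.pullback f).map p)
    (Groth.L08.TorusWeights.hasMaxTorusFibres_bc (Groth.L08.TorusWeights.hasMaxTorusFibres_of_parabolic
      (Groth.L08.TorusWeights.isConnected_of_isReductive hG) p hP) f)
  haveI := hF; haveI := ht
  haveI : Surjective (F ≫ f) := inferInstance
  obtain ⟨q, hq⟩ := (F ≫ f).surjective s
  refine ⟨S₂, F ≫ f, inferInstance, ⟨q, hq⟩, _, inferInstance, t ≫ (ActBC.bcCompIso F f P rfl).hom, inferInstance, ?_⟩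
  have e := Groth.L08.Borel.isMaximalTorus_comp_iso hmax (ActBC.bcCompIso F f G rfl)
  convert e using 1
  simp only [Category.assoc, ActBC.bcCompIso_hom_naturality]

end Groth.Agent.S16642
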