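import Groth.Statements.S3962
import Groth.Agent.L08.Borel.BorelNorm
import Groth.Agent.L08.Borel.CartanPreimage

set_option autoImplicit false
set_option backward.isDefEq.respectTransparency.types false
set_option linter.style.haveILetI false
open CategoryTheory MonoidalCategory CartesianMonoidalCategory MonObj GrpObj AlgebraicGeometry
universe u
open RedSub

namespace Groth.Agent.S3962

/-- Let G be a reductive S-group and B ⟶ G a Borel subgroup in the following sense: a sub-group-scheme
of type (R) whose geometric fibres are Borel subgroups (closedness is not assumed). Then B is closed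
in G and B is its own normaliser: a point of G normalises B (after every base change) if and only if
it lies in B. -/
theorem result {S : Scheme.{u}} {G B : Over S} [GrpObj G] [GrpObj B]
    (hG : Red.IsReductive G) (i : B ⟶ G) (hB : RedSub.IsBorelSub i) :
    IsClosedImmersion i.left ∧ Red.IsNormalizerOf i i := by
  obtain ⟨⟨⟨hm, himm⟩, hsm, -, -, -⟩, hb⟩ := hB
  haveI := hm; haveI := hsm; haveI := himm
  haveI := hG.1; haveI := hG.2.1
  haveI : QuasiCompact G.hom := inferInstance
  haveI : Mono i.left := inferInstance
  haveI : Mono i := CategoryTheory.Over.mono_of_mono_left i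
  obtain ⟨h1, h2⟩ := Groth.L08.Borel.borel_isNormalizerOf_self_rel
    (fun s => Groth.L08.Borel.isConnected_fibre_of_geom G s (hG.2.2 s).2.2.1) i hb
  exact ⟨h2, h1⟩

end Groth.Agent.S3962
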