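import Groth.Statements.S5543
import Groth.Agent.L14.Splitting.Etale

set_option autoImplicit false
set_option backward.isDefEq.respectTransparency.types false
set_option linter.style.haveILetI false
open CategoryTheory MonoidalCategory CartesianMonoidalCategory MonObj GrpObj AlgebraicGeometry
universe u
open RedSub

namespace Groth.Agent.S5543

/-- The version relative to a given maximal torus. Let G be a reductive S-group and i : T ⟶ G a maximal
torus. Then locally for the etale topology on S, G is splittable relative to T: every point of S is
in the image of an etale morphism f : U ⟶ S such that G_U has a splitting whose maximal torus is T_U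
with inclusion i_U. -/
theorem result {S : Scheme.{u}} {G T : Over S} [GrpObj G] [GrpObj T]
    (hG : Red.IsReductive G) (i : T ⟶ G) (hT : Red.IsMaximalTorus i) (s : S) :
    ∃ (U : Scheme.{u}) (f : U ⟶ S) (_ : Etale f), s ∈ Set.range f.base ∧
      ∃ (D : Red.SplitRed (Red.bc f G)) (e : D.T ≅ Red.bc f T), D.i = e.hom ≫ (Over.pullback f).map i := by
  obtain ⟨V, f, hf, r, hs, hR, hm, ⟨R⟩⟩ := Groth.L14.Splitting.exists_rootData_etale hG i hT s
  exact ⟨V, f, hf, hs, R.splitRed (fun _ => trivial) hR hm, Iso.refl _, (Category.id_comp _).symm⟩

end Groth.Agent.S5543
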