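import Groth.Statements.S8465
import Groth.Agent.L14.Chev.Simple
import Groth.Agent.L14.Chev.GTwo

set_option autoImplicit false
set_option backward.isDefEq.respectTransparency.types false
universe u
open CategoryTheory MonoidalCategory CartesianMonoidalCategory MonObj GrpObj AlgebraicGeometry CategoryTheory.Limits
open Red

namespace Groth.Agent.S8465

/-- Let G be a pinned reductive S-group: a splitting D (maximal torus T ≅ D_S(M), root datum with root
homomorphisms u_c : 𝔾_a ⟶ G for all roots c, system of simple roots Δ) such that for every simple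
root a the root homomorphisms of a and -a are dual to each other: u_a(x) u_{-a}(y) =
u_{-a}(y/(1+xy)) · a^∨(1+xy) · u_a(x/(1+xy)) whenever 1 + xy is invertible, where a^∨ : 𝔾_m ⟶ T is
the coroot of a read through the splitting. For a root a put w_a = u_a(1) u_{-a}(-1) u_a(1) (an
S-point of G). Let a ≠ b be simple roots with ⟨b, a^∨⟩ = -3 and ⟨a, b^∨⟩ = -1 (type G₂, a the short
root); put u_{a+b}(x) = w_b u_a(x) w_b⁻¹, u_{2a+b}(x) = (w_a w_b) u_a(x) (w_a w_b)⁻¹, u_{3a+b}(x) =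
w_a u_b(-x) w_a⁻¹ and u_{3a+2b}(x) = (w_b w_a) u_b(-x) (w_b w_a)⁻¹. Then for all points x, y of 𝔾_a:
u_b(y) u_a(x) = u_a(x) u_b(y) u_{a+b}(xy) u_{2a+b}(x²y) u_{3a+b}(x³y) u_{3a+2b}(x³y²); u_{a+b}(y)
u_a(x) = u_a(x) u_{a+b}(y) u_{2a+b}(2xy) u_{3a+b}(3x²y) u_{3a+2b}(3xy²); u_{2a+b}(y) u_a(x) = u_a(x)
u_{2a+b}(y) u_{3a+b}(3xy); u_{3a+b}(y) u_b(x) = u_b(x) u_{3a+b}(y) u_{3a+2b}(-xy); u_{2a+b}(y)
u_{a+b}(x) = u_{a+b}(x) u_{2a+b}(y) u_{3a+2b}(3xy). (The published statement is for a pinned group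
whose simple roots are exactly a and b; this row states it for two simple roots a ≠ b of any pinned
group.) -/
theorem result (S : Scheme.{u}) (e₁ : 𝟙_ (Over S) ⟶ Red.Ga S) (he₁ : Red.gaFn e₁ = 1)
    (G : Over S) [GrpObj G] (D : Red.Pinning G)
    (avc : D.idx → (Red.Gm S ⟶ D.T))
    (havc : ∀ a, avc a = Red.DSmap S (D.P.coroot a).toAddMonoidHom ≫ D.split.inv.hom.hom)
    (hpair : ∀ a ∈ D.base.support, ∀ (X : Over S) (x y : X ⟶ Red.Ga S), IsUnit (1 + Red.gaFn x * Red.gaFn y) →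
        ∃ (x' y' : X ⟶ Red.Ga S) (z : X ⟶ Red.Gm S), Red.gmFn z = 1 + Red.gaFn x * Red.gaFn y ∧
          Red.gaFn x' * Red.gmFn z = Red.gaFn x ∧ Red.gaFn y' * Red.gmFn z = Red.gaFn y ∧
          (x ≫ D.u a) * (y ≫ D.u (D.P.reflectionPerm a a)) = (y' ≫ D.u (D.P.reflectionPerm a a)) * (z ≫ avc a ≫ D.i) * (x' ≫ D.u a))
    (w : D.idx → (𝟙_ (Over S) ⟶ G))
    (hw : ∀ a, w a = (e₁ ≫ D.u a) * (e₁ ≫ D.u (D.P.reflectionPerm a a))⁻¹ * (e₁ ≫ D.u a))
    (a b : D.idx) (ha : a ∈ D.base.support) (hb : b ∈ D.base.support) (hne : a ≠ b)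
    (hba : D.P.pairing b a = -3) (hab : D.P.pairing a b = -1)
    (u11 : ∀ X : Over S, (X ⟶ Red.Ga S) → (X ⟶ G))
    (hu11 : ∀ (X : Over S) (x : X ⟶ Red.Ga S), u11 X x = (toUnit X ≫ w b) * (x ≫ D.u a) * (toUnit X ≫ w b)⁻¹)
    (u21 : ∀ X : Over S, (X ⟶ Red.Ga S) → (X ⟶ G))
    (hu21 : ∀ (X : Over S) (x : X ⟶ Red.Ga S), u21 X x = (toUnit X ≫ (w a * w b)) * (x ≫ D.u a) * (toUnit X ≫ (w a * w b))⁻¹)
    (u31 : ∀ X : Over S, (X ⟶ Red.Ga S) → (X ⟶ G))
    (hu31 : ∀ (X : Over S) (x : X ⟶ Red.Ga S), u31 X x = (toUnit X ≫ w a) * (x ≫ D.u b)⁻¹ * (toUnit X ≫ w a)⁻¹)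
    (u32 : ∀ X : Over S, (X ⟶ Red.Ga S) → (X ⟶ G))
    (hu32 : ∀ (X : Over S) (x : X ⟶ Red.Ga S), u32 X x = (toUnit X ≫ (w b * w a)) * (x ≫ D.u b)⁻¹ * (toUnit X ≫ (w b * w a))⁻¹)
    (X : Over S) (x y c11 c21 c31 c32 d21 d31 d32 f31 g32 k32 : X ⟶ Red.Ga S)
    (h11 : Red.gaFn c11 = Red.gaFn x * Red.gaFn y) (h21 : Red.gaFn c21 = Red.gaFn x ^ 2 * Red.gaFn y)
    (h31 : Red.gaFn c31 = Red.gaFn x ^ 3 * Red.gaFn y) (h32 : Red.gaFn c32 = Red.gaFn x ^ 3 * Red.gaFn y ^ 2)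
    (hd21 : Red.gaFn d21 = 2 * Red.gaFn x * Red.gaFn y) (hd31 : Red.gaFn d31 = 3 * Red.gaFn x ^ 2 * Red.gaFn y)
    (hd32 : Red.gaFn d32 = 3 * Red.gaFn x * Red.gaFn y ^ 2) (hf31 : Red.gaFn f31 = 3 * Red.gaFn x * Red.gaFn y)
    (hg32 : Red.gaFn g32 = - (Red.gaFn x * Red.gaFn y)) (hk32 : Red.gaFn k32 = 3 * Red.gaFn x * Red.gaFn y) :
    (y ≫ D.u b) * (x ≫ D.u a) = (x ≫ D.u a) * (y ≫ D.u b) * u11 X c11 * u21 X c21 * u31 X c31 * u32 X c32 ∧
      u11 X y * (x ≫ D.u a) = (x ≫ D.u a) * u11 X y * u21 X d21 * u31 X d31 * u32 X d32 ∧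
      u21 X y * (x ≫ D.u a) = (x ≫ D.u a) * u21 X y * u31 X f31 ∧
      u31 X y * (x ≫ D.u b) = (x ≫ D.u b) * u31 X y * u32 X g32 ∧
      u21 X y * u11 X x = u11 X x * u21 X y * u32 X k32 := by
  classical
  have hab' := Groth.L14.Chev.indep_simple D ha hb hne
  let c₁ := D.P.reflectionPerm b a
  let c₃ := D.P.reflectionPerm a b
  let c₂ := D.P.reflectionPerm a c₁
  let c₄ := D.P.reflectionPerm b c₃
  let m₃ := D.P.reflectionPerm c₃ c₃
  have r₁ : D.P.root c₁ = D.P.root a + D.P.root b := by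
    rw [D.P.root_reflectionPerm, D.P.reflection_apply_root, hab, neg_smul, one_smul, sub_neg_eq_add]
  have r₃ : D.P.root c₃ = (3 : ℤ) • D.P.root a + D.P.root b := by
    rw [D.P.root_reflectionPerm, D.P.reflection_apply_root, hba]; module
  have p₁ : D.P.pairing c₁ a = -1 := by
    rw [Groth.L14.Chart.RootCombo.pairing_of_eq D.P (k := c₁) (i := a) (j := b) (r := 1) (s := 1)
      (by rw [r₁, one_smul, one_smul]), D.P.pairing_same, hba]
    norm_num
  have p₃ : D.P.pairing c₃ b = -1 := by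
    rw [Groth.L14.Chart.RootCombo.pairing_of_eq D.P (k := c₃) (i := a) (j := b) (r := 3) (s := 1)
      (by rw [r₃, one_smul]), D.P.pairing_same, hab]
    norm_num
  have r₂ : D.P.root c₂ = (2 : ℤ) • D.P.root a + D.P.root b := by
    rw [D.P.root_reflectionPerm, D.P.reflection_apply_root, p₁, r₁]; module
  have r₄ : D.P.root c₄ = (3 : ℤ) • D.P.root a + (2 : ℤ) • D.P.root b := by
    rw [D.P.root_reflectionPerm, D.P.reflection_apply_root, p₃, r₃]; module
  have rm : D.P.root m₃ = (-3 : ℤ) • D.P.root a + (-1 : ℤ) • D.P.root b := by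
    rw [Groth.L14.Chev.root_self_refl, r₃]; module
  have hda : Groth.L14.Chev.DualAt avc D.u (Groth.L14.Chev.opp D.u) a :=
    ⟨(D.rootHom _).1, fun X x y h => hpair a ha X x y h⟩
  have hdb : Groth.L14.Chev.DualAt avc D.u (Groth.L14.Chev.opp D.u) b :=
    ⟨(D.rootHom _).1, fun X x y h => hpair b hb X x y h⟩
  have hacta := Groth.L14.Chev.actsBy_weyl avc havc D.rootHom e₁ he₁ a hda (hw a)
  have hactb := Groth.L14.Chev.actsBy_weyl avc havc D.rootHom e₁ he₁ b hdb (hw b)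
  let f₁ := Groth.L14.Chev.conjHom (w b) (D.u a)
  let f₂ := Groth.L14.Chev.conjHom (w a) f₁
  let f₃ := Groth.L14.Chev.conjHom (w a) (D.u b)⁻¹
  let f₄ := Groth.L14.Chev.conjHom (w b) f₃
  let g₃ := Groth.L14.Chev.conjHom (w a) (D.u (D.P.reflectionPerm b b))⁻¹
  let v' := Function.update (Function.update (Function.update (Function.update (Function.update D.u c₁ f₁) c₂ f₂)
    c₃ f₃) c₄ f₄) m₃ g₃
  have hneq : ∀ {p q : D.idx} {r s r' s' : ℤ}, D.P.root p = r • D.P.root a + s • D.P.root b →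
      D.P.root q = r' • D.P.root a + s' • D.P.root b → (r ≠ r' ∨ s ≠ s') → p ≠ q := by
    intro p q r s r' s' hp hq hrs e
    subst e
    have := hab' (r - r') (s - s') (by rw [sub_smul, sub_smul, ← add_sub_add_comm, ← hp, ← hq, sub_self])
    omega
  have z₁ : D.P.root c₁ = (1 : ℤ) • D.P.root a + (1 : ℤ) • D.P.root b := by rw [r₁, one_smul, one_smul]
  have z₂ : D.P.root c₂ = (2 : ℤ) • D.P.root a + (1 : ℤ) • D.P.root b := by rw [r₂, one_smul]
  have z₃ : D.P.root c₃ = (3 : ℤ) • D.P.root a + (1 : ℤ) • D.P.root b := by rw [r₃, one_smul]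
  have za : D.P.root a = (1 : ℤ) • D.P.root a + (0 : ℤ) • D.P.root b := by simp
  have zb : D.P.root b = (0 : ℤ) • D.P.root a + (1 : ℤ) • D.P.root b := by simp
  have zna : D.P.root (D.P.reflectionPerm a a) = (-1 : ℤ) • D.P.root a + (0 : ℤ) • D.P.root b := by
    rw [Groth.L14.Chev.root_self_refl]; module
  have znb : D.P.root (D.P.reflectionPerm b b) = (0 : ℤ) • D.P.root a + (-1 : ℤ) • D.P.root b := by
    rw [Groth.L14.Chev.root_self_refl]; module
  have v1 : v' c₁ = f₁ := by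
    simp [v', hneq z₁ rm (by simp), hneq z₁ r₄ (by simp), hneq z₁ z₃ (by simp), hneq z₁ z₂ (by simp)]
  have v2 : v' c₂ = f₂ := by
    simp [v', hneq z₂ rm (by simp), hneq z₂ r₄ (by simp), hneq z₂ z₃ (by simp)]
  have v3 : v' c₃ = f₃ := by simp [v', hneq z₃ rm (by simp), hneq z₃ r₄ (by simp)]
  have v4 : v' c₄ = f₄ := by simp [v', hneq r₄ rm (by simp)]
  have vm : v' m₃ = g₃ := by simp [v']
  have vkeep : ∀ g, g ≠ c₁ → g ≠ c₂ → g ≠ c₃ → g ≠ c₄ → g ≠ m₃ → v' g = D.u g := fun g h1 h2 h3 h4 h5 => by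
    simp [v', h1, h2, h3, h4, h5]
  have va : v' a = D.u a := vkeep a (hneq za z₁ (by simp)) (hneq za z₂ (by simp)) (hneq za z₃ (by simp))
    (hneq za r₄ (by simp)) (hneq za rm (by simp))
  have vb : v' b = D.u b := vkeep b (hneq zb z₁ (by simp)) (hneq zb z₂ (by simp)) (hneq zb z₃ (by simp))
    (hneq zb r₄ (by simp)) (hneq zb rm (by simp))
  have vna : v' (D.P.reflectionPerm a a) = D.u (D.P.reflectionPerm a a) := vkeep _ (hneq zna z₁ (by simp))
    (hneq zna z₂ (by simp)) (hneq zna z₃ (by simp)) (hneq zna r₄ (by simp)) (hneq zna rm (by simp))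
  have vnb : v' (D.P.reflectionPerm b b) = D.u (D.P.reflectionPerm b b) := vkeep _ (hneq znb z₁ (by simp))
    (hneq znb z₂ (by simp)) (hneq znb z₃ (by simp)) (hneq znb r₄ (by simp)) (hneq znb rm (by simp))
  have hf₁ := Groth.L14.Chev.isRootHom_conjHom hactb (g' := c₁) rfl (D.rootHom a)
  have hf₂ := Groth.L14.Chev.isRootHom_conjHom hacta (g' := c₂) rfl hf₁
  have hf₃ := Groth.L14.Chev.isRootHom_conjHom hacta (g' := c₃) rfl (Groth.L14.Chev.isRootHom_inv (D.rootHom b))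
  have hf₄ := Groth.L14.Chev.isRootHom_conjHom hactb (g' := c₄) rfl hf₃
  have hm₃ : D.P.reflectionPerm a (D.P.reflectionPerm b b) = m₃ := D.P.root.injective (by
    rw [D.P.root_reflectionPerm, Groth.L14.Chev.root_self_refl, map_neg, ← D.P.root_reflectionPerm a b,
      Groth.L14.Chev.root_self_refl])
  have hg₃ := Groth.L14.Chev.isRootHom_conjHom hacta hm₃ (Groth.L14.Chev.isRootHom_inv (D.rootHom _))
  have hv' : ∀ g, Red.IsRootHom D.i (D.split.hom.hom.hom ≫ Red.chi S (D.P.root g)) (v' g) := fun g => by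
    by_cases h5 : g = m₃
    · subst h5; rw [vm]; exact hg₃
    by_cases h4 : g = c₄
    · subst h4; rw [v4]; exact hf₄
    by_cases h3 : g = c₃
    · subst h3; rw [v3]; exact hf₃
    by_cases h2 : g = c₂
    · subst h2; rw [v2]; exact hf₂
    by_cases h1 : g = c₁
    · subst h1; rw [v1]; exact hf₁
    rw [vkeep g h1 h2 h3 h4 h5]; exact D.rootHom g
  have main : ∀ (R : Type u) [CommRing R] (j : Spec (CommRingCat.of R) ⟶ S) [IsOpenImmersion j]
      (C : Type u) [CommRing C] [Algebra R C] (x y : C),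
      Groth.L14.Chart.comm j (v' a) (v' b) x y =
          (Groth.L14.RankOne.gp j (x * y) ≫ v' c₁) * (Groth.L14.RankOne.gp j (-(x ^ 2 * y)) ≫ v' c₂) *
          (Groth.L14.RankOne.gp j (x ^ 3 * y) ≫ v' c₃) * (Groth.L14.RankOne.gp j (-(x ^ 3 * y ^ 2)) ≫ v' c₄) ∧
        Groth.L14.Chart.comm j (v' a) (v' c₁) x y =
          (Groth.L14.RankOne.gp j (2 * x * y) ≫ v' c₂) * (Groth.L14.RankOne.gp j (-(3 * x ^ 2 * y)) ≫ v' c₃) *
          (Groth.L14.RankOne.gp j (-(3 * x * y ^ 2)) ≫ v' c₄) ∧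
        Groth.L14.Chart.comm j (v' a) (v' c₂) x y = Groth.L14.RankOne.gp j (3 * x * y) ≫ v' c₃ ∧
        Groth.L14.Chart.comm j (v' b) (v' c₃) x y = Groth.L14.RankOne.gp j (-(x * y)) ≫ v' c₄ ∧
        Groth.L14.Chart.comm j (v' c₁) (v' c₂) x y = Groth.L14.RankOne.gp j (3 * x * y) ≫ v' c₄ := by
    intro R _ j _ C _ _ x y
    have ea : ∀ (C : Type u) [CommRing C] [Algebra R C],
        Groth.L14.Chev.weyl j v' C a (-1) = toUnit _ ≫ w a := fun C _ _ => by
      rw [Groth.L14.Chev.toUnit_weyl D.rootHom j e₁ he₁ a (hw a), Groth.L14.Chev.weyl, Groth.L14.Chev.weyl, va, vna]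
    have eb : ∀ (C : Type u) [CommRing C] [Algebra R C],
        Groth.L14.Chev.weyl j v' C b (-1) = toUnit _ ≫ w b := fun C _ _ => by
      rw [Groth.L14.Chev.toUnit_weyl D.rootHom j e₁ he₁ b (hw b), Groth.L14.Chev.weyl, Groth.L14.Chev.weyl, vb, vnb]
    have hWab : Groth.L14.Chev.WeylAct j v' a b (-1) (-1) := fun C _ _ z => by
      haveI := (D.rootHom b).1
      show _ = _ ≫ v' c₃
      rw [ea, vb, v3, Groth.L14.Chev.comp_conjHom, GrpObj.comp_inv, Int.cast_neg, Int.cast_one, neg_mul,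
        _root_.one_mul, Groth.L14.RankOne.gp_neg, GrpObj.inv_comp, _root_.inv_inv]
    have hWba : Groth.L14.Chev.WeylAct j v' b a (-1) 1 := fun C _ _ z => by
      show _ = _ ≫ v' c₁
      rw [eb, va, v1, Groth.L14.Chev.comp_conjHom]
      simp
    have hWbc : Groth.L14.Chev.WeylAct j v' b c₃ (-1) 1 := fun C _ _ z => by
      show _ = _ ≫ v' c₄
      rw [eb, v3, v4, Groth.L14.Chev.comp_conjHom]
      simp [f₃, f₄, Groth.L14.Chev.comp_conjHom]
    have hc₂ : D.P.reflectionPerm c₃ (D.P.reflectionPerm a a) = c₂ := D.P.root.injective (by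
      have hi3 : Groth.L14.Chev.Indep D.toSplitRed a c₃ := hab'.of_combo za z₃ (by norm_num)
      have h := hi3.pairs
      simp only [Set.mem_insert_iff, Set.mem_singleton_iff, Prod.mk.injEq] at h
      have e : D.P.pairing c₃ a = 3 := by
        rw [Groth.L14.Chart.RootCombo.pairing_of_eq D.P z₃ a, D.P.pairing_same, hba]; norm_num
      rw [D.P.root_reflectionPerm, D.P.reflection_apply_root, D.P.pairing_reflectionPerm_self_left,
        show D.P.pairing a c₃ = 1 by omega, Groth.L14.Chev.root_self_refl, r₂, r₃]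
      module)
    have hW3 : Groth.L14.Chev.WeylAct j v' c₃ (D.P.reflectionPerm a a) (-1) 1 := fun C _ _ z => by
      haveI := (D.rootHom b).1
      haveI := (D.rootHom (D.P.reflectionPerm b b)).1
      haveI := (D.rootHom a).1
      rw [hc₂, Groth.L14.Chev.weyl, v3, vm, vna, v2]
      simp only [f₁, f₂, f₃, g₃, Groth.L14.Chev.comp_conjHom, GrpObj.comp_inv, Int.cast_one, Int.cast_neg, _root_.one_mul]
      have hsq := Groth.L14.Chev.weyl_inv_conj avc havc D.rootHom j b a hab hdb (-z)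
      rw [neg_neg, ← Groth.L14.Chev.toUnit_weyl D.rootHom j e₁ he₁ b (hw b)] at hsq
      have hself := Groth.L14.Chev.weyl_self avc havc D.rootHom j e₁ he₁ a hda (hw a) (-z)
      rw [neg_neg] at hself
      have hNb : (toUnit (Groth.L14.RankOne.Sp j C) ≫ w b)⁻¹ = (Groth.L14.RankOne.gp j (1 : C) ≫ D.u b)⁻¹ *
          (Groth.L14.RankOne.gp j (-1 : C) ≫ D.u (D.P.reflectionPerm b b))⁻¹ *
          (Groth.L14.RankOne.gp j (1 : C) ≫ D.u b)⁻¹ := by
        rw [Groth.L14.Chev.toUnit_weyl D.rootHom j e₁ he₁ b (hw b), Groth.L14.Chev.weyl, Int.cast_neg, Int.cast_one,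
          _root_.mul_inv_rev, _root_.mul_inv_rev, _root_.mul_assoc]
      generalize toUnit (Groth.L14.RankOne.Sp j C) ≫ w a = Na at *
      generalize toUnit (Groth.L14.RankOne.Sp j C) ≫ w b = Nb at *
      calc Na * (Groth.L14.RankOne.gp j (1 : C) ≫ D.u b)⁻¹ * Na⁻¹ *
            (Na * (Groth.L14.RankOne.gp j (-1 : C) ≫ D.u (D.P.reflectionPerm b b))⁻¹ * Na⁻¹) *
            (Na * (Groth.L14.RankOne.gp j (1 : C) ≫ D.u b)⁻¹ * Na⁻¹) *
            Groth.L14.RankOne.gp j z ≫ D.u (D.P.reflectionPerm a a) *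
            (Na * (Groth.L14.RankOne.gp j (1 : C) ≫ D.u b)⁻¹ * Na⁻¹ *
            (Na * (Groth.L14.RankOne.gp j (-1 : C) ≫ D.u (D.P.reflectionPerm b b))⁻¹ * Na⁻¹) *
            (Na * (Groth.L14.RankOne.gp j (1 : C) ≫ D.u b)⁻¹ * Na⁻¹))⁻¹
          = Na * Nb⁻¹ * (Na⁻¹ * Groth.L14.RankOne.gp j z ≫ D.u (D.P.reflectionPerm a a) * Na) * Nb * Na⁻¹ := by
            rw [← _root_.inv_inv Nb, hNb]; group
        _ = Na * (Nb⁻¹ * (Groth.L14.RankOne.gp j (-z) ≫ D.u a) * Nb) * Na⁻¹ := by rw [← hself]; group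
        _ = _ := by rw [hsq]
    obtain ⟨h1, h2, h3, h4, h5⟩ := Groth.L14.Chev.g2_relations (j := j) hv' (σ₁ := (-1 : R)) (σ₂ := 1) (σ₃ := -1)
      (ν := 1) (by simp) (by simp) hab' hba r₁ r₂ r₃ r₄
      (fun A hA => by
        obtain ⟨a1, a2, a3⟩ := Groth.L14.Chev.string_base_of hv' hWab hWba hW3 hab' hba (e₁ := c₁) (e₂ := c₂)
          (e₃ := c₃) (by rw [r₁, add_comm]) (by rw [r₂, r₁]; module) (by rw [r₃, r₂]; module) hA
        exact ⟨by simpa using a1, by simpa using a2, by simpa using a3⟩)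
      (fun N hN => by
        refine (hWbc.top_value hv' hN (t := c₄) rfl (hab'.of_combo zb r₄ (by norm_num)) ?_).trans (by simp)
        rw [show D.P.root b + D.P.root c₄ = (3 : ℤ) • D.P.root a + (3 : ℤ) • D.P.root b by rw [r₄]; module]
        exact fun ⟨d, hd⟩ => by
          have := Groth.L14.Chart.RootCombo.multiple_le_two D.P (n := 3) (i := c₁) (k := d)
            (by rw [hd, r₁, Nat.cast_ofNat, smul_add])
          omega) x y
    refine ⟨h1.trans ?_, h2.trans ?_, h3.trans ?_, h4.trans ?_, h5.trans ?_⟩ <;>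
      simp [map_ofNat, _root_.mul_assoc]
  have e₁₁ : ∀ (X : Over S) (z : X ⟶ Red.Ga S), u11 X z = z ≫ v' c₁ := fun X z => by
    rw [hu11, v1, Groth.L14.Chev.comp_conjHom]
  have e₂₁ : ∀ (X : Over S) (z : X ⟶ Red.Ga S), u21 X z = z ≫ v' c₂ := fun X z => by
    rw [hu21, v2, Groth.L14.Chev.comp_conjHom, Groth.L14.Chev.comp_conjHom, MonObj.comp_mul]
    group
  have e₃₁ : ∀ (X : Over S) (z : X ⟶ Red.Ga S), u31 X z = z ≫ v' c₃ := fun X z => by
    rw [hu31, v3, Groth.L14.Chev.comp_conjHom, GrpObj.comp_inv]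
  have e₃₂ : ∀ (X : Over S) (z : X ⟶ Red.Ga S), u32 X z = z ≫ v' c₄ := fun X z => by
    rw [hu32, v4, Groth.L14.Chev.comp_conjHom, Groth.L14.Chev.comp_conjHom, GrpObj.comp_inv, MonObj.comp_mul]
    group
  simp only [e₁₁, e₂₁, e₃₁, e₃₂, ← va, ← vb]
  refine ⟨?_, ?_, ?_, ?_, ?_⟩ <;>
    refine Groth.L14.Chart.hom_ext_open fun R _ j _ C _ _ t => ?_
  all_goals
    haveI : ∀ g, IsMonHom (v' g) := fun g => (hv' g).1
    have pt : ∀ {z : X ⟶ Red.Ga S} {f}, Red.gaFn z = f →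
        t ≫ z = Groth.L14.RankOne.gp j ((Scheme.ΓSpecIso (CommRingCat.of C)).hom (t.left.appTop f)) := fun h => by
      rw [← Groth.L14.Chev.gv_comp_eq t _ h, Groth.L14.RankOne.gp_gv]
    have hflip : ∀ {p q : Red.Ga S ⟶ G} [IsMonHom p] [IsMonHom q] {r s : C} {Z : Groth.L14.RankOne.Sp j C ⟶ G},
        Groth.L14.Chart.comm j p q (-r) (-s) = Z →
          Groth.L14.RankOne.gp j s ≫ q * Groth.L14.RankOne.gp j r ≫ p =
            Groth.L14.RankOne.gp j r ≫ p * Groth.L14.RankOne.gp j s ≫ q * Z := by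
      intro p q _ _ r s Z h
      rw [← h, Groth.L14.Chart.comm, Groth.L14.RankOne.gp_neg, Groth.L14.RankOne.gp_neg, GrpObj.inv_comp,
        GrpObj.inv_comp]
      group
    simp only [MonObj.comp_mul, ← Category.assoc, pt (rfl : Red.gaFn x = _), pt (rfl : Red.gaFn y = _), pt h11, pt h21,
      pt h31, pt h32, pt hd21, pt hd31, pt hd32, pt hf31, pt hg32, pt hk32, map_mul, map_pow, map_neg, map_ofNat]
    generalize (Scheme.ΓSpecIso (CommRingCat.of C)).hom (t.left.appTop (Red.gaFn x)) = X'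
    generalize (Scheme.ΓSpecIso (CommRingCat.of C)).hom (t.left.appTop (Red.gaFn y)) = Y'
  · rw [hflip (main R j C (-X') (-Y')).1]
    simp only [← _root_.mul_assoc]
    congr 4 <;> ring_nf
  · rw [hflip (main R j C (-X') (-Y')).2.1]
    simp only [← _root_.mul_assoc]
    congr 3 <;> ring_nf
  · rw [hflip (main R j C (-X') (-Y')).2.2.1]
    congr 2 <;> ring_nf
  · rw [hflip (main R j C (-X') (-Y')).2.2.2.1]
    congr 2 <;> ring_nf
  · rw [hflip (main R j C (-X') (-Y')).2.2.2.2]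
    congr 2 <;> ring_nf

end Groth.Agent.S8465
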