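import Groth.Statements.S5236
import Groth.Agent.L25.Actions

set_option autoImplicit false
open CategoryTheory CategoryTheory.Limits AlgebraicGeometry MonoidalCategory
universe u
open RedSub

namespace Groth.Agent.S5236

open MonObj GrpObj CartesianMonoidalCategory in
theorem epi_fppf {S : Scheme.{u}} {A B : Over S} (c : A ⟶ B) [Surjective c.left] [Flat c.left]
    [LocallyOfFinitePresentation c.left] : Epi c := by
  have : Epi c.left := inferInstance
  exact Over.epi_of_epi_left c


/-- For group schemes and the fppf topology: if `i : H ⟶ G` is a normal monomorphism of `S`-group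
schemes and `q : G ⟶ Q` exhibits `Q` as the fppf quotient `G/H`, then there is exactly one
group-scheme structure on `Q` over `S` making `q` a homomorphism. -/
theorem result {S : Scheme.{u}} {H G Q : Over S} [GrpObj H] [hG : GrpObj G]
    (i : H ⟶ G) [IsMonHom i] [Mono i] (hn : AlgGrp.IsNormalHom i)
    (q : G ⟶ Q) (hq : RedSub.IsQuotient i q) :
    ∃! s : GrpObj Q, @IsMonHom (Over S) _ _ G Q hG.toMonObj s.toMonObj q := by
  open MonObj GrpObj CartesianMonoidalCategory in
  obtain ⟨hs, hf, hp, hpb⟩ := hq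
  have mulq : ∀ {T : Over S} (g : T ⟶ G) (w : T ⟶ H), (g * (w ≫ i)) ≫ q = g ≫ q := by
    intro T g w
    have e := congrArg (fun m => CartesianMonoidalCategory.lift g w ≫ m) hpb.w
    simp only [← Category.assoc, CartesianMonoidalCategory.lift_fst,
      CartesianMonoidalCategory.lift_whiskerLeft] at e
    rw [Hom.mul_def]
    exact e.symm
  have rep : ∀ {T : Over S} (a b : T ⟶ G), a ≫ q = b ≫ q → ∃ w : T ⟶ H, b = a * (w ≫ i) := by
    intro T a b hab
    obtain ⟨p, h1, h2⟩ := hpb.exists_lift a b hab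
    refine ⟨p ≫ CartesianMonoidalCategory.snd G H, ?_⟩
    rw [← h2, ← h1, Hom.mul_def, ← Category.assoc]
    congr 1
    ext <;> simp
  have cmul : ∀ {T : Over S} (a₁ a₂ b₁ b₂ : T ⟶ G), a₁ ≫ q = b₁ ≫ q → a₂ ≫ q = b₂ ≫ q →
      (a₁ * a₂) ≫ q = (b₁ * b₂) ≫ q := by
    intro T a₁ a₂ b₁ b₂ h1 h2
    obtain ⟨w₁, rfl⟩ := rep _ _ h1
    obtain ⟨w₂, rfl⟩ := rep _ _ h2
    obtain ⟨w', hw'⟩ := hn T a₂⁻¹ w₁
    rw [_root_.inv_inv] at hw'
    have e : a₁ * (w₁ ≫ i) * (a₂ * (w₂ ≫ i)) = a₁ * a₂ * ((w' * w₂) ≫ i) := by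
      rw [MonObj.mul_comp, ← hw']; group
    rw [e, mulq]
  have cinv : ∀ {T : Over S} (a b : T ⟶ G), a ≫ q = b ≫ q → a⁻¹ ≫ q = b⁻¹ ≫ q := by
    intro T a b h1
    obtain ⟨w, rfl⟩ := rep _ _ h1
    obtain ⟨w', hw'⟩ := hn T a w⁻¹
    have e : (a * (w ≫ i))⁻¹ = a⁻¹ * (w' ≫ i) := by
      rw [← hw', GrpObj.inv_comp]; group
    rw [e, mulq]
  have hqq : Surjective (q ⊗ₘ q).left ∧ Flat (q ⊗ₘ q).left ∧
      LocallyOfFinitePresentation (q ⊗ₘ q).left := by
    rw [tensorHom_def, Over.comp_left]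
    have := Groth.L25.Actions.of_whiskerRight @Surjective q G hs
    have := Groth.L25.Actions.of_whiskerRight @Flat q G hf
    have := Groth.L25.Actions.of_whiskerRight @LocallyOfFinitePresentation q G hp
    have := Groth.L25.Actions.of_whiskerLeft @Surjective Q q hs
    have := Groth.L25.Actions.of_whiskerLeft @Flat Q q hf
    have := Groth.L25.Actions.of_whiskerLeft @LocallyOfFinitePresentation Q q hp
    exact ⟨inferInstance, inferInstance, inferInstance⟩
  obtain ⟨hs2, hf2, hp2⟩ := hqq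
  obtain ⟨m, hm, -⟩ := Groth.L25.Actions.existsUnique_desc (q ⊗ₘ q) (μ[G] ≫ q) (fun Z g₁ g₂ hg => by
    have h1 := congrArg (fun x => x ≫ CartesianMonoidalCategory.fst Q Q) hg
    have h2 := congrArg (fun x => x ≫ CartesianMonoidalCategory.snd Q Q) hg
    simp only [Category.assoc, CartesianMonoidalCategory.tensorHom_fst,
      CartesianMonoidalCategory.tensorHom_snd] at h1 h2
    simp only [← Category.assoc] at h1 h2
    have := cmul _ _ _ _ h1 h2
    simp only [Hom.mul_def, ← CartesianMonoidalCategory.comp_lift,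
      CartesianMonoidalCategory.lift_fst_snd, Category.comp_id, Category.assoc] at this
    exact this)
  have : EffectiveEpi q.left := inferInstance
  obtain ⟨j, hj, -⟩ := Groth.L25.Actions.existsUnique_desc q (GrpObj.inv ≫ q) (fun Z g₁ g₂ hg => by
    have := cinv g₁ g₂ hg
    rwa [Hom.inv_def, Hom.inv_def, Category.assoc, Category.assoc] at this)
  have hq1 : Epi q := epi_fppf q
  have hq2 : Epi (q ⊗ₘ q) := epi_fppf _
  have hq3 : Epi ((q ⊗ₘ q) ⊗ₘ q) := by
    rw [tensorHom_def]
    have := Groth.L25.Actions.of_whiskerRight @Surjective (q ⊗ₘ q) G hs2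
    have := Groth.L25.Actions.of_whiskerRight @Flat (q ⊗ₘ q) G hf2
    have := Groth.L25.Actions.of_whiskerRight @LocallyOfFinitePresentation (q ⊗ₘ q) G hp2
    have := Groth.L25.Actions.of_whiskerLeft @Surjective (Q ⊗ Q) q hs
    have := Groth.L25.Actions.of_whiskerLeft @Flat (Q ⊗ Q) q hf
    have := Groth.L25.Actions.of_whiskerLeft @LocallyOfFinitePresentation (Q ⊗ Q) q hp
    have := epi_fppf ((q ⊗ₘ q) ▷ G)
    have := epi_fppf ((Q ⊗ Q) ◁ q)
    exact epi_comp _ _
  have hl : Epi ((𝟙_ (Over S)) ◁ q) := by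
    have := Groth.L25.Actions.of_whiskerLeft @Surjective (𝟙_ (Over S)) q hs
    have := Groth.L25.Actions.of_whiskerLeft @Flat (𝟙_ (Over S)) q hf
    have := Groth.L25.Actions.of_whiskerLeft @LocallyOfFinitePresentation (𝟙_ (Over S)) q hp
    exact epi_fppf _
  have hr : Epi (q ▷ (𝟙_ (Over S))) := by
    have := Groth.L25.Actions.of_whiskerRight @Surjective q (𝟙_ (Over S)) hs
    have := Groth.L25.Actions.of_whiskerRight @Flat q (𝟙_ (Over S)) hf
    have := Groth.L25.Actions.of_whiskerRight @LocallyOfFinitePresentation q (𝟙_ (Over S)) hp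
    exact epi_fppf _
  let M : MonObj Q :=
    { one := η[G] ≫ q
      mul := m
      one_mul := by
        rw [← cancel_epi ((𝟙_ (Over S)) ◁ q), whisker_exchange_assoc, comp_whiskerRight_assoc,
          ← tensorHom_def_assoc, hm, MonObj.one_mul_assoc, leftUnitor_naturality]
      mul_one := by
        rw [← cancel_epi (q ▷ (𝟙_ (Over S))), ← whisker_exchange_assoc, MonoidalCategory.whiskerLeft_comp_assoc,
          ← tensorHom_def'_assoc, hm, MonObj.mul_one_assoc, rightUnitor_naturality]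
      mul_assoc := by
        rw [← cancel_epi ((q ⊗ₘ q) ⊗ₘ q), ← tensorHom_id m Q, tensorHom_comp_tensorHom_assoc,
          Category.comp_id, hm, ← id_tensorHom Q m, associator_naturality_assoc,
          tensorHom_comp_tensorHom_assoc, Category.comp_id, hm]
        rw [show μ[G] ≫ q ⊗ₘ q = (μ[G] ⊗ₘ 𝟙 G) ≫ (q ⊗ₘ q) by rw [tensorHom_comp_tensorHom, Category.id_comp],
          show q ⊗ₘ μ[G] ≫ q = (𝟙 G ⊗ₘ μ[G]) ≫ (q ⊗ₘ q) by rw [tensorHom_comp_tensorHom, Category.id_comp], Category.assoc, Category.assoc, hm]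
        simp [MonObj.mul_assoc_assoc, tensorHom_id, id_tensorHom] }
  let Gq : GrpObj Q :=
    { toMonObj := M
      inv := j
      left_inv := by
        show CartesianMonoidalCategory.lift j (𝟙 Q) ≫ m = CartesianMonoidalCategory.toUnit Q ≫ η[G] ≫ q
        rw [← cancel_epi q, ← Category.assoc, CartesianMonoidalCategory.comp_lift, hj, Category.comp_id,
          show CartesianMonoidalCategory.lift (GrpObj.inv ≫ q) q = CartesianMonoidalCategory.lift GrpObj.inv (𝟙 G) ≫ (q ⊗ₘ q) by simp, Category.assoc, hm,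
          GrpObj.left_inv_assoc, ← Category.assoc q (CartesianMonoidalCategory.toUnit Q)]
        simp
      right_inv := by
        show CartesianMonoidalCategory.lift (𝟙 Q) j ≫ m = CartesianMonoidalCategory.toUnit Q ≫ η[G] ≫ q
        rw [← cancel_epi q, ← Category.assoc, CartesianMonoidalCategory.comp_lift, hj, Category.comp_id,
          show CartesianMonoidalCategory.lift q (GrpObj.inv ≫ q) = CartesianMonoidalCategory.lift (𝟙 G) GrpObj.inv ≫ (q ⊗ₘ q) by simp, Category.assoc, hm,
          GrpObj.right_inv_assoc, ← Category.assoc q (CartesianMonoidalCategory.toUnit Q)]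
        simp }
  refine ⟨Gq, @IsMonHom.mk _ _ _ _ _ _ _ _ rfl hm.symm, fun s hs' => GrpObj.ext _ _ (MonObj.ext _ _ ?_)⟩
  show _ = m
  rw [← cancel_epi (q ⊗ₘ q), hm]
  exact (@IsMonHom.mul_hom _ _ _ _ _ _ _ q hs').symm
end Groth.Agent.S5236
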