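import Groth.Statements.S5572
import Groth.Agent.L14.Coroot.Kernel

set_option autoImplicit false
set_option backward.isDefEq.respectTransparency.types false
set_option linter.style.haveILetI false
open CategoryTheory MonoidalCategory CartesianMonoidalCategory MonObj GrpObj AlgebraicGeometry
universe u
open RedSub

open Groth.L14.RankOne Groth.L25 Groth.L14.Chart Groth.L14.Chev.Cell
namespace Groth.Agent.S5572

/-- Let G be a split reductive S-group (splitting D, T ≅ D_S(M)) and N = {m | (α*, m) = 0 for all
coroots}, so that T/T' = D_S(N). Then there is a homomorphism f : G ⟶ D_S(N) inducing on T the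
canonical projection; any kernel of f is smooth over S with connected fibres and is killed by every
homomorphism from G to a commutative S-group scheme. -/
theorem result {S : Scheme.{u}} {G : Over S} [GrpObj G] (D : Red.SplitRed G)
    (N : AddSubgroup D.M) (hN : ∀ m : D.M, m ∈ N ↔ ∀ a : D.idx, D.P.coroot a m = 0) :
    ∃ f : G ⟶ Red.DS S ↥N, IsMonHom f ∧ D.i ≫ f = D.split.hom.hom.hom ≫ Red.DSmap S N.subtype ∧
      ∀ (K : Over S) [GrpObj K] (k : K ⟶ G) [IsMonHom k], AlgGrp.IsKernel k f →
        Smooth K.hom ∧ RedSub.HasConnectedFibres K ∧ RedSub.KilledByCommutative k := by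
  rcases isEmpty_or_nonempty S with h | h
  · obtain ⟨f⟩ := nonempty_hom G (Red.DS S ↥N)
    refine ⟨f, ⟨(subsingleton_hom _ _).elim _ _, (subsingleton_hom _ _).elim _ _⟩, (subsingleton_hom _ _).elim _ _,
      fun K _ k _ _ => ⟨?_, fun s => isEmptyElim s, fun A _ g _ _ => (subsingleton_hom _ _).elim _ _⟩⟩
    haveI := isEmpty_left K
    infer_instance
  · obtain ⟨b, -⟩ := exists_base_of_noOpp (D := D) (Ψ := ∅) ⟨fun _ _ _ h => absurd h (Set.notMem_empty _), fun _ _ h => absurd h (Set.notMem_empty _)⟩
    exact Groth.L14.Coroot.exists_hom_kernel b hN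

end Groth.Agent.S5572
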