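import Groth.Statements.S2989
import Groth.Agent.L14.Luna.Cartan
import Groth.Agent.L08.Borel.GenNilp
import Groth.Agent.L08.Borel.Cover
import Groth.Agent.L08.Borel.Fixed
import Groth.Agent.L25.SplitSub.Image
import Groth.Agent.S8392
-- import your own Groth.Agent.* helpers here

set_option autoImplicit false
set_option synthInstance.maxHeartbeats 200000
set_option backward.isDefEq.respectTransparency.types false
set_option linter.style.haveILetI false
open CategoryTheory MonoidalCategory CartesianMonoidalCategory MonObj GrpObj AlgebraicGeometry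
universe u
open Red

namespace Groth.Agent.S2989

/-- over an algebraically closed field a reductive group has no homomorphism to the additive group -/
theorem hom_Ga_eq_one {K : Type u} [Field K] [IsAlgClosed K] (G : Over (Spec (CommRingCat.of K))) [GrpObj G]
    (hG : Red.IsReductiveOver K G) (χ : G ⟶ Red.Ga (Spec (CommRingCat.of K))) [IsMonHom χ] : χ = 1 := by
  haveI := hG.1; haveI := hG.2.1; haveI := hG.2.2.1
  haveI : IsAffineHom Red.GaZ.hom := inferInstanceAs (IsAffineHom (Spec.map _))
  haveI : IsAffineHom (Red.Ga (Spec (CommRingCat.of K))).hom :=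
    inferInstanceAs (IsAffineHom (Limits.pullback.snd Red.GaZ.hom _))
  haveI : IsAffineHom G.hom := isAffineHom_of_isAffine _
  obtain ⟨T, _, iT, hT⟩ := Groth.L08.Borel.exists_maxTorus_gen G
  haveI := hT.1
  haveI := hT.2.1
  have hmt := Groth.L25.Locus.isMultTypeFT_of_isTorus hT.2.2.1
  obtain ⟨C, _, c, hc, -⟩ := Groth.L25.Locus.exists_centralizer (G := G)
    (Groth.L25.Locus.locally_of_multTypeFT hmt) iT
  haveI := hc.1; haveI := hc.2.1
  obtain ⟨t, ht⟩ := (hc.2.2 T iT).2 fun X' x h => by
    rw [← MonObj.mul_comp, ← MonObj.mul_comp, Groth.L25.Central.mul_comm_of_multTypeFT hmt]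
  haveI := Groth.L14.Luna.isIso_of_centralizer_maxTorus hG hT hc t ht
  have hT1 : iT ≫ χ = 1 := Groth.Agent.S8392.result _ T hmt (iT ≫ χ)
  have hC1 : c ≫ χ = 1 := by
    rw [← cancel_epi t, ← Category.assoc, ht, hT1, MonObj.comp_one]
  obtain ⟨U, hUne, hU⟩ := Groth.L08.Borel.exists_open_cartan hT hc
  let U' : Over (Spec (CommRingCat.of K)) := Over.mk (U.ι ≫ G.hom)
  let j : U' ⟶ G := Over.homMk U.ι rfl
  haveI : LocallyOfFiniteType U'.hom := inferInstanceAs (LocallyOfFiniteType (U.ι ≫ G.hom))
  haveI : IsReduced G.left := Groth.Agent.AV.isReduced_of_smooth_field (k := K) G.hom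
  haveI : IsReduced U'.left := inferInstanceAs (IsReduced (U : Scheme.{u}))
  have hjU : j ≫ χ = j ≫ 1 := Groth.L08.Borel.hom_ext_pts _ _ fun x => by
    obtain ⟨g, y, hgy⟩ := hU (x ≫ j) (by
      show U.ι.base (x.left.base _) ∈ U
      exact (x.left.base (IsLocalRing.closedPoint K)).2)
    let Φ : (𝟙_ (Over (Spec (CommRingCat.of K))) ⟶ G) →* (𝟙_ (Over (Spec (CommRingCat.of K))) ⟶ Red.Ga (Spec (CommRingCat.of K))) :=
      MonoidHom.mk' (fun g => g ≫ χ) fun a b => MonObj.mul_comp a b χ
    have hy : Φ (y ≫ c) = 1 := by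
      show (y ≫ c) ≫ χ = 1
      rw [Category.assoc, hC1, MonObj.comp_one]
    rw [← Category.assoc, ← Category.assoc, MonObj.comp_one, ← hgy]
    show Φ _ = 1
    rw [map_mul, map_mul, hy, _root_.mul_one, map_inv, mul_inv_cancel]
  haveI : IsLocallyNoetherian G.left := LocallyOfFiniteType.isLocallyNoetherian G.hom
  haveI : IrreducibleSpace G.left := Groth.L25.Component.irreducibleSpace G
  haveI : IsDominant U.ι := ⟨by
    rw [DenseRange, Scheme.Opens.range_ι]
    exact U.isOpen.dense hUne⟩
  exact Over.OverMorphism.ext (ext_of_isDominant_of_isSeparated (Red.Ga (Spec (CommRingCat.of K))).hom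
    (by rw [Over.w, Over.w]) U.ι (congrArg CommaMorphism.left hjU))

/-- First assertion (H¹(G, k) = 0 for k with trivial action). Let k be a field and G a reductive
k-group. Then every homomorphism of k-groups from G to the additive group is trivial. -/
theorem result (k : Type u) [Field k] (G : Over (Spec (CommRingCat.of k))) [GrpObj G]
    (hG : Red.IsReductive G) (φ : G ⟶ Red.Ga (Spec (CommRingCat.of k))) [IsMonHom φ] :
    φ = toUnit G ≫ η[Red.Ga (Spec (CommRingCat.of k))] := by
  let s : Spec (CommRingCat.of k) := IsLocalRing.closedPoint k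
  let pt := Red.geomPt s
  haveI : IsAffineHom G.hom := hG.1
  haveI : Smooth G.hom := hG.2.1
  haveI : IsAffineHom Red.GaZ.hom := inferInstanceAs (IsAffineHom (Spec.map _))
  haveI : IsAffineHom (Red.Ga (Spec (CommRingCat.of k))).hom :=
    inferInstanceAs (IsAffineHom (Limits.pullback.snd Red.GaZ.hom _))
  haveI : IsMonHom (1 : G ⟶ Red.Ga (Spec (CommRingCat.of k))) :=
    { one_hom := MonObj.comp_one η[G], mul_hom := by
        rw [MonObj.comp_one, ← lift_fst_comp_snd_comp, ← Hom.mul_def, MonObj.comp_one, MonObj.comp_one,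
          _root_.mul_one] }
  let e : Red.bc pt (Red.Ga (Spec (CommRingCat.of k))) ≅
      Red.Ga (Spec (CommRingCat.of (AlgebraicClosure ((Spec (CommRingCat.of k)).residueField s)))) :=
    ActBC.bcCompIso pt (Limits.IsTerminal.from specULiftZIsTerminal (Spec (CommRingCat.of k))) Red.GaZ
      (specULiftZIsTerminal.hom_ext _ _)
  haveI : IsMonHom e.hom := ActBC.bcCompIso_isMonHom (G := Red.GaZ) _ _ _
  haveI := Groth.L25.MonoClosed.isMonHom_pullbackMap pt φ
  have h1 : (Over.pullback pt).map φ ≫ e.hom = 1 := hom_Ga_eq_one (Red.geomFibre s G) (hG.2.2 s) _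
  haveI := Groth.L25.MonoClosed.isMonHom_pullbackMap pt (1 : G ⟶ Red.Ga (Spec (CommRingCat.of k)))
  have h2 : (Over.pullback pt).map (1 : G ⟶ Red.Ga (Spec (CommRingCat.of k))) ≫ e.hom = 1 :=
    hom_Ga_eq_one (Red.geomFibre s G) (hG.2.2 s) _
  have h3 := congrArg CommaMorphism.left ((cancel_mono e.hom).1 (h1.trans h2.symm))
  have h4 := congrArg (· ≫ Limits.pullback.fst _ _) h3
  simp only [Over.pullback_map_left, Limits.pullback.lift_fst] at h4
  haveI : IsReduced G.left := Groth.Agent.AV.isReduced_of_smooth_field (k := k) G.hom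
  haveI : Surjective pt := ⟨fun x => ⟨IsLocalRing.closedPoint _, by
    haveI : Subsingleton ↥(Spec (CommRingCat.of k)) := inferInstanceAs (Subsingleton (PrimeSpectrum k))
    exact Subsingleton.elim _ _⟩⟩
  haveI : Surjective (Limits.pullback.fst G.hom pt) := inferInstance
  refine Eq.trans ?_ Hom.one_def
  exact Over.OverMorphism.ext (ext_of_isDominant_of_isSeparated (Red.Ga (Spec (CommRingCat.of k))).hom
    (by rw [Over.w, Over.w]) (Limits.pullback.fst G.hom pt) h4)

end Groth.Agent.S2989
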