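import Groth.Statements.S16126
import Groth.Agent.L08.CentralGm
import Groth.Agent.L25.Bridge.Spec
import Mathlib.AlgebraicGeometry.Morphisms.ClosedImmersion

set_option autoImplicit false
set_option backward.isDefEq.respectTransparency.types false
set_option linter.style.haveILetI false
universe u
open CategoryTheory MonoidalCategory CartesianMonoidalCategory MonObj GrpObj AlgebraicGeometry CategoryTheory.Limits
open AlgGrp

namespace Groth.Agent.S16126

open Groth.L25.Bridge (P)
open Groth.L08.CentralGm (LZ)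
open TensorProduct WithConv

theorem key {k : Type u} [Field k] {A : Type u} [CommRing A] [HopfAlgebra k A]
    (f : P k (LZ k) ⟶ P k A) [IsMonHom f] [IsClosedImmersion f.left]
    (hcomm : ∀ (T : Over (Spec (CommRingCat.of k))) (t : T ⟶ P k (LZ k)) (g : T ⟶ P k A),
      (t ≫ f) * g = g * (t ≫ f)) :
    ∃ (χ : P k A ⟶ P k (LZ k)) (n : ℕ), IsMonHom χ ∧ 1 ≤ n ∧ f ≫ χ = 𝟙 (P k (LZ k)) ^ n := by
  let H₁ := Opposite.op (CommHopfAlgCat.of k (LZ k))
  let H₂ := Opposite.op (CommHopfAlgCat.of k A)
  let F : (hopfSpec (CommRingCat.of k)).obj H₁ ⟶ (hopfSpec (CommRingCat.of k)).obj H₂ :=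
    Grp.homMk (A := Grp.mk (P k (LZ k))) (B := Grp.mk (P k A)) f
  let φ := (hopfSpec.fullyFaithful (R := CommRingCat.of k)).preimage F
  let r : A →ₐc[k] LZ k := φ.unop.hom
  have hf : f.left = Spec.map (CommRingCat.ofHom (r : A →ₐ[k] LZ k).toRingHom) := by
    have h := (hopfSpec.fullyFaithful (R := CommRingCat.of k)).map_preimage F
    exact (congrArg (fun m => m.hom.hom.left) h).symm
  have hr : Function.Surjective r := by
    haveI : IsClosedImmersion (Spec.map (CommRingCat.ofHom (r : A →ₐ[k] LZ k).toRingHom)) := hf ▸ ‹IsClosedImmersion f.left›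
    have h1 := (IsClosedImmersion.isAffine_surjective_of_isAffine
      (Spec.map (CommRingCat.ofHom (r : A →ₐ[k] LZ k).toRingHom))).2
    intro y
    obtain ⟨x, hx⟩ := h1 ((Scheme.ΓSpecIso (CommRingCat.of (LZ k))).inv y)
    obtain ⟨a, rfl⟩ := (ConcreteCategory.bijective_of_isIso (Scheme.ΓSpecIso (CommRingCat.of A)).inv).2 x
    refine ⟨a, (ConcreteCategory.bijective_of_isIso (Scheme.ΓSpecIso (CommRingCat.of (LZ k))).inv).1 ?_⟩
    rw [← hx]
    exact congr(($(Scheme.ΓSpecIso_inv_naturality (CommRingCat.ofHom (r : A →ₐ[k] LZ k).toRingHom))).hom a)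
  have hc : ∀ a : A, (r : A →ₗ[k] LZ k).lTensor A (Coalgebra.comul a) =
      TensorProduct.comm k (LZ k) A ((r : A →ₗ[k] LZ k).rTensor A (Coalgebra.comul a)) := by
    let U : WithConv (A →ₐ[k] A ⊗[k] LZ k) := toConv Algebra.TensorProduct.includeLeft
    let V : WithConv (A →ₐ[k] A ⊗[k] LZ k) :=
      toConv ((Algebra.TensorProduct.includeRight : LZ k →ₐ[k] A ⊗[k] LZ k).comp (r : A →ₐ[k] LZ k))
    have hV : Spec.mapMulEquiv V = Spec.mapMulEquiv
        (toConv (Algebra.TensorProduct.includeRight : LZ k →ₐ[k] A ⊗[k] LZ k)) ≫ f := by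
      refine Over.OverMorphism.ext ?_
      rw [Over.comp_left, hf]
      exact Spec.map_comp (CommRingCat.ofHom (r : A →ₐ[k] LZ k).toRingHom) (CommRingCat.ofHom _)
    have h : U * V = V * U := Spec.mapMulEquiv.injective (by rw [map_mul, map_mul, hV, hcomm])
    intro a
    have ha := congrArg (fun m : WithConv (A →ₐ[k] A ⊗[k] LZ k) => m.ofConv a) h
    simp only [AlgHom.convMul_apply] at ha
    have e1 : ∀ z : A ⊗[k] A, Algebra.TensorProduct.lift U.ofConv V.ofConv (fun _ _ => Commute.all _ _) z =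
        (r : A →ₗ[k] LZ k).lTensor A z := by
      intro z
      induction z using TensorProduct.induction_on with
      | zero => simp
      | tmul x y => simp [U, V]
      | add x y hx hy => rw [map_add, map_add, hx, hy]
    have e2 : ∀ z : A ⊗[k] A, Algebra.TensorProduct.lift V.ofConv U.ofConv (fun _ _ => Commute.all _ _) z =
        TensorProduct.comm k (LZ k) A ((r : A →ₗ[k] LZ k).rTensor A z) := by
      intro z
      induction z using TensorProduct.induction_on with
      | zero => simp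
      | tmul x y => simp [U, V]
      | add x y hx hy => rw [map_add, map_add, map_add, hx, hy]
    rw [e1, e2] at ha
    exact ha
  obtain ⟨g, n, hg, hn, hrg⟩ := Groth.L08.CentralGm.exists_groupLike r hr hc
  let gg : GroupLike k A := ⟨g, hg⟩
  let c : LZ k →ₐc[k] A :=
    MonoidAlgebra.liftGroupLikeBialgHom.comp (MonoidAlgebra.mapDomainBialgHom k (zpowersHom (GroupLike k A) gg))
  let χ := ((hopfSpec (CommRingCat.of k)).map (CommHopfAlgCat.ofHom c).op)
  refine ⟨χ.hom.hom, n, χ.hom.isMonHom_hom, hn, ?_⟩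
  have hid : (𝟙 (P k (LZ k)) : _ ⟶ _) = Spec.mapMulEquiv (toConv (AlgHom.id k (LZ k))) := by
    ext1
    show 𝟙 _ = Spec.map (CommRingCat.ofHom (AlgHom.id k (LZ k)).toRingHom)
    exact (Spec.map_id _).symm
  have hrc : toConv ((r : A →ₐ[k] LZ k).comp (c : LZ k →ₐ[k] A)) = (toConv (AlgHom.id k (LZ k))) ^ n := by
    have hpow : ∀ j : ℕ, ((toConv (AlgHom.id k (LZ k))) ^ j).ofConv (Groth.L08.CentralGm.T k) =
        Groth.L08.CentralGm.T k ^ j := by
      intro j
      induction j with
      | zero => simp [AlgHom.convOne_def, MonoidAlgebra.one_def]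
      | succ j ih =>
        rw [pow_succ, pow_succ, ← ih]
        exact MonoidAlgebra.convMul_algHom_single_one _ _ _
    refine WithConv.ofConv_injective (MonoidAlgebra.algHom_ext' (MonoidHom.ext_mint ?_) (Subsingleton.elim _ _))
    rw [MonoidHom.comp_apply, MonoidHom.comp_apply]
    refine Eq.trans ?_ ((hrg.trans (hpow n).symm))
    change r (c (MonoidAlgebra.single (Multiplicative.ofAdd 1) 1)) = r g
    simp [c, gg]
  rw [hid, ← map_pow, ← hrc]
  ext1
  rw [Over.comp_left, hf]
  exact (Spec.map_comp (CommRingCat.ofHom (c : LZ k →ₐ[k] A).toRingHom)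
    (CommRingCat.ofHom (r : A →ₐ[k] LZ k).toRingHom)).symm

/-- Over an algebraically closed field k, let E and G be linear algebraic groups (affine smooth k-group
schemes) with G connected, i : 𝔾_m → E a homomorphism which is a closed immersion with central
image, and f : E → G a flat surjective homomorphism with kernel i (a central extension 1 → 𝔾_m → E →
G → 1). Then there exist a character χ : E → 𝔾_m and an integer n ≥ 1 such that χ ∘ i is the n-th
power map of 𝔾_m: for every point t of 𝔾_m with values in a k-scheme T, χ(i(t)) = tⁿ in the group of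
T-points of 𝔾_m. (The published lemma is stated in a setting where all groups are linear; for a
connected G that is not linear the conclusion can fail.) -/
theorem result (k : Type u) [Field k] [IsAlgClosed k]
    (E G : Over (Spec (CommRingCat.of k))) [GrpObj E] [IsAffine E.left] [Smooth E.hom]
    [GrpObj G] [IsAffine G.left] [Smooth G.hom] [ConnectedSpace ↥G.left]
    (i : Red.Gm (Spec (CommRingCat.of k)) ⟶ E) [IsMonHom i] [IsClosedImmersion i.left]
    (hcent : ∀ (T : Over (Spec (CommRingCat.of k))) (t : T ⟶ Red.Gm (Spec (CommRingCat.of k))) (g : T ⟶ E),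
      (t ≫ i) * g = g * (t ≫ i))
    (f : E ⟶ G) [IsMonHom f] [Flat f.left] [Surjective f.left] (hker : AlgGrp.IsKernel i f) :
    ∃ (χ : E ⟶ Red.Gm (Spec (CommRingCat.of k))) (n : ℕ), IsMonHom χ ∧ 1 ≤ n ∧
      ∀ (T : Over (Spec (CommRingCat.of k))) (t : T ⟶ Red.Gm (Spec (CommRingCat.of k))), (t ≫ i) ≫ χ = t ^ n := by
  obtain ⟨H, ⟨e⟩⟩ := (essImage_hopfSpec (G := Grp.mk E)).mpr ‹IsAffine E.left›
  let A := H.unop
  let eX : P k A ≅ E := (Grp.forget _).mapIso e
  let d := Groth.L25.Bridge.dsIso.{u} k ℤ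
  let dX : Red.Gm (Spec (CommRingCat.of k)) ≅ P k (LZ k) := (Grp.forget _).mapIso d
  haveI : IsMonHom eX.hom := e.hom.hom.isMonHom_hom
  haveI : IsMonHom eX.inv := e.inv.hom.isMonHom_hom
  haveI : IsMonHom dX.hom := d.hom.hom.isMonHom_hom
  haveI hdi : IsMonHom dX.inv := d.inv.hom.isMonHom_hom
  let fX := dX.inv ≫ i ≫ eX.inv
  haveI : IsIso eX.inv.left := inferInstanceAs (IsIso ((Over.forget _).map eX.inv))
  haveI : IsIso dX.inv.left := inferInstanceAs (IsIso ((Over.forget _).map dX.inv))
  haveI : IsClosedImmersion fX.left := inferInstanceAs (IsClosedImmersion (dX.inv.left ≫ i.left ≫ eX.inv.left))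
  obtain ⟨χ, n, _, hn, hχ⟩ := key fX (fun T t g => by
    rw [← cancel_mono eX.hom, MonObj.mul_comp, MonObj.mul_comp]
    simp only [fX, Category.assoc, Iso.inv_hom_id, Category.comp_id]
    have h := hcent T (t ≫ dX.inv) (g ≫ eX.hom)
    simp only [Category.assoc] at h
    exact h)
  haveI : IsMonHom (χ ≫ dX.inv) := @instIsMonHomComp _ _ _ _ _ _ _ _ _ χ dX.inv ‹_› hdi
  refine ⟨eX.inv ≫ χ ≫ dX.inv, n, inferInstance, hn, fun T t => ?_⟩
  have h := congrArg (fun m => (t ≫ dX.hom) ≫ m ≫ dX.inv) hχ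
  simp only [fX, Category.assoc, Iso.hom_inv_id_assoc] at h
  have hp : ∀ x : T ⟶ P k (LZ k), (x ^ n) ≫ dX.inv = (x ≫ dX.inv) ^ n := fun x => by
    exact @MonObj.pow_comp _ _ _ _ _ _ _ _ x n dX.inv hdi
  rw [Category.assoc, h, ← Category.assoc t, ← Category.assoc (t ≫ dX.hom), MonObj.comp_pow, Category.comp_id]
  erw [hp]
  rw [Category.assoc, Iso.hom_inv_id, Category.comp_id]

end Groth.Agent.S16126
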