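import Groth.Statements.S2963
import Groth.Agent.L14.Isog.Iso

set_option autoImplicit false
set_option backward.isDefEq.respectTransparency.types false
set_option linter.style.haveILetI false
open CategoryTheory MonoidalCategory CartesianMonoidalCategory MonObj GrpObj AlgebraicGeometry
universe u
open RedX

namespace Groth.Agent.S2963

/-- With conjugacy of maximal tori over the algebraically closed base field carried as a hypothesis (the
published statement takes it as known): let k be an algebraically closed field and G a reductive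
k-group in which any maximal torus is carried into any other by conjugation by some k-point of G.
Then the root data of any two splittings of G are isomorphic (an equivalence of root pairings in
Mathlib's sense). -/
theorem result (k : Type u) [Field k] [IsAlgClosed k]
    (G : Over (Spec (CommRingCat.of k))) [GrpObj G] (hG : Red.IsReductive G)
    (hconj : ∀ (T T' : Over (Spec (CommRingCat.of k))) [GrpObj T] [GrpObj T'] (i : T ⟶ G) (i' : T' ⟶ G),
      Red.IsMaximalTorus i → Red.IsMaximalTorus i' → ∃ g : 𝟙_ (Over (Spec (CommRingCat.of k))) ⟶ G,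
        ∀ (X : Over (Spec (CommRingCat.of k))) (t : X ⟶ T), ∃ t' : X ⟶ T',
          (toUnit X ≫ g) * (t ≫ i) * (toUnit X ≫ g)⁻¹ = t' ≫ i')
    (D D' : Red.SplitRed G) : Nonempty (RootPairing.Equiv D.P D'.P) := by
  obtain ⟨g, hg⟩ := hconj D.T D'.T D.i D'.i D.maximalTorus D'.maximalTorus
  haveI := D.maximalTorus.1; haveI := D.maximalTorus.2.1
  haveI := D'.maximalTorus.1; haveI := D'.maximalTorus.2.1
  obtain ⟨φ, hφ⟩ := hg D.T (𝟙 _)
  rw [Category.id_comp] at hφ
  haveI := Groth.L14.Chev.isMonHom_inner g
  haveI := Groth.L14.Chev.isIso_inner g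
  have hφ' : φ ≫ D'.i = D.i ≫ Groth.L14.Chev.inner g := by rw [← hφ, Groth.L14.Chev.comp_inner]
  haveI : IsMonHom φ := Groth.L08.Borel.isMonHom_of_comp_mono φ D'.i (D.i ≫ Groth.L14.Chev.inner g) hφ'
  haveI : IsMonHom (inv (Groth.L14.Chev.inner g)) := inferInstanceAs (IsMonHom (asIso (Groth.L14.Chev.inner g)).inv)
  haveI : IsIso φ := (Groth.L08.Borel.isMaxTorus_of_isMaximalTorus D.maximalTorus).2.2.2 D'.T
    (D'.i ≫ inv (Groth.L14.Chev.inner g)) φ D'.maximalTorus.2.2.1 (by
      rw [← Category.assoc, hφ', Category.assoc, IsIso.hom_inv_id, Category.comp_id])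
  exact Groth.L14.Isog.nonempty_equiv D D' _ φ hφ'

end Groth.Agent.S2963
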