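import Groth.Statements.S8463
import Groth.Agent.L14.Chev.Simple

set_option autoImplicit false
set_option backward.isDefEq.respectTransparency.types false
universe u
open CategoryTheory MonoidalCategory CartesianMonoidalCategory MonObj GrpObj AlgebraicGeometry CategoryTheory.Limits
open Red

namespace Groth.Agent.S8463

/-- Let G be a pinned reductive S-group: a splitting D (maximal torus T ≅ D_S(M), root datum with root
homomorphisms u_c : 𝔾_a ⟶ G for all roots c, system of simple roots Δ) such that for every simple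
root a the root homomorphisms of a and -a are dual to each other: u_a(x) u_{-a}(y) =
u_{-a}(y/(1+xy)) · a^∨(1+xy) · u_a(x/(1+xy)) whenever 1 + xy is invertible, where a^∨ : 𝔾_m ⟶ T is
the coroot of a read through the splitting. For a root a put w_a = u_a(1) u_{-a}(-1) u_a(1) (an
S-point of G). Let a ≠ b be simple roots with ⟨b, a^∨⟩ = ⟨a, b^∨⟩ = -1 (type A₂) and put u_{a+b}(x)
= w_b u_a(x) w_b⁻¹. Then u_b(y) u_a(x) = u_a(x) u_b(y) u_{a+b}(x y) for all points x, y of 𝔾_a. (The
published statement is for a pinned group whose simple roots are exactly a and b; this row states it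
for two simple roots a ≠ b of any pinned group.) -/
theorem result (S : Scheme.{u}) (e₁ : 𝟙_ (Over S) ⟶ Red.Ga S) (he₁ : Red.gaFn e₁ = 1)
    (G : Over S) [GrpObj G] (D : Red.Pinning G)
    (avc : D.idx → (Red.Gm S ⟶ D.T))
    (havc : ∀ a, avc a = Red.DSmap S (D.P.coroot a).toAddMonoidHom ≫ D.split.inv.hom.hom)
    (hpair : ∀ a ∈ D.base.support, ∀ (X : Over S) (x y : X ⟶ Red.Ga S), IsUnit (1 + Red.gaFn x * Red.gaFn y) →
        ∃ (x' y' : X ⟶ Red.Ga S) (z : X ⟶ Red.Gm S), Red.gmFn z = 1 + Red.gaFn x * Red.gaFn y ∧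
          Red.gaFn x' * Red.gmFn z = Red.gaFn x ∧ Red.gaFn y' * Red.gmFn z = Red.gaFn y ∧
          (x ≫ D.u a) * (y ≫ D.u (D.P.reflectionPerm a a)) = (y' ≫ D.u (D.P.reflectionPerm a a)) * (z ≫ avc a ≫ D.i) * (x' ≫ D.u a))
    (w : D.idx → (𝟙_ (Over S) ⟶ G))
    (hw : ∀ a, w a = (e₁ ≫ D.u a) * (e₁ ≫ D.u (D.P.reflectionPerm a a))⁻¹ * (e₁ ≫ D.u a))
    (a b : D.idx) (ha : a ∈ D.base.support) (hb : b ∈ D.base.support) (hne : a ≠ b)
    (hba : D.P.pairing b a = -1) (hab : D.P.pairing a b = -1)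
    (uab : ∀ X : Over S, (X ⟶ Red.Ga S) → (X ⟶ G))
    (huab : ∀ (X : Over S) (x : X ⟶ Red.Ga S), uab X x = (toUnit X ≫ w b) * (x ≫ D.u a) * (toUnit X ≫ w b)⁻¹)
    (X : Over S) (x y xy : X ⟶ Red.Ga S) (hxy : Red.gaFn xy = Red.gaFn x * Red.gaFn y) :
    (y ≫ D.u b) * (x ≫ D.u a) = (x ≫ D.u a) * (y ≫ D.u b) * uab X xy := by
  classical
  have hab' := Groth.L14.Chev.indep_simple D ha hb hne
  let c := D.P.reflectionPerm b a
  have hc : D.P.root c = D.P.root a + D.P.root b := by
    rw [D.P.root_reflectionPerm, D.P.reflection_apply_root, hab, neg_smul, one_smul, sub_neg_eq_add]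
  have hd : Groth.L14.Chev.DualAt avc D.u (Groth.L14.Chev.opp D.u) b :=
    ⟨(D.rootHom _).1, fun X x y h => hpair b hb X x y h⟩
  have hact := Groth.L14.Chev.actsBy_weyl avc havc D.rootHom e₁ he₁ b hd (hw b)
  let v' := Function.update D.u c (Groth.L14.Chev.conjHom (w b) (D.u a))
  have hv' : ∀ g, Red.IsRootHom D.i (D.split.hom.hom.hom ≫ Red.chi S (D.P.root g)) (v' g) := fun g => by
    by_cases h : g = c
    · subst h
      rw [show v' c = _ from Function.update_self ..]
      exact Groth.L14.Chev.isRootHom_conjHom hact rfl (D.rootHom a)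
    · simpa [v', h] using D.rootHom g
  have hne' : ∀ g (r s : ℤ), D.P.root g = r • D.P.root a + s • D.P.root b → (r ≠ 1 ∨ s ≠ 1) → v' g = D.u g := by
    intro g r s hg hrs
    have : g ≠ c := fun e => by
      have := hab' (r - 1) (s - 1) (by
        rw [sub_smul, sub_smul, one_smul, one_smul, ← add_sub_add_comm, ← hg, e, hc, sub_self])
      omega
    simp [v', this]
  have va : v' a = D.u a := hne' a 1 0 (by simp) (Or.inr (by simp))
  have vb : v' b = D.u b := hne' b 0 1 (by simp) (Or.inl (by simp))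
  have vn : v' (D.P.reflectionPerm b b) = D.u (D.P.reflectionPerm b b) :=
    hne' _ 0 (-1) (by rw [Groth.L14.Chev.root_self_refl]; simp) (Or.inl (by simp))
  have vc : v' c = Groth.L14.Chev.conjHom (w b) (D.u a) := by simp [v']
  have h21 : 2 • D.P.root a + D.P.root b ∉ Set.range D.P.root := by
    rw [add_comm, ← natCast_zsmul]
    exact Groth.L14.Chev.add_zsmul_notMem hab' (D.base.sub_notMem_range_root hb ha) (by rw [hba]; norm_num)
  have h12 : D.P.root a + 2 • D.P.root b ∉ Set.range D.P.root := by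
    rw [← natCast_zsmul]
    exact Groth.L14.Chev.add_zsmul_notMem hab'.symm (D.base.sub_notMem_range_root ha hb) (by rw [hab]; norm_num)
  rw [huab, ← Groth.L14.Chev.comp_conjHom, ← vc, ← va, ← vb]
  refine Groth.L14.Chart.hom_ext_open fun R _ j _ C _ _ t => ?_
  simp only [MonObj.comp_mul, ← Category.assoc]
  rw [← Groth.L14.RankOne.gp_gv (t ≫ x), ← Groth.L14.RankOne.gp_gv (t ≫ y), ← Groth.L14.RankOne.gp_gv (t ≫ xy)]
  haveI : IsMonHom (v' a) := (hv' a).1
  haveI : IsMonHom (v' b) := (hv' b).1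
  have hW : Groth.L14.Chev.WeylAct j v' b a (-1) 1 := fun C _ _ z => by
    have e : Groth.L14.Chev.weyl j v' C b (-1) = toUnit _ ≫ w b := by
      rw [Groth.L14.Chev.toUnit_weyl D.rootHom j e₁ he₁ b (hw b), Groth.L14.Chev.weyl, Groth.L14.Chev.weyl, vb, vn]
    rw [e, va, ← Groth.L14.Chev.comp_conjHom, ← vc, Int.cast_one, _root_.one_mul]
  obtain ⟨A, hA⟩ := Groth.L14.Chev.exists_isAdj (j := j) hv' a b hab'
  obtain ⟨B, hB⟩ := Groth.L14.Chev.exists_isAdj (j := j) hv' b a hab'.symm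
  have hAc : A c = -1 := by
    rw [hA.swap hv' hB hab' hc, hW.top_value hv' hB rfl
      (hab'.of_combo (r := 0) (s := 1) (t := 1) (w := 1) (by simp) (by rw [hc, one_smul, one_smul]) (by simp))
      (by rw [hc, add_left_comm, ← two_nsmul]; exact h12)]
    simp
  have hcm := Groth.L14.Chev.comm_single hv' hab' hA hc h21 h12 (-Groth.L14.RankOne.gv (t ≫ x))
    (-Groth.L14.RankOne.gv (t ≫ y))
  rw [Groth.L14.Chart.comm, Groth.L14.RankOne.gp_neg, Groth.L14.RankOne.gp_neg, GrpObj.inv_comp, GrpObj.inv_comp,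
    _root_.inv_inv, _root_.inv_inv, hAc] at hcm
  have hval : Groth.L14.RankOne.gv (t ≫ xy) = Groth.L14.RankOne.gv (t ≫ x) * Groth.L14.RankOne.gv (t ≫ y) := by
    rw [Groth.L14.Chev.gv_comp_eq t xy hxy, Groth.L14.Chev.gv_comp_eq t x rfl, Groth.L14.Chev.gv_comp_eq t y rfl,
      map_mul, map_mul]
  rw [hval, ← show -(algebraMap R C (-1)) * -Groth.L14.RankOne.gv (t ≫ x) * -Groth.L14.RankOne.gv (t ≫ y) =
    Groth.L14.RankOne.gv (t ≫ x) * Groth.L14.RankOne.gv (t ≫ y) by simp, ← hcm]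
  group

end Groth.Agent.S8463
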