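import Groth.Statements.S8464
import Groth.Agent.L14.Chev.BTwo

set_option autoImplicit false
set_option backward.isDefEq.respectTransparency.types false
universe u
open CategoryTheory MonoidalCategory CartesianMonoidalCategory MonObj GrpObj AlgebraicGeometry CategoryTheory.Limits
open Red

namespace Groth.Agent.S8464

/-- Let G be a pinned reductive S-group: a splitting D (maximal torus T ≅ D_S(M), root datum with root
homomorphisms u_c : 𝔾_a ⟶ G for all roots c, system of simple roots Δ) such that for every simple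
root a the root homomorphisms of a and -a are dual to each other: u_a(x) u_{-a}(y) =
u_{-a}(y/(1+xy)) · a^∨(1+xy) · u_a(x/(1+xy)) whenever 1 + xy is invertible, where a^∨ : 𝔾_m ⟶ T is
the coroot of a read through the splitting. For a root a put w_a = u_a(1) u_{-a}(-1) u_a(1) (an
S-point of G). Let a ≠ b be simple roots with ⟨b, a^∨⟩ = -2 and ⟨a, b^∨⟩ = -1 (type B₂, a the short
root); put u_{a+b}(x) = w_b u_a(x) w_b⁻¹ and u_{2a+b}(x) = w_a u_b(x) w_a⁻¹. Then for all points x,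
y of 𝔾_a: u_b(y) u_a(x) = u_a(x) u_b(y) u_{a+b}(x y) u_{2a+b}(x² y) and u_{a+b}(y) u_a(x) = u_a(x)
u_{a+b}(y) u_{2a+b}(2 x y). (The published statement is for a pinned group whose simple roots are
exactly a and b; this row states it for two simple roots a ≠ b of any pinned group.) -/
theorem result (S : Scheme.{u}) (e₁ : 𝟙_ (Over S) ⟶ Red.Ga S) (he₁ : Red.gaFn e₁ = 1)
    (G : Over S) [GrpObj G] (D : Red.Pinning G)
    (avc : D.idx → (Red.Gm S ⟶ D.T))
    (havc : ∀ a, avc a = Red.DSmap S (D.P.coroot a).toAddMonoidHom ≫ D.split.inv.hom.hom)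
    (hpair : ∀ a ∈ D.base.support, ∀ (X : Over S) (x y : X ⟶ Red.Ga S), IsUnit (1 + Red.gaFn x * Red.gaFn y) →
        ∃ (x' y' : X ⟶ Red.Ga S) (z : X ⟶ Red.Gm S), Red.gmFn z = 1 + Red.gaFn x * Red.gaFn y ∧
          Red.gaFn x' * Red.gmFn z = Red.gaFn x ∧ Red.gaFn y' * Red.gmFn z = Red.gaFn y ∧
          (x ≫ D.u a) * (y ≫ D.u (D.P.reflectionPerm a a)) = (y' ≫ D.u (D.P.reflectionPerm a a)) * (z ≫ avc a ≫ D.i) * (x' ≫ D.u a))
    (w : D.idx → (𝟙_ (Over S) ⟶ G))
    (hw : ∀ a, w a = (e₁ ≫ D.u a) * (e₁ ≫ D.u (D.P.reflectionPerm a a))⁻¹ * (e₁ ≫ D.u a))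
    (a b : D.idx) (ha : a ∈ D.base.support) (hb : b ∈ D.base.support) (hne : a ≠ b)
    (hba : D.P.pairing b a = -2) (hab : D.P.pairing a b = -1)
    (uab : ∀ X : Over S, (X ⟶ Red.Ga S) → (X ⟶ G))
    (huab : ∀ (X : Over S) (x : X ⟶ Red.Ga S), uab X x = (toUnit X ≫ w b) * (x ≫ D.u a) * (toUnit X ≫ w b)⁻¹)
    (uaab : ∀ X : Over S, (X ⟶ Red.Ga S) → (X ⟶ G))
    (huaab : ∀ (X : Over S) (x : X ⟶ Red.Ga S), uaab X x = (toUnit X ≫ w a) * (x ≫ D.u b) * (toUnit X ≫ w a)⁻¹)
    (X : Over S) (x y xy xxy txy : X ⟶ Red.Ga S) (hxy : Red.gaFn xy = Red.gaFn x * Red.gaFn y)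
    (hxxy : Red.gaFn xxy = Red.gaFn x ^ 2 * Red.gaFn y) (htxy : Red.gaFn txy = 2 * Red.gaFn x * Red.gaFn y) :
    (y ≫ D.u b) * (x ≫ D.u a) = (x ≫ D.u a) * (y ≫ D.u b) * uab X xy * uaab X xxy ∧
      uab X y * (x ≫ D.u a) = (x ≫ D.u a) * uab X y * uaab X txy := by
  classical
  have hab' := Groth.L14.Chev.indep_simple D ha hb hne
  let c₁ := D.P.reflectionPerm b a
  let c₂ := D.P.reflectionPerm a b
  have r₁ : D.P.root c₁ = D.P.root a + D.P.root b := by
    rw [D.P.root_reflectionPerm, D.P.reflection_apply_root, hab, neg_smul, one_smul, sub_neg_eq_add]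
  have r₂ : D.P.root c₂ = (2 : ℤ) • D.P.root a + D.P.root b := by
    rw [D.P.root_reflectionPerm, D.P.reflection_apply_root, hba]; module
  have hsub : D.P.root b - D.P.root a ∉ Set.range D.P.root := fun h =>
    D.base.sub_notMem_range_root hb ha h
  have hda : Groth.L14.Chev.DualAt avc D.u (Groth.L14.Chev.opp D.u) a :=
    ⟨(D.rootHom _).1, fun X x y h => hpair a ha X x y h⟩
  have hdb : Groth.L14.Chev.DualAt avc D.u (Groth.L14.Chev.opp D.u) b :=
    ⟨(D.rootHom _).1, fun X x y h => hpair b hb X x y h⟩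
  have hacta := Groth.L14.Chev.actsBy_weyl avc havc D.rootHom e₁ he₁ a hda (hw a)
  have hactb := Groth.L14.Chev.actsBy_weyl avc havc D.rootHom e₁ he₁ b hdb (hw b)
  let f₁ := Groth.L14.Chev.conjHom (w b) (D.u a)
  let f₂ := Groth.L14.Chev.conjHom (w a) (D.u b)
  let v' := Function.update (Function.update D.u c₁ f₁) c₂ f₂
  have hneq : ∀ {p q : D.idx} {r s r' s' : ℤ}, D.P.root p = r • D.P.root a + s • D.P.root b →
      D.P.root q = r' • D.P.root a + s' • D.P.root b → (r ≠ r' ∨ s ≠ s') → p ≠ q := by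
    intro p q r s r' s' hp hq hrs e
    subst e
    have := hab' (r - r') (s - s') (by rw [sub_smul, sub_smul, ← add_sub_add_comm, ← hp, ← hq, sub_self])
    omega
  have z₁ : D.P.root c₁ = (1 : ℤ) • D.P.root a + (1 : ℤ) • D.P.root b := by rw [r₁, one_smul, one_smul]
  have z₂ : D.P.root c₂ = (2 : ℤ) • D.P.root a + (1 : ℤ) • D.P.root b := by rw [r₂, one_smul]
  have za : D.P.root a = (1 : ℤ) • D.P.root a + (0 : ℤ) • D.P.root b := by simp
  have zb : D.P.root b = (0 : ℤ) • D.P.root a + (1 : ℤ) • D.P.root b := by simp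
  have zna : D.P.root (D.P.reflectionPerm a a) = (-1 : ℤ) • D.P.root a + (0 : ℤ) • D.P.root b := by
    rw [Groth.L14.Chev.root_self_refl]; module
  have znb : D.P.root (D.P.reflectionPerm b b) = (0 : ℤ) • D.P.root a + (-1 : ℤ) • D.P.root b := by
    rw [Groth.L14.Chev.root_self_refl]; module
  have v1 : v' c₁ = f₁ := by simp [v', hneq z₁ z₂ (by simp)]
  have v2 : v' c₂ = f₂ := by simp [v']
  have vkeep : ∀ g, g ≠ c₁ → g ≠ c₂ → v' g = D.u g := fun g h1 h2 => by simp [v', h1, h2]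
  have va : v' a = D.u a := vkeep a (hneq za z₁ (by simp)) (hneq za z₂ (by simp))
  have vb : v' b = D.u b := vkeep b (hneq zb z₁ (by simp)) (hneq zb z₂ (by simp))
  have vna : v' (D.P.reflectionPerm a a) = D.u (D.P.reflectionPerm a a) :=
    vkeep _ (hneq zna z₁ (by simp)) (hneq zna z₂ (by simp))
  have vnb : v' (D.P.reflectionPerm b b) = D.u (D.P.reflectionPerm b b) :=
    vkeep _ (hneq znb z₁ (by simp)) (hneq znb z₂ (by simp))
  have hf₁ := Groth.L14.Chev.isRootHom_conjHom hactb (g' := c₁) rfl (D.rootHom a)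
  have hf₂ := Groth.L14.Chev.isRootHom_conjHom hacta (g' := c₂) rfl (D.rootHom b)
  have hv' : ∀ g, Red.IsRootHom D.i (D.split.hom.hom.hom ≫ Red.chi S (D.P.root g)) (v' g) := fun g => by
    by_cases h2 : g = c₂
    · subst h2; rw [v2]; exact hf₂
    by_cases h1 : g = c₁
    · subst h1; rw [v1]; exact hf₁
    rw [vkeep g h1 h2]; exact D.rootHom g
  have main : ∀ (R : Type u) [CommRing R] (j : Spec (CommRingCat.of R) ⟶ S) [IsOpenImmersion j]
      (C : Type u) [CommRing C] [Algebra R C] (x y : C),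
      Groth.L14.Chart.comm j (v' a) (v' b) x y =
          (Groth.L14.RankOne.gp j (x * y) ≫ v' c₁) * (Groth.L14.RankOne.gp j (-(x ^ 2 * y)) ≫ v' c₂) ∧
        Groth.L14.Chart.comm j (v' a) (v' c₁) x y = Groth.L14.RankOne.gp j (2 * x * y) ≫ v' c₂ := by
    intro R _ j _ C _ _ x y
    have hWab : Groth.L14.Chev.WeylAct j v' a b (-1) 1 := fun C _ _ z => by
      show _ = _ ≫ v' c₂
      rw [Groth.L14.Chev.weyl, va, vna, ← Groth.L14.Chev.weyl, ← Groth.L14.Chev.toUnit_weyl D.rootHom j e₁ he₁ a (hw a),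
        vb, v2, Groth.L14.Chev.comp_conjHom]
      simp
    have hWba : Groth.L14.Chev.WeylAct j v' b a (-1) 1 := fun C _ _ z => by
      show _ = _ ≫ v' c₁
      rw [Groth.L14.Chev.weyl, vb, vnb, ← Groth.L14.Chev.weyl, ← Groth.L14.Chev.toUnit_weyl D.rootHom j e₁ he₁ b (hw b),
        va, v1, Groth.L14.Chev.comp_conjHom]
      simp
    obtain ⟨h1, h2⟩ := Groth.L14.Chev.b2_relations hv' (by simp) hab' hba hsub r₁ r₂ hWab hWba x y
    exact ⟨h1.trans (by simp), h2.trans (by simp)⟩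
  have e₁₁ : ∀ (X : Over S) (z : X ⟶ Red.Ga S), uab X z = z ≫ v' c₁ := fun X z => by
    rw [huab, v1, Groth.L14.Chev.comp_conjHom]
  have e₂₁ : ∀ (X : Over S) (z : X ⟶ Red.Ga S), uaab X z = z ≫ v' c₂ := fun X z => by
    rw [huaab, v2, Groth.L14.Chev.comp_conjHom]
  simp only [e₁₁, e₂₁, ← va, ← vb]
  refine ⟨?_, ?_⟩ <;>
    refine Groth.L14.Chart.hom_ext_open fun R _ j _ C _ _ t => ?_
  all_goals
    haveI : ∀ g, IsMonHom (v' g) := fun g => (hv' g).1
    have pt : ∀ {z : X ⟶ Red.Ga S} {f}, Red.gaFn z = f →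
        t ≫ z = Groth.L14.RankOne.gp j ((Scheme.ΓSpecIso (CommRingCat.of C)).hom (t.left.appTop f)) := fun h => by
      rw [← Groth.L14.Chev.gv_comp_eq t _ h, Groth.L14.RankOne.gp_gv]
    have hflip : ∀ {p q : Red.Ga S ⟶ G} [IsMonHom p] [IsMonHom q] {r s : C} {Z : Groth.L14.RankOne.Sp j C ⟶ G},
        Groth.L14.Chart.comm j p q (-r) (-s) = Z →
          Groth.L14.RankOne.gp j s ≫ q * Groth.L14.RankOne.gp j r ≫ p =
            Groth.L14.RankOne.gp j r ≫ p * Groth.L14.RankOne.gp j s ≫ q * Z := by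
      intro p q _ _ r s Z h
      rw [← h, Groth.L14.Chart.comm, Groth.L14.RankOne.gp_neg, Groth.L14.RankOne.gp_neg, GrpObj.inv_comp,
        GrpObj.inv_comp]
      group
    simp only [MonObj.comp_mul, ← Category.assoc, pt (rfl : Red.gaFn x = _), pt (rfl : Red.gaFn y = _), pt hxy, pt hxxy,
      pt htxy, map_mul, map_pow, map_ofNat]
    generalize (Scheme.ΓSpecIso (CommRingCat.of C)).hom (t.left.appTop (Red.gaFn x)) = X'
    generalize (Scheme.ΓSpecIso (CommRingCat.of C)).hom (t.left.appTop (Red.gaFn y)) = Y'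
  · rw [hflip (main R j C (-X') (-Y')).1]
    simp only [← _root_.mul_assoc]
    congr 3 <;> ring_nf
  · rw [hflip (main R j C (-X') (-Y')).2]
    congr 2 <;> ring_nf

end Groth.Agent.S8464
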