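import Groth.Statements.S11460
import Groth.Agent.L15.SpreadComplex
import Groth.Agent.L14.RegImmStalk.Stalk
import Groth.Agent.L07.SyntCM
import Groth.Agent.L03.GeomRegular
import Groth.Agent.S11449
-- import your own Groth.Agent.* helpers here

set_option autoImplicit false
universe u
open CategoryTheory AlgebraicGeometry
open DefT

namespace Groth.Agent.S11460

/-- Let X be smooth over a field k and Y ⊆ X a closed subscheme which is Cohen–Macaulay of codimension 2
(all local rings of Y Cohen–Macaulay, and dim O_{X,y} = dim O_{Y,y} + 2 at every point y of Y). Then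
each point of Y has an affine open neighbourhood U in X and an (r+1) × r matrix φ of functions on U
whose signed maximal minors f_i generate the ideal of Y ∩ U and give an exact sequence 0 → O(U)^r →
O(U)^{r+1} → O(U), hence a resolution of O_{Y ∩ U} on the affine U. -/
theorem result (k : Type u) [Field k]
    (X Y : Scheme.{u}) (f : X ⟶ Spec (CommRingCat.of k)) [Smooth f] (ι : Y ⟶ X) [IsClosedImmersion ι]
    (hCM : ∀ y : Y, LocCoh.IsCohenMacaulayLocalRing (Y.presheaf.stalk y))
    (hcodim : ∀ y : Y, ringKrullDim (Y.presheaf.stalk y) + 2 = ringKrullDim (X.presheaf.stalk (ι.base y)))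
    (y : Y) :
    ∃ U : X.affineOpens, ι.base y ∈ (U : X.Opens) ∧ ∃ (r : ℕ) (φ : Matrix (Fin (r + 1)) (Fin r) Γ(X, U)),
      (Ideal.span (Set.range (fun i : Fin (r + 1) => (-1 : Γ(X, U)) ^ (i : ℕ) * ((φ).submatrix i.succAbove id).det)) = ι.ker.ideal U ∧
        Function.Injective (φ).mulVecLin ∧
        LinearMap.range (φ).mulVecLin = LinearMap.ker (Fintype.linearCombination Γ(X, U) (fun i : Fin (r + 1) => (-1 : Γ(X, U)) ^ (i : ℕ) * ((φ).submatrix i.succAbove id).det))) := by
  let x := ι.base y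
  obtain ⟨W, hW, hxW, -⟩ := exists_isAffineOpen_mem_and_subset (x := x) (U := (⊤ : X.Opens)) trivial
  letI : Algebra k Γ(X, W) :=
    ((Scheme.ΓSpecIso (CommRingCat.of k)).inv ≫ f.appLE ⊤ W le_top).hom.toAlgebra
  haveI : Algebra.Smooth k Γ(X, W) := by
    refine RingHom.smooth_algebraMap.mp ?_
    have hs := HasRingHomProperty.appLE @Smooth f inferInstance ⟨⊤, isAffineOpen_top _⟩ ⟨W, hW⟩ le_top
    exact RingHom.Smooth.respectsIso.2 _ (Scheme.ΓSpecIso (CommRingCat.of k)).symm.commRingCatIsoToRingEquiv hs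
  haveI : IsNoetherianRing Γ(X, W) := Algebra.FiniteType.isNoetherianRing k Γ(X, W)
  haveI : IsRegularRing Γ(X, W) := Groth.L03.GeomRegular.isRegularRing_of_smooth k Γ(X, W)
  let p := (hW.primeIdealOf ⟨x, hxW⟩).asIdeal
  letI : Algebra Γ(X, W) (X.presheaf.stalk x) := (X.presheaf.germ W x hxW).hom.toAlgebra
  haveI : IsLocalization.AtPrime (X.presheaf.stalk x) p := hW.isLocalization_stalk ⟨x, hxW⟩
  haveI : IsRegularLocalRing (Localization.AtPrime p) := IsRegularRing.isRegularLocalRing_localization p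
  haveI : IsRegularLocalRing (X.presheaf.stalk x) := IsRegularLocalRing.of_ringEquiv
    (IsLocalization.algEquiv p.primeCompl (Localization.AtPrime p) (X.presheaf.stalk x)).toRingEquiv
  haveI : IsClosedImmersion (ι ∣_ W) := IsZariskiLocalAtTarget.restrict ‹IsClosedImmersion ι› W
  have hk := Groth.L14.RegImmStalk.ker_stalkMap ι hW inferInstance y hxW
  rw [← Scheme.Hom.ker_apply ι ⟨W, hW⟩] at hk
  have hk' : RingHom.ker (ι.stalkMap y).hom = (ι.ker.ideal ⟨W, hW⟩).map (algebraMap Γ(X, W) (X.presheaf.stalk x)) := hk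
  let e : (X.presheaf.stalk x ⧸ RingHom.ker (ι.stalkMap y).hom) ≃+* Y.presheaf.stalk y :=
    RingHom.quotientKerEquivOfSurjective (ι.stalkMap_surjective y)
  haveI := Groth.L07.Synt.isCM_ringEquiv e.symm (hCM y)
  obtain ⟨r, ψ, h1, -, h2, h3⟩ := Groth.Agent.S11449.result (X.presheaf.stalk x)
    (RingHom.ker (ι.stalkMap y).hom) (by rw [ringKrullDim_eq_of_ringEquiv e]; exact hcodim y)
  rw [hk'] at h1
  obtain ⟨g, hg, φ, hφ⟩ := Groth.L15.Spread.exists_spread p (ι.ker.ideal ⟨W, hW⟩) r ψ h1 h2 h3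
  letI : Algebra Γ(X, W) Γ(X, X.basicOpen g) := (X.presheaf.map (homOfLE <| X.basicOpen_le g).op).hom.toAlgebra
  haveI : IsLocalization.Away g Γ(X, X.basicOpen g) := hW.isLocalization_basicOpen g
  obtain ⟨i1, i2, i3⟩ := hφ Γ(X, X.basicOpen g)
  refine ⟨X.affineBasicOpen (U := ⟨W, hW⟩) g, ?_, r,
    φ.map (algebraMap Γ(X, W) Γ(X, X.basicOpen g)), ?_, i2, i3⟩
  · rw [show ((X.affineBasicOpen (U := ⟨W, hW⟩) g : X.affineOpens) : X.Opens) = X.basicOpen g from rfl,
      X.mem_basicOpen g x hxW]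
    exact IsLocalization.map_units (X.presheaf.stalk x) (⟨g, hg⟩ : p.primeCompl)
  · rw [← ι.ker.map_ideal_basicOpen ⟨W, hW⟩ g]
    exact i1

end Groth.Agent.S11460
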