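import Groth.Statements.S11459
import Groth.Agent.L15.HilbertBurch
-- import your own Groth.Agent.* helpers here

set_option autoImplicit false
universe u
open DefT

namespace Groth.Agent.S11459

/-- Let C' be a local Artin ring, J ⊊ C' a proper ideal annihilated by the maximal ideal, C = C'/J, A' a
flat C'-algebra of finite type with smooth special fibre, A = A'/JA', and φ an (r+1) × r matrix over
A with 0 → A^r → A^{r+1} → A exact (matrix, then signed maximal minors f_i) A/(f_0, …, f_r) flat
over C, and every prime of A containing (f_0, …, f_r) of height ≥ 2 (codimension 2). Then any ideal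
I' ⊆ A' such that A'/I' is flat over C' and the image of I' in A is (f_0, …, f_r) is generated by
the signed maximal minors of some matrix φ' over A' reducing to φ. -/
theorem result (C' : Type u) [CommRing C'] [IsLocalRing C'] [IsArtinianRing C'] (J : Ideal C')
    (hJ : IsLocalRing.maximalIdeal C' * J = ⊥) (hJne : J ≠ ⊤) (A' : Type u) [CommRing A'] [Algebra C' A'] [Module.Flat C' A']
    [Algebra.FiniteType C' A']
    [Algebra.Smooth (C' ⧸ IsLocalRing.maximalIdeal C') (A' ⧸ (IsLocalRing.maximalIdeal C').map (algebraMap C' A'))]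
    (r : ℕ) (φ : Matrix (Fin (r + 1)) (Fin r) (A' ⧸ J.map (algebraMap C' A')))
    (hφ : Function.Injective φ.mulVecLin ∧
      LinearMap.range φ.mulVecLin = LinearMap.ker (Fintype.linearCombination (A' ⧸ J.map (algebraMap C' A')) (fun i : Fin (r + 1) => (-1 : (A' ⧸ J.map (algebraMap C' A'))) ^ (i : ℕ) * ((φ).submatrix i.succAbove id).det)))
    [Module.Flat (C' ⧸ J) ((A' ⧸ J.map (algebraMap C' A')) ⧸ Ideal.span (Set.range (fun i : Fin (r + 1) => (-1 : (A' ⧸ J.map (algebraMap C' A'))) ^ (i : ℕ) * ((φ).submatrix i.succAbove id).det)))]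
    (hcodim : ∀ p : Ideal (A' ⧸ J.map (algebraMap C' A')), p.IsPrime →
      Ideal.span (Set.range (fun i : Fin (r + 1) => (-1 : (A' ⧸ J.map (algebraMap C' A'))) ^ (i : ℕ) * ((φ).submatrix i.succAbove id).det)) ≤ p → (2 : ℕ∞) ≤ p.height)
    (I' : Ideal A') [Module.Flat C' (A' ⧸ I')]
    (hI' : I'.map (Ideal.Quotient.mk (J.map (algebraMap C' A'))) = Ideal.span (Set.range (fun i : Fin (r + 1) => (-1 : (A' ⧸ J.map (algebraMap C' A'))) ^ (i : ℕ) * ((φ).submatrix i.succAbove id).det))) :
    ∃ φ' : Matrix (Fin (r + 1)) (Fin r) A', φ'.map (Ideal.Quotient.mk (J.map (algebraMap C' A'))) = φ ∧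
      I' = Ideal.span (Set.range (fun i : Fin (r + 1) => (-1 : A') ^ (i : ℕ) * ((φ').submatrix i.succAbove id).det)) := by
  have hK : J.map (algebraMap C' A') ≤ (IsLocalRing.maximalIdeal C').map (algebraMap C' A') :=
    Ideal.map_mono (IsLocalRing.le_maximalIdeal hJne)
  let g := Ideal.Quotient.factor hK
  have hg : Function.Surjective g := Ideal.Quotient.factor_surjective hK
  have hgc : g.comp (Ideal.Quotient.mk (J.map (algebraMap C' A'))) =
      Ideal.Quotient.mk ((IsLocalRing.maximalIdeal C').map (algebraMap C' A')) := Ideal.Quotient.factor_comp_mk hK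
  have hker : IsNilpotent (RingHom.ker g) := by
    obtain ⟨n, hn⟩ := Groth.L12.RegLift.isNilpotent_map (C := C') (A := A')
    refine ⟨n, ?_⟩
    rw [Ideal.Quotient.factor_ker, ← Ideal.map_pow, hn]
    exact Ideal.map_bot
  obtain ⟨x, hxI, y, hyI, hx, hy⟩ := Groth.L15.HB.exists_pair_lift (C := C') I' fun p hp hle => by
    haveI := hp
    refine Groth.L15.HB.two_le_height_of_surjective g hg hker p (hcodim _ inferInstance ?_)
    rw [← hI', ← Ideal.map_le_iff_le_comap, Ideal.map_map, hgc]
    exact hle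
  obtain ⟨φ', h0, h1, -, -⟩ := Groth.L15.HB.exists_lift hJne φ _ (fun i => rfl) hφ.1 hφ.2 I' hI' x y hxI hyI hx hy
  exact ⟨φ', h0, h1.symm⟩

end Groth.Agent.S11459
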