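import Groth.Statements.S2188
import Groth.Agent.L07.Ferrand

set_option autoImplicit false
universe u
open CategoryTheory
open LCI

namespace Groth.Agent.S2188

open Groth.L07

set_option linter.style.haveILetI false

/-- Let R be a Noetherian local ring and I an ideal of finite projective dimension as an R-module. If F
is a direct summand of I/I^2 which is free of rank r over R/I, then there is a regular sequence x_1,
..., x_r of R inside I whose classes in I/I^2 generate F. -/
theorem result {R : Type u} [CommRing R]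
    [IsNoetherianRing R] [IsLocalRing R] (I : Ideal R) (hI : I ≠ ⊤) (n : ℕ)
    (hpd : HasProjectiveDimensionLT (ModuleCat.of R I) n)
    (F G : Submodule (R ⧸ I) I.Cotangent) (hFG : IsCompl F G) (r : ℕ)
    (e : F ≃ₗ[R ⧸ I] (Fin r → R ⧸ I)) :
    ∃ (x : Fin r → R) (hx : ∀ i, x i ∈ I), RingTheory.Sequence.IsRegular R (List.ofFn x) ∧
      Submodule.span (R ⧸ I) (Set.range fun i => I.toCotangent ⟨x i, hx i⟩) = F := by
  let π : I.Cotangent →ₗ[R ⧸ I] F := F.projectionOnto G hFG
  let W : Submodule R I := (F.restrictScalars R).comap I.toCotangent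
  have hW : I • (⊤ : Submodule R I) ≤ W := by
    intro z hz
    have : I.toCotangent z = 0 := by
      rw [Ideal.toCotangent_eq_zero, pow_two, ← smul_eq_mul]
      have h1 := Submodule.mem_map_of_mem (f := Submodule.subtype I) hz
      rwa [Submodule.map_smul'', Submodule.map_top, Submodule.range_subtype] at h1
    show I.toCotangent z ∈ F
    rw [this]; exact F.zero_mem
  let φ : Fin r → (I →ₗ[R] R ⧸ I) := fun j =>
    ((LinearMap.proj j ∘ₗ e.toLinearMap ∘ₗ π).restrictScalars R) ∘ₗ I.toCotangent
  have hφW : ∀ (j : Fin r) (z : I) (hz : I.toCotangent z ∈ F), φ j z = e ⟨_, hz⟩ j := fun j z hz => by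
    simp only [φ, π, LinearMap.comp_apply, LinearMap.restrictScalars_apply, LinearMap.proj_apply,
      LinearEquiv.coe_coe]
    exact congrArg (fun y => e y j)
      (Submodule.projectionOnto_apply_left hFG ⟨_, hz⟩)
  obtain ⟨x, hxW, hxφ, hxreg⟩ := Ferrand.exists_regular_lifts r R I hI ⟨n, hpd⟩ φ W hW (fun i => by
    obtain ⟨w, hw⟩ := I.toCotangent_surjective (e.symm (Pi.single i 1) : F)
    have hwF : I.toCotangent w ∈ F := by rw [hw]; exact Subtype.coe_prop _
    refine ⟨w, hwF, fun j => ?_⟩
    rw [hφW j w hwF, show (⟨_, hwF⟩ : F) = e.symm (Pi.single i 1) from Subtype.ext hw,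
      e.apply_symm_apply, Pi.single_apply])
  have hex : ∀ i, e ⟨_, hxW i⟩ = Pi.single i 1 := fun i => funext fun j => by
    rw [← hφW j (x i) (hxW i), hxφ, Pi.single_apply]
  refine ⟨fun i => x i, fun i => (x i).2, ⟨hxreg, ?_⟩, ?_⟩
  · intro h
    rw [smul_eq_mul, Ideal.mul_top] at h
    apply hI
    rw [eq_top_iff, h, Ideal.ofList, Ideal.span_le]
    intro y hy
    obtain ⟨i, rfl⟩ := List.mem_ofFn.mp hy
    exact (x i).2
  · apply le_antisymm
    · rw [Submodule.span_le]
      rintro _ ⟨i, rfl⟩
      exact hxW i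
    · intro y hy
      have hy' : (⟨y, hy⟩ : F) = ∑ i, e ⟨y, hy⟩ i • (⟨_, hxW i⟩ : F) := by
        apply e.injective
        rw [map_sum]
        simp only [map_smul, hex]
        exact pi_eq_sum_univ' _
      have h2 := congrArg F.subtype hy'
      rw [map_sum] at h2
      simp only [map_smul] at h2
      show y ∈ _
      rw [show y = F.subtype ⟨y, hy⟩ from rfl, h2]
      exact Submodule.sum_mem _ fun i _ => Submodule.smul_mem _ _ (Submodule.subset_span ⟨i, rfl⟩)

end Groth.Agent.S2188
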