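import Groth.Statements.S2189
import Groth.Agent.S2188
import Groth.Agent.L07.RegSpread
import Groth.Agent.L07.QuasiRegular
import Groth.Agent.L14.QRegRegular
import Mathlib.RingTheory.Localization.Algebra
import Mathlib.RingTheory.LocalProperties.ProjectiveDimension
import Mathlib.RingTheory.Nakayama

set_option autoImplicit false
universe u
open CategoryTheory
open LCI

namespace Groth.Agent.S2189

open Groth.L07

set_option linter.style.haveILetI false
set_option maxHeartbeats 1000000

/-- Let R be a Noetherian ring and I an ideal which has finite projective dimension as an R-module and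
whose conormal module I/I^2 is finite locally free (projective) over R/I. Then I is a regular ideal:
for every prime p containing I there is g outside p such that the extension of I to R_g is generated
by a regular sequence of R_g. -/
theorem result {R : Type u} [CommRing R]
    [IsNoetherianRing R] (I : Ideal R) (n : ℕ)
    (hpd : HasProjectiveDimensionLT (ModuleCat.of R I) n)
    [Module.Projective (R ⧸ I) I.Cotangent] (p : Ideal R) [p.IsPrime] (hIp : I ≤ p) :
    ∃ g : R, g ∉ p ∧ ∃ rs : List (Localization.Away g),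
      RingTheory.Sequence.IsRegular (Localization.Away g) rs ∧
        Ideal.ofList rs = I.map (algebraMap R (Localization.Away g)) := by
  let S := Localization.AtPrime p
  let I' : Ideal S := I.map (algebraMap R S)
  let ι : I →ₗ[R] I' := Algebra.idealMap S I
  haveI : IsLocalizedModule p.primeCompl ι := inferInstance
  have hI' : I' ≤ IsLocalRing.maximalIdeal S := by
    rw [← Localization.AtPrime.map_eq_maximalIdeal]; exact Ideal.map_mono hIp
  have hI'ne : I' ≠ ⊤ := ne_top_of_le_ne_top (IsLocalRing.maximalIdeal.isMaximal S).ne_top hI'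
  have hpd' : HasProjectiveDimensionLT (ModuleCat.of S I') (n + 1) := by
    haveI : HasProjectiveDimensionLE (ModuleCat.of R I) n :=
      hasProjectiveDimensionLT_of_ge _ n (n + 1) n.le_succ
    haveI := ModuleCat.localizedModule_hasProjectiveDimensionLE n p.primeCompl (ModuleCat.of R I)
    let e : (ModuleCat.of R I).localizedModule p.primeCompl ≃ₗ[S] I' :=
      (Shrink.linearEquiv.{u} (Localization p.primeCompl) (LocalizedModule p.primeCompl I)).trans
        ((IsLocalizedModule.linearEquiv p.primeCompl
          (LocalizedModule.mkLinearMap p.primeCompl I) ι).extendScalarsOfIsLocalization p.primeCompl S)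
    exact ModuleCat.hasProjectiveDimensionLE_of_linearEquiv
      (M := (ModuleCat.of R I).localizedModule p.primeCompl) (N := ModuleCat.of S I') e n
  haveI : Module.Finite R I.Cotangent := Module.Finite.of_surjective I.toCotangent I.toCotangent_surjective
  haveI : Module.Finite (R ⧸ I) I.Cotangent := Module.Finite.of_restrictScalars_finite R _ _
  obtain ⟨m, π, hπ⟩ := Module.Finite.exists_fin' (R ⧸ I) I.Cotangent
  obtain ⟨σ, hσ⟩ := Module.projective_lifting_property π LinearMap.id hπ
  choose a ha using fun j : Fin m => I.toCotangent_surjective (π (Pi.single j 1))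
  let q : R ⧸ I →ₗ[R] S ⧸ I' :=
    Submodule.liftQ I ((Ideal.Quotient.mkₐ R I').toLinearMap ∘ₗ Algebra.linearMap R S) (fun c hc =>
      Ideal.Quotient.eq_zero_iff_mem.mpr (Ideal.mem_map_of_mem _ hc))
  have hq : ∀ c : R, q (Ideal.Quotient.mk I c) = Ideal.Quotient.mk I' (algebraMap R S c) := fun c => rfl
  let f : Fin m → (I →ₗ[R] S ⧸ I') := fun j =>
    q ∘ₗ ((LinearMap.proj j ∘ₗ σ).restrictScalars R) ∘ₗ I.toCotangent
  have hunit : ∀ s : p.primeCompl, IsUnit (algebraMap R (Module.End R (S ⧸ I')) s) := fun s => by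
    have := (IsLocalization.map_units S s).map (Algebra.lsmul R R (S ⧸ I') (A := S))
    rwa [AlgHom.commutes] at this
  let f' : Fin m → (I' →ₗ[S] S ⧸ I') := fun j =>
    (IsLocalizedModule.lift p.primeCompl ι (f j) hunit).extendScalarsOfIsLocalization p.primeCompl S
  have hf' : ∀ j y, f' j (ι y) = f j y := fun j y =>
    IsLocalizedModule.lift_apply p.primeCompl ι (f j) hunit y
  have hkill : ∀ j, ∀ z ∈ I' • (⊤ : Submodule S I'), f' j z = 0 := by
    intro j z hz
    refine Submodule.smul_induction_on hz (fun c hc y _ => ?_) (fun y z hy hz => ?_)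
    · rw [map_smul]
      obtain ⟨d, hd⟩ := Submodule.mkQ_surjective I' (f' j y)
      rw [← hd]
      exact (Submodule.Quotient.mk_eq_zero _).mpr (I'.mul_mem_right d hc)
    · rw [map_add, hy, hz, add_zero]
  let s₀ : I'.Cotangent →ₗ[S] (Fin m → S ⧸ I') :=
    Submodule.liftQ _ (LinearMap.pi f') (fun z hz => funext fun j => hkill j z hz)
  have hs₀ : ∀ z j, s₀ (I'.toCotangent z) j = f' j z := fun z j => rfl
  let sec : I'.Cotangent →ₗ[S ⧸ I'] (Fin m → S ⧸ I') :=
    s₀.extendScalarsOfSurjective Ideal.Quotient.mk_surjective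
  let gen : (Fin m → S ⧸ I') →ₗ[S ⧸ I'] I'.Cotangent :=
    Fintype.linearCombination (S ⧸ I') (fun j => I'.toCotangent (ι (a j)))
  have hid : gen ∘ₗ sec = LinearMap.id := by
    have hR : (((gen ∘ₗ sec).restrictScalars S).restrictScalars R) ∘ₗ (I'.toCotangent.restrictScalars R) =
        I'.toCotangent.restrictScalars R := by
      have hunitC : ∀ s : p.primeCompl, IsUnit (algebraMap R (Module.End R I'.Cotangent) s) := fun s => by
        have := (IsLocalization.map_units S s).map (Algebra.lsmul R R I'.Cotangent (A := S))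
        rwa [AlgHom.commutes] at this
      refine IsLocalizedModule.ext p.primeCompl ι hunitC ?_
      ext y
      simp only [LinearMap.comp_apply, LinearMap.restrictScalars_apply, gen,
        Fintype.linearCombination_apply]
      choose c hc using fun j => Ideal.Quotient.mk_surjective (σ (I.toCotangent y) j)
      have hfc : ∀ j, sec (I'.toCotangent (ι y)) j = Ideal.Quotient.mk I' (algebraMap R S (c j)) := by
        intro j
        show s₀ (I'.toCotangent (ι y)) j = _
        rw [hs₀, hf', ← hq, hc]
        rfl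
      simp only [hfc]
      have hmem : I.toCotangent (∑ j, c j • a j) = I.toCotangent y := by
        conv_rhs => rw [show I.toCotangent y = π (σ (I.toCotangent y)) from
          (LinearMap.congr_fun hσ _).symm, pi_eq_sum_univ' (σ (I.toCotangent y))]
        rw [map_sum, map_sum]
        refine Finset.sum_congr rfl fun j _ => ?_
        rw [map_smul, map_smul, ha, ← hc j]
        rfl
      rw [Ideal.toCotangent_eq] at hmem
      have hmem' : I'.toCotangent (∑ j, algebraMap R S (c j) • ι (a j)) = I'.toCotangent (ι y) := by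
        rw [Ideal.toCotangent_eq]
        have := Ideal.mem_map_of_mem (algebraMap R S) hmem
        rw [Ideal.map_pow] at this
        have hι : ∀ y : I, ((ι y : I') : S) = algebraMap R S y := fun y => rfl
        simpa [hι, I', Submodule.coe_sum, Algebra.smul_def] using this
      rw [← hmem', map_sum]
      exact Finset.sum_congr rfl fun j _ => by rw [map_smul]; rfl
    apply LinearMap.ext
    intro z
    obtain ⟨z, rfl⟩ := I'.toCotangent_surjective z
    exact LinearMap.congr_fun hR z
  haveI : Module.Projective (S ⧸ I') I'.Cotangent := Module.Projective.of_split sec gen hid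
  haveI : Module.Finite (S ⧸ I') I'.Cotangent :=
    Module.Finite.of_surjective gen (fun z => ⟨sec z, LinearMap.congr_fun hid z⟩)
  haveI : Nontrivial (S ⧸ I') := Ideal.Quotient.nontrivial_iff.mpr hI'ne
  haveI : IsLocalRing (S ⧸ I') :=
    IsLocalRing.of_surjective' (Ideal.Quotient.mk I') Ideal.Quotient.mk_surjective
  haveI : Module.Free (S ⧸ I') I'.Cotangent := Module.free_of_flat_of_isLocalRing
  obtain ⟨x, hx, hxreg, hxspan⟩ := Groth.Agent.S2188.result I' hI'ne (n + 1) hpd' ⊤ ⊥ isCompl_top_bot
    (Module.finrank (S ⧸ I') I'.Cotangent)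
    (Submodule.topEquiv.trans (Module.finBasis (S ⧸ I') I'.Cotangent).equivFun)
  have hspan : Ideal.span (Set.range x) = I' := by
    set X := Ideal.span (Set.range x)
    have hXI : X ≤ I' := Ideal.span_le.mpr (by rintro _ ⟨i, rfl⟩; exact hx i)
    refine le_antisymm hXI (Submodule.le_of_le_smul_of_le_jacobson_bot (I := I') (IsNoetherian.noetherian I')
      (by rw [IsLocalRing.jacobson_eq_maximalIdeal ⊥ bot_ne_top]; exact hI') ?_)
    intro z hz
    have hy : I'.toCotangent ⟨z, hz⟩ ∈
        Submodule.span (S ⧸ I') (Set.range fun i => I'.toCotangent ⟨x i, hx i⟩) := by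
      rw [hxspan]; trivial
    obtain ⟨c, hc⟩ := (Submodule.mem_span_range_iff_exists_fun _).mp hy
    choose d hd using fun j => Ideal.Quotient.mk_surjective (c j)
    have he : I'.toCotangent (∑ j, d j • ⟨x j, hx j⟩) = I'.toCotangent ⟨z, hz⟩ := by
      rw [← hc, map_sum]
      exact Finset.sum_congr rfl fun j _ => by rw [map_smul, ← hd]; rfl
    rw [Ideal.toCotangent_eq] at he
    rw [smul_eq_mul, ← pow_two]
    have hmem : z - ∑ j, d j * x j ∈ I' ^ 2 := by
      have h2 := neg_mem he
      simpa using h2
    rw [← sub_add_cancel z (∑ j, d j * x j)]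
    exact add_mem (Submodule.mem_sup_right hmem) (Submodule.mem_sup_left
      (Ideal.sum_mem _ fun j _ => X.mul_mem_left _ (Ideal.subset_span (Set.mem_range_self j))))
  choose b hb using fun i => IsLocalizedModule.surj p.primeCompl ι ⟨x i, hx i⟩
  let num : Fin (Module.finrank (S ⧸ I') I'.Cotangent) → R := fun i => (b i).1
  have hnum : ∀ i, algebraMap R S (num i) = algebraMap R S ((b i).2 : R) * x i := fun i => by
    have := congrArg Subtype.val (hb i)
    rw [Submonoid.smul_def] at this
    exact (this.symm.trans (Algebra.smul_def _ _))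
  have hspan' : Ideal.span (Set.range fun i => algebraMap R S (num i)) = I' := by
    refine le_antisymm (Ideal.span_le.mpr ?_) ?_
    · rintro _ ⟨i, rfl⟩
      exact Ideal.mem_map_of_mem _ (b i).1.2
    · refine hspan.ge.trans ?_
      rw [Ideal.span_le]
      rintro _ ⟨i, rfl⟩
      obtain ⟨u, hu⟩ := IsLocalization.map_units S (b i).2
      have : x i = ↑u⁻¹ * algebraMap R S (num i) := by rw [hnum, ← hu, Units.inv_mul_cancel_left]
      rw [this]
      exact Ideal.mul_mem_left _ _ (Ideal.subset_span ⟨i, rfl⟩)
  have hreg' : RingTheory.Sequence.IsWeaklyRegular S ((List.ofFn num).map (algebraMap R S)) := by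
    rw [List.map_ofFn]
    refine Groth.L14.QRR.isWeaklyRegular_of_isQuasiRegular _ (fun i => ?_) ?_
    · rw [IsLocalRing.jacobson_eq_maximalIdeal ⊥ bot_ne_top]
      exact hI' (Ideal.mem_map_of_mem _ (b i).1.2)
    · exact Groth.L14.QRR.isQuasiRegular_of_span_eq x _
        (QReg.isQuasiRegular_of_isWeaklyRegular hxreg.1) (hspan'.trans hspan.symm)
  let J := Ideal.ofList (List.ofFn num)
  have hJI : J ≤ I := Ideal.span_le.mpr (fun y hy => by
    obtain ⟨i, rfl⟩ := List.mem_ofFn.mp hy
    exact (b i).1.2)
  have hJS : J.map (algebraMap R S) = I' := by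
    rw [Ideal.map_ofList, List.map_ofFn]
    exact (QReg.ofList_ofFn _).trans hspan'
  obtain ⟨g₁, hg₁, hg₁I⟩ := RegSeq.exists_mul_mem_of_map_le (IsNoetherian.noetherian I) p S
    (J := J) (le_of_eq hJS.symm)
  obtain ⟨g₂, hg₂, hg₂reg⟩ := RegSeq.exists_away_isWeaklyRegular (List.ofFn num) p S hreg'
  refine ⟨g₁ * g₂, ‹p.IsPrime›.mul_notMem hg₁ hg₂,
    (List.ofFn num).map (algebraMap R (Localization.Away (g₁ * g₂))), ?_⟩
  have heq : Ideal.ofList ((List.ofFn num).map (algebraMap R (Localization.Away (g₁ * g₂)))) =
      I.map (algebraMap R (Localization.Away (g₁ * g₂))) := by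
    rw [← Ideal.map_ofList]
    refine le_antisymm (Ideal.map_mono hJI) (Ideal.map_le_iff_le_comap.mpr fun y hy => ?_)
    rw [Ideal.mem_comap, IsLocalization.algebraMap_mem_map_algebraMap_iff (Submonoid.powers (g₁ * g₂))]
    refine ⟨g₁ * g₂, Submonoid.mem_powers _, ?_⟩
    rw [mul_comm g₁ g₂, mul_assoc]
    exact J.mul_mem_left _ (hg₁I y hy)
  refine ⟨⟨hg₂reg _ (g₁ * g₂) inferInstance (dvd_mul_left _ _), ?_⟩, heq⟩
  rw [smul_eq_mul, Ideal.mul_top, heq]
  refine ((IsLocalization.map_algebraMap_ne_top_iff_disjoint (Submonoid.powers (g₁ * g₂)) _ I).mpr ?_).symm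
  rw [Set.disjoint_left]
  rintro _ ⟨k, rfl⟩ hk
  exact ‹p.IsPrime›.mul_notMem hg₁ hg₂ (‹p.IsPrime›.mem_of_pow_mem k (hIp hk))

end Groth.Agent.S2189
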