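import Groth.Statements.S9560
import Groth.Agent.L20.FlatLocusOpen
import Mathlib.RingTheory.Smooth.Fiber
import Mathlib.RingTheory.Unramified.LocalRing
import Mathlib.RingTheory.Etale.Locus
import Mathlib.RingTheory.RingHom.Flat
import Mathlib.RingTheory.Smooth.NoetherianDescent
import Mathlib.RingTheory.Smooth.Flat

set_option autoImplicit false
universe u
open EtLocal

namespace Groth.Agent.S9560

/-- Suppose A is a Noetherian ring and B is a finite-type A-algebra, and consider a prime q of B lying
over the prime p of A, where B_q carries its A_p-algebra structure. Then B is étale at q over A (the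
local ring B_q is formally étale over A) if and only if the local homomorphism A_p → B_q is étale,
which means three things: B_q is A_p-flat, the ideal p B_q equals the maximal ideal of B_q, and the
residue field of q is a finite separable extension of the residue field of p (that B_q is
essentially of finite type over A_p holds automatically). -/
theorem result (A B : Type u) [CommRing A] [CommRing B]
    [Algebra A B] [IsNoetherianRing A] [Algebra.FiniteType A B]
    (p : Ideal A) [p.IsPrime] (q : Ideal B) [q.IsPrime] [q.LiesOver p]
    [Algebra (Localization.AtPrime p) (Localization.AtPrime q)]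
    [Localization.AtPrime.IsLiesOverAlgebra p q] :
    Algebra.IsEtaleAt A q ↔
      Module.Flat (Localization.AtPrime p) (Localization.AtPrime q) ∧
        p.map (algebraMap A (Localization.AtPrime q)) = IsLocalRing.maximalIdeal (Localization.AtPrime q) ∧
        Module.Finite p.ResidueField q.ResidueField ∧
        Algebra.IsSeparable p.ResidueField q.ResidueField := by
  haveI : Algebra.FinitePresentation A B := Algebra.FinitePresentation.of_finiteType.mp ‹_›
  have key : ∀ T : Submonoid B, Module.Flat A (LocalizedModule T B) ↔ Module.Flat A (Localization T) :=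
    fun T => Module.Flat.equiv_iff ((IsLocalizedModule.iso T (Algebra.linearMap B (Localization T))).restrictScalars A)
  have hflat : Module.Flat A (Localization.AtPrime q) ↔
      Module.Flat (Localization.AtPrime p) (Localization.AtPrime q) :=
    (Module.flat_iff_of_isLocalization (Localization.AtPrime p) p.primeCompl (Localization.AtPrime q)).symm
  constructor
  · intro h
    haveI : Algebra.IsUnramifiedAt A q := (Algebra.FormallyEtale.iff_formallyUnramified_and_formallySmooth.mp h).1
    obtain ⟨hsep, hmax⟩ := (Algebra.isUnramifiedAt_iff_map_eq A p q).mp inferInstance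
    obtain ⟨f, hf, _⟩ := Algebra.exists_etale_of_isEtaleAt (R := A) q
    haveI : Module.Flat A (Localization.Away f) := Algebra.Smooth.flat A (Localization.Away f)
    refine ⟨hflat.mp ((key _).mp ?_), hmax, inferInstance, hsep⟩
    exact Groth.L20.flat_localizedModule_of_le (Submonoid.powers_le.mpr hf) ((key _).mpr inferInstance)
  · rintro ⟨hfl, hmax, -, hsep⟩
    haveI : Algebra.IsUnramifiedAt A q := (Algebra.isUnramifiedAt_iff_map_eq A p q).mpr ⟨hsep, hmax⟩
    haveI : Module.Flat A (LocalizedModule q.primeCompl B) := (key _).mpr (hflat.mpr hfl)
    obtain ⟨g, hg, hgf⟩ := Groth.L20.exists_flat_away (R := A) (M := B) q.primeCompl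
    obtain ⟨f, hf, hfu⟩ := Algebra.exists_formallyUnramified_of_isUnramifiedAt (R := A) q
    have hfg : f * g ∉ q := fun hmem => ((‹q.IsPrime›.mem_or_mem hmem).elim hf hg)
    haveI : Module.Flat A (Localization.Away (f * g)) := (key _).mp <| by
      rw [Groth.L20.flat_localizedModule_iff_forall]
      intro J z hz
      rw [Groth.L20.flat_localizedModule_iff_forall] at hgf
      obtain ⟨t, ⟨k, rfl⟩, htz⟩ := hgf J z hz
      exact ⟨(f * g) ^ k, ⟨k, rfl⟩, by rw [mul_pow, mul_smul, htz, smul_zero]⟩
    haveI : Algebra.FormallyUnramified A (Localization.Away (f * g)) := by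
      rw [← Algebra.basicOpen_subset_unramifiedLocus_iff] at hfu ⊢
      exact .trans (PrimeSpectrum.basicOpen_mul_le_left _ _) hfu
    haveI : Algebra.Etale A (Localization.Away (f * g)) := Algebra.Etale.of_formallyUnramified_of_flat
    exact Algebra.basicOpen_subset_etaleLocus_iff.mpr inferInstance
      (show (⟨q, inferInstance⟩ : PrimeSpectrum B) ∈ PrimeSpectrum.basicOpen (f * g) from hfg)

end Groth.Agent.S9560
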