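import Groth.Statements.S9470
import Groth.Agent.L05.Henselization.AtPrime

set_option autoImplicit false
universe u
open Hensel

namespace Groth.Agent.S9470

/-- Let R be a ring, p a prime of R and R^h a henselization of the local ring R_p, regarded as an
R-algebra through R_p. For pairs (S, q) with S an étale R-algebra and q a prime of S over p such
that κ(p) → κ(q) is bijective: (a) there is exactly one R-algebra map f : S → R^h under which the
maximal ideal pulls back to q; (b) every element of R^h is f(s) for some such pair, map f and s ∈ S;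
(c) if such an f sends s to 0, then some R-algebra map S → S' to another such pair (S', q'), pulling
q' back to q, already sends s to 0. Together with filteredness of the category of pairs this
expresses that R^h is canonically the colimit of S over all pairs (S, q). (The published statement
also records the equal colimit of the local rings S_q.) -/
theorem result (R : Type u) [CommRing R]
    (p : Ideal R) [p.IsPrime] (Rh : Type u) [CommRing Rh] [IsLocalRing Rh]
    [Algebra (Localization.AtPrime p) Rh] [IsLocalHom (algebraMap (Localization.AtPrime p) Rh)]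
    [Hensel.IsHenselization (Localization.AtPrime p) Rh] [Algebra R Rh]
    [IsScalarTower R (Localization.AtPrime p) Rh] :
    (∀ (S : Type u) [CommRing S] [Algebra R S] [Algebra.Etale R S] (q : Ideal S) [q.IsPrime]
        (hq : p = q.comap (algebraMap R S)),
        Function.Bijective (Ideal.ResidueField.map p q (algebraMap R S) hq) →
          ∃! f : S →ₐ[R] Rh, (IsLocalRing.maximalIdeal Rh).comap f.toRingHom = q) ∧
    (∀ x : Rh, ∃ (S : Type u) (_ : CommRing S) (_ : Algebra R S) (_ : Algebra.Etale R S) (q : Ideal S)
        (_ : q.IsPrime) (hq : p = q.comap (algebraMap R S)),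
        Function.Bijective (Ideal.ResidueField.map p q (algebraMap R S) hq) ∧
          ∃ (f : S →ₐ[R] Rh) (s : S), (IsLocalRing.maximalIdeal Rh).comap f.toRingHom = q ∧ f s = x) ∧
    (∀ (S : Type u) [CommRing S] [Algebra R S] [Algebra.Etale R S] (q : Ideal S) [q.IsPrime]
        (hq : p = q.comap (algebraMap R S)),
        Function.Bijective (Ideal.ResidueField.map p q (algebraMap R S) hq) →
          ∀ (f : S →ₐ[R] Rh), (IsLocalRing.maximalIdeal Rh).comap f.toRingHom = q → ∀ s : S, f s = 0 →
            ∃ (S' : Type u) (_ : CommRing S') (_ : Algebra R S') (_ : Algebra.Etale R S') (q' : Ideal S')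
              (_ : q'.IsPrime) (hq' : p = q'.comap (algebraMap R S')),
              Function.Bijective (Ideal.ResidueField.map p q' (algebraMap R S') hq') ∧
                ∃ φ : S →ₐ[R] S', q'.comap φ.toRingHom = q ∧ φ s = 0) := by
  obtain ⟨σ, hσ, hu, hx, hk⟩ := Groth.L05.Henselization.prime_henselization_colimit p Rh
  refine ⟨fun S _ _ _ q _ hq hb => ?_, fun x => ?_, fun S _ _ _ q _ hq hb f hf s hs => ?_⟩
  · obtain ⟨φ, hφ⟩ := Groth.L05.Henselization.exists_point p q hq hb
    obtain ⟨f, hf, hfu⟩ := hu S φ
    refine ⟨f, ?_, fun g hg => hfu g (Groth.L05.Henselization.point_unique p _ _ ?_)⟩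
    · rw [← hσ, ← hφ, ← hf]
      rfl
    · rw [hφ, ← hg, ← hσ]
      rfl
  · obtain ⟨X, f, s, hf, hs⟩ := hx x
    haveI hq := RingHom.ker_isPrime X.φ
    refine ⟨X.R, inferInstance, inferInstance, X.etale, RingHom.ker X.φ, hq,
      Groth.L05.Henselization.comap_ker_point p X.φ,
      Groth.L05.Henselization.bijective_of_point p X.φ _ rfl _, f, s, ?_, hs⟩
    rw [← hσ, ← hf]
    rfl
  · obtain ⟨Z, g, hg, hgs⟩ := hk S f s hs
    haveI hq := RingHom.ker_isPrime Z.φ
    refine ⟨Z.R, inferInstance, inferInstance, Z.etale, RingHom.ker Z.φ, hq,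
      Groth.L05.Henselization.comap_ker_point p Z.φ,
      Groth.L05.Henselization.bijective_of_point p Z.φ _ rfl _, g, ?_, hgs⟩
    rw [← hf, ← hσ]
    show RingHom.ker (Z.φ.comp g) = _
    rw [hg]
    rfl

end Groth.Agent.S9470
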