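import Groth.Statements.S16774
import Groth.Agent.L08.TorusWeights.CentNhd
-- import your own Groth.Agent.* helpers here

set_option autoImplicit false
set_option backward.isDefEq.respectTransparency.types false
set_option linter.style.haveILetI false
open CategoryTheory MonoidalCategory CartesianMonoidalCategory MonObj GrpObj AlgebraicGeometry
universe u
open Red

namespace Groth.Agent.S16774

/-- Let G be a smooth affine group scheme with connected fibres over a scheme S, T ⊆ G a subtorus with
centralizer Z = Z_G(T) ⊇ T, and s ∈ S a point at which the geometric fibre of G is reductive and the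
geometric fibre of T is a maximal torus. Then over some open neighbourhood U of s the inclusion T →
Z_G(T) is an isomorphism and T is a maximal torus of G. (The published statement allows disconnected
fibres and concerns identity components; here the fibres of G are connected.) -/
theorem result {S : Scheme.{u}} {G T Z : Over S} [GrpObj G] [GrpObj T] [GrpObj Z]
    (hG : Smooth G.hom) (hGa : IsAffineHom G.hom) (hconn : ∀ s : S, _root_.IsConnected (G.hom.base ⁻¹' {s}))
    (i : T ⟶ G) [IsMonHom i] [Mono i] (hT : Red.IsTorus T) (z : Z ⟶ G) (hz : Red.IsCentralizerOf i z)
    (f : T ⟶ Z) (hf : f ≫ z = i) (s : S)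
    (hs : Red.IsReductiveOver (AlgebraicClosure (S.residueField s)) (Red.geomFibre s G))
    (hTs : Red.IsMaximalTorus ((Over.pullback (Red.geomPt s)).map i)) :
    ∃ U : S.Opens, s ∈ U ∧ IsIso ((Over.pullback U.ι).map f) ∧ Red.IsMaximalTorus ((Over.pullback U.ι).map i) := by
  haveI := hG; haveI := hGa
  exact Groth.L08.TorusWeights.exists_nhd_selfCentral hconn i hT z hz f hf s hs hTs

end Groth.Agent.S16774
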