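import Groth.Statements.S8398
import Groth.Agent.L08.Borel.CentTorus
import Groth.Agent.L25.Extension.ConnBC
import Groth.Agent.L08.Borel.MultUnip
import Groth.Agent.L08.Borel.CentBorel
-- import your own Groth.Agent.* helpers here

set_option autoImplicit false
set_option backward.isDefEq.respectTransparency.types false
set_option linter.style.haveILetI false
set_option backward.isDefEq.respectTransparency.types false
set_option linter.style.haveILetI false
universe u
open CategoryTheory MonoidalCategory CartesianMonoidalCategory MonObj GrpObj AlgebraicGeometry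
open SGA3x

namespace Groth.Agent.S8398

/-- Let G be an S-group scheme which is smooth and affine over S with connected fibres, T a maximal
torus of G, and u : H → G a central homomorphism from an S-group scheme H of multiplicative type and
of finite type. Then u factors through T. -/
theorem result (S : Scheme.{u}) (G : Over S) [GrpObj G]
    [Smooth G.hom] [IsAffineHom G.hom] (hconn : ∀ s : S, _root_.IsConnected (G.hom.base ⁻¹' {s}))
    (T : Over S) [GrpObj T] (i : T ⟶ G) (hT : Red.IsMaximalTorus i)
    (H : Over S) [GrpObj H] (hH : SGA3x.IsMultTypeFT H) (u : H ⟶ G) [IsMonHom u]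
    (hc : ∀ (X : Over S) (x : X ⟶ H) (g : X ⟶ G), (x ≫ u) * g = g * (x ≫ u)) :
    ∃ w : H ⟶ T, w ≫ i = u := by
  haveI := hT.1; haveI := hT.2.1
  haveI : LocallyOfFiniteType G.hom := inferInstance
  haveI : IsSeparated G.hom := inferInstance
  have hm := Groth.L25.Locus.isMultTypeFT_of_isTorus hT.2.2.1
  haveI := Groth.L25.MonoClosed.isClosedImmersion_of_mono hm i
  refine Groth.L08.Borel.exists_fac_of_fibres hH hm u i (fun s => ?_) fun _ X _ _ g h => (hc X h g).symm
  haveI : IsMonHom ((Over.pullback (Red.geomPt s)).map i) := Groth.L25.MonoClosed.isMonHom_pullbackMap _ _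
  haveI : IsMonHom ((Over.pullback (Red.geomPt s)).map u) := Groth.L25.MonoClosed.isMonHom_pullbackMap _ _
  haveI : Mono ((Over.pullback (Red.geomPt s)).map i) := Functor.map_mono _ _
  haveI : Smooth (Red.geomFibre s G).hom := inferInstanceAs (Smooth (Limits.pullback.snd G.hom (Red.geomPt s)))
  haveI : IsAffine (Red.geomFibre s G).left := by
    haveI : IsAffineHom (Red.geomFibre s G).hom := inferInstanceAs (IsAffineHom (Limits.pullback.snd G.hom (Red.geomPt s)))
    exact isAffine_of_isAffineHom (Red.geomFibre s G).hom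
  haveI : ConnectedSpace ↥(Red.geomFibre s G).left := by
    have h := Groth.L25.Extension.isConnected_fibre_bc (Red.geomPt s) G hconn (IsLocalRing.closedPoint _)
    rw [connectedSpace_iff_univ]
    refine (congrArg _root_.IsConnected ?_).mp h
    exact Set.eq_univ_of_forall fun x => Subsingleton.elim (α := PrimeSpectrum (AlgebraicClosure (S.residueField s))) _ _
  have hTs : AGF.IsMaxTorus ((Over.pullback (Red.geomPt s)).map i) :=
    ⟨inferInstance, inferInstance, Groth.L25.Locus.isTorus_bc hT.2.2.1 _,
      fun T₁ _ j₁ _ _ f₁ h₁ hf₁ => hT.2.2.2 s T₁ j₁ f₁ h₁ hf₁⟩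
  have hus : ∀ (X : Over (Spec (CommRingCat.of (AlgebraicClosure (S.residueField s))))) (g : X ⟶ Red.geomFibre s G)
      (x : X ⟶ Red.geomFibre s H), g * (x ≫ (Over.pullback (Red.geomPt s)).map u) =
        (x ≫ (Over.pullback (Red.geomPt s)).map u) * g := fun X g x => by
    apply Groth.L25.CentralLift.toBase_injective
    rw [Groth.L25.NilAction.toBase_mul, Groth.L25.NilAction.toBase_mul, Groth.L25.SplitSub.toBase_map]
    exact (hc _ _ _).symm
  obtain ⟨C, gC, c, hcen⟩ := Groth.L08.Borel.exists_centralizer_torus ((Over.pullback (Red.geomPt s)).map i) hTs.2.2.1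
  haveI := hcen.1; haveI := hcen.2.1
  obtain ⟨h1, h2, h3, h4, ⟨t, ht⟩, hcomm⟩ := Groth.L08.Borel.centralizer_props hTs.2.2.1 hcen
  haveI := h1; haveI := h2; haveI := h3; haveI := h4
  obtain ⟨v, hv⟩ := (hcen.2.2 _ ((Over.pullback (Red.geomPt s)).map u)).2 fun X' x h =>
    (hus X' (h ≫ (Over.pullback (Red.geomPt s)).map i) x).symm
  haveI : IsMonHom v := Groth.L08.Borel.isMonHom_of_comp_mono v c _ hv
  obtain ⟨w, hw⟩ := Groth.L08.Borel.mult_le_maxTorus_solvable (Groth.L08.Borel.isSolvableGrp_centralizer hTs hcen)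
    (Groth.L08.Borel.isMaxTorus_factor (iB := c) (ht.symm ▸ hTs))
    (fun Y g x => by
      rw [← cancel_mono c, MonObj.mul_comp, MonObj.mul_comp, Category.assoc, ht]
      exact hcomm Y g x)
    (Groth.L25.MultTypeBC.isMultTypeFT_bc hH (Red.geomPt s)) v (fun Y g x => by
      rw [← cancel_mono c, MonObj.mul_comp, MonObj.mul_comp, Category.assoc, hv]
      exact hus Y (g ≫ c) x)
  exact Groth.L08.Borel.fac_of_geomFibre u i s w (by rw [← ht, reassoc_of% hw, hv])

end Groth.Agent.S8398
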