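import Groth.Statements.S8447
import Groth.Agent.L14.RankOne.Generated

set_option autoImplicit false
universe u
open CategoryTheory MonoidalCategory CartesianMonoidalCategory MonObj GrpObj AlgebraicGeometry CategoryTheory.Limits
open Red

namespace Groth.Agent.S8447

/-- Let G be a reductive S-group, i : T ⟶ G a maximal torus, α a character of T non-trivial on every
geometric fibre, and p₊, p₋ : 𝔾_a ⟶ G monomorphisms of groups normalised by T with multipliers α and
α⁻¹ such that 𝔾_a ×_S T ×_S 𝔾_a ⟶ G, (y, t, x) ↦ p₋(y) i(t) p₊(x), is an open immersion (a rank-one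
system: G has semisimple rank 1 and p₊, p₋ trivialise the root groups of α and -α). Then the centre
of G is Ker α: a point g of G with values in an S-scheme X commutes with all points of G after every
base change X' ⟶ X if and only if g = i(t) for some X-point t of T with α(t) = 1. (In particular the
centre is a closed subgroup of multiplicative type; only the equality of points is stated.) -/
theorem result (S : Scheme.{u}) (G T : Over S) [GrpObj G] [GrpObj T] (i : T ⟶ G) [IsMonHom i] [Mono i] (hG : Red.IsReductive G) (hTm : Red.IsMaximalTorus i)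
    (α : T ⟶ Red.Gm S) [IsMonHom α] (hα : ∀ s : S, (Over.pullback (Red.geomPt s)).map α ≠ 1)
    (pp pm : Red.Ga S ⟶ G) [IsMonHom pp] [Mono pp] [IsMonHom pm] [Mono pm]
    (hpp : ∀ (X : Over S) (t : X ⟶ T) (x : X ⟶ Red.Ga S), ∃ x' : X ⟶ Red.Ga S,
      x' ≫ pp = (t ≫ i) * (x ≫ pp) * (t ≫ i)⁻¹ ∧ Red.gaFn x' = Red.gmFn (t ≫ α) * Red.gaFn x)
    (hpm : ∀ (X : Over S) (t : X ⟶ T) (y : X ⟶ Red.Ga S), ∃ y' : X ⟶ Red.Ga S,
      y' ≫ pm = (t ≫ i) * (y ≫ pm) * (t ≫ i)⁻¹ ∧ Red.gaFn y' * Red.gmFn (t ≫ α) = Red.gaFn y)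
    (hΩ : IsOpenImmersion (((pm ⊗ₘ i) ⊗ₘ pp) ≫ (μ[G] ▷ G) ≫ μ[G]).left) (X : Over S) (g : X ⟶ G) :
    (∀ (X' : Over S) (x : X' ⟶ X) (k : X' ⟶ G), (x ≫ g) * k = k * (x ≫ g)) ↔
      ∃ t : X ⟶ T, t ≫ i = g ∧ t ≫ α = 1 := by
  have hT := hTm.2.2.1
  have hcomm : ∀ {Y : Over S} (a b : Y ⟶ T), a * b = b * a := fun a b =>
    Groth.L25.Central.mul_comm_of_multTypeFT (Groth.L25.Locus.isMultTypeFT_of_isTorus hT) a b
  constructor
  · intro hg
    obtain ⟨t, rfl⟩ := (Groth.L14.RankOne.commute_torus_iff hG hT hα hΩ hpp hpm g).1 fun X' y z =>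
      (hg X' y (z ≫ i)).symm
    refine ⟨t, rfl, GmPts.gmFn_injective ?_⟩
    show Red.gmFn (t ≫ α) = Red.gmFn 1
    let o : X ⟶ Red.Ga S := Groth.L25.GaPts.ptOfElt 1
    obtain ⟨o', ho', ho''⟩ := hpp X t o
    have h := hg X (𝟙 X) (o ≫ pp)
    rw [Category.id_comp] at h
    rw [h, mul_inv_cancel_right, cancel_mono] at ho'
    rw [ho', Groth.L25.GaPts.gaFn_ptOfElt, _root_.mul_one] at ho''
    rw [GmPts.gmFn_one, ← ho'']
  · rintro ⟨t, rfl, ht⟩ X' x k
    refine Groth.L14.RankOne.commute_of_commute_cell hG hΩ (t ≫ i) (fun X'' y s => ?_) (fun X'' y r => ?_)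
      (fun X'' y r => ?_) x k
    · show _ * _ = _ * _
      rw [← Category.assoc, ← MonObj.mul_comp, hcomm, MonObj.mul_comp]
    · obtain ⟨r', h1, h2⟩ := hpp X'' (y ≫ t) r
      have e : r' = r := Groth.L25.GaPts.gaFn_injective (show Red.gaFn r' = Red.gaFn r by
        rw [h2, Category.assoc, ht, MonObj.comp_one, GmPts.gmFn_one, _root_.one_mul])
      rw [e] at h1
      show _ * _ = _ * _
      rw [← Category.assoc]
      exact (eq_mul_inv_iff_mul_eq.1 h1).symm
    · obtain ⟨r', h1, h2⟩ := hpm X'' (y ≫ t) r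
      have e : r' = r := Groth.L25.GaPts.gaFn_injective (show Red.gaFn r' = Red.gaFn r by
        rw [← h2, Category.assoc, ht, MonObj.comp_one, GmPts.gmFn_one, _root_.mul_one])
      rw [e] at h1
      show _ * _ = _ * _
      rw [← Category.assoc]
      exact (eq_mul_inv_iff_mul_eq.1 h1).symm

end Groth.Agent.S8447
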