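import Groth.Statements.S3952
import Groth.Agent.L14.Chev.Cell.BorelFibre
import Groth.Agent.L14.Chev.Cell.BorelGroup

set_option autoImplicit false
set_option linter.style.haveILetI false
set_option backward.isDefEq.respectTransparency.types false
open CategoryTheory MonoidalCategory CartesianMonoidalCategory MonObj GrpObj AlgebraicGeometry
universe u
open RedSub Groth.L14.Chev.Cell CategoryTheory.Limits

namespace Groth.Agent.S3952

/-- Let G be a split reductive S-group (splitting D), b a system of simple roots and e an enumeration of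
the positive roots in any order. Then the morphism T x_S G_a^{R_+} ⟶ G, (t, x) ↦ i(t) u_{e 0}(x_0) ⋯
u_{e (m-1)}(x_{m-1}), is a closed immersion, and its image is a Borel subgroup of G: there are a
Borel subgroup B ⟶ G (closed, smooth, with Borel geometric fibres) and an isomorphism of T x_S
G_a^{R_+} with B over G. -/
theorem result {S : Scheme.{u}} {G : Over S} [GrpObj G] (D : Red.SplitRed G)
    (b : D.P.Base) {m : ℕ} (epos : Fin m → D.idx) (hpos : RedSub.Enumerates (RedSub.posRoots D.P b) epos) :
    IsClosedImmersion (RedSub.borelMap D epos).left ∧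
      ∃ (B : Over S) (_ : GrpObj B) (i : B ⟶ G) (e : D.T ⊗ RedSub.pow (Red.Ga S) m ≅ B),
        Red.IsBorel i ∧ e.hom ≫ i = RedSub.borelMap D epos := by
  haveI := isClosedImmersion_borelMap hpos
  obtain ⟨hG, hi⟩ := exists_grpObj_borel hpos
  haveI := hi
  refine ⟨‹_›, D.T ⊗ RedSub.pow (Red.Ga S) m, hG, RedSub.borelMap D epos, Iso.refl _,
    ⟨hi, ‹_›, (affSmooth_borel D m).2, fun s => ?_⟩, Category.id_comp _⟩
  obtain ⟨-, -, hcon, -⟩ := D.reductive.2.2 s
  haveI : ConnectedSpace (Red.bc (Red.geomPt s) G).left := hcon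
  obtain ⟨_, ⟨U, hU, rfl⟩, hsU, -⟩ := S.isBasis_affineOpens.exists_subset_of_mem_open (Set.mem_univ s) isOpen_univ
  let j : Spec (CommRingCat.of Γ(S, U)) ⟶ S := hU.fromSpec
  have hr : Set.range (Red.geomPt s) ⊆ Set.range j := by
    rintro _ ⟨x, rfl⟩
    rw [show j = hU.fromSpec from rfl, hU.range_fromSpec]
    have hs : (Red.geomPt s) x ∈ Set.range (S.fromSpecResidueField s) := by
      show (Spec.map _ ≫ S.fromSpecResidueField s) x ∈ _
      exact ⟨_, (Scheme.Hom.comp_apply _ _ _).symm⟩
    rw [Scheme.range_fromSpecResidueField] at hs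
    rw [Set.mem_singleton_iff] at hs
    rw [hs]
    exact hsU
  letI : Algebra Γ(S, U) (AlgebraicClosure (S.residueField s)) :=
    (Spec.preimage (IsOpenImmersion.lift j (Red.geomPt s) hr)).hom.toAlgebra
  have hq : Groth.L14.Chev.Cell.qK j (AlgebraicClosure (S.residueField s)) = Red.geomPt s := by
    show Spec.map (CommRingCat.ofHom (algebraMap _ _)) ≫ j = _
    rw [RingHom.algebraMap_toAlgebra, CommRingCat.ofHom_hom, Spec.map_preimage, IsOpenImmersion.lift_fac]
  haveI := Groth.L14.Chart.isMonHom_i (D := D)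
  haveI := D.maximalTorus.2.1
  have hT : AGF.IsMaxTorus ((Over.pullback (Red.geomPt s)).map D.i) :=
    ⟨isMonHom_bcMap (Red.geomPt s) D.i, inferInstance, Groth.L25.Locus.isTorus_bc D.maximalTorus.2.2.1 _,
      D.maximalTorus.2.2.2 s⟩
  exact isBorelOver_borelMap hpos hq hT

end Groth.Agent.S3952
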