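import Groth.Statements.S3032
import Groth.Agent.Lead.Subcomod

set_option autoImplicit false
universe u
open CategoryTheory MonoidalCategory CartesianMonoidalCategory MonObj GrpObj AlgebraicGeometry TensorProduct
open SGA3

open TensorProduct

namespace Groth.Agent.S3032

/-- Let R be a Noetherian commutative ring, C an R-coalgebra which is flat as an R-module, V a
C-comodule and M a finitely generated R-submodule of V. Then M is contained in a subcomodule of V
which is finitely generated over R. -/
theorem result (R : Type u) [CommRing R] [IsNoetherianRing R] (C : Type u) [AddCommGroup C]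
    [Module R C] [Coalgebra R C] [Module.Flat R C] (V : Type u) [AddCommGroup V] [Module R V] [HopfRep.Comod R C V]
    (M : Submodule R V) (hM : M.FG) :
    ∃ W : Submodule R V, HopfRep.IsSubcomod (k := R) (A := C) W ∧ M ≤ W ∧ W.FG := by
  classical
  obtain ⟨G, hG⟩ := hM
  choose S hS using fun m : V => TensorProduct.exists_finset (HopfRep.Comod.coact (k := R) (A := C) m)
  let U : Submodule R V := Submodule.span R (((G.biUnion S).image Prod.fst : Finset V) : Set V)
  haveI : Module.Finite R U := Module.Finite.iff_fg.2 ⟨_, rfl⟩
  let ρ := HopfRep.Comod.coact (k := R) (A := C) (V := V)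
  let f : V →ₗ[R] (V ⧸ U) ⊗[R] C := U.mkQ.rTensor C ∘ₗ ρ
  let W : Submodule R V := LinearMap.ker f
  have hexU : Function.Exact (U.subtype.rTensor C) (U.mkQ.rTensor C) :=
    rTensor_exact C (LinearMap.exact_subtype_mkQ U) (Submodule.mkQ_surjective U)
  have hWU : W ≤ U := fun v hv => by
    obtain ⟨y, hy⟩ := (hexU _).1 hv
    have := LinearMap.congr_fun (Groth.L08.fAct_counit (k := R) (A := C) (V := V)) v
    rw [Groth.L08.fAct_apply, show HopfRep.Comod.coact (k := R) (A := C) v = ρ v from rfl, ← hy] at this
    rw [← LinearMap.id_apply (R := R) v, ← this]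
    clear this hy
    induction y using TensorProduct.induction_on with
    | zero => simp
    | add a b ha hb => simp only [map_add]; exact U.add_mem ha hb
    | tmul x a =>
      rw [LinearMap.rTensor_tmul, LinearMap.lTensor_tmul, TensorProduct.rid_tmul]
      exact U.smul_mem _ x.2
  have hexW : Function.Exact (W.subtype.rTensor C) (f.rTensor C) :=
    Module.Flat.rTensor_exact C (LinearMap.exact_subtype_ker_map f)
  refine ⟨W, fun w hw => ?_, ?_, ?_⟩
  · refine (hexW _).1 ?_
    have e : ∀ z : V ⊗[R] C, (TensorProduct.assoc R (V ⧸ U) C C) (f.rTensor C z) =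
        U.mkQ.rTensor (C ⊗[R] C) (TensorProduct.assoc R V C C (ρ.rTensor C z)) := by
      intro z
      induction z using TensorProduct.induction_on with
      | zero => simp
      | add a b ha hb => simp only [map_add, ha, hb]
      | tmul v c =>
        simp only [f, LinearMap.rTensor_tmul, LinearMap.comp_apply]
        induction ρ v using TensorProduct.induction_on with
        | zero => simp
        | add a b ha hb => simp only [map_add, add_tmul, ha, hb]
        | tmul x d => simp
    apply (TensorProduct.assoc R (V ⧸ U) C C).injective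
    rw [e, Groth.L08.coassoc_apply, map_zero]
    have h0 : U.mkQ.rTensor C (ρ w) = 0 := hw
    rw [← LinearMap.comp_apply, LinearMap.rTensor_comp_lTensor, ← LinearMap.lTensor_comp_rTensor,
      LinearMap.comp_apply, h0, map_zero]
  · rw [← hG, Submodule.span_le]
    intro m hm
    show f m = 0
    rw [LinearMap.comp_apply, hexU _]
    rw [show ρ m = HopfRep.Comod.coact (k := R) (A := C) m from rfl, hS m]
    refine ⟨∑ i ∈ (S m).attach, (⟨i.1.1, Submodule.subset_span (Finset.mem_coe.2 (Finset.mem_image.2
      ⟨i.1, Finset.mem_biUnion.2 ⟨m, hm, i.2⟩, rfl⟩))⟩ : U) ⊗ₜ[R] i.1.2, ?_⟩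
    rw [map_sum]
    conv_rhs => rw [← Finset.sum_attach]
    rfl
  · have : IsNoetherian R U := inferInstance
    have hfg := IsNoetherian.noetherian (W.comap U.subtype)
    have := hfg.map U.subtype
    rwa [Submodule.map_comap_subtype, inf_eq_right.2 hWU] at this

end Groth.Agent.S3032
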