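import Groth.Statements.S1402
import Mathlib.AlgebraicGeometry.ZariskisMainTheorem
import Mathlib.AlgebraicGeometry.QuasiAffine

set_option autoImplicit false
universe u
open FlatMor

set_option linter.style.haveILetI false

namespace Groth.Agent.S1402

open AlgebraicGeometry CategoryTheory Limits in
/-- A separated, locally quasi-finite morphism is ind-quasi-affine. -/
theorem result {X Y : Scheme.{u}} (f : X ⟶ Y) [IsSeparated f] [LocallyQuasiFinite f] [LocallyOfFiniteType f] :
    MoreMor.IsIndQuasiAffineHom f := by
  intro V hV U hU
  haveI : IsAffine V.toScheme := hV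
  haveI : CompactSpace (U : Scheme.{u}) := isCompact_iff_compactSpace.mp hU
  let g : (U : Scheme.{u}) ⟶ V.toScheme := U.ι ≫ (f ∣_ V)
  haveI : IsSeparated (f ∣_ V) := IsZariskiLocalAtTarget.restrict ‹IsSeparated f› V
  haveI : LocallyOfFiniteType (f ∣_ V) := inferInstance
  haveI : LocallyQuasiFinite (f ∣_ V) := inferInstance
  haveI : IsSeparated g := inferInstance
  haveI : LocallyOfFiniteType g := inferInstance
  haveI : LocallyQuasiFinite g := inferInstance
  haveI : QuasiCompact g := (quasiCompact_iff_compactSpace (f := g)).mpr inferInstance
  haveI : IsOpenImmersion g.toNormalization := inferInstance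
  haveI : IsAffine g.normalization := isAffine_of_isAffineHom g.fromNormalization
  exact Scheme.IsQuasiAffine.of_isImmersion g.toNormalization

end Groth.Agent.S1402
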