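import Groth.Statements.S2906
import Groth.Agent.L20.SchDesc.Main
import Groth.Agent.L20.SchDesc.Props
import Mathlib.AlgebraicGeometry.Morphisms.LocalFlatDescent
import Mathlib.AlgebraicGeometry.Morphisms.Descent
import Groth.Agent.S1402
import Groth.Agent.L23.LocalDimEtale

set_option autoImplicit false
open CategoryTheory CategoryTheory.Limits AlgebraicGeometry Opposite
universe u
open SGA1

set_option backward.isDefEq.respectTransparency.types false
set_option linter.style.haveILetI false

namespace Groth.Agent.S2906

/-- Let g : S' ⟶ S be flat, surjective and quasi-compact. Then every descent datum relative to g whose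
underlying scheme is etale, separated and quasi-compact over S' is isomorphic to the canonical
descent datum of a scheme etale, separated and quasi-compact over S. (Descent data relative to g are
taken in functor-of-points form.) -/
theorem result {S' S : Scheme.{u}} (g : S' ⟶ S) [Flat g] [Surjective g] [QuasiCompact g]
    (D : Desc.SchDD g) [QuasiCompact D.obj.hom] [IsSeparated D.obj.hom] [Etale D.obj.hom] :
    ∃ U : Over S, QuasiCompact U.hom ∧ IsSeparated U.hom ∧ Etale U.hom ∧ Nonempty ((Desc.toDD g).obj U ≅ D) := by
  have : LocallyQuasiFinite D.obj.hom := Groth.L23.lqf_of_etale _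
  obtain ⟨U, ⟨e⟩⟩ := Groth.L20.SchDesc.exists_iso_toDD D
    (Groth.L20.SchDesc.effective_of_isIndQuasiAffineHom (Groth.Agent.S1402.result _) _)
  obtain ⟨h1, h2, h3⟩ := Groth.L20.SchDesc.props_of_iso g D U e
  exact ⟨U, h1, h2, h3, ⟨e⟩⟩

end Groth.Agent.S2906
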