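import Groth.Statements.S16775
import Groth.Agent.L25.Extension.Main
import Groth.Agent.L25.Extension.Comm
import Groth.Agent.L25.Extension.Quotient

set_option backward.isDefEq.respectTransparency.types false

set_option autoImplicit false
open CategoryTheory MonoidalCategory CartesianMonoidalCategory MonObj GrpObj AlgebraicGeometry
universe u
open SGA3x

namespace Groth.Agent.S16775

/-- Let G be a smooth affine group scheme with connected fibres over a scheme S, H ⊆ G a normal subgroup
scheme of multiplicative type (of finite type), G → Q = G/H the quotient, and H' ⊆ Q a central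
subgroup scheme of multiplicative type (of finite type). Then the preimage of H' in G is a central
subgroup scheme of G of multiplicative type. -/
theorem result {S : Scheme.{u}} {G H Q H' P : Over S}
    [GrpObj G] [GrpObj H] [GrpObj Q] [GrpObj H'] [GrpObj P]
    (hG : Smooth G.hom) (hGa : IsAffineHom G.hom) (hconn : ∀ s : S, _root_.IsConnected (G.hom.base ⁻¹' {s}))
    (i : H ⟶ G) [IsMonHom i] [Mono i] (hH : SGA3x.IsMultTypeFT H) (hHn : AlgGrp.IsNormalHom i)
    (q : G ⟶ Q) [IsMonHom q] (hq : RedSub.IsQuotient i q) (hker : AlgGrp.IsKernel i q)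
    (j : H' ⟶ Q) [IsMonHom j] [Mono j] (hH' : SGA3x.IsMultTypeFT H')
    (hcenH' : ∀ (X : Over S) (x : X ⟶ H') (g : X ⟶ Q), (x ≫ j) * g = g * (x ≫ j))
    (i' : P ⟶ G) [IsMonHom i'] (p : P ⟶ H') (hP : IsPullback i' p q j) :
    SGA3x.IsMultTypeFT P ∧ ∀ (X : Over S) (x : X ⟶ P) (g : X ⟶ G), (x ≫ i') * g = g * (x ≫ i') := by
  have : IsAffineHom H.hom := Groth.L25.Central.isAffineHom_of_multTypeFT hH
  have hx := Groth.L25.Extension.IsExt.of_isQuotient hq (Groth.L25.Extension.comp_eq_of_isQuotient hq)
  have : Mono i' := ⟨fun a b e => hP.hom_ext e ((cancel_mono j).1 (by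
    rw [Category.assoc, Category.assoc, ← hP.w, ← Category.assoc, e, Category.assoc]))⟩
  have : IsMonHom p := Groth.L25.Bridge.isMonHom_of_mul p fun Y a b => by
    rw [← cancel_mono j, Category.assoc, ← hP.w, ← Category.assoc, MonObj.mul_comp, MonObj.mul_comp,
      MonObj.mul_comp, Category.assoc, Category.assoc, hP.w, Category.assoc, Category.assoc]
  let iP : H ⟶ P := hP.lift i 1 (by rw [hx.comp, MonObj.one_comp])
  have hiP : iP ≫ i' = i := hP.lift_fst _ _ _
  have : IsMonHom iP := Groth.L25.Bridge.isMonHom_of_mul iP fun Y a b => by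
    rw [← cancel_mono i', Category.assoc, hiP, MonObj.mul_comp _ _ i', Category.assoc, Category.assoc, hiP, MonObj.mul_comp]
  have hcenH : ∀ (X : Over S) (a : X ⟶ H) (g : X ⟶ G), (a ≫ i) * g = g * (a ≫ i) :=
    Groth.L25.Extension.central_of_normal hH i hHn fun s => Or.inr (hconn s)
  have hcov : Groth.L25.Covers.Cov p := Groth.L25.Covers.Cov.of_isPullback hP.flip hx.cov
  have hcen : ∀ (X : Over S) (x : X ⟶ P) (g : X ⟶ G), (x ≫ i') * g = g * (x ≫ i') :=
    Groth.L25.Extension.comm_eq hH' hH i' i p hcov
      (fun X a g => hx.ker X _ (by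
        rw [Groth.L25.Covers.commutator_comp, commutatorElement_eq_one_iff_mul_comm, Category.assoc, hP.w,
          ← Category.assoc]
        exact hcenH' X _ _))
      (fun X a h => (hcenH X h _).symm)
      (fun X a g ha => by
        obtain ⟨n, hn⟩ := hx.ker X (a ≫ i') (by rw [Category.assoc, hP.w, ← Category.assoc, ha, MonObj.one_comp])
        rw [← hn]
        exact hcenH X n g)
      (fun s => Or.inr (hconn s))
  have hext : Groth.L25.Extension.IsExt iP p :=
    ⟨⟨fun a b e => (cancel_mono i).1 (by rw [← hiP, ← Category.assoc, e, Category.assoc])⟩, hP.lift_snd _ _ _,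
      fun X a ha => by
        obtain ⟨n, hn⟩ := hx.ker X (a ≫ i') (by rw [Category.assoc, hP.w, ← Category.assoc, ha, MonObj.one_comp])
        exact ⟨n, by rw [← cancel_mono i', Category.assoc, hiP, hn]⟩, hcov⟩
  refine ⟨hext.isMultTypeFT (fun X a b => ?_) hH hH', hcen⟩
  rw [← cancel_mono i', MonObj.mul_comp, MonObj.mul_comp]
  exact hcen X a (b ≫ i')

end Groth.Agent.S16775
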