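import Groth.Statements.S17693
import Groth.Agent.L20.RG.WeilAF
import Groth.Agent.S1841
import Groth.Agent.S2324
import Groth.Agent.L08.AbelianGrp
import Groth.Agent.L20.ThickAffine
import Mathlib.RingTheory.Artinian.Module
import Mathlib.AlgebraicGeometry.Limits

set_option autoImplicit false
universe u
open CategoryTheory CategoryTheory.Limits AlgebraicGeometry
open WeilRes

set_option backward.isDefEq.respectTransparency.types false
set_option linter.style.haveILetI false
open CategoryTheory CategoryTheory.Limits AlgebraicGeometry TopologicalSpace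

/-- Finitely many points of a group of finite type over a finite algebra over a field lie in an affine open. -/
theorem Groth.Agent.S17693.exists_affine
    (k A : Type u) [Field k] [CommRing A] [Algebra k A] [Module.Finite k A]
    (G : Over (Spec (CommRingCat.of A))) [GrpObj G] [LocallyOfFiniteType G.hom] [QuasiCompact G.hom]
    (F : Set G.left) (hF : F.Finite) : ∃ V : G.left.Opens, IsAffineOpen V ∧ F ⊆ (V : Set G.left) := by
  haveI : IsArtinianRing A := IsArtinianRing.of_finite k A
  haveI : DiscreteTopology (Spec (CommRingCat.of A)) := inferInstanceAs (DiscreteTopology (PrimeSpectrum A))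
  haveI : Finite (Spec (CommRingCat.of A)) := inferInstanceAs (Finite (PrimeSpectrum A))
  let B := Spec (CommRingCat.of A)
  have key : ∀ p : B, ∃ V : G.left.Opens, IsAffineOpen V ∧ (∀ z ∈ V, G.hom z = p) ∧
      ∀ z ∈ F, G.hom z = p → z ∈ V := fun p => by
    let K : Type u := B.residueField p
    let i : Spec (CommRingCat.of K) ⟶ B := B.fromSpecResidueField p
    haveI : IsClosedImmersion i := isClosed_singleton_iff_isClosedImmersion.1 (isClosed_discrete _)
    let H : Over (Spec (CommRingCat.of K)) := Red.bc i G
    let t : H.left ⟶ G.left := pullback.fst G.hom i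
    haveI : IsClosedImmersion t := MorphismProperty.pullback_fst _ _ ‹_›
    haveI : LocallyOfFiniteType H.hom := inferInstanceAs (LocallyOfFiniteType (pullback.snd G.hom i))
    haveI : QuasiCompact H.hom := inferInstanceAs (QuasiCompact (pullback.snd G.hom i))
    haveI : IsSeparated H.hom := Groth.L08.AbelianGrp.isSeparated H
    haveI : CompactSpace H.left := QuasiCompact.compactSpace_of_compactSpace H.hom
    haveI : H.left.IsSeparated := ⟨by rw [← terminal.comp_from H.hom]; infer_instance⟩
    obtain ⟨L, hL⟩ := Groth.Agent.S1841.result K H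
    obtain ⟨n, s, hs, -, hO⟩ := Groth.Agent.S2324.result H.left L hL (t ⁻¹' F) (hF.preimage t.isEmbedding.injective.injOn) ⊤
      (fun _ _ => trivial)
    obtain ⟨U₁, hU₁, hU₁O⟩ := t.isEmbedding.isInducing.isOpen_iff.1 (CohB1.genLocus _ s).2
    let Up : B.Opens := ⟨{p}, isOpen_discrete _⟩
    let V : G.left.Opens := ⟨U₁, hU₁⟩ ⊓ G.hom ⁻¹ᵁ Up
    have ht : ∀ w, G.hom (t w) = p := fun w => by
      rw [← Scheme.Hom.comp_apply, pullback.condition, Scheme.Hom.comp_apply]
      exact Scheme.fromSpecResidueField_apply _ _
    have hrange : ∀ z, G.hom z = p → ∃ w, t w = z := fun z hz => by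
      obtain ⟨w, hw, -⟩ := Scheme.Pullback.exists_preimage_pullback (f := G.hom) (g := i) z
        (IsLocalRing.closedPoint _) (hz.trans (Scheme.fromSpecResidueField_apply _ _).symm)
      exact ⟨w, hw⟩
    have hpre : t ⁻¹ᵁ V = CohB1.genLocus _ s := by
      exact Opens.ext (Set.ext fun w => ⟨fun h => hU₁O.le h.1, fun h => ⟨hU₁O.ge h, ht w⟩⟩)
    haveI : IsAffine (t ⁻¹ᵁ V).toScheme := by rw [hpre]; exact hO
    refine ⟨V, Groth.L20.ThickAffine.isAffine_of_surjective (t ∣_ V) (fun z => ?_), fun z hz => hz.2, fun z hz hzp => ?_⟩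
    · obtain ⟨w, hw⟩ := hrange z.1 (z.2 : z.1 ∈ V).2
      refine ⟨⟨w, by show t w ∈ V; rw [hw]; exact z.2⟩, Subtype.ext ?_⟩
      exact (morphismRestrict_base_coe t V _).trans hw
    · obtain ⟨w, rfl⟩ := hrange z hzp
      exact ⟨(hU₁O.symm.subset (hs hz) : w ∈ t ⁻¹' U₁), hzp⟩
  choose V hV hVp hVF using key
  refine ⟨⨆ p, V p, IsAffineOpen.iSup_of_disjoint hV fun p q hpq => ?_, fun z hz =>
    Opens.mem_iSup.2 ⟨_, hVF _ z hz rfl⟩⟩
  exact disjoint_iff_inf_le.2 fun z hz => hpq ((hVp p z hz.1).symm.trans (hVp q z hz.2))

namespace Groth.Agent.S17693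

/-- Let k be a field, A a finite k-algebra and G a group scheme of finite type over Spec A, not
necessarily smooth. Then the Weil restriction of G along Spec A → Spec k is representable: there
exist a k-scheme R and an A-morphism q : R ×_k Spec A → G such that for every k-scheme T the map g ↦
(g ×_k Spec A) ≫ q is a bijection from k-morphisms T → R onto A-morphisms T ×_k Spec A → G. (The
published statement adds that the representing k-group scheme is quasi-projective; only
representability is stated here.) -/
theorem result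
    (k A : Type u) [Field k] [CommRing A] [Algebra k A] [Module.Finite k A]
    (G : Over (Spec (CommRingCat.of A))) [GrpObj G] [LocallyOfFiniteType G.hom] [QuasiCompact G.hom] :
    ∃ (R : Over (Spec (CommRingCat.of k)))
      (q : Red.bc (Spec.map (CommRingCat.ofHom (algebraMap k A))) R ⟶ G),
      WeilRes.IsWeilRes (Spec.map (CommRingCat.ofHom (algebraMap k A))) G R q := by
  let f := Spec.map (CommRingCat.ofHom (algebraMap k A))
  haveI : IsFinite f := (IsFinite.SpecMap_iff _).2 (RingHom.finite_algebraMap.2 inferInstance)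
  haveI : Flat f := Flat.SpecMap_iff.2 (RingHom.flat_algebraMap_iff.2 inferInstance)
  haveI : LocallyOfFinitePresentation f := LocallyOfFinitePresentation.iff_locallyOfFiniteType.mpr inferInstance
  obtain ⟨R, q, hq⟩ := Groth.L20.RG.WeilAF.exists_rep f G (fun _ F hF _ => Groth.Agent.S17693.exists_affine k A G F hF)
  exact ⟨R, q, fun T => ⟨fun a b e => hq.ext e, fun x => (hq T x).exists⟩⟩

end Groth.Agent.S17693
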