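import Groth.Statements.S17325
import Mathlib.Algebra.CharP.Lemmas
import Mathlib.Algebra.Polynomial.Roots
import Mathlib.LinearAlgebra.FiniteDimensional.Basic
import Mathlib.FieldTheory.IsAlgClosed.Basic

set_option autoImplicit false
universe u v
open LieAlg

namespace Groth.Agent.S17325

/-- Let k be an algebraically closed field of characteristic p > 0, V a finite-dimensional k-vector
space and g a nonzero k-linear subspace of End_k(V) closed under the p-th power map u ↦ u^p. Then g
contains a nonzero u with u^p = c u for some c ∈ k, i.e. a line k u closed under p-th powers. (The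
published lemma concerns an abstract nonzero finite-dimensional restricted Lie algebra; this row
concerns subspaces of End_k(V) closed under p-th powers, a class that contains every restricted Lie
subalgebra of gl(V).) -/
theorem result (k : Type u) [Field k] [IsAlgClosed k]
    (p : ℕ) [Fact p.Prime] [CharP k p] (V : Type v) [AddCommGroup V] [Module k V] [FiniteDimensional k V]
    (g : Submodule k (Module.End k V)) (hg : ∀ u ∈ g, u ^ p ∈ g) (hne : g ≠ ⊥) :
    ∃ u ∈ g, u ≠ 0 ∧ ∃ c : k, u ^ p = c • u := by
  classical
  have hp := (Fact.out : p.Prime)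
  obtain ⟨u, hu, hu0⟩ := (Submodule.ne_bot_iff g).1 hne
  have hmem : ∀ j, u ^ p ^ j ∈ g := by
    intro j
    induction j with
    | zero => simpa using hu
    | succ j ih => rw [pow_succ, pow_mul]; exact hg _ ih
  by_cases hnil : ∃ j, u ^ p ^ j = 0
  · have hj := Nat.find_spec hnil
    obtain ⟨i, hi⟩ : ∃ i, Nat.find hnil = i + 1 := ⟨Nat.find hnil - 1, by
      rcases Nat.eq_zero_or_pos (Nat.find hnil) with h | h
      · rw [h] at hj; simp at hj; exact absurd hj hu0
      · omega⟩
    refine ⟨u ^ p ^ i, hmem i, Nat.find_min hnil (by omega), 0, ?_⟩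
    rw [← pow_mul, ← pow_succ, ← hi, hj, zero_smul]
  push Not at hnil
  -- first linear relation among the iterated powers
  let S : ℕ → Submodule k (Module.End k V) := fun m => Submodule.span k ((fun j => u ^ p ^ j) '' Set.Iio m)
  have hex : ∃ m, u ^ p ^ m ∈ S m := by
    by_contra hno
    push Not at hno
    have hmono : ∀ m, S m < S (m + 1) := by
      intro m
      refine lt_of_le_of_ne (Submodule.span_mono (Set.image_mono (Set.Iio_subset_Iio (by omega)))) fun h => hno m ?_
      rw [h]
      exact Submodule.subset_span ⟨m, by simp, rfl⟩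
    have hfr : ∀ m, m ≤ Module.finrank k (S m) := by
      intro m
      induction m with
      | zero => simp
      | succ m ih => have := Submodule.finrank_lt_finrank_of_lt (hmono m); omega
    have := hfr (Module.finrank k (Module.End k V) + 1)
    have := Submodule.finrank_le (S (Module.finrank k (Module.End k V) + 1))
    omega
  set m := Nat.find hex with hm
  obtain ⟨l, hl⟩ := (Finsupp.mem_span_image_iff_linearCombination k).1 (Nat.find_spec hex)
  obtain ⟨hlsupp, hlsum⟩ := hl
  have hm0 : m ≠ 0 := fun h => by
    have h1 := Nat.find_spec hex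
    rw [← hm, h] at h1
    simp [S] at h1
    exact hu0 h1
  obtain ⟨n, hn⟩ : ∃ n, m = n + 1 := ⟨m - 1, by omega⟩
  have hsupp : l.support ⊆ Finset.range m := fun j hj => by
    rw [Finsupp.mem_supported] at hlsupp
    exact Finset.mem_range.2 (hlsupp hj)
  have hrel : u ^ p ^ m = ∑ j ∈ Finset.range m, l j • u ^ p ^ j := by
    rw [← hm] at hlsum
    rw [← hlsum, Finsupp.linearCombination_apply, Finsupp.sum_of_support_subset l hsupp]
    intro i _; simp
  -- the coefficients of a fixed vector as polynomials in the last one
  let x : ℕ → Polynomial k := fun j => ∑ i ∈ Finset.range (j + 1),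
    Polynomial.C (l i ^ p ^ (j - i)) * Polynomial.X ^ p ^ (j - i + 1)
  have hx0 : x 0 = Polynomial.C (l 0) * Polynomial.X ^ p := by simp [x]
  haveI : CharP (Polynomial k) p := inferInstance
  haveI : ExpChar (Polynomial k) p := ExpChar.prime hp
  have hxs : ∀ j, x (j + 1) = x j ^ p + Polynomial.C (l (j + 1)) * Polynomial.X ^ p := by
    intro j
    simp only [x]
    rw [Finset.sum_range_succ _ (j + 1), sum_pow_char]
    congr 1
    · refine Finset.sum_congr rfl fun i hi => ?_
      have : i ≤ j := Nat.lt_succ_iff.1 (Finset.mem_range.1 hi)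
      rw [mul_pow, ← map_pow (Polynomial.C : k →+* Polynomial k), ← pow_mul, ← pow_mul, ← pow_succ, ← pow_succ,
        show j + 1 - i = j - i + 1 by omega]
    · simp
  have hxn : x n ≠ 0 := by
    obtain ⟨i, hi, hli⟩ : ∃ i ∈ Finset.range m, l i ≠ 0 := by
      by_contra h
      push Not at h
      exact hnil m (hrel.trans (Finset.sum_eq_zero fun i hi => by rw [h i hi, zero_smul]))
    intro h
    have h1 := congrArg (fun P => Polynomial.coeff P (p ^ (n - i + 1))) h
    simp only [x, Polynomial.finsetSum_coeff, Polynomial.coeff_C_mul, Polynomial.coeff_X_pow, Polynomial.coeff_zero] at h1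
    rw [Finset.sum_eq_single i] at h1
    · simp [hli] at h1
    · intro i' hi' hne'
      rw [if_neg, mul_zero]
      intro he
      have := Nat.pow_right_injective hp.two_le he
      simp only [Finset.mem_range] at hi hi'
      omega
    · intro h'; exact absurd (by simpa [hn] using hi) h'
  let P : Polynomial k := x n - Polynomial.X
  have hPc : P.coeff 1 = -1 ∧ P.coeff 0 = 0 := by
    have hz : ∀ q, q = 0 ∨ q = 1 → (x n).coeff q = 0 := by
      intro q hq
      simp only [x, Polynomial.finsetSum_coeff, Polynomial.coeff_C_mul, Polynomial.coeff_X_pow]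
      refine Finset.sum_eq_zero fun i _ => ?_
      have : 2 ≤ p ^ (n - i + 1) := le_trans hp.two_le (Nat.le_self_pow (by omega) p)
      rw [if_neg (by omega), mul_zero]
    refine ⟨?_, ?_⟩
    · simp [P, hz 1 (Or.inr rfl)]
    · simp [P, hz 0 (Or.inl rfl)]
  obtain ⟨t, ht0, ht⟩ : ∃ t : k, t ≠ 0 ∧ P.eval t = 0 := by
    by_contra h
    push Not at h
    have hall : ∀ r ∈ P.roots, r = 0 := fun r hr => by
      by_contra hr0
      exact h r hr0 (Polynomial.isRoot_of_mem_roots hr)
    have hsplit := (IsAlgClosed.splits P).eq_prod_roots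
    rw [Multiset.eq_replicate_of_mem hall, Multiset.map_replicate, Multiset.prod_replicate] at hsplit
    simp only [map_zero, sub_zero] at hsplit
    set d := Multiset.card P.roots
    have h1 := congrArg (fun Q => Polynomial.coeff Q 1) hsplit
    simp only [hPc.1, Polynomial.coeff_C_mul, Polynomial.coeff_X_pow] at h1
    have hd : 1 = d := by
      by_contra hd
      rw [if_neg hd, mul_zero] at h1
      exact one_ne_zero (neg_eq_zero.1 h1)
    rw [if_pos hd, mul_one] at h1
    rw [← h1, ← hd, pow_one, map_neg, map_one, neg_one_mul] at hsplit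
    exact hxn (by simpa [P, sub_eq_iff_eq_add] using hsplit)
  let Q : Polynomial k := ∑ j ∈ Finset.range m, Polynomial.C ((x j).eval t) * Polynomial.X ^ p ^ j
  have hv : Polynomial.aeval u Q = ∑ j ∈ Finset.range m, (x j).eval t • u ^ p ^ j := by
    simp [Q, Algebra.smul_def]
  refine ⟨Polynomial.aeval u Q, ?_, ?_, 1, ?_⟩
  · rw [hv]; exact sum_mem fun j _ => g.smul_mem _ (hmem j)
  · rw [hv]
    intro h
    rw [hn, Finset.sum_range_succ, ← eq_neg_iff_add_eq_zero] at h
    have hxnt : (x n).eval t = t := by simpa [P, sub_eq_zero] using ht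
    rw [hxnt] at h
    have hmem' : t • u ^ p ^ n ∈ S n := by
      have : ∑ j ∈ Finset.range n, (x j).eval t • u ^ p ^ j ∈ S n :=
        sum_mem fun j hj => Submodule.smul_mem _ _ (Submodule.subset_span ⟨j, by simpa using hj, rfl⟩)
      rw [h] at this
      exact (Submodule.neg_mem_iff _).1 this
    rw [Submodule.smul_mem_iff _ ht0] at hmem'
    exact Nat.find_min hex (by omega) hmem'
  · rw [one_smul, ← map_pow]
    conv_rhs => rw [hv]
    simp only [Q, sum_pow_char, mul_pow, ← map_pow, ← pow_mul, ← pow_succ, map_sum, map_mul,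
      Polynomial.aeval_C, Polynomial.aeval_X_pow, ← Algebra.smul_def]
    rw [hn, Finset.sum_range_succ' (fun j => (x j).eval t • u ^ p ^ j), Finset.sum_range_succ, ← hn, hrel, hn,
      Finset.sum_range_succ' (fun j => l j • u ^ p ^ j)]
    have hxnt : (x n).eval t = t := by simpa [P, sub_eq_zero] using ht
    simp only [hxs, hx0, Polynomial.eval_add, Polynomial.eval_mul, Polynomial.eval_C, Polynomial.eval_pow,
      Polynomial.eval_X, hxnt, add_smul, Finset.sum_add_distrib, smul_add, Finset.smul_sum, smul_smul, mul_comm (t ^ p)]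
    abel

end Groth.Agent.S17325
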