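import Groth.Statements.S13109
import Groth.Agent.L15.PtFunSemi
-- import your own Groth.Agent.* helpers here

set_option autoImplicit false
universe u
open HTop

namespace Groth.Agent.S13109

open AlgebraicGeometry W4c1hilbchowinc in
/-- Let A be a Noetherian seminormal ring whose integral closure in its total ring of fractions is a
finite A-module. Then a pointwise function on Spec A — one element of the residue field κ(y) for
every point y — which varies algebraically along complete discrete valuation rings (for every
complete discrete valuation ring R and every morphism Spec R → Spec A there is an element of R whose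
values at the two points of Spec R are the images of the chosen values) is the family of values of
exactly one global section. Seminormal is meant in the sense that x^3 = y^2 forces x = a^2 and y =
a^3 for a unique a, which for reduced Noetherian rings is equivalent to the criterion on elements of
the total ring of fractions; test rings range over the universe of A. -/
theorem result
    (A : Type u) [CommRing A] [IsNoetherianRing A] (hA : HTop.IsSeminormalRing A)
    (hfin : Module.Finite A (integralClosure A (FractionRing A)))
    (f : PtFun (Spec (CommRingCat.of A))) (hf : f.VariesAlongCompleteDVR) :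
    ∃! a : Γ(Spec (CommRingCat.of A), ⊤), PtFun.ofSection (Spec (CommRingCat.of A)) a = f := by
  haveI := Groth.L15.SemiNorm.isReduced_of_isSeminormal hA
  obtain ⟨a, ha⟩ := Groth.L15.PtFunSemi.exists_of_isSeminormal hA hfin _
    (Groth.L15.PtFunSemi.variesC_of_variesAlongCompleteDVR hf)
  refine ⟨(Scheme.ΓSpecIso (CommRingCat.of A)).inv a,
    funext fun p => Groth.L28.PtFun.toIdealRF_injective p ?_, fun b hb => ?_⟩
  · erw [Groth.L28.PtFun.toIdealRF_evaluation]
    rw [← ha p]
    congr 1
    exact congr($((Scheme.ΓSpecIso (CommRingCat.of A)).inv_hom_id).hom a)
  · have : (Scheme.ΓSpecIso (CommRingCat.of A)).hom b = a := Groth.L28.PtFun.eq_of_values fun p => by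
      refine Eq.trans ?_ (ha p).symm
      exact (Groth.L28.PtFun.toIdealRF_evaluation p b).symm.trans
        (congrArg (Groth.L28.PtFun.toIdealRF p) (congrFun hb p))
    rw [← this]
    exact (congr($((Scheme.ΓSpecIso (CommRingCat.of A)).hom_inv_id).hom b)).symm

end Groth.Agent.S13109
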