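
import Groth.Statements.S1859
import Groth.Agent.L22.Cyc.PushPull

set_option autoImplicit false
universe u
open CategoryTheory AlgebraicGeometry
open Cyc

namespace Groth.Agent.S1859

/-- For proper morphisms f : X → Y and g : Y → Z and a k-cycle α on X, g_*(f_*α) = (g ∘ f)_*α. Here a
pair (X, δ) with Cyc.IsSetup plays the role of a scheme locally of finite type over a fixed base
with a dimension function (X locally Noetherian with universally catenary local rings, δ a dimension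
function), and Cyc.DeltaCompat records that the dimension function upstairs is the induced one. -/
theorem result (X Y Z : Scheme.{u}) (δX : X → ℤ) (δY : Y → ℤ) (δZ : Z → ℤ) (hX : Cyc.IsSetup X δX) (hY : Cyc.IsSetup Y δY) (hZ : Cyc.IsSetup Z δZ) (f : X ⟶ Y) (g : Y ⟶ Z) [IsProper f] [IsProper g] (hf : Cyc.DeltaCompat f δX δY) (hg : Cyc.DeltaCompat g δY δZ) (k : ℤ) (α : AlgebraicCycle X ℤ) (hα : α ∈ Cyc.Zk X δX k) : AlgebraicCycle.map g δY δZ (AlgebraicCycle.map f δX δY α) = AlgebraicCycle.map (f ≫ g) δX δZ α := by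
  ext z
  show (∑ᶠ y ∈ g ⁻¹' {z}, (AlgebraicCycle.map f δX δY α) y *
      ((AlgebraicCycle.mapCoeff g δY δZ y : ℕ) : ℤ)) =
    ∑ᶠ x ∈ (f ≫ g) ⁻¹' {z}, α x * ((AlgebraicCycle.mapCoeff (f ≫ g) δX δZ x : ℕ) : ℤ)
  have hfg : Cyc.DeltaCompat (f ≫ g) δX δZ := fun x => by
    obtain ⟨a, ha, h1⟩ := hf x
    obtain ⟨b, hb, h2⟩ := hg (f x)
    refine ⟨b + a, ?_, by rw [h1, h2]; simp [add_assoc]⟩
    show Groth.L22.Cyc.rtrdeg (f ≫ g) x = _
    rw [Groth.L22.Cyc.rtrdeg_comp, show Groth.L22.Cyc.rtrdeg f x = _ from ha,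
      show Groth.L22.Cyc.rtrdeg g (f x) = _ from hb, Nat.cast_add]
  let S : Set X := {x | g (f x) = z ∧ α x ≠ 0}
  have hS : S.Finite := (α.locallyFiniteSupport.finite_inter_support_of_isCompact
    ((f ≫ g).isCompact_preimage_singleton z)).subset fun x hx => ⟨hx.1, hx.2⟩
  let G : X → ℤ := fun x => α x * ((g.residueDegree (f x) * f.residueDegree x : ℕ) : ℤ)
  let T : Y → Set X := fun y => {x | f x = y ∧ x ∈ S}
  have hT : ∀ y, (T y).Finite := fun y => hS.subset fun x hx => hx.2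
  have h1 : ∀ y ∈ g ⁻¹' {z}, (AlgebraicCycle.map f δX δY α) y *
      ((AlgebraicCycle.mapCoeff g δY δZ y : ℕ) : ℤ) = ∑ᶠ x ∈ T y, G x := fun y hy => by
    rw [Groth.L22.Cyc.mapCoeff_eq g hg]
    show (∑ᶠ x ∈ f ⁻¹' {y}, α x * ((AlgebraicCycle.mapCoeff f δX δY x : ℕ) : ℤ)) * _ = _
    have hgy : g y = z := hy
    rw [finsum_mem_inter_support_eq'
      (fun x => α x * ((AlgebraicCycle.mapCoeff f δX δY x : ℕ) : ℤ)) (f ⁻¹' {y}) (T y) ?_,
      finsum_mem_mul]
    · refine finsum_mem_congr rfl fun x hx => ?_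
      show α x * _ * _ = α x * _
      rw [Groth.L22.Cyc.mapCoeff_eq f hf, show f x = y from hx.1]
      push_cast
      ring
    · intro x hx
      refine ⟨fun h => ⟨h, ?_, fun h0 => hx (by simp [h0])⟩, fun h => h.1⟩
      rw [show f x = y from h]; exact hgy
  rw [finsum_mem_congr rfl h1,
    finsum_mem_inter_support_eq' (fun y => ∑ᶠ x ∈ T y, G x) (g ⁻¹' {z}) (f '' S) ?_,
    ← finsum_mem_biUnion ?_ (hS.image f) fun y _ => hT y,
    finsum_mem_inter_support_eq' (fun x => α x *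
      ((AlgebraicCycle.mapCoeff (f ≫ g) δX δZ x : ℕ) : ℤ)) ((f ≫ g) ⁻¹' {z}) S ?_]
  · refine finsum_mem_congr ?_ fun x _ => ?_
    · ext x
      simp only [Set.mem_iUnion, T, Set.mem_setOf_eq]
      exact ⟨fun ⟨_, _, _, h⟩ => h, fun h => ⟨f x, ⟨x, h, rfl⟩, rfl, h⟩⟩
    · show α x * _ = α x * _
      rw [Groth.L22.Cyc.mapCoeff_eq (f ≫ g) hfg, Groth.L22.Cyc.residueDegree_comp]
  · intro x hx
    exact ⟨fun h => ⟨h, fun h0 => hx (by simp [h0])⟩, fun h => h.1⟩
  · intro a _ b _ hab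
    exact Set.disjoint_left.2 fun x h1 h2 => hab (h1.1.symm.trans h2.1)
  · intro y hy
    refine ⟨fun h => ?_, fun h => ?_⟩
    · obtain ⟨x, hx, -⟩ := exists_ne_zero_of_finsum_mem_ne_zero hy
      exact ⟨x, hx.2, hx.1⟩
    · obtain ⟨x, hx, rfl⟩ := h
      exact hx.1

end Groth.Agent.S1859
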