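
import Groth.Statements.S9684
import Groth.Agent.L22.LocQuotDim

set_option autoImplicit false
universe u
open CategoryTheory CategoryTheory.Limits AlgebraicGeometry
open Cyc

namespace Groth.Agent.S9684

/-- Let S be a locally Noetherian scheme whose local rings are universally catenary, δ a dimension
function on S, and f : X ⟶ S locally of finite type. Then the function δ_X(x) = δ(f x) + trdeg_{κ(f
x)} κ(x) is a dimension function on X. -/
theorem result {X S : Scheme.{u}} (f : X ⟶ S)
    [LocallyOfFiniteType f] (δ : ↥S → ℤ) (hS : Cyc.IsSetup S δ) (δX : ↥X → ℤ)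
    (hδ : Cyc.DeltaCompat f δX δ) : Cyc.IsDimFun X δX := by
  haveI := hS.1
  haveI : IsLocallyNoetherian X := LocallyOfFiniteType.isLocallyNoetherian f
  intro x y hxy hne
  obtain ⟨D, hD, hD1, hDb, -⟩ := Groth.L22.LocQuotDim.exists_dim_locQuot y x hxy
  obtain ⟨E, hE, -, -, hEd⟩ :=
    Groth.L22.LocQuotDim.exists_dim_locQuot (f y) (f x) (hxy.map f.continuous)
  obtain ⟨n, hn, hy⟩ := hδ y
  obtain ⟨N, hN, hx⟩ := hδ x
  have key := (Groth.L22.DimFormula.scheme_dim_formula f hxy (n := n) (N := N) hn hN).2 (hS.2.1 (f y))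
  rw [hD, hE] at key
  have h1 : D + n = E + N := by exact_mod_cast key
  have h2 := hEd δ hS.2.2
  have h3 := hD1 hne
  refine ⟨by omega, fun hb => ?_⟩
  have h4 := hDb hb
  omega

end Groth.Agent.S9684
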