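import Groth.Statements.S6484
import Groth.Agent.L22.FibreDim
-- import your own Groth.Agent.* helpers here

set_option autoImplicit false
universe u
open CategoryTheory AlgebraicGeometry
open CategoryTheory.Limits
open Cyc

namespace Groth.Agent.S6484

/-- If f : Y → X is completely decomposed (this prelude's Cyc.IsCompletelyDecomposed: over every point
of X lies a point of Y with trivial residue field extension) and g : X' → X is any morphism of
schemes, then the base change Y ×_X X' → X' is completely decomposed. Consequently the base change
of an envelope (a proper completely decomposed morphism) is an envelope, properness being preserved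
by base change. (The published envelope statement takes X′ → X between schemes locally of finite
type over a base; this row allows any g.) -/
theorem result (X X' Y : Scheme.{u}) (f : Y ⟶ X) (g : X' ⟶ X) (hcd : Cyc.IsCompletelyDecomposed f) : Cyc.IsCompletelyDecomposed (pullback.snd f g) := by
  intro x'
  obtain ⟨y, hy, hsur⟩ := hcd (g x')
  haveI : IsIso (f.residueFieldMap y) := (ConcreteCategory.isIso_iff_bijective _).mpr
    ⟨RingHom.injective _, hsur⟩
  let k : Y.residueField y ⟶ X'.residueField x' :=
    inv (f.residueFieldMap y) ≫ (X.residueFieldCongr hy).hom ≫ g.residueFieldMap x'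
  have hw : (Spec.map k ≫ Y.fromSpecResidueField y) ≫ f = X'.fromSpecResidueField x' ≫ g := by
    rw [Category.assoc, ← Scheme.Hom.SpecMap_residueFieldMap_fromSpecResidueField, ← Spec.map_comp_assoc]
    simp only [k, IsIso.hom_inv_id_assoc, Spec.map_comp, Category.assoc]
    rw [Scheme.residueFieldCongr_fromSpecResidueField, Scheme.Hom.SpecMap_residueFieldMap_fromSpecResidueField]
  let τ := pullback.lift (Spec.map k ≫ Y.fromSpecResidueField y) (X'.fromSpecResidueField x') hw
  let c : Spec (X'.residueField x') := IsLocalRing.closedPoint _
  have hτ : τ ≫ pullback.snd f g = X'.fromSpecResidueField x' := pullback.lift_snd _ _ _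
  refine ⟨τ c, ?_, ?_⟩
  · rw [← Scheme.Hom.comp_apply, hτ]
    exact Scheme.fromSpecResidueField_apply _ _
  · have h1 : ∀ (m : Spec (X'.residueField x') ⟶ X'), m = X'.fromSpecResidueField x' →
        Function.Surjective (m.residueFieldMap c).hom := by
      rintro m rfl
      exact (Groth.L22.FibreDim.residueFieldMap_bijective _ c).2
    intro b
    obtain ⟨a, ha⟩ := h1 _ hτ ((τ.residueFieldMap c).hom b)
    exact ⟨a, (τ.residueFieldMap c).hom.injective
      ((ConcreteCategory.congr_hom (Scheme.residueFieldMap_comp τ (pullback.snd f g) c) a).symm.trans ha)⟩

end Groth.Agent.S6484
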