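import Groth.Statements.S8271
import Groth.Agent.L16.SymBiprod.Basic
import Groth.Agent.L17.QCohExtension

set_option autoImplicit false
universe u
open CategoryTheory CategoryTheory.Limits AlgebraicGeometry Opposite TopologicalSpace
open EGA2

namespace Groth.Agent.S8271

/-- For quasi-coherent O_S-modules E and F, the vector bundle V(E ⊕ F) is identified with V(E) ×_S V(F):
with A_E, A_F, A the symmetric algebras of E, F, E ⊕ F and ψ_E : A_E → A, ψ_F : A_F → A the algebra
maps extending the inclusions of the two summands, the square formed by Spec(A) → Spec(A_E), Spec(A)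
→ Spec(A_F) and the two structure morphisms to S is a pullback square. -/
theorem result {S : Scheme.{u}} (E F : S.Modules) (hE : Coh.IsQCoh E) (hF : Coh.IsQCoh F)
    (AE AF A : RelSpec.QCAlg S) (jE : E ⟶ AE.toModule) (jF : F ⟶ AF.toModule) (j : E ⊞ F ⟶ A.toModule)
    (hAE : RelSpec.IsSymAlg E AE jE) (hAF : RelSpec.IsSymAlg F AF jF) (hA : RelSpec.IsSymAlg (E ⊞ F) A j)
    (ψE : AE ⟶ A) (ψF : AF ⟶ A)
    (hψE : jE ≫ RelSpec.QCAlg.Hom.toModuleMap ψE = biprod.inl ≫ j)
    (hψF : jF ≫ RelSpec.QCAlg.Hom.toModuleMap ψF = biprod.inr ≫ j) :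
    IsPullback (RelSpec.QCAlg.specMap ψE) (RelSpec.QCAlg.specMap ψF) AE.π AF.π := by
  haveI := hE
  haveI := hF
  haveI : Coh.IsQCoh (E ⊞ F) := Groth.L17.QCohExtension.isQCoh_extension (ShortComplex.mk biprod.inl biprod.snd (by simp))
    (ShortComplex.Splitting.shortExact
      { r := biprod.fst, s := biprod.inr, f_r := biprod.inl_fst, s_g := biprod.inr_snd, id := biprod.total })
    hE hF
  refine Scheme.isPullback_of_openCover _ _ _ _ AE.glueData.cover ?_
  rintro ⟨U, hU⟩
  show IsPullback (pullback.snd (RelSpec.QCAlg.specMap ψE) (AE.ι U hU))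
    (pullback.fst (RelSpec.QCAlg.specMap ψE) (AE.ι U hU) ≫ RelSpec.QCAlg.specMap ψF) (AE.ι U hU ≫ AE.π) AF.π
  have hpb : IsPullback (Spec.map (ψE.hom.app (op U))) (A.ι U hU) (AE.ι U hU) (RelSpec.QCAlg.specMap ψE) :=
    IsOpenImmersion.isPullback _ _ _ _ (RelSpec.QCAlg.ι_specMap U hU ψE) (by
      rw [← RelSpec.QCAlg.π_preimage, ← RelSpec.QCAlg.π_preimage, ← Scheme.Hom.comp_preimage,
        RelSpec.QCAlg.specMap_π])
  have h1 : IsPullback (Spec.map (ψE.hom.app (op U))) (Spec.map (ψF.hom.app (op U)))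
      (Spec.map (AE.str.app (op U))) (Spec.map (AF.str.app (op U))) :=
    isPullback_SpecMap_of_isPushout _ _ _ _
      (Groth.L16.SymBiprod.isPushout hAE hAF hA ψE ψF hψE hψF hU)
  have h2 : IsPullback (Spec.map (AF.str.app (op U))) (AF.ι U hU) hU.fromSpec AF.π :=
    IsOpenImmersion.isPullback _ _ _ _ (RelSpec.QCAlg.ι_π AF U hU) (by
      rw [hU.opensRange_fromSpec, RelSpec.QCAlg.π_preimage])
  have h3 := h1.paste_vert h2
  rw [← RelSpec.QCAlg.ι_specMap U hU ψF, ← RelSpec.QCAlg.ι_π AE U hU] at h3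
  refine h3.of_iso (hpb.flip.isoPullback) (Iso.refl _) (Iso.refl _) (Iso.refl _) ?_ ?_ ?_ ?_
  · simp
  · simp
  · simp
  · simp
end Groth.Agent.S8271
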