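import Groth.Statements.S5491


set_option autoImplicit false
open RootD

namespace Groth.Agent.S5491

open Classical in
/-- With ρ^v the half-sum of the positive coroots, the order (height) of any root α relative to the
simple system equals (ρ^v, α); equivalently 2·height(α) = Σ_{β > 0} (β^v, α). -/
theorem result {ι M N : Type*} [AddCommGroup M] [AddCommGroup N]
    (P : RootPairing ι ℤ M N) [Finite ι] [Fintype ι] [P.IsReduced] (b : P.Base) (i : ι) :
    2 * b.height i = ∑ j, if b.IsPos j then P.pairing i j else 0 := by
  classical
  have h0 : ∀ k ∈ b.support, (∑ j, if b.IsPos j then P.pairing k j else 0) = 2 := by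
    intro k hk
    have hkpos : b.IsPos k := RootPairing.Base.isPos_of_mem_support hk
    have hnk : ¬ b.IsPos (P.reflectionPerm k k) := fun h => (RootPairing.Base.IsPos.neg_iff_not b k).1 h hkpos
    rw [← Finset.sum_filter, ← Finset.insert_erase (Finset.mem_filter.2 ⟨Finset.mem_univ k, hkpos⟩),
      Finset.sum_insert (Finset.notMem_erase _ _), P.pairing_same]
    have hinv : ∀ i ∈ (Finset.univ.filter fun i => b.IsPos i).erase k,
        P.reflectionPerm k i ∈ (Finset.univ.filter fun i => b.IsPos i).erase k := by
      intro i hi
      simp only [Finset.mem_erase, Finset.mem_filter, Finset.mem_univ, true_and] at hi ⊢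
      refine ⟨fun h => hnk ?_, hi.2.reflectionPerm hk hi.1⟩
      have h' : i = P.reflectionPerm k k := by
        rw [← P.reflectionPerm_self k i, h]
      exact h' ▸ hi.2
    have hneg : ∑ i ∈ (Finset.univ.filter fun i => b.IsPos i).erase k, P.pairing k i =
        ∑ i ∈ (Finset.univ.filter fun i => b.IsPos i).erase k, -P.pairing k i :=
      Finset.sum_nbij' (P.reflectionPerm k) (P.reflectionPerm k) hinv hinv (by simp) (by simp)
        (fun i _ => by
          rw [P.pairing_reflectionPerm, RootPairing.pairing_reflectionPerm_self_left, neg_neg])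
    rw [Finset.sum_neg_distrib] at hneg
    linarith
  have hlin : ∀ i, 2 * b.height i = ∑ j, if b.IsPos j then P.pairing i j else 0 := by
    intro i
    obtain ⟨f, hf₀, hf₁, hf₂⟩ := b.exists_root_eq_sum_int i
    rw [RootPairing.Base.height_eq_sum hf₂, Finset.mul_sum]
    have hp : ∀ j, P.pairing i j = ∑ k ∈ b.support, f k * P.pairing k j := fun j => by
      simp only [RootPairing.pairing, RootPairing.root', hf₂]
      simp
    simp only [hp]
    rw [show (∑ j, if b.IsPos j then ∑ k ∈ b.support, f k * P.pairing k j else 0) =
      ∑ k ∈ b.support, f k * ∑ j, if b.IsPos j then P.pairing k j else 0 by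
        simp only [Finset.mul_sum, mul_ite, mul_zero]
        rw [Finset.sum_comm]
        exact Finset.sum_congr rfl fun j _ => by split_ifs <;> simp]
    exact Finset.sum_congr rfl fun k hk => by rw [h0 k hk]; ring
  exact hlin i

end Groth.Agent.S5491
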