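import Groth.Statements.S11189
import Groth.Agent.L25.Observable.QuasiFinite
import Groth.Agent.L25.Observable.GL
import Groth.Agent.L25.Observable.Hull
import Groth.Agent.L08.Borel.Factor
import Groth.Agent.L09.EtGlueSp.Mono
import Mathlib.RingTheory.FiniteType

set_option autoImplicit false
set_option backward.isDefEq.respectTransparency.types false
set_option maxHeartbeats 800000
universe u
open CategoryTheory MonoidalCategory CartesianMonoidalCategory MonObj GrpObj AlgebraicGeometry
open scoped TensorProduct
open AGF Groth.L25.Observable WithConv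

namespace Groth.Agent.S11189

/-- Let k be an algebraically closed field, G a linear algebraic group over k (an affine smooth group
scheme over k) and H a closed subgroup of G (a smooth closed subgroup scheme, i : H → G), and let X,
with G-action a and base point o, be the quotient G/H. Then H is observable in G if and only if X is
quasi-affine (quasi-compact and an open subscheme of an affine scheme). -/
theorem result (k : Type u) [Field k] [IsAlgClosed k]
    (G : Over (Spec (CommRingCat.of k))) [GrpObj G] [IsAffine G.left] [Smooth G.hom]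
    (H : Over (Spec (CommRingCat.of k))) [GrpObj H] [Smooth H.hom] (i : H ⟶ G) [IsMonHom i]
    [IsClosedImmersion i.left]
    (X : Over (Spec (CommRingCat.of k))) (a : AlgGrp.Action G X) (o : 𝟙_ (Over (Spec (CommRingCat.of k))) ⟶ X)
    (hX : AGF.IsQuotient i X a o) :
    AGF.IsObservableIn k i ↔ X.left.IsQuasiAffine := by
  classical
  haveI : IsAffine H.left := isAffine_of_isAffineHom i.left
  haveI : IsAffine (G ⊗ H).left := inferInstanceAs (IsAffine (CategoryTheory.Limits.pullback G.hom H.hom))
  haveI : Smooth (G ⊗ H).hom :=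
    inferInstanceAs (Smooth (CategoryTheory.Limits.pullback.fst G.hom H.hom ≫ G.hom))
  obtain ⟨A, _, _, ψ, _, _, _, _⟩ := exists_chart G
  obtain ⟨hsep, hqc⟩ := Groth.L08.Borel.isSeparated_quotient hX
  haveI := hX.1; haveI := hsep; haveI := hqc
  have hpt0 : (VecGrp.pt k k).hom = 𝟙 (Spec (CommRingCat.of k)) := Spec.map_id (CommRingCat.of k)
  let e : VecGrp.pt k k ≅ 𝟙_ (Over (Spec (CommRingCat.of k))) :=
    Over.isoMk (Iso.refl (Spec (CommRingCat.of k))) (by rw [hpt0]; rfl)
  have hexists : ∀ s : VecGrp.pt k k ⟶ X, ∃ x : VecGrp.pt k k ⟶ G, x ≫ a.orbitMap o = s := by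
    intro s
    obtain ⟨g, hg⟩ := Groth.L08.Borel.exists_point_eq hX (e.inv ≫ s)
    exact ⟨e.hom ≫ g, by rw [Category.assoc, hg, e.hom_inv_id_assoc]⟩
  rw [observable_iff ψ i]
  constructor
  · intro hobs
    obtain ⟨t, ht, hsepr⟩ := exists_finset_separating ψ i hobs
    let ae : MvPolynomial t k →ₐ[k] A := MvPolynomial.aeval fun b : t => (b : A)
    let π : Sp k A ⟶ Sp k (MvPolynomial t k) := Over.homMk (Spec.map (CommRingCat.ofHom ae.toRingHom)) (by
      show Spec.map _ ≫ Spec.map _ = Spec.map _
      rw [← Spec.map_comp, ← CommRingCat.ofHom_comp]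
      congr 2
      exact ae.comp_algebraMap)
    haveI : IsAffine (Sp k (MvPolynomial t k)).left := inferInstanceAs (IsAffine (Spec (CommRingCat.of _)))
    haveI : LocallyOfFiniteType (Sp k (MvPolynomial t k)).hom := by
      show LocallyOfFiniteType (Spec.map (CommRingCat.ofHom (algebraMap k (MvPolynomial t k))))
      rw [HasRingHomProperty.Spec_iff (P := @LocallyOfFiniteType), CommRingCat.hom_ofHom,
        RingHom.finiteType_algebraMap]
      infer_instance
    let F : G ⟶ Sp k (MvPolynomial t k) := ψ ≫ π
    -- the value of the map at a point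
    have hF : ∀ x y : VecGrp.pt k k ⟶ G,
        x ≫ F = y ≫ F ↔ ∀ b ∈ t, (ev ψ x).ofConv b = (ev ψ y).ofConv b := by
      have key : ∀ x : VecGrp.pt k k ⟶ G, (x ≫ F).left = Spec.map (CommRingCat.ofHom ((ev ψ x).ofConv.comp ae).toRingHom) := by
        intro x
        obtain ⟨g, hg⟩ := (Spec.mapMulEquiv (R := k) (S := A) (T := k)).surjective (x ≫ ψ)
        have he : ev ψ x = g := by
          show Spec.mapMulEquiv.symm (x ≫ ψ) = g
          rw [MulEquiv.symm_apply_eq]; exact hg.symm
        rw [he]
        show (x ≫ ψ).left ≫ Spec.map _ = _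
        have hl : (x ≫ ψ).left = Spec.map (CommRingCat.ofHom g.ofConv.toRingHom) :=
          congrArg (fun f => f.left) hg.symm
        refine (congrArg (· ≫ Spec.map (CommRingCat.ofHom ae.toRingHom)) hl).trans ?_
        exact (Spec.map_comp _ _).symm
      intro x y
      constructor
      · intro h b hb
        have h1 := congrArg (fun f => f.left) h
        rw [key, key] at h1
        have h2 := RingHom.congr_fun (CommRingCat.hom_ext_iff.1 (Spec.map_injective h1)) (MvPolynomial.X ⟨b, hb⟩)
        simpa [ae] using h2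
      · intro h
        refine Over.OverMorphism.ext ?_
        rw [key, key, show (ev ψ x).ofConv.comp ae = (ev ψ y).ofConv.comp ae from
          MvPolynomial.algHom_ext fun b => by simpa [ae] using h b.1 b.2]
    have hinv : (G ◁ i) ≫ μ[G] ≫ F = fst G H ≫ F := by
      refine hom_ext_pts fun q => ?_
      have e1 : q ≫ (G ◁ i) ≫ μ[G] ≫ F = ((q ≫ fst G H) * ((q ≫ snd G H) ≫ i)) ≫ F := by
        rw [Hom.mul_def, ← Category.assoc _ μ[G] F]
        simp only [← Category.assoc]
        congr 2
        ext <;> simp
      rw [e1]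
      exact ((hF _ (q ≫ fst G H)).2 fun b hb => ht hb _ _).trans (Category.assoc q _ F)
    obtain ⟨j, hj⟩ := Groth.L08.Borel.exists_desc hX F fun T x y ⟨z, hz⟩ => by
      have := lift x z ≫= hinv
      rw [lift_fst_assoc, lift_whiskerLeft_assoc, ← Category.assoc, ← Hom.mul_def, hz, mul_inv_cancel_left] at this
      exact this.symm
    haveI : LocallyOfFiniteType j.left := by
      haveI : LocallyOfFiniteType (j.left ≫ (Sp k (MvPolynomial t k)).hom) := by rw [Over.w j]; infer_instance
      exact locallyOfFiniteType_of_comp j.left (Sp k (MvPolynomial t k)).hom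
    haveI : IsSeparated j.left := by
      haveI : IsSeparated (j.left ≫ (Sp k (MvPolynomial t k)).hom) := by rw [Over.w j]; infer_instance
      exact IsSeparated.of_comp j.left (Sp k (MvPolynomial t k)).hom
    haveI : LocallyQuasiFinite j.left := locallyQuasiFinite_of_injective_pts j fun s s' hss => by
      obtain ⟨x, hx⟩ := hexists (e.hom ≫ s)
      obtain ⟨y, hy⟩ := hexists (e.hom ≫ s')
      have hxy : x ≫ F = y ≫ F := by
        rw [← hj, ← Category.assoc, ← Category.assoc, hx, hy, Category.assoc, Category.assoc, hss]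
      obtain ⟨h, hh⟩ := hsepr x y ((hF x y).1 hxy)
      rw [← cancel_epi e.hom, ← hx, ← hy]
      exact (Groth.L08.Borel.orbitMap_eq_iff hX x y).2 ⟨h, by rw [hh, inv_mul_cancel_left]⟩
    haveI : CompactSpace X.left := QuasiCompact.compactSpace_of_compactSpace X.hom
    exact Groth.L09.EtGlueSp.isQuasiAffine_of_lqf j.left
  · intro hqa g hg
    haveI := hqa
    have key : g ≫ a.orbitMap o = (1 : VecGrp.pt k k ⟶ G) ≫ a.orbitMap o := by
      refine Over.OverMorphism.ext ((cancel_mono X.left.toSpecΓ).1 ?_)
      rw [Scheme.toSpecΓ_naturality, Scheme.toSpecΓ_naturality]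
      congr 2
      refine CommRingCat.hom_ext (RingHom.ext fun f => ?_)
      apply (ConcreteCategory.bijective_of_isIso (Scheme.ΓSpecIso (CommRingCat.of k)).hom).1
      show val (g ≫ a.orbitMap o) f = val ((1 : VecGrp.pt k k ⟶ G) ≫ a.orbitMap o) f
      rw [val_comp, val_comp]
      obtain ⟨c, hc⟩ := fn_surjective ψ ((a.orbitMap o).left.appTop f)
      rw [← hc, val_fn, val_fn]
      have hinv : c ∈ inv' ψ i := by
        rw [mem_inv'_iff, hc]
        show (((G ◁ i) ≫ μ[G]) ≫ a.orbitMap o).left.appTop f = (fst G H ≫ a.orbitMap o).left.appTop f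
        rw [hX.2.2.2.w]
      simpa using hg c hinv 1
    obtain ⟨z, hz⟩ := (Groth.L08.Borel.orbitMap_eq_iff hX 1 g).1 key.symm
    exact ⟨z, by rw [hz, inv_one, _root_.one_mul]⟩

end Groth.Agent.S11189
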