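import Groth.Statements.S11212
import Groth.Agent.L25.Observable.Regular
import Groth.Agent.L25.Observable.Semi

set_option autoImplicit false
set_option backward.isDefEq.respectTransparency.types false
set_option maxHeartbeats 800000
universe u
open CategoryTheory MonoidalCategory CartesianMonoidalCategory MonObj GrpObj AlgebraicGeometry
open scoped TensorProduct
open AGF Groth.L25.Observable WithConv

namespace Groth.Agent.S11212

/-- Let k be an algebraically closed field, G a linear algebraic group over k (an affine smooth group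
scheme over k) and H a closed subgroup of G (a smooth closed subgroup scheme, i : H → G), with the
identity component of H reductive. Assume the following standard results of geometric invariant
theory for groups with reductive identity component, carried as hypotheses: finite generation of
invariants on finitely generated algebras, and that for such a group acting on an affine variety the
quotient map sends disjoint closed invariant subsets to disjoint sets. Then H is observable in G. -/
theorem result (k : Type u) [Field k] [IsAlgClosed k]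
    (G : Over (Spec (CommRingCat.of k))) [GrpObj G] [IsAffine G.left] [Smooth G.hom]
    (H : Over (Spec (CommRingCat.of k))) [GrpObj H] [Smooth H.hom] (i : H ⟶ G) [IsMonHom i]
    [IsClosedImmersion i.left]
    (hH : VecGrp.IsReductiveGrp k H) (thmA : VecGrp.ReductiveInvariantsFG k)
    (thmAbiv : AGF.ReductiveQuotSeparates k) :
    AGF.IsObservableIn k i := by
  classical
  haveI : IsAffine H.left := isAffine_of_isAffineHom i.left
  obtain ⟨A, _, _, ψ, _, _, _, _⟩ := exists_chart G
  obtain ⟨A', _, _, ψ', _, _, _, _⟩ := exists_chart H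
  obtain ⟨π, hπs, hπ⟩ := exists_res ψ ψ' i
  obtain ⟨m, hm, hmpt⟩ := exists_regular ψ i
  rw [observable_iff ψ i]
  intro g hg
  by_contra hne
  push Not at hne
  let φ₂ : A →ₐ[k] A' := π.comp (Lt (ev ψ g).ofConv)
  have hφ₂ : ∀ (z : VecGrp.pt k k ⟶ H) (a : A),
      (ev ψ' z).ofConv (φ₂ a) = (ev ψ (g * (z ≫ i))).ofConv a := fun z a => by
    show (ev ψ' z).ofConv (π (Lt _ a)) = _
    rw [hπ, apply_Lt, ← ev_mul]
  have hz : ∀ {φ : A →ₐ[k] A'} (x : A →ₐ[k] k), (∀ a, φ a = 0 → x a = 0) → Function.Surjective φ →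
      ∃ z : VecGrp.pt k k ⟶ H, ∀ a, x a = (ev ψ' z).ofConv (φ a) := by
    intro φ x hx hφs
    let e := Ideal.quotientKerAlgEquivOfSurjective (f := φ) hφs
    let xb : A' →ₐ[k] k := (Ideal.Quotient.liftₐ (RingHom.ker φ) x fun a ha => hx a ha).comp e.symm.toAlgHom
    obtain ⟨z, hz⟩ := ev_surjective ψ' (toConv xb)
    refine ⟨z, fun a => ?_⟩
    rw [hz]
    show x a = xb (φ a)
    simp only [xb, AlgHom.comp_apply]
    rw [show φ a = e (Ideal.Quotient.mk (RingHom.ker φ) a) from rfl]
    simp
  have hLts : Function.Surjective (Lt (ev ψ g).ofConv) := fun a => by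
    refine ⟨Lt (ev ψ g⁻¹).ofConv a, eq_of_forall_ev ψ fun x => ?_⟩
    rw [apply_Lt, ← ev_mul, apply_Lt, ← ev_mul, inv_mul_cancel_left]
  let I₁ : Ideal A := RingHom.ker π
  let I₂ : Ideal A := RingHom.ker φ₂
  have hrad : ∀ φ : A →ₐ[k] A', (RingHom.ker φ).IsRadical := fun φ a ⟨n, ha⟩ => by
    rw [RingHom.mem_ker, map_pow] at ha
    exact eq_zero_of_pow_eq_zero ha
  have htop : I₁ ⊔ I₂ = ⊤ := by
    by_contra hlt
    obtain ⟨P, hP, hle⟩ := Ideal.exists_le_maximal _ hlt
    haveI := hP.isPrime
    obtain ⟨x, hx⟩ := exists_algHom_of_prime (k := k) P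
    obtain ⟨z₁, h₁⟩ := hz x (fun a ha => hx a (hle (Ideal.mem_sup_left ha))) hπs
    obtain ⟨z₂, h₂⟩ := hz x (fun a ha => hx a (hle (Ideal.mem_sup_right ha))) (φ := φ₂) (hπs.comp hLts)
    have e : g * (z₂ ≫ i) = z₁ ≫ i := by
      haveI : Mono ψ := inferInstance
      refine ev_injective ψ (congrArg toConv (AlgHom.ext fun a => ?_))
      show (ev ψ (g * (z₂ ≫ i))).ofConv a = (ev ψ (z₁ ≫ i)).ofConv a
      rw [← hφ₂, ← h₂, h₁, hπ]
    refine hne (z₁ * z₂⁻¹) ?_
    rw [MonObj.mul_comp, GrpObj.inv_comp, ← e, mul_inv_cancel_right]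
  have hst : ∀ (φ : A →ₐ[k] A') (c : VecGrp.pt k k ⟶ G),
      (∀ (z : VecGrp.pt k k ⟶ H) (a : A), (ev ψ' z).ofConv (φ a) = (ev ψ (c * (z ≫ i))).ofConv a) →
      m.IsStable (𝟙 H) ((RingHom.ker φ).restrictScalars k) := by
    intro φ c hφ
    have e : (RingHom.ker φ).restrictScalars k = LinearMap.ker φ.toLinearMap := rfl
    rw [e]
    refine isStable_ker m φ.toLinearMap fun h a ha => ?_
    rw [hmpt, LinearMap.baseChange_tmul]
    suffices φ (Rt (ev ψ (h ≫ i)).ofConv a) = 0 by simp [this]
    refine eq_of_forall_ev ψ' fun z => ?_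
    rw [hφ, apply_Rt, ← ev_mul, map_zero, _root_.mul_assoc, ← MonObj.mul_comp, ← hφ, show φ a = 0 from ha,
      map_zero]
  have hsep := thmAbiv H hH A m hm inferInstance I₁ I₂ (hrad π) (hrad φ₂)
    (hst π 1 fun z a => by rw [hπ, _root_.one_mul]) (hst φ₂ g hφ₂) htop
  have h1 := (Ideal.eq_top_iff_one _).1 hsep
  obtain ⟨a, ha, b, hb, hab⟩ := Submodule.mem_sup.1 h1
  have hinv : (a : A) ∈ inv' ψ i := fun x h => by
    have e := a.2 k h
    rw [Category.comp_id, hmpt] at e
    have e2 : Rt (ev ψ (h ≫ i)).ofConv (a : A) = (a : A) := by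
      have := congrArg (TensorProduct.lid k A) e
      simpa using this
    conv_rhs => rw [← e2]
    rw [apply_Rt, ← ev_mul]
  have ha0 : (ev ψ g).ofConv (a : A) = 0 := by
    have e := hg _ hinv 1
    rw [_root_.one_mul] at e
    rw [e, ← MonObj.one_comp i, ← hπ, show π (a : A) = 0 from ha, map_zero]
  have hb0 : (ev ψ g).ofConv (b : A) = 0 := by
    have e := hφ₂ 1 (b : A)
    rw [show φ₂ (b : A) = 0 from hb, map_zero, MonObj.one_comp, _root_.mul_one] at e
    exact e.symm
  have e := congrArg (ev ψ g).ofConv (congrArg Subtype.val hab)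
  simp [ha0, hb0] at e

end Groth.Agent.S11212
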