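import Groth.Statements.S11213
import Groth.Agent.L16.ReductiveQuot.Main
import Groth.Agent.S11189
import Groth.Agent.S11212
import Groth.Agent.L25.Observable.Transfer
import Groth.Agent.L25.Observable.AlgAction

set_option autoImplicit false
universe u
open CategoryTheory MonoidalCategory CartesianMonoidalCategory MonObj GrpObj AlgebraicGeometry
open scoped TensorProduct
open AGF Groth.L25.Observable WithConv

namespace Groth.Agent.S11213

/-- Let k be an algebraically closed field, G a linear algebraic group over k (an affine smooth group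
scheme over k) and H a closed subgroup of G (a smooth closed subgroup scheme, i : H → G), with the
identity component of H reductive, and let X (with action a, base point o) be the quotient G/H.
Assume the following standard results of geometric invariant theory for groups with reductive
identity component, carried as hypotheses: finite generation of invariants on finitely generated
algebras, and that the quotient map of an affine variety by such a group is surjective and separates
disjoint closed invariant subsets. Then k[G]^H is finitely generated over the constants (H is a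
Grosshans subgroup of G) and X is affine. -/
theorem result (k : Type u) [Field k] [IsAlgClosed k]
    (G : Over (Spec (CommRingCat.of k))) [GrpObj G] [IsAffine G.left] [Smooth G.hom]
    (H : Over (Spec (CommRingCat.of k))) [GrpObj H] [Smooth H.hom] (i : H ⟶ G) [IsMonHom i]
    [IsClosedImmersion i.left]
    (hH : VecGrp.IsReductiveGrp k H) (thmA : VecGrp.ReductiveInvariantsFG k)
    (thmAbi : AGF.ReductiveQuotSurj k) (thmAbiv : AGF.ReductiveQuotSeparates k)
    (X : Over (Spec (CommRingCat.of k))) (a : AlgGrp.Action G X) (o : 𝟙_ (Over (Spec (CommRingCat.of k))) ⟶ X) (hX : AGF.IsQuotient i X a o) :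
    AGF.SubringFGOver k G (AGF.rTransInv i) ∧ IsAffine X.left := by
  classical
  haveI : IsAffine H.left := isAffine_of_isAffineHom i.left
  obtain ⟨A, _, _, ψ, _, _, _, _⟩ := exists_chart G
  obtain ⟨m, hm, hmpt⟩ := exists_regular ψ i
  have hfix : ∀ c : A, c ∈ m.fixedSubalgebra hm (𝟙 H) ↔ c ∈ inv' ψ i := by
    intro c
    constructor
    · intro hc x h
      have e := hc k h
      rw [Category.comp_id, hmpt] at e
      have e2 : Rt (ev ψ (h ≫ i)).ofConv c = c := by
        have := congrArg (TensorProduct.lid k A) e
        simpa using this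
      conv_rhs => rw [← e2]
      rw [apply_Rt, ← ev_mul]
    · intro hc
      refine mem_fixedUnder_of_pts' (𝟙 H) m c fun γ => ?_
      rw [Category.comp_id, hmpt, show Rt (ev ψ (γ ≫ i)).ofConv c = c from eq_of_forall_ev ψ fun x => by
        rw [apply_Rt, ← ev_mul]; exact hc x γ]
  have hfg : AGF.SubringFGOver k G (AGF.rTransInv i) := by
    obtain ⟨s, hs, hle⟩ := thmA H hH A m hm inferInstance
    refine ⟨s.image (fn ψ), fun f hf => ?_, fun f hf => ?_⟩
    · obtain ⟨c, hc, rfl⟩ := Finset.mem_image.1 (Finset.mem_coe.1 hf)
      exact (mem_inv'_iff ψ i c).1 ((hfix c).1 (hs hc))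
    · obtain ⟨c, rfl⟩ := fn_surjective ψ f
      have hc : c ∈ Algebra.adjoin k (↑s : Set A) := hle ((hfix c).2 ((mem_inv'_iff ψ i c).2 hf))
      clear hf
      induction hc using Algebra.adjoin_induction with
      | mem x hx => exact Subring.subset_closure (Or.inr (Finset.mem_coe.2 (Finset.mem_image_of_mem _ hx)))
      | algebraMap r => exact Subring.subset_closure (Or.inl ⟨r, (fn_algebraMap ψ r).symm⟩)
      | add x y _ _ hx hy => rw [← fnHom_apply, map_add]; exact add_mem hx hy
      | mul x y _ _ hx hy => rw [← fnHom_apply, map_mul]; exact mul_mem hx hy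
  refine ⟨hfg, ?_⟩
  have hobs := Groth.Agent.S11212.result k G H i hH thmA thmAbiv
  haveI := (Groth.Agent.S11189.result k G H i X a o hX).1 hobs
  let π := (a.orbitMap o).left
  let eA : A ≃+* Γ(G.left, ⊤) := RingEquiv.ofBijective (fnHom ψ) ⟨fn_injective ψ, fn_surjective ψ⟩
  let S := m.fixedSubalgebra hm (𝟙 H)
  have hS : ∀ c : A, c ∈ S ↔ eA c ∈ Set.range π.appTop := fun c => by
    rw [hfix, mem_inv'_iff]
    exact (Groth.L16.ReductiveQuot.appTop_range hX _).symm
  let σ : Γ(X.left, ⊤) →+* S := (eA.symm.toRingHom.comp π.appTop.hom).codRestrict S fun g =>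
    (hS _).2 ⟨g, (eA.apply_symm_apply _).symm⟩
  have hσ : Function.Bijective σ := by
    refine ⟨fun g g' e => Groth.L16.ReductiveQuot.appTop_injective hX (eA.symm.injective (congrArg Subtype.val e)),
      fun c => ?_⟩
    obtain ⟨g, hg⟩ := (hS c.1).1 c.2
    exact ⟨g, Subtype.ext (by show eA.symm (π.appTop g) = _; rw [hg, RingEquiv.symm_apply_apply])⟩
  let es := RingEquiv.ofBijective σ hσ
  haveI : Surjective X.left.toSpecΓ := by
    refine ⟨fun q => ?_⟩
    obtain ⟨p, hp, hpq⟩ := thmAbi H hH A m hm inferInstance (q.asIdeal.comap es.symm.toRingHom) inferInstance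
    let P : PrimeSpectrum Γ(G.left, ⊤) := PrimeSpectrum.comap eA.symm.toRingHom ⟨p, hp⟩
    obtain ⟨z, hz⟩ := (Scheme.homeoOfIso (asIso G.left.toSpecΓ)).surjective P
    refine ⟨π.base z, ?_⟩
    have e := Scheme.toSpecΓ_naturality π
    rw [← Scheme.Hom.comp_apply, e, Scheme.Hom.comp_apply, show G.left.toSpecΓ.base z = P from hz]
    refine PrimeSpectrum.ext (Ideal.ext fun g => ?_)
    show (σ g).1 ∈ p ↔ g ∈ q.asIdeal
    have e2 : σ g ∈ p.comap S.val ↔ σ g ∈ q.asIdeal.comap es.symm.toRingHom := by rw [hpq]
    refine e2.trans ?_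
    show es.symm (es g) ∈ q.asIdeal ↔ _
    rw [RingEquiv.symm_apply_apply]
  haveI : IsIso X.left.toSpecΓ := by
    refine (isIso_iff_isOpenImmersion_and_epi_base X.left.toSpecΓ).2 ⟨inferInstance, ?_⟩
    exact (TopCat.epi_iff_surjective _).2 X.left.toSpecΓ.surjective
  exact ⟨inferInstance⟩
end Groth.Agent.S11213
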