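import Groth.Statements.S12428
import Groth.Agent.L25.Observable.Hull
import Groth.Agent.L25.Translate
import Groth.Agent.L19.AlgGrpBasic.OpenSubgroup
import Mathlib.RingTheory.Spectrum.Prime.Topology

set_option backward.isDefEq.respectTransparency.types false
set_option maxHeartbeats 800000

set_option autoImplicit false
universe u
open CategoryTheory MonoidalCategory CartesianMonoidalCategory MonObj GrpObj AlgebraicGeometry
open scoped TensorProduct
open AGF

namespace Groth.Agent.S12428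

open Groth.L25.Observable WithConv

variable {k : Type u} [Field k] {A : Type u} [CommRing A] [HopfAlgebra k A]

/-- right translation of a function by a rational point -/
noncomputable def Rt (x : A →ₐ[k] k) : A →ₗ[k] A :=
  (TensorProduct.rid k A).toLinearMap ∘ₗ x.toLinearMap.lTensor A ∘ₗ Coalgebra.comul

theorem apply_Rt (x g : WithConv (A →ₐ[k] k)) (a : A) :
    g.ofConv (Rt x.ofConv a) = (g * x).ofConv a := by
  rw [AlgHom.convMul_apply, Rt, LinearMap.comp_apply, LinearMap.comp_apply]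
  show g.ofConv ((TensorProduct.rid k A) (x.ofConv.toLinearMap.lTensor A _)) = _
  generalize Coalgebra.comul (R := k) a = z
  induction z using TensorProduct.induction_on with
  | zero => simp
  | add p q hp hq => simp only [map_add, hp, hq]
  | tmul p q => simp [mul_comm]

/-- the indicator function of an open subgroup with closed range -/
theorem exists_indicator {G G₀ : Over (Spec (CommRingCat.of k))} (ψ : G ⟶ Sp k A) [IsIso ψ]
    (j : G₀ ⟶ G) [IsOpenImmersion j.left] (hj : IsClosed (Set.range j.left)) :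
    ∃ e : A, IsIdempotentElem e ∧ ∀ γ : VecGrp.pt k k ⟶ G,
      ((∃ γ₀ : VecGrp.pt k k ⟶ G₀, γ₀ ≫ j = γ) → (ev ψ γ).ofConv e = 1) ∧
      ((¬ ∃ γ₀ : VecGrp.pt k k ⟶ G₀, γ₀ ≫ j = γ) → (ev ψ γ).ofConv e = 0) := by
  haveI : IsIso ψ.left := inferInstanceAs (IsIso ((Over.forget _).map ψ))
  let s : Set (PrimeSpectrum A) := ψ.left.homeomorph '' Set.range j.left
  have hs : IsClopen s := ⟨ψ.left.homeomorph.isClosed_image.2 hj,
    ψ.left.homeomorph.isOpen_image.2 j.left.isOpenEmbedding.isOpen_range⟩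
  obtain ⟨e, he, hse⟩ := PrimeSpectrum.exists_idempotent_basicOpen_eq_of_isClopen hs
  refine ⟨e, he, fun γ => ?_⟩
  obtain ⟨g, hg⟩ := (Spec.mapMulEquiv (R := k) (S := A) (T := k)).surjective (γ ≫ ψ)
  have hev : ev ψ γ = g := by
    show Spec.mapMulEquiv.symm (γ ≫ ψ) = g
    rw [MulEquiv.symm_apply_eq]; exact hg.symm
  rw [hev]
  let pc : (VecGrp.pt k k).left := IsLocalRing.closedPoint k
  have hiff : (∃ γ₀ : VecGrp.pt k k ⟶ G₀, γ₀ ≫ j = γ) ↔ g.ofConv e ≠ 0 := by
    have hpt : ψ.left (γ.left pc) ∈ s ↔ g.ofConv e ≠ 0 := by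
      have e1 : ψ.left (γ.left pc) = PrimeSpectrum.comap g.ofConv.toRingHom (IsLocalRing.closedPoint k) :=
        (congrArg (fun m : VecGrp.pt k k ⟶ Sp k A => m.left pc) hg).symm
      rw [hse, e1]
      show e ∉ Ideal.comap g.ofConv.toRingHom (IsLocalRing.maximalIdeal k) ↔ _
      rw [Ideal.mem_comap, IsLocalRing.maximalIdeal_eq_bot, Ideal.mem_bot]
      rfl
    rw [← hpt]
    show _ ↔ ψ.left.homeomorph (γ.left pc) ∈ ψ.left.homeomorph '' _
    rw [ψ.left.homeomorph.injective.mem_set_image]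
    constructor
    · rintro ⟨γ₀, rfl⟩
      exact ⟨γ₀.left pc, rfl⟩
    · intro hmem
      have hr : Set.range γ.left ⊆ Set.range j.left := by
        rintro _ ⟨c, rfl⟩
        rwa [Subsingleton.elim (α := PrimeSpectrum k) c pc]
      exact ⟨Over.homMk (IsOpenImmersion.lift j.left γ.left hr)
        (by rw [← Over.w j, ← Category.assoc, IsOpenImmersion.lift_fac]; exact Over.w γ),
        Over.OverMorphism.ext (IsOpenImmersion.lift_fac _ _ _)⟩
  have h01 : g.ofConv e = 0 ∨ g.ofConv e = 1 := IsIdempotentElem.iff_eq_zero_or_one.1 (he.map g.ofConv)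
  exact ⟨fun h => h01.resolve_left (hiff.1 h), fun h => not_not.1 fun h' => h (hiff.2 h')⟩

/-- Let k be an algebraically closed field, G a linear algebraic group over k (an affine smooth group
scheme over k), i : H → G a closed subgroup (smooth closed subgroup scheme), j : G° → G the identity
component (a connected open subgroup scheme), and K = H ∩ G° the intersection subgroup scheme, with
homomorphisms a : K → H and b : K → G° whose underlying square of schemes is a pullback of i and j.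
Then H is observable in G if and only if K is observable in G°. -/
theorem result (k : Type u) [Field k] [IsAlgClosed k]
    (G : Over (Spec (CommRingCat.of k))) [GrpObj G] [IsAffine G.left] [Smooth G.hom]
    (H : Over (Spec (CommRingCat.of k))) [GrpObj H] [Smooth H.hom] (i : H ⟶ G) [IsMonHom i]
    [IsClosedImmersion i.left]
    (G₀ : Over (Spec (CommRingCat.of k))) [GrpObj G₀] [ConnectedSpace G₀.left] (j : G₀ ⟶ G) [IsMonHom j]
    [IsOpenImmersion j.left]
    (K : Over (Spec (CommRingCat.of k))) [GrpObj K] (a : K ⟶ H) [IsMonHom a] (b : K ⟶ G₀) [IsMonHom b]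
    (hK : IsPullback a.left b.left i.left j.left) :
    AGF.IsObservableIn k i ↔ AGF.IsObservableIn k b := by
  classical
  haveI : LocallyOfFiniteType G₀.hom := by rw [← Over.w j]; infer_instance
  haveI : Smooth G₀.hom := by rw [← Over.w j]; infer_instance
  have hjc : IsClosed (Set.range j.left) :=
    Groth.L25.Translate.isClosed_range_of_inter j j.left.isOpenEmbedding.isOpen_range
      (Set.inter_eq_self_of_subset_right subset_closure).symm
  haveI : IsClosedImmersion j.left := IsClosedImmersion.of_isPreimmersion j.left hjc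
  haveI : IsAffine G₀.left := isAffine_of_isAffineHom j.left
  haveI : IsAffine H.left := isAffine_of_isAffineHom i.left
  haveI : IsOpenImmersion a.left := MorphismProperty.of_isPullback hK.flip ‹IsOpenImmersion j.left›
  haveI : IsClosedImmersion b.left := MorphismProperty.of_isPullback hK ‹IsClosedImmersion i.left›
  haveI : Smooth K.hom := by rw [← Over.w a]; infer_instance
  haveI : IsAffine K.left := isAffine_of_isAffineHom b.left
  haveI : Mono i := Over.mono_of_mono_left i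
  have hw : a ≫ i = b ≫ j := Over.OverMorphism.ext hK.w
  have hlift : ∀ (h : VecGrp.pt k k ⟶ H) (x : VecGrp.pt k k ⟶ G₀), h ≫ i = x ≫ j →
      ∃ z : VecGrp.pt k k ⟶ K, z ≫ a = h ∧ z ≫ b = x := by
    intro h x e
    refine ⟨Over.homMk (hK.lift h.left x.left (congrArg CommaMorphism.left e)) ?_,
      Over.OverMorphism.ext (hK.lift_fst _ _ _), Over.OverMorphism.ext (hK.lift_snd _ _ _)⟩
    rw [← Over.w a, ← Category.assoc, hK.lift_fst]
    exact Over.w h
  obtain ⟨A, _, _, ψ, _, _, _, _⟩ := exists_chart G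
  obtain ⟨A₀, _, _, ψ₀, _, _, _, _⟩ := exists_chart G₀
  -- restriction of functions
  have hres : ∀ c : A, ∃ c₀ : A₀, ∀ γ : VecGrp.pt k k ⟶ G₀,
      (ev ψ₀ γ).ofConv c₀ = (ev ψ (γ ≫ j)).ofConv c := fun c => by
    obtain ⟨c₀, hc₀⟩ := fn_surjective ψ₀ (j.left.appTop (fn ψ c))
    exact ⟨c₀, fun γ => by rw [← val_fn, hc₀, ← val_comp, val_fn]⟩
  have hext : ∀ c₀ : A₀, ∃ c : A, ∀ γ : VecGrp.pt k k ⟶ G₀,
      (ev ψ (γ ≫ j)).ofConv c = (ev ψ₀ γ).ofConv c₀ := fun c₀ => by
    obtain ⟨f, hf⟩ := j.left.app_surjective ⊤ (isAffineOpen_top _) (fn ψ₀ c₀)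
    obtain ⟨c, rfl⟩ := fn_surjective ψ f
    exact ⟨c, fun γ => by rw [← val_fn, val_comp, ← val_fn]; exact congrArg (val γ) hf⟩
  rw [observable_iff ψ i, observable_iff ψ₀ b]
  constructor
  · intro hobs g₀ hg₀
    obtain ⟨h, hh⟩ := hobs (g₀ ≫ j) fun c hc x => by
      obtain ⟨c₀, hc₀⟩ := hres (L (ev ψ x).ofConv c)
      have hmem : c₀ ∈ inv' ψ₀ b := fun y z => by
        rw [hc₀, hc₀, MonObj.mul_comp, Category.assoc, ← hw, ← Category.assoc]
        exact L_mem_inv' ψ i hc x _ _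
      have := hg₀ c₀ hmem 1
      rwa [_root_.one_mul, hc₀, hc₀, apply_L_pt, apply_L_pt, ← ev_mul, ← ev_mul, MonObj.one_comp,
        _root_.mul_one] at this
    obtain ⟨z, -, hz⟩ := hlift h g₀ hh
    exact ⟨z, hz⟩
  · intro hobs g hg
    obtain ⟨e, -, hind⟩ := exists_indicator ψ j hjc
    obtain ⟨F, hF⟩ := Groth.L19.AlgGrpBasic.exists_cosets (k := k) k j
    -- extension by zero, spread to the cosets meeting the subgroup
    have hE : ∀ c₀ ∈ inv' ψ₀ b, ∃ c ∈ inv' ψ i,
        (∀ y : VecGrp.pt k k ⟶ G₀, (ev ψ (y ≫ j)).ofConv c = (ev ψ₀ y).ofConv c₀) ∧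
        ∀ y : VecGrp.pt k k ⟶ G, (ev ψ y).ofConv c ≠ 0 →
          ∃ (h : VecGrp.pt k k ⟶ H) (y₀ : VecGrp.pt k k ⟶ G₀), y = (y₀ ≫ j) * (h ≫ i) := by
      intro c₀ hc₀
      obtain ⟨c', hc'⟩ := hext c₀
      let w : A := e * c'
      have hw1 : ∀ y₀ : VecGrp.pt k k ⟶ G₀, (ev ψ (y₀ ≫ j)).ofConv w = (ev ψ₀ y₀).ofConv c₀ := fun y₀ => by
        rw [map_mul, (hind _).1 ⟨y₀, rfl⟩, _root_.one_mul, hc']
      have hw0 : ∀ y : VecGrp.pt k k ⟶ G, (¬ ∃ y₀ : VecGrp.pt k k ⟶ G₀, y₀ ≫ j = y) → (ev ψ y).ofConv w = 0 :=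
        fun y hy => by rw [map_mul, (hind _).2 hy, zero_mul]
      let u : (VecGrp.pt k k ⟶ H) → A := fun h => Rt (ev ψ (h ≫ i)⁻¹).ofConv w
      have hu : ∀ (h : VecGrp.pt k k ⟶ H) (y : VecGrp.pt k k ⟶ G),
          (ev ψ y).ofConv (u h) = (ev ψ (y * (h ≫ i)⁻¹)).ofConv w := fun h y => by
        rw [apply_Rt, ← ev_mul]
      have hsame : ∀ (h h' : VecGrp.pt k k ⟶ H),
          (∃ x : VecGrp.pt k k ⟶ G₀, x ≫ j = (h ≫ i) * (h' ≫ i)⁻¹) → u h = u h' := by
        rintro h h' ⟨x, hx⟩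
        obtain ⟨z, hz1, hz2⟩ := hlift (h * h'⁻¹) x (by rw [hx, MonObj.mul_comp, GrpObj.inv_comp])
        refine eq_of_sub_eq_zero (Groth.L25.GeomIrred.eq_zero_of_forall_algHom (k := k) _ fun φ => ?_)
        obtain ⟨y, hy⟩ := ev_surjective ψ (toConv φ)
        rw [map_sub, sub_eq_zero, show φ = (ev ψ y).ofConv by rw [hy], hu, hu]
        have e1 : y * (h' ≫ i)⁻¹ = (y * (h ≫ i)⁻¹) * (x ≫ j) := by rw [hx]; group
        by_cases hy0 : ∃ y₀ : VecGrp.pt k k ⟶ G₀, y₀ ≫ j = y * (h ≫ i)⁻¹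
        · obtain ⟨y₀, hy₀⟩ := hy0
          rw [e1, ← hy₀, ← MonObj.mul_comp, hw1, hw1, ← hz2, hc₀ y₀ z]
        · rw [hw0 _ hy0, hw0]
          rintro ⟨y₁, hy₁⟩
          refine hy0 ⟨y₁ * x⁻¹, ?_⟩
          rw [MonObj.mul_comp, GrpObj.inv_comp, hy₁, e1, mul_inv_cancel_right]
      let P : (VecGrp.pt k k ⟶ G) → (VecGrp.pt k k ⟶ H) → Prop := fun c h =>
        ∃ x : VecGrp.pt k k ⟶ G₀, (h ≫ i)⁻¹ = c * (x ≫ j)
      let S : Finset A := (F.filter fun c => ∃ h, P c h).image fun c =>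
        if hc : ∃ h, P c h then u hc.choose else 0
      have hmem : ∀ h : VecGrp.pt k k ⟶ H, u h ∈ S := by
        intro h
        obtain ⟨c, hc, x, hx⟩ := hF (h ≫ i)⁻¹
        refine Finset.mem_image.2 ⟨c, Finset.mem_filter.2 ⟨hc, h, x, hx⟩, ?_⟩
        have hex : ∃ h, P c h := ⟨h, x, hx⟩
        rw [dif_pos hex]
        obtain ⟨x', hx'⟩ := hex.choose_spec
        refine hsame _ _ ⟨x'⁻¹ * x, ?_⟩
        rw [MonObj.mul_comp, GrpObj.inv_comp, ← inv_inv (hex.choose ≫ i), hx', hx]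
        group
      have hS : ∀ v ∈ S, ∃ h, v = u h := by
        intro v hv
        obtain ⟨c, hc, rfl⟩ := Finset.mem_image.1 hv
        have hex := (Finset.mem_filter.1 hc).2
        exact ⟨hex.choose, by rw [dif_pos hex]⟩
      have hval : ∀ (y₀ : VecGrp.pt k k ⟶ G₀) (h : VecGrp.pt k k ⟶ H),
          (ev ψ ((y₀ ≫ j) * (h ≫ i))).ofConv (∑ v ∈ S, v) = (ev ψ₀ y₀).ofConv c₀ := by
        intro y₀ h
        rw [map_sum, Finset.sum_eq_single_of_mem (u h) (hmem h) fun v hv hne => ?_, hu, mul_inv_cancel_right, hw1]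
        obtain ⟨h', rfl⟩ := hS v hv
        rw [hu]
        refine hw0 _ fun ⟨x, hx⟩ => hne (hsame h h' ⟨y₀⁻¹ * x, ?_⟩).symm
        rw [MonObj.mul_comp, GrpObj.inv_comp, hx]
        group
      have hsupp : ∀ y : VecGrp.pt k k ⟶ G, (ev ψ y).ofConv (∑ v ∈ S, v) ≠ 0 →
          ∃ (h : VecGrp.pt k k ⟶ H) (y₀ : VecGrp.pt k k ⟶ G₀), y = (y₀ ≫ j) * (h ≫ i) := by
        intro y hy
        rw [map_sum] at hy
        obtain ⟨v, hv, hvy⟩ := Finset.exists_ne_zero_of_sum_ne_zero hy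
        obtain ⟨h, rfl⟩ := hS v hv
        rw [hu] at hvy
        obtain ⟨y₀, hy₀⟩ := not_not.1 fun hn => hvy (hw0 _ hn)
        exact ⟨h, y₀, by rw [hy₀, inv_mul_cancel_right]⟩
      refine ⟨∑ v ∈ S, v, fun x h => ?_, fun y => ?_, hsupp⟩
      · by_cases hx : ∃ (h : VecGrp.pt k k ⟶ H) (y₀ : VecGrp.pt k k ⟶ G₀), x = (y₀ ≫ j) * (h ≫ i)
        · obtain ⟨h₁, y₀, rfl⟩ := hx
          rw [hval, _root_.mul_assoc, ← MonObj.mul_comp h₁ h i, hval]
        · rw [not_not.1 fun hn => hx (hsupp x hn)]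
          refine not_not.1 fun hn => ?_
          obtain ⟨h₁, y₀, e₁⟩ := hsupp _ hn
          refine hx ⟨h₁ * h⁻¹, y₀, ?_⟩
          rw [MonObj.mul_comp, GrpObj.inv_comp, ← _root_.mul_assoc, ← e₁, mul_inv_cancel_right]
      · have := hval y 1
        rwa [MonObj.one_comp, _root_.mul_one] at this
    -- the point lies over the identity component up to the subgroup
    obtain ⟨c₁, hc₁, hc₁v, hc₁s⟩ := hE 1 (fun x h => by simp)
    have hg1 : (ev ψ g).ofConv c₁ = 1 := by
      have := hg c₁ hc₁ 1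
      rw [_root_.one_mul] at this
      have h1 := hc₁v 1
      rw [MonObj.one_comp, map_one] at h1
      exact this.trans h1
    obtain ⟨h, g₀, rfl⟩ := hc₁s g (by rw [hg1]; exact one_ne_zero)
    obtain ⟨z, hz⟩ := hobs g₀ fun c₀ hc₀ x => by
      obtain ⟨c, hc, hcv, -⟩ := hE c₀ hc₀
      rw [← hcv, ← hcv, MonObj.mul_comp]
      have := hg c hc (x ≫ j)
      rw [← _root_.mul_assoc, hc _ h] at this
      exact this
    exact ⟨z ≫ a * h, by rw [MonObj.mul_comp, Category.assoc, hw, ← Category.assoc, hz]⟩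

end Groth.Agent.S12428
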