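import Groth.Statements.S1253
import Groth.Agent.L20.RG.Iterate
import Groth.Agent.L01.Kaplansky

set_option autoImplicit false
universe u
open FlatMor

set_option backward.isDefEq.respectTransparency.types false
set_option linter.style.haveILetI false
namespace Groth.Agent.S1253

open IsLocalRing in
/-- Let R be a local ring, S a finitely presented R-algebra, N a finite S-module and q a prime of S over
𝔪_R with N_q flat over R. If N/S/R admits a complete dévissage at q, then N is of finite
presentation over S and free over R; more precisely N is R-isomorphic to the product over the steps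
of the dévissage of the free modules B_i^{r_i}, with B_i and r_i the dévissage's own smooth algebras
and ranks. -/
theorem result {R S : Type u} [CommRing R] [IsLocalRing R] [CommRing S] [Algebra R S] [Algebra.FinitePresentation R S]
    (N : Type u) [AddCommGroup N] [Module S N] [Module R N] [IsScalarTower R S N] [Module.Finite S N]
    (q : Ideal S) [q.IsPrime] [q.LiesOver (maximalIdeal R)] (hflat : FlatCA.FlatAt R q N)
    (D : FlatCA.CompleteDevissage R S N (maximalIdeal R)) (hD : Nonempty (FlatCA.CompleteDevissageAt R S N (maximalIdeal R) q D)) :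
    Module.FinitePresentation S N ∧ Module.Free R N ∧
      Nonempty (N ≃ₗ[R] (∀ i : Fin D.n, Fin (D.r i) → D.B i)) := by
  obtain ⟨E⟩ := hD
  have hu := Groth.L20.RG.univInj_of_flatAt_start D E hflat
  have hinj : ∀ i, i < D.n → Function.Injective (D.α i) := fun i hi =>
    Groth.L20.injective_of_lTensor_self ((D.α i).restrictScalars R) (hu i hi R)
  haveI := fun i => Groth.L20.RG.isScalarTower_base D i
  haveI := Groth.L20.RG.isScalarTower_zero D
  haveI := fun i => Groth.L20.RG.isScalarTower_succ D i
  have hprojB : ∀ i, i < D.n → Module.Projective R (Fin (D.r i) → D.B i) := fun i hi => by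
    haveI := D.smooth i hi
    haveI := (Groth.L20.RG.DomFib.of_smooth_geomIrredFibres (D.geomIrred i hi)).projective
    exact Module.Projective.of_equiv (DFinsupp.linearEquivFunOnFintype (R := R) (M := fun _ : Fin (D.r i) => D.B i))
  have hbij : Function.Bijective (D.α (D.n - 1)) := ⟨hinj _ (Nat.sub_lt D.pos one_pos), D.cokerLast⟩
  have hlast : Nonempty (D.M (D.n - 1) ≃ₗ[R] (Fin (D.r (D.n - 1)) → D.B (D.n - 1))) :=
    ⟨((LinearEquiv.ofBijective (D.α (D.n - 1)) hbij).restrictScalars R).symm⟩
  have hsplit : ∀ i, i + 1 < D.n → Module.Projective R (D.M (i + 1)) →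
      Nonempty (D.M i ≃ₗ[R] (Fin (D.r i) → D.B i) × D.M (i + 1)) := fun i hi hP => by
    haveI := hP
    let g : D.M i →ₗ[D.B i] D.M (i + 1) := (D.isoCoker i hi).toLinearMap ∘ₗ (LinearMap.range (D.α i)).mkQ
    refine Groth.L20.RG.exists_prod_equiv ((D.α i).restrictScalars R) (g.restrictScalars R) (hinj i (by omega))
      ((D.isoCoker i hi).surjective.comp (Submodule.mkQ_surjective _)) ?_
    exact (D.α i).exact_map_mkQ_range.comp_injective _ (D.isoCoker i hi).injective (D.isoCoker i hi).map_zero
  have hP : ∀ i, i < D.n → Module.Projective R (D.M i) :=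
    Groth.L20.RG.descending (n := D.n) (P := fun i => Module.Projective R (D.M i))
      (by haveI := hprojB _ (Nat.sub_lt D.pos one_pos); exact Module.Projective.of_equiv hlast.some.symm)
      fun i hi h => by
        haveI := h
        haveI := hprojB i (by omega)
        exact Module.Projective.of_equiv (hsplit i hi h).some.symm
  haveI := hP 0 D.pos
  haveI : Module.Projective R N := Module.Projective.of_equiv (D.isoN.restrictScalars R).symm
  refine ⟨Groth.L20.RG.fp_of_injective D hinj, Groth.L01.free_of_projective N, ?_⟩
  obtain ⟨e⟩ := Groth.L20.RG.nonempty_pi_equiv (R := R) D.M (fun i => Fin (D.r i) → D.B i) D.n D.pos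
    (fun i hi => hsplit i hi (hP _ hi)) hlast
  exact ⟨(D.isoN.restrictScalars R).trans e⟩


end Groth.Agent.S1253
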