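import Groth.Statements.S7146
import Mathlib.RingTheory.Length
import Mathlib.Data.Sym.Card
import Mathlib.Data.Nat.Choose.Bounds
import Mathlib.Topology.Algebra.Order.Field
import Mathlib.Analysis.SpecificLimits.Basic
-- import your own Groth.Agent.* helpers here

set_option autoImplicit false
universe u
open Filter
open CAlg

namespace Groth.Agent.S7146

theorem length_pow_le {R : Type u} [CommRing R] {d : ℕ} (g : Fin d → R) (n : ℕ) :
    Module.length R (R ⧸ Ideal.span (Set.range g) ^ n) ≤
      ((n + d - 1).choose d : ℕ) * Module.length R (R ⧸ Ideal.span (Set.range g)) := by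
  classical
  set q := Ideal.span (Set.range g) with hq
  induction n with
  | zero =>
    haveI : Subsingleton (R ⧸ q ^ 0) := Ideal.Quotient.subsingleton_iff.2 (by rw [pow_zero, Ideal.one_eq_top])
    rw [Module.length_eq_zero]
    exact zero_le
  | succ n ih =>
    rcases Nat.eq_zero_or_pos n with hn0 | hn0
    · subst hn0
      rw [show (0 + 1 + d - 1).choose d = 1 by rw [show 0 + 1 + d - 1 = d by omega, Nat.choose_self], pow_one, Nat.cast_one, one_mul]
    let m : Sym (Fin d) n → R := fun s => ((s : Multiset (Fin d)).map g).prod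
    have hspan : ∀ k : ℕ, q ^ k ≤ Ideal.span (Set.range fun s : Sym (Fin d) k => ((s : Multiset (Fin d)).map g).prod) := by
      intro k
      induction k with
      | zero =>
        intro x _
        have : (1 : R) ∈ Ideal.span (Set.range fun s : Sym (Fin d) 0 => ((s : Multiset (Fin d)).map g).prod) :=
          Ideal.subset_span ⟨Sym.nil, by simp⟩
        rw [(Ideal.eq_top_iff_one _).2 this]; exact Submodule.mem_top
      | succ k ihk =>
        rw [pow_succ]
        refine (Ideal.mul_mono_left ihk).trans ?_
        rw [hq, Ideal.span_mul_span', Ideal.span_le]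
        rintro _ ⟨_, ⟨s, rfl⟩, _, ⟨i, rfl⟩, rfl⟩
        exact Ideal.subset_span ⟨i ::ₛ s, by simp only [Sym.coe_cons, Multiset.map_cons, Multiset.prod_cons]; exact mul_comm _ _⟩
    have hm : ∀ s, m s ∈ q ^ n := fun s => by
      have h2 : ∀ t : Multiset (Fin d), (t.map g).prod ∈ q ^ t.card := by
        intro t
        induction t using Multiset.induction_on with
        | empty => simp
        | cons a t iht =>
          rw [Multiset.map_cons, Multiset.prod_cons, Multiset.card_cons, pow_succ']
          exact Ideal.mul_mem_mul (Ideal.subset_span ⟨a, rfl⟩) iht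
      have h3 := h2 s
      rwa [show (s : Multiset (Fin d)).card = n from s.2] at h3
    let ψ : (Sym (Fin d) n → R ⧸ q) →ₗ[R] R ⧸ q ^ (n + 1) :=
      ∑ s, (Submodule.liftQ q (Submodule.mkQ (q ^ (n + 1)) ∘ₗ LinearMap.toSpanSingleton R R (m s)) (fun x hx => by
        rw [LinearMap.mem_ker, LinearMap.comp_apply, Submodule.mkQ_apply, Submodule.Quotient.mk_eq_zero,
          LinearMap.toSpanSingleton_apply, smul_eq_mul, pow_succ']
        exact Ideal.mul_mem_mul hx (hm s))) ∘ₗ LinearMap.proj s
    let π : R ⧸ q ^ (n + 1) →ₗ[R] R ⧸ q ^ n := Submodule.factor (Ideal.pow_le_pow_right n.le_succ)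
    have hker : LinearMap.ker π ≤ LinearMap.range ψ := by
      intro z hz
      obtain ⟨x, rfl⟩ := Submodule.Quotient.mk_surjective _ z
      have hx : x ∈ q ^ n := (Submodule.Quotient.mk_eq_zero _).1 hz
      obtain ⟨c, hc⟩ := (Submodule.mem_span_range_iff_exists_fun R).1 (hspan n hx)
      refine ⟨fun s => Submodule.Quotient.mk (c s), ?_⟩
      rw [← hc]
      simp only [ψ, LinearMap.sum_apply, LinearMap.comp_apply, LinearMap.proj_apply]
      rw [← Submodule.mkQ_apply, map_sum]
      rfl
    have hexact : Function.Exact (LinearMap.ker π).subtype π := LinearMap.exact_subtype_ker_map π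
    rw [Module.length_eq_add_of_exact (LinearMap.ker π).subtype π Subtype.val_injective
      (Submodule.factor_surjective _) hexact]
    have h1 : Module.length R (LinearMap.ker π) ≤ (Fintype.card (Sym (Fin d) n) : ℕ) * Module.length R (R ⧸ q) := by
      refine ((Module.length_le_of_injective (Submodule.inclusion hker) (Submodule.inclusion_injective hker)).trans
        (Module.length_le_of_surjective ψ.rangeRestrict ψ.surjective_rangeRestrict)).trans (le_of_eq ?_)
      rw [Module.length_pi_of_fintype, Finset.sum_const, Finset.card_univ, nsmul_eq_mul]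
    refine (add_le_add h1 ih).trans ?_
    rw [← add_mul, ← Nat.cast_add, Sym.card_sym_eq_choose, Fintype.card_fin]
    refine mul_le_mul_left (Nat.cast_le.2 ?_) _
    rcases d with _ | d
    · rcases n with _ | n
      · omega
      · simp
    · rw [show d + 1 + n - 1 = d + n by omega, show n + (d + 1) - 1 = n + d by omega,
        show n + 1 + (d + 1) - 1 = n + d + 1 by omega, Nat.choose_succ_succ' (n + d) d, add_comm d n,
        Nat.choose_symm_add]

/-- Let R be a Noetherian local ring of Krull dimension d and I the ideal generated by a system of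
parameters g_1, ..., g_d (d elements of the maximal ideal generating an ideal with radical the
maximal ideal); let e_I be the multiplicity of I, i.e. d! times the top coefficient of the numerical
polynomial n ↦ length(R/I^(n+1)), equivalently the limit of d!·length(R/Iⁿ)/n^d. Then e_I ≤
length(R/I). (Stated for a natural number e equal to that limit.) -/
theorem result (R : Type u) [CommRing R] [IsNoetherianRing R] [IsLocalRing R]
    (d : ℕ) (hd : ringKrullDim R = d) (g : Fin d → R) (hg : ∀ i, g i ∈ IsLocalRing.maximalIdeal R)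
    (hsop : IsLocalRing.maximalIdeal R ≤ (Ideal.span (Set.range g)).radical) (e : ℕ)
    (he : Tendsto (fun n : ℕ => (d.factorial : ℝ) * ((Module.length R (R ⧸ Ideal.span (Set.range g) ^ n)).toNat : ℝ) / (n : ℝ) ^ d)
      atTop (nhds (e : ℝ))) :
    (e : ℕ∞) ≤ Module.length R (R ⧸ Ideal.span (Set.range g)) := by
  set L := Module.length R (R ⧸ Ideal.span (Set.range g)) with hL
  by_cases hLt : L = ⊤
  · rw [hLt]; exact le_top
  obtain ⟨l, hl⟩ := ENat.ne_top_iff_exists.1 hLt
  rw [← hl, Nat.cast_le, ← Nat.cast_le (α := ℝ)]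
  have hlim : Tendsto (fun n : ℕ => (1 + (d : ℝ) * (n : ℝ)⁻¹) ^ d * (l : ℝ)) atTop (nhds (l : ℝ)) := by
    have h := ((((tendsto_inv_atTop_zero (𝕜 := ℝ)).comp tendsto_natCast_atTop_atTop).const_mul (d : ℝ)).const_add (1 : ℝ)).pow d |>.mul_const (l : ℝ)
    simpa [Function.comp_def] using h
  refine le_of_tendsto_of_tendsto he hlim ?_
  filter_upwards [Filter.eventually_gt_atTop 0] with n hn
  have h1 := length_pow_le g n
  rw [← hL, ← hl, ← Nat.cast_mul] at h1
  have h2 : (Module.length R (R ⧸ Ideal.span (Set.range g) ^ n)).toNat ≤ (n + d - 1).choose d * l :=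
    ENat.toNat_le_of_le_natCast h1
  have h3 : d.factorial * (n + d - 1).choose d ≤ (n + d) ^ d :=
    (Nat.mul_le_mul_left _ (Nat.choose_le_choose d (Nat.sub_le _ _))).trans
      ((Nat.descFactorial_eq_factorial_mul_choose _ _).ge.trans (Nat.descFactorial_le_pow _ _))
  have h4 : (d.factorial : ℝ) * ((Module.length R (R ⧸ Ideal.span (Set.range g) ^ n)).toNat : ℝ) ≤ ((n : ℝ) + d) ^ d * l := by
    have : d.factorial * (Module.length R (R ⧸ Ideal.span (Set.range g) ^ n)).toNat ≤ (n + d) ^ d * l := by
      calc _ ≤ d.factorial * ((n + d - 1).choose d * l) := Nat.mul_le_mul_left _ h2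
        _ = d.factorial * (n + d - 1).choose d * l := (mul_assoc _ _ _).symm
        _ ≤ _ := Nat.mul_le_mul_right _ h3
    exact_mod_cast this
  have hn' : (0 : ℝ) < n := Nat.cast_pos.2 hn
  rw [div_le_iff₀ (pow_pos hn' d)]
  refine h4.trans (le_of_eq ?_)
  rw [mul_right_comm, ← mul_pow]
  congr 2
  field_simp

end Groth.Agent.S7146
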