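import Groth.Statements.S7117
import Groth.Agent.L06.HilbertSamuel
import Groth.Agent.S7146
import Mathlib.RingTheory.Ideal.MinimalPrime.Noetherian
import Mathlib.Algebra.Group.ForwardDiff
import Mathlib.Analysis.Polynomial.Basic
import Mathlib.Topology.Order.Monotone
import Mathlib.Algebra.BigOperators.Field
-- import your own Groth.Agent.* helpers here

set_option autoImplicit false
universe u
open CAlg

namespace Groth.Agent.S7117

open Filter Topology Groth.L06.HilbertSamuel

theorem tendsto_eval_div (P : Polynomial ℚ) (hP : P ≠ 0) :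
    Tendsto (fun n : ℕ => P.eval (n : ℚ) / (n : ℚ) ^ P.natDegree) atTop (𝓝 P.leadingCoeff) := by
  have h := Polynomial.div_tendsto_atTop_leadingCoeff_div_of_degree_eq P (Polynomial.X ^ P.natDegree)
    (by rw [Polynomial.degree_X_pow, Polynomial.degree_eq_natDegree hP])
  simp only [Polynomial.eval_pow, Polynomial.eval_X, Polynomial.leadingCoeff_X_pow, div_one] at h
  exact h.comp tendsto_natCast_atTop_atTop

theorem inv_factorial_le_leadingCoeff (P : Polynomial ℚ) (hP : P ≠ 0) (f : ℕ → ℕ) (N : ℕ)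
    (hf : ∀ n, N ≤ n → (f n : ℚ) = P.eval (n : ℚ)) :
    (1 : ℚ) / (P.natDegree.factorial : ℚ) ≤ P.leadingCoeff := by
  have hz : ∃ z : ℤ, (z : ℚ) = P.leadingCoeff * (P.natDegree.factorial : ℚ) := by
    have h1 := congrFun P.fwdDiff_iter_degree_eq_factorial (N : ℚ)
    rw [fwdDiff_iter_eq_sum_shift] at h1
    simp only [Pi.smul_apply, smul_eq_mul, zsmul_eq_mul] at h1
    refine ⟨∑ k ∈ Finset.range (P.natDegree + 1), ((-1 : ℤ) ^ (P.natDegree - k) * P.natDegree.choose k) * (f (N + k) : ℤ), ?_⟩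
    rw [Int.cast_sum]
    refine Eq.trans (Finset.sum_congr rfl fun k _ => ?_) (h1.trans ?_)
    · rw [Int.cast_mul, Int.cast_natCast, hf (N + k) (Nat.le_add_right _ _)]
      simp
    · simp
  obtain ⟨z, hz⟩ := hz
  have hnonneg : 0 ≤ P.leadingCoeff := by
    refine ge_of_tendsto (tendsto_eval_div P hP) ?_
    filter_upwards [Filter.eventually_ge_atTop N] with n hn
    rw [← hf n hn]
    positivity
  have hpos : 0 < P.leadingCoeff := hnonneg.lt_of_ne (Polynomial.leadingCoeff_ne_zero.2 hP).symm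
  have hz1 : (1 : ℤ) ≤ z := by
    have : (0 : ℚ) < z := by rw [hz]; positivity
    exact_mod_cast this
  rw [div_le_iff₀ (by positivity), ← hz]
  exact_mod_cast hz1

variable {A : Type u} [CommRing A] [IsNoetherianRing A] (q : Ideal A)

theorem hs_le_of_surjective {M N : Type u} [AddCommGroup M] [Module A M] [Module.Finite A M] [AddCommGroup N] [Module A N]
    (hq0 : ringKrullDim (A ⧸ q) ≤ 0) (f : M →ₗ[A] N) (hf : Function.Surjective f) (n : ℕ) :
    hs q N n ≤ hs q M n := by
  refine ENat.toNat_le_toNat ?_ (length_ne_top q M hq0 n)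
  refine Module.length_le_of_surjective (Submodule.mapQ _ _ f (Submodule.map_le_iff_le_comap.mp (by
    rw [Submodule.map_smul'']; exact smul_mono_right _ le_top))) fun z => ?_
  obtain ⟨z, rfl⟩ := Submodule.Quotient.mk_surjective _ z
  obtain ⟨m, rfl⟩ := hf z
  exact ⟨Submodule.Quotient.mk m, rfl⟩

theorem sum_hs_le_hs_pi {ι : Type u} [Fintype ι] (M : ι → Type u) [∀ i, AddCommGroup (M i)] [∀ i, Module A (M i)]
    [∀ i, Module.Finite A (M i)] (hq0 : ringKrullDim (A ⧸ q) ≤ 0) (n : ℕ) :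
    ∑ i, hs q (M i) n ≤ hs q (∀ i, M i) n := by
  let G := fun i => M i ⧸ (q ^ n • (⊤ : Submodule A (M i)))
  let π : (∀ i, M i) →ₗ[A] (∀ i, G i) := LinearMap.pi fun i => (Submodule.mkQ (q ^ n • (⊤ : Submodule A (M i)))) ∘ₗ LinearMap.proj i
  let π' : ((∀ i, M i) ⧸ (q ^ n • (⊤ : Submodule A (∀ i, M i)))) →ₗ[A] (∀ i, G i) := Submodule.liftQ _ π (by
    rw [Submodule.smul_le]
    intro a ha m _
    rw [LinearMap.mem_ker, map_smul]
    funext i
    show a • (Submodule.Quotient.mk (m i) : G i) = 0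
    rw [← Submodule.Quotient.mk_smul, Submodule.Quotient.mk_eq_zero]
    exact Submodule.smul_mem_smul ha trivial)
  have hsurj : Function.Surjective π' := fun y => by
    choose m hm using fun i => Submodule.Quotient.mk_surjective _ (y i)
    exact ⟨Submodule.Quotient.mk m, funext hm⟩
  have h := Module.length_le_of_surjective π' hsurj
  rw [Module.length_pi_of_fintype, ← coe_hs q _ hq0 n, Finset.sum_congr rfl (fun i _ => (coe_hs q (M i) hq0 n).symm)] at h
  exact_mod_cast h

/-- Let R be a Noetherian local ring of Krull dimension d with maximal ideal m, and suppose g_1, ...,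
g_d in m form a system of parameters (they generate an ideal with radical m). Then the number of
minimal prime ideals p of R with R/p of Krull dimension d is at most the length of R/(g_1, ...,
g_d). -/
theorem result (R : Type u) [CommRing R] [IsNoetherianRing R] [IsLocalRing R]
    (d : ℕ) (hd : ringKrullDim R = d) (g : Fin d → R) (hg : ∀ i, g i ∈ IsLocalRing.maximalIdeal R)
    (hsop : IsLocalRing.maximalIdeal R ≤ (Ideal.span (Set.range g)).radical) :
    (Set.ncard {p : Ideal R | p ∈ minimalPrimes R ∧ ringKrullDim (R ⧸ p) = d} : ℕ∞) ≤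
      Module.length R (R ⧸ Ideal.span (Set.range g)) := by
  classical
  set q := Ideal.span (Set.range g) with hq
  have hqm : q ≤ IsLocalRing.maximalIdeal R := Ideal.span_le.2 (by rintro _ ⟨i, rfl⟩; exact hg i)
  have hq0 : ringKrullDim (R ⧸ q) ≤ 0 := (Groth.L06.SupportDim.le_zero_iff_forall_isMaximal q).2 fun p hp hle => by
    have : IsLocalRing.maximalIdeal R ≤ p := hsop.trans ((Ideal.radical_mono hle).trans hp.radical.le)
    exact (IsLocalRing.maximalIdeal.isMaximal R).eq_of_le hp.ne_top this ▸ IsLocalRing.maximalIdeal.isMaximal R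
  have hqj : q ≤ Ring.jacobson R := by
    rw [Ring.jacobson_eq_sInf_isMaximal]
    exact le_sInf fun J hJ => hqm.trans (IsLocalRing.eq_maximalIdeal hJ).ge
  have hLtop : Module.length R (R ⧸ q) ≠ ⊤ := by
    have := Groth.L06.HilbertSamuel.length_ne_top q R hq0 1
    rwa [pow_one, smul_eq_mul, Ideal.mul_top] at this
  obtain ⟨l, hl⟩ := ENat.ne_top_iff_exists.1 hLtop
  have hub : ∀ n, d.factorial * hs q R n ≤ (n + d) ^ d * l := fun n => by
    have h1 := Groth.Agent.S7146.length_pow_le g n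
    rw [← hq, ← hl, ← Nat.cast_mul] at h1
    have h2 : hs q R n ≤ (n + d - 1).choose d * l := by
      rw [Groth.L06.HilbertSamuel.hs, smul_eq_mul, Ideal.mul_top]
      exact ENat.toNat_le_of_le_natCast h1
    calc _ ≤ d.factorial * ((n + d - 1).choose d * l) := Nat.mul_le_mul_left _ h2
      _ = d.factorial * (n + d - 1).choose d * l := (mul_assoc _ _ _).symm
      _ ≤ _ := Nat.mul_le_mul_right _ ((Nat.mul_le_mul_left _ (Nat.choose_le_choose d (Nat.sub_le _ _))).trans
        ((Nat.descFactorial_eq_factorial_mul_choose _ _).ge.trans (Nat.descFactorial_le_pow _ _)))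
  have hfin : {p : Ideal R | p ∈ minimalPrimes R ∧ ringKrullDim (R ⧸ p) = d}.Finite :=
    (minimalPrimes.finite_of_isNoetherianRing R).subset fun p hp => hp.1
  haveI := hfin.fintype
  let T := {p : Ideal R | p ∈ minimalPrimes R ∧ ringKrullDim (R ⧸ p) = d}
  have hs' : ∀ p : T, ∃ s : R, s ∉ (p : Ideal R) ∧ ∀ p' : T, p' ≠ p → s ∈ (p' : Ideal R) := by
    intro p
    have hp : (p : Ideal R).IsPrime := p.2.1.1.1
    have hn : ¬ ∏ p' ∈ Finset.univ.erase p, (p' : Ideal R) ≤ (p : Ideal R) := fun h => by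
      obtain ⟨p', hp', hle⟩ := hp.prod_le.1 h
      exact (Finset.mem_erase.1 hp').1 (Subtype.ext (le_antisymm hle
        (p.2.1.2 ⟨p'.2.1.1.1, bot_le⟩ hle)))
    obtain ⟨s, hs, hsp⟩ := SetLike.not_le_iff_exists.1 hn
    exact ⟨s, hsp, fun p' hp' => Finset.inf_le (f := fun p' : T => (p' : Ideal R))
      (Finset.mem_erase.2 ⟨hp', Finset.mem_univ _⟩) (Ideal.prod_le_inf hs)⟩
  choose s hs1 hs2 using hs'
  let I : Ideal R := ⨅ p : T, (p : Ideal R)
  let Φ : (∀ p : T, R ⧸ (p : Ideal R)) →ₗ[R] R ⧸ I := ∑ p : T,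
    (Submodule.liftQ (p : Ideal R) (Submodule.mkQ I ∘ₗ LinearMap.toSpanSingleton R R (s p)) (fun x hx => by
      rw [LinearMap.mem_ker, LinearMap.comp_apply, Submodule.mkQ_apply, Submodule.Quotient.mk_eq_zero,
        LinearMap.toSpanSingleton_apply, smul_eq_mul]
      refine Submodule.mem_iInf _ |>.2 fun p' => ?_
      by_cases h : p' = p
      · subst h; exact Ideal.mul_mem_right _ _ hx
      · exact Ideal.mul_mem_left _ _ (hs2 p p' h))) ∘ₗ LinearMap.proj p
  have hΦ : Function.Injective Φ := by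
    rw [injective_iff_map_eq_zero]
    intro a ha
    choose b hb using fun p => Submodule.Quotient.mk_surjective _ (a p)
    have h1 : (∑ p : T, b p * s p) ∈ I := by
      rw [← Submodule.Quotient.mk_eq_zero, ← ha, ← Submodule.mkQ_apply, map_sum]
      simp only [Φ, LinearMap.sum_apply, LinearMap.comp_apply, LinearMap.proj_apply, ← hb]
      rfl
    funext p
    rw [← hb p, Pi.zero_apply, Submodule.Quotient.mk_eq_zero]
    have h2 := Submodule.mem_iInf _ |>.1 h1 p
    rw [← Finset.add_sum_erase _ _ (Finset.mem_univ p)] at h2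
    have h3 : ∑ x ∈ Finset.univ.erase p, b x * s x ∈ (p : Ideal R) := Submodule.sum_mem _ fun x hx =>
      Ideal.mul_mem_left _ _ (hs2 x p fun h => (Finset.mem_erase.1 hx).1 h.symm)
    exact ((p.2.1.1.1).mem_or_mem ((Ideal.add_mem_iff_left _ h3).1 h2)).resolve_right (hs1 p)
  obtain ⟨c, hc⟩ := hs_submodule_le q (R ⧸ I) hq0 (LinearMap.range Φ)
  have hsum : ∀ n, (∑ p : T, hs q (R ⧸ (p : Ideal R)) n) ≤ hs q R (n + c) := fun n =>
    (sum_hs_le_hs_pi q (fun p : T => R ⧸ (p : Ideal R)) hq0 n).trans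
      ((hs_le_of_surjective q hq0 (LinearEquiv.ofInjective Φ hΦ).symm.toLinearMap (LinearEquiv.ofInjective Φ hΦ).symm.surjective n).trans
        ((hc n).trans (hs_le_of_surjective q hq0 (Submodule.mkQ I) (Submodule.mkQ_surjective I) _)))
  have hpoly : ∀ p : T, ∃ P : Polynomial ℚ, ∃ N, (∀ n, N ≤ n → (hs q (R ⧸ (p : Ideal R)) n : ℚ) = P.eval (n : ℚ)) ∧
      P ≠ 0 ∧ P.natDegree = d := by
    intro p
    obtain ⟨P, N, hP⟩ := exists_polynomial q (R ⧸ (p : Ideal R)) hq0
    haveI : Nontrivial (R ⧸ (p : Ideal R)) := Ideal.Quotient.nontrivial_iff.2 (p.2.1.1.1).ne_top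
    have hdim : Module.supportDim R (R ⧸ (p : Ideal R)) = d := by
      rw [Groth.L06.SupportDim.supportDim_eq_quotient, Ideal.annihilator_quotient]
      exact p.2.2
    have hgr : Growth d (hs q (R ⧸ (p : Ideal R))) := by
      refine ⟨l * (d + 1) ^ d, 0, fun n _ => ?_⟩
      refine (hs_le_of_surjective q hq0 (Submodule.mkQ (p : Ideal R)) (Submodule.mkQ_surjective _) n).trans ?_
      refine (Nat.le_mul_of_pos_left _ d.factorial_pos).trans ((hub n).trans ?_)
      rw [mul_comm, mul_assoc, ← mul_pow]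
      exact Nat.mul_le_mul_left _ (Nat.pow_le_pow_left (by nlinarith) _)
    have hne : P ≠ 0 := by
      intro h0
      have h1 := hP (N + 1) (Nat.le_succ N)
      rw [h0, Polynomial.eval_zero, Nat.cast_eq_zero] at h1
      have h2 := coe_hs q (R ⧸ (p : Ideal R)) hq0 (N + 1)
      rw [h1, Nat.cast_zero, eq_comm, Module.length_eq_zero_iff, Submodule.Quotient.subsingleton_iff] at h2
      refine (bot_ne_top : (⊥ : Submodule R (R ⧸ (p : Ideal R))) ≠ ⊤) (Submodule.eq_bot_of_le_smul_of_le_jacobson_bot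
        (q ^ (N + 1)) ⊤ Module.Finite.fg_top h2.ge ((Ideal.pow_le_self N.succ_ne_zero).trans ?_)).symm
      rw [IsLocalRing.jacobson_eq_maximalIdeal _ bot_ne_top]; exact hqm
    refine ⟨P, N, hP, hne, le_antisymm (natDegree_le_of_growth hgr ⟨N, hP⟩) ?_⟩
    have h1 := supportDim_le_of_growth q hq0 hqj (R ⧸ (p : Ideal R))
      (growth_of_poly (f := hs q (R ⧸ (p : Ideal R))) le_rfl ⟨N, fun n hn => (hP n hn).le⟩)
    rw [hdim] at h1
    exact_mod_cast h1
  choose P N hP hP0 hPd using hpoly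
  have hlim : Filter.Tendsto (fun n : ℕ => ∑ p : T, (P p).eval (n : ℚ) / (n : ℚ) ^ d) Filter.atTop
      (nhds (∑ p : T, (P p).leadingCoeff)) := tendsto_finsetSum _ fun p _ => by
    have h := tendsto_eval_div (P p) (hP0 p)
    rwa [hPd p] at h
  have hlim2 : Filter.Tendsto (fun n : ℕ => (1 + ((c + d : ℕ) : ℚ) * (n : ℚ)⁻¹) ^ d * ((l : ℚ) / d.factorial)) Filter.atTop
      (nhds ((l : ℚ) / d.factorial)) := by
    have h := ((((tendsto_inv_atTop_zero (𝕜 := ℚ)).comp tendsto_natCast_atTop_atTop).const_mul ((c + d : ℕ) : ℚ)).const_add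
      (1 : ℚ)).pow d |>.mul_const ((l : ℚ) / d.factorial)
    simpa [Function.comp_def] using h
  have hle : ∑ p : T, (P p).leadingCoeff ≤ (l : ℚ) / d.factorial := by
    refine le_of_tendsto_of_tendsto hlim hlim2 ?_
    filter_upwards [Filter.eventually_gt_atTop 0, Filter.eventually_all.2 fun p => Filter.eventually_ge_atTop (N p)] with n hn hN
    have hn' : (0 : ℚ) < n := Nat.cast_pos.2 hn
    rw [← Finset.sum_div, div_le_iff₀ (pow_pos hn' d), Finset.sum_congr rfl fun p _ => (hP p n (hN p)).symm]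
    have h1 : d.factorial * (∑ p : T, hs q (R ⧸ (p : Ideal R)) n) ≤ (n + c + d) ^ d * l :=
      (Nat.mul_le_mul_left _ (hsum n)).trans (hub _)
    have h2 : (d.factorial : ℚ) * (∑ p : T, (hs q (R ⧸ (p : Ideal R)) n : ℚ)) ≤ ((n : ℚ) + c + d) ^ d * l := by
      exact_mod_cast h1
    have hfp : (0 : ℚ) < d.factorial := Nat.cast_pos.2 d.factorial_pos
    rw [mul_right_comm, ← mul_pow, ← mul_div_assoc, le_div_iff₀ hfp, mul_comm _ (d.factorial : ℚ)]
    refine h2.trans (le_of_eq ?_)
    congr 2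
    field_simp
    push_cast
    ring
  have hsum1 : (Fintype.card T : ℚ) / d.factorial ≤ ∑ p : T, (P p).leadingCoeff := by
    have : ∑ _p : T, (1 : ℚ) / d.factorial ≤ ∑ p : T, (P p).leadingCoeff := Finset.sum_le_sum fun p _ => by
      have h := inv_factorial_le_leadingCoeff (P p) (hP0 p) _ (N p) (hP p)
      rwa [hPd p] at h
    rwa [Finset.sum_const, Finset.card_univ, nsmul_eq_mul, mul_one_div] at this
  have hcard := (div_le_div_iff_of_pos_right (Nat.cast_pos.2 d.factorial_pos)).1 (hsum1.trans hle)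
  rw [← hl, Set.ncard_eq_toFinset_card', Set.toFinset_card, Nat.cast_le]
  exact_mod_cast hcard

end Groth.Agent.S7117
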