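import Groth.Statements.S7119
import Groth.Agent.L01.NormalDomain
import Groth.Agent.S7117
import Mathlib.RingTheory.Ideal.KrullsHeightTheorem
import Mathlib.RingTheory.KrullDimension.NonZeroDivisors
import Mathlib.RingTheory.DiscreteValuationRing.Basic
import Mathlib.RingTheory.Ideal.MinimalPrime.Noetherian
-- import your own Groth.Agent.* helpers here

set_option autoImplicit false
universe u
open CAlg

namespace Groth.Agent.S7119

open IsLocalRing

variable {R : Type u} [CommRing R]

/-- Symbolic powers. -/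
noncomputable abbrev sPow (p : Ideal R) [p.IsPrime] (k : ℕ) : Ideal R :=
  (maximalIdeal (Localization.AtPrime p) ^ k).comap (algebraMap R (Localization.AtPrime p))

theorem map_eq_max (p : Ideal R) [p.IsPrime] :
    p.map (algebraMap R (Localization.AtPrime p)) = maximalIdeal (Localization.AtPrime p) :=
  Localization.AtPrime.map_eq_maximalIdeal

theorem mem_maximalIdeal_of_mem (p : Ideal R) [p.IsPrime] {x : R} (hx : x ∈ p) :
    algebraMap R (Localization.AtPrime p) x ∈ maximalIdeal (Localization.AtPrime p) :=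
  map_eq_max p ▸ Ideal.mem_map_of_mem _ hx

/-- Membership in a principal ideal may be tested at its associated primes. -/
theorem dvd_of_forall_local [IsNoetherianRing R] {f x : R}
    (h : ∀ (p : Ideal R) [p.IsPrime], p ∈ associatedPrimes R (R ⧸ Ideal.span {f}) →
      algebraMap R (Localization.AtPrime p) f ∣ algebraMap R (Localization.AtPrime p) x) : f ∣ x := by
  rw [← Ideal.mem_span_singleton, ← Ideal.Quotient.eq_zero_iff_mem]
  by_contra hx
  obtain ⟨p, hp, hle⟩ := exists_le_isAssociatedPrime_of_isNoetherianRing R (Ideal.Quotient.mk (Ideal.span {f}) x) hx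
  haveI := hp.isPrime
  have h1 := h p hp
  rw [← Ideal.mem_span_singleton, ← Set.image_singleton, ← Ideal.map_span,
    IsLocalization.algebraMap_mem_map_algebraMap_iff p.primeCompl] at h1
  obtain ⟨s, hs, hsx⟩ := h1
  refine hs (hle ?_)
  rw [Submodule.mem_colon_singleton, Submodule.mem_bot]
  exact Ideal.Quotient.eq_zero_iff_mem.2 hsx

variable [IsDomain R] [IsNoetherianRing R]

theorem height_eq_one {f : R} (hf : f ≠ 0) {p : Ideal R} (hp : p ∈ (Ideal.span {f}).minimalPrimes) : p.height = 1 := by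
  haveI := hp.1.1
  refine le_antisymm (Ideal.height_le_one_of_isPrincipal_of_mem_minimalPrimes _ _ hp) ?_
  rw [Order.one_le_iff_ne_zero, ne_eq, Ideal.height_eq_zero_iff_eq_bot]
  intro e
  exact hf ((Submodule.mem_bot R).1 (e ▸ hp.1.2 (Ideal.mem_span_singleton_self f)))

theorem mem_minimalPrimes {f : R} (hf : f ≠ 0) {p : Ideal R} [p.IsPrime] (hh : p.height ≤ 1) (hfp : f ∈ p) :
    p ∈ (Ideal.span {f}).minimalPrimes := by
  exact Ideal.mem_minimalPrimes_of_height_le ((Ideal.span_singleton_le_iff_mem _).2 hfp)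
    (hh.trans (Ideal.one_le_height_span_singleton_of_mem_nonZeroDivisors (mem_nonZeroDivisors_of_ne_zero hf)))

variable [IsIntegrallyClosed R]

theorem isDVR_of_minimal {f : R} (hf : f ≠ 0) {p : Ideal R} [p.IsPrime] (hp : p ∈ (Ideal.span {f}).minimalPrimes) :
    IsDiscreteValuationRing (Localization.AtPrime p) :=
  Groth.L01.isDVR_localization_of_mem_associatedPrimes hf
    (Module.associatedPrimes.minimalPrimes_annihilator_subset_associatedPrimes R (R ⧸ Ideal.span {f})
      (by rwa [Ideal.annihilator_quotient]))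

theorem mem_minimalPrimes_of_ass {f : R} (hf : f ≠ 0) {p : Ideal R} [p.IsPrime]
    (hp : p ∈ associatedPrimes R (R ⧸ Ideal.span {f})) : p ∈ (Ideal.span {f}).minimalPrimes :=
  mem_minimalPrimes hf (Groth.L01.height_eq_one_of_mem_associatedPrimes hf hp).le
    (hp.annihilator_le (by rw [Submodule.annihilator_top, Ideal.annihilator_quotient]; exact Ideal.mem_span_singleton_self f))

theorem isReduced_quotient {f : R} (hf : f ≠ 0)
    (h : ∀ (p : Ideal R) [p.IsPrime], p ∈ (Ideal.span {f}).minimalPrimes → f ∉ sPow p 2) :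
    IsReduced (R ⧸ Ideal.span {f}) := by
  refine ⟨fun z hz => ?_⟩
  obtain ⟨x, rfl⟩ := Ideal.Quotient.mk_surjective z
  obtain ⟨n, hn⟩ := hz
  rw [← map_pow, Ideal.Quotient.eq_zero_iff_mem] at hn
  rw [Ideal.Quotient.eq_zero_iff_mem, Ideal.mem_span_singleton]
  refine dvd_of_forall_local fun p _ hp => ?_
  have hpm := mem_minimalPrimes_of_ass hf hp
  haveI := isDVR_of_minimal hf hpm
  have hxp : x ∈ p := Ideal.IsPrime.mem_of_pow_mem inferInstance n (hpm.1.2 hn)
  obtain ⟨π, hπ⟩ := IsDiscreteValuationRing.exists_irreducible (Localization.AtPrime p)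
  have hmax := hπ.maximalIdeal_eq
  have hx' := mem_maximalIdeal_of_mem p hxp
  have hf' := mem_maximalIdeal_of_mem p (hpm.1.2 (Ideal.mem_span_singleton_self f))
  rw [hmax, Ideal.mem_span_singleton] at hx' hf'
  obtain ⟨y, hy⟩ := hf'
  have hyu : IsUnit y := by
    by_contra hyu
    refine h p hpm ?_
    show algebraMap R (Localization.AtPrime p) f ∈ maximalIdeal (Localization.AtPrime p) ^ 2
    rw [hy, pow_two]
    exact Ideal.mul_mem_mul (hmax ▸ Ideal.mem_span_singleton_self π) hyu
  rw [hy]
  exact hyu.mul_right_dvd.2 hx'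

theorem not_le_sPow_two {R : Type u} [CommRing R] (q : Ideal R) [q.IsPrime] [IsDomain (Localization.AtPrime q)]
    [IsDiscreteValuationRing (Localization.AtPrime q)] : ¬ q ≤ sPow q 2 := by
  intro h
  have h1 : maximalIdeal (Localization.AtPrime q) ≤ maximalIdeal (Localization.AtPrime q) ^ 2 :=
    (map_eq_max q).ge.trans (Ideal.map_le_iff_le_comap.2 h)
  obtain ⟨π, hπ⟩ := IsDiscreteValuationRing.exists_irreducible (Localization.AtPrime q)
  rw [hπ.maximalIdeal_eq, Ideal.span_singleton_pow, Ideal.span_singleton_le_span_singleton] at h1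
  obtain ⟨c, hc⟩ := h1
  exact hπ.not_isUnit (IsUnit.of_mul_eq_one c (mul_left_cancel₀ hπ.ne_zero (by rw [mul_one]; linear_combination -hc)))

theorem mem_sPow_of_mul {R : Type u} [CommRing R] (q : Ideal R) [q.IsPrime] {k : ℕ} {a b : R} (hb : b ∉ q)
    (h : a * b ∈ sPow q k) : a ∈ sPow q k := by
  have h' : algebraMap R (Localization.AtPrime q) a * algebraMap R (Localization.AtPrime q) b ∈
      maximalIdeal (Localization.AtPrime q) ^ k := by
    rw [← map_mul]; exact h
  show algebraMap R (Localization.AtPrime q) a ∈ maximalIdeal (Localization.AtPrime q) ^ k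
  exact (Ideal.mul_unit_mem_iff_mem _ (IsLocalization.map_units (M := q.primeCompl) (Localization.AtPrime q) ⟨b, hb⟩)).1 h'

set_option maxHeartbeats 800000 in
theorem step [IsLocalRing R] (hdim : ringKrullDim R = 2) (g f : R) (hf : f ≠ 0) (hfm : f ∈ maximalIdeal R)
    (hsop : maximalIdeal R ≤ (Ideal.span {f, g}).radical) {q : Ideal R} [q.IsPrime]
    (hq : q ∈ (Ideal.span {f}).minimalPrimes) (hqbad : f ∈ sPow q 2)
    (K : ∀ f' : R, f' ≠ 0 → f' ∈ maximalIdeal R → (Ideal.span {f}).minimalPrimes ⊆ (Ideal.span {f'}).minimalPrimes →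
      (Ideal.span {f}).minimalPrimes ≠ (Ideal.span {f'}).minimalPrimes → Ideal.span {f', g} = Ideal.span {f, g} → False) :
    False := by
  classical
  obtain ⟨a, ha⟩ := Ideal.exists_pow_le_of_le_radical_of_fg hsop (IsNoetherian.noetherian _)
  obtain ⟨b, hb⟩ : ∃ b, f ∉ maximalIdeal R ^ b := by
    by_contra hc
    push Not at hc
    exact hf (by simpa [Ideal.iInf_pow_eq_bot_of_isLocalRing _ (maximalIdeal.isMaximal R).ne_top] using
      (Submodule.mem_iInf _).2 hc)
  let N := max (a + 1) b
  have hZ := Ideal.finite_minimalPrimes_of_isNoetherianRing R (Ideal.span {f})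
  haveI := hZ.fintype
  let Z := (Ideal.span {f}).minimalPrimes
  haveI hpr : ∀ p : Z, (p : Ideal R).IsPrime := fun p => p.2.1.1
  haveI : ∀ p : Z, IsDiscreteValuationRing (Localization.AtPrime (p : Ideal R)) := fun p => isDVR_of_minimal hf p.2
  have hk : ∀ p : Z, ∃ k, algebraMap R (Localization.AtPrime (p : Ideal R)) f ∉ maximalIdeal _ ^ k := fun p => by
    by_contra hc
    push Not at hc
    have := (Submodule.mem_iInf _).2 hc
    rw [Ideal.iInf_pow_eq_bot_of_isLocalRing _ (maximalIdeal.isMaximal _).ne_top, Submodule.mem_bot] at this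
    exact hf (IsLocalization.injective (Localization.AtPrime (p : Ideal R))
      ((p : Ideal R).primeCompl_le_nonZeroDivisors) (this.trans (map_zero _).symm))
  choose k hk using hk
  have hnle : ¬ (maximalIdeal R ^ N * ∏ p ∈ Finset.univ.filter (fun p : Z => (p : Ideal R) ≠ q), (p : Ideal R) ^ k p) ≤ q := by
    intro h
    rcases (inferInstance : q.IsPrime).mul_le.1 h with h | h
    · have hqm : q = maximalIdeal R := le_antisymm (IsLocalRing.le_maximalIdeal (inferInstance : q.IsPrime).ne_top)
        ((inferInstance : q.IsPrime).le_of_pow_le h)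
      have h2 := IsLocalRing.maximalIdeal_height_eq_ringKrullDim (R := R)
      rw [← hqm, height_eq_one hf hq, hdim] at h2
      exact absurd (WithBot.coe_injective h2) (by decide)
    · obtain ⟨p, hp, hle⟩ := (inferInstance : q.IsPrime).prod_le.1 h
      have hle' := (inferInstance : q.IsPrime).le_of_pow_le hle
      exact (Finset.mem_filter.1 hp).2 (le_antisymm hle' (hq.2 p.2.1 hle'))
  obtain ⟨h2, hh2, hh2q⟩ := SetLike.not_le_iff_exists.1 hnle
  haveI := isDVR_of_minimal hf hq
  have hqsq : ¬ q ≤ sPow q 2 := not_le_sPow_two q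
  obtain ⟨h1, hh1, hh1q⟩ := SetLike.not_le_iff_exists.1 hqsq
  let h := h1 * h2
  have hhN : h ∈ maximalIdeal R ^ N := Ideal.mul_mem_left _ _ (Ideal.mul_le_left hh2)
  have hhp : ∀ p : Z, (p : Ideal R) ≠ q → h ∈ (p : Ideal R) ^ k p := fun p hp => Ideal.mul_mem_left _ _
    (Finset.inf_le (f := fun p : Z => (p : Ideal R) ^ k p) (Finset.mem_filter.2 ⟨Finset.mem_univ _, hp⟩)
      (Ideal.prod_le_inf (Ideal.mul_le_right hh2)))
  have hhq : h ∉ sPow q 2 := fun hc => hh1q (mem_sPow_of_mul q hh2q hc)
  let f' := f + h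
  have hf'b : f' ∉ maximalIdeal R ^ b := fun hc => hb (by
    have := sub_mem hc (Ideal.pow_le_pow_right (le_max_right (a + 1) b) hhN)
    rwa [add_sub_cancel_right] at this)
  have hf'0 : f' ≠ 0 := fun e => hf'b (e ▸ zero_mem _)
  have hhm : h ∈ maximalIdeal R :=
    Ideal.pow_le_self (show N ≠ 0 by have := le_max_left (a + 1) b; omega) hhN
  have hmem : ∀ p : Z, f' ∈ (p : Ideal R) := fun p => by
    refine add_mem (p.2.1.2 (Ideal.mem_span_singleton_self f)) ?_
    by_cases hpq : (p : Ideal R) = q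
    · rw [hpq]; exact Ideal.mul_mem_right _ _ hh1
    · refine Ideal.pow_le_self ?_ (hhp p hpq)
      intro e
      exact hk p (by rw [e, pow_zero, Ideal.one_eq_top]; trivial)
  have hss : Z ⊆ (Ideal.span {f'}).minimalPrimes := fun p hp => by
    haveI := hp.1.1
    exact mem_minimalPrimes hf'0 (height_eq_one hf hp).le (hmem ⟨p, hp⟩)
  have hf'q : f' ∉ sPow q 2 := fun hc => hhq (by
    have := sub_mem hc hqbad
    rwa [add_sub_cancel_left] at this)
  refine K f' hf'0 (add_mem hfm hhm) hss ?_ ?_
  · intro heq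
    have hdvd : f' ∣ f := dvd_of_forall_local fun p _ hp => by
      have hpm : p ∈ Z := by
        show p ∈ (Ideal.span {f}).minimalPrimes
        rw [heq]; exact mem_minimalPrimes_of_ass hf'0 hp
      haveI := isDVR_of_minimal hf hpm
      have hf'max := mem_maximalIdeal_of_mem p (hmem ⟨p, hpm⟩)
      have hfmax := mem_maximalIdeal_of_mem p (hpm.1.2 (Ideal.mem_span_singleton_self f))
      by_cases hpq : p = q
      · subst hpq
        obtain ⟨π, hπ⟩ := IsDiscreteValuationRing.exists_irreducible (Localization.AtPrime p)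
        have hmax := hπ.maximalIdeal_eq
        rw [hmax, Ideal.mem_span_singleton] at hf'max hfmax
        obtain ⟨y, hy⟩ := hf'max
        have hyu : IsUnit y := by
          by_contra hyu
          refine hf'q ?_
          show algebraMap R (Localization.AtPrime p) f' ∈ maximalIdeal (Localization.AtPrime p) ^ 2
          rw [hy, pow_two]
          exact Ideal.mul_mem_mul (hmax ▸ Ideal.mem_span_singleton_self π) hyu
        rw [hy]
        exact hyu.mul_right_dvd.2 hfmax
      · have hhk : algebraMap R (Localization.AtPrime p) h ∈ maximalIdeal _ ^ k ⟨p, hpm⟩ := by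
          rw [← map_eq_max, ← Ideal.map_pow]; exact Ideal.mem_map_of_mem _ (hhp ⟨p, hpm⟩ hpq)
        have hkp := hk ⟨p, hpm⟩
        rcases ValuationRing.dvd_total (algebraMap R (Localization.AtPrime p) f) (algebraMap R _ h) with ⟨y, hy⟩ | ⟨y, hy⟩
        · have hym : y ∈ maximalIdeal (Localization.AtPrime p) := by
            intro hu
            exact hkp ((Ideal.mul_unit_mem_iff_mem _ hu).1 (hy ▸ hhk))
          have hu : IsUnit (1 + y) := by
            have := isUnit_one_sub_self_of_mem_nonunits (-y) (neg_mem hym : -y ∈ maximalIdeal _)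
            rwa [sub_neg_eq_add] at this
          rw [map_add, hy, ← mul_one_add]
          exact hu.mul_right_dvd.2 dvd_rfl
        · exact absurd (hy ▸ Ideal.mul_mem_right _ _ hhk) hkp
    obtain ⟨u, hu⟩ := hdvd
    have humax : u ∈ maximalIdeal R := by
      intro hunit
      refine hf'q ((Ideal.mul_unit_mem_iff_mem _ hunit).1 ?_)
      rw [← hu]; exact hqbad
    have hunit : IsUnit (1 - u) := isUnit_one_sub_self_of_mem_nonunits u humax
    have : f' * (1 - u) = h := by rw [mul_one_sub, ← hu]; exact add_sub_cancel_left f h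
    exact hf'b ((Ideal.mul_unit_mem_iff_mem _ hunit).1 (this ▸ Ideal.pow_le_pow_right (le_max_right _ _) hhN))
  · have hin : h ∈ maximalIdeal R * Ideal.span {f, g} := by
      refine Ideal.mul_mono_right ha ?_
      rw [← pow_succ']
      exact Ideal.pow_le_pow_right (le_max_left _ _) hhN
    rw [Ideal.span_insert, Ideal.mul_sup, Submodule.mem_sup] at hin
    obtain ⟨x, hx, y, hy, hxy⟩ := hin
    obtain ⟨α, hα, rfl⟩ := Ideal.mem_mul_span_singleton.1 hx
    obtain ⟨β, -, rfl⟩ := Ideal.mem_mul_span_singleton.1 hy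
    have hu : IsUnit (1 + α) := by
      have := isUnit_one_sub_self_of_mem_nonunits (-α) (neg_mem hα : -α ∈ maximalIdeal _)
      rwa [sub_neg_eq_add] at this
    have e : f' = f * (1 + α) + β * g := by show f + h = _; rw [← hxy]; ring
    refine le_antisymm (Ideal.span_le.2 ?_) (Ideal.span_le.2 ?_)
    · rintro z (rfl | rfl)
      · exact Ideal.mem_span_pair.2 ⟨1 + α, β, by rw [e]; ring⟩
      · exact Ideal.subset_span (Or.inr rfl)
    · rintro z (rfl | rfl)
      · refine (Ideal.mul_unit_mem_iff_mem _ hu).1 (Ideal.mem_span_pair.2 ⟨1, -β, by rw [e]; ring⟩)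
      · exact Ideal.subset_span (Or.inr rfl)

set_option maxHeartbeats 800000 in
theorem exists_good [IsLocalRing R] (hdim : ringKrullDim R = 2) (g : R) (hg : g ∈ maximalIdeal R)
    (B : ℕ) : ∀ (k : ℕ) (f : R), f ≠ 0 → f ∈ maximalIdeal R → B - (Ideal.span {f}).minimalPrimes.ncard ≤ k →
    maximalIdeal R ≤ (Ideal.span {f, g}).radical → Module.length R (R ⧸ Ideal.span {f, g}) = B →
    ∃ f' : R, f' ≠ 0 ∧ (Ideal.span {f}).minimalPrimes ⊆ (Ideal.span {f'}).minimalPrimes ∧
      IsReduced (R ⧸ Ideal.span {f'}) := by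
  have hbound : ∀ f : R, f ≠ 0 → f ∈ maximalIdeal R → maximalIdeal R ≤ (Ideal.span {f, g}).radical →
      Module.length R (R ⧸ Ideal.span {f, g}) = B → (Ideal.span {f}).minimalPrimes.ncard ≤ B := by
    intro f hf hfm hsop hlen
    let J := Ideal.span {f}
    haveI : Nontrivial (R ⧸ J) := Ideal.Quotient.nontrivial_iff.2
      (ne_top_of_le_ne_top (maximalIdeal.isMaximal R).ne_top ((Ideal.span_singleton_le_iff_mem _).2 hfm))
    haveI : IsLocalRing (R ⧸ J) := IsLocalRing.of_surjective' (Ideal.Quotient.mk J) Ideal.Quotient.mk_surjective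
    have hle1 : ringKrullDim (R ⧸ J) ≤ (1 : ℕ) := by
      have := ringKrullDim_quotient_succ_le_of_nonZeroDivisor (mem_nonZeroDivisors_of_ne_zero hf)
      rw [hdim] at this
      rcases hq : ringKrullDim (R ⧸ J) with _ | a
      · exact bot_le
      · rw [hq] at this
        have h2 : a + 1 ≤ (2 : ℕ) := WithBot.coe_le_coe.1 this
        refine WithBot.coe_le_coe.2 ?_
        rcases a with _ | a
        · exact absurd (top_le_iff.1 h2) (ENat.natCast_ne_top 2)
        · have : a + 1 ≤ 2 := ENat.coe_le_coe.1 h2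
          exact ENat.coe_le_coe.2 (by omega)
    have hge : ∀ p ∈ J.minimalPrimes, (1 : ℕ) ≤ ringKrullDim (R ⧸ p) := by
      intro p hp
      haveI := hp.1.1
      by_contra hlt
      rw [not_le] at hlt
      have h0 : ringKrullDim (R ⧸ p) ≤ 0 := by
        rcases hq : ringKrullDim (R ⧸ p) with _ | a
        · exact bot_le
        · rw [hq] at hlt
          exact WithBot.coe_le_coe.2 (ENat.lt_one_iff_eq_zero.1 (WithBot.coe_lt_coe.1 hlt)).le
      have hmax := (Groth.L06.SupportDim.le_zero_iff_forall_isMaximal p).1 h0 p inferInstance le_rfl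
      have h1 := height_eq_one hf hp
      rw [IsLocalRing.eq_maximalIdeal hmax] at h1
      have h2 := (IsLocalRing.maximalIdeal_height_eq_ringKrullDim (R := R))
      rw [h1, hdim] at h2
      exact absurd (WithBot.coe_injective h2) (by decide)
    have hquot : ∀ P : Ideal (R ⧸ J), ringKrullDim (R ⧸ P.comap (Ideal.Quotient.mk J)) = ringKrullDim ((R ⧸ J) ⧸ P) := fun P =>
      ringKrullDim_eq_of_ringEquiv (RingEquiv.ofBijective (Ideal.quotientMap P (Ideal.Quotient.mk J) le_rfl)
        ⟨Ideal.quotientMap_injective, Ideal.quotientMap_surjective Ideal.Quotient.mk_surjective⟩)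
    have hd1 : ringKrullDim (R ⧸ J) = (1 : ℕ) := by
      refine le_antisymm hle1 ?_
      obtain ⟨p, hp⟩ := J.nonempty_minimalPrimes (ne_top_of_le_ne_top (maximalIdeal.isMaximal R).ne_top
        ((Ideal.span_singleton_le_iff_mem _).2 hfm))
      exact (hge p hp).trans (ringKrullDim_le_of_surjective (Ideal.Quotient.factor hp.1.2)
        (Ideal.Quotient.factor_surjective hp.1.2))
    haveI : IsLocalHom (Ideal.Quotient.mk J) := IsLocalHom.of_surjective (Ideal.Quotient.mk J) Ideal.Quotient.mk_surjective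
    have hbase := Groth.Agent.S7117.result (R ⧸ J) 1 hd1 (fun _ => Ideal.Quotient.mk J g)
      (fun _ => (mem_maximalIdeal _).2 fun hu => (mem_maximalIdeal _).1 hg ((isUnit_map_iff (Ideal.Quotient.mk J) g).1
        (by exact hu) : IsUnit g))
      (by
        intro z hz
        obtain ⟨x, rfl⟩ := Ideal.Quotient.mk_surjective z
        obtain ⟨n, hn⟩ := hsop ((mem_maximalIdeal x).2 fun hu => (mem_maximalIdeal _).1 hz (hu.map _))
        refine ⟨n, ?_⟩
        rw [← map_pow, Set.range_const]
        obtain ⟨a, b, hab⟩ := Ideal.mem_span_pair.1 hn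
        rw [← hab, map_add, map_mul, map_mul, Ideal.Quotient.eq_zero_iff_mem.2 (Ideal.mem_span_singleton_self f), mul_zero, zero_add]
        exact Ideal.mul_mem_left _ _ (Ideal.mem_span_singleton_self _))
    rw [Set.range_const] at hbase
    have hlen' : Module.length (R ⧸ J) ((R ⧸ J) ⧸ Ideal.span {Ideal.Quotient.mk J g}) = B := by
      rw [← hlen, ← Module.length_eq_of_surjective (S := R) (Ideal.Quotient.mk_surjective (I := J))]
      refine LinearEquiv.length_eq (((Ideal.quotientEquivAlgOfEq R (by rw [Ideal.map_span, Set.image_singleton]; rfl)).trans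
        (DoubleQuot.quotQuotEquivQuotSupₐ R J (Ideal.span {g}))).trans
          (Ideal.quotientEquivAlgOfEq R (show J ⊔ Ideal.span {g} = Ideal.span {f, g} by rw [Ideal.span_insert]))).toLinearEquiv
    rw [hlen'] at hbase
    have hfin : {P : Ideal (R ⧸ J) | P ∈ minimalPrimes (R ⧸ J) ∧ ringKrullDim ((R ⧸ J) ⧸ P) = (1 : ℕ)}.Finite :=
      (minimalPrimes.finite_of_isNoetherianRing _).subset fun _ h => h.1
    refine Nat.cast_le.1 (le_trans (Nat.cast_le.2 ?_) hbase)
    refine (Set.ncard_le_ncard ?_ (hfin.image (Ideal.comap (Ideal.Quotient.mk J)))).trans (Set.ncard_image_le hfin)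
    intro p hp
    have hp' := hp
    rw [Ideal.minimalPrimes_eq_comap] at hp'
    obtain ⟨P, hP, rfl⟩ := hp'
    refine ⟨P, ⟨hP, le_antisymm ?_ ?_⟩, rfl⟩
    · exact (ringKrullDim_quotient_le P).trans hd1.le
    · exact (hge _ hp).trans (hquot P).le
  intro k
  induction k with
  | zero =>
    intro f hf hfm hk hsop hlen
    refine ⟨f, hf, subset_rfl, isReduced_quotient hf fun q _ hq hqbad => ?_⟩
    exact step hdim g f hf hfm hsop hq hqbad fun f' hf' hfm' hss hne hsame => by
      have h1 := hbound f' hf' hfm' (hsame ▸ hsop) (hsame ▸ hlen)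
      have h2 := Set.ncard_lt_ncard (hss.ssubset_of_ne hne) (Ideal.finite_minimalPrimes_of_isNoetherianRing R _)
      omega
  | succ k ih =>
    intro f hf hfm hk hsop hlen
    by_cases hall : ∀ (p : Ideal R) [p.IsPrime], p ∈ (Ideal.span {f}).minimalPrimes → f ∉ sPow p 2
    · exact ⟨f, hf, subset_rfl, isReduced_quotient hf hall⟩
    push Not at hall
    obtain ⟨q, hq', hq, hqbad⟩ := hall
    by_contra hno
    exact step hdim g f hf hfm hsop hq hqbad fun f' hf' hfm' hss hne hsame => by
      have h2 := Set.ncard_lt_ncard (hss.ssubset_of_ne hne) (Ideal.finite_minimalPrimes_of_isNoetherianRing R _)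
      obtain ⟨f'', h0, hs', hr⟩ := ih f' hf' hfm' (by omega) (hsame ▸ hsop) (hsame ▸ hlen)
      exact hno ⟨f'', h0, hss.trans hs', hr⟩

/-- Let R be a Noetherian normal local domain of Krull dimension 2 and let p_1, ..., p_r be finitely
many prime ideals of height one. Then there is a nonzero element f lying in all the p_i such that
R/fR is reduced. -/
theorem result (R : Type u) [CommRing R] [IsDomain R]
    [IsNoetherianRing R] [IsLocalRing R] [IsIntegrallyClosed R] (hdim : ringKrullDim R = 2)
    (s : Finset (Ideal R)) (hs : ∀ p ∈ s, p.IsPrime ∧ p.height = 1) :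
    ∃ f : R, f ≠ 0 ∧ (∀ p ∈ s, f ∈ p) ∧ IsReduced (R ⧸ Ideal.span {f}) := by
  classical
  have hm0 : IsLocalRing.maximalIdeal R ≠ ⊥ := by
    intro h
    have h2 := IsLocalRing.maximalIdeal_height_eq_ringKrullDim (R := R)
    rw [h, Ideal.height_bot, hdim] at h2
    exact absurd (WithBot.coe_injective h2) (by decide)
  obtain ⟨f0, hf0, hf00⟩ : ∃ f0 ∈ IsLocalRing.maximalIdeal R * ∏ p ∈ s, p, f0 ≠ 0 :=
    Submodule.exists_mem_ne_zero_of_ne_bot (mul_ne_zero hm0 (Finset.prod_ne_zero_iff.2 fun p hp =>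
      Ideal.ne_bot_of_height_eq_one (hs p hp).2))
  have hf0m : f0 ∈ IsLocalRing.maximalIdeal R := Ideal.mul_le_left hf0
  have hf0s : ∀ p ∈ s, f0 ∈ p := fun p hp =>
    Finset.inf_le (f := fun p => p) hp (Ideal.prod_le_inf (Ideal.mul_le_right hf0))
  have hZ := Ideal.finite_minimalPrimes_of_isNoetherianRing R (Ideal.span {f0})
  obtain ⟨g, hg, hgn⟩ : ∃ g ∈ IsLocalRing.maximalIdeal R, ∀ p ∈ (Ideal.span {f0}).minimalPrimes, g ∉ p := by
    by_contra hc
    push Not at hc
    have hsub : (IsLocalRing.maximalIdeal R : Set R) ⊆ ⋃ p ∈ ↑hZ.toFinset, ((id p : Ideal R) : Set R) := fun x hx => by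
      obtain ⟨p, hp, hxp⟩ := hc x hx
      exact Set.mem_biUnion (hZ.mem_toFinset.2 hp) hxp
    obtain ⟨p, hp, hle⟩ := (Ideal.subset_union_prime ⊥ ⊥ fun p hp _ _ => (hZ.mem_toFinset.1 hp).1.1).1 hsub
    have hp' := hZ.mem_toFinset.1 hp
    have h1 := height_eq_one hf00 hp'
    rw [show p = IsLocalRing.maximalIdeal R from ((IsLocalRing.maximalIdeal.isMaximal R).eq_of_le hp'.1.1.ne_top hle).symm] at h1
    have h2 := IsLocalRing.maximalIdeal_height_eq_ringKrullDim (R := R)
    rw [h1, hdim] at h2
    exact absurd (WithBot.coe_injective h2) (by decide)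
  have hsop : IsLocalRing.maximalIdeal R ≤ (Ideal.span {f0, g}).radical := by
    rw [Ideal.radical_eq_sInf]
    refine le_sInf ?_
    rintro J ⟨hle, hJ⟩
    by_contra hne
    have hlt : J < IsLocalRing.maximalIdeal R := lt_of_le_not_ge (IsLocalRing.le_maximalIdeal hJ.ne_top) hne
    have hJh : J.height ≤ 1 := by
      haveI := hJ
      have h1 := Ideal.height_strict_mono_of_isPrime hlt
      have h2 := IsLocalRing.maximalIdeal_height_eq_ringKrullDim (R := R)
      rw [hdim] at h2
      rw [show (IsLocalRing.maximalIdeal R).height = 2 from WithBot.coe_injective h2] at h1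
      exact ENat.lt_add_one_iff (by simp) |>.1 (by rw [one_add_one_eq_two]; exact h1)
    exact hgn J (mem_minimalPrimes hf00 hJh (hle (Ideal.subset_span (Or.inl rfl)))) (hle (Ideal.subset_span (Or.inr rfl)))
  have hlt : Module.length R (R ⧸ Ideal.span {f0, g}) ≠ ⊤ := by
    have h0 : ringKrullDim (R ⧸ Ideal.span {f0, g}) ≤ 0 :=
      (Groth.L06.SupportDim.le_zero_iff_forall_isMaximal _).2 fun p hp hle => by
        have : IsLocalRing.maximalIdeal R ≤ p := hsop.trans ((Ideal.radical_mono hle).trans hp.radical.le)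
        exact (IsLocalRing.maximalIdeal.isMaximal R).eq_of_le hp.ne_top this ▸ IsLocalRing.maximalIdeal.isMaximal R
    have := Groth.L06.HilbertSamuel.length_ne_top _ R h0 1
    rwa [pow_one, smul_eq_mul, Ideal.mul_top] at this
  obtain ⟨B, hB⟩ := ENat.ne_top_iff_exists.1 hlt
  obtain ⟨f, hf, hsub, hred⟩ := exists_good hdim g hg B _ f0 hf00 hf0m le_rfl hsop hB.symm
  refine ⟨f, hf, fun p hp => ?_, hred⟩
  haveI := (hs p hp).1
  exact (hsub (mem_minimalPrimes hf00 (hs p hp).2.le (hf0s p hp))).1.2 (Ideal.mem_span_singleton_self f)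

end Groth.Agent.S7119
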