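import Groth.Statements.S2959
import Groth.Agent.L14.Splitting.General

set_option autoImplicit false
set_option backward.isDefEq.respectTransparency.types false
set_option linter.style.haveILetI false
open CategoryTheory MonoidalCategory CartesianMonoidalCategory MonObj GrpObj AlgebraicGeometry
universe u
open RedX

namespace Groth.Agent.S2959

/-- In the case S = Spec A of a local ring (a connected scheme with trivial Picard group; in particular
a field): let G be a reductive group over A and i : T -> G a maximal torus which is split, T = D(M).
Then G admits a splitting whose maximal torus is T (with its inclusion i). -/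
theorem result (A : Type u) [CommRing A] [IsLocalRing A]
    (G T : Over (Spec (CommRingCat.of A))) [GrpObj G] [GrpObj T] (hG : Red.IsReductive G) (i : T ⟶ G)
    (hT : Red.IsMaximalTorus i) (M : Type) [AddCommGroup M] [Module.Finite ℤ M] [Module.Free ℤ M]
    (hsplit : Red.IsSplitTorusWith M T) :
    ∃ D : Red.SplitRed G, D.T = T ∧ HEq D.i i := by
  obtain ⟨e⟩ := hsplit
  let b := (Module.finBasis ℤ M).equivFun.toAddEquiv
  obtain ⟨R⟩ := Groth.L14.Splitting.exists_rootData_local hG i hT
    (e ≪≫ Groth.L25.TorLift.dsCongr (Spec (CommRingCat.of A)) b)
  exact ⟨R.splitRed (fun _ => trivial) hG hT, rfl, HEq.rfl⟩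

end Groth.Agent.S2959
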