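import Groth.Statements.S4484
import Groth.Agent.L16.Connected.StalkClosure
import Groth.Agent.L16.Connected.CountPrimes
import Groth.Agent.L06.Unibranch
import Mathlib.FieldTheory.AlgebraicClosure

set_option autoImplicit false
universe u
open Coherent

namespace Groth.Agent.S4484

open AlgebraicGeometry CategoryTheory in
/-- Let X and Y be locally Noetherian integral schemes and f : X → Y a proper dominant morphism; regard
the function field R(X) as an extension of R(Y) through f. Suppose that the algebraic closure of
R(Y) in R(X) has finite separable degree n over R(Y). Then for every point y of Y whose local ring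
is unibranch, the fibre X_y has finitely many, and at most n, connected components. -/
theorem result {X Y : Scheme.{u}} [IsIntegral X]
    [IsIntegral Y] [IsLocallyNoetherian X] [IsLocallyNoetherian Y] (f : X ⟶ Y) [IsProper f]
    (hdom : f.base (genericPoint X) ⤳ genericPoint Y) [Algebra Y.functionField X.functionField]
    (halg : algebraMap Y.functionField X.functionField = CohIII.stalkToFunctionField f (genericPoint Y) hdom)
    (n : ℕ) (hn0 : 0 < n)
    (hn : Field.finSepDegree Y.functionField ↥(algebraicClosure Y.functionField X.functionField) = n)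
    (y : Y) (hy : CAlg2.IsUnibranch (Y.presheaf.stalk y)) :
    Finite (_root_.ConnectedComponents ↥(f.fiber y)) ∧
      Nat.card (_root_.ConnectedComponents ↥(f.fiber y)) ≤ n := by
  have hgy : genericPoint Y ⤳ y := genericPoint_specializes y
  have h : f.base (genericPoint X) ⤳ y := hdom.trans hgy
  let O := Y.presheaf.stalk y
  let K := Y.functionField
  let L := X.functionField
  letI : Algebra O K := (Y.presheaf.stalkSpecializes hgy).hom.toAlgebra
  haveI : IsFractionRing O K := inferInstance
  let N := integralClosure O K
  haveI : IsIntegrallyClosed N := integralClosure.isIntegrallyClosedOfFiniteExtension K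
  haveI : IsFractionRing N K := IsIntegralClosure.isFractionRing_of_finite_extension O K K N
  have hO : Function.Injective (algebraMap O K) := IsFractionRing.injective O K
  obtain ⟨-, e, -⟩ := Groth.L06.Unibranch.exists_normRed_equiv (S := O) (N := N) (algebraMap O N)
    (fun x => Algebra.IsIntegral.isIntegral (R := O) x)
    (by rw [(RingHom.injective_iff_ker_eq_bot _).1 (fun a b hab => hO (congrArg Subtype.val hab))]; exact bot_le)
    (fun x => by
      obtain ⟨a, b, hb, hab⟩ := IsFractionRing.div_surjective (A := O) x.1
      refine ⟨b, a, fun h0 => nonZeroDivisors.ne_zero hb (hO ((congrArg Subtype.val h0).trans (map_zero _).symm)),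
        Subtype.ext ?_⟩
      show algebraMap O K b * x.1 = algebraMap O K a
      rw [← hab, mul_div_cancel₀]
      exact fun h0 => nonZeroDivisors.ne_zero hb (hO (h0.trans (map_zero _).symm)))
  haveI := hy.2
  haveI : IsLocalRing N := e.isLocalRing
  have hθ : ∀ o : O, algebraMap K L (algebraMap O K o) = CohIII.stalkToFunctionField f y h o := fun o => by
    rw [halg]
    show f.stalkMap (genericPoint X) (Y.presheaf.stalkSpecializes hdom (Y.presheaf.stalkSpecializes hgy o)) = _
    rw [← ConcreteCategory.comp_apply, ← ConcreteCategory.comp_apply, TopCat.Presheaf.stalkSpecializes_comp_assoc]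
    rfl
  letI : Algebra O L := (CohIII.stalkToFunctionField f y h).toAlgebra
  haveI : IsScalarTower O K L := IsScalarTower.of_algebraMap_eq fun o => (hθ o).symm
  haveI : IsScalarTower O N L := IsScalarTower.of_algebraMap_eq fun o => (hθ o).symm
  let E := algebraicClosure K L
  let C := CohIII.integralClosureStalk f y h
  let C' := integralClosure N E
  have hmem : ∀ c : C, c.1 ∈ E := fun c =>
    mem_algebraicClosure_iff.2 ((show IsIntegral O c.1 from c.2).tower_top (A := K)).isAlgebraic
  let ψ : C →+* E := (C.subtype).codRestrict E.toSubalgebra hmem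
  have hint : ∀ c : C, ψ c ∈ C' := fun c => by
    refine (isIntegral_algHom_iff (E.val.restrictScalars N) Subtype.val_injective).1 ?_
    exact (show IsIntegral O c.1 from c.2).tower_top (A := N)
  let ψ' : C →+* C' := ψ.codRestrict C' hint
  have hbij : Function.Bijective ψ' := by
    refine ⟨fun a b hab => Subtype.ext (congrArg (fun z : C' => (z.1 : L)) hab), fun z => ?_⟩
    refine ⟨⟨z.1.1, ?_⟩, rfl⟩
    show IsIntegral O (z.1.1 : L)
    exact isIntegral_trans (R := O) (A := N) (z.1.1 : L)
      ((show IsIntegral N z.1 from z.2).map (E.val.restrictScalars N))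
  let eC := RingEquiv.ofBijective ψ' hbij
  have hfin : Finite (Field.Emb K E) := Nat.finite_of_card_ne_zero (by
    show Field.finSepDegree K E ≠ 0
    rw [hn]
    exact hn0.ne')
  obtain ⟨φ, hφ⟩ := Groth.L16.Connected.exists_surjective_of_emb N (K := K) (E := E)
  haveI : Finite (MaximalSpectrum C') := Finite.of_surjective φ hφ
  obtain ⟨χ, hχ⟩ := Groth.L16.Connected.exists_injective_to_maximalSpectrum f y h
  let T : MaximalSpectrum C → MaximalSpectrum C' := fun Q =>
    ⟨Q.asIdeal.comap eC.symm.toRingHom,
      haveI := Q.isMaximal
      Ideal.comap_isMaximal_of_surjective _ eC.symm.surjective⟩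
  have hT : Function.Injective T := fun Q Q' e => MaximalSpectrum.ext
    (Ideal.comap_injective_of_surjective _ eC.symm.surjective (congrArg MaximalSpectrum.asIdeal e))
  refine ⟨Finite.of_injective _ (hT.comp hχ), ?_⟩
  rw [← hn]
  exact (Nat.card_le_card_of_injective _ (hT.comp hχ)).trans (Nat.card_le_card_of_surjective φ hφ)
end Groth.Agent.S4484
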