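import Groth.Statements.S11156
import Groth.Agent.L29.DCoh.ExtZero
import Groth.Agent.L10.Baer
import Groth.Agent.L10.SheafModGroth
import Groth.Agent.L16.ProjSpace.Twist
set_option linter.style.haveILetI false
set_option backward.isDefEq.respectTransparency false
set_option backward.isDefEq.respectTransparency.types false

set_option autoImplicit false
universe u
open CategoryTheory CategoryTheory.Limits AlgebraicGeometry
open Coherent

namespace Groth.Agent.S11156

/-- Let X be a scheme and F an O_X-module. If every point of X has an open neighbourhood U such that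
F|_U is an injective object of the category of O_U-modules, then F is an injective object of the
category of O_X-modules. -/
theorem result {X : Scheme.{u}} (F : X.Modules)
    (hF : ∀ x : X, ∃ U : X.Opens, x ∈ U ∧ Injective ((Scheme.Modules.restrictFunctor U.ι).obj F)) :
    Injective F := by
  haveI : IsGrothendieckAbelian.{u} X.Modules := Groth.L10.shMod_isGrothendieckAbelian X.ringCatSheaf
  choose U hxU hU using hF
  let Ix := Σ x : X, {V : X.Opens // V ≤ U x}
  let G : Ix → X.Modules := fun k => CxOX.extZeroUnit k.2.1.ι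
  have hsep : ObjectProperty.IsSeparating (.ofObj G) := by
    intro M N g₁ g₂ hg
    rw [← sub_eq_zero]
    apply Scheme.Modules.hom_ext
    intro W
    ext s
    refine TopCat.Sheaf.eq_of_locally_eq' ⟨N.presheaf, N.isSheaf⟩
      (fun x : X => W ⊓ U x) W (fun x => homOfLE inf_le_left) ?_ _ _ fun x => ?_
    · exact fun y hy => TopologicalSpace.Opens.mem_iSup.2 ⟨y, hy, hxU y⟩
    let V : X.Opens := W ⊓ U x
    let k : Ix := ⟨x, V, inf_le_right⟩
    let hle : V.ι ''ᵁ ⊤ ≤ W := V.ι_image_top.le.trans inf_le_left
    let s' : Γ(M, V.ι ''ᵁ ⊤) := M.presheaf.map (homOfLE hle).op s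
    have h1 : ((CxOX.extZeroAdj V.ι).homEquiv _ M).symm (Groth.L16.homOfSection (M.restrict V.ι) s') ≫ (g₁ - g₂) = 0 := by
      rw [Preadditive.comp_sub, sub_eq_zero]
      exact hg (G k) ⟨k⟩ _
    have h2 : Groth.L16.homOfSection (M.restrict V.ι) s' ≫ (Scheme.Modules.restrictFunctor V.ι).map (g₁ - g₂) = 0 := by
      have := congrArg ((CxOX.extZeroAdj V.ι).homEquiv _ N) h1
      rw [Adjunction.homEquiv_naturality_right, Equiv.apply_symm_apply] at this
      refine this.trans ?_
      rw [Adjunction.homEquiv_unit, Functor.map_zero, Limits.comp_zero]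
    have h3 := congrArg (fun k : Coh.structureModule (V : Scheme.{u}) ⟶ N.restrict V.ι =>
      k.app ⊤ (1 : Γ((V : Scheme.{u}), ⊤))) h2
    have h4 : (g₁ - g₂).app (V.ι ''ᵁ ⊤) s' = 0 := by
      have e : (Groth.L16.homOfSection (M.restrict V.ι) s').app ⊤ (1 : Γ((V : Scheme.{u}), ⊤)) = s' := by
        rw [Groth.L16.homOfSection_app, one_smul]
        exact congrArg (fun f => (ConcreteCategory.hom f) s') ((M.restrict V.ι).presheaf.map_id _)
      exact (congrArg ((g₁ - g₂).app (V.ι ''ᵁ ⊤)) e).symm.trans h3
    have hnat := ConcreteCategory.congr_hom ((g₁ - g₂).mapPresheaf.naturality (homOfLE hle).op) s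
    have hinj : Function.Injective (N.presheaf.map (homOfLE V.ι_image_top.le).op) := by
      intro a b hab
      have := congrArg (N.presheaf.map (homOfLE V.ι_image_top.ge).op) hab
      rw [← ConcreteCategory.comp_apply, ← ConcreteCategory.comp_apply, ← Functor.map_comp] at this
      exact ((congrArg (fun f => (ConcreteCategory.hom f) a) (N.presheaf.map_id _)).symm.trans this).trans
        (congrArg (fun f => (ConcreteCategory.hom f) b) (N.presheaf.map_id _))
    refine hinj ?_
    refine Eq.trans ?_ (((map_zero (N.presheaf.map (homOfLE hle).op).hom).trans ?_))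
    · refine Eq.trans ?_ ((hnat.symm.trans h4).trans (map_zero (N.presheaf.map (homOfLE hle).op).hom).symm)
      exact (ConcreteCategory.congr_hom (N.presheaf.map_comp (homOfLE inf_le_left).op
        (homOfLE V.ι_image_top.le).op) ((g₁ - g₂).app W s)).symm
    · exact (((congrArg _ (map_zero _)).trans (map_zero (N.presheaf.map (homOfLE V.ι_image_top.le).op).hom))).symm
  refine Groth.L10.Baer.injective_of_baer G hsep F fun k S i _ φ => ?_
  let j := (U k.1).ι
  let adj := CxOX.extZeroAdj j
  haveI : IsIso adj.unit := Groth.L29.DC.ExtZero.isIso_unit j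
  have hε : ∀ M : X.Modules, (∀ x, x ∉ Set.range j.base → IsZero ((Groth.L00.Stk.F X x).obj M)) →
      IsIso (adj.counit.app M) := fun M hM => by
    haveI : IsIso ((Groth.L29.DC.ExtZero.res j).map (adj.counit.app M)) := by
      have h := adj.right_triangle_components M
      exact (isIso_comp_left_iff (adj.unit.app _) _).1 (h ▸ inferInstance)
    exact Groth.L29.DC.ExtZero.isIso_of j _ (fun x hx => Groth.L29.DC.ExtZero.isZero_stalk j hx _) hM
  have hG : ∀ x, x ∉ Set.range j.base → IsZero ((Groth.L00.Stk.F X x).obj (G k)) := fun x hx =>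
    Groth.L29.DC.ExtZero.isZero_stalk k.2.1.ι (fun h => hx (by
      rw [Scheme.Opens.range_ι] at h ⊢
      exact k.2.2 h)) _
  haveI := hε _ hG
  haveI := hε S fun x hx => (hG x hx).of_mono ((Groth.L00.Stk.F X x).map i)
  haveI := hU k.1
  let χ := Injective.factorThru ((Groth.L29.DC.ExtZero.res j).map φ) ((Groth.L29.DC.ExtZero.res j).map i)
  refine ⟨inv (adj.counit.app (G k)) ≫ (adj.homEquiv _ _).symm χ, ?_⟩
  rw [← cancel_epi (adj.counit.app S), ← adj.counit_naturality_assoc i, IsIso.hom_inv_id_assoc,
    ← Adjunction.homEquiv_naturality_left_symm, Injective.comp_factorThru, Adjunction.homEquiv_counit,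
    adj.counit_naturality]

end Groth.Agent.S11156
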