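import Groth.Statements.S9837
import Groth.Agent.L18.LocFreeFP
import Groth.Agent.L07.RefExtend.Stalk
import Groth.Agent.L03.ShStab.TrivialGG
import Groth.Agent.L16.CohSupport
import Groth.Agent.L00.PullStalk
import Groth.Agent.L14.Quot.Lift
import Groth.Agent.L20.ResDescent
import Groth.Agent.L00.LocalData

set_option autoImplicit false
open CategoryTheory CategoryTheory.Limits AlgebraicGeometry Opposite
universe u
open Desc

set_option backward.isDefEq.respectTransparency.types false
set_option linter.style.haveILetI false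
set_option backward.isDefEq.respectTransparency false

noncomputable section

namespace Groth.Agent.S9837
open scoped TensorProduct
open TopologicalSpace

/-- the stalks of a module of finite type are finite -/
theorem finite_stalk_of_isFT {X : Scheme.{u}} (P : X.Modules) (hP : CohB1.IsFT P) (x : X) :
    Module.Finite (X.presheaf.stalk x) (P.presheaf.stalk x) := by
  classical
  obtain ⟨U, σ, hxU, hσ⟩ := Groth.L00.Local.exists_generators_of_isFT P hP x
  haveI := hσ
  let π : FlatMod.freeMod (U : Scheme.{u}) (Nat.card σ.I) ⟶ P.restrict U.ι :=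
    (Groth.L18.LFP.freeIso _ σ.I).inv ≫ σ.π
  haveI : Epi σ.π := σ.epi
  haveI : Epi π := inferInstance
  let x' : (U : Scheme.{u}) := ⟨x, hxU⟩
  let e := Groth.L07.RefExtend.restrictStalkEquiv U.ι P x'
  let c := fun j => e ((P.restrict U.ι).presheaf.germ ⊤ x' trivial (π.app ⊤ (Groth.L03.ShStab.TrivialGG.unitVec _ j)))
  refine ⟨⟨Finset.univ.image c, top_le_iff.1 fun v _ => ?_⟩⟩
  have hv : e.symm v ∈ Submodule.span ((U : Scheme.{u}).presheaf.stalk x') (Set.range fun j =>
      (P.restrict U.ι).presheaf.germ ⊤ x' trivial (π.app ⊤ (Groth.L03.ShStab.TrivialGG.unitVec _ j))) :=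
    (Groth.L03.ShStab.TrivialGG.span_germs_of_epi π x').ge trivial
  obtain ⟨a, ha⟩ := (Submodule.mem_span_range_iff_exists_fun _).1 hv
  have key : v = ∑ j, (Groth.L07.RefExtend.stalkEquiv U.ι x').symm (a j) • c j := by
    refine (e.apply_symm_apply v).symm.trans ?_
    rw [← ha, map_sum]
    refine Finset.sum_congr rfl fun j _ => ?_
    obtain ⟨b, hb⟩ := (Groth.L07.RefExtend.stalkEquiv U.ι x').surjective (a j)
    rw [← hb, RingEquiv.symm_apply_apply]
    exact Groth.L07.RefExtend.restrictStalk_smul U.ι P x' b _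
  rw [key]
  exact Submodule.sum_mem _ fun j _ => Submodule.smul_mem _ _
    (Submodule.subset_span (Finset.mem_coe.2 (Finset.mem_image_of_mem c (Finset.mem_univ j))))

/-- sections generating a stalk give a map from a free module whose cokernel dies at the point -/
theorem exists_sections {Y : Scheme.{u}} (F : Y.Modules) (y : Y)
    (hfin : Module.Finite (Y.presheaf.stalk y) (F.presheaf.stalk y)) :
    ∃ (U : Y.Opens) (hy : y ∈ U) (n : ℕ) (π : FlatMod.freeMod (U : Scheme.{u}) n ⟶ F.restrict U.ι),
      Subsingleton ((cokernel π).presheaf.stalk (⟨y, hy⟩ : U)) := by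
  classical
  obtain ⟨n, g, hg⟩ := @Module.Finite.exists_fin _ _ _ _ _ hfin
  choose O hO s hs using fun j => TopCat.Presheaf.exists_germ_eq (F := F.presheaf) (g j)
  let U : Y.Opens := Finset.univ.inf O
  have hy : y ∈ U := by
    show y ∈ ((Finset.univ.inf O : Y.Opens) : Set Y)
    rw [Opens.coe_finset_inf, Finset.inf_set_eq_iInter]
    exact Set.mem_iInter₂.2 fun i _ => hO i
  have hU : ∀ j, U.ι ''ᵁ ⊤ ≤ O j := fun j =>
    (U.ι_image_le ⊤).trans (Finset.inf_le (Finset.mem_univ j))
  let t : Fin n → Γ(F.restrict U.ι, ⊤) := fun j => Groth.L18.Frame.rs F (hU j) (s j)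
  let π : FlatMod.freeMod (U : Scheme.{u}) n ⟶ F.restrict U.ι :=
    Sigma.desc fun i => Groth.L16.homOfSection (F.restrict U.ι) (t i)
  refine ⟨U, hy, n, π, ?_⟩
  let y' : (U : Scheme.{u}) := ⟨y, hy⟩
  let e : (F.restrict U.ι).presheaf.stalk y' ≃+ F.presheaf.stalk y := Groth.L07.RefExtend.restrictStalkEquiv U.ι F y'
  have het : ∀ j, e ((F.restrict U.ι).presheaf.germ ⊤ y' trivial (t j)) = g j := fun j => by
    refine (ConcreteCategory.congr_hom
      (Scheme.Modules.germ_restrictStalkNatIso_hom_app U.ι y' F (U := ⊤) trivial) _).trans ?_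
    exact (Groth.L20.ModStalk.germ_rs F (hU j) _ (s j)).trans (hs j)
  have hsurj : Function.Surjective (RefHull.stalkMapₗ π y') := by
    intro v
    have hv : e v ∈ Submodule.span (Y.presheaf.stalk y) (Set.range g) := hg.ge trivial
    obtain ⟨a, ha⟩ := (Submodule.mem_span_range_iff_exists_fun _).1 hv
    refine ⟨∑ j, Groth.L07.RefExtend.stalkEquiv U.ι y' (a j) •
      (FlatMod.freeMod (U : Scheme.{u}) n).presheaf.germ ⊤ y' trivial (Groth.L03.ShStab.TrivialGG.unitVec n j), ?_⟩
    refine e.injective ?_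
    rw [map_sum, map_sum, ← ha]
    refine Finset.sum_congr rfl fun j _ => ?_
    rw [map_smul, RefHull.stalkMapₗ_germ, Groth.L03.ShStab.TrivialGG.desc_unitVec]
    refine (Groth.L07.RefExtend.restrictStalk_smul U.ι F y' (a j) _).trans ?_
    exact congrArg (fun z : F.presheaf.stalk y => a j • z) (het j)
  refine ⟨fun p q => ?_⟩
  have h0 : ∀ w : (cokernel π).presheaf.stalk y', w = 0 := by
    intro w
    obtain ⟨v, rfl⟩ := (Groth.L21.Mod.epi_iff_stalk_surjective (cokernel.π π)).1 inferInstance y' w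
    obtain ⟨z, rfl⟩ := hsurj v
    have h := congr($(congrArg (Groth.L21.Mod.stalkF _ y').map (cokernel.condition π)) z)
    rw [Functor.map_comp, Functor.map_zero] at h
    exact h
  exact (h0 p).trans (h0 q).symm

end Groth.Agent.S9837

namespace Groth.Agent.S9837

/-- Let f : X ⟶ Y be a morphism of schemes which is flat and surjective and whose underlying map of
topological spaces is open, and let F be an arbitrary O_Y-module (not assumed quasi-coherent). If
the pullback f^*F is an O_X-module of finite type, then F is of finite type. (The published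
statement is for a morphism of locally ringed spaces; this row is its case of schemes.) -/
theorem result {X Y : Scheme.{u}} (f : X ⟶ Y) [Flat f] [Surjective f]
    (hf : IsOpenMap f.base) (F : Y.Modules)
    (h : SheafOfModules.IsFiniteType (R := X.ringCatSheaf) ((Scheme.Modules.pullback f).obj F)) :
    SheafOfModules.IsFiniteType (R := Y.ringCatSheaf) F := by
  classical
  refine Groth.L00.Local.isFT_of_generators F fun y => ?_
  obtain ⟨x, rfl⟩ := f.surjective y
  let P := (Scheme.Modules.pullback f).obj F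
  letI : Algebra (Y.presheaf.stalk (f x)) (X.presheaf.stalk x) := (f.stalkMap x).hom.toAlgebra
  haveI : IsLocalHom (algebraMap (Y.presheaf.stalk (f x)) (X.presheaf.stalk x)) :=
    inferInstanceAs (IsLocalHom (f.stalkMap x).hom)
  haveI : Module.Flat (Y.presheaf.stalk (f x)) (X.presheaf.stalk x) := Flat.stalkMap f x
  haveI : Module.FaithfullyFlat (Y.presheaf.stalk (f x)) (X.presheaf.stalk x) :=
    Module.FaithfullyFlat.of_flat_of_isLocalHom
  let e : P.presheaf.stalk x ≃ₗ[X.presheaf.stalk x]
      TensorProduct (Y.presheaf.stalk (f x)) (X.presheaf.stalk x) (F.presheaf.stalk (f x)) :=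
    ((Groth.L00.PullStalk.stalkIso f x).app F).toLinearEquiv
  haveI := Groth.Agent.S9837.finite_stalk_of_isFT P h x
  haveI := Module.Finite.equiv e
  have hfin : Module.Finite (Y.presheaf.stalk (f x)) (F.presheaf.stalk (f x)) :=
    Module.Finite.of_finite_tensorProduct_of_faithfullyFlat (X.presheaf.stalk x)
  obtain ⟨U, hyU, n, π, hC⟩ := Groth.Agent.S9837.exists_sections F (f x) hfin
  let f' := f ∣_ U
  have hPM : CohB1.IsFT ((Scheme.Modules.pullback f').obj (F.restrict U.ι)) := by
    refine Groth.L14.Quot.isFT_of_epi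
      ((Scheme.Modules.pullbackComp (f ⁻¹ᵁ U).ι f).app F ≪≫
        (Scheme.Modules.pullbackCongr (morphismRestrict_ι f U).symm).app F ≪≫
        ((Scheme.Modules.pullbackComp f' U.ι).app F).symm ≪≫
        (Scheme.Modules.pullback f').mapIso ((Scheme.Modules.restrictFunctorIsoPullback U.ι).app F).symm).hom ?_
    exact Groth.L20.ResDescent.isFT_pullback (f ⁻¹ᵁ U).ι P h
  haveI : (Scheme.Modules.pullback f').PreservesEpimorphisms :=
    Functor.preservesEpimorphisms_of_adjunction (Scheme.Modules.pullbackPushforwardAdjunction _)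
  have hPC : CohB1.IsFT ((Scheme.Modules.pullback f').obj (cokernel π)) :=
    Groth.L14.Quot.isFT_of_epi ((Scheme.Modules.pullback f').map (cokernel.π π)) hPM
  haveI : Flat f' := inferInstance
  have hff : ∀ z : (f ⁻¹ᵁ U : Scheme.{u}), Subsingleton (((Scheme.Modules.pullback f').obj (cokernel π)).presheaf.stalk z) ↔
      Subsingleton ((cokernel π).presheaf.stalk (f' z)) := by
    intro z
    letI : Algebra ((U : Scheme.{u}).presheaf.stalk (f' z)) ((f ⁻¹ᵁ U : Scheme.{u}).presheaf.stalk z) :=
      (f'.stalkMap z).hom.toAlgebra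
    haveI : IsLocalHom (algebraMap ((U : Scheme.{u}).presheaf.stalk (f' z)) ((f ⁻¹ᵁ U : Scheme.{u}).presheaf.stalk z)) :=
      inferInstanceAs (IsLocalHom (f'.stalkMap z).hom)
    haveI : Module.Flat ((U : Scheme.{u}).presheaf.stalk (f' z)) ((f ⁻¹ᵁ U : Scheme.{u}).presheaf.stalk z) :=
      Flat.stalkMap f' z
    haveI : Module.FaithfullyFlat ((U : Scheme.{u}).presheaf.stalk (f' z)) ((f ⁻¹ᵁ U : Scheme.{u}).presheaf.stalk z) :=
      Module.FaithfullyFlat.of_flat_of_isLocalHom
    exact (((Groth.L00.PullStalk.stalkIso f' z).app (cokernel π)).toLinearEquiv.toEquiv.subsingleton_congr).trans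
      (Module.FaithfullyFlat.subsingleton_tensorProduct_iff_right ((U : Scheme.{u}).presheaf.stalk (f' z))
        ((f ⁻¹ᵁ U : Scheme.{u}).presheaf.stalk z))
  let V : Set (f ⁻¹ᵁ U : Scheme.{u}) := (CohB1.support ((Scheme.Modules.pullback f').obj (cokernel π)))ᶜ
  have hV : IsOpen V := (Groth.L16.CohSupport.isClosed_support _ hPC).isOpen_compl
  have hfo : IsOpenMap f'.base := by
    rw [morphismRestrict_base]
    exact hf.restrictPreimage _
  let W₀ : (U : Scheme.{u}).Opens := ⟨f' '' V, hfo V hV⟩
  let x₀ : (f ⁻¹ᵁ U : Scheme.{u}) := ⟨x, hyU⟩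
  have hx₀ : f' x₀ = (⟨f x, hyU⟩ : U) := Subtype.ext (morphismRestrict_base_coe f U x₀)
  have hW₀ : ∀ w : (U : Scheme.{u}), w ∈ W₀ → Subsingleton ((cokernel π).presheaf.stalk w) := by
    rintro _ ⟨z, hz, rfl⟩
    exact (hff z).1 (not_not.1 hz)
  have hy₀ : (⟨f x, hyU⟩ : U) ∈ W₀ := ⟨x₀, fun hz => hz ((hff x₀).2 (by rw [hx₀]; exact hC)), hx₀⟩
  let W : Y.Opens := U.ι ''ᵁ W₀
  have hWU : W ≤ U := U.ι_image_le W₀
  let j := Y.homOfLE hWU
  let R : SheafOfModules.{u} (U : Scheme.{u}).ringCatSheaf ⥤ SheafOfModules.{u} (W : Scheme.{u}).ringCatSheaf :=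
    Scheme.Modules.restrictFunctor j
  haveI : PreservesColimitsOfSize.{u, u} R := (Scheme.Modules.restrictAdjunction j).leftAdjoint_preservesColimits
  have hzero : IsZero ((Scheme.Modules.restrictFunctor j).obj (cokernel π)) := by
    rw [Groth.L21.Mod.isZero_iff_stalk_subsingleton]
    intro w
    have hw : j w ∈ W₀ := by
      obtain ⟨w', hw', hw''⟩ := w.2
      rw [show j w = w' from Subtype.ext ((Scheme.homOfLE_apply hWU w).trans hw''.symm)]
      exact hw'
    haveI := hW₀ _ hw
    exact (Groth.L07.RefExtend.restrictStalkEquiv j (cokernel π) w).toEquiv.subsingleton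
  haveI : Epi ((Scheme.Modules.restrictFunctor j).map π) :=
    Preadditive.epi_of_isZero_cokernel _ (hzero.of_iso (PreservesCokernel.iso (Scheme.Modules.restrictFunctor j) π).symm)
  let σ₀ : (SheafOfModules.free (R := (U : Scheme.{u}).ringCatSheaf) (ULift.{u} (Fin n))).GeneratingSections :=
    { I := ULift.{u} (Fin n)
      s := SheafOfModules.freeHomEquiv _ (𝟙 _)
      epi := by rw [Equiv.symm_apply_apply]; infer_instance }
  let e' : (Scheme.Modules.restrictFunctor j).obj (F.restrict U.ι) ≅ F.restrict W.ι :=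
    ((Scheme.Modules.restrictFunctorComp j U.ι).symm ≪≫
      Scheme.Modules.restrictFunctorCongr (Y.homOfLE_ι hWU)).app F
  let π₁ : R.obj (SheafOfModules.free (R := (U : Scheme.{u}).ringCatSheaf) (ULift.{u} (Fin n))) ⟶ F.restrict W.ι :=
    (Scheme.Modules.restrictFunctor j).map (Groth.L18.LFP.uliftIso _ n).hom ≫
      (Scheme.Modules.restrictFunctor j).map π ≫ e'.hom
  haveI : Epi π₁ := inferInstance
  exact ⟨W, (σ₀.map R (Scheme.Modules.restrictUnitIso j).symm).ofEpi π₁,
    ⟨⟨f x, hyU⟩, hy₀, rfl⟩, inferInstanceAs (Finite (ULift (Fin n)))⟩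

end Groth.Agent.S9837
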