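import Groth.Statements.S1581
import Groth.Agent.S0086
import Groth.Agent.L00.BddFib

set_option autoImplicit false
set_option maxSynthPendingDepth 3
set_option linter.style.haveILetI false
universe u
open CategoryTheory CategoryTheory.Limits AlgebraicGeometry
open Variety

namespace Groth.Agent.S1581

/-- Let X be a scheme over a field k and K a field extension of k. If X_K is proper over K then X is
proper over k. -/
theorem result (k : Type u) [Field k] (X : Scheme.{u}) [X.Over (Spec (CommRingCat.of k))] (K : Type u) [Field K] [Algebra k K]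
    [IsProper (Curv2.bcSnd k X K)] : IsProper (X ↘ (Spec (CommRingCat.of k))) := by
  haveI : MorphismProperty.DescendsAlong @IsProper
      (@Surjective ⊓ @Flat ⊓ @QuasiCompact : MorphismProperty Scheme.{u}) := Groth.Agent.S0086.result
  have hQ : (@Surjective ⊓ @Flat ⊓ @QuasiCompact : MorphismProperty Scheme.{u})
      (Spec.map (CommRingCat.ofHom (algebraMap k K))) :=
    ⟨⟨⟨fun x => ⟨Groth.L00.BddFib.pt K, Subsingleton.elim _ _⟩⟩, Groth.L00.BddFib.flat_toField _⟩, inferInstance⟩
  exact MorphismProperty.of_isPullback_of_descendsAlong (P := (@IsProper : MorphismProperty Scheme.{u}))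
    (IsPullback.of_hasPullback (X ↘ Spec (CommRingCat.of k)) (Spec.map (CommRingCat.ofHom (algebraMap k K)))).flip
    hQ ‹IsProper (Curv2.bcSnd k X K)›

end Groth.Agent.S1581
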