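import Groth.Statements.S17451
import Groth.Agent.L08.P1Hom.SemiabComm
-- import your own Groth.Agent.* helpers here

set_option autoImplicit false
set_option backward.isDefEq.respectTransparency.types false
set_option linter.style.haveILetI false
universe u
open CategoryTheory MonoidalCategory CartesianMonoidalCategory MonObj GrpObj AlgebraicGeometry CategoryTheory.Limits
open AlgGrp

namespace Groth.Agent.S17451

/-- Let k be a field with algebraic closure K and G a smooth connected k-group scheme of finite type,
not assumed commutative, whose base change G_K has a torus as a subgroup with an abelian variety as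
the quotient: there are a closed subgroup scheme T of G_K which is a torus and a flat surjective
homomorphism from G_K onto a proper smooth connected K-group scheme with kernel T. Then G is
commutative. (The published result also asserts that G then has, over k itself, a unique torus
subgroup with abelian-variety quotient of this kind; only commutativity is stated here.) -/
theorem result (k : Type u) [Field k]
    (G : Over (Spec (CommRingCat.of k))) [GrpObj G] [Smooth G.hom] [QuasiCompact G.hom] [ConnectedSpace ↥G.left]
    (hK : (∃ (T : Over (Spec (CommRingCat.of (AlgebraicClosure k)))) (_ : GrpObj T) (i : T ⟶ Red.bc (Spec.map (CommRingCat.ofHom (algebraMap k (AlgebraicClosure k)))) G) (A : Over (Spec (CommRingCat.of (AlgebraicClosure k)))) (_ : GrpObj A) (q : Red.bc (Spec.map (CommRingCat.ofHom (algebraMap k (AlgebraicClosure k)))) G ⟶ A),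
        IsMonHom i ∧ IsClosedImmersion i.left ∧ Red.IsTorus T ∧ IsMonHom q ∧ Surjective q.left ∧ Flat q.left ∧
        AlgGrp.IsKernel i q ∧ IsProper A.hom ∧ Smooth A.hom ∧ ConnectedSpace ↥A.left)) :
    IsCommMonObj G := by
  obtain ⟨T, _, i, A, _, q, hi, hic, hT, hq, hqs, hqf, hker, hAp, hAs, hAc⟩ := hK
  haveI := hi; haveI := hic; haveI := hq; haveI := hqs; haveI := hqf
  haveI := hAp; haveI := hAs; haveI := hAc
  let t := Spec.map (CommRingCat.ofHom (algebraMap k (AlgebraicClosure k)))
  haveI : LocallyOfFiniteType (Red.bc t G).hom :=
    MorphismProperty.pullback_snd _ _ (inferInstance : LocallyOfFiniteType G.hom)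
  haveI : QuasiCompact (Red.bc t G).hom :=
    MorphismProperty.pullback_snd _ _ (inferInstance : QuasiCompact G.hom)
  haveI : IsCommMonObj (Red.bc t G) := Groth.L08.P1Hom.isCommMonObj_of_extension i hT q hker
  exact Groth.L08.P1Hom.isCommMonObj_of_bc t

end Groth.Agent.S17451
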