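import Groth.Statements.S7230
import Groth.Agent.Lead.RelPCTest
import Groth.Agent.Lead.RelFinTor
import Groth.Agent.Lead.PerfProj


set_option autoImplicit false
universe u
open CategoryTheory CategoryTheory.Limits AlgebraicGeometry Opposite TopologicalSpace
attribute [local instance] HasDerivedCategory.standard
open FlatMor

namespace Groth.Agent.S7230

/-- Let A be a ring and X a scheme separated, of finite presentation and flat over A, with structure
morphism π : X ⟶ Spec A. Let K be a cochain complex of O_X-modules whose class in D(O_X) has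
quasi-coherent cohomology sheaves. Assume, the functors Rπ_* and - ⊗^L K being taken to exist, that
for every perfect object E of D(O_X) the object Rπ_*(E ⊗^L K) of D(O_{Spec A}) is perfect. Then K is
perfect relative to Spec A: its class is pseudo-coherent on X in the absolute sense
(m-pseudo-coherent for every m) and, locally on X, every representing complex has finite tor
amplitude stalkwise over the local rings of Spec A. (The published statement asks RΓ(X, E ⊗^L K) to
be perfect in D(A); on Spec A the two formulations correspond under the equivalence of D(A) with the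
quasi-coherent derived category.) -/
theorem result (A : Type u) [CommRing A]
    {X : Scheme.{u}} (π : X ⟶ Spec (CommRingCat.of A)) [IsSeparated π] [QuasiCompact π]
    [LocallyOfFinitePresentation π] [Flat π] [DCoh.HasRpush π] (K : CochainComplex X.Modules ℤ)
    [DCoh.HasLTensorCx K] (hK : DCoh.IsQCohD (DCoh.toD X K))
    (h : ∀ E : DCoh.D X, DCoh.IsPerfect E → DCoh.IsPerfect ((DCoh.Rpush π).obj ((DCoh.LTensorCx K).obj E))) :
    (∀ m : ℤ, DCoh.IsPseudoCoherentD m (DCoh.toD X K)) ∧ DerSch.LocFiniteTorAmplitudeD π (DCoh.toD X K) := by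
  have hpcP : ∀ E : DCoh.D X, DCoh.IsPerfect E →
      ∀ m : ℤ, DCoh.IsPseudoCoherentD m ((DCoh.Rpush π).obj ((DCoh.LTensorCx K).obj E)) :=
    fun E hE m => Groth.L29.DC.pc_of_perfect (h E hE) m
  refine ⟨fun m => (Groth.L29.RelPC.pc_iff_rel (Groth.Lead.ClosedRpush.nPC_of_flat π) m _).2
    (Groth.Lead.RelPCTest.rel_of_test π K hK hpcP m), ?_⟩
  rintro F ⟨e⟩ x
  obtain ⟨_, ⟨(U : X.Opens), hU, rfl⟩, hxU, -⟩ := X.isBasis_affineOpens.exists_subset_of_mem_open (Set.mem_univ x) isOpen_univ
  obtain ⟨n, ψ, hψ, hψC⟩ : ∃ (n : ℕ) (ψ : MvPolynomial (Groth.L16.ProjSpace.ChartVar n 0) A →+* Γ(X, U)),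
      Function.Surjective ψ ∧ ψ.comp MvPolynomial.C =
        (π.appLE ⊤ U (by simp)).hom.comp (Scheme.ΓSpecIso (CommRingCat.of A)).inv.hom := by
    let γ : A →+* Γ(X, U) := (π.appLE ⊤ U (by simp)).hom.comp (Scheme.ΓSpecIso (CommRingCat.of A)).inv.hom
    letI := γ.toAlgebra
    haveI : Algebra.FiniteType A Γ(X, U) := by
      have h1 : ((Scheme.ΓSpecIso (CommRingCat.of A)).inv.hom).FiniteType := RingHom.FiniteType.of_surjective _
        (ConcreteCategory.bijective_of_isIso (Scheme.ΓSpecIso (CommRingCat.of A)).inv).surjective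
      exact (LocallyOfFiniteType.finiteType_appLE π (isAffineOpen_top _) hU (by simp)).comp h1
    obtain ⟨n, α, hα⟩ := Algebra.FiniteType.iff_quotient_mvPolynomial''.1 ‹Algebra.FiniteType A Γ(X, U)›
    let r := MvPolynomial.renameEquiv A
      ((finSuccAboveEquiv (0 : Fin (n + 1))).symm : Groth.L16.ProjSpace.ChartVar n 0 ≃ Fin n)
    exact ⟨n, (α.comp r.toAlgHom).toRingHom, hα.comp r.surjective, (α.comp r.toAlgHom).comp_algebraMap⟩
  haveI := Groth.L29.RelPC.isClosedImmersion_chartI hU hψ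
  let j := Groth.L29.RelPC.chartI U ψ
  let c := Spec.map (CommRingCat.ofHom (MvPolynomial.C : A →+* MvPolynomial (Groth.L16.ProjSpace.ChartVar n 0) A))
  have hj : j ≫ c = (Scheme.Opens.ι U) ≫ π := by
    have h1 : CommRingCat.ofHom MvPolynomial.C ≫ CommRingCat.ofHom ψ =
        (Scheme.ΓSpecIso (CommRingCat.of A)).inv ≫ π.appLE ⊤ U (by simp) := by
      ext r
      exact RingHom.congr_fun hψC r
    simp only [j, c, Groth.L29.RelPC.chartI]
    rw [Category.assoc, ← Spec.map_comp, h1, Spec.map_comp, ← Scheme.isoSpec_Spec_inv,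
      ← IsAffineOpen.fromSpec_top, Scheme.Opens.toSpecΓ_SpecMap_appLE_assoc,
      (isAffineOpen_top _).toSpecΓ_fromSpec, Scheme.Hom.resLE_comp_ι]
  have hperf := Groth.Lead.RelPCTest.chart_of_test (P := fun _ E => DCoh.IsPerfect E)
    (fun e hE => Groth.L29.DC.isPerfect_of_iso e hE) (fun r hE => Groth.L29.BC.isPerfect_of_retract r hE)
    (fun k _ _ hE => Groth.L29.DC.EvalMain.isPerfect_restrictD k hE) n π K
    (fun V hV hd => Groth.Lead.PerfProj.perfect_of_twists n A hV hd) hK h U j hj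
  haveI : Smooth c := (HasRingHomProperty.Spec_iff (P := @Smooth)).2
    (RingHom.smooth_algebraMap.2 (⟨inferInstance, inferInstance⟩ :
      Algebra.Smooth A (MvPolynomial (Groth.L16.ProjSpace.ChartVar n 0) A)))
  let FU := (DCoh.restrictCx U).obj F
  have h3 : DerSch.LocFiniteTorAmplitude (j ≫ c) FU := by
    refine (Groth.Lead.RelFinTor.locFinite_closed_iff c j FU).2 ?_
    intro y
    obtain ⟨W, a, b, hy, hW⟩ := Groth.L29.DC.locFiniteTorDim_of_perfect hperf y
    exact ⟨W, a, b, hy, fun F' ⟨e'⟩ => hW F' ⟨e' ≪≫ (Groth.L29.DC.ClosedPC.pD j).mapIso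
      ((Groth.L29.DC.resQIso U F).symm ≪≫ (Groth.L29.DC.resD U).mapIso e)⟩⟩
  rw [hj] at h3
  obtain ⟨W, a, b, hxW, hW⟩ := h3 ⟨x, hxU⟩
  refine ⟨(Scheme.Opens.ι U) ''ᵁ W, a, b, ⟨⟨x, hxU⟩, hxW, rfl⟩, ?_⟩
  rintro _ ⟨y, hy, rfl⟩
  exact (Groth.Lead.SmoothStalk.amp_restrict_iff π (Scheme.Opens.ι U) y F a b).1 (hW y hy)


end Groth.Agent.S7230
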