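import Groth.Statements.S1034
import Groth.Agent.L10.HocolimHom

set_option autoImplicit false
set_option backward.defeqAttrib.useBackward true
set_option backward.isDefEq.respectTransparency false
universe v v' u u'
open CategoryTheory CategoryTheory.Limits
open DerLim

namespace Groth.Agent.S1034

open CategoryTheory.Pretriangulated in
theorem result {D : Type u} [Category.{v} D] [Preadditive D] [Limits.HasZeroObject D] [HasShift D ℤ]
    [∀ n : ℤ, (shiftFunctor D n).Additive] [Pretriangulated D] [IsTriangulated D] [HasColimitsOfShape (Discrete ℕ) D]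
    {A : Type u'} [Category.{v'} A] [Abelian A] [HasColimitsOfShape ℕ A] [HasExactColimitsOfShape ℕ A]
    (H : D ⥤ A) [H.IsHomological] [PreservesColimitsOfShape (Discrete ℕ) H]
    (K : ℕ → D) (f : ∀ n, K n ⟶ K (n + 1)) (L : D) (i : ∀ n, K n ⟶ L) (hL : DerLim.IsHocolim K f L i) :
    ∃ e : colimit (Functor.ofSequence (fun n => H.map (f n))) ≅ H.obj L,
      ∀ n : ℕ, colimit.ι (Functor.ofSequence (fun n => H.map (f n))) n ≫ e.hom = H.map (i n) := by
  obtain ⟨c, hT⟩ := hL
  have hT' := rot_of_distTriang _ hT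
  have hT'' := rot_of_distTriang _ hT'
  have e1 := H.map_distinguished_exact _ hT
  have e2 := H.map_distinguished_exact _ hT'
  have e3 := H.map_distinguished_exact _ hT''
  -- the shifted functor
  have : HasCoproduct (fun n => H.obj (K n)) := Groth.L10.SeqColim.hasCoproduct _
  have : HasCoproduct (fun n => (shiftFunctor D (1 : ℤ) ⋙ H).obj (K n)) := Groth.L10.SeqColim.hasCoproduct _
  obtain ⟨es, hes, hes'⟩ := Groth.L10.HocolimHom.exists_iso (shiftFunctor D (1 : ℤ) ⋙ H) K f
  have hm : Mono (H.map ((shiftFunctor D (1 : ℤ)).map (𝟙 (∐ K) - DerLim.shiftMap K f))) := by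
    have := Groth.L10.SeqColim.mono_one_sub_shift (fun n => (shiftFunctor D (1 : ℤ) ⋙ H).obj (K n))
      (fun n => (shiftFunctor D (1 : ℤ) ⋙ H).map (f n))
    have h : (shiftFunctor D (1 : ℤ) ⋙ H).map (𝟙 (∐ K) - DerLim.shiftMap K f) =
        es.inv ≫ (𝟙 _ - DerLim.shiftMap (fun n => (shiftFunctor D (1 : ℤ) ⋙ H).obj (K n)) (fun n => (shiftFunctor D (1 : ℤ) ⋙ H).map (f n))) ≫ es.hom := by
      rw [← hes', Iso.inv_hom_id_assoc]
    change Mono ((shiftFunctor D (1 : ℤ) ⋙ H).map _)
    rw [h]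
    exact mono_comp _ _
  have hc0 : H.map c = 0 := by
    have hw : H.map c ≫ H.map (-(shiftFunctor D (1 : ℤ)).map (𝟙 (∐ K) - DerLim.shiftMap K f)) = 0 :=
      (ShortComplex.map (shortComplexOfDistTriangle _ hT'') H).zero
    rw [Functor.map_neg, Preadditive.comp_neg, neg_eq_zero] at hw
    exact zero_of_comp_mono _ hw
  have hep : Epi (H.map (Sigma.desc i)) := e2.epi_f hc0
  obtain ⟨e0, he0, he0'⟩ := Groth.L10.HocolimHom.exists_iso H K f
  let F : ℕ ⥤ A := Functor.ofSequence (fun n => H.map (f n))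
  have hF : ∀ n, F.map (homOfLE (Nat.le_succ n)) = H.map (f n) := fun n => Functor.ofSequence_map_homOfLE_succ _ n
  have : HasCoproduct F.obj := Groth.L10.SeqColim.hasCoproduct _
  obtain ⟨w, hS⟩ := Groth.L10.SeqColim.shortExact F
  have hdesc : e0.hom ≫ H.map (Sigma.desc i) = Sigma.desc (fun n => H.map (i n)) := Sigma.hom_ext _ _ fun n => by
    rw [reassoc_of% (he0 n), ← Functor.map_comp]
    simp
  have w' : (𝟙 (∐ F.obj) - DerLim.shiftMap F.obj (fun n => F.map (homOfLE (Nat.le_succ n)))) ≫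
      (e0.hom ≫ H.map (Sigma.desc i)) = 0 := by
    simp only [hF]
    change (𝟙 (∐ fun n => H.obj (K n)) - DerLim.shiftMap (fun n => H.obj (K n)) (fun n => H.map (f n))) ≫ _ = 0
    rw [← reassoc_of% he0', ← Functor.map_comp]
    have := comp_distTriang_mor_zero₁₂ _ hT
    dsimp at this
    rw [this, Functor.map_zero, comp_zero]
  have hex : (ShortComplex.mk _ _ w').Exact := by
    refine (ShortComplex.exact_iff_of_iso ?_).mp e1
    refine ShortComplex.isoMk e0.symm e0.symm (Iso.refl _) ?_ ?_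
    · dsimp
      simp only [hF]
      rw [← cancel_epi e0.hom, Iso.hom_inv_id_assoc]
      change (𝟙 (∐ fun n => H.obj (K n)) - DerLim.shiftMap (fun n => H.obj (K n)) (fun n => H.map (f n))) = _
      rw [← Category.assoc, he0', Category.assoc, Iso.hom_inv_id, Category.comp_id]
    · dsimp
      simp
  have : Epi (e0.hom ≫ H.map (Sigma.desc i)) := epi_comp _ _
  have : Epi (Sigma.desc (fun n => colimit.ι F n)) := hS.epi_g
  refine ⟨IsColimit.coconePointUniqueUpToIso hS.exact.gIsCokernel hex.gIsCokernel, fun n => ?_⟩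
  have h := IsColimit.comp_coconePointUniqueUpToIso_hom hS.exact.gIsCokernel hex.gIsCokernel WalkingParallelPair.one
  have h' := congrArg (Sigma.ι F.obj n ≫ ·) h
  dsimp at h'
  rw [colimit.ι_desc_assoc] at h'
  refine h'.trans ?_
  change Sigma.ι (fun n => H.obj (K n)) n ≫ e0.hom ≫ H.map (Sigma.desc i) = _
  rw [hdesc, colimit.ι_desc]
  rfl

end Groth.Agent.S1034
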