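import Groth.Statements.S13334
import Groth.Agent.L17.FSheaf.Coherent

set_option autoImplicit false
open CategoryTheory CategoryTheory.Limits
universe u
open FCompl

namespace Groth.Agent.S13334

open AlgebraicGeometry in
/-- On a locally Noetherian formal scheme, presented as an adic system of locally Noetherian thickenings
with common underlying space, the O_𝔛-module attached to a system of coherent modules on the levels
with compatible transition isomorphisms (the limit of their direct images) is coherent, that is,
locally of finite presentation over the structure sheaf O_𝔛. -/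
theorem result (𝔛 : FSch.Sys.{u}) (h𝔛 : 𝔛.IsLocNoethFormal) (𝔐 : FSch.ModSys 𝔛)
    (h𝔐 : 𝔐.IsCoh) : FSch.IsCohF 𝔛 h𝔛.1 (𝔐.realMod h𝔛.1) := by
  exact Groth.L17.FSheaf.isCohF_realMod 𝔛 h𝔛 h𝔐

end Groth.Agent.S13334
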