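import Groth.Statements.S1305
import Groth.Agent.L20.ThickAffine

set_option autoImplicit false
universe u
open FlatMor

set_option linter.style.haveILetI false

namespace Groth.Agent.S1305

open AlgebraicGeometry CategoryTheory Limits in
/-- For a morphism of thickenings, that is a commutative square whose horizontal maps are thickenings
(closed immersions that are surjective on points), the morphism between the thin schemes is integral
if and only if the morphism between the thick ones is. -/
theorem result {X X' S S' : Scheme.{u}} (iX : X ⟶ X') (iS : S ⟶ S') (f : X ⟶ S) (f' : X' ⟶ S')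
    (hX : MoreMor.IsThickening iX) (hS : MoreMor.IsThickening iS) (w : iX ≫ f' = f ≫ iS) :
    IsIntegralHom f ↔ IsIntegralHom f' := by
  obtain ⟨_, hXs⟩ := hX
  obtain ⟨_, hSs⟩ := hS
  constructor <;> intro h
  · have : IsIntegralHom (iX ≫ f') := by rw [w]; infer_instance
    have : IsAffineHom f' := Groth.L20.ThickAffine.isAffineHom_of_comp iX (iX.surjective) f'
    have : UniversallyClosed f' := UniversallyClosed.of_comp_surjective iX f'
    exact IsIntegralHom.iff_universallyClosed_and_isAffineHom.2 ⟨inferInstance, inferInstance⟩
  · have : IsIntegralHom (f ≫ iS) := by rw [← w]; infer_instance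
    exact IsIntegralHom.of_comp f iS

end Groth.Agent.S1305
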