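import Groth.Statements.S1315
import Groth.Agent.L20.ThickeningProps
import Groth.Agent.S3042

set_option autoImplicit false
universe u
open FlatMor

namespace Groth.Agent.S1315

open AlgebraicGeometry CategoryTheory Limits in
/-- Let Y ⟶ Y' be a thickening, let X be the base change to Y of a scheme X' over Y', and assume both X
⟶ Y and X' ⟶ Y' are locally of finite type. Then X ⟶ Y is a monomorphism if and only if X' ⟶ Y' is. -/
theorem result {X X' Y Y' : Scheme.{u}} (iX : X ⟶ X') (iY : Y ⟶ Y') (f : X ⟶ Y) (f' : X' ⟶ Y')
    (hY : MoreMor.IsThickening iY) (hc : IsPullback iX f f' iY) [LocallyOfFiniteType f] [LocallyOfFiniteType f'] :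
    Mono f ↔ Mono f' := by
  have : IsClosedImmersion iY := hY.1
  refine ⟨fun h => Groth.Agent.S3042.mono_of_fibres f' fun y' => ?_,
    fun h => (MorphismProperty.monomorphisms Scheme.{u}).of_isPullback hc h⟩
  exact (Groth.L20.Thick.forall_fibre_iff (MorphismProperty.monomorphisms Scheme.{u}) hY hc).mp
    (fun y => (MorphismProperty.monomorphisms Scheme.{u}).pullback_snd f _ h) y'

end Groth.Agent.S1315
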