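import Groth.Statements.S11158
import Groth.Agent.L17.StalkChain
import Groth.Agent.L29.DCoh.ExtZero
import Mathlib.CategoryTheory.Subobject.Basic

set_option autoImplicit false
universe u
open CategoryTheory CategoryTheory.Limits AlgebraicGeometry
attribute [local instance] HasDerivedCategory.standard
open Coherent

namespace Groth.Agent.S11158

/-- Let X be a locally Noetherian scheme and j : U ⟶ X an open immersion from an affine scheme. Then the
O_X-module j_! O_U (extension by zero of the structure sheaf of U) is a Noetherian object: every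
increasing sequence of subobjects of j_! O_U in the category of O_X-modules is eventually constant. -/
theorem result {U X : Scheme.{u}} [IsLocallyNoetherian X]
    [IsAffine U] (j : U ⟶ X) [IsOpenImmersion j]
    (c : ℕ →o Subobject (CxOX.extZeroUnit j)) :
    ∃ n : ℕ, ∀ m : ℕ, n ≤ m → c n = c m := by
  haveI : CompactSpace U := inferInstance
  haveI : IsLocallyNoetherian U := isLocallyNoetherian_of_isOpenImmersion j
  haveI : AlgebraicGeometry.IsNoetherian U := ⟨⟩
  let res := Scheme.Modules.restrictFunctor j
  let e := (Groth.L29.DC.ExtZero.unitIso j).app (Coh.structureModule U)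
  obtain ⟨N, hN⟩ := Groth.L17.StalkGen.exists_stationary (fun n => res.obj (c n : X.Modules))
    (fun n => res.map (c n).arrow ≫ e.inv) (fun n m h => res.map (Subobject.ofLE (c n) (c m) (c.mono h)))
    (fun n m h => by rw [← Category.assoc, ← Functor.map_comp, Subobject.ofLE_arrow])
  refine ⟨N, fun m hm => ?_⟩
  haveI := hN m hm
  have hz : ∀ (k : ℕ) (x : X), x ∉ Set.range j.base →
      Limits.IsZero ((Groth.L00.Stk.F X x).obj (c k : X.Modules)) := fun k x hx =>
    (Groth.L29.DC.ExtZero.isZero_stalk j hx _).of_mono ((Groth.L00.Stk.F X x).map (c k).arrow)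
  haveI := Groth.L29.DC.ExtZero.isIso_of j (Subobject.ofLE (c N) (c m) (c.mono hm)) (hz N) (hz m)
  exact Subobject.eq_of_comm (asIso (Subobject.ofLE (c N) (c m) (c.mono hm))) (Subobject.ofLE_arrow _)

end Groth.Agent.S11158
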