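import Groth.Statements.S10907
import Groth.Agent.L15.HilbGrowth
-- import your own Groth.Agent.* helpers here

set_option autoImplicit false
universe u
open Polynomial
open ProjDeg

namespace Groth.Agent.S10907

/-- Let k be a field, R = k[X_0, …, X_n] graded by degree, and I a homogeneous ideal whose Hilbert
polynomial P (a rational polynomial with P(m) = dim_k R_m − dim_k (I ∩ R_m) for all large m) is
nonzero, i.e. the projective scheme V_+(I) ⊆ P^n_k is nonempty. Then the Krull dimension of R/I (the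
affine cone) equals deg P + 1; the dimension of V_+(I) itself is deg P. -/
theorem result (k : Type u) [Field k]
    (n : ℕ) (I : Ideal (MvPolynomial (Fin (n + 1)) k)) (hIh : I.IsHomogeneous (CohB1.polyGrading n k))
    (P : ℚ[X]) (hP0 : P ≠ 0)
    (hP : ∃ m₀ : ℕ, ∀ m : ℕ, m₀ ≤ m → P.eval (m : ℚ) =
      (Module.finrank k ↥(CohB1.polyGrading n k m) : ℚ) -
        Module.finrank k ↥(Submodule.restrictScalars k I ⊓ CohB1.polyGrading n k m)) :
    ringKrullDim (MvPolynomial (Fin (n + 1)) k ⧸ I) = (P.natDegree : WithBot ℕ∞) + 1 := by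
  classical
  obtain ⟨m₀, hm₀⟩ := hP
  have hH : ∀ m, m₀ ≤ m → (Groth.L15.HilbGrowth.hf I m : ℚ) = P.eval (m : ℚ) := by
    intro m hm
    rw [hm₀ m hm, ← Groth.L15.HilbGrowth.hf_add_finrank I m, Nat.cast_add, add_sub_cancel_right]
  have hpos : ¬ ringKrullDim (MvPolynomial (Fin (n + 1)) k ⧸ I) ≤ 0 := by
    intro h0
    obtain ⟨N, hN⟩ := Groth.L15.HilbGrowth.eventually_zero hIh h0
    refine hP0 (Polynomial.eq_zero_of_infinite_isRoot P ?_)
    refine Set.Infinite.mono ?_ ((Set.Ici_infinite (max N m₀)).image (Nat.cast_injective (R := ℚ)).injOn)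
    rintro _ ⟨m, hm, rfl⟩
    rw [Set.mem_Ici] at hm
    show P.eval (m : ℚ) = 0
    rw [← hH m (le_of_max_le_right hm), hN m (le_of_max_le_left hm), Nat.cast_zero]
  have hle : ringKrullDim (MvPolynomial (Fin (n + 1)) k ⧸ I) ≤ ((n + 1 : ℕ) : WithBot ℕ∞) := by
    refine (ringKrullDim_quotient_le I).trans ?_
    rw [MvPolynomial.ringKrullDim_of_isNoetherianRing, ringKrullDim_eq_zero_of_field, zero_add]
    simp
  obtain ⟨e, hdim⟩ : ∃ e : ℕ, ringKrullDim (MvPolynomial (Fin (n + 1)) k ⧸ I) = ((e + 1 : ℕ) : WithBot ℕ∞) := by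
    generalize ringKrullDim (MvPolynomial (Fin (n + 1)) k ⧸ I) = x at hle hpos
    induction x with
    | bot => exact absurd bot_le hpos
    | coe y =>
      induction y with
      | top => exact absurd (WithBot.coe_le_coe.mp hle) (by simp)
      | coe d =>
        rcases Nat.eq_zero_or_pos d with rfl | hd
        · exact absurd le_rfl hpos
        · exact ⟨d - 1, by rw [Nat.sub_add_cancel hd]; rfl⟩
  have hup : P.natDegree ≤ e := Groth.L06.HilbertSamuel.natDegree_le_of_growth
    (Groth.L15.HilbGrowth.growth_of_dim_le e I hIh hdim.le) ⟨m₀, hH⟩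
  have hlow : e ≤ P.natDegree := by
    by_contra hlt
    push Not at hlt
    obtain ⟨j, rfl⟩ : ∃ j, e = j + 1 := ⟨e - 1, by omega⟩
    obtain ⟨C, N, hC⟩ := Groth.L06.HilbertSamuel.growth_of_poly (f := Groth.L15.HilbGrowth.hf I)
      (Nat.le_of_lt_succ hlt) ⟨m₀, fun m hm => (hH m hm).le⟩
    obtain ⟨s, hs, hfree⟩ := Groth.L14.Fano.exists_free_of_le_ringKrullDim I hdim.ge
    let D := N + (j + 1).factorial * C
    have h1 := Groth.L14.Fano.choose_le_finrank_compl (D := D) I s hfree
    rw [← Groth.L15.HilbGrowth.hf_add_finrank I D, inf_comm, hs] at h1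
    have h2 : (j + 1 + D).choose (j + 1) ≤ C * (D + 1) ^ j := by
      have e1 : j + 1 + 1 + D - 1 = j + 1 + D := by omega
      rw [e1] at h1
      rw [Nat.choose_symm_add]
      exact (Nat.le_of_add_le_add_right h1).trans (hC D (Nat.le_add_right _ _))
    have h3 := Nat.pow_succ_le_ascFactorial (D + 1) (j + 1)
    rw [Nat.ascFactorial_eq_factorial_mul_choose, Nat.add_comm D (j + 1), pow_succ] at h3
    have h4 : (D + 1) ^ j * (D + 1) ≤ (D + 1) ^ j * ((j + 1).factorial * C) := by
      refine h3.trans ((Nat.mul_le_mul_left _ h2).trans (le_of_eq (by ring)))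
    have h5 := Nat.le_of_mul_le_mul_left h4 (pow_pos (Nat.succ_pos D) j)
    omega
  rw [hdim, le_antisymm hup hlow, Nat.cast_add, Nat.cast_one]

end Groth.Agent.S10907
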