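import Groth.Statements.S6712
import Groth.Agent.L16.FibIso.Basic

set_option autoImplicit false
universe u
open CategoryTheory AlgebraicGeometry
open DEquiv

namespace Groth.Agent.S6712

open CategoryTheory.Limits in
/-- Let S be a Noetherian scheme, s ∈ S, and p : X ⟶ Y a morphism over S where X ⟶ S and Y ⟶ S are
proper and X ⟶ S is flat. If the fibre X_s ⟶ Y_s of p is an isomorphism, then there is an open
neighbourhood U of s such that the base change X_U ⟶ Y_U of p is an isomorphism. -/
theorem result
    {S X Y : Scheme.{u}} [IsNoetherian S] (s : S) (g : X ⟶ S) (h : Y ⟶ S) (p : X ⟶ Y)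
    (w : p ≫ h = g) [IsProper g] [IsProper h] [Flat g]
    (hs : IsIso (pullback.map g (S.fromSpecResidueField s) h (S.fromSpecResidueField s) p (𝟙 _)
      (𝟙 _) ((Category.comp_id g).trans w.symm)
      ((Category.comp_id _).trans (Category.id_comp _).symm))) :
    ∃ U : S.Opens, s ∈ U ∧
      IsIso (pullback.map g U.ι h U.ι p (𝟙 _) (𝟙 _) ((Category.comp_id g).trans w.symm)
        ((Category.comp_id _).trans (Category.id_comp _).symm)) := by
  haveI : LocallyOfFinitePresentation g := inferInstance
  haveI : LocallyOfFinitePresentation h := inferInstance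
  obtain ⟨U, hU, hiso⟩ := Groth.L16.FibIso.exists_open g h p w
  have hsU : s ∈ U := (hU s).2 ((Groth.L16.FibIso.isIso_fiberMapOver_iff g h p w s).2
    ⟨@asIso _ _ _ _ _ hs, pullback.lift_fst _ _ _⟩)
  refine ⟨U, hsU, ?_⟩
  have hsq : IsPullback (pullback.fst g U.ι) (pullback.map g U.ι h U.ι p (𝟙 _) (𝟙 _)
      ((Category.comp_id g).trans w.symm) ((Category.comp_id _).trans (Category.id_comp _).symm))
      p (pullback.fst h U.ι) := by
    refine IsPullback.of_bot ?_ ?_
      (IsPullback.of_hasPullback h U.ι)
    · exact (IsPullback.of_hasPullback g U.ι).of_iso (Iso.refl _) (Iso.refl _) (Iso.refl _) (Iso.refl _)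
        (by simp) (by rw [pullback.lift_snd]; simp) (by simp [w]) (by simp)
    · exact (pullback.lift_fst _ _ _).symm
  obtain ⟨p', q', -, hsq'⟩ := Groth.L16.FibIso.exists_square_restrict hsq (h ⁻¹ᵁ U) (fun z => by
    show h (pullback.fst h U.ι z) ∈ U
    rw [← Scheme.Hom.comp_apply, pullback.condition, Scheme.Hom.comp_apply]
    exact (pullback.snd h U.ι z).2)
  exact MorphismProperty.of_isPullback (P := MorphismProperty.isomorphisms Scheme.{u}) hsq' hiso
end Groth.Agent.S6712
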