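
import Groth.Statements.S1568
import Groth.Agent.L22.LocalDim

set_option autoImplicit false
universe u
open CategoryTheory CategoryTheory.Limits AlgebraicGeometry
open Divisors

namespace Groth.Agent.S1568

/-- Let X be locally Noetherian and D an effective Cartier divisor. At a point ξ of D that is maximal in
D under generisation (a generic point of a component of D), the local ring of X has dimension
exactly one. -/
theorem result (X : Scheme.{u}) [IsLocallyNoetherian X]
    (D : X.IdealSheafData) (hD : BlowUp.IsEffCartierIdeal D) (ξ : X)
    (hξ : ξ ∈ (D.support : Set X)) (hgen : ∀ y ∈ (D.support : Set X), y ⤳ ξ → y = ξ) :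
    ringKrullDim (X.presheaf.stalk ξ) = 1 := by
  refine le_antisymm (Groth.L22.LocalDim.dim_le_one_of_locPrincipal
    (fun x _ => ?_) hξ hgen) ?_
  · obtain ⟨U, hx, f, -, hf⟩ := hD x
    exact ⟨U, hx, f, hf⟩
  · by_contra h
    refine Groth.L22.notMem_support_of_maximal hD (x := ξ) (fun y hy => ?_) hξ
    by_contra hne
    exact h (Groth.L22.LocalDim.one_le_dim_of_specializes hy hne)

end Groth.Agent.S1568
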