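import Groth.Prelude.Def_BlowUp2
import Mathlib.AlgebraicGeometry.IdealSheaf.Subscheme
import Mathlib.AlgebraicGeometry.IdealSheaf.Functorial
import Mathlib.AlgebraicGeometry.Morphisms.Smooth
import Mathlib.AlgebraicGeometry.Morphisms.Separated
import Mathlib.AlgebraicGeometry.Morphisms.Flat
import Groth.Agent.L02.RelCartier.CurveRel

set_option autoImplicit false
namespace SDiv
end SDiv
universe u
open SDiv

namespace Groth.Agent.S15990

open AlgebraicGeometry CategoryTheory in
/-- Let f : X → Y be separated and smooth of relative dimension 1 and let σ : Y → X be a section of f.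
Then σ(Y) is a relative effective Cartier divisor on X/Y: the kernel ideal sheaf of the closed
immersion σ is the ideal sheaf of an effective Cartier divisor (locally on affine opens generated by
one nonzerodivisor) and the closed subscheme it defines is flat over Y. (The source adds the special
case of the diagonal of X ×_Y X, a section of the first projection.) -/
theorem result
    {X Y : Scheme.{u}} (f : X ⟶ Y) [IsSeparated f] [SmoothOfRelativeDimension 1 f]
    (σ : Y ⟶ X) (hσ : σ ≫ f = 𝟙 Y) :
    BlowUp.IsEffCartierIdeal σ.ker ∧ Flat (σ.ker.subschemeι ≫ f) := by
  exact Groth.L02.RelCartier.ker_section f σ hσ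

end Groth.Agent.S15990
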