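import Groth.Statements.S9535
import Groth.Agent.L12.Algz.Extend
import Groth.Agent.L16.Exist.Proper

set_option autoImplicit false
universe u
open CategoryTheory CategoryTheory.Limits AlgebraicGeometry Opposite
open Algz

namespace Groth.Agent.S9535

/-- (6) ⇒ (2): Let A be a Noetherian ring complete for the I-adic topology, I ⊆ 𝔞 ideals, U = Spec A ∖
V(𝔞) and (F_n) an object of Coh(U, I O_U). If (F_n) extends to Spec A, then (F_n) is isomorphic to
the completion of a coherent O_U-module. -/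
theorem result (A : Type u) [CommRing A] [IsNoetherianRing A] (I 𝔞 : Ideal A) (hI𝔞 : I ≤ 𝔞)
    (G : ℕᵒᵖ ⥤ (↑(LocCoh.puncturedOpen A 𝔞) : Scheme.{u}).Modules) (hG : Formal.IsCohFormal I G) [IsAdicComplete I A]
    (h : @Algz.Extends A _ (Spec (CommRingCat.of A)) ⟨𝟙 (Spec (CommRingCat.of A))⟩ I (LocCoh.puncturedOpen A 𝔞) G) :
    ∃ F : (↑(LocCoh.puncturedOpen A 𝔞) : Scheme.{u}).Modules, Coh.IsCoh F ∧ Nonempty (Formal.completion I F ≅ G) := by
  letI : (Spec (CommRingCat.of A)).Over (Spec (CommRingCat.of A)) := ⟨𝟙 (Spec (CommRingCat.of A))⟩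
  haveI : IsProper ((Spec (CommRingCat.of A)) ↘ Spec (CommRingCat.of A)) :=
    show IsProper (𝟙 (Spec (CommRingCat.of A))) from inferInstance
  obtain ⟨G', hG', ⟨i⟩⟩ := h
  obtain ⟨E, hE, ⟨e⟩⟩ := Groth.L16.Exist.algebraisable I (Spec (CommRingCat.of A)) G' hG'
  obtain ⟨g⟩ := Groth.L12.Algz.nonempty_restrict_completion_iso A (LocCoh.puncturedOpen A 𝔞) I E
  exact ⟨E.restrict (LocCoh.puncturedOpen A 𝔞).ι,
    Groth.L03.QcOpenExtend.isCoh_of_iso
      ((Scheme.Modules.restrictFunctorIsoPullback (LocCoh.puncturedOpen A 𝔞).ι).app E)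
      (Groth.L16.AffineBC.isCoh_pullback (LocCoh.puncturedOpen A 𝔞).ι hE),
    ⟨g.symm ≪≫ CategoryTheory.Functor.isoWhiskerRight e _ ≪≫ i⟩⟩

end Groth.Agent.S9535
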