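import Groth.Statements.S11424
import Groth.Agent.L15.KerFlat.Basic
import Groth.Agent.L13.CGrpExt.Descend

set_option linter.style.haveILetI false

set_option autoImplicit false
universe u
open CategoryTheory MonoidalCategory CartesianMonoidalCategory MonObj GrpObj AlgebraicGeometry CategoryTheory.Limits
open AlgGrp

namespace Groth.Agent.S11424

/-- Over an algebraically closed field k, let G be an algebraic group (a smooth k-group scheme of finite
type), h : H → G a smooth affine closed normal subgroup, and q : G → Q a flat surjective
homomorphism of k-group schemes of finite type with kernel h (so Q = G/H). Then the quotient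
morphism q is affine. (The published statement is the equivalence between affineness of G and of
both H and G/H; this row states that the quotient morphism G → G/H is affine.) -/
theorem result (k : Type u) [Field k] [IsAlgClosed k]
    (G H Q : Over (Spec (CommRingCat.of k))) [GrpObj G] [Smooth G.hom] [QuasiCompact G.hom]
    [GrpObj H] (h : H ⟶ G) [IsMonHom h] [IsClosedImmersion h.left] [Smooth H.hom] [IsAffine H.left]
    [GrpObj Q] [LocallyOfFiniteType Q.hom] [QuasiCompact Q.hom]
    (q : G ⟶ Q) [IsMonHom q] [Surjective q.left] [Flat q.left] (hk : AlgGrp.IsKernel h q) :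
    IsAffineHom q.left := by
  haveI : IsAffineHom H.hom := isAffineHom_of_isAffine H.hom
  haveI : IsLocallyNoetherian Q.left := LocallyOfFiniteType.isLocallyNoetherian Q.hom
  haveI : QuasiSeparated Q.hom := (HasAffineProperty.iff_of_isAffine (P := @QuasiSeparated)).2 inferInstance
  haveI : QuasiCompact (q.left ≫ Q.hom) := (Over.w q).symm ▸ ‹QuasiCompact G.hom›
  haveI : QuasiCompact q.left := QuasiCompact.of_comp q.left Q.hom
  have hfst : IsAffineHom (fst G H).left := MorphismProperty.pullback_fst G.hom H.hom ‹IsAffineHom H.hom›
  exact MorphismProperty.of_isPullback_of_descendsAlong (P := @IsAffineHom)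
    (Q := @Surjective ⊓ @Flat ⊓ @QuasiCompact) ((Groth.L15.KerFlat.isPullback_kernelPair hk).map (Over.forget _))
    ⟨⟨‹Surjective q.left›, ‹Flat q.left›⟩, ‹QuasiCompact q.left›⟩ hfst

end Groth.Agent.S11424
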