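import Groth.Statements.S15180
import Groth.Agent.L15.FinSub.Ga
import Groth.Agent.L15.FinSub.Gm
import Mathlib.Tactic.Ring
import Mathlib.Tactic.LinearCombination
import Mathlib.Tactic.FieldSimp
import Mathlib.Algebra.BigOperators.Ring.Finset

set_option autoImplicit false
universe u
open CategoryTheory MonoidalCategory CartesianMonoidalCategory MonObj GrpObj AlgebraicGeometry
open BddFin

namespace Groth.Agent.S15180

/-- Let K be an arbitrary field, G a K-group scheme isomorphic (as a group scheme) to 𝔾_a (additive) or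
to 𝔾_m (multiplicative), and H a finite subgroup scheme of G (a monomorphic homomorphism H → G with
H finite over K). Then the quotient G/H is isomorphic to G; equivalently, there is a homomorphism of
K-group schemes G → G which is flat and surjective and whose kernel is H. -/
theorem result
    (K : Type u) [Field K] (G H : Over (Spec (CommRingCat.of K))) [GrpObj G] [GrpObj H]
    (hG : Nonempty (Grp.mk G ≅ Grp.mk (Red.Ga (Spec (CommRingCat.of K)))) ∨
      Nonempty (Grp.mk G ≅ Grp.mk (Red.Gm (Spec (CommRingCat.of K)))))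
    (i : H ⟶ G) [IsMonHom i] [Mono i] [IsFinite H.hom] :
    ∃ φ : G ⟶ G, IsMonHom φ ∧ AlgGrp.IsKernel i φ ∧ Flat φ.left ∧ Surjective φ.left := by
  have transfer : ∀ (G₀ : Over (Spec (CommRingCat.of K))) [GrpObj G₀],
      Nonempty (Grp.mk G ≅ Grp.mk G₀) →
      (∀ (j : H ⟶ G₀) [IsMonHom j] [Mono j],
        ∃ φ : G₀ ⟶ G₀, IsMonHom φ ∧ AlgGrp.IsKernel j φ ∧ Flat φ.left ∧ Surjective φ.left) →
      ∃ φ : G ⟶ G, IsMonHom φ ∧ AlgGrp.IsKernel i φ ∧ Flat φ.left ∧ Surjective φ.left := by
    intro G₀ _ ⟨eG⟩ h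
    let e : G ≅ G₀ := (Grp.forget _).mapIso eG
    haveI : IsMonHom e.hom := eG.hom.hom.isMonHom_hom
    haveI : IsMonHom e.inv := eG.inv.hom.isMonHom_hom
    obtain ⟨φ, hφ, hk, hf, hs⟩ := h (i ≫ e.hom)
    haveI := hφ
    haveI := hf
    haveI := hs
    haveI : IsIso e.hom.left := inferInstanceAs (IsIso ((Over.forget _).map e.hom))
    haveI : IsIso e.inv.left := inferInstanceAs (IsIso ((Over.forget _).map e.inv))
    refine ⟨e.hom ≫ φ ≫ e.inv, inferInstance, ?_, ?_, ?_⟩
    · refine CategoryTheory.IsPullback.of_iso hk (Iso.refl _) e.symm (Iso.refl _) e.symm ?_ ?_ ?_ ?_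
      · simp
      · simp
      · simp
      · show MonObj.one ≫ e.inv = 𝟙 _ ≫ MonObj.one
        rw [IsMonHom.one_hom e.inv, Category.id_comp]
    · rw [Over.comp_left, Over.comp_left]; infer_instance
    · rw [Over.comp_left, Over.comp_left]; infer_instance
  rcases hG with hGa | hGm
  · exact transfer _ hGa fun j _ _ => Groth.L15.FinSub.exists_kernel_Ga H j
  · exact transfer _ hGm fun j _ _ => Groth.L15.FinSub.exists_kernel_Gm H j

end Groth.Agent.S15180
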