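import Groth.Statements.S8679
import Groth.Agent.L14.Conormal.Mono
import Groth.Agent.L19.OmegaSh.ConormalSeq

set_option autoImplicit false
universe u
open CategoryTheory CategoryTheory.Limits AlgebraicGeometry
open RegImm

namespace Groth.Agent.S8679

/-- Let i : Y ⟶ X and j : Z ⟶ Y be Koszul-regular closed immersions and let φ₁ : j^* N_{Y/X} ⟶ N_{Z/X},
φ₂ : N_{Z/X} ⟶ N_{Z/Y} be the canonical maps between conormal sheaves (pinned by their values on
classes of local sections of the ideals). Then the composite is zero and 0 → j^* N_{Y/X} → N_{Z/X} →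
N_{Z/Y} → 0 is short exact. (The published statement allows arbitrary immersions; this row takes
closed immersions.) -/
theorem result {X Y Z : Scheme.{u}}
    (i : Y ⟶ X) [IsClosedImmersion i] (j : Z ⟶ Y) [IsClosedImmersion j]
    (hi : RegImm.IsRegularImmersion .koszul i) (hj : RegImm.IsRegularImmersion .koszul j)
    (φ₁ : (Scheme.Modules.pullback j).obj (Omega.conormal i) ⟶ Omega.conormal (j ≫ i))
    (hφ₁ : OmegaSh.IsConormalMap (j ≫ i) i (𝟙 X) j φ₁)
    (φ₂ : (Scheme.Modules.pullback (𝟙 Z)).obj (Omega.conormal (j ≫ i)) ⟶ Omega.conormal j)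
    (hφ₂ : OmegaSh.IsConormalMap j (j ≫ i) i (𝟙 Z) φ₂) :
    ∃ w : φ₁ ≫ ((Scheme.Modules.pullbackId Z).inv.app (Omega.conormal (j ≫ i)) ≫ φ₂) = 0,
      (ShortComplex.mk φ₁ ((Scheme.Modules.pullbackId Z).inv.app (Omega.conormal (j ≫ i)) ≫ φ₂) w).ShortExact := by
  haveI : QuasiCompact (j ≫ i) := inferInstance
  obtain ⟨w, hex, he⟩ := Groth.L19.OmegaSh.exact_conormal_comp φ₁ hφ₁ φ₂ hφ₂
  have hj1 : RegImm.IsRegularImmersion RegImm.Kind.h1 j := by
    refine ⟨hj.1, fun z => ?_⟩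
    obtain ⟨V, hzV, hcl, rs, hrs, hk⟩ := hj.2 z
    exact ⟨V, hzV, hcl, rs, Groth.L19.Thick.isH1Regular_of_koszul hrs, hk⟩
  haveI := Groth.L14.Conormal.mono_conormalMap j i φ₁ hφ₁ hj1
  haveI := he
  exact ⟨w, ShortComplex.ShortExact.mk' hex inferInstance inferInstance⟩

end Groth.Agent.S8679
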