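import Groth.Statements.S9502
-- import your own Groth.Agent.* helpers here

set_option autoImplicit false
universe u
open SchMor

namespace Groth.Agent.S9502

open AlgebraicGeometry in
open CategoryTheory in
/-- Let f : X → Y be a morphism of schemes such that (1) the underlying continuous map of f is a
homeomorphism onto a closed subset of Y and (2) the map of sheaves of rings O_Y → f_*O_X is
surjective (locally surjective on sections). Then f is a closed immersion in the sense of locally
ringed spaces: (1) and (2) hold and (3) the kernel of O_Y → f_*O_X is locally generated by sections,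
i.e. around every point of Y there are sections of O_Y killed in f_*O_X whose germs generate the
kernel of the stalk map O_{Y,y} → (f_*O_X)_y at every nearby point y. (For a morphism of schemes (1)
and (2) alone already give surjective stalk maps; the content of this row is condition (3).) -/
theorem result
    {X Y : Scheme.{u}} (f : X ⟶ Y) (h1 : Topology.IsClosedEmbedding f)
    (h2 : TopCat.Presheaf.IsLocallySurjective f.c) :
    LRSImm.IsClosedImmersion f.toLRSHom := by
  refine ⟨h1, h2, fun x => ?_⟩
  obtain ⟨_, ⟨(U : Y.Opens), hU, rfl⟩, hxU, -⟩ :=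
    Y.isBasis_affineOpens.exists_subset_of_mem_open (Set.mem_univ x) isOpen_univ
  have hc : ∀ {V : Y.Opens}, IsCompact (V : Set Y) → IsCompact ((f ⁻¹ᵁ V : X.Opens) : Set X) :=
    fun hV => h1.isCompact_preimage hV
  refine ⟨U, hxU, {a : Γ(Y, U) // f.app U a = 0}, fun a => a.1, fun a => a.2, fun x' hx' => ?_⟩
  refine le_antisymm (Ideal.span_le.mpr ?_) fun z hz => ?_
  · rintro _ ⟨a, rfl⟩
    refine RingHom.mem_ker.mpr ?_
    refine (TopCat.Presheaf.stalkFunctor_map_germ_apply U x' hx' f.c a.1).trans ?_
    exact (congrArg _ a.2).trans (map_zero _)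
  · obtain ⟨V, hV, t, rfl⟩ := Y.presheaf.exists_germ_eq z
    have e0 : (TopCat.Presheaf.germ (f.base _* X.presheaf) V x' hV) (f.app V t) =
        (TopCat.Presheaf.germ (f.base _* X.presheaf) V x' hV) 0 := by
      rw [map_zero]
      exact (TopCat.Presheaf.stalkFunctor_map_germ_apply V x' hV f.c t).symm.trans (RingHom.mem_ker.mp hz)
    obtain ⟨W, hxW, i1, i2, e1⟩ := TopCat.Presheaf.germ_eq (f.base _* X.presheaf) x' hV hV _ _ e0
    obtain ⟨r, hrW, hxr⟩ := hU.exists_basicOpen_le (V := W) ⟨x', hxW⟩ hx'
    letI := hU.isLocalization_basicOpen r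
    have hrV : Y.basicOpen r ≤ V := hrW.trans i1.le
    obtain ⟨⟨a, ⟨_, m, rfl⟩⟩, e2⟩ := IsLocalization.surj (Submonoid.powers r)
      ((Y.presheaf.map (homOfLE hrV).op) t)
    simp only [RingHom.algebraMap_toAlgebra] at e2
    have e3 : f.app (Y.basicOpen r) ((Y.presheaf.map (homOfLE hrV).op) t) = 0 := by
      have e4 : f.app W ((Y.presheaf.map i1.op) t) = 0 := by
        have nat := ConcreteCategory.congr_hom (f.naturality i1.op) t
        refine nat.trans (e1.trans (map_zero _))
      have e5 := ConcreteCategory.congr_hom (f.naturality (homOfLE hrW).op) ((Y.presheaf.map i1.op) t)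
      rw [show (Y.presheaf.map (homOfLE hrV).op) t =
        (Y.presheaf.map (homOfLE hrW).op) ((Y.presheaf.map i1.op) t) by
          rw [← CommRingCat.comp_apply, ← Functor.map_comp]; rfl]
      refine e5.trans ?_
      exact (congrArg _ e4).trans (map_zero (X.presheaf.map _).hom)
    have e6 : X.presheaf.map (homOfLE (X.basicOpen_le (f.app U r))).op (f.app U a) = 0 := by
      have nat := ConcreteCategory.congr_hom (f.naturality (homOfLE (Y.basicOpen_le r)).op) a
      have h7 : f.app (Y.basicOpen r) ((Y.presheaf.map (homOfLE (Y.basicOpen_le r)).op) a) = 0 := by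
        refine (congrArg _ e2).symm.trans ?_
        rw [map_mul, e3, zero_mul]
      have h8 : X.presheaf.map (homOfLE (f.preimage_mono (Y.basicOpen_le r))).op (f.app U a) = 0 :=
        nat.symm.trans h7
      have hle : X.basicOpen (f.app U r) ≤ f ⁻¹ᵁ Y.basicOpen r := (Scheme.preimage_basicOpen f r).ge
      rw [show (homOfLE (X.basicOpen_le (f.app U r))).op =
        (homOfLE (f.preimage_mono (Y.basicOpen_le r))).op ≫ (homOfLE hle).op from rfl, Functor.map_comp,
        CommRingCat.comp_apply, h8, map_zero]
    obtain ⟨N, hN⟩ := exists_pow_mul_eq_zero_of_res_basicOpen_eq_zero_of_isCompact X (hc hU.isCompact) (f.app U a)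
      (f.app U r) e6
    have hmem : f.app U (r ^ N * a) = 0 := by rw [map_mul, map_pow]; exact hN
    have hgen : Y.presheaf.germ U x' hx' (r ^ N * a) ∈
        Ideal.span (Set.range fun b : {a : Γ(Y, U) // f.app U a = 0} => Y.presheaf.germ U x' hx' b.1) :=
      Ideal.subset_span ⟨⟨_, hmem⟩, rfl⟩
    have hu : IsUnit (Y.presheaf.germ U x' hx' r) := (Y.mem_basicOpen r x' hx').mp hxr
    have e7 : Y.presheaf.germ V x' hV t * Y.presheaf.germ U x' hx' r ^ m = Y.presheaf.germ U x' hx' a := by
      have := congrArg (Y.presheaf.germ (Y.basicOpen r) x' hxr) e2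
      rw [map_mul, TopCat.Presheaf.germ_res_apply, TopCat.Presheaf.germ_res_apply,
        TopCat.Presheaf.germ_res_apply, map_pow] at this
      exact this
    have e8 : Y.presheaf.germ U x' hx' (r ^ N * a) =
        Y.presheaf.germ V x' hV t * Y.presheaf.germ U x' hx' r ^ (N + m) := by
      rw [map_mul, map_pow, ← e7, pow_add]
      ring
    rw [e8] at hgen
    exact (Ideal.mul_unit_mem_iff_mem _ (hu.pow _)).mp hgen

end Groth.Agent.S9502
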