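import Groth.Statements.S9691
import Groth.Agent.L18.AmpleLocal

set_option autoImplicit false
set_option backward.isDefEq.respectTransparency.types false
set_option backward.isDefEq.respectTransparency false
set_option linter.style.haveILetI false
universe u
open CategoryTheory CategoryTheory.Limits AlgebraicGeometry
open Mor

namespace Groth.Agent.S9691

/-- Let f : X ⟶ S be a morphism of schemes and L an invertible O_X-module which is ample relative to f.
Then f is separated. -/
theorem result {X S : Scheme.{u}} (f : X ⟶ S) (L : X.Modules)
    (hL : RelAmple.IsRelAmple f L) : IsSeparated f := by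
  refine IsZariskiLocalAtTarget.of_iSup_eq_top (P := @IsSeparated)
    (fun V : S.affineOpens => V.1) (iSup_affineOpens_eq_top S) fun V => ?_
  haveI : (f ⁻¹ᵁ V.1 : X.Opens).toScheme.IsSeparated := Groth.L18.Ample.isSeparated_of_isAmple (hL.2 V)
  haveI : IsSeparated ((f ∣_ V.1) ≫ Limits.terminal.from V.1.toScheme) := by
    rw [show (f ∣_ V.1) ≫ Limits.terminal.from _ = Limits.terminal.from _ from
      Limits.terminalIsTerminal.hom_ext _ _]
    infer_instance
  exact IsSeparated.of_comp _ (Limits.terminal.from V.1.toScheme)

end Groth.Agent.S9691
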