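import Groth.Statements.S14540
import Groth.Agent.L19.TorsorPush
import Groth.Agent.L25.Descent.CovOfQC

set_option autoImplicit false
set_option backward.isDefEq.respectTransparency.types false
set_option backward.isDefEq.respectTransparency false
set_option linter.style.haveILetI false
universe u
open CategoryTheory MonoidalCategory CartesianMonoidalCategory MonObj GrpObj AlgebraicGeometry
open PrincBund

namespace Groth.Agent.S14540

/-- Let X be a scheme, J and J' group schemes affine over X, with no flatness or finiteness condition, u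
: J → J' a homomorphism and P a J-torsor for the fpqc topology. Then the push forward of P along u
exists: there is a J'-torsor P' for the fpqc topology together with an X-morphism P → P' compatible
with u. -/
theorem result {X : Scheme.{u}}
    {J J' : Over X} [GrpObj J] [GrpObj J'] [IsAffineHom J.hom] [IsAffineHom J'.hom]
    (u : J ⟶ J') [IsMonHom u] (P : NonAbH1.TorsorSch J Scheme.fpqcPrecoverage) :
    ∃ P' : NonAbH1.TorsorSch J' Scheme.fpqcPrecoverage,
      NonAbH1.IsPushforwardAlongSch u P.act P'.act := by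
  obtain ⟨h, R, hR, hs⟩ := (Groth.L09.TorsorSch.isTorsorFor_iff _ _).mp P.isTorsor
  obtain ⟨κ, Z, g, rfl⟩ := R.exists_eq_ofArrows
  choose n i V hV heq using fun U : X.affineOpens => Groth.L19.exists_affineOpens_of_mem_fpqc hR U.2
  let κ' : Type u := Σ U : X.affineOpens, ULift.{u} (Fin (n U))
  let A : κ' → Scheme.{u} := fun k => (V k.1 k.2.down : Scheme.{u})
  let c : ∐ A ⟶ X := Limits.Sigma.desc fun k => (V k.1 k.2.down).ι ≫ g (i k.1 k.2.down)
  have hck : ∀ k, Limits.Sigma.ι A k ≫ c = (V k.1 k.2.down).ι ≫ g (i k.1 k.2.down) := fun k => Limits.Sigma.ι_desc _ _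
  haveI : Flat c := IsZariskiLocalAtSource.sigmaDesc fun k => by
    haveI := Groth.L19.flat_of_mem_fpqc hR (i k.1 k.2.down)
    infer_instance
  haveI : ∀ k, IsAffine (A k) := fun k => hV k.1 k.2.down
  have hcov : ∀ U : X.Opens, IsAffineOpen U →
      ∃ W : (∐ A : Scheme.{u}).Opens, IsCompact (W : Set ↥(∐ A : Scheme.{u})) ∧
        c.base '' (W : Set ↥(∐ A : Scheme.{u})) = (U : Set X) := by
    intro U hU
    refine ⟨⨆ k : ULift.{u} (Fin (n ⟨U, hU⟩)), (Limits.Sigma.ι A ⟨⟨U, hU⟩, k⟩).opensRange, ?_, ?_⟩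
    · rw [TopologicalSpace.Opens.coe_iSup]
      exact isCompact_iUnion fun k => isCompact_range (Scheme.Hom.continuous _)
    · rw [TopologicalSpace.Opens.coe_iSup, Set.image_iUnion, ← heq ⟨U, hU⟩]
      have e : ∀ k : ULift.{u} (Fin (n ⟨U, hU⟩)), c.base '' ((Limits.Sigma.ι A ⟨⟨U, hU⟩, k⟩).opensRange : Set _) =
          g (i ⟨U, hU⟩ k.down) '' (V ⟨U, hU⟩ k.down : Set _) := fun k => by
        rw [Scheme.Hom.coe_opensRange]
        refine (Set.range_comp c.base _).symm.trans ?_
        show Set.range ⇑(Limits.Sigma.ι A ⟨⟨U, hU⟩, k⟩ ≫ c) = _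
        rw [hck]
        refine (Set.range_comp (g (i ⟨U, hU⟩ k.down)) (V ⟨U, hU⟩ k.down).ι).trans ?_
        rw [Scheme.Opens.range_ι]
      simp only [e]
      exact Set.ext fun x => by simp [ULift.exists]
  haveI : Surjective c := ⟨fun x => by
    obtain ⟨U, hU, hx, -⟩ := exists_isAffineOpen_mem_and_subset (X := X) (x := x) (U := ⊤) trivial
    obtain ⟨W, -, hW⟩ := hcov U hU
    obtain ⟨y, -, hy⟩ := hW.ge hx
    exact ⟨y, hy⟩⟩
  let T : Over X := Over.mk c
  haveI : Groth.L20.SchDesc.Cov T.hom := Groth.L25.Descent.cov_of_cover c hcov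
  choose s hs' using fun j => (hs (g j) (Presieve.ofArrows.mk j)).elim
    fun t => (⟨t.left, Over.w t⟩ : ∃ t : Z j ⟶ P.X.left, t ≫ P.X.hom = g j)
  let σ : T ⟶ P.X := Over.homMk (Limits.Sigma.desc fun k => (V k.1 k.2.down).ι ≫ s (i k.1 k.2.down))
    (Limits.Sigma.hom_ext _ _ fun k => by
      show Limits.Sigma.ι A k ≫ _ ≫ P.X.hom = Limits.Sigma.ι A k ≫ c
      rw [Limits.Sigma.ι_desc_assoc, Category.assoc, hs', hck])
  have hmem : Presieve.singleton c ∈ Scheme.fpqcPrecoverage X := Groth.L25.Descent.singleton_mem_fpqcPrecoverage c hcov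
  have hT : Groth.L27.Torsor.Cov (toUnit T) := Groth.L27.Torsor.cov_toUnit
    ⟨_, hmem, fun _ _ hf => by cases hf; exact ⟨𝟙 _, Category.id_comp _⟩⟩
  obtain ⟨P', a', e₀, f, hps, hf⟩ := Groth.L19.TorsorPush.exists_push u P.act σ h hT
  refine ⟨⟨P', a', hps, _, hmem, fun _ _ hf' => by cases hf'; exact ⟨e₀.left, Over.w e₀⟩⟩, f, hf⟩

end Groth.Agent.S14540
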