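import Groth.Statements.S14541
import Groth.Agent.L09.Stack.QuotTriv
import Groth.Prelude.Def_QuotSh
import Mathlib.CategoryTheory.Sites.SubcanonicalOver
import Mathlib.AlgebraicGeometry.Sites.Fpqc

set_option autoImplicit false
set_option backward.isDefEq.respectTransparency false
set_option backward.isDefEq.respectTransparency.types false
universe u
open CategoryTheory MonoidalCategory CartesianMonoidalCategory MonObj GrpObj AlgebraicGeometry
open PrincBund

namespace Groth.Agent.S14541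

open Groth.L09.Stack Opposite in
theorem cover_mem {X : Scheme.{u}} (P : Over X)
    (hP : NonAbH1.IsLocallyTrivialFor Scheme.fpqcPrecoverage P) (T : Over X) :
    (Sieve.generate (Presieve.singleton (toUnit P))).pullback (toUnit T) ∈
      QuotSh.J Scheme.fpqcPrecoverage X T := by
  refine GrothendieckTopology.pullback_stable _ _ ?_
  obtain ⟨R, hR, hsec⟩ := hP
  rw [GrothendieckTopology.mem_over_iff]
  refine (Scheme.fpqcPrecoverage.toGrothendieck).superset_covering ?_
    (Precoverage.generate_mem_toGrothendieck hR)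
  rintro Y g ⟨Z, k, f, hf, rfl⟩
  obtain ⟨s, hs⟩ := hsec f hf
  rw [Sieve.overEquiv_iff]
  refine ⟨P, Over.homMk (k ≫ s) ?_, toUnit P, Presieve.singleton_self _, toUnit_unique _ _⟩
  show (k ≫ s) ≫ P.hom = (k ≫ f) ≫ 𝟙 X
  rw [Category.assoc, hs]
  exact (Category.comp_id _).symm

theorem exists_translate {X : Scheme.{u}} {J P : Over X} [GrpObj J] {a : AlgGrp.Action J P}
    (ha : NonAbH1.IsPseudoTorsorSch a) {W : Over X} (x y : W ⟶ P) :
    ∃ j : W ⟶ J, lift j y ≫ a.act = x := by
  have : IsIso (lift a.act (snd J P)) := ha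
  let w := lift x y ≫ inv (lift a.act (snd J P))
  have hw : w ≫ lift a.act (snd J P) = lift x y := by
    simp only [w, Category.assoc, IsIso.inv_hom_id, Category.comp_id]
  have h1 : w ≫ a.act = x := by simpa using hw =≫ fst P P
  have h2 : w ≫ snd J P = y := by simpa using hw =≫ snd P P
  refine ⟨w ≫ fst J P, ?_⟩
  rw [← h2, ← comp_lift, lift_fst_snd, Category.comp_id, h1]

theorem translate_unique {X : Scheme.{u}} {J P : Over X} [GrpObj J] {a : AlgGrp.Action J P}
    (ha : NonAbH1.IsPseudoTorsorSch a) {W : Over X} {j j' : W ⟶ J} {y : W ⟶ P}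
    (h : lift j y ≫ a.act = lift j' y ≫ a.act) : j = j' := by
  have : IsIso (lift a.act (snd J P)) := ha
  have h1 : lift j y ≫ lift a.act (snd J P) = lift j' y ≫ lift a.act (snd J P) := by
    rw [comp_lift, comp_lift, h, lift_snd, lift_snd]
  simpa using ((cancel_mono _).1 h1) =≫ fst J P

/-- Let X be a scheme, J, J' and J'' group schemes affine over X, with no flatness or finiteness
condition, u : J → J' and v : J' → J'' homomorphisms, P a J-torsor, P' a J'-torsor and P'' a
J''-torsor, all for the fpqc topology, q' : P → P' an X-morphism compatible with u and q'' : P → P''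
an X-morphism compatible with the composite homomorphism J → J' → J''. Then there is exactly one
X-morphism r : P' → P'' compatible with v whose composite with q' is q''. Taking v to be the
identity, the push forward of a torsor along u is unique up to unique isomorphism. -/
theorem result {X : Scheme.{u}}
    {J J' J'' : Over X} [GrpObj J] [GrpObj J'] [GrpObj J''] [IsAffineHom J.hom] [IsAffineHom J'.hom]
    [IsAffineHom J''.hom] (u : J ⟶ J') [IsMonHom u] (v : J' ⟶ J'') [IsMonHom v] {P P' P'' : Over X}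
    (a : AlgGrp.Action J P) (a' : AlgGrp.Action J' P') (a'' : AlgGrp.Action J'' P'')
    (hP : NonAbH1.IsTorsorFor Scheme.fpqcPrecoverage a)
    (hP' : NonAbH1.IsTorsorFor Scheme.fpqcPrecoverage a')
    (hP'' : NonAbH1.IsTorsorFor Scheme.fpqcPrecoverage a'')
    (q' : P ⟶ P') (hq' : a.act ≫ q' = lift (fst J P ≫ u) (snd J P ≫ q') ≫ a'.act)
    (q'' : P ⟶ P'') (hq'' : a.act ≫ q'' = lift (fst J P ≫ u ≫ v) (snd J P ≫ q'') ≫ a''.act) :
    ∃! r : P' ⟶ P'', a'.act ≫ r = lift (fst J' P' ≫ v) (snd J' P' ≫ r) ≫ a''.act ∧ q' ≫ r = q'' := by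
  have hvm : ∀ {W : Over X} (x y : W ⟶ J'), (x * y) ≫ v = (x ≫ v) * (y ≫ v) := fun x y => by
    simp only [Hom.mul_def, Category.assoc, IsMonHom.mul_hom, MonObj.comp_mul]
    rw [← Category.assoc]
    congr 1
    apply CartesianMonoidalCategory.hom_ext <;> simp
  have hq₁ : ∀ {W : Over X} (j : W ⟶ J) (p : W ⟶ P),
      (lift j p ≫ a.act) ≫ q' = lift (j ≫ u) (p ≫ q') ≫ a'.act := fun j p => by
    rw [Category.assoc, hq', ← Category.assoc, comp_lift, lift_fst_assoc, lift_snd_assoc]
  have hq₂ : ∀ {W : Over X} (j : W ⟶ J) (p : W ⟶ P),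
      (lift j p ≫ a.act) ≫ q'' = lift (j ≫ u ≫ v) (p ≫ q'') ≫ a''.act := fun j p => by
    rw [Category.assoc, hq'', ← Category.assoc, comp_lift, lift_fst_assoc, lift_snd_assoc]
  -- the value of the map on points lifting to `P`
  choose jj hjj using fun (W : Over X) (g : W ⟶ P') (p : W ⟶ P) => exists_translate hP'.1 g (p ≫ q')
  let val : ∀ (W : Over X), (W ⟶ P') → (W ⟶ P) → (W ⟶ P'') := fun W g p =>
    lift (jj W g p ≫ v) (p ≫ q'') ≫ a''.act
  have hval : ∀ {W : Over X} (g : W ⟶ P') (p p₂ : W ⟶ P) (j : W ⟶ J'), lift j (p₂ ≫ q') ≫ a'.act = g →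
      val W g p = lift (j ≫ v) (p₂ ≫ q'') ≫ a''.act := by
    intro W g p p₂ j hj
    obtain ⟨k, hk⟩ := exists_translate hP.1 p p₂
    have e : jj W g p * (k ≫ u) = j := by
      refine translate_unique hP'.1 (y := p₂ ≫ q') ?_
      rw [Groth.L09.Stack.lift_mul_act, ← hq₁, hk, hjj, hj]
    show lift (jj W g p ≫ v) (p ≫ q'') ≫ a''.act = _
    have hp : p ≫ q'' = lift (k ≫ u ≫ v) (p₂ ≫ q'') ≫ a''.act := by rw [← hq₂, hk]
    rw [hp, ← Groth.L09.Stack.lift_mul_act, ← e, hvm, Category.assoc]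
  have hsheaf := GrothendieckTopology.Subcanonical.isSheaf_of_isRepresentable
    (J := QuotSh.J Scheme.fpqcPrecoverage X) (yoneda.obj P'')
  let Sv := (Sieve.generate (Presieve.singleton (toUnit P))).pullback (toUnit P')
  have hSv : ∀ {W : Over X} (g : W ⟶ P'), Sv.arrows g ↔ Nonempty (W ⟶ P) := fun {W} g => by
    constructor
    · rintro ⟨_, p, _, ⟨⟩, -⟩
      exact ⟨p⟩
    · rintro ⟨p⟩
      exact ⟨P, p, toUnit P, Presieve.singleton_self _, toUnit_unique _ _⟩
  have hS := hsheaf Sv (cover_mem P hP.2 P')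
  let fam : Presieve.FamilyOfElements (yoneda.obj P'') Sv.arrows := fun W g hg =>
    val W g ((hSv g).1 hg).some
  have hfam : fam.Compatible := by
    rw [Presieve.compatible_iff_sieveCompatible]
    intro W Z g h hg
    show val Z (h ≫ g) _ = h ≫ val W g _
    rw [hval (h ≫ g) _ (h ≫ ((hSv g).1 hg).some) (h ≫ jj W g _) (by
      rw [Category.assoc, ← comp_lift, Category.assoc, hjj])]
    simp only [val]
    rw [← Category.assoc h (lift _ _), comp_lift]
    simp only [Category.assoc]
  obtain ⟨r, hr, hru⟩ := hS fam hfam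
  have hr' : ∀ {W : Over X} (g : W ⟶ P') (p : W ⟶ P) (j : W ⟶ J'), lift j (p ≫ q') ≫ a'.act = g →
      g ≫ r = lift (j ≫ v) (p ≫ q'') ≫ a''.act := fun {W} g p j hj =>
    (hr g ((hSv g).2 ⟨p⟩)).trans (hval g _ p j hj)
  refine ⟨r, ⟨?_, ?_⟩, ?_⟩
  · refine (hsheaf ((Sieve.generate (Presieve.singleton (toUnit P))).pullback (toUnit (J' ⊗ P')))
      (cover_mem P hP.2 _)).isSeparatedFor.ext ?_
    rintro W g ⟨_, p, _, ⟨⟩, -⟩
    show g ≫ a'.act ≫ r = g ≫ lift (fst J' P' ≫ v) (snd J' P' ≫ r) ≫ a''.act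
    obtain ⟨j, hj⟩ := exists_translate hP'.1 (g ≫ snd J' P') (p ≫ q')
    have hg : g = lift (g ≫ fst J' P') (g ≫ snd J' P') := by simp
    have h1 := hr' (g ≫ a'.act) p (g ≫ fst J' P' * j) (by
      rw [Groth.L09.Stack.lift_mul_act, hj, ← hg])
    rw [← Category.assoc, h1, hvm, Groth.L09.Stack.lift_mul_act, ← hr' _ p j hj]
    rw [← Category.assoc g (lift _ _), comp_lift, Category.assoc, Category.assoc]
  · have h := hr' q' (𝟙 P) 1 (by rw [Category.id_comp, Groth.L09.Stack.lift_one_act])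
    rw [h, Category.id_comp, Hom.one_def, Category.assoc, IsMonHom.one_hom, ← Hom.one_def,
      Groth.L09.Stack.lift_one_act]
  · rintro r₂ ⟨hr₂, hq₂'⟩
    refine hru r₂ fun W g hg => ?_
    show g ≫ r₂ = _
    obtain ⟨p⟩ := (hSv g).1 hg
    show _ = val W g _
    rw [hval g _ p (jj W g p) (hjj W g p)]
    conv_lhs => rw [← hjj W g p, Category.assoc, hr₂, ← Category.assoc, comp_lift]
    simp [hq₂']

end Groth.Agent.S14541
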