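import Groth.Statements.S6003
-- import your own Groth.Agent.* helpers here

import Groth.Agent.L09.TorsorSch

set_option autoImplicit false
universe u
open CategoryTheory AlgebraicGeometry
open SGA1

namespace Groth.Agent.S6003

/-- Let G be an S-group scheme which is flat and quasi-compact over S and let G act on the S-scheme X.
Then X is a principal homogeneous bundle under G (a pseudo-torsor which acquires sections on the
members of some fpqc covering family of S) if and only if X is formally principal homogeneous (a
pseudo-torsor) and the structure morphism X → S is faithfully flat and quasi-compact. -/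
theorem result {S : Scheme.{u}}
    (G X : Over S) [GrpObj G] [Flat G.hom] [QuasiCompact G.hom] (a : AlgGrp.Action G X) :
    NonAbH1.IsTorsorFor Scheme.fpqcPrecoverage a ↔
      (NonAbH1.IsPseudoTorsorSch a ∧ Surjective X.hom ∧ Flat X.hom ∧ QuasiCompact X.hom) := by
  haveI := Groth.L25.Actions.descendsAlong_flat_fpqc.{u}
  constructor
  · intro h
    exact ⟨h.1, Groth.L09.TorsorSch.of_grp @Surjective a h (Groth.L25.Actions.surjective_grp G),
      Groth.L09.TorsorSch.of_grp @Flat a h ‹_›, Groth.L09.TorsorSch.of_grp @QuasiCompact a h ‹_›⟩
  · rintro ⟨h, h1, h2, h3⟩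
    refine ⟨h, Presieve.singleton X.hom, Scheme.Hom.singleton_mem_fpqcPrecoverage _, ?_⟩
    rintro _ _ ⟨⟩
    exact ⟨𝟙 _, Category.id_comp _⟩

end Groth.Agent.S6003
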