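import Groth.Statements.S16029
import Groth.Agent.L13.AffineDominant

set_option autoImplicit false
universe u
open CategoryTheory CategoryTheory.Limits AlgebraicGeometry MonoidalCategory MonObj
open GrpSch

namespace Groth.Agent.S16029

/-- Over a field k, let G be a group scheme of finite type, G' an affine group scheme and u : G ⟶ G' a
homomorphism which is schematically dominant (its kernel ideal sheaf vanishes). Then u is faithfully
flat and G' is of finite type over k. -/
theorem result
    (k : Type u) [Field k] (G G' : Over (Spec (CommRingCat.of k))) [GrpObj G] [GrpObj G']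
    [LocallyOfFiniteType G.hom] [QuasiCompact G.hom] [IsAffine G'.left]
    (u : G ⟶ G') [IsMonHom u] (hdom : u.left.ker = ⊥) :
    Flat u.left ∧ Surjective u.left ∧ LocallyOfFiniteType G'.hom := by
  haveI := Groth.L08.AffHull.compactSpace (G := G)
  haveI : QuasiCompact u.left := by
    haveI : QuasiCompact (u.left ≫ G'.hom) := by rw [Over.w u]; infer_instance
    exact QuasiCompact.of_comp u.left G'.hom
  have hu : Function.Injective u.left.appTop := by
    have h := Scheme.Hom.ker_apply u.left ⟨⊤, isAffineOpen_top _⟩
    rw [hdom] at h
    exact (RingHom.injective_iff_ker_eq_bot (u.left.app ⊤).hom).mpr (by simpa using h.symm)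
  obtain ⟨h1, h2, h3, -⟩ := Groth.Agent.L13.AffineDominant.affine_dominant_props u hu
  exact ⟨h3, h2, h1⟩

end Groth.Agent.S16029
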