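import Groth.Statements.S16121
import Groth.Agent.L20.Rational.Main
import Groth.Agent.L20.Rational.Away
import Groth.Agent.L24.TorusField.SplitTriv
import Mathlib.AlgebraicGeometry.AffineSpace

set_option autoImplicit false
universe u
open CategoryTheory MonoidalCategory CartesianMonoidalCategory MonObj GrpObj AlgebraicGeometry CategoryTheory.Limits
open AlgGrp

set_option backward.isDefEq.respectTransparency.types false
namespace Groth.Agent.S16121

/-- Over an algebraically closed field k, a connected linear algebraic group G (an affine, smooth,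
connected k-group scheme) is a rational variety: there are a nonempty open subscheme U of G, an n,
an open subscheme V of the affine space 𝔸ⁿ_k and an isomorphism U ≅ V compatible with the structure
morphisms to Spec k. -/
theorem result (k : Type u) [Field k] [IsAlgClosed k]
    (G : Over (Spec (CommRingCat.of k))) [GrpObj G] [IsAffine G.left] [Smooth G.hom] [ConnectedSpace ↥G.left] :
    ∃ (U : G.left.Opens) (n : ℕ) (V : (𝔸(ULift.{u} (Fin n); Spec (CommRingCat.of k))).Opens)
      (e : (U : Scheme.{u}) ≅ (V : Scheme.{u})), (U : Set ↥G.left).Nonempty ∧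
        e.hom ≫ V.ι ≫ (𝔸(ULift.{u} (Fin n); Spec (CommRingCat.of k)) ↘ Spec (CommRingCat.of k)) = U.ι ≫ G.hom := by
  classical
  obtain ⟨A, _, _, ⟨eG⟩⟩ := Groth.L25.Bridge.exists_hopf G
  let P := Groth.L25.Bridge.P k A
  let φ : P ⟶ G := eG.inv.hom.hom
  let ψ : G ⟶ P := eG.hom.hom.hom
  have h1 : φ ≫ ψ = 𝟙 _ := congrArg (fun f => f.hom.hom) eG.inv_hom_id
  have h2 : ψ ≫ φ = 𝟙 G := congrArg (fun f => f.hom.hom) eG.hom_inv_id
  haveI : IsIso φ := ⟨ψ, h1, h2⟩
  haveI : IsIso ψ := ⟨φ, h2, h1⟩
  haveI : IsIso ψ.left := inferInstanceAs (IsIso ((Over.forget _).map ψ))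
  haveI : IsIso φ.left := inferInstanceAs (IsIso ((Over.forget _).map φ))
  haveI : Smooth P.hom := by rw [← Over.w φ]; infer_instance
  haveI : ConnectedSpace P.left := ψ.left.homeomorph.surjective.connectedSpace ψ.left.homeomorph.continuous
  haveI : IsDomain A := Groth.L24.TorusField.isDomain_of_smooth_connected (k := k)
  haveI : Algebra.FiniteType k A := by
    have hft : LocallyOfFiniteType P.hom := inferInstance
    change LocallyOfFiniteType (Spec.map (CommRingCat.ofHom (algebraMap k A))) at hft
    rwa [HasRingHomProperty.Spec_iff (P := @LocallyOfFiniteType), CommRingCat.hom_ofHom,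
      RingHom.finiteType_algebraMap] at hft
  obtain ⟨n, ⟨E⟩⟩ := Groth.L20.Rational.rat_of_isDomain (k := k) A
  let M := MvPolynomial (ULift.{u} (Fin n)) k
  let ρ : M ≃ₐ[k] MvPolynomial (Fin n) k := MvPolynomial.renameEquiv k Equiv.ulift
  obtain ⟨E'⟩ := Groth.L20.Rational.fracEquiv_congr ρ
  let K := FractionRing M
  let iA : A →ₐ[k] K := ((E.trans E'.symm).toAlgHom).comp (IsScalarTower.toAlgHom k A (FractionRing A))
  let kM : M →ₐ[k] K := IsScalarTower.toAlgHom k M K
  obtain ⟨a, b, ha, -, ⟨ε⟩⟩ := Groth.L20.Rational.exists_away_equiv iA kM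
    ((E.trans E'.symm).injective.comp (IsFractionRing.injective A (FractionRing A)))
    (IsFractionRing.injective M K)
    (fun z => by
      obtain ⟨x, s, hs, hz⟩ := IsFractionRing.div_surjective (A := A) ((E.trans E'.symm).symm z)
      refine ⟨x, s, nonZeroDivisors.ne_zero hs, ?_⟩
      show z * (E.trans E'.symm) (algebraMap A _ s) = (E.trans E'.symm) (algebraMap A _ x)
      conv_lhs => rw [← (E.trans E'.symm).apply_symm_apply z, ← map_mul, ← hz,
        div_mul_cancel₀ _ (IsFractionRing.to_map_ne_zero_of_mem_nonZeroDivisors hs)])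
    (fun z => by
      obtain ⟨x, s, hs, rfl⟩ := IsFractionRing.div_surjective (A := M) z
      exact ⟨x, s, nonZeroDivisors.ne_zero hs,
        div_mul_cancel₀ _ (IsFractionRing.to_map_ne_zero_of_mem_nonZeroDivisors hs)⟩)
  let jA : Spec (CommRingCat.of (Localization.Away a)) ⟶ Spec (CommRingCat.of A) :=
    Spec.map (CommRingCat.ofHom (algebraMap A (Localization.Away a)))
  let jM : Spec (CommRingCat.of (Localization.Away b)) ⟶ Spec (CommRingCat.of M) :=
    Spec.map (CommRingCat.ofHom (algebraMap M (Localization.Away b)))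
  haveI : IsOpenImmersion jA := IsOpenImmersion.of_isLocalization a
  haveI : IsOpenImmersion jM := IsOpenImmersion.of_isLocalization b
  let φl : Spec (CommRingCat.of A) ⟶ G.left := φ.left
  haveI : IsIso φl := ‹IsIso φ.left›
  let f := jA ≫ φl
  let si := AffineSpace.SpecIso (ULift.{u} (Fin n)) (CommRingCat.of k)
  let g := jM ≫ si.inv
  let eS : Spec (CommRingCat.of (Localization.Away a)) ≅ Spec (CommRingCat.of (Localization.Away b)) :=
    Scheme.Spec.mapIso ε.toRingEquiv.toCommRingCatIso.symm.op
  refine ⟨f.opensRange, n, g.opensRange, f.isoOpensRange.symm ≪≫ eS ≪≫ g.isoOpensRange, ?_, ?_⟩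
  · haveI : Nontrivial (Localization.Away a) := (IsLocalization.injective (Localization.Away a)
      (powers_le_nonZeroDivisors_of_noZeroDivisors ha)).nontrivial
    obtain ⟨x⟩ := (inferInstance : Nonempty (PrimeSpectrum (Localization.Away a)))
    exact ⟨f.base x, x, rfl⟩
  · have key : eS.hom ≫ g ≫ (𝔸(ULift.{u} (Fin n); Spec (CommRingCat.of k)) ↘ Spec (CommRingCat.of k)) =
        f ≫ G.hom := by
      show Spec.map (CommRingCat.ofHom (ε.symm.toRingEquiv.toRingHom)) ≫ (jM ≫ si.inv) ≫ _ = (jA ≫ φl) ≫ G.hom
      rw [Category.assoc, AffineSpace.SpecIso_inv_over, Category.assoc,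
        show φl ≫ G.hom = Spec.map (CommRingCat.ofHom (algebraMap k A)) from Over.w φ]
      rw [← Spec.map_comp, ← Spec.map_comp, ← Spec.map_comp]
      congr 1
      ext c
      show ε.symm (algebraMap M (Localization.Away b) (algebraMap k M c)) = algebraMap A _ (algebraMap k A c)
      rw [← IsScalarTower.algebraMap_apply, ← IsScalarTower.algebraMap_apply, AlgEquiv.commutes]
    simp only [Iso.trans_hom, Iso.symm_hom, Category.assoc, Scheme.Hom.isoOpensRange_hom_ι_assoc]
    rw [key, Scheme.Hom.isoOpensRange_inv_comp_assoc]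


end Groth.Agent.S16121
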