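import Groth.Statements.S4791
import Groth.Agent.L19.LimMod.Free

set_option autoImplicit false
set_option backward.isDefEq.respectTransparency.types false
set_option backward.isDefEq.respectTransparency false
set_option linter.style.haveILetI false
universe u
open CategoryTheory AlgebraicGeometry
open Lim8

namespace Groth.Agent.S4791

/-- Let S = lim S_i be a cofiltered limit of schemes with affine transition maps, S_{i₀} a quasi-compact
stage and F₀ a quasi-coherent O-module of finite presentation on S_{i₀}. Then the pullback of F₀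
along S ⟶ S_{i₀} is (finite) locally free if and only if, for some index j over i₀, the pullback of
F₀ along S_j ⟶ S_{i₀} is locally free. This is the case of locally free modules. -/
theorem result {I : Type u} [SmallCategory I] [IsCofiltered I]
    (D : I ⥤ Scheme.{u}) (c : Limits.Cone D) (hc : Limits.IsLimit c)
    [∀ (i j : I) (f : i ⟶ j), IsAffineHom (D.map f)] (i₀ : I) [CompactSpace (D.obj i₀)]
    (F₀ : (D.obj i₀).Modules) [Coh.IsQCoh F₀] (hF₀fp : CohB1.IsFP F₀) :
    FlatMod.IsFinLocFree ((Scheme.Modules.pullback (c.π.app i₀)).obj F₀) ↔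
      ∃ (j : I) (φ : j ⟶ i₀), FlatMod.IsFinLocFree ((Scheme.Modules.pullback (D.map φ)).obj F₀) := by
  constructor
  · intro h
    obtain ⟨j, φ, hj⟩ := Groth.L19.LimMod.exists_locFree D c hc hF₀fp (fun _ => True) (fun x => by
      obtain ⟨U, n, hx, hU⟩ := h x
      exact ⟨U, n, trivial, hx, hU⟩)
    refine ⟨j, φ, fun x => ?_⟩
    obtain ⟨U, n, -, hx, hU⟩ := hj x
    exact ⟨U, n, hx, hU⟩
  · rintro ⟨j, φ, h⟩ x
    obtain ⟨U, n, -, hx, hU⟩ := Groth.L19.LimMod.locFree_π D c (fun _ => True) φ (F := F₀) (fun y => by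
      obtain ⟨U, n, hy, hU⟩ := h y
      exact ⟨U, n, trivial, hy, hU⟩) x
    exact ⟨U, n, hx, hU⟩

end Groth.Agent.S4791
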