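import Groth.Statements.S16074
import Groth.Agent.L08.AlphaPBasic

set_option autoImplicit false
universe u
open Hopf

namespace Groth.Agent.S16074
open Groth.L08.AlphaPBasic

/-- Let p be a prime and R a commutative ring of characteristic p (p = 0 in R, R nonzero). Then μ_p and
α_p over Spec R are not isomorphic: there is no R-bialgebra isomorphism between the group algebra
R[ℤ/p] of the cyclic group of order p (group elements group-like) and the Hopf algebra R[X]/(X^p) of
α_p (X primitive), although the underlying R-algebras R[ℤ/p] = R[Y]/(Y^p) and R[X]/(X^p) are
isomorphic. (Any nonzero commutative base ring of characteristic p is allowed. The published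
statement allows any ring R with p·R = 0; over the zero ring both Hopf algebras are the zero ring
and hence isomorphic, so R is assumed nonzero here.) -/
theorem result (p : ℕ) [Fact p.Prime] (R : Type u) [CommRing R] [CharP R p] :
    IsEmpty (MonoidAlgebra R (Multiplicative (ZMod p)) ≃ₐc[R] AlphaP.A p R) := by
  haveI : Nontrivial R := CharP.nontrivial_of_char_ne_one (Fact.out : p.Prime).one_lt.ne'
  refine ⟨fun e => ?_⟩
  have hnil : ∀ f : MonoidAlgebra R (Multiplicative (ZMod p)), IsNilpotent (δ p R (e f)) := by
    intro f
    induction f using MonoidAlgebra.induction_linear with
    | zero => simp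
    | add a b ha hb => rw [map_add, map_add]; exact (Commute.all _ _).isNilpotent_add ha hb
    | single g c =>
      have h1 : IsNilpotent (δ p R (e (MonoidAlgebra.single g 1))) := by
        refine isNilpotent_δ_groupLike p R ?_ ?_
        · rw [CoalgHomClass.counit_comp_apply]; simp
        · rw [← CoalgHomClass.map_comp_comul_apply]; simp
      rw [show MonoidAlgebra.single g c = c • MonoidAlgebra.single g (1 : R) by simp, map_smul, map_smul,
        smul_eq_mul]
      exact (Commute.all _ _).isNilpotent_mul_left h1
  have := hnil (e.symm (AlphaP.x p R))
  rw [BialgEquiv.apply_symm_apply, δ_x] at this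
  exact not_isNilpotent_one this

end Groth.Agent.S16074
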