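import Groth.Statements.S14602
import Groth.Agent.L19.SpecSub.SemiabField
import Groth.Agent.S8004

set_option autoImplicit false
set_option backward.isDefEq.respectTransparency.types false
universe u
open CategoryTheory MonoidalCategory CartesianMonoidalCategory MonObj GrpObj AlgebraicGeometry CategoryTheory.Limits
open AlgGrp

namespace Groth.Agent.S14602

/-- Let k be a field and G a commutative k-group scheme of finite type. Then G has a largest
semi-abelian subvariety: a closed subgroup scheme s : S → G which is an extension of a proper smooth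
connected k-group scheme by a torus, through which every other such closed subgroup scheme of G
factors; and (G/S)_sab is trivial: for every flat surjective homomorphism q : G → Q of k-group
schemes of finite type with kernel S, every semi-abelian closed subgroup scheme of Q is the trivial
group. -/
theorem result (k : Type u) [Field k]
    (G : Over (Spec (CommRingCat.of k))) [GrpObj G] [IsCommMonObj G] [LocallyOfFiniteType G.hom] [QuasiCompact G.hom] :
    ∃ (S : Over (Spec (CommRingCat.of k))) (_ : GrpObj S) (s : S ⟶ G), IsMonHom s ∧ IsClosedImmersion s.left ∧ (∃ (T : Over (Spec (CommRingCat.of k))) (_ : GrpObj T) (i : T ⟶ S) (A : Over (Spec (CommRingCat.of k))) (_ : GrpObj A) (q : S ⟶ A),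
        IsMonHom i ∧ IsClosedImmersion i.left ∧ Red.IsTorus T ∧ IsMonHom q ∧ Surjective q.left ∧ Flat q.left ∧
        AlgGrp.IsKernel i q ∧ IsProper A.hom ∧ Smooth A.hom ∧ ConnectedSpace ↥A.left) ∧
      (∀ (S' : Over (Spec (CommRingCat.of k))) [GrpObj S'] (s' : S' ⟶ G) [IsMonHom s'] [IsClosedImmersion s'.left],
        (∃ (T : Over (Spec (CommRingCat.of k))) (_ : GrpObj T) (i : T ⟶ S') (A : Over (Spec (CommRingCat.of k))) (_ : GrpObj A) (q : S' ⟶ A),
        IsMonHom i ∧ IsClosedImmersion i.left ∧ Red.IsTorus T ∧ IsMonHom q ∧ Surjective q.left ∧ Flat q.left ∧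
        AlgGrp.IsKernel i q ∧ IsProper A.hom ∧ Smooth A.hom ∧ ConnectedSpace ↥A.left) → ∃ g : S' ⟶ S, g ≫ s = s') ∧
      (∀ (Q : Over (Spec (CommRingCat.of k))) [GrpObj Q] [LocallyOfFiniteType Q.hom] [QuasiCompact Q.hom] (q : G ⟶ Q) [IsMonHom q]
        [Surjective q.left] [Flat q.left], AlgGrp.IsKernel s q →
        ∀ (S'' : Over (Spec (CommRingCat.of k))) [GrpObj S''] (s'' : S'' ⟶ Q) [IsMonHom s''] [IsClosedImmersion s''.left],
          (∃ (T : Over (Spec (CommRingCat.of k))) (_ : GrpObj T) (i : T ⟶ S'') (A : Over (Spec (CommRingCat.of k))) (_ : GrpObj A) (q : S'' ⟶ A),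
        IsMonHom i ∧ IsClosedImmersion i.left ∧ Red.IsTorus T ∧ IsMonHom q ∧ Surjective q.left ∧ Flat q.left ∧
        AlgGrp.IsKernel i q ∧ IsProper A.hom ∧ Smooth A.hom ∧ ConnectedSpace ↥A.left) → IsIso η[S'']) := by
  have hN : ∀ {X : Over (Spec (CommRingCat.of k))} [GrpObj X] (j : X ⟶ G), AlgGrp.IsNormalHom j :=
    fun j Y g n => ⟨n, by rw [mul_comm g, mul_inv_cancel_right]⟩
  have hu : IsClosedImmersion η[G].left := by
    haveI := Groth.L08.AbelianGrp.isSeparated G
    have hw : η[G].left ≫ G.hom = 𝟙 _ := Over.w η[G]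
    haveI : IsClosedImmersion (η[G].left ≫ G.hom) := by rw [hw]; infer_instance
    exact IsClosedImmersion.of_comp η[G].left G.hom
  haveI := hu
  obtain ⟨S, _, s, hs, hsc, -, -, -, hSP, hmax, hquot⟩ := Groth.Agent.S8004.result k
    (fun E inst => @Groth.L19.SpecSub.IsSemiab k _ E inst)
    (fun N E Q _ _ _ _ _ _ _ _ _ i q _ _ _ _ hker hN hQ => Groth.L19.SpecSub.IsSemiab.of_extension i q hker hN hQ)
    (fun E Q _ _ _ _ _ _ q _ _ _ h => Groth.L19.SpecSub.IsSemiab.of_surjective q h) G
    ⟨𝟙_ _, inferInstance, η[G], inferInstance, hu, inferInstanceAs (Smooth (𝟙 _)),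
      inferInstanceAs (ConnectedSpace (PrimeSpectrum k)), hN _, Groth.L19.SpecSub.isSemiab_unit⟩
  haveI := hs; haveI := hsc
  refine ⟨S, inferInstance, s, hs, hsc, hSP, ?_, ?_⟩
  · intro S' _ s' _ _ h'
    haveI : LocallyOfFiniteType S'.hom := by rw [← Over.w s']; infer_instance
    haveI : QuasiCompact S'.hom := by rw [← Over.w s']; infer_instance
    have hP : Groth.L19.SpecSub.IsSemiab S' := h'
    exact hmax S' s' ‹_› hP.smooth hP.connected (hN _) hP
  · intro Q _ _ _ q _ _ _ hker S'' _ s'' _ _ h''
    haveI : LocallyOfFiniteType S''.hom := by rw [← Over.w s'']; infer_instance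
    haveI : QuasiCompact S''.hom := by rw [← Over.w s'']; infer_instance
    have hP : Groth.L19.SpecSub.IsSemiab S'' := h''
    haveI : IsCommMonObj Q := by
      haveI : LocallyOfFinitePresentation q.left := Groth.L19.SpecSub.lfp_hom_field q
      exact Groth.L08.AbelianGrp.isCommMonObj_of_cover q
    exact hquot Q q hker S'' s'' ‹_› hP.smooth hP.connected
      (fun Y g n => ⟨n, by rw [mul_comm g, mul_inv_cancel_right]⟩) hP

end Groth.Agent.S14602
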