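import Groth.Statements.S14594
import Groth.Agent.L19.SpecSub.SemiabCrit
import Groth.Agent.S14592

set_option autoImplicit false
set_option backward.isDefEq.respectTransparency.types false
universe u
open CategoryTheory MonoidalCategory CartesianMonoidalCategory MonObj GrpObj AlgebraicGeometry CategoryTheory.Limits
open AlgGrp

namespace Groth.Agent.S14594

/-- Let k be a field, G a smooth connected k-group scheme of finite type and f : G → H an isogeny onto a
k-group scheme of finite type H, i.e. a surjective homomorphism whose kernel N is finite. If H is a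
semi-abelian variety (an extension of a proper smooth connected k-group scheme by a torus), then G
is a semi-abelian variety. -/
theorem result (k : Type u) [Field k]
    (G H : Over (Spec (CommRingCat.of k))) [GrpObj G] [GrpObj H] [Smooth G.hom] [QuasiCompact G.hom] [ConnectedSpace ↥G.left]
    [LocallyOfFiniteType H.hom] [QuasiCompact H.hom] (f : G ⟶ H) [IsMonHom f] [Surjective f.left]
    (N : Over (Spec (CommRingCat.of k))) [GrpObj N] (n : N ⟶ G) [IsMonHom n] [IsClosedImmersion n.left] [IsFinite N.hom]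
    (hker : AlgGrp.IsKernel n f) (hH : (∃ (T : Over (Spec (CommRingCat.of k))) (_ : GrpObj T) (i : T ⟶ H) (A : Over (Spec (CommRingCat.of k))) (_ : GrpObj A) (q : H ⟶ A),
        IsMonHom i ∧ IsClosedImmersion i.left ∧ Red.IsTorus T ∧ IsMonHom q ∧ Surjective q.left ∧ Flat q.left ∧
        AlgGrp.IsKernel i q ∧ IsProper A.hom ∧ Smooth A.hom ∧ ConnectedSpace ↥A.left)) :
    (∃ (T : Over (Spec (CommRingCat.of k))) (_ : GrpObj T) (i : T ⟶ G) (A : Over (Spec (CommRingCat.of k))) (_ : GrpObj A) (q : G ⟶ A),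
        IsMonHom i ∧ IsClosedImmersion i.left ∧ Red.IsTorus T ∧ IsMonHom q ∧ Surjective q.left ∧ Flat q.left ∧
        AlgGrp.IsKernel i q ∧ IsProper A.hom ∧ Smooth A.hom ∧ ConnectedSpace ↥A.left) := by
  let K := AlgebraicClosure k
  let t := AbVar.ext k K
  obtain ⟨T, _, i, A, _, q, hi, hic, hT, hq, hqs, hqf, hkq, hAp, hAs, hAc⟩ :=
    (Groth.L19.SpecSub.IsSemiab.bc (G := H) hH K)
  haveI := hi; haveI := hq; haveI := hAp
  haveI : Smooth (Red.bc t G).hom := MorphismProperty.pullback_snd _ _ ‹Smooth G.hom›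
  haveI : QuasiCompact (Red.bc t G).hom := MorphismProperty.pullback_snd _ _ ‹QuasiCompact G.hom›
  haveI : ConnectedSpace ↥(Red.bc t G).left := Groth.L08.ChevPerf.connectedSpace_bc G
  haveI : IsFinite (Red.bc t N).hom := MorphismProperty.pullback_snd _ _ ‹IsFinite N.hom›
  obtain ⟨F, hFm, hkn⟩ : ∃ F : Red.bc t G ⟶ Red.bc t H, IsMonHom F ∧ AlgGrp.IsKernel ((Over.pullback t).map n) F :=
    ⟨(Over.pullback t).map f, inferInstance, Groth.L08.SmallNorm.isKernel_bc t hker⟩
  haveI := hFm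
  refine Groth.Agent.S14592.result k G ((Groth.Agent.S14585.result K (Red.bc t G)).2 fun f => ?_)
  let e := Groth.L19.SpecSub.lineIso K
  obtain ⟨g, hg⟩ : ∃ g, g = (e.hom ≫ f) * (toUnit _ ≫ Groth.L08.P1Hom.lineAt K 0 ≫ e.hom ≫ f)⁻¹ := ⟨_, rfl⟩
  have hgF : g ≫ F = 1 := by
    have hc := Groth.L19.SpecSub.const_of_semiabelian i hT q hkq ((e.hom ≫ f) ≫ F)
    rw [hg, MonObj.mul_comp, GrpObj.inv_comp]
    simp only [Category.assoc] at hc ⊢
    rw [← hc, mul_inv_cancel]
  obtain ⟨h, hh⟩ : ∃ h, h ≫ (Over.pullback t).map n = g := ⟨_, hkn.lift_fst g (toUnit _) (by rw [hgF, Hom.one_def])⟩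
  have hz : Groth.L08.P1Hom.lineAt K 0 ≫ g = 1 := by
    rw [hg, MonObj.comp_mul, GrpObj.comp_inv, ← Category.assoc (Groth.L08.P1Hom.lineAt K 0) (toUnit _),
      Subsingleton.elim (Groth.L08.P1Hom.lineAt K 0 ≫ toUnit _) (𝟙 _), Category.id_comp, mul_inv_cancel]
  have h1 : g = 1 := by
    rw [← hh, Groth.L19.SpecSub.const_of_finite h]
    simp only [Category.assoc]
    rw [hh, hz, MonObj.comp_one]
  rw [hg] at h1
  refine ⟨Groth.L08.P1Hom.lineAt K 0 ≫ e.hom ≫ f, (cancel_epi e.hom).1 ((mul_inv_eq_one.1 h1).trans ?_)⟩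
  rw [← Category.assoc e.hom (toUnit _), Subsingleton.elim (e.hom ≫ toUnit _) (toUnit _)]

end Groth.Agent.S14594
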