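import Groth.Statements.S5841
import Groth.Agent.L29.DCoh.QCohColim
import Groth.Agent.L16.QcqsPush

set_option autoImplicit false
set_option backward.isDefEq.respectTransparency.types false
set_option backward.isDefEq.respectTransparency false
set_option linter.style.haveILetI false
universe u
open ZClos

namespace Groth.Agent.S5841

open CategoryTheory CategoryTheory.Limits AlgebraicGeometry in
/-- For a locally Noetherian scheme X, a subset Z of X stable under specialization and a quasi-coherent
O_X-module F, the Z-closure H⁰_{X/Z}(F) is quasi-coherent. -/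
theorem result (X : Scheme.{u}) [IsLocallyNoetherian X] (Z : Set X)
    (hZ : StableUnderSpecialization Z) (F : X.Modules) (hF : Coh.IsQCoh F) :
    Coh.IsQCoh ((ZClos.H0 Z).obj F) := by
  refine Groth.L29.DC.QCohColim.isQCoh_colimit ((ZClos.diagram Z).obj F) (colimit.cocone _) (colimit.isColimit _) fun T => ?_
  haveI := hF
  haveI : Coh.IsQCoh (F.restrict T.U.ι) := Scheme.Modules.isQuasicoherent_restrictFunctor _ F
  haveI : QuasiCompact T.U.ι := inferInstance
  exact Groth.L16.QcqsPush.isQCoh_push (F.restrict T.U.ι) T.U.ι

end Groth.Agent.S5841
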