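import Groth.Statements.S5855
import Groth.Agent.L19.ZClos.Lift
import Groth.Agent.L20.ModStalk
import Groth.Agent.S5752
import Mathlib.RingTheory.Ideal.AssociatedPrime.Localization
set_option linter.style.haveILetI false
set_option backward.isDefEq.respectTransparency false
set_option backward.isDefEq.respectTransparency.types false
open TopologicalSpace


set_option autoImplicit false
universe u
open ZClos

namespace Groth.Agent.S5855

section Aux

open CategoryTheory AlgebraicGeometry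

variable {X : Scheme.{u}} [IsLocallyNoetherian X] (F : X.Modules) [Coh.IsQCoh F]

theorem germ_eq_zero {V : X.Opens} (hV : IsAffineOpen V) {y : X} (hy : y ∈ V) {s : Γ(X, V)}
    (hs : s ∉ (hV.primeIdealOf ⟨y, hy⟩).asIdeal) {m : Γ(F, V)} (h : s • m = 0) :
    F.presheaf.germ V y hy m = 0 := by
  letI := Groth.L20.ModStalk.stalkModule F hy
  haveI := Groth.L20.ModStalk.isLocalizedModule_germ F hV hy
  exact (IsLocalizedModule.eq_zero_iff (hV.primeIdealOf ⟨y, hy⟩).asIdeal.primeCompl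
    (Groth.L20.ModStalk.germₗ F hy)).2 ⟨⟨s, hs⟩, h⟩

theorem exists_smul_eq_zero {V : X.Opens} (hV : IsAffineOpen V) {y : X} (hy : y ∈ V) {m : Γ(F, V)}
    (h : F.presheaf.germ V y hy m = 0) :
    ∃ s : Γ(X, V), s ∉ (hV.primeIdealOf ⟨y, hy⟩).asIdeal ∧ s • m = 0 := by
  letI := Groth.L20.ModStalk.stalkModule F hy
  haveI := Groth.L20.ModStalk.isLocalizedModule_germ F hV hy
  obtain ⟨⟨s, hs⟩, hsm⟩ := (IsLocalizedModule.eq_zero_iff (hV.primeIdealOf ⟨y, hy⟩).asIdeal.primeCompl
    (Groth.L20.ModStalk.germₗ F hy)).1 h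
  exact ⟨s, hs, hsm⟩

theorem specializes_of_le {V : X.Opens} (hV : IsAffineOpen V) {a b : X} (ha : a ∈ V) (hb : b ∈ V)
    (h : (hV.primeIdealOf ⟨a, ha⟩).asIdeal ≤ (hV.primeIdealOf ⟨b, hb⟩).asIdeal) : a ⤳ b := by
  have := ((PrimeSpectrum.le_iff_specializes (hV.primeIdealOf ⟨a, ha⟩) (hV.primeIdealOf ⟨b, hb⟩)).1 h).map
    hV.fromSpec.continuous
  rwa [hV.fromSpec_primeIdealOf, hV.fromSpec_primeIdealOf] at this

theorem primeIdealOf_le {V : X.Opens} (hV : IsAffineOpen V) {a b : X} (ha : a ∈ V) (hb : b ∈ V)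
    (h : a ⤳ b) : (hV.primeIdealOf ⟨a, ha⟩).asIdeal ≤ (hV.primeIdealOf ⟨b, hb⟩).asIdeal := by
  refine (PrimeSpectrum.le_iff_specializes (hV.primeIdealOf ⟨a, ha⟩) (hV.primeIdealOf ⟨b, hb⟩)).2 ?_
  rw [← hV.fromSpec.isOpenEmbedding.isInducing.specializes_iff]
  show hV.fromSpec _ ⤳ hV.fromSpec _
  rwa [hV.fromSpec_primeIdealOf, hV.fromSpec_primeIdealOf]

omit [Coh.IsQCoh F] in
theorem depth_zero_iff (hF : Coh.IsCoh F) {V : X.Opens} (hV : IsAffineOpen V) {y : X} (hy : y ∈ V) :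
    LocCoh.depth (X.presheaf.stalk y) (F.presheaf.stalk y) = 0 ↔
      (hV.primeIdealOf ⟨y, hy⟩).asIdeal ∈ associatedPrimes Γ(X, V) Γ(F, V) := by
  haveI : Coh.IsQCoh F := hF.1
  haveI : IsNoetherianRing Γ(X, V) := IsLocallyNoetherian.component_noetherian ⟨V, hV⟩
  letI := X.presheaf.algebra_section_stalk ⟨y, hy⟩
  letI := Groth.L20.ModStalk.stalkModule F hy
  haveI := hV.isLocalization_stalk ⟨y, hy⟩
  haveI : IsScalarTower Γ(X, V) (X.presheaf.stalk y) (F.presheaf.stalk y) :=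
    IsScalarTower.of_algebraMap_smul fun _ _ => rfl
  haveI := Groth.L20.ModStalk.isLocalizedModule_germ F hV hy
  haveI := Groth.L20.ModStalk.finite_sections F hF hV
  let p := (hV.primeIdealOf ⟨y, hy⟩).asIdeal
  haveI : Module.Finite (X.presheaf.stalk y) (F.presheaf.stalk y) :=
    Module.Finite.of_isLocalizedModule p.primeCompl (Rₚ := X.presheaf.stalk y) (Groth.L20.ModStalk.germₗ F hy)
  rw [Groth.Agent.S5752.result (X.presheaf.stalk y) (F.presheaf.stalk y),
    ← Module.associatedPrimes.preimage_comap_associatedPrimes_eq_associatedPrimes_of_isLocalizedModule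
      p.primeCompl (X.presheaf.stalk y) (Groth.L20.ModStalk.germₗ F hy), Set.mem_preimage]
  exact iff_of_eq (congrArg (· ∈ associatedPrimes Γ(X, V) Γ(F, V))
    (IsLocalization.AtPrime.comap_maximalIdeal (X.presheaf.stalk y) p))

omit [Coh.IsQCoh F] in
theorem exists_colon_of_depth_zero (hF : Coh.IsCoh F) {V : X.Opens} (hV : IsAffineOpen V) {y : X} (hy : y ∈ V)
    (h : LocCoh.depth (X.presheaf.stalk y) (F.presheaf.stalk y) = 0) :
    ∃ m : Γ(F, V), ∀ s : Γ(X, V), s ∈ (hV.primeIdealOf ⟨y, hy⟩).asIdeal ↔ s • m = 0 := by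
  haveI : IsNoetherianRing Γ(X, V) := IsLocallyNoetherian.component_noetherian ⟨V, hV⟩
  obtain ⟨-, m, hm⟩ := isAssociatedPrime_iff.1 ((depth_zero_iff F hF hV hy).1 h)
  exact ⟨m, fun s => by rw [hm, Submodule.mem_colon_singleton, Submodule.mem_bot]⟩

theorem exists_depth_zero_point (hF : Coh.IsCoh F) {V : X.Opens} (hV : IsAffineOpen V) {x : X} (hx : x ∈ V)
    (m : Γ(F, V)) (hm : F.presheaf.germ V x hx m ≠ 0) :
    ∃ (y : X) (hy : y ∈ V), y ⤳ x ∧ F.presheaf.germ V y hy m ≠ 0 ∧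
      LocCoh.depth (X.presheaf.stalk y) (F.presheaf.stalk y) = 0 := by
  haveI : IsNoetherianRing Γ(X, V) := IsLocallyNoetherian.component_noetherian ⟨V, hV⟩
  let N := Submodule.span Γ(X, V) ({m} : Set Γ(F, V))
  haveI : Module.Finite Γ(X, V) N := Module.Finite.iff_fg.2 (Submodule.fg_span_singleton m)
  have hann : ∀ s : Γ(X, V), s ∈ Module.annihilator Γ(X, V) N ↔ s • m = 0 := fun s =>
    Submodule.mem_annihilator_span_singleton m s
  have hle : Module.annihilator Γ(X, V) N ≤ (hV.primeIdealOf ⟨x, hx⟩).asIdeal := fun s hs => by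
    by_contra hsx
    exact hm (germ_eq_zero F hV hx hsx ((hann s).1 hs))
  obtain ⟨q, hq, hqx⟩ := Ideal.exists_minimalPrimes_le hle
  haveI hqp : q.IsPrime := hq.1.1
  have hass : q ∈ associatedPrimes Γ(X, V) Γ(F, V) :=
    associatedPrimes.subset_of_injective N.injective_subtype
      (Module.associatedPrimes.minimalPrimes_annihilator_subset_associatedPrimes Γ(X, V) N hq)
  let y := hV.fromSpec ⟨q, hqp⟩
  have hy : y ∈ V := hV.range_fromSpec.le ⟨_, rfl⟩
  have hyq : (hV.primeIdealOf ⟨y, hy⟩).asIdeal = q :=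
    congrArg PrimeSpectrum.asIdeal
      (hV.fromSpec.isOpenEmbedding.injective (hV.fromSpec_primeIdealOf ⟨y, hy⟩))
  refine ⟨y, hy, specializes_of_le hV hy hx (hyq.trans_le hqx), fun h0 => ?_,
    (depth_zero_iff F hF hV hy).2 (hyq.symm ▸ hass)⟩
  obtain ⟨s, hs, hsm⟩ := exists_smul_eq_zero F hV hy h0
  exact hs (hyq.symm ▸ hq.1.2 ((hann s).2 hsm))

end Aux

open CategoryTheory CategoryTheory.Limits AlgebraicGeometry in
/-- For a locally Noetherian scheme X, a subset Z of X stable under specialization, a coherent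
O_X-module F and a point x, F is Z-pure at x (the map induced on stalks at x by ρ_{X/Z} : F →
H⁰_{X/Z}(F) is injective) if and only if the stalk F_{x'} has depth at least 1 over O_{X,x'} at
every generization x' of x lying in Z. -/
theorem result (X : Scheme.{u}) [IsLocallyNoetherian X] (Z : Set X)
    (hZ : StableUnderSpecialization Z) (F : X.Modules) (hF : Coh.IsCoh F) (x : X) :
    ZClos.IsZPureAt Z F x ↔
      ∀ x' : X, x' ⤳ x → x' ∈ Z → (1 : ℕ∞) ≤ LocCoh.depth (X.presheaf.stalk x') (F.presheaf.stalk x') := by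
  haveI : Coh.IsQCoh F := hF.1
  constructor
  · intro hp x' hx' hx'Z
    obtain ⟨V, hV, hxV, -⟩ := exists_isAffineOpen_mem_and_subset (x := x) (U := (⊤ : X.Opens)) trivial
    have hx'V : x' ∈ V := hx'.mem_open V.2 hxV
    rw [Order.one_le_iff_pos, pos_iff_ne_zero]
    intro h0
    obtain ⟨m, hm⟩ := exists_colon_of_depth_zero F hF hV hx'V h0
    let p' := (hV.primeIdealOf ⟨x', hx'V⟩).asIdeal
    have hle : p' ≤ (hV.primeIdealOf ⟨x, hxV⟩).asIdeal := primeIdealOf_le hV hx'V hxV hx'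
    have hne : F.presheaf.germ V x hxV m ≠ 0 := fun h => by
      obtain ⟨s, hs, hsm⟩ := exists_smul_eq_zero F hV hxV h
      exact hs (hle ((hm s).2 hsm))
    refine hne (hp ?_)
    rw [map_zero]
    have hσ : (ZClos.rhoApp Z F).app V m = 0 := by
      refine Groth.L19.ZClos.eq_zero_of_germs hZ F _ fun y hy hyZ => ?_
      have hgy : F.presheaf.germ V y hy m = 0 := by
        by_contra hne'
        have hle' : p' ≤ (hV.primeIdealOf ⟨y, hy⟩).asIdeal := fun s hs => by
          by_contra hsy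
          exact hne' (germ_eq_zero F hV hy hsy ((hm s).1 hs))
        exact hyZ (hZ (specializes_of_le hV hx'V hy hle') hx'Z)
      rw [← Groth.L21.Mod.stalkF_map_germ (ZClos.rhoApp Z F) V y hy m, hgy, map_zero]
    exact (Groth.L21.Mod.stalkF_map_germ (ZClos.rhoApp Z F) V x hxV m).trans
      ((congrArg (((ZClos.H0 Z).obj F).presheaf.germ V x hxV) hσ).trans (map_zero _))
  · intro hd
    refine (injective_iff_map_eq_zero _).2 fun a ha => ?_
    obtain ⟨U, hxU, s, rfl⟩ := TopCat.Presheaf.exists_germ_eq F.presheaf a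
    obtain ⟨V, hV, hxV, hVU⟩ := exists_isAffineOpen_mem_and_subset (x := x) (U := U) hxU
    rw [← TopCat.Presheaf.germ_res_apply F.presheaf (homOfLE hVU) x hxV s] at ha ⊢
    obtain ⟨m, hm⟩ : ∃ m : Γ(F, V), F.presheaf.map (homOfLE hVU).op s = m := ⟨_, rfl⟩
    have e : F.presheaf.germ V x hxV (F.presheaf.map (homOfLE hVU).op s) = F.presheaf.germ V x hxV m :=
      congrArg _ hm
    erw [e] at ha ⊢
    by_contra hne
    have hσ0 : ((ZClos.H0 Z).obj F).presheaf.germ V x hxV ((ZClos.rhoApp Z F).app V m) = 0 :=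
      (Groth.L21.Mod.stalkF_map_germ (ZClos.rhoApp Z F) V x hxV m).symm.trans ha
    obtain ⟨W, hxW, i, i', hW⟩ := TopCat.Presheaf.germ_eq ((ZClos.H0 Z).obj F).presheaf x hxV hxV _ 0
      (hσ0.trans (map_zero _).symm)
    rw [map_zero] at hW
    obtain ⟨y, hy, hyx, hgy, hdy⟩ := exists_depth_zero_point F hF hV hxV m hne
    have hyW : y ∈ W := hyx.mem_open W.2 hxW
    have hyZ : y ∈ Z := by
      by_contra hyZ
      refine hgy ((Groth.L19.ZClos.bijective_rho_stalk F hyZ).1 ?_)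
      rw [map_zero, Groth.L21.Mod.stalkF_map_germ (ZClos.rhoApp Z F) V y hy m,
        ← TopCat.Presheaf.germ_res_apply ((ZClos.H0 Z).obj F).presheaf i y hyW, hW, map_zero]
    have := hd y hyx hyZ
    rw [hdy] at this
    exact absurd this (by simp)


end Groth.Agent.S5855
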