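import Groth.Statements.S5851
import Groth.Agent.L19.ZClos.Criteria

set_option autoImplicit false
set_option backward.isDefEq.respectTransparency.types false
set_option backward.isDefEq.respectTransparency false
set_option linter.style.haveILetI false
universe u
open ZClos

namespace Groth.Agent.S5851

open CategoryTheory CategoryTheory.Limits AlgebraicGeometry in
/-- For a locally Noetherian scheme X, a subset Z of X stable under specialization, O_X-modules F and F'
with F' Z-closed, and a homomorphism u : F → F', there is exactly one homomorphism v : H⁰_{X/Z}(F) →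
F' with u = v ∘ ρ_{X/Z}. -/
theorem result (X : Scheme.{u}) [IsLocallyNoetherian X] (Z : Set X)
    (hZ : StableUnderSpecialization Z) (F F' : X.Modules) (hF' : ZClos.IsZClosed Z F') (u : F ⟶ F') :
    ∃! v : (ZClos.H0 Z).obj F ⟶ F', ZClos.rhoApp Z F ≫ v = u := by
  haveI hT : ∀ T : ZClos.Cl Z, IsIso (ZClos.toDiagram Z F' T) := (Groth.L19.ZClos.isZClosed_iff F').1 hF'
  let c : Cocone ((ZClos.diagram Z).obj F) :=
    { pt := F'
      ι :=
        { app := fun T => ((ZClos.diagram Z).map u).app T ≫ inv (ZClos.toDiagram Z F' T)
          naturality := fun T T' f => by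
            dsimp
            rw [Category.comp_id, ← Category.assoc, ((ZClos.diagram Z).map u).naturality f, Category.assoc]
            congr 1
            rw [← cancel_mono (ZClos.toDiagram Z F' T'), Category.assoc, IsIso.inv_hom_id, Category.comp_id,
              ← ZClos.toDiagram_map Z F' f, IsIso.inv_hom_id_assoc] } }
  refine ⟨colimit.desc _ c, ?_, fun v hv => ?_⟩
  · show ZClos.rhoApp Z F ≫ colimit.desc _ c = u
    rw [ZClos.rhoApp_eq Z F ⊥, Category.assoc, colimit.ι_desc]
    show ZClos.toDiagram Z F ⊥ ≫ ((ZClos.diagram Z).map u).app ⊥ ≫ inv (ZClos.toDiagram Z F' ⊥) = u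
    rw [← ZClos.toDiagram_naturality_assoc, IsIso.hom_inv_id, Category.comp_id]
  · refine colimit.hom_ext fun T => ?_
    rw [colimit.ι_desc]
    let g : ((ZClos.diagram Z).obj F).obj T ⟶ F' := colimit.ι ((ZClos.diagram Z).obj F) T ≫ v
    let G := ((ZClos.diagram Z).obj F).obj T
    have hg : ∀ a b : G ⟶ F', ZClos.toDiagram Z F T ≫ a = ZClos.toDiagram Z F T ≫ b → a = b := fun a b hab => by
      let R := Scheme.Modules.restrictFunctor T.U.ι
      haveI : IsIso (R.map (ZClos.toDiagram Z F T)) := by
        have h := (Scheme.Modules.restrictAdjunction T.U.ι).left_triangle_components F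
        haveI : IsIso ((Scheme.Modules.restrictAdjunction T.U.ι).counit.app (R.obj F)) := inferInstance
        exact IsIso.of_isIso_fac_right h
      have hR : R.map a = R.map b := by
        rw [← cancel_epi (R.map (ZClos.toDiagram Z F T)), ← R.map_comp, ← R.map_comp, hab]
      have hn : ∀ c : G ⟶ F', c ≫ ZClos.toDiagram Z F' T =
          (Scheme.Modules.restrictAdjunction T.U.ι).unit.app G ≫ (Scheme.Modules.pushforward T.U.ι).map (R.map c) :=
        fun c => (Scheme.Modules.restrictAdjunction T.U.ι).unit.naturality c
      rw [← cancel_mono (ZClos.toDiagram Z F' T), hn, hn, hR]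
    apply hg
    show ZClos.toDiagram Z F T ≫ g = ZClos.toDiagram Z F T ≫ ((ZClos.diagram Z).map u).app T ≫ inv (ZClos.toDiagram Z F' T)
    rw [← ZClos.toDiagram_naturality_assoc, IsIso.hom_inv_id, Category.comp_id]
    exact ((Category.assoc _ _ _).symm.trans (congrArg (· ≫ v) (ZClos.rhoApp_eq Z F T).symm)).trans hv

end Groth.Agent.S5851
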