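import Groth.Statements.S1223
import Groth.Agent.L20.RG.AssCover
import Groth.Agent.L20.RG.Smooth

set_option autoImplicit false
universe u
open FlatMor

set_option backward.isDefEq.respectTransparency.types false
namespace Groth.Agent.S1223

/-- Ring form, X = Spec B affine: a finite type, flat A-algebra B with geometrically integral fibres is
universally pure relative to Spec A. -/
theorem result {A B : Type u} [CommRing A] [CommRing B] [Algebra A B] [Algebra.FiniteType A B] [Module.Flat A B]
    (h : FlatCA.GeomIntegralFibres A B) : FlatCA.IsUnivPure A B B := by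
  intro p _ A' B' N' _ _ _ _ _ _ _ _ _ _ _ _ _ _ f t' t _ _ P _ himp
  obtain ⟨hpush, hbc, hle, -, hPt', hass, hno⟩ := himp
  haveI := hpush
  haveI := hPt'
  haveI : Algebra.IsPushout A A' B B' := Algebra.IsPushout.symm hpush
  haveI : Module.Flat A' B' := Module.Flat.isBaseChange A A' B B' (inferInstance : Algebra.IsPushout A A' B B').out
  have hdom : ∀ (s : Ideal A') [s.IsPrime], IsDomain (s.Fiber B') := fun s _ => by
    have hD := Groth.L20.RG.DomFib.of_geomIntegralFibres h
    haveI : IsDomain (TensorProduct A s.ResidueField B) := hD s.ResidueField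
    let e : TensorProduct A' s.ResidueField B' ≃ₐ[A'] TensorProduct A s.ResidueField B :=
      (Algebra.TensorProduct.congr (AlgEquiv.refl (R := A') (A₁ := s.ResidueField))
        (Algebra.IsPushout.equiv A A' B B').symm).trans
        ((Algebra.TensorProduct.cancelBaseChange A A' s.ResidueField s.ResidueField B).restrictScalars A')
    exact e.toRingEquiv.toMulEquiv.isDomain _
  haveI := hdom t'
  letI : Algebra B' (t'.Fiber B') := Algebra.TensorProduct.rightAlgebra
  let eN : B' ≃ₗ[B'] N' := (TensorProduct.AlgebraTensorModule.rid B B' B').symm.trans hbc.equiv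
  let eF : FlatCA.fiberMod t' B' N' ≃ₗ[t'.Fiber B'] t'.Fiber B' :=
    (TensorProduct.AlgebraTensorModule.congr (LinearEquiv.refl (t'.Fiber B') (t'.Fiber B')) eN.symm).trans
      (TensorProduct.AlgebraTensorModule.rid B' (t'.Fiber B') (t'.Fiber B'))
  obtain ⟨hprime, w, hw⟩ := hass
  have hbot : FlatCA.fiberIdeal t' P = ⊥ := by
    have hw0 : eF w ≠ 0 := fun h0 => by
      have : w = 0 := eF.injective (h0.trans (map_zero eF).symm)
      refine hprime.ne_top ?_
      rw [hw, this]
      refine (Ideal.eq_top_iff_one _).mpr ⟨1, ?_⟩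
      rw [pow_one, Submodule.mem_colon_singleton, smul_zero]
      exact zero_mem _
    rw [hw, eq_bot_iff]
    intro b hb
    obtain ⟨k, hk⟩ := Ideal.mem_radical_iff.1 hb
    rw [Submodule.mem_colon_singleton, Submodule.mem_bot] at hk
    have hk' : b ^ k * eF w = 0 := by
      rw [← smul_eq_mul, ← map_smul, hk, map_zero]
    exact Submodule.mem_bot (R := t'.Fiber B') |>.mpr (pow_eq_zero_iff'.mp ((mul_eq_zero.mp hk').resolve_right hw0)).1
  have hPsub : ∀ x ∈ P, x ∈ t' • (⊤ : Submodule A' B') := by
    intro x hx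
    have h1 : ((1 : t'.ResidueField) ⊗ₜ[A'] x : t'.Fiber B') = 0 := by
      have : (Algebra.TensorProduct.includeRight (R := A') (A := t'.ResidueField) (B := B')).toRingHom x ∈
          FlatCA.fiberIdeal t' P := Ideal.mem_map_of_mem _ hx
      rwa [hbot, Ideal.mem_bot] at this
    obtain ⟨r, hr, hrx⟩ := Groth.L20.RG.exists_smul_mem_of_tmul_one_eq_zero t' x
      (by simpa using congrArg (TensorProduct.comm A' t'.ResidueField B') h1)
    let E := TensorProduct.tensorQuotEquivQuotSMul B' t'
    have hr0 : Function.Injective (LinearMap.lsmul A' (A' ⧸ t') r) := by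
      refine (injective_iff_map_eq_zero _).mpr fun y hy => ?_
      obtain ⟨y, rfl⟩ := Ideal.Quotient.mk_surjective y
      rw [LinearMap.lsmul_apply, ← Ideal.Quotient.mk_eq_mk, ← Submodule.Quotient.mk_smul, Ideal.Quotient.mk_eq_mk,
        Ideal.Quotient.eq_zero_iff_mem, smul_eq_mul] at hy
      exact Ideal.Quotient.eq_zero_iff_mem.mpr ((Ideal.IsPrime.mem_or_mem inferInstance hy).resolve_left hr)
    have h2 := Module.Flat.lTensor_preserves_injective_linearMap (M := B') _ hr0
    have h3 : (x ⊗ₜ[A'] (1 : A' ⧸ t')) = 0 := h2 (by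
      rw [map_zero, LinearMap.lTensor_tmul, LinearMap.lsmul_apply, TensorProduct.tmul_smul, TensorProduct.smul_tmul']
      apply E.injective
      rw [map_zero, show (1 : A' ⧸ t') = Ideal.Quotient.mk t' 1 from rfl, TensorProduct.tensorQuotEquivQuotSMul_tmul_mk,
        one_smul, Submodule.Quotient.mk_eq_zero]
      exact hrx)
    have h4 := congrArg E h3
    rwa [map_zero, show (1 : A' ⧸ t') = Ideal.Quotient.mk t' 1 from rfl, TensorProduct.tensorQuotEquivQuotSMul_tmul_mk,
      one_smul, Submodule.Quotient.mk_eq_zero] at h4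
  haveI := hdom t
  obtain ⟨Q⟩ : Nonempty (PrimeSpectrum (t.Fiber B')) := inferInstance
  let P' := Q.asIdeal.comap (Algebra.TensorProduct.includeRight (R := A') (A := t.ResidueField) (B := B')).toRingHom
  haveI hP' : P'.LiesOver t := ⟨(congrArg (fun q => q.asIdeal)
    ((PrimeSpectrum.preimageEquivFiber A' B' ⟨t, inferInstance⟩).symm Q).2).symm⟩
  refine hno P' (fun x hx => ?_) hP'
  refine Submodule.smul_induction_on (hPsub x hx) (fun a ha b _ => ?_) fun a b ha hb => add_mem ha hb
  rw [Algebra.smul_def]
  exact P'.mul_mem_right _ ((Ideal.mem_of_liesOver P' t a).1 (hle ha))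

end Groth.Agent.S1223
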