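import Groth.Statements.S1271
import Groth.Agent.L15.FittEtale.Norm
-- import your own Groth.Agent.* helpers here

set_option autoImplicit false
universe u
open FlatMor

namespace Groth.Agent.S1271

/-- Let A → B be an étale ring map, a ∈ A a nonzerodivisor and J a finitely generated ideal of B with
V(J) ⊆ V(aB), i.e. a lies in the radical of J. Then for every prime q of B there exist a finitely
generated ideal I of A with V(I) ⊆ V(a), an element g of B outside q, and a finitely generated ideal
J' of the localization B_g such that the extension of I to B_g equals the product of the extension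
of J with J'. -/
theorem result {A B : Type u} [CommRing A] [CommRing B] [Algebra A B] [Algebra.Etale A B]
    (a : A) (ha : a ∈ nonZeroDivisors A) (J : Ideal B) (hJ : J.FG) (hJa : algebraMap A B a ∈ J.radical)
    (q : Ideal B) [q.IsPrime] :
    ∃ (I : Ideal A) (g : B) (J' : Ideal (Localization.Away g)), I.FG ∧ a ∈ I.radical ∧ g ∉ q ∧ J'.FG ∧
      I.map (algebraMap A (Localization.Away g)) = J.map (algebraMap B (Localization.Away g)) * J' := by
  exact Groth.L15.FittEtale.exists_norm a J hJ hJa q

end Groth.Agent.S1271
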