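import Groth.Statements.S1287
import Groth.Agent.L13.Fitting.StrictTransform
import Groth.Agent.L20.RG.BasisFlat
import Groth.Agent.L20.RG.FlatPtsStep
import Groth.Agent.L20.RG.Complete
import Groth.Agent.S1219
import Groth.Agent.S1223

set_option autoImplicit false
universe u
open FlatMor

set_option backward.isDefEq.respectTransparency.types false
set_option linter.style.haveILetI false
set_option backward.isDefEq.respectTransparency false
set_option backward.isDefEq.respectTransparency.types false

namespace Groth.Agent.S1287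

open scoped Classical TensorProduct
open Groth.L13.Fitting

/-- Where one minor of relations is, up to a unit, the nonzerodivisor dividing its neighbours, the quotient by the
torsion has few generators. -/
theorem not_le_quotient {A : Type u} [CommRing A] {N : Type u} [AddCommGroup N] [Module A N] {n k : ℕ}
    {x : Fin n → N} (hx : Submodule.span A (Set.range x) = ⊤) (z : Fin (n - k) → Fin n → A)
    (hz : ∀ j, ∑ i, z j i • x i = 0) (e : Fin (n - k) → Fin n) (g a c : A) (ha : a ∈ nonZeroDivisors A)
    (hle : ∀ e' : Fin (n - k) → Fin n, g * minor z e' ∈ Ideal.span {a})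
    (hc : g * minor z e = a * c) (Q : Ideal A) [Q.IsPrime] (hcQ : c ∉ Q)
    (T : Submodule A N) (hT : ∀ m, a • m = 0 → m ∈ T) : ¬ Fitt.ideal A (N ⧸ T) k ≤ Q := by
  have hy : Submodule.span A (Set.range (T.mkQ ∘ x)) = ⊤ := by
    rw [Set.range_comp, Submodule.span_image, hx, Submodule.map_top, Submodule.range_mkQ]
  intro hFQ
  by_cases he : Function.Injective e
  swap
  · simp only [Function.Injective, not_forall] at he
    obtain ⟨i, j, hij, hne'⟩ := he
    rw [minor, Matrix.det_zero_of_row_eq hne' (funext fun b => by simp [hij]), mul_zero] at hc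
    exact hcQ ((ha.1 c hc.symm).symm ▸ Q.zero_mem)
  choose b hb using fun (p : (Fin (n - k)) × Fin n) =>
    Ideal.mem_span_singleton'.1 (hle (Function.update e p.1 p.2))
  let w : Fin (n - k) → Fin n → A := fun s i => if i = e s then c else if i ∈ Set.range e then 0 else b (s, i)
  have hw : ∀ s, ∑ i, w s i • (T.mkQ ∘ x) i = 0 := by
    intro s
    rw [show ∑ i, w s i • (T.mkQ ∘ x) i = T.mkQ (∑ i, w s i • x i) by simp [map_sum],
      Submodule.mkQ_apply, Submodule.Quotient.mk_eq_zero]
    refine hT _ ?_
    have h := congrArg (g • ·) (cramer_split hz he s)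
    simp only [smul_add, Finset.smul_sum, smul_smul, smul_zero, hc] at h
    rw [← h, Finset.smul_sum, ← Finset.sum_filter_add_sum_filter_not Finset.univ (fun i => i ∈ Set.range e)]
    congr 1
    · rw [Finset.sum_eq_single (e s) (fun i hi his => ?_) (fun h' => absurd (by simp) h')]
      · simp [w, smul_smul]
      · obtain ⟨q, rfl⟩ := (Finset.mem_filter.1 hi).2; simp [w, his]
    · refine Finset.sum_congr rfl fun i hi => ?_
      have hi' := (Finset.mem_filter.1 hi).2
      rw [show w s i = b (s, i) by
        simp only [w]; rw [if_neg (fun h' : i = e s => hi' ⟨s, h'.symm⟩), if_neg hi'], smul_smul,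
        mul_comm a, hb]
  have hm : minor w e = c ^ (n - k) := by
    have hd : (Matrix.of fun p q => w q (e p)) = Matrix.diagonal fun _ => c := by
      ext p q
      rcases eq_or_ne p q with rfl | hne'
      · simp [w]
      · simp [w, he.ne hne', hne']
    rw [minor, hd, Matrix.det_diagonal]; simp
  exact hcQ (Ideal.IsPrime.mem_of_pow_mem ‹_› _ (hFQ (hm ▸ minor_mem_ideal hy hw e)))

/-- Free of rank `r` near a prime from the Fitting ideals. -/
theorem exists_free_away {A : Type u} [CommRing A] {N : Type u} [AddCommGroup N] [Module A N] [Module.Finite A N]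
    {r : ℕ} (h0 : ∀ i, i < r → Fitt.ideal A N i = ⊥) (Q : Ideal A) [Q.IsPrime] (h1 : ¬ Fitt.ideal A N r ≤ Q) :
    ∃ g : A, g ∉ Q ∧ Module.Free (Localization.Away g) (LocalizedModule (Submonoid.powers g) N) ∧
      Module.rank (Localization.Away g) (LocalizedModule (Submonoid.powers g) N) = r := by
  obtain ⟨g, hg, y, hy⟩ := (not_le_iff_away Q r).1 h1
  haveI : Nontrivial (Localization.Away g) := nontrivial_away hg
  let b := Module.Basis.mk (linearIndependent_of_bot y hy fun k hk => by
    rw [map_ideal_localization, h0 k hk, Ideal.map_bot]) hy.ge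
  exact ⟨g, hg, Module.Free.of_basis b, by rw [rank_eq_card_basis b, Fintype.card_fin]⟩

/-- An element killed by an element outside the generic point of a fibre dies near that point of the base. -/
theorem exists_pow_smul_eq_zero {R S : Type u} [CommRing R] [CommRing S] [Algebra R S]
    [Algebra.FinitePresentation R S] [Module.Flat R S] (hdom : Groth.L20.RG.DomFib R S) (p : Ideal R) [p.IsPrime]
    {w d : S} (hw : w ∉ p.map (algebraMap R S)) (hwd : w * d = 0) : ∃ b : R, b ∉ p ∧ b • d = 0 := by
  obtain ⟨b, hb, hU⟩ := Groth.L20.RG.exists_nhd_univInj hdom p hw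
  have hz : w • ((fun _ : Fin 1 => d) ⊗ₜ[R] (1 : R)) = 0 := by
    rw [TensorProduct.smul_tmul', show w • (fun _ : Fin 1 => d) = 0 from funext fun _ => hwd, TensorProduct.zero_tmul]
  obtain ⟨m, hm⟩ := Groth.L20.RG.exists_pow_smul_of_univInj hU R _ hz
  rw [algebraMap_smul, TensorProduct.smul_tmul'] at hm
  have := congrFun ((congrArg (TensorProduct.rid R (Fin 1 → S)) hm).trans (map_zero _)) 0
  exact ⟨b ^ m, fun h => hb (Ideal.IsPrime.mem_of_pow_mem ‹_› m h), by simpa using this⟩

end Groth.Agent.S1287
open Groth.L13.Fitting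

namespace Groth.Agent.S1287

open TensorProduct in
/-- Let R be a ring, f ∈ R, r ≥ 0, S a finitely presented flat R-algebra all of whose fibre rings are
geometrically integral, and M a finite S-module such that M_f is finitely presented over S_f and
such that for every prime p of R not containing f, with q = pS, the localization M_q is free of rank
r over S_q. Then there is a finitely generated ideal I of R with V(I) = V(f) such that for every a ∈
I, writing R' = R[I/a] for the affine blow-up algebra, S' = S ⊗_R R' and M' for the base change of M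
to S' modulo its a-power torsion (any models of the base change): for every prime p' of R' there is
g ∈ S' outside p'S' with M'_g free of rank r over S'_g. -/
theorem result {R S : Type u} [CommRing R] [CommRing S] [Algebra R S] [Algebra.FinitePresentation R S] [Module.Flat R S]
    (hgi : FlatCA.GeomIntegralFibres R S) (f : R) (r : ℕ)
    (M : Type u) [AddCommGroup M] [Module S M] [Module R M] [IsScalarTower R S M] [Module.Finite S M]
    (hfp : Module.FinitePresentation (Localization.Away (algebraMap R S f)) (LocalizedModule (Submonoid.powers (algebraMap R S f)) M))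
    (hfree : ∀ (p : Ideal R) [p.IsPrime] [(p.map (algebraMap R S)).IsPrime], f ∉ p →
      Module.Free (Localization.AtPrime (p.map (algebraMap R S))) (LocalizedModule (p.map (algebraMap R S)).primeCompl M) ∧
      Module.rank (Localization.AtPrime (p.map (algebraMap R S))) (LocalizedModule (p.map (algebraMap R S)).primeCompl M) = r) :
    ∃ I : Ideal R, I.FG ∧ I.radical = (Ideal.span {f}).radical ∧ ∀ a ∈ I,
      ∀ (S' M' : Type u) [CommRing S'] [Algebra S S'] [Algebra (BlowUp.affineAlgebra R I a) S'] [Algebra R S']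
        [IsScalarTower R S S'] [IsScalarTower R (BlowUp.affineAlgebra R I a) S']
        [Algebra.IsPushout R S (BlowUp.affineAlgebra R I a) S']
        [AddCommGroup M'] [Module S' M'] [Module S M'] [IsScalarTower S S' M']
        (φ : M →ₗ[S] M'), IsBaseChange S' φ →
        ∀ (p' : Ideal (BlowUp.affineAlgebra R I a)) [p'.IsPrime],
          ∃ g : S', g ∉ p'.map (algebraMap (BlowUp.affineAlgebra R I a) S') ∧
            Module.Free (Localization.Away g)
              (LocalizedModule (Submonoid.powers g) (M' ⧸ FlatCA.powTorsion S' (algebraMap R S' a) M')) ∧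
            Module.rank (Localization.Away g)
              (LocalizedModule (Submonoid.powers g) (M' ⧸ FlatCA.powTorsion S' (algebraMap R S' a) M')) = r := by
  classical
  haveI hproj : Module.Projective R S :=
    (Groth.Agent.S1219.result S).mpr fun p _ A' B' N' _ _ _ _ _ _ _ _ _ _ _ _ _ _ g t' t _ _ P _ _ =>
      Groth.Agent.S1223.result hgi p A' B' N' g t' t P
  obtain ⟨s, hs⟩ := Module.projective_def'.mp hproj
  have hdom := Groth.L20.RG.DomFib.of_geomIntegralFibres hgi
  have hcoord : ∀ d : S, d = ∑ j ∈ (s d).support, algebraMap R S (s d j) * j := fun d => by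
    conv_lhs => rw [show d = Finsupp.linearCombination R id (s d) from (LinearMap.congr_fun hs d).symm]
    rw [Finsupp.linearCombination_apply, Finsupp.sum]
    exact Finset.sum_congr rfl fun j _ => Algebra.smul_def _ _
  obtain ⟨n, x, hx⟩ := exists_gens (R := S) (M := M)
  have hbasis : ∀ (p : Ideal R) [p.IsPrime], f ∉ p → ∃ (_ : (p.map (algebraMap R S)).IsPrime),
      Nonempty (Module.Basis (Fin r) (Localization.AtPrime (p.map (algebraMap R S)))
        (LocalizedModule (p.map (algebraMap R S)).primeCompl M)) := by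
    intro p _ hfp
    haveI := Groth.L20.RG.isPrime_map_of_domFib hdom p
    obtain ⟨hF, hrk⟩ := hfree p hfp
    exact ⟨inferInstance, ⟨Module.finBasisOfFinrankEq _ _ (Module.finrank_eq_of_rank_eq hrk)⟩⟩
  let C : Set R := {t | ∃ (z : Fin (n - r) → Fin n → S) (e : Fin (n - r) → Fin n),
    (∀ j, ∑ i, z j i • x i = 0) ∧ ∃ j, s (minor z e) j = t}
  have hrad : f ∈ (Ideal.span C).radical := by
    rw [Ideal.radical_eq_sInf, Submodule.mem_sInf]
    rintro p ⟨hle, hp⟩
    by_contra hfp
    obtain ⟨hq, ⟨b⟩⟩ := @hbasis p hp hfp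
    refine (not_le_iff_gens _ r).2 ⟨b, b.span_eq⟩ ?_
    rw [ideal_eq_tup x hx, tup_eq_minors, minors, Ideal.span_le]
    rintro _ ⟨z, e, hz, rfl⟩
    show minor z e ∈ _
    rw [hcoord (minor z e)]
    exact Ideal.sum_mem _ fun j _ => Ideal.mul_mem_right _ _
      (Ideal.mem_map_of_mem _ (hle (Ideal.subset_span ⟨z, e, hz, j, rfl⟩)))
  obtain ⟨N, hN⟩ := hrad
  obtain ⟨T, hTsub, hNT⟩ := Submodule.mem_span_finite_of_mem_span hN
  choose zf ef hzf jf hjf using fun t : T => hTsub t.2
  let gens : Finset R := (Finset.univ : Finset (T × (Fin (n - r) → Fin n))).biUnion fun q =>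
    (s (minor (zf q.1) q.2)).support.image fun j => f * s (minor (zf q.1) q.2) j
  have hI : ∀ (t : T) (e : Fin (n - r) → Fin n) (j : S), f * s (minor (zf t) e) j ∈ Ideal.span (gens : Set R) := by
    intro t e j
    by_cases h : j ∈ (s (minor (zf t) e)).support
    · exact Ideal.subset_span (Finset.mem_biUnion.2 ⟨(t, e), Finset.mem_univ _, Finset.mem_image.2 ⟨j, h, rfl⟩⟩)
    · rw [Finsupp.notMem_support_iff.1 h, mul_zero]; exact zero_mem _
  have hfN : f ^ (N + 1) ∈ Ideal.span (gens : Set R) := by
    rw [pow_succ']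
    have h2 : Ideal.span {f} * Ideal.span (T : Set R) ≤ Ideal.span (gens : Set R) := by
      rw [Ideal.span_mul_span', Ideal.span_le]
      rintro _ ⟨_, rfl, t, ht, rfl⟩
      have h := hI ⟨t, ht⟩ (ef ⟨t, ht⟩) (jf ⟨t, ht⟩)
      rwa [hjf ⟨t, ht⟩] at h
    exact h2 (Ideal.mul_mem_mul (Ideal.mem_span_singleton_self f) hNT)
  have hIf : Ideal.span (gens : Set R) ≤ Ideal.span {f} := Ideal.span_le.2 fun y hy => by
    obtain ⟨q, -, hy'⟩ := Finset.mem_biUnion.1 (Finset.mem_coe.1 hy)
    obtain ⟨j, -, rfl⟩ := Finset.mem_image.1 hy'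
    exact Ideal.mul_mem_right _ _ (Ideal.mem_span_singleton_self f)
  refine ⟨Ideal.span (gens : Set R), Submodule.fg_span gens.finite_toSet,
    le_antisymm (Ideal.radical_mono hIf) ?_, fun a ha S' M' _ _ _ _ _ _ _ _ _ _ _ φ hφ p' _ => ?_⟩
  · rw [← Ideal.radical_idem (Ideal.span (gens : Set R))]
    exact Ideal.radical_mono ((Ideal.span_singleton_le_iff_mem _).2 ⟨N + 1, hfN⟩)
  let R₁ := ↥(BlowUp.affineAlgebra R (Ideal.span (gens : Set R)) a)
  haveI : Algebra.IsPushout R R₁ S S' := Algebra.IsPushout.symm inferInstance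
  haveI : Module.Flat R₁ S' := Module.Flat.isBaseChange (R := R) R₁ S' (M := S) Algebra.IsPushout.out
  have hnzR : algebraMap R R₁ a ∈ nonZeroDivisors R₁ := chart_nzd AlgEquiv.refl
  have hnz : algebraMap R S' a ∈ nonZeroDivisors S' := by
    rw [mem_nonZeroDivisors_iff_right]
    intro y hy
    refine Module.Flat.isSMulRegular_of_nonZeroDivisors (M := S') hnzR ?_
    show algebraMap R R₁ a • y = algebraMap R R₁ a • 0
    rw [smul_zero, Algebra.smul_def, ← IsScalarTower.algebraMap_apply, mul_comm, hy]
  haveI : Module.Finite S' M' := Module.Finite.equiv hφ.equiv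
  have hIR : ∀ (t : T) (e : Fin (n - r) → Fin n) (j : S),
      algebraMap R R₁ a ∣ algebraMap R R₁ (f * s (minor (zf t) e) j) := fun t e j =>
    Ideal.mem_span_singleton.1 (chart_mem AlgEquiv.refl (hI t e j))
  have hdiv : ∀ (t : T) (e : Fin (n - r) → Fin n),
      algebraMap R S' f * algebraMap S S' (minor (zf t) e) ∈ Ideal.span {algebraMap R S' a} := by
    intro t e
    rw [hcoord (minor (zf t) e), map_sum, Finset.mul_sum]
    refine Ideal.sum_mem _ fun j _ => ?_
    rw [map_mul, ← IsScalarTower.algebraMap_apply, ← mul_assoc, ← map_mul]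
    refine Ideal.mul_mem_right _ _ (Ideal.mem_span_singleton.2 ?_)
    rw [IsScalarTower.algebraMap_apply R R₁ S' a, IsScalarTower.algebraMap_apply R R₁ S' (f * _)]
    exact map_dvd _ (hIR t e j)
  haveI hdom' : (p'.map (algebraMap R₁ S')).IsPrime :=
    Groth.L20.RG.isPrime_map_of_domFib (hdom.of_isPushout R₁ S') p'
  -- one of the minors becomes `a` times an element outside `p'S'`
  obtain ⟨t, e, c, hc, hcQ⟩ : ∃ (t : T) (e : Fin (n - r) → Fin n) (c : S'),
      algebraMap R S' f * algebraMap S S' (minor (zf t) e) = algebraMap R S' a * c ∧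
        c ∉ p'.map (algebraMap R₁ S') := by
    by_contra hall
    push Not at hall
    have key : ∀ y ∈ Ideal.span (gens : Set R), algebraMap R R₁ y ∈ Ideal.span {algebraMap R R₁ a} * p' := by
      intro y hy
      refine (Ideal.span_le (I := (Ideal.span {algebraMap R R₁ a} * p').comap (algebraMap R R₁))).2 ?_ hy
      intro y hy
      obtain ⟨⟨t, e⟩, -, hy'⟩ := Finset.mem_biUnion.1 (Finset.mem_coe.1 hy)
      obtain ⟨j, -, rfl⟩ := Finset.mem_image.1 hy'
      obtain ⟨c, hc⟩ := Ideal.mem_span_singleton.1 (hdiv t e)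
      have hb : IsBaseChange R₁ (IsScalarTower.toAlgHom R S S').toLinearMap := Algebra.IsPushout.out
      let ψ : S' →ₗ[R₁] R₁ := hb.lift ((Algebra.linearMap R R₁) ∘ₗ (Finsupp.lapply j) ∘ₗ s)
      have hψ : ∀ d : S, ψ (algebraMap S S' d) = algebraMap R R₁ (s d j) := fun d => hb.lift_eq _ d
      have hψp : ψ c ∈ p' := by
        have hcp : c ∈ (p' • ⊤ : Submodule R₁ S') := by
          rw [Ideal.smul_top_eq_map]; exact hall t e c hc
        refine Submodule.smul_induction_on (p := fun w => ψ w ∈ p') hcp (fun q hq v _ => ?_) fun u v hu hv => ?_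
        · rw [map_smul, smul_eq_mul]; exact p'.mul_mem_right _ hq
        · rw [map_add]; exact add_mem hu hv
      have h1 : algebraMap R R₁ f • algebraMap S S' (minor (zf t) e) = algebraMap R R₁ a • c := by
        rw [Algebra.smul_def, Algebra.smul_def, ← IsScalarTower.algebraMap_apply, ← IsScalarTower.algebraMap_apply, hc]
      have h2 := congrArg ψ h1
      rw [map_smul, map_smul, hψ, smul_eq_mul, smul_eq_mul, ← map_mul] at h2
      rw [SetLike.mem_coe, Ideal.mem_comap, h2]
      exact Ideal.mul_mem_mul (Ideal.mem_span_singleton_self _) hψp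
    obtain ⟨q, hq, hqa⟩ := Ideal.mem_span_singleton_mul.1 (key a ha)
    have : q = 1 := (mul_cancel_left_mem_nonZeroDivisors hnzR).1 (hqa.trans (mul_one _).symm)
    exact Ideal.IsPrime.ne_top ‹p'.IsPrime› ((Ideal.eq_top_iff_one _).2 (this ▸ hq))
  -- the smaller Fitting ideals vanish
  have hbot : ∀ i, i < r → Fitt.ideal S' M' i = ⊥ := by
    intro i hi
    rw [← ideal_congr hφ.equiv i, ideal_baseChange, Ideal.map_eq_bot_iff_le_ker]
    intro d hd
    have hann : a ∈ Ideal.radical (LinearMap.ker (LinearMap.toSpanSingleton R S d)) := by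
      rw [Ideal.radical_eq_sInf, Submodule.mem_sInf]
      rintro p ⟨hle, hp⟩
      by_contra hap
      have hfp : f ∉ p := fun h => hap ((hIf.trans ((Ideal.span_singleton_le_iff_mem _).2 h)) ha)
      obtain ⟨hq, ⟨b⟩⟩ := @hbasis p hp hfp
      obtain ⟨w, hw, hwd⟩ := killed_of_localization_bot (Ideal.map (algebraMap R S) p).primeCompl
        (by rw [ideal_of_basis b, if_neg (by omega)]) hd
      obtain ⟨β, hβ, hβd⟩ := @exists_pow_smul_eq_zero R S _ _ _ _ _ hdom p hp w d hw hwd
      exact hβ (hle (show β • d = 0 from hβd))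
    obtain ⟨L, hL⟩ := hann
    replace hL : a ^ L • d = 0 := hL
    have h2 := congrArg (algebraMap S S') hL
    rw [Algebra.smul_def, map_mul, ← IsScalarTower.algebraMap_apply, map_zero, map_pow, mul_comm] at h2
    exact mem_nonZeroDivisors_iff_right.1 (pow_mem hnz L) _ h2
  -- conclude
  have hx' : Submodule.span S' (Set.range (φ ∘ x)) = ⊤ := by
    rw [show φ ∘ x = hφ.equiv ∘ bc (R := S) S' x from funext fun i => by
        simp [bc, IsBaseChange.equiv_tmul],
      Set.range_comp]
    erw [Submodule.span_image hφ.equiv.toLinearMap]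
    rw [span_bc S' x hx, Submodule.map_top, LinearEquiv.range]
  have hz' : ∀ j, ∑ i, phi S' (zf t j) i • (φ ∘ x) i = 0 := fun j => by
    simp only [phi, Function.comp_apply, algebraMap_smul, ← map_smul, ← map_sum, hzf t j, map_zero]
  refine exists_free_away (fun i hi => ideal_quotient_eq_bot hnz (hbot i hi) _
    fun m hm => (mem_powTorsion_iff _ m).1 hm) _ ?_
  refine not_le_quotient hx' (fun j => phi S' (zf t j)) hz' e (algebraMap R S' f) (algebraMap R S' a) c hnz
    (fun e' => ?_) ?_ _ hcQ _ fun m hm => (mem_powTorsion_iff _ m).2 ⟨1, by rwa [pow_one]⟩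
  · rw [minor_phi]; exact hdiv t e'
  · rw [minor_phi]; exact hc


end Groth.Agent.S1287
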