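import Groth.Statements.S1249
import Groth.Agent.L20.RG.Devissage

set_option autoImplicit false
universe u
open FlatMor

set_option backward.isDefEq.respectTransparency.types false
namespace Groth.Agent.S1249

/-- Ring form, X = Spec S and S = Spec R affine: let S be a finite type R-algebra, N a finite S-module
and q a prime of S over p; let x be the point of the fibre Spec(κ(p) ⊗ S) given by q, assume x lies
in the support of the fibre module of N and let n be the local dimension of that support at x. Then
there is an elementary dévissage of N at q in dimension n: étale neighbourhood rings R' of (R, p)
and S' of (S, q), a finitely presented quotient C of S' with a finite C-module G identified with the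
base change of N, a smooth R'-algebra D of relative dimension n with geometrically integral fibres
and a finite map D → C, and compatible primes, with exactly one prime of C over the chosen prime y
of D and κ(y) purely transcendental over κ(p') (see FlatCA.ElemDevissage). -/
theorem result {R S : Type u} [CommRing R] [CommRing S] [Algebra R S] [Algebra.FiniteType R S]
    (N : Type u) [AddCommGroup N] [Module S N] [Module R N] [IsScalarTower R S N] [Module.Finite S N]
    (p : Ideal R) [p.IsPrime] (q : Ideal S) [q.IsPrime] [q.LiesOver p] (n : ℕ)
    (x : PrimeSpectrum (p.Fiber S)) (hxq : x.asIdeal = FlatCA.fiberIdeal p q)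
    (hx : x ∈ Module.support (p.Fiber S) (FlatCA.fiberMod p S N))
    (hn : FlatMor.localDim (Module.support (p.Fiber S) (FlatCA.fiberMod p S N)) ⟨x, hx⟩ = n) :
    Nonempty (FlatCA.ElemDevissage R S N p q n) := by
  exact Groth.L20.RG.exists_elemDevissage N p q n x hxq hx hn

end Groth.Agent.S1249
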