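import Groth.Statements.S2195
import Groth.Agent.L01.Disc.Linear
import Mathlib.RingTheory.Smooth.Fiber
import Mathlib.RingTheory.Finiteness.ModuleFinitePresentation

set_option autoImplicit false
universe u v
open Disc

namespace Groth.Agent.S2195

/-- Ring form of the statement: let B be an A-algebra which is finite free as an A-module with basis b.
Then A -> B is etale if and only if the discriminant of b (the determinant of the matrix of traces
Tr(b_i b_j)) is a unit of A, i.e. the discriminant locus is empty. -/
theorem result {A : Type u} {B : Type v} [CommRing A] [CommRing B]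
    [Algebra A B] {ι : Type} [Fintype ι] [DecidableEq ι] (b : Module.Basis ι A B) :
    Algebra.Etale A B ↔ IsUnit (Algebra.discr A b) := by
  haveI : Module.Free A B := Module.Free.of_basis b
  haveI : Module.Finite A B := Module.Finite.of_basis b
  constructor
  · intro h
    have htop : Disc.noetherDifferent A B = ⊤ := by
      by_contra hne
      obtain ⟨m, hm, hle⟩ := Ideal.exists_le_maximal _ hne
      haveI := hm
      have hu : Algebra.IsUnramifiedAt A m := Algebra.formallyUnramified_iff_forall.mp inferInstance ⟨m, hm.isPrime⟩
      exact (Groth.L01.Disc.noetherDifferent_le_iff m).mp hle hu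
    have h1 : (1 : B) ∈ Disc.differentSet A B := Groth.L01.Disc.noetherDifferent_subset (by
      rw [SetLike.mem_coe, htop]; exact Submodule.mem_top)
    have h2 := Groth.L01.Disc.norm_mem b h1
    rw [map_one, Ideal.mem_span_singleton] at h2
    exact isUnit_of_dvd_one h2
  · intro hd
    have hu : IsUnit (Algebra.traceMatrix A b) := (Matrix.isUnit_iff_isUnit_det _).mpr (by rwa [← Algebra.discr_def])
    have h1 : (1 : B) ∈ Disc.differentSet A B := by
      intro φ
      obtain ⟨v, hv⟩ := (Matrix.mulVec_surjective_iff_isUnit.mpr hu) (fun i => φ (b i))
      refine ⟨b.equivFun.symm v, fun x => ?_⟩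
      rw [one_mul]
      refine LinearMap.congr_fun (f := φ) (g := (Algebra.trace A B).comp (LinearMap.mulLeft A (b.equivFun.symm v))) (b.ext fun i => ?_) x
      have h := congrFun hv i
      rw [← h]
      simp only [LinearMap.comp_apply, LinearMap.mulLeft_apply, Module.Basis.equivFun_symm_apply, Finset.sum_mul,
        map_sum, smul_mul_assoc, map_smul, smul_eq_mul, Matrix.mulVec, dotProduct, Algebra.traceMatrix_apply,
        Algebra.traceForm_apply]
      exact Finset.sum_congr rfl fun j _ => by rw [mul_comm, mul_comm (b i)]
    haveI : Algebra.FormallyUnramified A B := Algebra.formallyUnramified_iff_forall.mpr fun q => by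
      by_contra hn
      exact q.isPrime.ne_top ((Ideal.eq_top_iff_one _).mpr ((Groth.L01.Disc.differentSet_subset_iff q.asIdeal).mpr hn h1))
    haveI : Module.FinitePresentation A B := Module.finitePresentation_of_projective A B
    exact Algebra.Etale.of_formallyUnramified_of_flat

end Groth.Agent.S2195
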