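import Groth.Statements.S6347
import Mathlib.Tactic
import Mathlib.RingTheory.Spectrum.Prime.Module
import Mathlib.RingTheory.LocalRing.Module
import Mathlib.RingTheory.Localization.AtPrime.Basic
import Mathlib.RingTheory.Ideal.KrullsHeightTheorem
import Mathlib.LinearAlgebra.Matrix.NonsingularInverse
import Mathlib.RingTheory.TensorProduct.Quotient
import Mathlib.RingTheory.Flat.FaithfullyFlat.Basic
import Mathlib.LinearAlgebra.TensorProduct.Prod
import Mathlib.RingTheory.LocalProperties.Reduced
import Mathlib.RingTheory.Finiteness.ModuleFinitePresentation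
import Groth.Agent.L02.Dominate
import Groth.Agent.S6346

set_option autoImplicit false
universe u
open CAlg

namespace Groth.Agent.S6347

/-- Over a Noetherian ring R, the product module R^A (functions from any set A to R) is flat and
Mittag-Leffler. -/
theorem result (R : Type u) [CommRing R] [IsNoetherianRing R]
    (A : Type u) : Module.Flat R (A → R) ∧ CAlg.IsMittagLeffler R (A → R) := by
  classical
  have hflat : Module.Flat R (A → R) := by
    rw [Module.Flat.iff_rTensor_injective]
    intro I hI
    have : Module.Finite R I := Module.Finite.iff_fg.mpr hI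
    have : Module.FinitePresentation R I := Module.finitePresentation_of_finite R I
    rw [injective_iff_map_eq_zero]
    intro x hx
    apply (Groth.L02.piRightHom_bijective_of_finitePresentation (M := I) (Q := fun _ : A => R)).1
    rw [map_zero]
    funext a
    have h1 := congrFun ((congrArg (TensorProduct.piRightHom R R R (fun _ : A => R)) hx).trans (map_zero _)) a
    rw [Groth.L02.piRightHom_rTensor] at h1
    exact Module.Flat.rTensor_preserves_injective_linearMap I.subtype I.subtype_injective
      (h1.trans (map_zero _).symm)
  refine ⟨hflat, (Groth.Agent.S6346.result R (A → R)).mpr fun n x => ?_⟩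
  let w := TensorProduct.piRightHom R R (Fin n → R) (fun _ : A => R) x
  let v : A → (Fin n → R) := fun a => TensorProduct.rid R _ (w a)
  let F' : Submodule R (Fin n → R) := Submodule.span R (Set.range v)
  have hwv : ∀ a, w a = v a ⊗ₜ[R] (1 : R) := fun a => by
    apply (TensorProduct.rid R _).injective
    simp [v]
  refine ⟨F', ?_, fun F'' hF'' => Submodule.span_le.mpr ?_⟩
  · have : Module.Finite R F' := Module.Finite.iff_fg.mpr (IsNoetherian.noetherian F')
    obtain ⟨z, hz⟩ := Groth.L02.piRightHom_surjective_of_finite (M := F') (Q := fun _ : A => R)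
      (fun a => (⟨v a, Submodule.subset_span ⟨a, rfl⟩⟩ : F') ⊗ₜ[R] (1 : R))
    refine ⟨z, Groth.L02.isMittagLeffler_pi_fin n A (fun _ => R) ?_⟩
    rw [Groth.L02.piRightHom_rTensor, hz]
    funext a
    simp only [LinearMap.rTensor_tmul, Submodule.subtype_apply]
    exact (hwv a).symm
  · rintro _ ⟨a, rfl⟩
    obtain ⟨z, hz⟩ := hF''
    let u := TensorProduct.piRightHom R R F'' (fun _ : A => R) z a
    have h1 : F''.subtype.rTensor R u = w a := by
      simp only [w, ← hz, Groth.L02.piRightHom_rTensor, u]
    have h2 : ∀ t : TensorProduct R F'' R, TensorProduct.rid R _ (F''.subtype.rTensor R t) =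
        ((TensorProduct.rid R F'' t : F'') : Fin n → R) := fun t => by
      induction t using TensorProduct.induction_on with
      | zero => simp
      | tmul a b => simp
      | add a b ha hb => simp only [map_add, Submodule.coe_add, ha, hb]
    show TensorProduct.rid R _ (w a) ∈ F''
    rw [← h1, h2]
    exact SetLike.coe_mem _

end Groth.Agent.S6347
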