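import Groth.Statements.S1254
import Groth.Agent.L20.RG.Chain
import Groth.Agent.L20.RG.Projective

set_option autoImplicit false
universe u
open FlatMor

set_option backward.isDefEq.respectTransparency.types false
set_option linter.style.haveILetI false
open TensorProduct

open AlgebraicGeometry CategoryTheory Limits in
theorem Groth.Agent.S1254.geomIrredFibres_baseChange {R B : Type u} [CommRing R] [CommRing B] [Algebra R B]
    (h : FlatCA.GeomIrredFibres R B) (A : Type u) [CommRing A] [Algebra R A] :
    FlatCA.GeomIrredFibres A (A ⊗[R] B) := by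
  haveI := h
  have sq := isPullback_SpecMap_of_isPushout (CommRingCat.ofHom (algebraMap R A)) (CommRingCat.ofHom (algebraMap R B))
    _ _ (CommRingCat.isPushout_tensorProduct R A B)
  exact MorphismProperty.of_isPullback sq.flip (show GeometricallyIrreducible _ from h)

namespace Groth.Agent.S1254

/-- Let S be a finitely presented R-algebra, N a finitely presented S-module which is flat over R, and 𝔯
a prime of R such that N/S/R admits a complete dévissage over 𝔯. Then for some f ∈ R outside 𝔯 the
localization N_f is projective over R_f, and is R_f-isomorphic to a finite product of free modules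
B_i^{r_i} over smooth R_f-algebras B_i whose fibres are geometrically irreducible. -/
theorem result {R S : Type u} [CommRing R] [CommRing S] [Algebra R S] [Algebra.FinitePresentation R S]
    (N : Type u) [AddCommGroup N] [Module S N] [Module R N] [IsScalarTower R S N] [Module.FinitePresentation S N] [Module.Flat R N]
    (rr : Ideal R) [rr.IsPrime] (D : FlatCA.CompleteDevissage R S N rr) :
    ∃ f : R, f ∉ rr ∧
      Module.Projective (Localization.Away f) (LocalizedModule (Submonoid.powers f) N) ∧
      ∃ (k : ℕ) (B : Fin k → Type u) (_ : ∀ i, CommRing (B i)) (_ : ∀ i, Algebra (Localization.Away f) (B i)) (r : Fin k → ℕ),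
        (∀ i, Algebra.Smooth (Localization.Away f) (B i) ∧ FlatCA.GeomIrredFibres (Localization.Away f) (B i)) ∧
        Nonempty (LocalizedModule (Submonoid.powers f) N ≃ₗ[Localization.Away f] (∀ i, Fin (r i) → B i)) := by
  classical
  obtain ⟨f, hf, hgood⟩ := Groth.L20.RG.exists_good D
  refine ⟨f, hf, ?_⟩
  let A := Localization.Away f
  haveI := Groth.L20.RG.isScalarTower_zero D
  haveI := fun i => Groth.L20.RG.isScalarTower_succ D i
  have hinj := Groth.L20.RG.injective_step D f hgood
  let P : ℕ → Type u := fun i => A ⊗[R] (Fin (D.r i) → D.B i)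
  let M : ℕ → Type u := fun i => A ⊗[R] D.M i
  have hprojP : ∀ i, i < D.n → Module.Projective A (P i) := fun i hi => by
    haveI := D.smooth i hi
    haveI := (Groth.L20.RG.DomFib.of_smooth_geomIrredFibres (D.geomIrred i hi)).projective
    haveI : Module.Projective R (Fin (D.r i) → D.B i) :=
      Module.Projective.of_equiv (DFinsupp.linearEquivFunOnFintype (R := R) (M := fun _ : Fin (D.r i) => D.B i))
    exact Module.Projective.tensorProduct
  have hlast : Nonempty (M (D.n - 1) ≃ₗ[A] P (D.n - 1)) :=
    ⟨(LinearEquiv.ofBijective (((D.α (D.n - 1)).restrictScalars R).baseChange A)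
      ⟨hinj _ (Nat.sub_lt D.pos one_pos), LinearMap.lTensor_surjective A D.cokerLast⟩).symm⟩
  have hsplit : ∀ i, i + 1 < D.n → Module.Projective A (M (i + 1)) → Nonempty (M i ≃ₗ[A] P i × M (i + 1)) :=
      fun i hi hP => by
    haveI := hP
    let g : D.M i →ₗ[R] D.M (i + 1) :=
      ((D.isoCoker i hi).toLinearMap ∘ₗ (LinearMap.range (D.α i)).mkQ).restrictScalars R
    have hg : Function.Surjective g := (D.isoCoker i hi).surjective.comp (Submodule.mkQ_surjective _)
    have hex : Function.Exact ((D.α i).restrictScalars R) g :=
      (D.α i).exact_map_mkQ_range.comp_injective _ (D.isoCoker i hi).injective (D.isoCoker i hi).map_zero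
    exact Groth.L20.RG.exists_prod_equiv _ (g.baseChange A) (hinj i (by omega)) (LinearMap.lTensor_surjective A hg)
      (lTensor_exact A hex hg)
  have hP : ∀ i, i < D.n → Module.Projective A (M i) :=
    Groth.L20.RG.descending (n := D.n) (P := fun i => Module.Projective A (M i))
      (by haveI := hprojP _ (Nat.sub_lt D.pos one_pos); exact Module.Projective.of_equiv hlast.some.symm)
      fun i hi h => by
        haveI := h
        haveI := hprojP i (by omega)
        exact Module.Projective.of_equiv (hsplit i hi h).some.symm
  let eN : LocalizedModule (Submonoid.powers f) N ≃ₗ[A] M 0 :=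
    ((IsLocalizedModule.isBaseChange (Submonoid.powers f) A (LocalizedModule.mkLinearMap (Submonoid.powers f) N)).equiv.symm).trans
      ((D.isoN.restrictScalars R).baseChange R A _ _)
  haveI := hP 0 D.pos
  refine ⟨Module.Projective.of_equiv eN.symm, D.n, fun i => A ⊗[R] D.B i, fun i => inferInstance,
    fun i => inferInstance, fun i => D.r i, fun i => ⟨?_, ?_⟩, ?_⟩
  · haveI := D.smooth i i.2
    infer_instance
  · exact geomIrredFibres_baseChange (D.geomIrred i i.2) A
  · obtain ⟨e⟩ := Groth.L20.RG.nonempty_pi_equiv (R := A) M P D.n D.pos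
      (fun i hi => hsplit i hi (hP _ hi)) hlast
    exact ⟨(eN.trans e).trans (LinearEquiv.piCongrRight fun i =>
      TensorProduct.piRight R A A fun _ : Fin (D.r i) => D.B i)⟩


end Groth.Agent.S1254
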