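import Groth.Statements.S1226
import Groth.Agent.L20.RG.ImpurityEtale
import Mathlib.RingTheory.Unramified.LocalStructure

set_option autoImplicit false
set_option linter.style.haveILetI false
set_option backward.isDefEq.respectTransparency.types false
universe u
open FlatMor

set_option backward.isDefEq.respectTransparency.types false
namespace Groth.Agent.S1226

/-- Ring form, X = Spec B affine: let B be a finite type A-algebra, N a finite B-module and p a prime of
A; let A' be an A-algebra with a prime p' over p such that A' is of finite type over A and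
quasi-finite at p', and let B', N' be the base changes of B, N. If N is pure along the fibre over p
then N' is pure along the fibre over p'. -/
theorem result {A B : Type u} [CommRing A] [CommRing B] [Algebra A B] [Algebra.FiniteType A B]
    (N : Type u) [AddCommGroup N] [Module B N] [Module.Finite B N] (p : Ideal A) [p.IsPrime]
    (A' B' N' : Type u) [CommRing A'] [CommRing B'] [Algebra A A'] [Algebra B B'] [Algebra A' B'] [Algebra A B']
    [IsScalarTower A B B'] [IsScalarTower A A' B'] [Algebra.IsPushout A B A' B']
    [AddCommGroup N'] [Module B' N'] [Module B N'] [IsScalarTower B B' N'] (f : N →ₗ[B] N') (hf : IsBaseChange B' f)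
    (p' : Ideal A') [p'.IsPrime] [p'.LiesOver p] [Algebra.FiniteType A A'] [Algebra.QuasiFiniteAt A p']
    (h : FlatCA.IsPureAlong A B N p) : FlatCA.IsPureAlong A' B' N' p' := by
  intro A'' B'' N'' _ _ _ _ _ _ _ _ _ _ _ _ _ _ g t' t _ _ P _ hnhd himp
  haveI := hnhd.1
  haveI : t.LiesOver p' := hnhd.2.1
  obtain ⟨hpush, hg, htt, ht, hP, hass, hno⟩ := himp
  letI : Algebra A A'' := ((algebraMap A' A'').comp (algebraMap A A')).toAlgebra
  letI : Algebra B B'' := ((algebraMap B' B'').comp (algebraMap B B')).toAlgebra
  letI : Algebra A B'' := ((algebraMap B' B'').comp (algebraMap A B')).toAlgebra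
  haveI : IsScalarTower A A' A'' := IsScalarTower.of_algebraMap_eq fun _ => rfl
  haveI : IsScalarTower B B' B'' := IsScalarTower.of_algebraMap_eq fun _ => rfl
  haveI : IsScalarTower A B' B'' := IsScalarTower.of_algebraMap_eq fun _ => rfl
  haveI : IsScalarTower A B B'' := IsScalarTower.of_algebraMap_eq fun x => by
    show algebraMap B' B'' (algebraMap A B' x) = algebraMap B' B'' (algebraMap B B' (algebraMap A B x))
    rw [← IsScalarTower.algebraMap_apply A B B']
  haveI : IsScalarTower A A'' B'' := IsScalarTower.of_algebraMap_eq fun x => by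
    show algebraMap B' B'' (algebraMap A B' x) = algebraMap A'' B'' (algebraMap A' A'' (algebraMap A A' x))
    rw [← IsScalarTower.algebraMap_apply A' A'' B'', IsScalarTower.algebraMap_apply A' B' B'',
      ← IsScalarTower.algebraMap_apply A A' B']
  letI : Module B N'' := Module.compHom N'' (algebraMap B B')
  haveI : IsScalarTower B B' N'' := IsScalarTower.of_algebraMap_smul fun _ _ => rfl
  haveI : IsScalarTower B B'' N'' := IsScalarTower.of_algebraMap_smul fun r x => by
    show algebraMap B' B'' (algebraMap B B' r) • x = (algebraMap B B' r) • x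
    rw [algebraMap_smul]
  haveI : t.LiesOver p := Ideal.LiesOver.trans t p' p
  have hs : Algebra.IsPushout A A' B B' := Algebra.IsPushout.symm inferInstance
  have hpush' : Algebra.IsPushout A B A'' B'' :=
    Algebra.IsPushout.symm ((Algebra.IsPushout.comp_iff A A' B B').mpr hpush.symm)
  have himp' : FlatCA.IsImpurity A B N p A'' B'' N'' ((g.restrictScalars B).comp f) t' t P :=
    ⟨hpush', hf.comp hg, htt, inferInstance, hP, hass, hno⟩
  obtain ⟨n, s, a, b, hw, hle, -, hs', ha⟩ := Groth.L20.RG.exists_wit_of_isImpurity himp'
  haveI : Algebra.FiniteType A A'' := Algebra.FiniteType.trans (inferInstance : Algebra.FiniteType A A') inferInstance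
  haveI : Algebra.QuasiFiniteAt A t := by
    letI := Localization.AtPrime.algebraOfLiesOver p' t
    haveI : Algebra.QuasiFinite A (Localization.AtPrime p') := ‹Algebra.QuasiFiniteAt A p'›
    haveI : Algebra.QuasiFinite A' A'' := inferInstance
    haveI : Algebra.QuasiFinite A' (Localization.AtPrime t) := inferInstance
    haveI : Algebra.QuasiFinite (Localization.AtPrime p') (Localization.AtPrime t) :=
      Algebra.QuasiFinite.of_restrictScalars A' (Localization.AtPrime p') (Localization.AtPrime t)
    haveI : IsScalarTower A (Localization.AtPrime p') (Localization.AtPrime t) := IsScalarTower.of_algebraMap_eq fun x => by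
      rw [IsScalarTower.algebraMap_apply A A' (Localization.AtPrime p'),
        ← IsScalarTower.algebraMap_apply A' (Localization.AtPrime p') (Localization.AtPrime t),
        ← IsScalarTower.algebraMap_apply A A' (Localization.AtPrime t)]
    exact Algebra.QuasiFinite.trans A (Localization.AtPrime p') (Localization.AtPrime t)
  haveI : p.LiesOver p := ⟨rfl⟩
  obtain ⟨R, B₁, N₁, i1, i2, i3, i4, i5, i6, i7, i8, i9, i10, i11, i12, i13, i14, f₁, u', u, hu', hu, Q, hQ, himp₁, _, aA,
    tA, hn⟩ := Groth.L20.RG.hasImpurity_etale_of_quasiFinite p (L := A) p t' t hle hw hs' ha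
  have : aA = i3 := Algebra.algebra_ext _ _ fun r =>
    (@IsScalarTower.algebraMap_apply A A R _ _ _ (Algebra.id A) aA i3 tA r).symm
  subst this
  exact h R B₁ N₁ f₁ u' u Q hn himp₁

end Groth.Agent.S1226
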