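import Groth.Statements.S6295
import Mathlib.Tactic
import Mathlib.RingTheory.Spectrum.Prime.Module
import Mathlib.RingTheory.LocalRing.Module
import Mathlib.RingTheory.Localization.AtPrime.Basic
import Mathlib.RingTheory.Ideal.KrullsHeightTheorem
import Mathlib.LinearAlgebra.Matrix.NonsingularInverse
import Mathlib.RingTheory.TensorProduct.Quotient
import Mathlib.RingTheory.Flat.FaithfullyFlat.Basic
import Mathlib.LinearAlgebra.TensorProduct.Prod
import Mathlib.RingTheory.LocalProperties.Reduced

set_option autoImplicit false
universe u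
open CAlg

namespace Groth.Agent.S6295

/-- Let R be a reduced ring. Then every localization R_p at a minimal prime p is a field and the map R →
∏_{p minimal} R_p is injective (so R is a subring of a product of fields); moreover the set of
zerodivisors of R is the union of the minimal primes. -/
theorem result (R : Type u) [CommRing R] [IsReduced R] : (∀ p : PrimeSpectrum R, p.asIdeal ∈ minimalPrimes R → IsField (Localization.AtPrime p.asIdeal)) ∧ Function.Injective (algebraMap R (∀ p : {p : PrimeSpectrum R // p.asIdeal ∈ minimalPrimes R}, Localization.AtPrime p.1.asIdeal)) ∧ (∀ x : R, x ∉ nonZeroDivisors R ↔ ∃ p ∈ minimalPrimes R, x ∈ p) := by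
  refine ⟨fun p hp => ?_, ?_, fun x => ?_⟩
  · have hle : IsLocalRing.maximalIdeal (Localization.AtPrime p.asIdeal) ≤ nilradical (Localization.AtPrime p.asIdeal) := by
      rw [nilradical_eq_sInf]
      refine le_sInf fun Q (hQ : Q.IsPrime) => ?_
      have h1 : Q.comap (algebraMap R (Localization.AtPrime p.asIdeal)) ≤ p.asIdeal :=
        (Ideal.comap_mono (IsLocalRing.le_maximalIdeal hQ.ne_top)).trans_eq
          (IsLocalization.AtPrime.under_maximalIdeal (Localization.AtPrime p.asIdeal) p.asIdeal)
      have h2 := le_antisymm h1 (hp.2 ⟨inferInstance, bot_le⟩ h1)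
      have h3 : Ideal.map (algebraMap R (Localization.AtPrime p.asIdeal)) (Q.under R) =
          Ideal.map (algebraMap R (Localization.AtPrime p.asIdeal))
            ((IsLocalRing.maximalIdeal (Localization.AtPrime p.asIdeal)).under R) :=
        congrArg _ (h2.trans (IsLocalization.AtPrime.under_maximalIdeal (Localization.AtPrime p.asIdeal) p.asIdeal).symm)
      rw [IsLocalization.map_under p.asIdeal.primeCompl, IsLocalization.map_under p.asIdeal.primeCompl] at h3
      exact h3.ge
    rw [nilradical_eq_zero, Ideal.zero_eq_bot, le_bot_iff] at hle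
    exact IsLocalRing.isField_iff_maximalIdeal_eq.mpr hle
  · rw [injective_iff_map_eq_zero]
    intro x hx
    have hn : x ∈ nilradical R := by
      rw [nilradical, Ideal.zero_eq_bot, ← Ideal.sInf_minimalPrimes, Ideal.mem_sInf]
      intro P hP
      have := hP.1.1
      obtain ⟨⟨s, hs⟩, hs'⟩ := (IsLocalization.map_eq_zero_iff P.primeCompl (Localization.AtPrime P (hp := hP.1.1)) x).mp
        (congrFun hx ⟨⟨P, hP.1.1⟩, hP⟩)
      exact (hP.1.1.mem_or_mem (show s * x ∈ P by simp [hs'])).resolve_left hs
    rwa [nilradical_eq_zero] at hn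
  · constructor
    · intro hx
      simp only [mem_nonZeroDivisors_iff_right, not_forall] at hx
      obtain ⟨y, hy, hy0⟩ := hx
      have hn : y ∉ nilradical R := by rwa [nilradical_eq_zero]
      rw [nilradical, Ideal.zero_eq_bot, ← Ideal.sInf_minimalPrimes, Ideal.mem_sInf] at hn
      push Not at hn
      obtain ⟨P, hP, hyP⟩ := hn
      exact ⟨P, hP, (hP.1.1.mem_or_mem (show y * x ∈ P by simp [hy])).resolve_left hyP⟩
    · rintro ⟨P, hP, hxP⟩ hx
      exact Set.disjoint_left.mp (Ideal.disjoint_nonZeroDivisors_of_mem_minimalPrimes hP) hxP hx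

end Groth.Agent.S6295
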