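import Groth.Statements.S1456
import Groth.Agent.L20.SmoothStrat.Spread
import Groth.Agent.L20.SmoothStrat.Model
import Groth.Agent.S6295

set_option autoImplicit false
universe u
open FlatMor

set_option backward.isDefEq.respectTransparency.types false
set_option maxHeartbeats 1000000
set_option maxSynthPendingDepth 3
set_option linter.style.haveILetI false
set_option backward.isDefEq.respectTransparency false
namespace Groth.Agent.S1456

open AlgebraicGeometry CategoryTheory Limits in
/-- For f : X → S of finite presentation with S reduced and for η generic in an irreducible component of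
S, there are an open U ∋ η of S, a morphism V → U which is finite locally free, surjective and
universally injective, and, on X_V = X ×_S V, ideal sheaves J_0 ≤ J_1 ≤ ... ≤ J_t = O of finite type
with J_0 cutting out a thickening of X_V, such that each locally closed stratum supp(J_i) ∖
supp(J_{i+1}), as a subscheme of the closed subscheme cut out by J_i, is smooth over V. -/
theorem result {X S : Scheme.{u}} (f : X ⟶ S) [LocallyOfFinitePresentation f] [QuasiCompact f] [QuasiSeparated f] [IsReduced S]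
    (η : S) (W : Set ↑S) (hW : W ∈ irreducibleComponents ↑S) (hη : IsGenericPoint η W) :
    ∃ (U : S.Opens) (V : Scheme.{u}) (v : V ⟶ (U : Scheme.{u})), η ∈ U ∧ Surjective v ∧ UniversallyInjective v ∧ Mor2.IsFinLocFree v ∧
      ∃ (t : ℕ) (J : Fin (t + 1) → (pullback f (v ≫ U.ι)).IdealSheafData), Monotone J ∧ J (Fin.last t) = ⊤ ∧
        ((J 0).support : Set ↑(pullback f (v ≫ U.ι))) = Set.univ ∧ (∀ i, ∀ O : (pullback f (v ≫ U.ι)).affineOpens, ((J i).ideal O).FG) ∧
        ∀ i : Fin t, Smooth (((J i.castSucc).subschemeι ⁻¹ᵁ (J i.succ).support.compl).ι ≫ (J i.castSucc).subschemeι ≫ pullback.snd f (v ≫ U.ι)) := by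
  -- an affine chart and the field at the generic point
  obtain ⟨U₀, hU₀, hηU₀, -⟩ := exists_isAffineOpen_mem_and_subset (x := η) (U := (⊤ : S.Opens)) trivial
  let R : Type u := Γ(S, U₀)
  let e₀ : Spec (CommRingCat.of R) ⟶ S := hU₀.fromSpec
  let ζ : PrimeSpectrum R := hU₀.primeIdealOf ⟨η, hηU₀⟩
  have hζ : e₀ ζ = η := hU₀.fromSpec_primeIdealOf ⟨η, hηU₀⟩
  haveI : _root_.IsReduced R := inferInstanceAs (_root_.IsReduced Γ(S, U₀))
  have hmin : ζ.asIdeal ∈ minimalPrimes R := by
    refine ⟨⟨ζ.2, bot_le⟩, fun Q hQ hQle => ?_⟩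
    let Q' : PrimeSpectrum R := ⟨Q, hQ.1⟩
    have hsp : Q' ⤳ ζ := (PrimeSpectrum.le_iff_specializes Q' ζ).1 hQle
    have h1 : e₀ Q' ⤳ η := hζ ▸ hsp.map e₀.continuous
    have hW' : W = closure {η} := hη.def.symm
    have h2 : closure {η} ⊆ closure {e₀ Q'} := h1.closure_subset
    have h3 : η ⤳ e₀ Q' := hη.specializes ((hW'.trans (le_antisymm h2 (hW' ▸
      hW.2 isIrreducible_singleton.closure (hW'.le.trans h2)))).ge (subset_closure rfl))
    have h4 : e₀ Q' = η := (h1.antisymm h3).eq
    exact (congrArg PrimeSpectrum.asIdeal (hU₀.fromSpec.isOpenEmbedding.injective (hζ.trans h4.symm))).le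
  have hF : IsField (Localization.AtPrime ζ.asIdeal) := (Groth.Agent.S6295.result R).1 ζ hmin
  letI : Field (Localization.AtPrime ζ.asIdeal) := hF.toField
  let K : Type u := Localization.AtPrime ζ.asIdeal
  -- the stratification of the generic fibre
  let sK : Spec (CommRingCat.of K) ⟶ S := Spec.map (CommRingCat.ofHom (algebraMap R K)) ≫ e₀
  obtain ⟨L, hfin, hle, hst⟩ := Groth.L20.SmoothStrat.exists_strat (pullback.snd f sK) (AlgebraicClosure K) ⊤
  haveI := hfin
  haveI : IsPurelyInseparable K L := (le_perfectClosure_iff K _ L).1 hle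
  obtain ⟨t, I, hmono, h0, hlast, hsm⟩ := hst.exists_chain _ isClosed_univ
  have hI0 : SetLike.coe (I 0).support = Set.univ := by
    rw [h0, Scheme.IdealSheafData.coe_support_vanishingIdeal]
    rfl
  -- a finite free model of the extension
  classical
  let M := ζ.asIdeal.primeCompl
  let n := Module.finrank K L
  let b : Module.Basis (Fin n) K L := Module.finBasis K L
  let c : Fin n ⊕ Fin n × Fin n × Fin n → K := Sum.elim (fun l => b.repr 1 l) fun q => b.repr (b q.1 * b q.2.1) q.2.2
  obtain ⟨d, hd⟩ := IsLocalization.exist_integer_multiples M (Finset.univ : Finset (Fin n ⊕ Fin n × Fin n × Fin n)) c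
  let R₁ := Localization.Away (d : R)
  have hdu : IsUnit (algebraMap R K (d : R)) := IsLocalization.map_units K d
  letI : Algebra R₁ K := (IsLocalization.Away.lift (d : R) hdu).toAlgebra
  haveI : IsScalarTower R R₁ K := IsScalarTower.of_algebraMap_eq fun r =>
    (IsLocalization.Away.lift_eq (d : R) hdu r).symm
  haveI : IsLocalization (M.map (algebraMap R R₁)) K :=
    IsLocalization.isLocalization_of_submonoid_le R₁ K (Submonoid.powers (d : R)) M
      (by rintro _ ⟨m, rfl⟩; exact M.pow_mem d.2 m)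
  have hrange : ∀ q, c q ∈ Set.range (algebraMap R₁ K) := by
    intro q
    obtain ⟨r, hr⟩ := hd q (Finset.mem_univ q)
    refine ⟨algebraMap R R₁ r * IsLocalization.Away.invSelf (d : R), ?_⟩
    have hr' : algebraMap R K r = algebraMap R K (d : R) * c q := by rw [hr, Algebra.smul_def]
    have hinv : algebraMap R K (d : R) * algebraMap R₁ K (IsLocalization.Away.invSelf (d : R)) = 1 := by
      rw [IsScalarTower.algebraMap_apply R R₁ K, ← map_mul, IsLocalization.Away.mul_invSelf, map_one]
    rw [map_mul, ← IsScalarTower.algebraMap_apply, hr', mul_right_comm, hinv, one_mul]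
  letI : Algebra R₁ L := ((algebraMap K L).comp (algebraMap R₁ K)).toAlgebra
  haveI : IsScalarTower R₁ K L := IsScalarTower.of_algebraMap_eq fun _ => rfl
  obtain ⟨g₁, hg₁, A, _, _, _, _, _, _, bA, hloc, hfp, hnil⟩ :=
    Groth.L20.SmoothStrat.exists_free_model (M.map (algebraMap R R₁)) b (fun l => hrange (Sum.inl l))
      (fun i j l => hrange (Sum.inr (i, j, l)))
  let R₂ := Localization.Away g₁
  letI : Algebra R A := ((algebraMap R₁ A).comp (algebraMap R R₁)).toAlgebra
  haveI : IsScalarTower R R₁ A := IsScalarTower.of_algebraMap_eq fun _ => rfl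
  haveI : IsLocalization (Algebra.algebraMapSubmonoid A ζ.asIdeal.primeCompl) L := by
    have : Algebra.algebraMapSubmonoid A M = Algebra.algebraMapSubmonoid A (M.map (algebraMap R R₁)) := by
      ext a
      simp only [Algebra.algebraMapSubmonoid, Submonoid.mem_map]
      exact ⟨fun ⟨m, hm, e⟩ => ⟨_, ⟨m, hm, rfl⟩, (IsScalarTower.algebraMap_apply R R₁ A m).symm.trans e⟩,
        fun ⟨_, ⟨m, hm, rfl⟩, e⟩ => ⟨m, hm, (IsScalarTower.algebraMap_apply R R₁ A m).trans e⟩⟩
    rw [this]
    exact hloc
  let e : Spec (CommRingCat.of R₂) ⟶ Spec (CommRingCat.of R) :=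
    Spec.map (CommRingCat.ofHom (algebraMap R₁ R₂)) ≫ Spec.map (CommRingCat.ofHom (algebraMap R R₁))
  haveI : IsOpenImmersion (Spec.map (CommRingCat.ofHom (algebraMap R₁ R₂))) := IsOpenImmersion.of_isLocalization g₁
  haveI : IsOpenImmersion (Spec.map (CommRingCat.ofHom (algebraMap R R₁))) := IsOpenImmersion.of_isLocalization (d : R)
  let vR : Spec (CommRingCat.of A) ⟶ Spec (CommRingCat.of R₂) := Spec.map (CommRingCat.ofHom (algebraMap R₂ A))
  have hve : vR ≫ e = Spec.map (CommRingCat.ofHom (algebraMap R A)) := by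
    simp only [vR, e, ← Spec.map_comp]
    congr 1
    ext r
    show algebraMap R₂ A (algebraMap R₁ R₂ (algebraMap R R₁ r)) = algebraMap R A r
    rw [← IsScalarTower.algebraMap_apply R₁ R₂ A]
    rfl
  -- the model of the generic fibre
  let X₀ := pullback f (vR ≫ e ≫ e₀)
  let f₀ : X₀ ⟶ Spec (CommRingCat.of A) := pullback.snd f (vR ≫ e ≫ e₀)
  let iL : Spec (CommRingCat.of L) ⟶ Spec (CommRingCat.of A) := Spec.map (CommRingCat.ofHom (algebraMap A L))
  have hL : iL ≫ vR ≫ e ≫ e₀ = Groth.L20.SmoothStrat.ext K L ≫ sK := by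
    rw [reassoc_of% hve]
    simp only [iL, sK, Groth.L20.SmoothStrat.ext, ← Spec.map_comp_assoc]
    congr 2
    refine CommRingCat.hom_ext (RingHom.ext fun r => ?_)
    show algebraMap A L (algebraMap R₁ A (algebraMap R R₁ r)) = algebraMap K L (algebraMap R K r)
    rw [← IsScalarTower.algebraMap_apply R₁ A L, IsScalarTower.algebraMap_apply R₁ K L,
      ← IsScalarTower.algebraMap_apply R R₁ K]
  have big : IsPullback (pullback.fst (pullback.snd f sK) (Groth.L20.SmoothStrat.ext K L) ≫ pullback.fst f sK)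
      (pullback.snd (pullback.snd f sK) (Groth.L20.SmoothStrat.ext K L)) f
      (Groth.L20.SmoothStrat.ext K L ≫ sK) :=
    (IsPullback.of_hasPullback _ _).paste_horiz (IsPullback.of_hasPullback f sK)
  let π : pullback (pullback.snd f sK) (Groth.L20.SmoothStrat.ext K L) ⟶ X₀ :=
    pullback.lift (pullback.fst _ _ ≫ pullback.fst f sK) (pullback.snd _ _ ≫ iL)
      (by rw [Category.assoc (pullback.snd _ _) iL, hL]; exact big.w)
  have sq : IsPullback π (pullback.snd (pullback.snd f sK) (Groth.L20.SmoothStrat.ext K L)) f₀ iL := by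
    refine IsPullback.of_right ?_ (pullback.lift_snd _ _ _) (IsPullback.of_hasPullback f (vR ≫ e ≫ e₀))
    rw [pullback.lift_fst, hL]
    exact big
  obtain ⟨g, hg, J, hJmono, hJlast, hJfg, hJ0, hJsm⟩ :=
    Groth.L20.SmoothStrat.exists_spread ζ.asIdeal f₀ sq I hmono hI0 hlast hsm
  -- the neighbourhood and the cover
  let D : (Spec (CommRingCat.of R₂)).Opens := e ⁻¹ᵁ PrimeSpectrum.basicOpen g
  let U : S.Opens := (e ≫ e₀) ''ᵁ D
  have hζD : ∃ z ∈ D, e z = ζ := by
    refine ⟨Spec.map (CommRingCat.ofHom (algebraMap R₂ A)) (iL ⟨⊥, Ideal.isPrime_bot⟩), ?_, ?_⟩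
    rotate_left
    · rw [← Scheme.Hom.comp_apply, hve]
      apply PrimeSpectrum.ext
      show ((⊥ : Ideal L).comap (algebraMap A L)).comap (algebraMap R A) = ζ.asIdeal
      ext r
      simp only [Ideal.mem_comap, Ideal.mem_bot]
      rw [show algebraMap A L (algebraMap R A r) = algebraMap K L (algebraMap R K r) by
        show algebraMap A L (algebraMap R₁ A (algebraMap R R₁ r)) = _
        rw [← IsScalarTower.algebraMap_apply R₁ A L, IsScalarTower.algebraMap_apply R₁ K L,
          ← IsScalarTower.algebraMap_apply R R₁ K], map_eq_zero]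
      refine ⟨fun h => by_contra fun hr => ?_, fun h => ?_⟩
      · exact (IsLocalization.map_units K (⟨r, hr⟩ : M)).ne_zero h
      · by_contra hne
        exact (IsLocalization.AtPrime.isUnit_to_map_iff K ζ.asIdeal r).1 (isUnit_iff_ne_zero.2 hne) h
    · show g ∉ (e (Spec.map (CommRingCat.ofHom (algebraMap R₂ A)) (iL ⟨⊥, Ideal.isPrime_bot⟩))).asIdeal
      rw [← Scheme.Hom.comp_apply, hve]
      intro h
      have h' : algebraMap A L (algebraMap R A g) = 0 := h
      rw [show algebraMap A L (algebraMap R A g) = algebraMap K L (algebraMap R K g) by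
        show algebraMap A L (algebraMap R₁ A (algebraMap R R₁ g)) = _
        rw [← IsScalarTower.algebraMap_apply R₁ A L, IsScalarTower.algebraMap_apply R₁ K L,
          ← IsScalarTower.algebraMap_apply R R₁ K], map_eq_zero] at h'
      exact (IsLocalization.map_units K (⟨g, hg⟩ : M)).ne_zero h'
  haveI : Module.Free R₂ A := Module.Free.of_basis bA
  haveI : Module.Finite R₂ A := Module.Finite.of_basis bA
  haveI : Nontrivial A := (algebraMap A L).domain_nontrivial
  haveI : Module.FaithfullyFlat R₂ A := by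
    haveI : Nonempty (Fin n) := ⟨⟨0, Module.finrank_pos⟩⟩
    exact Module.FaithfullyFlat.of_linearEquiv _ _ bA.repr
  haveI : IsFinite vR := (IsFinite.SpecMap_iff _).2 (RingHom.finite_algebraMap.2 inferInstance)
  haveI : Flat vR := (HasRingHomProperty.Spec_iff (P := @Flat)).2 (RingHom.flat_algebraMap_iff.2 inferInstance)
  haveI : LocallyOfFinitePresentation vR :=
    (HasRingHomProperty.Spec_iff (P := @LocallyOfFinitePresentation)).2 (RingHom.finitePresentation_algebraMap.2 hfp)
  haveI : Surjective vR := ⟨PrimeSpectrum.comap_surjective_of_faithfullyFlat⟩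
  haveI : UniversallyInjective vR := Groth.L02.Radicial.universallyInjective hnil
  obtain ⟨v, hv, hv1, hv2, hv3⟩ : ∃ v : ((vR ⁻¹ᵁ D : (Spec (CommRingCat.of A)).Opens) : Scheme.{u}) ⟶ (U : Scheme.{u}),
      v ≫ U.ι = (vR ⁻¹ᵁ D).ι ≫ vR ≫ e ≫ e₀ ∧ Surjective v ∧ UniversallyInjective v ∧ Mor2.IsFinLocFree v := by
    refine ⟨(vR ∣_ D) ≫ ((e ≫ e₀).isoImage D).hom, ?_, ?_, ?_, ?_, ?_, ?_⟩
    · simp only [U, Category.assoc, Scheme.Hom.isoImage_hom_ι, morphismRestrict_ι_assoc]
    · exact MorphismProperty.comp_mem _ _ _ (IsZariskiLocalAtTarget.restrict ‹Surjective vR› D) inferInstance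
    · exact MorphismProperty.comp_mem _ _ _ (IsZariskiLocalAtTarget.restrict ‹UniversallyInjective vR› D) inferInstance
    · exact MorphismProperty.comp_mem _ _ _ (IsZariskiLocalAtTarget.restrict ‹IsFinite vR› D) inferInstance
    · exact MorphismProperty.comp_mem _ _ _ (IsZariskiLocalAtTarget.restrict ‹Flat vR› D) inferInstance
    · exact MorphismProperty.comp_mem _ _ _ (IsZariskiLocalAtTarget.restrict ‹LocallyOfFinitePresentation vR› D) inferInstance
  refine ⟨U, _, v, ?_, hv1, hv2, hv3, ?_⟩
  · obtain ⟨z, hz, hzζ⟩ := hζD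
    exact ⟨z, hz, by show e₀ (e z) = η; rw [hzζ, hζ]⟩
  let m := (vR ⁻¹ᵁ D).ι
  let π₂ : pullback f (v ≫ U.ι) ⟶ X₀ := pullback.lift (pullback.fst _ _) (pullback.snd _ _ ≫ m)
    (by rw [Category.assoc, ← hv]; exact pullback.condition)
  have sq₂ : IsPullback π₂ (pullback.snd f (v ≫ U.ι)) f₀ m := by
    refine IsPullback.of_right ?_ (pullback.lift_snd _ _ _) (IsPullback.of_hasPullback f (vR ≫ e ≫ e₀))
    rw [pullback.lift_fst, ← hv]
    exact IsPullback.of_hasPullback f (v ≫ U.ι)
  refine Groth.L20.SmoothStrat.exists_restrict sq₂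
    (fun a => g ∉ ((Spec.map (CommRingCat.ofHom (algebraMap R A))) a).asIdeal) (fun x => ?_) J hJmono hJlast hJfg
    (fun x hx => hJ0 x ?_) (fun i w hw => hJsm i w ?_)
  · rw [← hve, Scheme.Hom.comp_apply]
    exact x.2
  · rw [Scheme.Hom.comp_apply]; exact hx
  · rw [← Category.assoc, Scheme.Hom.comp_apply]; exact hw

end Groth.Agent.S1456
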