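import Groth.Statements.S1458
import Mathlib.RingTheory.Finiteness.ModuleFinitePresentation
import Mathlib.LinearAlgebra.TensorProduct.RightExactness
import Mathlib.RingTheory.FinitePresentation
import Mathlib.RingTheory.TensorProduct.Maps

set_option autoImplicit false
universe u
open FlatMor

namespace Groth.Agent.S1458

open TensorProduct in
/-- Let A → B be a finite ring map of finite presentation. Then there are a finitely presented A-algebra
A_u and an idempotent e_u of B ⊗_A A_u such that for every A-algebra A' and every idempotent e of B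
⊗_A A' there is an A-algebra map A_u → A' whose induced map B ⊗ A_u → B ⊗ A' sends e_u to e. -/
theorem result {A B : Type u} [CommRing A] [CommRing B] [Algebra A B] [Module.Finite A B] [Algebra.FinitePresentation A B] :
    ∃ (Au : Type u) (_ : CommRing Au) (_ : Algebra A Au) (eu : B ⊗[A] Au), Algebra.FinitePresentation A Au ∧ IsIdempotentElem eu ∧
      ∀ (A' : Type u) [CommRing A'] [Algebra A A'] (e : B ⊗[A] A'), IsIdempotentElem e →
        ∃ φ : Au →ₐ[A] A', Algebra.TensorProduct.map (AlgHom.id A B) φ eu = e := by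
  classical
  have : Module.FinitePresentation A B := Module.FinitePresentation.of_finite_of_finitePresentation A B
  obtain ⟨n, π, hπ, hfg⟩ : ∃ (n : ℕ) (π : (Fin n → A) →ₗ[A] B), Function.Surjective π ∧
      (LinearMap.ker π).FG := by
    obtain ⟨n, K, e, hK⟩ := Module.FinitePresentation.exists_fin A B
    exact ⟨n, e.symm.toLinearMap ∘ₗ K.mkQ, e.symm.surjective.comp K.mkQ_surjective, by
      rw [LinearMap.ker_comp_of_ker_eq_bot _ e.symm.ker, Submodule.ker_mkQ]; exact hK⟩
  obtain ⟨m, k, hk⟩ := Submodule.fg_iff_exists_fin_generating_family.mp hfg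
  let b : Fin n → B := fun i => π (Pi.single i 1)
  let e0 : B ⊗[A] (MvPolynomial (Fin n ⊕ Fin m) A) := ∑ i, b i ⊗ₜ MvPolynomial.X (Sum.inl i)
  have hrep : ∀ {A' : Type u} [CommRing A'] [Algebra A A'] (t : B ⊗[A] A'),
      ∃ a : Fin n → A', t = ∑ i, b i ⊗ₜ a i := by
    intro A' _ _ t
    induction t using TensorProduct.induction_on with
    | zero => exact ⟨0, by simp⟩
    | add s t hs ht =>
      obtain ⟨a, rfl⟩ := hs
      obtain ⟨a', rfl⟩ := ht
      exact ⟨a + a', by simp [TensorProduct.tmul_add, Finset.sum_add_distrib]⟩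
    | tmul x a' =>
      obtain ⟨v, rfl⟩ := hπ x
      refine ⟨fun i => v i • a', ?_⟩
      conv_lhs => rw [← Finset.univ_sum_single v]
      rw [map_sum, TensorProduct.sum_tmul]
      refine Finset.sum_congr rfl fun i _ => ?_
      rw [TensorProduct.tmul_smul, TensorProduct.smul_tmul', ← map_smul]
      congr 2
      rw [← Pi.single_smul', smul_eq_mul, mul_one]
  obtain ⟨c0, hc0⟩ := hrep (A' := MvPolynomial (Fin n) A)
    ((∑ i, b i ⊗ₜ MvPolynomial.X i) * (∑ i, b i ⊗ₜ MvPolynomial.X i) - ∑ i, b i ⊗ₜ MvPolynomial.X i)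
  let ι : MvPolynomial (Fin n) A →ₐ[A] (MvPolynomial (Fin n ⊕ Fin m) A) := MvPolynomial.rename Sum.inl
  let rel : Fin n → (MvPolynomial (Fin n ⊕ Fin m) A) := fun i => ι (c0 i) - ∑ j, k j i • MvPolynomial.X (Sum.inr j)
  let J : Ideal (MvPolynomial (Fin n ⊕ Fin m) A) := Ideal.span (Set.range rel)
  let q : (MvPolynomial (Fin n ⊕ Fin m) A) →ₐ[A] (MvPolynomial (Fin n ⊕ Fin m) A) ⧸ J := Ideal.Quotient.mkₐ A J
  have hb : ∀ j, ∑ i, k j i • b i = 0 := by
    intro j
    have : k j ∈ LinearMap.ker π := by rw [← hk]; exact Submodule.subset_span ⟨j, rfl⟩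
    rw [LinearMap.mem_ker, ← Finset.univ_sum_single (k j), map_sum] at this
    rw [← this]
    refine Finset.sum_congr rfl fun i _ => ?_
    rw [← map_smul]
    congr 1
    rw [← Pi.single_smul', smul_eq_mul, mul_one]
  refine ⟨(MvPolynomial (Fin n ⊕ Fin m) A) ⧸ J, inferInstance, inferInstance, ∑ i, b i ⊗ₜ q (MvPolynomial.X (Sum.inl i)), ?_, ?_, ?_⟩
  · exact Algebra.FinitePresentation.quotient
      (Submodule.fg_span (Set.finite_range rel))
  · have h := congrArg (Algebra.TensorProduct.map (AlgHom.id A B) (q.comp ι)) hc0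
    simp only [map_sub, map_mul, map_sum, Algebra.TensorProduct.map_tmul, AlgHom.id_apply,
      AlgHom.comp_apply, ι, MvPolynomial.rename_X] at h
    have h0 : ∑ i, b i ⊗ₜ[A] q (ι (c0 i)) = 0 := by
      have : ∀ i, q (ι (c0 i)) = ∑ j, k j i • q (MvPolynomial.X (Sum.inr j)) := by
        intro i
        rw [← sub_eq_zero]
        simp_rw [← map_smul, ← map_sum, ← map_sub]
        exact Ideal.Quotient.eq_zero_iff_mem.mpr (Ideal.subset_span ⟨i, rfl⟩)
      simp_rw [this, TensorProduct.tmul_sum, TensorProduct.tmul_smul, TensorProduct.smul_tmul']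
      rw [Finset.sum_comm]
      simp_rw [← TensorProduct.sum_tmul, hb, TensorProduct.zero_tmul, Finset.sum_const_zero]
    rw [h0, sub_eq_zero] at h
    simpa [IsIdempotentElem] using h
  · intro A' _ _ e he
    obtain ⟨a, rfl⟩ := hrep e
    let ψ : MvPolynomial (Fin n) A →ₐ[A] A' := MvPolynomial.aeval a
    have h := congrArg (Algebra.TensorProduct.map (AlgHom.id A B) ψ) hc0
    simp only [map_sub, map_mul, map_sum, Algebra.TensorProduct.map_tmul, AlgHom.id_apply, ψ,
      MvPolynomial.aeval_X] at h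
    rw [he.eq, sub_self] at h
    let v : (Fin n → A) ⊗[A] A' := ∑ i, Pi.single i 1 ⊗ₜ ψ (c0 i)
    have hv : π.rTensor A' v = 0 := by
      rw [h, map_sum]
      rfl
    obtain ⟨w, hw⟩ := ((rTensor_exact A' (LinearMap.exact_subtype_ker_map π) hπ) v).mp hv
    have hw' : ∀ w : (LinearMap.ker π) ⊗[A] A', ∃ y : Fin m → A',
        (LinearMap.ker π).subtype.rTensor A' w = ∑ j, k j ⊗ₜ y j := by
      intro w
      induction w using TensorProduct.induction_on with
      | zero => exact ⟨0, by simp⟩
      | add s t hs ht =>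
        obtain ⟨y, hy⟩ := hs
        obtain ⟨y', hy'⟩ := ht
        exact ⟨y + y', by simp [hy, hy', TensorProduct.tmul_add, Finset.sum_add_distrib]⟩
      | tmul x a' =>
        obtain ⟨x, hx⟩ := x
        rw [← hk, Submodule.mem_span_range_iff_exists_fun] at hx
        obtain ⟨c, rfl⟩ := hx
        exact ⟨fun j => c j • a', by
          simp [TensorProduct.sum_tmul, TensorProduct.smul_tmul]⟩
    obtain ⟨y, hy⟩ := hw' w
    rw [hy] at hw
    have hcoef : ∀ i, ψ (c0 i) = ∑ j, k j i • y j := by
      intro i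
      have := congrArg (fun t => TensorProduct.lid A A' ((LinearMap.proj i).rTensor A' t)) hw
      simpa [v, map_sum, Pi.single_apply, ite_smul] using this.symm
    let φ₀ : (MvPolynomial (Fin n ⊕ Fin m) A) →ₐ[A] A' := MvPolynomial.aeval (Sum.elim a y)
    have hφ : ∀ x, φ₀ (ι x) = ψ x := fun x => by
      simp [φ₀, ι, ψ, MvPolynomial.aeval_rename]
    refine ⟨Ideal.Quotient.liftₐ J φ₀ ?_, ?_⟩
    · intro x hx
      have : J ≤ RingHom.ker φ₀ := by
        rw [Ideal.span_le]
        rintro _ ⟨i, rfl⟩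
        change φ₀ (rel i) = 0
        simp only [rel, map_sub, map_sum, map_smul, hφ, hcoef]
        simp [φ₀]
      exact this hx
    · simp only [map_sum, Algebra.TensorProduct.map_tmul, AlgHom.id_apply]
      refine Finset.sum_congr rfl fun i _ => ?_
      congr 1
      change φ₀ _ = _
      simp [φ₀]

end Groth.Agent.S1458
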