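import Groth.Statements.S1419
import Groth.Agent.L20.Weight.Props

set_option autoImplicit false
universe u
open FlatMor

set_option linter.style.haveILetI false
set_option backward.isDefEq.respectTransparency.types false

namespace Groth.Agent.S1419

open AlgebraicGeometry CategoryTheory Limits in
/-- Let f be locally quasi-finite with a weighting w, and let f' : X' → Y' be a base change of f with
projection h : X' → X. Then w ∘ h is a weighting of f'. -/
theorem result {X Y : Scheme.{u}} (f : X ⟶ Y) [LocallyQuasiFinite f] [LocallyOfFiniteType f] (w : ↑X → ℤ) (hw : MoreMor.IsWeighting f w)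
    {X' Y' : Scheme.{u}} (f' : X' ⟶ Y') (h : X' ⟶ X) (g : Y' ⟶ Y) (hc : IsPullback h f' f g) :
    MoreMor.IsWeighting f' (w ∘ ⇑h) := by
  intro V g' _ U hU
  have hsq := (IsPullback.of_hasPullback f' g').paste_horiz hc
  have hcomm : (U.ι ≫ pullback.fst f' g' ≫ h) ≫ f = (U.ι ≫ pullback.snd f' g') ≫ g' ≫ g := by
    simp only [Category.assoc, hsq.w]
  have e : pullback.lift (U.ι ≫ pullback.fst f' g' ≫ h) (U.ι ≫ pullback.snd f' g') hcomm =
      U.ι ≫ hsq.isoPullback.hom := by
    refine pullback.hom_ext ?_ ?_
    · rw [pullback.lift_fst, Category.assoc, hsq.isoPullback_hom_fst]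
    · rw [pullback.lift_snd, Category.assoc, hsq.isoPullback_hom_snd]
  have : IsOpenImmersion (pullback.lift _ _ hcomm) := by rw [e]; infer_instance
  exact Groth.L20.Weight.isLocallyConstant_of_openImmersion hw (g' ≫ g) (U.ι ≫ pullback.fst f' g' ≫ h) (U.ι ≫ pullback.snd f' g') hcomm

end Groth.Agent.S1419
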