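import Groth.Statements.S1428
import Groth.Agent.L20.Weight.Sep

set_option autoImplicit false
universe u
open FlatMor

set_option linter.style.haveILetI false
set_option backward.isDefEq.respectTransparency.types false

namespace Groth.Agent.S1428

open AlgebraicGeometry CategoryTheory Limits in
/-- Let f : X → Y be separated, locally of finite type and locally quasi-finite with finite fibres, w a
positive weighting of f, and suppose the fibre integral of w is at most d at every point of Y and
equals d at some point. Then the set Y_d of points where the integral equals d is open and the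
restriction of f over Y_d is finite. (Finiteness of the fibres, which makes the fibre integral a
finite sum, is carried here as an explicit hypothesis.) -/
theorem result {X Y : Scheme.{u}} (f : X ⟶ Y) [LocallyQuasiFinite f] [LocallyOfFiniteType f] [IsSeparated f] (hfin : ∀ y : Y, (f ⁻¹' {y}).Finite)
    (w : ↑X → ℤ) (hw : MoreMor.IsWeighting f w) (hpos : ∀ x, 0 < w x) (d : ℤ)
    (hmax : ∀ y : Y, MoreMor.fibreIntegral f w y ≤ d) (hatt : ∃ y : Y, MoreMor.fibreIntegral f w y = d) :
    ∃ hYd : IsOpen {y : ↑Y | MoreMor.fibreIntegral f w y = d}, IsFinite (f ∣_ ⟨{y : ↑Y | MoreMor.fibreIntegral f w y = d}, hYd⟩) := by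
  have key : ∀ y : Y, MoreMor.fibreIntegral f w y = d → ∃ W : Y.Opens, y ∈ W ∧
      (∀ z ∈ W, MoreMor.fibreIntegral f w z = d) ∧ IsFinite (f ∣_ W) := by
    intro y hy
    obtain ⟨V, _, g, _, N, hyN, hle, hfinite⟩ := Groth.L20.Weight.exists_nbhd_sep f hfin hw hpos y
    have heq : ∀ v ∈ N, MoreMor.fibreIntegral f w (g v) = MoreMor.fibreIntegral f w y := fun v hv =>
      le_antisymm (by rw [hy]; exact hmax _) (hle v hv)
    have hfin' := hfinite heq
    let W : Y.Opens := ⟨g '' (N : Set V), g.isOpenMap _ N.2⟩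
    have hNW : N ≤ g ⁻¹ᵁ W := fun v hv => ⟨v, hv, rfl⟩
    refine ⟨W, hyN, ?_, ?_⟩
    · rintro _ ⟨v, hv, rfl⟩
      rw [heq v hv, hy]
    let k := g.resLE W N hNW
    have hk : k ≫ W.ι = N.ι ≫ g := Scheme.Hom.resLE_comp_ι g hNW
    have : Surjective k := ⟨by
      rintro ⟨z, v, hv, rfl⟩
      refine ⟨⟨v, hv⟩, W.ι.isOpenEmbedding.injective ?_⟩
      rw [← Scheme.Hom.comp_apply, hk]
      rfl⟩
    have : Etale k := inferInstanceAs (Etale (g.resLE W N hNW))
    have h1 : IsPullback ((pullback.snd f g ⁻¹ᵁ N).ι ≫ pullback.fst f g) (pullback.snd f g ∣_ N) f (k ≫ W.ι) := by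
      rw [hk]
      exact (isPullback_morphismRestrict (pullback.snd f g) N).flip.paste_horiz (IsPullback.of_hasPullback f g)
    let top := (isPullback_morphismRestrict f W).flip.lift ((pullback.snd f g ⁻¹ᵁ N).ι ≫ pullback.fst f g)
      ((pullback.snd f g ∣_ N) ≫ k) (by rw [h1.w, Category.assoc])
    have h2 : IsPullback top (pullback.snd f g ∣_ N) (f ∣_ W) k := by
      refine IsPullback.of_right ?_ ((isPullback_morphismRestrict f W).flip.lift_snd _ _ _) (isPullback_morphismRestrict f W).flip
      rw [(isPullback_morphismRestrict f W).flip.lift_fst]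
      exact h1
    exact MorphismProperty.of_isPullback_of_descendsAlong (P := @IsFinite)
      (Q := @Surjective ⊓ @Flat ⊓ @LocallyOfFinitePresentation) h2.flip
      ⟨⟨inferInstance, inferInstance⟩, inferInstance⟩ hfin'
  have hopen : IsOpen {y : ↑Y | MoreMor.fibreIntegral f w y = d} := by
    rw [isOpen_iff_forall_mem_open]
    intro y hy
    obtain ⟨W, hW, hWd, -⟩ := key y hy
    exact ⟨W, hWd, W.2, hW⟩
  refine ⟨hopen, IsZariskiLocalAtTarget.of_forall_exists_morphismRestrict fun y => ?_⟩
  obtain ⟨W, hW, hWd, hWf⟩ := key y.1 y.2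
  let Yd : Y.Opens := ⟨_, hopen⟩
  refine ⟨Yd.ι ⁻¹ᵁ W, hW, ?_⟩
  have e : Yd.ι ''ᵁ (Yd.ι ⁻¹ᵁ W) = W := by
    rw [Scheme.Hom.image_preimage_eq_opensRange_inf, Scheme.Opens.opensRange_ι]
    exact inf_eq_right.mpr hWd
  rw [MorphismProperty.arrow_mk_iso_iff @IsFinite (morphismRestrictRestrict f Yd _), e]
  exact hWf

end Groth.Agent.S1428
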