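import Groth.Statements.S7185
import Groth.Agent.L20.Weight.Props

set_option autoImplicit false
universe u
open FlatMor

set_option linter.style.haveILetI false
set_option backward.isDefEq.respectTransparency.types false

namespace Groth.Agent.S7185

open AlgebraicGeometry CategoryTheory Limits in
/-- The restriction of a weighting of a locally quasi-finite morphism f : X → Y (locally of finite type
with discrete fibres) to an open subscheme X' of X is a weighting of X' → Y. -/
theorem result {X Y : Scheme.{u}} (f : X ⟶ Y) [LocallyQuasiFinite f] [LocallyOfFiniteType f] (w : X → ℤ)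
    (hw : MoreMor.IsWeighting f w) (X' : X.Opens) : MoreMor.IsWeighting (X'.ι ≫ f) (fun x => w (X'.ι x)) := by
  intro V g _ U hU
  have hcomm : (U.ι ≫ pullback.fst (X'.ι ≫ f) g ≫ X'.ι) ≫ f = (U.ι ≫ pullback.snd (X'.ι ≫ f) g) ≫ g := by
    simp only [Category.assoc, pullback.condition]
  have e : pullback.lift (U.ι ≫ pullback.fst (X'.ι ≫ f) g ≫ X'.ι) (U.ι ≫ pullback.snd (X'.ι ≫ f) g) hcomm =
      U.ι ≫ pullback.map (X'.ι ≫ f) g f g X'.ι (𝟙 V) (𝟙 Y) (by simp) (by simp) := by
    refine pullback.hom_ext ?_ ?_
    · simp only [pullback.lift_fst, Category.assoc, pullback.map]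
    · simp only [pullback.lift_snd, Category.assoc, pullback.map, Category.comp_id]
  have : IsOpenImmersion (pullback.lift _ _ hcomm) := by rw [e]; infer_instance
  exact Groth.L20.Weight.isLocallyConstant_of_openImmersion hw g (U.ι ≫ pullback.fst (X'.ι ≫ f) g ≫ X'.ι) (U.ι ≫ pullback.snd (X'.ι ≫ f) g) hcomm

end Groth.Agent.S7185
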