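import Groth.Statements.S0642
import Groth.Agent.L27.EtSite.HofPush
import Groth.Agent.L27.EtSite.PushStalk
import Groth.Agent.L27.EtSite.PropA
import Groth.Agent.L27.EtSite.PropB
import Groth.Agent.L27.EtSite.Push

set_option autoImplicit false
open CategoryTheory CategoryTheory.Limits AlgebraicGeometry Opposite
universe u
open EtCore

namespace Groth.Agent.S0642

/-- Let X_0 -> X be integral, universally injective and surjective (a universal homeomorphism). Then for
every abelian sheaf F on the small etale site of X and every q the pullback map from H^q(X, F) to
H^q(X_0, F|_{X_0}) is bijective. (Exactness of pullback of abelian sheaves, which always holds, is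
carried as an instance hypothesis.) -/
theorem result {X₀ X : Scheme.{u}} (i : X₀ ⟶ X) [IsIntegralHom i]
    [UniversallyInjective i] [Surjective i] [PreservesFiniteLimits (EtCoh.pull i)] (F : EtCoh.Ab X) (q : ℕ) :
    Function.Bijective (EtCore.Hpull i F q) := by
  have hA := Groth.L27.EtSite.propA_of_isIntegralHom i
  have hB := Groth.L27.EtSite.propB_of_isIntegralHom i
  have := (Groth.L27.EtSite.isIso_unit_iff i hA F).2 fun y _ => i.surjective y
  exact Groth.L27.EtSite.bijective_Hpull i F
    (fun q hq => Groth.L27.EtSite.isZero_Rpush_of_propB i hB _ q hq) q

end Groth.Agent.S0642
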