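import Groth.Statements.S6641
import Groth.Agent.L27.Colim.Etale
import Groth.Agent.L28.EtTrace.Field
import Groth.Agent.L27.EtSite.Push
import Groth.Agent.L27.EtSite.HofPush
import Mathlib.AlgebraicGeometry.ResidueField
import Mathlib.AlgebraicGeometry.Morphisms.FiniteType
import Mathlib.AlgebraicGeometry.AlgClosed.Basic
import Mathlib.CategoryTheory.Limits.Constructions.Filtered
import Mathlib.CategoryTheory.Preadditive.AdditiveFunctor
import Mathlib.CategoryTheory.Preadditive.Biproducts
-- import your own Groth.Agent.* helpers here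

set_option autoImplicit false
open CategoryTheory CategoryTheory.Limits AlgebraicGeometry Opposite
universe u
open Curves

namespace Groth.Agent.S6641

set_option backward.isDefEq.respectTransparency.types false
set_option linter.style.haveILetI false

theorem isZero_biproduct {C D : Type*} [Category C] [Category D] [Preadditive C] [Preadditive D]
    (G : C ⥤ D) [G.Additive] {β : Type*} [Fintype β] (F : β → C) [HasBiproduct F]
    (h : ∀ b, IsZero (G.obj (F b))) : IsZero (G.obj (⨁ F)) := by
  rw [IsZero.iff_id_eq_zero, ← CategoryTheory.Functor.map_id, ← IsBilimit.total (biproduct.isBilimit F), Functor.map_sum]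
  refine Finset.sum_eq_zero fun x _ => ?_
  rw [CategoryTheory.Functor.map_comp, (h x).eq_of_tgt (G.map ((biproduct.bicone F).π x)) 0, zero_comp]

/-- the cohomology of a coproduct of acyclic sheaves -/
theorem subsingleton_coprod (X : Scheme.{u}) [CompactSpace X] [QuasiSeparatedSpace X] {α : Type u}
    (F : α → EtCoh.Ab X) (q : ℕ) (hF : ∀ a, Subsingleton (EtCoh.H X (F a) q))
    (c : Cofan F) (hc : IsColimit c) : Subsingleton (EtCoh.H X c.pt q) := by
  haveI : (EtCoh.HF X q).Additive := ⟨fun {A B} {f g} => by
    refine AddCommGrpCat.ext fun e => ?_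
    show _ = (EtCoh.HF X q).map f e + (EtCoh.HF X q).map g e
    rw [Groth.L27.EtSite.HF_map_apply, Groth.L27.EtSite.HF_map_apply,
      Groth.L27.EtSite.HF_map_apply, Abelian.Ext.mk₀_add, Abelian.Ext.comp_add]
    rfl⟩
  haveI := Groth.L27.Colim.preservesColimitsOfShape_HF X q (Finset (Discrete α))
  haveI : HasColimitsOfSize.{u, u} (EtCoh.Ab X) := hasColimitsOfSizeShrink.{u, u, u + 1, u + 1} _
  have hz : IsZero ((EtCoh.HF X q).obj (colimit (CoproductsFromFiniteFiltered.liftToFinsetObj (Discrete.functor F)))) := by
    refine IsZero.of_iso ?_ (preservesColimitIso (EtCoh.HF X q) _)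
    rw [IsZero.iff_id_eq_zero]
    refine colimit.hom_ext fun S => IsZero.eq_of_src ?_ _ _
    refine IsZero.of_iso ?_ ((EtCoh.HF X q).mapIso (biproduct.isoCoproduct _).symm)
    refine isZero_biproduct (EtCoh.HF X q) _ fun x => ?_
    haveI : Subsingleton ↥((EtCoh.HF X q).obj (F x.1.as)) := hF x.1.as
    exact AddCommGrpCat.isZero_of_subsingleton ((EtCoh.HF X q).obj (F x.1.as))
  have e := IsColimit.coconePointUniqueUpToIso hc
    (CoproductsFromFiniteFiltered.liftToFinsetColimitCocone (Discrete.functor F)).isColimit
  exact AddCommGrpCat.subsingleton_of_isZero (hz.of_iso ((EtCoh.HF X q).mapIso e))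

/-- algebraically closed fields are acyclic -/
theorem subsingleton_H_algClosed (L : Type u) [Field L] [IsAlgClosed L]
    (F : EtCoh.Ab (Spec (CommRingCat.of L))) (i : ℕ) :
    Subsingleton (EtCoh.H (Spec (CommRingCat.of L)) F (i + 1)) := by
  refine subsingleton_of_forall_eq 0 fun a => ?_
  obtain ⟨E, _, _, _, _, hE⟩ := Groth.L28.EtTrace.exists_killing L i F a
  haveI := Groth.L27.EtSite.preservesFiniteLimits_pull (Groth.L28.EtTrace.specExt L E)
  have hb : Function.Bijective (algebraMap L E) := IsAlgClosed.algebraMap_bijective_of_isIntegral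
  have h1 : Module.finrank L E = 1 := by
    rw [← LinearEquiv.finrank_eq (LinearEquiv.ofBijective (Algebra.linearMap L E) hb), Module.finrank_self]
  simpa [h1] using Groth.L28.EtTrace.finrank_nsmul_eq_zero L E F (i + 1) a hE

/-- Let X be a smooth curve over an algebraically closed field k (here: X integral of dimension one,
smooth, separated and of finite type over k), and for a closed point x let i_x : Spec κ(x) ⟶ X be
its inclusion. Then H^q of the direct sum, over all closed points x, of the sheaves (i_x)_* Z (given
here as any colimit cofan of that family) vanishes for every q ≥ 1. -/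
theorem result (k : Type u) [Field k] [IsAlgClosed k] (X : Scheme.{u})
    (f : X ⟶ Spec (CommRingCat.of k)) [Smooth f] [IsSeparated f] [LocallyOfFiniteType f] [QuasiCompact f] [IsIntegral X]
    (hdim : topologicalKrullDim ↥X = 1)
    (c : Cofan fun x : {x : ↥X // IsClosed ({x} : Set ↥X)} =>
      (EtCoh.push (X.fromSpecResidueField x.1)).obj (EtCoh.const (Spec (X.residueField x.1)) ℤ))
    (hc : IsColimit c) (q : ℕ) (hq : 1 ≤ q) :
    Subsingleton (EtCoh.H X c.pt q) := by
  obtain ⟨i, rfl⟩ : ∃ i, q = i + 1 := ⟨q - 1, by omega⟩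
  haveI : CompactSpace ↥X := QuasiCompact.compactSpace_of_compactSpace f
  haveI : QuasiSeparatedSpace ↥X := quasiSeparatedSpace_of_quasiSeparated f
  haveI : JacobsonSpace ↥X := LocallyOfFiniteType.jacobsonSpace f
  refine subsingleton_coprod X _ (i + 1) (fun x => ?_) c hc
  haveI : IsClosedImmersion (X.fromSpecResidueField x.1) :=
    isClosed_singleton_iff_isClosedImmersion.1 x.2
  haveI := Groth.L27.EtSite.preservesFiniteLimits_pull (X.fromSpecResidueField x.1)
  haveI := Groth.L27.EtSite.propB_of_isIntegralHom (X.fromSpecResidueField x.1)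
  haveI : IsAlgClosed (X.residueField x.1) :=
    IsAlgClosed.of_ringEquiv _ _ (residueFieldIsoBase f x.1 x.2).commRingCatIsoToRingEquiv.symm
  haveI := subsingleton_H_algClosed (X.residueField x.1) (EtCoh.const _ ℤ) i
  exact (Groth.L27.EtSite.bijective_HofPush (X.fromSpecResidueField x.1) _ (fun r hr =>
    Groth.L27.EtSite.isZero_Rpush_of_propB _
      (Groth.L27.EtSite.propB_of_isIntegralHom (X.fromSpecResidueField x.1)) _ r hr) (i + 1)).injective.subsingleton

end Groth.Agent.S6641
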