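import Groth.Statements.S10862
import Groth.Agent.L01.NagataFiniteType
import Groth.Agent.L01.NagataComplete

set_option autoImplicit false
universe u
open CAlg

namespace Groth.Agent.S10862

/-- For a field k, an integral domain A of finite type over k with fraction field K, and a finite field
extension L of K, the integral closure of A in L is a finitely generated A-module. -/
theorem result (k A K L : Type u) [Field k] [CommRing A] [IsDomain A]
    [Algebra k A] [Algebra.FiniteType k A] [Field K] [Field L] [Algebra A K] [IsFractionRing A K] [Algebra K L]
    [FiniteDimensional K L] [Algebra A L] [IsScalarTower A K L] : Module.Finite A (integralClosure A L) := by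
  have hk : CAlg.IsNagata k := ⟨inferInstance, fun p hp => Groth.L01.NagataComplete.isN2_field _
    ((Ideal.Quotient.maximal_ideal_iff_isField_quotient p).mp hp.isMaximal')⟩
  have hA := Groth.L01.Nagata.isN2_of_isNagata
    (Groth.L01.Nagata.isNagata_of_finiteType (R := k) (S := A) hk)
  let e : FractionRing A ≃ₐ[A] K := IsLocalization.algEquiv (nonZeroDivisors A) _ _
  letI : Algebra (FractionRing A) K := e.toRingHom.toAlgebra
  letI : Algebra (FractionRing A) L := ((algebraMap K L).comp e.toRingHom).toAlgebra
  haveI : IsScalarTower (FractionRing A) K L := IsScalarTower.of_algebraMap_eq fun _ => rfl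
  haveI : IsScalarTower A (FractionRing A) L := IsScalarTower.of_algebraMap_eq fun a => by
    show _ = algebraMap K L (e (algebraMap A (FractionRing A) a))
    rw [e.commutes, ← IsScalarTower.algebraMap_apply]
  haveI : Module.Finite (FractionRing A) K :=
    Module.Finite.of_surjective (Algebra.linearMap (FractionRing A) K) e.surjective
  exact hA L (Module.Finite.trans K L)

end Groth.Agent.S10862
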