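import Groth.Statements.S1585
import Groth.Agent.L18.NormalizationField
import Groth.Agent.L22.BM.NormIso
import Groth.Agent.L18.NormalizationGeneric
-- import your own Groth.Agent.* helpers here

set_option autoImplicit false
universe u
open CategoryTheory CategoryTheory.Limits AlgebraicGeometry
open Variety

namespace Groth.Agent.S1585

/-- Part (1): and (4), for an integral scheme locally of finite type over a field: the normalization
morphism ν (normalization of X in its function field) is finite, dominant and an isomorphism over a
nonempty open, and the normalization is an integral scheme all of whose local rings are integrally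
closed domains. (The quasi-compactness/quasi-separatedness binders on Spec K(X) → X always hold;
they are needed only to form Mathlib's relative normalization.) -/
theorem result (k : Type u) [Field k] (X : Scheme.{u}) [X.Over (Spec (CommRingCat.of k))] [IsIntegral X] [LocallyOfFiniteType (X ↘ (Spec (CommRingCat.of k)))]
    [QuasiCompact (X.fromSpecStalk (genericPoint X))] [QuasiSeparated (X.fromSpecStalk (genericPoint X))] :
    IsFinite (Curv2.normalizationι X) ∧ IsDominant (Curv2.normalizationι X) ∧
      (∃ V : X.Opens, (V : Set X).Nonempty ∧ IsIso (Curv2.normalizationι X ∣_ V)) ∧
      IsIntegral (Curv2.normalization X) ∧ Pi1.IsNormalScheme (Curv2.normalization X) := by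
  have hg : X.fromSpecStalk (genericPoint X) =
      Spec.map (CommRingCat.ofHom (RingHom.id X.functionField)) ≫ X.fromSpecStalk (genericPoint X) := by simp
  haveI : IsFinite (Curv2.normalizationι X) :=
    Groth.L18.NormField.isFinite_fromNormalization (K := X.functionField) (φ := RingHom.id X.functionField)
      (X ↘ (Spec (CommRingCat.of k))) (RingHom.Finite.id _) hg
  haveI : Surjective (Curv2.normalizationι X) :=
    Groth.L18.NormField.surjective_fromNormalization (K := X.functionField) hg
  refine ⟨inferInstance, inferInstance, Groth.L22.BM.exists_isIso_normalizationι X, ?_, ?_⟩
  · exact inferInstanceAs (IsIntegral (Scheme.Hom.normalization (X := Spec (CommRingCat.of X.functionField))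
      (X.fromSpecStalk (genericPoint X))))
  · exact Groth.L18.NormField.isNormalScheme (K := X.functionField) hg

end Groth.Agent.S1585
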