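import Groth.Statements.S0227
import Groth.Agent.S6653
import Groth.Agent.S6641
import Groth.Agent.S0231
-- import your own Groth.Agent.* helpers here

set_option autoImplicit false
universe u
open CategoryTheory CategoryTheory.Limits AlgebraicGeometry
open Curves

namespace Groth.Agent.S0227

/-- On a smooth curve over an algebraically closed field the étale cohomology of G_m vanishes from
degree two on. -/
theorem result (k : Type u) [Field k] [IsAlgClosed k] (X : Scheme.{u}) (f : X ⟶ Spec (CommRingCat.of k))
    [Smooth f] [IsSeparated f] [LocallyOfFiniteType f] [QuasiCompact f] [IsIntegral X]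
    (hdim : topologicalKrullDim X = 1) (q : ℕ) (hq : 2 ≤ q) :
    Subsingleton (EtCoh.H X (EtCoh.Gm X) q) := by
  haveI : IsLocallyNoetherian X := LocallyOfFiniteType.isLocallyNoetherian f
  haveI : HasColimitsOfSize.{u, u} (EtCoh.Ab X) := hasColimitsOfSizeShrink.{u, u, u + 1, u + 1} _
  let F := fun x : {x : ↥X // IsClosed ({x} : Set ↥X)} =>
    (EtCoh.push (X.fromSpecResidueField x.1)).obj (EtCoh.const (Spec (X.residueField x.1)) ℤ)
  let c : Cofan F := colimit.cocone _
  obtain ⟨hm, ⟨e⟩⟩ := Groth.Agent.S6653.result k X f hdim c (colimit.isColimit _)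
  let φ := EtLim.GmPush (X.fromSpecStalk (genericPoint ↥X))
  let E : ShortComplex (EtCoh.Ab X) := ShortComplex.mk φ (cokernel.π φ) (cokernel.condition φ)
  have hE : E.ShortExact :=
    { exact := ShortComplex.exact_of_g_is_cokernel _ (cokernelIsCokernel φ)
      mono_f := hm
      epi_g := inferInstanceAs (Epi (cokernel.π φ)) }
  obtain ⟨i, rfl⟩ : ∃ i, q = i + 1 := ⟨q - 1, by omega⟩
  have h231 := Groth.Agent.S0231.result k X f hdim (i + 1) (by omega)
  haveI := Groth.Agent.S6641.result k X f hdim c (colimit.isColimit _) i (by omega)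
  refine subsingleton_of_forall_eq 0 fun x => ?_
  obtain ⟨y, rfl⟩ := Groth.L27.LimCoh.exists_δH hE i x (@Subsingleton.elim _ h231 _ _)
  have hy : y = 0 :=
    ((AddCommGrpCat.mono_iff_injective ((EtCoh.HF X i).map e.hom)).1 inferInstance)
      (Subsingleton.elim (α := EtCoh.H X c.pt i) _ _)
  rw [hy]
  exact map_zero _

end Groth.Agent.S0227
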