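import Groth.Statements.S4334
import Groth.Agent.S0227
import Groth.Agent.L28.CurveDim.Main
import Groth.Agent.L28.GmTorsion.Basic

set_option autoImplicit false
universe u
open CategoryTheory CategoryTheory.Limits AlgebraicGeometry Opposite
open EtSix
open CategoryTheory.Abelian

namespace Groth.Agent.S4334

/-- The degree-two step in canonical form: let X be a smooth projective curve over an algebraically
closed field k (here: X integral, with a proper morphism X -> Spec k that is smooth of relative
dimension 1), and n an integer that is nonzero in k, so that the n-th power map on G_m is an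
epimorphism of sheaves on the small etale site (taken as the hypothesis h). Then the boundary map
H^1(X, G_m) -> H^2(X, μ_n) of the Kummer sequence is surjective, and its kernel is the image of
multiplication by n on H^1(X, G_m). -/
theorem result (k : Type u) [Field k] [IsAlgClosed k] {X : Scheme.{u}} [IsIntegral X]
    (f : X ⟶ Spec (CommRingCat.of k)) [IsProper f] [SmoothOfRelativeDimension 1 f]
    (n : ℕ) (hn : (n : k) ≠ 0) (h : Epi (EtCoh.powMap X n)) :
    Function.Surjective (EtSix.kummerBoundary h 1) ∧
      (EtSix.kummerBoundary h 1).ker = (n • AddMonoidHom.id (EtCoh.H X (EtCoh.Gm X) 1)).range := by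
  haveI : Smooth f := SmoothOfRelativeDimension.smooth (n := 1) f
  have hdim : topologicalKrullDim X = 1 := by
    rw [Groth.L28.CurveDim.topologicalKrullDim_eq f 1]; norm_num
  haveI hH2 : Subsingleton (EtCoh.H X (EtCoh.Gm X) 2) := Groth.Agent.S0227.result k X f hdim 2 le_rfl
  refine ⟨fun x => ?_, ?_⟩
  · obtain ⟨y, hy⟩ := Ext.covariant_sequence_exact₁ _ (kummerShortExact h) x (Subsingleton.elim (α := EtCoh.H X (EtCoh.Gm X) 2) _ _) rfl
    exact ⟨y, hy⟩
  · ext x
    rw [AddMonoidHom.mem_ker, AddMonoidHom.mem_range]
    constructor
    · intro hx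
      obtain ⟨y, hy⟩ := Ext.covariant_sequence_exact₃ _ (kummerShortExact h) x rfl hx
      exact ⟨y, (Groth.L28.GmTorsion.comp_mk₀_powMap n 1 y).symm.trans hy⟩
    · rintro ⟨y, rfl⟩
      show ((n • y : EtCoh.H X (EtCoh.Gm X) 1)).comp (kummerShortExact h).extClass rfl = 0
      rw [← Groth.L28.GmTorsion.comp_mk₀_powMap n 1 y]
      refine (Ext.comp_assoc_of_second_deg_zero y _ _ rfl).trans ?_
      refine Eq.trans ?_ (Ext.comp_zero y _ 1 _ rfl)
      exact congrArg (fun z => y.comp z rfl) (kummerShortExact h).comp_extClass

end Groth.Agent.S4334
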