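import Groth.Statements.S0234
import Groth.Agent.L21.Extend.Split

set_option autoImplicit false
universe u
open CategoryTheory CategoryTheory.Limits AlgebraicGeometry
open Curves

namespace Groth.Agent.S0234

/-- On a locally Noetherian scheme, an invertible module on an open U extends to an invertible module on
X provided the local rings at the points outside U are unique factorisation domains. -/
theorem result (X : Scheme.{u}) [IsLocallyNoetherian X] (U : X.Opens)
    (L : (U : Scheme.{u}).Modules) (hL : PicF.IsInvertible L)
    (hufd : ∀ x : X, x ∉ U → UniqueFactorizationMonoid (X.presheaf.stalk x)) :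
    ∃ L' : X.Modules, PicF.IsInvertible L' ∧ Nonempty (L'.restrict U.ι ≅ L) := by
  exact Groth.L21.Extend.exists_invertible_extension U L hL hufd

end Groth.Agent.S0234
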