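import Groth.Statements.S0646
import Groth.Agent.L27.LimCoh.StageSys
import Groth.Prelude.Def_EtLim

set_option autoImplicit false
set_option linter.style.haveILetI false
open CategoryTheory CategoryTheory.Limits AlgebraicGeometry Opposite
universe u
open EtCore

set_option backward.isDefEq.respectTransparency.types false

namespace Groth.Agent.S0646

/-- For systems of sheaves pulled back from one stage: let ι be a directed preordered set, (X_i) an
inverse system of quasi-compact quasi-separated schemes indexed by ι with affine transition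
morphisms, X a limit with projections f_i, i₀ an index and F₀ an abelian sheaf on the small etale
site of X_{i₀}. Then H^p(X, f_{i₀}^{-1} F₀) is the colimit of the groups H^p(X_j, F₀|_{X_j}) over j
≥ i₀, in the concrete sense: every class on X is pulled back from some X_j, and a class on X_j that
pulls back to zero on X already pulls back to zero on some X_k, k ≥ j. (The source allows general
systems of sheaves (F_i, φ_{i'i}); only systems pulled back from a single stage are stated.)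
(Exactness of pullback of abelian sheaves, which always holds, is carried as an instance
hypothesis.) -/
theorem result {ι : Type u} [Preorder ι] [IsDirected ι (· ≤ ·)] (Xs : ιᵒᵖ ⥤ Scheme.{u})
    (haff : ∀ ⦃a b : ιᵒᵖ⦄ (h : a ⟶ b), IsAffineHom (Xs.map h))
    (hqc : ∀ a, CompactSpace ↥(Xs.obj a)) (hqs : ∀ a, QuasiSeparatedSpace ↥(Xs.obj a))
    (c : Cone Xs) (hc : IsLimit c) (i₀ : ι) (F₀ : EtCoh.Ab (Xs.obj (op i₀))) (p : ℕ)
    [∀ a, PreservesFiniteLimits (EtCoh.pull (c.π.app a))]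
    [∀ ⦃a b : ιᵒᵖ⦄ (h : a ⟶ b), PreservesFiniteLimits (EtCoh.pull (Xs.map h))] :
    (∀ ξ : EtCoh.H c.pt ((EtCoh.pull (c.π.app (op i₀))).obj F₀) p,
      ∃ (j : ι) (hj : i₀ ≤ j) (ξj : EtCoh.H (Xs.obj (op j)) ((EtCoh.pull (Xs.map (homOfLE hj).op)).obj F₀) p),
        EtCore.HpullVia (c.π.app (op j)) (Xs.map (homOfLE hj).op) (c.π.app (op i₀)) (c.w (homOfLE hj).op) F₀ p ξj = ξ) ∧
    (∀ (j : ι) (hj : i₀ ≤ j) (ξj : EtCoh.H (Xs.obj (op j)) ((EtCoh.pull (Xs.map (homOfLE hj).op)).obj F₀) p),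
      EtCore.HpullVia (c.π.app (op j)) (Xs.map (homOfLE hj).op) (c.π.app (op i₀)) (c.w (homOfLE hj).op) F₀ p ξj = 0 →
        ∃ (k : ι) (hk : j ≤ k), EtCore.Hpull (Xs.map (homOfLE hk).op) _ p ξj = 0) := by
    haveI : IsFiltered (Groth.L27.LimCoh.Above i₀) := inferInstance
    haveI : ∀ (j k : (Groth.L27.LimCoh.Above i₀)ᵒᵖ) (f : j ⟶ k),
        IsAffineHom (((Groth.L27.LimCoh.aboveIncl i₀).op ⋙ Xs).map f) := fun _ _ _ => haff _
    haveI : ∀ a, CompactSpace ↥(((Groth.L27.LimCoh.aboveIncl i₀).op ⋙ Xs).obj a) := fun _ => hqc _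
    haveI : ∀ a, QuasiSeparatedSpace ↥(((Groth.L27.LimCoh.aboveIncl i₀).op ⋙ Xs).obj a) := fun _ => hqs _
    haveI : ∀ a, PreservesFiniteLimits
        (EtCoh.pull (Groth.L27.LimCoh.prj (c.whisker (Groth.L27.LimCoh.aboveIncl i₀).op) a)) :=
      fun _ => ‹∀ a, PreservesFiniteLimits (EtCoh.pull (c.π.app a))› _
    haveI : ∀ {a b : (Groth.L27.LimCoh.Above i₀)ᵒᵖ} (g : b ⟶ a),
        PreservesFiniteLimits (EtCoh.pull (((Groth.L27.LimCoh.aboveIncl i₀).op ⋙ Xs).map g)) :=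
      fun {a b} g => ‹∀ ⦃a b : ιᵒᵖ⦄ (h : a ⟶ b), PreservesFiniteLimits (EtCoh.pull (Xs.map h))› _
    obtain ⟨h1, h2⟩ := (Groth.L27.LimCoh.stageSys Xs i₀ F₀).commutes_const
      (c.whisker (Groth.L27.LimCoh.aboveIncl i₀).op) (Groth.L27.LimCoh.isLimitAbove Xs c i₀ hc)
      (Groth.L27.LimCoh.stageθ Xs c i₀ F₀) (Groth.L27.LimCoh.stageθ_trans Xs c i₀ F₀) p
    refine ⟨fun ξ => ?_, fun j hj ξj h => ?_⟩
    · obtain ⟨a, e, he⟩ := h1 ξ
      exact ⟨a.unop.1, a.unop.2, e, (Groth.L27.LimCoh.HpullVia_eq (c.π.app (op a.unop.1))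
        (Xs.map (homOfLE a.unop.2).op) (c.π.app (op i₀)) (c.w (homOfLE a.unop.2).op) F₀ p e).trans he⟩
    · obtain ⟨k, g, hk⟩ := h2 (op ⟨j, hj⟩) ξj
        ((Groth.L27.LimCoh.HpullVia_eq (c.π.app (op j)) (Xs.map (homOfLE hj).op) (c.π.app (op i₀))
          (c.w (homOfLE hj).op) F₀ p ξj).symm.trans h)
      rw [Groth.L27.LimCoh.stageSys_φ] at hk
      exact ⟨k.unop.1, leOfHom g.unop, Groth.L27.LimCoh.Hpull_eq_zero_of_HpullThen _ _ _ p ξj hk⟩

end Groth.Agent.S0646
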