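import Groth.Statements.S14352
import Mathlib.AlgebraicGeometry.Morphisms.LocalFlatDescent
import Mathlib.RingTheory.Unramified.Finite
import Mathlib.RingTheory.Unramified.Field
import Mathlib.AlgebraicGeometry.Artinian
import Mathlib.RingTheory.Jacobson.Ring
import Mathlib.FieldTheory.IsAlgClosed.AlgebraicClosure
import Groth.Agent.L25.Unramified

set_option autoImplicit false
universe u
open Mor

namespace Groth.Agent.S14352

open CategoryTheory CategoryTheory.Limits AlgebraicGeometry in
open CategoryTheory CategoryTheory.Limits AlgebraicGeometry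
open CategoryTheory CategoryTheory.Limits AlgebraicGeometry

private lemma geom_fwd {K : Type u} [Field K] {P : Scheme.{u}} (π : P ⟶ Spec (CommRingCat.of K))
    [FormallyUnramified π] [LocallyOfFiniteType π] :
    IsReduced P ∧ DiscreteTopology P := by
  have key : ∀ V : P.affineOpens, _root_.IsReduced Γ(P, V) ∧ IsArtinianRing Γ(P, V) := by
    intro V
    let φ : CommRingCat.of K ⟶ Γ(P, V) :=
      (Scheme.ΓSpecIso (CommRingCat.of K)).inv ≫ π.appLE ⊤ V le_top
    have hb : Function.Surjective (Scheme.ΓSpecIso (CommRingCat.of K)).inv.hom :=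
      (ConcreteCategory.bijective_of_isIso (Scheme.ΓSpecIso (CommRingCat.of K)).inv).2
    have h1 : φ.hom.FiniteType :=
      (HasRingHomProperty.appLE @LocallyOfFiniteType π ‹_› ⟨⊤, isAffineOpen_top _⟩ V le_top).comp
        (RingHom.FiniteType.of_surjective _ hb)
    have h2 : φ.hom.FormallyUnramified :=
      RingHom.FormallyUnramified.stableUnderComposition _ _ (RingHom.FormallyUnramified.of_surjective hb)
        (π.formallyUnramified_appLE (isAffineOpen_top _) V.2 le_top)
    letI : Algebra K Γ(P, V) := φ.hom.toAlgebra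
    haveI : Algebra.FiniteType K Γ(P, V) := h1
    haveI : Algebra.FormallyUnramified K Γ(P, V) := h2
    haveI : Module.Finite K Γ(P, V) := Algebra.FormallyUnramified.finite_of_free K _
    exact ⟨Algebra.FormallyUnramified.isReduced_of_field K _, IsArtinianRing.of_finite K _⟩
  refine ⟨?_, ?_⟩
  · haveI : ∀ x : P, _root_.IsReduced (P.presheaf.stalk x) := by
      intro x
      obtain ⟨_, ⟨V, hV, rfl⟩, hxV, -⟩ :=
        P.isBasis_affineOpens.exists_subset_of_mem_open (Set.mem_univ x) isOpen_univ
      haveI := (key ⟨V, hV⟩).1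
      letI := (P.presheaf.germ V x hxV).hom.toAlgebra
      haveI := hV.isLocalization_stalk ⟨x, hxV⟩
      exact isReduced_localizationPreserves (hV.primeIdealOf ⟨x, hxV⟩).asIdeal.primeCompl _ inferInstance
    exact isReduced_of_isReduced_stalk P
  · refine discreteTopology_iff_isOpen_singleton.mpr fun x => ?_
    obtain ⟨_, ⟨V, hV, rfl⟩, hxV, -⟩ :=
      P.isBasis_affineOpens.exists_subset_of_mem_open (Set.mem_univ x) isOpen_univ
    haveI := (key ⟨V, hV⟩).2
    obtain ⟨q, hq⟩ : ∃ q : PrimeSpectrum Γ(P, V), hV.fromSpec q = x := by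
      have h : x ∈ Set.range hV.fromSpec := by rw [hV.range_fromSpec]; exact hxV
      exact h
    have := hV.fromSpec.isOpenEmbedding.isOpenMap _ (isOpen_discrete ({q} : Set (PrimeSpectrum Γ(P, V))))
    convert this using 1
    ext y
    constructor
    · rintro (rfl : y = x); exact ⟨q, rfl, hq⟩
    · rintro ⟨_, (rfl : _ = q), rfl⟩; exact hq

private lemma geom_bwd {K : Type u} [Field K] [IsAlgClosed K] {P : Scheme.{u}} (π : P ⟶ Spec (CommRingCat.of K))
    [LocallyOfFiniteType π] [IsReduced P] [DiscreteTopology P] : FormallyUnramified π := by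
  have key : ∀ x : P, ∃ W : P.Opens, x ∈ W ∧ FormallyUnramified (W.ι ≫ π) := by
    intro x
    obtain ⟨_, ⟨V, hV, rfl⟩, hxV, -⟩ :=
      P.isBasis_affineOpens.exists_subset_of_mem_open (Set.mem_univ x) isOpen_univ
    obtain ⟨g, hg, hxg⟩ := hV.exists_basicOpen_le
      (V := ⟨{x}, isOpen_discrete _⟩) ⟨x, rfl⟩ hxV
    refine ⟨P.basicOpen g, hxg, ?_⟩
    haveI : IsAffine (P.basicOpen g).toScheme := hV.basicOpen g
    haveI : Subsingleton (P.basicOpen g).toScheme := ⟨fun a b => Subtype.ext
      ((hg a.2 : a.1 = x).trans (hg b.2 : b.1 = x).symm)⟩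
    haveI : Nonempty (P.basicOpen g).toScheme := ⟨⟨x, hxg⟩⟩
    haveI : IsReduced (P.basicOpen g).toScheme := isReduced_of_isOpenImmersion (P.basicOpen g).ι
    haveI : IsIntegral (P.basicOpen g).toScheme :=
      (isIntegral_iff_irreducibleSpace_and_isReduced _).mpr ⟨⟨inferInstance⟩, inferInstance⟩
    letI := (isField_of_isIntegral_of_subsingleton (P.basicOpen g).toScheme).toField
    rw [HasRingHomProperty.iff_of_isAffine (P := @FormallyUnramified)]
    let φ : CommRingCat.of K ⟶ Γ((P.basicOpen g).toScheme, ⊤) :=
      (Scheme.ΓSpecIso (CommRingCat.of K)).inv ≫ ((P.basicOpen g).ι ≫ π).appTop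
    have h1 : φ.hom.FiniteType :=
      ((HasRingHomProperty.iff_of_isAffine (P := @LocallyOfFiniteType)).mp inferInstance).comp
        (RingHom.FiniteType.of_surjective _
          (ConcreteCategory.bijective_of_isIso (Scheme.ΓSpecIso (CommRingCat.of K)).inv).2)
    letI : Algebra K Γ((P.basicOpen g).toScheme, ⊤) := φ.hom.toAlgebra
    haveI : Algebra.FiniteType K Γ((P.basicOpen g).toScheme, ⊤) := h1
    haveI : Module.Finite K Γ((P.basicOpen g).toScheme, ⊤) := finite_of_finite_type_of_isJacobsonRing K _
    have hb : Function.Surjective φ.hom :=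
      (IsAlgClosed.algebraMap_bijective_of_isIntegral (k := K) (K := Γ((P.basicOpen g).toScheme, ⊤))).2
    refine RingHom.FormallyUnramified.of_surjective fun y => ?_
    obtain ⟨c, hc⟩ := hb y
    exact ⟨_, hc⟩
  choose W hxW hW using key
  exact (IsZariskiLocalAtSource.iff_of_iSup_eq_top (P := @FormallyUnramified) W
    (eq_top_iff.mpr fun y _ => TopologicalSpace.Opens.mem_iSup.mpr ⟨y, hxW y⟩)).mpr hW


/-- A morphism of schemes f : X → S which is locally of finite presentation is unramified (formally
unramified) if and only if all its geometric fibres are reduced with discrete underlying space: for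
every algebraically closed field K and every S-point Spec K → S, the fibre product X ×_S Spec K is a
reduced scheme whose topological space is discrete. -/
theorem result {X S : Scheme.{u}} (f : X ⟶ S)
    [LocallyOfFinitePresentation f] :
    FormallyUnramified f ↔
      ∀ (K : Type u) [Field K] [IsAlgClosed K] (s : Spec (CommRingCat.of K) ⟶ S),
        IsReduced (pullback f s) ∧ DiscreteTopology ↥(pullback f s) := by
  constructor
  · intro hf K _ _ s
    haveI : LocallyOfFiniteType (pullback.snd f s) := MorphismProperty.pullback_snd _ _ inferInstance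
    haveI : FormallyUnramified (pullback.snd f s) := MorphismProperty.pullback_snd _ _ hf
    exact geom_fwd (pullback.snd f s)
  · intro h
    refine Groth.L25.Unramified.formallyUnramified_of_fibres f fun y => ?_
    let K : Type u := AlgebraicClosure (S.residueField y)
    let t : Spec (CommRingCat.of K) ⟶ Spec (S.residueField y) :=
      Spec.map (CommRingCat.ofHom (algebraMap (S.residueField y) K))
    haveI : Surjective t := ⟨fun z => ⟨IsLocalRing.closedPoint K,
      Subsingleton.elim (α := PrimeSpectrum (S.residueField y)) _ z⟩⟩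
    haveI : Flat t := Flat.SpecMap_iff.mpr (RingHom.flat_algebraMap_iff.mpr inferInstance)
    obtain ⟨h1, h2⟩ := h K (t ≫ S.fromSpecResidueField y)
    let e := pullbackLeftPullbackSndIso f (S.fromSpecResidueField y) t
    haveI : LocallyOfFiniteType (pullback.snd f (t ≫ S.fromSpecResidueField y)) :=
      MorphismProperty.pullback_snd _ _ inferInstance
    have h3 : FormallyUnramified (pullback.snd f (t ≫ S.fromSpecResidueField y)) := geom_bwd _
    refine MorphismProperty.of_isPullback_of_descendsAlong (P := @FormallyUnramified)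
      (Q := @Surjective ⊓ @Flat ⊓ @QuasiCompact) (f := t) (g := pullback.snd f (S.fromSpecResidueField y))
      (IsPullback.of_hasPullback _ _).flip ⟨⟨inferInstance, inferInstance⟩, inferInstance⟩ ?_
    rw [← pullbackLeftPullbackSndIso_hom_snd]
    exact (MorphismProperty.cancel_left_of_respectsIso @FormallyUnramified e.hom _).mpr h3

end Groth.Agent.S14352
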