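import Groth.Statements.S1613
import Groth.Agent.L21.Duality.Corollaries
import Groth.Agent.L21.RR.GeomGenusZero

set_option autoImplicit false
set_option backward.isDefEq.respectTransparency false
universe u
open CategoryTheory CategoryTheory.Limits AlgebraicGeometry
open Curves

namespace Groth.Agent.S1613

/-- Let X be a smooth proper connected curve over an algebraically closed field k, of genus g ≥ 2. Then
every O_X-linear map from the sheaf of differentials Ω_{X/k} to O_X is zero (X has no nonzero
k-derivations of its structure sheaf). -/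
theorem result (k : Type u) [Field k] [IsAlgClosed k] (X : Scheme.{u}) [X.Over (Spec (CommRingCat.of k))]
    (hX : Curve.IsSmoothProperCurve k X (X ↘ (Spec (CommRingCat.of k)))) (hg : 2 ≤ Curv2.genus k X)
    (θ : Omega.sheaf (X ↘ (Spec (CommRingCat.of k))) ⟶ Coh.structureModule X) : θ = 0 := by
  obtain ⟨hp, hs, hi, hd⟩ := hX
  haveI := hp; haveI := hs; haveI := hi
  haveI := Groth.L21.RR.isNoetherian_of_proper (X := X) k
  by_contra hθ
  have h0 := Groth.L21.RR.h0_eq_one_of_isAlgClosed (X := X) k
  obtain ⟨hΩ0, -, -⟩ := Groth.L21.Duality.omega_invariants (k := k) (X := X) hd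
  haveI := Groth.L21.RR.finite_HH' k (Groth.L16.CohClosedPush.isCoh_structure (X := X)) 0
  have hle : Groth.L21.RR.h k 0 (Omega.sheaf (X ↘ Spec (CommRingCat.of k))) ≤
      Groth.L21.RR.h k 0 (Coh.structureModule X) :=
    LinearMap.finrank_le_finrank_of_injective (f := Groth.L21.RR.hk k θ 0)
      (Groth.L21.Duality.injective_hmap_of_ne_zero (Groth.L21.Duality.isInvertible_omega (k := k) hd)
        (Groth.L18.Ample.isInvertible_structureModule X) hθ)
  have hg' : 2 ≤ Groth.L21.RR.h k 1 (Coh.structureModule X) := hg
  omega

end Groth.Agent.S1613
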