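import Groth.Statements.S18894
import Groth.Agent.S3338
import Groth.Agent.S3330
import Groth.Agent.L05.MinModel.Basic
import Groth.Agent.L21.Disc.SimplyConn
import Groth.Agent.L21.RR.BaseChange
import Groth.Agent.L08.Albanese.AbSub

set_option autoImplicit false
universe u
open CategoryTheory CategoryTheory.Limits AlgebraicGeometry
open Curves

namespace Groth.Agent.S18894

set_option linter.style.haveILetI false

open Groth.L05.MinModel (gen range_model isOpenImmersion_model eq_of_ne_closedPoint) in
set_option backward.isDefEq.respectTransparency false in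
/-- The generic fibre is a curve of the same genus and the scheme is its minimal model. -/
theorem minimal {R : Type u} [CommRing R] [IsDomain R] [IsDiscreteValuationRing R] {X : Scheme.{u}}
    (f : X ⟶ Spec (CommRingCat.of R)) [IsProper f] [Smooth f] [GeometricallyConnected f]
    (hdim : ∀ s : ↥(Spec (CommRingCat.of R)), topologicalKrullDim ↥(f.fiber s) = 1)
    (n : ℕ) (hgen : ∀ s : ↥(Spec (CommRingCat.of R)),
      letI : (f.fiber s).Over (Spec ((Spec (CommRingCat.of R)).residueField s)) := ⟨f.fiberToSpecResidueField s⟩
      Curv2.genus ((Spec (CommRingCat.of R)).residueField s) (f.fiber s) = n)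
    {C : Scheme.{u}} (i : C ⟶ X) (p : C ⟶ Spec (CommRingCat.of (FractionRing R))) (sq : IsPullback i p f (gen R)) :
    Curve.IsSmoothProperCurve (FractionRing R) C p ∧ IsIso p.appTop ∧
      Models.curveGenus (FractionRing R) C p = n ∧ Models.IsMinimalModel R X f C p := by
  haveI : IsProper p := MorphismProperty.of_isPullback (P := @IsProper) sq inferInstance
  haveI : Smooth p := MorphismProperty.of_isPullback (P := @Smooth) sq inferInstance
  haveI : GeometricallyConnected p := MorphismProperty.of_isPullback (P := @GeometricallyConnected) sq inferInstance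
  haveI := isOpenImmersion_model sq
  haveI : Subsingleton (Spec (CommRingCat.of (FractionRing R))) :=
    inferInstanceAs (Subsingleton (PrimeSpectrum (FractionRing R)))
  let a : Spec (CommRingCat.of (FractionRing R)) := IsLocalRing.closedPoint (FractionRing R)
  let s := gen R a
  have hs : s ≠ IsLocalRing.closedPoint R := by
    have h : s ∈ Set.range (gen R) := ⟨a, rfl⟩
    rw [Groth.L05.MinModel.range_gen] at h
    exact h
  have hrange : Set.range i = f ⁻¹' {s} := by
    rw [range_model sq]
    ext x
    exact ⟨fun h => eq_of_ne_closedPoint h hs, fun (h : f x = s) => fun (h' : f x = _) => hs (h.symm.trans h')⟩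
  have hd : topologicalKrullDim C = 1 := by
    rw [← hdim s, (f.fiberHomeo s).isHomeomorph.topologicalKrullDim_eq,
      i.isOpenEmbedding.isEmbedding.toHomeomorph.isHomeomorph.topologicalKrullDim_eq,
      (Homeomorph.setCongr hrange).isHomeomorph.topologicalKrullDim_eq]
  haveI : Nonempty C := by
    by_contra h
    haveI := not_nonempty_iff.1 h
    have h0 : topologicalKrullDim C = ⊥ := by
      haveI : IsEmpty (TopologicalSpace.IrreducibleCloseds C) :=
        ⟨fun Z => (inferInstance : IsEmpty C).false Z.isIrreducible.nonempty.some⟩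
      exact Order.krullDim_eq_bot
    rw [hd] at h0
    exact absurd h0 (by decide)
  haveI : GeometricallyIntegral p := Groth.L21.Disc.geometricallyIntegral_of_smooth p
  have hC : Curve.IsSmoothProperCurve (FractionRing R) C p :=
    ⟨inferInstance, inferInstance, GeometricallyIntegral.isIntegral_of_subsingleton p, hd⟩
  have happ : IsIso p.appTop := Groth.L08.Albanese.isIso_appTop_of_proper p
  let φ := Scheme.descResidueField (Scheme.stalkClosedPointTo (gen R))
  have hu : Spec.map φ ≫ (Spec (CommRingCat.of R)).fromSpecResidueField s = gen R :=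
    Scheme.descResidueField_stalkClosedPointTo_fromSpecResidueField _ _ _
  let l : C ⟶ f.fiber s := pullback.lift i (p ≫ Spec.map φ) (by rw [Category.assoc, hu]; exact sq.w)
  have sql : IsPullback l p (f.fiberToSpecResidueField s) (Spec.map φ) := by
    refine IsPullback.of_right ?_ (pullback.lift_snd _ _ _) (IsPullback.of_hasPullback f _)
    rw [hu, pullback.lift_fst]
    exact sq
  have hg : Models.curveGenus (FractionRing R) C p = n := by
    letI : C.Over (Spec (CommRingCat.of (FractionRing R))) := ⟨p⟩
    letI : (f.fiber s).Over (Spec (CommRingCat.of ↑((Spec (CommRingCat.of R)).residueField s))) :=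
      ⟨f.fiberToSpecResidueField s⟩
    letI : Algebra ↑((Spec (CommRingCat.of R)).residueField s) (FractionRing R) := φ.hom.toAlgebra
    haveI : IsProper (f.fiber s ↘ Spec (CommRingCat.of ↑((Spec (CommRingCat.of R)).residueField s))) :=
      MorphismProperty.pullback_snd (P := @IsProper) f _ inferInstance
    haveI : IsProper (C ↘ Spec (CommRingCat.of (FractionRing R))) := ‹IsProper p›
    exact (Groth.L21.RR.genus_bc (k := ↑((Spec (CommRingCat.of R)).residueField s)) (K := FractionRing R) l sql).trans
      (hgen s)
  have hmodel : Models.IsModel R X f C p := ⟨inferInstance, inferInstance, inferInstance, i, sq⟩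
  exact ⟨hC, happ, hg, Groth.Agent.S3338.result R C X p f hC happ hmodel⟩

set_option backward.isDefEq.respectTransparency false in
/-- Together with the accompanying claim: let R be a discrete valuation ring with fraction field K, η :
Spec K → Spec R the generic point, and f : X → Spec R, g : Y → Spec R two smooth curves of genus n ≥
1 (proper and smooth, with geometrically connected fibres of dimension one and genus n). Then
restriction to the generic fibre is a bijection from R-isomorphisms X ≅ Y onto K-isomorphisms X_η ≅
Y_η: every isomorphism φ of the generic fibres over Spec K is induced by a unique morphism e : X → Y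
compatible with the first projections, and this e is an isomorphism over Spec R. -/
theorem result {R : Type u} [CommRing R] [IsDomain R]
    [IsDiscreteValuationRing R] {X Y : Scheme.{u}}
    (f : X ⟶ Spec (CommRingCat.of R)) (g : Y ⟶ Spec (CommRingCat.of R))
    [IsProper f] [Smooth f] [GeometricallyConnected f] [IsProper g] [Smooth g] [GeometricallyConnected g]
    (hXdim : ∀ s : ↥(Spec (CommRingCat.of R)), topologicalKrullDim ↥(f.fiber s) = 1)
    (hYdim : ∀ s : ↥(Spec (CommRingCat.of R)), topologicalKrullDim ↥(g.fiber s) = 1)
    (n : ℕ) (hn : 1 ≤ n)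
    (hXgen : ∀ s : ↥(Spec (CommRingCat.of R)),
      letI : (f.fiber s).Over (Spec ((Spec (CommRingCat.of R)).residueField s)) := ⟨f.fiberToSpecResidueField s⟩
      Curv2.genus ((Spec (CommRingCat.of R)).residueField s) (f.fiber s) = n)
    (hYgen : ∀ s : ↥(Spec (CommRingCat.of R)),
      letI : (g.fiber s).Over (Spec ((Spec (CommRingCat.of R)).residueField s)) := ⟨g.fiberToSpecResidueField s⟩
      Curv2.genus ((Spec (CommRingCat.of R)).residueField s) (g.fiber s) = n)
    (η : Spec (CommRingCat.of (FractionRing R)) ⟶ Spec (CommRingCat.of R))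
    (hη : η = Spec.map (CommRingCat.ofHom (algebraMap R (FractionRing R))))
    (φ : pullback f η ≅ pullback g η) (hφ : φ.hom ≫ pullback.snd g η = pullback.snd f η) :
    ∃ e : X ≅ Y, e.hom ≫ g = f ∧ pullback.fst f η ≫ e.hom = φ.hom ≫ pullback.fst g η ∧
      ∀ e' : X ⟶ Y, pullback.fst f η ≫ e' = φ.hom ≫ pullback.fst g η → e' = e.hom := by
  subst hη
  have sqX := IsPullback.of_hasPullback f (Groth.L05.MinModel.gen R)
  obtain ⟨hC, happ, hgX, hmX⟩ := minimal f hXdim n hXgen _ _ sqX
  have sqY : IsPullback (φ.hom ≫ pullback.fst g (Groth.L05.MinModel.gen R))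
      (pullback.snd f (Groth.L05.MinModel.gen R)) g (Groth.L05.MinModel.gen R) :=
    (IsPullback.of_hasPullback g (Groth.L05.MinModel.gen R)).of_iso φ.symm (Iso.refl _) (Iso.refl _) (Iso.refl _)
      (by simp) (by simp [← hφ]) (by simp) (by simp)
  obtain ⟨-, -, -, hmY⟩ := minimal g hYdim n hYgen _ _ sqY
  obtain ⟨e, ⟨he₁, he₂⟩, -⟩ := Groth.Agent.S3330.result R _ X Y _ f g hC happ (by rw [hgX]; exact hn) hmX hmY _ sqX _ sqY
  refine ⟨e, he₁, he₂, fun e' he' => ?_⟩
  obtain ⟨hXi, -⟩ := Groth.L05.MinModel.surface hC hmX.1
  haveI := hXi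
  haveI := Groth.L05.MinModel.isOpenImmersion_model sqX
  haveI : IsIntegral (pullback f (Groth.L05.MinModel.gen R)) := hC.2.2.1
  haveI : IsDominant (pullback.fst f (Groth.L05.MinModel.gen R)) := ⟨by
    intro x
    refine closure_mono ?_ (genericPoint_specializes x).mem_closure
    rintro _ rfl
    exact ⟨genericPoint _, genericPoint_eq_of_isOpenImmersion _⟩⟩
  haveI : Y.IsSeparated := ⟨by rw [← terminal.comp_from g]; infer_instance⟩
  exact ext_of_isDominant (ι := pullback.fst f (Groth.L05.MinModel.gen R)) (he'.trans he₂.symm)

end Groth.Agent.S18894
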