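import Groth.Statements.S18905
import Groth.Agent.L19.DualNumberUnram
import Mathlib.AlgebraicGeometry.Morphisms.FormallyUnramified
import Mathlib.Algebra.DualNumber

set_option autoImplicit false
set_option backward.isDefEq.respectTransparency.types false
set_option backward.isDefEq.respectTransparency false
set_option linter.style.haveILetI false
universe u
open CategoryTheory CategoryTheory.Limits AlgebraicGeometry
open Mor

namespace Groth.Agent.S18905

/-- Let k be an algebraically closed field and X a scheme locally of finite type over k. Then X → Spec k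
is formally unramified if and only if the map Hom_k(Spec k[ε], X) → Hom_k(Spec k, X) given by
restricting along the closed immersion of Spec k into Spec k[ε] (k[ε] the ring of dual numbers, ε ↦
0), is bijective; since that map is always surjective, the condition is stated as injectivity: two
k-morphisms from Spec k[ε] to X which agree on Spec k are equal. -/
theorem result (k : Type u) [Field k] [IsAlgClosed k]
    {X : Scheme.{u}} (p : X ⟶ Spec (CommRingCat.of k)) [LocallyOfFiniteType p] :
    FormallyUnramified p ↔
      ∀ v₁ v₂ : Spec (CommRingCat.of (DualNumber k)) ⟶ X,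
        v₁ ≫ p = Spec.map (CommRingCat.ofHom (algebraMap k (DualNumber k))) →
        v₂ ≫ p = Spec.map (CommRingCat.ofHom (algebraMap k (DualNumber k))) →
        Spec.map (CommRingCat.ofHom (TrivSqZeroExt.fstHom k k k).toRingHom) ≫ v₁ =
          Spec.map (CommRingCat.ofHom (TrivSqZeroExt.fstHom k k k).toRingHom) ≫ v₂ →
        v₁ = v₂ := by
  let q : Spec (CommRingCat.of k) ⟶ Spec (CommRingCat.of (DualNumber k)) :=
    Spec.map (CommRingCat.ofHom (TrivSqZeroExt.fstHom k k k).toRingHom)
  have hsurj : Function.Surjective (TrivSqZeroExt.fstHom k k k).toRingHom :=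
    fun a => ⟨TrivSqZeroExt.inl a, TrivSqZeroExt.fst_inl k a⟩
  constructor
  · intro hp v₁ v₂ h₁ h₂ h
    haveI : IsClosedImmersion q := IsClosedImmersion.spec_of_surjective _ hsurj
    refine FormallyUnramified.hom_ext q ⟨2, ?_⟩ p h (h₁.trans h₂.symm)
    refine Scheme.IdealSheafData.ext_of_isAffine ?_
    show (q.ker ^ 2).ideal ⟨⊤, isAffineOpen_top _⟩ = (0 : (Spec (CommRingCat.of (DualNumber k))).IdealSheafData).ideal ⟨⊤, isAffineOpen_top _⟩
    rw [Scheme.IdealSheafData.ideal_pow, Pi.pow_apply, Scheme.Hom.ker_apply]
    refine le_antisymm ?_ bot_le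
    rw [pow_two, Ideal.mul_le]
    intro a ha b hb
    have key : ∀ c : Γ(Spec (CommRingCat.of (DualNumber k)), ⊤), q.appTop c = 0 →
        TrivSqZeroExt.fst ((Scheme.ΓSpecIso (CommRingCat.of (DualNumber k))).hom c) = 0 := by
      intro c hc
      have hn := ConcreteCategory.congr_hom
        (Scheme.ΓSpecIso_naturality (CommRingCat.ofHom (TrivSqZeroExt.fstHom k k k).toRingHom)) c
      rw [CommRingCat.comp_apply, CommRingCat.comp_apply] at hn
      exact hn.symm.trans ((congrArg _ hc).trans (map_zero _))
    refine Ideal.mem_bot.2 ((Scheme.ΓSpecIso (CommRingCat.of (DualNumber k))).commRingCatIsoToRingEquiv.injective ?_)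
    show (Scheme.ΓSpecIso (CommRingCat.of (DualNumber k))).hom (a * b) = (Scheme.ΓSpecIso (CommRingCat.of (DualNumber k))).hom 0
    rw [map_mul, map_zero]
    apply TrivSqZeroExt.ext <;>
      simp [key a (RingHom.mem_ker.1 ha), key b (RingHom.mem_ker.1 hb)]
  · intro H
    refine IsZariskiLocalAtSource.of_openCover (P := @FormallyUnramified) X.affineCover fun i => ?_
    suffices key : ∀ (A : CommRingCat.{u}) (f : Spec A ⟶ X) [IsOpenImmersion f],
        FormallyUnramified (f ≫ p) from key _ (X.affineCover.f i)
    intro A f _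
    obtain ⟨φ, hφ⟩ := Spec.map_surjective (f ≫ p)
    rw [← hφ, HasRingHomProperty.Spec_iff (P := @FormallyUnramified)]
    letI := φ.hom.toAlgebra
    haveI : LocallyOfFiniteType (Spec.map φ) := by rw [hφ]; infer_instance
    haveI : Algebra.FiniteType k A := (HasRingHomProperty.Spec_iff (P := @LocallyOfFiniteType)).1 this
    refine Groth.L19.DualNumberUnram.formallyUnramified k A fun g₁ g₂ hg => ?_
    have hc : ∀ g : A →ₐ[k] DualNumber k, φ ≫ CommRingCat.ofHom g.toRingHom =
        CommRingCat.ofHom (algebraMap k (DualNumber k)) := fun g => CommRingCat.hom_ext g.comp_algebraMap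
    have h := H (Spec.map (CommRingCat.ofHom g₁.toRingHom) ≫ f)
      (Spec.map (CommRingCat.ofHom g₂.toRingHom) ≫ f)
      (by rw [Category.assoc, ← hφ, ← Spec.map_comp, hc])
      (by rw [Category.assoc, ← hφ, ← Spec.map_comp, hc])
      (by
        rw [← Spec.map_comp_assoc, ← Spec.map_comp_assoc, ← CommRingCat.ofHom_comp,
          ← CommRingCat.ofHom_comp]
        exact congrArg (fun t : A →+* k => Spec.map (CommRingCat.ofHom t) ≫ f)
          (RingHom.ext fun a => hg a))
    rw [cancel_mono, Spec.map_inj] at h
    exact AlgHom.ext fun a => congr($h a)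

end Groth.Agent.S18905
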