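import Groth.Statements.S9777
import Groth.Agent.L23.FibreDimBC
import Groth.Agent.L07.FibreDimSemi

set_option autoImplicit false
set_option backward.isDefEq.respectTransparency.types false
universe u
open FlatMor

namespace Groth.Agent.S9777

open AlgebraicGeometry CategoryTheory Limits in
/-- For a finite-type morphism f : X ⟶ Y and its pullback f' : X' ⟶ Y' along any g : Y' ⟶ Y, the Krull
dimension of the fibre of f' over a point y' equals that of the fibre of f over g y'; fibre
dimension commutes with base change. -/
theorem result {X Y X' Y' : Scheme.{u}} (f : X ⟶ Y) [QuasiCompact f] [LocallyOfFiniteType f]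
    (g : Y' ⟶ Y) (f' : X' ⟶ Y') (g' : X' ⟶ X) (hc : IsPullback g' f' f g) (y' : Y') :
    topologicalKrullDim ↑(f'.fiber y') = topologicalKrullDim ↑(f.fiber (g y')) := by
  haveI : LocallyOfFiniteType f' := MorphismProperty.of_isPullback hc ‹LocallyOfFiniteType f›
  refine eq_of_forall_ge_iff fun c => ?_
  rw [Groth.L07.FibreDim.fiber_dim_le_iff, Groth.L07.FibreDim.fiber_dim_le_iff]
  refine ⟨fun H x hx => ?_, fun H x' hx' => ?_⟩
  · obtain ⟨x', h1, h2⟩ := Scheme.exists_preimage_of_isPullback hc x y' hx
    rw [← h1, ← Groth.L23.fibreDimAt_of_isPullback hc x']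
    exact H x' h2
  · rw [Groth.L23.fibreDimAt_of_isPullback hc x']
    refine H _ ?_
    rw [← Scheme.Hom.comp_apply, hc.w, Scheme.Hom.comp_apply, hx']

end Groth.Agent.S9777
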