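import Groth.Statements.S14138
import Groth.Agent.L21.Bundle.Split
import Groth.Agent.L21.Disc.SimplyConn

set_option autoImplicit false
set_option backward.isDefEq.respectTransparency false
universe u
open CategoryTheory CategoryTheory.Limits AlgebraicGeometry
open VBCurve

namespace Groth.Agent.S14138

/-- Let C be a smooth proper geometrically connected curve over a field k (proper, smooth and
geometrically connected over k, of dimension one) of genus one, i.e. dim_k H^1(C, O_C) = 1, and E a
finite locally free O_C-module of rank r ≥ 1 which is indecomposable: E is nonzero and whenever E ≅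
E₁ ⊕ E₂ one of the summands is zero. Then E is semistable: for every finite locally free submodule G
of E of rank r' ≥ 1 one has deg G · r ≤ deg E · r', the degree of a rank-n locally free module being
χ(G) − n·χ(O_C). (The published statement is for an elliptic curve; its proof, that the
Harder–Narasimhan filtration splits, uses only genus one, so no rational point is assumed here.) -/
theorem result (k : Type u) [Field k] (X : Scheme.{u}) [X.Over (Spec (CommRingCat.of k))]
    [IsProper (X ↘ Spec (CommRingCat.of k))] [Smooth (X ↘ Spec (CommRingCat.of k))]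
    [GeometricallyConnected (X ↘ Spec (CommRingCat.of k))] (hdim : topologicalKrullDim ↥X = 1)
    (hg : Curv2.genus k X = 1)
    (r : ℕ) (hr : 0 < r) (E : X.Modules) (hE : FlatMod.IsFinLocFreeOfRank r E)
    (hind : ¬ IsZero E ∧ ∀ (E₁ E₂ : X.Modules), Nonempty (E ≅ E₁ ⊞ E₂) → IsZero E₁ ∨ IsZero E₂) :
    (∀ (G : X.Modules) (r' : ℕ) (i : G ⟶ E), Mono i → 0 < r' → FlatMod.IsFinLocFreeOfRank r' G →
      Curv2.deg k X G r' * (r : ℤ) ≤ Curv2.deg k X E r * (r' : ℤ)) := by
  haveI : GeometricallyIntegral (X ↘ Spec (CommRingCat.of k)) :=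
    Groth.L21.Disc.geometricallyIntegral_of_smooth (X ↘ Spec (CommRingCat.of k))
  haveI : IsIntegral X := GeometricallyIntegral.isIntegral_of_subsingleton (X ↘ Spec (CommRingCat.of k))
  haveI := Groth.L21.RR.isNoetherian_of_proper (X := X) k
  have hreg := Groth.L21.Smooth.regular_stalk (k := k) (X ↘ Spec (CommRingCat.of k))
  have h0 : Groth.L21.RR.h k 0 (Coh.structureModule X) = 1 := Groth.L21.RR.h0_eq_one_of_geometricallyIntegral k hdim
  have hcE := Groth.L21.Bundle.isCoh_of_rank hE
  obtain ⟨E₁, i₁, hi₁, hc₁, hpos₁, hbd, hmax⟩ := Groth.L21.Bundle.exists_max_slope k hreg hdim.le hr hE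
  haveI := hi₁
  let dg := fun M : X.Modules => Groth.L21.Bundle.dg k M
  obtain ⟨hr1, hd1⟩ := Groth.L21.Bundle.add_cokernel k hdim.le i₁ hc₁ hcE
  rw [Groth.L21.Bundle.rk_eq hE] at hr1
  have hQ := Groth.L21.Bundle.locFree_cokernel_of_max k hreg hdim.le hcE i₁ hc₁ hpos₁ hbd
  rcases Nat.eq_zero_or_pos (Groth.L21.Bundle.rk (cokernel i₁)) with hq0 | hqpos
  · -- `E` itself has maximal slope
    rw [hq0] at hQ
    have hd0 := (Groth.L21.Bundle.zero_facts k hdim.le (Groth.L21.Bundle.isZero_of_rank_zero hQ)).2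
    intro G r' i hi hr' hG
    have h := Groth.L21.Bundle.of_bd k hbd i hi hG
    rw [show Groth.L21.Bundle.rk E₁ = r by omega,
      show Groth.L21.Bundle.dg k E₁ = Groth.L21.Bundle.dg k E by omega, ← Groth.L21.Bundle.dg_eq k hE] at h
    exact h
  exfalso
  have hE₁ := Groth.L21.Bundle.locFree_of_mono hreg hdim.le i₁ hc₁ hE
  have hb1 : Groth.L21.Bundle.Bd k E₁ (Groth.L21.Bundle.dg k E₁) (Groth.L21.Bundle.rk E₁) :=
    fun G j hj hG => by haveI := hj; exact hbd G (j ≫ i₁) inferInstance hG
  have hsb : Groth.L21.Bundle.SBd k (cokernel i₁) (Groth.L21.Bundle.dg k E₁) (Groth.L21.Bundle.rk E₁) := by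
    intro G j hj hG hGpos
    haveI := hj
    obtain ⟨P, p, hp, hP, hrP, hdP⟩ := Groth.L21.Bundle.exists_preimage k hdim.le (cokernel.π i₁) j hcE
      (Groth.L21.Bundle.coh_cokernel hc₁ hcE i₁) hG
    have hb := hbd P p hp hP
    have hrP' : (Groth.L21.Bundle.rk P : ℤ) = Groth.L21.Bundle.rk E₁ + Groth.L21.Bundle.rk G := by
      rw [Groth.L21.Bundle.rk_eq hE] at hrP; omega
    rcases lt_or_eq_of_le hb with hlt | heq
    · rw [hrP', show Groth.L21.Bundle.dg k P = Groth.L21.Bundle.dg k E₁ + Groth.L21.Bundle.dg k G by omega] at hlt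
      nlinarith
    · have := hmax P p hp hP (by omega) heq
      omega
  haveI := Groth.L17.Duality.hasSheafHom (cokernel i₁)
  have hΩ := Groth.L21.Duality.isInvertible_omega (X := X) (k := k) hdim
  have hdΩ : Curv2.deg k X (Groth.L21.Bundle.omega (X := X) k) 1 = 0 := by
    rw [Groth.L21.Bundle.dg_eq k (Groth.L21.Bundle.locFree_one hΩ), Groth.L21.Bundle.dg_omega k hdim h0, hg]
    norm_num
  haveI := Groth.L21.Bundle.subsingleton_h1_homMod k hdim h0 hE₁ hQ fun φ => by
    refine Groth.L21.Bundle.hom_eq_zero_of_sbd k hreg hdim.le hE₁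
      (Groth.L21.Bundle.locFree_twist hdim hreg hΩ hQ) hb1 ?_ φ
    have h6 := Groth.L21.Bundle.sbd_twist k hdim hΩ hsb
    rwa [hdΩ, mul_zero, add_zero] at h6
  have hT := Groth.L21.Bundle.shortExact_cokernel i₁
  haveI := Groth.L21.Bundle.isSplitEpi_of_h1_homMod hT (Groth.L22.CurveDeg.isFinLocFree_of_rank hQ)
  let σ := ShortComplex.Splitting.ofExactOfSection _ hT.exact (section_ (cokernel.π i₁)) (IsSplitEpi.id _) hT.mono_f
  rcases hind.2 _ _ ⟨σ.isoBinaryBiproduct⟩ with hz | hz
  · have := Groth.L21.Bundle.rk_isZero hz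
    dsimp only at this
    omega
  · have := Groth.L21.Bundle.rk_isZero hz
    dsimp only at this
    omega

end Groth.Agent.S14138
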