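import Groth.Statements.S4961
-- import your own Groth.Agent.* helpers here

import Groth.Agent.L02.CMMor.Locus
import Groth.Agent.L02.CMMor.Groupoid
import Groth.Agent.L20.FlatStalk

set_option autoImplicit false
open CategoryTheory AlgebraicGeometry
universe u v w
open EGA43

namespace Groth.Agent.S4961

/-- Let f : X ⟶ Y be a morphism locally of finite presentation. The set of points x of X at which f is
Cohen–Macaulay (f flat at x and the local ring at x of the fibre through x Cohen–Macaulay) is open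
in X. -/
theorem result {X Y : Scheme.{u}} (f : X ⟶ Y)
    [LocallyOfFinitePresentation f] : IsOpen {x : X | MoreMor.IsCMAt f x} := by
  let U : X.Opens := ⟨{x | (f.stalkMap x).hom.Flat}, Groth.L20.isOpen_flat_stalkMap f⟩
  haveI : Flat (U.ι ≫ f) := Flat.of_stalkMap _ fun x => by
    rw [Scheme.Hom.stalkMap_comp]
    exact ((RingHom.Flat.respectsIso.cancel_right_isIso (f.stalkMap (U.ι x)) (U.ι.stalkMap x))).2 x.2
  have h : {x : X | MoreMor.IsCMAt f x} = U.ι '' {x | MoreMor.IsCMAt (U.ι ≫ f) x} := by
    ext x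
    constructor
    · intro hx
      exact ⟨⟨x, hx.1⟩, (L02.CMMor.isCMAt_openImmersion_comp U.ι f ⟨x, hx.1⟩).2 hx, rfl⟩
    · rintro ⟨y, hy, rfl⟩
      exact (L02.CMMor.isCMAt_openImmersion_comp U.ι f y).1 hy
  rw [h]
  exact U.ι.isOpenEmbedding.isOpenMap _ (L02.CMMor.isOpen_cmLocus (U.ι ≫ f))

end Groth.Agent.S4961
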