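import Groth.Statements.S7642
import Groth.Agent.S1530
import Groth.Agent.L22.CurveAmple.Lift
import Groth.Agent.L22.CurveAmple.Section
import Groth.Agent.L18.KerReduced

set_option autoImplicit false
set_option backward.isDefEq.respectTransparency false
set_option linter.style.haveILetI false
universe u
open CategoryTheory CategoryTheory.Limits AlgebraicGeometry
open Variety

namespace Groth.Agent.S7642

open Groth.L22.FinAff (IsGen)
open Groth.L22.CurveAmple
open TopologicalSpace

theorem isIntegral_comp {X : Scheme.{u}} [IsNoetherian X] (C : Set X) (hC : C ∈ irreducibleComponents (X : Type u)) :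
    Set.range (X.irreducibleComponentIdeal C hC).radical.subschemeι = C ∧
      IsIntegral (X.irreducibleComponentIdeal C hC).radical.subscheme := by
  let J := (X.irreducibleComponentIdeal C hC).radical
  have hr : Set.range J.subschemeι = C := by
    rw [Scheme.IdealSheafData.range_subschemeι, Scheme.IdealSheafData.support_radical]; rfl
  refine ⟨hr, ?_⟩
  haveI : IsReduced J.subscheme := by
    show IsReduced (X.irreducibleComponentIdeal C hC).radical.subscheme
    rw [← Scheme.IdealSheafData.vanishingIdeal_support]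
    exact Groth.L18.isReduced_vanishingIdeal_subscheme _
  obtain ⟨x, hx⟩ := hC.1.nonempty
  haveI : Nonempty J.subscheme := by
    obtain ⟨y, -⟩ := hr.ge hx
    exact ⟨y⟩
  haveI : IrreducibleSpace J.subscheme := by
    haveI : PreirreducibleSpace J.subscheme := ⟨by
      rw [isPreirreducible_iff_isClosed_union_isClosed]
      intro A B hA hB hAB
      have hcl := J.subschemeι.isClosedEmbedding
      have h := (isPreirreducible_iff_isClosed_union_isClosed.1 hC.1.isPreirreducible) _ _
        (hcl.isClosedMap _ hA) (hcl.isClosedMap _ hB)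
        (by rw [← Set.image_union, ← hr]; rintro _ ⟨y, rfl⟩; exact ⟨y, hAB trivial, rfl⟩)
      rcases h with h | h
      · refine Or.inl fun y _ => ?_
        obtain ⟨y', hy', e⟩ := h (hr.le ⟨y, rfl⟩)
        exact hcl.injective e ▸ hy'
      · refine Or.inr fun y _ => ?_
        obtain ⟨y', hy', e⟩ := h (hr.le ⟨y, rfl⟩)
        exact hcl.injective e ▸ hy'⟩
    exact { toNonempty := inferInstance }
  exact isIntegral_of_irreducibleSpace_of_isReduced _

/-- Let X be proper of dimension at most one over a field k and let L be an invertible module on X. Then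
L is ample if and only if deg(L|_C) > 0 for every irreducible component C of X of dimension one, C
carrying its reduced induced structure. -/
theorem result (k : Type u) [Field k] (X : Scheme.{u}) [X.Over (Spec (CommRingCat.of k))] [IsProper (X ↘ (Spec (CommRingCat.of k)))] [IsNoetherian X]
    (hdim : topologicalKrullDim X ≤ 1) (L : X.Modules) (hL : PicF.IsInvertible L) :
    CohB1.IsAmple L ↔ ∀ (C : Set X) (hC : C ∈ irreducibleComponents (X : Type u)),
      topologicalKrullDim C = 1 → 0 < @Curv2.deg k _ (X.irreducibleComponentIdeal C hC).radical.subscheme ⟨(X.irreducibleComponentIdeal C hC).radical.subschemeι ≫ (X ↘ (Spec (CommRingCat.of k)))⟩ ((Scheme.Modules.pullback (X.irreducibleComponentIdeal C hC).radical.subschemeι).obj L) 1 := by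
  classical
  have key : ∀ (C : Set X) (hC : C ∈ irreducibleComponents (X : Type u)), topologicalKrullDim C = 1 →
      (CohB1.IsAmple ((Scheme.Modules.pullback (X.irreducibleComponentIdeal C hC).radical.subschemeι).obj L) ↔
        0 < @Curv2.deg k _ (X.irreducibleComponentIdeal C hC).radical.subscheme ⟨(X.irreducibleComponentIdeal C hC).radical.subschemeι ≫ (X ↘ (Spec (CommRingCat.of k)))⟩ ((Scheme.Modules.pullback (X.irreducibleComponentIdeal C hC).radical.subschemeι).obj L) 1) := by
    intro C hC h1
    obtain ⟨hr, hint⟩ := isIntegral_comp C hC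
    let i := (X.irreducibleComponentIdeal C hC).radical.subschemeι
    letI : (X.irreducibleComponentIdeal C hC).radical.subscheme.Over (Spec (CommRingCat.of k)) :=
      ⟨i ≫ (X ↘ (Spec (CommRingCat.of k)))⟩
    haveI : IsProper ((X.irreducibleComponentIdeal C hC).radical.subscheme ↘ Spec (CommRingCat.of k)) :=
      inferInstanceAs (IsProper (i ≫ (X ↘ (Spec (CommRingCat.of k)))))
    exact Groth.Agent.S1530.result k _
      ((Groth.L22.SchemeDim.topologicalKrullDim_eq_of_isEmbedding i.isClosedEmbedding.isEmbedding hr).symm.trans h1)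
      _ (Groth.L18.Ample.isInvertible_pullback i hL)
  constructor
  · intro hA C hC h1
    exact (key C hC h1).1 (Groth.L18.Ample.isAmple_pullback_of_isAffineHom _ hA)
  intro hdeg
  have hcomp : ∀ η : {η : X // IsGen η}, closure ({η.1} : Set X) ∈ irreducibleComponents (X : Type u) := fun η => by
    refine ⟨isIrreducible_singleton.closure, fun T hT hle => ?_⟩
    obtain ⟨t, ht⟩ := QuasiSober.sober hT.closure isClosed_closure
    have htη : t ⤳ η.1 := ht.specializes (subset_closure (hle (subset_closure rfl)))
    exact subset_closure.trans_eq (by rw [← ht.def, η.2 t htη])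
  let D : ∀ η : {η : X // IsGen η}, Comp X η.1 := fun η =>
    { C := (X.irreducibleComponentIdeal _ (hcomp η)).radical.subscheme
      i := (X.irreducibleComponentIdeal _ (hcomp η)).radical.subschemeι
      isClosedImmersion := inferInstance
      isIntegral := (isIntegral_comp _ (hcomp η)).2
      range_eq := (isIntegral_comp _ (hcomp η)).1 }
  haveI : Finite {η : X // IsGen η} := Groth.L22.DimOneAmple.finite_isGen.to_subtype
  have hspec := fun a b c => Groth.L21.RR.Top.spec_of_dim_le_one (X := X.toTopCat) hdim a b c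
  have hw : ∀ η : {η : X // IsGen η}, ∃ T : Set X, IsClosed T ∧ η.1 ∉ T ∧
      (¬ IsClosed ({η.1} : Set X) → ∃ z ∈ T, η.1 ⤳ z) := fun η => by
    by_cases hc : IsClosed ({η.1} : Set X)
    · exact ⟨∅, isClosed_empty, id, fun h => absurd hc h⟩
    obtain ⟨w, hwx, hxw⟩ : ∃ w, w ≠ η.1 ∧ η.1 ⤳ w := by
      by_contra hh
      push Not at hh
      exact hc (isClosed_of_closure_subset fun w hw => by
        by_contra hne
        exact hh w hne (specializes_iff_mem_closure.2 hw))
    refine ⟨closure {w}, isClosed_closure, fun h => ?_, fun _ => ⟨w, subset_closure rfl, hxw⟩⟩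
    exact hwx ((specializes_iff_mem_closure.2 h).antisymm hxw).eq
  choose T hT hηT hTz using hw
  have hW : ∀ η : {η : X // IsGen η}, ∃ (W : X.Opens) (e : Γ(L, W)), IsAffineOpen W ∧ η.1 ∈ W ∧
      Groth.L18.Frame.IsFrame L W e ∧ (∀ η' : {η : X // IsGen η}, ∀ y ∈ W, η'.1 ⤳ y → η' = η) ∧ ∀ y ∈ T η, y ∉ W := by
    intro η
    obtain ⟨O, e, hηO, he⟩ := Groth.L18.Frame.exists_frame hL η.1
    have hB : IsClosed ((⋃ η' : {η' : {η : X // IsGen η} // η' ≠ η}, closure ({η'.1.1} : Set X)) ∪ T η) :=
      (isClosed_iUnion_of_finite fun _ => isClosed_closure).union (hT η)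
    have hηB : η.1 ∉ (⋃ η' : {η' : {η : X // IsGen η} // η' ≠ η}, closure ({η'.1.1} : Set X)) ∪ T η := by
      rintro (h | h)
      · obtain ⟨η', hη'⟩ := Set.mem_iUnion.1 h
        exact η'.2 (Subtype.ext (η.2 _ (specializes_iff_mem_closure.2 hη')))
      · exact hηT η h
    obtain ⟨_, ⟨W, hW, rfl⟩, hηW, hWsub⟩ := X.isBasis_affineOpens.exists_subset_of_mem_open
      (show η.1 ∈ (O : Set X) ∩ ((⋃ η' : {η' : {η : X // IsGen η} // η' ≠ η}, closure ({η'.1.1} : Set X)) ∪ T η)ᶜ
        from ⟨hηO, hηB⟩) (O.2.inter hB.isOpen_compl)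
    refine ⟨W, _, hW, hηW, he.mono (fun y hy => (hWsub hy).1), fun η' y hy hs => ?_, fun y hy hyW => (hWsub hyW).2 (Or.inr hy)⟩
    by_contra hne
    exact (hWsub hy).2 (Or.inl (Set.mem_iUnion.2 ⟨⟨η', hne⟩, specializes_iff_mem_closure.1 hs⟩))
  choose W e hWa hηW he hsep hTW using hW
  have hgc : ∀ η : {η : X // IsGen η}, ∃ c : (D η).C, (D η).i c = η.1 := fun η =>
    (D η).range_eq.ge (subset_closure rfl)
  have hsec : ∀ η : {η : X // IsGen η}, ∃ n₀ : ℕ, ∀ n, n₀ ≤ n →
      ∃ φ : Coh.structureModule (D η).C ⟶ (Scheme.Modules.pullback (D η).i).obj (CohB1.tensorPow L n),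
        (∃ c ∈ CohB1.genLocus _ φ, (D η).i c = η.1) ∧ ∀ c, (D η).i c ∉ W η → c ∉ CohB1.genLocus _ φ := by
    intro η
    haveI := (D η).isIntegral
    haveI := (D η).isClosedImmersion
    obtain ⟨c₀, hc₀⟩ := hgc η
    by_cases hc : IsClosed ({η.1} : Set X)
    · refine ⟨0, fun n _ => ?_⟩
      have hall : ∀ c : (D η).C, c = c₀ := fun c => (D η).i.isClosedEmbedding.injective (by
        have h := (D η).range_eq.le ⟨c, rfl⟩
        rw [hc.closure_eq, Set.mem_singleton_iff] at h
        rw [h, hc₀])
      obtain ⟨V, ε, hV, hε⟩ := Groth.L18.Frame.exists_frame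
        (Groth.L18.Ample.isInvertible_pullback (D η).i (Groth.L18.Ample.isInvertible_tensorPow hL n)) c₀
      have hVt : V = ⊤ := top_le_iff.1 fun c _ => by rw [hall c]; exact hV
      subst hVt
      refine ⟨Groth.L16.homOfSection _ ε, ⟨c₀, ?_, hc₀⟩, fun c hcW => absurd ?_ hcW⟩
      · refine ((Groth.L18.GenLoc.genLocus_inf_eq _ hε (a := (1 : Γ((D η).C, ⊤))) ?_).ge ?_).1
        · rw [Groth.L18.GenLoc.secOf_homOfSection, one_smul, Groth.L18.Frame.rs_self]
        · rw [Scheme.basicOpen_of_isUnit _ isUnit_one]; trivial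
      · rw [hall c, hc₀]; exact hηW η
    · have h1 : topologicalKrullDim (closure ({η.1} : Set X)) = 1 := by
        refine le_antisymm ((topologicalKrullDim_subspace_le X _).trans hdim) ?_
        obtain ⟨w, hwT, hxw⟩ := hTz η hc
        have hwx : w ≠ η.1 := fun e => hηT η (e ▸ hwT)
        let C : (closure ({η.1} : Set X)) → IrreducibleCloseds (closure ({η.1} : Set X)) := fun a =>
          ⟨closure {a}, isIrreducible_singleton.closure, isClosed_closure⟩
        let a : closure ({η.1} : Set X) := ⟨η.1, subset_closure rfl⟩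
        let b : closure ({η.1} : Set X) := ⟨w, specializes_iff_mem_closure.1 hxw⟩
        have hab : a ⤳ b := (subtype_specializes_iff _ _).2 hxw
        have hlt : C b < C a := lt_of_le_of_ne (specializes_iff_closure_subset.1 hab) fun e =>
          hwx (congrArg Subtype.val (hab.antisymm (specializes_iff_closure_subset.2
            (congrArg IrreducibleCloseds.carrier e).ge)).eq).symm
        let l : LTSeries (IrreducibleCloseds (closure ({η.1} : Set X))) :=
          (RelSeries.singleton _ (C b)).snoc (C a) (by simpa using hlt)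
        exact le_iSup_of_le l (by simp [l])
      have hA : CohB1.IsAmple ((Scheme.Modules.pullback (D η).i).obj L) :=
        (key _ (hcomp η) h1).2 (hdeg _ (hcomp η) h1)
      letI : (D η).C.Over (Spec (CommRingCat.of k)) := ⟨(D η).i ≫ (X ↘ (Spec (CommRingCat.of k)))⟩
      haveI : IsProper ((D η).C ↘ Spec (CommRingCat.of k)) :=
        inferInstanceAs (IsProper ((D η).i ≫ (X ↘ (Spec (CommRingCat.of k)))))
      have hd1 : topologicalKrullDim (D η).C = 1 :=
        (Groth.L22.SchemeDim.topologicalKrullDim_eq_of_isEmbedding (D η).i.isClosedEmbedding.isEmbedding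
          (D η).range_eq).symm.trans h1
      have hηC : (D η).i (genericPoint (D η).C) = η.1 := by
        refine η.2 _ ?_
        refine (((genericPoint_spec (D η).C).specializes (y := c₀) trivial).map (D η).i.continuous).trans ?_
        rw [hc₀]
      obtain ⟨n₀, hn₀⟩ := exists_section_vanishing k hd1 hA (S := (D η).i ⁻¹' ((W η : Set X)ᶜ))
        ((W η).2.isClosed_compl.preimage (D η).i.continuous) (fun h => h (by rw [hηC]; exact hηW η))
      refine ⟨n₀, fun n hn => ?_⟩
      obtain ⟨φ, hφ, hφS⟩ := hn₀ n hn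
      refine ⟨φ ≫ (Groth.L18.Ample.pullPow (D η).i L n).inv, ⟨genericPoint (D η).C, ?_, hηC⟩, fun c hcW => ?_⟩
      · exact (Groth.L16.genLocus_comp_iso φ (Groth.L18.Ample.pullPow (D η).i L n).symm).ge hφ
      · exact fun h => hφS c hcW ((Groth.L16.genLocus_comp_iso φ (Groth.L18.Ample.pullPow (D η).i L n).symm).le h)
  choose n₀ hn₀ using hsec
  haveI := Fintype.ofFinite {η : X // IsGen η}
  let n : ℕ := Finset.univ.sup n₀ + 1
  choose φ hφ hφW using fun η => hn₀ η n ((Finset.le_sup (Finset.mem_univ η)).trans (Nat.le_succ _))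
  have hA := isAmple_of_components k hdim (Groth.L18.Ample.isInvertible_tensorPow hL n) D W hηW hWa
    (fun η η' y hy hs => hsep η η' y hy hs)
    (fun η => ⟨Groth.L18.Ample.tw_unit L n ▸ Groth.L18.Ample.fr
        (Groth.L18.Frame.rs (Coh.structureModule X) le_top (Groth.L18.GenLoc.secOf (𝟙 _))) (e η) n, by
      have hO : Groth.L18.Frame.IsFrame (Coh.structureModule X) (W η)
          (Groth.L18.Frame.rs (Coh.structureModule X) le_top (Groth.L18.GenLoc.secOf (𝟙 _))) := by
        have h := (Groth.L18.GenLoc.isFrame_genLocus (𝟙 (Coh.structureModule X))).mono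
          (show W η ≤ CohB1.genLocus (Coh.structureModule X) (𝟙 _) by rw [Groth.L18.Ample.genLocus_id]; exact le_top)
        rw [Groth.L18.Frame.rs_rs] at h
        exact h
      have h := Groth.L18.Ample.isFrame_fr hO (he η) n
      generalize Groth.L18.Ample.tw_unit L n = q
      revert q
      rw [← Groth.L18.Ample.tw_unit L n]
      intro q
      exact h⟩)
    (fun η hc => by
      obtain ⟨z, hzT, hz⟩ := hTz η hc
      exact ⟨z, hz, hTW η z hzT⟩)
    φ hφ hφW
  exact (Groth.L18.Ample.isAmple_pow_iff hL (Nat.succ_pos _)).2 hA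

end Groth.Agent.S7642
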