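import Groth.Statements.S7198
import Groth.Agent.L24.Dominate.Nis
import Groth.Agent.L24.Dominate.Main

set_option autoImplicit false
set_option backward.isDefEq.respectTransparency.types false
universe w u
open FlatMor

namespace Groth.Agent.S7198

open AlgebraicGeometry CategoryTheory Limits in
/-- Any fppf covering {S_i → S} is refined by a family built in four steps — cover S by Zariski opens
U_j; over each U_j take a surjective finite locally free W_j → U_j; cover each W_j by Zariski opens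
W_{j,k}; over each of those take a surjective finite locally free T_{j,k} → W_{j,k} — where every
composite T_{j,k} → S factors through some S_i. Stated pointwise: around every point of S, and then
around every point of the finite locally free cover, such data exist. -/
theorem result {S : Scheme.{u}} (E : PreZeroHypercover.{w} S)
    (hflat : ∀ i, Flat (E.f i)) (hfp : ∀ i, LocallyOfFinitePresentation (E.f i))
    (hsurj : ∀ s : S, ∃ (i : E.I₀) (x : E.X i), E.f i x = s) (s : S) :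
    ∃ (U : S.Opens) (W : Scheme.{u}) (π : W ⟶ U.toScheme), s ∈ U ∧ Mor2.IsFinLocFree π ∧ Surjective π ∧
      ∀ w : W, ∃ (W' : W.Opens) (T : Scheme.{u}) (ρ : T ⟶ W'.toScheme) (i : E.I₀) (r : T ⟶ E.X i),
        w ∈ W' ∧ Mor2.IsFinLocFree ρ ∧ Surjective ρ ∧ r ≫ E.f i = ρ ≫ W'.ι ≫ π ≫ U.ι := by
  obtain ⟨i, x, rfl⟩ := hsurj s
  haveI := hflat i
  haveI := hfp i
  obtain ⟨U₁, V₁, u₁, v₁, y, r, hu, hy, -, ⟨hv1, hv2, hv3, hv4⟩, hr⟩ := Groth.L24.Dominate.exists_refinement_at (E.f i) x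
  rw [← hy]
  obtain ⟨V₀, T₀, π₀, hsV, -, hπs, hπf, hπfl, hπfp, hloc⟩ := Groth.L24.Dominate.exists_finLocFree_dominating u₁ y
  let O : T₀.Opens := ⨆ W : {W : T₀.Opens // ∃ h : (W : Scheme.{u}) ⟶ U₁, h ≫ u₁ = W.ι ≫ π₀ ≫ V₀.ι}, W.1
  have hC : IsClosed (π₀ '' (O : Set T₀)ᶜ) := π₀.isClosedMap _ O.isOpen.isClosed_compl
  let D : (V₀ : Scheme.{u}).Opens := ⟨(π₀ '' (O : Set T₀)ᶜ)ᶜ, hC.isOpen_compl⟩
  let U : S.Opens := V₀.ι ''ᵁ D
  let π : ((π₀ ⁻¹ᵁ D : T₀.Opens) : Scheme.{u}) ⟶ U.toScheme := (π₀ ∣_ D) ≫ (V₀.ι.isoImage D).hom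
  have hπι : π ≫ U.ι = (π₀ ⁻¹ᵁ D).ι ≫ π₀ ≫ V₀.ι := by
    simp only [π, U, Category.assoc, Scheme.Hom.isoImage_hom_ι, morphismRestrict_ι_assoc]
  have h1 : IsFinite (π₀ ∣_ D) := IsZariskiLocalAtTarget.restrict hπf D
  have h2 : Flat (π₀ ∣_ D) := IsZariskiLocalAtTarget.restrict hπfl D
  have h3 : LocallyOfFinitePresentation (π₀ ∣_ D) := IsZariskiLocalAtTarget.restrict hπfp D
  have h4 : Surjective (π₀ ∣_ D) := IsZariskiLocalAtTarget.restrict hπs D
  refine ⟨U, _, π, ⟨⟨u₁ y, hsV⟩, ?_, rfl⟩, ⟨inferInstanceAs (IsFinite (_ ≫ _)), inferInstanceAs (Flat (_ ≫ _)),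
    inferInstanceAs (LocallyOfFinitePresentation (_ ≫ _))⟩, inferInstanceAs (Surjective (_ ≫ _)), fun w => ?_⟩
  · rintro ⟨t, ht, hts⟩
    obtain ⟨W, h, htW, he, -⟩ := hloc t (by rw [hts]; rfl)
    exact ht (TopologicalSpace.Opens.mem_iSup.mpr ⟨⟨W, h, he⟩, htW⟩)
  · have hwO : (π₀ ⁻¹ᵁ D).ι w ∈ O := by
      by_contra hn
      exact w.2 ⟨_, hn, rfl⟩
    obtain ⟨⟨W, h, he⟩, hwW⟩ := TopologicalSpace.Opens.mem_iSup.mp hwO
    let W' : ((π₀ ⁻¹ᵁ D : T₀.Opens) : Scheme.{u}).Opens := (π₀ ⁻¹ᵁ D).ι ⁻¹ᵁ W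
    let k : (W' : Scheme.{u}) ⟶ U₁ := ((π₀ ⁻¹ᵁ D).ι ∣_ W) ≫ h
    refine ⟨W', CategoryTheory.Limits.pullback k v₁, CategoryTheory.Limits.pullback.fst k v₁, i,
      CategoryTheory.Limits.pullback.snd k v₁ ≫ r, hwW, ⟨inferInstance, inferInstance, inferInstance⟩, inferInstance, ?_⟩
    rw [Category.assoc, hr, ← CategoryTheory.Limits.pullback.condition_assoc, hπι]
    simp only [k, Category.assoc, he, morphismRestrict_ι_assoc, W']

end Groth.Agent.S7198
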