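import Groth.Statements.S7521
import Groth.Agent.L20.SchDesc.FinLocFree

set_option autoImplicit false
open CategoryTheory CategoryTheory.Limits AlgebraicGeometry
universe u
open Desc

set_option backward.isDefEq.respectTransparency.types false
set_option linter.style.haveILetI false

namespace Groth.Agent.S7521

/-- Let p : X -> Y be a surjective finite locally free morphism and V a scheme over X which has an
invertible module ample relative to V -> X. Then every descent datum on V relative to p is
effective. (A quasi-projective morphism V -> X, in particular a projective one, carries such a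
module.) (Descent data are taken in functor-of-points form.) -/
theorem result {X Y : Scheme.{u}} (p : X ⟶ Y) [Surjective p] [IsFinite p] [Flat p] [LocallyOfFinitePresentation p] (D : Desc.SchDD p) (L : D.obj.left.Modules) (hL : RelAmple.IsRelAmple D.obj.hom L) : ∃ W : Over Y, Nonempty ((Desc.toDD p).obj W ≅ D) := by
  refine Groth.L20.SchDesc.exists_iso_toDD D
    (Groth.L20.SchDesc.effective_of_orbit_subset_affine _ fun v => ?_)
  obtain ⟨W, hW, hvW, -⟩ :=
    exists_isAffineOpen_mem_and_subset (X := Y) (x := p (D.obj.hom v)) (U := ⊤) trivial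
  have hpW : IsAffineOpen (p ⁻¹ᵁ W) := hW.preimage p
  let A := D.obj.hom ⁻¹ᵁ p ⁻¹ᵁ W
  have hmem : ∀ w, Groth.L20.SchDesc.Orbit (Groth.L20.SchDesc.ofSchDD D) v w → w ∈ A := by
    intro w hw
    show p (D.obj.hom w) ∈ W
    rw [Groth.L20.SchDesc.orbit_hom_p hw]
    exact hvW
  obtain ⟨n, s, hs, -, hsa⟩ := Groth.L18.Ample.exists_pow_genLocus_of_isAmple (hL.2 ⟨_, hpW⟩)
    (Subtype.val ⁻¹' {w | Groth.L20.SchDesc.Orbit (Groth.L20.SchDesc.ofSchDD D) v w} : Set A.toScheme)
    ((Groth.L20.SchDesc.finite_orbit (Groth.L20.SchDesc.ofSchDD D) v).preimage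
      Subtype.val_injective.injOn) ⊤ fun _ _ => trivial
  exact ⟨_, hsa.image_of_isOpenImmersion A.ι, fun w hw => ⟨⟨w, hmem w hw⟩, hs hw, rfl⟩⟩

end Groth.Agent.S7521
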