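import Groth.Statements.S0144
import Groth.Agent.L27.EmbedFinitePush.Main

set_option autoImplicit false
set_option linter.style.haveILetI false
set_option backward.isDefEq.respectTransparency.types false
universe u
open CategoryTheory CategoryTheory.Limits AlgebraicGeometry Opposite
open EtPBC

namespace Groth.Agent.S0144

/-- (2): same embedding as on Noetherian schemes, for X quasi-compact and quasi-separated, with the f_i
finite and of finite presentation. -/
theorem result (X : Scheme.{u}) [CompactSpace X] [QuasiSeparatedSpace X]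
    (F : EtCoh.Ab X) (hF : EtPBC.IsConstructible F) :
    ∃ (n : ℕ) (Y : Fin n → Scheme.{u}) (f : ∀ i, Y i ⟶ X) (_ : ∀ i, IsFinite (f i))
      (_ : ∀ i, LocallyOfFinitePresentation (f i))
      (M : Fin n → Type) (_ : ∀ i, AddCommGroup (M i)) (_ : ∀ i, Finite (M i)),
      ∀ [∀ i, EtCoh.BCCont (f i)],
      ∃ (ι : F ⟶ ⨁ fun i => (EtCoh.push (f i)).obj (EtCoh.const (Y i) (M i))), Mono ι := by
  obtain ⟨n, Y, f, h1, h2, M, h3, h4, ι, hι⟩ := Groth.L27.EmbedFinitePush.exists_embedding hF
  exact ⟨n, Y, f, h1, h2, M, h3, h4, @fun _ => ⟨ι, hι⟩⟩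

end Groth.Agent.S0144
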