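import Groth.Statements.S19886
import Groth.Agent.L28.EtCartan.Frobenius
import Groth.Agent.L22.Inter.Fga

set_option backward.isDefEq.respectTransparency.types false

set_option autoImplicit false
universe u
open CategoryTheory CategoryTheory.Limits AlgebraicGeometry
open EtCoh

namespace Groth.Agent.S19886

/-- Let k be a separably closed field of characteristic p > 0 and X a scheme proper over k of dimension
d. Then the étale cohomology groups H^q(X_et, Z/p) with constant coefficients vanish for all q > d.
(The same vanishing for X separated of finite type over an algebraically closed field is a separate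
statement; here the field is only separably closed and X is proper.) -/
theorem result (k : Type u) [Field k] [IsSepClosed k]
    (p : ℕ) [Fact p.Prime] [CharP k p]
    (X : Scheme.{u}) (f : X ⟶ Spec (CommRingCat.of k)) [IsProper f]
    (d : ℕ) (hd : topologicalKrullDim X = d) (q : ℕ) (hq : d + 1 ≤ q) :
    Subsingleton (EtCoh.H X (EtCoh.const X (ZMod p)) q) := by
  letI : X.Over (Spec (CommRingCat.of k)) := ⟨f⟩
  haveI : IsProper (X ↘ Spec (CommRingCat.of k)) := ‹IsProper f›
  haveI : IsLocallyNoetherian X := LocallyOfFiniteType.isLocallyNoetherian f
  haveI : CompactSpace X := QuasiCompact.compactSpace_of_compactSpace f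
  haveI : IsNoetherian X := {}
  have h0 : (p : Γ(X, ⊤)) = 0 := by
    have h := map_natCast (Coh.toGlobal f) p
    rw [CharP.cast_eq_zero k p, map_zero] at h
    exact h.symm
  haveI := Groth.L22.Inter.subsingleton_HH_of_dim hd.le (Coh.structureModule X) (show d < q by omega)
  obtain ⟨hfin, hcard⟩ := Groth.L28.EtCartan.finite_H_const (k := k) p (Fact.out : p.Prime) h0 q
  haveI := hfin
  rw [Module.finrank_zero_of_subsingleton, pow_zero] at hcard
  exact Finite.card_le_one_iff_subsingleton.1 hcard

end Groth.Agent.S19886
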