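import Groth.Statements.S0204
import Groth.Agent.L21.AffCd.Atom
import Groth.Agent.L21.AffCd.Smooth
import Groth.Agent.L21.TopDeg.ArtinSchreier

set_option autoImplicit false
set_option backward.isDefEq.respectTransparency false
set_option linter.style.haveILetI false
universe u
open CategoryTheory CategoryTheory.Limits AlgebraicGeometry
open Curves

namespace Groth.Agent.S0204

/-- An affine finite type scheme of dimension at most one over an algebraically closed field has étale
cohomological dimension at most one for torsion abelian sheaves. -/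
theorem result (k : Type u) [Field k] [IsAlgClosed k] (X : Scheme.{u}) [IsAffine X]
    (f : X ⟶ Spec (CommRingCat.of k)) [LocallyOfFiniteType f]
    (hdim : topologicalKrullDim X ≤ 1) : EtCoh.CohDimLE X 1 := by
  intro F hF q hq
  haveI : IsSeparated f := inferInstance
  haveI : QuasiCompact f := inferInstance
  rcases (show q = 2 ∨ 3 ≤ q by omega) with rfl | h3
  · refine Groth.L21.AffCd.subsingleton_of_atoms (P := fun _ => True) 2
      (fun G hG => Groth.L28.CurveCd.subsingleton_H f hdim G hG 0) (fun a => ?_) F
      (Groth.L21.AffCd.exists_killed hF)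
    obtain ⟨V, hV, r, hr, -⟩ := a
    haveI := hV
    haveI : Fact r.Prime := ⟨hr⟩
    refine Groth.L21.AffCd.subsingleton_atom f hdim r (fun Y π _ => ?_) V
    haveI : LocallyOfFiniteType (π ≫ f) := inferInstance
    have hd := (Groth.L19.topologicalKrullDim_le_of_isIntegralHom π).trans hdim
    by_cases hrk : (r : k) = 0
    · haveI : CharP k r := (CharP.charP_iff_prime_eq_zero hr).2 hrk
      exact Groth.L21.TopDeg.subsingleton_const k r (π ≫ f) 1 hd 1 le_rfl
    · haveI : IsAffine Y := isAffine_of_isAffineHom π
      exact Groth.L21.AffCd.subsingleton_H2_const r hrk (π ≫ f) hd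
  · obtain ⟨i, rfl⟩ : ∃ i, q = i + 3 := ⟨q - 3, by omega⟩
    exact Groth.L28.CurveCd.subsingleton_H f hdim F hF i

end Groth.Agent.S0204
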