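import Groth.Statements.S11357
import Groth.Agent.L21.Disc.FittKernel
import Groth.Agent.L21.Disc.HurwitzOmega
import Groth.Agent.L21.InvHom
import Groth.Agent.L21.Duality.Main
import Groth.Agent.L26.Weil.Axes
import Groth.Agent.L18.AmplePull
import Groth.Agent.L19.OmegaSh.CotangentSeq
import Groth.Agent.L19.OmegaSh.Universal
import Groth.Agent.L19.OmegaSh.DiffCompat

set_option autoImplicit false
set_option backward.isDefEq.respectTransparency false
set_option linter.style.haveILetI false
universe u
open CategoryTheory CategoryTheory.Limits AlgebraicGeometry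
open Curves

namespace Groth.Agent.S11357

/-- The sheaf form of the Hurwitz formula over any base. -/
theorem key {X Y Z : Scheme.{u}} [IsIntegral X] (f : X ⟶ Y) [IsFinite f] (g : Y ⟶ Z) [QuasiSeparated g]
    (q : X ⟶ Z) [QuasiSeparated q] (hq : f ≫ g = q)
    (hX : PicF.IsInvertible (Omega.sheaf q))
    (hY : PicF.IsInvertible ((Scheme.Modules.pullback f).obj (Omega.sheaf g)))
    (hgen : Groth.L21.Disc.IsLenSpec (f.stalkMap (genericPoint X)).hom 0) :
    Nonempty (CohB1.tensorMod (Omega.sheaf q) (ClSub.idealMod (Fitt.sheafIdeal (Omega.sheaf f) 0)) ≅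
      (Scheme.Modules.pullback f).obj (Omega.sheaf g)) := by
  subst hq
  obtain ⟨c₁, hc₁, -⟩ := Groth.L19.OmegaSh.existsUnique_diffCompat f (𝟙 Z) (Category.comp_id _)
    (Groth.L19.OmegaSh.isUniversal_dOmega (f := g)) (OmegaSh.dOmega (f ≫ g))
  obtain ⟨c₂, hc₂, -⟩ := Groth.L19.OmegaSh.existsUnique_diffCompat (𝟙 X) g (Category.id_comp _).symm
    (Groth.L19.OmegaSh.isUniversal_dOmega (f := f ≫ g)) (OmegaSh.dOmega f)
  obtain ⟨w, hex, hepi⟩ := Groth.L19.OmegaSh.exact_cotangent_seq (Groth.L19.OmegaSh.isUniversal_dOmega (f := g))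
    (Groth.L19.OmegaSh.isUniversal_dOmega (f := f ≫ g)) (Groth.L19.OmegaSh.isUniversal_dOmega (f := f))
    c₁ hc₁ c₂ hc₂
  have hne : c₁ ≠ 0 := by
    intro h0
    letI := (f.stalkMap (genericPoint X)).hom.toAlgebra
    obtain ⟨θ⟩ := Groth.L21.Disc.nonempty_stalk_omega f (genericPoint X)
    haveI : Subsingleton ((Omega.sheaf f).presheaf.stalk (genericPoint X)) := by
      rw [← Module.length_eq_zero_iff (R := X.presheaf.stalk (genericPoint X)), ← θ.length_eq]
      exact hgen
    obtain ⟨e, he⟩ := Groth.L21.RR.exists_frame_stalk hX (genericPoint X)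
    have h1 : e ∈ LinearMap.ker (Groth.L21.RR.st ((Scheme.Modules.pullbackId X).inv.app _ ≫ c₂) (genericPoint X)) :=
      Subsingleton.elim _ _
    rw [← Groth.L21.Disc.exact_st hex (genericPoint X)] at h1
    obtain ⟨v, hv⟩ := h1
    rw [h0, Groth.L21.RR.st, Functor.map_zero] at hv
    have h2 : (fun a : X.presheaf.stalk (genericPoint X) => a • e) 1 =
        (fun a : X.presheaf.stalk (genericPoint X) => a • e) 0 := by
      simp only [one_smul, zero_smul]
      exact hv.symm
    exact one_ne_zero (he.1 h2)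
  haveI := Groth.L21.InvHom.mono_of_ne_zero hY hX hne
  haveI := hepi
  exact Groth.L21.Disc.nonempty_tensor_fitt_iso hX c₁ _ w hex (Groth.L15.OmegaCoh.isCoh_omega f)

/-- Let f : X → Y be a finite morphism over k of curves over an algebraically closed field k (integral,
proper over k, of dimension one, all local rings regular), sending the generic point to the generic
point, with K(X)/K(Y) separable, and let R be the ramification divisor Σ_P length(Ω_{X/Y,P}) · P,
whose ideal sheaf I_R is the 0-th Fitting ideal of the torsion sheaf Ω_{X/Y} (at P it is m_P to the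
power length(Ω_{X/Y,P})). Then K_X is linearly equivalent to f^* K_Y + R: Ω_{X/k} ⊗ I_R ≅ f^*
Ω_{Y/k} (existence of an isomorphism, i.e. equality of classes in Pic X). -/
theorem result (k : Type u) [Field k] [IsAlgClosed k] (X : Scheme.{u}) [X.Over (Spec (CommRingCat.of k))]
    [IsIntegral X] [IsProper (X ↘ (Spec (CommRingCat.of k)))] (hdimX : topologicalKrullDim X = 1)
    (hregX : ∀ x : X, IsRegularLocalRing (X.presheaf.stalk x))
    (Y : Scheme.{u}) [Y.Over (Spec (CommRingCat.of k))]
    [IsIntegral Y] [IsProper (Y ↘ (Spec (CommRingCat.of k)))] (hdimY : topologicalKrullDim Y = 1)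
    (hregY : ∀ x : Y, IsRegularLocalRing (Y.presheaf.stalk x))
    (f : X ⟶ Y) [IsFinite f] (hf : f ≫ (Y ↘ (Spec (CommRingCat.of k))) = X ↘ (Spec (CommRingCat.of k)))
    (e : f (genericPoint X) = genericPoint Y) :
    letI := ((Y.presheaf.stalkSpecializes (specializes_of_eq e) ≫ f.stalkMap (genericPoint X)).hom).toAlgebra
    Algebra.IsSeparable Y.functionField X.functionField →
      Nonempty (CohB1.tensorMod (Omega.sheaf (X ↘ (Spec (CommRingCat.of k)))) (ClSub.idealMod (Fitt.sheafIdeal (Omega.sheaf f) 0)) ≅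
        (Scheme.Modules.pullback f).obj (Omega.sheaf (Y ↘ (Spec (CommRingCat.of k))))) := by
  intro hsep
  haveI : Smooth (X ↘ Spec (CommRingCat.of k)) := Groth.L26.Weil.smooth_of_regular_closed _ fun x _ => hregX x
  haveI : Smooth (Y ↘ Spec (CommRingCat.of k)) := Groth.L26.Weil.smooth_of_regular_closed _ fun x _ => hregY x
  have hX := Groth.L21.Duality.isInvertible_omega (X := X) (k := k) hdimX
  have hY := Groth.L21.Duality.isInvertible_omega (X := Y) (k := k) hdimY
  exact key f (Y ↘ Spec (CommRingCat.of k)) _ hf hX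
    (Groth.L18.Ample.isInvertible_pullback f hY)
    (Groth.L21.Disc.isLenSpec_genericPoint f e hsep)

end Groth.Agent.S11357
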