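import Groth.Statements.S8863
-- import your own Groth.Agent.* helpers here

import Groth.Agent.L22.Mero
import Mathlib.AlgebraicGeometry.Noetherian

set_option autoImplicit false
universe u
open CategoryTheory CategoryTheory.Limits AlgebraicGeometry TopologicalSpace
open SDiv

namespace Groth.Agent.S8863

/-- Let X be a locally Noetherian scheme and x a point of X. Then the monoid S_x of germs at x of
regular sections of O_X (sections whose germ at every point of their open of definition is a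
nonzerodivisor) is the whole monoid of nonzerodivisors of O_{X,x}; consequently K_{X,x} is the total
ring of fractions of O_{X,x}. -/
theorem result (X : Scheme.{u}) [IsLocallyNoetherian X] (x : ↥X) :
    Mero.regStalk X x = nonZeroDivisors ↑(X.presheaf.stalk x) := by
  classical
  refine le_antisymm (Mero.regStalk_le_nonZeroDivisors x) fun g hg => ?_
  obtain ⟨V, hxV, f₀, rfl⟩ := X.presheaf.exists_germ_eq g
  obtain ⟨U, hU, hxU, hle⟩ := exists_isAffineOpen_mem_and_subset (x := x) (U := V) hxV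
  set f := X.presheaf.map (homOfLE (show U ≤ V from hle)).op f₀ with hf_def
  have hfg : X.presheaf.germ U x hxU f = X.presheaf.germ V x hxV f₀ :=
    TopCat.Presheaf.germ_res_apply X.presheaf (homOfLE _) x hxU f₀
  haveI : IsNoetherianRing Γ(X, U) := IsLocallyNoetherian.component_noetherian ⟨U, hU⟩
  letI : Algebra Γ(X, U) (X.presheaf.stalk x) := (X.presheaf.germ U x hxU).hom.toAlgebra
  haveI : IsLocalization.AtPrime (X.presheaf.stalk x) (hU.primeIdealOf ⟨x, hxU⟩).asIdeal :=
    hU.isLocalization_stalk ⟨x, hxU⟩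
  obtain ⟨T, hT⟩ := IsNoetherian.noetherian (LinearMap.ker (LinearMap.mulLeft Γ(X, U) f))
  have hT' : ∀ a : T, ∃ t : (hU.primeIdealOf ⟨x, hxU⟩).asIdeal.primeCompl,
      (t : Γ(X, U)) * (a : Γ(X, U)) = 0 := by
    intro a
    have ha : f * (a : Γ(X, U)) = 0 := by
      have : (a : Γ(X, U)) ∈ LinearMap.ker (LinearMap.mulLeft Γ(X, U) f) :=
        hT ▸ Submodule.subset_span a.2
      simpa using this
    refine (IsLocalization.map_eq_zero_iff (hU.primeIdealOf ⟨x, hxU⟩).asIdeal.primeCompl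
      (X.presheaf.stalk x) (a : Γ(X, U))).1 ?_
    have h1 := congrArg (algebraMap Γ(X, U) (X.presheaf.stalk x)) ha
    rw [map_mul, map_zero] at h1
    exact hg.1 _ (by rw [← hfg]; exact h1)
  choose t ht using hT'
  let t₀ : Γ(X, U) := ∏ a : T, (t a : Γ(X, U))
  have ht₀ : t₀ ∉ (hU.primeIdealOf ⟨x, hxU⟩).asIdeal :=
    show t₀ ∈ (hU.primeIdealOf ⟨x, hxU⟩).asIdeal.primeCompl from
      Submonoid.prod_mem _ fun a _ => (t a).2
  have hkill : ∀ b, f * b = 0 → t₀ * b = 0 := by
    intro b hb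
    have hb' : b ∈ Submodule.span Γ(X, U) (T : Set Γ(X, U)) := by rw [hT]; simpa using hb
    clear hb
    induction hb' using Submodule.span_induction with
    | mem y hy =>
      rw [show t₀ = (t ⟨y, hy⟩ : Γ(X, U)) * ∏ a ∈ Finset.univ.erase ⟨y, hy⟩, (t a : Γ(X, U)) from
        (Finset.mul_prod_erase Finset.univ (fun a => (t a : Γ(X, U))) (Finset.mem_univ _)).symm,
        mul_assoc, mul_comm _ y, ← mul_assoc, ht ⟨y, hy⟩, zero_mul]
    | zero => exact mul_zero _
    | add y z _ _ hy hz => rw [mul_add, hy, hz, add_zero]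
    | smul c y _ hy => rw [smul_eq_mul, mul_left_comm, hy, mul_zero]
  have hxt : x ∈ X.basicOpen t₀ := by
    rw [X.mem_basicOpen _ _ hxU]
    exact IsLocalization.map_units (X.presheaf.stalk x)
      (⟨t₀, ht₀⟩ : (hU.primeIdealOf ⟨x, hxU⟩).asIdeal.primeCompl)
  refine ⟨X.basicOpen t₀, hxt, X.presheaf.map (homOfLE (X.basicOpen_le t₀)).op f,
    Groth.L22.Mero.mem_regSub_of_mem_nonZeroDivisors (hU.basicOpen t₀) ?_,
    (TopCat.Presheaf.germ_res_apply X.presheaf (homOfLE _) x hxt f).trans hfg⟩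
  haveI := hU.isLocalization_basicOpen t₀
  change algebraMap Γ(X, U) Γ(X, X.basicOpen t₀) f ∈ nonZeroDivisors Γ(X, X.basicOpen t₀)
  rw [mem_nonZeroDivisors_iff_left]
  intro z hz
  obtain ⟨⟨a, s⟩, has⟩ := IsLocalization.surj (Submonoid.powers t₀) z
  have h0 : algebraMap Γ(X, U) Γ(X, X.basicOpen t₀) (f * a) = 0 := by
    rw [map_mul, ← has, ← mul_assoc, hz, zero_mul]
  obtain ⟨⟨_, m, rfl⟩, hm⟩ := (IsLocalization.map_eq_zero_iff (Submonoid.powers t₀) _ _).1 h0
  have h2 : algebraMap Γ(X, U) Γ(X, X.basicOpen t₀) a = 0 :=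
    (IsLocalization.map_eq_zero_iff (Submonoid.powers t₀) _ _).2 ⟨⟨t₀ ^ (m + 1), m + 1, rfl⟩, by
      show t₀ ^ (m + 1) * a = 0
      rw [pow_succ', mul_assoc]
      exact hkill _ (by rw [mul_left_comm]; exact hm)⟩
  rw [← has] at h2
  exact (IsUnit.mul_left_eq_zero (IsLocalization.map_units _ s)).1 h2

end Groth.Agent.S8863
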