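import Groth.Statements.S18251
import Mathlib.Tactic.Ring
import Mathlib.Tactic.FinCases
import Mathlib.Tactic.Abel

set_option autoImplicit false
universe u
open W4c5m1nsnscurves
open Curves

namespace Groth.Agent.S18251

variable {R : Type u} [CommRing R] (a b c d : R)

open MvPolynomial

/-- Normal form of `x^i y^j`. -/
noncomputable def nf : ℕ → ℕ → (Option (ℕ ⊕ (Fin 2 × ℕ)) →₀ R)
  | 0, 0 => Finsupp.single none 1
  | 0, i+1 => Finsupp.single (some (.inr (0, i))) 1
  | j+1, 0 => Finsupp.single (some (.inr (1, j))) 1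
  | 1, i+1 => Finsupp.single (some (.inl i)) 1
  | j+2, i+1 => nf (j+1) (i+2) + a • nf (j+1) (i+1) + b • nf j (i+1) + c • nf (j+1) i + d • nf j i
termination_by j => j

/-- The linear normal-form map. -/
noncomputable def N : MvPolynomial (Fin 2) R →ₗ[R] (Option (ℕ ⊕ (Fin 2 × ℕ)) →₀ R) :=
  (MvPolynomial.basisMonomials (Fin 2) R).constr R fun s => nf a b c d (s 1) (s 0)

lemma N_xy (i j : ℕ) : N a b c d (X 0 ^ i * X 1 ^ j) = nf a b c d j i := by
  have h : (X 0 ^ i * X 1 ^ j : MvPolynomial (Fin 2) R) =
      (MvPolynomial.basisMonomials (Fin 2) R) (Finsupp.single 0 i + Finsupp.single 1 j) := by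
    simp [MvPolynomial.coe_basisMonomials, X_pow_eq_monomial, monomial_mul]
  rw [N, h, Module.Basis.constr_basis]
  simp

lemma monomial_eq_xy (s : Fin 2 →₀ ℕ) (r : R) :
    monomial s r = r • (X 0 ^ (s 0) * X 1 ^ (s 1) : MvPolynomial (Fin 2) R) := by
  have h : s = Finsupp.single 0 (s 0) + Finsupp.single 1 (s 1) := by
    ext i; fin_cases i <;> simp
  simp [X_pow_eq_monomial, monomial_mul, smul_monomial, ← h]

/-- The relation. -/
noncomputable def rel : MvPolynomial (Fin 2) R :=
  X 0 * X 1 ^ 2 - X 0 ^ 2 * X 1 - (C a * X 0 * X 1 + C b * X 0 + C c * X 1 + C d)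

lemma N_mul_rel (p : MvPolynomial (Fin 2) R) : N a b c d (p * rel a b c d) = 0 := by
  induction p using MvPolynomial.induction_on' with
  | add p q hp hq => rw [add_mul, map_add, hp, hq, add_zero]
  | monomial s r =>
    rw [monomial_eq_xy, smul_mul_assoc, map_smul]
    have h : (X 0 ^ (s 0) * X 1 ^ (s 1)) * rel a b c d =
        X 0 ^ (s 0 + 1) * X 1 ^ (s 1 + 2) - X 0 ^ (s 0 + 2) * X 1 ^ (s 1 + 1)
          - (a • (X 0 ^ (s 0 + 1) * X 1 ^ (s 1 + 1)) + b • (X 0 ^ (s 0 + 1) * X 1 ^ (s 1))
            + c • (X 0 ^ (s 0) * X 1 ^ (s 1 + 1)) + d • (X 0 ^ (s 0) * X 1 ^ (s 1))) := by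
      simp only [rel, MvPolynomial.smul_eq_C_mul]
      ring
    rw [h]
    simp only [map_add, map_sub, map_smul, N_xy]
    rw [nf]
    convert smul_zero r using 2
    abel

/-- The normal form on the quotient. -/
noncomputable def Nq : W4c5m1nsnscurves.CurveAlg3 R a b c d →ₗ[R] (Option (ℕ ⊕ (Fin 2 × ℕ)) →₀ R) :=
  Submodule.liftQ ((Ideal.span {rel a b c d}).restrictScalars R) (N a b c d) (fun p hp => by
    obtain ⟨q, rfl⟩ := Ideal.mem_span_singleton'.1 hp
    exact N_mul_rel a b c d q)

open W4c5m1nsnscurves in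
open Curves in


/-- Case n = 3: let R be a commutative ring and a, b, c, d elements of R (a point of U_3, which is
affine 4-space, so no condition is imposed). Then in the R-algebra R[x_2, x_3]/(x_2 x_3² − x_2² x_3
− a x_2 x_3 − b x_2 − c x_3 − d) the classes of the monomials 1, x_2^k x_3, x_2^k and x_3^k (k ≥ 1)
are linearly independent over R and span, i.e. form an R-basis. -/
theorem result (R : Type u) [CommRing R] (a b c d : R) :
    LinearIndependent R (cmon3 R a b c d) ∧
      Submodule.span R (Set.range (cmon3 R a b c d)) = ⊤ := by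
  set Q := Ideal.Quotient.mkₐ R (Ideal.span {rel a b c d})
  have hN : ∀ k, Nq a b c d (cmon3 R a b c d k) = Finsupp.single k 1 := by
    intro k
    have key : ∀ p, Nq a b c d (Ideal.Quotient.mk _ p) = N a b c d p := fun p => rfl
    rcases k with _ | k | ⟨y, k⟩
    · show Nq a b c d (Ideal.Quotient.mk _ 1) = _
      rw [key]
      have := N_xy a b c d 0 0
      simpa [nf] using this
    · refine (key _).trans ?_
      have := N_xy a b c d (k + 1) 1
      simpa [nf] using this
    · refine (key _).trans ?_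
      have h0 := N_xy a b c d (k + 1) 0
      have h1 := N_xy a b c d 0 (k + 1)
      fin_cases y
      · simpa [nf] using h0
      · simpa [nf] using h1
  refine ⟨LinearIndependent.of_comp (Nq a b c d) ?_, ?_⟩
  · rw [show (Nq a b c d) ∘ cmon3 R a b c d = fun k => Finsupp.single k 1 from funext hN]
    exact (Finsupp.basisSingleOne (R := R)).linearIndependent
  rw [eq_top_iff]
  set M := Submodule.span R (Set.range (cmon3 R a b c d))
  have hm : ∀ k, cmon3 R a b c d k ∈ M := fun k => Submodule.subset_span ⟨k, rfl⟩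
  have hxy : ∀ j i, Q (MvPolynomial.X 0 ^ i * MvPolynomial.X 1 ^ j) ∈ M := by
    intro j
    induction j using Nat.strong_induction_on with
    | _ j ih =>
      intro i
      match j, i with
      | 0, 0 => rw [pow_zero, pow_zero, one_mul]; exact hm none
      | 0, i+1 => rw [pow_zero, mul_one]; exact hm (some (.inr (0, i)))
      | j+1, 0 => rw [pow_zero, one_mul]; exact hm (some (.inr (1, j)))
      | 1, i+1 => rw [pow_one]; exact hm (some (.inl i))
      | j+2, i+1 =>
        have h0 : Q (rel a b c d) = 0 :=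
          Ideal.Quotient.eq_zero_iff_mem.2 (Ideal.subset_span rfl)
        have h : (MvPolynomial.X 0 ^ (i+1) * MvPolynomial.X 1 ^ (j+2) : MvPolynomial (Fin 2) R) =
            MvPolynomial.X 0 ^ i * MvPolynomial.X 1 ^ j * rel a b c d
            + (MvPolynomial.X 0 ^ (i + 2) * MvPolynomial.X 1 ^ (j + 1)
              + a • (MvPolynomial.X 0 ^ (i + 1) * MvPolynomial.X 1 ^ (j + 1))
              + b • (MvPolynomial.X 0 ^ (i + 1) * MvPolynomial.X 1 ^ j)
              + c • (MvPolynomial.X 0 ^ i * MvPolynomial.X 1 ^ (j + 1))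
              + d • (MvPolynomial.X 0 ^ i * MvPolynomial.X 1 ^ j)) := by
          simp only [rel, MvPolynomial.smul_eq_C_mul]
          ring
        rw [h, map_add, map_mul Q, h0, mul_zero, zero_add]
        simp only [map_add Q, map_smul Q]
        have e1 := ih (j+1) (by omega)
        have e0 := ih j (by omega)
        exact add_mem (add_mem (add_mem (add_mem (e1 _) (M.smul_mem a (e1 _))) (M.smul_mem b (e0 _)))
          (M.smul_mem c (e1 _))) (M.smul_mem d (e0 _))
  intro x _
  obtain ⟨p, rfl⟩ := Ideal.Quotient.mk_surjective x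
  clear ‹_ ∈ ⊤›
  show Q p ∈ M
  induction p using MvPolynomial.induction_on' with
  | add p q hp hq => rw [map_add]; exact add_mem hp hq
  | monomial s r =>
    rw [monomial_eq_xy, map_smul]
    exact M.smul_mem r (hxy _ _)


end Groth.Agent.S18251
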