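import Groth.Statements.S18246
import Groth.Agent.L21.UCurve.Indep
import Groth.Agent.L21.UCurve.Span

set_option autoImplicit false
universe u
open W4c5m1nsnscurves
open Curves

namespace Groth.Agent.S18246

variable {R : Type u} [CommRing R] {m : ℕ} {v : UGen m → R}

open Groth.Agent.L21.UCurve

lemma coef (hli : LinearIndependent R (mon (cx v))) {α β γ ε : R} {p q : CVar m} (hpq : p ≠ q)
    (h : algebraMap R _ α * (cx v .x2 * cx v .x3) + algebraMap R _ β * cx v p
      + algebraMap R _ γ * cx v q + algebraMap R _ ε = 0) : α = 0 ∧ β = 0 ∧ γ = 0 := by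
  classical
  have e : Finsupp.linearCombination R (mon (cx v))
      (Finsupp.single (some (.inl 0)) α + Finsupp.single (some (.inr (p, 0))) β
        + Finsupp.single (some (.inr (q, 0))) γ + Finsupp.single none ε) = 0 := by
    have sd : ∀ (r : R) (a : CurveAlg R m v), r • a = algebraMap R _ r * a := fun r a =>
      Algebra.smul_def r a
    simp only [map_add, Finsupp.linearCombination_single, mon, pow_one, zero_add, sd, mul_one]
    linear_combination h
  have z := linearIndependent_iff.1 hli _ e
  refine ⟨?_, ?_, ?_⟩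
  · simpa using DFunLike.congr_fun z (some (.inl 0))
  · simpa [hpq, Ne.symm hpq] using DFunLike.congr_fun z (some (.inr (p, 0)))
  · simpa [hpq, Ne.symm hpq] using DFunLike.congr_fun z (some (.inr (q, 0)))

lemma solves_of_indep (hli : LinearIndependent R (mon (cx v))) : Solves v := by
  have hr := cx_rels v
  have pr : ∀ (i j : Fin m) (h : i ≠ j),
      v .a + v (.ci j) + v (.cbi j) + v (.cbi i) + v (.ci i) - v (.cij i j h) - v (.cij j i h.symm) = 0 ∧
      (v .a + v (.ci j) + v (.cbi j) + v (.cbi i) - v (.cij i j h)) * v (.ci j)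
        + v (.ci i) * v (.cij i j h) - v .c = 0 ∧
      v .cb + v (.cbi i) * v (.cbi j) - v (.cij i j h) * v (.cbi j) - v (.cij j i h.symm) * v (.cbi i) = 0 := by
    intro i j h
    refine coef hli (p := .xi j) (q := .x2) (by simp)
      (ε := -(v .a + v (.ci j) + v (.cbi j) + v (.cbi i) + v (.ci i) - v (.cij i j h)
        - v (.cij j i h.symm)) * v .c) ?_
    simp only [map_add, map_sub, map_mul, map_neg]
    set k := algebraMap R (CurveAlg R m v)
    linear_combination cx v .x2 * hr.rx i j h - cx v (.xi j) * hr.r2 i - cx v .x2 * hr.r3 j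
      - (k (v .a) + k (v (.ci j)) + k (v (.cbi j)) + k (v (.cbi i)) - k (v (.cij i j h))) * hr.r2 j
      + k (v (.cij j i h.symm)) * hr.r2 i - k (v (.ci i)) * hr.rx i j h
  refine ⟨fun i j h => ?_, fun i j h => ?_, fun i j h => ?_, fun i j l h1 h2 h3 => ?_⟩
  · linear_combination -(pr i j h).1
  · linear_combination (v (.ci j)) * (pr i j h).1 - (pr i j h).2.1
  · linear_combination (pr i j h).2.2
  · have t : v .c - (v .a + v (.ci l) + v (.cbi l)) * v (.ci l) - v (.cij i j h1) * v (.cij j l h2)
        + (v (.cij j l h2) - v (.cij j i h1.symm)) * v (.cij i l h3) = 0 := by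
      refine (coef hli (p := .xi l) (q := .xi i) (by simpa using Ne.symm h3)
        (α := -(v .a + v (.ci l) + v (.cbi l)) + (v .a + v (.ci i) + v (.cbi i)) - v (.cij i j h1)
          + v (.cij j l h2) - v (.cij j i h1.symm) + v (.cij l j h2.symm))
        (γ := -v .c + (v .a + v (.ci i) + v (.cbi i)) * v (.ci i)
          + (v (.cij j l h2) - v (.cij j i h1.symm)) * v (.cij l i h3.symm)
          + v (.cij l j h2.symm) * v (.cij j i h1.symm))
        (ε := ((v .a + v (.ci l) + v (.cbi l)) - (v .a + v (.ci i) + v (.cbi i)) + v (.cij i j h1)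
          - (v (.cij j l h2) - v (.cij j i h1.symm)) - v (.cij l j h2.symm)) * v .c) ?_).2.1
      simp only [map_add, map_sub, map_mul, map_neg]
      set k := algebraMap R (CurveAlg R m v)
      linear_combination cx v (.xi l) * hr.rx i j h1 - cx v (.xi i) * hr.rx j l h2
        + cx v .x2 * hr.r3 l - cx v .x2 * hr.r3 i
        + (k (v .a) + k (v (.ci l)) + k (v (.cbi l))) * hr.r2 l
        - (k (v .a) + k (v (.ci i)) + k (v (.cbi i))) * hr.r2 i
        + k (v (.cij i j h1)) * hr.rx j l h2
        + (k (v (.cij j i h1.symm)) - k (v (.cij j l h2))) * hr.rx i l h3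
        - k (v (.cij l j h2.symm)) * hr.rx i j h1
    linear_combination -t

open W4c5m1nsnscurves in
open Curves in


/-- Let R be a commutative ring and m ≥ 1, so that n = m + 3 ≥ 4 points are marked, and let v assign
values in R to the coordinates a, c, c̄, c_i, c̄_i (one index i for each of the points 4, …, n) and
c_{ij} (i ≠ j) of U_n, with no condition. Let A be the R-algebra on x_2, x_3, x_i with the relations
x_2 x_i = x_2 x_3 + c_i x_i + c̄_i x_2 − c, x_3 x_i = x_2 x_3 + (a + c_i + c̄_i)(x_i − c̄_i) + c̄ −
c and x_i x_j = x_2 x_3 + c_{ij} x_j + c_{ji} x_i − c for i ≠ j. Then the classes of the monomials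
1, x_2^k x_3 (k ≥ 1) and y^k (y any one of the variables, k ≥ 1) are linearly independent over R and
span A if and only if the values v satisfy all the defining relations of U_n: c_{ij} + c_{ji} = a +
c_i + c̄_i + c_j + c̄_j, c = c_{ji} c_j + c_{ij} c_i − c_i c_j, c̄ = c_{ji} c̄_i + c_{ij} c̄_j −
c̄_i c̄_j for i ≠ j, and c_{ij} c_{jk} + c_{ji} c_{ik} − c_{ik} c_{jk} + (a + c_k + c̄_k) c_k = c
for i, j, k distinct. (The published statement writes the relations of the curve with constants
c_{ij} for all pairs, d_{ij}, a, b, c, d and asserts the equivalence with a longer list of equations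
among them; here the constants are already expressed in the coordinates a, c, c̄, c_i, c̄_i, c_{ij}
of U_n, in which that list becomes the relations above.) -/
theorem result (R : Type u) [CommRing R] (m : ℕ) (hm : 1 ≤ m)
    (v : UGen m → R) :
    (LinearIndependent R (cmon R m v) ∧ Submodule.span R (Set.range (cmon R m v)) = ⊤) ↔
      (∀ p ∈ URel R m, MvPolynomial.eval v p = 0) := by
  rw [Groth.Agent.L21.UCurve.solves_iff]
  constructor
  · rintro ⟨hli, -⟩
    rw [Groth.Agent.L21.UCurve.cmon_eq] at hli
    exact solves_of_indep hli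
  · exact fun h => ⟨Groth.Agent.L21.UCurve.indep_cmon hm v h, Groth.Agent.L21.UCurve.span_cmon hm v⟩


end Groth.Agent.S18246
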