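import Groth.Statements.S18247
import Mathlib.Tactic.Ring
import Mathlib.Tactic.FinCases
import Mathlib.Tactic.LinearCombination

set_option autoImplicit false
universe u
open W4c5m1nsnscurves
open Curves

namespace Groth.Agent.S18247

variable {_unused : Unit}

open MvPolynomial

/-- The six-variable values of the generators. -/
noncomputable def gval : UGen 2 → MvPolynomial (Fin 6) ℤ
  | .a => X 0
  | .c => (X 0 + X 1 + X 2 + X 3 + X 4 - X 5) * X 3 + X 5 * X 1 - X 1 * X 3
  | .cb => (X 0 + X 1 + X 2 + X 3 + X 4 - X 5) * X 2 + X 5 * X 4 - X 2 * X 4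
  | .ci i => if i = 0 then X 1 else X 3
  | .cbi i => if i = 0 then X 2 else X 4
  | .cij i _ _ => if i = 0 then X 5 else X 0 + X 1 + X 2 + X 3 + X 4 - X 5

lemma gval_rel (p : MvPolynomial (UGen 2) ℤ) (hp : p ∈ Ideal.span (URel ℤ 2)) :
    aeval gval p = 0 := by
  revert p hp
  show Ideal.span (URel ℤ 2) ≤ RingHom.ker (aeval gval).toRingHom
  rw [Ideal.span_le]
  rintro p (((⟨⟨⟨i, j⟩, h⟩, rfl⟩ | ⟨⟨⟨i, j⟩, h⟩, rfl⟩) | ⟨⟨⟨i, j⟩, h⟩, rfl⟩) | ⟨⟨⟨i, j, k⟩, h⟩, rfl⟩)
  iterate 3
    fin_cases i <;> fin_cases j <;>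
      first
        | exact absurd rfl h
        | (simp [SetLike.mem_coe, RingHom.mem_ker, gval]; try ring)
  exfalso
  fin_cases i <;> fin_cases j <;> fin_cases k <;> simp at h

open W4c5m1nsnscurves in
open Curves in


/-- Case n = 5: the coordinate ring of U_5 over ℤ (m = 2 indices, standing for the points 4 and 5;
generators a, c, c̄, c_4, c̄_4, c_5, c̄_5, c_{45}, c_{54} with the linear and the two quadratic
relations for the one pair of indices, and no triple) is the polynomial ring on a, c_4, c̄_4, c_5,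
c̄_5, c_{45}: the ℤ-algebra map from the polynomial ring in six variables sending the variables to
these six classes, in this order, is bijective. -/
theorem result :
    Function.Bijective (MvPolynomial.aeval (R := ℤ) (S₁ := URing ℤ 2)
      ![ugen ℤ 2 .a, ugen ℤ 2 (.ci 0), ugen ℤ 2 (.cbi 0), ugen ℤ 2 (.ci 1), ugen ℤ 2 (.cbi 1),
        ugen ℤ 2 (.cij 0 1 Fin.zero_ne_one)]) := by
  let φ := MvPolynomial.aeval (R := ℤ) (S₁ := URing ℤ 2)
      ![ugen ℤ 2 .a, ugen ℤ 2 (.ci 0), ugen ℤ 2 (.cbi 0), ugen ℤ 2 (.ci 1), ugen ℤ 2 (.cbi 1),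
        ugen ℤ 2 (.cij 0 1 Fin.zero_ne_one)]
  let g : URing ℤ 2 →ₐ[ℤ] MvPolynomial (Fin 6) ℤ :=
    Ideal.Quotient.liftₐ _ (MvPolynomial.aeval gval) gval_rel
  show Function.Bijective φ
  have hg : ∀ x, g (ugen ℤ 2 x) = gval x := fun x => by
    simp [g, ugen]
  have e1 : g.comp φ = AlgHom.id ℤ _ := by
    ext i
    fin_cases i <;> simp [φ, hg, gval]
  have mem : ∀ p ∈ URel ℤ 2, Ideal.Quotient.mk (Ideal.span (URel ℤ 2)) p = 0 := fun p hp =>
    Ideal.Quotient.eq_zero_iff_mem.2 (Ideal.subset_span hp)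
  have h01 : (0 : Fin 2) ≠ 1 := Fin.zero_ne_one
  have r1 := mem _ (Or.inl (Or.inl (Or.inl ⟨⟨(0, 1), h01⟩, rfl⟩)))
  have r2 := mem _ (Or.inl (Or.inl (Or.inr ⟨⟨(0, 1), h01⟩, rfl⟩)))
  have r3 := mem _ (Or.inl (Or.inr ⟨⟨(0, 1), h01⟩, rfl⟩))
  simp only [map_sub, map_add, map_mul] at r1 r2 r3
  have e2 : φ.comp g = AlgHom.id ℤ _ := by
    refine Ideal.Quotient.algHom_ext _ (MvPolynomial.algHom_ext fun x => ?_)
    show φ (g (ugen ℤ 2 x)) = ugen ℤ 2 x
    rw [hg]
    cases x with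
    | a => simp [φ, gval]
    | c =>
      simp [φ, gval]
      simp only [ugen]
      linear_combination r2 - (Ideal.Quotient.mk _ (MvPolynomial.X (UGen.ci 1))) * r1
    | cb =>
      simp [φ, gval]
      simp only [ugen]
      linear_combination r3 - (Ideal.Quotient.mk _ (MvPolynomial.X (UGen.cbi 0))) * r1
    | ci i => fin_cases i <;> simp [φ, gval]
    | cbi i => fin_cases i <;> simp [φ, gval]
    | cij i j h =>
      fin_cases i <;> fin_cases j <;> first
        | exact absurd rfl h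
        | (simp [φ, gval]; done)
        | (simp [φ, gval]; simp only [ugen]; linear_combination (-1 : ℤ) • r1)
  exact ⟨Function.LeftInverse.injective (g := g) (AlgHom.congr_fun e1),
    Function.RightInverse.surjective (g := g) (AlgHom.congr_fun e2)⟩


end Groth.Agent.S18247
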