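import Groth.Statements.S1850
import Groth.Agent.L15.TameFlat.Main
-- import your own Groth.Agent.* helpers here

set_option autoImplicit false
universe u
open CycAlg

namespace Groth.Agent.S1850

/-- Let A → A' be a flat local homomorphism of Noetherian local rings of dimension 1 and m =
length_{A'}(A'/𝔪_A A'). For nonzerodivisors a₁, a₂ of A the image of ∂_A(a₁, a₂)^m in the residue
field of A' equals ∂_{A'}(a₁, a₂). -/
theorem result (A A' : Type u) [CommRing A] [CommRing A'] [IsNoetherianRing A] [IsNoetherianRing A'] [IsLocalRing A] [IsLocalRing A'] [Algebra A A'] [IsLocalHom (algebraMap A A')] [Module.Flat A A'] (hA : ringKrullDim A = 1) (hA' : ringKrullDim A' = 1) (a₁ a₂ : A) (h₁ : a₁ ∈ nonZeroDivisors A) (h₂ : a₂ ∈ nonZeroDivisors A) : IsLocalRing.ResidueField.map (algebraMap A A') (CycAlg.tameSymbol A a₁ a₂) ^ (Module.length A' (A' ⧸ Ideal.map (algebraMap A A') (IsLocalRing.maximalIdeal A))).toNat = CycAlg.tameSymbol A' (algebraMap A A' a₁) (algebraMap A A' a₂) := by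
  exact Groth.L15.TameFlat.tameSymbol_flat hA hA' a₁ a₂ h₁ h₂

end Groth.Agent.S1850
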