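
import Groth.Statements.S1899
import Groth.Agent.L17.ClosedPush
import Groth.Agent.L22.WeakAssPoints

set_option autoImplicit false
universe u
open CategoryTheory AlgebraicGeometry
open Cyc

namespace Groth.Agent.S1899

/-- For a closed immersion i : Z → X with Z of δ-dimension ≤ k, [Z]_k = [O_Z]_k, i.e. the multiplicities
computed from lengths of the local rings O_{Z,z} agree with those computed from the stalks of i_*O_Z
as O_X-modules. A pair (X, δ) with Cyc.IsSetup plays the role of a scheme locally of finite type
over a fixed base with a dimension function (X locally Noetherian with universally catenary local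
rings, δ a dimension function), and Cyc.DeltaCompat records that the dimension function upstairs is
the induced one. -/
theorem result (X Z : Scheme.{u}) (δ : X → ℤ) (hX : Cyc.IsSetup X δ) (i : Z ⟶ X) [IsClosedImmersion i] (k : ℤ) (hdim : ∀ z : Z, δ (i z) ≤ k) : Cyc.subschemeFun δ k i = Cyc.sheafFun δ k ((Coh.push i).obj (Coh.structureModule Z)) := by
  haveI := hX.1
  funext x
  simp only [Cyc.subschemeFun, Cyc.sheafFun]
  split_ifs with hk
  · by_cases hx : x ∈ Set.range i
    · obtain ⟨z, rfl⟩ := hx
      have hs : {z' : Z | i z' = i z} = {z} := by
        ext z'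
        exact ⟨fun h => i.isClosedEmbedding.injective h, fun h => by rw [Set.mem_singleton_iff] at h; exact congrArg i h⟩
      rw [hs, finsum_mem_singleton]
      congr 2
      letI := (Groth.L00.PullStalk.φ i z).toAlgebra
      let u := LinearEquiv.ofBijective
        (LinearMap.toSpanSingleton (Z.presheaf.stalk z) ((Coh.structureModule Z).presheaf.stalk z)
          (Groth.L22.oneGerm z))
        ⟨(injective_iff_map_eq_zero _).2 fun a ha => Groth.L22.eq_zero_of_smul_oneGerm ha,
          Groth.L22.stalk_smul_oneGerm_surjective z⟩
      refine (u.length_eq).trans ?_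
      refine Eq.trans ?_ (Groth.L17.ClosedPush.cIso i (Coh.structureModule Z) z).toLinearEquiv.length_eq.symm
      letI : Module (X.presheaf.stalk (i z)) ((Coh.structureModule Z).presheaf.stalk z) :=
        Module.compHom _ (Groth.L00.PullStalk.φ i z)
      haveI : IsScalarTower (X.presheaf.stalk (i z)) (Z.presheaf.stalk z)
          ((Coh.structureModule Z).presheaf.stalk z) :=
        IsScalarTower.of_algebraMap_smul fun _ _ => rfl
      exact (Module.length_eq_of_surjective (R := Z.presheaf.stalk z) (S := X.presheaf.stalk (i z))
        (M := (Coh.structureModule Z).presheaf.stalk z)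
        (Groth.L17.ClosedPush.φ_surjective i z)).symm
    · haveI : Subsingleton (((Coh.push i).obj (Coh.structureModule Z)).presheaf.stalk x) :=
        Groth.L17.ClosedPush.subsingleton_stalk_push i (Coh.structureModule Z) hx
      rw [Module.length_eq_zero]
      have hs : {z' : Z | i z' = x} = ∅ := Set.eq_empty_of_forall_notMem fun z' h => hx ⟨z', h⟩
      simp [hs]
  · rfl

end Groth.Agent.S1899
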