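import Groth.Statements.S1928
import Groth.Agent.L22.LatDeg.IntNum
import Groth.Agent.S9684
import Groth.Agent.L22.ExtSh.Codim
-- import your own Groth.Agent.* helpers here

set_option autoImplicit false
universe u
open CategoryTheory AlgebraicGeometry
open Cyc

namespace Groth.Agent.S1928

/-- Let X be proper over a field k with dim X ≤ 1 and L an invertible O_X-module. Then deg(L) := χ(X, L)
− χ(X, O_X) equals the degree Σ_x [κ(x) : k] · n_x of the 0-cycle c_1(L) ∩ [X]_1 = Σ n_x [x],
computed with any nonzero rational sections (the degree is independent of the choice). Dimension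
function: transcendence degree over k. (The source treats finite locally free modules of any
constant rank via c_1 of a vector bundle; only the invertible case is stated.) Here L(ξ) = L_ξ/𝔪_ξ
L_ξ is the space of rational sections of L on the closure of ξ, div_{L|W}(s) and c_1(L) ∩ α are
computed as coefficient functions from chosen nonzero rational sections (Cyc.secDivFun,
Cyc.c1CapFun), and results are compared up to rational equivalence for any cycles with those
coefficients. -/
theorem result (k : Type u) [Field k] (X : Scheme.{u}) [X.Over (Spec (CommRingCat.of k))] [IsProper (X ↘ Spec (CommRingCat.of k))] (hdim : topologicalKrullDim X ≤ 1) (δ : X → ℤ) (hδ : Cyc.DeltaCompat (X ↘ Spec (CommRingCat.of k)) δ (fun _ => 0)) (L : X.Modules) (hL : PicF.IsInvertible L) (s : (ξ : X) → Cyc.secFibre L ξ) (hs : ∀ ξ, s ξ ≠ 0) : Curv2.deg k X L 1 = ∑ᶠ x : X, ((X ↘ Spec (CommRingCat.of k)).residueDegree x : ℤ) * Cyc.c1CapFun δ L (Cyc.subschemeFun δ 1 (𝟙 X)) s x := by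
  haveI : IsLocallyNoetherian X :=
    LocallyOfFiniteType.isLocallyNoetherian (X ↘ Spec (CommRingCat.of k))
  have hd' : Cyc.IsDimFun X δ := Groth.Agent.S9684.result (X ↘ Spec (CommRingCat.of k)) (fun _ => 0)
    ⟨inferInstance, Groth.L22.ExtSh.isUniversallyCatenary_stalk_field,
      fun x y _ hne => absurd (Subsingleton.elim (α := PrimeSpectrum k) x y) hne⟩ δ hδ
  have hle : ∀ x : X, δ x ≤ 1 := fun x => by
    obtain ⟨n, hn, hn'⟩ := Groth.L22.LatDeg.dim_closure_eq_delta hδ x
    have h1 : (n : WithBot ℕ∞) ≤ ((1 : ℕ) : WithBot ℕ∞) := by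
      rw [← hn]
      exact (topologicalKrullDim_subspace_le _ _).trans hdim
    have h2 : n ≤ 1 := by exact_mod_cast h1
    omega
  have hO : Cyc.CohLe δ 1 (Coh.structureModule X) :=
    ⟨Groth.L16.CohClosedPush.isCoh_structure, fun x _ => hle x⟩
  have hsub : Cyc.subschemeFun δ 1 (𝟙 X) = Cyc.sheafFun δ ((0 : ℤ) + 1) (Coh.structureModule X) := by
    funext x
    simp only [zero_add, Cyc.subschemeFun, Cyc.sheafFun]
    split_ifs
    · rw [show {z : X | (𝟙 X : X ⟶ X) z = x} = {x} from Set.ext fun z => Iff.rfl, finsum_mem_singleton]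
      congr 2
      exact (LinearEquiv.ofBijective
        (LinearMap.toSpanSingleton (X.presheaf.stalk x) ((Coh.structureModule X).presheaf.stalk x)
          (Groth.L22.oneGerm x))
        ⟨(injective_iff_map_eq_zero _).2 fun a ha => Groth.L22.eq_zero_of_smul_oneGerm ha,
          Groth.L22.stalk_smul_oneGerm_surjective x⟩).length_eq
    · rfl
  obtain ⟨α, hα⟩ := Groth.L22.P1Rat.exists_cycle_sheafFun hd' hO.1 ((0 : ℤ) + 1) (fun x hx => by simpa using hO.2 x hx)
  obtain ⟨b, hb⟩ := Groth.L22.C1.exists_cycle_c1Cap hd' hL α s hs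
  have hk : b ∈ Cyc.Zk X δ (0 : ℤ) := fun x hx => by
    rw [hb]
    refine finsum_eq_zero_of_forall_eq_zero fun ξ => ?_
    by_contra h0
    obtain ⟨h1, h2⟩ := mul_ne_zero_iff.1 h0
    have h3 := (Groth.L22.C1.secDivFun_ne_zero δ h2).2
    have h4 : δ ξ = 1 := by
      by_contra hne
      exact h1 (by rw [hα, Cyc.sheafFun, if_neg (by omega)])
    omega
  have hK := Groth.L22.LatDeg.toK0_tensor_sub hd' (k := 0) hL hO s hs b hk (by rw [hb, hα])
  obtain ⟨bp, ep⟩ := Groth.L22.LatDeg.cycleSheafPos_spec hd' b hk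
  obtain ⟨bn, en⟩ := Groth.L22.LatDeg.cycleSheafNeg_spec hd' b hk
  have hcl : ∀ {F : X.Modules}, Cyc.CohLe δ ((0 : ℤ) + 1) F →
      Groth.L22.LatDeg.altHom k δ hδ ((0 : ℤ) + 1) (fun i : Fin 0 => i.elim0) (fun i => i.elim0) ((0 : ℤ) - 1)
        (by simp) (Cyc.toK0CohQuot δ ((0 : ℤ) + 1) ((0 : ℤ) - 1) F) = (Curv2.euler k X F : ℚ) := fun hF =>
    (Groth.L22.LatDeg.altHom_cl hδ _ _ hF).trans (Groth.L22.Inter.altT_zero_eq (k := k) _)
  have hh := congrArg (Groth.L22.LatDeg.altHom k δ hδ ((0 : ℤ) + 1) (fun i : Fin 0 => i.elim0) (fun i => i.elim0)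
    ((0 : ℤ) - 1) (by simp)) hK
  have e : CohB1.tensorMod (Coh.structureModule X) L ≅ L :=
    Groth.L00.Tensor.tensorComm _ _ ≪≫ Groth.L00.Tensor.tensorUnitRight L
  rw [map_sub, map_sub, hcl (Groth.L22.LatDeg.cohLe_tensor hL hO), hcl hO,
    hcl (Groth.L22.LatDeg.cohLe_mono (a := (0 : ℤ)) (b := (0 : ℤ) + 1) (by omega) bp),
    hcl (Groth.L22.LatDeg.cohLe_mono (a := (0 : ℤ)) (b := (0 : ℤ) + 1) (by omega) bn),
    Groth.L03.Euler.euler_iso e, ← Int.cast_sub, ← Int.cast_sub, Int.cast_inj,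
    Groth.L22.LatDeg.euler_eq_sum_residueDegree hδ bp, Groth.L22.LatDeg.euler_eq_sum_residueDegree hδ bn,
    ep, en] at hh
  haveI := Groth.L21.RR.isNoetherian_of_proper (X := X) k
  have hfin : (Function.support ⇑b).Finite := by
    have := b.locallyFiniteSupport.finite_inter_support_of_isCompact (isCompact_univ (X := X))
    rwa [Set.univ_inter] at this
  have key : ∀ g : ℤ → ℤ, g 0 = 0 →
      ∑ᶠ x : X, ((X ↘ Spec (CommRingCat.of k)).residueDegree x : ℤ) * g (b x) =
        ∑ x ∈ hfin.toFinset, ((X ↘ Spec (CommRingCat.of k)).residueDegree x : ℤ) * g (b x) := fun g hg =>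
    finsum_eq_sum_of_support_subset _ fun x hx => Finset.mem_coe.2 (hfin.mem_toFinset.2 fun h => hx (by
      show _ * g (b x) = 0
      rw [h, hg, mul_zero]))
  rw [key (fun z => max z 0) rfl, key (fun z => max (-z) 0) rfl, ← Finset.sum_sub_distrib] at hh
  rw [Curv2.deg, Nat.cast_one, one_mul, hh]
  refine Eq.trans ?_ (finsum_congr fun x => by rw [hsub, ← hα, ← hb]).symm
  rw [key (fun z => z) rfl]
  refine Finset.sum_congr rfl fun x _ => ?_
  rw [← mul_sub]
  congr 1
  omega

end Groth.Agent.S1928
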