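import Groth.Statements.S1627
import Groth.Agent.L22.CurveAmple.Affine

set_option autoImplicit false
set_option backward.isDefEq.respectTransparency false
universe u
open CategoryTheory CategoryTheory.Limits AlgebraicGeometry
open Variety

namespace Groth.Agent.S1627

/-- A curve X over k (integral, separated, of finite type, of dimension one) is either affine or
H-projective, i.e. admits a closed immersion into some P^d_k over k. -/
theorem result (k : Type u) [Field k] (X : Scheme.{u}) [X.Over (Spec (CommRingCat.of k))] [IsIntegral X] [IsSeparated (X ↘ (Spec (CommRingCat.of k)))] [LocallyOfFiniteType (X ↘ (Spec (CommRingCat.of k)))] [QuasiCompact (X ↘ (Spec (CommRingCat.of k)))] (hdim : topologicalKrullDim X = 1) :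
    IsAffine X ∨ ∃ (d : ℕ) (c : X ⟶ CohB1.ProjSpace d k), IsClosedImmersion c ∧ c ≫ CohB1.ProjSpace.toSpec d k = X ↘ (Spec (CommRingCat.of k)) := by
  obtain ⟨d, Y, c, j, hc, hj, hjc, hp, hdY, hgen, hdense⟩ :=
    Groth.L22.CurveAmple.exists_completion k X hdim.le
  haveI := hc
  haveI := hj
  by_cases hs : Function.Surjective j.base
  · refine Or.inr ⟨d, j ≫ c, ?_, by rw [Category.assoc, hjc]⟩
    haveI : Surjective j := ⟨hs⟩
    haveI : IsIso j := (isIso_iff_isOpenImmersion_and_surjective j).2 ⟨hj, inferInstance⟩
    infer_instance
  obtain ⟨z, hz⟩ : ∃ z, z ∉ Set.range j.base := by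
    by_contra h
    push Not at h
    exact hs h
  refine Or.inl ?_
  letI : Y.Over (Spec (CommRingCat.of k)) := ⟨c ≫ CohB1.ProjSpace.toSpec d k⟩
  haveI : IsProper (Y ↘ Spec (CommRingCat.of k)) := hp
  have hη : ∀ y : Y, j (genericPoint X) ⤳ y := by
    intro y
    rw [specializes_iff_mem_closure]
    have h1 : Set.range j.base ⊆ closure {j (genericPoint X)} := by
      rintro _ ⟨x, rfl⟩
      exact specializes_iff_mem_closure.1 (((genericPoint_spec X).specializes trivial).map j.continuous)
    exact closure_minimal h1 isClosed_closure (hdense y)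
  have hU : IsAffineOpen j.opensRange :=
    Groth.L22.CurveAmple.isAffineOpen_of_boundary k hdY j.opensRange hgen fun y hy => ?_
  · exact @IsAffine.of_isIso _ _ j.isoOpensRange.hom _ hU
  · refine ⟨z, ?_, hz⟩
    rcases Groth.L21.RR.Top.spec_of_dim_le_one (X := Y.toTopCat) hdY (j (genericPoint X)) y y (hη y)
      specializes_rfl with e | -
    · exact e ▸ hη z
    · by_cases hyz : y ⤳ z
      · exact hyz
      · exfalso
        obtain ⟨w, hw, hyw⟩ : ∃ w, w ≠ y ∧ y ⤳ w := by
          by_contra hh
          push Not at hh
          exact hy (isClosed_of_closure_subset fun w hw => by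
            by_contra hne
            exact hh w hne (specializes_iff_mem_closure.2 hw))
        rcases Groth.L21.RR.Top.spec_of_dim_le_one (X := Y.toTopCat) hdY (j (genericPoint X)) y w (hη y)
          hyw with e | e
        · exact hyz (e ▸ hη z)
        · exact hw e.symm

end Groth.Agent.S1627
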