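
import Groth.Statements.S1868
import Groth.Agent.L22.Cyc.FiniteDeg
import Mathlib.AlgebraicGeometry.Morphisms.QuasiFinite

set_option autoImplicit false
universe u
open CategoryTheory AlgebraicGeometry
open Cyc

namespace Groth.Agent.S1868

/-- Let f : X → Y be finite locally free of constant degree d (finite, flat, rank function constantly
d). Then f has relative dimension 0 and for every k-cycle α on Y, f_*(f^*α) = d·α (for any cycle
f^*α on X with the flat-pullback coefficients). Here a pair (X, δ) with Cyc.IsSetup plays the role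
of a scheme locally of finite type over a fixed base with a dimension function (X locally Noetherian
with universally catenary local rings, δ a dimension function), and Cyc.DeltaCompat records that the
dimension function upstairs is the induced one. -/
theorem result (X Y : Scheme.{u}) (δX : X → ℤ) (δY : Y → ℤ) (hX : Cyc.IsSetup X δX) (hY : Cyc.IsSetup Y δY) (f : X ⟶ Y) [IsFinite f] [Flat f] (d : ℕ) (hd : ∀ y : Y, f.finrank y = d) (hδ : Cyc.DeltaCompat f δX δY) (k : ℤ) : Cyc.HasRelDim f 0 ∧ ∀ (α : AlgebraicCycle Y ℤ), α ∈ Cyc.Zk Y δY k → ∀ α' : AlgebraicCycle X ℤ, ⇑α' = Cyc.pullFun f δX δY 0 ⇑α → AlgebraicCycle.map f δX δY α' = d • α := by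
  haveI : ∀ y, DiscreteTopology (f.fiber y) := fun y => inferInstance
  have hg : ∀ x : X, Groth.L22.Cyc.FibGen f x := fun x => by
    obtain ⟨z, hz⟩ : ∃ z : f.fiber (f x), f.fiberι (f x) z = x := ⟨_, f.fiberι_asFiber x⟩
    rw [← hz]
    exact Groth.L22.Cyc.fibGen_of_maximal fun w hw => hw.eq
  have hr : Cyc.HasRelDim f 0 := fun y T hT => by
    haveI : Subsingleton T := ⟨fun a b => Subtype.ext
      ((hT.1.isPreirreducible.subsingleton) a.2 b.2)⟩
    haveI : Nonempty T := hT.1.nonempty.to_subtype
    haveI : IrreducibleSpace T := Subtype.irreducibleSpace hT.1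
    haveI : Nonempty (TopologicalSpace.IrreducibleCloseds T) :=
      ⟨⟨Set.univ, IrreducibleSpace.isIrreducible_univ _, isClosed_univ⟩⟩
    haveI : Subsingleton (TopologicalSpace.IrreducibleCloseds T) :=
      ⟨fun a b => TopologicalSpace.IrreducibleCloseds.ext
        ((Subsingleton.eq_univ_of_nonempty a.2.nonempty).trans
          (Subsingleton.eq_univ_of_nonempty b.2.nonempty).symm)⟩
    exact Order.krullDim_eq_zero
  refine ⟨hr, fun α hα α' hα' => ?_⟩
  have hδ' : ∀ x : X, δX x = δY (f x) := fun x => by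
    simpa using Groth.L22.Cyc.shift_of_deltaCompat f hr hδ x (hg x)
  ext y
  show (∑ᶠ x ∈ f ⁻¹' {y}, α' x * ((AlgebraicCycle.mapCoeff f δX δY x : ℕ) : ℤ)) = _
  have h1 : ∀ x ∈ f ⁻¹' {y}, α' x * ((AlgebraicCycle.mapCoeff f δX δY x : ℕ) : ℤ) =
      α y * ((f.residueDegree x * (Groth.L22.Cyc.mult f x).toNat : ℕ) : ℤ) := fun x hx => by
    have hfx : f x = y := hx
    rw [hα', AlgebraicCycle.mapCoeff, if_pos (hδ' x)]
    simp only [Cyc.pullFun]
    rw [if_pos (by rw [hδ' x]; simp), show α (f x) = α y by rw [hfx]]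
    show α y * ((Groth.L22.Cyc.mult f x).toNat : ℤ) * _ = _
    push_cast
    ring
  rw [finsum_mem_congr rfl h1, ← mul_finsum_mem]
  · rw [← Nat.cast_finsum_mem (f.finite_preimage_singleton y),
      ← Groth.L22.Cyc.finrank_eq_sum f y, hd y]
    simp [mul_comm]

end Groth.Agent.S1868
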