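import Groth.Statements.S5673
import Groth.Agent.L01.TorLES
import Mathlib.Algebra.Homology.Linear
import Mathlib.Algebra.Homology.ShortComplex.Linear
import Mathlib.RingTheory.Regular.RegularSequence
import Mathlib.CategoryTheory.Abelian.LeftDerived
-- import your own Groth.Agent.* helpers here

set_option autoImplicit false
universe u
open CategoryTheory
open Dual

namespace Groth.Agent.S5673

open MonoidalCategory Groth.L01.TorLES
open scoped TensorProduct

variable {A : Type u} [CommRing A]

/-- The elements killed by an ideal. -/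
noncomputable def annih (J : Ideal A) (M : Type u) [AddCommGroup M] [Module A M] : Submodule A M :=
  Submodule.torsionBySet A M (J : Set A)

theorem homologyMap_smul' {K L : ChainComplex (ModuleCat.{u} A) ℕ} (f : K ⟶ L) (x : A) (i : ℕ) :
    HomologicalComplex.homologyMap (x • f) i = x • HomologicalComplex.homologyMap f i := by
  have h : (HomologicalComplex.shortComplexFunctor (ModuleCat.{u} A) (ComplexShape.down ℕ) i).map (x • f) =
      x • (HomologicalComplex.shortComplexFunctor (ModuleCat.{u} A) (ComplexShape.down ℕ) i).map f := by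
    ext <;> rfl
  change ShortComplex.homologyMap ((HomologicalComplex.shortComplexFunctor (ModuleCat.{u} A) (ComplexShape.down ℕ) i).map (x • f)) = _
  rw [h, ShortComplex.homologyMap_smul]
  rfl

theorem tor_map_smul (M X : ModuleCat.{u} A) (x : A) (i : ℕ) :
    ((Tor (ModuleCat.{u} A) i).obj M).map (x • 𝟙 X) = x • 𝟙 (((Tor (ModuleCat.{u} A) i).obj M).obj X) := by
  obtain ⟨e⟩ := nonempty_tor_iso (projectiveResolution M) i
  have hcx : (cx (projectiveResolution M).complex).map (x • 𝟙 X) = x • 𝟙 _ := by
    refine HomologicalComplex.hom_ext _ _ fun n => ModuleCat.hom_ext (TensorProduct.ext' fun a b => ?_)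
    exact (TensorProduct.smul_tmul' x a b).symm
  have h : (cx (projectiveResolution M).complex ⋙ HomologicalComplex.homologyFunctor _ _ i).map (x • 𝟙 X) = x • 𝟙 _ := by
    rw [Functor.comp_map, hcx]
    exact (homologyMap_smul' _ _ _).trans (congrArg _ (HomologicalComplex.homologyMap_id _ _))
  rw [← cancel_mono (e.hom.app X), e.hom.naturality, h, Linear.smul_comp, Linear.comp_smul, Category.id_comp,
    Category.comp_id]

theorem flip_equiv (N M : ModuleCat.{u} A) (i : ℕ) :
    Nonempty (((Tor' (ModuleCat.{u} A) i).obj N).obj M ≅ ((Tor (ModuleCat.{u} A) i).obj M).obj N) := by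
  let P := projectiveResolution N
  have e : ((((tensoringRight (ModuleCat.{u} A)).obj M)).mapHomologicalComplex _).obj P.complex ≅
      ((((tensoringLeft (ModuleCat.{u} A)).obj M)).mapHomologicalComplex _).obj P.complex :=
    HomologicalComplex.Hom.isoOfComponents (fun n => β_ (P.complex.X n) M)
      (fun a b _ => (BraidedCategory.braiding_naturality_left _ _).symm)
  exact ⟨P.isoLeftDerivedObj _ i ≪≫ (HomologicalComplex.homologyFunctor _ _ i).mapIso e ≪≫
    (P.isoLeftDerivedObj _ i).symm⟩

theorem regular_last (xs : List A) (x : A) (h : RingTheory.Sequence.IsWeaklyRegular A (xs ++ [x])) :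
    RingTheory.Sequence.IsWeaklyRegular A xs ∧ IsSMulRegular (A ⧸ Ideal.ofList xs) x := by
  rw [RingTheory.Sequence.isWeaklyRegular_append_iff, RingTheory.Sequence.isWeaklyRegular_singleton_iff] at h
  refine ⟨h.1, ?_⟩
  refine ((LinearEquiv.isSMulRegular_congr (Submodule.quotEquivOfEq _ _ ?_) x)).mp h.2
  rw [smul_eq_mul, Ideal.mul_top]

theorem key (M : ModuleCat.{u} A) (xs : List A) (h : RingTheory.Sequence.IsWeaklyRegular A xs) :
    Nonempty (((Tor (ModuleCat.{u} A) xs.length).obj M).obj (ModuleCat.of A (A ⧸ Ideal.ofList xs)) ≃ₗ[A]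
      annih (Ideal.ofList xs) M) ∧
    ∀ i, xs.length < i →
      Limits.IsZero (((Tor (ModuleCat.{u} A) i).obj M).obj (ModuleCat.of A (A ⧸ Ideal.ofList xs))) := by
  induction xs using List.reverseRecOn with
  | nil =>
    have e : (A ⧸ Ideal.ofList ([] : List A)) ≃ₗ[A] A := Submodule.quotEquivOfEqBot _ (by simp)
    haveI : Module.Projective A (A ⧸ Ideal.ofList ([] : List A)) := Module.Projective.of_equiv e.symm
    haveI : Projective (ModuleCat.of A (A ⧸ Ideal.ofList ([] : List A))) :=
      (IsProjective.iff_projective _).mp ‹_›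
    refine ⟨⟨?_⟩, fun i hi => ?_⟩
    · have ha : annih (Ideal.ofList ([] : List A)) M = ⊤ := by
        refine eq_top_iff.mpr fun m _ => (Submodule.mem_torsionBySet_iff _ _).mpr ?_
        rintro ⟨a, ha⟩
        have h0 : a = 0 := by simpa [Ideal.ofList] using ha
        simp [h0]
      have e0 : (M ⊗[A] (A ⧸ Ideal.ofList ([] : List A))) ≃ₗ[A] annih (Ideal.ofList ([] : List A)) M :=
        ((TensorProduct.congr (LinearEquiv.refl A M) e).trans (TensorProduct.rid A M)).trans (LinearEquiv.ofTop _ ha).symm
      exact (((Functor.leftDerivedZeroIsoSelf ((tensoringLeft (ModuleCat.{u} A)).obj M)).app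
        (ModuleCat.of A (A ⧸ Ideal.ofList ([] : List A)))).toLinearEquiv).trans e0
    · obtain ⟨j, rfl⟩ : ∃ j, i = j + 1 := ⟨i - 1, by omega⟩
      exact CategoryTheory.isZero_Tor_succ_of_projective _ _ _ _
  | append_singleton xs x ih =>
    obtain ⟨hxs, hx⟩ := regular_last xs x h
    obtain ⟨⟨e⟩, hz⟩ := ih hxs
    set J := Ideal.ofList xs
    set J' := Ideal.ofList (xs ++ [x])
    have hJ' : J' = J ⊔ Ideal.span {x} := by
      simp only [J', J, Ideal.ofList_append, Ideal.ofList_singleton]
    have hle : J ≤ J' := hJ' ▸ le_sup_left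
    let f : (A ⧸ J) →ₗ[A] (A ⧸ J) := x • LinearMap.id
    let g : (A ⧸ J) →ₗ[A] (A ⧸ J') := Submodule.mapQ J J' LinearMap.id hle
    have hg : Function.Surjective g := by
      intro z
      obtain ⟨a, rfl⟩ := Submodule.Quotient.mk_surjective J' z
      exact ⟨Submodule.Quotient.mk a, rfl⟩
    have hfg : Function.Exact f g := by
      intro z
      obtain ⟨a, rfl⟩ := Submodule.Quotient.mk_surjective J z
      show Submodule.Quotient.mk a = 0 ↔ _
      rw [Submodule.Quotient.mk_eq_zero, hJ', Submodule.mem_sup]
      constructor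
      · rintro ⟨b, hb, c, hc, rfl⟩
        obtain ⟨d, rfl⟩ := Ideal.mem_span_singleton'.mp hc
        refine ⟨Submodule.Quotient.mk d, ?_⟩
        show x • (Submodule.Quotient.mk d : A ⧸ J) = Submodule.Quotient.mk (b + d * x)
        refine (Submodule.Quotient.eq J).mpr ?_
        show x * d - (b + d * x) ∈ J
        rw [show x * d - (b + d * x) = -b by ring]
        exact J.neg_mem hb
      · rintro ⟨w, hw⟩
        obtain ⟨d, rfl⟩ := Submodule.Quotient.mk_surjective J w
        have hw' : x * d - a ∈ J := (Submodule.Quotient.eq J).mp hw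
        exact ⟨a - x * d, by simpa using J.neg_mem hw', d * x, Ideal.mem_span_singleton'.mpr ⟨d, rfl⟩, by ring⟩
    let S : ShortComplex (ModuleCat.{u} A) := ShortComplex.mk (ModuleCat.ofHom f) (ModuleCat.ofHom g)
      (ModuleCat.hom_ext (LinearMap.ext fun z => hfg.apply_apply_eq_zero z))
    have hS : S.ShortExact :=
      { exact := (ShortComplex.ShortExact.moduleCat_exact_iff_function_exact S).2 hfg
        mono_f := (ModuleCat.mono_iff_injective _).2 hx
        epi_g := (ModuleCat.epi_iff_surjective _).2 hg }
    refine ⟨?_, fun i hi => ?_⟩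
    · obtain ⟨-, -, δ, w₁, w₂, h1, h2⟩ := tor_longExact M S hS xs.length
      haveI : Mono δ := h1.mono_g ((hz (xs.length + 1) (by omega)).eq_of_src _ _)
      have hinj : Function.Injective δ.hom := (ModuleCat.mono_iff_injective δ).1 ‹_›
      have hex := (ShortComplex.ShortExact.moduleCat_exact_iff_function_exact _).1 h2
      have hf : ((Tor (ModuleCat.{u} A) xs.length).obj M).map S.f = x • 𝟙 _ :=
        tor_map_smul M (ModuleCat.of A (A ⧸ J)) x xs.length
      let T := ((Tor (ModuleCat.{u} A) xs.length).obj M).obj (ModuleCat.of A (A ⧸ J))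
      have hmem : ∀ t : T, t ∈ LinearMap.range δ.hom ↔ (e t : M) ∈ annih J' M := by
        intro t
        rw [LinearMap.mem_range]
        refine (hex t).symm.trans ?_
        show (((Tor (ModuleCat.{u} A) xs.length).obj M).map S.f).hom t = 0 ↔ _
        rw [hf]
        show x • t = 0 ↔ _
        rw [← e.map_eq_zero_iff, map_smul, Subtype.ext_iff]
        simp only [annih, Submodule.coe_smul, Submodule.coe_zero, Submodule.mem_torsionBySet_iff]
        constructor
        · rintro h0 ⟨a, ha⟩
          rw [hJ'] at ha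
          obtain ⟨b, hb, c, hc, rfl⟩ := Submodule.mem_sup.mp ha
          obtain ⟨d, rfl⟩ := Ideal.mem_span_singleton'.mp hc
          show (b + d * x) • (e t : M) = 0
          have h0' : x • (e t : M) = 0 := h0
          rw [add_smul, mul_smul, h0', smul_zero, add_zero]
          exact (Submodule.mem_torsionBySet_iff _ _).mp (e t).2 ⟨b, hb⟩
        · intro h0
          exact h0 ⟨x, hJ' ▸ Submodule.mem_sup_right (Ideal.mem_span_singleton_self x)⟩
      let ψ : LinearMap.range δ.hom →ₗ[A] annih J' M :=
        LinearMap.codRestrict _ ((annih J M).subtype ∘ₗ e.toLinearMap ∘ₗ (LinearMap.range δ.hom).subtype)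
          (fun t => (hmem t.1).mp t.2)
      have hψ : Function.Bijective ψ := by
        refine ⟨fun a b hab => Subtype.ext (e.injective (Subtype.ext (congrArg Subtype.val hab :))), fun m => ?_⟩
        have hm : (m : M) ∈ annih J M :=
          Submodule.torsionBySet_le_torsionBySet_of_subset hle m.2
        exact ⟨⟨e.symm ⟨m, hm⟩, (hmem _).mpr (by rw [e.apply_symm_apply]; exact m.2)⟩,
          Subtype.ext (congrArg Subtype.val (e.apply_symm_apply ⟨m, hm⟩) :)⟩
      rw [List.length_append, List.length_singleton]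
      exact ⟨(LinearEquiv.ofInjective δ.hom hinj).trans (LinearEquiv.ofBijective ψ hψ)⟩
    · rw [List.length_append, List.length_singleton] at hi
      obtain ⟨j, rfl⟩ : ∃ j, i = j + 1 := ⟨i - 1, by omega⟩
      exact isZero_three M hS j (hz _ (by omega)) (hz _ (by omega))

theorem nonempty_hom_annih (J : Ideal A) (M : Type u) [AddCommGroup M] [Module A M] :
    Nonempty (annih J M ≃ₗ[A] ((A ⧸ J) →ₗ[A] M)) :=
  ⟨{ toFun := fun m => Submodule.liftQ J (LinearMap.toSpanSingleton A M m.1)
        (fun a ha => (Submodule.mem_torsionBySet_iff _ _).mp m.2 ⟨a, ha⟩)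
     map_add' := fun m n => Submodule.linearMap_qext _ (LinearMap.ext_ring (smul_add (1 : A) (m : M) (n : M)))
     map_smul' := fun a m => Submodule.linearMap_qext _ (LinearMap.ext_ring (smul_comm (1 : A) a (m : M)))
     invFun := fun u => ⟨u (Submodule.Quotient.mk 1), (Submodule.mem_torsionBySet_iff _ _).mpr fun a => by
        show (a : A) • u (Submodule.Quotient.mk 1) = 0
        rw [← map_smul, ← Submodule.Quotient.mk_smul, smul_eq_mul, mul_one,
          (Submodule.Quotient.mk_eq_zero J).mpr a.2, map_zero]⟩
     left_inv := fun m => Subtype.ext (one_smul A (m : M))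
     right_inv := fun u => Submodule.linearMap_qext _ (LinearMap.ext_ring (one_smul A (u (Submodule.Quotient.mk 1)))) }⟩

/-- Let `A` be a commutative ring, `xs = (x_1, …, x_p)` a sequence in `A` such that each `x_i` is a
non-zero-divisor on `A/(x_1, …, x_{i-1})`, `J` the ideal generated by the `x_i` and `M` any
`A`-module. Then `Tor_p^A(A/J, M)` (Mathlib's `Tor'`, the left derived functors of `- ⊗ M` evaluated
at `A/J`, i.e. computed from a resolution of `A/J`) is isomorphic as an `A`-module to `Hom_A(A/J,
M)`, i.e. to the elements of `M` killed by `J`. (Existence of an `A`-linear isomorphism only; the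
published one is induced by the Koszul complex of `xs`.) -/
theorem result (A : Type u) [CommRing A] (xs : List A) (hreg : RingTheory.Sequence.IsWeaklyRegular A xs) (M : Type u) [AddCommGroup M] [Module A M] : Nonempty (↑(((Tor' (ModuleCat.{u} A) xs.length).obj (ModuleCat.of A (A ⧸ Ideal.ofList xs))).obj (ModuleCat.of A M)) ≃ₗ[A] ((A ⧸ Ideal.ofList xs) →ₗ[A] M)) := by
  obtain ⟨e₁⟩ := flip_equiv (ModuleCat.of A (A ⧸ Ideal.ofList xs)) (ModuleCat.of A M) xs.length
  obtain ⟨⟨e₂⟩, -⟩ := key (ModuleCat.of A M) xs hreg
  obtain ⟨e₃⟩ := nonempty_hom_annih (Ideal.ofList xs) M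
  exact ⟨(e₁.toLinearEquiv.trans e₂).trans e₃⟩

end Groth.Agent.S5673
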