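import Groth.Statements.S1919
import Groth.Agent.L11.FieldTensor.LengthPow
import Groth.Agent.L02.Radicial
import Groth.Agent.L07.CIScheme
import Groth.Agent.L22.Cyc.Mult
import Groth.Agent.L22.Cyc.PushPull
import Groth.Agent.L22.Cyc.RelDim
import Groth.Agent.L22.Cyc.FiniteDeg
import Groth.Agent.L22.SchemeDim
import Groth.Agent.L22.FibreDim
import Mathlib.FieldTheory.PerfectClosure
import Mathlib.AlgebraicGeometry.Morphisms.Integral

set_option autoImplicit false
set_option backward.isDefEq.respectTransparency false
set_option backward.isDefEq.respectTransparency.types false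
universe u
open CategoryTheory CategoryTheory.Limits AlgebraicGeometry Topology
open scoped TensorProduct

namespace Groth.Agent.S1919

section radicial

variable (k : Type u) [Field k] (p : ℕ) [Fact p.Prime] [CharP k p]

/-- The inclusion into the perfect closure. -/
noncomputable abbrev ofAlg : Algebra k (PerfectClosure k p) := (PerfectClosure.of k p).toAlgebra

theorem exists_pow_eq_of (s : PerfectClosure k p) :
    ∃ (n : ℕ) (a : k), s ^ p ^ n = PerfectClosure.of k p a := by
  induction s using PerfectClosure.induction_on with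
  | h x =>
    obtain ⟨n, a⟩ := x
    refine ⟨n, a, ?_⟩
    rw [← PerfectClosure.iterate_frobenius_mk k p n a, ← coe_iterateFrobenius, iterateFrobenius_def]

theorem universallyInjective_spec :
    UniversallyInjective (Spec.map (CommRingCat.ofHom (PerfectClosure.of k p))) := by
  letI := ofAlg k p
  refine Groth.L02.Radicial.universallyInjective (R := k) (S := PerfectClosure k p) fun s => ?_
  obtain ⟨n, a, ha⟩ := exists_pow_eq_of k p s
  haveI : CharP (PerfectClosure k p ⊗[k] PerfectClosure k p) p :=
    charP_of_injective_algebraMap (algebraMap k _).injective p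
  refine ⟨p ^ n, ?_⟩
  rw [sub_pow_char_pow, Algebra.TensorProduct.tmul_pow, Algebra.TensorProduct.tmul_pow, one_pow, ha,
    show PerfectClosure.of k p a = algebraMap k (PerfectClosure k p) a from rfl,
    Algebra.algebraMap_eq_smul_one, TensorProduct.smul_tmul, sub_self]

theorem isIntegralHom_spec :
    IsIntegralHom (Spec.map (CommRingCat.ofHom (PerfectClosure.of k p))) := by
  rw [IsIntegralHom.SpecMap_iff]
  intro s
  obtain ⟨n, a, ha⟩ := exists_pow_eq_of k p s
  refine ⟨Polynomial.X ^ p ^ n - Polynomial.C a,
    Polynomial.monic_X_pow_sub_C a (pow_ne_zero _ (Fact.out : p.Prime).ne_zero), ?_⟩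
  simp [ha]

theorem surjective_spec : Surjective (Spec.map (CommRingCat.ofHom (PerfectClosure.of k p))) := by
  refine ⟨fun y => ⟨(default : PrimeSpectrum (PerfectClosure k p)), ?_⟩⟩
  exact Subsingleton.elim (α := PrimeSpectrum k) _ _

end radicial

/-- Over a base field the relative transcendence degree is the transcendence degree. -/
theorem rtrdeg_eq_trdeg (k : Type u) [Field k] (X : Scheme.{u}) [X.Over (Spec (CommRingCat.of k))] (x : X) :
    Groth.L22.Cyc.rtrdeg (X ↘ Spec (CommRingCat.of k)) x =
      letI := Curv2.resAlgebra k X x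
      Algebra.trdeg k (X.residueField x) := by
  set f := X ↘ Spec (CommRingCat.of k)
  letI := Curv2.resAlgebra k X x
  let ι : CommRingCat.of k ⟶ (Spec (CommRingCat.of k)).residueField (f x) :=
    CommRingCat.ofHom (algebraMap k (f x).asIdeal.ResidueField) ≫ (Scheme.Spec.residueFieldIso _ (f x)).inv
  have hι : Spec.map ι = (Spec (CommRingCat.of k)).fromSpecResidueField (f x) := by
    rw [Spec.map_comp]
    exact Scheme.Spec.map_residueFieldIso_inv_eq_fromSpecResidueField _ _
  haveI : (f x).asIdeal.IsMaximal := inferInstance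
  have hbij : Function.Bijective ι.hom := by
    refine ⟨RingHom.injective _, ?_⟩
    exact (Scheme.Spec.residueFieldIso (CommRingCat.of k) (f x)).symm.commRingCatIsoToRingEquiv.surjective.comp
      (Ideal.algebraMap_residueField_surjective (f x).asIdeal)
  have hsq : ι ≫ f.residueFieldMap x = CommRingCat.ofHom (Curv2.resMap k X x) := by
    apply Spec.map_injective
    rw [Spec.map_comp, hι, Scheme.Hom.SpecMap_residueFieldMap_fromSpecResidueField,
      Groth.L22.FibreDim.SpecMap_resMap]
  letI := (f.residueFieldMap x).hom.toAlgebra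
  exact (Groth.L22.Cyc.trdeg_eq_of_square (RingEquiv.ofBijective ι.hom hbij) (RingEquiv.refl _)
    (fun a => (congrArg (fun φ => φ.hom a) hsq).symm)).symm

/-- `δ` is the dimension of the closure. -/
theorem delta_eq_dim (k : Type u) [Field k] (X : Scheme.{u}) (f : X ⟶ Spec (CommRingCat.of k))
    [LocallyOfFiniteType f] (δ : X → ℤ) (hδ : Cyc.DeltaCompat f δ (fun _ => 0)) (x : X) :
    ∃ n : ℕ, topologicalKrullDim (closure ({x} : Set X)) = (n : WithBot ℕ∞) ∧ δ x = n := by
  letI : X.Over (Spec (CommRingCat.of k)) := ⟨f⟩
  haveI : LocallyOfFiniteType (X ↘ Spec (CommRingCat.of k)) := ‹LocallyOfFiniteType f›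
  obtain ⟨n, hn, htr⟩ := Groth.L22.SchemeDim.exists_dim_closure_eq_trdeg k X x
  obtain ⟨m, hm, hδm⟩ := hδ x
  refine ⟨n, hn, ?_⟩
  have h : Groth.L22.Cyc.rtrdeg (X ↘ Spec (CommRingCat.of k)) x = (n : Cardinal.{u}) :=
    (rtrdeg_eq_trdeg k X x).trans htr
  have : (m : Cardinal.{u}) = (n : Cardinal.{u}) := hm.symm.trans h
  rw [hδm, zero_add]
  exact_mod_cast this

/-- The fibres of the projection from a base change of fields have prime power multiplicity. -/
theorem mult_pow {k k' : Type u} [Field k] [Field k'] [Algebra k k'] (p : ℕ) [ExpChar k p] {X : Scheme.{u}}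
    (f : X ⟶ Spec (CommRingCat.of k)) [LocallyOfFiniteType f]
    [UniversallyInjective (Spec.map (CommRingCat.ofHom (algebraMap k k')))]
    (x' : ↥(pullback f (Spec.map (CommRingCat.ofHom (algebraMap k k'))))) :
    ∃ n : ℕ, Groth.L22.Cyc.mult (pullback.fst f (Spec.map (CommRingCat.ofHom (algebraMap k k')))) x' =
      (p ^ n : ℕ) := by
  let g := Spec.map (CommRingCat.ofHom (algebraMap k k'))
  haveI : UniversallyInjective (pullback.fst f g) :=
    MorphismProperty.pullback_fst f g ‹UniversallyInjective (Spec.map (CommRingCat.ofHom (algebraMap k k')))›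
  obtain ⟨x, z, rfl⟩ : ∃ (x : X) (z : (pullback.fst f g).fiber x), (pullback.fst f g).fiberι x z = x' :=
    ⟨pullback.fst f g x', (pullback.fst f g).asFiber x', (pullback.fst f g).fiberι_asFiber x'⟩
  let φ : CommRingCat.of k ⟶ X.residueField x := Spec.preimage (X.fromSpecResidueField x ≫ f)
  have hφ : Spec.map φ = X.fromSpecResidueField x ≫ f := Spec.map_preimage _
  letI := φ.hom.toAlgebra
  let W := Spec (CommRingCat.of (TensorProduct k (X.residueField x) k'))
  let e : (pullback.fst f g).fiber x ≅ W :=
    (pullbackSymmetry (pullback.fst f g) (X.fromSpecResidueField x)) ≪≫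
      pullbackRightPullbackFstIso f g (X.fromSpecResidueField x) ≪≫
      pullback.congrHom (hφ.symm) rfl ≪≫ pullbackSpecIso k (X.residueField x) k'
  let w : W := e.hom z
  let eR : W.presheaf.stalk w ≃+* ((pullback.fst f g).fiber x).presheaf.stalk z :=
    (asIso (e.hom.stalkMap z)).commRingCatIsoToRingEquiv
  letI : Algebra (TensorProduct k (X.residueField x) k') (W.presheaf.stalk w) :=
    StructureSheaf.stalkAlgebra _ w
  haveI : IsLocalization.AtPrime (W.presheaf.stalk w) w.asIdeal := StructureSheaf.IsLocalization.to_stalk _ w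
  haveI : Subsingleton ((pullback.fst f g).fiber x) := by
    refine ⟨fun a b => ((pullback.fst f g).fiberι x).isEmbedding.injective ?_⟩
    refine (pullback.fst f g).injective ?_
    have ha := (pullback.fst f g).range_fiberι x ▸ Set.mem_range_self (f := (pullback.fst f g).fiberι x) a
    have hb := (pullback.fst f g).range_fiberι x ▸ Set.mem_range_self (f := (pullback.fst f g).fiberι x) b
    exact (ha : _ = x).trans (hb : _ = x).symm
  haveI : Subsingleton (PrimeSpectrum (TensorProduct k (X.residueField x) k')) :=
    (Scheme.homeoOfIso e).symm.injective.subsingleton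
  obtain ⟨s, hs⟩ := Groth.L07.CIScheme.residueField_fg f x φ hφ
  -- move to the other order of factors
  let c : TensorProduct k k' (X.residueField x) ≃+* TensorProduct k (X.residueField x) k' :=
    (Algebra.TensorProduct.comm k k' (X.residueField x)).toRingEquiv
  obtain ⟨n, hn⟩ := Groth.L11.FieldTensor.length_loc_of_ringEquiv (R := TensorProduct k k' (X.residueField x))
    (S := TensorProduct k (X.residueField x) k') c p w.asIdeal (fun Q _ hQ => by
      refine Groth.L11.FieldTensor.length_pow_fg k k' (X.residueField x) ⟨s, hs⟩ p Q (hQ ?_)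
      refine ⟨⟨w.2, bot_le⟩, fun J hJ _ => ?_⟩
      haveI := hJ.1
      have := Subsingleton.elim (⟨J, hJ.1⟩ : PrimeSpectrum (TensorProduct k (X.residueField x) k')) w
      exact (congrArg PrimeSpectrum.asIdeal this).ge)
  refine ⟨n, ?_⟩
  rw [← Groth.L22.Cyc.length_stalk_fiber, ← hn]
  exact Groth.L11.FieldTensor.length_ringEquiv (R := ((pullback.fst f g).fiber x).presheaf.stalk z)
    (S := Localization.AtPrime w.asIdeal)
    (eR.symm.trans (IsLocalization.algEquiv w.asIdeal.primeCompl (W.presheaf.stalk w)
      (Localization.AtPrime w.asIdeal)).toRingEquiv)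

/-- A locally finitely supported function on a compact space has finite support. -/
theorem finite_support {X : Scheme.{u}} [CompactSpace X] (β : AlgebraicCycle X ℤ) :
    (Function.support (⇑β)).Finite := by
  have h : ∀ z : X, ∃ t ∈ 𝓝 z, Set.Finite (t ∩ Function.support (⇑β)) := fun z =>
    β.supportLocallyFiniteWithinDomain' z (Set.mem_univ z)
  choose t ht hfin using h
  obtain ⟨s, -, hs⟩ := isCompact_univ.elim_nhds_subcover t fun z _ => ht z
  refine (s.finite_toSet.biUnion fun z _ => hfin z).subset fun y hy => ?_
  obtain ⟨z, hz, hyz⟩ := Set.mem_iUnion₂.1 (hs (Set.mem_univ y))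
  exact Set.mem_iUnion₂.2 ⟨z, hz, hyz, hy⟩

/-- For a scheme X of finite type over a field k of characteristic p > 0, with base change
X' = X ×_k k' to the perfect closure k', the base change map Z_r(X) → Z_r(X') (flat pullback along
the projection) has p-power torsion cokernel: for every r-cycle β on X' some p^n β is the base
change of an r-cycle on X. Dimension functions are transcendence degrees of residue fields over the
ground fields. -/
theorem result (k : Type u) [Field k] (p : ℕ) [Fact p.Prime] [CharP k p] (X : Scheme.{u}) (f : X ⟶ Spec (CommRingCat.of k)) [LocallyOfFiniteType f] [QuasiCompact f] (δ : X → ℤ) (hδ : Cyc.DeltaCompat f δ (fun _ => 0)) (δ' : ↥(pullback f (Spec.map (CommRingCat.ofHom (PerfectClosure.of k p)))) → ℤ) (hδ' : Cyc.DeltaCompat (pullback.snd f (Spec.map (CommRingCat.ofHom (PerfectClosure.of k p)))) δ' (fun _ => 0)) (r : ℤ) (β : AlgebraicCycle (pullback f (Spec.map (CommRingCat.ofHom (PerfectClosure.of k p)))) ℤ) (hβ : β ∈ Cyc.Zk _ δ' r) : ∃ (n : ℕ) (α : AlgebraicCycle X ℤ), α ∈ Cyc.Zk X δ r ∧ (p : ℤ) ^ n • ⇑β =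 Cyc.pullFun (pullback.fst f (Spec.map (CommRingCat.ofHom (PerfectClosure.of k p)))) δ' δ 0 ⇑α := by
  letI := ofAlg k p
  haveI hgi : UniversallyInjective (Spec.map (CommRingCat.ofHom (PerfectClosure.of k p))) :=
    universallyInjective_spec k p
  haveI := isIntegralHom_spec k p
  haveI := surjective_spec k p
  let g := Spec.map (CommRingCat.ofHom (PerfectClosure.of k p))
  let pr := pullback.fst f g
  haveI : UniversallyInjective pr := MorphismProperty.pullback_fst f g ‹UniversallyInjective g›
  haveI : IsIntegralHom pr := MorphismProperty.pullback_fst f g ‹IsIntegralHom g›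
  haveI : Surjective pr := MorphismProperty.pullback_fst f g ‹Surjective g›
  have hbij : Function.Bijective pr := ⟨pr.injective, pr.surjective⟩
  have hhom : IsHomeomorph pr :=
    isHomeomorph_iff_continuous_isClosedMap_bijective.2 ⟨pr.continuous, pr.isClosedMap, hbij⟩
  have hdelta : ∀ x', δ' x' = δ (pr x') := by
    intro x'
    obtain ⟨n, hn, h1⟩ := delta_eq_dim _ _ (pullback.snd f g) δ' hδ' x'
    obtain ⟨m, hm, h2⟩ := delta_eq_dim k X f δ hδ (pr x')
    let E := hhom.homeomorph
    have himg : E '' closure {x'} = closure {pr x'} := by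
      rw [E.image_closure, Set.image_singleton]
      rfl
    have hd : topologicalKrullDim (closure ({x'} : Set _)) = topologicalKrullDim (closure ({pr x'} : Set X)) := by
      rw [IsHomeomorph.topologicalKrullDim_eq _ (E.image (closure {x'})).isHomeomorph, himg]
    rw [hn, hm] at hd
    have : n = m := by exact_mod_cast hd
    rw [h1, h2, this]
  have hmult : ∀ x', ∃ n : ℕ, Groth.L22.Cyc.mult pr x' = (p ^ n : ℕ) := fun x' => by
    haveI : ExpChar k p := ExpChar.prime Fact.out
    exact mult_pow (k' := PerfectClosure k p) p f x'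
  choose ν hν using hmult
  haveI : CompactSpace X := QuasiCompact.compactSpace_of_compactSpace f
  haveI : QuasiCompact (pullback.snd f g) := inferInstance
  haveI : CompactSpace ↥(pullback f g) := QuasiCompact.compactSpace_of_compactSpace (pullback.snd f g)
  obtain ⟨N, hN⟩ : ∃ N, ∀ x' ∈ Function.support (⇑β), ν x' ≤ N :=
    ⟨(finite_support β).toFinset.sup ν, fun x' hx' => Finset.le_sup ((Set.Finite.mem_toFinset _).2 hx')⟩
  let inv : X → ↥(pullback f g) := fun x => (hbij.2 x).choose
  have hinv : ∀ x, pr (inv x) = x := fun x => (hbij.2 x).choose_spec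
  have hinv' : ∀ x', inv (pr x') = x' := fun x' => hbij.1 (hinv _)
  let a : X → ℤ := fun x => (p : ℤ) ^ (N - ν (inv x)) * β (inv x)
  have hafin : (Function.support a).Finite := by
    refine ((finite_support β).image pr).subset fun x hx => ⟨inv x, ?_, hinv x⟩
    intro h0
    exact hx (by simp [a, h0])
  let α : AlgebraicCycle X ℤ :=
    { toFun := a
      supportWithinDomain' := Set.subset_univ _
      supportLocallyFiniteWithinDomain' := fun z _ =>
        ⟨Set.univ, Filter.univ_mem, hafin.subset Set.inter_subset_right⟩ }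
  refine ⟨N, α, fun x hx => ?_, ?_⟩
  · show a x = 0
    have h0 : β (inv x) = 0 := hβ (inv x) (by rw [hdelta, hinv]; exact hx)
    simp [a, h0]
  · funext x'
    show (p : ℤ) ^ N * β x' = _
    rw [Cyc.pullFun, if_pos (by rw [hdelta, add_zero])]
    show _ = a (pr x') * _
    have hl : (Groth.L22.Cyc.mult pr x').toNat = p ^ ν x' := by rw [hν]; rfl
    erw [hl]
    simp only [a, hinv']
    by_cases h0 : β x' = 0
    · simp [h0]
    · push_cast
      rw [mul_right_comm, ← pow_add, Nat.sub_add_cancel (hN x' h0)]

end Groth.Agent.S1919
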