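
import Groth.Statements.S6496
import Groth.Agent.L22.Cyc.Limit

set_option autoImplicit false
universe u
open CategoryTheory AlgebraicGeometry
open Cyc

namespace Groth.Agent.S6496

/-- Injectivity of colim Z_k(X_i) → Z_k(X'): if a k-cycle α on X_i pulls back to the zero cycle on X',
then it pulls back to zero on some stage X_j above X_i. Setting: a directed inverse system (X_i) of
quasi-compact schemes with affine flat transition morphisms and limit X' (a limit cone), each X_i
and X' carrying a dimension function with Cyc.IsSetup, and every transition map and every projection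
X' → X_i shifting the dimension functions by c = 0 at generic points of fibres, so that the
base-change pullbacks g^* are Cyc.pullFun with shift 0. (The published statement takes X_i and X′ to
be the base changes of one quasi-compact scheme of finite type over a base S along S_i → S and lim
S_i → S; this row allows any such inverse system.) -/
theorem result (I : Type u) [Preorder I] [IsDirected I (fun a b => a ≤ b)] [Nonempty I] (D : Iᵒᵖ ⥤ Scheme.{u}) (c : Limits.Cone D) (hc : Limits.IsLimit c) (haff : ∀ (i j : Iᵒᵖ) (f : i ⟶ j), IsAffineHom (D.map f)) (hflat : ∀ (i j : Iᵒᵖ) (f : i ⟶ j), Flat (D.map f)) (hqc : ∀ i, CompactSpace ↥(D.obj i)) (δ : (i : Iᵒᵖ) → ↥(D.obj i) → ℤ) (δ' : ↥c.pt → ℤ) (hset : ∀ i, Cyc.IsSetup (D.obj i) (δ i)) (hset' : Cyc.IsSetup c.pt δ') (hshift : ∀ (i j : Iᵒᵖ) (f : i ⟶ j) (x : ↥(D.obj i)), (∀ y, D.map f y = D.map f x → y ⤳ x → y = x) → δ i x = δ j (D.map f x)) (hflat' : ∀ i, Flat (c.π.app i)) (hshift' : ∀ (i : Iᵒᵖ) (x : ↥c.pt), (∀ y, c.π.app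 i y = c.π.app i x → y ⤳ x → y = x) → δ' x = δ i (c.π.app i x)) (k : ℤ) (i : Iᵒᵖ) (α : AlgebraicCycle (D.obj i) ℤ) (hα : α ∈ Cyc.Zk (D.obj i) (δ i) k) (h0 : Cyc.pullFun (c.π.app i) δ' (δ i) 0 ⇑α = 0) : ∃ (j : Iᵒᵖ) (f : j ⟶ i), Cyc.pullFun (D.map f) (δ j) (δ i) 0 ⇑α = 0 := by
  haveI : ∀ {a b : Iᵒᵖ} (g : a ⟶ b), IsAffineHom (D.map g) := fun {a b} g => haff a b g
  haveI := hqc; haveI := hflat' i; haveI : IsLocallyNoetherian c.pt := hset'.1
  have hnot : ∀ s, α s ≠ 0 → s ∉ Set.range (Groth.L22.Cyc.proj c i) := by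
    rintro s hs ⟨x, rfl⟩
    obtain ⟨y, hy, -, hgy⟩ := Groth.L22.Cyc.exists_fibGen (Groth.L22.Cyc.proj c i) x
    have h1 := congrFun ((Groth.L22.Cyc.pullFun_eq (Groth.L22.Cyc.proj c i) hset'.2.2
      (δY := δ i) (c := 0) (fun z hz => by rw [add_zero]; exact hshift' i z hz) ⇑α).symm.trans h0) y
    rw [hy] at h1
    rcases mul_eq_zero.1 h1 with h | h
    · exact hs h
    · exact (Groth.L22.Cyc.toNat_mult_pos hgy).ne' (by exact_mod_cast h)
  obtain ⟨j, f, hj⟩ := Groth.L22.Cyc.exists_forall_hom (i := i)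
    (P := fun j f s => s ∉ Set.range (D.map f))
    (fun g f s h h' => h (by
      obtain ⟨w, hw⟩ := h'
      exact ⟨D.map g w, by rw [← Scheme.Hom.comp_apply, ← D.map_comp]; exact hw⟩))
    (Groth.L22.Cyc.finite_support α).toFinset
    (fun s hs => Groth.L22.Cyc.exists_notMem_range hc
      (hnot s ((Groth.L22.Cyc.finite_support α).mem_toFinset.1 hs)))
  refine ⟨j, f, funext fun x => ?_⟩
  have h0' : α (D.map f x) = 0 := by
    by_contra h
    exact hj _ ((Groth.L22.Cyc.finite_support α).mem_toFinset.2 h) ⟨x, rfl⟩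
  simp [Cyc.pullFun, h0']

end Groth.Agent.S6496
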