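
import Groth.Statements.S6497
import Groth.Agent.L22.Cyc.LimitRat
import Groth.Agent.S6496

set_option autoImplicit false
universe u
open CategoryTheory AlgebraicGeometry
open Cyc

namespace Groth.Agent.S6497

/-- Injectivity of colim CH_k(X_i) → CH_k(X'): if α ∈ Z_k(X_i) and g_i^*α ∼_rat 0 on X' (for a cycle
with the pulled-back coefficients), then for some stage X_j above X_i the pullback of α to X_j is
∼_rat 0. Setting: a directed inverse system (X_i) of quasi-compact schemes with affine flat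
transition morphisms and limit X' (a limit cone), each X_i and X' carrying a dimension function with
Cyc.IsSetup, and every transition map and every projection X' → X_i shifting the dimension functions
by c = 0 at generic points of fibres, so that the base-change pullbacks g^* are Cyc.pullFun with
shift 0. (The published statement takes X_i and X′ to be the base changes of one quasi-compact
scheme of finite type over a base S along S_i → S and lim S_i → S; this row allows any such inverse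
system.) -/
theorem result (I : Type u) [Preorder I] [IsDirected I (fun a b => a ≤ b)] [Nonempty I] (D : Iᵒᵖ ⥤ Scheme.{u}) (c : Limits.Cone D) (hc : Limits.IsLimit c) (haff : ∀ (i j : Iᵒᵖ) (f : i ⟶ j), IsAffineHom (D.map f)) (hflat : ∀ (i j : Iᵒᵖ) (f : i ⟶ j), Flat (D.map f)) (hqc : ∀ i, CompactSpace ↥(D.obj i)) (δ : (i : Iᵒᵖ) → ↥(D.obj i) → ℤ) (δ' : ↥c.pt → ℤ) (hset : ∀ i, Cyc.IsSetup (D.obj i) (δ i)) (hset' : Cyc.IsSetup c.pt δ') (hshift : ∀ (i j : Iᵒᵖ) (f : i ⟶ j) (x : ↥(D.obj i)), (∀ y, D.map f y = D.map f x → y ⤳ x → y = x) → δ i x = δ j (D.map f x)) (hflat' : ∀ i, Flat (c.π.app i)) (hshift' : ∀ (i : Iᵒᵖ) (x : ↥c.pt), (∀ y, c.π.app i y = c.π.app i x → y ⤳ x → y = x) → δ' x = δ i (c.π.app i x)) (k : ℤ) (i : Iᵒᵖ) (α : AlgebraicCycle (D.obj i) ℤ) (hα : α ∈ Cyc.Zk (D.obj i) (δ i) k) (α' : AlgebraicCycle c.pt ℤ) (hα' : ⇑α' = Cyc.pullFun (c.π.app i) δ' (δ i) 0 ⇑α) (h0 : Cyc.RatEquivZero δ' k α') : ∃ (j : Iᵒᵖ) (f : j ⟶ i) (αj : AlgebraicCycle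 (D.obj j) ℤ), ⇑αj = Cyc.pullFun (D.map f) (δ j) (δ i) 0 ⇑α ∧ Cyc.RatEquivZero (δ j) k αj := by
  classical
  haveI : ∀ {a b : Iᵒᵖ} (g : a ⟶ b), IsAffineHom (D.map g) := fun {a b} g => haff a b g
  haveI := hqc; haveI := hflat'; haveI : IsLocallyNoetherian c.pt := hset'.1
  haveI : ∀ a, IsLocallyNoetherian (D.obj a) := fun a => (hset a).1
  haveI : CompactSpace c.pt := Scheme.compactSpace_of_isLimit _ _ hc
  have sh' : ∀ a x, Groth.L22.Cyc.FibGen (Groth.L22.Cyc.proj c a) x →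
      δ' x = δ a (Groth.L22.Cyc.proj c a x) + 0 := fun a x h => by
    rw [add_zero]; exact hshift' a x h
  have sh : ∀ {a b : Iᵒᵖ} (g : a ⟶ b) (x : D.obj a), Groth.L22.Cyc.FibGen (D.map g) x →
      δ a x = δ b (D.map g x) + 0 := fun {a b} g x h => by rw [add_zero]; exact hshift a b g x h
  obtain ⟨ι, ξ, φ, hk, hne, hfin, hsum⟩ := h0
  choose U hU hxU hUfin using hfin
  obtain ⟨T, hT⟩ := isCompact_univ.elim_finite_subcover U hU
    (fun x _ => Set.mem_iUnion.2 ⟨x, hxU x⟩)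
  haveI : Finite ι := Set.finite_univ_iff.1 (((Finset.finite_toSet T).biUnion fun x _ => hUfin x).subset
    fun a _ => by
      obtain ⟨x, hx, hax⟩ := Set.mem_iUnion₂.1 (hT (Set.mem_univ (ξ a)))
      exact Set.mem_biUnion hx ⟨ξ a, subset_closure rfl, hax⟩)
  haveI := Fintype.ofFinite ι
  obtain ⟨j₀, hj₀⟩ := Groth.L22.Cyc.exists_forall_obj
    (P := fun j a => Groth.L22.Cyc.Good c j (ξ a) ∧ φ a ∈ Groth.L22.Cyc.fromStage c j (ξ a))
    (fun g a h => ⟨h.1.mono g, Groth.L22.Cyc.fromStage_mono g _ h.2⟩) Finset.univ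
    (fun a _ => by
      obtain ⟨j₁, h₁⟩ := Groth.L22.Cyc.exists_good hc (ξ a)
      obtain ⟨j₂, h₂⟩ := Groth.L22.Cyc.exists_mem_fromStage hc i (ξ a) (φ a)
      exact ⟨IsCofiltered.min j₁ j₂, h₁.mono (IsCofiltered.minToLeft j₁ j₂),
        Groth.L22.Cyc.fromStage_mono (IsCofiltered.minToRight j₁ j₂) _ h₂⟩)
  let j : Iᵒᵖ := IsCofiltered.min j₀ i
  let f : j ⟶ i := IsCofiltered.minToRight j₀ i
  have hgood : ∀ a, Groth.L22.Cyc.Good c j (ξ a) := fun a =>
    (hj₀ a (Finset.mem_univ a)).1.mono (IsCofiltered.minToLeft j₀ i)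
  have hmem : ∀ a, φ a ∈ Groth.L22.Cyc.fromStage c j (ξ a) := fun a =>
    Groth.L22.Cyc.fromStage_mono (IsCofiltered.minToLeft j₀ i) _ (hj₀ a (Finset.mem_univ a)).2
  choose g hg using hmem
  have hg0 : ∀ a, g a ≠ 0 := fun a h => hne a (by rw [← hg a, h, map_zero])
  let π := Groth.L22.Cyc.proj c j
  haveI hfj : Flat π := hflat' j
  have hδj : ∀ a, δ j (π (ξ a)) = k + 1 := fun a => by
    have := sh' j (ξ a) (hgood a).fibGen
    rw [hk a, add_zero] at this
    exact this.symm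
  let A : D.obj j → ℤ := fun s => α (D.map f s) * ((Groth.L22.Cyc.mult (D.map f) s).toNat : ℤ)
  let B : D.obj j → ℤ := fun s => ∑ a, Cyc.divFun (δ j) (π (ξ a)) (g a) s
  have hαfin : (Function.support ⇑α).Finite := Groth.L22.Cyc.finite_support α
  obtain ⟨βc, hβc⟩ := Groth.L22.Cyc.exists_cycle_of_finite B ((Set.finite_iUnion fun a =>
    Groth.L22.Cyc.finite_support_divFun (hset j).2.2 (π (ξ a)) (g a) (hg0 a)).subset fun s hs => by
      obtain ⟨a, -, ha⟩ := Finset.exists_ne_zero_of_sum_ne_zero (Function.mem_support.1 hs)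
      exact Set.mem_iUnion.2 ⟨a, ha⟩)
  obtain ⟨αc, hαc⟩ := Groth.L22.Cyc.exists_cycle_of_finite A
    (Groth.L22.Cyc.finite_support_pull (D.map f) hαfin)
  have hcomp : ∀ x, α (c.π.app i x) * ((Groth.L22.Cyc.mult (Groth.L22.Cyc.proj c i) x).toNat : ℤ) =
      A (π x) * ((Groth.L22.Cyc.mult π x).toNat : ℤ) := fun x => by
    have e : Groth.L22.Cyc.proj c i = π ≫ D.map f := (c.w f).symm
    rw [Groth.L22.Cyc.mult_congr _ e, Groth.L22.Cyc.mult_comp π (D.map f) x, ENat.toNat_mul,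
      show c.π.app i x = D.map f (π x) from congrArg (fun q : c.pt ⟶ D.obj i => q x) e]
    push_cast
    ring
  have hzero : Cyc.pullFun π δ' (δ j) 0 ⇑(αc - βc) = 0 := by
    funext x
    rw [Groth.L22.Cyc.pullFun_eq' π (sh' j)]
    show (αc (π x) - βc (π x)) * _ = 0
    rw [hαc, hβc, sub_mul, ← hcomp, sub_eq_zero]
    have h1 := congrFun ((Groth.L22.Cyc.pullFun_eq' (Groth.L22.Cyc.proj c i) (sh' i) ⇑α).symm.trans
      hα'.symm) x
    refine h1.trans ?_
    rw [hsum x, finsum_eq_sum_of_fintype, Finset.sum_mul]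
    refine Finset.sum_congr rfl fun a _ => ?_
    have h2 := Groth.L22.Cyc.pullFun_divFun_good (hset j).2.2 hset'.2.2 (sh' j) (hgood a) (g a)
      (hg0 a) x
    rw [Groth.L22.Cyc.pullFun_eq' π (sh' j)] at h2
    dsimp only at h2; refine Eq.symm (h2.trans ?_); rw [← hg a]
  have hk' : (αc - βc) ∈ Cyc.Zk (D.obj j) (δ j) k := fun s hs => by
    show αc s - βc s = 0
    rw [hαc, hβc]
    have hA : A s = 0 := by
      by_contra h
      have hm := mul_ne_zero_iff.1 h
      have hfg : Groth.L22.Cyc.FibGen (D.map f) s := by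
        by_contra h'
        exact hm.2 (by simp [Groth.L22.Cyc.mult_eq_top h'])
      have := sh f s hfg
      rw [add_zero] at this
      exact hs (this.trans (not_not.1 fun h' => hm.1 (hα _ h')))
    have hB : B s = 0 := Finset.sum_eq_zero fun a _ => dif_neg fun h => hs (by
      have := h.2.trans (hδj a); omega)
    rw [hA, hB, sub_zero]
  obtain ⟨m, q, hq⟩ := Groth.Agent.S6496.result I D c hc haff hflat hqc δ δ' hset hset' hshift
    hflat' hshift' k j (αc - βc) hk' hzero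
  haveI : Flat (D.map q) := hflat m j q
  obtain ⟨αm, hαm⟩ := Groth.L22.Cyc.exists_cycle_of_finite
    (fun z => α (D.map (q ≫ f) z) * ((Groth.L22.Cyc.mult (D.map (q ≫ f)) z).toNat : ℤ))
    (Groth.L22.Cyc.finite_support_pull (D.map (q ≫ f)) hαfin)
  refine ⟨m, q ≫ f, αm, ?_, ?_⟩
  · rw [hαm, Groth.L22.Cyc.pullFun_eq' _ (sh (q ≫ f))]
  have hr : Cyc.RatEquivZero (δ j) k βc := ⟨ι, fun a => π (ξ a), g, hδj, hg0,
    fun s => ⟨Set.univ, isOpen_univ, trivial, Set.toFinite _⟩,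
    fun s => (congrFun hβc s).trans (finsum_eq_sum_of_fintype _).symm⟩
  have := Groth.L22.Cyc.ratEquivZero_pullFun (D.map q) (hset j).2.2 (hset m).2.2 (c := 0) (sh q)
    βc hr αm ?_
  · rwa [add_zero] at this
  funext z
  have hz := congrFun ((Groth.L22.Cyc.pullFun_eq' (D.map q) (sh q) ⇑(αc - βc)).symm.trans hq) z
  change (αc (D.map q z) - βc (D.map q z)) * _ = 0 at hz
  rw [sub_mul, sub_eq_zero, hαc] at hz
  rw [hαm, Groth.L22.Cyc.pullFun_eq' (D.map q) (sh q)]
  dsimp only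
  rw [← hz, D.map_comp, Groth.L22.Cyc.mult_comp (D.map q) (D.map f) z, ENat.toNat_mul,
    Scheme.Hom.comp_apply]
  push_cast
  simp only [A]
  ring

end Groth.Agent.S6497
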