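import Groth.Agent.L18.GammaStarFinite
import Groth.Statements.S3551
-- import your own Groth.Agent.* helpers here

set_option autoImplicit false
universe u
open CategoryTheory CategoryTheory.Limits AlgebraicGeometry
open EGA2

namespace Groth.Agent.S3551

/-- Let S be a graded ring whose irrelevant ideal S_+ is generated by finitely many elements of degree
one, and X = Proj S. Then every quasi-coherent O_X-module of finite type is isomorphic to N~ for
some finitely generated graded S-module N (graded in nonnegative degrees). -/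
theorem result {R A : Type u} [CommRing R] [CommRing A] [Algebra R A] (𝒜 : ℕ → Submodule R A) [GradedAlgebra 𝒜]
    (s : Finset A) (hs1 : ∀ f ∈ s, f ∈ 𝒜 1)
    (hs : (HomogeneousIdeal.irrelevant 𝒜).toIdeal = Ideal.span (s : Set A))
    (F : (Proj 𝒜).Modules) (hF : Coh.IsQCoh F) (hFT : CohB1.IsFT F) :
    ∃ (N : Type u) (_ : AddCommGroup N) (_ : Module R N) (_ : Module A N) (_ : IsScalarTower R A N)
      (𝒩 : ℕ → Submodule R N) (_ : DirectSum.Decomposition 𝒩) (_ : SetLike.GradedSMul 𝒜 𝒩),
      Module.Finite A N ∧ Nonempty (GrTilde.tilde 𝒜 𝒩 0 ≅ F) := by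
  have hcov : ∀ x : Proj 𝒜, ∃ t : s, x ∈ Groth.L18.GammaStar.D (𝒜 := 𝒜) s t := fun x =>
    TopologicalSpace.Opens.mem_iSup.mp
      ((Proj.iSup_basicOpen_eq_top 𝒜 (fun t : s => t.1) (hs.le.trans (le_of_eq (by simp)))).ge trivial)
  haveI := hF
  obtain ⟨S, hS⟩ := Groth.L18.GammaStar.exists_finite_fam F s hs1 hFT
  exact ⟨Groth.L18.GammaStar.Mod S, inferInstance, inferInstance, inferInstance, inferInstance,
    Groth.L18.GammaStar.grading S, inferInstance, inferInstance, hS, Groth.L18.GammaStar.nonempty_iso hcov⟩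

end Groth.Agent.S3551
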