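import Groth.Statements.S10423
import Groth.Agent.L23.Decent2

set_option autoImplicit false
set_option backward.isDefEq.respectTransparency.types false
universe u
open CategoryTheory CategoryTheory.Limits AlgebraicGeometry Topology TopologicalSpace
open AlgSp

namespace Groth.Agent.S10423

/-- A morphism of algebraic spaces over a scheme S which is representable, or which is quasi-separated,
is decent (all its base changes to schemes are decent algebraic spaces). The implications through
reasonable and very reasonable morphisms are not part of this row. -/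
theorem result {S : Scheme.{u}} {X Y : AlgSp.Space S} (f : X ⟶ Y) :
    (AlgSp.Representable f.hom → AlgSp.IsDecentMor f.hom) ∧
      (AlgSp.IsQuasiSeparatedMor f.hom → AlgSp.IsDecentMor f.hom) := by
  refine ⟨fun hf T F' g fst snd sq => Groth.L23.Pt.isDecent_of_representable snd
    (Groth.L23.representable_of_isPullback sq hf) (Groth.L23.Pt.isDecent_yon T), fun hf T F' g fst snd sq => ?_⟩
  have hF' : AlgSp.IsAlgSpace F' := Groth.L23.isAlgSpace_of_isPullback Y.property.diag X.property (AlgSp.IsAlgSpace.yon_obj T) sq
  have hd : AlgSp.RepWith @QuasiCompact (pullback.diagonal snd) :=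
    Groth.L23.repWith_of_isPullback (Groth.L23.isPullback_diagonal sq) hf
  intro x
  obtain ⟨p, rfl⟩ := AlgSp.Points.mk_surjective x
  refine Groth.L23.Pt.goodPt_of_qc hF' p ((Groth.L23.Pt.qc_iff hF' p).2 fun U φ hU hφ => ?_)
  obtain ⟨a, ha⟩ := (AlgSp.yon S).map_surjective (p.toHom ≫ snd)
  obtain ⟨b, hb⟩ := (AlgSp.yon S).map_surjective (φ ≫ snd)
  have sab := (IsPullback.of_hasPullback a b).map (AlgSp.yon S)
  rw [ha, hb] at sab
  have : QuasiCompact a.left := by
    have : Finite ↥p.pt.left := inferInstance
    exact Groth.L23.Pt.quasiCompact_of_finite _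
  have : QuasiCompact (pullback.snd a b).left :=
    MorphismProperty.of_isPullback ((IsPullback.of_hasPullback a b).map (Over.forget S)) this
  have : CompactSpace (pullback a b).left := QuasiCompact.compactSpace_of_compactSpace (pullback.snd a b).left
  exact Groth.L23.Pt.compact_of_qcDiag hd p.toHom φ (Groth.L23.Pt.compact_of_iso sab.isoPullback (Groth.L23.Pt.compact_yon))
    (Groth.L23.isAlgSpace_of_isPullback (AlgSp.IsAlgSpace.yon_obj T).diag (AlgSp.IsAlgSpace.yon_obj _)
      (AlgSp.IsAlgSpace.yon_obj _) (IsPullback.of_hasPullback _ _))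


end Groth.Agent.S10423
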