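import Groth.Statements.S10399
import Groth.Agent.L23.CodimZeroFibre

set_option autoImplicit false
universe u
open CategoryTheory CategoryTheory.Limits AlgebraicGeometry Topology TopologicalSpace
open AlgSp

namespace Groth.Agent.S10399

/-- Let f : X ⟶ Y be a morphism locally of finite type of algebraic spaces over a scheme S and y a
codimension 0 point of Y. The following are equivalent: (1) every point of |X| over y has
codimension 0 on X; (2) f is quasi-finite at all points over y; (3) f is quasi-finite at all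
codimension 0 points of X over y. Stated as (1) ⇔ (2) together with (3) ⇒ (1). -/
theorem result {S : Scheme.{u}} {X Y : AlgSp.Space S} (f : X ⟶ Y)
    (hf : AlgSp.LocP @LocallyOfFiniteType f.hom) (y : AlgSp.Points Y.obj) (hy : AlgSp.HasAt (fun U u => ringKrullDim ↥(U.presheaf.stalk u) = 0) Y.obj y) :
    ((∀ x : AlgSp.Points X.obj, AlgSp.Points.map f.hom x = y → AlgSp.HasAt (fun U u => ringKrullDim ↥(U.presheaf.stalk u) = 0) X.obj x) ↔
        (∀ x : AlgSp.Points X.obj, AlgSp.Points.map f.hom x = y → AlgSp.HasAtMor (fun U _ h u => ∃ W : U.Opens, u ∈ W ∧ LocallyQuasiFinite (W.ι ≫ h) ∧ LocallyOfFiniteType (W.ι ≫ h)) f.hom x)) ∧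
      ((∀ x : AlgSp.Points X.obj, AlgSp.Points.map f.hom x = y → AlgSp.HasAt (fun U u => ringKrullDim ↥(U.presheaf.stalk u) = 0) X.obj x → AlgSp.HasAtMor (fun U _ h u => ∃ W : U.Opens, u ∈ W ∧ LocallyQuasiFinite (W.ι ≫ h) ∧ LocallyOfFiniteType (W.ι ≫ h)) f.hom x) →
        ∀ x : AlgSp.Points X.obj, AlgSp.Points.map f.hom x = y → AlgSp.HasAt (fun U u => ringKrullDim ↥(U.presheaf.stalk u) = 0) X.obj x) := by
  obtain ⟨U, V, a, b, g, ha, has, hb, -, w⟩ := Groth.L23.exists_chart X.property Y.property f.hom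
  haveI : LocallyOfFiniteType g.left := hf a b g ha hb w
  have him : ∀ v : U.left, AlgSp.Points.map f.hom (AlgSp.Points.ofPt a v) = AlgSp.Points.ofPt b (g.left v) :=
    fun v => by rw [AlgSp.Points.map_ofPt, w, Groth.L23.ofPt_comp]
  have hV : ∀ u : U.left, AlgSp.Points.map f.hom (AlgSp.Points.ofPt a u) = y → ∀ q, q ⤳ g.left u → q = g.left u := by
    intro u hu
    rw [← hu, him, Groth.L23.Pt.hasAt_stalkDim_iff Y.property hb (g.left u) (fun t => t = 0)] at hy
    exact (Groth.L23.CodimOne.stalkDim_eq_zero_iff _).1 hy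
  have hz : ∀ u : U.left, AlgSp.HasAt (fun U u => ringKrullDim ↥(U.presheaf.stalk u) = 0) X.obj (AlgSp.Points.ofPt a u) ↔
      ∀ q, q ⤳ u → q = u := fun u =>
    (Groth.L23.Pt.hasAt_stalkDim_iff X.property ha u (fun t => t = 0)).trans (Groth.L23.CodimOne.stalkDim_eq_zero_iff _)
  have hsame : ∀ {u u' : U.left}, g.left u' = g.left u →
      AlgSp.Points.map f.hom (AlgSp.Points.ofPt a u) = y → AlgSp.Points.map f.hom (AlgSp.Points.ofPt a u') = y :=
    fun {u u'} e hu => by rw [him, e, ← him, hu]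
  refine ⟨⟨fun H x hx => ?_, fun H x hx => ?_⟩, fun H x hx => ?_⟩
  all_goals obtain ⟨u, rfl⟩ := Groth.L23.surjective_ofPt has x
  · exact (Groth.L23.QFL.hasAtMor_iff ha hb w u).2
      (Groth.L23.CodimZero.qfAt_of_forall_maximal g.left u fun u' e => (hz u').1 (H _ (hsame e hx)))
  · exact (hz u).2 (Groth.L23.CodimZero.maximal_of_qf g.left u (hV u hx)
      ((Groth.L23.QFL.hasAtMor_iff ha hb w u).1 (H _ hx)))
  · exact (hz u).2 (Groth.L23.CodimZero.maximal_of_maximal_qf g.left u (hV u hx) fun u' e hm =>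
      (Groth.L23.QFL.hasAtMor_iff ha hb w u').1 (H _ (hsame e hx) ((hz u').2 hm)))

end Groth.Agent.S10399
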