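import Groth.Statements.S10240
import Groth.Agent.L09.ModEt.Ext

set_option autoImplicit false
universe u
open CategoryTheory CategoryTheory.Limits AlgebraicGeometry Topology TopologicalSpace
open AlgSp

set_option backward.isDefEq.respectTransparency false
set_option backward.isDefEq.respectTransparency.types false

namespace Groth.Agent.S10240

/-- Let X be an algebraic space over a scheme S. Colimits of quasi-coherent O_X-modules are
quasi-coherent; kernels and cokernels of maps between quasi-coherent O_X-modules are quasi-coherent;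
and in a short exact sequence of O_X-modules, if two out of three are quasi-coherent then so is the
third. -/
theorem result {S : Scheme.{u}} (X : AlgSp.Space S) :
    (∀ (J : Type u) [SmallCategory J] (D : J ⥤ AlgSp.ModEt X.obj) [HasColimit D],
        (∀ j, (D.obj j).IsQuasicoherent) → (colimit D).IsQuasicoherent) ∧
    (∀ (F G : AlgSp.ModEt X.obj) (φ : F ⟶ G), F.IsQuasicoherent → G.IsQuasicoherent →
        (kernel φ).IsQuasicoherent ∧ (cokernel φ).IsQuasicoherent) ∧
    (∀ C : ShortComplex (AlgSp.ModEt X.obj), C.ShortExact →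
        (C.X₁.IsQuasicoherent → C.X₂.IsQuasicoherent → C.X₃.IsQuasicoherent) ∧
        (C.X₁.IsQuasicoherent → C.X₃.IsQuasicoherent → C.X₂.IsQuasicoherent) ∧
        (C.X₂.IsQuasicoherent → C.X₃.IsQuasicoherent → C.X₁.IsQuasicoherent)) := by
  have hcolim : ∀ (J : Type u) [SmallCategory J] (D : J ⥤ AlgSp.ModEt X.obj) [HasColimit D],
      (∀ j, (D.obj j).IsQuasicoherent) → (colimit D).IsQuasicoherent := fun J _ D _ hD =>
    Groth.L09.ModEt.isQuasicoherent_colimit D hD
  have hcoker : ∀ (F G : AlgSp.ModEt X.obj) (φ : F ⟶ G), F.IsQuasicoherent → G.IsQuasicoherent →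
      (cokernel φ).IsQuasicoherent := fun F G φ hF hG =>
    Groth.L09.ModEt.isQuasicoherent_colimit (parallelPair φ 0) fun j => by
      cases j
      · exact hF
      · exact hG
  refine ⟨hcolim, fun F G φ hF hG => ⟨?_, hcoker F G φ hF hG⟩, fun C hC => ⟨fun h₁ h₂ => ?_, fun h₁ h₃ => ?_,
    fun h₂ h₃ => ?_⟩⟩
  · exact Groth.L09.ModEt.isQuasicoherent_left (C := ShortComplex.mk (kernel.ι φ) φ (kernel.condition φ))
      (ShortComplex.kernelSequence_exact φ) inferInstance hF hG
  · haveI := hC.epi_g
    exact (SheafOfModules.isQuasicoherent (OEtRing X.obj)).prop_of_iso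
      (IsColimit.coconePointUniqueUpToIso (colimit.isColimit _) hC.gIsCokernel) (hcoker _ _ C.f h₁ h₂)
  · exact Groth.L09.ModEt.isQuasicoherent_middle hC h₁ h₃
  · exact Groth.L09.ModEt.isQuasicoherent_left hC.exact hC.mono_f h₂ h₃

end Groth.Agent.S10240
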