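import Groth.Statements.S10744
import Groth.Agent.L23.FpNoeth

set_option autoImplicit false
universe u
open CategoryTheory CategoryTheory.Limits AlgebraicGeometry Opposite
open AlgSp

set_option backward.isDefEq.respectTransparency false
set_option backward.isDefEq.respectTransparency.types false
set_option linter.style.haveILetI false

namespace Groth.Agent.S10744

/-- Let X be a locally Noetherian algebraic space over S, M a coherent O_X-module on the small etale
site of X (of finite presentation, X being locally Noetherian) and N ⟶ M a monomorphism with N
quasi-coherent. Then N is coherent. -/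
theorem result {S : Scheme.{u}} (X : AlgSp.Space S)
    (hX : AlgSp.IsLocNoethSp X.obj) {M N : AlgSp.ModEt X.obj} [M.IsFinitePresentation] (ι : N ⟶ M) [Mono ι]
    [N.IsQuasicoherent] :
    N.IsFinitePresentation := by
  refine Groth.L23.FP.isFinitePresentation_of_finite hX N fun E _ => ?_
  letI := Groth.L09.ModEt.secModule M E
  letI := Groth.L09.ModEt.secModule N E
  haveI := Groth.L09.ModEt.finite_sectModEt M E
  haveI := Groth.L23.FP.isNoetherianRing_Γ₀ hX E
  exact Module.Finite.of_injective (Groth.L23.CohNbhd.app₀ ι E) (Groth.L23.FP.injective_app₀ ι E)

end Groth.Agent.S10744
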