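import Groth.Statements.S10577
import Groth.Agent.L23.FtCriterion
import Groth.Agent.L23.AffineMor

set_option autoImplicit false
universe u
open CategoryTheory CategoryTheory.Limits AlgebraicGeometry
open AlgSp

set_option backward.isDefEq.respectTransparency false
set_option backward.isDefEq.respectTransparency.types false
set_option linter.style.haveILetI false

namespace Groth.Agent.S10577

/-- Let f : X ⟶ Y be a finite morphism of algebraic spaces over S and F a quasi-coherent O_X-module (on
the small etale site). Then F is of finite type exactly when its direct image f_*F is of finite type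
as an O_Y-module. (A finite morphism is representable; the row carries representability of f as an
explicit hypothesis because the direct image functor is defined for representable morphisms.) -/
theorem result {S : Scheme.{u}} {X Y : AlgSp.Space S} (f : X ⟶ Y)
    (hrep : AlgSp.Representable f.hom) (hfin : AlgSp.IsFiniteMor f.hom)
    (F : AlgSp.ModEt X.obj) [F.IsQuasicoherent] :
    F.IsFiniteType ↔ ((AlgSp.pushModEt hrep).obj F).IsFiniteType := by
  have hfa := Groth.L23.repWith_isAffineHom_of_isAffineMor (f := f.hom) (fun Z hZ g => by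
      obtain ⟨W, i, fst, sq, hW, -⟩ := hfin hZ g
      exact ⟨W, i, fst, sq, hW⟩)
  haveI := Groth.L23.PushAff.isQuasicoherent_push hrep F hfa
  refine ⟨fun _ => Groth.L23.FP.isFiniteType_of_cover _ fun E e => ?_, fun h => ?_⟩
  · obtain ⟨_, ⟨(B : E.obj.left.left.Opens), hB, rfl⟩, heB, -⟩ :=
      E.obj.left.left.isBasis_affineOpens.exists_subset_of_mem_open (Set.mem_univ e) isOpen_univ
    haveI : IsAffine (Groth.L09.ModEt.openObj E B).obj.left.left := hB
    exact ⟨Groth.L09.ModEt.openObj E B, hB, Groth.L09.ModEt.openι E B, ⟨⟨e, heB⟩, rfl⟩,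
      Groth.L23.PushAff.finite_push hrep F (Groth.L23.isFiniteMor_iff.1 hfin) _⟩
  · refine Groth.L23.FP.isFiniteType_of_cover F fun E₀ e => ?_
    obtain ⟨E, hE, W, hW, g₁, g₂, he⟩ := Groth.L23.FP.exists_common_bcObj Y.property hrep hfa E₀ e
    haveI := Groth.L09.ModEt.isAffine_bcObj hrep hfa E
    haveI := Groth.L09.ModEt.finite_sectModEt ((AlgSp.pushModEt hrep).obj F) E
    letI := (Groth.L09.ModEt.πbc hrep E).toAlgebra
    letI : Module (Groth.L09.ModEt.Γ₀ E) (AlgSp.sectModEt F (AlgSp.EtOver.bcObj hrep E)) :=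
      Groth.L09.ModEt.secModule ((AlgSp.pushModEt hrep).obj F) E
    haveI : IsScalarTower (Groth.L09.ModEt.Γ₀ E) (Groth.L09.ModEt.Γ₀ (AlgSp.EtOver.bcObj hrep E))
        (AlgSp.sectModEt F (AlgSp.EtOver.bcObj hrep E)) :=
      ⟨fun a b m => mul_smul (Groth.L09.ModEt.πbc hrep E a) b m⟩
    haveI : Module.Finite (Groth.L09.ModEt.Γ₀ E) (AlgSp.sectModEt F (AlgSp.EtOver.bcObj hrep E)) :=
      Groth.L09.ModEt.finite_sectModEt ((AlgSp.pushModEt hrep).obj F) E
    haveI : Module.Finite (Groth.L09.ModEt.Γ₀ (AlgSp.EtOver.bcObj hrep E))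
        (AlgSp.sectModEt F (AlgSp.EtOver.bcObj hrep E)) :=
      Module.Finite.of_restrictScalars_finite (Groth.L09.ModEt.Γ₀ E) _ _
    exact ⟨W, hW, g₁, he, Groth.L23.FP.finite_of_bc F g₂ (Groth.L09.ModEt.bc_of_isQuasicoherent F g₂)⟩

end Groth.Agent.S10577
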