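import Groth.Statements.S10746
import Groth.Agent.L23.PushAffine
import Groth.Agent.L23.AffineMor

set_option autoImplicit false
universe u
open CategoryTheory CategoryTheory.Limits AlgebraicGeometry Opposite
open AlgSp

set_option backward.isDefEq.respectTransparency false
set_option backward.isDefEq.respectTransparency.types false
set_option linter.style.haveILetI false

namespace Groth.Agent.S10746

/-- Take a finite morphism f : X ⟶ Y of algebraic spaces over S whose target Y is locally Noetherian;
such a morphism is representable, and the representability is carried as a hypothesis. Let M be a
coherent O_X-module on the small etale site of X (of finite presentation; X is locally Noetherian as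
well). Then the O_Y-module f_* M is coherent (of finite presentation). (The vanishing of R^p f_* M
for p > 0, which holds for every integral morphism and every abelian sheaf, is not repeated here.) -/
theorem result {S : Scheme.{u}} {X Y : AlgSp.Space S} (f : X ⟶ Y)
    (hf : AlgSp.Representable f.hom) (hfin : AlgSp.IsFiniteMor f.hom) (hY : AlgSp.IsLocNoethSp Y.obj)
    (M : AlgSp.ModEt X.obj) [M.IsFinitePresentation] :
    ((AlgSp.pushModEt hf).obj M).IsFinitePresentation := by
  have hF := Groth.L23.isFiniteMor_iff.1 hfin
  haveI := Groth.L23.PushAff.isQuasicoherent_push hf M (Groth.L23.repWith_isAffineHom_of_isAffineMor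
    (fun Z hZ g => by
      obtain ⟨W, i, fst, sq, hW, -⟩ := hfin hZ g
      exact ⟨W, i, fst, sq, hW⟩))
  exact Groth.L23.FP.isFinitePresentation_of_finite hY _ fun E _ => Groth.L23.PushAff.finite_push hf M hF E

end Groth.Agent.S10746
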