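import Groth.Statements.S10756
import Groth.Agent.L09.ModEt.Closed
import Groth.Agent.S10746
import Groth.Agent.S10577
import Groth.Agent.L23.FpNoeth
import Groth.Agent.L09.ModEt.FiniteType

set_option autoImplicit false
universe u
open CategoryTheory CategoryTheory.Limits AlgebraicGeometry Opposite
open AlgSp

set_option backward.isDefEq.respectTransparency false
set_option backward.isDefEq.respectTransparency.types false

namespace Groth.Agent.S10756

/-- Take a closed immersion i : Z ⟶ X between algebraic spaces over S that are both locally Noetherian,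
and write I for the quasi-coherent sheaf of ideals cutting out Z. Then the direct image i_* carries
coherent O_Z-modules (of finite presentation) to coherent O_X-modules annihilated by I (on every
affine object U of the small etale site of X, the ideal I(U) annihilates all sections over U), and
every coherent O_X-module annihilated by I is isomorphic to i_* G for some coherent O_Z-module G.
(Together with the full faithfulness of i_* on modules, a separate result, this is the equivalence
between coherent O_Z-modules and coherent O_X-modules annihilated by I.) -/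
theorem result {S : Scheme.{u}} {Z X : AlgSp.Space S} (i : Z ⟶ X)
    (hi : AlgSp.RepWith @IsClosedImmersion i.hom) (hX : AlgSp.IsLocNoethSp X.obj) (hZN : AlgSp.IsLocNoethSp Z.obj)
    (I : AlgSp.IdealEt X.obj) (hI : I.IsQCoh) (hZ : AlgSp.IsCutOutBy I i.hom) :
    (∀ (G : AlgSp.ModEt Z.obj), G.IsFinitePresentation →
        ((AlgSp.pushModEt hi.1).obj G).IsFinitePresentation ∧
          ∀ (E : AlgSp.EtOver X.obj) (hE : IsAffine E.obj.left.left)
            (s : AlgSp.sectModEt ((AlgSp.pushModEt hi.1).obj G) E), I.ideal E hE ≤ AlgSp.annSect s) ∧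
      ∀ (M : AlgSp.ModEt X.obj), M.IsFinitePresentation →
        (∀ (E : AlgSp.EtOver X.obj) (hE : IsAffine E.obj.left.left) (s : AlgSp.sectModEt M E),
            I.ideal E hE ≤ AlgSp.annSect s) →
          ∃ G : AlgSp.ModEt Z.obj, G.IsFinitePresentation ∧ Nonempty ((AlgSp.pushModEt hi.1).obj G ≅ M) := by
  obtain ⟨hi', rfl⟩ := hZ
  have hfin : AlgSp.IsFiniteMor i.hom := Groth.L23.isFiniteMor_iff.2
    (Groth.L23.repWith_mono (Q := @IsFinite) (fun f (_ : IsClosedImmersion f) => inferInstanceAs (IsFinite f)) hi)
  refine ⟨fun G hG => ?_, fun M hM hann => ?_⟩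
  · haveI := hG
    exact ⟨Groth.Agent.S10746.result i hi.1 hfin hX G, fun E hE s a ha =>
      (mem_annSect_iff _ _).2 (Groth.L09.ModEt.killed_push hi G E hE a s ha)⟩
  · haveI := hM
    haveI := Groth.L09.ModEt.isIso_unit hi M fun E hE a s ha => (mem_annSect_iff _ _).1 (hann E hE s ha)
    let G := (AlgSp.pullModEt hi.1).obj M
    let e := asIso ((AlgSp.pullPushAdjModEt hi.1).unit.app M)
    haveI : G.IsQuasicoherent := Groth.L09.Pull.isQuasicoherent_pullM hi.1 M X.property
    haveI hfp : ((AlgSp.pushModEt hi.1).obj G).IsFinitePresentation :=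
      (SheafOfModules.isFinitePresentation (AlgSp.OEtRing X.obj)).prop_of_iso e hM
    haveI : G.IsFiniteType := (Groth.Agent.S10577.result i hi.1 hfin G).2 inferInstance
    exact ⟨G, Groth.L23.FP.isFinitePresentation_of_finite hZN G fun E _ => Groth.L09.ModEt.finite_sectModEt G E,
      ⟨e.symm⟩⟩

end Groth.Agent.S10756
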