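import Groth.Statements.S10754
import Groth.Agent.L09.EtCoh.Global

set_option autoImplicit false
universe u
open CategoryTheory CategoryTheory.Limits AlgebraicGeometry Opposite
open AlgSp

set_option backward.isDefEq.respectTransparency false
set_option backward.isDefEq.respectTransparency.types false

namespace Groth.Agent.S10754

/-- Consider an algebraic space X over S that happens to be an affine scheme, meaning X ≅ h_T where T is
an affine scheme over S. Then for each i > 0 and each quasi-coherent O_X-module M on the small etale
site of X, the cohomology H^i(X, M) vanishes. -/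
theorem result {S : Scheme.{u}} (X : AlgSp.Space S) (T : Over S)
    (hT : IsAffine T.left) (e : (AlgSp.yon S).obj T ≅ X.obj) (M : AlgSp.ModEt X.obj) [M.IsQuasicoherent]
    (i : ℕ) (hi : 0 < i) :
    Subsingleton (AlgSp.HModEt X.obj M i) := by
  obtain ⟨E, hE, hET⟩ := Groth.L09.EtCoh.exists_terminal e
  exact Groth.L09.EtCoh.subsingleton_hEt hE
    (show IsAffine E.obj.left.left by rw [hET]; exact hT) _ (Groth.L09.EtCoh.cok_of_isQuasicoherent M) i hi

end Groth.Agent.S10754
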