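import Groth.Statements.S10079
import Groth.Agent.L09.EtSub.SubObj

set_option autoImplicit false
universe u
open CategoryTheory CategoryTheory.Limits AlgebraicGeometry Opposite
open AlgSp

set_option backward.isDefEq.respectTransparency false
set_option backward.isDefEq.respectTransparency.types false

namespace Groth.Agent.S10079

/-- Let `S` be a quasi-separated scheme, `X` an algebraic space over `S`, quasi-compact and
quasi-separated over `S`, and `M` a quasi-coherent `O_X`-module on the small etale site of `X`. Then
the subobjects of `M` whose underlying module is quasi-coherent of finite type form a directed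
(filtered, nonempty) partial order, and the cocone of their inclusion arrows exhibits `M` as the
colimit of these submodules. (The published statement allows any base scheme and uses absolute
quasi-separatedness; this row assumes the base quasi-separated, over which quasi-separatedness
relative to the base is the absolute notion.) -/
theorem result {S : Scheme.{u}} [QuasiSeparatedSpace ↥S]
    (X : AlgSp.Space S) (hqc : AlgSp.IsQuasiCompactSp X.obj) (hqs : AlgSp.IsQuasiSeparatedSp X.obj)
    (M : AlgSp.ModEt X.obj) [M.IsQuasicoherent]
    (P : ObjectProperty (Subobject M))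
    (hP : P = fun N => (Subobject.underlying.obj N).IsQuasicoherent ∧ (Subobject.underlying.obj N).IsFiniteType)
    (ι : P.ι ⋙ Subobject.underlying ⟶ (Functor.const P.FullSubcategory).obj M)
    (hι : ∀ N : P.FullSubcategory, ι.app N = N.obj.arrow) :
    IsFiltered P.FullSubcategory ∧ Nonempty (IsColimit (Cocone.mk M ι)) := by
  have hd : Groth.L09.EtSub.Dir P := Groth.L09.EtSub.exists_ub P hP
  haveI : Nonempty P.FullSubcategory := by
    haveI := Groth.L09.EtSub.isFiniteType_mod (Groth.L09.EtSub.bot M) fun E _ => Submodule.fg_bot
    have hbot : P (Subobject.mk (Groth.L09.EtSub.bot M).ι) := by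
      rw [hP]
      exact ⟨(SheafOfModules.isQuasicoherent (OEtRing X.obj)).prop_of_iso (Subobject.underlyingIso _).symm
        (Groth.L09.EtSub.bot M).isQuasicoherent,
        Groth.L23.FP.isFiniteType_of_epi (Subobject.underlyingIso (Groth.L09.EtSub.bot M).ι).inv⟩
    exact ⟨⟨_, hbot⟩⟩
  refine ⟨?_, Groth.L09.EtSub.nonempty_isColimit hd ι hι fun W _ s => ?_⟩
  · haveI : IsFilteredOrEmpty P.FullSubcategory :=
      { cocone_objs := fun N₁ N₂ => by
          obtain ⟨N, h₁, h₂⟩ := hd N₁ N₂
          exact ⟨N, ObjectProperty.homMk (homOfLE h₁), ObjectProperty.homMk (homOfLE h₂), trivial⟩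
        cocone_maps := fun N₁ N₂ f g => ⟨N₂, 𝟙 _, ObjectProperty.hom_ext _ (Subsingleton.elim _ _)⟩ }
    constructor
  · obtain ⟨N, x, hx⟩ := Groth.L09.EtSub.exists_mem P hP X.property hqc hqs s
    exact ⟨N, x, hx⟩

end Groth.Agent.S10079
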