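import Groth.Statements.S10732
import Groth.Agent.L23.AffineCrit
import Groth.Agent.L09.EtSub.Faith

set_option autoImplicit false
universe u
open CategoryTheory CategoryTheory.Limits AlgebraicGeometry Opposite
open AlgSp

set_option backward.isDefEq.respectTransparency false
set_option backward.isDefEq.respectTransparency.types false
set_option linter.style.haveILetI false

namespace Groth.Agent.S10732

/-- Let X be a quasi-compact algebraic space, quasi-separated over a quasi-separated base scheme S, such
that H^1(X, M) = 0 for every quasi-coherent O_X-module M on the small etale site of X. Then X is an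
affine scheme: there is an affine scheme T over S with h_T ≅ X. (Quasi-separatedness is taken
relative to S together with S quasi-separated, which gives the absolute notion of the published
statement.) -/
theorem result {S : Scheme.{u}} [QuasiSeparatedSpace ↥S]
    (X : AlgSp.Space S) (hqc : AlgSp.IsQuasiCompactSp X.obj) (hqs : AlgSp.IsQuasiSeparatedSp X.obj)
    (h1 : ∀ M : AlgSp.ModEt X.obj, M.IsQuasicoherent → Subsingleton (AlgSp.HModEt X.obj M 1)) :
    ∃ T : Over S, IsAffine T.left ∧ Nonempty ((AlgSp.yon S).obj T ≅ X.obj) := by
  obtain ⟨a⟩ := Groth.L23.GlobSec.nonempty_atlas X hqc hqs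
  refine Groth.L23.GlobSec.exists_iso_yon_affine X.property hqs a (Groth.L23.GlobSec.lifting_of_h1 h1) ?_
  intro Q hQ hGS
  haveI := hQ
  refine (IsZero.iff_id_eq_zero Q).2 (SheafOfModules.hom_ext (PresheafOfModules.hom_ext fun E =>
    ModuleCat.hom_ext (LinearMap.ext fun x => ?_)))
  refine Groth.L09.EtSub.eq_zero_of_gfam X.property hqc hqs h1 Q (fun t W => ?_) x
  have hU : t.val a.U (fun _ => trivial) = 0 :=
    (Submodule.eq_bot_iff _).1 hGS _ (fun V _ g h => by
      rw [Groth.L09.EtSub.GFam.nat', Groth.L09.EtSub.GFam.nat'])
  choose V hV g h hg using Groth.L23.GlobSec.exists_nhd (a := a) W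
  refine Groth.L09.ModEt.eq_of_cover Q (c := g) (fun e => ⟨e, hg e⟩) fun e => ?_
  rw [map_zero, Groth.L09.EtSub.GFam.nat', ← Groth.L09.EtSub.GFam.nat' t (h e), hU, map_zero]

end Groth.Agent.S10732
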