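import Groth.Statements.S1366
import Groth.Agent.S7409
import Groth.Agent.L27.HenselProperGen
import Groth.Agent.L16.ProjSpace.Basic

set_option autoImplicit false
universe u
open FlatMor

set_option backward.isDefEq.respectTransparency.types false
set_option maxHeartbeats 800000
set_option linter.style.haveILetI false
set_option backward.isDefEq.respectTransparency false
set_option backward.isDefEq.respectTransparency.types false
namespace Groth.Agent.S1366

open AlgebraicGeometry CategoryTheory Limits in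
/-- Let (A, I) be a henselian pair and X a separated scheme of finite type over Spec A, with X_0 its
base change to Spec (A/I). If Y is an open and closed subset of X_0 which (as an open subscheme) is
proper over Spec (A/I), then there is an open and closed subset W of X, proper over Spec A as an
open subscheme, whose preimage in X_0 is exactly Y. -/
theorem result {A : Type u} [CommRing A] (I : Ideal A) [HenselianRing A I]
    {X : Scheme.{u}} (f : X ⟶ Spec (CommRingCat.of A)) [IsSeparated f] [LocallyOfFiniteType f] [QuasiCompact f]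
    (Y : (pullback f (Spec.map (CommRingCat.ofHom (Ideal.Quotient.mk I)))).Opens) (hYc : IsClosed (Y : Set ↑(pullback f (Spec.map (CommRingCat.ofHom (Ideal.Quotient.mk I))))))
    (hYp : IsProper (Y.ι ≫ pullback.snd f (Spec.map (CommRingCat.ofHom (Ideal.Quotient.mk I))))) :
    ∃ W : X.Opens, IsClosed (W : Set ↑X) ∧ IsProper (W.ι ≫ f) ∧
      pullback.fst f (Spec.map (CommRingCat.ofHom (Ideal.Quotient.mk I))) ⁻¹ᵁ W = Y := by
  classical
  let ι := Spec.map (CommRingCat.ofHom (Ideal.Quotient.mk I))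
  haveI : IsClosedImmersion ι := IsClosedImmersion.spec_of_surjective _ Ideal.Quotient.mk_surjective
  let i₀ := pullback.fst f ι
  haveI : IsClosedImmersion i₀ := inferInstanceAs (IsClosedImmersion (pullback.fst f ι))
  obtain ⟨n, X', π, j, hj, hje, hπ, hπs⟩ := Groth.Agent.S7409.result f
  haveI := hj
  haveI := hπ
  haveI := hπs
  haveI : IsProper (CohB1.ProjSpaceOver.toBase n (Spec (CommRingCat.of A))) :=
    Groth.L16.ProjSpace.isProper_toBase (n := n) (S := Spec (CommRingCat.of A))
  haveI : QuasiCompact j := by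
    haveI : QuasiCompact (j ≫ CohB1.ProjSpaceOver.toBase n (Spec (CommRingCat.of A))) := by
      rw [hje]; infer_instance
    exact QuasiCompact.of_comp j (CohB1.ProjSpaceOver.toBase n (Spec (CommRingCat.of A)))
  set t := j.toImage with ht
  set fb := j.imageι ≫ CohB1.ProjSpaceOver.toBase n (Spec (CommRingCat.of A)) with hfb
  have htf : t ≫ fb = π ≫ f := by rw [ht, hfb, Scheme.Hom.toImage_imageι_assoc, hje]
  have htf' : ∀ x, fb (t x) = f (π x) := Groth.L27.HenselProper.app_comm htf
  haveI : IsOpenImmersion t := inferInstanceAs (IsOpenImmersion j.toImage)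
  haveI : IsProper fb := inferInstanceAs (IsProper (j.imageι ≫ _))
  have hr₀ : Set.range i₀ = f ⁻¹' Set.range ι := Scheme.Pullback.range_fst f ι
  haveI : IsProper π := hπ
  -- the part of `X'` above `Y`
  let yι := Y.ι ≫ i₀
  have hyι : Set.range yι = i₀ '' (Y : Set _) := by
    ext x
    constructor
    · rintro ⟨v, rfl⟩
      exact ⟨Y.ι v, v.2, (Scheme.Hom.comp_apply _ _ _).symm⟩
    · rintro ⟨z, hz, rfl⟩
      exact ⟨⟨z, hz⟩, Scheme.Hom.comp_apply _ _ _⟩
  let C : Set X' := π ⁻¹' (i₀ '' (Y : Set _))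
  have hCcl : IsClosed (t '' C) := by
    let a := pullback.fst π yι
    let b := pullback.snd π yι
    haveI : IsProper (Y.ι ≫ pullback.snd f ι) := hYp
    haveI : IsProper b := inferInstanceAs (IsProper (pullback.snd π yι))
    haveI : IsProper ((a ≫ t) ≫ fb) := by
      rw [Category.assoc, htf, ← Category.assoc, pullback.condition]
      show IsProper ((b ≫ Y.ι ≫ i₀) ≫ f)
      rw [Category.assoc, Category.assoc, show i₀ = pullback.fst f ι from rfl, pullback.condition, ← Category.assoc Y.ι]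
      infer_instance
    haveI : IsProper (a ≫ t) := IsProper.of_comp (a ≫ t) fb
    have : Set.range (a ≫ t) = t '' C := by
      rw [Scheme.Hom.comp_base, TopCat.coe_comp, Set.range_comp]
      congr 1
      rw [Scheme.Pullback.range_fst, hyι]
    rw [← this]
    exact (a ≫ t).isClosedMap.isClosed_range
  obtain ⟨O, hO, hOY⟩ := i₀.isEmbedding.isInducing.isOpen_iff.1 Y.2
  set k := pullback.fst fb ι with hk
  have hrk : Set.range k = fb ⁻¹' Set.range ι := Scheme.Pullback.range_fst fb ι
  have hCO : ∀ x' : X', f (π x') ∈ Set.range ι → (x' ∈ C ↔ π x' ∈ O) := by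
    intro x' hx'
    constructor
    · rintro ⟨z, hz, hzx⟩
      rw [← hzx]
      exact (Set.ext_iff.mp hOY z).mpr hz
    · intro hxO
      obtain ⟨z, hz⟩ : π x' ∈ Set.range i₀ := by rw [hr₀]; exact hx'
      exact ⟨z, (Set.ext_iff.mp hOY z).mp (show i₀ z ∈ O from hz ▸ hxO), hz⟩
  have hCI : ∀ x' ∈ C, f (π x') ∈ Set.range ι := by
    rintro x' ⟨z, -, hzx⟩
    rw [← hzx]
    exact hr₀.le ⟨z, rfl⟩
  have hVeq : k ⁻¹' (t '' C) = k ⁻¹' (t '' (π ⁻¹' O)) := by
    ext z
    have hz : fb (k z) ∈ Set.range ι := hrk.le ⟨z, rfl⟩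
    constructor
    · rintro ⟨x', hx', he⟩
      exact ⟨x', (hCO x' (hCI x' hx')).mp hx', he⟩
    · rintro ⟨x', hx', he⟩
      refine ⟨x', (hCO x' ?_).mpr hx', he⟩
      rw [← htf', he]; exact hz
  have hV : IsClopen (k ⁻¹' (t '' C)) := by
    refine ⟨hCcl.preimage k.continuous, ?_⟩
    rw [hVeq]
    exact (t.isOpenEmbedding.isOpenMap _ (hO.preimage π.continuous)).preimage k.continuous
  obtain ⟨U, hU, hUV⟩ := Groth.L27.HenselProper.exists_clopen_general I fb _ hV
  have hUI : ∀ x, fb x ∈ Set.range ι → (x ∈ U ↔ x ∈ t '' C) := by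
    intro x hx
    obtain ⟨z, rfl⟩ : x ∈ Set.range k := by rw [hrk]; exact hx
    exact Set.ext_iff.mp hUV z
  have hUt : U ⊆ Set.range t := by
    have h := Groth.L27.HenselProper.closed_eq_empty_general I fb
      (hU.isClosed.inter t.isOpenEmbedding.isOpen_range.isClosed_compl) (Set.disjoint_left.mpr ?_)
    · intro x hx
      by_contra hn
      exact h.le (show x ∈ U ∩ (Set.range t)ᶜ from ⟨hx, hn⟩)
    · rintro _ ⟨z, rfl⟩ ⟨h1, h2⟩
      exact h2 (Set.image_subset_range t C ((hUI _ (hrk.le ⟨z, rfl⟩)).mp h1))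
  have hUC : ∀ x' : X', f (π x') ∈ Set.range ι → (t x' ∈ U ↔ x' ∈ C) := fun x' hx' =>
    (hUI (t x') (by rw [htf']; exact hx')).trans t.isOpenEmbedding.injective.mem_set_image
  -- the open part of the compactification, mapped to `X`
  let Uo : j.image.Opens := ⟨U, hU.isOpen⟩
  haveI : IsClosedImmersion Uo.ι := IsClosedImmersion.of_isPreimmersion _ (by
    rw [Scheme.Opens.range_ι]; exact hU.isClosed)
  let q : (Uo : Scheme.{u}) ⟶ X' := IsOpenImmersion.lift t Uo.ι (by
    rw [Scheme.Opens.range_ι]; exact hUt)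
  have hq : q ≫ t = Uo.ι := IsOpenImmersion.lift_fac _ _ _
  have hqf : (q ≫ π) ≫ f = Uo.ι ≫ fb := by rw [Category.assoc, ← htf, ← Category.assoc, hq]
  haveI : IsProper ((q ≫ π) ≫ f) := by rw [hqf]; infer_instance
  haveI : IsProper (q ≫ π) := IsProper.of_comp (q ≫ π) f
  have hq' : ∀ v : ↥Uo, t (q v) = Uo.ι v := Groth.L27.HenselProper.app_eq hq
  have hqr : Set.range (q ≫ π) = π '' (t ⁻¹' U) := by
    rw [Scheme.Hom.comp_base, TopCat.coe_comp, Set.range_comp]
    congr 1
    ext x'
    constructor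
    · rintro ⟨v, rfl⟩
      show t (q v) ∈ U
      rw [hq']; exact v.2
    · intro hx'
      exact ⟨⟨t x', hx'⟩, t.isOpenEmbedding.injective (hq' _)⟩
  let W₁ : Set X := π '' (t ⁻¹' Uᶜ)
  have hW₀ : IsClosed (π '' (t ⁻¹' U)) := π.isClosedMap _ (hU.isClosed.preimage t.continuous)
  have hW₁ : IsClosed W₁ := π.isClosedMap _ (hU.compl.isClosed.preimage t.continuous)
  have hemp : (q ≫ π) ⁻¹' W₁ = (∅ : Set ↥Uo) := by
    refine Groth.L27.HenselProper.closed_eq_empty_general I ((q ≫ π) ≫ f)
      (hW₁.preimage (q ≫ π).continuous) (Set.disjoint_left.mpr ?_)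
    intro v hv hv₁
    have hv' : f (π (q v)) ∈ Set.range ι := by
      rw [Scheme.Pullback.range_fst] at hv
      simpa only [Set.mem_preimage, Scheme.Hom.comp_apply] using hv
    obtain ⟨x'', hx'', hxe⟩ := hv₁
    rw [Scheme.Hom.comp_apply] at hxe
    have hvC : q v ∈ C := (hUC _ hv').mp (by rw [hq']; exact v.2)
    have hx''C : x'' ∈ C := by
      show π x'' ∈ i₀ '' _
      rw [hxe]; exact hvC
    exact hx'' ((hUC x'' (hxe ▸ hv')).mpr hx''C)
  have hcompl : π '' (t ⁻¹' U) = W₁ᶜ := by
    ext x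
    constructor
    · intro hx hx₁
      obtain ⟨v, rfl⟩ := hqr.symm.le hx
      exact hemp.le hx₁
    · intro hx
      obtain ⟨x', rfl⟩ := π.surjective x
      exact ⟨x', by_contra fun h => hx ⟨x', h, rfl⟩, rfl⟩
  refine ⟨⟨π '' (t ⁻¹' U), hcompl ▸ hW₁.isOpen_compl⟩, hW₀, ?_, ?_⟩
  · set W : X.Opens := ⟨π '' (t ⁻¹' U), hcompl ▸ hW₁.isOpen_compl⟩ with hWdef
    haveI : IsClosedImmersion W.ι := IsClosedImmersion.of_isPreimmersion _ (by
      rw [Scheme.Opens.range_ι]; exact hW₀)
    let l : (Uo : Scheme.{u}) ⟶ (W : Scheme.{u}) := IsOpenImmersion.lift W.ι (q ≫ π) (by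
      rw [Scheme.Opens.range_ι]; exact hqr.le)
    have hl : l ≫ W.ι = q ≫ π := IsOpenImmersion.lift_fac _ _ _
    haveI : Surjective l := ⟨fun w => by
      obtain ⟨v, hv⟩ := hqr.symm.le w.2
      exact ⟨v, W.ι.isEmbedding.injective ((Groth.L27.HenselProper.app_eq hl v).trans hv)⟩⟩
    haveI : UniversallyClosed (l ≫ W.ι ≫ f) := by
      rw [← Category.assoc, hl]; infer_instance
    haveI : UniversallyClosed (W.ι ≫ f) := UniversallyClosed.of_comp_surjective l (W.ι ≫ f)
    exact { }
  · refine TopologicalSpace.Opens.ext (Set.ext fun z => ?_)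
    show i₀ z ∈ π '' (t ⁻¹' U) ↔ z ∈ Y
    have hz : f (i₀ z) ∈ Set.range ι := hr₀.le ⟨z, rfl⟩
    constructor
    · rintro ⟨x', hx', he⟩
      obtain ⟨z', hz', he'⟩ : π x' ∈ i₀ '' (Y : Set _) := (hUC x' (by rw [he]; exact hz)).mp hx'
      exact i₀.isEmbedding.injective (he'.trans he) ▸ hz'
    · intro hzY
      obtain ⟨x', he⟩ := π.surjective (i₀ z)
      exact ⟨x', (hUC x' (by rw [he]; exact hz)).mpr ⟨z, hzY, he.symm⟩, he⟩

end Groth.Agent.S1366
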