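import Groth.Statements.S9383
import Groth.Agent.L20.Pinch.Props

set_option autoImplicit false
universe u
open QCohSub

set_option linter.style.haveILetI false
set_option backward.isDefEq.respectTransparency.types false

namespace Groth.Agent.S9383

open AlgebraicGeometry CategoryTheory in
theorem app_comm {A B S : Scheme.{u}} (ιA : A ⟶ S) (ιB : B ⟶ S) (f : A ⟶ B) (h : f ≫ ιB = ιA)
    (W : S.Opens) (e : ιA ⁻¹ᵁ W ≤ f ⁻¹ᵁ (ιB ⁻¹ᵁ W)) (s : Γ(S, W)) :
    f.appLE (ιB ⁻¹ᵁ W) (ιA ⁻¹ᵁ W) e (ιB.app W s) = ιA.app W s := by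
  subst h
  rw [Scheme.Hom.app_eq_appLE, Scheme.Hom.app_eq_appLE, ← CommRingCat.comp_apply,
    Scheme.Hom.appLE_comp_appLE]

open AlgebraicGeometry CategoryTheory in
/-- For closed subschemes X, Y ⊆ S with ideal sheaves I, J, the scheme-theoretic union (ideal sheaf I ⊓
J) is the pushout, in the category of schemes, of X and Y along the scheme-theoretic intersection
(ideal sheaf I ⊔ J). The exact sequence 0 → O_{X∪Y} → O_X × O_Y → O_{X∩Y} → 0 is not stated. -/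
theorem result (S : Scheme.{u}) (I J : S.IdealSheafData) :
    IsPushout (Scheme.IdealSheafData.inclusion (le_sup_left : I ≤ I ⊔ J))
      (Scheme.IdealSheafData.inclusion (le_sup_right : J ≤ I ⊔ J))
      (Scheme.IdealSheafData.inclusion (inf_le_left : I ⊓ J ≤ I))
      (Scheme.IdealSheafData.inclusion (inf_le_right : I ⊓ J ≤ J)) := by
  set i := Scheme.IdealSheafData.inclusion (le_sup_left : I ≤ I ⊔ J)
  set j := Scheme.IdealSheafData.inclusion (le_sup_right : J ≤ I ⊔ J)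
  set a := Scheme.IdealSheafData.inclusion (inf_le_left : I ⊓ J ≤ I)
  set b := Scheme.IdealSheafData.inclusion (inf_le_right : I ⊓ J ≤ J)
  have hi : i ≫ I.subschemeι = (I ⊔ J).subschemeι := Scheme.IdealSheafData.inclusion_subschemeι _
  have hj : j ≫ J.subschemeι = (I ⊔ J).subschemeι := Scheme.IdealSheafData.inclusion_subschemeι _
  have ha : a ≫ (I ⊓ J).subschemeι = I.subschemeι := Scheme.IdealSheafData.inclusion_subschemeι _
  have hb : b ≫ (I ⊓ J).subschemeι = J.subschemeι := Scheme.IdealSheafData.inclusion_subschemeι _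
  have hcomm : i ≫ a = j ≫ b := by
    rw [← cancel_mono (I ⊓ J).subschemeι, Category.assoc, Category.assoc, ha, hb, hi, hj]
  refine Groth.L20.Pinch.IsPinch.isPushout ⟨hcomm, fun p => ?_⟩
  obtain ⟨W, hW, hpW, -⟩ := exists_isAffineOpen_mem_and_subset (X := S)
    (x := (I ⊓ J).subschemeι p) (U := ⊤) (TopologicalSpace.Opens.mem_top _)
  let k : Groth.L20.Pinch.Pair i j :=
    ⟨I.subschemeι ⁻¹ᵁ W, J.subschemeι ⁻¹ᵁ W, hW.preimage _, hW.preimage _,
      by rw [← Scheme.Hom.comp_preimage, ← Scheme.Hom.comp_preimage, hi, hj]⟩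
  have hP : IsAffineOpen ((I ⊓ J).subschemeι ⁻¹ᵁ W) := hW.preimage _
  have eU : k.U ≤ a ⁻¹ᵁ ((I ⊓ J).subschemeι ⁻¹ᵁ W) := by
    rw [← Scheme.Hom.comp_preimage, ha]
  have eV : k.V ≤ b ⁻¹ᵁ ((I ⊓ J).subschemeι ⁻¹ᵁ W) := by
    rw [← Scheme.Hom.comp_preimage, hb]
  let τ : Γ((I ⊓ J).subscheme, (I ⊓ J).subschemeι ⁻¹ᵁ W) →+* k.R :=
    (((b.appLE _ k.V eV).hom).prod ((a.appLE _ k.U eU).hom)).codRestrict _ fun t => by
      show j.appLE k.V (i ⁻¹ᵁ k.U) k.eq.le (b.appLE _ k.V eV t) = i.app k.U (a.appLE _ k.U eU t)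
      rw [Scheme.Hom.app_eq_appLE, ← CommRingCat.comp_apply, ← CommRingCat.comp_apply,
        Scheme.Hom.appLE_comp_appLE, Scheme.Hom.appLE_comp_appLE]
      simp only [hcomm]
  have hI : ∀ s : Γ(S, W), I.subschemeι.app W s = 0 ↔ s ∈ I.ideal ⟨W, hW⟩ := fun s => by
    rw [← I.ker_subschemeι_app ⟨W, hW⟩]; rfl
  have hJ : ∀ s : Γ(S, W), J.subschemeι.app W s = 0 ↔ s ∈ J.ideal ⟨W, hW⟩ := fun s => by
    rw [← J.ker_subschemeι_app ⟨W, hW⟩]; rfl
  have hIJ : ∀ s : Γ(S, W), (I ⊔ J).subschemeι.app W s = 0 ↔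
      s ∈ I.ideal ⟨W, hW⟩ ⊔ J.ideal ⟨W, hW⟩ := fun s => by
    rw [show I.ideal ⟨W, hW⟩ ⊔ J.ideal ⟨W, hW⟩ = (I ⊔ J).ideal ⟨W, hW⟩ from rfl,
      ← (I ⊔ J).ker_subschemeι_app ⟨W, hW⟩]; rfl
  have hInf : ∀ s : Γ(S, W), (I ⊓ J).subschemeι.app W s = 0 ↔
      s ∈ I.ideal ⟨W, hW⟩ ⊓ J.ideal ⟨W, hW⟩ := fun s => by
    rw [show I.ideal ⟨W, hW⟩ ⊓ J.ideal ⟨W, hW⟩ = (I ⊓ J).ideal ⟨W, hW⟩ from rfl,
      ← (I ⊓ J).ker_subschemeι_app ⟨W, hW⟩]; rfl
  have ta : ∀ s, (τ ((I ⊓ J).subschemeι.app W s)).1.2 = I.subschemeι.app W s :=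
    app_comm _ _ a ha W eU
  have tb : ∀ s, (τ ((I ⊓ J).subschemeι.app W s)).1.1 = J.subschemeι.app W s :=
    app_comm _ _ b hb W eV
  have tinj : Function.Injective τ := by
    refine (injective_iff_map_eq_zero τ).mpr fun t ht => ?_
    obtain ⟨s, rfl⟩ := (I ⊓ J).subschemeι.app_surjective W hW t
    refine (hInf s).mpr ⟨(hI s).mp ?_, (hJ s).mp ?_⟩
    · rw [← ta, ht]; rfl
    · rw [← tb, ht]; rfl
  have eZ : (I ⊔ J).subschemeι ⁻¹ᵁ W = i ⁻¹ᵁ k.U := by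
    rw [← hi]; rfl
  have key : ∀ s, i.app k.U (I.subschemeι.app W s) =
      (I ⊔ J).subscheme.presheaf.map (eqToHom eZ.symm).op ((I ⊔ J).subschemeι.app W s) := fun s => by
    rw [Scheme.Hom.app_eq_appLE, Scheme.Hom.app_eq_appLE, Scheme.Hom.app_eq_appLE,
      ← CommRingCat.comp_apply, ← CommRingCat.comp_apply, Scheme.Hom.appLE_comp_appLE,
      Scheme.Hom.appLE_map]
    simp only [hi]
  have key' : ∀ s, j.appLE k.V (i ⁻¹ᵁ k.U) k.eq.le (J.subschemeι.app W s) =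
      (I ⊔ J).subscheme.presheaf.map (eqToHom eZ.symm).op ((I ⊔ J).subschemeι.app W s) := fun s => by
    rw [Scheme.Hom.app_eq_appLE, Scheme.Hom.app_eq_appLE,
      ← CommRingCat.comp_apply, ← CommRingCat.comp_apply, Scheme.Hom.appLE_comp_appLE,
      Scheme.Hom.appLE_map]
    simp only [hj]
  have tsurj : Function.Surjective τ := by
    rintro ⟨⟨v, u⟩, hvu⟩
    obtain ⟨s1, rfl⟩ := J.subschemeι.app_surjective W hW v
    obtain ⟨s2, rfl⟩ := I.subschemeι.app_surjective W hW u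
    replace hvu : j.appLE k.V (i ⁻¹ᵁ k.U) k.eq.le (J.subschemeι.app W s1) =
        i.app k.U (I.subschemeι.app W s2) := hvu
    rw [key, key'] at hvu
    have h0 : (I ⊔ J).subschemeι.app W (s1 - s2) = 0 := by
      rw [map_sub, sub_eq_zero]
      exact ((ConcreteCategory.bijective_of_isIso _).1 hvu)
    obtain ⟨x, hx, y, hy, hxy⟩ := Submodule.mem_sup.mp ((hIJ _).mp h0)
    refine ⟨(I ⊓ J).subschemeι.app W (s1 - y), Subtype.ext (Prod.ext ?_ ?_)⟩
    · show (τ _).1.1 = _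
      rw [tb, map_sub, (hJ y).mpr hy, sub_zero]
    · show (τ _).1.2 = _
      rw [ta, show s1 - y = x + s2 by linear_combination -hxy, map_add, (hI x).mpr hx, zero_add]
  let e := RingEquiv.ofBijective τ ⟨tinj, tsurj⟩
  haveI : IsIso (CommRingCat.ofHom τ) := (e.toCommRingCatIso).isIso_hom
  have hsur : Set.range (Spec.map (CommRingCat.ofHom τ)) = Set.univ := Set.range_eq_univ.mpr fun y =>
    ⟨inv (Spec.map (CommRingCat.ofHom τ)) y, by rw [← Scheme.Hom.comp_apply, IsIso.inv_hom_id]; rfl⟩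
  refine ⟨k, Spec.map (CommRingCat.ofHom τ) ≫ hP.fromSpec, inferInstance, ?_, ?_, ?_, ?_, ?_⟩
  · rw [Scheme.Hom.comp_base, TopCat.coe_comp, Set.range_comp,
      hsur, Set.image_univ,
      hP.range_fromSpec]
    exact hpW
  · rw [← Category.assoc, Groth.L20.Pinch.Pair.inX, Groth.L09.Patch.sp, ← Spec.map_comp,
      show CommRingCat.ofHom τ ≫ CommRingCat.ofHom k.p2 = a.appLE _ k.U eU from rfl,
      IsAffineOpen.SpecMap_appLE_fromSpec]
  · rw [← Category.assoc, Groth.L20.Pinch.Pair.inY, Groth.L09.Patch.sp, ← Spec.map_comp,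
      show CommRingCat.ofHom τ ≫ CommRingCat.ofHom k.p1 = b.appLE _ k.V eV from rfl,
      IsAffineOpen.SpecMap_appLE_fromSpec]
  · rw [Scheme.Hom.comp_base, TopCat.coe_comp, Set.range_comp,
      hsur, Set.image_univ,
      hP.range_fromSpec]
    show ((a ⁻¹ᵁ ((I ⊓ J).subschemeι ⁻¹ᵁ W)) : Set I.subscheme) = _
    rw [← Scheme.Hom.comp_preimage, ha]
  · rw [Scheme.Hom.comp_base, TopCat.coe_comp, Set.range_comp,
      hsur, Set.image_univ,
      hP.range_fromSpec]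
    show ((b ⁻¹ᵁ ((I ⊓ J).subschemeι ⁻¹ᵁ W)) : Set J.subscheme) = _
    rw [← Scheme.Hom.comp_preimage, hb]

end Groth.Agent.S9383
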