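import Groth.Statements.S19554
import Groth.Agent.S9559
import Groth.Agent.L27.EtSite.Points
import Mathlib.CategoryTheory.Sites.PreservesLocallyBijective
import Mathlib.CategoryTheory.Sites.Over
import Mathlib.AlgebraicGeometry.Limits
set_option backward.isDefEq.respectTransparency.types false
set_option linter.style.haveILetI false
-- import your own Groth.Agent.* helpers here

set_option autoImplicit false
universe u
open CategoryTheory CategoryTheory.Limits AlgebraicGeometry
open CohProp

namespace Groth.Agent.S19554

section Site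

universe w v'

variable {C : Type w} [Category.{v'} C] (J : GrothendieckTopology C)

/-- In the constant case: a locally bijective map from a constant presheaf identifies the sheafifications over an object. -/
theorem over_iso_const {A : Type (u + 1)} (U : C) (P : Cᵒᵖ ⥤ Type (u + 1))
    [HasWeakSheafify J (Type (u + 1))] [HasWeakSheafify (J.over U) (Type (u + 1))]
    [J.WEqualsLocallyBijective (Type (u + 1))] [(J.over U).WEqualsLocallyBijective (Type (u + 1))]
    (η : (Over.forget U).op ⋙ (Functor.const Cᵒᵖ).obj A ⟶ (Over.forget U).op ⋙ P)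
    [Presheaf.IsLocallyInjective (J.over U) η] [Presheaf.IsLocallySurjective (J.over U) η] :
    Nonempty (((presheafToSheaf J (Type (u + 1))).obj P).over U ≅
      ((constantSheaf J (Type (u + 1))).obj A).over U) := by
  let a := Functor.whiskerLeft (Over.forget U).op (toSheafify J P)
  let c := Functor.whiskerLeft (Over.forget U).op (toSheafify J ((Functor.const Cᵒᵖ).obj A))
  haveI : Presheaf.IsLocallyInjective (J.over U) a := Presheaf.isLocallyInjective_whisker (J.over U) J _ _
  haveI : Presheaf.IsLocallySurjective (J.over U) a := Presheaf.isLocallySurjective_whisker (J.over U) J _ _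
  haveI : Presheaf.IsLocallyInjective (J.over U) c := Presheaf.isLocallyInjective_whisker (J.over U) J _ _
  haveI : Presheaf.IsLocallySurjective (J.over U) c := Presheaf.isLocallySurjective_whisker (J.over U) J _ _
  haveI : IsIso ((presheafToSheaf (J.over U) (Type (u + 1))).map (η ≫ a)) :=
    (GrothendieckTopology.W_iff _ _).1 (GrothendieckTopology.W_of_isLocallyBijective _ (η ≫ a))
  haveI : IsIso ((presheafToSheaf (J.over U) (Type (u + 1))).map c) :=
    (GrothendieckTopology.W_iff _ _).1 (GrothendieckTopology.W_of_isLocallyBijective _ c)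
  exact ⟨sheafificationIso (((presheafToSheaf J (Type (u + 1))).obj P).over U) ≪≫
    (asIso ((presheafToSheaf (J.over U) (Type (u + 1))).map (η ≫ a))).symm ≪≫
    asIso ((presheafToSheaf (J.over U) (Type (u + 1))).map c) ≪≫
    (sheafificationIso (((constantSheaf J (Type (u + 1))).obj A).over U)).symm⟩

end Site

/-- For any scheme S and any finite étale morphism f : X → S, the sheaf of sets h_X on the small étale
site of S attached to the étale S-scheme X is finite locally constant: S admits a jointly surjective
family of étale S-schemes over each member of which h_X becomes isomorphic to a constant sheaf with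
finite value. (This is the first assertion of the published result, that X ↦ h_X sends finite étale
S-schemes to finite locally constant sheaves of sets; the equivalence it goes on to assert is not
stated here.) -/
theorem result (S X : Scheme.{u}) (f : X ⟶ S) [Etale f] [IsFinite f] :
    CohProp.IsFinLocConstSet (EtDesc.repSh (Scheme.Etale.mk f)) := by
  classical
  choose T g hg u hu n V c hc e he using fun x => Groth.Agent.S9559.result f x
  haveI := fun x => hg x
  let U : S → S.Etale := fun x => Scheme.Etale.mk (g x)
  refine ⟨S, U, fun x => ⟨x, u x, hu x⟩, fun x => ⟨ULift.{u + 1} (Fin (n x)), inferInstance, ?_⟩⟩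
  haveI := fun j => hc x j
  let Xet : S.Etale := Scheme.Etale.mk f
  let σ : ∀ k, V x k ⟶ pullback f (g x) := fun k => Sigma.ι (V x) k ≫ (e x).hom
  have hσ : ∀ k, σ k ≫ pullback.snd f (g x) = c x k := fun k => (Category.assoc _ _ _).trans (he x k)
  let s : ∀ k, T x ⟶ X := fun k => inv (c x k) ≫ σ k ≫ pullback.fst f (g x)
  have hs : ∀ k, s k ≫ f = g x := fun k => by
    simp only [s, Category.assoc, pullback.condition]
    rw [← Category.assoc (σ k), hσ, IsIso.inv_hom_id_assoc]
  let sE : ∀ k, U x ⟶ Xet := fun k => MorphismProperty.Over.homMk (s k) (hs k)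
  let η : (Over.forget (U x)).op ⋙ (Functor.const S.Etaleᵒᵖ).obj (ULift.{u + 1} (Fin (n x))) ⟶
      (Over.forget (U x)).op ⋙ yoneda.obj Xet ⋙ uliftFunctor.{u + 1, u} :=
    { app := fun W => TypeCat.ofHom fun k => ULift.up (W.unop.hom ≫ sE k.down)
      naturality := fun W W' φ => ConcreteCategory.hom_ext _ _ fun k => by
        refine congrArg ULift.up ?_
        show W'.unop.hom ≫ sE k.down = φ.unop.left ≫ W.unop.hom ≫ sE k.down
        rw [← Category.assoc, Over.w φ.unop] }
  have hdis : ∀ k l : Fin (n x), k ≠ l → ∀ z, z ∈ Set.range (σ k).base → z ∉ Set.range (σ l).base := by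
    intro k l hkl z hk hl
    obtain ⟨a, rfl⟩ := hk
    obtain ⟨b, hb⟩ := hl
    refine (disjoint_opensRange_sigmaι (V x) k l hkl).le_bot (x := Sigma.ι (V x) k a) ⟨⟨a, rfl⟩, ⟨b, ?_⟩⟩
    exact (e x).hom.isOpenEmbedding.injective hb
  haveI : Presheaf.IsLocallyInjective (S.smallEtaleTopology.over (U x)) η := by
    refine ⟨fun {W} k l h => ?_⟩
    rcases eq_or_ne k l with rfl | hkl
    · rw [Presheaf.equalizerSieve_self_eq_top]
      exact GrothendieckTopology.top_mem _ _
    refine GrothendieckTopology.superset_covering _ bot_le ?_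
    rw [GrothendieckTopology.mem_over_iff, Groth.L27.EtSite.mem_topology_iff]
    intro z
    exfalso
    let w : W.unop.left.left ⟶ T x := W.unop.hom.left
    have h1 : w ≫ s k.down = w ≫ s l.down :=
      congrArg (fun m => (ULift.down m : W.unop.left ⟶ Xet).left) h
    have h2 : ∀ j, (w ≫ inv (c x j)) ≫ σ j =
        pullback.lift (w ≫ s j) w (by rw [Category.assoc, hs]) := fun j => by
      apply pullback.hom_ext
      · rw [pullback.lift_fst]; simp only [s, Category.assoc]
      · rw [pullback.lift_snd, Category.assoc, hσ]; simp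
    have h3 : ((w ≫ inv (c x k.down)) ≫ σ k.down).base z = ((w ≫ inv (c x l.down)) ≫ σ l.down).base z := by
      refine congrArg (fun m : W.unop.left.left ⟶ pullback f (g x) => m.base z) ?_
      rw [h2, h2]
      exact pullback.hom_ext (by rw [pullback.lift_fst, pullback.lift_fst, h1])
        (by rw [pullback.lift_snd, pullback.lift_snd])
    exact hdis k.down l.down (fun hh => hkl (ULift.ext _ _ hh)) _
      ⟨(w ≫ inv (c x k.down)).base z, rfl⟩ ⟨(w ≫ inv (c x l.down)).base z, h3.symm⟩
  haveI : Presheaf.IsLocallySurjective (S.smallEtaleTopology.over (U x)) η := by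
    refine ⟨fun {W} h => ?_⟩
    rw [GrothendieckTopology.mem_over_iff, Groth.L27.EtSite.mem_topology_iff]
    intro z
    let w : W.left.left ⟶ T x := W.hom.left
    let h' : W.left ⟶ Xet := h.down
    have hh : h'.left ≫ f = w ≫ g x :=
      (MorphismProperty.Over.w h').trans (MorphismProperty.Over.w W.hom).symm
    let t : W.left.left ⟶ pullback f (g x) := pullback.lift h'.left w hh
    obtain ⟨k, a, hka⟩ := (sigmaOpenCover (V x)).exists_eq ((e x).inv.base (t.base z))
    change Fin (n x) at k
    have hk : t.base z ∈ Set.range (σ k).base := by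
      refine ⟨a, ?_⟩
      show (e x).hom.base (Sigma.ι (V x) k a) = _
      rw [show Sigma.ι (V x) k a = (e x).inv.base (t.base z) from hka]
      exact congrArg (fun m : pullback f (g x) ⟶ pullback f (g x) => m.base (t.base z)) (e x).inv_hom_id
    haveI : IsOpenImmersion (σ k) := inferInstanceAs (IsOpenImmersion (Sigma.ι (V x) k ≫ (e x).hom))
    let O : W.left.left.Opens := t ⁻¹ᵁ (σ k).opensRange
    let wS : W.left.left ⟶ S := W.left.hom
    haveI : Etale wS := W.left.prop
    haveI : Etale (O.ι ≫ wS) := inferInstance
    let W' : S.Etale := Scheme.Etale.mk (O.ι ≫ wS)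
    let i : W' ⟶ W.left := MorphismProperty.Over.homMk O.ι rfl
    refine ⟨W', i, ⟨z, hk⟩, ?_, rfl⟩
    rw [Sieve.overEquiv_iff]
    refine ⟨ULift.up k, congrArg ULift.up (MorphismProperty.Over.Hom.ext ?_)⟩
    show (O.ι ≫ w) ≫ s k = O.ι ≫ h'.left
    have hr : Set.range (O.ι ≫ t).base ⊆ Set.range (σ k).base := by
      rintro _ ⟨y, rfl⟩
      exact y.2
    let l := IsOpenImmersion.lift (σ k) (O.ι ≫ t) hr
    have hl : l ≫ σ k = O.ι ≫ t := IsOpenImmersion.lift_fac _ _ _
    have h4 : l ≫ c x k = O.ι ≫ w := by
      rw [← hσ, ← Category.assoc, hl, Category.assoc, pullback.lift_snd]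
    have h5 : (O.ι ≫ w) ≫ inv (c x k) = l := by rw [← h4, Category.assoc, IsIso.hom_inv_id, Category.comp_id]
    rw [← Category.assoc, h5, ← Category.assoc, hl, Category.assoc, pullback.lift_fst]
    rfl
  exact over_iso_const.{u} S.smallEtaleTopology (U x) _ η

end Groth.Agent.S19554
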