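import Groth.Prelude.Def_CAlg
import Groth.Prelude.Def_FDesc
import Mathlib.AlgebraicGeometry.Morphisms.FinitePresentation
import Mathlib.AlgebraicGeometry.Fiber
import Mathlib.Topology.Constructible
import Mathlib.RingTheory.IntegralClosure.IntegrallyClosed
import Mathlib.RingTheory.LocalRing.ResidueField.Defs
import Groth.Agent.L07.GeomRk.Fib

set_option autoImplicit false
namespace Cons9
end Cons9
open CategoryTheory AlgebraicGeometry
universe u
open Cons9

namespace Groth.Agent.S4827

/-- Let f : X ⟶ S be a morphism of finite presentation (locally of finite presentation, quasi-compact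
and quasi-separated). Then the set of points s of S whose fibre X_s is geometrically normal over
κ(s), i.e. such that for every extension field K of κ(s) all local rings of X_s ⊗_{κ(s)} K are
integrally closed domains, is locally constructible in S. This is the case of geometric normality. -/
theorem result {X S : Scheme.{u}} (f : X ⟶ S)
    [LocallyOfFinitePresentation f] [QuasiCompact f] [QuasiSeparated f] :
    Topology.IsLocallyConstructible {s : S |
      ∀ (K : Type u) [Field K] [Algebra (IsLocalRing.ResidueField (S.presheaf.stalk s)) K]
        (x' : ↥(FBase.bc (f.fiberToSpecResidueField s) K)),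
        IsDomain ((FBase.bc (f.fiberToSpecResidueField s) K).presheaf.stalk x') ∧
          IsIntegrallyClosed ((FBase.bc (f.fiberToSpecResidueField s) K).presheaf.stalk x')} := by
  refine (congrArg Topology.IsLocallyConstructible (Set.ext fun s => ?_)).mp
    (Groth.L28.Fib.isLocallyConstructible_setOf_fibre_subset_empty f
      (Groth.L28.Fib.isLocallyConstructible_compl (Groth.L07.GeomRk.isLocallyConstructible_normal f)))
  refine Iff.trans ?_ ((L02.FibDepth.forall_fiber_iff (f := f) (P := fun s w =>
    Groth.L07.GeomRk.GeomAt (f.fiberToSpecResidueField s) (fun _ _ _ => True)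
      (fun R _ => IsDomain R ∧ IsIntegrallyClosed R) w) s).symm.trans ?_)
  · exact forall_congr' fun x => forall_congr' fun _ => not_not.trans
      (Groth.L07.GeomRk.normal_iff f x (fun _ _ _ => True) fun _ _ _ _ => trivial).symm
  · exact ⟨fun h K _ _ x' => h _ K trivial x' rfl, fun h w K _ _ _ x' _ => h K x'⟩

end Groth.Agent.S4827
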