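import Groth.Statements.S1322
import Groth.Agent.L20.ThickeningFlat
import Groth.Agent.S1310

set_option autoImplicit false
universe u
open FlatMor

namespace Groth.Agent.S1322

open AlgebraicGeometry CategoryTheory Limits in
/-- Let S ⟶ S' be a finite order thickening, let X' ⟶ Y' be a morphism of schemes over S' with X' flat
over S', and let X ⟶ Y be its base change to S. Then X ⟶ Y is étale if and only if X' ⟶ Y' is. -/
theorem result {X X' Y Y' S S' : Scheme.{u}} (iX : X ⟶ X') (iY : Y ⟶ Y') (iS : S ⟶ S')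
    (f : X ⟶ Y) (f' : X' ⟶ Y') (g : Y ⟶ S) (g' : Y' ⟶ S')
    (hS : MoreMor.IsFiniteOrderThickening iS) (hcX : IsPullback iX (f ≫ g) (f' ≫ g') iS) (hcY : IsPullback iY g g' iS)
    (w : iX ≫ f' = f ≫ iY) [Flat (f' ≫ g')] :
    Etale f ↔ Etale f' := by
  obtain ⟨hc, hY⟩ := Groth.L20.Thick.deform_setting hS hcX hcY w
  have := hS.1.1
  refine ⟨fun h => ?_, fun h => MorphismProperty.of_isPullback hc h⟩
  have : Flat f' := Groth.L20.Thick.flat_of_deform hS.2 hcX hcY w
  have : LocallyOfFinitePresentation f' := Groth.L20.Thick.locallyOfFinitePresentation_of_deform hS.2 hcX hcY w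
  have : FormallyUnramified f' := (Groth.Agent.S1310.result iX iY f f' hY hc).mp inferInstance
  exact Etale.of_formallyUnramified_of_flat f'

end Groth.Agent.S1322
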