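import Groth.Statements.S10203
import Groth.Agent.L23.QsTop2
import Groth.Agent.L23.Decent3

set_option autoImplicit false
set_option backward.isDefEq.respectTransparency.types false
universe u
open CategoryTheory CategoryTheory.Limits AlgebraicGeometry Topology TopologicalSpace
open AlgSp

namespace Groth.Agent.S10203

/-- If X is a quasi-compact, locally Noetherian algebraic space over a scheme S, then |X| is a
Noetherian topological space. -/
theorem result {S : Scheme.{u}} (X : AlgSp.Space S)
    (hqc : AlgSp.IsQuasiCompactSp X.obj) (hX : AlgSp.IsLocNoethSp X.obj) :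
    NoetherianSpace (AlgSp.Points X.obj) := by
  obtain ⟨U, a, hU, ha, has⟩ := Groth.L23.Qs.exists_affine_atlas X.property hqc
  have := Groth.L23.Pt.isLocallyNoetherian_of_chart X.property hX ha
  have : IsNoetherian U.left := ⟨⟩
  exact TopologicalSpace.noetherianSpace_of_surjective _ (AlgSp.Points.continuous_ofPt a) (Groth.L23.surjective_ofPt has)

end Groth.Agent.S10203
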