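import Groth.Statements.S12444
import Groth.Agent.L06.Catenary

set_option autoImplicit false
set_option linter.style.haveILetI false
universe u
open PtTop

namespace Groth.Agent.S12444

/-- A topological space X is catenary if and only if it has an open covering by catenary subspaces
(here: every point has a catenary open neighbourhood); and if X is catenary then so is every locally
closed subspace of X. -/
theorem result (X : Type u) [TopologicalSpace X] :
    (PtTop.IsCatenarySpace X ↔
      ∀ x : X, ∃ U : TopologicalSpace.Opens X, x ∈ U ∧ PtTop.IsCatenarySpace U) ∧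
    (PtTop.IsCatenarySpace X → ∀ S : Set X, IsLocallyClosed S → PtTop.IsCatenarySpace S) := by
  open Groth.L06.Catenary TopologicalSpace in
  have sub : PtTop.IsCatenarySpace X → ∀ S : Set X, IsLocallyClosed S → PtTop.IsCatenarySpace S :=
    fun h S hS a b hab => (catPair_closureEmb_iff hS a b).mpr (h _ _ ((closureEmb S).monotone hab))
  refine ⟨⟨fun h x => ⟨⊤, trivial, sub h _ isOpen_univ.isLocallyClosed⟩, fun h T T' hTT' => ?_⟩, sub⟩
  obtain ⟨x, hx⟩ := T.isIrreducible.1
  obtain ⟨U, hxU, hU⟩ := h x
  have hd : ∀ W : IrreducibleCloseds X, T ≤ W → W ∈ Set.range (closureEmb (U : Set X)) := fun W hW =>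
    mem_range_closureEmb U.2.isLocallyClosed ⟨x, hW hx, hxU⟩
      ((subset_closure_inter_of_isPreirreducible_of_isOpen W.isIrreducible.2 U.2 ⟨x, hW hx, hxU⟩).trans
        (closure_mono Set.inter_subset_right))
  obtain ⟨a, rfl⟩ := hd T le_rfl
  obtain ⟨b, rfl⟩ := hd T' hTT'
  exact (catPair_closureEmb_iff U.2.isLocallyClosed a b).mp (hU a b ((closureEmb (U : Set X)).le_iff_le.mp hTT'))

end Groth.Agent.S12444
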