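import Groth.Statements.S12447
import Groth.Agent.L06.DimensionFunction
import Groth.Agent.S12444

set_option autoImplicit false
set_option maxSynthPendingDepth 3
set_option linter.style.haveILetI false
universe u
open CategoryTheory AlgebraicGeometry
open Props

namespace Groth.Agent.S12447

/-- Let S be a locally Noetherian scheme. Then the underlying topological space of S is catenary if and
only if locally in the Zariski topology there is a dimension function, i.e. every point has an open
neighbourhood U carrying a function δ : U → ℤ which strictly decreases along nontrivial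
specializations and drops by exactly one along immediate specializations. -/
theorem result (S : Scheme.{u}) [IsLocallyNoetherian S] :
    PtTop.IsCatenarySpace S ↔
      ∀ s : S, ∃ U : S.Opens, s ∈ U ∧ ∃ δ : U → ℤ, PtTop.IsDimensionFunction δ := by
  constructor
  · intro hS s
    obtain ⟨W, hW, hsW, -⟩ := exists_isAffineOpen_mem_and_subset (U := ⊤) (x := s) trivial
    haveI : IsNoetherianRing Γ(S, W) := IsLocallyNoetherian.component_noetherian ⟨W, hW⟩
    haveI : TopologicalSpace.NoetherianSpace W.toScheme := noetherianSpace_of_isAffineOpen W hW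
    have hWc : PtTop.IsCatenarySpace W.toScheme :=
      (Groth.Agent.S12444.result S).2 hS (W : Set S) W.2.isLocallyClosed
    obtain ⟨U, hsU, δ, hδ⟩ :=
      Groth.L06.DimensionFunction.exists_dimensionFunction hWc (⟨s, hsW⟩ : W.toScheme)
    have he : Topology.IsEmbedding W.ι := W.ι.isOpenEmbedding.isEmbedding
    refine ⟨W.ι ''ᵁ U, ⟨⟨s, hsW⟩, hsU, rfl⟩, δ ∘ (he.homeomorphImage (U : Set W.toScheme)).symm, ?_⟩
    exact Groth.L06.DimensionFunction.of_homeomorph (he.homeomorphImage (U : Set W.toScheme)).symm hδ
  · intro h
    refine (Groth.Agent.S12444.result S).1.mpr fun s => ?_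
    obtain ⟨U, hs, δ, hδ⟩ := h s
    refine ⟨U, hs, ?_⟩
    haveI : QuasiSober U := U.isOpenEmbedding'.quasiSober
    exact Groth.L18.Cat.isCatenarySpace_iff_oCat.mpr
      (@Groth.L06.DimensionFunction.oCat_of_dimensionFunction _ _ U.isOpenEmbedding'.quasiSober
        U.isOpenEmbedding'.isEmbedding.t0Space _ hδ)

end Groth.Agent.S12447
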