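import Groth.Statements.S5792
import Groth.Agent.L06.Dim

set_option autoImplicit false
universe u
open TopDim

namespace Groth.Agent.S5792

/-- For every topological space X one has dim(X) = sup_{x ∈ X} dim_x(X), the supremum of the local
combinatorial dimensions. -/
theorem result (X : Type u) [TopologicalSpace X] :
    topologicalKrullDim X = ⨆ x : X, FlatMor.localDim X x := by
  refine le_antisymm (iSup_le fun p => ?_) (iSup_le fun x => iInf_le_of_le ⟨⊤, trivial⟩ (topologicalKrullDim_subspace_le X _))
  obtain ⟨x, hx⟩ := p.head.isIrreducible.nonempty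
  exact le_iSup_of_le x (le_iInf fun U => Groth.L06.Dim.length_le_of_head_inter p U.1.2 ⟨x, hx, U.2⟩)

end Groth.Agent.S5792
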