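import Groth.Agent.L06.Dim
import Groth.Statements.S9798
-- import your own Groth.Agent.* helpers here

set_option autoImplicit false
universe u
open CategoryTheory AlgebraicGeometry TopologicalSpace
open Props

namespace Groth.Agent.S9798

/-- A point of a locally Noetherian scheme has local dimension zero exactly when it is isolated. -/
theorem result (X : Scheme.{u}) [IsLocallyNoetherian X] (x : X) :
    FlatMor.localDim X x = 0 ↔ IsOpen ({x} : Set X) := by
  constructor
  · intro h
    obtain ⟨U, hU⟩ : ∃ U : {U : TopologicalSpace.Opens X // x ∈ U}, topologicalKrullDim (U.1 : Set X) ≤ 0 := by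
      by_contra hne
      push Not at hne
      have h1 : (1 : WithBot ℕ∞) ≤ FlatMor.localDim X x := le_iInf fun U => by
        have hpos := hne U
        revert hpos
        generalize topologicalKrullDim (U.1 : Set X) = d
        induction d using WithBot.recBotCoe with
        | bot => simp
        | coe a => intro hpos; exact WithBot.coe_le_coe.mpr (Order.one_le_iff_pos.mpr (WithBot.coe_lt_coe.mp hpos))
      rw [h] at h1
      exact absurd h1 (not_le.mpr zero_lt_one)
    obtain ⟨_, ⟨V, hV, rfl⟩, hxV, hVU⟩ := X.isBasis_affineOpens.exists_subset_of_mem_open U.2 U.1.2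
    haveI : IsNoetherianRing Γ(X, V) := IsLocallyNoetherian.component_noetherian ⟨V, hV⟩
    haveI : TopologicalSpace.NoetherianSpace (V : Set X) := noetherianSpace_of_isAffineOpen V hV
    have hV0 : topologicalKrullDim (V : Set X) ≤ 0 :=
      ((Topology.IsEmbedding.inclusion hVU).isInducing.topologicalKrullDim_le).trans hU
    haveI := (Groth.L06.Dim.discreteTopology_of_dim_le_zero hV0).2
    have := V.2.isOpenMap_subtype_val _ (isOpen_discrete ({⟨x, hxV⟩} : Set (V : Set X)))
    rwa [Set.image_singleton] at this
  · intro hx
    refine le_antisymm ((iInf_le _ (⟨⟨{x}, hx⟩, rfl⟩ : {U : TopologicalSpace.Opens X // x ∈ U})).trans ?_)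
      (le_iInf fun U => ?_)
    · exact topologicalKrullDim_zero_of_discreteTopology (({x} : Set X))
    · haveI : Nonempty (U.1 : Set X) := ⟨⟨x, U.2⟩⟩
      exact Groth.L06.Dim.nonneg

end Groth.Agent.S9798
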