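
import Groth.Statements.S1571
import Groth.Agent.L22.Ideal
import Mathlib.AlgebraicGeometry.Morphisms.SchemeTheoreticallyDominant

set_option autoImplicit false
universe u
open CategoryTheory CategoryTheory.Limits AlgebraicGeometry
open Divisors

namespace Groth.Agent.S1571

/-- The open complement of an effective Cartier divisor is an affine open immersion and is
scheme-theoretically dense. -/
theorem result (S : Scheme.{u}) (D : S.IdealSheafData) (hD : BlowUp.IsEffCartierIdeal D) :
    IsAffineHom (Scheme.Opens.ι (X := S) D.support.compl) ∧ IsSchemeTheoreticallyDominant (Scheme.Opens.ι (X := S) D.support.compl) := by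
  have hmem : ∀ {U : S.affineOpens} {f : Γ(S, U.1)}, D.ideal U = Ideal.span {f} →
      ∀ {z : S}, z ∈ U.1 → (z ∈ D.support.compl ↔ z ∈ S.basicOpen f) := by
    intro U f hf z hz
    change z ∉ D.support ↔ _
    rw [Scheme.IdealSheafData.mem_support_iff_of_mem (U := U) hz, hf, Scheme.zeroLocus_span,
      Scheme.zeroLocus_singleton]
    exact not_not
  have haff : IsAffineHom (Scheme.Opens.ι (X := S) D.support.compl) := by
    refine isAffineHom_of_forall_exists_isAffineOpen _ fun z => ?_
    obtain ⟨U, hzU, f, -, hf⟩ := hD z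
    refine ⟨U.1, hzU, U.2, ?_⟩
    rw [← (Scheme.Opens.ι (X := S) D.support.compl).isAffineOpen_iff_of_isOpenImmersion,
      Scheme.Hom.image_preimage_eq_opensRange_inf, Scheme.Opens.opensRange_ι]
    suffices e : (D.support.compl : S.Opens) ⊓ U.1 = S.basicOpen f by
      rw [e]; exact U.2.basicOpen f
    refine TopologicalSpace.Opens.ext (Set.ext fun w =>
      ⟨fun h => (hmem hf h.2).1 h.1, fun h => ?_⟩)
    exact ⟨(hmem hf (S.basicOpen_le f h)).2 h, S.basicOpen_le f h⟩
  refine ⟨haff, ⟨?_⟩⟩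
  ext1
  funext V
  rw [Scheme.IdealSheafData.ideal_bot, Scheme.Hom.ker_apply, Pi.bot_apply, eq_bot_iff]
  intro s hs
  rw [RingHom.mem_ker] at hs
  rw [Ideal.mem_bot]
  refine TopCat.Presheaf.section_ext S.sheaf V.1 s 0 fun x hx => ?_
  change S.presheaf.germ V.1 x hx s = S.presheaf.germ V.1 x hx 0
  rw [map_zero]
  obtain ⟨U, hxU, e, -, -, hU⟩ := Groth.L22.Ideals.exists_generator hD x
  obtain ⟨_, ⟨W, hW, rfl⟩, hxW, hWle⟩ := S.isBasis_affineOpens.exists_subset_of_mem_open
    (show x ∈ V.1 ⊓ U.1 from ⟨hx, hxU⟩) (V.1 ⊓ U.1).2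
  have hWV : W ≤ V.1 := fun y hy => (hWle hy).1
  have hWU : W ≤ U.1 := fun y hy => (hWle hy).2
  obtain ⟨he, heI⟩ := hU ⟨W, hW⟩ hWU
  have hzero : S.presheaf.map (homOfLE hWV).op s = 0 := by
    refine Groth.L22.Mero.eq_zero_of_germ_eq_zero hW
      (Groth.L22.Mero.mem_regSub_of_mem_nonZeroDivisors hW he) _ ?_
    intro y hy hu
    rw [TopCat.Presheaf.germ_res_apply]
    have hyO : y ∈ (D.support.compl : S.Opens) :=
      (hmem (U := ⟨W, hW⟩) heI hy).2 ((S.mem_basicOpen _ y hy).2 hu)
    have hle : (D.support.compl : S.Opens) ⊓ V.1 ≤ V.1 := inf_le_right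
    rw [← TopCat.Presheaf.germ_res_apply S.presheaf (homOfLE hle) y ⟨hyO, hWV hy⟩ s]
    suffices h0 : S.presheaf.map (homOfLE hle).op s = 0 by rw [h0, map_zero]
    have hsub : Scheme.Opens.ι (X := S) D.support.compl ''ᵁ
        (Scheme.Opens.ι (X := S) D.support.compl ⁻¹ᵁ V.1) ≤ V.1 := Set.image_preimage_subset _ _
    have h1 : S.presheaf.map (homOfLE hsub).op s = 0 := hs
    have heq : (D.support.compl : S.Opens) ⊓ V.1 = Scheme.Opens.ι (X := S) D.support.compl ''ᵁ
        (Scheme.Opens.ι (X := S) D.support.compl ⁻¹ᵁ V.1) := by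
      rw [Scheme.Hom.image_preimage_eq_opensRange_inf, Scheme.Opens.opensRange_ι]
    have h2 := congrArg (S.presheaf.map (eqToHom heq).op) h1
    rw [← ConcreteCategory.comp_apply, ← Functor.map_comp, map_zero] at h2
    exact h2
  have := congrArg (S.presheaf.germ W x hxW) hzero
  rwa [map_zero, TopCat.Presheaf.germ_res_apply] at this

end Groth.Agent.S1571
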