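
import Groth.Statements.S8853
import Mathlib.AlgebraicGeometry.Morphisms.Affine

set_option autoImplicit false
universe u
open CategoryTheory CategoryTheory.Limits AlgebraicGeometry TopologicalSpace
open SDiv

namespace Groth.Agent.S8853

/-- Let Z be a locally principal closed subscheme of a scheme S, with ideal sheaf 𝓘 generated by a
single section on some affine open neighbourhood of each point of its support, and let U be the open
complement of Z. Then the inclusion U ⟶ S is an affine morphism. -/
theorem result {S : Scheme.{u}} (𝓘 : S.IdealSheafData) (h : Curv2.IsLocPrincipal 𝓘) :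
    IsAffineHom (Scheme.Opens.ι 𝓘.support.compl) := by
  refine isAffineHom_of_forall_exists_isAffineOpen _ fun x => ?_
  set C : S.Opens := 𝓘.support.compl with hC
  suffices H : ∃ W : S.Opens, x ∈ W ∧ IsAffineOpen W ∧ IsAffineOpen (C ⊓ W) by
    obtain ⟨W, hxW, hW, hCW⟩ := H
    refine ⟨W, hxW, hW, ?_⟩
    rw [← C.ι.isAffineOpen_iff_of_isOpenImmersion, Scheme.Hom.image_preimage_eq_opensRange_inf,
      Scheme.Opens.opensRange_ι]
    exact hCW
  by_cases hx : x ∈ 𝓘.support
  · obtain ⟨U, hxU, f, hf⟩ := h x hx
    refine ⟨U.1, hxU, U.2, ?_⟩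
    have : C ⊓ U.1 = S.basicOpen f := by
      refine Opens.ext (Set.ext fun y => ?_)
      constructor
      · rintro ⟨hyC, hyU⟩
        by_contra hy
        refine hyC ?_
        change y ∈ 𝓘.support
        rw [Scheme.IdealSheafData.mem_support_iff_of_mem (U := U) hyU, hf, Scheme.zeroLocus_span,
          Scheme.zeroLocus_singleton]
        exact hy
      · intro hy
        refine ⟨fun hmem => ?_, S.basicOpen_le f hy⟩
        have hmem' : y ∈ 𝓘.support := hmem
        rw [Scheme.IdealSheafData.mem_support_iff_of_mem (U := U) (S.basicOpen_le f hy), hf,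
          Scheme.zeroLocus_span, Scheme.zeroLocus_singleton] at hmem'
        exact hmem' hy
    rw [this]
    exact U.2.basicOpen f
  · obtain ⟨_, ⟨W, hW, rfl⟩, hxW, hWC⟩ := S.isBasis_affineOpens.exists_subset_of_mem_open
      (show x ∈ C from hx) C.2
    refine ⟨W, hxW, hW, ?_⟩
    rw [inf_eq_right.2 (show W ≤ C from hWC)]
    exact hW

end Groth.Agent.S8853
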