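import Groth.Statements.S1686
import Mathlib.RingTheory.KrullDimension.NonZeroDivisors
import Mathlib.AlgebraicGeometry.IdealSheaf.Subscheme
import Mathlib.Topology.KrullDimension

set_option autoImplicit false
universe u
open CategoryTheory CategoryTheory.Limits AlgebraicGeometry TopologicalSpace
open SDiv

namespace Groth.Agent.S1686

/-- Let D be the closed subscheme of an effective Cartier divisor on a scheme S and d a point of D with
image s in S. If the local dimension of S at s is finite, then the local dimension of D at d is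
strictly smaller. -/
theorem result (S : Scheme.{u}) (𝓘 : S.IdealSheafData) (h𝓘 : BlowUp.IsEffCartierIdeal 𝓘) (d : ↥𝓘.subscheme)
    (hfin : FlatMor.localDim ↥S (𝓘.subschemeι d) ≠ ⊤) :
    FlatMor.localDim ↥𝓘.subscheme d < FlatMor.localDim ↥S (𝓘.subschemeι d) := by
  set i := 𝓘.subschemeι with hi
  obtain ⟨⟨U, hU⟩, hUmin⟩ : ∃ U : {U : TopologicalSpace.Opens ↥S // i d ∈ U},
      topologicalKrullDim (U.1 : Set ↥S) = FlatMor.localDim ↥S (i d) := by
    haveI : Nonempty {U : TopologicalSpace.Opens ↥S // i d ∈ U} := ⟨⟨⊤, trivial⟩⟩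
    exact ciInf_mem (fun U : {U : TopologicalSpace.Opens ↥S // i d ∈ U} => topologicalKrullDim (U.1 : Set ↥S))
  obtain ⟨W, hdW, f, hf, hI⟩ := h𝓘 (i d)
  obtain ⟨g, hgU, hdg⟩ := W.2.exists_basicOpen_le (V := (U : S.Opens)) ⟨i d, hU⟩ hdW
  let W' := S.affineBasicOpen g
  haveI := W.2.isLocalization_basicOpen g
  have hI' : 𝓘.ideal W' = Ideal.span {algebraMap Γ(S, W.1) Γ(S, S.basicOpen g) f} := by
    rw [← 𝓘.map_ideal_basicOpen W g, hI, Ideal.map_span, Set.image_singleton]
    rfl
  have hf' : algebraMap Γ(S, W.1) Γ(S, S.basicOpen g) f ∈ nonZeroDivisors Γ(S, S.basicOpen g) :=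
    IsLocalization.map_nonZeroDivisors_le (Submonoid.powers g) Γ(S, S.basicOpen g) ⟨f, hf, rfl⟩
  have h1 : FlatMor.localDim ↥𝓘.subscheme d ≤ ringKrullDim (Γ(S, W'.1) ⧸ 𝓘.ideal W') := by
    refine iInf_le_of_le ⟨(𝓘.subschemeCover.f W').opensRange, ?_⟩ ?_
    · rw [Scheme.IdealSheafData.opensRange_subschemeCover_map]
      exact hdg
    · rw [← PrimeSpectrum.topologicalKrullDim_eq_ringKrullDim]
      exact ((𝓘.subschemeCover.f W').isOpenEmbedding.isEmbedding.toHomeomorph.symm.isHomeomorph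
        |>.topologicalKrullDim_eq _).le
  have h2 : ringKrullDim Γ(S, W'.1) ≤ FlatMor.localDim ↥S (i d) := by
    rw [← hUmin, ← PrimeSpectrum.topologicalKrullDim_eq_ringKrullDim]
    let φ : PrimeSpectrum Γ(S, W'.1) → (U : Set ↥S) := fun p =>
      ⟨W'.2.fromSpec p, hgU (W'.2.range_fromSpec.le ⟨p, rfl⟩)⟩
    have hφ : Topology.IsInducing φ :=
      Topology.IsInducing.codRestrict W'.2.fromSpec.isOpenEmbedding.isEmbedding.isInducing _
    exact hφ.topologicalKrullDim_le
  have h3 := ringKrullDim_quotient_succ_le_of_nonZeroDivisor hf'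
  rw [← hI'] at h3
  have h4 : FlatMor.localDim ↥𝓘.subscheme d + 1 ≤ FlatMor.localDim ↥S (i d) :=
    (add_le_add h1 le_rfl).trans (h3.trans h2)
  haveI : Nonempty (PrimeSpectrum Γ(S, W'.1)) := ⟨W'.2.primeIdealOf ⟨i d, hdg⟩⟩
  haveI : Nontrivial Γ(S, W'.1) := PrimeSpectrum.nontrivial (Classical.arbitrary _)
  have hnn : 0 ≤ FlatMor.localDim ↥S (i d) := ringKrullDim_nonneg_of_nontrivial.trans h2
  revert h4 hnn hfin
  generalize FlatMor.localDim ↥𝓘.subscheme d = a
  generalize FlatMor.localDim ↥S (i d) = b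
  intro hb h hnn
  induction a using WithBot.recBotCoe with
  | bot =>
    exact lt_of_lt_of_le (WithBot.bot_lt_coe (0 : ℕ∞)) hnn
  | coe a =>
    induction b using WithBot.recBotCoe with
    | bot =>
      rw [← WithBot.coe_one, ← WithBot.coe_add] at h
      simp at h
    | coe b =>
      rw [← WithBot.coe_one, ← WithBot.coe_add, WithBot.coe_le_coe] at h
      rw [WithBot.coe_lt_coe]
      rcases eq_or_ne a ⊤ with rfl | ha
      · simp only [top_add, top_le_iff] at h
        exact absurd (congrArg WithBot.some h) hb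
      · exact (ENat.lt_add_one_iff ha).2 le_rfl |>.trans_le h

end Groth.Agent.S1686
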