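import Groth.Statements.S10200
import Groth.Agent.L23.SchemeDecent

set_option autoImplicit false
set_option backward.isDefEq.respectTransparency.types false
universe u
open CategoryTheory CategoryTheory.Limits AlgebraicGeometry Topology TopologicalSpace
open AlgSp

namespace Groth.Agent.S10200

/-- Let X be an algebraic space over a scheme S that is Zariski locally quasi-separated over S (for
example quasi-separated over S). Then there is a dense open subspace of X which is a scheme; more
precisely there is an open subspace X' ⟶ X with representable underlying sheaf such that |X'| is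
dense in |X| and contains every codimension 0 point of X (every point under which some etale chart
has a zero-dimensional local ring). -/
theorem result {S : Scheme.{u}} (X : AlgSp.Space S)
    (hX : ∃ (ι : Type u) (Xi : ι → AlgSp.Space S) (j : ∀ i, Xi i ⟶ X),
        AlgSp.IsZarCover (fun i => (Xi i).obj) (fun i => (j i).hom) ∧ ∀ i, AlgSp.IsQuasiSeparatedSp (Xi i).obj) :
    ∃ (X' : AlgSp.Space S) (j : X' ⟶ X), AlgSp.RepWith @IsOpenImmersion j.hom ∧ X'.obj.obj.IsRepresentable ∧
      Dense (Set.range (AlgSp.Points.map j.hom)) ∧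
      ∀ x : AlgSp.Points X.obj, AlgSp.HasAt (fun U u => ringKrullDim ↥(U.presheaf.stalk u) = 0) X.obj x →
        x ∈ Set.range (AlgSp.Points.map j.hom) := by
  obtain ⟨X', j, hj, hr, hR⟩ := Groth.L23.SL.exists_locus X.property
  refine ⟨X', ObjectProperty.homMk j, hj, hr, ?_⟩
  show Dense (Set.range (AlgSp.Points.map j)) ∧ ∀ x, _ → x ∈ Set.range (AlgSp.Points.map j)
  rw [hR]
  have key : ∀ x : AlgSp.Points X.obj, AlgSp.HasAt (fun U u => ringKrullDim ↥(U.presheaf.stalk u) = 0) X.obj x →
      Groth.L23.SL.SchemePt x := by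
    intro x hx
    obtain ⟨ι, Xi, ji, hcov, hqs⟩ := hX
    obtain ⟨i, y, rfl⟩ := hcov.2 x
    refine (Groth.L23.SL.schemePt_qs (Xi i).property (hqs i) ?_).map (hcov.1 i)
    obtain ⟨U, p, hp, hps⟩ := (Xi i).property.atlas
    obtain ⟨u, rfl⟩ := Groth.L23.surjective_ofPt hps y
    rw [AlgSp.Points.map_ofPt] at hx
    have hp' : AlgSp.RepWith @Etale (p ≫ (ji i).hom) := Groth.L23.repWith_comp hp
      (Groth.L23.repWith_mono (fun f (_ : IsOpenImmersion f) => inferInstanceAs (Etale f)) (hcov.1 i))
    exact (Groth.L23.Pt.hasAt_stalkDim_iff (Xi i).property hp u (fun d => d = 0)).2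
      ((Groth.L23.Pt.hasAt_stalkDim_iff X.property hp' u (fun d => d = 0)).1 hx)
  exact ⟨(Groth.L23.Pt.dense_stalkDim_zero X.property).mono key, key⟩

end Groth.Agent.S10200
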