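import Groth.Statements.S8977
import Groth.Agent.L28.VTop.Submersive
import Groth.Agent.L28.VTop.Cover
import Groth.Agent.L09.SubtrNoeth

set_option autoImplicit false
universe u
open HTop

namespace Groth.Agent.S8977

open CategoryTheory CategoryTheory.Limits AlgebraicGeometry in
/-- For a Noetherian scheme X and a finite family of finite type morphisms X_i → X, the induced morphism
from the coproduct of the X_i to X is universally submersive if and only if the family is an h
covering. -/
theorem result {X : Scheme.{u}} [IsNoetherian X] (E : PreZeroHypercover.{u} X) [Finite E.I₀] [∀ i, LocallyOfFiniteType (E.f i)] [∀ i, QuasiCompact (E.f i)] : SGA1.UnivSubmersive (Sigma.desc E.f) ↔ HTop.IsHCover E := by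
  constructor
  · intro h
    refine ⟨fun i => ?_, ?_⟩
    · haveI : IsLocallyNoetherian X := inferInstance
      infer_instance
    · haveI : ∀ i, CompactSpace (E.X i) := fun i => QuasiCompact.compactSpace_of_compactSpace (E.f i)
      haveI : CompactSpace ↥(∐ E.X) := (sigmaMk E.X).compactSpace
      haveI : QuasiSeparatedSpace X := inferInstance
      haveI : QuasiCompact (Sigma.desc E.f) := inferInstance
      have hsub := (Groth.L09.Subtr.dvrPair_of_univSubmersive h).univSSubtrusive
      have hlift : HTop.HasValLift (PreZeroHypercover.singleton.{u} (Sigma.desc E.f)) :=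
        Groth.L28.VTop.hasValLift_of_specializes fun Z g z' z hz => by
          obtain ⟨x, x', hx, h1, h2⟩ :=
            hsub (pullback.snd g (Sigma.desc E.f)) g (pullback.fst g (Sigma.desc E.f))
              (IsPullback.of_hasPullback g (Sigma.desc E.f)) hz
          exact ⟨PUnit.unit, x', x, hx, h2, h1⟩
      let F : ∀ i : PUnit.{u + 1}, PreZeroHypercover.{u} ((PreZeroHypercover.singleton.{u} (Sigma.desc E.f)).X i) :=
        fun _ => (sigmaOpenCover E.X).toPreZeroHypercover
      have hb := Groth.L28.VTop.isVCover_bind (Groth.L28.VTop.isVCover_singleton_of_hasValLift (Sigma.desc E.f) hlift)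
        (F := F) fun i => by
          haveI : QuasiCompactCover (F i) := inferInstanceAs (QuasiCompactCover (sigmaOpenCover E.X).toPreZeroHypercover)
          exact Groth.L28.VTop.isVCover_of_fpqc (F i) fun j =>
            (inferInstance : Flat ((sigmaOpenCover E.X).f j))
      intro U
      obtain ⟨G, hG, href⟩ := hb U
      refine ⟨G, hG, fun j => ?_⟩
      obtain ⟨⟨_, i⟩, k, hk⟩ := href j
      refine ⟨i, k, Eq.trans ?_ hk⟩
      show k ≫ E.f i = k ≫ (sigmaOpenCover E.X).f i ≫ Sigma.desc E.f
      congr 1
      exact (Sigma.ι_desc E.f i).symm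
  · exact fun h => Groth.L28.VTop.univSubmersive_desc E h.2

end Groth.Agent.S8977
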