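import Groth.Statements.S10107
import Groth.Agent.L24.Boot.QuotFlat

set_option autoImplicit false
universe u
open CategoryTheory CategoryTheory.Limits AlgebraicGeometry
open AlgSp

namespace Groth.Agent.S10107

/-- Let `F = U/R` be an algebraic space which is the fppf quotient of a groupoid in algebraic spaces
`(U, R, s, t, c)` over `S` with `s, t` flat and locally of finite presentation and `j = (t, s)` an
equivalence relation (equivalently, the composition being determined by it, of an equivalence
relation `s, t : R ⟶ U` of algebraic spaces with these properties). Then `U ⟶ F` is surjective, flat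
and locally of finite presentation. -/
theorem result (S : Scheme.{u}) (R U : AlgSp.Sp S)
    (hR : AlgSp.IsAlgSpace R) (hU : AlgSp.IsAlgSpace U) (s t : R ⟶ U) (hj : AlgSp.IsEqvRelSp s t)
    (hs : AlgSp.LocP @Flat s ∧ AlgSp.LocP @LocallyOfFinitePresentation s)
    (ht : AlgSp.LocP @Flat t ∧ AlgSp.LocP @LocallyOfFinitePresentation t)
    (hF : AlgSp.IsAlgSpace (AlgSp.quotSp s t)) :
    AlgSp.IsSurjectiveMor (AlgSp.quotSpπ s t) ∧ AlgSp.LocP @Flat (AlgSp.quotSpπ s t) ∧
      AlgSp.LocP @LocallyOfFinitePresentation (AlgSp.quotSpπ s t) := by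
  have hrep := Groth.L24.Boot.repBySpWith_of_kernelPair (Groth.L24.Boot.isPullback_quotSpπ hj) hR hU ht.1 ht.2
  obtain ⟨W, b, hb, hbs⟩ := hF.atlas
  obtain ⟨hG, hQ⟩ := (repBySpWith_hom_iff _ _).1 hrep b (pullback.fst (quotSpπ s t) b) (pullback.snd (quotSpπ s t) b) (IsPullback.of_hasPullback _ _)
  have sq := IsPullback.of_hasPullback (quotSpπ s t) b
  have hW := IsAlgSpace.yon_obj W
  refine ⟨fun y => ?_, Groth.L23.locP_of_target_cover Groth.L23.etLocal_flat hU hF hW hb hbs sq hQ.1.2, Groth.L23.locP_of_target_cover Groth.L23.etLocal_lfp hU hF hW hb hbs sq hQ.2⟩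
  obtain ⟨y', hy'⟩ := Groth.L23.surjective_map_of_repWith hbs y
  obtain ⟨x, rfl⟩ := hQ.1.1 y'
  exact ⟨Points.map (pullback.fst (quotSpπ s t) b) x, by rw [← Points.map_comp, sq.w, Points.map_comp]; exact hy'⟩

end Groth.Agent.S10107
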