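import Groth.Statements.S5690
import Groth.Agent.L24.Quot.FreeGlue
import Mathlib.AlgebraicGeometry.Morphisms.Integral
-- import your own Groth.Agent.* helpers here

set_option autoImplicit false
universe u
open CategoryTheory CategoryTheory.Limits AlgebraicGeometry
open FGA

set_option backward.isDefEq.respectTransparency.types false

namespace Groth.Agent.S5690

/-- Let (U, R, s, t, c) be a groupoid scheme over a scheme S whose source morphism s : R ⟶ U is finite
locally free (finite, flat and locally of finite presentation), and suppose every equivalence class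
t(s⁻¹(x)), x a point of U, is contained in some affine open of U. Then there are a scheme Y and a
morphism q : U ⟶ Y with s ≫ q = t ≫ q which is a coequalizer of s and t in the category of schemes,
affine, integral and surjective, whose fibres are the equivalence classes; and if (t, s) : R ⟶ U ×_S
U is a monomorphism then q is moreover finite, flat and locally of finite presentation and (t, s) :
R ⟶ U ×_Y U is an isomorphism. Only the sufficiency of the affine-class condition is stated (the
published statement is an equivalence: the quotient with these properties exists if and only if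
every class lies in an affine open). -/
theorem result {S : Scheme.{u}} (G : Grpd.GroupoidScheme S)
    [IsFinite G.s] [Flat G.s] [LocallyOfFinitePresentation G.s]
    (haff : ∀ x : ↥G.U, ∃ V : G.U.Opens, IsAffineOpen V ∧ G.t.base '' (G.s.base ⁻¹' {x}) ⊆ (V : Set ↥G.U)) :
    ∃ (Y : Scheme.{u}) (q : G.U ⟶ Y) (w : G.s ≫ q = G.t ≫ q),
      Nonempty (IsColimit (Cofork.ofπ q w)) ∧ IsAffineHom q ∧ IsIntegralHom q ∧ Surjective q ∧
      (∀ x x' : ↥G.U, q.base x = q.base x' ↔ ∃ r : ↥G.R, G.s.base r = x ∧ G.t.base r = x') ∧
      (Mono G.j → IsFinite q ∧ Flat q ∧ LocallyOfFinitePresentation q ∧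
        IsIso (pullback.lift G.t G.s w.symm : G.R ⟶ pullback q q)) := by
  have horb : ∀ x : G.U, ∃ V : G.U.Opens, IsAffineOpen V ∧ ∀ y, Groth.Agent.L24.Quot.Rel G x y → y ∈ V := fun x => by
    obtain ⟨V, hV, hsub⟩ := haff x
    exact ⟨V, hV, fun y hy => by
      obtain ⟨r, hr, hr'⟩ := hy
      exact hsub ⟨r, hr, hr'⟩⟩
  obtain ⟨Y, p, w, ⟨hc⟩, hint, hsurj, -, hfib, -, -, -⟩ := Groth.Agent.L24.Quot.exists_quotient (G := G) horb
  haveI := hint
  refine ⟨Y, p, w.symm, ⟨Cofork.IsColimit.mk' _ fun c => ?_⟩, inferInstance, hint, hsurj,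
    fun x x' => hfib x x', fun hj => ?_⟩
  · obtain ⟨l, hl⟩ := Cofork.IsColimit.desc' hc c.π c.condition.symm
    exact ⟨l, hl, fun {m} hm => Cofork.IsColimit.hom_ext hc (hm.trans hl.symm)⟩
  · obtain ⟨Y₀, q₀, w₀, ⟨hc₀⟩, hpb, hf, hfl, hfp⟩ := Groth.Agent.L24.Quot.exists_free_quotient G horb
    let eY : Y₀ ≅ Y := hc₀.coconePointUniqueUpToIso hc
    have he : q₀ ≫ eY.hom = p := hc₀.comp_coconePointUniqueUpToIso_hom hc WalkingParallelPair.one
    have hpb' : IsPullback G.t G.s p p := IsPullback.of_iso hpb (Iso.refl _) (Iso.refl _) (Iso.refl _) eY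
      (by simp) (by simp) (he.trans (Category.id_comp p).symm) (he.trans (Category.id_comp p).symm)
    refine ⟨he ▸ (MorphismProperty.cancel_right_of_respectsIso (P := @IsFinite) q₀ eY.hom).2 hf,
      he ▸ (MorphismProperty.cancel_right_of_respectsIso (P := @Flat) q₀ eY.hom).2 hfl,
      he ▸ (MorphismProperty.cancel_right_of_respectsIso (P := @LocallyOfFinitePresentation) q₀ eY.hom).2 hfp, ?_⟩
    rw [show pullback.lift G.t G.s w.symm.symm = hpb'.isoPullback.hom from
      pullback.hom_ext ((pullback.lift_fst _ _ _).trans hpb'.isoPullback_hom_fst.symm)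
        ((pullback.lift_snd _ _ _).trans hpb'.isoPullback_hom_snd.symm)]
    infer_instance

end Groth.Agent.S5690
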