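import Groth.Statements.S10707
import Groth.Agent.L09.EtGlueSp.Hom

set_option autoImplicit false
universe u
open CategoryTheory CategoryTheory.Limits AlgebraicGeometry TensorProduct
open AlgSp

set_option backward.isDefEq.respectTransparency false
set_option backward.isDefEq.respectTransparency.types false

set_option linter.style.haveILetI false

namespace Groth.Agent.S10707

/-- Let `(R → R', f)` be a glueing pair, `X = Spec R`, `U = Spec R_f`, `X' = Spec R'`, and let `Y`, `Z`
be algebraic spaces over `X` glueable for `(R → R', f)`. Two morphisms `a, b : Y → Z` over `X` whose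
base changes to `U` agree and whose base changes to `X'` agree are equal. -/
theorem result (R : Type u) [CommRing R] (R' : Type u) [CommRing R'] [Algebra R R']
    (f : R) (hRR' : EtGlue.IsGlueingPair R R' f) {Y Z YU YX' : AlgSp.Space (Spec (CommRingCat.of R))}
    (hY : (∀ (A : Type u) [CommRing A] [Algebra R A]
      (g : (AlgSp.yon (Spec (CommRingCat.of R))).obj (Over.mk (Spec.map (CommRingCat.ofHom (algebraMap R A))) : Over (Spec (CommRingCat.of R))) ⟶ Y.obj),
      AlgSp.RepWith @Etale g → EtGlue.IsGlueable R R' f A))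
    (hZ : (∀ (A : Type u) [CommRing A] [Algebra R A]
      (g : (AlgSp.yon (Spec (CommRingCat.of R))).obj (Over.mk (Spec.map (CommRingCat.ofHom (algebraMap R A))) : Over (Spec (CommRingCat.of R))) ⟶ Z.obj),
      AlgSp.RepWith @Etale g → EtGlue.IsGlueable R R' f A))
    (a b : Y ⟶ Z) (πZ : Z.obj ⟶ (AlgSp.yon (Spec (CommRingCat.of R))).obj (Over.mk (𝟙 _)))
    (inU : (Over.mk (Spec.map (CommRingCat.ofHom (algebraMap R (Localization.Away f)))) : Over (Spec (CommRingCat.of R))) ⟶ Over.mk (𝟙 _))
    (uY : YU ⟶ Y) (vY : YU.obj ⟶ (AlgSp.yon (Spec (CommRingCat.of R))).obj (Over.mk (Spec.map (CommRingCat.ofHom (algebraMap R (Localization.Away f)))) : Over (Spec (CommRingCat.of R))))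
    (hYU : IsPullback uY.hom vY (a.hom ≫ πZ) ((AlgSp.yon (Spec (CommRingCat.of R))).map inU))
    (inX' : (Over.mk (Spec.map (CommRingCat.ofHom (algebraMap R R'))) : Over (Spec (CommRingCat.of R))) ⟶ Over.mk (𝟙 _))
    (uY' : YX' ⟶ Y) (vY' : YX'.obj ⟶ (AlgSp.yon (Spec (CommRingCat.of R))).obj (Over.mk (Spec.map (CommRingCat.ofHom (algebraMap R R'))) : Over (Spec (CommRingCat.of R))))
    (hYX' : IsPullback uY'.hom vY' (a.hom ≫ πZ) ((AlgSp.yon (Spec (CommRingCat.of R))).map inX'))
    (haU : uY ≫ a = uY ≫ b) (haX' : uY' ≫ a = uY' ≫ b) : a = b := by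
  open Groth.L23 Groth.L09.EtGlueSp in
  apply InducedCategory.hom_ext
  obtain ⟨U, p, hpe, hps⟩ := Y.property.atlas
  have := Groth.L23.epi_of_repWith p hpe hps
  rw [← cancel_epi p]
  let 𝒰 := U.left.affineCover
  let g : ∀ i, (Over.mk (𝒰.f i ≫ U.hom) : Over (Spec (CommRingCat.of R))) ⟶ U := fun i => Over.homMk (𝒰.f i)
  haveI : ∀ i, IsOpenImmersion (g i).left := fun i => 𝒰.map_prop i
  refine Groth.L23.hom_ext_cover g (fun t => ⟨_, 𝒰.covers t⟩) fun i => ?_
  obtain ⟨A, e, he⟩ : ∃ (A : CommRingCat.{u}) (e : Spec A ≅ 𝒰.X i), True :=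
    ⟨_, (𝒰.X i).isoSpec.symm, trivial⟩
  obtain ⟨φ, hφ⟩ : ∃ φ : CommRingCat.of R ⟶ A, Spec.map φ = e.hom ≫ 𝒰.f i ≫ U.hom := ⟨_, Spec.map_preimage _⟩
  letI : Algebra R A := φ.hom.toAlgebra
  let V : Over (Spec (CommRingCat.of R)) := Over.mk (Spec.map (CommRingCat.ofHom (algebraMap R A)))
  let k : V ⟶ Over.mk (𝒰.f i ≫ U.hom) := Over.homMk e.hom hφ.symm
  haveI : IsIso k := by
    haveI : IsIso ((Over.forget _).map k) := inferInstanceAs (IsIso e.hom)
    exact isIso_of_reflects_iso k (Over.forget _)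
  rw [← cancel_epi ((AlgSp.yon _).map k)]
  simp only [← Category.assoc]
  have hg : AlgSp.RepWith @Etale (((AlgSp.yon _).map k ≫ (AlgSp.yon _).map (g i)) ≫ p) := by
    refine Groth.L23.repWith_comp (Groth.L23.repWith_comp (Groth.L23.repWith_map ?_) (Groth.L23.repWith_map ?_)) hpe
    · show Etale e.hom; infer_instance
    · show Etale (𝒰.f i); infer_instance
  revert hg
  generalize (((AlgSp.yon _).map k ≫ (AlgSp.yon _).map (g i)) ≫ p) = gV
  intro hg
  letI := Algebra.TensorProduct.rightAlgebra (R := R) (A := R') (B := (A : Type u))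
  have hGP := Groth.L05.Glue.isGlueingPair_algebra hRR' (hY A gV hg)
  let A' : CommRingCat.{u} := CommRingCat.of (R' ⊗[R] (A : Type u))
  letI : Algebra A A' := Algebra.TensorProduct.rightAlgebra (R := R) (A := R') (B := (A : Type u))
  refine Groth.L09.EtGlueSp.eq_of_charts (R := CommRingCat.of R) (A := A) (A' := A') Z.property
    (algebraMap R A f) hGP (Spec.map (CommRingCat.ofHom (algebraMap R A))) _ _ ?_ ?_
  · let jf : (Over.mk (Spec.map (CommRingCat.ofHom (algebraMap A (Localization.Away (algebraMap R A f)))) ≫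
        Spec.map (CommRingCat.ofHom (algebraMap R A))) : Over (Spec (CommRingCat.of R))) ⟶
        Over.mk (Spec.map (CommRingCat.ofHom (algebraMap R (Localization.Away f)))) :=
      Over.homMk (Spec.map (CommRingCat.ofHom (Localization.awayMap (algebraMap R A) f))) (by
        show Spec.map _ ≫ Spec.map _ = Spec.map _ ≫ Spec.map _
        rw [← Spec.map_comp, ← Spec.map_comp]
        congr 1
        ext r
        simp [Localization.awayMap, IsLocalization.Away.map, IsLocalization.map_eq])
    rw [← Category.assoc, ← Category.assoc]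
    refine (fun n => ?_ : ∀ n, n ≫ a.hom = n ≫ b.hom) _
    rw [← hYU.lift_fst n ((AlgSp.yon _).map jf) (Groth.L09.EtGlueSp.yon_terminal_subsingleton _ _ _),
      Category.assoc, Category.assoc]
    exact congrArg (fun n => _ ≫ n) (congrArg InducedCategory.Hom.hom haU)
  · let jv : (Over.mk (Spec.map (CommRingCat.ofHom (algebraMap A A')) ≫
        Spec.map (CommRingCat.ofHom (algebraMap R A))) : Over (Spec (CommRingCat.of R))) ⟶
        Over.mk (Spec.map (CommRingCat.ofHom (algebraMap R R'))) :=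
      Over.homMk (Spec.map (CommRingCat.ofHom
        ((Algebra.TensorProduct.includeLeft : R' →ₐ[R] R' ⊗[R] (A : Type u)).toRingHom : R' →+* A'))) (by
        show Spec.map _ ≫ Spec.map _ = Spec.map _ ≫ Spec.map _
        rw [← Spec.map_comp, ← Spec.map_comp]
        congr 1
        ext r
        show algebraMap R R' r ⊗ₜ[R] (1 : A) = (1 : R') ⊗ₜ[R] algebraMap R A r
        rw [Algebra.algebraMap_eq_smul_one, Algebra.algebraMap_eq_smul_one, TensorProduct.smul_tmul])
    rw [← Category.assoc, ← Category.assoc]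
    refine (fun n => ?_ : ∀ n, n ≫ a.hom = n ≫ b.hom) _
    rw [← hYX'.lift_fst n ((AlgSp.yon _).map jv) (Groth.L09.EtGlueSp.yon_terminal_subsingleton _ _ _),
      Category.assoc, Category.assoc]
    exact congrArg (fun n => _ ≫ n) (congrArg InducedCategory.Hom.hom haX')

end Groth.Agent.S10707
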