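import Groth.Statements.S10347
import Groth.Agent.L23.DimDecent

set_option autoImplicit false
set_option backward.isDefEq.respectTransparency.types false
universe u
open CategoryTheory CategoryTheory.Limits AlgebraicGeometry Topology TopologicalSpace
open AlgSp

namespace Groth.Agent.S10347
open Groth.L23

/-- For a locally quasi-finite morphism f : X ⟶ Y of algebraic spaces over a scheme S (locally
quasi-finite and locally of finite type, etale locally on source and target), dim X ≤ dim Y. -/
theorem result {S : Scheme.{u}} {X Y : AlgSp.Space S} (f : X ⟶ Y)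
    (hf : AlgSp.LocP (@LocallyQuasiFinite ⊓ @LocallyOfFiniteType) f.hom) :
    AlgSp.dim X.obj ≤ AlgSp.dim Y.obj := by
  obtain ⟨V₀, b₀, hb₀, hbs₀⟩ := Y.property.atlas
  refine iSup_le fun U => iSup_le fun a => iSup_le fun ha => ?_
  obtain ⟨W, c, h, hc, w, hcs⟩ := Groth.L23.exists_chart_over X.property Y.property f.hom hb₀
  obtain ⟨R, p, q, sq⟩ := Groth.L23.exists_isPullback_of_representable (X.property.representable_from_yon a) c
  have : Etale p.left := repWith_prop hc sq.flip
  have : Surjective p.left := repWith_prop (hcs hbs₀) sq.flip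
  have hqc : AlgSp.RepWith @Etale ((AlgSp.yon S).map q ≫ c) := by
    rw [← sq.w]
    exact Groth.L23.repWith_comp (Groth.L23.repWith_map (inferInstanceAs (Etale p.left))) ha
  have : LocallyQuasiFinite (q ≫ h).left := (hf _ _ (q ≫ h) hqc hb₀ (by
    rw [Category.assoc, w, Functor.map_comp, Category.assoc])).1
  rw [← Groth.L23.Pt.dim_eq_of_etale_surjective p.left]
  exact (Groth.L23.Pt.dim_le_of_lqf (q ≫ h).left).trans
    (le_iSup_of_le V₀ (le_iSup_of_le b₀ (le_iSup_of_le hb₀ le_rfl)))

end Groth.Agent.S10347
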