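import Groth.Statements.S7190
import Groth.Agent.L20.QfRefine.Fppf
import Mathlib.AlgebraicGeometry.Morphisms.FlatDescent
import Mathlib.AlgebraicGeometry.Morphisms.Proper
-- import your own Groth.Agent.* helpers here

set_option autoImplicit false
universe w u
open FlatMor

set_option backward.isDefEq.respectTransparency.types false
set_option linter.style.haveILetI false

namespace Groth.Agent.S7190

open AlgebraicGeometry CategoryTheory Limits in
/-- An fppf covering {T_i → T} of schemes (flat, locally of finite presentation, jointly surjective) is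
a ph covering. -/
theorem result {T : Scheme.{u}} (E : PreZeroHypercover.{w} T)
    (hflat : ∀ i, Flat (E.f i)) (hfp : ∀ i, LocallyOfFinitePresentation (E.f i))
    (hsurj : ∀ t : T, ∃ (i : E.I₀) (x : E.X i), E.f i x = t) : HTop.IsPhCover E := by
  classical
  refine ⟨fun i => by haveI := hfp i; infer_instance, fun U => ?_⟩
  let S : Scheme.{u} := (U : T.Opens)
  haveI : IsAffine S := U.2
  -- finitely many members cover `U`
  obtain ⟨n, i, hi⟩ : ∃ (n : ℕ) (i : Fin n → E.I₀), ∀ x : T, x ∈ (U : T.Opens) →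
      ∃ k y, E.f (i k) y = x := by
    choose iof xof hof using hsurj
    have hopen : ∀ t : T, IsOpen (Set.range (E.f (iof t))) := fun t => by
      haveI := hflat (iof t); haveI := hfp (iof t)
      haveI : UniversallyOpen (E.f (iof t)) := inferInstance
      exact (E.f (iof t)).isOpenMap.isOpen_range
    obtain ⟨s, hs⟩ := U.2.isCompact.elim_finite_subcover (fun t : T => Set.range (E.f (iof t)))
      hopen (fun x _ => Set.mem_iUnion.mpr ⟨x, xof x, hof x⟩)
    refine ⟨s.card, fun k => iof (s.equivFin.symm k).1, fun x hx => ?_⟩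
    obtain ⟨t, ht, y, hy⟩ := Set.mem_iUnion₂.mp (hs hx)
    refine ⟨s.equivFin ⟨t, ht⟩, ?_⟩
    show x ∈ Set.range (E.f (iof (s.equivFin.symm (s.equivFin ⟨t, ht⟩)).1))
    rw [show (s.equivFin.symm (s.equivFin ⟨t, ht⟩)).1 = t by rw [Equiv.symm_apply_apply]]
    exact ⟨y, hy⟩
  let P : ULift.{u} (Fin n) → Scheme.{u} := fun k => pullback (E.f (i k.down)) (U : T.Opens).ι
  let g : (∐ P) ⟶ S := Sigma.desc fun k => pullback.snd (E.f (i k.down)) (U : T.Opens).ι
  haveI : Flat g := IsZariskiLocalAtSource.sigmaDesc (P := @Flat) fun k => by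
    haveI := hflat (i k.down); infer_instance
  haveI : LocallyOfFinitePresentation g :=
    IsZariskiLocalAtSource.sigmaDesc (P := @LocallyOfFinitePresentation) fun k => by
      haveI := hfp (i k.down); infer_instance
  haveI : Surjective g := ⟨fun x => by
    obtain ⟨k, y, hy⟩ := hi x.1 x.2
    obtain ⟨z, -, hz⟩ := Scheme.Pullback.exists_preimage_pullback (f := E.f (i k))
      (g := (U : T.Opens).ι) y x hy
    refine ⟨Sigma.ι P ⟨k⟩ z, ?_⟩
    rw [← Scheme.Hom.comp_apply, Sigma.ι_desc]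
    exact hz⟩
  obtain ⟨S', π, hπs, hπf, -, hsec⟩ := Groth.L20.QfRefine.exists_finite_dominating g
  -- shrink the sections
  have key : ∀ y : S', ∃ (W : S'.Opens) (j : E.I₀) (h : ↑W ⟶ E.X j), IsAffineOpen W ∧ y ∈ W ∧
      h ≫ E.f j = W.ι ≫ π ≫ (U : T.Opens).ι := fun y => by
    obtain ⟨V, h, hyV, hh⟩ := hsec y
    obtain ⟨k, z, hz⟩ := Scheme.IsLocallyDirected.ι_jointly_surjective _ (h ⟨y, hyV⟩)
    let ιk : P k.as ⟶ ∐ P := Sigma.ι P k.as
    let V' : S'.Opens := V.ι ''ᵁ (h ⁻¹ᵁ ιk.opensRange)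
    have hy' : y ∈ V' := ⟨⟨y, hyV⟩, ⟨z, hz⟩, rfl⟩
    obtain ⟨_, ⟨W, hW, rfl⟩, hyW, hWV'⟩ :=
      S'.isBasis_affineOpens.exists_subset_of_mem_open hy' V'.2
    have hWV : W ≤ V := fun w hw => by
      obtain ⟨v, -, hv⟩ := hWV' hw
      exact hv ▸ v.2
    let hW' : ↑W ⟶ ∐ P := S'.homOfLE hWV ≫ h
    have hrange : Set.range hW' ⊆ Set.range ιk := by
      rintro _ ⟨w, rfl⟩
      obtain ⟨v, hv, hvw⟩ := hWV' w.2
      have : S'.homOfLE hWV w = v := Subtype.ext (by
        rw [show v.1 = w.1 from hvw]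
        exact congrArg Subtype.val (rfl : (S'.homOfLE hWV w) = _) |>.trans (by simp))
      rw [Scheme.Hom.comp_apply, this]
      exact hv
    refine ⟨W, i k.as.down, IsOpenImmersion.lift ιk hW' hrange ≫ pullback.fst _ _, hW, hyW, ?_⟩
    rw [Category.assoc, pullback.condition, ← Category.assoc (IsOpenImmersion.lift ιk hW' hrange),
      show pullback.snd (E.f (i k.as.down)) (U : T.Opens).ι = ιk ≫ g from
        (Sigma.ι_desc (fun k : ULift.{u} (Fin n) =>
          pullback.snd (E.f (i k.down)) (U : T.Opens).ι) k.as).symm, ← Category.assoc (IsOpenImmersion.lift ιk hW' hrange),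
      IsOpenImmersion.lift_fac, Category.assoc, Category.assoc, ← Category.assoc h, hh,
      Category.assoc, Scheme.homOfLE_ι_assoc]
  choose W j r hW hyW hr using key
  haveI : CompactSpace S' := QuasiCompact.compactSpace_of_compactSpace π
  obtain ⟨s, hs⟩ := isCompact_univ.elim_finite_subcover (fun y => (W y : Set S')) (fun y => (W y).2)
    (fun y _ => Set.mem_iUnion.mpr ⟨y, hyW y⟩)
  refine ⟨⟨Fin s.card, fun a => (W (s.equivFin.symm a).1 : Scheme.{u}),
    fun a => (W (s.equivFin.symm a).1).ι ≫ π⟩, ⟨U.2, inferInstanceAs (Finite (Fin s.card)),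
      fun a => hW _, S', π, fun a => (W (s.equivFin.symm a).1).ι, ?_, hπs,
      fun a => inferInstance, fun a => rfl, fun x => ?_⟩, fun a => ⟨_, r _, by
        rw [hr]; exact (Category.assoc _ _ _).symm⟩⟩
  · infer_instance
  · obtain ⟨y, hy, hxy⟩ := Set.mem_iUnion₂.mp (hs (Set.mem_univ x))
    refine ⟨s.equivFin ⟨y, hy⟩, ?_⟩
    have hx : x ∈ W (s.equivFin.symm (s.equivFin ⟨y, hy⟩)).1 := by
      rw [show (s.equivFin.symm (s.equivFin ⟨y, hy⟩)).1 = y by rw [Equiv.symm_apply_apply]]
      exact hxy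
    exact ⟨⟨x, hx⟩, rfl⟩

end Groth.Agent.S7190
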