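import Groth.Statements.S8976
import Groth.Agent.L23.VRefine.Refine
import Groth.Agent.L28.Ph.Cover
import Groth.Agent.L28.VTop.Proper

set_option backward.isDefEq.respectTransparency false
set_option backward.isDefEq.respectTransparency.types false
set_option linter.style.haveILetI false

set_option autoImplicit false
universe w u
open HTop

namespace Groth.Agent.S8976

open CategoryTheory CategoryTheory.Limits AlgebraicGeometry in
/-- For a family of morphisms of schemes with fixed target all of whose members are locally of finite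
presentation, being a ph covering is equivalent to being a V covering. -/
theorem result {X : Scheme.{u}} (E : PreZeroHypercover.{w} X) (hE : ∀ i, LocallyOfFinitePresentation (E.f i)) : HTop.IsPhCover E ↔ HTop.IsVCover E := by
  refine ⟨fun h U => ?_, fun h => ⟨fun i => haveI := hE i; inferInstance, fun U => ?_⟩⟩
  · obtain ⟨F, hF, href⟩ := h.2 U
    exact ⟨F, Groth.L28.VTop.isStandardV_of_isStandardPh hF, href⟩
  haveI : IsAffine ((U : X.Opens) : Scheme.{u}) := U.2
  obtain ⟨Y, g, hp, hs, -, hY⟩ := Groth.L23.VRefine.exists_proper_refining (E.pullback₁ (U : X.Opens).ι)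
    (fun i => haveI := hE i; show LocallyOfFinitePresentation (pullback.fst (U : X.Opens).ι (E.f i)) from inferInstance)
    (Groth.L28.VTop.isVCover_pullback₁ _ h)
  haveI := hp
  haveI := hs
  obtain ⟨F, hF, ⟨φ⟩⟩ := Groth.L28.Ph.exists_isStandardPh_of_local g (E.pullback₁ (U : X.Opens).ι) hY
  refine ⟨F, hF, fun j => ⟨φ.s₀ j, φ.h₀ j ≫ pullback.snd (U : X.Opens).ι (E.f (φ.s₀ j)), ?_⟩⟩
  have e : φ.h₀ j ≫ pullback.fst (U : X.Opens).ι (E.f (φ.s₀ j)) = F.f j := φ.w₀ j
  calc (φ.h₀ j ≫ pullback.snd (U : X.Opens).ι (E.f (φ.s₀ j))) ≫ E.f (φ.s₀ j)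
      = φ.h₀ j ≫ pullback.fst (U : X.Opens).ι (E.f (φ.s₀ j)) ≫ (U : X.Opens).ι := by
        rw [pullback.condition]; exact Category.assoc _ _ _
    _ = F.f j ≫ (U : X.Opens).ι := by rw [← e]; exact (Category.assoc _ _ _).symm

end Groth.Agent.S8976
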