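import Groth.Statements.S3510
import Groth.Agent.L28.AcycCrit.Basic
import Groth.Agent.L28.AcyComp.Basic

set_option autoImplicit false
universe u
open CategoryTheory CategoryTheory.Limits AlgebraicGeometry Opposite
open EtAcyc

set_option backward.isDefEq.respectTransparency.types false

namespace Groth.Agent.S3510

/-- For an etale `V' → V`, the projection `X ×_Y V' → V'` is a base change of `X ×_Y V → V`. -/
theorem square {X Y : Scheme.{u}} (g : X ⟶ Y) (P : ∀ ⦃W' Z' : Scheme.{u}⦄, (W' ⟶ Z') → Prop)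
    (hP : ∀ V'' : Y.Etale, P (prj g V'')) (V : Y.Etale) (V' : V.left.Etale) :
    ∃ (W' : Scheme.{u}) (f' : W' ⟶ V'.left) (g' : W' ⟶ pullback V.hom g) (v : V'.left ⟶ V.left),
      v = V'.hom ∧ IsPullback g' f' (prj g V) v ∧ P f' := by
  let b : V.left ⟶ Y := V.hom
  let v : V'.left ⟶ V.left := V'.hom
  have : Etale b := V.prop
  let V'' : Y.Etale := (EtShriek.compEtale b).obj V'
  let f' : pullback (v ≫ b) g ⟶ V'.left := pullback.fst (v ≫ b) g
  let g' : pullback (v ≫ b) g ⟶ pullback V.hom g :=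
    pullback.lift (f' ≫ v) (pullback.snd (v ≫ b) g)
      ((Category.assoc _ _ _).trans pullback.condition)
  refine ⟨_, f', g', v, rfl, ?_, hP V''⟩
  refine IsPullback.of_right (h₁₂ := pullback.snd V.hom g) (h₂₂ := b) (v₁₃ := g) ?_ (pullback.lift_fst _ _ _)
    (IsPullback.of_hasPullback V.hom g).flip
  have e : g' ≫ pullback.snd V.hom g = pullback.snd (v ≫ b) g := pullback.lift_snd _ _ _
  exact e.symm ▸ (IsPullback.of_hasPullback (v ≫ b) g).flip

/-- (i) ⇔ (ii): let g : X → Y be a morphism of schemes, L a set of primes and n a natural number. Then g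
is n-acyclic for L (form (ii): for every etale V → Y with projection g' : X ×_Y V → V and every
abelian L-torsion sheaf F on V, H^q(V, F) → H^q(X ×_Y V, g'⁻¹F) is bijective for q ≤ n and injective
for q = n + 1) if and only if (form (i)) for every such V and F the unit F → g'_* g'⁻¹ F is an
isomorphism and R^q g'_* (g'⁻¹ F) = 0 for 1 ≤ q ≤ n. -/
theorem result {X Y : Scheme.{u}} (g : X ⟶ Y) (L : Set ℕ) (n : ℕ) :
    EtAcyc.IsAcyclicN g L n ↔
      ∀ (V : Y.Etale) (F : EtCoh.Ab V.left), EtAcyc.IsLTorsion L F →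
        IsIso ((EtCoh.pullPushAdj (EtAcyc.prj g V)).unit.app F) ∧
          ∀ q : ℕ, 1 ≤ q → q ≤ n →
            IsZero ((EtCoh.Rpush (EtAcyc.prj g V) q).obj ((EtCoh.pull (EtAcyc.prj g V)).obj F)) := by
  constructor
  · intro h
    have hunit : ∀ (V : Y.Etale) (F : EtCoh.Ab V.left), EtAcyc.IsLTorsion L F →
        IsIso ((EtCoh.pullPushAdj (EtAcyc.prj g V)).unit.app F) := fun V F hF =>
      Groth.L28.AcycCrit.isIso_unit (prj g V) F fun V' => by
        obtain ⟨W', f', g', v, hv, hsq, hc⟩ := square g (fun _ _ φ => CompN φ L n) h V V'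
        exact ⟨W', f', g', v, hv, hsq, (hc _ (Groth.L28.AcyComp.isLTorsion_pull v hF)).1 0 (Nat.zero_le n)⟩
    have hvan : ∀ q : ℕ, q ≤ n → ∀ (V : Y.Etale) (F : EtCoh.Ab V.left), EtAcyc.IsLTorsion L F →
        ∀ p : ℕ, 0 < p → p ≤ q →
          IsZero ((EtCoh.Rpush (EtAcyc.prj g V) p).obj ((EtCoh.pull (EtAcyc.prj g V)).obj F)) := by
      intro q
      induction q with
      | zero => intro _ V F _ p h1 h2; omega
      | succ q ih =>
        intro hq V F hF p h1 h2
        rcases Nat.eq_or_lt_of_le h2 with rfl | h2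
        · refine Groth.L28.AcycCrit.isZero_succ (prj g V) F q fun V' => ?_
          obtain ⟨W', f', g', v, hv, hsq, hc, hu, hz⟩ := square g
            (fun W' Z' φ => CompN φ L n ∧ (∀ G, EtAcyc.IsLTorsion L G → IsIso ((EtCoh.pullPushAdj φ).unit.app G)) ∧
              ∀ G, EtAcyc.IsLTorsion L G → ∀ p, 0 < p → p ≤ q →
                IsZero ((EtCoh.Rpush φ p).obj ((EtCoh.pull φ).obj G)))
            (fun V'' => ⟨h V'', hunit V'', ih (by omega) V''⟩) V V'
          have hG := Groth.L28.AcyComp.isLTorsion_pull v hF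
          refine ⟨W', f', g', v, hv, hsq, hu _ hG, hz _ hG, @fun i => ?_⟩
          obtain ⟨hb, hi⟩ := @hc _ hG i
          refine ⟨hb _ hq, ?_⟩
          rcases Nat.eq_or_lt_of_le hq with e | e
          · rw [show q + 2 = n + 1 by omega]; exact hi
          · exact (hb _ (by omega)).1
        · exact ih (by omega) V F hF p h1 (by omega)
    exact fun V F hF => ⟨hunit V F hF, fun q h1 h2 => hvan n le_rfl V F hF q (by omega) h2⟩
  · intro h V F hF _
    obtain ⟨hu, hz⟩ := h V F hF
    exact Groth.L28.AcycCrit.compN_of_unit (prj g V) F n fun q h1 h2 => hz q (by omega) h2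

end Groth.Agent.S3510
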