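import Groth.Statements.S0104
import Groth.Agent.L28.EtCartan.Frobenius

set_option backward.isDefEq.respectTransparency.types false

set_option autoImplicit false
open CategoryTheory CategoryTheory.Limits AlgebraicGeometry Opposite
universe u
open EtBase

namespace Groth.Agent.S0104

/-- For a scheme proper over an algebraically closed field of characteristic p (p a prime), the étale
cohomology groups H^q with coefficients in the constant sheaf Z/pZ are finite for every q. -/
theorem result {k : Type u} [Field k] [IsAlgClosed k] (p : ℕ) [Fact p.Prime] [CharP k p]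
    {X : Scheme.{u}} (f : X ⟶ Spec (CommRingCat.of k)) [IsProper f] (q : ℕ) :
    Finite (EtCoh.H X (EtCoh.const X (ZMod p)) q) := by
  letI : X.Over (Spec (CommRingCat.of k)) := ⟨f⟩
  haveI : IsProper (X ↘ Spec (CommRingCat.of k)) := ‹IsProper f›
  have h0 : (p : Γ(X, ⊤)) = 0 := by
    have h := map_natCast (Coh.toGlobal f) p
    rw [CharP.cast_eq_zero k p, map_zero] at h
    exact h.symm
  exact (Groth.L28.EtCartan.finite_H_const (k := k) p (Fact.out : p.Prime) h0 q).1

end Groth.Agent.S0104
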