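import Groth.Statements.S0636
import Groth.Agent.L21.CurveFin.Const
import Groth.Agent.L21.CurveFin.Constr
import Groth.Agent.S0104

set_option autoImplicit false
set_option backward.isDefEq.respectTransparency false
set_option linter.style.haveILetI false
open CategoryTheory CategoryTheory.Limits AlgebraicGeometry Opposite
universe u
open EtCore

namespace Groth.Agent.S0636

/-- Let k be an algebraically closed field, X proper over k of dimension at most 1, and F a
constructible torsion abelian sheaf on the small etale site of X. Then every etale cohomology group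
H^q(X, F) is finite (no restriction on the torsion orders). -/
theorem result (k : Type u) [Field k] [IsAlgClosed k] (X : Scheme.{u})
    (f : X ⟶ Spec (CommRingCat.of k)) [IsProper f]
    (hdim : topologicalKrullDim X ≤ 1) (F : EtCoh.Ab X) (hF : EtPBC.IsConstructible F) (hFt : EtCoh.IsTorsion F)
    (q : ℕ) : Finite (EtCoh.H X F q) := by
  haveI : IsLocallyNoetherian X := LocallyOfFiniteType.isLocallyNoetherian f
  haveI : CompactSpace ↥X := QuasiCompact.compactSpace_of_compactSpace f
  haveI : AlgebraicGeometry.IsNoetherian X := {}
  refine Groth.L21.CurveFin.finite_H_constructible (fun _ => True) (fun Y π _ p hp _ r => ?_) F hF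
    (fun U s x => ?_) q
  · by_cases hk : (p : k) = 0
    · haveI : Fact p.Prime := ⟨hp⟩
      haveI : CharP k p := (CharP.charP_iff_prime_eq_zero hp).2 hk
      haveI : IsProper (π ≫ f) := inferInstance
      exact Groth.Agent.S0104.result p (π ≫ f) r
    · haveI : NeZero p := ⟨hp.ne_zero⟩
      haveI : LocallyOfFiniteType (π ≫ f) := inferInstance
      haveI : QuasiCompact (π ≫ f) := inferInstance
      exact Groth.L21.CurveFin.finite_H_const p hk (π ≫ f)
        ((Groth.L19.topologicalKrullDim_le_of_isIntegralHom π).trans hdim) r
  · obtain ⟨V, g, hv, hfin⟩ := hFt U s x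
    obtain ⟨n, hn, h0⟩ := isOfFinAddOrder_iff_nsmul_eq_zero.1 hfin
    exact ⟨V, g, n, hv, hn, fun _ _ _ => trivial, h0⟩

end Groth.Agent.S0636
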