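import Groth.Statements.S3096
import Groth.Agent.L21.AffCd.TopP

set_option autoImplicit false
set_option backward.isDefEq.respectTransparency false
set_option linter.style.haveILetI false
universe u
open CategoryTheory CategoryTheory.Limits AlgebraicGeometry Opposite
open EtPBC

namespace Groth.Agent.S3096

/-- Let f : X ⟶ S be a proper morphism every fibre of which has (topological Krull) dimension at most n,
let p be a prime number with p = 0 in the ring of global functions of S, and let F be an abelian
sheaf on the small étale site of X every section of which, over every object of the site, is killed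
by a power of p. Then R^q f_* F = 0 for every q > n. (The published statement allows any p-torsion
sheaf, i.e. one whose sections have p-power order étale-locally; the hypothesis here is slightly
stronger, so the statement is slightly weaker.) -/
theorem result {X S : Scheme.{u}} (f : X ⟶ S) [IsProper f] [EtCoh.BCCont f]
    (p : ℕ) (hp : p.Prime) (hS : (p : Γ(S, ⊤)) = 0) (n : ℕ)
    (hdim : ∀ s : S, topologicalKrullDim (f.fiber s) ≤ n)
    (F : EtCoh.Ab X) (hF : ∀ (U : X.Etale) (s : EtCoh.sect F U), ∃ k : ℕ, p ^ k • s = 0)
    (q : ℕ) (hq : n < q) :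
    IsZero ((EtCoh.Rpush f q).obj F) := by
  have hT : EtCoh.IsTorsion F := Groth.L21.AffCd.isTorsion_of_pow p hp fun U s x =>
    ⟨U, 𝟙 U, ⟨x, rfl⟩, by simpa using hF U s⟩
  refine (Groth.L27.EtSite.isZero_iff_stalks _).2 fun Ω _ _ ξ => ?_
  obtain ⟨e⟩ := Groth.L27.PBC.nonempty_stalk_iso Ω f ξ F hT q
  refine IsZero.of_iso ?_ e
  haveI : IsProper (pullback.snd f ξ) := MorphismProperty.pullback_snd (P := @IsProper) _ _ inferInstance
  haveI : Fact p.Prime := ⟨hp⟩
  haveI : CharP Ω p := (CharP.charP_iff_prime_eq_zero hp).2 (by
    have h := congrArg (fun a => (Scheme.ΓSpecIso (CommRingCat.of Ω)).hom (ξ.appTop a)) hS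
    simpa using h)
  haveI := Groth.L21.AffCd.subsingleton_H_primary (pullback.snd f ξ) p n
    (Groth.L27.PBC.topologicalKrullDim_pullback_le f n hdim ξ) ((EtCoh.pull (pullback.fst f ξ)).obj F)
    (Groth.L21.AffCd.primary_pull (pullback.fst f ξ) p F fun U s x => ⟨U, 𝟙 U, ⟨x, rfl⟩, by simpa using hF U s⟩) q hq
  exact AddCommGrpCat.isZero_of_subsingleton _

end Groth.Agent.S3096
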