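import Groth.Statements.S3516
import Groth.Agent.L27.XV.Proper

set_option autoImplicit false
set_option linter.style.haveILetI false
set_option backward.isDefEq.respectTransparency.types false
universe u
open CategoryTheory CategoryTheory.Limits AlgebraicGeometry Opposite
open EtAcyc

namespace Groth.Agent.S3516

/-- Let R be a strictly henselian local ring, Y = Spec R, f : X → Y a proper morphism that is locally
n-acyclic for a set of primes L, and F a locally constant abelian L-torsion sheaf on the small étale
site of X. Then for every point y₁ of Y and every separably closed field Ω algebraic over the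
residue field κ(y₁), the pullback map H^q(X_ét, F) → H^q((X ×_Y Spec Ω)_ét, F|_{X ×_Y Spec Ω}) to
the cohomology of the geometric fibre over y₁ is bijective for q ≤ n and injective for q = n + 1.
The published statement also covers non-abelian coefficients and is the specialization statement
over an arbitrary base; it is stated here for abelian sheaves over a strictly local base, where the
specialization map is this pullback map. The hypothesis that pullback along the projection of the
geometric fibre preserves finite limits is carried as an instance binder. -/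
theorem result (R : Type u) [CommRing R]
    (hR : EtCoh.IsStrictlyHenselianLocalRing R) {X : Scheme.{u}} (f : X ⟶ Spec (CommRingCat.of R)) [IsProper f]
    (L : Set ℕ) (n : ℕ) (hf : EtAcyc.IsLocAcyclicN f L n) (F : EtCoh.Ab X) (hF : EtAcyc.IsLTorsion L F)
    (hlc : EtRest.IsLocallyConstant F) (y₁ : Spec (CommRingCat.of R)) (Ω : Type u) [Field Ω] [IsSepClosed Ω]
    [Algebra ((Spec (CommRingCat.of R)).residueField y₁) Ω] [Algebra.IsAlgebraic ((Spec (CommRingCat.of R)).residueField y₁) Ω]
    [PreservesFiniteLimits (EtCoh.pull (pullback.fst f (EtAcyc.geomPt (Spec (CommRingCat.of R)) y₁ Ω)))] :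
    (∀ q : ℕ, q ≤ n →
      Function.Bijective (EtCore.Hpull (pullback.fst f (EtAcyc.geomPt (Spec (CommRingCat.of R)) y₁ Ω)) F q)) ∧
    Function.Injective (EtCore.Hpull (pullback.fst f (EtAcyc.geomPt (Spec (CommRingCat.of R)) y₁ Ω)) F (n + 1)) := by
  obtain ⟨_, _⟩ := hR
  by_cases hL : ∃ ℓ ∈ L, ℓ.Prime
  · exact Groth.L27.XV.bijective_geomFibre_of_proper R f L hL n hf F hF hlc y₁ Ω
  · have hz : IsZero F := Groth.L27.XV.isZero_of_no_prime (fun ℓ h hp => hL ⟨ℓ, h, hp⟩) hF
    have h1 : ∀ q, Subsingleton (EtCoh.H X F q) := fun q =>
      AddCommGrpCat.subsingleton_of_isZero ((EtCoh.HF X q).map_isZero hz)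
    haveI : (EtCoh.pull (pullback.fst f (EtAcyc.geomPt (Spec (CommRingCat.of R)) y₁ Ω))).Additive :=
      (EtCoh.pullPushAdj _).left_adjoint_additive
    have h2 : ∀ q, Subsingleton (EtCoh.H _ ((EtCoh.pull (pullback.fst f (EtAcyc.geomPt (Spec (CommRingCat.of R)) y₁ Ω))).obj F) q) :=
      fun q => AddCommGrpCat.subsingleton_of_isZero ((EtCoh.HF _ q).map_isZero ((EtCoh.pull _).map_isZero hz))
    exact ⟨fun q _ => ⟨fun a b _ => (h1 q).elim a b, fun b => ⟨0, (h2 q).elim _ b⟩⟩, fun a b _ => (h1 (n + 1)).elim a b⟩

end Groth.Agent.S3516
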