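import Groth.Statements.S10514
import Groth.Agent.L23.LocP
import Groth.Agent.L23.Points
import Groth.Agent.S7190
import Groth.Agent.L28.Ph.Cover

set_option autoImplicit false
universe u
open CategoryTheory CategoryTheory.Limits AlgebraicGeometry
open AlgSp

namespace Groth.Agent.S10514

/-- An fppf covering of an algebraic space `X` over `S` by algebraic spaces is a ph covering of `X`: its
members are locally of finite type and every morphism from an affine scheme `Z` to `X` admits a
standard ph covering of `Z` whose members lift through members of the family. -/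
theorem result {S : Scheme.{u}} (X : AlgSp.Space S) {ι : Type u}
    (Xi : ι → AlgSp.Space S) (g : ∀ i, Xi i ⟶ X)
    (h : AlgSp.IsFppfCover (fun i => (Xi i).obj) (fun i => (g i).hom)) :
    AlgSp.IsPhCover (fun i => (Xi i).obj) (fun i => (g i).hom) := by
  have hlft : ∀ {A B : Scheme.{u}} (φ : A ⟶ B), LocallyOfFinitePresentation φ → LocallyOfFiniteType φ :=
    fun φ hφ => by haveI := hφ; infer_instance
  refine ⟨fun i => Groth.L23.locP_mono hlft (h.1 i).2, fun Z hZ k => ?_⟩
  haveI := hZ
  have sq := fun i => IsPullback.of_hasPullback (g i).hom k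
  have hP : ∀ i, AlgSp.IsAlgSpace (pullback (g i).hom k) := fun i =>
    Groth.L23.isAlgSpace_of_isPullback X.property.diag (Xi i).property (AlgSp.IsAlgSpace.yon_obj Z) (sq i)
  choose U p hp hps using fun i => (hP i).atlas
  choose c hc using fun i => (AlgSp.yon S).map_surjective (p i ≫ pullback.snd (g i).hom k)
  let E : PreZeroHypercover.{u} Z.left := { I₀ := ι, X := fun i => (U i).left, f := fun i => (c i).left }
  have e0 : ∀ i, p i ≫ pullback.snd (g i).hom k = (AlgSp.yon S).map (c i) ≫ 𝟙 _ := fun i =>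
    (hc i).symm.trans (Category.comp_id _).symm
  have hfl : ∀ i, Flat (E.f i) := fun i =>
    Groth.L23.locP_of_isPullback Groth.L23.etLocal_flat (Xi i).property X.property
      (AlgSp.IsAlgSpace.yon_obj Z) (sq i) (h.1 i).1 (p i) (𝟙 _) (c i) (hp i) (AlgSp.repWith_id _ Z) (e0 i)
  have hlfp : ∀ i, LocallyOfFinitePresentation (E.f i) := fun i =>
    Groth.L23.locP_of_isPullback Groth.L23.etLocal_lfp (Xi i).property X.property
      (AlgSp.IsAlgSpace.yon_obj Z) (sq i) (h.1 i).2 (p i) (𝟙 _) (c i) (hp i) (AlgSp.repWith_id _ Z) (e0 i)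
  have hsurj : ∀ z : Z.left, ∃ (i : ι) (x : (U i).left), (c i).left x = z := fun z => by
    obtain ⟨i, y, hy⟩ := h.2 (AlgSp.Points.ofPt k z)
    obtain ⟨q, -, hq⟩ := Groth.L23.exists_of_isPullback (sq i) y (AlgSp.Points.ofScheme Z z)
      (by rw [← AlgSp.Points.ofPt_eq_map_ofScheme]; exact hy)
    obtain ⟨v, rfl⟩ := Groth.L23.surjective_ofPt (hps i) q
    rw [AlgSp.Points.map_ofPt, ← hc i, Groth.L23.ofPt_map] at hq
    exact ⟨i, v, (AlgSp.Points.schemeEquiv Z).injective hq⟩
  obtain ⟨F, hF, href⟩ := Groth.L28.Ph.refinable_of_isPhCover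
    (Groth.Agent.S7190.result E hfl hlfp hsurj) (𝟙 Z.left)
  refine ⟨F, hF, fun j => ?_⟩
  obtain ⟨i, m, hm⟩ := href j
  have hm' : m ≫ (c i).left = F.f j := hm.trans (Category.comp_id _)
  let M : Over.mk (F.f j ≫ Z.hom) ⟶ U i := Over.homMk m (by
    show m ≫ (U i).hom = F.f j ≫ Z.hom
    rw [← hm', Category.assoc, Over.w (c i)])
  refine ⟨i, (AlgSp.yon S).map M ≫ p i ≫ pullback.fst (g i).hom k, ?_⟩
  show ((AlgSp.yon S).map M ≫ p i ≫ pullback.fst (g i).hom k) ≫ (g i).hom = _
  rw [Category.assoc, Category.assoc, pullback.condition, ← reassoc_of% (hc i), ← Category.assoc,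
    ← Functor.map_comp]
  exact congrArg (· ≫ k) (congrArg (AlgSp.yon S).map (Over.OverMorphism.ext hm'))

end Groth.Agent.S10514
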