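import Groth.Statements.S0118
import Groth.Agent.L27.TopInv.Thickening

set_option autoImplicit false
open CategoryTheory CategoryTheory.Limits AlgebraicGeometry Opposite
universe u
open EtBase

namespace Groth.Agent.S0118

/-- Base change to a closed subscheme with the same underlying space is an equivalence between the
categories of étale schemes over the two. -/
theorem result {S S₀ : Scheme.{u}} (i : S₀ ⟶ S) [IsClosedImmersion i] [Surjective i] :
    (EtCoh.bc i).IsEquivalence := by
  exact Groth.L27.TopInv.isEquivalence_bc_of_thickening i

end Groth.Agent.S0118
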