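import Groth.Statements.S10699
import Groth.Agent.L23.SpacePushout

set_option autoImplicit false
set_option backward.isDefEq.respectTransparency.types false
set_option linter.style.haveILetI false
universe u
open CategoryTheory CategoryTheory.Limits AlgebraicGeometry
open AlgSp

namespace Groth.Agent.S10699

/-- Let `t : X → X'` be a thickening of schemes over `S` and `a : X → Y` an affine morphism of schemes
over `S`, and let `Y'` be a pushout of `t` and `a` in the category of schemes over `S`. Then `Y'`
remains a pushout when the square is viewed among algebraic spaces over `S`. -/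
theorem result {S : Scheme.{u}} {X X' Y Y' : Over S} (t : X ⟶ X') (a : X ⟶ Y)
    (a' : X' ⟶ Y') (b : Y ⟶ Y') (ht : MoreMor.IsThickening t.left) [IsAffineHom a.left]
    (hpo : IsPushout t a a' b) :
    IsPushout ((AlgSp.ofScheme S).map t) ((AlgSp.ofScheme S).map a) ((AlgSp.ofScheme S).map a')
      ((AlgSp.ofScheme S).map b) := by
  obtain ⟨hcl, hsurj⟩ := ht
  have := hcl
  have := hsurj
  have hp : Groth.L20.Pinch.IsPinch t.left a.left a'.left b.left :=
    Groth.L20.Pinch.IsPinch.of_isPushout (Groth.L20.Pinch.std_of_thickening hsurj.surj) (hpo.map (Over.forget S))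
  have := hp.isClosedImmersion_b
  have : Surjective b.left := ⟨hp.surjective_b hsurj.surj⟩
  exact Groth.L23.SpacePushout.isPushout_ofScheme t a a' b hp
    (Groth.L23.SpacePushout.etaleGlues_of_thickening _ _ _ _ hp.comm)

end Groth.Agent.S10699
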