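import Groth.Statements.S9869
import Groth.Agent.L23.LocP
import Groth.Agent.L24.Boot.QuotSlice
import Mathlib.CategoryTheory.Sites.EpiMono

set_option autoImplicit false
universe u
open CategoryTheory CategoryTheory.Limits AlgebraicGeometry
open AlgSp

namespace Groth.Agent.S9869

/-- Let `s, t : R ⟶ U` be an etale equivalence relation on a scheme `U` over `S` and suppose that the
fppf quotient sheaf `U/R` is an algebraic space over `S`. Then the quotient map `h_U ⟶ U/R` is
representable etale and representable surjective, and `(U, R, h_U ⟶ U/R)` is a presentation of `U/R`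
(in particular `h_R`, with `h_t` and `h_s`, is the fibre product `h_U ×_{U/R} h_U`). The quotient
map is written on `h_U` through the canonical identification of `h_U` with the sheafified
representable presheaf. -/
theorem result (S : Scheme.{u}) {R U : Over S} (s t : R ⟶ U)
    (h : AlgSp.IsEtaleEqvRel s t) (hq : AlgSp.IsAlgSpace (QuotSh.quot Scheme.fppfPrecoverage s t)) :
    AlgSp.IsPresentation s t
      ((QuotSh.repIsoUliftYoneda Scheme.fppfPrecoverage U).inv ≫ QuotSh.quotπ Scheme.fppfPrecoverage s t) := by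
  haveI := h.etale_left
  haveI := h.etale_right
  let p := (QuotSh.repIsoUliftYoneda Scheme.fppfPrecoverage U).inv ≫ QuotSh.quotπ Scheme.fppfPrecoverage s t
  let e := Groth.L24.Boot.quotIso s t
  have hpe : p ≫ e.hom = AlgSp.quotSpπ ((AlgSp.yon S).map s) ((AlgSp.yon S).map t) := by
    show (_ ≫ _) ≫ _ = _
    rw [Category.assoc, Groth.L24.Boot.quotπ_comp_quotIso, Iso.inv_hom_id_assoc]
  have sq0 := Groth.L24.Boot.isPullback_quotSpπ (Groth.L24.Boot.isEqvRelSp_of_isEqvRel h.toIsEqvRel)
  have sq : IsPullback ((AlgSp.yon S).map t) ((AlgSp.yon S).map s) p p := by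
    refine sq0.of_iso (Iso.refl _) (Iso.refl _) (Iso.refl _) e.symm ?_ ?_ ?_ ?_ <;>
      simp [← hpe, p]
  haveI : Epi p := by
    have : Epi (AlgSp.quotSpπ ((AlgSp.yon S).map s) ((AlgSp.yon S).map t)) :=
      inferInstanceAs (Epi (coequalizer.π _ _))
    rw [show p = AlgSp.quotSpπ ((AlgSp.yon S).map s) ((AlgSp.yon S).map t) ≫ e.inv by rw [← hpe]; simp]
    infer_instance
  haveI : Sheaf.IsLocallySurjective p := (Sheaf.isLocallySurjective_iff_epi' (φ := p)).2 inferInstance
  have hp : AlgSp.Representable p := hq.representable_from_yon p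
  haveI := Groth.L23.etLocal_etale.{u}.target
  haveI := Groth.L23.isLocalAtTarget_fppf (@Surjective : MorphismProperty Scheme.{u})
  refine ⟨h, (Groth.L23.repWith_iff_of_chart hp sq).2 h.etale_left, (Groth.L23.repWith_iff_of_chart hp sq).2 ?_, sq⟩
  obtain ⟨d, -, hd⟩ := (h.equivalence U).refl (𝟙 U)
  exact ⟨fun x => ⟨d.left x, (Scheme.Hom.comp_apply _ _ _).symm.trans
    (congrArg (fun m : U ⟶ U => m.left x) hd)⟩⟩

end Groth.Agent.S9869
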