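import Groth.Statements.S1700
import Groth.Agent.L22.Div.Assoc

set_option autoImplicit false
universe u
open CategoryTheory CategoryTheory.Limits AlgebraicGeometry

namespace Groth.Agent.S1700

open Groth.L22

/-- Let X be a Noetherian scheme and 𝓘 a quasi-coherent ideal sheaf with closed subscheme Z such that
(1) Z has no embedded points: every point of Z whose local ring has its maximal ideal associated is
a maximal point of Z; (2) every maximal point of Z has codimension 1 in X (the local ring of X there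
has dimension 1); (3) the local ring of X at every point of Z is a unique factorisation domain. Then
𝓘 is the ideal sheaf of an effective Cartier divisor. -/
theorem result (X : Scheme.{u}) [IsNoetherian X] (𝓘 : X.IdealSheafData)
    (h1 : ∀ z : ↥𝓘.subscheme, IsAssociatedPrime (IsLocalRing.maximalIdeal ↑(𝓘.subscheme.presheaf.stalk z)) ↑(𝓘.subscheme.presheaf.stalk z) → ∀ z' : ↥𝓘.subscheme, z' ⤳ z → z' = z)
    (h2 : ∀ z : ↥𝓘.subscheme, (∀ z' : ↥𝓘.subscheme, z' ⤳ z → z' = z) →
      ringKrullDim (X.presheaf.stalk (𝓘.subschemeι z)) = 1)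
    (h3 : ∀ x : ↥X, x ∈ 𝓘.support → IsDomain (X.presheaf.stalk x) ∧ UniqueFactorizationMonoid (X.presheaf.stalk x)) :
    BlowUp.IsEffCartierIdeal 𝓘 := by
  refine Div.isEffCartier_of_stalks 𝓘 fun x hx U hxU => ?_
  obtain ⟨hdom, hu⟩ := h3 x hx
  have hh : ∀ (q : Ideal (X.presheaf.stalk x)) (y : X.presheaf.stalk x), q.IsPrime →
      (∀ c, c ∈ q ↔ c * y ∈ Div.stalkIdeal 𝓘 U x hxU) → q.height = 1 := fun q y hq hy => by
    obtain ⟨z, -, hass, hdim⟩ := Div.exists_assoc_point 𝓘 U x hxU q hq y hy
    rw [h2 z (h1 z hass)] at hdim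
    exact_mod_cast hdim.symm
  have hne : Div.stalkIdeal 𝓘 U x hxU ≠ ⊥ := fun h0 => by
    have h := hh ⊥ 1 Ideal.isPrime_bot fun c => by rw [h0, mul_one]
    simp at h
  obtain ⟨a, ha0, ha⟩ := Div.isPrincipal_of_height_one _ hne hh
  exact ⟨a, ha, mem_nonZeroDivisors_of_ne_zero ha0⟩

end Groth.Agent.S1700
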