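import Groth.Statements.S2105
import Mathlib.Tactic.LinearCombination
import Mathlib.Algebra.BigOperators.Fin
import Mathlib.RingTheory.Ideal.Quotient.Operations
import Mathlib.LinearAlgebra.Finsupp.LinearCombination
-- import your own Groth.Agent.* helpers here

set_option autoImplicit false
universe u
open CAlg

namespace Groth.Agent.S2105

/-- Appending to an `H_1`-regular sequence `f` a sequence `g` whose image modulo the ideal `(f)` is
`H_1`-regular yields an `H_1`-regular sequence. -/
theorem result {A : Type u} [CommRing A] {n m : ℕ} (f : Fin n → A)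
    (g : Fin m → A) (hf : CAlgX.IsH1Regular f)
    (hg : CAlgX.IsH1Regular (fun j => Ideal.Quotient.mk (Ideal.span (Set.range f)) (g j))) :
    CAlgX.IsH1Regular (Fin.append f g) := by
  classical
  intro v hv
  let t : Fin (n + m) → A := Fin.append f g
  let N : Submodule A (Fin (n + m) → A) := Submodule.span A
    {w | ∃ i j : Fin (n + m), w = Pi.single i (t j) - Pi.single j (t i)}
  let pl : (Fin (n + m) → A) →ₗ[A] Fin n → A := LinearMap.funLeft A A (Fin.castAdd m)
  let pr : (Fin (n + m) → A) →ₗ[A] Fin m → A := LinearMap.funLeft A A (Fin.natAdd n)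
  let il : (Fin n → A) →ₗ[A] Fin (n + m) → A :=
    { toFun := fun a => Fin.append a 0
      map_add' := fun a b => funext fun i => Fin.addCases (fun i => by simp) (fun i => by simp) i
      map_smul' := fun r a => funext fun i => Fin.addCases (fun i => by simp) (fun i => by simp) i }
  let ir : (Fin m → A) →ₗ[A] Fin (n + m) → A :=
    { toFun := fun a => Fin.append 0 a
      map_add' := fun a b => funext fun i => Fin.addCases (fun i => by simp) (fun i => by simp) i
      map_smul' := fun r a => funext fun i => Fin.addCases (fun i => by simp) (fun i => by simp) i }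
  have hil : ∀ a ∈ Submodule.span A {w : Fin n → A | ∃ i j, w = Pi.single i (f j) - Pi.single j (f i)}, il a ∈ N := by
    intro a ha
    refine (Submodule.span_le (p := N.comap il)).2 ?_ ha
    rintro _ ⟨i, j, rfl⟩
    refine Submodule.subset_span ⟨Fin.castAdd m i, Fin.castAdd m j, funext fun k => ?_⟩
    refine Fin.addCases (fun k => ?_) (fun k => ?_) k <;> simp [il, t, Pi.single_apply, Fin.ext_iff] <;> rw [if_neg (by omega), if_neg (by omega), sub_zero]
  have hir : ∀ a ∈ Submodule.span A {w : Fin m → A | ∃ i j, w = Pi.single i (g j) - Pi.single j (g i)}, ir a ∈ N := by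
    intro a ha
    refine (Submodule.span_le (p := N.comap ir)).2 ?_ ha
    rintro _ ⟨i, j, rfl⟩
    refine Submodule.subset_span ⟨Fin.natAdd n i, Fin.natAdd n j, funext fun k => ?_⟩
    refine Fin.addCases (fun k => ?_) (fun k => ?_) k <;> simp [ir, t, Pi.single_apply, Fin.ext_iff] <;> rw [if_neg (by omega), if_neg (by omega), sub_zero]
  have hzero : ∀ w ∈ N, ∑ i, w i * t i = 0 := by
    intro w hw
    refine (Submodule.span_le (p := LinearMap.ker (Fintype.linearCombination A t))).2 ?_ hw |>
      (fun h => by simpa [Fintype.linearCombination_apply, smul_eq_mul] using h)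
    rintro _ ⟨i, j, rfl⟩
    simp [Fintype.linearCombination_apply, Pi.single_apply, mul_sub, sub_mul, Finset.sum_sub_distrib, mul_comm]
  let S : Submodule A (Fin m → A) := N.map pr
  let I : Ideal A := Ideal.span (Set.range f)
  have hI : ∀ (k : Fin m) (x : A), x ∈ I → Pi.single k x ∈ S := by
    intro k x hx
    induction hx using Submodule.span_induction with
    | mem x hx =>
      obtain ⟨i, rfl⟩ := hx
      refine ⟨_, Submodule.subset_span ⟨Fin.natAdd n k, Fin.castAdd m i, rfl⟩, funext fun l => ?_⟩
      simp [pr, t, Pi.single_apply, Fin.ext_iff, LinearMap.funLeft_apply]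
      omega
    | zero => simp
    | add x y _ _ hx hy => rw [Pi.single_add]; exact add_mem hx hy
    | smul r x _ hx => rw [Pi.single_smul]; exact S.smul_mem r hx
  let π : (Fin m → A) →ₗ[A] Fin m → A ⧸ I :=
    { toFun := fun a k => Ideal.Quotient.mk I (a k)
      map_add' := fun a b => rfl
      map_smul' := fun r a => rfl }
  have hπ : ∀ a k, π a k = Ideal.Quotient.mk I (a k) := fun _ _ => rfl
  have hsum : ∑ i, v (Fin.castAdd m i) * f i + ∑ j, v (Fin.natAdd n j) * g j = 0 := by
    rw [← hv, Fin.sum_univ_add]; simp
  have hvr : pr v ∈ S := by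
    have hrel : ∑ j, π (pr v) j * Ideal.Quotient.mk I (g j) = 0 := by
      have h0 : Ideal.Quotient.mk I (∑ i, v (Fin.castAdd m i) * f i) = 0 :=
        Ideal.Quotient.eq_zero_iff_mem.2 (Ideal.sum_mem _ fun i _ =>
          Ideal.mul_mem_left _ _ (Ideal.subset_span ⟨i, rfl⟩))
      have h1 := congrArg (Ideal.Quotient.mk I) hsum
      rw [map_add, h0, zero_add, map_zero, map_sum] at h1
      simp only [hπ, pr, LinearMap.funLeft_apply]
      simpa using h1
    have h := hg _ hrel
    rw [← Submodule.restrictScalars_mem A,
      Submodule.restrictScalars_span A (A ⧸ I) Ideal.Quotient.mk_surjective] at h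
    have hle : Submodule.span A {w : Fin m → A ⧸ I | ∃ i j : Fin m,
        w = Pi.single i (Ideal.Quotient.mk I (g j)) - Pi.single j (Ideal.Quotient.mk I (g i))} ≤
        (Submodule.span A {w : Fin m → A | ∃ i j, w = Pi.single i (g j) - Pi.single j (g i)}).map π := by
      rw [Submodule.span_le]
      rintro _ ⟨i, j, rfl⟩
      refine ⟨_, Submodule.subset_span ⟨i, j, rfl⟩, funext fun k => ?_⟩
      simp only [hπ, Pi.sub_apply, Pi.single_apply, map_sub, apply_ite (Ideal.Quotient.mk I), map_zero]
    obtain ⟨b₀, hb₀, he⟩ := hle h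
    have h1 : b₀ ∈ S := ⟨ir b₀, hir b₀ hb₀, funext fun l => by simp [pr, ir, LinearMap.funLeft_apply]⟩
    have h2 : pr v - b₀ ∈ S := by
      rw [← Finset.univ_sum_single (pr v - b₀)]
      refine Submodule.sum_mem _ fun k _ => hI k _ ?_
      exact Ideal.Quotient.eq_zero_iff_mem.1 (by
        have := congrFun he k
        simp only [hπ] at this
        simp [this])
    simpa using add_mem h2 h1
  obtain ⟨w, hwN, hwv⟩ := hvr
  have hlast : ∀ j, w (Fin.natAdd n j) = v (Fin.natAdd n j) := fun j => congrFun hwv j
  have hd : ∑ i, (v (Fin.castAdd m i) - w (Fin.castAdd m i)) * f i = 0 := by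
    have h1 := hzero w hwN
    rw [Fin.sum_univ_add] at h1
    simp [t, hlast] at h1
    simp only [sub_mul, Finset.sum_sub_distrib]
    linear_combination hsum - h1
  have hfin := hil _ (hf _ hd)
  have he : v = il (fun i => v (Fin.castAdd m i) - w (Fin.castAdd m i)) + w := funext fun k =>
    Fin.addCases (fun i => by simp [il]) (fun j => by simp [il, hlast]) k
  rw [he]
  exact add_mem hfin hwN

end Groth.Agent.S2105
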