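import Groth.Statements.S0526
import Groth.Agent.L05.Hensel.Perm

set_option autoImplicit false
universe u
open Hensel

namespace Groth.Agent.S0526

/-- If `A` is Henselian at `I` and `B` is an integral `A`-algebra, then `B` is Henselian at `IB`. -/
theorem result (A : Type u) [CommRing A] (I : Ideal A) [HenselianRing A I] (B : Type u) [CommRing B]
    [Algebra A B] [Algebra.IsIntegral A B] : HenselianRing B (Ideal.map (algebraMap A B) I) := by
  exact Groth.L05.henselianRing_map_of_isIntegral I B

end Groth.Agent.S0526
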