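import Groth.Statements.S6658
import Groth.Agent.L28.LocCoh.OpenRes
import Groth.Agent.L28.LocCoh.Shift
import Groth.Agent.L28.LocCoh.Snake

set_option linter.style.haveILetI false
set_option backward.isDefEq.respectTransparency.types false

set_option autoImplicit false
universe u
open CategoryTheory CategoryTheory.Limits AlgebraicGeometry Opposite
open EtDual

namespace Groth.Agent.S6658

open Groth.L28.LocCoh

theorem aux {X U : Scheme.{u}} (j : U ⟶ X) [IsOpenImmersion j] :
    (∀ F : EtCoh.Ab X, Nonempty (cokernel (EtDual.unitApp j F) ≅ (EtDual.locCoh j 1).obj F)) ∧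
      ∀ (p : ℕ) (F : EtCoh.Ab X),
        Nonempty ((EtCoh.Rpush j (p + 1)).obj ((EtCoh.pull j).obj F) ≅ (EtDual.locCoh j (p + 2)).obj F) := by
  haveI := preservesFiniteLimits_pull j
  haveI := preservesInjectiveObjects_pull j
  haveI : PreservesLimitsOfSize.{0, 0} (EtCoh.push j) := (EtCoh.pullPushAdj j).rightAdjoint_preservesLimits
  haveI : PreservesFiniteLimits (EtCoh.push j) := PreservesLimitsOfSize.preservesFiniteLimits _
  haveI : PreservesColimitsOfSize.{0, 0} (EtCoh.pull j) := (EtCoh.pullPushAdj j).leftAdjoint_preservesColimits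
  haveI : PreservesFiniteColimits (EtCoh.pull j) := PreservesColimitsOfSize.preservesFiniteColimits _
  haveI : (EtCoh.pull j).Additive := Functor.additive_of_preserves_binary_products _
  haveI : PreservesFiniteLimits (EtCoh.pull j ⋙ EtCoh.push j) := comp_preservesFiniteLimits _ _
  let η : 𝟭 (EtCoh.Ab X) ⟶ EtCoh.pull j ⋙ EtCoh.push j := (EtCoh.pullPushAdj j).unit
  haveI hΓ : PreservesFiniteLimits (EtDual.secSupp j) :=
    ((EtDual.secSupp j).preservesFiniteLimits_tfae.out 0 3 rfl rfl).1
      fun T hT => ⟨exact_kerComplex η T hT, mono_kerComplex η T hT⟩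
  have pres : ∀ F : EtCoh.Ab X, ∃ T : ShortComplex (EtCoh.Ab X), T.ShortExact ∧ Injective T.X₂ ∧ T.X₁ = F :=
    fun F => ⟨ShortComplex.mk (Injective.ι F) (cokernel.π _) (cokernel.condition _),
      { exact := ShortComplex.exact_of_g_is_cokernel _ (cokernelIsCokernel (Injective.ι F))
        mono_f := inferInstanceAs (Mono (Injective.ι F))
        epi_g := inferInstanceAs (Epi (cokernel.π (Injective.ι F))) }, inferInstanceAs (Injective (Injective.under F)), rfl⟩
  have h1 : ∀ F : EtCoh.Ab X, Nonempty (cokernel (EtDual.unitApp j F) ≅ (EtDual.locCoh j 1).obj F) := fun F => by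
    obtain ⟨T, hT, hI, rfl⟩ := pres F
    haveI : Epi (η.app T.X₂) := epi_unit j T.X₂
    obtain ⟨e⟩ := nonempty_cokernel_zero_iso (EtDual.secSupp j) hT
    obtain ⟨e'⟩ := nonempty_cokernel_iso_of_epi η T hT
    exact ⟨e'.symm ≪≫ e⟩
  refine ⟨h1, fun p => ?_⟩
  induction p with
  | zero =>
    intro F
    obtain ⟨T, hT, hI, rfl⟩ := pres F
    haveI : Epi (η.app T.X₂) := epi_unit j T.X₂
    haveI := hT.epi_g
    haveI : Injective (T.map (EtCoh.pull j)).X₂ := inferInstanceAs (Injective ((EtCoh.pull j).obj T.X₂))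
    obtain ⟨a⟩ := nonempty_cokernel_zero_iso (EtCoh.push j) (hT.map_of_exact (EtCoh.pull j))
    obtain ⟨b⟩ := h1 T.X₃
    obtain ⟨c⟩ := nonempty_succ_iso (EtDual.secSupp j) hT 0
    refine ⟨a.symm ≪≫ (cokernelEpiComp (η.app T.X₂) ((EtCoh.pull j ⋙ EtCoh.push j).map T.g)).symm ≪≫
      cokernelIsoOfEq (η.naturality T.g).symm ≪≫ cokernelEpiComp T.g (η.app T.X₃) ≪≫ b ≪≫ c⟩
  | succ p ih =>
    intro F
    obtain ⟨T, hT, hI, rfl⟩ := pres F
    haveI : Injective (T.map (EtCoh.pull j)).X₂ := inferInstanceAs (Injective ((EtCoh.pull j).obj T.X₂))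
    obtain ⟨a⟩ := nonempty_succ_iso (EtCoh.push j) (hT.map_of_exact (EtCoh.pull j)) p
    obtain ⟨b⟩ := ih T.X₃
    obtain ⟨c⟩ := nonempty_succ_iso (EtDual.secSupp j) hT (p + 1)
    exact ⟨a.symm ≪≫ b ≪≫ c⟩

/-- The exact sequence and the isomorphisms: let j : U → X be an open immersion of schemes with closed
complement Z and F an abelian sheaf on the small etale site of X. Write H^q_Z(F) for the q-th local
cohomology sheaf of F with support in Z, kept as a sheaf on X (the q-th right derived functor of G ↦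
ker(G → j_* j⁻¹ G)). Then the cokernel of the unit F → j_* j⁻¹ F is isomorphic to H^1_Z(F), and for
every p ≥ 1 the higher direct image R^p j_* (j⁻¹ F) is isomorphic to H^{p+1}_Z(F). (The published
statement also gives the distinguished triangle behind these isomorphisms and identifies them with
its connecting maps; this row asserts only that isomorphisms exist.) -/
theorem result {X U : Scheme.{u}} (j : U ⟶ X) [IsOpenImmersion j]
    (F : EtCoh.Ab X) :
    Nonempty (cokernel (EtDual.unitApp j F) ≅ (EtDual.locCoh j 1).obj F) ∧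
      ∀ p : ℕ, 1 ≤ p →
        Nonempty ((EtCoh.Rpush j p).obj ((EtCoh.pull j).obj F) ≅ (EtDual.locCoh j (p + 1)).obj F) := by
  refine ⟨(aux j).1 F, fun p hp => ?_⟩
  obtain ⟨q, rfl⟩ : ∃ q, p = q + 1 := ⟨p - 1, by omega⟩
  exact (aux j).2 q F

end Groth.Agent.S6658
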