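import Groth.Statements.S3364
import Groth.Agent.L28.AcycCrit.Square
import Groth.Agent.S6658

set_option autoImplicit false
universe u
open CategoryTheory CategoryTheory.Limits AlgebraicGeometry Opposite
open EtDepth

set_option backward.isDefEq.respectTransparency.types false
set_option linter.style.haveILetI false

namespace Groth.Agent.S3364

open Groth.L28

variable {X U : Scheme.{u}} (j : U ⟶ X) [IsOpenImmersion j]

theorem locCohZero (F : EtCoh.Ab X) : IsZero ((EtDual.locCoh j 0).obj F) ↔ Mono ((EtCoh.pullPushAdj j).unit.app F) := by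
  haveI := LocCoh.preservesFiniteLimits_pull j
  haveI := AcycCrit.preservesFiniteLimits_push j
  haveI : (EtCoh.pull j).Additive := (EtCoh.pullPushAdj j).left_adjoint_additive
  haveI : PreservesFiniteLimits (EtCoh.pull j ⋙ EtCoh.push j) := comp_preservesFiniteLimits _ _
  let η : 𝟭 (EtCoh.Ab X) ⟶ EtCoh.pull j ⋙ EtCoh.push j := (EtCoh.pullPushAdj j).unit
  haveI : PreservesFiniteLimits (EtDual.secSupp j) :=
    ((EtDual.secSupp j).preservesFiniteLimits_tfae.out 0 3 rfl rfl).1
      fun T hT => ⟨LocCoh.exact_kerComplex η T hT, LocCoh.mono_kerComplex η T hT⟩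
  refine ((EtDual.secSupp j).rightDerivedZeroIsoSelf.app F).isZero_iff.trans ⟨fun h => ?_, fun h => ?_⟩
  · exact Preadditive.mono_of_kernel_zero (h.eq_zero_of_src (kernel.ι (EtDual.unitApp j F)))
  · exact isZero_kernel_of_mono (EtDual.unitApp j F)

theorem depth_iff (F : EtCoh.Ab X) (m : ℕ) :
    EtDepth.DepthGE j F (m + 2) ↔ IsIso ((EtCoh.pullPushAdj j).unit.app F) ∧
      ∀ p : ℕ, 0 < p → p ≤ m → IsZero ((EtCoh.Rpush j p).obj ((EtCoh.pull j).obj F)) := by
  obtain ⟨⟨e₁⟩, -⟩ := S6658.result j F
  constructor
  · intro h
    haveI := (locCohZero j F).1 (h 0 (by omega))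
    haveI : Epi ((EtCoh.pullPushAdj j).unit.app F) := Abelian.epi_of_cokernel_π_eq_zero _
      ((e₁.isZero_iff.2 (h 1 (by omega))).eq_zero_of_tgt _)
    refine ⟨isIso_of_mono_of_epi _, fun p h1 h2 => ?_⟩
    obtain ⟨e⟩ := (S6658.result j F).2 p h1
    exact e.isZero_iff.2 (h (p + 1) (by omega))
  · rintro ⟨hu, hz⟩ p hp
    match p with
    | 0 => exact (locCohZero j F).2 inferInstance
    | 1 => exact e₁.isZero_iff.1 (isZero_cokernel_of_epi _)
    | p + 2 =>
      obtain ⟨e⟩ := (S6658.result j F).2 (p + 1) (by omega)
      exact e.isZero_iff.1 (hz (p + 1) (by omega) (by omega))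


/-- Let X be a scheme, j : U → X an open immersion with closed complement Y, F an abelian sheaf on the
small étale site of X and n ≥ 0. Then the local cohomology sheaves H^p_Y(X, F) vanish for p < n if
and only if for every scheme X' étale over X, with U' = X' ×_X U, the restriction maps H^p(X', F) →
H^p(U', F) are bijective for p < n − 1 and injective for p = n − 1. (The restriction maps are the
prelude's pull-back maps on étale cohomology, whose exactness instance is carried as a binder. The
published statement has further equivalent conditions and is not limited to a single sheaf; only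
this equivalence, for one abelian sheaf, is stated here.) -/
theorem result {X U : Scheme.{u}} (j : U ⟶ X) [IsOpenImmersion j] [EtCoh.BCCont j] (F : EtCoh.Ab X) (n : ℕ) : EtDepth.DepthGE j F n ↔ ∀ (X' : Scheme.{u}) (g : X' ⟶ X) [Etale g] [PreservesFiniteLimits (EtCoh.pull (pullback.snd j g))], (∀ p : ℕ, p + 1 < n → Function.Bijective (EtCore.Hpull (pullback.snd j g) ((EtCoh.pull g).obj F) p)) ∧ (∀ p : ℕ, p + 1 = n → Function.Injective (EtCore.Hpull (pullback.snd j g) ((EtCoh.pull g).obj F) p)) := by
  match n with
  | 0 => exact ⟨fun _ _ _ _ _ => ⟨fun p h => absurd h (by omega), fun p h => absurd h (by omega)⟩,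
      fun _ p h => absurd h (by omega)⟩
  | 1 =>
    constructor
    · intro h X' g _ _
      refine ⟨fun p hp => absurd hp (by omega), fun p hp => ?_⟩
      obtain rfl : p = 0 := by omega
      haveI := (locCohZero j F).1 (h 0 Nat.one_pos)
      refine (AcycCrit.injective_Hpull_zero_iff _).2 ((AcycCrit.injective_unit_iff
        (IsPullback.of_hasPullback j g) F).2 ?_)
      exact (AcycCrit.mono_iff_injective _).1 this _
    · intro h p hp
      obtain rfl : p = 0 := by omega
      refine (locCohZero j F).2 ((AcycCrit.mono_iff_injective _).2 fun V => ?_)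
      let v : V.left ⟶ X := V.hom
      haveI : Etale v := V.prop
      haveI := Groth.L27.EtSite.preservesFiniteLimits_pull (pullback.snd j v)
      have h1 := (AcycCrit.injective_unit_iff (IsPullback.of_hasPullback j v) F).1
        ((AcycCrit.injective_Hpull_zero_iff _).1 ((h V.left v).2 0 rfl))
      let η := (EtCoh.pullPushAdj j).unit.app F
      let i := AcycCrit.topIso V v rfl
      have hn : η.hom.app _ ∘ F.obj.map i.hom.op =
          ((EtCoh.push j).obj ((EtCoh.pull j).obj F)).obj.map i.hom.op ∘ η.hom.app (op V) :=
        funext fun s => NatTrans.naturality_apply η.hom i.hom.op s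
      have h2 := h1.comp (ConcreteCategory.bijective_of_isIso (F.obj.map i.hom.op)).1
      rw [hn] at h2
      exact h2.of_comp
  | m + 2 =>
    rw [depth_iff]
    constructor
    · rintro ⟨hu, hz⟩ X' g _ _
      have hsq : IsPullback (pullback.fst j g) (pullback.snd j g) j g := IsPullback.of_hasPullback j g
      haveI := AcycCrit.isIso_unit_of_square hsq F
      obtain ⟨hb, hi⟩ := AcycCrit.compN_of_unit (pullback.snd j g) ((EtCoh.pull g).obj F) m
        fun q h1 h2 => AcycCrit.isZero_of_square hsq F q (hz q h1 h2)
      refine ⟨fun p hp => hb p (by omega), fun p hp => ?_⟩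
      obtain rfl : p = m + 1 := by omega
      exact hi
    · intro h
      haveI hu : IsIso ((EtCoh.pullPushAdj j).unit.app F) := AcycCrit.isIso_unit j F fun V => by
        let v : V.left ⟶ X := V.hom
        haveI : Etale v := V.prop
        exact ⟨_, pullback.snd j v, pullback.fst j v, v, rfl, IsPullback.of_hasPullback j v, (h V.left v).1 0 (by omega)⟩
      refine ⟨hu, fun p => ?_⟩
      induction p using Nat.strong_induction_on with
      | _ p ih =>
        intro h1 h2
        obtain ⟨q, rfl⟩ := Nat.exists_eq_succ_of_ne_zero h1.ne'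
        refine AcycCrit.isZero_succ j F q fun V => ?_
        let v : V.left ⟶ X := V.hom
        haveI : Etale v := V.prop
        have hsq : IsPullback (pullback.fst j v) (pullback.snd j v) j v := IsPullback.of_hasPullback j v
        refine ⟨_, pullback.snd j v, pullback.fst j v, v, rfl, hsq, AcycCrit.isIso_unit_of_square hsq F,
          fun r r1 r2 => AcycCrit.isZero_of_square hsq F r (ih r (by omega) r1 (by omega)), @fun i => ?_⟩
        obtain ⟨hb, hi⟩ := @h V.left v _ i
        refine ⟨hb _ (by omega), ?_⟩
        rcases Nat.eq_or_lt_of_le (show q + 1 ≤ m by omega) with e | e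
        · exact hi _ (by omega)
        · exact (hb _ (by omega)).1

end Groth.Agent.S3364
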