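import Groth.Statements.S5181
import Groth.Agent.S3364
import Groth.Agent.L28.ConstSect.FEtRestrict

set_option autoImplicit false
universe u
open CategoryTheory CategoryTheory.Limits AlgebraicGeometry Opposite
open EtDepth

set_option backward.isDefEq.respectTransparency.types false
set_option linter.style.haveILetI false

namespace Groth.Agent.S5181

open Groth.L28 Groth.L27

variable {X U : Scheme.{u}} (j : U ⟶ X) [IsOpenImmersion j]

theorem range_eps (V : X.Etale) :
    Set.range (ExtZero.epsE j V).left.base = V.hom.base ⁻¹' Set.range j.base := Scheme.Pullback.range_fst V.hom j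

theorem unit_injective_iff (F : EtCoh.Ab X) (V : X.Etale) :
    (Function.Injective (((EtCoh.pullPushAdj j).unit.app F).hom.app (op V)) ↔
        Function.Injective (F.obj.map (ExtZero.epsE j V).op)) ∧
      (Function.Bijective (((EtCoh.pullPushAdj j).unit.app F).hom.app (op V)) ↔
        Function.Bijective (F.obj.map (ExtZero.epsE j V).op)) := by
  haveI := ExtZero.jCont j
  have hk := ConcreteCategory.bijective_of_isIso
    (((sheafToPresheaf _ _).map ((EtCoh.push j).map ((ExtZero.pullRestr j).hom.app F))).app (op V))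
  have e : ((EtCoh.push j).map ((ExtZero.pullRestr j).hom.app F)).hom.app (op V) ∘
      ((EtCoh.pullPushAdj j).unit.app F).hom.app (op V) = F.obj.map (ExtZero.epsE j V).op :=
    funext fun s => congrArg (fun m => m.hom.app (op V) s) (ExtZero.unit_pullRestr j F)
  exact ⟨(hk.1.of_comp_iff _).symm.trans (iff_of_eq (congrArg _ e)),
    (Function.Bijective.of_comp_iff' hk _).symm.trans (iff_of_eq (congrArg _ e))⟩

theorem mono_iff (F : EtCoh.Ab X) : Mono ((EtCoh.pullPushAdj j).unit.app F) ↔
    ∀ V : X.Etale, Function.Injective (F.obj.map (ExtZero.epsE j V).op) :=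
  (AcycCrit.mono_iff_injective _).trans (forall_congr' fun V => (unit_injective_iff j F V).1)

theorem isIso_iff (F : EtCoh.Ab X) : IsIso ((EtCoh.pullPushAdj j).unit.app F) ↔
    ∀ V : X.Etale, Function.Bijective (F.obj.map (ExtZero.epsE j V).op) := by
  refine Iff.trans ⟨fun _ V => ?_, fun h => ?_⟩ (forall_congr' fun V => (unit_injective_iff j F V).2)
  · exact ConcreteCategory.bijective_of_isIso (((sheafToPresheaf _ _).map ((EtCoh.pullPushAdj j).unit.app F)).app (op V))
  · haveI : IsIso ((sheafToPresheaf _ _).map ((EtCoh.pullPushAdj j).unit.app F)) := by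
      haveI : ∀ V, IsIso (((sheafToPresheaf _ _).map ((EtCoh.pullPushAdj j).unit.app F)).app V) := fun V =>
        (ConcreteCategory.isIso_iff_bijective _).2 (h V.unop)
      exact NatIso.isIso_of_isIso_app _
    exact isIso_of_reflects_iso _ (sheafToPresheaf _ _)

theorem isOpenEmbedding_eps (V : X.Etale) : Topology.IsOpenEmbedding (ExtZero.epsE j V).left.base :=
  (pullback.fst V.hom j).isOpenEmbedding

theorem dense_of_injective (h : ∀ V : X.Etale,
    Function.Injective ((EtCoh.const X (ZMod 2)).obj.map (ExtZero.epsE j V).op)) : ConstSect.DenseEt j := by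
  intro T t _
  let V : X.Etale := MorphismProperty.Over.mk ⊤ t ‹Etale t›
  refine dense_iff_inter_open.2 fun O hO hne => ?_
  let O' : V.left.Opens := ⟨O, hO⟩
  haveI : Nonempty (ConstSect.openSub V O').left := hne.to_subtype
  obtain ⟨w⟩ := ConstSect.nonempty_of_injective _ (h (ConstSect.openSub V O'))
  let x : O'.toScheme := (ExtZero.epsE j (ConstSect.openSub V O')).left.base w
  have hx : x ∈ Set.range (ExtZero.epsE j (ConstSect.openSub V O')).left.base := ⟨w, rfl⟩
  rw [range_eps] at hx
  exact ⟨O'.ι x, x.2, hx⟩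

omit [IsOpenImmersion j] in
theorem dense_of_faithful (h : ∀ (X' : Scheme.{u}) (g : X' ⟶ X) [Etale g],
    (FEt.restrict (pullback.snd j g)).Faithful) : ConstSect.DenseEt j := by
  intro T t _
  refine dense_iff_inter_open.2 fun O hO hne => ?_
  let O' : T.Opens := ⟨O, hO⟩
  haveI : Nonempty O'.toScheme := hne.to_subtype
  obtain ⟨w⟩ := ConstSect.nonempty_of_faithful (h O'.toScheme (O'.ι ≫ t))
  have hx : pullback.snd j (O'.ι ≫ t) w ∈ Set.range (pullback.snd j (O'.ι ≫ t)).base := ⟨w, rfl⟩
  rw [Scheme.Pullback.range_snd] at hx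
  exact ⟨O'.ι (pullback.snd j (O'.ι ≫ t) w), (pullback.snd j (O'.ι ≫ t) w).2, hx⟩

omit [IsOpenImmersion j] in
theorem conds_snd (hD : ConstSect.DenseEt j) {X' : Scheme.{u}} (g : X' ⟶ X) [Etale g] :
    ConstSect.DenseEt (pullback.snd j g) ∧
      (ConstSect.ExtEt j → ConstSect.ExtEt (pullback.snd j g)) := by
  refine ⟨fun T t _ => ?_, fun hE T t _ => ?_⟩
  · rw [Scheme.Pullback.range_snd]; exact hD T (t ≫ g)
  · rw [Scheme.Pullback.range_snd]; exact hE T (t ≫ g)

theorem injective_of_dense (hD : ConstSect.DenseEt j) (M : Type) [AddCommGroup M] (V : X.Etale) :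
    Function.Injective ((EtCoh.const X M).obj.map (ExtZero.epsE j V).op) := by
  refine ConstSect.injective_res _ ?_
  haveI : Etale V.hom := V.prop
  rw [range_eps]; exact hD V.left V.hom

theorem depthOne_iff (F : EtCoh.Ab X) [EtCoh.BCCont j] : EtDepth.DepthGE j F 1 ↔
    Mono ((EtCoh.pullPushAdj j).unit.app F) :=
  ⟨fun h => (S3364.locCohZero j F).1 (h 0 Nat.one_pos), fun h p hp => by
    obtain rfl : p = 0 := by omega
    exact (S3364.locCohZero j F).2 h⟩

theorem depthTwo_iff (F : EtCoh.Ab X) [EtCoh.BCCont j] : EtDepth.DepthGE j F 2 ↔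
    IsIso ((EtCoh.pullPushAdj j).unit.app F) :=
  (S3364.depth_iff j F 0).trans ⟨fun h => h.1, fun h => ⟨h, fun p hp hp' => absurd hp' (by omega)⟩⟩


/-- Last assertion, in the cases of depth ≥ 1 and depth ≥ 2. Let X be a scheme and j : U → X an open
immersion with closed complement Y; for X' étale over X write U' = X' ×_X U. Then (a) the Y-étale
depth of X is ≥ 1, i.e. the local cohomology sheaf H^0_Y(Z/ℓ) vanishes for every prime ℓ, if and
only if for every scheme X' étale over X the restriction functor from finite étale covers of X' to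
finite étale covers of U' is faithful; and (b) the Y-étale depth of X is ≥ 2, i.e. H^0_Y(Z/ℓ) and
H^1_Y(Z/ℓ) vanish for every prime ℓ, if and only if for every scheme X' étale over X that
restriction functor is full and faithful. (The case of depth ≥ 3 versus equivalences is the
prelude's definition of homotopic depth ≥ 3.) -/
theorem result {X U : Scheme.{u}} (j : U ⟶ X) [IsOpenImmersion j] [EtCoh.BCCont j] : ((∀ ℓ : ℕ, ℓ.Prime → EtDepth.DepthGE j (EtCoh.const X (ZMod ℓ)) 1) ↔ ∀ (X' : Scheme.{u}) (g : X' ⟶ X) [Etale g], (FEt.restrict (pullback.snd j g)).Faithful) ∧ ((∀ ℓ : ℕ, ℓ.Prime → EtDepth.DepthGE j (EtCoh.const X (ZMod ℓ)) 2) ↔ ∀ (X' : Scheme.{u}) (g : X' ⟶ X) [Etale g], (FEt.restrict (pullback.snd j g)).Full ∧ (FEt.restrict (pullback.snd j g)).Faithful) := by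
  constructor
  · constructor
    · intro h X' g _
      exact ConstSect.faithful_restrict (conds_snd j (dense_of_injective j
        ((mono_iff j _).1 ((depthOne_iff j _).1 (h 2 Nat.prime_two)))) g).1
    · intro h ℓ _
      exact (depthOne_iff j _).2 ((mono_iff j _).2 (injective_of_dense j (dense_of_faithful j h) _))
  · constructor
    · intro h X' g _
      have hb := (isIso_iff j _).1 ((depthTwo_iff j _).1 (h 2 Nat.prime_two))
      have hD := dense_of_injective j fun V => (hb V).1
      have hE : ConstSect.ExtEt j := fun T t _ => by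
        let V : X.Etale := MorphismProperty.Over.mk ⊤ t ‹Etale t›
        have := ConstSect.clopenExt_of_surjective _ (hb V).2
        rw [range_eps] at this
        exact this
      obtain ⟨h1, h2⟩ := conds_snd j hD g
      exact ⟨ConstSect.full_restrict h1 (h2 hE), ConstSect.faithful_restrict h1⟩
    · intro h ℓ hℓ
      haveI : Fact ℓ.Prime := ⟨hℓ⟩
      have hD := dense_of_faithful j fun X' g _ => (h X' g).2
      refine (depthTwo_iff j _).2 ((isIso_iff j _).2 fun V => ⟨injective_of_dense j hD _ V, ?_⟩)
      haveI : Etale V.hom := V.prop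
      refine ConstSect.surjective_res _ (isOpenEmbedding_eps j V) ?_ ?_
      · rw [range_eps]; exact hD V.left V.hom
      · have := ConstSect.clopenExt_of_full (h V.left V.hom).1
        rw [Scheme.Pullback.range_snd] at this
        rw [range_eps]; exact this

end Groth.Agent.S5181
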