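import Groth.Statements.S10120
import Groth.Agent.L23.GroupFieldScheme
-- import your own Groth.Agent.* helpers here

set_option autoImplicit false
set_option backward.isDefEq.respectTransparency.types false
universe u
open CategoryTheory CategoryTheory.Limits AlgebraicGeometry MonoidalCategory MonObj
open AlgSp

namespace Groth.Agent.S10120

/-- A group algebraic space over a field `k` that is separated over `k` is a scheme. -/
theorem result (k : Type u) [Field k]
    (G : Over ((AlgSp.yon (Spec (CommRingCat.of k))).obj (Over.mk (𝟙 _)))) [GrpObj G]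
    (hG : AlgSp.IsAlgSpace G.left) (hsep : AlgSp.IsSeparatedSp G.left) :
    G.left.obj.IsRepresentable := by
  have hqs : AlgSp.IsQuasiSeparatedSp G.left :=
    Groth.L23.repWith_mono (Q := @QuasiCompact) (fun f (_ : IsClosedImmersion f) => inferInstanceAs (QuasiCompact f)) hsep
  obtain ⟨X', j, hj, hrep, hjr⟩ := Groth.L23.SL.exists_locus hG
  have := Groth.L23.isIso_of_openImmersion_surjective hj fun z =>
    hjr.ge (Groth.L23.GrpPts.schemePt_of_field G hG hqs z)
  obtain ⟨T', ⟨e'⟩⟩ := Groth.L23.isRepresentable_iff_exists_iso.1 hrep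
  exact Groth.L23.isRepresentable_iff_exists_iso.2 ⟨T', ⟨e' ≪≫ asIso j⟩⟩

end Groth.Agent.S10120
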