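import Groth.Statements.S10217
import Groth.Agent.L23.QFMulti
import Groth.Agent.L23.LocP

set_option autoImplicit false
set_option backward.isDefEq.respectTransparency.types false
universe u
open CategoryTheory CategoryTheory.Limits AlgebraicGeometry Topology TopologicalSpace
open AlgSp

namespace Groth.Agent.S10217

/-- Let X be an algebraic space over a scheme S and x̄ a geometric point of X. Then the category of
etale neighbourhoods of x̄ (schemes etale over X with a lift of x̄) is cofiltered: it is nonempty,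
any two neighbourhoods are dominated by a third, and any two morphisms between neighbourhoods are
equalised by a morphism from a further neighbourhood. -/
theorem result {S : Scheme.{u}} (X : AlgSp.Space S) (p : AlgSp.FieldPt X.obj) (hp : p.IsGeometric) :
    IsCofiltered (AlgSp.EtNbhd p) := by
  have : IsAlgClosed p.K := hp
  have cone : ∀ (M N : AlgSp.EtNbhd p), ∃ (W : AlgSp.EtNbhd p) (_ : W ⟶ M) (_ : W ⟶ N), True := by
    intro M N
    obtain ⟨R, r₁, r₂, sq⟩ := Groth.L23.exists_isPullback_of_representable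
      (X.property.representable_from_yon M.1.obj.hom) N.1.obj.hom
    obtain ⟨ρ, hρ₁, hρ₂⟩ := Groth.L23.exists_lift_yon sq M.2.1 N.2.1 (M.2.2.trans N.2.2.symm)
    have he : AlgSp.RepWith @Etale ((AlgSp.yon S).map r₁ ≫ M.1.obj.hom) :=
      Groth.L23.repWith_comp (Groth.L23.repWith_of_isPullback sq.flip N.1.property) M.1.property
    let W : AlgSp.EtNbhd p := ⟨AlgSp.EtOver.mk _ he, ⟨ρ, by
      show (AlgSp.yon S).map ρ ≫ (AlgSp.yon S).map r₁ ≫ M.1.obj.hom = _
      rw [← Functor.map_comp_assoc, hρ₁]; exact M.2.2⟩⟩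
    exact ⟨W, ⟨AlgSp.EtOver.homMk r₁ rfl, Subtype.ext hρ₁⟩,
      ⟨AlgSp.EtOver.homMk r₂ (by exact sq.w.symm), Subtype.ext hρ₂⟩, trivial⟩
  refine { toIsCofilteredOrEmpty := ⟨cone, ?_⟩, nonempty := ?_ }
  · intro M N f g
    obtain ⟨R, r₁, r₂, sq⟩ := Groth.L23.exists_isPullback_of_representable
      (X.property.representable_from_yon N.1.obj.hom) N.1.obj.hom
    obtain ⟨m, hm₁, hm₂⟩ := Groth.L23.exists_lift_yon sq f.1.hom.left g.1.hom.left
      ((AlgSp.EtOver.w f.1).trans (AlgSp.EtOver.w g.1).symm)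
    obtain ⟨δ, hδ₁, hδ₂⟩ := Groth.L23.exists_lift_yon sq (𝟙 _) (𝟙 _) rfl
    have h₁ : Etale r₁.left := Groth.L23.repWith_prop N.1.property sq.flip
    have hδ : Etale δ.left := MorphismProperty.HasOfPostcompProperty.of_postcomp (W := @Etale)
      δ.left r₁.left h₁ (by rw [← Over.comp_left, hδ₁, Over.id_left]; infer_instance)
    let E := pullback m δ
    have hE : Etale (pullback.fst m δ).left :=
      MorphismProperty.of_isPullback ((IsPullback.of_hasPullback m δ).flip.map (Over.forget S)) hδ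
    have he : AlgSp.RepWith @Etale ((AlgSp.yon S).map (pullback.fst m δ) ≫ M.1.obj.hom) :=
      Groth.L23.repWith_comp (Groth.L23.repWith_map hE) M.1.property
    have e₁ : M.2.1 ≫ f.1.hom.left = N.2.1 := congrArg Subtype.val f.2
    have e₂ : M.2.1 ≫ g.1.hom.left = N.2.1 := congrArg Subtype.val g.2
    let ε : p.pt ⟶ E := pullback.lift M.2.1 N.2.1 (by
      apply (AlgSp.yon S).map_injective
      refine sq.hom_ext ?_ ?_ <;> simp only [← Functor.map_comp, Category.assoc, hm₁, hm₂, hδ₁, hδ₂, e₁, e₂,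
        Category.comp_id])
    let W : AlgSp.EtNbhd p := ⟨AlgSp.EtOver.mk _ he, ⟨ε, by
      show (AlgSp.yon S).map ε ≫ (AlgSp.yon S).map (pullback.fst m δ) ≫ M.1.obj.hom = _
      rw [← Functor.map_comp_assoc, pullback.lift_fst]; exact M.2.2⟩⟩
    refine ⟨W, ⟨AlgSp.EtOver.homMk (pullback.fst m δ) rfl, Subtype.ext (pullback.lift_fst _ _ _)⟩, ?_⟩
    refine Subtype.ext (AlgSp.EtOver.hom_ext _ _ ?_)
    show pullback.fst m δ ≫ f.1.hom.left = pullback.fst m δ ≫ g.1.hom.left
    rw [← hm₁, ← hm₂, pullback.condition_assoc, hδ₁, pullback.condition_assoc, hδ₂]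
  · obtain ⟨U, a, ha, has⟩ := X.property.atlas
    obtain ⟨u, hu⟩ := Groth.L23.surjective_ofPt has (AlgSp.Points.mk p)
    rw [← AlgSp.Points.ofPt_toHom p (IsLocalRing.closedPoint p.K)] at hu
    obtain ⟨γ, h₁, -⟩ := Groth.L23.QFL.exists_lift_algClosed ha p.toHom u _ hu.symm
    exact ⟨⟨AlgSp.EtOver.mk a ha, ⟨γ, h₁⟩⟩⟩

end Groth.Agent.S10217
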