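import Groth.Statements.S1316
import Groth.Agent.L20.ThickeningProps
import Groth.Agent.S1313

set_option autoImplicit false
universe u
open FlatMor

namespace Groth.Agent.S1316

open AlgebraicGeometry CategoryTheory Limits in
/-- Let Y ⟶ Y' be a thickening, let X be the base change to Y of a scheme X' over Y', and assume both X
⟶ Y and X' ⟶ Y' are locally of finite type. Then X ⟶ Y is an immersion if and only if X' ⟶ Y' is. -/
theorem result {X X' Y Y' : Scheme.{u}} (iX : X ⟶ X') (iY : Y ⟶ Y') (f : X ⟶ Y) (f' : X' ⟶ Y')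
    (hY : MoreMor.IsThickening iY) (hc : IsPullback iX f f' iY) [LocallyOfFiniteType f] [LocallyOfFiniteType f'] :
    IsImmersion f ↔ IsImmersion f' := by
  refine ⟨fun h => ?_, fun h => MorphismProperty.of_isPullback hc h⟩
  obtain ⟨_, _⟩ := Groth.L20.Thick.isThickening_of_isPullback hY hc
  have hY' := hY
  obtain ⟨_, _⟩ := hY'
  have hr : Set.range f' = iY '' Set.range f := by
    rw [← Set.range_comp, ← iX.surjective.range_comp f']
    exact congrArg Set.range (funext fun x => by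
      change (iX ≫ f') x = (f ≫ iY) x
      rw [hc.w])
  have hlc : IsLocallyClosed (Set.range f') := by
    rw [hr]
    exact f.isLocallyClosed_range.image iY.isClosedEmbedding.isInducing
      (by rw [iY.surjective.range_eq]; exact isOpen_univ.isLocallyClosed)
  obtain ⟨U', hU'⟩ : ∃ U' : Y'.Opens, (U' : Set Y') = coborder (Set.range f') :=
    ⟨⟨_, hlc.isOpen_coborder⟩, rfl⟩
  have hsub' : Set.range f' ⊆ Set.range U'.ι := by
    rw [Scheme.Opens.range_ι, hU']; exact subset_coborder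
  have hsub : Set.range f ⊆ Set.range (iY ⁻¹ᵁ U').ι := by
    rw [Scheme.Opens.range_ι]
    rintro _ ⟨x, rfl⟩
    have hmem : iY (f x) ∈ Set.range U'.ι := hsub' (hr ▸ Set.mem_image_of_mem _ ⟨x, rfl⟩)
    rwa [Scheme.Opens.range_ι] at hmem
  obtain ⟨g', hg'⟩ : ∃ g' : X' ⟶ U'.toScheme, g' ≫ U'.ι = f' :=
    ⟨_, IsOpenImmersion.lift_fac U'.ι f' hsub'⟩
  obtain ⟨g, hg⟩ : ∃ g : X ⟶ (iY ⁻¹ᵁ U').toScheme, g ≫ (iY ⁻¹ᵁ U').ι = f :=
    ⟨_, IsOpenImmersion.lift_fac (iY ⁻¹ᵁ U').ι f hsub⟩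
  have hsq : g ≫ iY ∣_ U' = iX ≫ g' := by
    rw [← cancel_mono U'.ι, Category.assoc, Category.assoc, morphismRestrict_ι, hg', reassoc_of% hg, hc.w]
  have hpb : IsPullback iX g g' (iY ∣_ U') :=
    (IsPullback.of_right (by rw [hg, hg']; exact hc.flip) hsq (isPullback_morphismRestrict iY U').flip).flip
  have hth : MoreMor.IsThickening (iY ∣_ U') :=
    ⟨IsZariskiLocalAtTarget.restrict ‹_› U', IsZariskiLocalAtTarget.restrict ‹_› U'⟩
  have hl : LocallyOfFiniteType g' := by
    have : LocallyOfFiniteType (g' ≫ U'.ι) := hg' ▸ ‹_›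
    exact locallyOfFiniteType_of_comp g' U'.ι
  have hlg : LocallyOfFiniteType g := MorphismProperty.of_isPullback hpb hl
  have hci : IsClosedImmersion g := by
    have : IsImmersion (g ≫ (iY ⁻¹ᵁ U').ι) := hg ▸ h
    have : IsImmersion g := IsImmersion.of_comp g (iY ⁻¹ᵁ U').ι
    refine .of_isPreimmersion g ?_
    have e : Set.range g = (fun y => iY ((iY ⁻¹ᵁ U').ι y)) ⁻¹' (Set.range f') := by
      ext y
      rw [Set.mem_preimage, hr, iY.isClosedEmbedding.injective.mem_set_image, ← hg, Scheme.Hom.comp_base,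
        TopCat.coe_comp, Set.range_comp, (iY ⁻¹ᵁ U').ι.isOpenEmbedding.injective.mem_set_image]
    obtain ⟨C, hC, hC'⟩ : ∃ C : Set Y', IsClosed C ∧ Set.range f' = C ∩ U' :=
      ⟨closure (Set.range f'), isClosed_closure, by rw [hU']; exact (closure_inter_coborder).symm⟩
    have e' : Set.range g = (fun y => iY ((iY ⁻¹ᵁ U').ι y)) ⁻¹' C := by
      rw [e, hC']
      ext y
      exact ⟨fun h => h.1, fun h => ⟨h, (Scheme.Opens.range_ι (iY ⁻¹ᵁ U')).le ⟨y, rfl⟩⟩⟩
    rw [e']
    exact hC.preimage (iY.continuous.comp (iY ⁻¹ᵁ U').ι.continuous)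
  have : IsClosedImmersion g' := (Groth.Agent.S1313.result iX (iY ∣_ U') g g' hth hpb).mp hci
  rw [← hg']
  infer_instance

end Groth.Agent.S1316
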