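import Groth.Statements.S1312
import Groth.Agent.L20.ThickeningProps

set_option autoImplicit false
universe u
open FlatMor

namespace Groth.Agent.S1312

open AlgebraicGeometry CategoryTheory Limits in
/-- Let Y ⟶ Y' be a thickening, let X be the base change to Y of a scheme X' over Y', and assume both X
⟶ Y and X' ⟶ Y' are locally of finite type. Then X ⟶ Y is locally quasi-finite if and only if X' ⟶
Y' is. -/
theorem result {X X' Y Y' : Scheme.{u}} (iX : X ⟶ X') (iY : Y ⟶ Y') (f : X ⟶ Y) (f' : X' ⟶ Y')
    (hY : MoreMor.IsThickening iY) (hc : IsPullback iX f f' iY) [LocallyOfFiniteType f] [LocallyOfFiniteType f'] :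
    LocallyQuasiFinite f ↔ LocallyQuasiFinite f' := by
  obtain ⟨_, _⟩ := Groth.L20.Thick.isThickening_of_isPullback hY hc
  obtain ⟨_, _⟩ := hY
  refine ⟨fun h => ?_, fun h => MorphismProperty.of_isPullback hc h⟩
  rw [locallyQuasiFinite_iff_isDiscrete_preimage_singleton]
  intro y'
  obtain ⟨y, rfl⟩ := iY.surjective y'
  have e : f' ⁻¹' {iY y} = iX '' (f ⁻¹' {y}) := by
    ext x'
    obtain ⟨x, rfl⟩ := iX.surjective x'
    rw [iX.isClosedEmbedding.injective.mem_set_image, Set.mem_preimage, Set.mem_preimage,
      ← Scheme.Hom.comp_apply, hc.w, Scheme.Hom.comp_apply, Set.mem_singleton_iff, Set.mem_singleton_iff]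
    exact iY.isClosedEmbedding.injective.eq_iff
  rw [e]
  exact (f.isDiscrete_preimage_singleton y).image iX.isClosedEmbedding.isInducing

end Groth.Agent.S1312
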