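import Groth.Statements.S10044
import Groth.Agent.L23.ChevGen.Integral

set_option autoImplicit false
universe u
open CategoryTheory CategoryTheory.Limits AlgebraicGeometry
open AlgSp

set_option backward.isDefEq.respectTransparency false
set_option backward.isDefEq.respectTransparency.types false

namespace Groth.Agent.S10044

open Groth.L23.ChevGen in
/-- Let `f : X ⟶ Y` be a surjective and universally closed morphism of algebraic spaces over `S` with
`X` an affine scheme. Then `Y` is an affine scheme. -/
theorem result (S : Scheme.{u}) {X Y : AlgSp.Space S} (f : X ⟶ Y)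
    (hsurj : AlgSp.IsSurjectiveMor f.hom) (huc : AlgSp.IsUnivClosedMor f.hom) (hX : ∃ (T : Over S), IsAffine T.left ∧ Nonempty ((AlgSp.yon S).obj T ≅ X.obj)) :
    ∃ (T : Over S), IsAffine T.left ∧ Nonempty ((AlgSp.yon S).obj T ≅ Y.obj) := by
  obtain ⟨T, hT, ⟨e⟩⟩ := hX
  haveI := hT
  have hq : Representable (e.hom ≫ f.hom) := Y.property.representable_from_yon _
  have hiso : RepWith @UniversallyClosed e.hom := Groth.L23.repWith_of_isIso _
  have huq : RepWith @UniversallyClosed (e.hom ≫ f.hom) := (Groth.L23.repWith_universallyClosed_iff hq).2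
    (Groth.L23.univClosed_comp X.property Y.property ((Groth.L23.repWith_universallyClosed_iff hiso.1).1 hiso) huc)
  have hsq : RepWith @Surjective (e.hom ≫ f.hom) := Groth.L23.repWith_surjective_of_map hq fun y => by
    obtain ⟨x, rfl⟩ := hsurj y
    exact ⟨Points.map e.inv x, by rw [← Points.map_comp, e.inv_hom_id_assoc]⟩
  let g := terminal.from S
  refine isAff_of_incl (g := g) Y ?_
  haveI : IsAffine ((Over.map g).obj T).left := inferInstanceAs (IsAffine T.left)
  let Y' := Groth.L09.OverMapSp.totSp g Y
  let q := Groth.L09.OverMapSp.incl g (e.hom ≫ f.hom)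
  have hu : RepWith @UniversallyClosed q := (Groth.L09.OverMapSp.totFibre g Y.obj).repWith_ι _ huq
  have hs : RepWith @Surjective q := (Groth.L09.OverMapSp.totFibre g Y.obj).repWith_ι _ hsq
  have hsep : IsSeparatedMor (str Y'.obj) := by
    refine (Groth.L23.separation_of_surjective_univClosed (B := (yon _).obj (one _)) (IsAlgSpace.yon_obj _) Y'.property
      (IsAlgSpace.yon_obj _) (Groth.L23.surjective_map_of_repWith hs)
      ((Groth.L23.repWith_universallyClosed_iff hu.1).1 hu)).2 ?_
    obtain ⟨k, hk⟩ := (yon _).map_surjective (q ≫ str Y'.obj)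
    haveI : IsAffineHom k.left := isAffineHom_of_isAffine (Y := ⊤_ Scheme.{u}) k.left
    haveI : IsSeparated k.left := inferInstance
    rw [← hk]
    exact separated_map k
  refine isAff_of_integral Y' hsep q ?_ hs
  refine Groth.L23.repWith_mono (fun φ hφ => ?_) (Groth.L23.repWith_inf_iff.2 ⟨hu, affineHom_of_sep hsep q⟩)
  exact IsIntegralHom.iff_universallyClosed_and_isAffineHom.2 hφ

end Groth.Agent.S10044
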