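import Groth.Statements.S0592
import Groth.Agent.L19.Limit.Separated

set_option autoImplicit false
set_option backward.isDefEq.respectTransparency.types false
set_option backward.isDefEq.respectTransparency false
universe u
open CategoryTheory AlgebraicGeometry
open Lim

namespace Groth.Agent.S0592

/-- Let `S` be the limit of a cofiltered system of quasi-compact quasi-separated schemes with affine
transition morphisms. If `S` is separated, then there is an index `i₀` such that every stage mapping
to `i₀` is separated. -/
theorem result {I : Type u} [SmallCategory I] [IsCofiltered I]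
    (D : I ⥤ Scheme.{u}) (c : Limits.Cone D) (hc : Limits.IsLimit c)
    [∀ (i j : I) (f : i ⟶ j), IsAffineHom (D.map f)] [∀ i, CompactSpace (D.obj i)]
    [∀ i, QuasiSeparatedSpace (D.obj i)]
    [IsSeparated (Limits.IsTerminal.from specULiftZIsTerminal c.pt)] :
    ∃ i₀ : I, ∀ (i : I) (_ : i ⟶ i₀),
      IsSeparated (Limits.IsTerminal.from specULiftZIsTerminal (D.obj i)) := by
  obtain ⟨i₀⟩ := IsCofiltered.nonempty (C := I)
  let a : D.obj i₀ ⟶ _ := Limits.IsTerminal.from specULiftZIsTerminal (D.obj i₀)
  haveI : QuasiCompact a := quasiCompact_of_compactSpace a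
  haveI : QuasiSeparated a := .of_comp a (Limits.terminal.from _)
  haveI : IsSeparated (c.π.app i₀ ≫ a) := by
    rw [specULiftZIsTerminal.hom_ext (c.π.app i₀ ≫ a) (Limits.IsTerminal.from specULiftZIsTerminal c.pt)]
    infer_instance
  obtain ⟨j, φ, hj⟩ := Groth.L19.Limit.exists_isSeparated a hc
  refine ⟨j, fun i b => ?_⟩
  rw [specULiftZIsTerminal.hom_ext (Limits.IsTerminal.from specULiftZIsTerminal (D.obj i))
    (D.map b ≫ D.map φ ≫ a)]
  exact MorphismProperty.comp_mem _ _ _ (inferInstanceAs (IsSeparated (D.map b))) hj

end Groth.Agent.S0592
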