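import Groth.Statements.S14276
import Groth.Agent.L09.TorsorSch
import Groth.Agent.L24.Boot.SmoothSection

set_option autoImplicit false
universe u
open CategoryTheory AlgebraicGeometry
open NonAbH1

namespace Groth.Agent.S14276

/-- Let X be a scheme and G a group scheme over X which is smooth over X. Then every G-torsor for the
fppf topology is locally trivial for the étale topology on X. Here a torsor is an X-scheme with an
action of G which is a pseudo-torsor and acquires sections on the members of some fppf covering
family of X, and the conclusion says that it acquires sections on the members of some étale covering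
family of X. (The published statement is about torsors in the sense of fppf sheaves; this row states
it for torsors that are schemes.) -/
theorem result {X : Scheme.{u}}
    (G : Over X) [GrpObj G] [Smooth G.hom] (P : Over X) (a : AlgGrp.Action G P)
    (h : NonAbH1.IsTorsorFor Scheme.fppfPrecoverage a) :
    NonAbH1.IsLocallyTrivialFor Scheme.etalePrecoverage P := by
  have h' : NonAbH1.IsTorsorFor Scheme.fpqcPrecoverage a :=
    ⟨h.1, h.2.imp fun R hR => ⟨Scheme.fppfPrecoverage_le_fpqcPrecoverage _ hR.1, hR.2⟩⟩
  haveI : Smooth P.hom := Groth.L09.TorsorSch.of_grp @Smooth a h' ‹_›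
  haveI : Surjective P.hom :=
    Groth.L09.TorsorSch.of_grp @Surjective a h' (Groth.L25.Actions.surjective_grp G)
  choose S' g s' σ hg hgs hσ using fun x : P.left => Groth.L24.Boot.exists_etale_nhd_section P.hom x
  refine ⟨Presieve.ofArrows S' g, ?_, ?_⟩
  · exact (Scheme.ofArrows_mem_precoverage_iff _).mpr
      ⟨fun x => by
        obtain ⟨p, rfl⟩ := P.hom.surjective x
        exact ⟨p, s' p, hgs p⟩, hg⟩
  · rintro _ _ ⟨p⟩
    exact ⟨σ p, hσ p⟩

end Groth.Agent.S14276
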