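import Groth.Statements.S4992
import Groth.Agent.S2768
import Groth.Agent.L07.SyntDim
-- import your own Groth.Agent.* helpers here

set_option autoImplicit false
universe u
open CategoryTheory CategoryTheory.Limits AlgebraicGeometry TopologicalSpace
open Unram17

namespace Groth.Agent.S4992

open AlgebraicGeometry CategoryTheory in
theorem exists_resLE {X Y : Scheme.{u}} (f : X ⟶ Y) [Smooth f] (x : X) :
    ∃ (U : Y.Opens) (V : X.Opens) (_ : x ∈ V) (e : V ≤ f ⁻¹ᵁ U) (n : ℕ),
      SmoothOfRelativeDimension n (f.resLE U V e) := by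
  obtain ⟨U, hU, V, hV, hxV, e, hs⟩ := Smooth.exists_isStandardSmooth f x
  letI := (f.appLE U V e).hom.toAlgebra
  obtain ⟨ι, σ, hσ, hι, ⟨P⟩⟩ := (RingHom.IsStandardSmooth.toAlgebra hs).out
  have hd : (f.appLE U V e).hom.IsStandardSmoothOfRelativeDimension P.dimension :=
    P.isStandardSmoothOfRelativeDimension rfl
  refine ⟨U, V, hxV, e, P.dimension, ?_⟩
  haveI : IsAffine _ := hU
  haveI : IsAffine _ := hV
  rw [HasRingHomProperty.iff_of_isAffine (P := @SmoothOfRelativeDimension.{u} P.dimension)]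
  have : (RingHom.toMorphismProperty (RingHom.Locally (RingHom.IsStandardSmoothOfRelativeDimension P.dimension))).RespectsIso :=
    RingHom.toMorphismProperty_respectsIso_iff.mp
      (HasRingHomProperty.isLocal_ringHomProperty (@SmoothOfRelativeDimension.{u} P.dimension)).respectsIso
  exact (MorphismProperty.arrow_mk_iso_iff
    (RingHom.toMorphismProperty (RingHom.Locally (RingHom.IsStandardSmoothOfRelativeDimension P.dimension)))
    (arrowResLEAppIso f U V e)).mpr
    (RingHom.locally_of RingHom.isStandardSmoothOfRelativeDimension_respectsIso _ hd)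

/-- Let f : X ⟶ Y and g : Y ⟶ Z be smooth. For every point x of X, the local dimension at x of the fibre
of f ≫ g through x equals the local dimension at x of the fibre of f through x plus the local
dimension at f(x) of the fibre of g through f(x). -/
theorem result {X Y Z : Scheme.{u}} (f : X ⟶ Y) (g : Y ⟶ Z) [Smooth f] [Smooth g]
    (x : ↥X) :
    FlatMor.fibreDimAt (f ≫ g) x = FlatMor.fibreDimAt f x + FlatMor.fibreDimAt g (f.base x) := by
  obtain ⟨U₂, V₂, hy, e₂, m, hg⟩ := exists_resLE g (f.base x)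
  let f₂ := f ∣_ V₂
  obtain ⟨U₁, V₁, hx₁, e₁, n, hf⟩ := exists_resLE f₂ ⟨x, hy⟩
  let g' := g.resLE U₂ V₂ e₂
  let f' := f₂.resLE U₁ V₁ e₁
  haveI : SmoothOfRelativeDimension m g' := hg
  haveI : SmoothOfRelativeDimension n f' := hf
  let g'' := U₁.ι ≫ g'
  haveI : SmoothOfRelativeDimension (0 + m) g'' := inferInstance
  haveI : SmoothOfRelativeDimension (n + (0 + m)) (f' ≫ g'') := inferInstance
  let x' : V₁ := ⟨⟨x, hy⟩, hx₁⟩
  let j : (V₁ : Scheme.{u}) ⟶ X := V₁.ι ≫ (f ⁻¹ᵁ V₂).ι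
  let i : (U₁ : Scheme.{u}) ⟶ Y := U₁.ι ≫ V₂.ι
  have hw₁ : j ≫ f = f' ≫ i := by
    simp only [j, i, f', f₂, Category.assoc, Scheme.Hom.resLE_comp_ι_assoc, morphismRestrict_ι]
  have hw₂ : i ≫ g = g'' ≫ U₂.ι := by
    simp only [i, g'', g', Category.assoc, Scheme.Hom.resLE_comp_ι]
  have hw₃ : j ≫ (f ≫ g) = (f' ≫ g'') ≫ U₂.ι := by
    rw [← Category.assoc, hw₁, Category.assoc, hw₂]; simp only [Category.assoc, g'']
  have hjx : j x' = x := rfl
  have hix : i (f' x') = f.base x := by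
    rw [← Scheme.Hom.comp_apply, ← hw₁, Scheme.Hom.comp_apply]
    rfl
  have h1 := Groth.L07.SyntDim.fibreDimAt_congr f f' j i hw₁ x'
  have h2 := Groth.L07.SyntDim.fibreDimAt_congr g g'' i U₂.ι hw₂ (f' x')
  have h3 := Groth.L07.SyntDim.fibreDimAt_congr (f ≫ g) (f' ≫ g'') j U₂.ι hw₃ x'
  rw [hjx] at h1 h3
  rw [hix] at h2
  rw [h1, h2, h3, Groth.L20.SmoothDim.main n f', Groth.L20.SmoothDim.main (0 + m) g'',
    Groth.L20.SmoothDim.main (n + (0 + m)) (f' ≫ g'')]
  push_cast
  rfl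

end Groth.Agent.S4992
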