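import Groth.Statements.S6041
import Groth.Agent.L23.QuotRestrict
import Groth.Agent.L23.Epi
import Groth.Agent.L24.Boot.QuotRep

set_option autoImplicit false
open CategoryTheory CategoryTheory.Limits AlgebraicGeometry MonoidalCategory
universe u
open GrpQ

namespace Groth.Agent.S6041

set_option backward.isDefEq.respectTransparency.types false

open CartesianMonoidalCategory in
/-- For schemes and the fppf topology, easy direction: let `s, t : R ⇉ U` be a pair of morphisms of
schemes over `S` (in the source an equivalence relation), `T` a scheme over `S` and `i : Z ⟶ U ×_S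
T` such that `Z ⟶ T` is flat, surjective and locally of finite presentation and any two points of
`Z` over the same point of `T` have `R`-related images in `U`. Then the composite `h_Z ⟶ h_U ⟶ U/R`
descends to exactly one section of the fppf quotient sheaf `U/R` over `T`. -/
theorem result {S : Scheme.{u}} {R U : Over S} (s t : R ⟶ U)
    (T Z : Over S) (i : Z ⟶ U ⊗ T)
    [Flat (i ≫ snd U T).left] [Surjective (i ≫ snd U T).left] [LocallyOfFinitePresentation (i ≫ snd U T).left]
    (hZZ : ∀ (T' : Over S) (z₁ z₂ : T' ⟶ Z), z₁ ≫ i ≫ snd U T = z₂ ≫ i ≫ snd U T →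
      ∃ r : T' ⟶ R, r ≫ s = z₁ ≫ i ≫ fst U T ∧ r ≫ t = z₂ ≫ i ≫ fst U T) :
    ∃! σ : QuotSh.rep Scheme.fppfPrecoverage T ⟶ QuotSh.quot Scheme.fppfPrecoverage s t,
      QuotSh.repMap Scheme.fppfPrecoverage (i ≫ fst U T) ≫ QuotSh.quotπ Scheme.fppfPrecoverage s t =
        QuotSh.repMap Scheme.fppfPrecoverage (i ≫ snd U T) ≫ σ := by
  let K := Scheme.fppfPrecoverage.{u}
  let q := i ≫ CartesianMonoidalCategory.snd U T
  let g := i ≫ CartesianMonoidalCategory.fst U T
  let I := fun V : Over S => QuotSh.repIsoUliftYoneda K V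
  let θ := (I U).inv ≫ QuotSh.quotπ K s t
  have hI : ∀ {V W : Over S} (m : V ⟶ W), QuotSh.repMap K m = (I V).hom ≫ (AlgSp.yon S).map m ≫ (I W).inv := by
    intro V W m
    rw [← Category.assoc, ← Groth.L24.Boot.repMap_comp_iso, Category.assoc, Iso.hom_inv_id, Category.comp_id]
  have : Epi ((AlgSp.yon S).map q) := Groth.L23.QR.epi_yon_map q
  obtain ⟨hc⟩ := Groth.L23.nonempty_isColimit_cofork ((AlgSp.yon S).map q)
    ((IsPullback.of_hasPullback q q).map (AlgSp.yon S))
  have hw : (AlgSp.yon S).map (pullback.fst q q) ≫ (AlgSp.yon S).map g ≫ θ =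
      (AlgSp.yon S).map (pullback.snd q q) ≫ (AlgSp.yon S).map g ≫ θ := by
    obtain ⟨r, hr₁, hr₂⟩ := hZZ _ (pullback.fst q q) (pullback.snd q q) pullback.condition
    rw [← Functor.map_comp_assoc, ← Functor.map_comp_assoc, ← hr₁, ← hr₂]
    simp only [θ, Functor.map_comp, Category.assoc]
    refine congrArg ((AlgSp.yon S).map r ≫ ·) ((cancel_epi (I R).hom).1 ?_)
    have hqc := QuotSh.quot_condition K s t
    simp only [hI, Category.assoc] at hqc
    exact hqc
  let σ := (I T).hom ≫ hc.desc (Cofork.ofπ ((AlgSp.yon S).map g ≫ θ) hw)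
  have hσ : (AlgSp.yon S).map q ≫ hc.desc (Cofork.ofπ ((AlgSp.yon S).map g ≫ θ) hw) =
      (AlgSp.yon S).map g ≫ θ := hc.fac _ WalkingParallelPair.one
  refine ⟨σ, ?_, fun σ' h => ?_⟩
  · show QuotSh.repMap K g ≫ _ = QuotSh.repMap K q ≫ σ
    simp only [σ, hI, Category.assoc, Iso.inv_hom_id_assoc]
    rw [hσ]
  · change QuotSh.repMap K g ≫ _ = QuotSh.repMap K q ≫ σ' at h
    rw [← cancel_epi (I T).inv, ← cancel_epi ((AlgSp.yon S).map q)]
    simp only [σ, Iso.inv_hom_id_assoc, hσ]
    simp only [hI, Category.assoc] at h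
    exact ((cancel_epi (I Z).hom).1 h).symm

end Groth.Agent.S6041
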