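import Groth.Statements.S5248
import Groth.Agent.L25.Locus.Normalizer

set_option autoImplicit false
open CategoryTheory MonoidalCategory CartesianMonoidalCategory MonObj GrpObj AlgebraicGeometry
universe u
open SGA3x

namespace Groth.Agent.S5248

/-- Let G be an S-group smooth and affine over S and i : H ⟶ G a subgroup scheme of G of multiplicative
type (H of multiplicative type and of finite type, which is automatic here since G is affine and of
finite type over S). Then the normalizer of H in G (the subfunctor of points g of G with g H g⁻¹ ⊆ H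
and g⁻¹ H g ⊆ H after every base change) is representable by a closed subgroup scheme of G which is
smooth over S. -/
theorem result {S : Scheme.{u}} (H G : Over S) [GrpObj H] [GrpObj G]
    (hH : SGA3x.IsMultTypeFT H) (hG : Smooth G.hom) (hGa : IsAffineHom G.hom) (i : H ⟶ G) [IsMonHom i] [Mono i] :
    ∃ (N : Over S) (_ : GrpObj N) (j : N ⟶ G), Red.IsNormalizerOf i j ∧ IsClosedImmersion j.left ∧ Smooth N.hom := by
  have := hG
  have := hGa
  have := Groth.L25.Locus.isClosedImmersion_of_mono (Groth.L25.Locus.locally_of_multTypeFT hH) i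
  have := Groth.L25.Locus.isClosedImmersion_of_mono (Groth.L25.Locus.locally_of_multTypeFT hH) i
  obtain ⟨W, j, hj, hl, hW⟩ := Groth.L25.Locus.exists_subgroupTransporter (Groth.L25.Locus.locally_of_multTypeFT hH)
    (Groth.L25.Locus.locally_of_multTypeFT hH) i i
  have : LocallyOfFinitePresentation i.left := by
    have := Groth.L25.Locus.lfp_of_multTypeFT hH
    have : LocallyOfFinitePresentation (i.left ≫ G.hom) := by rw [Over.w i]; infer_instance
    exact Groth.L20.locallyOfFinitePresentation_of_comp i.left G.hom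
  have : LocallyOfFinitePresentation i.left := by
    have := Groth.L25.Locus.lfp_of_multTypeFT hH
    have : LocallyOfFinitePresentation (i.left ≫ G.hom) := by rw [Over.w i]; infer_instance
    exact Groth.L20.locallyOfFinitePresentation_of_comp i.left G.hom
  have := hl inferInstance inferInstance
  have : Mono j := Over.mono_of_mono_left j
  have hs := Groth.L25.Locus.smooth_subgroupTransporter (Groth.L25.Locus.locally_of_multTypeFT hH)
    (Groth.L25.Locus.locally_of_multTypeFT hH) i i j hW
  obtain ⟨hg, him⟩ := Groth.L25.Locus.exists_subgroup j (fun T' x => Groth.L25.Locus.Sends i i T' x ∧ Groth.L25.Locus.SendsBack i i T' x) hW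
    ⟨fun X' t h => ⟨h, by simp only [MonObj.comp_one, _root_.one_mul, inv_one, _root_.mul_one]⟩,
      fun X' t h => ⟨h, by simp only [MonObj.comp_one, _root_.one_mul, inv_one, _root_.mul_one]⟩⟩
    (fun T' a b ha hb => ⟨fun X' t h => by
      obtain ⟨h₁, e₁⟩ := hb.1 X' t h
      obtain ⟨h₂, e₂⟩ := ha.1 X' t h₁
      exact ⟨h₂, by rw [← e₂, ← e₁, MonObj.comp_mul]; group⟩, fun X' t h => by
      obtain ⟨h₁, e₁⟩ := ha.2 X' t h
      obtain ⟨h₂, e₂⟩ := hb.2 X' t h₁
      exact ⟨h₂, by rw [← e₂, ← e₁, MonObj.comp_mul]; group⟩⟩)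
    (fun T' a ha => ⟨fun X' t h => by
      obtain ⟨h₁, e₁⟩ := ha.2 X' t h
      exact ⟨h₁, by rw [← e₁, GrpObj.comp_inv, _root_.inv_inv]⟩, fun X' t h => by
      obtain ⟨h₁, e₁⟩ := ha.1 X' t h
      exact ⟨h₁, by rw [← e₁, GrpObj.comp_inv, _root_.inv_inv]⟩⟩)
  refine ⟨W, hg, j, ⟨him, inferInstance, fun X g => (hW X g).trans ⟨fun h X' x a => ⟨h.1 X' x a, h.2 X' x a⟩,
    fun h => ⟨fun X' x a => (h X' x a).1, fun X' x a => (h X' x a).2⟩⟩⟩, hj, hs⟩

end Groth.Agent.S5248
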