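import Groth.Statements.S14202
import Groth.Agent.L24.KrullSchmidt.Types
import Groth.Agent.L16.ProjSpace.Sections
import Groth.Agent.L16.ProjSpace.TwistMul

set_option autoImplicit false
set_option backward.isDefEq.respectTransparency.types false
universe u
open CategoryTheory CategoryTheory.Limits AlgebraicGeometry
open ASBun

namespace Groth.Agent.S14202

/-- Let X be a scheme proper over a field k, K an algebraic closure of k, e a K-isomorphism X_K ≅ P^n_K
with O_e(j) the pullback of O(j) along e, and j an integer. If W and W' are indecomposable finite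
locally free O_X-modules (nonzero, and in any decomposition as a direct sum one summand is zero)
with W_K ≅ O_e(j)^{⊕r} and W'_K ≅ O_e(−j)^{⊕r'} for some r, r' ≥ 1, then r = r': the indecomposable
modules of types O(j) and O(−j) have the same rank (W' is isomorphic to the dual of W). -/
theorem result (k : Type u) [Field k] {X : Scheme.{u}}
    (f : X ⟶ Spec (CommRingCat.of k)) [IsProper f] (n : ℕ)
    (K : Type u) [Field K] [Algebra k K] [IsAlgClosure k K] (e : BrSev.Splitting f K n) (j : ℤ)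
    (W W' : X.Modules) (hW : FlatMod.IsFinLocFree W) (hW' : FlatMod.IsFinLocFree W')
    (hWi : (¬ IsZero W ∧ ∀ M₁ M₂ : X.Modules, Nonempty (W ≅ M₁ ⊞ M₂) → IsZero M₁ ∨ IsZero M₂))
    (hW'i : (¬ IsZero W' ∧ ∀ M₁ M₂ : X.Modules, Nonempty (W' ≅ M₁ ⊞ M₂) → IsZero M₁ ∨ IsZero M₂))
    (r r' : ℕ) (hr : 0 < r) (hr' : 0 < r') (hWt : BrSev.IsTwPow e j r W)
    (hW't : BrSev.IsTwPow e (-j) r' W') : r = r' := by
  letI : X.Over (Spec (CommRingCat.of k)) := ⟨f⟩
  haveI : IsProper (X ↘ Spec (CommRingCat.of k)) := ‹IsProper f›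
  letI : (BrSev.bc f K).Over (Spec (CommRingCat.of K)) := ⟨BrSev.bcTo f K⟩
  have sq : IsPullback (BrSev.proj f K) (BrSev.bc f K ↘ Spec (CommRingCat.of K))
      (X ↘ Spec (CommRingCat.of k)) (Spec.map (CommRingCat.ofHom (algebraMap k K))) :=
    IsPullback.of_hasPullback f (Spec.map (CommRingCat.ofHom (algebraMap k K)))
  have hk : Function.Bijective (Coh.toGlobal (BrSev.bc f K ↘ Spec (CommRingCat.of K))) := by
    have h2 := ((ConcreteCategory.isIso_iff_bijective e.iso.hom.appTop).1 (inferInstanceAs (IsIso (e.iso.hom.app ⊤)))).comp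
      (Groth.L16.ProjSpace.toGlobal_bijective (n := n) (R := K))
    have h3 : BrSev.bc f K ↘ Spec (CommRingCat.of K) = e.iso.hom ≫ CohB1.ProjSpace.toSpec n K := e.comm.symm
    rw [h3]
    exact h2
  have hmem : ∀ x : CohB1.ProjSpace n K, ∃ g : CohB1.polyGrading n K 1, x ∈ Proj.basicOpen (CohB1.polyGrading n K) g.1 :=
    fun x => (Groth.L16.ProjSpace.exists_mem_basicOpen_X n K x).elim
      fun i hi => ⟨⟨_, Groth.L16.ProjSpace.X_mem n K i⟩, hi⟩
  have hinvb : ∀ i : ℤ, PicF.IsInvertible (e.twist i) := fun i =>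
    Groth.L18.Ample.isInvertible_pullback e.iso.hom (Groth.L16.ProjTwist.isInvertible_twistProjSpace n K i)
  have hmul : ∀ i : ℤ, Nonempty (CohB1.tensorMod (e.twist i) (e.twist (-i)) ≅ Coh.structureModule (BrSev.bc f K)) := fun i => by
    obtain ⟨t⟩ := Groth.L16.ProjTwist.nonempty_tensor_twist_iso_one (CohB1.polyGrading n K) hmem i (-i)
    obtain ⟨z⟩ := Groth.L16.ProjTwist.nonempty_twist_zero_iso (CohB1.polyGrading n K)
    rw [add_neg_cancel] at t
    exact ⟨Groth.L29.DC.PullTensor.pullTensor e.iso.hom _ _ ≪≫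
      (Scheme.Modules.pullback e.iso.hom).mapIso (t ≪≫ z) ≪≫ Groth.L29.LocFree.pullbackUnitIso e.iso.hom⟩
  obtain ⟨a⟩ := hWt
  obtain ⟨a'⟩ := hW't
  obtain ⟨t⟩ := hmul j
  obtain ⟨t'⟩ := hmul (-j)
  obtain ⟨D, hD, ⟨d⟩⟩ := Groth.L24.KrullSchmidt.exists_dual_type (BrSev.proj f K) hW t a
  obtain ⟨D', hD', ⟨d'⟩⟩ := Groth.L24.KrullSchmidt.exists_dual_type (BrSev.proj f K) hW'
    (Groth.L00.Tensor.tensorComm _ _ ≪≫ t) a'
  refine Nat.dvd_antisymm ?_ ?_
  · exact Groth.L24.KrullSchmidt.dvd_of_type (BrSev.proj f K) sq hk t (hinvb j) hW hWi hD' a d'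
  · exact Groth.L24.KrullSchmidt.dvd_of_type (BrSev.proj f K) sq hk t' (hinvb (-j)) hW' hW'i hD a' d

end Groth.Agent.S14202
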