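import Groth.Statements.S1878
import Groth.Agent.L24.Quot.OfGroupoid
-- import your own Groth.Agent.* helpers here

set_option autoImplicit false
universe u
open CategoryTheory CategoryTheory.Limits AlgebraicGeometry
open Grpd

namespace Groth.Agent.S1878

/-- Let (U, R, s, t, c) be a groupoid scheme over S with U, R affine and s, t finite locally free, and M
= Spec C. (1) U → M is surjective and two points of U have the same image iff some point of R has
them as target and source. (2) For every algebraically closed field k, M(k) = U(k)/R(k): every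
k-point of M lifts to U, and two k-points of U agree in M iff they are the target and source of a
k-point of R. (A groupoid scheme carries U, R, s, t, c, e, i over S with the groupoid axioms on
T-points; 'finite locally free' is finite, flat and locally of finite presentation; C ⊂ Γ(U) is the
ring of functions a with s♯(a) = t♯(a) and M = Spec C.) -/
theorem result (S : Scheme.{u}) (G : Grpd.GroupoidScheme S) [IsAffine G.U] [IsAffine G.R] [IsFinite G.s] [Flat G.s] [LocallyOfFinitePresentation G.s] [IsFinite G.t] [Flat G.t] [LocallyOfFinitePresentation G.t] : (Function.Surjective G.toQuot ∧ ∀ u₀ u₁ : G.U, G.toQuot u₀ = G.toQuot u₁ ↔ ∃ r : G.R, G.t r = u₀ ∧ G.s r = u₁) ∧ ∀ (k : Type u) [Field k] [IsAlgClosed k], (∀ m : Spec (CommRingCat.of k) ⟶ Spec (CommRingCat.of G.invariants), ∃ x : Spec (CommRingCat.of k) ⟶ G.U, x ≫ G.toQuot = m) ∧ ∀ x₀ x₁ : Spec (CommRingCat.of k) ⟶ G.U, x₀ ≫ G.toQuot = x₁ ≫ G.toQuot ↔ ∃ r : Spec (CommRingCat.of k) ⟶ G.R,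 r ≫ G.t = x₀ ∧ r ≫ G.s = x₁ := by
  letI := L24.Quot.algR G
  letI := L24.Quot.algD G
  obtain ⟨d, hs, ht, hfull⟩ := L24.Quot.exists_dat G
  haveI := d.isIntegral (d.lifts_of_full hfull)
  have hinj : Function.Injective (algebraMap G.invariants Γ(G.U, ⊤)) := Subtype.val_injective
  have htnat : G.t ≫ G.U.toSpecΓ = G.R.toSpecΓ ≫ Spec.map G.t.appTop := Scheme.toSpecΓ_naturality G.t
  have hsnat : G.s ≫ G.U.toSpecΓ = G.R.toSpecΓ ≫ Spec.map G.s.appTop := Scheme.toSpecΓ_naturality G.s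
  have hbij : Function.Bijective G.U.toSpecΓ :=
    Scheme.homeoOfIso (asIso G.U.toSpecΓ) |>.bijective
  have hbijR : Function.Bijective G.R.toSpecΓ :=
    Scheme.homeoOfIso (asIso G.R.toSpecΓ) |>.bijective
  have hw : G.t ≫ G.toQuot = G.s ≫ G.toQuot := by
    rw [Grpd.GroupoidScheme.toQuot, reassoc_of% htnat, reassoc_of% hsnat, ← Spec.map_comp, ← Spec.map_comp]
    congr 2
    exact CommRingCat.hom_ext (RingHom.ext fun c => (L24.Quot.inv_st G c).symm)
  refine ⟨⟨fun m => ?_, fun u₀ u₁ => ⟨fun h => ?_, ?_⟩⟩, fun k _ _ => ⟨fun m => ?_, fun x₀ x₁ => ⟨fun h => ?_, ?_⟩⟩⟩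
  · haveI : m.asIdeal.IsPrime := m.isPrime
    obtain ⟨P, -, hP, hPC⟩ := Ideal.exists_ideal_over_prime_of_isIntegral
      (S := Γ(G.U, ⊤)) m.asIdeal ⊥
      (by rw [← RingHom.ker_eq_comap_bot, (RingHom.injective_iff_ker_eq_bot _).1 hinj]; exact bot_le)
    obtain ⟨u, hu⟩ := hbij.2 ⟨P, hP⟩
    refine ⟨u, ?_⟩
    show Spec.map (CommRingCat.ofHom G.invariants.subtype) (G.U.toSpecΓ u) = m
    rw [hu]
    exact PrimeSpectrum.ext hPC
  · have h' : (G.U.toSpecΓ u₀).asIdeal.comap (algebraMap G.invariants Γ(G.U, ⊤)) =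
        (G.U.toSpecΓ u₁).asIdeal.comap (algebraMap G.invariants Γ(G.U, ⊤)) :=
      congrArg PrimeSpectrum.asIdeal h
    haveI : (G.U.toSpecΓ u₀).asIdeal.IsPrime := (G.U.toSpecΓ u₀).isPrime
    haveI : (G.U.toSpecΓ u₁).asIdeal.IsPrime := (G.U.toSpecΓ u₁).isPrime
    obtain ⟨Q, hQ, hQt, hQs⟩ := d.exists_prime_arrow hfull _ _ h'
    rw [ht] at hQt
    rw [hs] at hQs
    obtain ⟨r, hr⟩ := hbijR.2 ⟨Q, hQ⟩
    refine ⟨r, hbij.1 ?_, hbij.1 ?_⟩
    · rw [← Scheme.Hom.comp_apply, htnat, Scheme.Hom.comp_apply, hr]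
      exact PrimeSpectrum.ext hQt
    · rw [← Scheme.Hom.comp_apply, hsnat, Scheme.Hom.comp_apply, hr]
      exact PrimeSpectrum.ext hQs
  · rintro ⟨r, rfl, rfl⟩
    rw [← Scheme.Hom.comp_apply, hw, Scheme.Hom.comp_apply]
  · letI : Algebra G.invariants k := (Spec.preimage m).hom.toAlgebra
    obtain ⟨x⟩ := L24.Quot.exists_algHom_algClosed hinj k
    refine ⟨Spec.map (CommRingCat.ofHom (x : Γ(G.U, ⊤) →+* k)) ≫ inv G.U.toSpecΓ, ?_⟩
    rw [Grpd.GroupoidScheme.toQuot, Category.assoc, IsIso.inv_hom_id_assoc, ← Spec.map_comp,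
      ← Spec.map_preimage m]
    congr 1
    exact CommRingCat.hom_ext (RingHom.ext x.commutes)
  · let φ : (Spec (CommRingCat.of k) ⟶ G.U) → (Γ(G.U, ⊤) →+* k) := fun x =>
      (Spec.preimage (x ≫ G.U.toSpecΓ)).hom
    have hφ : ∀ x, x ≫ G.U.toSpecΓ = Spec.map (CommRingCat.ofHom (φ x)) := fun x => by
      simp [φ]
    letI : Algebra G.invariants k := ((φ x₀).comp G.invariants.subtype).toAlgebra
    have hC : (φ x₀).comp G.invariants.subtype = (φ x₁).comp G.invariants.subtype := by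
      rw [Grpd.GroupoidScheme.toQuot, reassoc_of% (hφ x₀), reassoc_of% (hφ x₁), ← Spec.map_comp,
        ← Spec.map_comp] at h
      exact congrArg CommRingCat.Hom.hom (Spec.map_injective h)
    obtain ⟨r, h0, h1⟩ := d.exists_arrow hfull k ⟨φ x₀, fun _ => rfl⟩
      ⟨φ x₁, fun c => (RingHom.congr_fun hC c).symm⟩
    rw [ht] at h0
    rw [hs] at h1
    refine ⟨Spec.map (CommRingCat.ofHom (r : Γ(G.R, ⊤) →+* k)) ≫ inv G.R.toSpecΓ, ?_, ?_⟩
    · rw [← cancel_mono G.U.toSpecΓ, Category.assoc, Category.assoc, htnat, IsIso.inv_hom_id_assoc,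
        ← Spec.map_comp, hφ]
      congr 1
      exact CommRingCat.hom_ext (congrArg AlgHom.toRingHom h0)
    · rw [← cancel_mono G.U.toSpecΓ, Category.assoc, Category.assoc, hsnat, IsIso.inv_hom_id_assoc,
        ← Spec.map_comp, hφ]
      congr 1
      exact CommRingCat.hom_ext (congrArg AlgHom.toRingHom h1)
  · rintro ⟨r, rfl, rfl⟩
    rw [Category.assoc, Category.assoc, hw]

end Groth.Agent.S1878
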