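import Groth.Statements.S7396
import Groth.Agent.L19.Approx.System

set_option autoImplicit false
set_option backward.isDefEq.respectTransparency.types false
set_option backward.isDefEq.respectTransparency false
set_option linter.style.haveILetI false
universe u
open CategoryTheory AlgebraicGeometry
open Lim

namespace Groth.Agent.S7396

/-- Let `f : X → S` be finite with `S` quasi-compact and quasi-separated. Then there are a morphism `f'
: X' → S` which is finite and of finite presentation and a closed immersion `X → X'` over `S`. -/
theorem result {X S : Scheme.{u}} (f : X ⟶ S) [IsFinite f]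
    [CompactSpace S] [QuasiSeparatedSpace S] :
    ∃ (X' : Scheme.{u}) (f' : X' ⟶ S) (j : X ⟶ X'), IsFinite f' ∧ LocallyOfFinitePresentation f' ∧
      IsClosedImmersion j ∧ j ≫ f' = f := by
  haveI : CompactSpace X := QuasiCompact.compactSpace_of_compactSpace f
  haveI : QuasiSeparatedSpace X := quasiSeparatedSpace_of_quasiSeparated f
  obtain ⟨Z, g, j, hg, hc, hq, hj, rfl⟩ := Groth.L19.Approx.embeds_of_locallyOfFiniteType f
  haveI : QuasiCompact g := quasiCompact_of_compactSpace g
  obtain ⟨i, hi⟩ := Groth.L19.Approx.exists_stage_isFinite j g
  obtain ⟨k, hk, hkg⟩ := Groth.L19.Approx.exists_stage_embedding j g i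
  exact ⟨_, _, k, hi, Groth.L19.Approx.lfp_overSystem j g i, hk, hkg⟩

end Groth.Agent.S7396
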