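import Groth.Statements.S7381
import Groth.Agent.L19.Approx.System
import Groth.Agent.S7396

set_option autoImplicit false
set_option backward.isDefEq.respectTransparency.types false
set_option backward.isDefEq.respectTransparency false
set_option linter.style.haveILetI false
universe u
open CategoryTheory AlgebraicGeometry
open Lim

namespace Groth.Agent.S7381

/-- Let `f : X → S` be finite with `S` quasi-compact and quasi-separated. Then, in the category of
schemes over `S`, `X` is the limit of a nonempty directed inverse system of schemes `X_i → S` that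
are finite and locally of finite presentation, with closed immersions as transition morphisms. -/
theorem result {X S : Scheme.{u}} (f : X ⟶ S) [IsFinite f]
    [CompactSpace S] [QuasiSeparatedSpace S] :
    ∃ (I : Type u) (_ : Preorder I) (_ : IsDirected I (fun a b => a ≤ b)) (_ : Nonempty I)
      (D : Iᵒᵖ ⥤ Over S) (c : Limits.Cone D) (_ : Limits.IsLimit c),
      (∀ i, IsFinite (D.obj i).hom ∧ LocallyOfFinitePresentation (D.obj i).hom) ∧
      (∀ (i j : Iᵒᵖ) (a : i ⟶ j), IsClosedImmersion (D.map a).left) ∧
      Nonempty (c.pt ≅ Over.mk f) := by
  obtain ⟨Z, g, j, hg, hg', hj, rfl⟩ := Groth.Agent.S7396.result f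
  haveI := hg
  haveI : CompactSpace Z := QuasiCompact.compactSpace_of_compactSpace g
  haveI : QuasiSeparatedSpace Z := quasiSeparatedSpace_of_quasiSeparated g
  refine ⟨_, inferInstance, inferInstance, inferInstance, Groth.L19.Approx.overSystem j g,
    Groth.L19.Approx.overCone j g, Groth.L19.Approx.isLimitOverCone j g, fun i => ?_,
    fun i i' a => Groth.L19.Approx.isClosedImmersion_overSystem_map j g a,
    ⟨Groth.L19.Approx.overConeIso j g⟩⟩
  refine ⟨?_, Groth.L19.Approx.lfp_overSystem j g i⟩
  exact inferInstanceAs (IsFinite (i.unop.1.subschemeι ≫ g))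

end Groth.Agent.S7381
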