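import Groth.Statements.S1477
import Groth.Agent.S7381
import Groth.Agent.L19.Approx.Zmt
import Groth.Agent.L19.Limit.BaseChange
import Groth.Agent.L23.SchemeFacts

set_option autoImplicit false
universe u
open FlatMor

set_option linter.style.haveILetI false
set_option backward.isDefEq.respectTransparency.types false

namespace Groth.Agent.S1477

open AlgebraicGeometry CategoryTheory Limits in
/-- Let S be quasi-compact and quasi-separated and f : X → S separated, quasi-compact, locally
quasi-finite and locally of finite presentation. Then f factors as a quasi-compact open immersion X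
→ T followed by a morphism T → S which is finite and of finite presentation. -/
theorem result {X S : Scheme.{u}} (f : X ⟶ S) [CompactSpace ↑S] [QuasiSeparatedSpace ↑S]
    [IsSeparated f] [QuasiCompact f] [LocallyQuasiFinite f] [LocallyOfFinitePresentation f] :
    ∃ (T : Scheme.{u}) (j : X ⟶ T) (π : T ⟶ S), IsOpenImmersion j ∧ QuasiCompact j ∧ IsFinite π ∧ LocallyOfFinitePresentation π ∧ j ≫ π = f := by
  obtain ⟨T₀, j₀, π₀, _, _, hπ₀, hf⟩ := Groth.L19.Approx.exists_openImmersion_finite f
  haveI := hπ₀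
  obtain ⟨I, _, _, _, D, c, hc, hD, hcl, ⟨e⟩⟩ := Groth.Agent.S7381.result π₀
  haveI : IsConnected Iᵒᵖ := IsCofiltered.isConnected _
  let F := D ⋙ Over.forget S
  let c' := (Over.forget S).mapCone c
  have hc' : Limits.IsLimit c' := Limits.isLimitOfPreserves (Over.forget S) hc
  haveI : ∀ {i i'} (a : i ⟶ i'), IsClosedImmersion (F.map a) := fun a => hcl _ _ a
  haveI : ∀ {i i'} (a : i ⟶ i'), IsAffineHom (F.map a) := fun a => inferInstance
  let p : ∀ i, F.obj i ⟶ S := fun i => (D.obj i).hom
  haveI : ∀ i, IsFinite (p i) := fun i => (hD i).1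
  haveI : ∀ i, CompactSpace (F.obj i) := fun i => QuasiCompact.compactSpace_of_compactSpace (p i)
  haveI : ∀ i, QuasiSeparatedSpace (F.obj i) := fun i => quasiSeparatedSpace_of_quasiSeparated (p i)
  haveI : CompactSpace X := QuasiCompact.compactSpace_of_compactSpace f
  let eI : T₀ ⟶ c'.pt := e.inv.left
  haveI : IsIso eI := inferInstanceAs (IsIso ((Over.forget S).map e.inv))
  let jj : X ⟶ c'.pt := j₀ ≫ eI
  obtain ⟨i, W, hWc, hW⟩ := exists_preimage_eq F c' hc' jj.opensRange (isCompact_range jj.continuous)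
  haveI : CompactSpace W.toScheme := isCompact_iff_compactSpace.mp hWc
  haveI : QuasiSeparatedSpace W.toScheme := QuasiSeparatedSpace.of_isOpenEmbedding W.ι.isOpenEmbedding
  let G := Groth.L19.Limit.bcDiagram F W.ι
  let cG := Groth.L19.Limit.bcCone F c' W.ι
  have hcG : Limits.IsLimit cG := Groth.L19.Limit.isLimitBcCone W.ι hc'
  have hsnd : ∀ {k} (a : k ⟶ i), IsClosedImmersion (Limits.pullback.snd (F.map a) W.ι) := fun a =>
    MorphismProperty.pullback_snd (P := @IsClosedImmersion) _ _ inferInstance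
  have hcs : ∀ {k} (a : k ⟶ i), CompactSpace ↥(Limits.pullback (F.map a) W.ι) ∧
      QuasiSeparatedSpace ↥(Limits.pullback (F.map a) W.ι) := fun a => by
    haveI := hsnd a
    exact ⟨QuasiCompact.compactSpace_of_compactSpace (Limits.pullback.snd (F.map a) W.ι),
      quasiSeparatedSpace_of_quasiSeparated (Limits.pullback.snd (F.map a) W.ι)⟩
  have hfp : ∀ {k} (a : k ⟶ i), Limits.pullback.fst (F.map a) W.ι ≫ p k =
      Limits.pullback.snd (F.map a) W.ι ≫ W.ι ≫ p i := fun a => by
    rw [← Limits.pullback.condition_assoc]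
    exact congrArg (Limits.pullback.fst (F.map a) W.ι ≫ ·) (Over.w (D.map a)).symm
  haveI : ∀ j, CompactSpace (G.obj j) := fun j => (hcs j.hom).1
  haveI : ∀ j, QuasiSeparatedSpace (G.obj j) := fun j => (hcs j.hom).2
  haveI : ∀ {a b : Over i} (φ : a ⟶ b), IsAffineHom (G.map φ) := fun φ => inferInstance
  let pr : cG.pt ⟶ c'.pt := Limits.pullback.fst (c'.π.app i) W.ι
  haveI : IsOpenImmersion pr :=
    MorphismProperty.pullback_fst (P := @IsOpenImmersion) _ _ inferInstance
  have hrange : Set.range jj = Set.range pr := by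
    refine Eq.trans ?_ (Scheme.Pullback.range_fst (c'.π.app i) W.ι).symm
    rw [Scheme.Opens.range_ι, show Set.range jj = (jj.opensRange : Set _) from rfl, ← hW]
    rfl
  let x : X ≅ cG.pt := IsOpenImmersion.isoOfRangeEq jj pr hrange
  have hx : x.hom ≫ pr = jj := IsOpenImmersion.isoOfRangeEq_hom_fac _ _ _
  let s : X ⟶ W.toScheme := x.hom ≫ Limits.pullback.snd (c'.π.app i) W.ι
  have hs : s ≫ W.ι ≫ (p i) = f := by
    simp only [s, Category.assoc]
    have h1 : Limits.pullback.snd (c'.π.app i) W.ι ≫ W.ι ≫ p i = pr ≫ c'.π.app i ≫ p i :=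
      ((Category.assoc _ _ _).symm.trans (congrArg (· ≫ p i)
        (Limits.pullback.condition (f := c'.π.app i) (g := W.ι)).symm)).trans (Category.assoc _ _ _)
    have h2 : c'.π.app i ≫ p i = c.pt.hom := Over.w (c.π.app i)
    have h3 : eI ≫ c.pt.hom = π₀ := Over.w e.inv
    calc x.hom ≫ Limits.pullback.snd (c'.π.app i) W.ι ≫ W.ι ≫ p i
        = x.hom ≫ pr ≫ c'.π.app i ≫ p i := congrArg (x.hom ≫ ·) h1
      _ = jj ≫ c'.π.app i ≫ p i := by rw [← Category.assoc, hx]
      _ = j₀ ≫ π₀ := by rw [h2]; exact (Category.assoc _ _ _).trans (congrArg (j₀ ≫ ·) h3)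
      _ = f := hf
  haveI : LocallyOfFinitePresentation s := Groth.L23.lfp_of_comp_lft s (W.ι ≫ (p i)) (by rw [hs]; infer_instance)
  let t : G ⟶ (Functor.const (Over i)).obj W.toScheme :=
    { app := fun j => Limits.pullback.snd (F.map j.hom) W.ι
      naturality := fun j k φ => by
        simp only [Functor.const_obj_map, Category.comp_id]
        exact (Limits.pullback.lift_snd _ _ _).trans (Category.comp_id _) }
  obtain ⟨j, r, hr1, hr2⟩ := Scheme.exists_π_app_comp_eq_of_locallyOfFinitePresentation G t s cG hcG x.inv (by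
    ext j
    simp only [NatTrans.comp_app, s, x.inv_hom_id_assoc]
    exact (Limits.pullback.lift_snd _ _ _).trans (Category.comp_id _))
  have ht : t.app j = Limits.pullback.snd (F.map j.hom) W.ι := rfl
  have hm : ∀ {k} (a : k ⟶ i), Mono (Limits.pullback.snd (F.map a) W.ι) := fun a => by
    haveI := hsnd a
    infer_instance
  haveI : Mono (r ≫ s) := by rw [hr2]; exact hm j.hom
  haveI : Mono r := mono_of_mono r s
  let r' : X ⟶ G.obj j := x.hom ≫ cG.π.app j
  have h1 : r' ≫ r = 𝟙 X := (Category.assoc _ _ _).trans ((congrArg (x.hom ≫ ·) hr1).trans x.hom_inv_id)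
  haveI : IsIso r := ⟨r', by rw [← cancel_mono r, Category.assoc, h1, Category.comp_id, Category.id_comp], h1⟩
  let jX : X ⟶ F.obj j.left := inv r ≫ Limits.pullback.fst (F.map j.hom) W.ι
  have hop : ∀ {k} (a : k ⟶ i), IsOpenImmersion (Limits.pullback.fst (F.map a) W.ι) := fun a =>
    MorphismProperty.pullback_fst (P := @IsOpenImmersion) _ _ inferInstance
  haveI : IsOpenImmersion (Limits.pullback.fst (F.map j.hom) W.ι) := hop j.hom
  have hjX : jX ≫ (p j.left) = f := by
    simp only [jX, Category.assoc]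
    rw [IsIso.inv_comp_eq, ← hs, reassoc_of% hr2]
    exact hfp j.hom
  haveI : IsOpenImmersion jX :=
    MorphismProperty.comp_mem @IsOpenImmersion (inv r) _ inferInstance (hop j.hom)
  haveI : QuasiCompact (jX ≫ (p j.left)) := hjX.symm ▸ ‹QuasiCompact f›
  exact ⟨_, jX, (p j.left), inferInstance, QuasiCompact.of_comp jX (p j.left),
    (hD _).1, (hD _).2, hjX⟩

end Groth.Agent.S1477
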