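import Groth.Statements.S8387
import Groth.Agent.L25.TorLift.Central

set_option autoImplicit false
universe u
open CategoryTheory MonoidalCategory CartesianMonoidalCategory MonObj GrpObj AlgebraicGeometry
open SGA3x
open Groth.L25 Groth.L25.TorLift

set_option backward.isDefEq.respectTransparency.types false
set_option linter.style.haveILetI false

namespace Groth.Agent.S8387

/-- Over an affine base: let A be a ring, J a finitely generated ideal of A all of whose elements are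
nilpotent, S = Spec A, S₀ = Spec(A/J), G an S-group scheme flat and of finite presentation over S,
and T₀ a central subtorus of G₀ = G ×_S S₀. Then there is a subtorus T of G with T ×_S S₀ = T₀ as
subgroups of G₀; it is unique (any two such are isomorphic over G); and T is central in G. -/
theorem result (A : Type u) [CommRing A] (J : Ideal A) (hJfg : J.FG)
    (hJ : ∀ x ∈ J, IsNilpotent x) (G : Over (Spec (CommRingCat.of A))) [GrpObj G] [Flat G.hom] [QuasiCompact G.hom]
    [QuasiSeparated G.hom] [LocallyOfFinitePresentation G.hom]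
    (T₀ : Over (Spec (CommRingCat.of (A ⧸ J)))) [GrpObj T₀] (j₀ : T₀ ⟶ Red.bc (Spec.map (CommRingCat.ofHom (Ideal.Quotient.mk J))) G) [IsMonHom j₀] [Mono j₀]
    (ht₀ : Red.IsTorus T₀) (hc₀ : (∀ (X : Over _) (x : X ⟶ _) (g : X ⟶ Red.bc (Spec.map (CommRingCat.ofHom (Ideal.Quotient.mk J))) G), (x ≫ j₀) * g = g * (x ≫ j₀))) :
    (∃ (T : Over (Spec (CommRingCat.of A))) (_ : GrpObj T) (j : T ⟶ G), IsMonHom j ∧ Mono j ∧ Red.IsTorus T ∧
      (∃ e : Red.bc (Spec.map (CommRingCat.ofHom (Ideal.Quotient.mk J))) T ≅ T₀, e.hom ≫ j₀ = (Over.pullback (Spec.map (CommRingCat.ofHom (Ideal.Quotient.mk J)))).map j) ∧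
      (∀ (X : Over _) (x : X ⟶ _) (g : X ⟶ G), (x ≫ j) * g = g * (x ≫ j)) ∧
      ∀ (T' : Over (Spec (CommRingCat.of A))) [GrpObj T'] (j' : T' ⟶ G) [IsMonHom j'] [Mono j'], Red.IsTorus T' →
        (∃ e' : Red.bc (Spec.map (CommRingCat.ofHom (Ideal.Quotient.mk J))) T' ≅ T₀, e'.hom ≫ j₀ = (Over.pullback (Spec.map (CommRingCat.ofHom (Ideal.Quotient.mk J)))).map j') →
        ∃ φ : T' ≅ T, φ.hom ≫ j = j') := by
  classical
  have hnil : IsNilpotent J := hJfg.isNilpotent_iff_le_nilradical.2 fun x hx => hJ x hx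
  have hqs : ∀ q ∈ ({2, 3} : Finset ℕ), 1 < q ∧ ∀ k, q ^ k ∈ (Set.univ : Set ℕ) := fun q hq => by
    simp only [Finset.mem_insert, Finset.mem_singleton] at hq
    exact ⟨by omega, fun _ => trivial⟩
  have hcov : ∀ p : PrimeSpectrum A, ∃ q ∈ ({2, 3} : Finset ℕ), (q : A) ∉ p.asIdeal := fun p => by
    by_contra hcon
    push Not at hcon
    refine p.isPrime.ne_top ((Ideal.eq_top_iff_one _).2 ?_)
    have := sub_mem (hcon 3 (by simp)) (hcon 2 (by simp))
    norm_num at this
    exact this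
  have hm₀ := Locus.isMultTypeFT_of_isTorus ht₀
  haveI := TrivLocus.lft_of_multTypeFT hm₀
  obtain ⟨H, _, hH, -, ⟨e₀⟩⟩ := Bridge.exists_group_lift hnil T₀ (Bridge.locally_of_ft hm₀)
  have hHt : Red.IsTorus H := isTorus_of_red hJ hH (isTorus_of_iso e₀.symm ht₀)
  obtain ⟨B, _, _, _, hT, eB, heB, heB'⟩ := exists_model H hHt
  haveI := heB
  haveI := heB'
  let e : Red.bc (bi J) (Xp A B) ≅ T₀ := (Over.pullback (bi J)).mapIso eB ≪≫
    ⟨e₀.hom.hom.hom, e₀.inv.hom.hom, congr($(e₀.hom_inv_id).hom.hom), congr($(e₀.inv_hom_id).hom.hom)⟩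
  haveI : IsMonHom e.hom := by
    haveI : IsMonHom e₀.hom.hom.hom := e₀.hom.hom.isMonHom_hom
    show IsMonHom ((Over.pullback (bi J)).map eB.hom ≫ e₀.hom.hom.hom)
    infer_instance
  have c := cov_of_torus hT Set.univ (fun _ _ _ _ => trivial) {2, 3} hqs hcov
  obtain ⟨u, hu, hred, hcent, -⟩ := exists_central_hom c hnil (e.hom ≫ j₀)
    (fun W x g => by rw [← Category.assoc]; exact hc₀ W _ g)
  haveI := TrivLocus.lft_of_multTypeFT (Locus.isMultTypeFT_of_isTorus hT)
  haveI : Mono (red J u) := by rw [hred]; infer_instance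
  refine ⟨Xp A B, inferInstance, u, hu, mono_of_red hnil u, hT, ⟨e, hred.symm⟩, hcent,
    fun T' _ j' _ _ ht' ⟨e', he'⟩ => ?_⟩
  obtain ⟨B', _, _, _, hT', eB₁, hB₁, hB₁'⟩ := exists_model T' ht'
  haveI := hB₁
  haveI := hB₁'
  haveI : IsMonHom e'.hom := Bridge.isMonHom_of_mul _ fun Y a b => by
    rw [← cancel_mono j₀, Category.assoc, he', MonObj.mul_comp, MonObj.mul_comp, Category.assoc, Category.assoc, he']
  let ε : Red.bc (bi J) (Xp A B') ≅ Red.bc (bi J) (Xp A B) :=
    (Over.pullback (bi J)).mapIso eB₁ ≪≫ e' ≪≫ e.symm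
  haveI : IsMonHom e.inv := inferInstance
  haveI : IsMonHom ε.hom := by
    show IsMonHom ((Over.pullback (bi J)).map eB₁.hom ≫ e'.hom ≫ e.inv)
    infer_instance
  obtain ⟨φ, hφ, hφr⟩ := exists_torus_iso hnil Set.univ (fun _ _ _ _ => trivial) {2, 3} hqs hcov hT' hT ε
  haveI := hφ
  haveI := hu
  have c' := cov_of_torus hT' Set.univ (fun _ _ _ _ => trivial) {2, 3} hqs hcov
  obtain ⟨w, -, -, -, huniq⟩ := exists_central_hom c' hnil (ε.hom ≫ e.hom ≫ j₀)
    (fun W x g => by rw [← Category.assoc, ← Category.assoc]; exact hc₀ W _ g)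
  have h1 : φ.hom ≫ u = eB₁.hom ≫ j' := by
    rw [huniq (φ.hom ≫ u) inferInstance (by rw [red_comp, hφr, hred]),
      huniq (eB₁.hom ≫ j') inferInstance (by
        rw [red_comp, show red J j' = e'.hom ≫ j₀ from he'.symm]
        simp [ε, red])]
  exact ⟨eB₁.symm ≪≫ φ, by simp [h1]⟩

end Groth.Agent.S8387
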