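import Groth.Statements.S5304
import Groth.Agent.L25.NhdEq.EqLocus

set_option autoImplicit false
set_option backward.isDefEq.respectTransparency.types false
open CategoryTheory MonoidalCategory CartesianMonoidalCategory MonObj GrpObj AlgebraicGeometry
universe u
open SGA3x

namespace Groth.Agent.S5304

/-- Let G be an S-group separated over S, suppose S locally Noetherian or G of finite presentation over
S, and let i₁ : H₁ ⟶ G, i₂ : H₂ ⟶ G be two sub-group-schemes (homomorphisms which are immersions) of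
multiplicative type and of finite type, with H₁ central in G. Then the set U of points s ∈ S such
that (H₁)_s = (H₂)_s as subgroups of G_s (an isomorphism of the fibres compatible with the
inclusions) is open and closed, and H₁|_U = H₂|_U as subgroups of G|_U. (The published statement
asks only that the fibres of H₁ be central; this row assumes H₁ central in G.) -/
theorem result {S : Scheme.{u}} (G H₁ H₂ : Over S) [GrpObj G] [GrpObj H₁] [GrpObj H₂]
    [IsSeparated G.hom] (hG : IsLocallyNoetherian S ∨ (LocallyOfFinitePresentation G.hom ∧ QuasiCompact G.hom ∧ QuasiSeparated G.hom))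
    (h₁ : SGA3x.IsMultTypeFT H₁) (h₂ : SGA3x.IsMultTypeFT H₂)
    (i₁ : H₁ ⟶ G) [IsMonHom i₁] [IsImmersion i₁.left] (i₂ : H₂ ⟶ G) [IsMonHom i₂] [IsImmersion i₂.left]
    (hc : ∀ (X : Over S) (g : X ⟶ G) (h : X ⟶ H₁), g * (h ≫ i₁) = (h ≫ i₁) * g) :
    ∃ U : S.Opens, IsClosed (U : Set S) ∧
      (∀ s : S, s ∈ U ↔ ∃ ψ : Red.bc (S.fromSpecResidueField s) H₁ ≅ Red.bc (S.fromSpecResidueField s) H₂,
        ψ.hom ≫ (Over.pullback (S.fromSpecResidueField s)).map i₂ = (Over.pullback (S.fromSpecResidueField s)).map i₁) ∧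
      ∃ ψ : Red.bc U.ι H₁ ≅ Red.bc U.ι H₂, ψ.hom ≫ (Over.pullback U.ι).map i₂ = (Over.pullback U.ι).map i₁ := by
  have hG' : IsLocallyNoetherian S ∨ LocallyOfFinitePresentation G.hom := hG.imp_right And.left
  have : Mono i₁ := Over.mono_of_mono_left i₁
  have : Mono i₂ := Over.mono_of_mono_left i₂
  have hrange : ∀ (X : Over S) (t : S) (w : X.left ⟶ Spec (S.residueField t)),
      w ≫ S.fromSpecResidueField t = X.hom → ∀ x, X.hom x = t := by
    intro X t w hw x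
    rw [← hw, Scheme.Hom.comp_apply, Scheme.fromSpecResidueField_apply]
  have hnhd : ∀ s : S, Groth.L25.NhdEq.EqAt i₁ i₂ s → ∃ W : S.Opens, s ∈ W ∧
      (∀ X : Over S, Set.range X.hom ⊆ (W : Set S) → ∀ h : X ⟶ H₁, ∃ h' : X ⟶ H₂, h' ≫ i₂ = h ≫ i₁) ∧
      (∀ X : Over S, Set.range X.hom ⊆ (W : Set S) → ∀ h : X ⟶ H₂, ∃ h' : X ⟶ H₁, h' ≫ i₁ = h ≫ i₂) := by
    intro s hs
    obtain ⟨U₁, hs₁, h12⟩ := Groth.L25.NhdEq.exists_nhd_fac h₁ h₂ i₁ i₂ hG' s hs.1
      (fun X _ _ g h => hc X g h)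
    obtain ⟨U₂, hs₂, h21⟩ := Groth.L25.NhdEq.exists_nhd_fac h₂ h₁ i₂ i₁ hG' s hs.2
      (fun X w hw g h => by
        obtain ⟨h', hh⟩ := hs.2 X w hw h
        rw [← hh]
        exact hc X g h')
    exact ⟨U₁ ⊓ U₂, ⟨hs₁, hs₂⟩, fun X hX => h12 X (hX.trans Set.inter_subset_left),
      fun X hX => h21 X (hX.trans Set.inter_subset_right)⟩
  choose W hsW hW₁ hW₂ using hnhd
  let U : S.Opens := ⟨{s | Groth.L25.NhdEq.EqAt i₁ i₂ s}, isOpen_iff_forall_mem_open.2 fun s hs =>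
    ⟨W s hs, fun t ht => ⟨fun X w hw h => hW₁ s hs X (fun _ ⟨x, hx⟩ => by rw [← hx, hrange X t w hw x]; exact ht) h,
      fun X w hw h => hW₂ s hs X (fun _ ⟨x, hx⟩ => by rw [← hx, hrange X t w hw x]; exact ht) h⟩,
      (W s hs).2, hsW s hs⟩⟩
  have glue : ∀ {A B : Over S} (a : A ⟶ G) (b : B ⟶ G) [Mono b.left],
      (∀ (s : S) (hs : Groth.L25.NhdEq.EqAt i₁ i₂ s) (X : Over S), Set.range X.hom ⊆ (W s hs : Set S) →
        ∀ h : X ⟶ A, ∃ h' : X ⟶ B, h' ≫ b = h ≫ a) →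
      ∀ X : Over S, Set.range X.hom ⊆ (U : Set S) → ∀ h : X ⟶ A, ∃ h' : X ⟶ B, h' ≫ b = h ≫ a := by
    intro A B a b _ hloc X hX h
    obtain ⟨m, hm⟩ := Groth.L25.Locus.factors_of_cover b.left (h ≫ a).left fun x => by
      let D := X.hom ⁻¹ᵁ W (X.hom x) (hX ⟨x, rfl⟩)
      let c : Over.mk (D.ι ≫ X.hom) ⟶ X := Over.homMk D.ι rfl
      obtain ⟨h', hh⟩ := hloc (X.hom x) (hX ⟨x, rfl⟩) (Over.mk (D.ι ≫ X.hom))
        (fun _ ⟨y, hy⟩ => by rw [← hy]; exact y.2) (c ≫ h)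
      refine ⟨D.toScheme, D.ι, inferInstance, ?_, h'.left, ?_⟩
      · rw [Scheme.Opens.range_ι]; exact hsW _ _
      · exact congrArg (fun z => z.left) (hh.trans (Category.assoc _ _ _))
    exact ⟨Over.homMk m (by rw [← Over.w b, reassoc_of% hm]; exact Over.w (h ≫ a)), Over.OverMorphism.ext hm⟩
  have g₁ := glue i₁ i₂ hW₁
  have g₂ := glue i₂ i₁ hW₂
  refine ⟨U, Groth.L25.NhdEq.isClosed_eqLocus i₁ i₂ h₁ h₂ U (fun s => Iff.rfl) g₁ g₂,
    fun s => Groth.L25.NhdEq.eqAt_iff i₁ i₂ s, ?_⟩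
  have hr : ∀ (X : Over S) (w : X.left ⟶ U.toScheme), w ≫ U.ι = X.hom → Set.range X.hom ⊆ (U : Set S) := by
    intro X w hw
    rintro _ ⟨x, rfl⟩
    rw [← hw]
    exact (w x).2
  exact Groth.L25.NhdEq.iso_of_factors U.ι i₁ i₂ (fun X w hw => g₁ X (hr X w hw)) (fun X w hw => g₂ X (hr X w hw))

end Groth.Agent.S5304
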