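import Groth.Agent.L18.ValCrit2
import Groth.Statements.S4447
-- import your own Groth.Agent.* helpers here

set_option autoImplicit false
universe u
open CategoryTheory CategoryTheory.Limits AlgebraicGeometry
open EGA2

namespace Groth.Agent.S4447

/-- Let p : X ⟶ Y be a morphism, x a point of X, y = p(x) and y' a specialization of y distinct from y.
Then there are a valuation ring A which is not a field, with field of fractions the residue field
k(x), and a morphism Spec A ⟶ Y mapping the closed point to y' and restricting on Spec k(x) to the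
canonical morphism Spec k(x) ⟶ X ⟶ Y (in particular the generic point of Spec A goes to y). -/
theorem result {X Y : Scheme.{u}} (p : X ⟶ Y) (x : X) (y' : Y)
    (hsp : p.base x ⤳ y') (hne : y' ≠ p.base x) :
    ∃ (A : ValuationSubring (X.residueField x)) (h : Spec (CommRingCat.of A) ⟶ Y), A ≠ ⊤ ∧
      h.base (IsLocalRing.closedPoint A) = y' ∧
      Spec.map (CommRingCat.ofHom A.subtype) ≫ h = X.fromSpecResidueField x ≫ p := by
  classical
  obtain ⟨A, hA, hl⟩ := IsLocalRing.exists_factor_valuationRing
    (Y.presheaf.stalkSpecializes hsp ≫ p.stalkMap x ≫ X.residue x).hom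
  have hloc := hl
  refine ⟨A, Spec.map (CommRingCat.ofHom
      ((Y.presheaf.stalkSpecializes hsp ≫ p.stalkMap x ≫ X.residue x).hom.codRestrict A.toSubring hA)) ≫
    Y.fromSpecStalk y', ?_, ?_, ?_⟩
  · intro htop
    refine Groth.L18.ker_toResidueField_ne hsp hne (le_antisymm
      (IsLocalRing.le_maximalIdeal (RingHom.ker_ne_top _)) fun a ha => ?_)
    by_contra hne0
    refine ha (hl.map_nonunit a (IsUnit.of_mul_eq_one
      ⟨((Y.presheaf.stalkSpecializes hsp ≫ p.stalkMap x ≫ X.residue x).hom a)⁻¹,
        htop ▸ ValuationSubring.mem_top _⟩ (Subtype.ext (mul_inv_cancel₀ hne0))))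
  · rw [Groth.L18.apply_closedPoint_of_isLocalHom]
    exact Y.fromSpecStalk_closedPoint
  · rw [Scheme.fromSpecResidueField, Category.assoc, ← Scheme.SpecMap_stalkMap_fromSpecStalk,
      ← Scheme.SpecMap_stalkSpecializes_fromSpecStalk hsp]
    simp only [← Spec.map_comp_assoc]
    rfl

end Groth.Agent.S4447
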