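import Groth.Statements.S5356
import Groth.Agent.L14.Quot.Alg
import Groth.Agent.S1128
import Mathlib.AlgebraicGeometry.Artinian

set_option linter.style.haveILetI false


set_option autoImplicit false
universe u
open CategoryTheory CategoryTheory.Limits MonoidalCategory CartesianMonoidalCategory MonObj GrpObj AlgebraicGeometry
open SGA3

namespace Groth.Agent.S5356

/-- b), c) (first assertion of c)): (a) an essentially free morphism f : X → S is flat, and conversely
if S is the spectrum of an artinian ring every flat S-scheme is essentially free over S; (b) every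
scheme over a field is essentially free over it; (c) if X is essentially free over S then X ×_S S'
is essentially free over S' for every S' → S. -/
theorem result :
    (∀ (X S : Scheme.{u}) (f : X ⟶ S), SGA3x.IsEssentiallyFree f → Flat f) ∧
    (∀ (A : Type u) [CommRing A] [IsArtinianRing A] (X : Scheme.{u}) (f : X ⟶ Spec (CommRingCat.of A)),
      Flat f → SGA3x.IsEssentiallyFree f) ∧
    (∀ (k : Type u) [Field k] (X : Scheme.{u}) (f : X ⟶ Spec (CommRingCat.of k)), SGA3x.IsEssentiallyFree f) ∧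
    (∀ (X S S' : Scheme.{u}) (f : X ⟶ S) (g : S' ⟶ S), SGA3x.IsEssentiallyFree f →
      SGA3x.IsEssentiallyFree (pullback.snd f g)) := by

  have hfl : ∀ (X S : Scheme.{u}) (f : X ⟶ S), SGA3x.IsEssentiallyFree f → Flat f := by
    intro X S f h
    choose U hsU hU S' hS' g hgf hgs hV using h
    rw [IsZariskiLocalAtTarget.iff_of_iSup_eq_top (P := @Flat) U (eq_top_iff.2 fun s _ =>
      TopologicalSpace.Opens.mem_iSup.2 ⟨s, hsU s⟩)]
    intro s
    haveI := hS' s
    haveI := hgf s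
    haveI := hgs s
    haveI : Flat (pullback.snd f (g s ≫ (U s).ι)) := by
      choose V hxV hVaff hproj using hV s
      rw [IsZariskiLocalAtSource.iff_of_openCover (P := @Flat)
        ((pullback f (g s ≫ (U s).ι)).openCoverOfIsOpenCover V (.mk (eq_top_iff.2 fun x _ =>
          TopologicalSpace.Opens.mem_iSup.2 ⟨x, hxV x⟩)))]
      intro x
      haveI : IsAffine (V x : Scheme.{u}) := hVaff x
      show Flat ((V x).ι ≫ pullback.snd f (g s ≫ (U s).ι))
      rw [HasRingHomProperty.iff_of_isAffine (P := @Flat)]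
      letI := ((V x).ι ≫ pullback.snd f (g s ≫ (U s).ι)).appTop.hom.toAlgebra
      haveI := hproj x
      exact (inferInstance : Module.Flat Γ(S' s, ⊤) Γ(↑(V x), ⊤))
    have hq := (IsPullback.of_hasPullback f (g s ≫ (U s).ι))
    let l : pullback f (g s ≫ (U s).ι) ⟶ (f ⁻¹ᵁ U s).toScheme :=
      IsOpenImmersion.lift (f ⁻¹ᵁ U s).ι (pullback.fst _ _) (by
        rw [Scheme.Opens.range_ι]
        rintro _ ⟨x, rfl⟩
        show f (pullback.fst f (g s ≫ (U s).ι) x) ∈ U s
        rw [← Scheme.Hom.comp_apply, pullback.condition, Scheme.Hom.comp_apply, Scheme.Hom.comp_apply]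
        exact ((g s) _).2)
    have hl : l ≫ (f ⁻¹ᵁ U s).ι = pullback.fst _ _ := IsOpenImmersion.lift_fac _ _ _
    have hcomm : l ≫ (f ∣_ U s) = pullback.snd f (g s ≫ (U s).ι) ≫ g s := by
      rw [← cancel_mono (U s).ι, Category.assoc, morphismRestrict_ι, ← Category.assoc, hl,
        pullback.condition, Category.assoc]
    have hp : IsPullback l (pullback.snd f (g s ≫ (U s).ι)) (f ∣_ U s) (g s) := by
      refine IsPullback.of_right ?_ hcomm (isPullback_morphismRestrict f (U s)).flip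
      rw [hl]
      exact hq
    haveI : Flat l := MorphismProperty.of_isPullback hp.flip (inferInstance : Flat (g s))
    haveI : Surjective l := MorphismProperty.of_isPullback hp.flip (inferInstance : Surjective (g s))
    haveI : Flat (l ≫ (f ∣_ U s)) := by rw [hcomm]; infer_instance
    exact Groth.Agent.S1128.result l _
  have hart : ∀ (A : Type u) [CommRing A] [IsArtinianRing A] (X : Scheme.{u}) (f : X ⟶ Spec (CommRingCat.of A)),
      Flat f → SGA3x.IsEssentiallyFree f := by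
    intro A _ _ X f hf s
    obtain ⟨U, hU, hsU, hle⟩ := exists_isAffineOpen_mem_and_subset (x := s)
      (U := (⟨{s}, isOpen_discrete _⟩ : (Spec (CommRingCat.of A)).Opens)) (Set.mem_singleton s)
    haveI : IsAffine (U : Scheme.{u}) := hU
    haveI : Subsingleton ↥(U : Scheme.{u}) := ⟨fun a b => Subtype.ext ((hle a.2).trans (hle b.2).symm)⟩
    haveI : IsArtinianRing Γ(U, ⊤) := IsLocallyArtinian.isArtinianRing_of_isAffine
    haveI : Subsingleton (PrimeSpectrum Γ(U, ⊤)) :=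
      (U : Scheme.{u}).isoSpec.inv.homeomorph.injective.subsingleton
    haveI : Nonempty (PrimeSpectrum Γ(U, ⊤)) := ⟨(U : Scheme.{u}).isoSpec.hom ⟨s, hsU⟩⟩
    obtain ⟨p⟩ := (inferInstance : Nonempty (PrimeSpectrum Γ(U, ⊤)))
    haveI : p.asIdeal.IsMaximal := inferInstance
    have hm : IsNilpotent p.asIdeal := by
      obtain ⟨n, hn⟩ := IsArtinianRing.isNilpotent_jacobson_bot (R := Γ(U, ⊤))
      refine ⟨n, le_antisymm (le_of_le_of_eq (Ideal.pow_right_mono ?_ n) hn) bot_le⟩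
      exact le_sInf fun q hq => le_of_eq
        (congrArg PrimeSpectrum.asIdeal (Subsingleton.elim p ⟨q, hq.2.isPrime⟩))
    refine ⟨U, hsU, hU, U, inferInstance, 𝟙 _, inferInstance, inferInstance, fun x => ?_⟩
    obtain ⟨V, hV, hxV, -⟩ := exists_isAffineOpen_mem_and_subset (x := x)
      (U := (⊤ : (pullback f (𝟙 (U : Scheme.{u}) ≫ U.ι)).Opens)) trivial
    refine ⟨V, hxV, hV, ?_⟩
    haveI : IsAffine (V : Scheme.{u}) := hV
    letI := (V.ι ≫ pullback.snd f (𝟙 (U : Scheme.{u}) ≫ U.ι)).appTop.hom.toAlgebra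
    haveI : Flat f := hf
    haveI : Module.Flat Γ(U, ⊤) Γ(↑V, ⊤) := Scheme.Hom.flat_appTop (V.ι ≫ pullback.snd f (𝟙 (U : Scheme.{u}) ≫ U.ι))
    haveI := Groth.L14.Quot.free_of_flat p.asIdeal hm Γ(↑V, ⊤)
    exact Module.Projective.of_free
  refine ⟨hfl, hart, fun k _ X f => hart k X f inferInstance, fun X S S₂ f g h s₂ => ?_⟩
  obtain ⟨U, hU, hUaff, S', hS', q, hqf, hqs, hV⟩ := h (g s₂)
  haveI := hS'
  obtain ⟨U', hU', hsU', hle⟩ := exists_isAffineOpen_mem_and_subset (x := s₂) (U := g ⁻¹ᵁ U) hU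
  haveI : IsAffine (U : Scheme.{u}) := hUaff
  haveI : IsAffine (U' : Scheme.{u}) := hU'
  let g' : (U' : Scheme.{u}) ⟶ U := Scheme.Hom.resLE g U U' hle
  have hg' : g' ≫ U.ι = U'.ι ≫ g := Scheme.Hom.resLE_comp_ι g hle
  let q' := pullback.snd q g'
  let c := pullback.fst q g'
  refine ⟨U', hsU', hU', pullback q g', inferInstance, q', MorphismProperty.pullback_snd _ _ hqf,
    MorphismProperty.pullback_snd _ _ hqs, fun x => ?_⟩
  have hsq : c ≫ q ≫ U.ι = (q' ≫ U'.ι) ≫ g := by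
    rw [← Category.assoc, pullback.condition, Category.assoc, hg', Category.assoc]
  let P₂ := pullback (pullback.snd f g) (q' ≫ U'.ι)
  let m : P₂ ⟶ pullback f (q ≫ U.ι) :=
    pullback.lift (pullback.fst _ _ ≫ pullback.fst f g) (pullback.snd _ _ ≫ c) (by
      rw [Category.assoc, pullback.condition, ← Category.assoc, pullback.condition, Category.assoc, Category.assoc,
        Category.assoc, hsq, Category.assoc])
  have hP : IsPullback m (pullback.snd (pullback.snd f g) (q' ≫ U'.ι)) (pullback.snd f (q ≫ U.ι)) c := by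
    refine IsPullback.of_right ?_ (pullback.lift_snd _ _ _) (IsPullback.of_hasPullback f (q ≫ U.ι))
    rw [pullback.lift_fst, hsq]
    exact (IsPullback.of_hasPullback (pullback.snd f g) (q' ≫ U'.ι)).paste_horiz (IsPullback.of_hasPullback f g)
  obtain ⟨V, hxV, hVaff, hproj⟩ := hV (m x)
  haveI : IsAffine (V : Scheme.{u}) := hVaff
  have hP' : IsPullback (m ∣_ V) ((m ⁻¹ᵁ V).ι ≫ pullback.snd (pullback.snd f g) (q' ≫ U'.ι))
      (V.ι ≫ pullback.snd f (q ≫ U.ι)) c := (isPullback_morphismRestrict m V).paste_vert hP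
  haveI : IsAffine (m ⁻¹ᵁ V : Scheme.{u}) := IsAffine.of_isPullback hP'
  refine ⟨m ⁻¹ᵁ V, hxV, inferInstanceAs (IsAffine _), ?_⟩
  have hpush := isPushout_appTop_of_isPullback hP'
  letI algV : Algebra Γ(S', ⊤) Γ(↑V, ⊤) := (V.ι ≫ pullback.snd f (q ≫ U.ι)).appTop.hom.toAlgebra
  letI algc : Algebra Γ(S', ⊤) Γ(pullback q g', ⊤) := c.appTop.hom.toAlgebra
  letI algW : Algebra Γ(pullback q g', ⊤) Γ(↑(m ⁻¹ᵁ V), ⊤) :=
    ((m ⁻¹ᵁ V).ι ≫ pullback.snd (pullback.snd f g) (q' ≫ U'.ι)).appTop.hom.toAlgebra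
  letI : Algebra Γ(↑V, ⊤) Γ(↑(m ⁻¹ᵁ V), ⊤) := (m ∣_ V).appTop.hom.toAlgebra
  letI algSW : Algebra Γ(S', ⊤) Γ(↑(m ⁻¹ᵁ V), ⊤) := (c.appTop ≫
    ((m ⁻¹ᵁ V).ι ≫ pullback.snd (pullback.snd f g) (q' ≫ U'.ι)).appTop).hom.toAlgebra
  haveI : IsScalarTower Γ(S', ⊤) Γ(pullback q g', ⊤) Γ(↑(m ⁻¹ᵁ V), ⊤) := IsScalarTower.of_algebraMap_eq fun _ => rfl
  haveI : IsScalarTower Γ(S', ⊤) Γ(↑V, ⊤) Γ(↑(m ⁻¹ᵁ V), ⊤) :=
    IsScalarTower.of_algebraMap_eq fun r => congr($(hpush.w) r).symm
  haveI : Algebra.IsPushout Γ(S', ⊤) Γ(pullback q g', ⊤) Γ(↑V, ⊤) Γ(↑(m ⁻¹ᵁ V), ⊤) :=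
    CommRingCat.isPushout_iff_isPushout.1 hpush.flip
  haveI := hproj
  exact Module.Projective.of_equiv (Algebra.IsPushout.equiv Γ(S', ⊤) Γ(pullback q g', ⊤) Γ(↑V, ⊤) Γ(↑(m ⁻¹ᵁ V), ⊤)).toLinearEquiv


end Groth.Agent.S5356
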