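import Groth.Statements.S0420
import Groth.Agent.L07.Spread.Base
import Groth.Agent.L07.Spread.Conn

set_option autoImplicit false
set_option linter.style.haveILetI false
universe u
open FlatMor

namespace Groth.Agent.S0420

open AlgebraicGeometry CategoryTheory Limits in
/-- For a morphism of finite type to an irreducible scheme whose generic fibre is geometrically
connected, all fibres over some nonempty open of the target are geometrically connected. -/
theorem result {X Y : Scheme.{u}} (f : X ⟶ Y) [IrreducibleSpace ↑Y] [LocallyOfFiniteType f] [QuasiCompact f]
    (h : GeometricallyConnected (f.fiberToSpecResidueField (genericPoint ↑Y))) :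
    ∃ V : Y.Opens, (V : Set ↑Y).Nonempty ∧ GeometricallyConnected (f ∣_ V) := by
  obtain ⟨V, hV, hg⟩ := Groth.L07.Spread.exists_geometrically_restrict (P := fun Z => ConnectedSpace Z) f h.1
    fun A _ _ X' g _ _ hgen => by
      let Ω := AlgebraicClosure (FractionRing A)
      have hΩ : Function.Injective (algebraMap A Ω) := by
        rw [IsScalarTower.algebraMap_eq A (FractionRing A) Ω]
        exact (algebraMap (FractionRing A) Ω).injective.comp (IsFractionRing.injective A _)
      haveI : Algebra.IsAlgebraic A Ω := (IsFractionRing.comap_isAlgebraic_iff (A := A) (K := FractionRing A) (C := Ω)).mpr inferInstance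
      haveI := hgen Ω hΩ
      exact Groth.L07.Spread.exists_forall_connectedSpace g Ω hΩ
  exact ⟨V, hV, ⟨hg⟩⟩

end Groth.Agent.S0420
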