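import Groth.Statements.S5237
import Groth.Agent.L25.Actions

set_option autoImplicit false
open CategoryTheory CategoryTheory.Limits AlgebraicGeometry MonoidalCategory
universe u
open RedSub

namespace Groth.Agent.S5237

open MonObj GrpObj CartesianMonoidalCategory in
/-- For group schemes and the fppf topology: if `q : G ⟶ Q = G/H` is the fppf quotient of `G` by a
normal subgroup `H`, with its group structure, then a homomorphism `G ⟶ K` that kills `H` factors
uniquely through `q`, and the factorisation is a homomorphism. -/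
theorem result {S : Scheme.{u}} {H G Q K : Over S}
    [GrpObj H] [GrpObj G] [GrpObj Q] [GrpObj K]
    (i : H ⟶ G) [IsMonHom i] [Mono i] (hn : AlgGrp.IsNormalHom i)
    (q : G ⟶ Q) [IsMonHom q] (hq : RedSub.IsQuotient i q)
    (f : G ⟶ K) [IsMonHom f] (hf : i ≫ f = 1) :
    ∃! g : Q ⟶ K, q ≫ g = f ∧ IsMonHom g := by
  obtain ⟨hs, hf', hp, hpb⟩ := hq
  have : EffectiveEpi q.left := inferInstance
  obtain ⟨d, hd, huniq⟩ := Groth.L25.Actions.existsUnique_desc q f (fun Z a b hab => by
    obtain ⟨w, h1, h2⟩ := hpb.exists_lift a b hab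
    have e : (G ◁ i) ≫ μ[G] = CartesianMonoidalCategory.fst G H * (CartesianMonoidalCategory.snd G H ≫ i) := by
      rw [Hom.mul_def]; congr 1
    rw [e, MonObj.comp_mul, h1] at h2
    rw [← h2, MonObj.mul_comp, Category.assoc, Category.assoc, hf, MonObj.comp_one, MonObj.comp_one, _root_.mul_one])
  have : Epi q := by
    have : Epi q.left := inferInstance
    exact Over.epi_of_epi_left q
  have hr : Epi (q ▷ G).left := by
    have := Groth.L25.Actions.of_whiskerRight @Surjective q G ‹_›
    have := Groth.L25.Actions.of_whiskerRight @Flat q G ‹_›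
    have := Groth.L25.Actions.of_whiskerRight @LocallyOfFinitePresentation q G ‹_›
    infer_instance
  have hl : Epi (Q ◁ q).left := by
    have := Groth.L25.Actions.of_whiskerLeft @Surjective Q q ‹_›
    have := Groth.L25.Actions.of_whiskerLeft @Flat Q q ‹_›
    have := Groth.L25.Actions.of_whiskerLeft @LocallyOfFinitePresentation Q q ‹_›
    infer_instance
  have : Epi (q ▷ G) := Over.epi_of_epi_left _
  have : Epi (Q ◁ q) := Over.epi_of_epi_left _
  refine ⟨d, ⟨hd, ⟨?_, ?_⟩⟩, fun g hg => huniq g hg.1⟩
  · rw [← IsMonHom.one_hom q, Category.assoc, hd, IsMonHom.one_hom]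
  · rw [← cancel_epi (Q ◁ q), ← cancel_epi (q ▷ G)]
    have e : q ▷ G ≫ Q ◁ q = (q ⊗ₘ q) := (tensorHom_def q q).symm
    rw [← Category.assoc, ← Category.assoc (q ▷ G) (Q ◁ q), e, ← Category.assoc, ← Category.assoc,
      ← IsMonHom.mul_hom q, Category.assoc, hd, IsMonHom.mul_hom, tensorHom_comp_tensorHom, hd]
end Groth.Agent.S5237
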