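import Groth.Statements.S5417
import Groth.Agent.L24.Mono.Over
-- import your own Groth.Agent.* helpers here

set_option autoImplicit false
universe u
open CategoryTheory MonoidalCategory CartesianMonoidalCategory MonObj GrpObj AlgebraicGeometry CategoryTheory.Limits
open SGA3x

namespace Groth.Agent.S5417

/-- Let u : G → H be a homomorphism of S-group schemes, G locally of finite presentation over S, and H
locally of finite type over S or S locally Noetherian. Let k : K → G be the kernel of u and suppose
K flat over S. Then G/K is representable by an S-group scheme Q locally of finite presentation over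
S: there is a homomorphism q : G → Q representing the fppf quotient, and u = q followed by a
homomorphism Q → H which is a monomorphism. -/
theorem result (S : Scheme.{u}) (G H : Over S) [GrpObj G] [GrpObj H] [LocallyOfFinitePresentation G.hom]
    (hH : LocallyOfFiniteType H.hom ∨ IsLocallyNoetherian S) (u : G ⟶ H) [IsMonHom u]
    (K : Over S) [GrpObj K] (k : K ⟶ G) [IsMonHom k] (hK : AlgGrp.IsKernel k u) [Flat K.hom] :
    ∃ (Q : Over S) (_ : GrpObj Q) (q : G ⟶ Q) (_ : IsMonHom q), RedSub.IsQuotient k q ∧
      LocallyOfFinitePresentation Q.hom ∧ ∃ (m : Q ⟶ H) (_ : IsMonHom m), Mono m ∧ q ≫ m = u := by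
  let j := k
  have hmul : ∀ {T : Over S} (g : T ⟶ G) (h : T ⟶ K),
      lift g h ≫ (G ◁ j) ≫ μ[G] = g * (h ≫ j) := fun g h => by
    rw [lift_whiskerLeft_assoc, Hom.mul_def]
  have hfix : ∀ {T : Over S} (h : T ⟶ K), (h ≫ j) ≫ u = 1 := fun h => by
    rw [Category.assoc, hK.w, Hom.one_def, ← Category.assoc]
    congr 1
    exact toUnit_unique _ _
  have sq : IsPullback ((G ◁ j) ≫ μ[G]) (fst G (K)) u u := by
    refine IsPullback.mk' ?_ (fun T φ ψ h₁ h₂ => ?_) (fun T x v e => ?_)
    · have e := hmul (fst G (K)) (snd G _)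
      rw [lift_fst_snd, Category.id_comp] at e
      rw [e, mul_comp, hfix, _root_.mul_one]
    · apply CartesianMonoidalCategory.hom_ext
      · exact h₂
      · apply hK.hom_ext
        · have e₁ : ∀ χ : T ⟶ G ⊗ K,
              χ ≫ (G ◁ j) ≫ μ[G] = (χ ≫ fst _ _) * ((χ ≫ snd _ _) ≫ j) := fun χ => by
            rw [← hmul, lift_comp_fst_snd]
          rw [e₁, e₁, h₂] at h₁
          exact mul_left_cancel h₁
        · exact toUnit_unique _ _
    · have e' : (v⁻¹ * x) ≫ u = toUnit T ≫ η[H] := by
        rw [mul_comp, e, ← mul_comp, inv_mul_cancel, one_comp, Hom.one_def]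
      refine ⟨lift v (hK.lift (v⁻¹ * x) (toUnit T) e'), ?_, lift_fst _ _⟩
      rw [hmul, hK.lift_fst, mul_inv_cancel_left]
  haveI : LocallyOfFiniteType η[H].left := by
    have : LocallyOfFiniteType (η[H].left ≫ H.hom) := by rw [Over.w]; exact inferInstanceAs (LocallyOfFiniteType (𝟙 S))
    exact locallyOfFiniteType_of_comp η[H].left H.hom
  have hKp : LocallyOfFinitePresentation K.hom := by
    rcases hH with hH | hS
    · haveI := hH
      have ho : LocallyOfFinitePresentation u.left := by
        have : LocallyOfFinitePresentation (u.left ≫ H.hom) := by rw [Over.w]; infer_instance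
        exact Groth.L23.lfp_of_comp_lft _ H.hom this
      have : LocallyOfFinitePresentation (toUnit K).left :=
        MorphismProperty.of_isPullback (P := @LocallyOfFinitePresentation) (hK.map (Over.forget S)) ho
      rwa [Over.toUnit_left] at this
    · haveI := hS
      haveI : LocallyOfFiniteType k.left :=
        MorphismProperty.of_isPullback (P := @LocallyOfFiniteType) (hK.map (Over.forget S)).flip ‹_›
      haveI : LocallyOfFiniteType K.hom := by rw [← Over.w k]; infer_instance
      exact LocallyOfFinitePresentation.iff_locallyOfFiniteType.2 inferInstance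
  obtain ⟨Q, p, i, hpi, hs, hf, hp, hm, hQ, hpb⟩ := Groth.L24.MonoFac.exists_factor_over' u sq
    (MorphismProperty.of_isPullback (P := @Flat) (Groth.L25.Actions.isPullback_snd G _).flip ‹_›)
    (MorphismProperty.of_isPullback (P := @LocallyOfFinitePresentation) (Groth.L25.Actions.isPullback_snd G _).flip hKp)
  haveI := hs; haveI := hf; haveI := hp; haveI := hm
  haveI : Surjective (p ▷ G).left := Groth.L25.Actions.of_whiskerRight @Surjective p G hs
  haveI : Flat (p ▷ G).left := Groth.L25.Actions.of_whiskerRight @Flat p G hf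
  haveI : LocallyOfFinitePresentation (p ▷ G).left := Groth.L25.Actions.of_whiskerRight @LocallyOfFinitePresentation p G hp
  haveI : Surjective (Q ◁ p).left := Groth.L25.Actions.of_whiskerLeft @Surjective Q p hs
  haveI : Flat (Q ◁ p).left := Groth.L25.Actions.of_whiskerLeft @Flat Q p hf
  haveI : LocallyOfFinitePresentation (Q ◁ p).left := Groth.L25.Actions.of_whiskerLeft @LocallyOfFinitePresentation Q p hp
  haveI : EffectiveEpi (p ⊗ₘ p).left := by
    rw [MonoidalCategory.tensorHom_def, Over.comp_left]
    infer_instance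
  obtain ⟨m, hm₁, hm₂⟩ := Groth.L24.MonoFac.exists_lift_of_cover (p ⊗ₘ p) (μ[G] ≫ p) i ((i ⊗ₘ i) ≫ μ[H]) (by
    rw [Category.assoc, hpi, IsMonHom.mul_hom, tensorHom_comp_tensorHom_assoc, hpi])
  obtain ⟨ν, hν₁, hν₂⟩ := Groth.L24.MonoFac.exists_lift_of_cover p (GrpObj.inv (X := G) ≫ p) i
    (i ≫ GrpObj.inv (X := H)) (by rw [Category.assoc, hpi, GrpObj.inv_hom, reassoc_of% hpi])
  have hone : (η[G] ≫ p) ≫ i = η[H] := by rw [Category.assoc, hpi, IsMonHom.one_hom]
  letI gQ : GrpObj Q :=
    { one := η[G] ≫ p
      mul := m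
      one_mul := by
        rw [← cancel_mono i, Category.assoc, hm₂]
        simp only [← MonoidalCategory.tensorHom_id, tensorHom_comp_tensorHom_assoc, hone, Category.id_comp]
        rw [show η[H] ⊗ₘ i = (𝟙_ (Over S) ◁ i) ≫ (η[H] ▷ H) by
          rw [← MonoidalCategory.tensorHom_id, ← MonoidalCategory.id_tensorHom, tensorHom_comp_tensorHom,
            Category.id_comp, Category.comp_id], Category.assoc, MonObj.one_mul]
        exact MonoidalCategory.leftUnitor_naturality i
      mul_one := by
        rw [← cancel_mono i, Category.assoc, hm₂]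
        simp only [← MonoidalCategory.id_tensorHom, tensorHom_comp_tensorHom_assoc, hone, Category.id_comp]
        rw [show i ⊗ₘ η[H] = (i ▷ 𝟙_ (Over S)) ≫ (H ◁ η[H]) by
          rw [← MonoidalCategory.tensorHom_id, ← MonoidalCategory.id_tensorHom, tensorHom_comp_tensorHom,
            Category.id_comp, Category.comp_id], Category.assoc, MonObj.mul_one]
        exact MonoidalCategory.rightUnitor_naturality i
      mul_assoc := by
        rw [← cancel_mono i]
        simp only [Category.assoc, hm₂]
        simp only [← MonoidalCategory.tensorHom_id, ← MonoidalCategory.id_tensorHom, tensorHom_comp_tensorHom_assoc,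
          hm₂, Category.id_comp]
        rw [show ((i ⊗ₘ i) ≫ μ[H]) ⊗ₘ i = ((i ⊗ₘ i) ⊗ₘ i) ≫ (μ[H] ▷ H) by
            rw [← MonoidalCategory.tensorHom_id, tensorHom_comp_tensorHom, Category.comp_id],
          show i ⊗ₘ ((i ⊗ₘ i) ≫ μ[H]) = (i ⊗ₘ (i ⊗ₘ i)) ≫ (H ◁ μ[H]) by
            rw [← MonoidalCategory.id_tensorHom, tensorHom_comp_tensorHom, Category.comp_id],
          Category.assoc, Category.assoc, MonObj.mul_assoc, MonoidalCategory.associator_naturality_assoc]
      inv := ν
      left_inv := by
        rw [← cancel_mono i, Category.assoc, hm₂, ← Category.assoc, ← Category.assoc]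
        simp only [lift_map, Category.id_comp, hν₂, Category.assoc, hone]
        rw [show lift (i ≫ GrpObj.inv (X := H)) i = i ≫ lift (GrpObj.inv (X := H)) (𝟙 H) by simp,
          Category.assoc, GrpObj.left_inv, comp_toUnit_assoc]
      right_inv := by
        rw [← cancel_mono i, Category.assoc, hm₂, ← Category.assoc, ← Category.assoc]
        simp only [lift_map, Category.id_comp, hν₂, Category.assoc, hone]
        rw [show lift i (i ≫ GrpObj.inv (X := H)) = i ≫ lift (𝟙 H) (GrpObj.inv (X := H)) by simp,
          Category.assoc, GrpObj.right_inv, comp_toUnit_assoc] }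
  exact ⟨Q, gQ, p, ⟨rfl, hm₁.symm⟩, ⟨hs, hf, hp, hpb.flip⟩, hQ, i, ⟨hone, hm₂⟩, hm, hpi⟩

end Groth.Agent.S5417
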