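import Groth.Statements.S19773
import Groth.Agent.L26.KL.Bound
import Groth.Agent.L26.KL.MulN
import Groth.Agent.L26.AV.IsogenyDeg
import Groth.Agent.L19.Topology
import Groth.Agent.L00.IsogenyDual

set_option autoImplicit false
universe u
open CategoryTheory MonoidalCategory CartesianMonoidalCategory MonObj GrpObj AlgebraicGeometry
open AbVar

namespace Groth.Agent.S19773

/-- Let k be a field and f : X → Y an isogeny between abelian varieties over k (X, Y proper,
geometrically integral k-group schemes; f a finite flat surjective homomorphism) of degree d (the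
rank of f at every point of Y), and let M be a non-degenerate invertible O_Y-module: for a closed
immersion i_M : K_M → Y exhibiting K_M as K(M) (the maximal closed subscheme over which the Mumford
bundle m^*M ⊗ p_1^*M⁻¹ ⊗ p_2^*M⁻¹, restricted to Y ×_k K_M, is the inverse image of an invertible
module on K_M, with its universal property), K_M is finite over k, of rank r (the rank of K_M → Spec
k). Let L = f^*M and let i_L : K_L → X exhibit K_L as K(L). Then L is non-degenerate as well and
rank K(L) = d² · rank K(M): K_L is finite over k and K_L → Spec k has rank d² · r. -/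
theorem result (k : Type u) [Field k]
    (X Y : Over (Spec (CommRingCat.of k)))
    [GrpObj X] [IsProper X.hom] [GeometricallyIntegral X.hom]
    [GrpObj Y] [IsProper Y.hom] [GeometricallyIntegral Y.hom]
    (f : X ⟶ Y) [IsMonHom f] [IsFinite f.left] [Flat f.left] (hf : Surjective f.left)
    (d : ℕ) (hd : ∀ y : ↥Y.left, Scheme.Hom.finrank f.left y = d)
    (M : Y.left.Modules) (hM : PicF.IsInvertible M)
    (KM : Over (Spec (CommRingCat.of k))) (iM : KM ⟶ Y) (hKM : ThetaGrp.IsKL Y M iM)
    [IsFinite KM.hom] (r : ℕ) (hr : ∀ s : ↥(Spec (CommRingCat.of k)), Scheme.Hom.finrank KM.hom s = r)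
    (KL : Over (Spec (CommRingCat.of k))) (iL : KL ⟶ X)
    (hKL : ThetaGrp.IsKL X ((Scheme.Modules.pullback f.left).obj M) iL) :
    IsFinite KL.hom ∧ ∀ s : ↥(Spec (CommRingCat.of k)), Scheme.Hom.finrank KL.hom s = d ^ 2 * r := by
  haveI : IsCommMonObj X := isCommMonObj_of_isProper_of_geometricallyIntegral X
  haveI : IsCommMonObj Y := isCommMonObj_of_isProper_of_geometricallyIntegral Y
  obtain ⟨hfin, hle⟩ := KLBound.isFinite_and_finrank_le f hf hd M hM iM hKM hr iL hKL
  haveI : IsFinite KL.hom := hfin
  refine ⟨hfin, fun s => le_antisymm (hle s) ?_⟩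
  haveI : Subsingleton ↥(Spec (CommRingCat.of k)) := inferInstanceAs (Subsingleton (PrimeSpectrum k))
  haveI : IsIntegral X.left := GeometricallyIntegral.isIntegral_of_subsingleton X.hom
  haveI : IsIntegral Y.left := GeometricallyIntegral.isIntegral_of_subsingleton Y.hom
  haveI : Surjective f.left := hf
  haveI : IsLocallyNoetherian Y.left := LocallyOfFiniteType.isLocallyNoetherian Y.hom
  haveI : IsLocallyNoetherian X.left := LocallyOfFiniteType.isLocallyNoetherian X.hom
  haveI : LocallyOfFinitePresentation f.left := LocallyOfFinitePresentation.iff_locallyOfFiniteType.2 inferInstance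
  haveI := AV.Isogeny.geometricallyConnected X.hom
  haveI := AV.Isogeny.geometricallyConnected Y.hom
  have hd1 : 1 ≤ d := by
    rw [← hd (genericPoint Y.left)]
    exact (Scheme.Hom.one_le_finrank_iff_surjective (f := f.left)).2 hf _
  obtain ⟨⟨g, ⟨hgM, hfg⟩, -⟩, hall⟩ := Groth.L00.IsogDual.exists_factor f d hd1 (fun s => hd _)
  haveI := hgM
  obtain ⟨hgf, hgfin, hgflat, hgsurj⟩ := hall g hgM hfg
  haveI : Surjective g.left := hgsurj
  haveI : LocallyOfFinitePresentation g.left := LocallyOfFinitePresentation.iff_locallyOfFiniteType.2 inferInstance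
  obtain ⟨dim, hY⟩ : ∃ dim : ℕ, topologicalKrullDim Y.left = dim := by
    letI : Y.left.Over (Spec (CommRingCat.of k)) := ⟨Y.hom⟩
    haveI : LocallyOfFiniteType (Y.left ↘ Spec (CommRingCat.of k)) := inferInstanceAs (LocallyOfFiniteType Y.hom)
    obtain ⟨n, hn, -⟩ := Groth.L22.SchemeDim.exists_dim_closure_eq_trdeg k Y.left (genericPoint Y.left)
    refine ⟨n, ?_⟩
    rw [genericPoint_closure] at hn
    rw [← hn]
    exact ((Homeomorph.Set.univ Y.left).isHomeomorph.topologicalKrullDim_eq).symm
  have hX : topologicalKrullDim X.left = dim := by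
    refine le_antisymm ?_ ?_
    · rw [← hY]
      exact Groth.L19.topologicalKrullDim_le_of_surjective_specializing g.left.surjective
        g.left.isClosedMap.specializingMap
    · rw [← hY]
      exact Groth.L19.topologicalKrullDim_le_of_surjective_specializing f.left.surjective
        f.left.isClosedMap.specializingMap
  obtain ⟨e, he⟩ : ∃ e, ∀ x, g.left.finrank x = e := ⟨g.left.finrank (genericPoint X.left), fun x =>
    (Scheme.Hom.isLocallyConstant_finrank g.left).apply_eq_of_preconnectedSpace _ _⟩
  have hed : e * d = d ^ (2 * dim) := by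
    have h := AV.IsogenyDeg.finrank_comp hY hX g hgfin f inferInstance (genericPoint Y.left) (genericPoint Y.left)
      (genericPoint X.left)
    rw [hgf, AV.Degree.finrank_pow (A := Y) (n := d) (by omega) hY, he, hd] at h
    exact h.symm
  -- K([d]^* M)
  have hKd := KLMulN.isKL_pow M hM hKM d
  let K' := Limits.pullback (𝟙 Y ^ (d * d)) iM
  let iK' : K' ⟶ Y := Limits.pullback.fst (𝟙 Y ^ (d * d)) iM
  have hsq := (IsPullback.of_hasPullback (𝟙 Y ^ (d * d)) iM).map (Over.forget _)
  obtain ⟨hp1, hp2, -, -⟩ := AV.Degree.isogeny_pow (A := Y) (n := d * d) (Nat.one_le_iff_ne_zero.2 (Nat.mul_ne_zero (by omega) (by omega)))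
  haveI : IsFinite (Limits.pullback.snd (𝟙 Y ^ (d * d)) iM).left := MorphismProperty.of_isPullback hsq hp1
  haveI : Flat (Limits.pullback.snd (𝟙 Y ^ (d * d)) iM).left := MorphismProperty.of_isPullback hsq hp2
  haveI := hp1
  haveI := hp2
  obtain ⟨hKfin, hKrk⟩ := KLRank.finrank_comp (X := K') (Limits.pullback.snd (𝟙 Y ^ (d * d)) iM)
    (d := (d * d) ^ (2 * dim)) (fun y => (Scheme.Hom.finrank_of_isPullback _
      (Limits.pullback.snd (𝟙 Y ^ (d * d)) iM).left (𝟙 Y ^ (d * d)).left iM.left hsq y).trans
        (AV.Degree.finrank_pow (A := Y) (n := d * d) (Nat.one_le_iff_ne_zero.2 (Nat.mul_ne_zero (by omega) (by omega))) hY _)) s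
  -- compare with g
  have hiso : (Scheme.Modules.pullback g.left).obj ((Scheme.Modules.pullback f.left).obj M) ≅
      (Scheme.Modules.pullback (𝟙 Y ^ d).left).obj M :=
    (Scheme.Modules.pullbackComp g.left f.left).app M ≪≫
      (Scheme.Modules.pullbackCongr (congrArg CommaMorphism.left hgf)).app M
  have hKg : ThetaGrp.IsKL Y ((Scheme.Modules.pullback g.left).obj ((Scheme.Modules.pullback f.left).obj M)) iK' := by
    have hL : PicF.IsInvertible ((Scheme.Modules.pullback f.left).obj M) := Groth.L18.Ample.isInvertible_pullback _ hM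
    refine ⟨hKd.closed, fun T z => ?_⟩
    rw [← hKd.univ T z, KLLib.isMumfordTriv_iff _ (Groth.L18.Ample.isInvertible_pullback _ hL)
        (KLLib.pullCl_unit_eq_one (c := PicF.cl _) ⟨_, rfl, Groth.L18.Ample.isInvertible_pullback _ hL⟩),
      KLLib.isMumfordTriv_iff _ (Groth.L18.Ample.isInvertible_pullback _ hM)
        (KLLib.pullCl_unit_eq_one (c := PicF.cl _) ⟨_, rfl, Groth.L18.Ample.isInvertible_pullback _ hM⟩),
      (PicGrp.cl_eq_cl_iff _ _).2 ⟨hiso⟩]
  obtain ⟨-, hle'⟩ := KLBound.isFinite_and_finrank_le g hgsurj he _ (Groth.L18.Ample.isInvertible_pullback _ hM) iL hKL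
    (r := Scheme.Hom.finrank KL.hom s) (fun t => by rw [Subsingleton.elim t s]) iK' hKg
  have key := hle' s
  rw [hKrk, hr] at key
  have he0 : 0 < e ^ 2 := by
    rcases Nat.eq_zero_or_pos e with h0 | h0
    · rw [h0, zero_mul] at hed
      exact absurd hed.symm (pow_ne_zero _ (by omega))
    · positivity
  refine Nat.le_of_mul_le_mul_left (Eq.trans_le ?_ key) he0
  rw [← _root_.mul_assoc, ← mul_pow, hed, ← pow_mul, mul_comm (2 * dim) 2, pow_mul, pow_two]

end Groth.Agent.S19773
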