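import Groth.Statements.S14133
import Groth.Agent.L26.AbDual.LamSurj
import Groth.Agent.L26.AbDual.DegreeTower
import Groth.Agent.S19773

set_option autoImplicit false
universe u
open CategoryTheory CategoryTheory.Limits MonoidalCategory CartesianMonoidalCategory MonObj GrpObj AlgebraicGeometry
open AbVar

namespace Groth.Agent.S14133

attribute [local instance] Groth.L08.Cube.clMonoid Groth.Agent.AV.InterPic.picLaw

open Groth.Agent.AV Groth.Agent.AbDualLib Groth.Agent.Poincare

theorem bil_pullback {k : Type u} [Field k] {A B : Over (Spec (CommRingCat.of k))}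
    [GrpObj A] [IsCommMonObj A] [IsProper A.hom] [GeometricallyIntegral A.hom]
    [GrpObj B] [IsCommMonObj B] [IsProper B.hom] [GeometricallyIntegral B.hom]
    (f : A ⟶ B) [IsMonHom f] (M : B.left.Modules) (hM : PicF.IsInvertible M)
    (hL : PicF.IsInvertible ((Scheme.Modules.pullback f.left).obj M))
    {W : Over (Spec (CommRingCat.of k))} (x y : W ⟶ A) :
    Orth.bil ((Scheme.Modules.pullback f.left).obj M) hL x y = Orth.bil M hM (x ≫ f) (y ≫ f) := by
  have key : ∀ q : W ⟶ A, DegreeForm.F ((Scheme.Modules.pullback f.left).obj M) hL q = DegreeForm.F M hM (q ≫ f) :=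
    fun q => Subtype.ext
      (show PicF.pullCl q.left (PicF.pullCl f.left (PicF.cl M)) = PicF.pullCl (q.left ≫ f.left) (PicF.cl M) from
        (PicLoc.pullCl_comp _ _ _).symm)
  show DegreeForm.F _ hL (x * y) - DegreeForm.F _ hL x - DegreeForm.F _ hL y =
    DegreeForm.F M hM ((x ≫ f) * (y ≫ f)) - DegreeForm.F M hM (x ≫ f) - DegreeForm.F M hM (y ≫ f)
  rw [key, key, key, MonObj.mul_comp]

/-- Let k be a field, A and B abelian varieties over k (proper smooth k-group schemes with geometrically
connected fibres), f : A → B a homomorphism which is an isogeny, taken here to mean finite, flat and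
surjective, of constant rank d = deg f, and let (A^t, φ_A), (B^t, φ_B) be given dual abelian
varieties for the fppf topology, both abelian varieties, with f^t : B^t → A^t the transpose of f.
Then f^t is again finite, flat and surjective, of the same constant rank d. (The published statement
takes an isogeny to be finite and surjective; flatness, which then holds, is assumed and concluded
explicitly here so that the rank is the degree.) -/
theorem result (k : Type u) [Field k]
    (A At B Bt : Over (Spec (CommRingCat.of k))) [GrpObj A] [IsProper A.hom] [Smooth A.hom] [GeometricallyConnected A.hom]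
    [GrpObj At] [IsProper At.hom] [Smooth At.hom] [GeometricallyConnected At.hom]
    [GrpObj B] [IsProper B.hom] [Smooth B.hom] [GeometricallyConnected B.hom]
    [GrpObj Bt] [IsProper Bt.hom] [Smooth Bt.hom] [GeometricallyConnected Bt.hom]
    (φA : ∀ T : Over (Spec (CommRingCat.of k)), PicF.Cl (PicF.XT A.hom T) → (T ⟶ At))
    (hφA : AbDual.IsDualAV Scheme.fppfPrecoverage A At φA)
    (φB : ∀ T : Over (Spec (CommRingCat.of k)), PicF.Cl (PicF.XT B.hom T) → (T ⟶ Bt))
    (hφB : AbDual.IsDualAV Scheme.fppfPrecoverage B Bt φB)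
    (f : A ⟶ B) [IsMonHom f] [IsFinite f.left] [Flat f.left] [Surjective f.left]
    (d : ℕ) (hd : ∀ y : ↥B.left, Scheme.Hom.finrank f.left y = d)
    (ft : Bt ⟶ At) (hft : AbDual.IsTranspose f φA φB ft) :
    IsFinite ft.left ∧ Flat ft.left ∧ Surjective ft.left ∧
      ∀ x : ↥At.left, Scheme.Hom.finrank ft.left x = d := by
  haveI : GeometricallyReduced A.hom := geometricallyReduced_of_smooth A.hom
  haveI : GeometricallyReduced B.hom := geometricallyReduced_of_smooth B.hom
  haveI : GeometricallyReduced At.hom := geometricallyReduced_of_smooth At.hom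
  haveI : GeometricallyReduced Bt.hom := geometricallyReduced_of_smooth Bt.hom
  haveI : GeometricallyIntegral A.hom := Groth.L08.Cube.geometricallyIntegral_of_group A
  haveI : GeometricallyIntegral B.hom := Groth.L08.Cube.geometricallyIntegral_of_group B
  haveI : GeometricallyIntegral At.hom := Groth.L08.Cube.geometricallyIntegral_of_group At
  haveI : GeometricallyIntegral Bt.hom := Groth.L08.Cube.geometricallyIntegral_of_group Bt
  haveI : IsCommMonObj A := isCommMonObj_of_isProper_of_geometricallyIntegral A
  haveI : IsCommMonObj B := isCommMonObj_of_isProper_of_geometricallyIntegral B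
  haveI : IsCommMonObj At := isCommMonObj_of_isProper_of_geometricallyIntegral At
  haveI : IsCommMonObj Bt := isCommMonObj_of_isProper_of_geometricallyIntegral Bt
  haveI : Subsingleton ↥(Spec (CommRingCat.of k)) := inferInstanceAs (Subsingleton (PrimeSpectrum k))
  haveI : ConnectedSpace ↥At.left := GeometricallyConnected.connectedSpace_of_subsingleton At.hom
  haveI : ConnectedSpace ↥Bt.left := GeometricallyConnected.connectedSpace_of_subsingleton Bt.hom
  -- the transpose is a homomorphism
  haveI : IsMonHom ft := by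
    refine isMonHom_of_one ft ?_
    have h := hft (𝟙_ _) (oneCl _) (isPicZeroCl_oneCl B.hom _)
    rw [pullCl_oneCl, map_oneCl hφA, map_oneCl hφB, Hom.one_def, Hom.one_def, toUnit_unit, Category.id_comp,
      Category.id_comp] at h
    exact h.symm
  -- the transpose is finite flat
  let N := pullback f η[B]
  have hN : AlgGrp.IsKernel (pullback.fst f η[B]) f := by
    have h := IsPullback.of_hasPullback f η[B]
    rwa [show pullback.snd f η[B] = toUnit N from toUnit_unique _ _] at h
  haveI : IsFinite N.hom := (Groth.Agent.DegTower.kernel_finrank f _ hN (IsLocalRing.closedPoint k)).1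
  obtain ⟨hts, htf, htk⟩ := Groth.L00.TransIsog.surjective_flat_finite hφA hφB f _ hN ft hft
  haveI := hts
  let Nt := pullback ft η[At]
  have hNt : AlgGrp.IsKernel (pullback.fst ft η[At]) ft := by
    have h := IsPullback.of_hasPullback ft η[At]
    rwa [show pullback.snd ft η[At] = toUnit Nt from toUnit_unique _ _] at h
  haveI : IsFinite Nt.hom := (htk _ _ hNt).1
  obtain ⟨htfin, htflat⟩ := Groth.L00.TransIsog.isFinite_flat ft _ hNt
  haveI := htfin
  haveI := htflat
  refine ⟨htfin, htflat, hts, fun x => ?_⟩
  obtain ⟨e, he⟩ : ∃ e, ∀ x : ↥At.left, Scheme.Hom.finrank ft.left x = e := ⟨Scheme.Hom.finrank ft.left x,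
    fun y => by
      haveI := Groth.L00.IsogDual.lfp_left ft
      exact (Scheme.Hom.isLocallyConstant_finrank ft.left).apply_eq_of_preconnectedSpace _ _⟩
  rw [he]
  -- an ample module on `B`
  obtain ⟨M, hMa⟩ := Degree.exists_isAmple B
  let lam := Pairing.lamOf φB M hMa.1
  haveI : IsMonHom lam := by
    refine isMonHom_of_one lam ?_
    rw [← hφB.relPic.natural B _ η[B] _ (Pairing.isPicZeroCl_mumCl M hMa.1), XTmap_eq_whiskerLeft, ← Orth.pb_val,
      Orth.pb_bil, whiskerLeft_fst, whiskerLeft_snd,
      show snd B (𝟙_ (Over (Spec (CommRingCat.of k)))) ≫ η[B] = 1 from by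
        rw [Hom.one_def]; congr 1; exact toUnit_unique _ _, Orth.bil_one_right]
    refine (map_oneCl hφB _).trans ?_
    rw [Hom.one_def, toUnit_unit, Category.id_comp]
  obtain ⟨KM, iM, hKM, hKMf, hkerM⟩ := Groth.Agent.LamSurj.exists_kernel hφB M hMa
  haveI := hKMf
  haveI : Surjective lam.left := Groth.Agent.LamSurj.surjective_lamOf hφB M hMa
  obtain ⟨hlf, hlflat⟩ := Groth.L00.TransIsog.isFinite_flat lam iM hkerM
  haveI := hlf
  haveI := hlflat
  obtain ⟨r, hr⟩ : ∃ r, ∀ y : ↥Bt.left, Scheme.Hom.finrank lam.left y = r :=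
    ⟨Scheme.Hom.finrank lam.left (Groth.Agent.DegTower.one Bt), fun y => by
      haveI := Groth.L00.IsogDual.lfp_left lam
      exact (Scheme.Hom.isLocallyConstant_finrank lam.left).apply_eq_of_preconnectedSpace _ _⟩
  have hKMr : ∀ s, Scheme.Hom.finrank KM.hom s = r := fun s =>
    ((Groth.Agent.DegTower.kernel_finrank lam iM hkerM s).2).trans (hr _)
  -- the pullback
  let L := (Scheme.Modules.pullback f.left).obj M
  have hLa : CohB1.IsAmple L := Groth.L18.Ample.isAmple_pullback_of_isAffineHom f.left hMa
  have hcomp : Pairing.lamOf φA L hLa.1 = f ≫ lam ≫ ft := by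
    have h1 : f ≫ lam = φB A (PicF.pullCl (PicF.XTmap B.hom f) (Pairing.mumCl M hMa.1)) :=
      (hφB.relPic.natural B A f _ (Pairing.isPicZeroCl_mumCl M hMa.1)).symm
    rw [← Category.assoc, h1, ← hft A _ (isPicZeroCl_XTmap _ f (Pairing.isPicZeroCl_mumCl M hMa.1))]
    refine congrArg (φA A) ?_
    rw [← PicLoc.pullCl_comp]
    show (Orth.bil L hLa.1 (fst A A) (snd A A)).toMul.1 = _
    rw [bil_pullback f M hMa.1 hLa.1, ← Pairing.pullCl_mumCl]
    refine congrArg (fun q => PicF.pullCl q (Pairing.mumCl M hMa.1)) ?_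
    apply pullback.hom_ext
    · show (lift (fst A A ≫ f) (snd A A ≫ f)).left ≫ (fst B B).left = _
      rw [← Over.comp_left, lift_fst, Category.assoc, XTmap_fst]
      exact (pullback.lift_fst _ _ _).symm
    · show (lift (fst A A ≫ f) (snd A A ≫ f)).left ≫ (snd B B).left = _
      rw [← Over.comp_left, lift_snd, Category.assoc, XTmap_snd, ← Category.assoc, bcMap_snd]
      rfl
  obtain ⟨KL, iL, hKL, hKLf, hkerL⟩ := Groth.Agent.LamSurj.exists_kernel hφA L hLa
  have hKLr := (Groth.Agent.S19773.result k A B f inferInstance d hd M hMa.1 KM iM hKM r hKMr KL iL hKL).2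
    (IsLocalRing.closedPoint k)
  haveI : IsFinite (lam ≫ ft).left := inferInstanceAs (IsFinite (lam.left ≫ ft.left))
  haveI : Flat (lam ≫ ft).left := inferInstanceAs (Flat (lam.left ≫ ft.left))
  haveI : IsFinite (Pairing.lamOf φA L hLa.1).left := by
    rw [hcomp]; exact inferInstanceAs (IsFinite (f.left ≫ (lam ≫ ft).left))
  haveI : Flat (Pairing.lamOf φA L hLa.1).left := by
    rw [hcomp]; exact inferInstanceAs (Flat (f.left ≫ (lam ≫ ft).left))
  rw [(Groth.Agent.DegTower.kernel_finrank _ iL hkerL _).2, hcomp,
    Groth.Agent.DegTower.finrank_comp_one f hd (lam ≫ ft), Groth.Agent.DegTower.finrank_comp_one lam hr ft, he] at hKLr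
  have hd1 : 0 < d := by
    haveI := Groth.L00.IsogDual.lfp_left f
    rw [← hd (Groth.Agent.DegTower.one B)]
    exact (Scheme.Hom.one_le_finrank_iff_surjective (f := f.left)).2 ‹_› _
  have hr1 : 0 < r := by
    haveI := Groth.L00.IsogDual.lfp_left lam
    rw [← hr (Groth.Agent.DegTower.one Bt)]
    exact (Scheme.Hom.one_le_finrank_iff_surjective (f := lam.left)).2 ‹_› _
  exact Nat.eq_of_mul_eq_mul_left (Nat.mul_pos hd1 hr1) (by rw [_root_.mul_assoc, hKLr]; ring)

end Groth.Agent.S14133
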