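import Groth.Statements.S19923
import Groth.Agent.L26.AbDual.Setting

set_option autoImplicit false
universe u
open CategoryTheory CategoryTheory.Limits MonoidalCategory CartesianMonoidalCategory MonObj GrpObj AlgebraicGeometry
open AbVar

namespace Groth.Agent.S19923

open Groth.Agent.AbDualLib

/-- Let A be an abelian variety over a field k (a proper, geometrically integral commutative k-group
scheme; k arbitrary), given with a dual (Â, φ_A) and a dual (Â̂, φ_Â) of Â — each represents the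
fppf-sheafified functor of invertible classes algebraically equivalent to zero on geometric fibres,
with φ multiplicative — and with a Poincaré class ξ on A ×_k Â whose transpose ξ' on Â ×_k A lies in
Pic⁰ on the fibres over A; put ι_A = φ_Â(ξ') : A → Â̂ (the double-duality morphism). Let L be an
invertible O_A-module with an inverse L⁻¹, and let Λ be a module on A ×_k A isomorphic to m^*L ⊗
p₁^*L⁻¹ ⊗ p₂^*L⁻¹ (m the group law, p₁, p₂ the projections) whose class lies in Pic⁰ on the fibres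
over the second factor, so that φ_L := φ_A(Λ) : A → Â is the homomorphism a ↦ t_a^*L ⊗ L⁻¹. If φ̂_L
: Â̂ → Â is a transpose of φ_L (φ_A of the pull-back of a Pic⁰ class c along (φ_L)_T equals φ_Â(c)
followed by φ̂_L), then φ_L = ι_A followed by φ̂_L: the homomorphism φ_L is symmetric. -/
theorem result (K : Type u) [Field K]
    (A At Att : Over (Spec (CommRingCat.of K)))
    [GrpObj A] [IsCommMonObj A] [IsProper A.hom] [GeometricallyIntegral A.hom]
    [GrpObj At] [IsCommMonObj At] [IsProper At.hom] [GeometricallyIntegral At.hom]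
    [GrpObj Att] [IsCommMonObj Att] [IsProper Att.hom] [GeometricallyIntegral Att.hom]
    (φA : ∀ T : Over (Spec (CommRingCat.of K)), PicF.Cl (PicF.XT A.hom T) → (T ⟶ At))
    (hAt : AbDual.IsDualAV Scheme.fppfPrecoverage A At φA)
    (φAt : ∀ T : Over (Spec (CommRingCat.of K)), PicF.Cl (PicF.XT At.hom T) → (T ⟶ Att))
    (hAtt : AbDual.IsDualAV Scheme.fppfPrecoverage At Att φAt)
    (ξ : PicF.Cl (PicF.XT A.hom At)) (hξ : AbDual.IsPoincareCl A At φA ξ)
    (hξ' : AbDual.IsPicZeroCl At.hom A (PicF.pullCl (pullbackSymmetry At.hom A.hom).hom ξ))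
    (L Linv : A.left.Modules) (hL : PicF.IsInvertible L)
    (hLinv : Nonempty (CohB1.tensorMod L Linv ≅ Coh.structureModule A.left))
    (Λ : (PicF.XT A.hom A).Modules)
    (hΛ : Nonempty (Λ ≅ CohB1.tensorMod (CohB1.tensorMod ((Scheme.Modules.pullback (μ[A]).left).obj L)
      ((Scheme.Modules.pullback (fst A A).left).obj Linv)) ((Scheme.Modules.pullback (snd A A).left).obj Linv)))
    (hΛ0 : AbDual.IsPicZeroCl A.hom A (PicF.cl Λ))
    (tl : Att ⟶ At) [IsMonHom tl]
    (htl : AbDual.IsTranspose (φA A (PicF.cl Λ)) φA φAt tl) :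
    φA A (PicF.cl Λ) = φAt A (PicF.pullCl (pullbackSymmetry At.hom A.hom).hom ξ) ≫ tl := by
  set f := φA A (PicF.cl Λ) with hf
  rw [← htl A _ hξ', ← PicLoc.pullCl_comp, bcMap_symmetry, PicLoc.pullCl_comp]
  have hnat : φA A (PicF.pullCl (PicF.XTmap A.hom f) ξ) = f := by
    rw [hAt.relPic.natural At A f ξ hξ.1, hξ.2.1, Category.comp_id]
  obtain ⟨R, hR, hloc⟩ := hAt.relPic.locallyInjective A _ (PicF.cl Λ) (isPicZeroCl_XTmap _ f hξ.1) hΛ0
    (hnat.trans hf)
  have hL1 : PicF.pullCl η[A].left (PicF.cl L) = oneCl _ :=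
    haveI : Subsingleton ↥((𝟙_ (Over (Spec (CommRingCat.of K)))).left) :=
      inferInstanceAs (Subsingleton (PrimeSpectrum K))
    eq_oneCl_of_subsingleton ⟨_, rfl, PicLoc.isInvertible_pullback _ hL⟩
  have hLL : PicGrp.mulCl (PicF.cl L) (PicF.cl Linv) = oneCl _ :=
    (PicGrp.cl_eq_cl_iff _ _).2 hLinv
  have hLi1 : PicF.pullCl η[A].left (PicF.cl Linv) = oneCl _ := by
    refine eq_oneCl_of_mul_eq ?_ hL1
    rw [← pullCl_mulCl, hLL, pullCl_oneCl]
  have hΛc : PicF.cl Λ = PicGrp.mulCl (PicGrp.mulCl (PicF.pullCl (μ[A]).left (PicF.cl L))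
      (PicF.pullCl (fst A A).left (PicF.cl Linv))) (PicF.pullCl (snd A A).left (PicF.cl Linv)) :=
    (PicGrp.cl_eq_cl_iff _ _).2 hΛ
  have hc : PicF.pullCl (PicF.XTmap A.hom f) ξ = PicF.cl Λ := by
    refine cl_eq_of_cover A.hom η[A].left (Over.w η[A]) hR
      (fun T' t ht => surjective_XTproj_of_field A A T' t ht)
      (isInvertibleCl_of_isPicZeroCl (isPicZeroCl_XTmap _ f hξ.1)) (isInvertibleCl_of_isPicZeroCl hΛ0) ?_ hloc
    have e1 : PicF.pullCl (PicF.secT A.hom η[A].left (Over.w η[A]) A) (PicF.pullCl (PicF.XTmap A.hom f) ξ) =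
        oneCl _ := by
      rw [← PicLoc.pullCl_comp, secT_XTmap, PicLoc.pullCl_comp, show PicF.pullCl _ ξ = _ from hξ.2.2]
      exact pullCl_oneCl _
    rw [e1, hΛc, secT_eq_lift, pullCl_mulCl, pullCl_mulCl]
    erw [pullCl_left_comp (lift (toUnit A ≫ η[A]) (𝟙 A)) μ[A],
      pullCl_left_comp (lift (toUnit A ≫ η[A]) (𝟙 A)) (fst A A),
      pullCl_left_comp (lift (toUnit A ≫ η[A]) (𝟙 A)) (snd A A)]
    rw [lift_fst, lift_snd, MonObj.lift_comp_one_left, Over.comp_left, Over.id_left, PicLoc.pullCl_id, PicLoc.pullCl_id,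
      PicLoc.pullCl_comp, hLi1, pullCl_oneCl]
    erw [mul_oneCl]
    exact hLL.symm
  rw [hc, hf]
  refine congrArg (φA A) ?_
  have hμ : lift (snd A A) (fst A A) ≫ μ[A] = μ[A] := by
    calc lift (snd A A) (fst A A) ≫ μ[A] = snd A A * fst A A := rfl
      _ = fst A A * snd A A := mul_comm _ _
      _ = lift (fst A A) (snd A A) ≫ μ[A] := rfl
      _ = μ[A] := by rw [lift_fst_snd, Category.id_comp]
  rw [hΛc, pullCl_mulCl, pullCl_mulCl]
  simp only [symmetry_eq_lift]
  erw [pullCl_left_comp (lift (snd A A) (fst A A)) μ[A], pullCl_left_comp (lift (snd A A) (fst A A)) (fst A A),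
    pullCl_left_comp (lift (snd A A) (fst A A)) (snd A A)]
  rw [hμ, lift_fst, lift_snd, mulCl_assoc, mulCl_assoc, mulCl_comm (PicF.pullCl (snd A A).left _)]

end Groth.Agent.S19923
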