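import Groth.Statements.S19948
import Groth.Agent.L26.Theta.Effective
import Groth.Agent.L26.Theta.Level
import Groth.Agent.L26.Theta.Kernel
import Groth.Agent.L26.Theta.Split
import Mathlib.AlgebraicGeometry.Artinian

set_option autoImplicit false
universe u
open CategoryTheory MonoidalCategory CartesianMonoidalCategory MonObj GrpObj AlgebraicGeometry
open ThetaGrp

namespace Groth.Agent.S19948

open Groth.Agent.ThetaPts Groth.Agent.ThetaPairing
open Groth.Agent.AbDualLib (pullCl_oneCl mul_oneCl oneCl oneCl_mul)

theorem discreteTopology_of_isFinite {k : Type u} [Field k] {X : Scheme.{u}}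
    (f : X ⟶ Spec (CommRingCat.of k)) [IsFinite f] : DiscreteTopology X := by
  haveI : IsAffine X := isAffine_of_isAffineHom f
  letI : Algebra k Γ(X, ⊤) := ((Scheme.ΓSpecIso (CommRingCat.of k)).inv ≫ f.appTop).hom.toAlgebra
  haveI : Module.Finite k Γ(X, ⊤) := RingHom.Finite.comp f.finite_appTop
    (RingHom.Finite.of_surjective _ (Scheme.ΓSpecIso (CommRingCat.of k)).commRingCatIsoToRingEquiv.symm.surjective)
  haveI : IsArtinianRing Γ(X, ⊤) := IsArtinianRing.of_finite k _
  haveI : DiscreteTopology (Spec Γ(X, ⊤)) := inferInstanceAs (DiscreteTopology (PrimeSpectrum _))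
  exact X.isoSpec.hom.homeomorph.symm.discreteTopology

theorem eq_oneCl_of_discrete {Y : Scheme.{u}} [DiscreteTopology Y] {c : PicF.Cl Y}
    (hc : PicF.IsInvertibleCl c) : c = oneCl Y := by
  obtain ⟨L, rfl, hL⟩ := hc
  refine (PicGrp.cl_eq_cl_iff _ _).2 ?_
  choose W e hW he using Groth.L18.Frame.exists_frame hL
  let P : Y → Y.Opens := fun y => ⟨{y}, isOpen_discrete _⟩
  have hPW : ∀ y, P y ≤ W y := fun y z hz => by rw [show z = y from hz]; exact hW y
  refine Groth.L22.PicGlue.nonempty_iso_of_gens P (e := fun y => Groth.L18.Frame.rs L (hPW y) (e y))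
    (e' := fun y => (1 : Γ(Y, P y))) (fun y => (he y).mono (hPW y)) (fun y V h => ?_) (fun x => ⟨x, rfl⟩) ?_
  · have : (fun a : Γ(Y, V) => a • Groth.L21.Extend.rs (Coh.structureModule Y) h (1 : Γ(Y, P y))) = id := by
      funext a
      show a * (Y.presheaf.map (homOfLE h).op) 1 = a
      rw [map_one, _root_.mul_one]
    rw [this]
    exact Function.bijective_id
  · intro i j V hi hj x hx
    by_cases hij : i = j
    · subst hij
      have hx1 : x = 1 := ((he i).mono (hPW i) V hi).1 (hx.trans (one_smul _ _).symm)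
      rw [hx1, one_smul]
    · obtain rfl : V = ⊥ := eq_bot_iff.2 fun y hy => absurd ((show y = i from hi hy).symm.trans (show y = j from hj hy)) hij
      exact @Subsingleton.elim _ (inferInstanceAs (Subsingleton Γ(Y, (⊥ : Y.Opens)))) _ _

theorem exists_lift_of_KL {k : Type u} [Field k] {A : Over (Spec (CommRingCat.of k))} [GrpObj A]
    [IsCommMonObj A] [IsProper A.hom] [GeometricallyIntegral A.hom] {L : A.left.Modules} (hL : PicF.IsInvertible L)
    {K : Over (Spec (CommRingCat.of k))} {iK : K ⟶ A} (hK : ThetaGrp.IsKL A L iK)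
    {N : Over (Spec (CommRingCat.of k))} [DiscreteTopology N.left] {x : N ⟶ A} (hx : ∃ y : N ⟶ K, y ≫ iK = x) :
    ∃ β : ThetaGrp.thetaPts A L N, ThetaGrp.IsOverPt β x := by
  have hc : PicF.IsInvertibleCl (PicF.cl L) := ⟨L, rfl, hL⟩
  have h := (KLLib.factors_iff L hL (KLLib.pullCl_unit_eq_one hc) hK (z := x)).1 hx
  refine KLLib.exists_isOverPt ?_
  rw [h.at (fst A N) (snd A N)]
  refine (congrArg (PicGrp.mulCl _) ?_).trans (mul_oneCl _)
  rw [Over.comp_left, PicLoc.pullCl_comp,
    eq_oneCl_of_discrete (PicLoc.isInvertibleCl_pullCl x.left hc), pullCl_oneCl]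

/-- Let k be an algebraically closed field, f : X → Y an isogeny of abelian varieties over k (X, Y
proper, geometrically integral, commutative k-group schemes; f a finite surjective homomorphism), i
: N → X the kernel of f (a homomorphism forming a cartesian square with the unit section of Y), L an
invertible O_X-module and i_K : K → X a closed immersion exhibiting K as K(L), the maximal closed
subscheme of X over which the Mumford bundle m^*L ⊗ p_1^*L⁻¹ ⊗ p_2^*L⁻¹, restricted to X ×_k K, is
the inverse image of an invertible module on K, with its universal property. Then L is the inverse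
image of an invertible O_Y-module (there is an invertible M on Y with f^*M ≅ L) if and only if the
kernel of f lies inside K(L) as a subgroup scheme and the commutator pairing e_L is trivial on it: i
factors through i_K, and for every k-scheme T any two points (x₁, φ₁), (x₂, φ₂) of G(L)(T) whose
translations are by points of N commute. (Algebraic closedness is used for the converse; over other
fields an isotropic kernel descends in general only after a finite extension of k.) -/
theorem result (k : Type u) [Field k] [IsAlgClosed k]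
    (A : Over (Spec (CommRingCat.of k))) [GrpObj A] [IsCommMonObj A] [IsProper A.hom] [GeometricallyIntegral A.hom]
    (B : Over (Spec (CommRingCat.of k))) [GrpObj B] [IsCommMonObj B] [IsProper B.hom] [GeometricallyIntegral B.hom]
    (f : A ⟶ B) [IsMonHom f] [IsFinite f.left] (hf : Surjective f.left)
    (N : Over (Spec (CommRingCat.of k))) [GrpObj N] (i : N ⟶ A) [IsMonHom i] (hN : AlgGrp.IsKernel i f)
    (L : A.left.Modules) (hL : PicF.IsInvertible L)
    (K : Over (Spec (CommRingCat.of k))) (iK : K ⟶ A) (hK : ThetaGrp.IsKL A L iK) :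
    (∃ M : B.left.Modules, PicF.IsInvertible M ∧ Nonempty ((Scheme.Modules.pullback f.left).obj M ≅ L)) ↔
      ((∃ y : N ⟶ K, y ≫ iK = i) ∧ ThetaGrp.IsIsotropic L i) := by
  have hA := fun T => ThetaAV.bijective_snd (A := A) T
  constructor
  · rintro ⟨M, -, ⟨e⟩⟩
    have hi : ∀ {T : Over (Spec (CommRingCat.of k))} (x : T ⟶ N), (x ≫ i) ≫ f = 1 :=
      fun x => ThetaAV.comp_kernel_eq_one hN x
    refine ⟨?_, fun T x y β₁ β₂ h₁ h₂ => ?_⟩
    · obtain ⟨c, hc, -⟩ := ThetaLevel.exists_isCanon f hA hL e (x := i) (by simpa using hi (𝟙 N))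
      exact (ThetaAV.locLift_iff L hL iK hK i).2 (LocLift.of_lift hc)
    · obtain ⟨c₁, o₁, k₁⟩ := ThetaLevel.exists_isCanon f hA hL e (hi x)
      obtain ⟨c₂, o₂, k₂⟩ := ThetaLevel.exists_isCanon f hA hL e (hi y)
      have o := isOverPt_mul o₂ o₁
      rw [_root_.mul_comm] at o
      exact commute_congr hA hL o₁ o₂ h₁ h₂ (ThetaLevel.isCanon_unique f e (ThetaLevel.isCanon_mul f k₁ k₂)
        (ThetaLevel.isCanon_mul f k₂ k₁) (isOverPt_mul o₁ o₂) o)
  · rintro ⟨hy, hiso⟩
    haveI : IsFinite (toUnit N).left :=
      MorphismProperty.of_isPullback (P := @IsFinite) ((hN.map (Over.forget _))) ‹IsFinite f.left›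
    haveI : IsFinite N.hom := by
      rw [← Over.w (toUnit N)]
      exact inferInstanceAs (IsFinite ((toUnit N).left ≫ 𝟙 _))
    haveI : DiscreteTopology N.left := discreteTopology_of_isFinite N.hom
    have hinj : ∀ {T : Over (Spec (CommRingCat.of k))} {x y : T ⟶ N}, x ≫ i = y ≫ i → x = y :=
      fun h => hN.hom_ext h (toUnit_unique _ _)
    have hcomm : ∀ (T : Over (Spec (CommRingCat.of k))) (x y : T ⟶ N), x * y = y * x := fun T x y =>
      hinj (by rw [MonObj.mul_comp, MonObj.mul_comp, _root_.mul_comm])
    obtain ⟨β₁, hβ₁⟩ := exists_lift_of_KL hL hK hy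
    -- normalise at the unit
    let e₁ : 𝟙_ (Over (Spec (CommRingCat.of k))) ⟶ N := 1
    obtain ⟨b, hb⟩ := exists_isBaseChange β₁ e₁
    have hb1 : ThetaGrp.IsOverPt b 1 := by
      have := isOverPt_of_isBaseChange hb hβ₁
      rwa [MonObj.one_comp] at this
    obtain ⟨a, ha⟩ := exists_scal_mul hA hL hb1 isOverPt_one
    rw [_root_.mul_one] at ha
    let β₀ : ThetaGrp.thetaPts A L N := scal A L N (res (toUnit N) a)⁻¹ * β₁
    have hβ₀ : ThetaGrp.IsOverPt β₀ i := by
      have := isOverPt_mul (isOverPt_scal (A := A) (L := L) (res (toUnit N) a)⁻¹) hβ₁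
      first
        | rwa [_root_.one_mul] at this
        | rwa [_root_.mul_one] at this
    choose α hα using fun (T : Over (Spec (CommRingCat.of k))) (x : T ⟶ N) => exists_isBaseChange β₀ x
    have hαo : ∀ T x, ThetaGrp.IsOverPt (α T x) (x ≫ i) := fun T x => isOverPt_of_isBaseChange (hα T x) hβ₀
    have hα1 : ∀ T, α T 1 = 1 := fun T => by
      have h1 : ThetaGrp.IsBaseChange (1 : ThetaGrp.thetaPts A L (𝟙_ _)) e₁ β₀ := by
        have := isBaseChange_mul (isBaseChange_scal (A := A) (L := L) e₁ (res (toUnit N) a)⁻¹) hb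
        rw [ha, ← map_mul] at this
        have e2 : res e₁ (res (toUnit N) a)⁻¹ * a = 1 := by
          rw [map_inv, ← res_comp, toUnit_unique (e₁ ≫ toUnit N) (𝟙 _), res_id, inv_mul_cancel]
        rw [show Units.map _ _ * a = 1 from e2, map_one] at this
        exact this
      obtain ⟨o, ho⟩ := exists_isBaseChange (1 : ThetaGrp.thetaPts A L (𝟙_ _)) (toUnit T)
      have ho1 : o = 1 := by
        refine isBaseChange_unique ho ?_
        show _ ≫ _ = _ ≫ _
        exact (Category.id_comp _).trans (Category.comp_id _).symm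
      have := isBaseChange_trans hA hL ho h1
      rw [MonObj.comp_one, ho1] at this
      exact isBaseChange_unique (hα T 1) this
    have hbc : ∀ {T T' : Over (Spec (CommRingCat.of k))} (t : T' ⟶ T) (x : T ⟶ N),
        ThetaGrp.IsBaseChange (α T' (t ≫ x)) t (α T x) := fun {T T'} t x => by
      obtain ⟨γ, hγ⟩ := exists_isBaseChange (α T x) t
      exact isBaseChange_unique (hα T' (t ≫ x)) (isBaseChange_trans hA hL hγ (hα T x)) ▸ hγ
    obtain ⟨c, hc⟩ : ∃ c : Γ((N ⊗ N).left, ⊤)ˣ,
        α _ (fst N N) * α _ (snd N N) = scal A L _ c * α _ (fst N N * snd N N) := by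
      have h := isOverPt_mul (hαo _ (fst N N)) (hαo _ (snd N N))
      rw [← MonObj.mul_comp] at h
      refine exists_scal_mul hA hL h ?_
      first
        | exact hαo _ _
        | (rw [hcomm _ (fst N N)]; exact hαo _ _)
    have hmul : ∀ (T : Over (Spec (CommRingCat.of k))) (x y : T ⟶ N),
        α T x * α T y = scal A L T (res (lift x y) c) * α T (x * y) := fun T x y => by
      have h1 := hbc (lift x y) (fst N N)
      have h2 := hbc (lift x y) (snd N N)
      have h3 := hbc (lift x y) (fst N N * snd N N)
      rw [lift_fst] at h1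
      rw [lift_snd] at h2
      rw [MonObj.comp_mul, lift_fst, lift_snd] at h3
      have h := isBaseChange_mul h1 h2
      rw [hc] at h
      exact isBaseChange_unique h (isBaseChange_mul (isBaseChange_scal _ c) h3)
    have hscal : ∀ {T : Over (Spec (CommRingCat.of k))} (p q : Γ(T.left, ⊤)ˣ) (γ : ThetaGrp.thetaPts A L T),
        scal A L T p * γ = scal A L T q * γ → p = q := fun p q γ h => scal_inj hA hL (mul_right_cancel h)
    obtain ⟨χ, hχ⟩ := ThetaSplit.exists_char hcomm c (fun T a b z => by
      have h1 : α T a * (α T b * α T z) = scal A L T (res (lift b z) c * res (lift a (b * z)) c) * α T (a * (b * z)) := by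
        rw [hmul T b z, ← _root_.mul_assoc, ← scal_comm, _root_.mul_assoc, hmul, ← _root_.mul_assoc, ← map_mul]
      have h2 : α T b * (α T a * α T z) = scal A L T (res (lift a z) c * res (lift b (a * z)) c) * α T (b * (a * z)) := by
        rw [hmul T a z, ← _root_.mul_assoc, ← scal_comm, _root_.mul_assoc, hmul, ← _root_.mul_assoc, ← map_mul]
      rw [← _root_.mul_assoc (α T a), hiso T a b _ _ (hαo T a) (hαo T b), _root_.mul_assoc, h2,
        ← _root_.mul_assoc a b z, hcomm T a b, _root_.mul_assoc b a z] at h1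
      exact congrArg Units.val (hscal _ _ _ h1).symm) (fun T x => by
      have h := hmul T x 1
      rw [hα1, _root_.mul_one, _root_.mul_one] at h
      have h' := hscal (res (lift x 1) c) 1 (α T x) (by rw [map_one, _root_.one_mul]; exact h.symm)
      exact congrArg Units.val h')
    let βN : ThetaGrp.thetaPts A L N := scal A L N χ⁻¹ * β₀
    have hβN : ThetaGrp.IsOverPt βN i := by
      have := isOverPt_mul (isOverPt_scal (A := A) (L := L) χ⁻¹) hβ₀
      first
        | rwa [_root_.one_mul] at this
        | rwa [_root_.mul_one] at this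
    have hform : ∀ (T : Over (Spec (CommRingCat.of k))) (x : T ⟶ N) (β : ThetaGrp.thetaPts A L T),
        ThetaGrp.IsBaseChange β x βN → β = scal A L T (res x χ)⁻¹ * α T x := fun T x β hβ =>
      isBaseChange_unique hβ (by
        rw [← map_inv (res x)]
        exact isBaseChange_mul (isBaseChange_scal x χ⁻¹) (hα T x))
    obtain ⟨_, _⟩ := ThetaAV.flat_lfp (f := f) hf
    obtain ⟨D⟩ := ThetaEff.exists_datum_of_mul (u := βN) (L := L) hA hL i (𝟙 N)
      (fun T n β hβ => by
        rw [Category.comp_id] at hβ
        exact isOverPt_of_isBaseChange hβ hβN) f hN (fun T n m b₁ b₂ h₁ h₂ => by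
        rw [Category.comp_id] at h₁ h₂ ⊢
        obtain ⟨o, ho⟩ := exists_isBaseChange βN (n * m)
        have e := hform T _ o ho
        have e' : b₁ * b₂ = o := by
          rw [hform T n b₁ h₁, hform T m b₂ h₂, e, _root_.mul_assoc (scal A L T _), ← _root_.mul_assoc (α T n),
            ← scal_comm, _root_.mul_assoc (scal A L T _), hmul, ← _root_.mul_assoc, ← _root_.mul_assoc,
            ← map_mul, ← map_mul]
          congr 2
          have hk : res (lift n m) c * res (n * m) χ = res n χ * res m χ := Units.ext (hχ T n m)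
          rw [_root_.mul_assoc, ← _root_.mul_left_inj (res (n * m) χ), inv_mul_cancel, _root_.mul_assoc, _root_.mul_assoc, hk,
            ← _root_.mul_assoc, ← _root_.mul_inv, inv_mul_cancel]
        exact e' ▸ ho)
    obtain ⟨M, hM, ⟨e⟩⟩ := InvDescent.exists_descended (D := D) hL
    exact ⟨M, hM, ⟨e.symm⟩⟩

end Groth.Agent.S19948
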