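import Groth.Statements.S1490
import Groth.Agent.L08.Cube.RelCube

set_option autoImplicit false
universe u
open FlatMor

namespace Groth.Agent.S1490
open CategoryTheory CategoryTheory.Limits AlgebraicGeometry
set_option backward.isDefEq.respectTransparency false

open AlgebraicGeometry CategoryTheory Limits in
/-- The cube principle for invertible modules: let X, Y, Z be schemes over S with X → S and Y → S flat,
proper, of finite presentation and with geometrically integral fibres, let x and y be sections of X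
→ S and Y → S, and let Z be connected. Let L be an invertible module on (X ×_S Y) ×_S Z. If the
pullbacks of L to Y ×_S Z (along x) and to X ×_S Z (along y) are trivial and L is trivial on the
fibre over some point z of Z, then L is trivial. -/
theorem result {S X Y Z : Scheme.{u}} (pX : X ⟶ S) (pY : Y ⟶ S) (pZ : Z ⟶ S)
    [Flat pX] [IsProper pX] [LocallyOfFinitePresentation pX] [GeometricallyIntegral pX]
    [Flat pY] [IsProper pY] [LocallyOfFinitePresentation pY] [GeometricallyIntegral pY] [ConnectedSpace ↑Z]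
    (x : S ⟶ X) (hx : x ≫ pX = 𝟙 S) (y : S ⟶ Y) (hy : y ≫ pY = 𝟙 S)
    (L : (pullback (pullback.fst pX pY ≫ pX) pZ).Modules) (hL : PicF.IsInvertible L)
    (h₁ : Nonempty ((Scheme.Modules.pullback (pullback.map ((pullback.lift (pY ≫ x) (𝟙 Y) ((Category.assoc pY x pX).trans ((congrArg (fun t => pY ≫ t) hx).trans ((Category.comp_id pY).trans (Category.id_comp pY).symm)))) ≫ (pullback.fst pX pY ≫ pX)) pZ (pullback.fst pX pY ≫ pX) pZ (pullback.lift (pY ≫ x) (𝟙 Y) ((Category.assoc pY x pX).trans ((congrArg (fun t => pY ≫ t) hx).trans ((Category.comp_id pY).trans (Category.id_comp pY).symm)))) (𝟙 Z) (𝟙 S) (Category.comp_id _) ((Category.comp_id pZ).trans (Category.id_comp pZ).symm))).obj L ≅ Coh.structureModule _))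
    (h₂ : Nonempty ((Scheme.Modules.pullback (pullback.map ((pullback.lift (𝟙 X) (pX ≫ y) ((Category.id_comp pX).trans ((Category.comp_id pX).symm.trans ((congrArg (fun t => pX ≫ t) hy).symm.trans (Category.assoc pX y pY).symm)))) ≫ (pullback.fst pX pY ≫ pX)) pZ (pullback.fst pX pY ≫ pX) pZ (pullback.lift (𝟙 X) (pX ≫ y) ((Category.id_comp pX).trans ((Category.comp_id pX).symm.trans ((congrArg (fun t => pX ≫ t) hy).symm.trans (Category.assoc pX y pY).symm)))) (𝟙 Z) (𝟙 S) (Category.comp_id _) ((Category.comp_id pZ).trans (Category.id_comp pZ).symm))).obj L ≅ Coh.structureModule _))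
    (h₃ : ∃ z : Z, Nonempty ((Scheme.Modules.pullback ((pullback.snd (pullback.fst pX pY ≫ pX) pZ).fiberι z)).obj L ≅ Coh.structureModule _)) :
    Nonempty (L ≅ Coh.structureModule (pullback (pullback.fst pX pY ≫ pX) pZ)) := by
  let D := Groth.L08.Cube.slicesOf pX pY x hx y hy
  have hX := Groth.L08.Cube.trivial_slice_of_map D.f pZ D.sX pX D.sX_f _ _ (D.slX pZ) (D.slX_fst pZ) (D.slX_snd pZ) L h₂
  have hY := Groth.L08.Cube.trivial_slice_of_map D.f pZ D.sY pY D.sY_f _ _ (D.slY pZ) (D.slY_fst pZ) (D.slY_snd pZ) L h₁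
  obtain ⟨z, h₃⟩ := h₃
  obtain ⟨W, hW, hmem, htriv⟩ := Groth.L08.Cube.relative_cube pX pY pZ x hx y hy L hL hX hY
  have hWu : W = ⊤ := TopologicalSpace.Opens.ext (IsClopen.eq_univ ⟨hW, W.2⟩ ⟨z, hmem z h₃⟩)
  let V := (pullback.snd (pullback.fst pX pY ≫ pX) pZ) ⁻¹ᵁ W
  have hV : Set.range V.ι.base = Set.univ := by
    rw [Scheme.Opens.range_ι]
    show _ ⁻¹' (W : Set Z) = _
    rw [hWu]; rfl
  haveI : Surjective V.ι := ⟨Set.range_eq_univ.1 hV⟩
  haveI : IsIso V.ι := (isIso_iff_isOpenImmersion_and_epi_base V.ι).2 ⟨inferInstance, (TopCat.epi_iff_surjective _).2 (Set.range_eq_univ.1 hV)⟩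
  obtain ⟨e⟩ := Groth.L08.Cube.trivial_comp (inv V.ι) V.ι (IsIso.inv_hom_id V.ι) L htriv
  exact ⟨((Scheme.Modules.pullbackId _).app L).symm ≪≫ e⟩

end Groth.Agent.S1490
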