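import Groth.Statements.S15551
import Groth.Agent.S0246
import Groth.Agent.S1617
import Groth.Agent.S4413
import Groth.Agent.L22.EnrSev.Conn
import Groth.Agent.L22.ZeroScheme
import Groth.Agent.L18.AmplePull
import Groth.Agent.L06.NormalAscent
import Groth.Agent.L22.SchemeDim
import Groth.Agent.L23.IntegralDim
import Groth.Agent.L03.ShStab.BC

set_option autoImplicit false
universe u
open CategoryTheory CategoryTheory.Limits AlgebraicGeometry
open Pi1

namespace Groth.Agent.S15551

/-- Let k be an algebraically closed field and X an integral normal scheme (all local rings integrally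
closed domains), proper over k and of dimension at least 2, with an ample invertible module L; let s
be a nonzero global section of L, given as a monomorphism O_X → L, and D = Z(s) ⊆ X its zero scheme
(the support of an effective ample divisor). Then for every finite étale cover Y → X with Y
connected, the fibre product Y ×_X D is connected. This is the statement that the étale fundamental
group of D maps onto that of X. (The published statement takes X projective over k; this row takes X
proper over k with an ample invertible module, which is equivalent.) -/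
theorem result (k : Type u) [Field k] [IsAlgClosed k]
    (X : Scheme.{u}) (f : X ⟶ Spec (CommRingCat.of k)) [IsProper f] [IsIntegral X] (hN : Pi1.IsNormalScheme X)
    (hdim : (2 : WithBot ℕ∞) ≤ topologicalKrullDim X)
    (L : X.Modules) (hL : CohB1.IsAmple L) (s : Coh.structureModule X ⟶ L) (hs : Mono s)
    (Y : FEt.Cat X) [ConnectedSpace Y.left] :
    ConnectedSpace ↥(pullback Y.hom (PicF2.zeroScheme L s).subschemeι) := by
  haveI : AlgebraicGeometry.Etale Y.hom := Y.prop.2
  haveI : IsFinite Y.hom := Y.prop.1
  obtain ⟨hYi, hYn⟩ := Groth.Agent.S0246.result hN Y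
  haveI := hYi
  letI : Y.left.Over (Spec (CommRingCat.of k)) := ⟨Y.hom ≫ f⟩
  haveI : IsProper (Y.left ↘ Spec (CommRingCat.of k)) := inferInstanceAs (IsProper (Y.hom ≫ f))
  haveI : IsLocallyNoetherian Y.left :=
    LocallyOfFiniteType.isLocallyNoetherian (Y.left ↘ Spec (CommRingCat.of k))
  -- `Y → X` is surjective
  have hsurj : Function.Surjective Y.hom := by
    haveI hX : PreconnectedSpace ↥X := inferInstance
    haveI hY : Nonempty ↥Y.left := ConnectedSpace.toNonempty
    have hclopen : IsClopen (Set.range Y.hom) :=
      ⟨Y.hom.isClosedMap.isClosed_range, Y.hom.isOpenMap.isOpen_range⟩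
    exact Set.range_eq_univ.1 (@IsClopen.eq_univ _ _ hX _ hclopen (@Set.range_nonempty _ _ hY _))
  obtain ⟨n, hn, -, hall⟩ := Groth.L22.SchemeDim.exists_dim_eq_trdeg k Y.left
  have hn2 : (2 : WithBot ℕ∞) ≤ (n : WithBot ℕ∞) :=
    hdim.trans (hn ▸ Groth.L23.IntDim.topologicalKrullDim_le_of_specializing hsurj
      Y.hom.isClosedMap.specializingMap)
  have hdepth : ∀ y : Y.left, IsClosed ({y} : Set Y.left) →
      2 ≤ LocCoh.depth (Y.left.presheaf.stalk y) (Y.left.presheaf.stalk y) := by
    intro y hy
    haveI := (hYn y).2
    have hloc : FlatMor.localDim Y.left y = (n : WithBot ℕ∞) :=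
      le_antisymm ((iInf_le (fun U : {U : TopologicalSpace.Opens Y.left // y ∈ U} =>
        topologicalKrullDim (U.1 : Set Y.left)) ⟨⊤, trivial⟩).trans (hall ⊤ ⟨y, trivial⟩).le)
        (le_iInf fun U => (hall U.1 ⟨y, U.2⟩).ge)
    have hst := (Groth.Agent.S1617.result k Y.left y hy).symm.trans hloc
    refine Groth.L06.NormalAscent.two_le_depth_of_normal fun h => ?_
    rw [hst] at h
    exact absurd (hn2.trans h) (by norm_num)
  let e : Coh.structureModule Y.left ≅ (Scheme.Modules.pullback Y.hom).obj (Coh.structureModule X) :=
    (Groth.L29.LocFree.pullbackUnitIso Y.hom).symm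
  haveI := Groth.L03.ShStab.BC.mono_pullback Y.hom s
  have hconn := Groth.L22.EnrSev.isConnected_compl_genLocus (X := Y.left) k
    (Groth.L18.Ample.isAmple_pullback_of_isAffineHom Y.hom hL)
    (e.hom ≫ (Scheme.Modules.pullback Y.hom).map s) (mono_comp _ _) hdepth
  rw [Groth.Agent.S4413.result Y.hom L hL.1 s e] at hconn
  have hrange : Set.range (pullback.fst Y.hom (PicF2.zeroScheme L s).subschemeι) =
      ((Y.hom ⁻¹ᵁ CohB1.genLocus L s : Y.left.Opens) : Set Y.left)ᶜ := by
    rw [Scheme.Pullback.range_fst, Scheme.IdealSheafData.range_subschemeι,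
      Groth.L22.ZeroScheme.support_zeroScheme hL.1 s, Set.preimage_compl]
    rfl
  rw [← hrange] at hconn
  have hemb := (pullback.fst Y.hom (PicF2.zeroScheme L s).subschemeι).isEmbedding
  rw [← Set.image_univ] at hconn
  exact connectedSpace_iff_univ.2
    ⟨Set.image_nonempty.1 hconn.1, hemb.isInducing.isPreconnected_image.1 hconn.2⟩

end Groth.Agent.S15551
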