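import Groth.Statements.S1691
import Groth.Agent.L07.RefExtend.Coh
import Groth.Agent.L16.QcqsPush

set_option autoImplicit false
set_option linter.style.haveILetI false
set_option backward.isDefEq.respectTransparency.types false
universe u
open CategoryTheory CategoryTheory.Limits AlgebraicGeometry TopologicalSpace
open SDiv

namespace Groth.Agent.S1691

/-- Let X be an integral locally Noetherian scheme and j : U ⟶ X an open subscheme such that the local
ring of X at every point outside U has depth at least 2. Then (a) for every coherent reflexive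
module F on X the canonical map F ⟶ j_* j^* F is an isomorphism, and (b) for every coherent
reflexive module G on U the direct image j_* G is coherent and reflexive (so that j^* and j_* are
mutually inverse equivalences). -/
theorem result (X : Scheme.{u}) [IsIntegral X] [IsLocallyNoetherian X] (U : X.Opens)
    (hU : ∀ x : ↥X, x ∉ U → (2 : ℕ∞) ≤ LocCoh.depth (X.presheaf.stalk x) (X.presheaf.stalk x)) :
    (∀ F : X.Modules, Coh.IsCoh F → (∀ x : ↥X, Module.IsReflexive (X.presheaf.stalk x) (F.presheaf.stalk x)) →
        IsIso ((Scheme.Modules.restrictAdjunction U.ι).unit.app F)) ∧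
      (∀ G : (U : Scheme.{u}).Modules, Coh.IsCoh G → (∀ x : ↥(U : Scheme.{u}), Module.IsReflexive ((U : Scheme.{u}).presheaf.stalk x) (G.presheaf.stalk x)) →
        Coh.IsCoh ((Scheme.Modules.pushforward U.ι).obj G) ∧
          (∀ x : ↥X, Module.IsReflexive (X.presheaf.stalk x) (((Scheme.Modules.pushforward U.ι).obj G).presheaf.stalk x))) := by
  have hO := Groth.L07.RefExtend.supportedOn_structureModule hU
  refine ⟨fun F hF hr => ?_, fun G hG hr => ?_⟩
  · haveI : IsIso (RefHull.bidualMap F) := (Groth.L15.Ref.isReflexive_iff_stalks hF).2 hr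
    have hs : Groth.L21.Extend.SupportedOn F U := Groth.L14.ParaF.supportedOn_of_iso
      (asIso (RefHull.bidualMap F)).symm (Groth.L07.RefExtend.supportedOn_ddual hO F)
    exact Groth.L14.ParaF.isIso_unit U.ι (by rw [Scheme.Opens.opensRange_ι]; exact hs)
  · haveI := hG.1
    have hMs : Groth.L21.Extend.SupportedOn ((Scheme.Modules.pushforward U.ι).obj G) U :=
      Groth.L21.Extend.supportedOn_pushforward le_rfl G
    have eMU : ((Scheme.Modules.pushforward U.ι).obj G).restrict U.ι ≅ G :=
      (Scheme.Modules.restrictFunctorAdjCounitIso U.ι).app G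
    haveI : Coh.IsQCoh ((Scheme.Modules.pushforward U.ι).obj G) := Groth.L16.QcqsPush.isQCoh_push G U.ι
    generalize (Scheme.Modules.pushforward U.ι).obj G = M at *
    have hrefU : ∀ x ∈ U, RefHull.IsReflexiveAt M x := fun x hx =>
      (Groth.L07.RefExtend.isReflexiveAt_restrict_iff U.ι M ⟨x, hx⟩).1
        ((Groth.L07.RefExtend.isReflexiveAt_congr eMU.hom ⟨x, hx⟩
          (Groth.L07.RefExtend.stalkMapₗ_bijective_of_isIso _ _)).2 (hr ⟨x, hx⟩))
    have hM : Coh.IsCoh M := Groth.L07.RefExtend.isCoh_push U M hMs
      (fun V _ => Groth.L07.RefExtend.supportedOn_structureModule fun y hy =>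
        (hU (V.ι y) hy).trans
          (Groth.L06.FlatFibre.depth_eq_of_ringEquiv (Groth.L07.RefExtend.stalkEquiv V.ι y)).ge)
      (Groth.L16.CohSupport.isCoh_of_iso eMU.symm hG) hrefU
    refine ⟨hM, ?_⟩
    haveI : IsIso (RefHull.bidualMap M) := Groth.L07.RefExtend.isIso_of_supportedOn hMs
      (Groth.L07.RefExtend.supportedOn_ddual hO M) _
      fun W hW => Groth.L07.RefExtend.bidualMap_app_bijective hM fun x hx => hrefU x (hW hx)
    exact (Groth.L15.Ref.isReflexive_iff_stalks hM).1 ‹_›

end Groth.Agent.S1691
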