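import Groth.Statements.S15651
import Groth.Agent.L26.Poincare.Adjoint

set_option autoImplicit false
universe u
open CategoryTheory MonoidalCategory CartesianMonoidalCategory MonObj GrpObj AlgebraicGeometry
open AbVar

namespace Groth.Agent.S15651

open scoped TensorProduct
set_option backward.isDefEq.respectTransparency false

/-- Let A be an abelian variety over a field k (a proper, geometrically integral commutative group
scheme over k). Then the rational endomorphism algebra End⁰(A) = ℚ ⊗_ℤ End_k(A), where End_k(A) is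
the ring of endomorphisms of A defined over k (sum pointwise in the group law, product by
composition), is a semisimple ring. -/
theorem result (k : Type u) [Field k]
    (A : Over (Spec (CommRingCat.of k)))
    [GrpObj A] [IsCommMonObj A] [IsProper A.hom] [GeometricallyIntegral A.hom] :
    IsSemisimpleRing (EndAV.End0 A) := by
  have hfrac : ∀ y : EndAV.End0 A, ∃ (n : ℤ) (a : EndAV.End A), n ≠ 0 ∧ n • y = EndAV.toEnd0 a := by
    intro y
    induction y using TensorProduct.induction_on with
    | zero => exact ⟨1, 0, one_ne_zero, by rw [smul_zero, map_zero]⟩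
    | tmul q a =>
      refine ⟨q.den, q.num • a, by exact_mod_cast q.den_nz, ?_⟩
      rw [EndAV.toEnd0_apply, TensorProduct.smul_tmul', ← TensorProduct.smul_tmul]
      congr 1
      rw [zsmul_eq_mul, zsmul_eq_mul, Int.cast_natCast, _root_.mul_one, _root_.mul_comm, Rat.mul_den_eq_num]
    | add y z hy hz =>
      obtain ⟨n, a, hn, ha⟩ := hy
      obtain ⟨m, b, hm, hb⟩ := hz
      refine ⟨n * m, m • a + n • b, mul_ne_zero hn hm, ?_⟩
      rw [map_add, map_zsmul, map_zsmul, ← ha, ← hb, smul_add, smul_smul, smul_smul, _root_.mul_comm m n]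
  haveI : Module.Finite ℤ (EndAV.End A) := Groth.Agent.AV.CharMin.free_end.2
  haveI : Module.Finite ℚ (EndAV.End0 A) := Module.Finite.base_change ℤ ℚ (EndAV.End A)
  haveI : IsArtinianRing (EndAV.End0 A) := IsArtinianRing.of_finite ℚ _
  rw [IsArtinianRing.isSemisimpleRing_iff_jacobson, eq_bot_iff]
  intro y hy
  rw [Submodule.mem_bot]
  by_contra hy0
  obtain ⟨n, a, hn, ha⟩ := hfrac y
  have ha0 : a ≠ 0 := fun h => hy0 (by
    rw [h, map_zero, ← Int.cast_smul_eq_zsmul ℚ] at ha
    rw [← inv_smul_smul₀ (Int.cast_ne_zero.2 hn : (n : ℚ) ≠ 0) y, ha, smul_zero])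
  obtain ⟨L, hamp⟩ := Groth.Agent.AV.Degree.exists_isAmple A
  obtain ⟨x, hx⟩ := Groth.Agent.Poincare.Adjoint.exists_not_nilpotent L hamp a ha0
  obtain ⟨m, hm⟩ := IsSemiprimaryRing.isNilpotent (R := EndAV.End0 A)
  have hmem : EndAV.toEnd0 (x * a) ∈ Ring.jacobson (EndAV.End0 A) := by
    rw [map_mul, ← ha]
    exact Ideal.mul_mem_left _ _ (Submodule.smul_of_tower_mem _ n hy)
  have h2 := Ideal.pow_mem_pow hmem m
  rw [hm] at h2
  refine hx ⟨m, Groth.Agent.AV.CharMin.toEnd0_injective ?_⟩
  rw [map_pow, map_zero]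
  exact h2

end Groth.Agent.S15651
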