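import Groth.Statements.S12571
import Groth.Agent.L26.Res.Residue
import Groth.Agent.L26.FF.Ext

set_option autoImplicit false
universe u v w
open FunFld

namespace Groth.Agent.S12571

open WithZero Groth.Agent.FF

/-- The different exponent `d(Q|P) = v_Q(ω) - e(Q|P) v_P(ω)` of a place `Q` of a finite separable
extension `K'` of a geometric function field of one variable `K/k` over a place `P` does not depend
on the nonzero differential `ω` of `K` used; here `ω = dx` and `ω = dx'`, read through Laurent
expansions at `P` and at `Q` (separable places). (The published statement allows any finite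
extension along which differentials of `K` pull back injectively; this row takes `K'` separable over
`K`.) -/
theorem result (k : Type u) (K K' : Type v) [Field k] [Field K] [Field K'] [Algebra k K] [Algebra K K'] [Algebra k K']
    [IsScalarTower k K K'] [FiniteDimensional K K'] [Algebra.IsSeparable K K']
    (hK : FunFld.IsFunctionField k K) (hg : FunFld.IsGeometric k K)
    (F F' : Type w) [Field F] [Algebra k F] [Field F'] [Algebra k F']
    (P : FunFld.Place k K) (Q : FunFld.Place k K') (e : ℕ) (he : FunFld.IsOverWith Q P e)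
    (φ : K →ₐ[k] LaurentSeries F) (hφ : LocRes.IsExpansionAt P.1 φ)
    (ψ : K' →ₐ[k] LaurentSeries F') (hψ : LocRes.IsExpansionAt Q.1 ψ)
    (x : K) (hx : LocRes.vDiff φ 1 x ≠ 0) (hx' : LocRes.vDiff ψ 1 (algebraMap K K' x) ≠ 0)
    (x' : K) (hx2 : LocRes.vDiff φ 1 x' ≠ 0) (hx2' : LocRes.vDiff ψ 1 (algebraMap K K' x') ≠ 0) :
    LocRes.diffExp φ ψ e x = LocRes.diffExp φ ψ e x' := by
  have hdx : KaehlerDifferential.D k K x ≠ 0 := fun h => hx (by
    rw [Groth.Agent.Res.vDiff_eq, Groth.Agent.Res.D_map_eq_zero φ h, map_zero, mul_zero])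
  obtain ⟨c, hc⟩ := Groth.Agent.Res.exists_smul_D hK hg hdx x'
  have hc0 : c ≠ 0 := fun h => hx2 (by
    rw [Groth.Agent.Res.vDiff_eq, ← Groth.Agent.Res.D_map_smul φ hc, h, map_zero, zero_mul, map_zero, mul_zero])
  have h1 : LocRes.vDiff φ 1 x' = P.1 c * LocRes.vDiff φ 1 x := by
    rw [Groth.Agent.Res.vDiff_eq, Groth.Agent.Res.vDiff_eq, map_one, map_one, one_mul, one_mul,
      ← Groth.Agent.Res.D_map_smul φ hc, map_mul, Groth.Agent.Res.val_map hφ]
  have h2 : LocRes.vDiff ψ 1 (algebraMap K K' x') = Q.1 (algebraMap K K' c) * LocRes.vDiff ψ 1 (algebraMap K K' x) := by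
    rw [Groth.Agent.Res.vDiff_eq, Groth.Agent.Res.vDiff_eq, map_one, map_one, one_mul, one_mul]
    have := Groth.Agent.Res.D_map_smul (ψ.comp (IsScalarTower.toAlgHom k K K')) hc
    simp only [AlgHom.comp_apply, IsScalarTower.coe_toAlgHom'] at this
    rw [← this, map_mul, Groth.Agent.Res.val_map hψ]
  have hc' : algebraMap K K' c ≠ 0 := (map_ne_zero _).2 hc0
  simp only [LocRes.diffExp, LocRes.ordDiff, h1, h2,
    WithZero.log_mul (val_ne_zero P hc0) hx, WithZero.log_mul (val_ne_zero Q hc') hx']
  rw [show WithZero.log (Q.1 (algebraMap K K' c)) = -(Q.ord (algebraMap K K' c)) by rw [Place.ord, neg_neg],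
    show WithZero.log (P.1 c) = -(P.ord c) by rw [Place.ord, neg_neg], he.ord c]
  ring

end Groth.Agent.S12571
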