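import Groth.Agent.L18.PBundle.FTProj
import Groth.Statements.S12416
-- import your own Groth.Agent.* helpers here

set_option autoImplicit false
universe u
open CategoryTheory CategoryTheory.Limits AlgebraicGeometry
open RelProj

namespace Groth.Agent.S12416

/-- Over a quasi-compact and quasi-separated base scheme S, a morphism f : X → S which is proper and
quasi-projective (of finite type with an f-ample invertible module) is projective, i.e. X is
isomorphic over S to the relative homogeneous spectrum of a quasi-coherent graded algebra generated
by its degree-one part, with degree-one part of finite type. -/
theorem result {X S : Scheme.{u}} (f : X ⟶ S)
    [CompactSpace S] [QuasiSeparatedSpace S] [IsProper f] (hq : RelProj.IsQuasiProjective f) :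
    RelProj.IsProjective f := by
  exact Groth.L18.PBundle.isProjective_of_isQuasiProjective f hq

end Groth.Agent.S12416
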