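import Mathlib.FieldTheory.IsSepClosed
import Groth.Prelude.Def_Curve
import Groth.Prelude.Def_Pic
import Groth.Prelude.Def_Coh
import Groth.Prelude.Def_CohB1
import Mathlib.AlgebraicGeometry.Modules.Sheaf
import Mathlib.CategoryTheory.Limits.Shapes.Pullback.CommSq
import Groth.Agent.L02.Twist.SepClosed

set_option autoImplicit false
set_option linter.style.haveILetI false
namespace PicF
end PicF
set_option linter.style.haveILetI false
set_option backward.isDefEq.respectTransparency false
universe u
open CategoryTheory CategoryTheory.Limits AlgebraicGeometry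
open PicF

namespace Groth.Agent.S6487

/-- Let k be a separably closed field, X a smooth projective curve over k, K/k a field extension and L
an invertible sheaf on X_K. Then there is an invertible sheaf L_0 on X with dim_K H^0(X_K, L ⊗
L_0|_{X_K}) = 1 and H^1(X_K, L ⊗ L_0|_{X_K}) = 0. The base change X_K is given as any pullback
square over Spec K → Spec k with its K-structure; L_0|_{X_K} is the pullback module and ⊗ is
CohB1.tensorMod; proper replaces projective (equivalent for curves over a field). -/
theorem result (k : Type u) [Field k] [IsSepClosed k] (X : Scheme.{u}) [X.Over (Spec (CommRingCat.of k))] (hX : Curve.IsSmoothProperCurve k X (X ↘ Spec (CommRingCat.of k))) (K : Type u) [Field K] [Algebra k K] (XK : Scheme.{u}) [XK.Over (Spec (CommRingCat.of K))] (g : XK ⟶ X) (hpb : IsPullback g (XK ↘ Spec (CommRingCat.of K)) (X ↘ Spec (CommRingCat.of k)) (Spec.map (CommRingCat.ofHom (algebraMap k K)))) (L : XK.Modules) (hL : PicF.IsInvertible L) : ∃ L₀ : X.Modules, PicF.IsInvertible L₀ ∧ Module.finrank K (Coh.HH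 XK (CohB1.tensorMod L ((Scheme.Modules.pullback g).obj L₀)) 0) = 1 ∧ Subsingleton (Coh.HH XK (CohB1.tensorMod L ((Scheme.Modules.pullback g).obj L₀)) 1) := by
  obtain ⟨hp, hsm, hint, hd⟩ := hX
  haveI := hp; haveI := hsm; haveI := hint
  haveI : IsProper (XK ↘ Spec (CommRingCat.of K)) := MorphismProperty.of_isPullback (P := @IsProper) hpb inferInstance
  haveI := Groth.L02.Twist.isIntegral_pullback k g hpb hd
  have hdY : topologicalKrullDim XK = 1 :=
    (Groth.L21.CurvFib.topologicalKrullDim_eq_of_isPullback k K _ _ _ g hpb).trans hd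
  obtain ⟨z, N, s, hzF, -, hN, hdeg, -, hsy⟩ :=
    Groth.L02.Twist.exists_point_module k hd {g (genericPoint XK)} (Set.finite_singleton _)
  have hsurj := hsy (g (genericPoint XK)) (fun h => hzF (h ▸ rfl))
  have hpow : ∀ n : ℕ, ∃ A : X.Modules, PicF.IsInvertible A ∧
      Curv2.deg K XK (Groth.L02.Twist.tw g L A) 1 = Curv2.deg K XK L 1 + n := by
    intro n
    induction n with
    | zero =>
      refine ⟨Coh.structureModule X, Groth.L18.Ample.isInvertible_structureModule X, ?_⟩
      rw [Groth.L21.RR.deg_congr K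
        (Groth.L00.Tensor.tensorIso (Iso.refl L) (Groth.L29.LocFree.pullbackUnitIso g) ≪≫
          Groth.L00.Tensor.tensorUnitRight L)]
      simp
    | succ n ih =>
      obtain ⟨A, hA, hAd⟩ := ih
      refine ⟨CohB1.tensorMod A N, Groth.L18.GenLoc.isInvertible_tensor hA hN, ?_⟩
      rw [Groth.L02.Twist.deg_tw_tensor k g hpb hdY.le hL hA hN s _ hsurj, hAd, hdeg]
      push_cast
      ring
  obtain ⟨A, hA, hAd⟩ := hpow
    (2 * Groth.L21.RR.h K 1 (Coh.structureModule XK) + 1 - Curv2.deg K XK L 1).toNat
  have h0X : Groth.L21.RR.h K 0 (Coh.structureModule XK) = 1 :=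
    (Groth.L21.RR.h_structure_bc g hpb 0).trans (Groth.L02.Twist.h0_structure k)
  have hM := Groth.L02.Twist.isInvertible_tw g hL hA
  have hle : (2 * Groth.L21.RR.h K 1 (Coh.structureModule XK) : ℤ) + 1 ≤
      Curv2.deg K XK (Groth.L02.Twist.tw g L A) 1 := by
    rw [hAd]; omega
  have h1 := Groth.L21.RR.subsingleton_h1_of_deg_gt K hdY.le h0X hM (by omega)
  obtain ⟨m, hm⟩ : ∃ m, Groth.L21.RR.h K 0 (Groth.L02.Twist.tw g L A) = 1 + m := by
    refine ⟨Groth.L21.RR.h K 0 (Groth.L02.Twist.tw g L A) - 1, ?_⟩
    have he := hle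
    simp only [Curv2.deg] at he
    push_cast at he
    rw [Groth.L21.RR.euler_eq K hdY.le, Groth.L21.RR.euler_eq K hdY.le, h0X,
      Groth.L21.RR.h_eq_zero_of_subsingleton K h1] at he
    omega
  clear hAd hle hM
  induction m generalizing A with
  | zero => exact ⟨A, hA, hm, h1⟩
  | succ m ih =>
    obtain ⟨A', hA', h0', h1'⟩ := Groth.L02.Twist.exists_drop k g hpb hd hdY hL hA
      (m := 1 + m) hm h1
    exact ih A' hA' h1' h0'

end Groth.Agent.S6487
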