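import Groth.Statements.S2064
import Groth.Agent.L04.Depth2
import Mathlib.Algebra.Homology.ShortComplex.ModuleCat

set_option autoImplicit false
set_option linter.style.haveILetI false
universe u
open CategoryTheory
open CAlg

namespace Groth.Agent.S2064

/-- Let `R` be a Noetherian local ring and `0 → M_e → M_{e-1} → … → M_0` a complex of finite `R`-modules
with `depth(M_j) ≥ j`. If `i > 0` is the largest index at which the complex is not exact, then the
homology at `M_i` has depth at least one. -/
theorem result {R : Type u} [CommRing R] [IsLocalRing R] [IsNoetherianRing R]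
    (C : ChainComplex (ModuleCat.{u} R) ℕ) (e : ℕ) (hzero : ∀ j, e < j → Limits.IsZero (C.X j))
    (hfin : ∀ j, Module.Finite R (C.X j)) (hdepth : ∀ j, j ≤ e → (j : ℕ∞) ≤ LocCoh.depth R (C.X j))
    (i : ℕ) (hi : 0 < i) (hnot : ¬ C.ExactAt i) (habove : ∀ j, i < j → C.ExactAt j) :
    1 ≤ LocCoh.depth R (C.homology i) := by
  classical
  haveI := hfin
  let I := IsLocalRing.maximalIdeal R
  let B : ∀ j : ℕ, Submodule R (C.X j) := fun j => LinearMap.range (C.d (j + 1) j).hom
  have hz : ∀ j, e < j → Subsingleton (C.X j) := fun j hj => ModuleCat.isZero_iff_subsingleton.1 (hzero j hj)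
  have htop : ∀ (N : Type u) [AddCommGroup N] [Module R N], Subsingleton N → LocCoh.idealDepth I N = ⊤ :=
    fun N _ _ hN => if_pos (Subsingleton.elim _ _)
  have hie : i ≤ e := by
    by_contra hc
    exact hnot (HomologicalComplex.ExactAt.of_isZero (hzero i (not_le.1 hc)))
  have hB : ∀ m j, e ≤ j + m → i ≤ j → ((j + 1 : ℕ) : ℕ∞) ≤ LocCoh.idealDepth I (B j) := by
    intro m
    induction m with
    | zero =>
      intro j hj _
      haveI := hz (j + 1) (by omega)
      rw [htop _ ⟨fun a b => Subtype.ext (by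
        obtain ⟨a, ha⟩ := a.2
        obtain ⟨b, hb⟩ := b.2
        rw [← ha, ← hb, Subsingleton.elim a b])⟩]
      exact le_top
    | succ m ih =>
      intro j hj hij
      by_cases hje : j + 1 ≤ e
      · have hex : (C.sc' (j + 2) (j + 1) j).Exact :=
          (HomologicalComplex.exactAt_iff' C (j + 2) (j + 1) j (by simp) (by simp)).1 (habove _ (by omega))
        refine Groth.L04.le_idealDepth_right (B (j + 1)).injective_subtype
          (C.d (j + 1) j).hom.surjective_rangeRestrict (LinearMap.exact_iff.2 ?_)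
          (ih (j + 1) (by omega) (by omega)) (hdepth _ hje)
        rw [LinearMap.ker_rangeRestrict, Submodule.range_subtype]
        exact hex.moduleCat_range_eq_ker.symm
      · haveI := hz (j + 1) (by omega)
        rw [htop _ ⟨fun a b => Subtype.ext (by
          obtain ⟨a, ha⟩ := a.2
          obtain ⟨b, hb⟩ := b.2
          rw [← ha, ← hb, Subsingleton.elim a b])⟩]
        exact le_top
  obtain ⟨k, rfl⟩ : ∃ k, i = k + 1 := ⟨i - 1, by omega⟩
  let S := C.sc' (k + 2) (k + 1) k
  have hBi := hB e (k + 1) (by omega) le_rfl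
  have hZ : (1 : ℕ∞) ≤ LocCoh.idealDepth I (LinearMap.ker S.g.hom) :=
    (Groth.L04.idealDepth_ker I (C.d (k + 1) k).hom).1
      (le_trans (by exact_mod_cast (by omega : 1 ≤ k + 1)) (hdepth _ hie))
  haveI : Module.Finite R (LinearMap.ker S.g.hom) :=
    inferInstanceAs (Module.Finite R (LinearMap.ker (C.d (k + 1) k).hom))
  have hle : B (k + 1) ≤ LinearMap.ker S.g.hom := by
    rintro _ ⟨a, rfl⟩
    exact congrArg (fun φ => φ.hom a) (C.d_comp_d (k + 2) (k + 1) k)
  let incl : B (k + 1) →ₗ[R] LinearMap.ker S.g.hom := Submodule.inclusion hle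
  have hQ : ((1 : ℕ) : ℕ∞) ≤ LocCoh.idealDepth I
      (LinearMap.ker S.g.hom ⧸ LinearMap.range incl) :=
    Groth.L04.le_idealDepth_right (n := 1) (Submodule.inclusion_injective hle)
      (Submodule.mkQ_surjective _) (LinearMap.exact_map_mkQ_range incl)
      (le_trans (by exact_mod_cast (by omega : 1 + 1 ≤ k + 1 + 1)) hBi) (by rw [Nat.cast_one]; exact hZ)
  have hr : LinearMap.range S.moduleCatToCycles = LinearMap.range incl := by
    ext z
    constructor
    · rintro ⟨a, rfl⟩
      exact ⟨⟨(C.d (k + 2) (k + 1)).hom a, a, rfl⟩, rfl⟩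
    · rintro ⟨⟨_, a, rfl⟩, rfl⟩
      exact ⟨a, rfl⟩
  let e' := ((C.homologyIsoSc' (k + 2) (k + 1) k (by simp) (by simp)) ≪≫ S.moduleCatHomologyIso).toLinearEquiv
  show (1 : ℕ∞) ≤ LocCoh.idealDepth I _
  rw [Groth.L04.idealDepth_congr (e'.trans (Submodule.quotEquivOfEq _ _ hr))]
  rw [Nat.cast_one] at hQ
  exact hQ

end Groth.Agent.S2064
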