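import Groth.Statements.S19476
import Groth.Agent.L20.DescLocus.Rep
import Groth.Agent.L20.DescLocus.AppIso
import Groth.Agent.L23.SchemeFacts
import Groth.Agent.S7188

set_option autoImplicit false
universe u
open CategoryTheory CategoryTheory.Limits AlgebraicGeometry
open PicF

set_option backward.isDefEq.respectTransparency.types false
namespace Groth.Agent.S19476

/-- Let S be a locally Noetherian scheme, f : X → S flat and proper with integral geometric fibres, and
L a line bundle on X (a locally free module of rank 1). Then there is a closed subscheme Z ⊆ S with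
the following universal property among locally Noetherian S-schemes: a morphism u : T → S with T
locally Noetherian factors through Z if and only if the pullback of L to X ×_S T is isomorphic to
the pullback along the projection X ×_S T → T of some line bundle on T, i.e. is trivial relative to
T. (Only the existence of such a closed subscheme is asserted.) -/
theorem result {X S : Scheme.{u}} (f : X ⟶ S)
    [IsProper f] [Flat f] [GeometricallyIntegral f] [IsLocallyNoetherian S]
    (L : X.Modules) (hL : FlatMod.IsFinLocFreeOfRank 1 L) :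
    ∃ (Z : Scheme.{u}) (ι : Z ⟶ S), IsClosedImmersion ι ∧
      ∀ (T : Scheme.{u}) (u : T ⟶ S), IsLocallyNoetherian T →
        ((∃ u' : T ⟶ Z, u' ≫ ι = u) ↔
          ∃ M : T.Modules, FlatMod.IsFinLocFreeOfRank 1 M ∧
            Nonempty ((Scheme.Modules.pullback (pullback.fst f u)).obj L ≅
              (Scheme.Modules.pullback (pullback.snd f u)).obj M)) := by
  open CategoryTheory CategoryTheory.Limits Groth.L20.DescLocus in
  haveI : LocallyOfFinitePresentation f := Groth.L23.lfp_of_lft_locallyNoetherian f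
  haveI := Groth.L17.PushQCoh.hasInjectiveResolutions X
  have hE : FlatMod.IsFinLocFree L := fun x => by
    obtain ⟨U, hx, e⟩ := hL x
    exact ⟨U, 1, hx, e⟩
  let free1 : ∀ W : Scheme.{u}, Coh.structureModule W ≅ FlatMod.freeMod W 1 := fun W =>
    { hom := Limits.Sigma.ι (fun _ : Fin 1 => Coh.structureModule W) 0
      inv := Limits.Sigma.desc fun _ => 𝟙 _
      hom_inv_id := Limits.Sigma.ι_desc _ _
      inv_hom_id := Limits.Sigma.hom_ext _ _ fun b => by
        rw [Subsingleton.elim b 0, Limits.Sigma.ι_desc_assoc, Category.id_comp, Category.comp_id] }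
  have hinv : PicF.IsInvertible L := fun x => by
    obtain ⟨U, hx, ⟨e⟩⟩ := hL x
    exact ⟨U, hx, ⟨e ≪≫ (free1 _).symm⟩⟩
  haveI : Coh.IsQCoh L := Groth.L29.DC.PCQCoh.isQCoh_of_isFinLocFree hE
  have hfp : CohB1.IsFP L := Groth.L18.LFP.isFP_of_isFinLocFree L hE
  have hfl : FlatMod.IsFlatOver f L := fun x => by
    letI := (f.stalkMap x).hom.toAlgebra
    letI := FlatMod.moduleStalkOver f L x
    haveI : IsScalarTower (S.presheaf.stalk (f x)) (X.presheaf.stalk x) (L.presheaf.stalk x) :=
      IsScalarTower.of_algebraMap_smul fun _ _ => rfl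
    haveI : Module.Flat (S.presheaf.stalk (f x)) (X.presheaf.stalk x) := Flat.stalkMap f x
    haveI : Module.Flat (X.presheaf.stalk x) (L.presheaf.stalk x) := Groth.L29.DC.isFlat_of_isFinLocFree hE x
    exact Module.Flat.trans (S.presheaf.stalk (f x)) (X.presheaf.stalk x) (L.presheaf.stalk x)
  have hO := isIso_app_baseChange f
  obtain ⟨Z, j, h₁, h₂, h⟩ := exists_subscheme f L hO hfp hfl hE
  have hdesc := fun T g => (h T g).trans (desc_iff f L hO hfp hfl hE g)
  have hgeo : ∀ (K : Type u) [Field K] (x : Spec (CommRingCat.of K) ⟶ S), IsIntegral (pullback f x) := fun K _ x =>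
    pullback_of_geometrically GeometricallyIntegral.geometrically_isIntegral K x
  refine ⟨Z, j, Groth.Agent.S7188.result f hO L hinv j hdesc hgeo, fun T v _ => (hdesc T v).trans ?_⟩
  constructor
  · rintro ⟨N, hN, ⟨e⟩⟩
    refine ⟨N, fun t => ?_, ⟨e.symm⟩⟩
    obtain ⟨U, n, ht, ⟨a⟩⟩ := hN t
    obtain ⟨x, hx⟩ := surjective_f f hO (v t)
    obtain ⟨y, -, hy⟩ := Scheme.Pullback.exists_preimage_pullback (f := f) (g := v) x t hx
    let P' : (Limits.pullback f v).Opens := pullback.snd f v ⁻¹ᵁ U
    obtain ⟨b⟩ := nonempty_free_pullback a ((pullback.snd f v) ∣_ U) (morphismRestrict_ι (pullback.snd f v) U)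
    let i : (Scheme.Modules.pullback (P'.ι ≫ pullback.fst f v)).obj L ≅ FlatMod.freeMod _ n :=
      ((Scheme.Modules.pullbackComp P'.ι (pullback.fst f v)).app L).symm ≪≫
        (Scheme.Modules.pullback P'.ι).mapIso e.symm ≪≫
        (Scheme.Modules.pullbackComp P'.ι (pullback.snd f v)).app N ≪≫ b
    have hn : 1 = n := by
      refine rk_unique L (P'.ι ≫ pullback.fst f v) ⟨y, show pullback.snd f v y ∈ U from hy ▸ ht⟩ i ?_
      obtain ⟨W, hW, ⟨w⟩⟩ := hL (pullback.fst f v y)
      exact TopologicalSpace.Opens.mem_sSup.2 ⟨W,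
        ⟨((Scheme.Modules.restrictFunctorIsoPullback _).app L).symm ≪≫ w⟩, hW⟩
    subst hn
    exact ⟨U, ht, ⟨a⟩⟩
  · rintro ⟨M, hM, ⟨e⟩⟩
    exact ⟨M, fun t => by obtain ⟨U, ht, a⟩ := hM t; exact ⟨U, 1, ht, a⟩, ⟨e.symm⟩⟩


end Groth.Agent.S19476
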