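import Groth.Statements.S16851
import Groth.Agent.L26.Tate.Core

set_option autoImplicit false
universe u
open CategoryTheory MonoidalCategory CartesianMonoidalCategory MonObj GrpObj AlgebraicGeometry
open scoped TensorProduct
open AbVar

namespace Groth.Agent.S16851

open Groth.Agent.Tate
open scoped TensorProduct

/-- Let k be a field with algebraic closure Ω, ℓ a prime invertible in k, and X an abelian variety over
k (a proper, geometrically integral commutative group scheme over k) satisfying the finiteness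
condition Fin(X/k, ℓ): up to isomorphism of k-schemes only finitely many abelian varieties Y over k
admit an isogeny X → Y of ℓ-power degree (rendered by homomorphisms u : X → Y, v : Y → X with v ∘ u
= [ℓ^m], u ∘ v = [ℓ^m]). Let T = T_ℓ X be the Tate module of Ω-points, assumed (as is the case) free
of finite rank over ℤ_ℓ, V = ℚ_ℓ ⊗ T, and ρ(τ) the componentwise Galois action of τ ∈ Aut_k(Ω) on T.
Then for every ℚ_ℓ-subspace W ⊆ V stable under all ρ(τ) there is an element u of ℚ_ℓ ⊗ End_k(X) with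
W = u · V: W is the range of some ℚ_ℓ-linear combination of the endomorphisms V_ℓ(f) = ℚ_ℓ ⊗ T_ℓ(f),
f an endomorphism of X over k. -/
theorem result (k Ω : Type u) [Field k] [Field Ω] [Algebra k Ω] [IsAlgClosure k Ω]
    (l : ℕ) [Fact l.Prime] (hl : (l : k) ≠ 0)
    (X : Over (Spec (CommRingCat.of k)))
    [GrpObj X] [IsCommMonObj X] [IsProper X.hom] [GeometricallyIntegral X.hom]
    (hFin : (∃ (J : Type u) (_ : Finite J) (F : J → Over (Spec (CommRingCat.of k))),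
        ∀ (Y : Over (Spec (CommRingCat.of k))) [GrpObj Y] [IsCommMonObj Y] [IsProper Y.hom] [GeometricallyIntegral Y.hom]
          (u : X ⟶ Y) [IsMonHom u] (v : Y ⟶ X) [IsMonHom v] (m : ℕ),
          u ≫ v = (𝟙 X) ^ (l ^ m) → v ≫ u = (𝟙 Y) ^ (l ^ m) → ∃ i, Nonempty (Y ≅ F i)))
    (ρ : (Ω ≃ₐ[k] Ω) → Module.End ℤ_[l] (AbDual.TateMod X l (SGA7.pt Ω)))
    (hρ : ∀ (τ : Ω ≃ₐ[k] Ω) (z : AbDual.TateMod X l (SGA7.pt Ω)) (m : ℕ),
      (AbDual.TateMod.component X l (SGA7.pt Ω) m (ρ τ z)).toMul =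
        SGA7.galAct τ (AbDual.TateMod.component X l (SGA7.pt Ω) m z).toMul)
    [Module.Free ℤ_[l] (AbDual.TateMod X l (SGA7.pt Ω))] [Module.Finite ℤ_[l] (AbDual.TateMod X l (SGA7.pt Ω))]
    (W : Submodule ℚ_[l] (ℚ_[l] ⊗[ℤ_[l]] AbDual.TateMod X l (SGA7.pt Ω)))
    (hW : ∀ τ : Ω ≃ₐ[k] Ω, W.map ((ρ τ).baseChange ℚ_[l]) ≤ W) :
    ∃ u ∈ Submodule.span ℚ_[l] {ψ : Module.End ℚ_[l] (ℚ_[l] ⊗[ℤ_[l]] AbDual.TateMod X l (SGA7.pt Ω)) |
          ∃ (f : X ⟶ X) (_ : IsMonHom f), ψ = (AbDual.tateMapₗ (l := l) (T := SGA7.pt Ω) f).baseChange ℚ_[l]},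
      LinearMap.range u = W := by
  let T := AbDual.TateMod X l (SGA7.pt Ω)
  let ι₁ : T →ₗ[ℤ_[l]] ℚ_[l] ⊗[ℤ_[l]] T := TensorProduct.mk ℤ_[l] ℚ_[l] T 1
  let WT : Submodule ℤ_[l] T := (W.restrictScalars ℤ_[l]).comap ι₁
  have hWT : ∀ τ, ∀ w ∈ WT, ρ τ w ∈ WT := fun τ w hw => by
    have h := hW τ ⟨(1 : ℚ_[l]) ⊗ₜ w, hw, rfl⟩
    rwa [LinearMap.baseChange_tmul] at h
  obtain ⟨m, g, c, n₀, hc1, hc2⟩ := Core.exists_limit ρ hρ WT hWT hFin
  let u := ∑ i, (algebraMap ℤ_[l] ℚ_[l] (c i)) • (EndAV.End.tateRep l (SGA7.pt Ω) (g i)).baseChange ℚ_[l]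
  have hu : u = (∑ i, c i • EndAV.End.tateRep l (SGA7.pt Ω) (g i)).baseChange ℚ_[l] := by
    refine TensorProduct.AlgebraTensorModule.ext fun a t => ?_
    simp [u, TensorProduct.tmul_sum, TensorProduct.smul_tmul', Algebra.smul_def, mul_comm]
  refine ⟨u, Submodule.sum_mem _ fun i _ => Submodule.smul_mem _ _ (Submodule.subset_span ⟨(g i).toHom, inferInstance, rfl⟩), ?_⟩
  have hfrac : ∀ v : ℚ_[l] ⊗[ℤ_[l]] T, ∃ (d : ℤ_[l]) (t : T), d ≠ 0 ∧ algebraMap ℤ_[l] ℚ_[l] d • v = (1 : ℚ_[l]) ⊗ₜ t := by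
    intro v
    induction v using TensorProduct.induction_on with
    | zero => exact ⟨1, 0, one_ne_zero, by simp⟩
    | tmul a t =>
      obtain ⟨⟨z, d, hd⟩, hz⟩ := IsLocalization.surj (nonZeroDivisors ℤ_[l]) a
      refine ⟨d, z • t, nonZeroDivisors.ne_zero hd, ?_⟩
      rw [TensorProduct.smul_tmul', TensorProduct.tmul_smul, TensorProduct.smul_tmul', smul_eq_mul, mul_comm, hz,
        Algebra.smul_def, _root_.mul_one]
    | add x y hx hy =>
      obtain ⟨d, t, hd, ht⟩ := hx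
      obtain ⟨d', t', hd', ht'⟩ := hy
      refine ⟨d * d', d' • t + d • t', mul_ne_zero hd hd', ?_⟩
      rw [TensorProduct.tmul_add, TensorProduct.tmul_smul, TensorProduct.tmul_smul, ← ht, ← ht', map_mul, smul_add,
        ← algebraMap_smul ℚ_[l] d', ← algebraMap_smul ℚ_[l] d, smul_smul, smul_smul,
        mul_comm (algebraMap ℤ_[l] ℚ_[l] d') _]
  have hne : ∀ d : ℤ_[l], d ≠ 0 → algebraMap ℤ_[l] ℚ_[l] d ≠ 0 := fun d hd =>
    (map_ne_zero_iff _ (IsFractionRing.injective ℤ_[l] ℚ_[l])).2 hd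
  apply le_antisymm
  · rintro _ ⟨v, rfl⟩
    obtain ⟨d, t, hd, ht⟩ := hfrac v
    rw [← Submodule.smul_mem_iff W (hne d hd), ← map_smul, ht, hu, LinearMap.baseChange_tmul]
    exact hc1 t
  · intro v hv
    obtain ⟨d, t, hd, ht⟩ := hfrac v
    have htW : t ∈ WT := by
      show (1 : ℚ_[l]) ⊗ₜ t ∈ W
      rw [← ht]
      exact W.smul_mem _ hv
    obtain ⟨x, hx⟩ := hc2 t htW
    have hl0 : (l : ℤ_[l]) ^ n₀ ≠ 0 := pow_ne_zero _ (Nat.cast_ne_zero.2 (Fact.out : l.Prime).ne_zero)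
    rw [← Submodule.smul_mem_iff _ (mul_ne_zero (hne _ hl0) (hne d hd)), mul_smul, ht]
    refine ⟨(1 : ℚ_[l]) ⊗ₜ x, ?_⟩
    rw [hu, LinearMap.baseChange_tmul, hx, TensorProduct.tmul_smul, algebraMap_smul]

end Groth.Agent.S16851
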