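import Groth.Statements.S0040
import Groth.Agent.L16.Exist.AlgClosedSupp

set_option autoImplicit false
universe u
open Coherent

namespace Groth.Agent.S0040

open AlgebraicGeometry CategoryTheory CategoryTheory.Limits in
/-- Let A be a Noetherian ring complete with respect to an ideal I, X a scheme separated and of finite
type over Spec A, and X_n = X ×_{Spec A} Spec(A/I^(n+1)) for n ≥ 0. Suppose given closed immersions
Z_n → X_n together with morphisms Z_n → Z_(n+1) forming cartesian squares with the transition maps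
X_n → X_(n+1), and suppose Z_0 is proper over Spec(A/I). Then there is a closed subscheme W → X,
proper over Spec A, with compatible morphisms Z_n → W making each Z_n the pullback W ×_X X_n. (The
published statement assumes only that Z_0 → X_0 is a closed immersion; here it is assumed for every
n.) -/
theorem result (A : Type u) [CommRing A] [IsNoetherianRing A]
    (I : Ideal A) [IsAdicComplete I A] {X : Scheme.{u}} (f : X ⟶ Spec (CommRingCat.of A))
    [IsSeparated f] [LocallyOfFiniteType f] [QuasiCompact f]
    (Z : ℕ → Scheme.{u}) (z : (n : ℕ) → (Z n ⟶ CohB1.thick f I n)) (t : (n : ℕ) → (Z n ⟶ Z (n + 1)))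
    (hz : ∀ n, IsClosedImmersion (z n))
    (ht : ∀ n, IsPullback (t n) (z n) (z (n + 1)) (CohB1.thickTrans f I n))
    (hp : IsProper (z 0 ≫ CohB1.thickToBase f I 0)) :
    ∃ (W : Scheme.{u}) (i : W ⟶ X) (w : (n : ℕ) → (Z n ⟶ W)), IsClosedImmersion i ∧
      IsProper (i ≫ f) ∧ (∀ n, w n = t n ≫ w (n + 1)) ∧ ∀ n, IsPullback (w n) (z n) i (CohB1.thickι f I n) :=  by
  letI : X.Over (Spec (CommRingCat.of A)) := ⟨f⟩
  haveI : IsSeparated (X ↘ Spec (CommRingCat.of A)) := ‹IsSeparated f›
  haveI : LocallyOfFiniteType (X ↘ Spec (CommRingCat.of A)) := ‹LocallyOfFiniteType f›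
  haveI : QuasiCompact (X ↘ Spec (CommRingCat.of A)) := ‹QuasiCompact f›
  letI : ∀ k, (Z k).Over (Spec (CommRingCat.of A)) := fun k =>
    ⟨(z k ≫ CohB1.thickToBase f I k) ≫ CohB1.specQuot I k⟩
  have htt : ∀ k, IsPullback (CohB1.thickTrans f I k) (CohB1.thickToBase f I k)
      (CohB1.thickToBase f I (k + 1)) (CohB1.specQuotTrans I k) := fun k => by
    refine IsPullback.of_right ?_ ?_ (IsPullback.of_hasPullback f (CohB1.specQuot I (k + 1)))
    · have e1 : CohB1.thickTrans f I k ≫ pullback.fst f (CohB1.specQuot I (k + 1)) = pullback.fst f (CohB1.specQuot I k) := by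
        exact (pullback.lift_fst _ _ _).trans (Category.comp_id _)
      rw [e1, CohB1.specQuotTrans_specQuot]
      exact IsPullback.of_hasPullback f (CohB1.specQuot I k)
    · exact pullback.lift_snd _ _ _
  have S := Groth.L16.Exist.Adic.isSys_of_cart I (Xs := Z) (p := fun k => z k ≫ CohB1.thickToBase f I k) (i := t)
    (fun k => rfl) fun k => (ht k).paste_vert (htt k)
  haveI : IsProper (Z 0 ↘ Spec (CommRingCat.of A)) := by
    haveI := Groth.L16.Exist.Adic.isClosedImmersion_specQuot I 0
    haveI := hp
    exact inferInstanceAs (IsProper ((z 0 ≫ CohB1.thickToBase f I 0) ≫ CohB1.specQuot I 0))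
  let r : (k : ℕ) → (Z k ⟶ X) := fun k => z k ≫ CohB1.thickι f I k
  have hr : ∀ k, r k = t k ≫ r (k + 1) := fun k => by
    show z k ≫ CohB1.thickι f I k = t k ≫ z (k + 1) ≫ CohB1.thickι f I (k + 1)
    rw [← Category.assoc, (ht k).w, Category.assoc]
    exact congrArg (z k ≫ ·) ((pullback.lift_fst _ _ _).trans (Category.comp_id _)).symm
  obtain ⟨W, i, w, hi, hip, hwi, -, hw, hcart⟩ :=
    Groth.L16.Exist.Adic.exists_closed_algebraization_supp S r (fun k => by
      haveI := hz k
      haveI := Groth.L16.Exist.Adic.isClosedImmersion_specQuot I k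
      haveI : IsClosedImmersion (CohB1.thickι f I k) := MorphismProperty.pullback_fst (P := @IsClosedImmersion) _ _ inferInstance
      exact inferInstanceAs (IsClosedImmersion (z k ≫ CohB1.thickι f I k))) hr fun k => by
      show (z k ≫ CohB1.thickι f I k) ≫ f = (z k ≫ CohB1.thickToBase f I k) ≫ CohB1.specQuot I k
      rw [Category.assoc, Category.assoc]
      exact congrArg (z k ≫ ·) pullback.condition
  exact ⟨W, i, w, hi, hip, hw, fun n => IsPullback.of_bot (hcart n) (hwi n)
    (IsPullback.of_hasPullback f (CohB1.specQuot I n))⟩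
end Groth.Agent.S0040
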