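import Groth.Statements.S13532
import Groth.Agent.L06.FibreFiniteDim
import Groth.Agent.L20.FlatGeneric

set_option autoImplicit false
universe u
open CategoryTheory CategoryTheory.Limits AlgebraicGeometry
open ResProp

namespace Groth.Agent.S13532

/-- A morphism of finite type between locally Noetherian schemes which is birational (an isomorphism
over a dense open of the target whose preimage is dense in the source) has finite fibres over all
points of the target of codimension at most 1, i.e. whose local ring has Krull dimension at most 1. -/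
theorem result {X Y : Scheme.{u}}
    [IsLocallyNoetherian X] [IsLocallyNoetherian Y] (f : Y ⟶ X) [LocallyOfFiniteType f] [QuasiCompact f]
    (U : X.Opens) (hU : Dense (U : Set X)) (hU' : Dense ((f ⁻¹ᵁ U : Y.Opens) : Set Y)) (hiso : IsIso (f ∣_ U))
    (x : X) (hx : ringKrullDim (X.presheaf.stalk x) ≤ 1) :
    (f.base ⁻¹' {x}).Finite := by
  classical
  -- injectivity over U
  haveI := hiso
  by_cases hxU : x ∈ U
  · refine Set.Subsingleton.finite ?_
    intro a ha b hb
    have e : (f ∣_ U) ⟨a, (show f a ∈ U from (show f a = x from ha).symm ▸ hxU)⟩ =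
        (f ∣_ U) ⟨b, (show f b ∈ U from (show f b = x from hb).symm ▸ hxU)⟩ := by
      apply Subtype.ext
      show ((f ∣_ U) _).1 = ((f ∣_ U) _).1
      rw [morphismRestrict_base_coe, morphismRestrict_base_coe]
      exact (show f a = x from ha).trans (show f b = x from hb).symm
    exact congrArg Subtype.val ((f ∣_ U).homeomorph.injective e)
  refine Groth.L06.FibreFiniteDim.finite_fibre f x fun a a' ha ha' hsp => ?_
  by_contra hne
  subst ha
  letI := (f.residueFieldMap a).hom.toAlgebra
  haveI : Algebra.EssFiniteType (X.residueField (f a)) (Y.residueField a) :=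
    RingHom.EssFiniteType.residueFieldMap (LocallyOfFiniteType.stalkMap f a)
  obtain ⟨n, hn⟩ := Cardinal.lt_aleph0.1 (trdeg_lt_aleph0 (X.residueField (f a)) (Y.residueField a))
  have key := Groth.Agent.S9687.result f a n 0 hn fun ξ hξc _ => by
    have hξU : ξ ∈ f ⁻¹ᵁ U := Groth.L20.mem_of_dense_of_mem_genericPoints (f ⁻¹ᵁ U) hU' hξc
    have hiso1 : IsIso ((f ∣_ U).stalkMap ⟨ξ, hξU⟩) := inferInstance
    haveI : IsIso (f.stalkMap ξ) :=
      ((MorphismProperty.isomorphisms CommRingCat).arrow_mk_iso_iff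
        (morphismRestrictStalkMap f U ⟨ξ, hξU⟩)).1 hiso1
    letI := (f.residueFieldMap ξ).hom.toAlgebra
    have hsur : Function.Surjective (algebraMap (X.residueField (f.base ξ)) (Y.residueField ξ)) := fun z => by
      obtain ⟨t, rfl⟩ := IsLocalRing.residue_surjective z
      obtain ⟨s, rfl⟩ := (ConcreteCategory.bijective_of_isIso (f.stalkMap ξ)).2 t
      refine ⟨X.residue (f ξ) s, ?_⟩
      exact congr($(Scheme.residue_residueFieldMap f ξ) s)
    haveI : Algebra.IsAlgebraic (X.residueField (f.base ξ)) (Y.residueField ξ) :=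
      ⟨fun z => by obtain ⟨c, rfl⟩ := hsur z; exact isAlgebraic_algebraMap c⟩
    exact (trdeg_eq_zero).le.trans (by simp)
  obtain ⟨ξ, hξ, hξa⟩ := Groth.L20.exists_genericPoint_specializes (X := Y) a'
  have hξne : a' ≠ ξ := fun e => hxU (by
    rw [← ha']
    show a' ∈ f ⁻¹ᵁ U
    exact e ▸ Groth.L20.mem_of_dense_of_mem_genericPoints (f ⁻¹ᵁ U) hU' hξ)
  have h2 : (2 : ℕ∞) ≤ Order.coheight a := by
    have hlt1 : a < a' := ⟨hsp, fun h => hne ((Specializes.antisymm h hsp).eq.symm)⟩
    have hlt2 : a' < ξ := ⟨hξa, fun h => hξne ((Specializes.antisymm h hξa).eq)⟩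
    let p₁ : LTSeries ↑Y := (RelSeries.singleton _ ξ).cons a' hlt2
    have hh : p₁.head = a' := RelSeries.head_cons _ _ _
    let p₂ : LTSeries ↑Y := p₁.cons a (show a < p₁.head from hh.symm ▸ hlt1)
    have hs1 := Order.length_le_coheight (p := p₂) (x := a) (by rw [RelSeries.head_cons])
    exact hs1
  have h3 : (2 : WithBot ℕ∞) ≤ ringKrullDim (Y.presheaf.stalk a) := by
    rw [ringKrullDim_stalk_eq_coheight]
    exact WithBot.coe_le_coe.mpr h2
  have h4 : (2 : WithBot ℕ∞) ≤ 1 := by
    calc (2 : WithBot ℕ∞) ≤ ringKrullDim (Y.presheaf.stalk a) := h3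
      _ ≤ ringKrullDim (Y.presheaf.stalk a) + (n : WithBot ℕ∞) :=
        le_add_of_nonneg_right (by exact_mod_cast Nat.zero_le n)
      _ ≤ ringKrullDim (X.presheaf.stalk (f a)) + ((0 : ℕ) : WithBot ℕ∞) := key
      _ ≤ 1 := by simpa using hx
  exact absurd h4 (by decide)

end Groth.Agent.S13532
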