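import Groth.Statements.S12073
import Groth.Agent.S0591
import Groth.Agent.S9192
import Groth.Agent.S9187
import Groth.Agent.L19.Limit.Hom
import Groth.Agent.L27.SGA1.FEtFaithful

set_option autoImplicit false
set_option linter.style.haveILetI false
set_option backward.isDefEq.respectTransparency.types false
universe u
open CategoryTheory CategoryTheory.Limits AlgebraicGeometry
open Pi1

namespace Groth.Agent.S12073

/-- Let X = lim X_i be the limit of a cofiltered system of quasi-compact quasi-separated schemes with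
affine transition morphisms, given by a limit cone. Then: (1) every finite étale cover of X is
isomorphic, over X, to the base change of a finite étale cover of some X_i; (2) if two morphisms
between finite étale covers of some X_i have the same base change to X, then they have the same base
change to some X_j with j → i. (Fullness — every morphism over X between base changes comes from
some stage — is part of the published statement and is not stated here; nor is the consequence on
fundamental groups.) -/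
theorem result {I : Type u} [SmallCategory I] [IsCofiltered I]
    (D : I ⥤ Scheme.{u}) (c : Limits.Cone D) (hc : Limits.IsLimit c)
    [∀ (i j : I) (f : i ⟶ j), IsAffineHom (D.map f)] [∀ i, CompactSpace (D.obj i)]
    [∀ i, QuasiSeparatedSpace (D.obj i)] :
    (∀ V : FEt.Cat c.pt, ∃ (i : I) (Vi : FEt.Cat (D.obj i)), Nonempty ((FEt.restrict (c.π.app i)).obj Vi ≅ V)) ∧
    (∀ (i : I) (Vi Wi : FEt.Cat (D.obj i)) (φ ψ : Vi ⟶ Wi),
      (FEt.restrict (c.π.app i)).map φ = (FEt.restrict (c.π.app i)).map ψ →
      ∃ (j : I) (a : j ⟶ i), (FEt.restrict (D.map a)).map φ = (FEt.restrict (D.map a)).map ψ) := by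
  haveI : ∀ {i j : I} (f : i ⟶ j), IsAffineHom (D.map f) := fun {i j} f => inferInstance
  refine ⟨fun V => ?_, fun i Vi Wi φ ψ h => ?_⟩
  · let f : V.left ⟶ c.pt := V.hom
    have hf : IsFinite f ∧ Etale f := V.prop
    haveI := hf.1
    haveI := hf.2
    haveI : CompactSpace c.pt := Scheme.compactSpace_of_isLimit D c hc
    haveI : QuasiSeparatedSpace c.pt := by
      haveI : Nonempty I := IsCofiltered.nonempty
      haveI : IsAffineHom (c.π.app (Classical.arbitrary I)) := isAffineHom_π_app _ _ hc _
      exact quasiSeparatedSpace_of_quasiSeparated (c.π.app (Classical.arbitrary I))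
    obtain ⟨i, Xi, fi, g, hfp, hqc, hqs, hpb⟩ := Groth.Agent.S0591.result D c hc V.left f
    haveI := hfp; haveI := hqc; haveI := hqs
    haveI : CompactSpace Xi := QuasiCompact.compactSpace_of_compactSpace fi
    haveI : QuasiSeparatedSpace Xi := quasiSeparatedSpace_of_quasiSeparated fi
    obtain ⟨j₁, φ₁, X₁, Y₁, f₁, g₁, pY₁, pX₁, hY₁, hX₁, het⟩ := Groth.Agent.S9192.result D c hc i fi
      (𝟙 (D.obj i)) f (𝟙 c.pt) (c.π.app i) g IsPullback.of_id_snd hpb
    haveI := het
    haveI : IsIso g₁ := hY₁.isIso_snd_of_isIso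
    haveI hfp1 : LocallyOfFinitePresentation (f₁ ≫ g₁) := inferInstance
    have hB : IsPullback pX₁ (f₁ ≫ g₁) fi (D.map φ₁) := by
      have := hX₁.paste_vert hY₁
      rwa [Category.comp_id] at this
    haveI : QuasiCompact (f₁ ≫ g₁) := MorphismProperty.of_isPullback hB inferInstance
    haveI : QuasiSeparated (f₁ ≫ g₁) := MorphismProperty.of_isPullback hB inferInstance
    haveI : CompactSpace X₁ := QuasiCompact.compactSpace_of_compactSpace (f₁ ≫ g₁)
    haveI : QuasiSeparatedSpace X₁ := quasiSeparatedSpace_of_quasiSeparated (f₁ ≫ g₁)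
    let g' : V.left ⟶ X₁ := hB.lift g (f ≫ c.π.app j₁) (by rw [Category.assoc, c.w, hpb.w])
    have hA : IsPullback g' f (f₁ ≫ g₁) (c.π.app j₁) :=
      IsPullback.of_right (by rw [hB.lift_fst, c.w]; exact hpb) (hB.lift_snd _ _ _) hB
    obtain ⟨j₂, φ₂, X₂, Y₂, f₂, g₂, pY₂, pX₂, hY₂, hX₂, hfin⟩ := Groth.Agent.S9187.result D c hc j₁
      (f₁ ≫ g₁) (𝟙 (D.obj j₁)) f (𝟙 c.pt) (c.π.app j₁) g' IsPullback.of_id_snd hA
    haveI := hfin
    haveI : IsIso g₂ := hY₂.isIso_snd_of_isIso
    have hC : IsPullback pX₂ (f₂ ≫ g₂) (f₁ ≫ g₁) (D.map φ₂) := by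
      have := hX₂.paste_vert hY₂
      rwa [Category.comp_id] at this
    have hE : Etale (f₂ ≫ g₂) := MorphismProperty.of_isPullback hC inferInstance
    let g'' : V.left ⟶ X₂ := hC.lift g' (f ≫ c.π.app j₂) (by rw [Category.assoc, c.w, hA.w])
    have hA2 : IsPullback g'' f (f₂ ≫ g₂) (c.π.app j₂) :=
      IsPullback.of_right (by rw [hC.lift_fst, c.w]; exact hA) (hC.lift_snd _ _ _) hC
    exact ⟨j₂, MorphismProperty.Over.mk ⊤ (f₂ ≫ g₂) ⟨inferInstance, hE⟩,
      ⟨(MorphismProperty.Over.isoMk hA2.isoPullback hA2.isoPullback_hom_snd).symm⟩⟩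
  · let xi : Vi.left ⟶ D.obj i := Vi.hom
    let yi : Wi.left ⟶ D.obj i := Wi.hom
    have hx : IsFinite xi ∧ Etale xi := Vi.prop
    have hy : IsFinite yi ∧ Etale yi := Wi.prop
    haveI := hx.1; haveI := hy.1
    haveI : CompactSpace Vi.left := QuasiCompact.compactSpace_of_compactSpace xi
    have h1 : pullback.fst xi (c.π.app i) ≫ φ.left = pullback.fst xi (c.π.app i) ≫ ψ.left := by
      have := congrArg (fun m => m.left ≫ pullback.fst yi (c.π.app i)) h
      exact (Groth.L27.SGA1Conn.restrict_map_fst _ _).symm.trans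
        (this.trans (Groth.L27.SGA1Conn.restrict_map_fst _ _))
    obtain ⟨j, a, ha⟩ := Groth.L19.Limit.exists_fst_comp_eq (yi := yi) hc
      (IsPullback.of_hasPullback xi (c.π.app i)) φ.left ψ.left (CategoryTheory.Over.w φ.hom)
      (CategoryTheory.Over.w ψ.hom) h1
    refine ⟨j, a, MorphismProperty.Over.Hom.ext (pullback.hom_ext ?_ ?_)⟩
    · exact (Groth.L27.SGA1Conn.restrict_map_fst _ _).trans (ha.trans (Groth.L27.SGA1Conn.restrict_map_fst _ _).symm)
    · exact (MorphismProperty.Over.w ((FEt.restrict (D.map a)).map φ)).trans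
        (MorphismProperty.Over.w ((FEt.restrict (D.map a)).map ψ)).symm

end Groth.Agent.S12073
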