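import Groth.Statements.S0239
import Groth.Agent.L27.HenselPair

set_option autoImplicit false
universe u
open Pi1

namespace Groth.Agent.S0239

open AlgebraicGeometry CategoryTheory CategoryTheory.Limits in
/-- For a henselian pair (A, I) in Mathlib's sense, restricting finite etale covers from Spec A to the
closed subscheme Spec (A/I) is an equivalence of categories. -/
theorem result (A : Type u) [CommRing A] (I : Ideal A) [HenselianRing A I] :
    (FEt.restrict (Spec.map (CommRingCat.ofHom (Ideal.Quotient.mk I)))).IsEquivalence := by
  exact Groth.L27.HenselPair.isEquivalence_restrict I

end Groth.Agent.S0239
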