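import Groth.Statements.S0240
import Groth.Agent.L27.FEtProper.General
import Mathlib.RingTheory.Henselian

set_option autoImplicit false
set_option linter.style.haveILetI false
set_option backward.isDefEq.respectTransparency.types false
universe u
open Pi1

namespace Groth.Agent.S0240

open AlgebraicGeometry CategoryTheory CategoryTheory.Limits in
/-- Let A be a henselian local ring and X a proper A-scheme. Restricting finite etale covers of X to the
closed fibre (the base change of X to the residue field of A) is an equivalence of categories. -/
theorem result (A : Type u) [CommRing A] [HenselianLocalRing A] {X : Scheme.{u}}
    (f : X ⟶ Spec (CommRingCat.of A)) [IsProper f] :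
    (FEt.restrict (pullback.fst f (Spec.map (CommRingCat.ofHom (IsLocalRing.residue A))))).IsEquivalence := by
  exact Groth.L27.FEtProper.isEquivalence (IsLocalRing.maximalIdeal A) f

end Groth.Agent.S0240
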