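import Groth.Statements.S0269
import Groth.Agent.L27.FEtField.Limit
import Groth.Agent.L27.TopInv.FEtUnivHomeo
import Groth.Agent.L05.CurveNorm.Scheme
import Mathlib.FieldTheory.PurelyInseparable.Basic
import Mathlib.RingTheory.Etale.Field

set_option autoImplicit false
set_option linter.style.haveILetI false
set_option backward.isDefEq.respectTransparency.types false
universe u
open Pi1

namespace Groth.Agent.S0269

open AlgebraicGeometry CategoryTheory CategoryTheory.Limits in
/-- Functor form of the injectivity of pi_1(X_{kbar}) -> pi_1(X): Let X be quasi-compact and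
quasi-separated over a field k with X_{kbar} connected. Every finite etale cover of X_{kbar} admits
an open and closed immersion, over X_{kbar}, into the base change of some finite etale cover of X. -/
theorem result (k : Type u) [Field k] {X : Scheme.{u}} (f : X ⟶ Spec (CommRingCat.of k)) [CompactSpace X]
    [QuasiSeparatedSpace X]
    [ConnectedSpace ↥(pullback f (Spec.map (CommRingCat.ofHom (algebraMap k (AlgebraicClosure k)))))]
    (V : FEt.Cat (pullback f (Spec.map (CommRingCat.ofHom (algebraMap k (AlgebraicClosure k)))))) :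
    ∃ (U : FEt.Cat X) (ι : V ⟶ (FEt.restrict (pullback.fst f (Spec.map (CommRingCat.ofHom (algebraMap k (AlgebraicClosure k)))))).obj U),
      IsOpenImmersion ι.left ∧ IsClosedImmersion ι.left := by
  let Ω := AlgebraicClosure k
  let K := separableClosure k Ω
  haveI : IsPurelyInseparable ↥K Ω := inferInstance
  haveI : Algebra.IsAlgebraic k ↥K := inferInstance
  haveI : Algebra.IsSeparable k ↥K := inferInstance
  haveI : Algebra.IsIntegral ↥K Ω := inferInstance
  -- the purely inseparable part
  let q : Spec (CommRingCat.of Ω) ⟶ Spec (CommRingCat.of ↥K) := Groth.L05.CurveNorm.ext ↥K Ω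
  haveI : UniversallyInjective q := Groth.L05.CurveNorm.universallyInjective_ext ↥K Ω
  haveI : IsIntegralHom q := IsIntegralHom.SpecMap_iff.mpr (algebraMap_isIntegral_iff.mpr inferInstance)
  haveI : Surjective q := ⟨fun x => ⟨IsLocalRing.closedPoint Ω, by
    haveI : Subsingleton ↥(Spec (CommRingCat.of ↥K)) := inferInstanceAs (Subsingleton (PrimeSpectrum ↥K))
    exact Subsingleton.elim _ _⟩⟩
  haveI : Flat q := HasRingHomProperty.Spec_iff.mpr (RingHom.flat_algebraMap_iff.mpr inferInstance)
  let sK : Spec (CommRingCat.of ↥K) ⟶ Spec (CommRingCat.of k) := Spec.map (CommRingCat.ofHom (algebraMap k ↥K))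
  have hq : q ≫ sK = Spec.map (CommRingCat.ofHom (algebraMap k Ω)) := by
    show Spec.map _ ≫ Spec.map _ = _
    rw [← Spec.map_comp]
    rfl
  let sΩ : Spec (CommRingCat.of Ω) ⟶ Spec (CommRingCat.of k) := Spec.map (CommRingCat.ofHom (algebraMap k Ω))
  let r : pullback f sΩ ⟶ pullback f sK := pullback.lift (pullback.fst _ _) (pullback.snd _ _ ≫ q)
    (by rw [pullback.condition, Category.assoc, hq])
  have hr : IsPullback r (pullback.snd f sΩ) (pullback.snd f sK) q :=
    IsPullback.of_right (by rw [pullback.lift_fst, hq]; exact IsPullback.of_hasPullback _ _)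
      (pullback.lift_snd _ _ _) (IsPullback.of_hasPullback f sK)
  haveI : UniversallyInjective r := MorphismProperty.of_isPullback hr.flip inferInstance
  haveI : IsIntegralHom r := MorphismProperty.of_isPullback hr.flip inferInstance
  haveI : Surjective r := MorphismProperty.of_isPullback hr.flip inferInstance
  haveI : Flat r := MorphismProperty.of_isPullback hr.flip inferInstance
  have hru : FlatMor.IsUnivHomeo r :=
    (Groth.L20.isUnivHomeo_iff r).mpr ⟨inferInstance, inferInstance, inferInstance⟩
  haveI := Groth.L27.TopInv.isEquivalence_restrict_of_isUnivHomeo r hru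
  obtain ⟨V', ⟨α⟩⟩ := Functor.EssSurj.mem_essImage (F := FEt.restrict r) V
  -- a finite separable stage
  haveI : ∀ L, CompactSpace ((Groth.L27.FEtField.bc (K := ↥K) f).obj L) := fun L => by
    haveI : QuasiCompact (Groth.L27.FEtField.sp L.unop) := by unfold Groth.L27.FEtField.sp; infer_instance
    haveI : QuasiCompact (pullback.fst f (Groth.L27.FEtField.sp L.unop)) :=
      MorphismProperty.pullback_fst (P := @QuasiCompact) f _ inferInstance
    have h' : CompactSpace ↥(pullback f (Groth.L27.FEtField.sp L.unop)) :=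
      QuasiCompact.compactSpace_of_compactSpace (pullback.fst f (Groth.L27.FEtField.sp L.unop))
    exact h'
  haveI : ∀ L, QuasiSeparatedSpace ((Groth.L27.FEtField.bc (K := ↥K) f).obj L) := fun L => by
    haveI : QuasiSeparated (Groth.L27.FEtField.sp L.unop) := by unfold Groth.L27.FEtField.sp; infer_instance
    haveI : QuasiSeparated (pullback.fst f (Groth.L27.FEtField.sp L.unop)) :=
      MorphismProperty.pullback_fst (P := @QuasiSeparated) f _ inferInstance
    have h' : QuasiSeparatedSpace ↥(pullback f (Groth.L27.FEtField.sp L.unop)) :=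
      quasiSeparatedSpace_of_quasiSeparated (pullback.fst f (Groth.L27.FEtField.sp L.unop))
    exact h'
  obtain ⟨L, W, ⟨β⟩⟩ := (Groth.Agent.S12073.result (Groth.L27.FEtField.bc (K := ↥K) f)
    (Groth.L27.FEtField.bcCone f) (Groth.L27.FEtField.isLimitBcCone f)).1 V'
  let w : W.left ⟶ pullback f (Groth.L27.FEtField.sp L.unop) := W.hom
  have hw : IsFinite w ∧ Etale w := W.prop
  haveI := hw.1; haveI := hw.2
  haveI : FiniteDimensional k ↥L.unop.1 := L.unop.2
  haveI : Algebra.IsSeparable k ↥L.unop.1 := Algebra.isSeparable_tower_bot_of_isSeparable k ↥L.unop.1 ↥K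
  haveI : Algebra.FormallyEtale k ↥L.unop.1 := Algebra.FormallyEtale.of_isSeparable k _
  haveI : Algebra.Etale k ↥L.unop.1 :=
    ⟨inferInstance, (Algebra.FinitePresentation.of_finiteType (R := k)).mp inferInstance⟩
  have hsL : IsFinite (Groth.L27.FEtField.sp L.unop) ∧ Etale (Groth.L27.FEtField.sp L.unop) := by
    unfold Groth.L27.FEtField.sp
    exact ⟨(IsFinite.SpecMap_iff _).mpr (RingHom.finite_algebraMap.mpr inferInstance),
      HasRingHomProperty.Spec_iff.mpr (RingHom.etale_algebraMap.mpr inferInstance)⟩
  haveI := hsL.1; haveI := hsL.2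
  haveI hpf : IsFinite (pullback.fst f (Groth.L27.FEtField.sp L.unop)) :=
    MorphismProperty.pullback_fst (P := @IsFinite) f _ inferInstance
  haveI hpe : Etale (pullback.fst f (Groth.L27.FEtField.sp L.unop)) :=
    MorphismProperty.pullback_fst (P := @Etale) f _ inferInstance
  let p : pullback f (Groth.L27.FEtField.sp L.unop) ⟶ X := pullback.fst f _
  let U : FEt.Cat X := MorphismProperty.Over.mk ⊤ (w ≫ p) ⟨inferInstance, inferInstance⟩
  let cK : pullback f sK ⟶ pullback f (Groth.L27.FEtField.sp L.unop) :=
    (Groth.L27.FEtField.bcCone f).π.app L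
  let c : pullback f sΩ ⟶ pullback f (Groth.L27.FEtField.sp L.unop) := r ≫ cK
  have hcp : c ≫ p = pullback.fst f sΩ := by
    show (r ≫ cK) ≫ p = _
    rw [Category.assoc, show cK ≫ p = pullback.fst f sK from pullback.lift_fst _ _ _, pullback.lift_fst]
  let u : pullback w c ⟶ pullback (w ≫ p) (pullback.fst f sΩ) :=
    pullback.lift (pullback.fst _ _) (pullback.snd _ _) (by rw [← hcp, pullback.condition_assoc])
  have hu1 : u ≫ pullback.fst (w ≫ p) (pullback.fst f sΩ) = pullback.fst w c := pullback.lift_fst _ _ _
  have hu2 : u ≫ pullback.snd (w ≫ p) (pullback.fst f sΩ) = pullback.snd w c := pullback.lift_snd _ _ _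
  haveI : Mono u := ⟨fun {T} a b hab => pullback.hom_ext
    (by rw [← hu1, ← Category.assoc, hab, Category.assoc])
    (by rw [← hu2, ← Category.assoc, hab, Category.assoc])⟩
  -- compare the given cover with the base change of the stage
  let γ : V ≅ (FEt.restrict r).obj ((FEt.restrict cK).obj W) :=
    α.symm ≪≫ (FEt.restrict r).mapIso β.symm
  let γl : V.left ≅ pullback (pullback.snd w cK) r :=
    (MorphismProperty.Over.forget _ _ _ ⋙ CategoryTheory.Over.forget _).mapIso γ
  have hγl : γl.hom ≫ pullback.snd (pullback.snd w cK) r = V.hom := CategoryTheory.Over.w γ.hom.hom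
  let δ : pullback (pullback.snd w cK) r ≅ pullback w c := pullbackLeftPullbackSndIso w cK r
  have hδ : δ.hom ≫ pullback.snd w c = pullback.snd (pullback.snd w cK) r :=
    pullbackLeftPullbackSndIso_hom_snd w cK r
  let j : V.left ⟶ pullback (w ≫ p) (pullback.fst f sΩ) := (γl ≪≫ δ).hom ≫ u
  have hj : j ≫ pullback.snd (w ≫ p) (pullback.fst f sΩ) = V.hom := by
    show ((γl.hom ≫ δ.hom) ≫ u) ≫ _ = _
    rw [Category.assoc, pullback.lift_snd, Category.assoc, hδ, hγl]
  haveI : Mono j := mono_comp _ _
  haveI : Etale (j ≫ pullback.snd (w ≫ p) (pullback.fst f sΩ)) := hj ▸ V.prop.2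
  haveI : IsFinite (j ≫ pullback.snd (w ≫ p) (pullback.fst f sΩ)) := hj ▸ V.prop.1
  haveI : Etale j := Etale.of_comp j (pullback.snd _ _)
  haveI : IsFinite j := IsFinite.of_comp j (pullback.snd _ _)
  refine ⟨U, MorphismProperty.Over.homMk j hj, IsOpenImmersion.of_flat_of_mono j, ?_⟩
  exact (IsClosedImmersion.iff_isFinite_and_mono j).mpr ⟨inferInstance, inferInstance⟩

end Groth.Agent.S0269
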