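import Groth.Statements.S5117
import Groth.Agent.L27.FEtField.Sections
import Groth.Agent.L27.FEtGal.Galois
import Groth.Agent.L27.SGA1.FEtFaithful
import Mathlib.CategoryTheory.Limits.Preserves.Shapes.Equalizers

set_option autoImplicit false
set_option linter.style.haveILetI false
set_option backward.isDefEq.respectTransparency.types false
universe u
open Pi1

namespace Groth.Agent.S5117

open AlgebraicGeometry CategoryTheory CategoryTheory.Limits in
set_option maxHeartbeats 1000000 in
/-- (ii bis) ⇒ (i), over a field. Let k be a field with algebraic closure k̄, X a quasi-compact and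
quasi-separated k-scheme such that X ×_k k̄ is connected, and X' a connected finite etale cover of
X. If the induced cover X' ×_k k̄ → X ×_k k̄ admits a section, then X' is isomorphic over X to X ×_k
S' for some finite etale k-scheme S'. (The published statement allows the spectrum of an Artinian
local ring with residue field k as base and asks only that X be quasi-compact; this row takes a
field and X quasi-compact and quasi-separated.) -/
theorem result (k : Type u) [Field k] {X : Scheme.{u}}
    (f : X ⟶ Spec (CommRingCat.of k)) [CompactSpace X] [QuasiSeparatedSpace X]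
    [ConnectedSpace ↥(pullback f (Spec.map (CommRingCat.ofHom (algebraMap k (AlgebraicClosure k)))))]
    (X' : FEt.Cat X) [ConnectedSpace X'.left]
    (σ : pullback f (Spec.map (CommRingCat.ofHom (algebraMap k (AlgebraicClosure k)))) ⟶ X'.left)
    (hσ : σ ≫ X'.hom = pullback.fst f (Spec.map (CommRingCat.ofHom (algebraMap k (AlgebraicClosure k))))) :
    ∃ S' : FEt.Cat (Spec (CommRingCat.of k)), Nonempty ((FEt.restrict f).obj S' ≅ X') := by
  haveI : QuasiCompact f := quasiCompact_iff_compactSpace f |>.2 inferInstance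
  let π : X'.left ⟶ X := X'.hom
  have hπ : IsFinite π ∧ Etale π := X'.prop
  haveI := hπ.1; haveI := hπ.2
  obtain ⟨L, g, hg, hgσ⟩ := Groth.L27.FEtField.exists_stage f π σ hσ
  have hsp := Groth.L27.FEtField.etale_sp (k := k) (K := ↥(Groth.L27.FEtField.Ks k)) L
  let V : FEt.Cat (Spec (CommRingCat.of k)) := MorphismProperty.Over.mk ⊤ (Groth.L27.FEtField.sp L) hsp
  let el : pullback (Groth.L27.FEtField.sp L) f ⟶ X'.left := (pullbackSymmetry _ _).hom ≫ g
  have hel : el ≫ π = pullback.snd (Groth.L27.FEtField.sp L) f := by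
    rw [Category.assoc, hg]; exact pullbackSymmetry_hom_comp_fst _ _
  let Y := (FEt.restrict f).obj V
  let e : Y ⟶ X' := MorphismProperty.Over.homMk el hel
  -- surjectivity
  haveI : Etale el := by
    haveI : Etale (el ≫ π) := hel ▸ MorphismProperty.pullback_snd (P := @Etale) _ f hsp.2
    exact Etale.of_comp el π
  haveI : IsFinite el := by
    haveI : IsFinite (el ≫ π) := hel ▸ MorphismProperty.pullback_snd (P := @IsFinite) _ f hsp.1
    exact IsFinite.of_comp el π
  have hsurj : Function.Surjective el := by
    obtain ⟨z⟩ : Nonempty ↥(pullback f (Spec.map (CommRingCat.ofHom (algebraMap k (AlgebraicClosure k))))) :=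
      inferInstance
    have hr : Set.range el = Set.univ := IsClopen.eq_univ
      ⟨el.isClosedMap.isClosed_range, el.isOpenMap.isOpen_range⟩
      ⟨_, (pullbackSymmetry f (Groth.L27.FEtField.sp L)).hom
        ((Groth.L27.FEtField.bcCone (K := ↥(Groth.L27.FEtField.Ks k)) f).π.app (Opposite.op L)
          (Groth.L27.FEtField.toKs f z)), rfl⟩
    exact Set.range_eq_univ.mp hr
  -- the relation comes from the base
  let sw : pullback (Groth.L27.FEtField.sp L) (Groth.L27.FEtField.sp L) ⟶ Spec (CommRingCat.of k) :=
    pullback.fst _ _ ≫ Groth.L27.FEtField.sp L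
  have hw : IsFinite sw ∧ Etale sw := by
    haveI := hsp.1; haveI := hsp.2
    exact ⟨inferInstance, inferInstance⟩
  let W : FEt.Cat (Spec (CommRingCat.of k)) := MorphismProperty.Over.mk ⊤ sw hw
  let p₁ : W ⟶ V := MorphismProperty.Over.homMk (pullback.fst _ _) rfl
  let p₂ : W ⟶ V := MorphismProperty.Over.homMk (pullback.snd _ _) pullback.condition.symm
  let a : pullback sw f ⟶ X'.left := ((FEt.restrict f).map p₁).left ≫ el
  let b : pullback sw f ⟶ X'.left := ((FEt.restrict f).map p₂).left ≫ el
  have hab : a ≫ π = b ≫ π := by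
    exact (MorphismProperty.Over.w ((FEt.restrict f).map p₁ ≫ e)).trans
      (MorphismProperty.Over.w ((FEt.restrict f).map p₂ ≫ e)).symm
  let d : pullback sw f ⟶ pullback π π := pullback.lift a b hab
  let s := pullback.snd (pullback.diagonal π) d
  haveI : IsClosedImmersion (pullback.diagonal π) := IsSeparated.isClosedImmersion_diagonal
  haveI : IsOpenImmersion s := inferInstance
  haveI : IsClosedImmersion s := inferInstance
  have hs : s ≫ a = s ≫ b := by
    have c := pullback.condition (f := pullback.diagonal π) (g := d)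
    have c1 := congrArg (· ≫ pullback.fst π π) c
    have c2 := congrArg (· ≫ pullback.snd π π) c
    simp only [d, Category.assoc, pullback.diagonal_fst, pullback.diagonal_snd, Category.comp_id,
      pullback.lift_fst, pullback.lift_snd] at c1 c2
    exact c1.symm.trans c2
  obtain ⟨C₀, hC₀, hC₀s⟩ := Groth.L27.FEtField.exists_clopen_base f sw (Set.range s)
    ⟨s.isClosedEmbedding.isClosed_range, s.isOpenEmbedding.isOpen_range⟩
  let O : (pullback (Groth.L27.FEtField.sp L) (Groth.L27.FEtField.sp L)).Opens := ⟨C₀, hC₀.2⟩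
  haveI : IsClosedImmersion O.ι := IsClosedImmersion.of_isPreimmersion O.ι (by
    rw [Scheme.Opens.range_ι]; exact hC₀.1)
  let R : FEt.Cat (Spec (CommRingCat.of k)) := MorphismProperty.Over.mk ⊤ (O.ι ≫ sw) (by
    haveI := hw.1; haveI := hw.2
    exact ⟨inferInstance, inferInstance⟩)
  let i : R ⟶ W := MorphismProperty.Over.homMk O.ι rfl
  haveI := Groth.L27.FEtGal.hasFiniteColimits (X := Spec (CommRingCat.of k))
  haveI := Groth.L27.FEtGal.preservesFiniteColimits_restrict f
  refine ⟨coequalizer (i ≫ p₁) (i ≫ p₂), ?_⟩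
  have hw' : (FEt.restrict f).map (i ≫ p₁) ≫ e = (FEt.restrict f).map (i ≫ p₂) ≫ e := by
    rw [Functor.map_comp, Functor.map_comp, Category.assoc, Category.assoc]
    apply MorphismProperty.Over.Hom.ext
    let il : pullback (O.ι ≫ sw) f ⟶ pullback sw f := ((FEt.restrict f).map i).left
    show il ≫ a = il ≫ b
    have hr : Set.range il ⊆ Set.range s := by
      rintro _ ⟨z, rfl⟩
      rw [← hC₀s]
      show pullback.fst sw f (il z) ∈ C₀
      have h1 : il ≫ pullback.fst sw f = pullback.fst (O.ι ≫ sw) f ≫ O.ι :=
        Groth.L27.SGA1Conn.restrict_map_fst f i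
      rw [← Scheme.Hom.comp_apply, h1, Scheme.Hom.comp_apply]
      have h2 : O.ι (pullback.fst (O.ι ≫ sw) f z) ∈ Set.range O.ι := ⟨_, rfl⟩
      rwa [Scheme.Opens.range_ι] at h2
    rw [← IsOpenImmersion.lift_fac s il hr, Category.assoc, Category.assoc, hs]
  have hcol : Nonempty (IsColimit (Cofork.ofπ e hw')) := by
    refine Groth.L27.FEtGal.isColimit_of_fibers _ fun Ω _ _ ξ => ⟨?_⟩
    refine (isColimitMapCoconeCoforkEquiv (FEt.fiber ξ) hw').symm ?_
    have hfs : Function.Surjective ((FEt.fiber ξ).map e) := by
      intro t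
      obtain ⟨y, hy⟩ := hsurj (t.1 default)
      obtain ⟨t', ht', -⟩ := Groth.L27.FEtGal.exists_fiber_pt el t.1 y hy
      refine ⟨⟨t', ?_⟩, Subtype.ext ht'⟩
      exact (congrArg (t' ≫ ·) hel.symm).trans ((Category.assoc _ _ _).symm.trans ((congrArg (· ≫ π) ht').trans t.2))
    have key : ∀ y₁ y₂, (FEt.fiber ξ).map e y₁ = (FEt.fiber ξ).map e y₂ →
        ∃ r, (FEt.fiber ξ).map ((FEt.restrict f).map (i ≫ p₁)) r = y₁ ∧
          (FEt.fiber ξ).map ((FEt.restrict f).map (i ≫ p₂)) r = y₂ := by
      intro y₁ y₂ hy
      have he' : y₁.1 ≫ el = y₂.1 ≫ el := congrArg Subtype.val hy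
      let u₁ : Spec (CommRingCat.of Ω) ⟶ pullback (Groth.L27.FEtField.sp L) f := y₁.1
      let u₂ : Spec (CommRingCat.of Ω) ⟶ pullback (Groth.L27.FEtField.sp L) f := y₂.1
      have hu₁ : u₁ ≫ pullback.snd _ f = ξ := y₁.2
      have hu₂ : u₂ ≫ pullback.snd _ f = ξ := y₂.2
      let m : Spec (CommRingCat.of Ω) ⟶ pullback sw f := pullback.lift
        (pullback.lift (u₁ ≫ pullback.fst _ f) (u₂ ≫ pullback.fst _ f) (by
          rw [Category.assoc, Category.assoc, pullback.condition, reassoc_of% hu₁, reassoc_of% hu₂])) ξ (by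
          show _ ≫ (pullback.fst _ _ ≫ _) = _
          rw [pullback.lift_fst_assoc, Category.assoc, pullback.condition, reassoc_of% hu₁])
      have hm₁ : m ≫ ((FEt.restrict f).map p₁).left = u₁ := by
        refine pullback.hom_ext ?_ ?_
        · refine (Category.assoc _ _ _).trans ((congrArg (m ≫ ·) (Groth.L27.SGA1Conn.restrict_map_fst f p₁)).trans ?_)
          show m ≫ pullback.fst sw f ≫ pullback.fst _ _ = _
          rw [pullback.lift_fst_assoc, pullback.lift_fst]; rfl
        · refine (Category.assoc _ _ _).trans ((congrArg (m ≫ ·) (MorphismProperty.Over.w ((FEt.restrict f).map p₁))).trans ?_)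
          exact (pullback.lift_snd _ _ _).trans hu₁.symm
      have hm₂ : m ≫ ((FEt.restrict f).map p₂).left = u₂ := by
        refine pullback.hom_ext ?_ ?_
        · refine (Category.assoc _ _ _).trans ((congrArg (m ≫ ·) (Groth.L27.SGA1Conn.restrict_map_fst f p₂)).trans ?_)
          show m ≫ pullback.fst sw f ≫ pullback.snd _ _ = _
          rw [pullback.lift_fst_assoc, pullback.lift_snd]; rfl
        · refine (Category.assoc _ _ _).trans ((congrArg (m ≫ ·) (MorphismProperty.Over.w ((FEt.restrict f).map p₂))).trans ?_)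
          exact (pullback.lift_snd _ _ _).trans hu₂.symm
      have hmab : m ≫ a = m ≫ b := by
        show m ≫ _ ≫ el = m ≫ _ ≫ el
        exact (Category.assoc _ _ _).symm.trans ((congrArg (· ≫ el) hm₁).trans (he'.trans
          ((congrArg (· ≫ el) hm₂).symm.trans (Category.assoc _ _ _))))
      let l : Spec (CommRingCat.of Ω) ⟶ pullback (pullback.diagonal π) d := pullback.lift (m ≫ a) m (by
        apply pullback.hom_ext
        · simp only [d, Category.assoc, pullback.diagonal_fst, Category.comp_id, pullback.lift_fst]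
        · simp only [d, Category.assoc, pullback.diagonal_snd, Category.comp_id, pullback.lift_snd]
          exact hmab)
      have hmC : Set.range (m ≫ pullback.fst sw f) ⊆ Set.range O.ι := by
        rw [Scheme.Opens.range_ι]
        rintro _ ⟨z, rfl⟩
        have h1 : m z ∈ Set.range s := ⟨l z, (Scheme.Hom.comp_apply l s z).symm.trans
          (congrArg (fun q : Spec (CommRingCat.of Ω) ⟶ pullback sw f => q z) (pullback.lift_snd _ _ _))⟩
        rw [← hC₀s] at h1
        exact h1
      let r : Spec (CommRingCat.of Ω) ⟶ pullback (O.ι ≫ sw) f :=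
        pullback.lift (IsOpenImmersion.lift O.ι (m ≫ pullback.fst sw f) hmC) ξ (by
          rw [IsOpenImmersion.lift_fac_assoc, Category.assoc, pullback.condition]
          exact congrArg (· ≫ f) ((pullback.lift_snd _ _ _)) |> fun h => (Category.assoc _ _ _).symm.trans h)
      have hr : r ≫ ((FEt.restrict f).map i).left = m := by
        refine pullback.hom_ext ?_ ?_
        · refine (Category.assoc _ _ _).trans ((congrArg (r ≫ ·) (Groth.L27.SGA1Conn.restrict_map_fst f i)).trans ?_)
          exact (Category.assoc _ _ _).symm.trans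
            ((congrArg (· ≫ O.ι) (pullback.lift_fst _ _ _)).trans (IsOpenImmersion.lift_fac _ _ _))
        · refine (Category.assoc _ _ _).trans ((congrArg (r ≫ ·) (MorphismProperty.Over.w ((FEt.restrict f).map i))).trans ?_)
          exact (pullback.lift_snd _ _ _).trans (pullback.lift_snd _ _ _).symm
      refine ⟨⟨r, pullback.lift_snd _ _ _⟩, Subtype.ext ?_, Subtype.ext ?_⟩
      · show r ≫ ((FEt.restrict f).map (i ≫ p₁)).left = u₁
        rw [Functor.map_comp]
        exact (Category.assoc _ _ _).symm.trans ((congrArg (· ≫ _) hr).trans hm₁)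
      · show r ≫ ((FEt.restrict f).map (i ≫ p₂)).left = u₂
        rw [Functor.map_comp]
        exact (Category.assoc _ _ _).symm.trans ((congrArg (· ≫ _) hr).trans hm₂)
    have hdesc : ∀ (c : Cofork ((FEt.fiber ξ).map ((FEt.restrict f).map (i ≫ p₁)))
        ((FEt.fiber ξ).map ((FEt.restrict f).map (i ≫ p₂)))) (y₁ y₂ : (FEt.fiber ξ).obj Y),
        (FEt.fiber ξ).map e y₁ = (FEt.fiber ξ).map e y₂ → c.π y₁ = c.π y₂ := by
      intro c y₁ y₂ hy
      obtain ⟨r, rfl, rfl⟩ := key y₁ y₂ hy
      exact ConcreteCategory.congr_hom c.condition r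
    refine Cofork.IsColimit.mk _ (fun c => TypeCat.ofHom fun t => c.π (Function.surjInv hfs t)) (fun c => ?_)
      (fun c m hm => ?_)
    · ext y
      exact hdesc c _ _ (Function.surjInv_eq hfs _)
    · ext t
      have := ConcreteCategory.congr_hom hm (Function.surjInv hfs t)
      simp only [Cofork.π_ofπ, CategoryTheory.comp_apply, Function.surjInv_eq hfs t] at this
      exact this
  exact ⟨IsColimit.coconePointUniqueUpToIso
    (isColimitCoforkMapOfIsColimit (FEt.restrict f) _ (coequalizerIsCoequalizer (i ≫ p₁) (i ≫ p₂))) hcol.some⟩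

end Groth.Agent.S5117
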