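import Groth.Statements.S0103
import Groth.Agent.L28.EtCartan.ArtinSchreier

set_option backward.isDefEq.respectTransparency.types false

set_option autoImplicit false
open CategoryTheory CategoryTheory.Limits AlgebraicGeometry Opposite
universe u
open EtBase

namespace Groth.Agent.S0103

/-- Let S be an affine scheme whose ring of global sections has prime characteristic p. Then the étale
cohomology H^q(S, Z/p) with constant Z/p coefficients vanishes for every q ≥ 2. -/
theorem result (S : Scheme.{u}) [IsAffine S] (p : ℕ) [Fact p.Prime] [CharP Γ(S, ⊤) p]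
    (q : ℕ) (hq : 2 ≤ q) : Subsingleton (EtCoh.H S (EtCoh.const S (ZMod p)) q) := by
  have h0 : (p : Γ(S, ⊤)) = 0 := CharP.cast_eq_zero _ p
  obtain ⟨n, rfl⟩ : ∃ n, q = n + 2 := ⟨q - 2, by omega⟩
  have hG := fun m => Groth.L28.EtCartan.subsingleton_H (X := S) m (EtCoh.Ga S) Groth.L28.EtCartan.acyc_Ga
  refine subsingleton_of_forall_eq 0 fun x => ?_
  have hT := Groth.L28.EtCartan.shortExact_asSeq (X := S) p h0
  obtain ⟨y, rfl⟩ := Abelian.Ext.covariant_sequence_exact₁ _ hT x
    ((hG (n + 1)).elim _ _) (show n + 1 + 1 = n + 2 by omega)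
  exact (congrArg (fun z => Abelian.Ext.comp z hT.extClass (show n + 1 + 1 = n + 2 by omega)) ((hG n).elim y 0)).trans (Abelian.Ext.zero_comp _ _ _ _ _)

end Groth.Agent.S0103
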