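import Groth.Statements.S14790
import Groth.Agent.L09.Subtr
import Groth.Agent.L20.FlatStalk
import Mathlib.RingTheory.LocalRing.ResidueField.Basic

set_option autoImplicit false
universe u
open CategoryTheory CategoryTheory.Limits AlgebraicGeometry
open Subtr

namespace Groth.Agent.S14790

/-- Take a scheme Y that is reduced, quasi-compact and quasi-separated, whose set of maximal points
(points with no proper generization) is quasi-compact, and f : X ⟶ Y a morphism of finite
presentation. Then there is a dense quasi-compact open subset U ⊆ Y over which f is flat. -/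
theorem result {X Y : Scheme.{u}} [IsReduced Y]
    [CompactSpace Y] [QuasiSeparatedSpace Y]
    (hgen : IsCompact {y : Y | ∀ y' : Y, y' ⤳ y → y' = y})
    (f : X ⟶ Y) [LocallyOfFinitePresentation f] [QuasiCompact f] [QuasiSeparated f] :
    ∃ U : Y.Opens, Dense (U : Set Y) ∧ IsCompact (U : Set Y) ∧ Flat (f ∣_ U) := by
  classical
  let Z : Set X := {x | (f.stalkMap x).hom.Flat}ᶜ
  have hZ : IsClosed Z := (Groth.L20.isOpen_flat_stalkMap f).isClosed_compl
  have hcc : Groth.L19.Limit.CC (f '' Z) :=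
    Groth.L06.ProCons.cc_image f (Groth.L19.Limit.cc_of_isClosed hZ)
  have hmax : ∀ η : Y, (∀ y' : Y, y' ⤳ η → y' = η) → η ∈ (closure (f '' Z))ᶜ := by
    intro η hη hcl
    obtain ⟨e, he, heη⟩ := hcc.exists_specializes_of_mem_closure hcl
    obtain rfl := hη e heη
    obtain ⟨x, hx, rfl⟩ := he
    refine hx ?_
    have hsub : Subsingleton (Spec (Y.presheaf.stalk (f x))) := ⟨fun a b => by
      refine (Y.fromSpecStalk (f x)).isEmbedding.injective ?_
      rw [hη _ ((Scheme.range_fromSpecStalk (X := Y) (x := f x)).le ⟨a, rfl⟩),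
        hη _ ((Scheme.range_fromSpecStalk (X := Y) (x := f x)).le ⟨b, rfl⟩)]⟩
    have hfield : IsField (Y.presheaf.stalk (f x)) := by
      rw [IsLocalRing.isField_iff_maximalIdeal_eq, ← nilradical_eq_bot_iff.mpr inferInstance,
        nilradical_eq_sInf]
      refine le_antisymm (le_sInf fun p hp => ?_) (sInf_le (IsLocalRing.maximalIdeal.isMaximal _).isPrime)
      exact (congrArg PrimeSpectrum.asIdeal
        (hsub.elim (IsLocalRing.closedPoint (Y.presheaf.stalk (f x))) ⟨p, hp⟩)).le
    let := hfield.toField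
    show (f.stalkMap x).hom.Flat
    let := (f.stalkMap x).hom.toAlgebra
    exact Module.Flat.of_free
  have hloc : ∀ y : {y : Y | ∀ y' : Y, y' ⤳ y → y' = y}, ∃ W : Y.Opens,
      IsAffineOpen W ∧ y.1 ∈ W ∧ (W : Set Y) ⊆ (closure (f '' Z))ᶜ := fun y => by
    obtain ⟨_, ⟨(W : Y.Opens), hW, rfl⟩, hyW, hWs⟩ := Y.isBasis_affineOpens.exists_subset_of_mem_open
      (hmax y.1 y.2) isClosed_closure.isOpen_compl
    exact ⟨W, hW, hyW, hWs⟩
  choose W hW hyW hWs using hloc
  obtain ⟨t, ht⟩ := hgen.elim_finite_subcover (fun y => (W y : Set Y)) (fun y => (W y).2)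
    fun y hy => Set.mem_iUnion.mpr ⟨⟨y, hy⟩, hyW ⟨y, hy⟩⟩
  let U : Y.Opens := ⟨⋃ y ∈ t, (W y : Set Y), isOpen_biUnion fun y _ => (W y).2⟩
  refine ⟨U, fun y => ?_, t.finite_toSet.isCompact_biUnion fun y _ => (hW y).isCompact, ?_⟩
  · obtain ⟨η, hη, hmaxη⟩ := Groth.L09.Subtr.exists_maximal_generization y
    exact hη.mem_closed isClosed_closure (subset_closure (ht hmaxη))
  · refine Flat.of_stalkMap _ fun x => ?_
    refine ((RingHom.Flat.respectsIso.arrow_mk_iso_iff (morphismRestrictStalkMap f U x))).mpr ?_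
    by_contra hx
    obtain ⟨y, -, hy⟩ := Set.mem_iUnion₂.mp (show f x.1 ∈ (U : Set Y) from x.2)
    exact hWs y hy (subset_closure ⟨x.1, hx, rfl⟩)

end Groth.Agent.S14790
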