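import Groth.Statements.S14389
import Groth.Agent.L10.EtBCComp.VComp
import Groth.Agent.L28.AcyComp.Basic

set_option autoImplicit false
open CategoryTheory CategoryTheory.Limits AlgebraicGeometry Opposite
universe u
open EtLim

set_option backward.isDefEq.respectTransparency.types false

namespace Groth.Agent.S14389

/-- For small étale sites of schemes: let g' ≫ f = f' ≫ g be a commutative square of schemes with f : X
→ Y, g : Y' → Y, f' : X' → Y', g' : X' → X, and let F be an abelian sheaf on the small étale site of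
X. For every q and every class ζ in H^q(Y_ét, f_*F), the pullback along g' of the image of ζ under
the canonical map H^q(Y, f_*F) → H^q(X, F) (pull back along f, then apply the counit f⁻¹f_*F → F)
equals the image of g^*ζ ∈ H^q(Y', g⁻¹f_*F) under the map induced by the base-change morphism
g⁻¹f_*F → f'_*g'⁻¹F followed by the canonical map H^q(Y', f'_*g'⁻¹F) → H^q(X', g'⁻¹F). (The
published statement is for a commutative square of topoi with a chosen isomorphism f_*g'_* ≅
g_*f'_*; this row is the square of étale topoi of schemes. Exactness of pullback of abelian sheaves,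
which always holds, is carried as instance hypotheses.) -/
theorem result {X Y X' Y' : Scheme.{u}} (f : X ⟶ Y)
    (g : Y' ⟶ Y) (f' : X' ⟶ Y') (g' : X' ⟶ X) (w : g' ≫ f = f' ≫ g) (F : EtCoh.Ab X) (q : ℕ)
    [PreservesFiniteLimits (EtCoh.pull f)] [PreservesFiniteLimits (EtCoh.pull g)]
    [PreservesFiniteLimits (EtCoh.pull f')] [PreservesFiniteLimits (EtCoh.pull g')]
    (ζ : EtCoh.H Y ((EtCoh.push f).obj F) q) :
    EtCore.Hpull g' F q (EtLim.HofPush f F q ζ) =
      EtLim.HofPush f' ((EtCoh.pull g').obj F) q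
        (((EtCoh.HF Y' q).map (EtCoh.baseChange0 f g f' g' w F)).hom
          (EtCore.Hpull g ((EtCoh.push f).obj F) q ζ)) := by
  have := Groth.L27.EtSite.preservesFiniteLimits_pull (g' ≫ f)
  let M := (EtCoh.pull g').obj F
  let η : F ⟶ (EtCoh.push g').obj M := (EtCoh.pullPushAdj g').unit.app F
  let b := (EtCoh.pullPushAdj g).homEquiv _ _ (EtCoh.baseChange0 f g f' g' w F)
  have e : b ≫ Groth.L27.LimCoh.pushJoin f' g w.symm M =
      (EtCoh.push f).map η ≫ Groth.L27.LimCoh.pushJoin g' f rfl M := by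
    have hb : b = (EtCoh.push f).map η ≫ (Groth.L10.EtBCComp.sqIso f g f' g' w).hom.app M :=
      (Equiv.apply_symm_apply _ _).trans rfl
    have hs : Groth.L27.LimCoh.pushSplit f' g w.symm M ≫ Groth.L27.LimCoh.pushJoin f' g w.symm M = 𝟙 _ := by
      refine ObjectProperty.hom_ext _ (NatTrans.ext (funext fun V => ?_))
      show M.obj.map (_ : _ ⟶ _).op ≫ M.obj.map (_ : _ ⟶ _).op = 𝟙 _
      rw [← M.obj.map_comp, ← op_comp]
      exact (congrArg (fun m => M.obj.map (Quiver.Hom.op m))
        (Groth.L27.LimCoh.join_split f' g w.symm V.unop)).trans (M.obj.map_id _)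
    rw [hb, Groth.L10.EtBCComp.sqIso_hom_app, Category.assoc, Category.assoc, hs, Category.comp_id]
  have hL := Groth.L27.LimCoh.HpullThen_comp g' f (k := g' ≫ f) rfl ((EtCoh.push f).obj F) (𝟙 _) η
    ((EtCoh.push f).map η ≫ Groth.L27.LimCoh.pushJoin g' f rfl M) (Category.id_comp _).symm q ζ
  have hR := Groth.L27.LimCoh.HpullThen_comp f' g (k := g' ≫ f) w.symm ((EtCoh.push f).obj F) b (𝟙 _)
    ((EtCoh.push f).map η ≫ Groth.L27.LimCoh.pushJoin g' f rfl M) (by simpa using e.symm) q ζ
  have h1 : ((EtCoh.pullPushAdj g').homEquiv F M).symm η = 𝟙 _ := by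
    rw [Equiv.symm_apply_eq, Adjunction.homEquiv_id]
  have h2 : ((EtCoh.pullPushAdj f).homEquiv _ F).symm (𝟙 _) = (EtCoh.pullPushAdj f).counit.app F :=
    Adjunction.homEquiv_symm_id _ _
  have h3 : ((EtCoh.pullPushAdj f').homEquiv _ M).symm (𝟙 _) = (EtCoh.pullPushAdj f').counit.app M :=
    Adjunction.homEquiv_symm_id _ _
  rw [h1, h2] at hL
  rw [h3] at hR
  rw [show ((EtCoh.pullPushAdj g).homEquiv _ _).symm b = EtCoh.baseChange0 f g f' g' w F from
    Equiv.symm_apply_apply _ _] at hR
  refine Eq.trans ?_ (hL.trans hR.symm)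
  rw [Groth.L27.LimCoh.HpullThen_apply g']
  erw [(EtCoh.HF X' q).map_id]
  rfl

end Groth.Agent.S14389
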