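import Groth.Statements.S0635
import Groth.Agent.L21.CurveFin.Const
import Groth.Agent.L21.CurveFin.Constr

set_option autoImplicit false
set_option backward.isDefEq.respectTransparency false
set_option linter.style.haveILetI false
open CategoryTheory CategoryTheory.Limits AlgebraicGeometry Opposite
universe u
open EtCore

namespace Groth.Agent.S0635

/-- Let k be an algebraically closed field, X separated of finite type over k of dimension at most 1,
and F a constructible abelian sheaf on the small etale site of X which is torsion of orders
invertible in k. Then every etale cohomology group H^q(X, F) is finite. -/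
theorem result (k : Type u) [Field k] [IsAlgClosed k] (X : Scheme.{u})
    (f : X ⟶ Spec (CommRingCat.of k)) [IsSeparated f] [LocallyOfFiniteType f] [QuasiCompact f]
    (hdim : topologicalKrullDim X ≤ 1) (F : EtCoh.Ab X) (hF : EtPBC.IsConstructible F)
    (hFt : EtPBC.IsTorsionInvertibleOn (Spec (CommRingCat.of k)) F) (q : ℕ) :
    Finite (EtCoh.H X F q) := by
  haveI : IsLocallyNoetherian X := LocallyOfFiniteType.isLocallyNoetherian f
  haveI : CompactSpace ↥X := QuasiCompact.compactSpace_of_compactSpace f
  haveI : AlgebraicGeometry.IsNoetherian X := {}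
  refine Groth.L21.CurveFin.finite_H_constructible (fun p => (p : k) ≠ 0) (fun Y π _ p hp hk r => ?_) F hF
    (fun U s x => ?_) q
  · haveI : NeZero p := ⟨hp.ne_zero⟩
    haveI : LocallyOfFiniteType (π ≫ f) := inferInstance
    haveI : QuasiCompact (π ≫ f) := inferInstance
    exact Groth.L21.CurveFin.finite_H_const p hk (π ≫ f)
      ((Groth.L19.topologicalKrullDim_le_of_isIntegralHom π).trans hdim) r
  · obtain ⟨V, g, n, hv, hu, h0⟩ := hFt U s x
    have hu' : IsUnit (n : k) := by
      have := hu.map (Scheme.ΓSpecIso (CommRingCat.of k)).hom.hom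
      rwa [map_natCast] at this
    have hn : (n : k) ≠ 0 := hu'.ne_zero
    refine ⟨V, g, n, hv, Nat.pos_of_ne_zero (fun h => hn (by rw [h, Nat.cast_zero])), fun p _ hpn hp0 => hn ?_, h0⟩
    obtain ⟨j, rfl⟩ := hpn
    rw [Nat.cast_mul, hp0, zero_mul]

end Groth.Agent.S0635
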