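import Groth.Statements.S0814
import Groth.Agent.L29.Formal.ColimZero

set_option autoImplicit false
set_option backward.isDefEq.respectTransparency.types false
set_option backward.isDefEq.respectTransparency false
universe u
open CategoryTheory
attribute [local instance] HasDerivedCategory.standard
open Formal2

namespace Groth.Agent.S0814

open AlgebraicGeometry CategoryTheory Opposite Groth.L29.CechSect Groth.L29.Formal Groth.L29.ColimZero

theorem mem_minimalPrimes_of_mem (A : Type u) [CommRing A] [IsNoetherianRing A] (p : Ideal A)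
    (hp : p ∈ associatedPrimes A (A ⧸ nilradical A)) : p ∈ minimalPrimes A := by
  classical
  obtain ⟨hp', x, hx⟩ := isAssociatedPrime_iff.1 hp
  obtain ⟨y, rfl⟩ := Submodule.Quotient.mk_surjective _ x
  have hmem : ∀ a : A, a ∈ p ↔ a * y ∈ nilradical A := fun a => by
    rw [hx, Submodule.mem_colon_singleton, Submodule.mem_bot, ← Submodule.Quotient.mk_smul, Submodule.Quotient.mk_eq_zero,
      smul_eq_mul]
  have hfin : (minimalPrimes A).Finite := minimalPrimes.finite_of_isNoetherianRing A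
  have hinf : (hfin.toFinset.filter fun q => y ∉ q).inf id ≤ p := by
    intro a ha
    rw [Submodule.mem_finsetInf] at ha
    rw [hmem, nilradical, Ideal.zero_eq_bot, ← Ideal.sInf_minimalPrimes, Submodule.mem_sInf]
    intro q hq
    by_cases hy : y ∈ q
    · exact Ideal.mul_mem_left q a hy
    · exact Ideal.mul_mem_right y q (ha q (Finset.mem_filter.2 ⟨hfin.mem_toFinset.2 hq, hy⟩))
  obtain ⟨q, hq, hqp⟩ := (Ideal.IsPrime.inf_le' hp').1 hinf
  obtain ⟨hqm, hyq⟩ := Finset.mem_filter.1 hq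
  have hqm' := hfin.mem_toFinset.1 hqm
  haveI := hqm'.1.1
  have hpq : p ≤ q := fun a ha => (hqm'.1.1.mem_or_mem (nilradical_le_prime q ((hmem a).1 ha))).resolve_right hyq
  exact le_antisymm hqp hpq ▸ hqm'

theorem subsingleton_sec {A : Type u} [CommRing A] (I : Ideal A) (M : Type u) [AddCommGroup M] [Module A M] (n : ℕ)
    (W : (Spec (CommRingCat.of A)).Opens) (hW : ∀ r : PrimeSpectrum A, r ∈ W → ¬ I ≤ r.asIdeal)
    (s t : sec W (ModuleCat.of A (Formal2.quotPow A I M n))) : s = t := by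
  refine (modulesSpecToSheaf.obj (tilde (R := CommRingCat.of A) _)).eq_of_locally_eq'
    (fun b : {b : I × A // D (b.1.1 * b.2) ≤ W} => D (b.1.1.1 * b.1.2)) W (fun b => homOfLE b.2) ?_ s t fun b => ?_
  · intro r hr
    obtain ⟨a, haI, har⟩ := SetLike.not_le_iff_exists.1 (hW r hr)
    obtain ⟨_, ⟨g, rfl⟩, hrg, hgV⟩ := (PrimeSpectrum.isTopologicalBasis_basic_opens (R := A)).exists_subset_of_mem_open
      (u := {p : PrimeSpectrum A | p ∈ W}) hr W.isOpen
    exact TopologicalSpace.Opens.mem_iSup.2 ⟨⟨(⟨a, haI⟩, g), (PrimeSpectrum.basicOpen_mul_le_right _ _).trans hgV⟩,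
      fun h => (r.2.mem_or_mem h).elim har hrg⟩
  · obtain ⟨⟨⟨a, ha⟩, g⟩, hb⟩ := b
    change res hb _ s = res hb _ t
    have hz : ∀ x : sec (D (a * g)) (ModuleCat.of A (Formal2.quotPow A I M n)), x = 0 := fun x => by
      obtain ⟨k, m, hm⟩ := exists_toOpen _ _ x
      refine (smul_bij_D (a * g) a ⟨g, rfl⟩ _ (n + 1)).1 ((smul_bij_D (a * g) (a * g) dvd_rfl _ k).1 ?_)
      change (a * g) ^ k • a ^ (n + 1) • x = (a * g) ^ k • a ^ (n + 1) • 0
      rw [smul_comm, hm, ← map_smul, smul_zero, smul_zero]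
      obtain ⟨m', rfl⟩ := Submodule.Quotient.mk_surjective _ m
      rw [← Submodule.Quotient.mk_smul, (Submodule.Quotient.mk_eq_zero _).2
        (Submodule.smul_mem_smul (Ideal.pow_mem_pow ha (n + 1)) Submodule.mem_top), map_zero]
    exact (hz _).trans (hz _).symm

open AlgebraicGeometry in
/-- Let I ⊆ 𝔞 be ideals of a Noetherian ring A which is complete for the I-adic topology and admits a
dualizing complex, and let d bound the cohomological dimension of I. Assume that for every minimal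
prime 𝔭 of A not containing I and every prime 𝔮 ⊇ 𝔭 + 𝔞 the dimension of (A/𝔭)_𝔮 exceeds d + 1, and
that every nonempty open subset of Spec A containing V(I) ∖ V(𝔞) is connected. Then V(I) ∖ V(𝔞) is
empty or connected. -/
theorem result (A : Type u) [CommRing A] [IsNoetherianRing A]
    (I 𝔞 : Ideal A) (hI : I ≤ 𝔞) [IsAdicComplete I A] (hω : ∃ ω : Dual.D A, Dual.IsDualizing A ω)
    (d : ℕ) (hd : LocCoh.CdLE A I d)
    (h₂ : ∀ p ∈ minimalPrimes A, ¬ I ≤ p →
      ∀ (q : Ideal A) [q.IsPrime], p ≤ q → 𝔞 ≤ q → ((d + 1 : ℕ) : WithBot ℕ∞) < Formal2.dimBetween A p q)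
    (h₃ : ∀ V : Set (PrimeSpectrum A), IsOpen V → V.Nonempty →
      PrimeSpectrum.zeroLocus (I : Set A) \ PrimeSpectrum.zeroLocus (𝔞 : Set A) ⊆ V → _root_.IsConnected V) :
    _root_.IsPreconnected (PrimeSpectrum.zeroLocus (I : Set A) \ PrimeSpectrum.zeroLocus (𝔞 : Set A)) := by

  rw [isPreconnected_iff_subset_of_disjoint]
  intro u v hu hv huv hdis
  let N := A ⧸ nilradical A
  obtain ⟨-, hcol⟩ := colimBijective I N 𝔞 hω d hd (fun p hp _ hpI _ q => by
    intro _ hpq hq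
    exact h₂ p (mem_minimalPrimes_of_mem A p hp) hpI q hpq hq)
  let U := LocCoh.puncturedOpen A 𝔞
  let U1 : (Spec (CommRingCat.of A)).Opens := ⟨u, hu⟩ ⊓ U
  let U0 : (Spec (CommRingCat.of A)).Opens :=
    (⟨v, hv⟩ ⊓ U) ⊔ (U ⊓ ⟨(PrimeSpectrum.zeroLocus (I : Set A))ᶜ, (PrimeSpectrum.isClosed_zeroLocus _).isOpen_compl⟩)
  let Wb : Bool → (Spec (CommRingCat.of A)).Opens := fun b => bif b then U1 else U0
  have hWle : ∀ b, Wb b ≤ U := fun b => by cases b <;> simp [Wb, U1, U0]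
  have hcov : U ≤ ⨆ b, Wb b := fun r hr => by
    by_cases hIr : r ∈ PrimeSpectrum.zeroLocus (I : Set A)
    · rcases huv ⟨hIr, hr⟩ with h | h
      · exact TopologicalSpace.Opens.mem_iSup.2 ⟨true, h, hr⟩
      · exact TopologicalSpace.Opens.mem_iSup.2 ⟨false, Or.inl ⟨h, hr⟩⟩
    · exact TopologicalSpace.Opens.mem_iSup.2 ⟨false, Or.inr ⟨hr, hIr⟩⟩
  have hmeet : ∀ r : PrimeSpectrum A, r ∈ U1 → r ∈ U0 → ¬ I ≤ r.asIdeal := fun r h1 h0 hIr => by
    rcases h0 with h0 | h0
    · exact (Set.eq_empty_iff_forall_notMem.1 hdis) r ⟨⟨hIr, h1.2⟩, h1.1, h0.1⟩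
    · exact h0.2 hIr
  have hglue : ∀ n, ∃ s : sec U (ModuleCat.of A (Formal2.quotPow A I N n)),
      ∀ b, res (hWle b) _ s = bif b then (tilde.toOpen (R := CommRingCat.of A)
        (ModuleCat.of A (Formal2.quotPow A I N n)) (Wb b)).hom (Submodule.Quotient.mk 1) else 0 := fun n => by
    obtain ⟨s, hs, -⟩ := (modulesSpecToSheaf.obj (tilde (R := CommRingCat.of A)
      (ModuleCat.of A (Formal2.quotPow A I N n)))).existsUnique_gluing' Wb U (fun b => homOfLE (hWle b)) hcov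
      (fun b => bif b then (tilde.toOpen (R := CommRingCat.of A)
        (ModuleCat.of A (Formal2.quotPow A I N n)) (Wb b)).hom (Submodule.Quotient.mk 1) else 0) (fun a b => by
      change res inf_le_left _ _ = res inf_le_right _ _
      rcases a <;> rcases b
      · rfl
      · exact subsingleton_sec I N n (Wb false ⊓ Wb true) (fun r hr => hmeet r hr.2 hr.1) _ _
      · exact subsingleton_sec I N n (Wb true ⊓ Wb false) (fun r hr => hmeet r hr.1 hr.2) _ _
      · rfl)
    exact ⟨s, hs⟩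
  choose s hs using hglue
  obtain ⟨V, hV, x, hx⟩ := hcol (fun n => (h0 U _).symm (s n)) (fun n => (h0 U _).injective (by
    rw [h0_map, AddEquiv.apply_symm_apply, AddEquiv.apply_symm_apply]
    refine (modulesSpecToSheaf.obj (tilde (R := CommRingCat.of A) _)).eq_of_locally_eq' Wb U
      (fun b => homOfLE (hWle b)) hcov _ _ fun b => ?_
    change res (hWle b) _ _ = res (hWle b) _ _
    rw [secMap_res, hs, hs]
    cases b
    · exact map_zero _
    · exact secMap_toOpen _ _ _))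
  let σ := h0 V (ModuleCat.of A N) x
  let one : ∀ W : (Spec (CommRingCat.of A)).Opens, sec W (ModuleCat.of A N) :=
    fun W => (tilde.toOpen (R := CommRingCat.of A) (ModuleCat.of A N) W).hom (Submodule.Quotient.mk 1)
  let O1 : (Spec (CommRingCat.of A)).Opens :=
    ⨆ W : {W : (Spec (CommRingCat.of A)).Opens // ∃ h : W ≤ V, res h _ σ = one W}, W.1
  let O0 : (Spec (CommRingCat.of A)).Opens :=
    ⨆ W : {W : (Spec (CommRingCat.of A)).Opens // ∃ h : W ≤ V, res h _ σ = 0}, W.1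
  have himg : ∀ n b (W : (Spec (CommRingCat.of A)).Opens) (h : W ≤ V) (h' : W ≤ Wb b),
      (secMap W (ModuleCat.ofHom (Formal2.quotPowπ A I N n))).hom (res h _ σ) =
        res h' _ (bif b then (tilde.toOpen (R := CommRingCat.of A)
          (ModuleCat.of A (Formal2.quotPow A I N n)) (Wb b)).hom (Submodule.Quotient.mk 1) else 0) :=
    fun n b W h h' => by
      rw [← secMap_res, ← h0_map, ← hx n, h0_res, AddEquiv.apply_symm_apply, res_res, ← hs n b, res_res]
  have hmem1 : ∀ r : PrimeSpectrum A, r ∈ U → I ≤ r.asIdeal → r ∈ u → r ∈ O1 := fun r hrU hrI hru => by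
    let W : (Spec (CommRingCat.of A)).Opens := V ⊓ U1
    have hWV : W ≤ V := inf_le_left
    obtain ⟨W', hW', hrW', h'⟩ := exists_nbhd_eq_zero I N (res hWV _ σ - one W) (fun n => by
      rw [map_sub, himg n true W hWV inf_le_right, secMap_toOpen, sub_eq_zero]
      exact res_toOpen _ _ _) r ⟨hV.2 r hrU hrI, hru, hrU⟩ hrI
    rw [map_sub, sub_eq_zero, res_res] at h'
    exact TopologicalSpace.Opens.mem_iSup.2 ⟨⟨W', hW'.trans hWV, h'.trans (res_toOpen _ _ _)⟩, hrW'⟩
  have hmem0 : ∀ r : PrimeSpectrum A, r ∈ U → I ≤ r.asIdeal → r ∈ v → r ∈ O0 := fun r hrU hrI hrv => by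
    let W : (Spec (CommRingCat.of A)).Opens := V ⊓ U0
    have hWV : W ≤ V := inf_le_left
    obtain ⟨W', hW', hrW', h'⟩ := exists_nbhd_eq_zero I N (res hWV _ σ) (fun n => by
      rw [himg n false W hWV inf_le_right]
      exact map_zero _) r ⟨hV.2 r hrU hrI, Or.inl ⟨hrv, hrU⟩⟩ hrI
    rw [res_res] at h'
    exact TopologicalSpace.Opens.mem_iSup.2 ⟨⟨W', hW'.trans hWV, h'⟩, hrW'⟩
  have hdisj : ∀ r : PrimeSpectrum A, r ∈ O1 → r ∈ O0 → False := fun r h1 h0' => by
    obtain ⟨⟨W1, a1, b1⟩, hr1⟩ := TopologicalSpace.Opens.mem_iSup.1 h1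
    obtain ⟨⟨W0, a0, b0⟩, hr0⟩ := TopologicalSpace.Opens.mem_iSup.1 h0'
    obtain ⟨_, ⟨g, rfl⟩, hrg, hgW⟩ := (PrimeSpectrum.isTopologicalBasis_basic_opens (R := A)).exists_subset_of_mem_open
      (u := {p : PrimeSpectrum A | p ∈ W1 ⊓ W0}) ⟨hr1, hr0⟩ (W1 ⊓ W0).isOpen
    have hg : D g ≤ W1 ⊓ W0 := hgW
    have h : one (D g) = 0 := by
      have e1 := congrArg (res (hg.trans inf_le_left) _) b1
      have e0 := congrArg (res (hg.trans inf_le_right) _) b0
      rw [res_res] at e1 e0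
      rw [map_zero] at e0
      exact ((res_toOpen _ _ _).symm.trans e1.symm).trans e0
    obtain ⟨k, hk⟩ := exists_pow_toOpen g _ h
    rw [← Submodule.Quotient.mk_smul, Submodule.Quotient.mk_eq_zero, smul_eq_mul, mul_one] at hk
    exact hrg (r.2.mem_of_pow_mem k (nilradical_le_prime r.asIdeal hk))
  by_contra hne
  obtain ⟨⟨r1, hr1, hr1'⟩, ⟨r0, hr0, hr0'⟩⟩ := not_or.1 hne |>.imp Set.not_subset.1 Set.not_subset.1
  have hr1v : r1 ∈ v := (huv hr1).resolve_left hr1'
  have hr0u : r0 ∈ u := (huv hr0).resolve_right hr0'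
  have hconn := h₃ ({r : PrimeSpectrum A | r ∈ O1} ∪ {r : PrimeSpectrum A | r ∈ O0}) (O1.isOpen.union O0.isOpen)
    ⟨r0, Or.inl (hmem1 r0 hr0.2 hr0.1 hr0u)⟩ (fun r hr => (huv hr).imp (hmem1 r hr.2 hr.1) (hmem0 r hr.2 hr.1))
  obtain ⟨r, -, h1, h0'⟩ := hconn.isPreconnected _ _ O1.isOpen O0.isOpen subset_rfl
    ⟨r0, Or.inl (hmem1 r0 hr0.2 hr0.1 hr0u), hmem1 r0 hr0.2 hr0.1 hr0u⟩
    ⟨r1, Or.inr (hmem0 r1 hr1.2 hr1.1 hr1v), hmem0 r1 hr1.2 hr1.1 hr1v⟩
  exact hdisj r h1 h0'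

end Groth.Agent.S0814
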