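import Groth.Statements.S0261
import Groth.Agent.L16.PuncExt.Main
import Groth.Agent.L04.LC.Depth

set_option autoImplicit false
universe u
open Pi1

namespace Groth.Agent.S0261

open AlgebraicGeometry CategoryTheory CategoryTheory.Limits in
/-- Let A be a Noetherian local ring of depth at least 3, f an element of the maximal ideal and V a
finite etale cover of the punctured spectrum U of A. If the restriction of V to the punctured
spectrum of A/fA is the restriction of a finite etale cover of Spec(A/fA), then V is the restriction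
of a finite etale cover of Spec A. -/
theorem result (A : Type u) [CommRing A] [IsNoetherianRing A] [IsLocalRing A] (hA : (3 : ℕ∞) ≤ LocCoh.depth A A)
    (f : A) (hf : f ∈ IsLocalRing.maximalIdeal A) (V : FEt.Cat (FEt.puncturedSpec A : Scheme.{u}))
    (hV : ∃ Y₀ : FEt.Cat (Spec (CommRingCat.of (A ⧸ Ideal.span {f}))),
      Nonempty ((FEt.restrict (pullback.snd (FEt.puncturedSpec A).ι
        (Spec.map (CommRingCat.ofHom (Ideal.Quotient.mk (Ideal.span {f})))))).obj Y₀ ≅
        (FEt.restrict (pullback.fst (FEt.puncturedSpec A).ι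
        (Spec.map (CommRingCat.ofHom (Ideal.Quotient.mk (Ideal.span {f})))))).obj V)) :
    ∃ Y : FEt.Cat (Spec (CommRingCat.of A)),
      Nonempty ((FEt.restrict (FEt.puncturedSpec A).ι).obj Y ≅ V) := by
  obtain ⟨Y₀, ⟨e⟩⟩ := hV
  have h := (Groth.L04.LC.le_idealDepth_iff_H (IsLocalRing.maximalIdeal A) A 3).1 hA
  exact Groth.L16.PuncExt.exists_extension A f hf
    ⟨0, fun x => @Subsingleton.elim _ (h 1 (by omega)) _ _⟩ ⟨0, fun x => @Subsingleton.elim _ (h 2 (by omega)) _ _⟩ V Y₀ e
end Groth.Agent.S0261
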