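import Groth.Statements.S6667
import Groth.Agent.L27.StalkBC.Criterion

set_option autoImplicit false
set_option linter.style.haveILetI false
set_option backward.isDefEq.respectTransparency.types false
universe u
open CategoryTheory CategoryTheory.Limits AlgebraicGeometry Opposite
open EtBC

namespace Groth.Agent.S6667

/-- Let Y = X ×_S T be a cartesian square of schemes with f : X → S, g : T → S quasi-compact and
quasi-separated, h : Y → X and e : Y → T, let F be an abelian sheaf on the small etale site of T and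
q ≥ 0. The following are equivalent: (1) for every point x of X, all strict henselizations R_X of
the local ring of X at x and R_S of the local ring of S at f(x), every local homomorphism ψ : R_S →
R_X compatible with f, and all cartesian squares P_S = Spec R_S ×_S T, P_X = Spec R_X ×_S T with the
morphism m : P_X → P_S induced by ψ, the pullback map H^q(P_S, F|P_S) → H^q(P_X, F|P_X) along m is
bijective; (2) the degree-q base change map f⁻¹ R^q g_* F → R^q h_* e⁻¹ F is an isomorphism. -/
theorem result {X S Y T : Scheme.{u}} (f : X ⟶ S) (g : T ⟶ S)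
    [QuasiCompact g] [QuasiSeparated g] (h : Y ⟶ X) (e : Y ⟶ T) (c : IsPullback e h g f)
    [PreservesFiniteLimits (EtCoh.pull e)] (F : EtCoh.Ab T) (q : ℕ) :
    (∀ (x : X) (RS : Type u) [CommRing RS] [IsLocalRing RS] [Algebra (S.presheaf.stalk (f.base x)) RS]
      [IsLocalHom (algebraMap (S.presheaf.stalk (f.base x)) RS)] [Hensel.IsStrictHenselization (S.presheaf.stalk (f.base x)) RS]
      (RX : Type u) [CommRing RX] [IsLocalRing RX] [Algebra (X.presheaf.stalk x) RX]
      [IsLocalHom (algebraMap (X.presheaf.stalk x) RX)] [Hensel.IsStrictHenselization (X.presheaf.stalk x) RX]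
      (ψ : RS →+* RX) [IsLocalHom ψ],
      ψ.comp (algebraMap (S.presheaf.stalk (f.base x)) RS) = (algebraMap (X.presheaf.stalk x) RX).comp (f.stalkMap x).hom →
      ∀ (PS PX : Scheme.{u}) (aS : PS ⟶ T) (bS : PS ⟶ Spec (CommRingCat.of RS))
        (_ : IsPullback aS bS g (Hens2.specOf S (f.base x) RS))
        (aX : PX ⟶ T) (bX : PX ⟶ Spec (CommRingCat.of RX))
        (_ : IsPullback aX bX g (Hens2.specOf X x RX ≫ f))
        (m : PX ⟶ PS) (w : m ≫ aS = aX), m ≫ bS = bX ≫ Spec.map (CommRingCat.ofHom ψ) →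
        ∀ [PreservesFiniteLimits (EtCoh.pull m)], Function.Bijective (EtCore.HpullVia m aS aX w F q)) ↔
    IsIso (EtBC.bcQ g f h e c.w q F) := by
  classical
  constructor
  · intro H
    refine Groth.L27.StalkBC.isIso_of_pb _ fun x RX _ _ _ _ _ => ?_
    obtain ⟨RS, _, _, _, _, hRS⟩ := Groth.L05.Henselization.exists_isStrictHenselization (S.presheaf.stalk (f.base x))
    obtain ⟨ψ, _, hψ⟩ := Groth.L27.StalkBC.exists_strictMap f x RS RX
    let ηS := Hens2.specOf S (f.base x) RS
    let ηX := Hens2.specOf X x RX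
    have hcomp := Groth.L27.StalkBC.specOf_comp f x RS RX ψ hψ
    have cS := IsPullback.of_hasPullback g ηS
    have cX := IsPullback.of_hasPullback g (ηX ≫ f)
    let m := cS.lift (pullback.fst g (ηX ≫ f)) (pullback.snd g (ηX ≫ f) ≫ Spec.map (CommRingCat.ofHom ψ))
      (cX.w.trans (((congrArg (pullback.snd g (ηX ≫ f) ≫ ·) hcomp).symm).trans (Category.assoc _ _ _).symm))
    have w := cS.lift_fst (pullback.fst g (ηX ≫ f)) (pullback.snd g (ηX ≫ f) ≫ Spec.map (CommRingCat.ofHom ψ))
      (cX.w.trans (((congrArg (pullback.snd g (ηX ≫ f) ≫ ·) hcomp).symm).trans (Category.assoc _ _ _).symm))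
    have hm := cS.lift_snd (pullback.fst g (ηX ≫ f)) (pullback.snd g (ηX ≫ f) ≫ Spec.map (CommRingCat.ofHom ψ))
      (cX.w.trans (((congrArg (pullback.snd g (ηX ≫ f) ≫ ·) hcomp).symm).trans (Category.assoc _ _ _).symm))
    haveI := Groth.L27.EtSite.preservesFiniteLimits_pull m
    exact (Groth.L27.StalkBC.bijective_HpullVia_iff f g h e c F q x RS RX ψ hψ _ _ _ _ cS _ _ cX m w hm).1
      (H x RS RX ψ hψ _ _ _ _ cS _ _ cX m w hm)
  · intro H x RS _ _ _ _ _ RX _ _ _ _ _ ψ _ hψ PS PX aS bS cS aX bX cX m w hm _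
    haveI := H
    exact (Groth.L27.StalkBC.bijective_HpullVia_iff f g h e c F q x RS RX ψ hψ _ _ _ _ cS _ _ cX m w hm).2
      (Groth.L27.StalkBC.pb_of_isIso _)

end Groth.Agent.S6667
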