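import Groth.Statements.S3520
import Groth.Agent.L28.CurveCd.Biprod
import Groth.Agent.L28.CurveCd.GmRed
import Groth.Agent.L28.CurveCd.PrimaryVanish
import Groth.Agent.L28.GmH1.PointPush
import Groth.Agent.S3246
import Groth.Agent.S6641

set_option autoImplicit false
set_option linter.style.haveILetI false
set_option backward.isDefEq.respectTransparency.types false
universe u
open CategoryTheory CategoryTheory.Limits AlgebraicGeometry Opposite
open EtCd
open Groth.L28.CurveCd

namespace Groth.Agent.S3520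

/-- the direct images of the multiplicative groups of the local rings at non-closed points -/
noncomputable abbrev thickFam (X : Scheme.{u}) (x : {x : X // ¬ IsClosed ({x} : Set X)}) : EtCoh.Ab X :=
  (EtCoh.push (X.fromSpecStalk x.1)).obj (EtCoh.Gm (Spec (X.presheaf.stalk x.1)))

theorem eq_zero_two_local {X : Scheme.{u}} (x : X) (hmax : ∀ y : X, y ⤳ x → y = x) {ℓ : ℕ} (hℓ : ℓ.Prime)
    (hinv : Dix.InvertibleOn X ℓ) (hcd : Dix.CohDimLEAt (Spec (X.residueField x)) ℓ 1)
    (ξ : EtCoh.H X ((EtCoh.push (X.fromSpecStalk x)).obj (EtCoh.Gm (Spec (X.presheaf.stalk x)))) 2)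
    (hξ : ℓ • ξ = 0) : ξ = 0 := by
  haveI := isAffineHom_fromSpecStalk x hmax
  let j := X.fromSpecStalk x
  let r : Spec (X.residueField x) ⟶ Spec (X.presheaf.stalk x) := Spec.map (X.residue x)
  haveI : IsClosedImmersion r := IsClosedImmersion.spec_of_surjective _ (X.residue_surjective x)
  haveI := subsingleton_spec_stalk x hmax
  haveI : Surjective r := ⟨fun p => ⟨(default : PrimeSpectrum (X.residueField x)), Subsingleton.elim _ _⟩⟩
  let i : Spec (CommRingCat.of (X.residueField x)) ⟶ X := r ≫ j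
  haveI := Groth.L27.EtSite.preservesFiniteLimits_pull i
  obtain ⟨h1, h2⟩ := Groth.L28.GmH1.push_Gm i (fun W _ => Groth.L28.GmH1.isAffine_preimage_point i W)
  haveI := isAdditive_HF' (X := X) 2
  let S := ShortComplex.mk (kernel.ι (gmRed j r)) (gmRed j r) (kernel.condition _)
  have hS : S.ShortExact := shortExact_gmRed j r
  have hπ : (EtCoh.HF X 2).map (gmRed j r) ξ = 0 := by
    refine h2 ((Eq.trans ?_ (map_zero _).symm))
    refine (Groth.Agent.S3246.result (Spec (X.residueField x)) ℓ hℓ 1 hcd).2 (fun p hp => ?_) 2 one_lt_two _ ⟨1, ?_⟩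
    · let g : X.residueField x →+* (Spec (X.residueField x)).residueField p :=
        ((Scheme.ΓSpecIso (X.residueField x)).inv ≫ (Spec (X.residueField x)).presheaf.germ ⊤ p trivial ≫
          (Spec (X.residueField x)).residue p).hom
      exact hinv x ((map_eq_zero g).1 ((map_natCast g ℓ).trans hp))
    · rw [pow_one]
      refine (map_nsmul _ ℓ _).symm.trans ?_
      refine (congrArg (EtLim.HofPush i _ 2) ((map_nsmul ((EtCoh.HF X 2).map (gmRed j r)).hom ℓ ξ).symm.trans
        ((congrArg ((EtCoh.HF X 2).map (gmRed j r)).hom hξ).trans (map_zero _)))).trans ?_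
      exact map_zero _
  obtain ⟨a, ha⟩ := Abelian.Ext.covariant_sequence_exact₂ _ hS ξ
    ((Groth.L27.EtSite.HF_map_apply (gmRed j r) 2 ξ).symm.trans hπ)
  have ha' : (EtCoh.HF X 2).map S.f a = ξ := (Groth.L27.EtSite.HF_map_apply S.f 2 a).trans ha
  have hla : ℓ • a = 0 := by
    obtain ⟨b, hb⟩ := Abelian.Ext.covariant_sequence_exact₁ _ hS (ℓ • a)
      ((Groth.L27.EtSite.HF_map_apply S.f 2 (ℓ • a)).symm.trans
        ((map_nsmul ((EtCoh.HF X 2).map S.f).hom ℓ a).trans ((congrArg (ℓ • ·) ha').trans hξ))) rfl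
    rw [← hb, @Subsingleton.elim (EtCoh.H X S.X₃ 1) h1 b 0]
    simp
  haveI := isIso_nsmul_kernel j r (Groth.L28.GmTorsion.isUnit_natCast hinv)
  have ha0 : a = 0 := by
    refine (ConcreteCategory.bijective_of_isIso ((EtCoh.HF X 2).map (ℓ • 𝟙 S.X₁))).1 ?_
    refine Eq.trans ?_ (map_zero ((EtCoh.HF X 2).map (ℓ • 𝟙 S.X₁)).hom).symm
    refine (Groth.L27.EtSite.HF_map_apply _ 2 a).trans ?_
    let e : (S.X₁ ⟶ S.X₁) →+ EtCoh.H X S.X₁ 2 :=
      AddMonoidHom.mk' (fun f => a.comp (Abelian.Ext.mk₀ f) (add_zero 2)) fun b c => by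
        rw [Abelian.Ext.mk₀_add, Abelian.Ext.comp_add]
    show e (ℓ • 𝟙 S.X₁) = 0
    rw [map_nsmul]
    exact (congrArg (ℓ • ·) (Abelian.Ext.comp_mk₀_id a)).trans hla
  exact ha'.symm.trans ((congrArg ((EtCoh.HF X 2).map S.f) ha0).trans (map_zero ((EtCoh.HF X 2).map S.f).hom))

/-- Let X be a Noetherian scheme of dimension at most 1 and ℓ a prime invertible on X such that
cd_ℓ(κ(x)) ≤ 1 for every maximal point x of X (so the ring of rational functions has ℓ-cohomological
dimension ≤ 1), and assume the residue field of every closed point is separably closed. Then H^i(X,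
G_m) has no ℓ-primary torsion for i ≥ 2. (In the published statement the subscript ℓ on these groups
means 'no ℓ-torsion', and the result is stated in that sense: every element of H^i(X, G_m), i ≥ 2,
killed by a power of ℓ is zero.) -/
theorem result (X : Scheme.{u}) [IsNoetherian X] (hdim : topologicalKrullDim X ≤ 1)
    (ℓ : ℕ) (hℓ : ℓ.Prime) (hinv : Dix.InvertibleOn X ℓ)
    (hcd : ∀ x : X, closure {x} ∈ irreducibleComponents (X : Type u) → Dix.CohDimLEAt (Spec (X.residueField x)) ℓ 1)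
    (hcl : ∀ x : X, IsClosed ({x} : Set X) → IsSepClosed (X.residueField x))
    (i : ℕ) (hi : 2 ≤ i) (ξ : EtCoh.H X (EtCoh.Gm X) i) (hξ : ∃ k : ℕ, ℓ ^ k • ξ = 0) : ξ = 0 := by
  obtain ⟨k, hk⟩ := hξ
  suffices h : ∀ η : EtCoh.H X (EtCoh.Gm X) i, ℓ • η = 0 → η = 0 by
    induction k generalizing ξ with
    | zero => simpa using hk
    | succ k ih => exact h ξ (ih (ℓ • ξ) (by rwa [← mul_smul, ← pow_succ]))
  intro η hη
  rcases Nat.lt_or_ge i 3 with h3 | h3
  · obtain rfl : i = 2 := by omega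
    haveI := finite_not_closed (X := X) hdim
    haveI := Fintype.ofFinite {x : X // ¬ IsClosed ({x} : Set X)}
    classical
    haveI : HasBiproduct (thickFam X) := HasBiproductsOfShape.has_biproduct _
    let φ : EtCoh.Gm X ⟶ ⨁ (thickFam X) := biproduct.lift fun x => EtLim.GmPush (X.fromSpecStalk x.1)
    have hgen : ∀ (Ω : Type u) [Field Ω] [IsSepClosed Ω] (w : Spec (CommRingCat.of Ω) ⟶ X),
        ¬ IsClosed ({w.base default} : Set X) → Function.Bijective ((EtCoh.stalk w).map φ) := by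
      intro Ω _ _ w hc
      obtain ⟨x, hx⟩ : ∃ x, w.base default = x := ⟨_, rfl⟩
      obtain ⟨v, rfl⟩ := Groth.L28.Sky.exists_factor w x hx
      let x₀ : {x : X // ¬ IsClosed ({x} : Set X)} := ⟨x, hx ▸ hc⟩
      refine bijective_stalk_lift (thickFam X) _ _ x₀ (fun y hne => ?_) ?_
      · refine isZero_stalk_push_closure _ _ _ ?_
        rw [range_fromSpecStalk_of_max y.1 ((isClosed_or_maximal hdim y.1).resolve_left y.2), hx]
        exact not_specializes hdim x₀.2 fun e => hne (Subtype.ext e.symm)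
      · have := bijective_stalk_fromSpecStalk x (v ≫ Spec.map (X.residue x))
        rwa [Category.assoc] at this
    have hb := bijective_of_acyclic φ
      (fun q => (acyclic_ker_coker_of_nonclosed' hcl φ hgen q).1)
      (fun q => (acyclic_ker_coker_of_nonclosed' hcl φ hgen q).2) 0
    refine hb.1.injective (Eq.trans ?_ (map_zero ((EtCoh.HF X 2).map φ).hom).symm)
    haveI := isAdditive_HF' (X := X) 2
    have hz : ∀ x, (EtCoh.HF X 2).map (biproduct.π (thickFam X) x) ((EtCoh.HF X 2).map φ η) = 0 := fun x => by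
      refine eq_zero_two_local x.1 ((isClosed_or_maximal hdim x.1).resolve_left x.2) hℓ hinv
        (hcd x.1 (closure_mem_irreducibleComponents hdim x.1 x.2)) _ ?_
      refine ((congrArg (ℓ • ·) ?_).trans ((map_nsmul (((EtCoh.HF X 2).map (biproduct.π (thickFam X) x)).hom.comp
        ((EtCoh.HF X 2).map φ).hom) ℓ η).symm.trans ?_))
      · rfl
      · exact (congrArg _ hη).trans (map_zero _)
    exact eq_zero_of_π (thickFam X) 2 _ hz
  · have hu : IsUnit ((ℓ : ℕ) : Γ(X, ⊤)) := Groth.L28.GmTorsion.isUnit_natCast hinv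
    obtain ⟨m, rfl⟩ := (Groth.L28.GmTorsion.range_HF_muι ℓ hu i).symm.le hη
    obtain ⟨q, rfl⟩ : ∃ q, i = q + 3 := ⟨i - 3, by omega⟩
    have hμ : (ℓ ^ 1) • 𝟙 (EtCoh.mu X ℓ) = 0 := by
      haveI : Mono (EtCoh.muι X ℓ) := inferInstanceAs (Mono (kernel.ι _))
      rw [pow_one, ← cancel_mono (EtCoh.muι X ℓ), Preadditive.nsmul_comp, Category.id_comp, zero_comp]
      show ℓ • kernel.ι (EtCoh.powMap X ℓ) = 0
      rw [← Category.comp_id (kernel.ι (EtCoh.powMap X ℓ)), ← Preadditive.comp_nsmul]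
      exact kernel.condition (EtCoh.powMap X ℓ)
    haveI := subsingleton_H_killed ℓ 1 hdim hcd hcl (EtCoh.mu X ℓ) hμ q
    exact (congrArg _ (@Subsingleton.elim (EtCoh.H X (EtCoh.mu X ℓ) (q + 3)) _ m 0)).trans
      (map_zero ((EtCoh.HF X (q + 3)).map (EtCoh.muι X ℓ)).hom)

end Groth.Agent.S3520
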