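import Groth.Statements.S0122
import Groth.Agent.L27.H0Proper

set_option autoImplicit false
universe u
open CategoryTheory CategoryTheory.Limits AlgebraicGeometry Opposite
open EtPBC

namespace Groth.Agent.S0122

/-- For a henselian pair (A, I) and any abelian sheaf F on the small etale site of Spec A, restriction
of global sections Gamma(Spec A, F) -> Gamma(Spec (A/I), i^* F) is bijective; here written as the
global-sections component of the unit F -> i_* i^* F (the target is the group of sections of i^* F
over Spec A x_{Spec A} Spec (A/I) = Spec (A/I)). The source allows sheaves of sets; we state the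
abelian case. -/
theorem result (A : Type u) [CommRing A] (I : Ideal A) [HenselianRing A I]
    [EtCoh.BCCont (Spec.map (CommRingCat.ofHom (Ideal.Quotient.mk I)))]
    (F : EtCoh.Ab (Spec (CommRingCat.of A))) :
    Function.Bijective
      (((EtCoh.pullPushAdj (Spec.map (CommRingCat.ofHom (Ideal.Quotient.mk I)))).unit.app F).hom.app (op (EtCoh.top (Spec (CommRingCat.of A))))) := by
  haveI : IsClosedImmersion (Spec.map (CommRingCat.ofHom (Ideal.Quotient.mk I))) := IsClosedImmersion.spec_of_surjective _ Ideal.Quotient.mk_surjective
  refine Groth.L27.H0Proper.bijective_of_range I (𝟙 (Spec (CommRingCat.of A))) _ ?_ F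
  rw [Groth.L27.HenselProper.range_ι]
  exact Set.preimage_id.symm

end Groth.Agent.S0122
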