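import Groth.Statements.S0121
import Groth.Agent.L27.AffineEfface.Effacement
import Groth.Agent.S0122

set_option autoImplicit false
set_option linter.style.haveILetI false
set_option backward.isDefEq.respectTransparency.types false
universe u
open CategoryTheory CategoryTheory.Limits AlgebraicGeometry Opposite
open EtPBC

namespace Groth.Agent.S0121

/-- For a henselian pair (A, I) (Mathlib's HenselianRing A I) with i the closed immersion of Spec (A/I),
and F a torsion abelian sheaf on Spec A, the map H^q(Spec A, F) -> H^q(Spec A, i_* i^* F) induced by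
the unit F -> i_* i^* F is bijective for every q. The source states the target as H^q(Spec (A/I),
i^* F); the two agree because i_* is exact with vanishing higher direct images for a closed
immersion, so this is the same comparison phrased on Spec A. -/
theorem result (A : Type u) [CommRing A] (I : Ideal A) [HenselianRing A I]
    [EtCoh.BCCont (Spec.map (CommRingCat.ofHom (Ideal.Quotient.mk I)))]
    (F : EtCoh.Ab (Spec (CommRingCat.of A))) (hF : EtCoh.IsTorsion F) (q : ℕ) :
    Function.Bijective
      (Sheaf.H.map ((EtCoh.pullPushAdj (Spec.map (CommRingCat.ofHom (Ideal.Quotient.mk I)))).unit.app F) q) := by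
  haveI : IsClosedImmersion (Spec.map (CommRingCat.ofHom (Ideal.Quotient.mk I))) := IsClosedImmersion.spec_of_surjective _ Ideal.Quotient.mk_surjective
  refine Groth.L27.AffineEfface.bijective_map_unit (Spec.map (CommRingCat.ofHom (Ideal.Quotient.mk I))) (fun G => ?_) F hF q
  have hT := EtCore.topIsTerminal (Spec (CommRingCat.of A))
  let φ := (EtCoh.pullPushAdj (Spec.map (CommRingCat.ofHom (Ideal.Quotient.mk I)))).unit.app G
  have h : (Sheaf.H.equiv₀ _ hT ∘ Sheaf.H.map φ 0 : Sheaf.H G 0 → _) = φ.hom.app (op (EtCoh.top _)) ∘ Sheaf.H.equiv₀ G hT :=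
    funext fun e => Sheaf.H.equiv₀_naturality hT φ e |>.symm
  exact (Function.Bijective.of_comp_iff' (Sheaf.H.equiv₀ _ hT).bijective _).1 (h ▸ (Groth.Agent.S0122.result A I G).comp (Sheaf.H.equiv₀ G hT).bijective)

end Groth.Agent.S0121
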