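import Groth.Statements.S17971
import Groth.Agent.L27.HenselClopen

set_option autoImplicit false
open CategoryTheory CategoryTheory.Limits AlgebraicGeometry
universe u
open Hensel

namespace Groth.Agent.S17971

/-- For a commutative ring A and an ideal I, the pair (A, I) is henselian if and only if the couple
(Spec A, Spec (A/I)) is henselian, i.e. if and only if for every finite morphism g : Y ⟶ Spec A
every open-closed subset of Y ×_{Spec A} Spec (A/I) is the inverse image under the first projection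
of exactly one open-closed subset of Y. -/
theorem result (A : Type u) [CommRing A] (I : Ideal A) :
    HenselianRing A I ↔
    ∀ (Y : Scheme.{u}) (g : Y ⟶ Spec (CommRingCat.of A)), IsFinite g →
      ∀ V : Set ↥(pullback g (Spec.map (CommRingCat.ofHom (Ideal.Quotient.mk I)))), IsClopen V →
        ∃! U : Set ↥Y, IsClopen U ∧ (pullback.fst g (Spec.map (CommRingCat.ofHom (Ideal.Quotient.mk I)))).base ⁻¹' U = V := by
  refine ⟨fun h Y g hg V hV => ?_, fun H => ?_⟩
  · haveI := h
    exact Groth.L27.ClopenLift.clopen_lift I Y g hg V hV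
  refine Groth.L05.henselianRing_of_idem_bijOn I fun B _ _ hB => ?_
  haveI := hB
  set J := I.map (algebraMap A B)
  let g : Spec (CommRingCat.of B) ⟶ Spec (CommRingCat.of A) := Spec.map (CommRingCat.ofHom (algebraMap A B))
  let ι := Spec.map (CommRingCat.ofHom (Ideal.Quotient.mk I))
  haveI hg : IsFinite g := (IsFinite.SpecMap_iff _).mpr (RingHom.finite_algebraMap.mpr hB)
  let e := (Algebra.TensorProduct.quotIdealMapEquivTensorQuot (A := A) B I).toRingEquiv
  let θ : Spec (CommRingCat.of (B ⧸ J)) ≅ pullback g ι :=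
    (Scheme.Spec.mapIso e.toCommRingCatIso.op).symm ≪≫ (pullbackSpecIso A B (A ⧸ I)).symm
  have hθ : θ.hom ≫ pullback.fst g ι = Spec.map (CommRingCat.ofHom (Ideal.Quotient.mk J)) := by
    have h := pullbackSpecIso_inv_fst A B (A ⧸ I)
    show (Spec.map (CommRingCat.ofHom e.symm.toRingHom) ≫ (pullbackSpecIso A B (A ⧸ I)).inv) ≫ _ = _
    rw [Category.assoc]
    refine (congrArg (fun k => _ ≫ k) h).trans ?_
    rw [← Spec.map_comp]
    congr 1
    ext c
    show e.symm (c ⊗ₜ[A] 1) = Ideal.Quotient.mk _ c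
    rw [RingEquiv.symm_apply_eq]
    exact (Algebra.TensorProduct.quotIdealMapEquivTensorQuot_mk _ _ c).symm
  have hpt : ∀ x : Spec (CommRingCat.of (B ⧸ J)),
      pullback.fst g ι (θ.hom x) = PrimeSpectrum.comap (Ideal.Quotient.mk J) x :=
    fun x => congrArg (fun f : Spec (CommRingCat.of (B ⧸ J)) ⟶ Spec (CommRingCat.of B) => f x) hθ
  have hθs : Function.Surjective θ.hom := θ.hom.surjective
  have hclopen : ∀ {C : Type u} [CommRing C] {d : C}, IsIdempotentElem d →
      IsClopen (PrimeSpectrum.basicOpen d : Set (PrimeSpectrum C)) := fun {C} _ {d} hd =>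
    PrimeSpectrum.isClopen_basicOpen_of_mul_add d (1 - d) (by rw [mul_sub, mul_one, hd.eq, sub_self])
      (add_sub_cancel d 1)
  let V : B ⧸ J → Set ↥(pullback g ι) := fun z =>
    θ.inv.base ⁻¹' (PrimeSpectrum.basicOpen z : Set (PrimeSpectrum (B ⧸ J)))
  have hVθ : ∀ (z : B ⧸ J) (x : Spec (CommRingCat.of (B ⧸ J))),
      θ.hom x ∈ V z ↔ x ∈ (PrimeSpectrum.basicOpen z : Set (PrimeSpectrum (B ⧸ J))) := fun z x => by
    show θ.inv (θ.hom x) ∈ (PrimeSpectrum.basicOpen z : Set (PrimeSpectrum (B ⧸ J))) ↔ x ∈ (PrimeSpectrum.basicOpen z : Set (PrimeSpectrum (B ⧸ J)))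
    rw [show θ.inv (θ.hom x) = x from
      congrArg (fun f : Spec (CommRingCat.of (B ⧸ J)) ⟶ Spec (CommRingCat.of (B ⧸ J)) => f x) θ.hom_inv_id]
  have hpre : ∀ d : B, (pullback.fst g ι).base ⁻¹' (PrimeSpectrum.basicOpen d : Set (PrimeSpectrum B)) =
      V (Ideal.Quotient.mk J d) := fun d => by
    ext y
    obtain ⟨x, rfl⟩ := hθs y
    rw [hVθ]
    show pullback.fst g ι (θ.hom x) ∈ PrimeSpectrum.basicOpen d ↔ _
    rw [hpt]
    rfl
  refine ⟨fun d hd => hd.map _, fun d hd d' hd' hdd => ?_, fun z hz => ?_⟩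
  · have hVc : IsClopen (V (Ideal.Quotient.mk J d)) := (hclopen (hd.map _)).preimage θ.inv.continuous
    obtain ⟨U, -, hu⟩ := H _ g hg _ hVc
    apply PrimeSpectrum.basicOpen_injOn_isIdempotentElem hd hd'
    exact SetLike.coe_injective ((hu _ ⟨hclopen hd, hpre d⟩).trans
      (hu _ ⟨hclopen hd', (hpre d').trans (by rw [hdd])⟩).symm)
  · have hVc : IsClopen (V z) := (hclopen hz).preimage θ.inv.continuous
    obtain ⟨U, ⟨hU, hUV⟩, -⟩ := H _ g hg _ hVc
    obtain ⟨d, hd, hdU⟩ := PrimeSpectrum.exists_idempotent_basicOpen_eq_of_isClopen (R := B) hU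
    refine ⟨d, hd, PrimeSpectrum.basicOpen_injOn_isIdempotentElem (hd.map _) hz (SetLike.ext fun x => ?_)⟩
    have h1 := Set.ext_iff.mp hUV (θ.hom x)
    rw [hVθ] at h1
    refine Iff.trans ?_ h1
    rw [Set.mem_preimage]
    refine Iff.trans ?_ (Set.ext_iff.mp hdU _).symm
    show _ ↔ pullback.fst g ι (θ.hom x) ∈ PrimeSpectrum.basicOpen d
    rw [hpt]
    rfl

end Groth.Agent.S17971
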