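import Groth.Statements.S3513
import Groth.Agent.L28.AcyComp.Basic

set_option autoImplicit false
universe u
open CategoryTheory CategoryTheory.Limits AlgebraicGeometry Opposite
open EtAcyc

namespace Groth.Agent.S3513

set_option backward.isDefEq.respectTransparency.types false


/-- Last assertion, abelian and sets cases: let g : X → Y and h : Y → Z be morphisms of schemes, L a set
of primes and n a natural number. If g is n-acyclic for L, then h is n-acyclic for L if and only if
g ≫ h is; if g is 0-acyclic, then h is 0-acyclic if and only if g ≫ h is. -/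
theorem result {X Y Z : Scheme.{u}} (g : X ⟶ Y) (h : Y ⟶ Z) (L : Set ℕ) (n : ℕ) :
    (EtAcyc.IsAcyclicN g L n → (EtAcyc.IsAcyclicN h L n ↔ EtAcyc.IsAcyclicN (g ≫ h) L n)) ∧
      (EtAcyc.IsZeroAcyclic g → (EtAcyc.IsZeroAcyclic h ↔ EtAcyc.IsZeroAcyclic (g ≫ h))) := by
  have key : ∀ V : Z.Etale,
      EtAcyc.prj g ((EtCoh.bc h).obj V) ≫ EtAcyc.prj h V =
        (pullbackLeftPullbackSndIso V.hom h g).hom ≫ EtAcyc.prj (g ≫ h) V :=
    fun V => (pullbackLeftPullbackSndIso_hom_fst V.hom h g).symm
  refine ⟨fun hg => forall_congr' fun V => ?_, fun hg => forall_congr' fun V => ?_⟩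
  · exact (Groth.L28.AcyComp.compN_comp_iff _ _ (key V) (hg ((EtCoh.bc h).obj V))).trans
      (Groth.L28.AcyComp.compN_comp_iff _ _ rfl (Groth.L28.AcyComp.compN_of_isIso _ L n)).symm
  · exact forall_congr' fun F =>
      (Groth.L28.AcyComp.isIso_unitSh_comp_iff _ _ (key V) (fun H => hg ((EtCoh.bc h).obj V) H) F).trans
        (Groth.L28.AcyComp.isIso_unitSh_comp_iff _ _ rfl
          (fun H => Groth.L28.AcyComp.isIso_unitSh _ H) F).symm

end Groth.Agent.S3513
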