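import Groth.Statements.S6666
import Groth.Agent.L18.KerReduced
import Mathlib.AlgebraicGeometry.AffineTransitionLimit
-- import your own Groth.Agent.* helpers here

set_option autoImplicit false
universe u
open CategoryTheory AlgebraicGeometry
open Lim

namespace Groth.Agent.S6666

/-- Let T be a nonempty quasi-compact quasi-separated scheme and P a property of schemes over T (applied
to quasi-compact quasi-separated ones). Assume: (1) for every thickening T'' → T' (a surjective
closed immersion) of quasi-compact quasi-separated schemes over T, P(T'') if and only if P(T'); (2)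
if a scheme T' over T is a limit (in schemes over T) of a cofiltered system of quasi-compact
quasi-separated schemes over T with affine transition morphisms and P holds for every member, then
P(T'); (3) if T' is quasi-compact quasi-separated over T with P(T') and Z ⊂ T' is a closed subscheme
whose open complement V is quasi-compact, then P(V) or P(Z). Then P(T) implies P(Spec K → T) for
some field K and some morphism Spec K → T. (The published statement does not require T nonempty; for
T empty and P identically true there is no morphism from the spectrum of a field to T, so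
nonemptiness is assumed here.) -/
theorem result (T : Scheme.{u}) [CompactSpace T] [QuasiSeparatedSpace T]
    [Nonempty T] (P : ∀ ⦃T' : Scheme.{u}⦄, (T' ⟶ T) → Prop)
    (h1 : ∀ ⦃T' T'' : Scheme.{u}⦄ (a : T' ⟶ T) (t : T'' ⟶ T') [IsClosedImmersion t] [Surjective t]
      [CompactSpace T'] [QuasiSeparatedSpace T'] [CompactSpace T''] [QuasiSeparatedSpace T''], P (t ≫ a) ↔ P a)
    (h2 : ∀ ⦃I : Type u⦄ [SmallCategory I] [IsCofiltered I] (D : I ⥤ Over T) (c : Limits.Cone D) (_ : Limits.IsLimit c),
      (∀ (i j : I) (m : i ⟶ j), IsAffineHom (D.map m).left) →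
      (∀ i, CompactSpace (D.obj i).left ∧ QuasiSeparatedSpace (D.obj i).left) →
      (∀ i, P (D.obj i).hom) → P c.pt.hom)
    (h3 : ∀ ⦃T' Z V : Scheme.{u}⦄ (a : T' ⟶ T) [CompactSpace T'] [QuasiSeparatedSpace T'] (i : Z ⟶ T') [IsClosedImmersion i]
      (j : V ⟶ T') [IsOpenImmersion j] [CompactSpace V], Set.range j = (Set.range i)ᶜ → P a → P (j ≫ a) ∨ P (i ≫ a))
    (hT : P (𝟙 T)) :
    ∃ (K : Type u) (_ : Field K) (t : Spec (CommRingCat.of K) ⟶ T), P t := by
  obtain ⟨I, hI, hmax⟩ : ∃ I : T.IdealSheafData, (I ≠ ⊤ ∧ P I.subschemeι) ∧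
      ∀ J : T.IdealSheafData, J ≠ ⊤ → P J.subschemeι → I ≤ J → J = I := by
    let 𝒮 : Set T.IdealSheafData := {I | I ≠ ⊤ ∧ P I.subschemeι}
    have hbot : (⊥ : T.IdealSheafData) ∈ 𝒮 := by
      refine ⟨fun h => ?_, ?_⟩
      · have : (⊤ : TopologicalSpace.Closeds T) = ⊥ := by
          rw [← Scheme.IdealSheafData.support_bot, h, Scheme.IdealSheafData.support_top]
        exact Set.univ_nonempty.ne_empty (congrArg (fun C : TopologicalSpace.Closeds T => (C : Set T)) this)
      · have : Surjective (⊥ : T.IdealSheafData).subschemeι := ⟨Set.range_eq_univ.1 (by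
          rw [Scheme.IdealSheafData.range_subschemeι, Scheme.IdealSheafData.support_bot]; rfl)⟩
        haveI : CompactSpace (⊥ : T.IdealSheafData).subscheme :=
          QuasiCompact.compactSpace_of_compactSpace (⊥ : T.IdealSheafData).subschemeι
        haveI : QuasiSeparatedSpace (⊥ : T.IdealSheafData).subscheme :=
          quasiSeparatedSpace_of_quasiSeparated (⊥ : T.IdealSheafData).subschemeι
        simpa using (h1 (𝟙 T) (⊥ : T.IdealSheafData).subschemeι).2 hT
    have ih : ∀ c ⊆ 𝒮, IsChain (· ≤ ·) c → ∀ y ∈ c, ∃ ub ∈ 𝒮, ∀ z ∈ c, z ≤ ub := by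
      intro c hc hch y hy
      haveI : Nonempty c := ⟨⟨y, hy⟩⟩
      haveI : IsDirectedOrder c := ⟨fun i j => by
        obtain h | h := hch.total i.2 j.2
        exacts [⟨j, h, le_rfl⟩, ⟨i, le_rfl, h⟩]⟩
      refine ⟨⨆ i : c, i.1, ⟨fun htop => ?_, ?_⟩, fun z hz => le_iSup (fun i : c => i.1) ⟨z, hz⟩⟩
      · have h := IsCompact.nonempty_iInter_of_directed_nonempty_isCompact_isClosed (fun i : c => (i.1.support : Set T))
          (fun i j => by
            obtain ⟨k, hik, hjk⟩ := directed_of (· ≤ ·) i j
            exact ⟨k, Scheme.IdealSheafData.support_antitone hik, Scheme.IdealSheafData.support_antitone hjk⟩)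
          (fun i => Set.nonempty_iff_ne_empty.2 fun he => (hc i.2).1
            ((Scheme.IdealSheafData.support_eq_bot_iff _).1 (TopologicalSpace.Closeds.ext he)))
          (fun i => i.1.support.isClosed.isCompact) (fun i => i.1.support.isClosed)
        have e : ((⨆ i : c, i.1).support : Set T) = ⋂ i : c, (i.1.support : Set T) := by simp
        rw [← e, htop, Scheme.IdealSheafData.support_top] at h
        exact Set.not_nonempty_empty h
      · let D : cᵒᵖ ⥤ Over T :=
          { obj := fun i => Over.mk i.unop.1.subschemeι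
            map := fun {i j} m => Over.homMk (Scheme.IdealSheafData.inclusion (leOfHom m.unop)) (Scheme.IdealSheafData.inclusion_subschemeι _)
            map_id := fun i => Over.OverMorphism.ext ((cancel_mono i.unop.1.subschemeι).1 (by
              simp only [Over.homMk_left, Scheme.IdealSheafData.inclusion_subschemeι]
              exact (Category.id_comp _).symm))
            map_comp := fun {i j k} m n => Over.OverMorphism.ext ((cancel_mono k.unop.1.subschemeι).1 (by
              simp only [Over.comp_left, Over.homMk_left]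
              rw [Scheme.IdealSheafData.inclusion_subschemeι]
              refine ((Category.assoc _ _ _).trans ?_).symm
              exact (congrArg (_ ≫ ·) (Scheme.IdealSheafData.inclusion_subschemeι _)).trans (Scheme.IdealSheafData.inclusion_subschemeι _))) }
        let cn : Limits.Cone D :=
          { pt := Over.mk (⨆ i : c, i.1).subschemeι
            π :=
              { app := fun i => Over.homMk (Scheme.IdealSheafData.inclusion (le_iSup (fun i : c => i.1) i.unop))
                  (Scheme.IdealSheafData.inclusion_subschemeι _)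
                naturality := fun i j m => Over.OverMorphism.ext ((cancel_mono j.unop.1.subschemeι).1 (by simp [D])) } }
        refine h2 D cn ?_ (fun i j m => ?_) (fun i => ?_) (fun i => (hc i.unop.2).2)
        · exact
            { lift := fun s => Over.homMk (IsClosedImmersion.lift (⨆ i : c, i.1).subschemeι s.pt.hom (by
                  rw [Scheme.IdealSheafData.ker_subschemeι]
                  refine iSup_le fun i => ?_
                  conv_lhs => rw [← i.1.ker_subschemeι]
                  exact le_of_le_of_eq (Scheme.Hom.le_ker_comp (s.π.app (Opposite.op i)).left _)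
                    (congrArg (fun k : s.pt.left ⟶ T => Scheme.Hom.ker k) (Over.w (s.π.app (Opposite.op i)))))) (IsClosedImmersion.lift_fac _ _ _)
              fac := fun s i => Over.OverMorphism.ext ((cancel_mono i.unop.1.subschemeι).1 (by
                  have := Over.w (s.π.app i)
                  simp [cn, D] at this ⊢
                  exact this.symm))
              uniq := fun s m _ => Over.OverMorphism.ext ((cancel_mono (⨆ i : c, i.1).subschemeι).1 (by
                  simpa [cn] using Over.w m)) }
        · show IsAffineHom (Scheme.IdealSheafData.inclusion (leOfHom m.unop))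
          have : IsClosedImmersion (Scheme.IdealSheafData.inclusion (leOfHom m.unop) ≫ j.unop.1.subschemeι) := by
            simp only [Scheme.IdealSheafData.inclusion_subschemeι]; infer_instance
          haveI := IsClosedImmersion.of_comp (Scheme.IdealSheafData.inclusion (leOfHom m.unop)) j.unop.1.subschemeι
          infer_instance
        · exact ⟨QuasiCompact.compactSpace_of_compactSpace i.unop.1.subschemeι,
            quasiSeparatedSpace_of_quasiSeparated i.unop.1.subschemeι⟩
    obtain ⟨I, -, hI⟩ := zorn_le_nonempty₀ 𝒮 ih ⊥ hbot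
    exact ⟨I, hI.1, fun J hJ hP hle => (hI.2 ⟨hJ, hP⟩ hle).antisymm hle⟩
  let Z := I.subscheme
  let a : Z ⟶ T := I.subschemeι
  haveI : CompactSpace Z := QuasiCompact.compactSpace_of_compactSpace a
  haveI : QuasiSeparatedSpace Z := quasiSeparatedSpace_of_quasiSeparated a
  have hmin : ∀ {W : Scheme.{u}} (i : W ⟶ Z) [IsClosedImmersion i] [Nonempty W], P (i ≫ a) → IsIso i := by
    intro W i _ _ hP
    haveI : CompactSpace W := QuasiCompact.compactSpace_of_compactSpace i
    haveI : QuasiSeparatedSpace W := quasiSeparatedSpace_of_quasiSeparated i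
    haveI : IsClosedImmersion (i ≫ a) := inferInstance
    haveI : CompactSpace (i ≫ a).ker.subscheme := QuasiCompact.compactSpace_of_compactSpace (i ≫ a).ker.subschemeι
    haveI : QuasiSeparatedSpace (i ≫ a).ker.subscheme := quasiSeparatedSpace_of_quasiSeparated (i ≫ a).ker.subschemeι
    have hne : (i ≫ a).ker ≠ ⊤ := fun h => IsEmpty.false (self := ((i ≫ a).ker_eq_top_iff_isEmpty).1 h) (Classical.arbitrary W)
    have hK : P (i ≫ a).ker.subschemeι := (h1 (i ≫ a).imageι (i ≫ a).toImage).1 (by
      rw [Scheme.Hom.toImage_imageι]; exact hP)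
    have := hmax _ hne hK (by
      conv_lhs => rw [← I.ker_subschemeι]
      exact Scheme.Hom.le_ker_comp _ _)
    exact IsClosedImmersion.isIso_of_ker_eq (i ≫ a) a i rfl (this.trans I.ker_subschemeι.symm)
  haveI : Nonempty Z := by
    refine not_isEmpty_iff.1 fun h => hI.1 ?_
    rw [← I.ker_subschemeι]
    exact a.ker_eq_top_iff_isEmpty.2 h
  haveI : IsReduced Z := by
    let J := Z.nilradical
    haveI hJ : IsReduced J.subscheme := by
      show IsReduced Z.nilradical.subscheme
      rw [← Scheme.IdealSheafData.vanishingIdeal_top]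
      exact Groth.L18.isReduced_vanishingIdeal_subscheme _
    haveI : Surjective J.subschemeι := ⟨Set.range_eq_univ.1 (by
      rw [Scheme.IdealSheafData.range_subschemeι]; rfl)⟩
    haveI : CompactSpace J.subscheme := QuasiCompact.compactSpace_of_compactSpace J.subschemeι
    haveI : QuasiSeparatedSpace J.subscheme := quasiSeparatedSpace_of_quasiSeparated J.subschemeι
    haveI : Nonempty J.subscheme := ⟨(J.subschemeι.surjective (Classical.arbitrary Z)).choose⟩
    haveI := hmin J.subschemeι ((h1 a J.subschemeι).2 hI.2)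
    exact isReduced_of_isOpenImmersion (inv J.subschemeι)
  obtain ⟨η, hη⟩ := QuasiSober.sober (isIrreducible_irreducibleComponent (x := Classical.arbitrary Z))
    isClosed_irreducibleComponent
  have hfield := isField_stalk_of_closure_mem_irreducibleComponents Z η
    (hη ▸ irreducibleComponent_mem_irreducibleComponents _)
  have hopen : ∀ V : Z.Opens, IsAffineOpen V → η ∈ V → P (V.ι ≫ a) := by
    intro V hV hηV
    haveI : CompactSpace V := isCompact_iff_compactSpace.1 hV.isCompact
    let C : TopologicalSpace.Closeds Z := ⟨(V : Set Z)ᶜ, V.isOpen.isClosed_compl⟩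
    let J := Scheme.IdealSheafData.vanishingIdeal C
    have hJ : Set.range J.subschemeι = (V : Set Z)ᶜ := by
      rw [Scheme.IdealSheafData.range_subschemeι]; rfl
    obtain h | h := h3 a J.subschemeι V.ι (by rw [hJ, compl_compl, Scheme.Opens.range_ι]) hI.2
    · exact h
    · obtain he | hne := isEmpty_or_nonempty J.subscheme
      · have hV' : (V : Set Z) = Set.univ := by rw [← Set.compl_empty_iff, ← hJ]; exact Set.range_eq_empty _
        haveI : Surjective V.ι := ⟨Set.range_eq_univ.1 (by rw [Scheme.Opens.range_ι, hV'])⟩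
        haveI : IsIso V.ι := by rw [isIso_iff_isOpenImmersion_and_epi_base]; exact ⟨inferInstance, (TopCat.epi_iff_surjective _).2 V.ι.surjective⟩
        haveI : QuasiSeparatedSpace V := quasiSeparatedSpace_of_quasiSeparated V.ι
        exact (h1 a V.ι).2 hI.2
      · haveI := hmin J.subschemeι h
        have : η ∈ Set.range J.subschemeι := J.subschemeι.homeomorph.surjective η
        rw [hJ] at this
        exact absurd hηV this
  let ι' := {U : Z.Opens // IsAffineOpen U ∧ η ∈ U}
  have hbasis : ∀ U : Z.Opens, η ∈ U → ∃ V : ι', V.1 ≤ U := fun U hU => by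
    obtain ⟨V, hV, hηV, hVU⟩ := exists_isAffineOpen_mem_and_subset hU
    exact ⟨⟨V, hV, hηV⟩, hVU⟩
  haveI : Nonempty ι' := ⟨(hbasis ⊤ trivial).choose⟩
  haveI : IsCodirectedOrder ι' := ⟨fun U V => by
    obtain ⟨W, hW⟩ := hbasis (U.1 ⊓ V.1) ⟨U.2.2, V.2.2⟩
    exact ⟨W, hW.trans inf_le_left, hW.trans inf_le_right⟩⟩
  let D : ι' ⥤ Over T :=
    { obj := fun U => Over.mk (U.1.ι ≫ a)
      map := fun {U V} m => Over.homMk (Z.homOfLE (leOfHom m)) (by simp)
      map_id := fun U => Over.OverMorphism.ext ((cancel_mono U.1.ι).1 (by simp))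
      map_comp := fun {U V W} m n => Over.OverMorphism.ext ((cancel_mono W.1.ι).1 (by simp)) }
  let g := Z.fromSpecStalk η
  have hg : ∀ U : ι', Set.range g ⊆ Set.range U.1.ι := fun U => by
    rw [Scheme.range_fromSpecStalk, Scheme.Opens.range_ι]
    exact fun y hy => Specializes.mem_open hy U.1.isOpen U.2.2
  let cn : Limits.Cone D :=
    { pt := Over.mk (g ≫ a)
      π :=
        { app := fun U => Over.homMk (IsOpenImmersion.lift U.1.ι g (hg U)) (by
            show _ ≫ U.1.ι ≫ a = g ≫ a
            rw [IsOpenImmersion.lift_fac_assoc])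
          naturality := fun U V m => Over.OverMorphism.ext ((cancel_mono V.1.ι).1 (by simp [D])) } }
  have hlift : ∀ s : Limits.Cone D, ∃ r : s.pt.left ⟶ Spec (Z.presheaf.stalk η),
      ∀ U : ι', r ≫ g = (s.π.app U).left ≫ U.1.ι := by
    intro s
    let q : ∀ U : ι', s.pt.left ⟶ U.1 := fun U => (s.π.app U).left
    have hq : ∀ {U V : ι'} (h : U.1 ≤ V.1), q V = q U ≫ Z.homOfLE h := fun {U V} h =>
      congrArg (fun f => f.left) (s.w (homOfLE h : U ⟶ V)).symm
    obtain ⟨U₀, -⟩ := hbasis ⊤ trivial
    let ψ : Γ(Z, U₀.1) ⟶ Γ(s.pt.left, ⊤) := U₀.1.topIso.inv ≫ (q U₀).appTop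
    letI := (Z.presheaf.germ U₀.1 η U₀.2.2).hom.toAlgebra
    haveI := U₀.2.1.isLocalization_stalk ⟨η, U₀.2.2⟩
    have hψ : ∀ f : (U₀.2.1.primeIdealOf ⟨η, U₀.2.2⟩).asIdeal.primeCompl, IsUnit (ψ.hom f) := by
      rintro ⟨f, hf⟩
      have hηf : η ∈ Z.basicOpen f := by
        rw [Scheme.mem_basicOpen _ _ _ U₀.2.2]
        exact IsLocalization.map_units (Z.presheaf.stalk η) (⟨f, hf⟩ : (U₀.2.1.primeIdealOf ⟨η, U₀.2.2⟩).asIdeal.primeCompl)
      let V : ι' := ⟨Z.basicOpen f, U₀.2.1.basicOpen f, hηf⟩
      have hle : V.1 ≤ U₀.1 := Z.basicOpen_le f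
      have e : ψ = Z.presheaf.map (homOfLE hle).op ≫ V.1.topIso.inv ≫ (q V).appTop := by
        simp only [ψ, hq hle, Scheme.Hom.comp_appTop]
        simp [← Category.assoc, Scheme.Opens.topIso_inv, ← Functor.map_comp]
        congr 1
        exact (Z.presheaf.map_comp _ _).symm.trans
          ((congrArg Z.presheaf.map (Subsingleton.elim _ _)).trans (Z.presheaf.map_comp _ _))
      show IsUnit (ψ.hom f)
      rw [e]
      exact (Z.toRingedSpace.isUnit_res_basicOpen f).map (V.1.topIso.inv ≫ (q V).appTop).hom
    let φ : Z.presheaf.stalk η ⟶ Γ(s.pt.left, ⊤) := CommRingCat.ofHom (IsLocalization.lift (S := ↑(Z.presheaf.stalk η)) hψ)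
    refine ⟨s.pt.left.toSpecΓ ≫ Spec.map φ, fun U => ?_⟩
    have hφ : Z.presheaf.germ U₀.1 η U₀.2.2 ≫ φ = ψ :=
      CommRingCat.hom_ext (IsLocalization.lift_comp hψ)
    have h0 : (s.pt.left.toSpecΓ ≫ Spec.map φ) ≫ g = q U₀ ≫ U₀.1.ι := by
      rw [show g = U₀.2.1.fromSpecStalk U₀.2.2 from (U₀.2.1.fromSpecStalk_eq_fromSpecStalk U₀.2.2).symm,
        IsAffineOpen.fromSpecStalk, Category.assoc, ← Spec.map_comp_assoc, hφ, Spec.map_comp_assoc,
        ← Scheme.toSpecΓ_naturality_assoc, ← U₀.2.1.toSpecΓ_fromSpec]
      rfl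
    obtain ⟨W, hW⟩ := hbasis (U.1 ⊓ U₀.1) ⟨U.2.2, U₀.2.2⟩
    show _ = q U ≫ U.1.ι
    rw [h0, hq (hW.trans inf_le_right), hq (hW.trans inf_le_left)]
    simp [q]
  choose r hr using hlift
  have hlim : Limits.IsLimit cn :=
    { lift := fun s => Over.homMk (r s) (by
        obtain ⟨U⟩ := ‹Nonempty ι'›
        show r s ≫ g ≫ a = _
        rw [← Category.assoc, hr s U, Category.assoc]
        exact Over.w (s.π.app U))
      fac := fun s U => Over.OverMorphism.ext ((cancel_mono U.1.ι).1 (by
        show (r s ≫ IsOpenImmersion.lift U.1.ι g (hg U)) ≫ U.1.ι = _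
        rw [Category.assoc, IsOpenImmersion.lift_fac]; exact hr s U))
      uniq := fun s m hm => Over.OverMorphism.ext ((cancel_mono g).1 (by
        obtain ⟨U⟩ := ‹Nonempty ι'›
        show m.left ≫ g = r s ≫ g
        rw [hr s U, ← hm U]
        show _ = (m.left ≫ IsOpenImmersion.lift U.1.ι g (hg U)) ≫ U.1.ι
        rw [Category.assoc, IsOpenImmersion.lift_fac])) }
  letI := hfield.toField
  refine ⟨Z.presheaf.stalk η, inferInstance, g ≫ a, ?_⟩
  refine h2 D cn hlim (fun U V m => ?_) (fun U => ?_) (fun U => hopen U.1 U.2.1 U.2.2)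
  · show IsAffineHom (Z.homOfLE (leOfHom m))
    haveI : IsAffine U.1 := U.2.1
    haveI : IsAffine V.1 := V.2.1
    exact isAffineHom_of_isAffine (Z.homOfLE (leOfHom m))
  · haveI : IsAffine U.1 := U.2.1
    exact ⟨inferInstanceAs (CompactSpace U.1.toScheme), inferInstanceAs (QuasiSeparatedSpace U.1.toScheme)⟩

end Groth.Agent.S6666
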