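import Groth.Statements.S0754
import Groth.Agent.L05.Henselization.StrictUniq
import Groth.Agent.L27.IndEtalePerm
import Groth.Agent.L20.WeaklyEtale
import Groth.Agent.L23.FlatLift
-- import your own Groth.Agent.* helpers here

set_option autoImplicit false
open CategoryTheory CategoryTheory.Limits AlgebraicGeometry Opposite
universe u
open ProEtS

namespace Groth.Agent.S0754

/-- For a point x of a scheme X and a strict henselization R of the local ring of X at x, the canonical
morphism Spec R -> X is weakly etale, so that Spec R is an object of the small pro-etale site of X. -/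
theorem result (X : Scheme.{u}) (x : ↥X) (R : Type u) [CommRing R]
    [IsLocalRing R] [Algebra (X.presheaf.stalk x) R] [IsLocalHom (algebraMap (X.presheaf.stalk x) R)]
    [Hensel.IsStrictHenselization (X.presheaf.stalk x) R] :
    WeaklyEtale (Hens2.specOf X x R) := by
  have hw : Algebra.WeaklyEtale (X.presheaf.stalk x) R :=
    Groth.L27.IndEtale.weaklyEtale _ _
      (Groth.L05.Henselization.isIndEtale_of_isStrictHenselization _ R)
  haveI : WeaklyEtale (Spec.map (CommRingCat.ofHom (algebraMap (X.presheaf.stalk x) R))) :=
    (Groth.L20.weaklyEtale_specMap_iff _).mpr (by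
      convert hw using 1
      all_goals first | rfl | exact Algebra.algebra_ext _ _ fun _ => rfl)
  haveI : WeaklyEtale (X.fromSpecStalk x) :=
    { flat := Groth.L23.flat_fromSpecStalk x }
  exact inferInstanceAs (WeaklyEtale (_ ≫ _))

end Groth.Agent.S0754
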