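import Groth.Statements.S3241
import Groth.Agent.L28.DivGen.Components
import Groth.Agent.L28.DivGen.GmTorsion

set_option autoImplicit false
set_option backward.isDefEq.respectTransparency.types false
universe u
open CategoryTheory AlgebraicGeometry
open Dix

namespace Groth.Agent.S3241

/-- Let X be a noetherian scheme such that for every X' étale over X all local rings of X' are
factorial. Then the groups H^q(X_ét, G_m) are torsion for every q ≥ 2; in particular the
cohomological Brauer group H²(X_ét, G_m) is torsion. -/
theorem result (X : Scheme.{u}) [IsNoetherian X] (hfact : ∀ (U : X.Etale) (u : U.left), IsDomain (U.left.presheaf.stalk u) ∧ UniqueFactorizationMonoid (U.left.presheaf.stalk u)) (q : ℕ) (hq : 2 ≤ q) : IsAddTorsion (EtCoh.H X (EtCoh.Gm X) q) := by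
  obtain ⟨k, rfl⟩ : ∃ k, q = k + 2 := ⟨q - 2, by omega⟩
  have h : ∀ x : X, IsDomain (X.presheaf.stalk x) := fun x => (hfact (EtCoh.top X) x).1
  refine Groth.L28.DivGen.isAddTorsion_of_components h (k + 2) fun Z => ?_
  haveI := Groth.L28.DivGen.isIntegral_compOpen h Z
  haveI := Groth.L28.DivGen.isNoetherian_compOpen h Z
  exact Groth.L28.DivGen.isAddTorsion_H_Gm _ (Groth.L28.DivGen.fact_compOpen h hfact Z) k

end Groth.Agent.S3241
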