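import Groth.Statements.S3243
import Groth.Agent.L28.CurveCd.Torsion
import Groth.Agent.L27.NormalSepClosed.ConstSect

set_option autoImplicit false
set_option linter.style.haveILetI false
set_option backward.isDefEq.respectTransparency.types false
universe u
open CategoryTheory CategoryTheory.Limits AlgebraicGeometry Opposite
open Dix
open Groth.L27.ConstSect

namespace Groth.Agent.S3243

theorem subsingleton_field (K : Type u) [Field K] (A : AddCommGrpCat.{u + 1})
    (hA : ∀ (n : ℕ) (a : A), 0 < n → n • a = 0 → a = 0) :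
    Subsingleton (EtCoh.H (Spec (CommRingCat.of K)) ((constantSheaf _ AddCommGrpCat.{u + 1}).obj A) 1) := by
  let S := Spec (CommRingCat.of K)
  let F : EtCoh.Ab S := Groth.L27.ConstSect.K A S
  refine subsingleton_of_forall_eq 0 fun x => ?_
  obtain ⟨n, hn, hn0⟩ := isOfFinAddOrder_iff_nsmul_eq_zero.1 (Groth.L28.CurveCd.isAddTorsion_field K F 0 x)
  let f : F ⟶ F := n • 𝟙 F
  have happ : ∀ (U : S.Etale) (s : F.obj.obj (op U)), f.hom.app (op U) s = n • s := fun U s => by
    let e : (F ⟶ F) →+ F.obj.obj (op U) := AddMonoidHom.mk' (fun g => g.hom.app (op U) s) fun _ _ => rfl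
    exact map_nsmul e n (𝟙 F)
  haveI : Mono f := by
    haveI : Mono ((sheafToPresheaf _ _).map f) := (NatTrans.mono_iff_mono_app _).2 fun U => by
      refine (AddCommGrpCat.mono_iff_injective _).2 ((injective_iff_map_eq_zero _).2 fun s hs => ?_)
      refine Groth.L27.EtSite.ext_of_locally F fun u => ?_
      obtain ⟨W, g, w, a, hw, e⟩ := exists_locally_cst A (U := U.unop) s u
      haveI : Nonempty W.left := ⟨w⟩
      refine ⟨W, g, w, hw, ?_⟩
      rw [e, map_zero]
      have h0 : cst A W (n • a) = 0 := by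
        rw [map_nsmul, ← e, ← map_nsmul, show n • s = 0 from (happ U.unop s).symm.trans hs, map_zero]
      rw [hA n a hn (cst_injective A W (h0.trans (map_zero _).symm)), map_zero]
    exact (sheafToPresheaf _ _).mono_of_mono_map this
  let E : ShortComplex (EtCoh.Ab S) := ShortComplex.mk f (cokernel.π f) (cokernel.condition _)
  have hE : E.ShortExact :=
    { exact := ShortComplex.exact_of_g_is_cokernel _ (cokernelIsCokernel _)
      mono_f := inferInstanceAs (Mono f)
      epi_g := inferInstanceAs (Epi (cokernel.π f)) }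
  obtain ⟨y, hy⟩ := Groth.L27.LimCoh.exists_δH hE 0 x (by
    refine (Groth.L27.EtSite.HF_map_apply f 1 x).trans ?_
    let e : (F ⟶ F) →+ EtCoh.H S F 1 :=
      AddMonoidHom.mk' (fun g => x.comp (Abelian.Ext.mk₀ g) (add_zero 1)) fun p q => by
        rw [Abelian.Ext.mk₀_add, Abelian.Ext.comp_add]
    show e (n • 𝟙 F) = 0
    rw [map_nsmul]
    exact (congrArg (n • ·) (Abelian.Ext.comp_mk₀_id x)).trans hn0)
  let t : E.X₃.obj.obj (op (EtCoh.top S)) := Groth.L27.LimCoh.secEq _ y
  haveI : Sheaf.IsLocallySurjective E.g := (Sheaf.isLocallySurjective_iff_epi' AddCommGrpCat.{u + 1} E.g).2 hE.epi_g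
  obtain ⟨W₁, g₁, w₁, ⟨s, hs⟩, -⟩ := (Groth.L27.EtSite.mem_topology_iff _).1
    (Presheaf.imageSieve_mem S.smallEtaleTopology E.g.hom t) (default : PrimeSpectrum K)
  obtain ⟨W, g, w, a, -, e⟩ := exists_locally_cst A s w₁
  have ht : t = E.g.hom.app (op (EtCoh.top S)) (cst A (EtCoh.top S) a) := by
    refine Groth.L27.EtSite.ext_of_locally E.X₃ fun u => ⟨W, g ≫ g₁, w, Subsingleton.elim (α := PrimeSpectrum K) _ _, ?_⟩
    rw [op_comp, Functor.map_comp_apply, ← hs, ← NatTrans.naturality_apply, e, ← NatTrans.naturality_apply]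
    exact congrArg (E.g.hom.app (op W)) (map_cst A (g ≫ g₁) a).symm
  have hy' : y = (EtCoh.HF S 0).map E.g ((Groth.L27.LimCoh.secEq _).symm (cst A (EtCoh.top S) a)) := by
    refine (Groth.L27.LimCoh.secEq _).injective ?_
    rw [Groth.L27.LimCoh.secEq_map, AddEquiv.apply_symm_apply]
    exact ht
  rw [← hy, hy']
  exact Groth.L27.LimCoh.δH_map_g hE 0 _

/-- Let X be quasi-compact and quasi-separated, x a point of X and M a torsion-free abelian group, M_x
the constant sheaf on Spec κ(x). Then H¹(X_ét, i_{x*} M_x) = 0. -/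
theorem result (X : Scheme.{u}) [CompactSpace X] [QuasiSeparatedSpace X] (x : X) (M : Type) [AddCommGroup M] [IsAddTorsionFree M] : Subsingleton (EtCoh.H X ((Dix.skyPush X x).obj (EtCoh.const (Spec (X.residueField x)) M)) 1) := by
  haveI := Groth.L27.EtSite.preservesFiniteLimits_pull (X.fromSpecResidueField x)
  haveI := subsingleton_field (X.residueField x) (AddCommGrpCat.of (ULift.{u + 1} M)) fun n a hn ha => by
    refine ULift.ext _ _ ((nsmul_eq_zero_iff_right hn.ne').1 ?_)
    exact congrArg ULift.down ha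
  exact (Groth.L28.GmH1.injective_HofPush_one (X.fromSpecResidueField x) _).subsingleton

end Groth.Agent.S3243
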