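import Groth.Statements.S0228
import Groth.Agent.L28.FieldCd.CdOne

set_option autoImplicit false
universe u
open CategoryTheory CategoryTheory.Limits AlgebraicGeometry
open Curves

namespace Groth.Agent.S0228

/-- Let K be a field such that every finite extension K' of K has trivial Brauer group: every
finite-dimensional central division algebra over K' is K' itself. Then for every q ≥ 1, H^q(Spec
K_ét, G_m) = 0. (This is the étale-site form of the vanishing of the Galois cohomology of (K^sep)^*
in positive degrees.) -/
theorem result (K : Type u) [Field K]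
    (hBr : ∀ (K' : Type u) [Field K'] [Algebra K K'] [FiniteDimensional K K']
      (D : Type u) [DivisionRing D] [Algebra K' D] [Algebra.IsCentral K' D] [FiniteDimensional K' D],
      Module.finrank K' D = 1)
    (q : ℕ) (hq : 1 ≤ q) :
    Subsingleton (EtCoh.H (Spec (CommRingCat.of K)) (EtCoh.Gm (Spec (CommRingCat.of K))) q) := by
  rcases Nat.lt_or_ge q 3 with hq3 | hq3
  · obtain rfl | rfl : q = 1 ∨ q = 2 := by omega
    · exact Groth.L28.EtTrace.subsingleton_gm_one K
    · exact Groth.L28.EtTrace.subsingleton_gm_two K (fun E _ _ _ D _ _ _ _ => hBr E D)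
  · refine subsingleton_of_forall_eq 0 fun x => Groth.L28.EtTrace.eq_zero_of_primary x
      (Groth.L28.EtTrace.isOfFinAddOrder_class K _ q (by omega) x) fun p hp y hy => ?_
    haveI := Fact.mk hp
    exact Groth.L28.EtTrace.eq_zero_of_cd p 1 (fun F hF => Groth.L28.FieldCd.cd_one p K (fun E _ _ _ _ _ =>
      Groth.L28.EtTrace.normSurj_of_brTrivial E (fun D _ _ _ _ => hBr E D) p) F hF) hp.pos _ q (by omega) y hy

end Groth.Agent.S0228
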