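import Groth.Statements.S0229
import Groth.Agent.L28.FieldCd.CdOne
import Groth.Agent.S0228
import Groth.Agent.S0212

set_option autoImplicit false
universe u
open CategoryTheory CategoryTheory.Limits AlgebraicGeometry
open Curves

namespace Groth.Agent.S0229

/-- For a field K of transcendence degree one over an algebraically closed field, G_m on the small étale
site of Spec K has no cohomology in positive degrees. -/
theorem result (k : Type u) [Field k] [IsAlgClosed k] (K : Type u) [Field K] [Algebra k K]
    (hK : Algebra.trdeg k K = 1) (q : ℕ) (hq : 1 ≤ q) :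
    Subsingleton (EtCoh.H (Spec (CommRingCat.of K)) (EtCoh.Gm (Spec (CommRingCat.of K))) q) := by
  refine Groth.Agent.S0228.result K (fun K' _ _ _ D _ _ _ _ => ?_) q hq
  letI : Algebra k K' := ((algebraMap K K').comp (algebraMap k K)).toAlgebra
  haveI : IsScalarTower k K K' := IsScalarTower.of_algebraMap_eq' rfl
  exact Groth.L28.EtTrace.brTrivial_of_isCi (Groth.Agent.S0212.result k K' 1 (by
    exact_mod_cast Groth.L28.EtTrace.trdeg_finite_ext k K hK K')) D

end Groth.Agent.S0229
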