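import Groth.Statements.S13621
import Groth.Agent.L28.AR.Iso

set_option autoImplicit false
open CategoryTheory CategoryTheory.Limits Opposite
universe v u
open ARSys

namespace Groth.Agent.S13621

/-- The inverse limit is a well-defined functor on projective systems up to translation. Concretely: in
an abelian category with limits of shape ℕᵒᵖ, a morphism u : X ⟶ Y of projective systems indexed by
the natural numbers whose kernel and cokernel are null up to translation induces an isomorphism lim
X ⟶ lim Y. (The published statement is the functoriality of lim on the category of systems up to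
translation; combined with the description of isomorphisms there as the morphisms with null kernel
and cokernel, this is the form stated.) -/
theorem result {C : Type u} [Category.{v} C] [Abelian C] [HasLimitsOfShape ℕᵒᵖ C]
    {X Y : ARSys.PS C} (u : X ⟶ Y) (hu : ARSys.IsARIso u) : IsIso (limMap u) := by
  obtain ⟨r, ψ, hψ⟩ := Groth.L28.AR.exists_isInv hu
  let c : Cone X :=
    { pt := limit Y
      π :=
        { app := fun n => limit.π Y (op (n.unop + r)) ≫ ψ n.unop
          naturality := fun n m f => by
            have h1 : ψ n.unop ≫ ARSys.tr X (leOfHom f.unop) =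
                ARSys.tr Y (Nat.add_le_add_right (leOfHom f.unop) r) ≫ ψ m.unop :=
              Groth.L28.Elt.hom_ext fun y => by
                rw [Groth.L28.Elt.ev_comp, Groth.L28.Elt.ev_comp]; exact hψ.2.2 _ _ (leOfHom f.unop) y
            show 𝟙 (limit Y) ≫ limit.π Y _ ≫ ψ m.unop = (limit.π Y _ ≫ ψ n.unop) ≫ ARSys.tr X (leOfHom f.unop)
            rw [Category.id_comp, Category.assoc, h1, limit.w_assoc] } }
  refine ⟨limit.lift X c, limit.hom_ext fun n => ?_, limit.hom_ext fun n => ?_⟩
  · obtain ⟨n⟩ := n
    rw [Category.assoc, limit.lift_π, Category.id_comp]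
    show limMap u ≫ limit.π Y (op (n + r)) ≫ ψ n = _
    rw [limMap_π_assoc, show u.app (op (n + r)) ≫ ψ n = ARSys.tr X (Nat.le_add_right n r) from
      Groth.L28.Elt.hom_ext fun x => by rw [Groth.L28.Elt.ev_comp]; exact hψ.1 n x]
    exact limit.w X _
  · obtain ⟨n⟩ := n
    rw [Category.assoc, limMap_π, limit.lift_π_assoc, Category.id_comp]
    show (limit.π Y (op (n + r)) ≫ ψ n) ≫ u.app (op n) = _
    rw [Category.assoc, show ψ n ≫ u.app (op n) = ARSys.tr Y (Nat.le_add_right n r) from
      Groth.L28.Elt.hom_ext fun x => by rw [Groth.L28.Elt.ev_comp]; exact hψ.2.1 n x]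
    exact limit.w Y _

end Groth.Agent.S13621
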