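import Groth.Statements.S1561
import Groth.Agent.L03.GeomReduced
import Groth.Agent.S9442
import Groth.Agent.S1549
-- import your own Groth.Agent.* helpers here

set_option autoImplicit false
universe u
open CategoryTheory CategoryTheory.Limits AlgebraicGeometry
open Variety

namespace Groth.Agent.S1561

/-- Let X be reduced and locally of finite type over a perfect field k. Then a point lies in the smooth
locus of X → Spec k exactly when its local ring is regular, and this locus is dense in X. -/
theorem result (k : Type u) [Field k] (X : Scheme.{u}) [X.Over (Spec (CommRingCat.of k))] [PerfectField k] [IsReduced X]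
    [LocallyOfFinitePresentation (X ↘ (Spec (CommRingCat.of k)))] :
    (∀ x : X, x ∈ (X ↘ (Spec (CommRingCat.of k))).smoothLocus ↔ IsRegularLocalRing (X.presheaf.stalk x)) ∧
      Dense ((X ↘ (Spec (CommRingCat.of k))).smoothLocus : Set X) := by
  let f := X ↘ Spec (CommRingCat.of k)
  haveI : LocallyOfFiniteType f := inferInstance
  refine ⟨fun x => ?_, ?_⟩
  · obtain ⟨V, hV, hxV, -⟩ := exists_isAffineOpen_mem_and_subset (X := X) (U := ⊤) (x := x) trivial
    let e : k ≃+* Γ(Spec (CommRingCat.of k), ⊤) := (Scheme.ΓSpecIso (CommRingCat.of k)).symm.commRingCatIsoToRingEquiv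
    rw [Scheme.Hom.mem_smoothLocus, formallySmooth_stalkMap_iff ⊤ (isAffineOpen_top _) V hV le_top hxV]
    have hft := f.finiteType_appLE (isAffineOpen_top _) hV (le_top : V ≤ f ⁻¹ᵁ ⊤)
    letI := (f.appLE ⊤ V le_top).hom.toAlgebra
    haveI : Algebra.FiniteType Γ(Spec (CommRingCat.of k), ⊤) Γ(X, V) := hft
    letI : Field Γ(Spec (CommRingCat.of k), ⊤) := (e.symm.toMulEquiv.isField (Field.toIsField k)).toField
    haveI : PerfectField Γ(Spec (CommRingCat.of k), ⊤) := PerfectField.of_ringEquiv e
    set q := (hV.primeIdealOf ⟨x, hxV⟩).asIdeal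
    letI := X.presheaf.algebra_section_stalk ⟨x, hxV⟩
    haveI := hV.isLocalization_stalk ⟨x, hxV⟩
    let ψ := (IsLocalization.algEquiv q.primeCompl (X.presheaf.stalk x) (Localization.AtPrime q)).toRingEquiv
    haveI : Algebra.EssFiniteType Γ(Spec (CommRingCat.of k), ⊤) (Γ(X, V) ⧸ q) := inferInstance
    haveI : Algebra.EssFiniteType (Γ(X, V) ⧸ q) q.ResidueField :=
      Algebra.EssFiniteType.of_isLocalization _ (nonZeroDivisors (Γ(X, V) ⧸ q))
    haveI : Algebra.EssFiniteType Γ(Spec (CommRingCat.of k), ⊤) q.ResidueField :=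
      Algebra.EssFiniteType.comp _ (Γ(X, V) ⧸ q) q.ResidueField
    haveI : Algebra.IsGeometricallyReduced Γ(Spec (CommRingCat.of k), ⊤) q.ResidueField :=
      (Groth.L03.GeomReduced.formallySmooth_iff _ q.ResidueField).1 (Algebra.FormallySmooth.of_perfectField)
    refine (Groth.Agent.S9442.result _ Γ(X, V) q).trans ⟨fun _ => ?_, fun _ => ?_⟩
    · exact IsRegularLocalRing.of_ringEquiv ψ.symm
    · exact IsRegularLocalRing.of_ringEquiv ψ
  · haveI : GeometricallyReduced f := Groth.Lead.GeomRedVariety.geometricallyReduced_of_forall f fun x =>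
      Groth.L07.GeomRedPerfect.isGeomReducedAt_of_perfect f x inferInstance
    obtain ⟨U, hU, hsm⟩ := (Groth.Agent.S1549.result k X).mp ‹GeometricallyReduced f›
    refine hU.mono fun x hx => ?_
    have h1 : U.ι ⁻¹ᵁ f.smoothLocus = ⊤ := by
      haveI : Smooth (U.ι ≫ f) := hsm
      rw [Scheme.Hom.preimage_smoothLocus_eq, Scheme.Hom.smoothLocus_eq_top]
    exact h1.ge (Set.mem_univ (⟨x, hx⟩ : U))

end Groth.Agent.S1561
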