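import Groth.Statements.S7282
import Groth.Agent.L27.Fppf.Limit
import Groth.Agent.L27.Fppf.ProEtPull

set_option autoImplicit false
open CategoryTheory CategoryTheory.Limits AlgebraicGeometry Opposite
universe u
open ProEtS

namespace Groth.Agent.S7282

/-- Let X be a scheme and F an abelian sheaf on the small etale site of X. Let (Y_i) be a cofiltered
system of objects of the small pro-etale site of X, each quasi-compact and quasi-separated, with
affine transition morphisms, and let Y be a cone over it which is a limit of the Y_i as schemes.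
Then the restriction maps exhibit the sections of the pro-etale pullback of F over Y as the colimit
of its sections over the Y_i. (Continuity of the inclusion of the etale site into the pro-etale site
is carried as a binder.) -/
theorem result (X : Scheme.{u}) [ProEtS.EpsCont X]
    {I : Type u} [SmallCategory I] [IsCofiltered I] (D : I ⥤ X.ProEt)
    [∀ (i j : I) (a : i ⟶ j), IsAffineHom (D.map a).left]
    [∀ i, CompactSpace ↥(D.obj i).left] [∀ i, QuasiSeparatedSpace ↥(D.obj i).left]
    (c : Cone D) (hc : IsLimit ((Scheme.ProEt.forget X ⋙ Over.forget X).mapCone c))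
    (F : EtCoh.Ab X) :
    Nonempty (IsColimit (((ProEtS.epsPull X).obj F).obj.mapCocone c.op)) := by
  haveI : ∀ (i j : I) (a : i ⟶ j), IsAffineHom ((D ⋙ Scheme.ProEt.forget X).map a).left :=
    fun i j a => inferInstanceAs (IsAffineHom (D.map a).left)
  haveI : ∀ i : I, CompactSpace ((D ⋙ Scheme.ProEt.forget X).obj i).left := fun i => inferInstanceAs (CompactSpace (D.obj i).left)
  haveI : ∀ i : I, QuasiSeparatedSpace ((D ⋙ Scheme.ProEt.forget X).obj i).left :=
    fun i => inferInstanceAs (QuasiSeparatedSpace (D.obj i).left)
  obtain ⟨h⟩ := Groth.L27.Fppf.Lim.nonempty_isColimit F (D ⋙ Scheme.ProEt.forget X)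
    ((Scheme.ProEt.forget X).mapCone c) hc
  haveI := Groth.L27.Fppf.isIso_tau F
  let ψ : (Groth.L27.Fppf.Gp F).obj ≅ ((ProEtS.epsPull X).obj F).obj :=
    (sheafToPresheaf _ _).mapIso (asIso (Groth.L27.Fppf.tau F)).symm
  have h' : IsColimit ((Groth.L27.Fppf.Gp F).obj.mapCocone c.op) := h
  exact ⟨IsColimit.mapCoconeEquiv ψ h'⟩

end Groth.Agent.S7282
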