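import Groth.Statements.S3618
import Groth.Agent.L29.BCAdj.AdjOpen
import Groth.Agent.L29.BC.PerfMorTor
import Groth.Agent.S1766

set_option autoImplicit false
set_option backward.defeqAttrib.useBackward true
set_option backward.isDefEq.respectTransparency false
set_option backward.isDefEq.respectTransparency.types false
set_option backward.isDefEq.respectTransparency false
universe u
open CategoryTheory CategoryTheory.Limits AlgebraicGeometry
attribute [local instance] HasDerivedCategory.standard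
open Dual3

namespace Groth.Agent.S3618

set_option maxHeartbeats 1600000

open Groth.L00 Groth.L29 Groth.L29.DC Groth.L29.BCAdj Groth.L29.BC.Paste

/-- flat base change of maps out of perfect objects, affine schemes -/
theorem bij_affine_perfect {Y Y' : Scheme.{u}} [IsAffine Y] [IsAffine Y'] (g : Y' ⟶ Y) [Flat g] [DCoh.HasRpush g]
    [DCoh.HasLpull g] :
    letI := g.appTop.hom.toAlgebra
    letI : Y.Over (Spec Γ(Y, ⊤)) := ⟨Y.isoSpec.hom⟩
    letI : Y'.Over (Spec Γ(Y', ⊤)) := ⟨Y'.isoSpec.hom⟩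
    ∀ (hL : SL (C := DCoh.D Y) (C' := DCoh.D Y') (algebraMap Γ(Y, ⊤) Γ(Y', ⊤)) (DCoh.Lpull g))
      [(DCoh.Lpull g).Additive] (N x : DCoh.D Y), DCoh.IsPerfect N → DCoh.IsQCohD x →
        Bij (DCoh.Lpull g) hL N x := by
  letI := g.appTop.hom.toAlgebra
  letI iY : Y.Over (Spec Γ(Y, ⊤)) := ⟨Y.isoSpec.hom⟩
  letI iY' : Y'.Over (Spec Γ(Y', ⊤)) := ⟨Y'.isoSpec.hom⟩
  intro hL _ N x hN hx
  haveI : Module.Flat Γ(Y, ⊤) Γ(Y', ⊤) :=
    RingHom.flat_algebraMap_iff.1 ((HasRingHomProperty.iff_of_isAffine (P := @Flat)).1 (inferInstance : Flat g))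
  haveI : IsIso (Y' ↘ Spec Γ(Y', ⊤)) := inferInstanceAs (IsIso Y'.isoSpec.hom)
  haveI : IsIso (Y ↘ Spec Γ(Y, ⊤)) := inferInstanceAs (IsIso Y.isoSpec.hom)
  have hc : IsPullback g (Y' ↘ Spec Γ(Y', ⊤)) (Y ↘ Spec Γ(Y, ⊤))
      (Spec.map (CommRingCat.ofHom (algebraMap Γ(Y, ⊤) Γ(Y', ⊤)))) :=
    IsPullback.of_vert_isIso ⟨(Scheme.isoSpec_hom_naturality g).symm⟩
  exact bij_perfect hc hL hN hx

/-- Consider a cartesian square of schemes X' = Y' ×_Y X with projections f' : X' → Y' and g' : X' → X,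
in which X, Y and Y' are Noetherian, X' is quasi-compact and quasi-separated, f : X → Y is perfect
and proper, and g : Y' → Y is flat. Assume the derived direct images along f, f', g and g' exist and
preserve quasi-coherence of cohomology, giving functors Rf_*, Rf'_*, Rg_*, Rg'_* between the
categories D_QCoh; let a and a' be right adjoints of Rf_* and Rf'_* on D_QCoh; and assume the
derived pullbacks Lg^* and Lg'^* exist, preserve D_QCoh and are left adjoint there to Rg_* and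
Rg'_*. Then there is an identification e : Rf_* ∘ Rg'_* ≅ Rg_* ∘ Rf'_* with the following two
properties. First, for every M in D_QCoh(O_{Y'}) the map ξ_M : Rg'_* a'(M) → a(Rg_* M), adjoint
under Rf_* ⊣ a to the composite Rf_* Rg'_* a'(M) ≅ Rg_* Rf'_* a'(M) → Rg_* M of e with Rg_* of the
counit of Rf'_* ⊣ a', is an isomorphism. Second, for every K in D_QCoh(O_Y) the base change map
Lg'^* a(K) → a'(Lg^* K), the composite Lg'^* a(K) → Lg'^* a(Rg_* Lg^* K) → Lg'^* Rg'_* a'(Lg^* K) →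
a'(Lg^* K) of the unit of Lg^* ⊣ Rg_*, the inverse of ξ and the counit of Lg'^* ⊣ Rg'_*, is an
isomorphism. (The published statement is for Tor-independent base change; a flat g is a special
case, and only that case is stated here.) -/
theorem result (X Y X' Y' : Scheme.{u}) [IsNoetherian X] [IsNoetherian Y] [IsNoetherian Y'] [CompactSpace X'] [QuasiSeparatedSpace X'] (f : X ⟶ Y) (g : Y' ⟶ Y) (f' : X' ⟶ Y') (g' : X' ⟶ X) (hsq : IsPullback g' f' f g) [IsProper f] (hperf : MoreMor.IsPerfectMor f) [Flat g] [DCoh.HasRpush f] [DCoh.HasRpush f'] [DCoh.HasRpush g] [DCoh.HasRpush g'] (hf : DCoh.RpushPreservesQCoh f) (hf' : DCoh.RpushPreservesQCoh f') (hg : DCoh.RpushPreservesQCoh g) (hg' : DCoh.RpushPreservesQCoh g') (a : DCoh.DQCoh Y ⥤ DCoh.DQCoh X) (a' : DCoh.DQCoh Y' ⥤ DCoh.DQCoh X') (adj : DCoh.RpushQ f hf ⊣ a) (adj' : DCoh.RpushQ f' hf' ⊣ a') [DCoh.HasLpull g] [DCoh.HasLpull g'] (hLg : Dual3.LpullPreservesQCoh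 g) (hLg' : Dual3.LpullPreservesQCoh g') (adjg : Dual3.LpullQ g hLg ⊣ DCoh.RpushQ g hg) (adjg' : Dual3.LpullQ g' hLg' ⊣ DCoh.RpushQ g' hg') : ∃ (e : (DCoh.RpushQ g' hg' ⋙ DCoh.RpushQ f hf ≅ DCoh.RpushQ f' hf' ⋙ DCoh.RpushQ g hg)) (hξ : ∀ M : DCoh.DQCoh Y', IsIso (Dual3.xi adj adj' e M)), ∀ K : DCoh.DQCoh Y, IsIso (Dual3.bcMap adj adj' e adjg adjg' K (hξ _)) := by
  haveI := fun {A B : Scheme.{u}} (h : A ⟶ B) => RpushQC.hasRpush h
  haveI := fun {A B : Scheme.{u}} (h : A ⟶ B) => KFlat.hasLpull h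
  have hBC := BC.BC_flat hsq
  have hθ := BCAdj.isIso_bcQ (hf := hf) (hf' := hf') adjg adjg' hBC
  have hP : ∀ P : DCoh.D X, DCoh.IsPerfect P → DCoh.IsPerfect ((DCoh.Rpush f).obj P) :=
    fun P hP => BC.PerfMorTor.isPerfect_Rpush f hperf hP
  haveI : QuasiCompact f' := MorphismProperty.of_isPullback hsq inferInstance
  haveI : QuasiSeparated f' := MorphismProperty.of_isPullback hsq inferInstance
  have hP' : ∀ P : DCoh.D X', DCoh.IsPerfect P → DCoh.IsPerfect ((DCoh.Rpush f').obj P) :=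
    fun P hPP => perfect_baseChange hsq hBC hP hPP
  refine ⟨eQ hf hf' hg hg' hsq.w, fun M => Mate.isIso_xi adj adj' _ adjg adjg' hθ M, fun K => ?_⟩
  set β := Dual3.bcMap adj adj' (eQ hf hf' hg hg' hsq.w) adjg adjg' K (Mate.isIso_xi adj adj' _ adjg adjg' hθ _)
    with hβdef
  have hβT : Mate.Tr adj adj' (eQ hf hf' hg hg' hsq.w) adjg adjg' K β := Mate.tr_bcMap adj adj' _ adjg adjg' K _
  suffices IsIso β.hom by
    haveI : IsIso ((DCoh.IsQCohD (X := X')).ι.map β) := this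
    exact isIso_of_reflects_iso β (DCoh.IsQCohD (X := X')).ι
  refine BC.isIso_of_Lpull_cover β.hom fun x => ?_
  obtain ⟨_, ⟨(V : Y.Opens), hV, rfl⟩, hyV, -⟩ :=
    Y.isBasis_affineOpens.exists_subset_of_mem_open (Set.mem_univ (g (f' x))) isOpen_univ
  obtain ⟨_, ⟨(V' : Y'.Opens), hV', rfl⟩, hyV', hle⟩ :=
    Y'.isBasis_affineOpens.exists_subset_of_mem_open (show f' x ∈ g ⁻¹ᵁ V from hyV) (g ⁻¹ᵁ V).2
  haveI : IsAffine (V : Scheme.{u}) := hV
  haveI : IsAffine (V' : Scheme.{u}) := hV'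
  let W := f ⁻¹ᵁ V
  let W' := f' ⁻¹ᵁ V'
  have h' : W' ≤ g' ⁻¹ᵁ W := fun z hz => by
    show f (g' z) ∈ V
    rw [← Scheme.Hom.comp_apply, hsq.w, Scheme.Hom.comp_apply]
    exact hle hz
  let k := g'.resLE W W' h'
  let g₀ := g.resLE V V' hle
  have ek : k ≫ W.ι = W'.ι ≫ g' := Scheme.Hom.resLE_comp_ι _ _
  have eg : g₀ ≫ V.ι = V'.ι ≫ g := Scheme.Hom.resLE_comp_ι _ _
  have hk : IsPullback W'.ι (f' ∣_ V') f' V'.ι := (isPullback_morphismRestrict f' V').flip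
  have hi : IsPullback W.ι (f ∣_ V) f V.ι := (isPullback_morphismRestrict f V).flip
  have htot : IsPullback (k ≫ W.ι) (f' ∣_ V') f (g₀ ≫ V.ι) := by
    rw [eg, ek]
    exact hk.paste_horiz hsq
  have hc₀ : IsPullback k (f' ∣_ V') (f ∣_ V) g₀ := IsPullback.of_right htot (by
    rw [← cancel_mono V.ι]
    simp only [Category.assoc, morphismRestrict_ι, eg]
    rw [reassoc_of% ek, hsq.w, morphismRestrict_ι_assoc]) hi
  haveI : Flat g₀ := inferInstance
  haveI : CompactSpace (V' : Scheme.{u}) := isCompact_iff_compactSpace.1 hV'.isCompact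
  haveI : CompactSpace (V : Scheme.{u}) := isCompact_iff_compactSpace.1 hV.isCompact
  haveI : CompactSpace (W' : Scheme.{u}) := isCompact_iff_compactSpace.1 (f'.isCompact_preimage hV'.isCompact)
  haveI : CompactSpace (W : Scheme.{u}) := isCompact_iff_compactSpace.1 (f.isCompact_preimage hV.isCompact)
  haveI : QuasiSeparatedSpace (W' : Scheme.{u}) := quasiSeparatedSpace_of_quasiSeparated W'.ι
  haveI : QuasiSeparatedSpace (W : Scheme.{u}) := quasiSeparatedSpace_of_quasiSeparated W.ι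
  have hR : ∀ {A B : Scheme.{u}} (j : A ⟶ B) [QuasiCompact j] [QuasiSeparated j], DCoh.RpushPreservesQCoh j :=
    fun j _ _ K hK => RpushQC.isQCohD_Rpush j K hK
  have hL : ∀ {A B : Scheme.{u}} (j : A ⟶ B), Dual3.LpullPreservesQCoh j := fun j K hK => isQCohD_Lpull j hK
  haveI : QuasiCompact (g₀ ≫ V.ι) := inferInstance
  haveI : QuasiCompact (k ≫ W.ι) := inferInstance
  let fV := f ∣_ V
  let fV' := f' ∣_ V'
  obtain ⟨aV, ⟨adjV⟩⟩ : ∃ aV, Nonempty (DCoh.RpushQ fV (hR fV) ⊣ aV) := by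
    haveI := Groth.Agent.S1766.result (W : Scheme.{u}) (V : Scheme.{u}) fV (hR fV)
    exact ⟨_, ⟨Adjunction.ofIsLeftAdjoint (DCoh.RpushQ fV (hR fV))⟩⟩
  obtain ⟨aV', ⟨adjV'⟩⟩ : ∃ aV', Nonempty (DCoh.RpushQ fV' (hR fV') ⊣ aV') := by
    haveI := Groth.Agent.S1766.result (W' : Scheme.{u}) (V' : Scheme.{u}) fV' (hR fV')
    exact ⟨_, ⟨Adjunction.ofIsLeftAdjoint (DCoh.RpushQ fV' (hR fV'))⟩⟩
  -- the five squares
  let AV := adjQ V.ι (hR V.ι) (hL V.ι)
  let AW := adjQ W.ι (hR W.ι) (hL W.ι)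
  let AV' := adjQ V'.ι (hR V'.ι) (hL V'.ι)
  let AW' := adjQ W'.ι (hR W'.ι) (hL W'.ι)
  let A₀ := adjQ g₀ (hR g₀) (hL g₀)
  let A₀' := adjQ k (hR k) (hL k)
  let Ah := adjQ (g₀ ≫ V.ι) (hR _) (hL _)
  let Ah' := adjQ (k ≫ W.ι) (hR _) (hL _)
  let ei := eQ hf (hR fV) (hR V.ι) (hR W.ι) hi.w
  let ek' := eQ hf' (hR fV') (hR V'.ι) (hR W'.ι) hk.w
  let e₀ := eQ (hR fV) (hR fV') (hR g₀) (hR k) hc₀.w
  let et := eQ hf (hR fV') (hR (g₀ ≫ V.ι)) (hR (k ≫ W.ι)) htot.w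
  have hθi := BCAdj.isIso_bcQ (hf := hf) (hf' := hR fV) AV AW (BC.BC_flat hi)
  have hθk := BCAdj.isIso_bcQ (hf := hf') (hf' := hR fV') AV' AW' (BC.BC_flat hk)
  have hθ₀ := BCAdj.isIso_bcQ (hf := hR fV) (hf' := hR fV') A₀ A₀' (BC.BC_flat hc₀)
  have hθt := BCAdj.isIso_bcQ (hf := hf) (hf' := hR fV') Ah Ah' (BC.BC_flat htot)
  let LgK := (Dual3.LpullQ g hLg).obj K
  let KV := (Dual3.LpullQ V.ι (hL V.ι)).obj K
  let βk := Dual3.bcMap adj' adjV' ek' AV' AW' LgK (Mate.isIso_xi adj' adjV' _ AV' AW' hθk _)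
  let βi := Dual3.bcMap adj adjV ei AV AW K (Mate.isIso_xi adj adjV _ AV AW hθi _)
  let β₀ := Dual3.bcMap adjV adjV' e₀ A₀ A₀' KV (Mate.isIso_xi adjV adjV' _ A₀ A₀' hθ₀ _)
  have hbV : ∀ P : DCoh.D (W : Scheme.{u}), DCoh.IsPerfect P → DCoh.IsPerfect ((DCoh.Rpush fV).obj P) :=
    fun P hPP => perfect_baseChange hi (BC.BC_flat hi) hP hPP
  haveI : IsIso βk := isIso_bcMap_open V' hV'.isCompact adj' adjV' ek' AV' AW' hP' LgK _
  haveI : IsIso βi := isIso_bcMap_open V hV.isCompact adj adjV ei AV AW hP K _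
  haveI : IsIso β₀ := by
    refine isIso_bcMap_affine A₀ A₀' hc₀ adjV adjV' hθ₀ KV _ ?_
    intro hL' _ P hPP
    exact bij_affine_perfect g₀ hL' _ _ (hbV P hPP) KV.property
  let c₁ := cQ (hR V'.ι) hg (hR (g₀ ≫ V.ι)) eg.symm
  let c₁' := cQ (hR W'.ι) hg' (hR (k ≫ W.ι)) ek.symm
  let c₂ := cQ (hR g₀) (hR V.ι) (hR (g₀ ≫ V.ι)) rfl
  let c₂' := cQ (hR k) (hR W.ι) (hR (k ≫ W.ι)) rfl
  have T₁ := Mate.Tr.vert hβT (Mate.tr_bcMap adj' adjV' ek' AV' AW' LgK (Mate.isIso_xi adj' adjV' _ AV' AW' hθk _))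
    c₁ c₁' et (fun Z => ObjectProperty.hom_ext _ (hcomp_vert hsq.w hk.w htot.w eg.symm ek.symm Z.obj))
  have T₂ := Mate.Tr.vert (Mate.tr_bcMap adj adjV ei AV AW K (Mate.isIso_xi adj adjV _ AV AW hθi _))
    (Mate.tr_bcMap adjV adjV' e₀ A₀ A₀' KV (Mate.isIso_xi adjV adjV' _ A₀ A₀' hθ₀ _))
    c₂ c₂' et (fun Z => ObjectProperty.hom_ext _ (hcomp_vert hi.w hc₀.w htot.w rfl rfl Z.obj))
  haveI := hθt (a.obj K)
  have heq := (T₁.congr Ah Ah').unique (T₂.congr Ah Ah')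
  have hiso : IsIso ((Dual3.LpullQ W'.ι (hL W'.ι)).map β ≫ βk) := by
    haveI : IsIso ((Dual3.LpullQ k (hL k)).map βi ≫ β₀) := inferInstance
    have h2 : IsIso (((adjComp adjg' AW' c₁').leftAdjointUniq Ah').inv.app (a.obj K) ≫
        ((Dual3.LpullQ W'.ι (hL W'.ι)).map β ≫ βk) ≫
          aV'.map (((adjComp adjg AV' c₁).leftAdjointUniq Ah).hom.app K)) := by
      erw [heq]
      exact inferInstanceAs (IsIso (((adjComp AW A₀' c₂').leftAdjointUniq Ah').inv.app (a.obj K) ≫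
        ((Dual3.LpullQ k (hL k)).map βi ≫ β₀) ≫
          aV'.map (((adjComp AV A₀ c₂).leftAdjointUniq Ah).hom.app K)))
    haveI := h2
    haveI : IsIso (((Dual3.LpullQ W'.ι (hL W'.ι)).map β ≫ βk) ≫
        aV'.map (((adjComp adjg AV' c₁).leftAdjointUniq Ah).hom.app K)) :=
      IsIso.of_isIso_comp_left (((adjComp adjg' AW' c₁').leftAdjointUniq Ah').inv.app (a.obj K)) _
    exact IsIso.of_isIso_comp_right _ (aV'.map (((adjComp adjg AV' c₁).leftAdjointUniq Ah).hom.app K))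
  haveI := hiso
  haveI : IsIso ((Dual3.LpullQ W'.ι (hL W'.ι)).map β) := IsIso.of_isIso_comp_right _ βk
  exact ⟨W', inferInstance, hyV',
    inferInstanceAs (IsIso ((DCoh.IsQCohD (X := (W' : Scheme.{u}))).ι.map ((Dual3.LpullQ W'.ι (hL W'.ι)).map β)))⟩

end Groth.Agent.S3618
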