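import Groth.Statements.S6871
import Groth.Agent.L03.Reflexive
import Mathlib.RingTheory.LocalProperties.Submodule
import Mathlib.RingTheory.Flat.Localization
import Mathlib.Algebra.Module.FinitePresentation
import Mathlib.RingTheory.Localization.Submodule
import Mathlib.RingTheory.Localization.BaseChange

set_option autoImplicit false
universe u
open CAlg

namespace Groth.Agent.S6871

/-- Let `R` be a Noetherian domain and `M` a finite `R`-module. Then `M` is reflexive if and only if
`M_𝔭` is a reflexive `R_𝔭`-module for every prime `𝔭`, if and only if `M_𝔪` is a reflexive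
`R_𝔪`-module for every maximal ideal `𝔪`. -/
theorem result (R : Type u) [CommRing R] [IsDomain R] [IsNoetherianRing R] (M : Type u)
    [AddCommGroup M] [Module R M] [Module.Finite R M] :
    (Module.IsReflexive R M ↔
      ∀ (p : Ideal R) [p.IsPrime], Module.IsReflexive (Localization.AtPrime p) (LocalizedModule p.primeCompl M)) ∧
    (Module.IsReflexive R M ↔
      ∀ (m : Ideal R) (_ : m.IsMaximal),
        Module.IsReflexive (Localization.AtPrime m) (LocalizedModule m.primeCompl M)) := by
  have key : (∀ (m : Ideal R) (_ : m.IsMaximal),
      Module.IsReflexive (Localization.AtPrime m) (LocalizedModule m.primeCompl M)) →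
      Module.IsReflexive R M := by
    intro h
    haveI : Module.FinitePresentation R M := Module.finitePresentation_of_finite R M
    haveI : Module.IsTorsionFree R M := by
      refine Module.isTorsionFree_iff_smul_eq_zero.2 fun r x hrx => ?_
      by_cases hr : r = 0
      · exact Or.inl hr
      refine Or.inr (Module.eq_zero_of_localization_maximal
        _ (fun (m : Ideal R) _ => LocalizedModule.mkLinearMap m.primeCompl M) x fun m hm => ?_)
      haveI := h m hm
      have h1 : algebraMap R (Localization.AtPrime m) r •
          LocalizedModule.mkLinearMap m.primeCompl M x = 0 := by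
        rw [algebraMap_smul, ← map_smul, hrx, map_zero]
      refine ((smul_eq_zero).1 h1).resolve_left ?_
      exact fun h0 => hr ((injective_iff_map_eq_zero _).1
        (IsLocalization.injective (Localization.AtPrime m) m.primeCompl_le_nonZeroDivisors) r h0)
    refine ⟨⟨Groth.L03.Reflexive.eval_injective M, fun φ => ?_⟩⟩
    let T : Submodule R (Module.Dual R (Module.Dual R M)) := LinearMap.range (Module.Dual.eval R M)
    suffices hT : T.colon {φ} = ⊤ by
      have h1 : (1 : R) ∈ T.colon {φ} := hT ▸ Submodule.mem_top
      rw [Submodule.mem_colon_singleton, one_smul] at h1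
      exact h1
    by_contra hne
    obtain ⟨m, hm, hle⟩ := Ideal.exists_le_maximal _ hne
    haveI := h m hm
    let Rm := Localization.AtPrime m
    let Mm := LocalizedModule m.primeCompl M
    let D := IsLocalizedModule.mapExtendScalars m.primeCompl
      (LocalizedModule.mkLinearMap m.primeCompl M) (Algebra.linearMap R Rm) Rm
    let φ₀ : (Mm →ₗ[Rm] Rm) →ₗ[R] Rm :=
      IsLocalizedModule.lift m.primeCompl D (Algebra.linearMap R Rm ∘ₗ φ)
        (IsLocalizedModule.map_units (Algebra.linearMap R Rm))
    let φ₁ : (Mm →ₗ[Rm] Rm) →ₗ[Rm] Rm :=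
      LinearMap.extendScalarsOfIsLocalization m.primeCompl Rm φ₀
    obtain ⟨y, hy⟩ := (Module.bijective_dual_eval Rm Mm).2 φ₁
    obtain ⟨⟨x, s⟩, hs⟩ := IsLocalizedModule.surj m.primeCompl
      (LocalizedModule.mkLinearMap m.primeCompl M) y
    refine s.2 (hle (Submodule.mem_colon_singleton.2 ⟨x, ?_⟩))
    refine LinearMap.ext fun ψ => ?_
    apply IsLocalization.injective Rm m.primeCompl_le_nonZeroDivisors
    have h1 : φ₁ (D ψ) = algebraMap R Rm (φ ψ) := by
      change φ₀ (D ψ) = _
      simp only [φ₀]
      rw [IsLocalizedModule.lift_apply]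
      rfl
    have h2 : D ψ (LocalizedModule.mkLinearMap m.primeCompl M x) = algebraMap R Rm (ψ x) :=
      IsLocalizedModule.map_apply m.primeCompl (LocalizedModule.mkLinearMap m.primeCompl M)
        (Algebra.linearMap R Rm) ψ x
    have h3 : D ψ y = algebraMap R Rm (φ ψ) := by
      rw [← h1, ← hy]
      rfl
    change algebraMap R Rm (ψ x) = algebraMap R Rm ((s : R) * φ ψ)
    rw [← h2, ← hs, map_mul, ← h3, Submonoid.smul_def, LinearMap.map_smul_of_tower,
      Algebra.smul_def]
  have loc : Module.IsReflexive R M → ∀ (p : Ideal R) [p.IsPrime],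
      Module.IsReflexive (Localization.AtPrime p) (LocalizedModule p.primeCompl M) := by
    intro h p _
    haveI : IsNoetherianRing (Localization.AtPrime p) :=
      IsLocalization.isNoetherianRing p.primeCompl _ inferInstance
    haveI := Groth.L03.Reflexive.isReflexive_tensor (R := R) (R' := Localization.AtPrime p) M
    exact Module.equiv (LocalizedModule.equivTensorProduct p.primeCompl M).symm
  exact ⟨⟨loc, fun h => key fun m hm => h m⟩, ⟨fun h m hm => loc h m, key⟩⟩

end Groth.Agent.S6871
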