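import Groth.Statements.S6879
import Groth.Agent.L03.Reflexive
import Groth.Agent.S6871
import Mathlib.RingTheory.Ideal.AssociatedPrime.Basic
import Mathlib.RingTheory.Regular.RegularSequence
import Mathlib.RingTheory.Nakayama
import Mathlib.RingTheory.Localization.Module
-- import your own Groth.Agent.* helpers here

set_option autoImplicit false
universe u
open CAlg

namespace Groth.Agent.S6879

theorem exists_pair (A : Type u) [CommRing A] [IsLocalRing A] (M : Type u) [AddCommGroup M] [Module A M]
    [Module.Finite A M] [Nontrivial M] (h : 2 ≤ LocCoh.depth A M) :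
    ∃ x ∈ IsLocalRing.maximalIdeal A, ∃ y ∈ IsLocalRing.maximalIdeal A,
      IsSMulRegular M x ∧ IsSMulRegular (QuotSMulTop x M) y := by
  have hne : IsLocalRing.maximalIdeal A • (⊤ : Submodule A M) ≠ ⊤ := by
    intro e
    have h0 := Submodule.eq_bot_of_le_smul_of_le_jacobson_bot (IsLocalRing.maximalIdeal A) ⊤ Module.Finite.fg_top e.ge
      (by rw [IsLocalRing.jacobson_eq_maximalIdeal _ bot_ne_top])
    exact (top_ne_bot : (⊤ : Submodule A M) ≠ ⊥) h0
  rw [LocCoh.depth, LocCoh.idealDepth, if_neg hne] at h
  by_contra hc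
  push Not at hc
  have h1 : (2 : ℕ∞) ≤ 1 := h.trans (iSup_le fun rs => iSup_le fun hrs => by
    rcases rs with _ | ⟨x, _ | ⟨y, rs⟩⟩
    · simp
    · simp
    · obtain ⟨hreg, hmem⟩ := hrs
      rw [RingTheory.Sequence.isWeaklyRegular_cons_iff, RingTheory.Sequence.isWeaklyRegular_cons_iff] at hreg
      exact absurd hreg.2.1 (hc x (hmem x (by simp)) y (hmem y (by simp)) hreg.1))
  exact absurd h1 (by decide)

theorem mem_range_of_smul {A : Type u} [CommRing A] {M N : Type u} [AddCommGroup M] [Module A M]
    [AddCommGroup N] [Module A N] (f : M →ₗ[A] N) (hf : Function.Injective f) (x y : A)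
    (hN : IsSMulRegular N x) (hy : IsSMulRegular (QuotSMulTop x M) y) (n : N)
    (hxn : x • n ∈ LinearMap.range f) (hyn : y • n ∈ LinearMap.range f) : n ∈ LinearMap.range f := by
  obtain ⟨m1, h1⟩ := hxn
  obtain ⟨m2, h2⟩ := hyn
  have he : y • m1 = x • m2 := hf (by rw [map_smul, map_smul, h1, h2, smul_comm])
  have : y • (Submodule.Quotient.mk m1 : QuotSMulTop x M) = y • 0 := by
    rw [smul_zero, ← Submodule.Quotient.mk_smul, he, Submodule.Quotient.mk_eq_zero]
    exact Submodule.smul_mem_pointwise_smul m2 x ⊤ trivial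
  have h3 := hy this
  rw [Submodule.Quotient.mk_eq_zero, Submodule.mem_smul_pointwise_iff_exists] at h3
  obtain ⟨m', -, hm'⟩ := h3
  refine ⟨m', hN ?_⟩
  show x • f m' = x • n
  rw [← map_smul, hm', h1]

theorem exists_smul_mem_range (R : Type u) [CommRing R] [IsDomain R] [IsNoetherianRing R] (M : Type u)
    [AddCommGroup M] [Module R M] [Module.Finite R M] (m : Ideal R) [m.IsPrime]
    [Module.IsReflexive (Localization.AtPrime m) (LocalizedModule m.primeCompl M)]
    (φ : Module.Dual R (Module.Dual R M)) : ∃ s : R, s ∉ m ∧ ∃ x, Module.Dual.eval R M x = s • φ := by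
    haveI : Module.FinitePresentation R M := Module.finitePresentation_of_finite R M
    let Rm := Localization.AtPrime m
    let Mm := LocalizedModule m.primeCompl M
    let D := IsLocalizedModule.mapExtendScalars m.primeCompl
      (LocalizedModule.mkLinearMap m.primeCompl M) (Algebra.linearMap R Rm) Rm
    let φ₀ : (Mm →ₗ[Rm] Rm) →ₗ[R] Rm :=
      IsLocalizedModule.lift m.primeCompl D (Algebra.linearMap R Rm ∘ₗ φ)
        (IsLocalizedModule.map_units (Algebra.linearMap R Rm))
    let φ₁ : (Mm →ₗ[Rm] Rm) →ₗ[Rm] Rm :=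
      LinearMap.extendScalarsOfIsLocalization m.primeCompl Rm φ₀
    obtain ⟨y, hy⟩ := (Module.bijective_dual_eval Rm Mm).2 φ₁
    obtain ⟨⟨x, s⟩, hs⟩ := IsLocalizedModule.surj m.primeCompl
      (LocalizedModule.mkLinearMap m.primeCompl M) y
    refine ⟨s, s.2, x, ?_⟩
    refine LinearMap.ext fun ψ => ?_
    apply IsLocalization.injective Rm m.primeCompl_le_nonZeroDivisors
    have h1 : φ₁ (D ψ) = algebraMap R Rm (φ ψ) := by
      change φ₀ (D ψ) = _
      simp only [φ₀]
      rw [IsLocalizedModule.lift_apply]
      rfl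
    have h2 : D ψ (LocalizedModule.mkLinearMap m.primeCompl M x) = algebraMap R Rm (ψ x) :=
      IsLocalizedModule.map_apply m.primeCompl (LocalizedModule.mkLinearMap m.primeCompl M)
        (Algebra.linearMap R Rm) ψ x
    have h3 : D ψ y = algebraMap R Rm (φ ψ) := by
      rw [← h1, ← hy]
      rfl
    change algebraMap R Rm (ψ x) = algebraMap R Rm ((s : R) * φ ψ)
    rw [← h2, ← hs, map_mul, ← h3, Submonoid.smul_def, LinearMap.map_smul_of_tower,
      Algebra.smul_def]

/-- Let `R` be a Noetherian domain and `M` a finite `R`-module. Then `M` is reflexive if and only if for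
every prime `𝔭` of `R` either `M_𝔭` is a reflexive `R_𝔭`-module or `depth(M_𝔭) ≥ 2`. -/
theorem result (R : Type u) [CommRing R] [IsDomain R]
    [IsNoetherianRing R] (M : Type u) [AddCommGroup M] [Module R M] [Module.Finite R M] :
    Module.IsReflexive R M ↔ ∀ (p : Ideal R) [p.IsPrime],
      Module.IsReflexive (Localization.AtPrime p) (LocalizedModule p.primeCompl M) ∨
        2 ≤ LocCoh.depth (Localization.AtPrime p) (LocalizedModule p.primeCompl M) := by
  refine ⟨fun h p _ => Or.inl (((Groth.Agent.S6871.result R M).1).1 h p), fun h => ?_⟩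
  haveI : Module.IsTorsionFree R M := by
    refine Module.isTorsionFree_iff_smul_eq_zero.2 fun r v hrv => ?_
    by_contra! hne
    obtain ⟨p, hp, hle⟩ := exists_le_isAssociatedPrime_of_isNoetherianRing R v hne.2
    haveI := hp.isPrime
    have hr : r ∈ p := hle (Submodule.mem_colon_singleton.2 hrv)
    obtain ⟨-, w, hw⟩ := isAssociatedPrime_iff.1 hp
    have hw0 : LocalizedModule.mkLinearMap p.primeCompl M w ≠ 0 := by
      intro e
      obtain ⟨⟨s, hs⟩, e⟩ := (IsLocalizedModule.eq_zero_iff p.primeCompl _).1 e
      exact hs (show s ∈ p from hw ▸ Submodule.mem_colon_singleton.2 ((Submodule.mem_bot R).2 e))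
    have hkill : ∀ x ∈ IsLocalRing.maximalIdeal (Localization.AtPrime p),
        x • LocalizedModule.mkLinearMap p.primeCompl M w = 0 := by
      intro x hx
      obtain ⟨a, s, rfl⟩ := IsLocalization.exists_mk'_eq p.primeCompl x
      have ha : a ∈ p := (IsLocalization.AtPrime.mk'_mem_maximal_iff _ p a s).1 hx
      rw [IsLocalization.mk'_eq_mul_mk'_one, mul_comm, mul_smul, algebraMap_smul, ← map_smul,
        (Submodule.mem_bot R).1 (Submodule.mem_colon_singleton.1 (hw ▸ ha)), map_zero, smul_zero]
    rcases h p with hp' | hp'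
    · have hb := (Module.bijective_dual_eval (Localization.AtPrime p) (LocalizedModule p.primeCompl M)).1
      refine hw0 (hb (LinearMap.ext fun l => ?_))
      have h1 := congrArg l (hkill (algebraMap R _ r) ((IsLocalization.AtPrime.to_map_mem_maximal_iff _ p r).2 hr))
      rw [map_smul, map_zero, smul_eq_mul] at h1
      rw [map_zero]
      show l _ = 0
      refine (mul_eq_zero.1 h1).resolve_left fun e => hne.1 ?_
      exact IsLocalization.injective (Localization.AtPrime p) p.primeCompl_le_nonZeroDivisors (e.trans (map_zero _).symm)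
    · haveI : Nontrivial (LocalizedModule p.primeCompl M) := ⟨_, _, hw0⟩
      obtain ⟨x, hx, y, -, hxr, -⟩ := exists_pair _ _ hp'
      exact hw0 (hxr.right_eq_zero_of_smul (hkill x hx))
  haveI : Module.FinitePresentation R M := Module.finitePresentation_of_finite R M
  refine ⟨⟨Groth.L03.Reflexive.eval_injective M, fun φ => ?_⟩⟩
  by_contra hφ
  have hq : (Submodule.Quotient.mk φ : Module.Dual R (Module.Dual R M) ⧸ LinearMap.range (Module.Dual.eval R M)) ≠ 0 :=
    fun e => hφ ((Submodule.Quotient.mk_eq_zero _).1 e)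
  obtain ⟨p, hp, -⟩ := exists_le_isAssociatedPrime_of_isNoetherianRing R _ hq
  haveI := hp.isPrime
  obtain ⟨-, q, hq⟩ := isAssociatedPrime_iff.1 hp
  obtain ⟨φ, rfl⟩ := Submodule.Quotient.mk_surjective _ q
  have hp' : ∀ r : R, r • φ ∈ LinearMap.range (Module.Dual.eval R M) ↔ r ∈ p := fun r => by
    rw [hq, Submodule.mem_colon_singleton, Submodule.mem_bot, ← Submodule.Quotient.mk_smul, Submodule.Quotient.mk_eq_zero]
  rcases h p with hp2 | hp2
  · obtain ⟨s, hs, hx⟩ := exists_smul_mem_range R M p φ
    exact hs ((hp' s).1 hx)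
  · let f := LocalizedModule.map p.primeCompl (Module.Dual.eval R M)
    have hf : Function.Injective f := LocalizedModule.map_injective _ _ (Groth.L03.Reflexive.eval_injective M)
    let n := LocalizedModule.mkLinearMap p.primeCompl (Module.Dual R (Module.Dual R M)) φ
    have hkill : ∀ x ∈ IsLocalRing.maximalIdeal (Localization.AtPrime p), x • n ∈ LinearMap.range f := by
      intro x hx
      obtain ⟨a, s, rfl⟩ := IsLocalization.exists_mk'_eq p.primeCompl x
      obtain ⟨v, hv⟩ := (hp' a).2 ((IsLocalization.AtPrime.mk'_mem_maximal_iff _ p a s).1 hx)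
      rw [IsLocalization.mk'_eq_mul_mk'_one, mul_comm, mul_smul, algebraMap_smul, ← map_smul, ← hv]
      exact Submodule.smul_mem _ _ ⟨LocalizedModule.mkLinearMap p.primeCompl M v,
        IsLocalizedModule.map_apply p.primeCompl (LocalizedModule.mkLinearMap p.primeCompl M)
          (LocalizedModule.mkLinearMap p.primeCompl _) (Module.Dual.eval R M) v⟩
    have hdesc : n ∈ LinearMap.range f → ∃ s : R, s ∉ p ∧ s • φ ∈ LinearMap.range (Module.Dual.eval R M) := by
      rintro ⟨z, hz⟩
      obtain ⟨⟨v, s⟩, hv⟩ := IsLocalizedModule.surj p.primeCompl (LocalizedModule.mkLinearMap p.primeCompl M) z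
      have h1 : LocalizedModule.mkLinearMap p.primeCompl _ (Module.Dual.eval R M v) =
          LocalizedModule.mkLinearMap p.primeCompl _ ((s : R) • φ) := by
        rw [map_smul, ← IsLocalizedModule.map_apply p.primeCompl (LocalizedModule.mkLinearMap p.primeCompl M)
          (LocalizedModule.mkLinearMap p.primeCompl _) (Module.Dual.eval R M) v]
        show f (LocalizedModule.mkLinearMap p.primeCompl M v) = (s : R) • n
        rw [← hv, Submonoid.smul_def, LinearMap.map_smul_of_tower, hz]
      obtain ⟨c, hc⟩ := IsLocalizedModule.exists_of_eq (S := p.primeCompl) h1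
      refine ⟨c * s, p.primeCompl.mul_mem c.2 s.2, (c : R) • v, ?_⟩
      rw [map_smul, mul_smul]
      exact hc
    suffices hn : n ∈ LinearMap.range f by
      obtain ⟨s, hs, hsφ⟩ := hdesc hn
      exact hs ((hp' s).1 hsφ)
    cases subsingleton_or_nontrivial (LocalizedModule p.primeCompl M) with
    | inl hsub =>
      have : ∀ z : LocalizedModule p.primeCompl (Module.Dual R (Module.Dual R M)), z = 0 := by
        intro z
        have hd : ∀ l : Module.Dual R M, l = 0 := fun l => LinearMap.ext fun v => by
          obtain ⟨s, hs⟩ := (IsLocalizedModule.eq_zero_iff p.primeCompl (LocalizedModule.mkLinearMap p.primeCompl M)).1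
            (Subsingleton.elim (LocalizedModule.mkLinearMap p.primeCompl M v) 0)
          have := congrArg l hs
          rw [Submonoid.smul_def, map_smul, map_zero, smul_eq_mul] at this
          exact (mul_eq_zero.1 this).resolve_left fun e => s.2 (e ▸ p.zero_mem)
        have hdd : ∀ ψ : Module.Dual R (Module.Dual R M), ψ = 0 := fun ψ =>
          LinearMap.ext fun l => by rw [hd l, map_zero, map_zero]
        induction z using LocalizedModule.induction_on with
        | h m s => rw [hdd m, LocalizedModule.zero_mk]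
      exact this n ▸ Submodule.zero_mem _
    | inr hnt =>
      obtain ⟨x, hx, y, hy, hxr, hyr⟩ := exists_pair _ _ hp2
      have hx0 : x ≠ 0 := fun e => not_subsingleton (LocalizedModule p.primeCompl M)
        ⟨fun a b => hxr (show x • a = x • b by rw [e, zero_smul, zero_smul])⟩
      refine mem_range_of_smul f hf x y ?_ hyr n (hkill x hx) (hkill y hy)
      obtain ⟨a, s, rfl⟩ := IsLocalization.exists_mk'_eq p.primeCompl x
      have ha : a ≠ 0 := fun e => hx0 (by rw [e, IsLocalization.mk'_zero])
      refine IsSMulRegular.of_right_eq_zero_of_smul fun z hz => ?_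
      rw [IsLocalization.mk'_eq_mul_mk'_one, mul_comm, mul_smul, algebraMap_smul] at hz
      have hz' : a • z = 0 := by
        have hu : IsUnit (IsLocalization.mk' (Localization.AtPrime p) (1 : R) s) :=
          IsUnit.of_mul_eq_one (algebraMap R _ (s : R)) (IsLocalization.mk'_spec _ _ _ |>.trans (map_one _))
        exact hu.smul_eq_zero.1 hz
      induction z using LocalizedModule.induction_on with
      | h ψ t =>
        rw [LocalizedModule.smul'_mk] at hz'
        obtain ⟨c, hc⟩ := LocalizedModule.mk_eq.1 (hz'.trans (LocalizedModule.zero_mk t).symm)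
        have hψ : ψ = 0 := LinearMap.ext fun l => by
          have := LinearMap.congr_fun hc l
          simp only [Submonoid.smul_def, LinearMap.smul_apply, smul_eq_mul, LinearMap.zero_apply, mul_zero] at this
          rcases mul_eq_zero.1 this with h1 | h1
          · exact absurd (h1 ▸ p.zero_mem : (c : R) ∈ p) c.2
          rcases mul_eq_zero.1 h1 with h1 | h1
          · exact absurd (h1 ▸ p.zero_mem : (t : R) ∈ p) t.2
          exact (mul_eq_zero.1 h1).resolve_left ha
        rw [hψ, LocalizedModule.zero_mk]

end Groth.Agent.S6879
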