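import Groth.Statements.S6880
import Groth.Agent.L03.HomDepth
import Groth.Agent.L03.Reflexive
import Groth.Agent.L06.FlatFibre

set_option autoImplicit false
set_option backward.isDefEq.respectTransparency false
universe u
open CAlg

namespace Groth.Agent.S6880

/-- Let `R` be a Noetherian domain and `M` a finite reflexive `R`-module. For a prime `𝔭` with
`depth(R_𝔭) ≥ 2` one has `depth(M_𝔭) ≥ 2`; and if `R` has `(S_2)` then `M` has `(S_2)`. -/
theorem result (R : Type u) [CommRing R] [IsDomain R] [IsNoetherianRing R] (M : Type u)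
    [AddCommGroup M] [Module R M] [Module.Finite R M] [Module.IsReflexive R M] :
    (∀ (p : Ideal R) [p.IsPrime], 2 ≤ LocCoh.depth (Localization.AtPrime p) (Localization.AtPrime p) →
      2 ≤ LocCoh.depth (Localization.AtPrime p) (LocalizedModule p.primeCompl M)) ∧
    (LocCoh.HasSk 2 R R → LocCoh.HasSk 2 R M) := by
  obtain ⟨n, k, f, g, hf, hfg⟩ := Groth.L03.Reflexive.exists_exact (R := R) M
  let Rp := fun (p : Ideal R) [p.IsPrime] => Localization.AtPrime p
  have hself : ∀ (p : Ideal R) [p.IsPrime] (a j : ℕ), (j : ℕ∞) ≤ LocCoh.depth (Localization.AtPrime p) (Localization.AtPrime p) →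
      (j : ℕ∞) ≤ LocCoh.depth (Localization.AtPrime p) (LocalizedModule p.primeCompl (Fin a → R)) := fun p _ a j h =>
    (Groth.L03.HomDepth.localized_pow R p a).1 j (h.trans_eq (Groth.L04.depth_localizedModule_self p).symm)
  refine ⟨fun p _ hp => ?_, fun hR => ?_⟩
  · have hip : Function.Injective (LocalizedModule.map p.primeCompl f) := LocalizedModule.map_injective p.primeCompl f hf
    have hexp : Function.Exact (LocalizedModule.map p.primeCompl f) (LocalizedModule.map p.primeCompl g) :=
      LocalizedModule.map_exact p.primeCompl f g hfg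
    let e : LocalizedModule p.primeCompl M ≃ₗ[Localization.AtPrime p] LinearMap.ker (LocalizedModule.map p.primeCompl g) := (LinearEquiv.ofInjective _ hip).trans (LinearEquiv.ofEq _ _ (LinearMap.exact_iff.1 hexp).symm)
    rw [LocCoh.depth, Groth.L04.idealDepth_congr (M' := LinearMap.ker (LocalizedModule.map p.primeCompl g)) e]
    refine (Groth.L04.idealDepth_ker _ _).2 ?_ ?_
    · exact_mod_cast hself p n 2 (by exact_mod_cast hp)
    · exact_mod_cast hself p k 1 (by exact_mod_cast (one_le_two (α := ℕ∞)).trans hp)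
  · have key : ∀ (p : Ideal R) [p.IsPrime] (j : ℕ), j ≤ 2 →
        (j : WithBot ℕ∞) ≤ Module.supportDim (Localization.AtPrime p) (LocalizedModule p.primeCompl M) →
        (j : ℕ∞) ≤ LocCoh.depth (Localization.AtPrime p) (Localization.AtPrime p) := fun p _ j hj hd => by
      have h2 := le_trans (le_min (show (j : WithBot ℕ∞) ≤ (2 : ℕ) from Nat.cast_le.2 hj)
        (hd.trans (Module.supportDim_le_ringKrullDim _ _))) ((Groth.L06.FlatFibre.hasSk_self_iff 2).1 hR p)
      exact_mod_cast h2
    refine Groth.L04.hasSk_of_exact f hf g hfg 2 le_rfl (fun p _ hd => hself p n 2 (key p 2 le_rfl hd))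
      (fun _ p _ hd => ?_) (fun _ p _ hd => ?_)
    · exact_mod_cast hself p k 1 (key p 1 one_le_two (le_trans (by exact_mod_cast one_le_two (α := ℕ∞)) hd))
    · exact_mod_cast hself p n 1 (key p 1 one_le_two (by exact_mod_cast hd))

end Groth.Agent.S6880
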