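import Groth.Statements.S2054
import Groth.Agent.S0601
import Groth.Agent.S6879
import Groth.Agent.S6880
import Mathlib.RingTheory.DedekindDomain.PID
import Mathlib.LinearAlgebra.FreeModule.PID
-- import your own Groth.Agent.* helpers here

set_option autoImplicit false
universe u
open CAlg

namespace Groth.Agent.S2054

/-- Let `R` be a Noetherian normal domain and `M` a finite `R`-module. Then `M` is reflexive (the map to
its double dual is bijective) if and only if `M` is torsion free and satisfies Serre's condition
`(S_2)`. -/
theorem result {R M : Type u} [CommRing R] [IsDomain R] [IsNoetherianRing R]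
    [IsIntegrallyClosed R] [AddCommGroup M] [Module R M] [Module.Finite R M] :
    Module.IsReflexive R M ↔ NoZeroSMulDivisors R M ∧ LocCoh.HasSk 2 R M := by
  have hnorm : ∀ (p : Ideal R) [p.IsPrime], IsDomain (Localization.AtPrime p) ∧
      IsIntegrallyClosed (Localization.AtPrime p) := fun p _ =>
    ⟨IsLocalization.isDomain_localization p.primeCompl_le_nonZeroDivisors,
      isIntegrallyClosed_of_isLocalization _ _ p.primeCompl_le_nonZeroDivisors⟩
  constructor
  · intro h
    refine ⟨⟨fun {c x} hcx => or_iff_not_imp_left.2 fun hc => (Module.bijective_dual_eval R M).1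
      (LinearMap.ext fun l => ?_)⟩, (Groth.Agent.S6880.result R M).2 ((Groth.Agent.S0601.result R).1 hnorm).2⟩
    have h1 := congrArg l hcx
    rw [map_smul, map_zero, smul_eq_mul] at h1
    rw [map_zero]
    exact (mul_eq_zero.1 h1).resolve_left hc
  · rintro ⟨htf, hS⟩
    refine (Groth.Agent.S6879.result R M).2 fun p _ => ?_
    let Rp := Localization.AtPrime p
    let Mp := LocalizedModule p.primeCompl M
    haveI := (hnorm p).1
    haveI := (hnorm p).2
    rcases subsingleton_or_nontrivial Mp with hsub | hnt
    · left
      haveI : Subsingleton (Module.Dual Rp Mp) := ⟨fun a b => LinearMap.ext fun x => by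
        rw [Subsingleton.elim x 0, map_zero, map_zero]⟩
      exact ⟨Function.injective_of_subsingleton _, fun φ => ⟨0, LinearMap.ext fun l => by
        rw [Subsingleton.elim l 0, map_zero, map_zero]⟩⟩
    have hzero : ∀ (a : Rp) (z : Mp), a • z = 0 → a = 0 ∨ z = 0 := by
      intro a z h
      obtain ⟨r, t, rfl⟩ := IsLocalization.exists_mk'_eq p.primeCompl a
      induction z using LocalizedModule.induction_on with
      | h m v =>
        by_cases hr : r = 0
        · left; rw [hr, IsLocalization.mk'_zero]
        right
        rw [IsLocalization.mk'_eq_mul_mk'_one, mul_comm, mul_smul, algebraMap_smul] at h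
        have hu : IsUnit (IsLocalization.mk' Rp (1 : R) t) :=
          IsUnit.of_mul_eq_one (algebraMap R _ (t : R)) (IsLocalization.mk'_spec _ _ _ |>.trans (map_one _))
        rw [hu.smul_eq_zero, LocalizedModule.smul'_mk, ← LocalizedModule.zero_mk v, LocalizedModule.mk_eq] at h
        obtain ⟨c, hc⟩ := h
        simp only [Submonoid.smul_def, smul_zero, smul_smul] at hc
        have hv0 : ∀ w : p.primeCompl, (w : R) ≠ 0 := fun w e => w.2 (by
          show (w : R) ∈ p
          rw [e]; exact p.zero_mem)
        have hm : m = 0 := (htf.eq_zero_or_eq_zero_of_smul_eq_zero hc).resolve_left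
          (by simp [hv0, hr])
        rw [hm, LocalizedModule.zero_mk]
    haveI : Module.IsTorsionFree Rp Mp := Module.isTorsionFree_iff_smul_eq_zero.2 hzero
    by_cases hd : ringKrullDim Rp ≤ 1
    · left
      haveI : IsNoetherianRing Rp := IsLocalization.isNoetherianRing p.primeCompl Rp inferInstance
      haveI : Ring.KrullDimLE 1 Rp := Ring.krullDimLE_iff.mpr hd
      haveI : Ring.DimensionLEOne Rp := ⟨fun {P} hP hPp => by
        rcases Ring.krullDimLE_one_iff.mp (inferInstance : Ring.KrullDimLE 1 Rp) P hPp with hm | hm
        · rw [IsDomain.minimalPrimes_eq_singleton_bot, Set.mem_singleton_iff] at hm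
          exact absurd hm hP
        · exact hm⟩
      haveI : IsDedekindDomain Rp := {}
      haveI : IsPrincipalIdealRing Rp := IsPrincipalIdealRing.of_finite_maximals
        (Set.Finite.subset (Set.finite_singleton (IsLocalRing.maximalIdeal Rp))
          fun I hI => IsLocalRing.eq_maximalIdeal hI)
      haveI : Module.Free Rp Mp := Module.free_of_finite_type_torsion_free'
      infer_instance
    · right
      have hann : Module.annihilator Rp Mp = ⊥ := by
        obtain ⟨z, hz⟩ := exists_ne (0 : Mp)
        exact (Submodule.eq_bot_iff _).2 fun a ha => (hzero a z (Module.mem_annihilator.1 ha z)).resolve_right hz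
      have h2 := hS p
      rw [Module.supportDim_eq_ringKrullDim_quotient_annihilator, hann,
        ringKrullDim_eq_of_ringEquiv (RingEquiv.quotientBot Rp), min_eq_left] at h2
      · exact WithBot.coe_le_coe.mp h2
      · have h3 : (1 : WithBot ℕ∞) < ringKrullDim Rp := not_le.1 hd
        generalize ringKrullDim Rp = d at h3
        induction d using WithBot.recBotCoe with
        | bot => simp at h3
        | coe a =>
          rw [← WithBot.coe_one, WithBot.coe_lt_coe] at h3
          rw [← WithBot.coe_natCast]
          refine WithBot.coe_le_coe.2 ?_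
          simpa [one_add_one_eq_two] using Order.add_one_le_of_lt h3

end Groth.Agent.S2054
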