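import Groth.Statements.S3634
import Groth.Agent.Lead.ClShriek.QCoh
import Groth.Agent.L16.CohClosedPush
import Groth.Agent.L16.CohSupport
import Groth.Agent.L16.Rees.RelVanish
import Groth.Agent.L29.DCoh.RHomCoh
import Groth.Agent.L29.RelPC.Module
import Groth.Agent.L29.DCoh.PCNoeth

set_option linter.style.haveILetI false
set_option backward.isDefEq.respectTransparency false

set_option autoImplicit false
universe u
open CategoryTheory CategoryTheory.Limits AlgebraicGeometry
attribute [local instance] HasDerivedCategory.standard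
open Dual3

namespace Groth.Agent.S3634

/-- Let X be a Noetherian scheme and i : Z → X a closed immersion. Assume the derived direct image Ri_*
exists and preserves quasi-coherence of cohomology sheaves (both known results), so that it
restricts to a functor D_QCoh(O_Z) → D_QCoh(O_X), and let a : D_QCoh(O_X) → D_QCoh(O_Z) be a right
adjoint of this restricted functor. Assume further that i_* on O-modules has a right adjoint
Hom(O_Z, −) (the sections killed by the ideal of Z, viewed as an O_Z-module; this holds for a closed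
immersion and is carried as a binder) and that the category of O_X-modules has enough injectives,
and let R Hom(O_Z, −) : D^+(O_X) → D^+(O_Z) be the right derived functor of Hom(O_Z, −). Then a and
R Hom(O_Z, −) are isomorphic as functors D^+_QCoh(O_X) → D(O_Z). (Stated for X Noetherian; the
published statement is more general.) -/
theorem result (Z X : Scheme.{u}) [IsNoetherian X] (i : Z ⟶ X) [IsClosedImmersion i] [Dual3.HasHomO i] [EnoughInjectives X.Modules] [DCoh.HasRpush i] (hf : DCoh.RpushPreservesQCoh i) (a : DCoh.DQCoh X ⥤ DCoh.DQCoh Z) (adj : DCoh.RpushQ i hf ⊣ a) : Nonempty (Dual3.bddι X ⋙ a ⋙ ObjectProperty.ι _ ≅ Dual3.bddToPlus X ⋙ Dual3.RHomOPlus i ⋙ (DerivedCategory.Plus.ι : DerivedCategory.Plus Z.Modules ⥤ DCoh.D Z)) := by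
  haveI := Groth.L29.DC.ClosedPC.exactLeft i
  haveI := Groth.L29.DC.ClosedPC.exactRight i
  haveI : IsLocallyNoetherian Z := LocallyOfFiniteType.isLocallyNoetherian i
  have hc := Groth.L16.CohClosedPush.isCoh_push i (Groth.L16.Rees.RelVanish.isCoh_structureModule Z)
  let N := (Scheme.Modules.pushforward i).obj (Coh.structureModule Z)
  have hz : ∀ j : ℤ, j ≠ 0 → IsZero (DCoh.HD (DCoh.inD X N) j) := fun j hj => Groth.L29.RelPC.isZero_HD_inD hj
  have hcoh : ∀ j, Coh.IsCoh (DCoh.HD (DCoh.inD X N) j) := fun j => by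
    by_cases hj : j = 0
    · subst hj
      obtain ⟨e⟩ := Groth.L29.RelPC.nonempty_HD0_inD N
      exact Groth.L16.CohSupport.isCoh_of_iso e.symm hc
    · exact Groth.L29.DC.RHomC.isCoh_of_isZero (hz j hj)
  haveI : (DCoh.inD X N).IsLE 0 := (DerivedCategory.isLE_iff _ _).2 fun j hj => hz j (by omega)
  have hpc : ∀ m : ℤ, DCoh.IsPseudoCoherentD m (DCoh.inD X N) := fun m =>
    Groth.L29.DC.PCNoeth.pc_of_coh (fun j => (hcoh j).1) m 0 fun j _ => hcoh j
  obtain ⟨e⟩ := Groth.Lead.ClShriek.nonempty_adjoint_iso i hpc hf a adj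
  obtain ⟨p⟩ := Groth.Lead.ClShriek.nonempty_plusIso i
  exact ⟨e ≪≫ (Functor.associator _ _ _).symm ≪≫ Functor.isoWhiskerRight
    (NatIso.ofComponents (fun K => Iso.refl _) (fun k => by simp) :
      Dual3.bddι X ⋙ ObjectProperty.ι _ ≅ Dual3.bddToPlus X ⋙ DerivedCategory.Plus.ι) _ ≪≫
    Functor.associator _ _ _ ≪≫ Functor.isoWhiskerLeft _ p.symm⟩

end Groth.Agent.S3634
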