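import Groth.Statements.S14125
import Groth.Agent.L26.FMInv.Inversion
import Groth.Agent.L26.FMInv.DualDim

set_option autoImplicit false
universe u
open CategoryTheory CategoryTheory.Limits MonoidalCategory CartesianMonoidalCategory MonObj GrpObj AlgebraicGeometry
attribute [local instance] HasDerivedCategory.standard
open AbVar

namespace Groth.Agent.S14125

attribute [local instance] HasDerivedCategory.standard

/-- Let k be a field, A an abelian variety over k (a proper smooth k-group scheme with geometrically
connected fibres) of dimension g, (A^t, φ) a given dual abelian variety of A for the fppf topology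
with A^t itself an abelian variety, and P an invertible module on A ×_k A^t whose class is a
Poincaré class (it corresponds to the identity of A^t and is rigidified along the unit section of
A). Let P' be the pullback of P to A^t ×_k A along the swap of factors, and write Φ_P =
Rpr_{2,*}(Lpr_1^*(−) ⊗^L P) : D(O_A) → D(O_{A^t}) and Φ_{P'} : D(O_{A^t}) → D(O_A) for the
Fourier–Mukai functors (the derived functors involved are assumed to exist). Then, restricted to
objects of D(O_A) with quasi-coherent cohomology sheaves, Φ_{P'} ∘ Φ_P is isomorphic to L(−1)^*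
followed by the shift [−g] (the functor K ↦ K[−g], moving a complex g places to the right);
existence of an isomorphism of functors. -/
theorem result (k : Type u) [Field k]
    (A At : Over (Spec (CommRingCat.of k))) [GrpObj A] [IsProper A.hom] [Smooth A.hom] [GeometricallyConnected A.hom]
    [GrpObj At] [IsProper At.hom] [Smooth At.hom] [GeometricallyConnected At.hom]
    (φ : ∀ T : Over (Spec (CommRingCat.of k)), PicF.Cl (PicF.XT A.hom T) → (T ⟶ At))
    (hφ : AbDual.IsDualAV Scheme.fppfPrecoverage A At φ)
    (P : (pullback A.hom At.hom).Modules) (hP : PicF.IsInvertible P)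
    (hPξ : AbDual.IsPoincareCl A At φ (PicF.cl P))
    (g : ℕ) (hg : topologicalKrullDim ↥A.left = g)
    [DCoh.HasLpull (pullback.fst A.hom At.hom)] [DCoh.HasLTensorMod P] [DCoh.HasRpush (pullback.snd A.hom At.hom)]
    [DCoh.HasLpull (pullback.fst At.hom A.hom)]
    [DCoh.HasLTensorMod ((Scheme.Modules.pullback (pullbackSymmetry At.hom A.hom).hom).obj P)]
    [DCoh.HasRpush (pullback.snd At.hom A.hom)] [DCoh.HasLpull ((𝟙 A)⁻¹).left] :
    Nonempty (ObjectProperty.ι (DCoh.IsQCohD (X := A.left)) ⋙ (DCoh.Lpull (pullback.fst A.hom At.hom) ⋙ DCoh.LTensorMod P ⋙ DCoh.Rpush (pullback.snd A.hom At.hom)) ⋙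
        (DCoh.Lpull (pullback.fst At.hom A.hom) ⋙
          DCoh.LTensorMod ((Scheme.Modules.pullback (pullbackSymmetry At.hom A.hom).hom).obj P) ⋙
          DCoh.Rpush (pullback.snd At.hom A.hom)) ≅
      ObjectProperty.ι (DCoh.IsQCohD (X := A.left)) ⋙ DCoh.Lpull ((𝟙 A)⁻¹).left ⋙
        shiftFunctor (DCoh.D A.left) (-(g : ℤ))) := by
  exact Groth.Agent.L26.FMInv.nonempty_comp hφ P hP hPξ g hg
    ((Groth.Agent.L26.FMInv.dim_dual hφ P hPξ).trans hg)

end Groth.Agent.S14125
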