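import Groth.Statements.S14132
import Groth.Agent.L10.FMBC.Transpose

set_option autoImplicit false
set_option linter.style.haveILetI false
set_option linter.unusedVariables false
set_option backward.defeqAttrib.useBackward true
set_option backward.isDefEq.respectTransparency false
universe u
open CategoryTheory CategoryTheory.Limits MonoidalCategory CartesianMonoidalCategory MonObj GrpObj AlgebraicGeometry
attribute [local instance] HasDerivedCategory.standard
open AbVar

namespace Groth.Agent.S14132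

/-- Let k be a field, A and B abelian varieties over k (proper smooth k-group schemes with geometrically
connected fibres), f : A → B a homomorphism, (A^t, φ_A) and (B^t, φ_B) given dual abelian varieties
for the fppf topology (both abelian varieties), P_A on A ×_k A^t and P_B on B ×_k B^t invertible
modules whose classes are Poincaré classes, and f^t : B^t → A^t the transpose of f with respect to
these duals. Write Φ_{P_A} = Rpr_{2,*}(Lpr_1^*(−) ⊗^L P_A) : D(O_A) → D(O_{A^t}) and similarly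
Φ_{P_B}; the derived functors involved are assumed to exist. Then, restricted to objects of D(O_A)
with quasi-coherent cohomology sheaves, Φ_{P_B} ∘ Rf_* is isomorphic to L(f^t)^* ∘ Φ_{P_A}
(existence of an isomorphism of functors). -/
theorem result (k : Type u) [Field k]
    (A At B Bt : Over (Spec (CommRingCat.of k))) [GrpObj A] [IsProper A.hom] [Smooth A.hom] [GeometricallyConnected A.hom]
    [GrpObj At] [IsProper At.hom] [Smooth At.hom] [GeometricallyConnected At.hom]
    [GrpObj B] [IsProper B.hom] [Smooth B.hom] [GeometricallyConnected B.hom]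
    [GrpObj Bt] [IsProper Bt.hom] [Smooth Bt.hom] [GeometricallyConnected Bt.hom]
    (φA : ∀ T : Over (Spec (CommRingCat.of k)), PicF.Cl (PicF.XT A.hom T) → (T ⟶ At))
    (hφA : AbDual.IsDualAV Scheme.fppfPrecoverage A At φA)
    (φB : ∀ T : Over (Spec (CommRingCat.of k)), PicF.Cl (PicF.XT B.hom T) → (T ⟶ Bt))
    (hφB : AbDual.IsDualAV Scheme.fppfPrecoverage B Bt φB)
    (PA : (pullback A.hom At.hom).Modules) (hPA : PicF.IsInvertible PA)
    (hPAξ : AbDual.IsPoincareCl A At φA (PicF.cl PA))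
    (PB : (pullback B.hom Bt.hom).Modules) (hPB : PicF.IsInvertible PB)
    (hPBξ : AbDual.IsPoincareCl B Bt φB (PicF.cl PB))
    (f : A ⟶ B) [IsMonHom f] (ft : Bt ⟶ At) (hft : AbDual.IsTranspose f φA φB ft)
    [DCoh.HasLpull (pullback.fst A.hom At.hom)] [DCoh.HasLTensorMod PA] [DCoh.HasRpush (pullback.snd A.hom At.hom)]
    [DCoh.HasLpull (pullback.fst B.hom Bt.hom)] [DCoh.HasLTensorMod PB] [DCoh.HasRpush (pullback.snd B.hom Bt.hom)]
    [DCoh.HasRpush f.left] [DCoh.HasLpull ft.left] :
    Nonempty (ObjectProperty.ι (DCoh.IsQCohD (X := A.left)) ⋙ DCoh.Rpush f.left ⋙ (DCoh.Lpull (pullback.fst B.hom Bt.hom) ⋙ DCoh.LTensorMod PB ⋙ DCoh.Rpush (pullback.snd B.hom Bt.hom)) ≅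
      ObjectProperty.ι (DCoh.IsQCohD (X := A.left)) ⋙ (DCoh.Lpull (pullback.fst A.hom At.hom) ⋙ DCoh.LTensorMod PA ⋙ DCoh.Rpush (pullback.snd A.hom At.hom)) ⋙ DCoh.Lpull ft.left) := by
  haveI := fun {A B : Scheme.{u}} (k : A ⟶ B) => Groth.L00.KFlat.hasLpull k
  haveI := fun {V : Scheme.{u}} (M : V.Modules) => Groth.L00.DerivedApi.hasLTensorMod M
  haveI := fun {A B : Scheme.{u}} (k : A ⟶ B) => Groth.L29.DC.RpushQC.hasRpush k
  let fB : pullback A.hom Bt.hom ⟶ pullback B.hom Bt.hom := (f ▷ Bt).left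
  let gA : pullback A.hom Bt.hom ⟶ pullback A.hom At.hom := (A ◁ ft).left
  have hf₁ : fB ≫ pullback.fst B.hom Bt.hom = pullback.fst A.hom Bt.hom ≫ f.left :=
    congrArg CommaMorphism.left (whiskerRight_fst f Bt)
  have hf₂ : fB ≫ pullback.snd B.hom Bt.hom = pullback.snd A.hom Bt.hom :=
    congrArg CommaMorphism.left (whiskerRight_snd f Bt)
  have hg₁ : gA ≫ pullback.fst A.hom At.hom = pullback.fst A.hom Bt.hom :=
    congrArg CommaMorphism.left (whiskerLeft_fst A ft)
  have hg₂ : gA ≫ pullback.snd A.hom At.hom = pullback.snd A.hom Bt.hom ≫ ft.left :=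
    congrArg CommaMorphism.left (whiskerLeft_snd A ft)
  have hcA : IsPullback gA (pullback.snd A.hom Bt.hom) (pullback.snd A.hom At.hom) ft.left := by
    refine IsPullback.of_right ?_ hg₂ (IsPullback.of_hasPullback A.hom At.hom)
    rw [hg₁, Over.w ft]
    exact IsPullback.of_hasPullback A.hom Bt.hom
  have hcB : IsPullback fB (pullback.fst A.hom Bt.hom) (pullback.fst B.hom Bt.hom) f.left := by
    refine IsPullback.of_right ?_ hf₁ (IsPullback.of_hasPullback B.hom Bt.hom).flip
    rw [hf₂, Over.w f]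
    exact (IsPullback.of_hasPullback A.hom Bt.hom).flip
  haveI : QuasiCompact (f.left ≫ B.hom) := by rw [Over.w f]; infer_instance
  haveI : QuasiSeparated (f.left ≫ B.hom) := by rw [Over.w f]; infer_instance
  haveI : QuasiCompact f.left := QuasiCompact.of_comp f.left B.hom
  haveI : QuasiSeparated f.left := QuasiSeparated.of_comp f.left B.hom
  haveI : QuasiCompact fB := MorphismProperty.of_isPullback hcB.flip inferInstance
  haveI : QuasiSeparated fB := MorphismProperty.of_isPullback hcB.flip inferInstance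
  obtain ⟨i⟩ := Groth.L10.FMBC.nonempty_pull_kernelMod (π := 𝟙 A.left) (p₁ := pullback.fst A.hom At.hom)
    (q₁ := pullback.fst A.hom Bt.hom) (h := gA) ((Category.comp_id _).trans hg₁.symm) hcA PA hPA
    ((Scheme.Modules.pullback fB).obj PB) (Groth.L10.FMBC.nonempty_transpose hφA f ft hft PA hPAξ PB hPBξ)
  obtain ⟨e⟩ := Groth.L10.FMDiag.nonempty_Lpull_id (X := A.left)
  obtain ⟨r⟩ := Groth.L10.FMBC.nonempty_rpush_comp' fB (pullback.snd B.hom Bt.hom) hf₂
  obtain ⟨τ, hτ⟩ := Groth.L10.FMBC.exists_projectionMod fB hPB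
  let J₀ := ObjectProperty.ι (DCoh.IsQCohD (X := A.left))
  have hbc : Groth.L29.BC.BC hcB.flip.w := Groth.L10.FMBC.bc_of_flat_or hcB.flip (Or.inr inferInstance)
  haveI : ∀ E, IsIso ((Functor.whiskerLeft J₀ (Groth.L29.BC.βNat hcB.flip.w)).app E) := fun E => hbc _ E.property
  haveI := NatIso.isIso_of_isIso_app (Functor.whiskerLeft J₀ (Groth.L29.BC.βNat hcB.flip.w))
  let U := J₀ ⋙ DCoh.Lpull (pullback.fst A.hom Bt.hom)
  haveI : ∀ E, IsIso ((Functor.whiskerLeft U τ).app E) := fun E => hτ _ (Groth.L29.DC.isQCohD_Lpull _ E.property)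
  haveI := NatIso.isIso_of_isIso_app (Functor.whiskerLeft U τ)
  exact ⟨Functor.isoWhiskerRight (asIso (Functor.whiskerLeft J₀ (Groth.L29.BC.βNat hcB.flip.w)))
      (DCoh.LTensorMod PB ⋙ DCoh.Rpush (pullback.snd B.hom Bt.hom)) ≪≫
    Functor.isoWhiskerRight (asIso (Functor.whiskerLeft U τ)) (DCoh.Rpush (pullback.snd B.hom Bt.hom)) ≪≫
    Functor.isoWhiskerLeft (U ⋙ DCoh.LTensorMod ((Scheme.Modules.pullback fB).obj PB)) r ≪≫
    Functor.isoWhiskerLeft J₀ (Functor.isoWhiskerRight e.symm (DCoh.Lpull (pullback.fst A.hom Bt.hom) ⋙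
      DCoh.LTensorMod ((Scheme.Modules.pullback fB).obj PB) ⋙ DCoh.Rpush (pullback.snd A.hom Bt.hom))) ≪≫ i⟩

end Groth.Agent.S14132
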