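import Groth.Statements.S14134
import Groth.Agent.L10.FMBC.Translate

set_option autoImplicit false
set_option linter.style.haveILetI false
set_option linter.unusedVariables false
set_option backward.defeqAttrib.useBackward true
set_option backward.isDefEq.respectTransparency false
universe u
open CategoryTheory CategoryTheory.Limits MonoidalCategory CartesianMonoidalCategory MonObj GrpObj AlgebraicGeometry
attribute [local instance] HasDerivedCategory.standard
open AbVar

namespace Groth.Agent.S14134

/-- Let k be a field, A an abelian variety over k (a proper smooth k-group scheme with geometrically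
connected fibres), (A^t, φ) a given dual abelian variety of A for the fppf topology with A^t an
abelian variety, P an invertible module on A ×_k A^t whose class is a Poincaré class, and x a
k-rational point of A^t. Let M_x be the restriction of P along A = A × {x} → A ×_k A^t, and t_x :
A^t → A^t the translation by x (the product of the identity and the constant map x in the group
Hom(A^t, A^t)). Write Φ_P = Rpr_{2,*}(Lpr_1^*(−) ⊗^L P) : D(O_A) → D(O_{A^t}); the derived functors
involved are assumed to exist. Then, restricted to objects of D(O_A) with quasi-coherent cohomology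
sheaves, the functor F ↦ Φ_P(F ⊗^L M_x) is isomorphic to F ↦ Lt_x^*Φ_P(F) (existence of an
isomorphism of functors). -/
theorem result (k : Type u) [Field k]
    (A At : Over (Spec (CommRingCat.of k))) [GrpObj A] [IsProper A.hom] [Smooth A.hom] [GeometricallyConnected A.hom]
    [GrpObj At] [IsProper At.hom] [Smooth At.hom] [GeometricallyConnected At.hom]
    (φ : ∀ T : Over (Spec (CommRingCat.of k)), PicF.Cl (PicF.XT A.hom T) → (T ⟶ At))
    (hφ : AbDual.IsDualAV Scheme.fppfPrecoverage A At φ)
    (P : (pullback A.hom At.hom).Modules) (hP : PicF.IsInvertible P)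
    (hPξ : AbDual.IsPoincareCl A At φ (PicF.cl P))
    (x : 𝟙_ (Over (Spec (CommRingCat.of k))) ⟶ At)
    [DCoh.HasLpull (pullback.fst A.hom At.hom)] [DCoh.HasLTensorMod P] [DCoh.HasRpush (pullback.snd A.hom At.hom)]
    [DCoh.HasLTensorMod ((Scheme.Modules.pullback (CartesianMonoidalCategory.lift (𝟙 A) (toUnit A ≫ x)).left).obj P)]
    [DCoh.HasLpull (𝟙 At * (toUnit At ≫ x)).left] :
    Nonempty (ObjectProperty.ι (DCoh.IsQCohD (X := A.left)) ⋙
        DCoh.LTensorMod ((Scheme.Modules.pullback (CartesianMonoidalCategory.lift (𝟙 A) (toUnit A ≫ x)).left).obj P) ⋙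
        (DCoh.Lpull (pullback.fst A.hom At.hom) ⋙ DCoh.LTensorMod P ⋙ DCoh.Rpush (pullback.snd A.hom At.hom)) ≅
      ObjectProperty.ι (DCoh.IsQCohD (X := A.left)) ⋙ (DCoh.Lpull (pullback.fst A.hom At.hom) ⋙ DCoh.LTensorMod P ⋙ DCoh.Rpush (pullback.snd A.hom At.hom)) ⋙
        DCoh.Lpull (𝟙 At * (toUnit At ≫ x)).left) := by
  haveI := fun {A B : Scheme.{u}} (k : A ⟶ B) => Groth.L00.KFlat.hasLpull k
  haveI := fun {V : Scheme.{u}} (M : V.Modules) => Groth.L00.DerivedApi.hasLTensorMod M
  let p₁ : pullback A.hom At.hom ⟶ A.left := pullback.fst A.hom At.hom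
  let t := 𝟙 At * (toUnit At ≫ x)
  let s : pullback A.hom At.hom ⟶ pullback A.hom At.hom := (lift (fst A At) (snd A At ≫ t)).left
  have hs₁ : s ≫ pullback.fst A.hom At.hom = pullback.fst A.hom At.hom :=
    congrArg CommaMorphism.left (lift_fst (fst A At) (snd A At ≫ t))
  have hs₂ : s ≫ pullback.snd A.hom At.hom = pullback.snd A.hom At.hom ≫ t.left :=
    congrArg CommaMorphism.left (lift_snd (fst A At) (snd A At ≫ t))
  have hc : IsPullback s (pullback.snd A.hom At.hom) (pullback.snd A.hom At.hom) t.left := by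
    refine IsPullback.of_right ?_ hs₂ (IsPullback.of_hasPullback A.hom At.hom)
    rw [hs₁, Over.w t]
    exact IsPullback.of_hasPullback A.hom At.hom
  let M := (Scheme.Modules.pullback (lift (𝟙 A) (toUnit A ≫ x)).left).obj P
  have hM : PicF.IsInvertible M := Groth.L18.Ample.isInvertible_pullback _ hP
  let M' : (pullback A.hom At.hom).Modules := (Scheme.Modules.pullback p₁).obj M
  obtain ⟨i⟩ := Groth.L10.FMBC.nonempty_pull_kernelMod (π := 𝟙 A.left) (p₁ := pullback.fst A.hom At.hom)
    (q₁ := pullback.fst A.hom At.hom) (h := s) ((Category.comp_id _).trans hs₁.symm) hc P hP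
    (CohB1.tensorMod M' P) ⟨(Groth.L10.FMBC.nonempty_translate_dual hφ P hPξ x).some.symm⟩
  obtain ⟨l⟩ := Groth.L10.FMBC.nonempty_lpull_mod p₁ hM
  obtain ⟨as⟩ := Groth.L10.FMBC.nonempty_assocMod (A := M') (B := P) (Groth.L18.Ample.isInvertible_pullback _ hM) hP
  obtain ⟨e⟩ := Groth.L10.FMDiag.nonempty_Lpull_id (X := A.left)
  let J₀ := ObjectProperty.ι (DCoh.IsQCohD (X := A.left))
  let R := DCoh.Rpush (pullback.snd A.hom At.hom)
  exact ⟨Functor.isoWhiskerLeft J₀ (Functor.isoWhiskerRight l (DCoh.LTensorMod P ⋙ R) ≪≫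
      Functor.isoWhiskerLeft (DCoh.Lpull p₁) (Functor.isoWhiskerRight as R) ≪≫
      (Functor.leftUnitor _).symm ≪≫ Functor.isoWhiskerRight e.symm _) ≪≫ i⟩

end Groth.Agent.S14134
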