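import Groth.Statements.S1071
import Groth.Agent.Lead.KoszulTwist

set_option linter.style.haveILetI false
set_option backward.isDefEq.respectTransparency false
set_option backward.isDefEq.respectTransparency.types false

attribute [local instance] CategoryTheory.Limits.HasFiniteBiproducts.of_hasFiniteProducts


set_option autoImplicit false
universe u
open CategoryTheory CategoryTheory.Limits AlgebraicGeometry
open Perf

namespace Groth.Agent.S1071

/-- Let A be a ring, X = P^n_A and a ∈ ℤ. There is a cochain complex of O_X-modules, exact in every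
degree, whose term in degree i is isomorphic to the direct sum of (n+1 choose i) copies of O_X(a +
i) for 0 ≤ i ≤ n + 1 and is zero in all other degrees. -/
theorem result (n : ℕ) (A : Type u) [CommRing A] (a : ℤ) :
    ∃ C : CochainComplex (CohB1.ProjSpace n A).Modules ℤ, (∀ i : ℤ, C.ExactAt i) ∧
      (∀ i : ℕ, i ≤ n + 1 → Nonempty (C.X (i : ℤ) ≅ ∐ fun _ : Fin (Nat.choose (n + 1) i) => Twist.twistProjSpace n A (a + i))) ∧
      (∀ i : ℤ, i < 0 ∨ (n : ℤ) + 1 < i → IsZero (C.X i)) := by
  let l := Groth.Lead.KoszulTwist.coords n A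
  have hl : l.length = n + 1 := List.length_ofFn
  refine ⟨Groth.Lead.KoszulTwist.kos l (Twist.twistProjSpace n A a),
    Groth.Lead.KoszulTwist.exact_kos l _ (Groth.Lead.KoszulTwist.coords_iso n A), fun i _ => ?_,
    fun i hi => Groth.Lead.KoszulTwist.isZero_kos l _ i (by rw [hl]; push_cast; exact hi)⟩
  obtain ⟨e⟩ := Groth.Lead.KoszulTwist.nonempty_term_iso l (Twist.twistProjSpace n A a) i
  obtain ⟨e'⟩ := Groth.Lead.KoszulTwist.tpow_twist n A a i
  rw [hl] at e
  exact ⟨e ≪≫ biproduct.isoCoproduct _ ≪≫ Sigma.mapIso fun _ => e'⟩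

end Groth.Agent.S1071
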