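import Groth.Statements.S1819
import Groth.Agent.L29.Dual.BidualDev
import Groth.Agent.L10.DRing.InjAmp

set_option autoImplicit false
set_option backward.defeqAttrib.useBackward true
set_option backward.isDefEq.respectTransparency false
universe u
open CategoryTheory
attribute [local instance] HasDerivedCategory.standard
open Dual

namespace Groth.Agent.S1819

/-- Let A be a Noetherian ring with a dualizing complex ω and K a complex of A-modules all of whose
cohomology modules are finite; assume RHom(K, −) exists. Then every cohomology module of RHom_A(K,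
ω) is finite, and for every complex E representing RHom_A(K, ω) (with RHom(E, −) existing) there is
an isomorphism RHom_A(E, ω) ≅ K in D(A). -/
theorem result (A : Type u) [CommRing A] [IsNoetherianRing A] (ω : Dual.D A) (hω : Dual.IsDualizing A ω) (K : DRing.Cx A) [DRing.HasRHomCx K] (hK : ∀ i : ℤ, Module.Finite A (Dual.HD A (DRing.toD K) i)) : (∀ i : ℤ, Module.Finite A (Dual.HD A ((DRing.RHomCx K).obj ω) i)) ∧ ∀ (E : DRing.Cx A) [DRing.HasRHomCx E], Nonempty (DRing.toD E ≅ (DRing.RHomCx K).obj ω) → Nonempty ((DRing.RHomCx E).obj ω ≅ DRing.toD K) := by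
  obtain ⟨a, b, hab⟩ := hω.finite_injective_dimension
  obtain ⟨I, hI, hinj, ⟨eI⟩⟩ := Groth.L10.DR.injAmp_of_vanishing (K := ω) (a := a) (b := b)
    fun J i hi => hab (A ⧸ J) i hi
  haveI : ∀ i, Injective (I.X i) := fun i => by
    haveI := hinj i
    exact Module.injective_object_of_injective_module A (I.X i)
  haveI : I.IsStrictlyGE a := (CochainComplex.isStrictlyGE_iff _ _).2 fun i hi => hI i (Or.inl hi)
  haveI : I.IsKInjective := CochainComplex.isKInjective_of_injective I a
  have hbij : Function.Bijective (fun x : A => x • 𝟙 (DRing.toD I)) := by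
    have h : (fun x : A => x • 𝟙 (DRing.toD I)) =
        (Linear.homCongr A eI.symm eI.symm) ∘ fun x : A => x • 𝟙 ω := by
      funext x
      simp [Linear.homCongr]
    rw [h]
    exact (Linear.homCongr A eI.symm eI.symm).bijective.comp hω.toEnd_bijective
  have hself : ∀ i : ℤ, i ≠ 0 → Subsingleton (DRing.toD I ⟶ (DRing.toD I)⟦i⟧) := fun i hi => by
    haveI := hω.ext_self_subsingleton i hi
    exact (Iso.homCongr eI ((CategoryTheory.shiftFunctor (Dual.D A) i).mapIso eI)).subsingleton
  have hfin : ∀ i : ℤ, Module.Finite A (Dual.HD A (DRing.toD I) i) := fun i => by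
    haveI := hω.finite_cohomology i
    exact Module.Finite.equiv
      ((DerivedCategory.homologyFunctor (ModuleCat.{u} A) i).mapIso eI).toLinearEquiv.symm
  have hg := Groth.L29.BidualCx.good I hI hbij hself hfin K hK
  let eR : ∀ (E : DRing.Cx A) [DRing.HasRHomCx E], DRing.toD (DRing.homCx E I) ≅ (DRing.RHomCx E).obj ω :=
    fun E _ => Groth.L10.RHomCx.computeInj E I ≪≫ (DRing.RHomCx E).mapIso eI
  refine ⟨fun i => ?_, ?_⟩
  · haveI : Module.Finite A ((HomologicalComplex.homologyFunctor (ModuleCat.{u} A) (ComplexShape.up ℤ) i).obj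
        (DRing.homCx K I)) := (hg i).2
    haveI : Module.Finite A ((DerivedCategory.Q ⋙ DerivedCategory.homologyFunctor (ModuleCat.{u} A) i).obj
        (DRing.homCx K I)) :=
      Module.Finite.equiv
        ((DerivedCategory.homologyFunctorFactors (ModuleCat.{u} A) i).app (DRing.homCx K I)).toLinearEquiv.symm
    haveI : Module.Finite A ((DerivedCategory.homologyFunctor (ModuleCat.{u} A) i).obj
        (DRing.toD (DRing.homCx K I))) := Module.Finite.equiv (LinearEquiv.refl A
          ((DerivedCategory.Q ⋙ DerivedCategory.homologyFunctor (ModuleCat.{u} A) i).obj (DRing.homCx K I)))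
    exact Module.Finite.equiv
      ((DerivedCategory.homologyFunctor (ModuleCat.{u} A) i).mapIso (eR K)).toLinearEquiv
  · rintro E _ ⟨e⟩
    haveI := Groth.L29.BidualCx.quasiIso_ev I hI hbij hself hfin K hK
    let R := Groth.L10.KInjRes.res (DRing.homCx K I)
    let ι := Groth.L10.KInjRes.resι (DRing.homCx K I)
    haveI := Groth.L10.RHomCx.isIso_Q_map ι
    let q := HomotopyCategory.quotient (ModuleCat.{u} A) (ComplexShape.up ℤ)
    let ψ : DRing.toD E ⟶ DRing.toD R := (e ≪≫ (eR K).symm).hom ≫ DerivedCategory.Q.map ι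
    obtain ⟨g', hg'⟩ := (CochainComplex.IsKInjective.Qh_map_bijective (q.obj E) R).2
      (((DerivedCategory.quotientCompQhIso (ModuleCat.{u} A)).app E).hom ≫ ψ ≫
        ((DerivedCategory.quotientCompQhIso (ModuleCat.{u} A)).app R).inv)
    obtain ⟨f, rfl⟩ := q.map_surjective g'
    haveI : QuasiIso f := by
      refine (DerivedCategory.isIso_Q_map_iff_quasiIso (C := ModuleCat.{u} A) f).1 ?_
      refine (NatIso.isIso_map_iff (DerivedCategory.quotientCompQhIso (ModuleCat.{u} A)) f).1 ?_
      change IsIso (DerivedCategory.Qh.map (q.map f))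
      rw [hg']
      haveI : IsIso ψ := IsIso.comp_isIso
      infer_instance
    haveI := Groth.L10.RHomCx.quasiIso_homCxPre ι I
    haveI := Groth.L10.RHomCx.quasiIso_homCxPre f I
    haveI := Groth.L10.RHomCx.isIso_Q_map (Groth.L10.RHomCx.homCxPre ι I)
    haveI := Groth.L10.RHomCx.isIso_Q_map (Groth.L10.RHomCx.homCxPre f I)
    haveI := Groth.L10.RHomCx.isIso_Q_map (Groth.L29.BidualCx.ev I K)
    exact ⟨(eR E).symm ≪≫ (asIso (DerivedCategory.Q.map (Groth.L10.RHomCx.homCxPre f I))).symm ≪≫
      asIso (DerivedCategory.Q.map (Groth.L10.RHomCx.homCxPre ι I)) ≪≫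
      (asIso (DerivedCategory.Q.map (Groth.L29.BidualCx.ev I K))).symm⟩

end Groth.Agent.S1819
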