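import Groth.Statements.S3609
import Groth.Agent.L10.ShriekLoc.Local

set_option autoImplicit false
set_option linter.style.haveILetI false
set_option backward.defeqAttrib.useBackward true
set_option backward.isDefEq.respectTransparency false
set_option backward.isDefEq.respectTransparency.types false
set_option backward.defeqAttrib.useBackward true
set_option backward.isDefEq.respectTransparency false
universe u
open CategoryTheory CategoryTheory.Limits AlgebraicGeometry
attribute [local instance] HasDerivedCategory.standard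
open Dual3

namespace Groth.Agent.S3609

/-- Let S be a Noetherian scheme, X and Y schemes separated and of finite type over S and f : X → Y a
morphism over S; compute f^! through a compactification f = j ∘ p (j : X → X' an open immersion, p :
X' → Y proper, Rp_* on D_QCoh assumed to exist and to preserve quasi-coherence of cohomology, a a
right adjoint of Rp_*, restriction of modules to opens assumed exact), so that f^!K = a(K)|_X. If f
is a local complete intersection morphism (affine-locally given by local complete intersection ring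
maps) and O denotes the structure sheaf of Y in degree 0, then f^!O is an invertible object of
D(O_X): every point of X has an open neighbourhood over which it is isomorphic to a shift of the
structure sheaf. -/
theorem result (S X Y : Scheme.{u}) [IsNoetherian S] (p : X ⟶ S) (q : Y ⟶ S) [Dual3.IsSepFT p] [Dual3.IsSepFT q] (f : X ⟶ Y) (w : f ≫ q = p) (hf : Dual3.IsLCIMor f) (c : DEt.Compactification f) [DCoh.HasRpush c.fbar] (hc : DCoh.RpushPreservesQCoh c.fbar) (a : DCoh.DQCoh Y ⥤ DCoh.DQCoh c.Xbar) (adj : DCoh.RpushQ c.fbar hc ⊣ a) [∀ (U V : Scheme.{u}) (j : U ⟶ V) [IsOpenImmersion j], PreservesFiniteLimits (Scheme.Modules.restrictFunctor j)] (O : DCoh.DQCoh Y) (hO : Nonempty (O.obj ≅ DCoh.inD Y (Coh.structureModule Y))) : Dual3.IsInvertibleD ((Dual3.shriekC c a).obj O) := by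
  haveI := fun {A B : Scheme.{u}} (k : A ⟶ B) => Groth.L00.KFlat.hasLpull k
  haveI := fun (R : CommRingCat.{u}) => Groth.L18.TildeF.tilde_preservesFiniteLimits (R := R)
  haveI := Groth.L10.ShriekLoc.isNoetherian_of_sepFT q
  haveI : IsLocallyNoetherian X := LocallyOfFiniteType.isLocallyNoetherian p
  haveI : LocallyOfFiniteType f := by
    haveI : LocallyOfFiniteType (f ≫ q) := by rw [w]; infer_instance
    exact locallyOfFiniteType_of_comp f q
  refine Groth.L10.ShriekLoc.isInvertibleD_of_charts fun x => ?_
  obtain ⟨C, hx, hl⟩ := Groth.L10.ShriekLoc.exists_chart_lci hf x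
  haveI := Groth.L10.ShriekLoc.isNoetherian_R C
  haveI := Groth.L10.ShriekLoc.isNoetherian_A C
  obtain ⟨n, ψ, hψ⟩ := Groth.L10.ShriekLoc.exists_presentation C
  haveI : DRing.HasLBaseChange (algebraMap C.R (MvPolynomial (Fin n) C.R)) :=
    Groth.L29.DC.LBC.hasLBaseChange (CommRingCat.ofHom (algebraMap C.R (MvPolynomial (Fin n) C.R)))
  obtain ⟨Rψ, ⟨adjψ⟩⟩ := Groth.L10.Shriek.exists_rightAdjoint ψ.toRingHom
  have e := Groth.L10.ShriekLoc.nonempty_shriekC c adj C n ψ hψ Rψ adjψ O 0
    (Groth.L10.ShriekLoc.isGE_O O hO) _ (Groth.L10.ShriekLoc.nonempty_O C O hO)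
  obtain ⟨z, rfl⟩ := hx
  obtain ⟨g, hz, _, _, m, ⟨i⟩⟩ := Groth.L10.ShriekLoc.exists_away n ψ hψ Rψ adjψ hl z
  obtain ⟨t⟩ := Groth.L10.ShriekLoc.nonempty_lbc_chart (algebraMap C.A (Localization.Away g)) C.jU e
  obtain ⟨s⟩ := Groth.L10.ShriekLoc.nonempty_tilde_self_shift (Localization.Away g) m
  obtain ⟨z', rfl⟩ := hz
  exact ⟨_, Spec.map (CommRingCat.ofHom (algebraMap C.A (Localization.Away g))) ≫ C.jU, inferInstance,
    inferInstance, m, ⟨z', Scheme.Hom.comp_apply _ _ _⟩,
    ⟨t ≪≫ (DCoh.tildeD (CommRingCat.of (Localization.Away g))).mapIso i ≪≫ s⟩⟩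

end Groth.Agent.S3609
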