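import Groth.Statements.S9265
import Groth.Agent.L10.DRing.CechTorsion

set_option autoImplicit false
universe u
attribute [local instance] HasDerivedCategory.standard
open CategoryTheory
open DerCA

namespace Groth.Agent.S9265

/-- Every element of the cohomology of the extended alternating Cech complex of M with respect to f_1,
..., f_r is killed by a common power of the f_i; in particular these cohomology modules are
supported on V(f_1, ..., f_r). -/
theorem result (R : Type u) [CommRing R] (fs : List R) (M : ModuleCat.{u} R)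
    (q : ℤ) (x : DerCA.extCechH fs M q) :
    ∃ n : ℕ, 1 ≤ n ∧ ∀ f ∈ fs, (f ^ n) • x = 0 := by
  classical
  choose k hk using fun g : {g // g ∈ fs} => Groth.L10.CechTorsion.exists_pow_smul M fs g.1 g.2 q x
  refine ⟨(∑ g ∈ fs.toFinset.attach, k ⟨g.1, List.mem_toFinset.1 g.2⟩) + 1, by omega, fun f hf => ?_⟩
  have hle : k ⟨f, hf⟩ ≤ (∑ g ∈ fs.toFinset.attach, k ⟨g.1, List.mem_toFinset.1 g.2⟩) + 1 := by
    have := Finset.single_le_sum (s := fs.toFinset.attach) (f := fun g => k ⟨g.1, List.mem_toFinset.1 g.2⟩)
      (fun _ _ => Nat.zero_le _) (Finset.mem_attach _ ⟨f, List.mem_toFinset.2 hf⟩)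
    exact le_trans this (Nat.le_succ _)
  obtain ⟨d, hd⟩ := Nat.exists_eq_add_of_le hle
  rw [hd, add_comm, pow_add, mul_smul, hk ⟨f, hf⟩, smul_zero]

end Groth.Agent.S9265
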