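import Groth.Statements.S9602
import Mathlib.RingTheory.AdicCompletion.Algebra
import Mathlib.RingTheory.Jacobson.Ideal
import Mathlib.Algebra.Ring.GeomSum
-- import your own Groth.Agent.* helpers here

set_option autoImplicit false
universe u
open CAlg

namespace Groth.Agent.S9602

/-- Let R be a ring, I an ideal of R and R^ = lim R/Iⁿ the I-adic completion. An element of R^ whose
image in R/I is invertible is itself invertible in R^; and the kernel of R^ → R/I as well as the
extended ideal I R^ both lie inside the Jacobson radical of R^. -/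
theorem result {R : Type u} [CommRing R] (I : Ideal R) :
    (∀ x : AdicCompletion I R, IsUnit (AdicCompletion.evalOneₐ I x) → IsUnit x) ∧
      RingHom.ker (AdicCompletion.evalOneₐ I).toRingHom ≤ (⊥ : Ideal (AdicCompletion I R)).jacobson ∧
      I.map (algebraMap R (AdicCompletion I R)) ≤ (⊥ : Ideal (AdicCompletion I R)).jacobson := by
  have key : ∀ x : AdicCompletion I R, IsUnit (AdicCompletion.evalOneₐ I x) → IsUnit x := by
    intro x hx
    obtain ⟨u, hu⟩ := isUnit_iff_exists_inv.1 hx
    obtain ⟨a, rfl⟩ := Ideal.Quotient.mk_surjective u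
    obtain ⟨f, rfl⟩ := AdicCompletion.mk_surjective I R x
    have h1 : ∀ n, 1 ≤ n → 1 - f n * a ∈ I := by
      intro n hn
      have h2 : Ideal.Quotient.mk I (f 1) * Ideal.Quotient.mk I a = 1 := hu
      rw [← map_mul, ← map_one (Ideal.Quotient.mk I), Ideal.Quotient.eq] at h2
      have h3 := SModEq.sub_mem.1 (f.2 hn)
      rw [smul_eq_mul, Ideal.mul_top, pow_one] at h3
      have : 1 - f n * a = -(f 1 * a - 1) + (f 1 - f n) * a := by ring
      rw [this]
      exact add_mem (neg_mem h2) (Ideal.mul_mem_right _ _ h3)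
    let g : ℕ → R := fun n => a * ∑ k ∈ Finset.range n, (1 - f n * a) ^ k
    have hg : ∀ n, 1 - f n * g n ∈ I ^ n := by
      intro n
      rcases Nat.eq_zero_or_pos n with rfl | hn
      · simp
      · have : 1 - f n * g n = (1 - f n * a) ^ n := by
          have h4 := mul_neg_geom_sum (1 - f n * a) n
          rw [sub_sub_cancel] at h4
          rw [← mul_assoc, h4, sub_sub_cancel]
        rw [this]
        exact Ideal.pow_mem_pow (h1 n hn) n
    have hgc : AdicCompletion.IsAdicCauchy I R g := by
      intro p q hpq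
      rw [SModEq.sub_mem, smul_eq_mul, Ideal.mul_top]
      have h2 := hg p
      have h3 := Ideal.pow_le_pow_right hpq (hg q)
      have h4 : f p - f q ∈ I ^ p := by
        have := SModEq.sub_mem.1 (f.2 hpq)
        rwa [smul_eq_mul, Ideal.mul_top] at this
      have : g p - g q = g p * (1 - f q * g q) - g q * (1 - f p * g p) - g p * g q * (f p - f q) := by ring
      rw [this]
      exact sub_mem (sub_mem (Ideal.mul_mem_left _ _ h3) (Ideal.mul_mem_left _ _ h2)) (Ideal.mul_mem_left _ _ h4)
    refine isUnit_iff_exists_inv.2 ⟨AdicCompletion.mk I R ⟨g, hgc⟩, AdicCompletion.ext_evalₐ fun n => ?_⟩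
    rw [map_mul, map_one, AdicCompletion.evalₐ_mk, AdicCompletion.evalₐ_mk, ← map_mul,
      ← map_one (Ideal.Quotient.mk (I ^ n)), Ideal.Quotient.eq, ← neg_sub]
    exact neg_mem (hg n)
  have hker : RingHom.ker (AdicCompletion.evalOneₐ I).toRingHom ≤ (⊥ : Ideal (AdicCompletion I R)).jacobson := by
    intro x hx
    refine Ideal.mem_jacobson_bot.2 fun y => key _ ?_
    have hx' : AdicCompletion.evalOneₐ I x = 0 := hx
    simp [hx']
  refine ⟨key, hker, le_trans (Ideal.map_le_iff_le_comap.2 fun a ha => ?_) hker⟩
  show AdicCompletion.evalOneₐ I (algebraMap R _ a) = 0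
  rw [AlgHom.commutes]
  exact Ideal.Quotient.eq_zero_iff_mem.2 ha

end Groth.Agent.S9602
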