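import Groth.Statements.S0008
import Groth.Agent.L17.CechComparison

set_option autoImplicit false
universe u
open Coherent

namespace Groth.Agent.S0008

open AlgebraicGeometry in
/-- For a ring A, an A-module M and elements f_1, …, f_n generating the unit ideal, the Čech cohomology
of the associated module on Spec A with respect to the covering by the basic opens D(f_i) vanishes
in every positive degree. -/
theorem result (A : Type u) [CommRing A] (M : ModuleCat.{u} A)
    (n : ℕ) (f : ULift.{u} (Fin n) → A) (hf : Ideal.span (Set.range f) = ⊤) (p : ℕ) (hp : 0 < p) :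
    CategoryTheory.Limits.IsZero (CohB1.cechH (fun i => PrimeSpectrum.basicOpen (f i)) (tilde (R := CommRingCat.of A) M) p) := by
  obtain ⟨m, rfl⟩ := Nat.exists_eq_add_of_lt hp
  have hU : ∀ (k : ℕ) (a : Fin (k + 1) → ULift.{u} (Fin n)),
      IsAffineOpen (X := Spec (CommRingCat.of A)) (⨅ j, PrimeSpectrum.basicOpen (f (a j))) := by
    intro k a
    have key : ∀ s : Finset (Fin (k + 1)),
        (s.inf fun j => (PrimeSpectrum.basicOpen (f (a j)) : (Spec (CommRingCat.of A)).Opens)) =
          PrimeSpectrum.basicOpen (∏ j ∈ s, f (a j)) := fun s => by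
      induction s using Finset.cons_induction with
      | empty => simp
      | cons b s hb ih => rw [Finset.inf_cons, Finset.prod_cons, ih, PrimeSpectrum.basicOpen_mul]
    have e : (⨅ j, (PrimeSpectrum.basicOpen (f (a j)) : (Spec (CommRingCat.of A)).Opens)) =
        PrimeSpectrum.basicOpen (∏ j, f (a j)) :=
      (Finset.inf_univ_eq_iInf (fun j => (PrimeSpectrum.basicOpen (f (a j)) : (Spec (CommRingCat.of A)).Opens))).symm.trans (key _)
    exact Eq.mpr (congrArg IsAffineOpen e) (IsAffineOpen.Spec_basicOpen _)
  obtain ⟨e⟩ := Groth.L17.nonempty_cechH_equiv (X := Spec (CommRingCat.of A))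
    (fun i => PrimeSpectrum.basicOpen (f i)) (tilde (R := CommRingCat.of A) M) hU (0 + m + 1)
  have htop : (⨆ i, PrimeSpectrum.basicOpen (f i) : (Spec (CommRingCat.of A)).Opens) = ⊤ :=
    PrimeSpectrum.iSup_basicOpen_eq_top_iff.2 hf
  rw [htop] at e
  have := subsingleton_of_forall_eq 0 (Groth.L17.hu_affine_eq_zero (tilde (R := CommRingCat.of A) M)
    (isAffineOpen_top (Spec (CommRingCat.of A))) (0 + m))
  have := e.subsingleton
  exact AddCommGrpCat.isZero_of_subsingleton _

end Groth.Agent.S0008
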