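import Groth.Statements.S0010
import Groth.Agent.L17.CoverVanishing

set_option autoImplicit false
universe u
open Coherent

namespace Groth.Agent.S0010

open AlgebraicGeometry in
/-- Let X be a scheme in which the intersection of any two affine opens is affine (equivalently, X has
affine diagonal; e.g. X separated), covered by t affine opens. Then H^n(X, F) = 0 for every
quasi-coherent F and every n ≥ t. -/
theorem result (X : Scheme.{u}) (t : ℕ) (U : Fin t → X.Opens)
    (hU : ∀ i, IsAffineOpen (U i)) (hcov : ⨆ i, U i = ⊤)
    (hd : ∀ V W : X.Opens, IsAffineOpen V → IsAffineOpen W → IsAffineOpen (V ⊓ W))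
    (M : X.Modules) [Coh.IsQCoh M] (n : ℕ) (hn : t ≤ n) :
    Subsingleton (Coh.HH X M n) := by
  refine Groth.L17.subsingleton_HH_of_affine_cover t U hcov (fun s hs => ?_) M n hn
  induction hs using Finset.Nonempty.cons_induction with
  | singleton a => simpa using hU a
  | cons a s ha hs ih =>
    rw [Finset.inf_cons]
    exact hd _ _ (hU a) ih

end Groth.Agent.S0010
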