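import Groth.Statements.S0011
import Groth.Agent.L17.SerreCriterion
import Groth.Agent.L17.AffinePush
import Groth.Agent.L21.Mod.Locality

set_option autoImplicit false
universe u
open Coherent

namespace Groth.Agent.S0011

open AlgebraicGeometry CategoryTheory in
/-- On a quasi-compact scheme in which affine opens have affine intersections, every quasi-coherent
module admits a monomorphism into a quasi-coherent module whose cohomology vanishes in all positive
degrees. (Part (2), universality of the delta-functor, is not stated.) -/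
theorem result (X : Scheme.{u}) [CompactSpace X]
    (hd : ∀ V W : X.Opens, IsAffineOpen V → IsAffineOpen W → IsAffineOpen (V ⊓ W))
    (M : X.Modules) [Coh.IsQCoh M] :
    ∃ (M' : X.Modules) (i : M ⟶ M'), Mono i ∧ Coh.IsQCoh M' ∧
      ∀ p : ℕ, 0 < p → Subsingleton (Coh.HH X M' p) := by
  classical
  obtain ⟨t, ht⟩ := isCompact_univ.elim_finite_subcover (fun V : X.affineOpens => (V.1 : Set X))
    (fun V => V.1.2) (fun x _ => by
      obtain ⟨_, ⟨V, hV, rfl⟩, hxV, -⟩ :=
        X.isBasis_affineOpens.exists_subset_of_mem_open (Set.mem_univ x) isOpen_univ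
      exact Set.mem_iUnion.2 ⟨⟨V, hV⟩, hxV⟩)
  haveI haff : ∀ i : t, IsAffineHom i.1.1.ι := fun i => ⟨fun U hU => by
    have h := hd i.1.1 U i.1.2 hU
    rw [← i.1.1.ι.isAffineOpen_iff_of_isOpenImmersion, Scheme.Hom.image_preimage_eq_opensRange_inf,
      Scheme.Opens.opensRange_ι]
    exact h⟩
  let N : t → X.Modules := fun i => (Coh.push i.1.1.ι).obj (M.restrict i.1.1.ι)
  haveI : ∀ i : t, Coh.IsQCoh (M.restrict i.1.1.ι) := fun i => Scheme.Modules.isQuasicoherent_restrictFunctor _ M
  have hN : ∀ i, Coh.IsQCoh (N i) := fun i => Groth.L16.QcqsPush.isQCoh_push _ i.1.1.ι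
  let l : M ⟶ Limits.piObj N :=
    Limits.Pi.lift fun i => (Scheme.Modules.restrictAdjunction i.1.1.ι).unit.app M
  refine ⟨Limits.piObj N, l, ?_, Groth.L17.Serre.isQCoh_piObj N hN, fun p hp => ?_⟩
  · refine Groth.L21.Mod.mono_of_restrict (fun i : t => i.1.1.ι) (fun x => ?_) l fun i => ?_
    · obtain ⟨V, hV, hxV⟩ := Set.mem_iUnion₂.1 (ht (Set.mem_univ x))
      exact ⟨⟨V, hV⟩, ⟨⟨x, hxV⟩, rfl⟩⟩
    · have h1 : (Scheme.Modules.restrictFunctor i.1.1.ι).map l ≫
          (Scheme.Modules.restrictFunctor i.1.1.ι).map (Limits.Pi.π N i) ≫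
          (Scheme.Modules.restrictAdjunction i.1.1.ι).counit.app _ = 𝟙 _ := by
        rw [← Functor.map_comp_assoc, Limits.Pi.lift_π]
        exact (Scheme.Modules.restrictAdjunction i.1.1.ι).left_triangle_components M
      exact mono_of_mono_fac h1
  · obtain ⟨q, rfl⟩ : ∃ q, p = q + 1 := ⟨p - 1, by omega⟩
    refine Groth.L17.Serre.subsingleton_HH_piObj N (q + 1) fun i => ?_
    obtain ⟨e⟩ := Groth.L17.nonempty_HH_push_of_isAffineHom i.1.1.ι (M.restrict i.1.1.ι) (q + 1)
    haveI : IsAffine i.1.1.toScheme := i.1.2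
    haveI := Groth.L17.subsingleton_HH_of_isAffine i.1.1.toScheme (M.restrict i.1.1.ι) q
    exact e.symm.toEquiv.subsingleton

end Groth.Agent.S0011
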