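import Groth.Statements.S0015
-- import your own Groth.Agent.* helpers here

set_option autoImplicit false
universe u
open Coherent

namespace Groth.Agent.S0015

open AlgebraicGeometry in
/-- Let X be quasi-compact and quasi-separated and P a property of opens of X. If P holds for affine
opens, and P(U ∪ V) follows from P(U), P(V), P(U ∩ V) whenever U is quasi-compact open and V affine
open, then P holds for every quasi-compact open, in particular for X. -/
theorem result (X : Scheme.{u}) [CompactSpace X] [QuasiSeparatedSpace X]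
    (P : X.Opens → Prop) (h₁ : ∀ U : X.Opens, IsAffineOpen U → P U)
    (h₂ : ∀ U V : X.Opens, IsCompact (U : Set X) → IsAffineOpen V → P U → P V → P (U ⊓ V) →
      P (U ⊔ V))
    (U : X.Opens) (hU : IsCompact (U : Set X)) : P U := by
  have hqs : ∀ S A : X.Opens, IsCompact (S : Set X) → IsCompact (A : Set X) → IsCompact ((S ⊓ A : X.Opens) : Set X) := fun S A hS hA =>
    QuasiSeparatedSpace.inter_isCompact _ _ S.2 hS A.2 hA
  have inAff : ∀ W U₁ U₂ : X.Opens, IsAffineOpen W → IsAffineOpen U₁ → IsAffineOpen U₂ → U₁ ≤ W → U₂ ≤ W → IsAffineOpen (U₁ ⊓ U₂) := by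
    intro W U₁ U₂ hW h1 h2 l1 l2
    haveI : IsAffine W := hW
    have a1 : IsAffineOpen (W.ι ⁻¹ᵁ U₁) := h1.preimage_of_isOpenImmersion W.ι (by rw [Scheme.Opens.opensRange_ι]; exact l1)
    have a2 : IsAffineOpen (W.ι ⁻¹ᵁ U₂) := h2.preimage_of_isOpenImmersion W.ι (by rw [Scheme.Opens.opensRange_ι]; exact l2)
    have e : W.ι ''ᵁ (W.ι ⁻¹ᵁ U₁ ⊓ W.ι ⁻¹ᵁ U₂) = U₁ ⊓ U₂ := by
      ext x
      exact ⟨fun ⟨y, hy, e⟩ => e ▸ hy, fun hx => ⟨⟨x, l1 hx.1⟩, hx, rfl⟩⟩
    rw [← e, Scheme.Hom.isAffineOpen_iff_of_isOpenImmersion]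
    exact a1.inf a2
  have step : ∀ W : X.Opens, IsAffineOpen W → ∀ S : X.Opens, IsCompact (S : Set X) → S ≤ W →
      ∀ A : X.Opens, IsAffineOpen A → A ≤ W → P (S ⊓ A) := by
    intro W hW S hS
    refine compact_open_induction_on (P := fun S => S ≤ W → ∀ A : X.Opens, IsAffineOpen A → A ≤ W → P (S ⊓ A)) S hS ?_ ?_
    · intro _ A _ _; rw [bot_inf_eq]; exact h₁ _ (isAffineOpen_bot X)
    · intro S hS U' ih hle A hA hAW
      have hSW : S ≤ W := le_sup_left.trans hle
      have hUW : (U' : X.Opens) ≤ W := le_sup_right.trans hle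
      have hUA : IsAffineOpen ((U' : X.Opens) ⊓ A) := inAff W _ _ hW U'.2 hA hUW hAW
      rw [inf_sup_right]
      refine h₂ _ _ (hqs _ _ hS hA.isCompact) hUA (ih hSW A hA hAW) (h₁ _ hUA) ?_
      rw [show S ⊓ A ⊓ ((U' : X.Opens) ⊓ A) = S ⊓ ((U' : X.Opens) ⊓ A) by
        rw [inf_inf_inf_comm, inf_idem, inf_assoc]]
      exact ih hSW _ hUA (inf_le_right.trans hAW)
  refine compact_open_induction_on U hU (h₁ _ (isAffineOpen_bot X)) ?_
  intro S hS U' ih
  refine h₂ _ _ hS U'.2 ih (h₁ _ U'.2) ?_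
  have := step U' U'.2 (S ⊓ U') (hqs _ _ hS U'.2.isCompact) inf_le_right U' U'.2 le_rfl
  rwa [inf_assoc, inf_idem] at this

end Groth.Agent.S0015
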