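import Groth.Statements.S0018
import Groth.Agent.L16.CohKernel
import Groth.Agent.L00.LocalData
import Groth.Agent.L18.LocFreeTilde
import Groth.Agent.L18.LocFreeFP

set_option autoImplicit false
universe u
open Coherent

namespace Groth.Agent.S0018

open AlgebraicGeometry in
/-- On a locally Noetherian scheme an O_X-module is quasi-coherent of finite type if and only if it is
of finite presentation. (Either condition is what 'coherent' means there.) -/
theorem result (X : Scheme.{u}) [IsLocallyNoetherian X] (M : X.Modules) :
    Coh.IsCoh M ↔ CohB1.IsFP M := by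
  open CategoryTheory in
  constructor
  · intro hM
    open CategoryTheory in
    haveI : Coh.IsQCoh M := hM.1
    open CategoryTheory in
    refine Groth.L18.LFP.isFP_of_presentation M fun x => ?_
    obtain ⟨_, ⟨U, hU, rfl⟩, hxU, -⟩ :=
      X.isBasis_affineOpens.exists_subset_of_mem_open (Set.mem_univ x) isOpen_univ
    haveI : IsNoetherianRing Γ(X, U) := IsLocallyNoetherian.component_noetherian ⟨U, hU⟩
    let j := hU.fromSpec
    obtain ⟨N, ⟨e⟩⟩ := Groth.L00.Local.exists_tilde_iso_restrict j M
    haveI := Groth.L16.CohKernel.finite_of_tilde_iso M hM.2 j N e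
    haveI : Module.FinitePresentation Γ(X, U) N := Module.finitePresentation_of_finite _ _
    obtain ⟨s, hs, ht⟩ := Module.FinitePresentation.out (R := Γ(X, U)) (M := N)
    obtain ⟨t, ht⟩ := ht
    let P := presentationTilde.{u} N (s : Set N) hs (t : Set ((s : Set N) →₀ Γ(X, U))) ht
    let g := j.isoOpensRange.inv
    let Q : (M.restrict j.opensRange.ι).Presentation :=
      SheafOfModules.Presentation.ofIsIso
        ((Scheme.Modules.restrictFunctor g).map e.inv ≫
          ((Scheme.Modules.restrictFunctorComp g j).symm ≪≫
            Scheme.Modules.restrictFunctorCongr j.isoOpensRange_inv_comp).hom.app M)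
        (Scheme.Modules.presentationRestrict g P)
    refine ⟨j.opensRange, Q, hU.opensRange_fromSpec.ge hxU, ?_, ?_⟩
    · show Finite (s : Set N); infer_instance
    · show Finite (t : Set ((s : Set N) →₀ Γ(X, U))); infer_instance
  · intro h
    haveI : SheafOfModules.IsFinitePresentation (R := X.ringCatSheaf) M := h
    exact ⟨inferInstance, inferInstance⟩

end Groth.Agent.S0018
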