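import Groth.Statements.S0029
import Groth.Agent.L17.RestrictIdeal
import Groth.Agent.L17.SerreCriterion
import Groth.Agent.L17.CohSections
import Mathlib.AlgebraicGeometry.Morphisms.QuasiSeparated
import Mathlib.AlgebraicGeometry.Morphisms.Affine

set_option autoImplicit false
universe u
open Coherent

namespace Groth.Agent.S0029

open AlgebraicGeometry CategoryTheory in
/-- Let f : X → Y be a quasi-compact morphism between quasi-separated schemes. Suppose R^1 f_* I
vanishes for each quasi-coherent submodule I of O_X; then f is affine. -/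
theorem result {X Y : Scheme.{u}} (f : X ⟶ Y) [QuasiCompact f]
    [QuasiSeparatedSpace X] [QuasiSeparatedSpace Y]
    (h : ∀ (I : X.Modules) (i : I ⟶ Coh.structureModule X), Mono i → Coh.IsQCoh I →
      Limits.IsZero ((Coh.RpushAb f 1).obj (Coh.toAb I))) : IsAffineHom f := by
  haveI : QuasiSeparated f := inferInstance
  haveI := Groth.L17.PushQCoh.hasInjectiveResolutions X
  refine ⟨fun V hV => ?_⟩
  haveI : CompactSpace (f ⁻¹ᵁ V : Scheme.{u}) :=
    isCompact_iff_compactSpace.1 (QuasiCompact.isCompact_preimage (f := f) _ V.2 hV.isCompact)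
  show IsAffine (f ⁻¹ᵁ V : Scheme.{u})
  refine Groth.L17.Serre.isAffine_of_H1 fun J j hj hJ => ?_
  have hqc : QuasiCompact (f ⁻¹ᵁ V).ι := Groth.L17.RestrictIdeal.quasiCompact_ι_preimage f hV
  obtain ⟨I, i, hi, hI, ⟨e⟩⟩ := Groth.L17.RestrictIdeal.exists_extension (f ⁻¹ᵁ V) J j
  haveI := hI
  obtain ⟨e₁⟩ := Groth.L17.nonempty_hhon_equiv I (f ⁻¹ᵁ V) 1
  have hz := h I i hi hI
  obtain ⟨e₂⟩ := Groth.L17.nonempty_toAb_Rpush_iso f I 1
  haveI : Subsingleton ↑((Coh.toAb ((Coh.Rpush f 1).obj I)).obj.obj (Opposite.op V)) :=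
    AddCommGrpCat.subsingleton_of_isZero (Functor.map_isZero
      (sheafToPresheaf _ _ ⋙ (evaluation _ _).obj (Opposite.op V)) (hz.of_iso e₂))
  haveI : Subsingleton (Coh.HHon X I (f ⁻¹ᵁ V) 1) :=
    (e₁.trans (Groth.L17.CohSections.equiv f hV I 1)).toEquiv.subsingleton
  refine subsingleton_of_forall_eq 0 fun x => ?_
  have h0 : Groth.L16.CohLinear.hmap e.inv 1 x = 0 := Subsingleton.elim (α := Coh.HHon X I (f ⁻¹ᵁ V) 1) _ _
  rw [← Groth.L16.CohLinear.hmap_id 1 x, ← e.inv_hom_id, Groth.L16.CohLinear.hmap_comp, h0, map_zero]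

end Groth.Agent.S0029
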