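import Groth.Statements.S0037
import Groth.Agent.L17.PushQCoh
import Groth.Agent.L21.Mod.Stalks
import Mathlib.AlgebraicGeometry.ZariskisMainTheorem

set_option autoImplicit false
universe u
open Coherent

namespace Groth.Agent.S0037

open AlgebraicGeometry CategoryTheory in
/-- Let Y be locally Noetherian, f : X → Y proper and y a point whose fibre f⁻¹{y} is finite. Then for
every coherent F on X and every p > 0 the stalk of R^p f_* F at y vanishes. -/
theorem result {X Y : Scheme.{u}} (f : X ⟶ Y) [IsProper f]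
    [IsLocallyNoetherian Y] (y : Y) (hy : (f.base ⁻¹' {y}).Finite) (M : X.Modules) (hM : Coh.IsCoh M)
    (p : ℕ) (hp : 0 < p) :
    Limits.IsZero (TopCat.Presheaf.stalk ((Coh.RpushAb f p).obj (Coh.toAb M)).obj y) := by
  obtain ⟨V, hyV, hfin⟩ := exists_isFinite_morphismRestrict_of_finite_preimage_singleton (f := f) y hy
  obtain ⟨k, rfl⟩ : ∃ k, p = k + 1 := ⟨p - 1, by omega⟩
  haveI : Coh.IsQCoh M := hM.1
  haveI := Groth.L17.PushQCoh.hasInjectiveResolutions X
  haveI := Groth.L17.PushQCoh.hasInjectiveResolutions (f ⁻¹ᵁ V : Scheme.{u})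
  haveI : Coh.IsQCoh (M.restrict (f ⁻¹ᵁ V).ι) := Scheme.Modules.isQuasicoherent_restrictFunctor _ M
  haveI : IsAffineHom (f ∣_ V) := inferInstance
  obtain ⟨e⟩ := Groth.L17.PushQCoh.nonempty_Rpush_restrict_iso f V.ι (f ⁻¹ᵁ V).ι (f ∣_ V)
    (by rw [Scheme.Opens.opensRange_ι, Scheme.Opens.opensRange_ι]) (morphismRestrict_ι f V) M (k + 1)
  obtain ⟨e₁⟩ := Groth.L17.nonempty_toAb_Rpush_iso (f ∣_ V) (M.restrict (f ⁻¹ᵁ V).ι) (k + 1)
  have hz : Limits.IsZero (((Coh.Rpush f (k + 1)).obj M).restrict V.ι) :=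
    (Groth.L17.PushQCoh.isZero_of_toAb
      (Limits.IsZero.of_iso (Groth.L17.isZero_RpushAb_of_isAffineHom _ _ k) e₁)).of_iso e
  rw [Groth.L21.Mod.isZero_iff_support_eq_empty, Groth.L21.Mod.support_restrict] at hz
  have hs : Subsingleton (((Coh.Rpush f (k + 1)).obj M).presheaf.stalk y) :=
    not_not.1 fun h => Set.eq_empty_iff_forall_notMem.1 hz ⟨y, hyV⟩ h
  obtain ⟨e₂⟩ := Groth.L17.nonempty_toAb_Rpush_iso f M (k + 1)
  refine Limits.IsZero.of_iso ?_ ((TopCat.Presheaf.stalkFunctor _ y).mapIso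
    ((sheafToPresheaf _ _).mapIso e₂.symm))
  exact @AddCommGrpCat.isZero_of_subsingleton _ hs
end Groth.Agent.S0037
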