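import Groth.Statements.S0039
import Groth.Agent.L16.Exist.AlgClosedSupp
import Groth.Agent.L16.Exist.ThickIso

set_option autoImplicit false
universe u
open Coherent

namespace Groth.Agent.S0039

open AlgebraicGeometry CategoryTheory CategoryTheory.Limits in
/-- Let A be Noetherian and complete for an ideal I, X proper over A and Y separated of finite type over
A. Write X_n, Y_n for the base changes to A/I^(n+1). Then every system of morphisms g_n : X_n → Y_n
over A/I^(n+1), compatible with the transition maps, is induced by a morphism X → Y over A. (The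
published statement also asserts uniqueness, but only existence is stated here.) -/
theorem result (A : Type u) [CommRing A] [IsNoetherianRing A]
    (I : Ideal A) [IsAdicComplete I A] {X Y : Scheme.{u}} (f : X ⟶ Spec (CommRingCat.of A))
    (h : Y ⟶ Spec (CommRingCat.of A)) [IsProper f] [IsSeparated h] [LocallyOfFiniteType h]
    [QuasiCompact h] (g : (n : ℕ) → (CohB1.thick f I n ⟶ CohB1.thick h I n))
    (hg₁ : ∀ n, g n ≫ CohB1.thickToBase h I n = CohB1.thickToBase f I n)
    (hg₂ : ∀ n, CohB1.thickTrans f I n ≫ g (n + 1) = g n ≫ CohB1.thickTrans h I n) :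
    ∃ φ : X ⟶ Y, φ ≫ h = f ∧ ∀ n, CohB1.thickι f I n ≫ φ = g n ≫ CohB1.thickι h I n :=  by
  haveI hclq : ∀ k, IsClosedImmersion (CohB1.specQuot I k) := fun k =>
    Groth.L16.Exist.Adic.isClosedImmersion_specQuot I k
  let Xs : ℕ → Scheme.{u} := fun k => CohB1.thick f I k
  letI : ∀ k, (Xs k).Over (Spec (CommRingCat.of A)) := fun k =>
    ⟨CohB1.thickToBase f I k ≫ CohB1.specQuot I k⟩
  have htt : ∀ k, IsPullback (CohB1.thickTrans f I k) (CohB1.thickToBase f I k)
      (CohB1.thickToBase f I (k + 1)) (CohB1.specQuotTrans I k) := fun k => by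
    refine IsPullback.of_right ?_ ?_ (IsPullback.of_hasPullback f (CohB1.specQuot I (k + 1)))
    · have e1 : CohB1.thickTrans f I k ≫ pullback.fst f (CohB1.specQuot I (k + 1)) = pullback.fst f (CohB1.specQuot I k) :=
        (pullback.lift_fst _ _ _).trans (Category.comp_id _)
      rw [e1, CohB1.specQuotTrans_specQuot]
      exact IsPullback.of_hasPullback f (CohB1.specQuot I k)
    · exact pullback.lift_snd _ _ _
  have S := Groth.L16.Exist.Adic.isSys_of_cart I (Xs := Xs) (p := fun k => CohB1.thickToBase f I k)
    (i := CohB1.thickTrans f I) (fun k => rfl) htt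
  letI : (pullback f h).Over (Spec (CommRingCat.of A)) := ⟨pullback.fst f h ≫ f⟩
  haveI : IsSeparated (pullback f h ↘ Spec (CommRingCat.of A)) := inferInstanceAs (IsSeparated (pullback.fst f h ≫ f))
  haveI : LocallyOfFiniteType (pullback f h ↘ Spec (CommRingCat.of A)) :=
    inferInstanceAs (LocallyOfFiniteType (pullback.fst f h ≫ f))
  haveI : QuasiCompact (pullback f h ↘ Spec (CommRingCat.of A)) := inferInstanceAs (QuasiCompact (pullback.fst f h ≫ f))
  have hg : ∀ k, CohB1.thickι f I k ≫ f = (g k ≫ CohB1.thickι h I k) ≫ h := fun k => by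
    rw [Category.assoc]
    refine (pullback.condition (f := f) (g := CohB1.specQuot I k)).trans ?_
    rw [show CohB1.thickι h I k ≫ h = CohB1.thickToBase h I k ≫ CohB1.specQuot I k from pullback.condition,
      ← Category.assoc, hg₁]
    rfl
  let r : (k : ℕ) → (Xs k ⟶ pullback f h) := fun k => pullback.lift _ _ (hg k)
  have hι : ∀ k, CohB1.thickTrans f I k ≫ CohB1.thickι f I (k + 1) = CohB1.thickι f I k := fun k =>
    (pullback.lift_fst _ _ _).trans (Category.comp_id _)
  have hι' : ∀ k, CohB1.thickTrans h I k ≫ CohB1.thickι h I (k + 1) = CohB1.thickι h I k := fun k =>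
    (pullback.lift_fst _ _ _).trans (Category.comp_id _)
  haveI : IsProper (Xs 0 ↘ Spec (CommRingCat.of A)) := by
    haveI : IsProper (CohB1.thickToBase f I 0) := MorphismProperty.pullback_snd (P := @IsProper) _ _ ‹IsProper f›
    exact inferInstanceAs (IsProper (CohB1.thickToBase f I 0 ≫ CohB1.specQuot I 0))
  have hb : ∀ k, r k ≫ (pullback f h ↘ Spec (CommRingCat.of A)) = Xs k ↘ Spec (CommRingCat.of A) := fun k =>
    (pullback.lift_fst_assoc _ _ _ f).trans pullback.condition
  have hcl : ∀ k, IsClosedImmersion (r k) := fun k => by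
    haveI : IsClosedImmersion (CohB1.thickι f I k) :=
      MorphismProperty.pullback_fst (P := @IsClosedImmersion) _ _ (hclq k)
    haveI : IsClosedImmersion (r k ≫ pullback.fst f h) := by
      simp only [r, pullback.lift_fst]
      infer_instance
    exact IsClosedImmersion.of_comp (r k) (pullback.fst f h)
  have hr : ∀ k, r k = CohB1.thickTrans f I k ≫ r (k + 1) := fun k => by
    apply pullback.hom_ext
    · simp only [r, Category.assoc, pullback.lift_fst, hι]
    · simp only [r, Category.assoc, pullback.lift_snd]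
      rw [← Category.assoc, hg₂, Category.assoc, hι']
  obtain ⟨W, ι, e, hιcl, hip, heι, -, -, hcart⟩ :=
    Groth.L16.Exist.Adic.exists_closed_algebraization_supp S r hcl hr hb
  letI : W.Over (Spec (CommRingCat.of A)) := ⟨ι ≫ pullback.fst f h ≫ f⟩
  haveI : IsProper (W ↘ Spec (CommRingCat.of A)) := hip
  letI : X.Over (Spec (CommRingCat.of A)) := ⟨f⟩
  haveI : IsProper (X ↘ Spec (CommRingCat.of A)) := ‹IsProper f›
  have het : ∀ k, e k ≫ ι ≫ pullback.fst f h = CohB1.thickι f I k := fun k => by
    rw [← Category.assoc, heι]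
    exact pullback.lift_fst _ _ _
  haveI := Groth.L16.Exist.Adic.isIso_of_thickenings I (W := W) (X := X) (ι ≫ pullback.fst f h)
    (Category.assoc _ _ _) (fun k => CohB1.thickToBase f I k) e (CohB1.thickι f I) hcart
    (fun k => IsPullback.of_hasPullback f (CohB1.specQuot I k)) het
  refine ⟨inv (ι ≫ pullback.fst f h) ≫ ι ≫ pullback.snd f h, ?_, fun n => ?_⟩
  · rw [Category.assoc, Category.assoc, ← pullback.condition, ← Category.assoc ι, IsIso.inv_hom_id_assoc]
  · have e1 : CohB1.thickι f I n ≫ inv (ι ≫ pullback.fst f h) = e n := by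
      rw [IsIso.comp_inv_eq, het]
    rw [← Category.assoc, e1, ← Category.assoc, heι]
    exact pullback.lift_snd _ _ _
end Groth.Agent.S0039
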