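import Groth.Statements.S0042
import Groth.Agent.L19.VanishFibre.Noetherian

set_option autoImplicit false
set_option backward.isDefEq.respectTransparency.types false
set_option backward.isDefEq.respectTransparency false
set_option linter.style.haveILetI false
universe u
open Coherent

namespace Groth.Agent.S0042

open AlgebraicGeometry CategoryTheory in
/-- Let Y be a locally Noetherian scheme, f : X → Y a proper morphism, and y a point of Y whose fibre
X_y has dimension at most d. Then for every coherent 𝒪_X-module F and every p > d, the stalk of R^p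
f_* F at y is zero. -/
theorem result {X Y : Scheme.{u}} (f : X ⟶ Y)
    [IsProper f] [IsLocallyNoetherian Y] (y : Y) (d : ℕ) (hd : topologicalKrullDim ↥(f.fiber y) ≤ d)
    (M : X.Modules) (hM : Coh.IsCoh M) (p : ℕ) (hp : d < p) :
    Limits.IsZero (TopCat.Presheaf.stalk ((Coh.RpushAb f p).obj (Coh.toAb M)).obj y) := by
  haveI := Groth.L17.PushQCoh.hasInjectiveResolutions X
  haveI : Coh.IsQCoh M := hM.1
  obtain ⟨e⟩ := Groth.L17.nonempty_toAb_Rpush_iso f M p
  refine Limits.IsZero.of_iso ?_ ((TopCat.Presheaf.stalkFunctor _ y).mapIso
    ((sheafToPresheaf _ _).mapIso e.symm))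
  exact @AddCommGrpCat.isZero_of_subsingleton _
    (Groth.L19.VanishFibre.subsingleton_stalk_Rpush f y hd M hM hp)

end Groth.Agent.S0042
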