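import Groth.Statements.S0043
import Groth.Agent.L16.NegPow.Affine
import Groth.Agent.L18.AmpleOps
import Groth.Agent.L00.TensorMod
import Groth.Agent.L16.CohLinear

set_option autoImplicit false
universe u
open Coherent

namespace Groth.Agent.S0043

open AlgebraicGeometry in
/-- If X is quasi-affine and H^p(X, O_X) = 0 for all p > 0, then X is affine. -/
theorem result (X : Scheme.{u}) [X.IsQuasiAffine]
    (h : ∀ p : ℕ, 0 < p → Subsingleton (Coh.HH X (Coh.structureModule X) p)) : IsAffine X := by
  refine Groth.L16.NegPow.isAffine_of_vanishing Groth.L18.Ample.isAmple_structureModule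
    (Groth.L00.Tensor.tensorUnitRight (Coh.structureModule X)) 0 fun n _ p hp => ?_
  haveI := h p hp
  let e := Groth.L00.Tensor.tensorPowUnit X n
  refine ⟨fun a b => ?_⟩
  have hab : Groth.L16.CohLinear.hmap e.hom p a = Groth.L16.CohLinear.hmap e.hom p b := Subsingleton.elim _ _
  have key : ∀ c, Groth.L16.CohLinear.hmap e.inv p (Groth.L16.CohLinear.hmap e.hom p c) = c := fun c => by
    rw [← Groth.L16.CohLinear.hmap_comp, e.hom_inv_id, Groth.L16.CohLinear.hmap_id]
  rw [← key a, ← key b, hab]

end Groth.Agent.S0043
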