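import Groth.Statements.S0045
import Groth.Agent.L16.Acc

set_option autoImplicit false
universe u
open Coherent

namespace Groth.Agent.S0045

open AlgebraicGeometry CategoryTheory in
/-- On a Noetherian scheme, any increasing sequence of quasi-coherent submodules of a coherent module is
eventually constant. -/
theorem result (X : Scheme.{u}) [IsNoetherian X] (M : X.Modules)
    (hM : Coh.IsCoh M) (F : ℕ →o Subobject M) (hF : ∀ n, Coh.IsQCoh ((F n : Subobject M) : X.Modules)) :
    ∃ n : ℕ, ∀ m : ℕ, n ≤ m → F m = F n := Groth.L16.Acc.exists_stable M hM F hF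

end Groth.Agent.S0045
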