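import Groth.Statements.S0046
import Groth.Agent.L16.CohKernel
import Groth.Agent.L00.LocalData

set_option autoImplicit false
universe u
open Coherent

namespace Groth.Agent.S0046

open AlgebraicGeometry CategoryTheory in
/-- On a locally Noetherian scheme, a quasi-coherent submodule of a coherent module is coherent. (The
statement about quotients is omitted.) -/
theorem result (X : Scheme.{u}) [IsLocallyNoetherian X]
    (M N : X.Modules) (i : N ⟶ M) [Mono i] (hM : Coh.IsCoh M) (hN : Coh.IsQCoh N) : Coh.IsCoh N := by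
  haveI : Coh.IsQCoh M := hM.1
  refine Groth.L16.CohKernel.isCoh_of_tilde_charts N fun x => ?_
  obtain ⟨_, ⟨U, hU, rfl⟩, hxU, -⟩ :=
    X.isBasis_affineOpens.exists_subset_of_mem_open (Set.mem_univ x) isOpen_univ
  haveI : IsNoetherianRing Γ(X, U) := IsLocallyNoetherian.component_noetherian ⟨U, hU⟩
  obtain ⟨NM, ⟨eM⟩⟩ := Groth.L00.Local.exists_tilde_iso_restrict hU.fromSpec M
  obtain ⟨NN, ⟨eN⟩⟩ := Groth.L00.Local.exists_tilde_iso_restrict hU.fromSpec N
  haveI := Groth.L16.CohKernel.finite_of_tilde_iso M hM.2 hU.fromSpec NM eM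
  let φ : (tilde.functor Γ(X, U)).obj NN ⟶ (tilde.functor Γ(X, U)).obj NM :=
    eN.inv ≫ (Scheme.Modules.restrictFunctor hU.fromSpec).map i ≫ eM.hom
  haveI : Mono ((Scheme.Modules.restrictFunctor hU.fromSpec).map i) := inferInstance
  haveI : Mono ((tilde.functor Γ(X, U)).map ((tilde.functor Γ(X, U)).preimage φ)) := by
    rw [(tilde.functor _).map_preimage]; infer_instance
  haveI : Mono ((tilde.functor Γ(X, U)).preimage φ) := (tilde.functor _).mono_of_mono_map ‹_›
  refine ⟨_, hU.fromSpec, inferInstance, NN, hU.opensRange_fromSpec.ge hxU,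
    Module.Finite.of_injective ((tilde.functor Γ(X, U)).preimage φ).hom
      ((ModuleCat.mono_iff_injective _).1 inferInstance), ⟨eN⟩⟩

end Groth.Agent.S0046
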