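import Groth.Statements.S0051
import Groth.Agent.L16.Rees.RelVanish

set_option autoImplicit false
universe u
open Coherent

namespace Groth.Agent.S0051

open AlgebraicGeometry CategoryTheory in
/-- Let R be Noetherian, X → Spec R proper and L invertible on X. Then L is ample if and only if for
every coherent F there is n₀ with H^p(X, F ⊗ L^{⊗n}) = 0 for all n ≥ n₀ and p > 0. -/
theorem result (R : Type u) [CommRing R] [IsNoetherianRing R]
    (X : Scheme.{u}) (f : X ⟶ Spec (CommRingCat.of R)) [IsProper f] (L : X.Modules)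
    (hL : PicF.IsInvertible L) :
    CohB1.IsAmple L ↔ ∀ (M : X.Modules), Coh.IsCoh M → ∃ n₀ : ℕ, ∀ n : ℕ, n₀ ≤ n → ∀ p : ℕ, 0 < p →
      Subsingleton (Coh.HH X (CohB1.tensorMod M (CohB1.tensorPow L n)) p) := by
  constructor
  · exact fun h M hM => Groth.L16.Rees.RelVanish.exists_vanishing f h hM
  · intro h
    haveI : CompactSpace X := QuasiCompact.compactSpace_of_compactSpace f
    haveI : IsLocallyNoetherian X := LocallyOfFiniteType.isLocallyNoetherian f
    refine Groth.L16.Rees.SerreCrit.isAmple_of_vanishing hL fun I i hi hI => ?_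
    haveI := hi
    haveI := hI
    obtain ⟨n₀, hn⟩ := h I (Groth.L16.Rees.RelVanish.isCoh_of_mono i
      (Groth.L16.Rees.RelVanish.isCoh_structureModule X))
    exact ⟨n₀, hn (n₀ + 1) n₀.le_succ 1 one_pos⟩
end Groth.Agent.S0051
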