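import Groth.Statements.S0068
import Groth.Agent.L27.EtSite.PushStalk

set_option autoImplicit false
open CategoryTheory CategoryTheory.Limits AlgebraicGeometry Opposite
universe u
open EtBase

set_option backward.isDefEq.respectTransparency.types false

namespace Groth.Agent.S0068

/-- Part (2), second half — an abelian étale sheaf is a pushforward from a closed subscheme exactly when
its sections vanish over every étale scheme mapping into the open complement. -/
theorem result {Z X : Scheme.{u}} (i : Z ⟶ X) [IsClosedImmersion i] [EtCoh.BCCont i]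
    (F : EtCoh.Ab X) :
    (EtCoh.push i).essImage F ↔
      ∀ U : X.Etale, Disjoint (Set.range U.hom.base) (Set.range i.base) → IsZero (F.obj.obj (op U)) := by
  have hA := Groth.L27.EtSite.propA_of_isIntegralHom i
  refine (Groth.L27.EtSite.essImage_push_iff i hA F).trans ⟨fun h U hU => ?_, fun h => ?_⟩
  · haveI := (Groth.L27.EtSite.isIso_unit_iff i hA F).2 h
    haveI : IsEmpty ((EtCoh.bc i).obj U).left := ⟨fun z =>
      Set.disjoint_left.1 hU ⟨pullback.fst U.hom i z, rfl⟩ ⟨pullback.snd U.hom i z,
        (Scheme.Hom.comp_apply _ _ _).symm.trans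
          ((congrArg (fun m : pullback U.hom i ⟶ X => m z) pullback.condition.symm).trans
            (Scheme.Hom.comp_apply _ _ _))⟩⟩
    have : Subsingleton (((EtCoh.push i).obj ((EtCoh.pull i).obj F)).obj.obj (op U)) :=
      Groth.L27.EtSite.subsingleton_of_isEmpty
        ((sheafCompose Z.smallEtaleTopology (forget AddCommGrpCat.{u + 1})).obj ((EtCoh.pull i).obj F))
        ((EtCoh.bc i).obj U)
    exact (AddCommGrpCat.isZero_of_subsingleton
      (((EtCoh.push i).obj ((EtCoh.pull i).obj F)).obj.obj (op U))).of_iso
      (((sheafToPresheaf _ _).mapIso (asIso ((EtCoh.pullPushAdj i).unit.app F))).app (op U))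
  · rintro x ⟨Ω, _, _, η, hη, hne⟩
    by_contra hx
    refine hne ?_
    have hx' : η.base default ∉ Set.range i.base := by
      rw [show η.base default = x from hη.subset ⟨default, rfl⟩]; exact hx
    have : Subsingleton ((EtCoh.stalk η).obj F) := ⟨fun p q => by
      obtain ⟨V, y, s, t, rfl, rfl⟩ := (Scheme.pointSmallEtale η).toPresheafFiber_jointly_surjective₂ p q
      obtain ⟨V', a, y', hy', he⟩ := Groth.L27.EtSite.exists_nbhd_avoid i η hx' V y
      refine ((Scheme.pointSmallEtale η).toPresheafFiber_eq_iff' _ _ _ _).2 ⟨V', a, y', hy', ?_⟩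
      have hd : Disjoint (Set.range V'.hom.base) (Set.range i.base) := Set.disjoint_left.2 (by
        rintro _ ⟨v, rfl⟩ ⟨z, hz⟩
        obtain ⟨w, -, -⟩ := Scheme.Pullback.exists_preimage_pullback (f := V'.hom) (g := i) v z hz.symm
        exact he.elim w)
      exact (AddCommGrpCat.subsingleton_of_isZero (h V' hd)).elim _ _⟩
    exact AddCommGrpCat.isZero_of_subsingleton _

end Groth.Agent.S0068
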