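import Groth.Statements.S0072
import Groth.Agent.L27.EtSite.PushFinite

set_option autoImplicit false
open CategoryTheory CategoryTheory.Limits AlgebraicGeometry Opposite
universe u
open EtBase

namespace Groth.Agent.S0072

/-- Let f : X → Y be a finite morphism of schemes, F an abelian sheaf on X_ét, and η : Spec Ω → Y a
geometric point with Ω algebraically closed. Then the stalk (f_*F)_η is isomorphic to the direct sum
of the stalks F_ξ over the geometric points ξ : Spec Ω → X lying over η (those with f ∘ ξ = η). Only
the existence of an isomorphism is asserted; the published statement gives a canonical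
identification. -/
theorem result {X Y : Scheme.{u}} (f : X ⟶ Y) [IsFinite f] [EtCoh.BCCont f]
    (F : EtCoh.Ab X) {Ω : Type u} [Field Ω] [IsAlgClosed Ω] (η : Spec (CommRingCat.of Ω) ⟶ Y) :
    Nonempty ((EtCoh.stalk η).obj ((EtCoh.push f).obj F) ≅
      ∐ fun ξ : {ξ : Spec (CommRingCat.of Ω) ⟶ X // ξ ≫ f = η} => (EtCoh.stalk ξ.1).obj F) := by
  exact Groth.L27.EtSite.PushFinite.nonempty_stalk_push_iso f η F

end Groth.Agent.S0072
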