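import Groth.Statements.S0077
import Groth.Agent.L27.FrobeniusLinear

set_option autoImplicit false
universe u
open EtBase

namespace Groth.Agent.S0077

/-- First half — on a finite-dimensional vector space over an algebraically closed field of
characteristic p, any additive p-semilinear map F has F − id surjective. -/
theorem result {k V : Type u} [Field k] [IsAlgClosed k] (p : ℕ) [Fact p.Prime] [CharP k p]
    [AddCommGroup V] [Module k V] [FiniteDimensional k V] (F : V →+ V)
    (hF : ∀ (c : k) (v : V), F (c • v) = c ^ p • F v) :
    Function.Surjective fun v => F v - v := by
  exact Groth.L27.Frobenius.surjective p F hF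

end Groth.Agent.S0077
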