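import Groth.Statements.S0092
import Groth.Agent.L27.FLC.Torsor
import Groth.Agent.L27.NormalSepClosed.Closed
import Groth.Agent.L28.EtTrace.Field
import Groth.Agent.L28.AcyComp.Iso

set_option autoImplicit false
set_option linter.style.haveILetI false
set_option backward.isDefEq.respectTransparency.types false
open CategoryTheory CategoryTheory.Limits AlgebraicGeometry Opposite
universe u
open EtBase

namespace Groth.Agent.S0092

/-- The degree-one case — for X affine, integral and normal with separably closed function field, the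
constant sheaf on a finite abelian group has vanishing first étale cohomology on every closed
subscheme of X. -/
theorem result {Z X : Scheme.{u}} [IsAffine X] [IsIntegral X]
    (hN : ∀ x : X, IsIntegrallyClosed (X.presheaf.stalk x)) [IsSepClosed X.functionField]
    (i : Z ⟶ X) [IsClosedImmersion i] (M : Type) [AddCommGroup M] [Finite M] :
    Subsingleton (EtCoh.H Z (EtCoh.const Z M) 1) := by
  refine subsingleton_of_forall_eq 0 fun ζ => ?_
  haveI : NeZero (Nat.card M) := ⟨Nat.card_ne_zero.2 ⟨inferInstance, inferInstance⟩⟩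
  haveI : IsAffine Z := isAffine_of_isAffineHom i
  have hk : EtCoh.KilledBy (Nat.card M) (EtCoh.const Z M) := by
    intro U s
    refine Groth.L27.EtSite.ext_of_locally _ fun u => ?_
    obtain ⟨W, g, w, a, hw, e⟩ := Groth.L27.ConstSect.exists_locally_cst (AddCommGrpCat.of (ULift.{u + 1} M)) s u
    refine ⟨W, g, w, hw, ?_⟩
    rw [map_nsmul, e, ← map_nsmul, map_zero,
      show (Nat.card M) • a = 0 from ULift.ext _ _ (card_nsmul_eq_zero' (x := a.down)), map_zero]
  obtain ⟨Z', g, hfin, het, hsurj, hζ⟩ := Groth.L27.FLC.exists_cover_killing (EtCoh.const Z M)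
    (Groth.L28.ExtShriek.isFLC_const Z M) (Nat.card M) hk ζ
  haveI := hfin; haveI := het; haveI := hsurj
  obtain ⟨t, ht⟩ := Groth.L27.NormalSepClosed.exists_section_closed hN i g
  haveI := Groth.L27.EtSite.preservesFiniteLimits_pull g
  haveI := Groth.L27.EtSite.preservesFiniteLimits_pull t
  haveI := Groth.L27.EtSite.preservesFiniteLimits_pull (𝟙 Z)
  have h0 := (Groth.L28.EtTrace.Hpull_comp_eq_zero_iff t g ht (EtCoh.const Z M) 1 ζ).1 (by rw [hζ, map_zero])
  exact (Groth.L28.AcyComp.bijective_Hpull (𝟙 Z) (EtCoh.const Z M) 1).1 (h0.trans (map_zero _).symm)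

end Groth.Agent.S0092
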