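import Groth.Statements.S0093
import Groth.Agent.S0091
import Groth.Agent.L27.StrictCover
import Mathlib.FieldTheory.IsAlgClosed.AlgebraicClosure
import Mathlib.RingTheory.IntegralClosure.IntegrallyClosed
import Mathlib.AlgebraicGeometry.Morphisms.Integral
import Mathlib.AlgebraicGeometry.FunctionField
import Mathlib.RingTheory.Ideal.GoingUp
import Mathlib.Algebra.MvPolynomial.CommRing
import Mathlib.RingTheory.MvPolynomial.Basic
import Mathlib.RingTheory.Polynomial.Basic

set_option autoImplicit false
set_option linter.style.haveILetI false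
set_option backward.isDefEq.respectTransparency.types false
open CategoryTheory CategoryTheory.Limits AlgebraicGeometry Opposite
universe u
open EtBase

namespace Groth.Agent.S0093

/-- Part (1) — every affine scheme admits an integral surjective morphism from a scheme all of whose
closed subschemes have vanishing positive-degree étale cohomology with finite constant coefficients. -/
theorem result (X : Scheme.{u}) [IsAffine X] :
    ∃ (X' : Scheme.{u}) (π : X' ⟶ X) (_ : IsIntegralHom π) (_ : Surjective π),
      ∀ (Z' : Scheme.{u}) (i : Z' ⟶ X') (_ : IsClosedImmersion i)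
        (M : Type) (_ : AddCommGroup M) (_ : Finite M) (q : ℕ), 1 ≤ q →
        Subsingleton (EtCoh.H Z' (EtCoh.const Z' M) q) := by
  let A : CommRingCat.{u} := Γ(X, ⊤)
  let P := MvPolynomial A ℤ
  let σ : P →+* A := MvPolynomial.eval₂Hom (Int.castRingHom A) id
  have hσ : Function.Surjective σ := fun a => ⟨MvPolynomial.X a, MvPolynomial.eval₂Hom_X' _ _ _⟩
  let K := AlgebraicClosure (FractionRing P)
  haveI : Algebra.IsAlgebraic P K := by
    haveI : Algebra.IsAlgebraic P (FractionRing P) := IsLocalization.isAlgebraic _ (nonZeroDivisors P)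
    exact Algebra.IsAlgebraic.trans P (FractionRing P) K
  let P' := integralClosure P K
  haveI : IsFractionRing P' K := integralClosure.isFractionRing_of_algebraic fun x hx => by
    rw [IsScalarTower.algebraMap_apply P (FractionRing P) K] at hx
    exact (map_eq_zero_iff _ (IsFractionRing.injective P (FractionRing P))).1 ((map_eq_zero _).1 hx)
  haveI : IsIntegrallyClosed P' := (isIntegrallyClosed_iff K).2 fun {x} hx => ⟨⟨x, isIntegral_trans (A := P') x hx⟩, rfl⟩
  haveI : Algebra.IsIntegral P P' := inferInstance
  have hinj : Function.Injective (algebraMap P P') := fun a b h => by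
    refine IsFractionRing.injective P (FractionRing P) ((algebraMap (FractionRing P) K).injective ?_)
    rw [← IsScalarTower.algebraMap_apply, ← IsScalarTower.algebraMap_apply]
    exact congrArg Subtype.val h
  let S := Spec (CommRingCat.of P)
  let T := Spec (CommRingCat.of P')
  let τ : T ⟶ S := Spec.map (CommRingCat.ofHom (algebraMap P P'))
  haveI : IsIntegralHom τ := IsIntegralHom.SpecMap_iff.2 (algebraMap_isIntegral_iff.2 inferInstance)
  haveI : Surjective τ := ⟨fun x => by
    obtain ⟨Q, hQ, hQx⟩ := Ideal.exists_ideal_over_prime_of_isIntegral_of_isDomain (S := P') (x : PrimeSpectrum P).asIdeal (by rw [(RingHom.injective_iff_ker_eq_bot _).1 hinj]; exact bot_le)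
    exact ⟨⟨Q, hQ⟩, PrimeSpectrum.ext hQx⟩⟩
  let j : X ⟶ S := X.isoSpec.hom ≫ Spec.map (CommRingCat.ofHom σ)
  haveI : IsClosedImmersion (Spec.map (CommRingCat.ofHom σ)) := IsClosedImmersion.spec_of_surjective _ hσ
  haveI : IsClosedImmersion j := inferInstanceAs (IsClosedImmersion (_ ≫ _))
  have hN : ∀ x : T, IsIntegrallyClosed (T.presheaf.stalk x) := fun x => by
    letI : Algebra P' (T.presheaf.stalk x) := StructureSheaf.stalkAlgebra P' x
    haveI : IsLocalization.AtPrime (T.presheaf.stalk x) (x : PrimeSpectrum P').asIdeal :=
      StructureSheaf.IsLocalization.to_stalk P' x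
    have hle := Ideal.primeCompl_le_nonZeroDivisors (x : PrimeSpectrum P').asIdeal
    haveI := IsLocalization.isDomain_of_le_nonZeroDivisors (M := (x : PrimeSpectrum P').asIdeal.primeCompl)
      (S := T.presheaf.stalk x) hle
    exact isIntegrallyClosed_of_isLocalization _ _ hle
  letI : Algebra P' T.functionField := instAlgebraCarrierFunctionFieldSpec (CommRingCat.of P')
  haveI : IsFractionRing P' T.functionField := functionField_isFractionRing_of_affine (CommRingCat.of P')
  haveI : IsSepClosed T.functionField := Groth.L27.StrictCover.isSepClosed_of_ringEquiv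
    (IsLocalization.algEquiv (nonZeroDivisors P') K T.functionField).toRingEquiv
  refine ⟨pullback j τ, pullback.fst j τ, inferInstance, inferInstance, fun Z' i hi M _ _ q hq => ?_⟩
  haveI := hi
  exact Groth.Agent.S0091.result hN (i ≫ pullback.snd j τ) M q hq

end Groth.Agent.S0093
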