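import Groth.Statements.S0094
import Groth.Agent.L27.EtSite.ConnFibres
import Groth.Agent.L27.TopInv.Hom

set_option autoImplicit false
open CategoryTheory CategoryTheory.Limits AlgebraicGeometry Opposite
universe u
open EtBase
set_option backward.isDefEq.respectTransparency.types false

namespace Groth.Agent.S0094

/-- For a flat quasi-compact morphism with connected geometric fibres, global sections of an abelian
étale sheaf on the base agree with global sections of its pullback: the unit of the
pullback–pushforward adjunction is bijective on global sections (the source proves this for sheaves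
of sets; the abelian case is stated). -/
theorem result {T S : Scheme.{u}} (f : T ⟶ S) [Flat f] [QuasiCompact f] [EtCoh.BCCont f]
    (hc : ∀ (Ω : Type u) [Field Ω] [IsAlgClosed Ω] (s : Spec (CommRingCat.of Ω) ⟶ S),
      ConnectedSpace ↥(pullback f s))
    (F : EtCoh.Ab S) :
    Function.Bijective (((EtCoh.pullPushAdj f).unit.app F).hom.app (op (EtCoh.top S))) := by
  have : Surjective f := ⟨fun s => by
    obtain ⟨Ω, _, _, η, hη⟩ := Groth.L27.EtSite.CF.exists_algClosed_point s
    have := hc Ω η
    obtain ⟨z⟩ : Nonempty ↥(pullback f η) := inferInstance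
    refine ⟨(pullback.fst f η).base z, ?_⟩
    refine (Scheme.Hom.comp_apply _ _ _).symm.trans ((congrArg (fun k : pullback f η ⟶ S => k.base z) pullback.condition).trans ?_)
    exact (Scheme.Hom.comp_apply _ _ _).trans ((congrArg η.base (Subsingleton.elim (α := Spec (CommRingCat.of Ω)) _ _)).trans hη)⟩
  have hsub : ∀ W : S.Etale, Topology.IsQuotientMap (pullback.fst W.hom f).base := fun W =>
    Groth.L27.TopInv.univSubmersive_of_fpqc f _ _ _ (IsPullback.of_hasPullback W.hom f)
  exact ⟨Groth.L27.EtSite.CF.injective_eta f F hc (EtCoh.top S), Groth.L27.EtSite.CF.surjective_eta f F hc hsub (EtCoh.top S)⟩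

end Groth.Agent.S0094
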