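import Groth.Statements.S0095
import Groth.Agent.L27.EtSite.ConnFibres
import Groth.Agent.L27.TopInv.Hom
import Groth.Agent.L02.SepClosedTensor

set_option autoImplicit false
open CategoryTheory CategoryTheory.Limits AlgebraicGeometry Opposite
universe u
open EtBase
open scoped TensorProduct
set_option backward.isDefEq.respectTransparency.types false

namespace Groth.Agent.S0095

/-- For a scheme over a separably closed field k and a field extension K of k, global sections of an
abelian étale sheaf do not change under base change to K (the source proves this for sheaves of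
sets; the abelian case is stated). -/
theorem result {k K : Type u} [Field k] [IsSepClosed k] [Field K] [Algebra k K]
    {S : Scheme.{u}} (a : S ⟶ Spec (CommRingCat.of k))
    [EtCoh.BCCont (pullback.fst a (Spec.map (CommRingCat.ofHom (algebraMap k K))))]
    (F : EtCoh.Ab S) :
    Function.Bijective (((EtCoh.pullPushAdj
      (pullback.fst a (Spec.map (CommRingCat.ofHom (algebraMap k K))))).unit.app F).hom.app
        (op (EtCoh.top S))) := by
  let m := Spec.map (CommRingCat.ofHom (algebraMap k K))
  have : Flat m := (HasRingHomProperty.Spec_iff (P := @Flat)).2 (RingHom.flat_algebraMap_iff.2 inferInstance)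
  have : Surjective m := ⟨fun x => ⟨default, Subsingleton.elim (α := Spec (CommRingCat.of k)) _ _⟩⟩
  have : Flat (pullback.fst a m) := MorphismProperty.pullback_fst _ _ inferInstance
  have : Surjective (pullback.fst a m) := MorphismProperty.pullback_fst _ _ inferInstance
  have : QuasiCompact (pullback.fst a m) := MorphismProperty.pullback_fst _ _ inferInstance
  have hc : ∀ (Ω : Type u) [Field Ω] [IsAlgClosed Ω] (s : Spec (CommRingCat.of Ω) ⟶ S),
      ConnectedSpace ↥(pullback (pullback.fst a m) s) := by
    intro Ω _ _ s
    obtain ⟨φ, hφ⟩ : ∃ φ, Spec.map φ = s ≫ a := ⟨_, Spec.map_preimage _⟩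
    letI : Algebra k Ω := φ.hom.toAlgebra
    have hp : (nilradical (Ω ⊗[k] K)).IsPrime := Groth.L02.SepClosedTensor.isPrime_nilradical_tensor
      (by rw [nilradical_eq_zero]; exact Ideal.isPrime_bot) (by rw [nilradical_eq_zero]; exact Ideal.isPrime_bot)
    have : IrreducibleSpace (PrimeSpectrum (Ω ⊗[k] K)) := PrimeSpectrum.irreducibleSpace_iff_isPrime_nilradical.2 hp
    have : ConnectedSpace ↥(Spec (CommRingCat.of (Ω ⊗[k] K))) := inferInstanceAs (ConnectedSpace (PrimeSpectrum (Ω ⊗[k] K)))
    let e : pullback (pullback.fst a m) s ≅ Spec (CommRingCat.of (Ω ⊗[k] K)) :=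
      pullbackSymmetry _ _ ≪≫ pullbackRightPullbackFstIso a m s ≪≫ pullback.congrHom hφ.symm rfl ≪≫ pullbackSpecIso k Ω K
    exact e.inv.homeomorph.surjective.connectedSpace e.inv.continuous
  have hsub : ∀ W : S.Etale, Topology.IsQuotientMap (pullback.fst W.hom (pullback.fst a m)).base := fun W =>
    Groth.L27.TopInv.univSubmersive_of_fpqc (pullback.fst a m) _ _ _ (IsPullback.of_hasPullback W.hom (pullback.fst a m))
  exact ⟨Groth.L27.EtSite.CF.injective_eta _ F hc (EtCoh.top S), Groth.L27.EtSite.CF.surjective_eta _ F hc hsub (EtCoh.top S)⟩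

end Groth.Agent.S0095
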