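import Groth.Statements.S0096
import Groth.Agent.L05.Chart.EtaleSplittingData
-- import your own Groth.Agent.* helpers here

set_option autoImplicit false
open CategoryTheory CategoryTheory.Limits AlgebraicGeometry Opposite
universe u
open EtBase

namespace Groth.Agent.S0096

/-- A finite unramified morphism becomes, after base change to a suitable étale neighbourhood of any
point of the base, a finite disjoint union of closed immersions. -/
theorem result {X S : Scheme.{u}} (f : X ⟶ S) [IsFinite f] [FormallyUnramified f] (s : S) :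
    ∃ (U : Scheme.{u}) (g : U ⟶ S) (_ : AlgebraicGeometry.Etale g) (u : U) (_ : g.base u = s)
      (n : ℕ) (V : Fin n → Scheme.{u}) (c : ∀ j, V j ⟶ U) (_ : ∀ j, IsClosedImmersion (c j))
      (e : (∐ V) ≅ pullback f g), ∀ j, Sigma.ι V j ≫ e.hom ≫ pullback.snd f g = c j := by
  haveI : Finite (f ⁻¹' {s} : Set X) := (f.finite_preimage_singleton s).to_subtype
  let x : (f ⁻¹' {s} : Set X) → X := Subtype.val
  obtain ⟨U₀, g₀, u₀, n, hg₀, hu₀, ⟨D₀⟩⟩ :=
    Groth.L05.Chart.exists_split_closedImmersion (f := f) s x (fun i => i.2)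
      fun i => ⟨⊤, trivial, inferInstance, MorphismProperty.comp_mem _ _ _ inferInstance ‹FormallyUnramified f›⟩
  obtain ⟨U₁, g₁, u₁, hg₁, hu₁, D₁, hdis, hcl⟩ :=
    D₀.exists_disjoint (le_refl _) hg₀
  let W : Set ↑(pullback f g₁) := (⋃ k, (D₁.V k : Set ↑(pullback f g₁)))ᶜ
  have hW : IsClosed W := (isOpen_iUnion fun k => (D₁.V k).2).isClosed_compl
  have hC : IsClosed (pullback.snd f g₁ '' W) := Scheme.Hom.isClosedMap _ _ hW
  have huC : u₁ ∈ (⟨(pullback.snd f g₁ '' W)ᶜ, hC.isOpen_compl⟩ : U₁.Opens) := by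
    rintro ⟨z, hz, hzu⟩
    have hzs : pullback.fst f g₁ z ∈ f ⁻¹' {s} := by
      show f (pullback.fst f g₁ z) = s
      rw [← Scheme.Hom.comp_apply, pullback.condition, Scheme.Hom.comp_apply, hzu, hu₁, hu₀]
    obtain ⟨k, rfl⟩ := D₁.cov z hzu ⟨⟨_, hzs⟩, rfl⟩
    exact hz (Set.mem_iUnion.mpr ⟨k, D₁.mem k⟩)
  let O : U₁.Opens := ⟨(pullback.snd f g₁ '' W)ᶜ, hC.isOpen_compl⟩
  obtain ⟨D, m, hV, hmO, -, -, -⟩ := D₁.restrict O huC
  let α : ∀ k, (D.V k).toScheme ⟶ pullback f (O.ι ≫ g₁) := fun k => (D.V k).ι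
  haveI : IsOpenImmersion (Sigma.desc α) := by
    refine isOpenImmersion_sigmaDesc _ α fun a b hab => Set.disjoint_left.mpr ?_
    rintro z ⟨p, rfl⟩ ⟨q, hq⟩
    have ha : m (α a p) ∈ D₁.V a := by have := p.2; simp_rw [hV] at this; exact this
    have hb : m (α a p) ∈ D₁.V b := by rw [← hq]; have := q.2; simp_rw [hV] at this; exact this
    exact ((hdis a b hab).le_bot ⟨ha, hb⟩).elim
  haveI : Surjective (Sigma.desc α) := ⟨fun z => by
    have hz : m z ∉ W := fun h => hmO z ⟨m z, h, rfl⟩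
    obtain ⟨k, hk⟩ := Set.mem_iUnion.mp (not_not.mp hz)
    refine ⟨Sigma.ι (fun k => (D.V k).toScheme) k ⟨z, by rw [hV]; exact hk⟩, ?_⟩
    rw [← Scheme.Hom.comp_apply, Sigma.ι_desc]
    rfl⟩
  haveI : IsIso (Sigma.desc α) :=
    (isIso_iff_isOpenImmersion_and_surjective _).mpr ⟨inferInstance, inferInstance⟩
  refine ⟨O, O.ι ≫ g₁, inferInstance, ⟨u₁, huC⟩, hu₁.trans hu₀, n, fun k => (D.V k).toScheme,
    fun k => (D.V k).ι ≫ pullback.snd f (O.ι ≫ g₁), D.prop, asIso (Sigma.desc α), fun k => ?_⟩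
  simp [α]


end Groth.Agent.S0096
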