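import Groth.Statements.S0097
import Mathlib.AlgebraicGeometry.Morphisms.FormallyUnramified
import Mathlib.AlgebraicGeometry.Morphisms.Finite
import Mathlib.AlgebraicGeometry.ResidueField
-- import your own Groth.Agent.* helpers here

set_option autoImplicit false
set_option backward.isDefEq.respectTransparency.types false
set_option backward.isDefEq.respectTransparency false
open CategoryTheory CategoryTheory.Limits AlgebraicGeometry Opposite
universe u
open EtBase

namespace Groth.Agent.S0097

/-- A finite unramified morphism whose fibre over a point s is a single point with the same residue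
field is a closed immersion over an open neighbourhood of s. -/
theorem result {X S : Scheme.{u}} (f : X ⟶ S) [IsFinite f] [FormallyUnramified f] (s : S) (x : X)
    (hx : f.base ⁻¹' {s} = {x}) (hκ : Function.Surjective (f.residueFieldMap x)) :
    ∃ U : S.Opens, s ∈ U ∧ IsClosedImmersion (f ∣_ U) := by
  let Δ := pullback.diagonal f
  let g : pullback f f ⟶ S := pullback.fst f f ≫ f
  haveI : IsFinite g := inferInstanceAs (IsFinite (pullback.fst f f ≫ f))
  let C : Set S := g '' ((Δ.opensRange : Set ↥(pullback f f))ᶜ)
  have hC : IsClosed C := g.isClosedMap _ Δ.opensRange.2.isClosed_compl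
  let U : S.Opens := ⟨Cᶜ, hC.isOpen_compl⟩
  refine ⟨U, ?_, ?_⟩
  · rintro ⟨z, hz, hzs⟩
    apply hz
    let K := (pullback f f).residueField z
    let q : Spec (CommRingCat.of K) ⟶ pullback f f := (pullback f f).fromSpecResidueField z
    have hq : ∀ t, q t = z := fun t => Scheme.fromSpecResidueField_apply z t
    have h1 : f (pullback.fst f f z) = s := by rw [← Scheme.Hom.comp_apply]; exact hzs
    have h2 : f (pullback.snd f f z) = s := by
      rw [← Scheme.Hom.comp_apply, ← pullback.condition]; exact hzs
    have e1 : pullback.fst f f z = x := hx.le h1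
    have e2 : pullback.snd f f z = x := hx.le h2
    haveI : IsIso (f.residueFieldMap x) := by
      rw [ConcreteCategory.isIso_iff_bijective]; exact ⟨RingHom.injective (f.residueFieldMap x).hom, hκ⟩
    let α := (pullback.fst f f).residueFieldMap z
    let β := (pullback.snd f f).residueFieldMap z
    have ha : q ≫ pullback.fst f f = Spec.map ((X.residueFieldCongr e1.symm).hom ≫ α) ≫ X.fromSpecResidueField x := by
      rw [Spec.map_comp, Category.assoc, Scheme.residueFieldCongr_fromSpecResidueField]
      exact (Scheme.Hom.SpecMap_residueFieldMap_fromSpecResidueField _ z).symm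
    have hb : q ≫ pullback.snd f f = Spec.map ((X.residueFieldCongr e2.symm).hom ≫ β) ≫ X.fromSpecResidueField x := by
      rw [Spec.map_comp, Category.assoc, Scheme.residueFieldCongr_fromSpecResidueField]
      exact (Scheme.Hom.SpecMap_residueFieldMap_fromSpecResidueField _ z).symm
    have hab : q ≫ pullback.fst f f = q ≫ pullback.snd f f := by
      have hw : q ≫ pullback.fst f f ≫ f = q ≫ pullback.snd f f ≫ f := by rw [pullback.condition]
      simp only [← Category.assoc] at hw
      rw [ha, hb, Category.assoc, Category.assoc, ← Scheme.Hom.SpecMap_residueFieldMap_fromSpecResidueField,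
        ← Category.assoc, ← Category.assoc, cancel_mono, cancel_mono] at hw
      rw [ha, hb, hw]
    have hfac : q = (q ≫ pullback.fst f f) ≫ Δ := by
      apply pullback.hom_ext
      · simp [Δ]
      · simp [Δ, hab]
    refine ⟨(q ≫ pullback.fst f f) (IsLocalRing.closedPoint _), ?_⟩
    rw [← Scheme.Hom.comp_apply, ← hfac, hq]
  · rw [IsClosedImmersion.iff_isFinite_and_mono]
    refine ⟨inferInstance, ⟨fun {T} a b hab => ?_⟩⟩
    have hw : (a ≫ (f ⁻¹ᵁ U).ι) ≫ f = (b ≫ (f ⁻¹ᵁ U).ι) ≫ f := by
      rw [Category.assoc, Category.assoc, ← morphismRestrict_ι, ← Category.assoc, hab, Category.assoc]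
    let p : T ⟶ pullback f f := pullback.lift (a ≫ (f ⁻¹ᵁ U).ι) (b ≫ (f ⁻¹ᵁ U).ι) hw
    have hp : Set.range p ⊆ Set.range Δ := by
      rintro _ ⟨t, rfl⟩
      by_contra hne
      have h3 : g (p t) ∈ C := ⟨p t, hne, rfl⟩
      have h4 : g (p t) = f ((a t).1) := by
        rw [← Scheme.Hom.comp_apply, pullback.lift_fst_assoc]
        rfl
      rw [h4] at h3
      exact (a t).2 h3
    have hfac := IsOpenImmersion.lift_fac Δ p hp
    have hA : IsOpenImmersion.lift Δ p hp = a ≫ (f ⁻¹ᵁ U).ι := by
      have := congr($hfac ≫ pullback.fst f f)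
      rwa [Category.assoc, pullback.diagonal_fst, Category.comp_id, pullback.lift_fst] at this
    have hB : IsOpenImmersion.lift Δ p hp = b ≫ (f ⁻¹ᵁ U).ι := by
      have := congr($hfac ≫ pullback.snd f f)
      rwa [Category.assoc, pullback.diagonal_snd, Category.comp_id, pullback.lift_snd] at this
    exact (cancel_mono (f ⁻¹ᵁ U).ι).mp (hA.symm.trans hB)

end Groth.Agent.S0097
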