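import Groth.Statements.S0098
import Mathlib.AlgebraicGeometry.Morphisms.FlatRank
import Mathlib.AlgebraicGeometry.Morphisms.FlatMono
import Mathlib.AlgebraicGeometry.Fiber
-- import your own Groth.Agent.* helpers here

set_option autoImplicit false
set_option backward.isDefEq.respectTransparency.types false
open CategoryTheory CategoryTheory.Limits AlgebraicGeometry Opposite
universe u
open EtBase

namespace Groth.Agent.S0098

/-- A finite étale morphism whose fibre over a point s is a single point with the same residue field is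
an isomorphism over an open neighbourhood of s. -/
theorem result {X S : Scheme.{u}} (f : X ⟶ S) [IsFinite f] [AlgebraicGeometry.Etale f] (s : S) (x : X)
    (hx : f.base ⁻¹' {s} = {x}) (hκ : Function.Surjective (f.residueFieldMap x)) :
    ∃ U : S.Opens, s ∈ U ∧ IsIso (f ∣_ U) := by
  let π := f.fiberToSpecResidueField s
  have hs : f x = s := by
    have : x ∈ f.base ⁻¹' {s} := hx.symm ▸ rfl
    exact this
  subst hs
  have hbij : Function.Bijective (f.residueFieldMap x) :=
    ⟨RingHom.injective (f.residueFieldMap x).hom, hκ⟩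
  haveI : IsIso (f.residueFieldMap x) := by
    rw [ConcreteCategory.isIso_iff_bijective]; exact hbij
  let σ : Spec (S.residueField (f x)) ⟶ f.fiber (f x) :=
    pullback.lift (Spec.map (inv (f.residueFieldMap x)) ≫ X.fromSpecResidueField x) (𝟙 _) (by
      rw [Category.assoc, ← Scheme.Hom.SpecMap_residueFieldMap_fromSpecResidueField, ← Category.assoc, ← Spec.map_comp,
        IsIso.hom_inv_id, Spec.map_id])
  have hσ : σ ≫ π = 𝟙 _ := pullback.lift_snd _ _ _
  haveI : Etale π := MorphismProperty.pullback_snd (P := @Etale) _ _ inferInstance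
  haveI : Etale (σ ≫ π) := by rw [hσ]; infer_instance
  haveI : Etale σ := Etale.of_comp σ π
  haveI : IsSplitMono σ := ⟨⟨⟨π, hσ⟩⟩⟩
  haveI : IsOpenImmersion σ := IsOpenImmersion.of_flat_of_mono σ
  haveI : Subsingleton ↥(f.fiber (f x)) := by
    refine (f.fiberHomeo (f x)).toEquiv.subsingleton_congr.mpr ⟨fun a b => Subtype.ext ?_⟩
    have ha : a.1 ∈ ({x} : Set X) := hx ▸ a.2
    have hb : b.1 ∈ ({x} : Set X) := hx ▸ b.2
    exact ha.trans hb.symm
  haveI : Surjective σ := ⟨fun z => ⟨IsLocalRing.closedPoint _, Subsingleton.elim _ _⟩⟩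
  haveI : IsIso σ := (isIso_iff_isOpenImmersion_and_surjective _).mpr ⟨inferInstance, inferInstance⟩
  haveI : IsIso π := IsIso.of_isIso_fac_left hσ
  have h1 : f.finrank (f x) = 1 := by
    rw [← Scheme.fromSpecResidueField_apply (f x) (IsLocalRing.closedPoint _), ← Scheme.Hom.finrank_pullback_snd]
    exact congrFun (Scheme.Hom.finrank_eq_one_of_isIso π) _
  refine ⟨⟨{y | f.finrank y = 1}, (f.isLocallyConstant_finrank.isClopen_fiber 1).2⟩, h1, ?_⟩
  rw [Scheme.Hom.isIso_iff_finrank_eq]
  funext y
  rw [Scheme.Hom.finrank_of_isPullback _ _ _ _ (isPullback_morphismRestrict f _).flip]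
  exact y.2

end Groth.Agent.S0098
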