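import Groth.Statements.S0102
import Groth.Agent.L27.EtSite.Common
import Mathlib.AlgebraicGeometry.Morphisms.UniversallyOpen

set_option autoImplicit false
open CategoryTheory CategoryTheory.Limits AlgebraicGeometry Opposite
universe u
open EtBase
set_option backward.isDefEq.respectTransparency.types false

namespace Groth.Agent.S0102

/-- A section of an abelian étale sheaf over an étale scheme U vanishes on pullback to an étale V → U
exactly when V maps into a certain largest open subset of U. -/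
theorem result {S : Scheme.{u}} (F : EtCoh.Ab S) (U : S.Etale) (σ : EtCoh.sect F U) :
    ∃ W : U.left.Opens, ∀ (V : S.Etale) (φ : V ⟶ U),
      F.obj.map φ.op σ = 0 ↔ Set.range φ.left.base ⊆ (W : Set U.left) := by
  let W : U.left.Opens := ⟨⋃ (V : S.Etale) (φ : V ⟶ U) (_ : F.obj.map φ.op σ = 0), Set.range φ.left.base,
    isOpen_iUnion fun (V : S.Etale) => isOpen_iUnion fun (φ : V ⟶ U) => isOpen_iUnion fun _ =>
      φ.left.isOpenMap.isOpen_range⟩
  refine ⟨W, fun V φ => ⟨fun h x hx => ?_, fun h => ?_⟩⟩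
  · exact Set.mem_iUnion.2 ⟨V, Set.mem_iUnion.2 ⟨φ, Set.mem_iUnion.2 ⟨h, hx⟩⟩⟩
  · refine Groth.L27.EtSite.ext_of_locally F fun v => ?_
    obtain ⟨V', hV'⟩ := Set.mem_iUnion.1 (h ⟨v, rfl⟩)
    obtain ⟨φ', hφ'⟩ := Set.mem_iUnion.1 hV'
    obtain ⟨h0, v', hv'⟩ := Set.mem_iUnion.1 hφ'
    obtain ⟨T, a, b, t, ha, -, e⟩ := Groth.L27.EtSite.exists_common φ φ' v v' hv'.symm
    refine ⟨T, a, t, ha, ?_⟩
    rw [map_zero, ← ConcreteCategory.comp_apply, ← F.obj.map_comp, ← op_comp, e, op_comp,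
      F.obj.map_comp, ConcreteCategory.comp_apply, h0, map_zero]

end Groth.Agent.S0102
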