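import Groth.Statements.S0107
import Groth.Agent.L27.FLC.Rep

set_option autoImplicit false
open CategoryTheory CategoryTheory.Limits AlgebraicGeometry Opposite
universe u
open EtBase

namespace Groth.Agent.S0107

/-- The underlying sheaf of sets of a finite locally constant abelian sheaf F on the small étale site of
a scheme X is representable by a scheme finite étale over X: there are an étale X-scheme U with U →
X finite and an isomorphism between the sheaf of sets underlying F and the functor of points of U. -/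
theorem result {X : Scheme.{u}} (F : EtCoh.Ab X) (h : EtCoh.IsFiniteLocallyConstant F) :
    ∃ (U : X.Etale) (_ : IsFinite U.hom),
      Nonempty (F.obj ⋙ forget AddCommGrpCat.{u + 1} ≅ yoneda.obj U ⋙ uliftFunctor.{u + 1}) := by
  obtain ⟨A, η, hη, hfin, het⟩ := Groth.L27.FLC.exists_rep F h
  haveI := het
  let U : X.Etale := Scheme.Etale.mk A.hom
  refine ⟨U, hfin, ?_⟩
  let R : ∀ V : X.Etale, ((EtFppf.a X).obj V ⟶ A) → F.obj.obj (op V) := fun V a =>
    Function.surjInv (Groth.L27.FLC.ev_surjective F V) ((Groth.L27.FLC.fam F).res a η)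
  have hR : ∀ (V : X.Etale) (a : (EtFppf.a X).obj V ⟶ A),
      Groth.L27.FLC.ev F V (R V a) = (Groth.L27.FLC.fam F).res a η := fun V a =>
    Function.surjInv_eq (Groth.L27.FLC.ev_surjective F V) _
  let toA : ∀ {V : X.Etale}, (V ⟶ U) → ((EtFppf.a X).obj V ⟶ A) := fun {V} b =>
    Over.homMk b.left (MorphismProperty.Over.w b)
  let ψ : ∀ V : X.Etale, ULift.{u + 1} (V ⟶ U) → F.obj.obj (op V) := fun V b => R V (toA b.down)
  have hψ : ∀ V, Function.Bijective (ψ V) := fun V => by
    refine ⟨fun b c e => ?_, fun s => ?_⟩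
    · have e' := congrArg (Groth.L27.FLC.ev F V) e
      simp only [ψ, hR] at e'
      have e'' := hη.ext e'
      exact ULift.ext _ _ (MorphismProperty.Over.Hom.ext (congrArg (fun m : (EtFppf.a X).obj V ⟶ A => m.left) e''))
    · obtain ⟨a, ha, -⟩ := hη ((EtFppf.a X).obj V) (Groth.L27.FLC.ev F V s)
      refine ⟨⟨MorphismProperty.Over.homMk a.left (Over.w a)⟩, Groth.L27.FLC.ev_injective F V ?_⟩
      exact (hR V _).trans ha
  refine ⟨(NatIso.ofComponents (fun V => (Equiv.ofBijective (ψ V.unop) (hψ V.unop)).toIso) ?_).symm⟩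
  intro V W g
  refine ConcreteCategory.hom_ext _ _ fun b => ?_
  refine Groth.L27.FLC.ev_injective F W.unop ?_
  show Groth.L27.FLC.ev F W.unop (R W.unop (toA (g.unop ≫ b.down))) =
    Groth.L27.FLC.ev F W.unop (F.obj.map g.unop.op (R V.unop (toA b.down)))
  rw [hR, Groth.L27.FLC.ev_nat, hR]
  exact (congrArg (fun m => (Groth.L27.FLC.fam F).res m η) (Over.OverMorphism.ext rfl)).trans
    ((Groth.L27.FLC.fam F).res_comp ((EtFppf.a X).map g.unop) (toA b.down) η)

end Groth.Agent.S0107
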