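import Groth.Statements.S0108
import Groth.Agent.L27.EtSite.Kummer

set_option autoImplicit false
open CategoryTheory CategoryTheory.Limits AlgebraicGeometry Opposite
universe u
open EtBase
set_option backward.isDefEq.respectTransparency.types false

namespace Groth.Agent.S0108

/-- The Kummer sequence — when n is invertible on S, the n-th power map on the multiplicative group
sheaf is an epimorphism of étale sheaves (its kernel μ_n is, by definition in the prelude, the sheaf
of n-th roots of unity, so the sequence 0 → μ_n → G_m → G_m → 0 is exact). -/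
theorem result (S : Scheme.{u}) (n : ℕ) (hn : IsUnit (n : Γ(S, ⊤))) : Epi (EtCoh.powMap S n) := by
  refine (Sheaf.isLocallySurjective_iff_epi' (φ := EtCoh.powMap S n)).1 ?_
  refine ⟨fun {U} s => (Groth.L27.EtSite.mem_topology_iff _).2 fun x => ?_⟩
  let a : Γ(U.left, ⊤)ˣ := Additive.toMul (s : ULift.{u + 1} (Additive Γ(U.left, ⊤)ˣ)).down
  have hnU : IsUnit (n : Γ(U.left, ⊤)) := by
    have := hn.map U.hom.appTop.hom
    rwa [map_natCast] at this
  obtain ⟨V₀, g₀, _, v, b, hv, hb⟩ := Groth.L27.EtSite.exists_root n hnU a x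
  have : AlgebraicGeometry.Etale U.hom := U.prop
  let g : Scheme.Etale.mk (g₀ ≫ U.hom) ⟶ U := MorphismProperty.Over.homMk g₀ rfl
  refine ⟨_, g, v, ⟨(ULift.up (Additive.ofMul b) : ULift.{u + 1} (Additive Γ(V₀, ⊤)ˣ)), ?_⟩, hv⟩
  have e : ∀ (W : S.Etale) (t : (EtCoh.Gm S).obj.obj (op W)),
      (EtCoh.powMap S n).hom.app (op W) t = n • t := fun W t => by
    have e1 : (EtCoh.powMap S n).hom = n • (𝟙 (EtCoh.Gm S).obj : (EtCoh.Gm S).obj ⟶ _) := rfl
    rw [e1, NatTrans.app_nsmul]
    simp
  refine (e _ _).trans ?_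
  refine ULift.ext _ _ ?_
  change n • Additive.ofMul b = Additive.ofMul (Units.map g₀.appTop.hom.toMonoidHom a)
  rw [← ofMul_pow]
  exact congrArg Additive.ofMul (Units.ext ((Units.val_pow_eq_pow_val _ _).trans hb.symm))

end Groth.Agent.S0108
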