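import Groth.Statements.S0110
import Groth.Agent.L28.EtCartan.ZarGa

set_option autoImplicit false
open CategoryTheory CategoryTheory.Limits AlgebraicGeometry Opposite
universe u
open EtBase

namespace Groth.Agent.S0110

/-- For any scheme X and every p, the étale cohomology group H^p(X_ét, G_a) of the additive group sheaf
is isomorphic, as an additive group, to the Zariski cohomology group H^p(X, O_X) of the structure
sheaf. (Only the existence of an additive isomorphism is asserted; the published statement gives a
canonical identification.) -/
theorem result (X : Scheme.{u}) (p : ℕ) :
    Nonempty (EtCoh.H X (EtCoh.Ga X) p ≃+ Coh.HH X (Coh.structureModule X) p) := by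
  exact Groth.L28.EtCartan.nonempty_H_Ga X p

end Groth.Agent.S0110
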