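import Groth.Statements.S0112
import Groth.Agent.L24.Alg.FlatFpDescent

set_option autoImplicit false
universe u
open EtBase

namespace Groth.Agent.S0112

/-- Finite presentation of an R-algebra A can be tested after passing to an A-algebra B that is
faithfully flat and finitely presented over A: if B is finitely presented over R, then so is A. -/
theorem result {R A B : Type u} [CommRing R] [CommRing A] [CommRing B] [Algebra R A] [Algebra A B]
    [Algebra R B] [IsScalarTower R A B] [Algebra.FinitePresentation R B]
    [Module.FaithfullyFlat A B] [Algebra.FinitePresentation A B] : Algebra.FinitePresentation R A := by
  exact Groth.L24.Alg.finitePresentation_of_flat_comp (A := R) (B := A) (C := B)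

end Groth.Agent.S0112
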