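import Groth.Statements.S0114
import Groth.Agent.L24.Alg.SourceFppf

set_option autoImplicit false
open CategoryTheory CategoryTheory.Limits AlgebraicGeometry Opposite
universe u
open EtBase

namespace Groth.Agent.S0114

/-- Local finite presentation descends along an fppf cover of the source: if f is surjective, flat and
locally of finite presentation and f ≫ q is locally of finite presentation, then so is q. -/
theorem result {X Y S : Scheme.{u}} (f : X ⟶ Y) (q : Y ⟶ S) [Surjective f] [Flat f]
    [LocallyOfFinitePresentation f] [LocallyOfFinitePresentation (f ≫ q)] :
    LocallyOfFinitePresentation q := by
  exact Groth.L24.Alg.locallyOfFinitePresentation_of_fppf_comp f q inferInstance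

end Groth.Agent.S0114
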