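import Groth.Statements.S0123
import Groth.Agent.L27.H0Proper

set_option autoImplicit false
universe u
open CategoryTheory CategoryTheory.Limits AlgebraicGeometry Opposite
open EtPBC

namespace Groth.Agent.S0123

/-- Let (A, I) be a henselian pair, f : X -> Spec A proper, and i : Z = X x_{Spec A} Spec (A/I) -> X the
first projection. For any abelian sheaf F on X_et the restriction Gamma(X, F) -> Gamma(Z, i^* F),
written as the global-sections component of the unit F -> i_* i^* F, is bijective. The source allows
sheaves of sets; we state the abelian case. -/
theorem result (A : Type u) [CommRing A] (I : Ideal A) [HenselianRing A I]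
    (X : Scheme.{u}) (f : X ⟶ Spec (CommRingCat.of A)) [IsProper f]
    [EtCoh.BCCont (pullback.fst f (Spec.map (CommRingCat.ofHom (Ideal.Quotient.mk I))))]
    (F : EtCoh.Ab X) :
    Function.Bijective
      (((EtCoh.pullPushAdj (pullback.fst f (Spec.map (CommRingCat.ofHom (Ideal.Quotient.mk I))))).unit.app F).hom.app (op (EtCoh.top X))) := by
  exact Groth.L27.H0Proper.bijective_unit I f F

end Groth.Agent.S0123
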