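import Groth.Statements.S0125
import Groth.Agent.L27.Colim.RpushTorsion

set_option autoImplicit false
universe u
open CategoryTheory CategoryTheory.Limits AlgebraicGeometry Opposite
open EtPBC

namespace Groth.Agent.S0125

/-- Part (1): for f : X -> Y quasi-compact and quasi-separated and F a torsion abelian sheaf on X_et,
each R^n f_* F is a torsion abelian sheaf on Y_et. -/
theorem result {X Y : Scheme.{u}} (f : X ⟶ Y) [QuasiCompact f] [QuasiSeparated f]
    [EtCoh.BCCont f] (F : EtCoh.Ab X) (hF : EtCoh.IsTorsion F) (n : ℕ) :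
    EtCoh.IsTorsion ((EtCoh.Rpush f n).obj F) := by
  exact Groth.L27.Colim.isTorsion_Rpush f hF n

end Groth.Agent.S0125
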