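import Groth.Statements.S0126
import Groth.Agent.L27.PBC.ProperCd

set_option autoImplicit false
set_option linter.style.haveILetI false
set_option backward.isDefEq.respectTransparency.types false
universe u
open CategoryTheory CategoryTheory.Limits AlgebraicGeometry Opposite
open EtPBC

namespace Groth.Agent.S0126

/-- If f : X -> Y is proper and every fibre of f has (topological Krull) dimension at most n, then R^q
f_* F = 0 for every torsion abelian sheaf F on X_et and every q > 2n. -/
theorem result {X Y : Scheme.{u}} (f : X ⟶ Y) [IsProper f] [EtCoh.BCCont f]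
    (n : ℕ) (hdim : ∀ y : Y, topologicalKrullDim (f.fiber y) ≤ n)
    (F : EtCoh.Ab X) (hF : EtCoh.IsTorsion F) (q : ℕ) (hq : 2 * n < q) :
    IsZero ((EtCoh.Rpush f q).obj F) := by
  exact Groth.L27.PBC.isZero_Rpush_proper f n hdim F hF q hq

end Groth.Agent.S0126
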