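import Groth.Statements.S0130
import Groth.Agent.L28.Strata.Et
import Mathlib.Topology.Spectral.ConstructibleTopology
import Mathlib.AlgebraicGeometry.Properties

set_option autoImplicit false
universe u
open CategoryTheory CategoryTheory.Limits AlgebraicGeometry Opposite
open EtPBC

namespace Groth.Agent.S0130

theorem isOpen_of_isConstructible {X : Scheme.{u}} [CompactSpace X] [QuasiSeparatedSpace X] {s : Set X}
    (hs : Topology.IsConstructible s) :
    IsOpen ((WithTopology.ofTopology : WithConstructibleTopology X → X) ⁻¹' s)ᶜᶜ := by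
  rw [compl_compl]
  have h : IsOpen ((WithTopology.ofTopology : WithConstructibleTopology X → X) ⁻¹' s) ∧
      IsClosed ((WithTopology.ofTopology : WithConstructibleTopology X → X) ⁻¹' s) := by
    induction hs using Topology.IsConstructible.empty_union_induction with
    | open_retrocompact U hU hUc =>
      refine ⟨?_, ⟨?_⟩⟩
      · exact hUc.isCompact.isOpen_constructibleTopology_of_isOpen hU
      · exact IsCompact.isOpen_constructibleTopology_of_isClosed (s := Uᶜ) (by rw [compl_compl]; exact hUc.isCompact)
          hU.isClosed_compl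
    | union s hs t ht h1 h2 => exact ⟨h1.1.union h2.1, h1.2.union h2.2⟩
    | compl s hs h => exact ⟨h.2.isOpen_compl, h.1.isClosed_compl⟩
  exact h.1

/-- Abelian case: X quasi-compact and quasi-separated, T_i -> X immersions with constructible images
covering X, and F pulled back to each T_i constructible; then F is constructible. -/
theorem result (X : Scheme.{u}) [CompactSpace X] [QuasiSeparatedSpace X]
    (F : EtCoh.Ab X) {ι : Type u} (T : ι → Scheme.{u}) (g : ∀ i, T i ⟶ X) [∀ i, IsImmersion (g i)]
    [∀ i, EtCoh.BCCont (g i)]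
    (hc : ∀ i, Topology.IsConstructible (Set.range (g i)))
    (hcov : (⋃ i, Set.range (g i)) = Set.univ)
    (h : ∀ i, EtPBC.IsConstructible ((EtCoh.pull (g i)).obj F)) :
    EtPBC.IsConstructible F := by
  classical
  obtain ⟨t, ht⟩ := (CompactSpace.isCompact_univ (X := WithConstructibleTopology X)).elim_finite_subcover
    (fun i => ((WithTopology.ofTopology : WithConstructibleTopology X → X) ⁻¹' Set.range (g i))ᶜᶜ)
    (fun i => isOpen_of_isConstructible (hc i)) (fun x _ => by
      simp only [compl_compl]
      obtain ⟨i, hi⟩ := Set.mem_iUnion.1 (hcov.symm ▸ Set.mem_univ _ :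
        WithTopology.ofTopology x ∈ ⋃ i, Set.range (g i))
      exact Set.mem_iUnion.2 ⟨i, hi⟩)
  rw [Groth.L28.Strata.isConstructible_iff, Groth.L28.Strata.loc_iff_strat (Groth.L28.Strata.stable_lcPred F)]
  refine Groth.L28.Strata.strat_of_strata (Groth.L28.Strata.stable_lcPred F) T g (fun i => inferInstance) hc hcov
    (fun i => ((Groth.L28.Strata.isConstructible_iff _).1 (h i)).mono fun S k hk =>
      (Groth.L28.Strata.lcPred_comp F (g i) k).1 hk) t fun x => ?_
  obtain ⟨i, hi, hx⟩ := Set.mem_iUnion₂.1 (ht (Set.mem_univ (WithTopology.toTopology (constructibleTopology X) x)))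
  rw [compl_compl] at hx
  exact ⟨i, hi, hx⟩

end Groth.Agent.S0130
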