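import Groth.Statements.S0133
import Groth.Agent.L28.ExtShriek.Main
import Groth.Agent.L28.ExtShriek.ConstIso
import Groth.Agent.L28.Strata.Serre

set_option backward.isDefEq.respectTransparency.types false

set_option autoImplicit false
universe u
open CategoryTheory CategoryTheory.Limits AlgebraicGeometry Opposite
open EtPBC

namespace Groth.Agent.S0133

/-- (2): for j : U -> X etale with U and X quasi-compact and quasi-separated and M a finite abelian
group, j_! M is a constructible abelian sheaf on X_et. -/
theorem result (X : Scheme.{u}) [CompactSpace X] [QuasiSeparatedSpace X]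
    (U : X.Etale) [CompactSpace U.left] [QuasiSeparatedSpace U.left]
    (M : Type) [AddCommGroup M] [Finite M] :
    EtPBC.IsConstructible (EtPBC.extZeroConst U M) := by
  haveI : AlgebraicGeometry.Etale (X := U.left) (Y := X) U.hom := U.prop
  haveI := Groth.L27.ExtZero.jCont (U := U.left) (X := X) U.hom
  have h := Groth.L28.ExtShriek.isConstructible_extZero (U := U.left) (X := X) U.hom (EtCoh.const U.left M)
    (Groth.L28.ExtShriek.isFLC_const U.left M)
  rw [Groth.L28.Strata.isConstructible_iff] at h ⊢
  exact h.mono fun T g hg =>
    Groth.L28.Strata.isFLC_of_iso ((EtCoh.pull g).mapIso (Groth.L28.ExtShriek.extZeroConstIso U M)) hg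

end Groth.Agent.S0133
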