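import Groth.Statements.S0146
import Groth.Agent.L28.AffLef.Main
-- import your own Groth.Agent.* helpers here

set_option autoImplicit false
universe u
open CategoryTheory CategoryTheory.Limits AlgebraicGeometry Opposite
open EtPBC

namespace Groth.Agent.S0146

/-- Let K be a field with cd(K) <= e and X an affine scheme of finite type over K of dimension <= d.
Then H^q(X_et, F) = 0 for every torsion abelian sheaf F and every q > d + e. -/
theorem result (K : Type u) [Field K] (X : Scheme.{u}) [IsAffine X]
    (f : X ⟶ Spec (CommRingCat.of K)) [LocallyOfFiniteType f]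
    (d e : ℕ) (hd : topologicalKrullDim X ≤ d) (hK : EtCoh.CohDimLE (Spec (CommRingCat.of K)) e) :
    EtCoh.CohDimLE X (d + e) :=
  Groth.L28.AffLef.cohDimLE_affine K X f d e hd hK

end Groth.Agent.S0146
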