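import Groth.Statements.S0148
import Groth.Agent.L28.FieldTower.Main
import Groth.Agent.L28.AffLef.Prime
-- import your own Groth.Agent.* helpers here

set_option autoImplicit false
universe u
open CategoryTheory CategoryTheory.Limits AlgebraicGeometry Opposite
open EtPBC

namespace Groth.Agent.S0148

/-- For a field extension L/K with cd(K) <= e and transcendence degree <= n one has cd(L) <= e + n. -/
theorem result (K L : Type u) [Field K] [Field L] [Algebra K L]
    (e n : ℕ) (hK : EtCoh.CohDimLE (Spec (CommRingCat.of K)) e) (htr : Algebra.trdeg K L ≤ n) :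
    EtCoh.CohDimLE (Spec (CommRingCat.of L)) (e + n) := by
  obtain ⟨t, ht⟩ := Cardinal.lt_aleph0.1 (lt_of_le_of_lt htr Cardinal.natCast_lt_aleph0)
  refine Groth.L28.AffLef.cohDimLE_of_primes fun ℓ hℓ F hF q hq => ?_
  have htn : t ≤ n := by exact_mod_cast ht ▸ htr
  exact Groth.L28.FieldTower.cdLE_of_trdeg hℓ t K L ht e (Groth.L28.AffLef.cdLE_of_cohDimLE hK ℓ) F hF q (by omega)

end Groth.Agent.S0148
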