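import Groth.Statements.S0149
import Groth.Agent.L27.LimCoh.Thm
import Groth.Agent.L27.LimCoh.PushSys
import Groth.Agent.L27.Colim.RpushTorsion

set_option autoImplicit false
set_option linter.style.haveILetI false
universe u
open CategoryTheory CategoryTheory.Limits AlgebraicGeometry Opposite
open EtPBC

set_option backward.isDefEq.respectTransparency.types false

namespace Groth.Agent.S0149

/-- If X = lim X_i is a cofiltered limit of quasi-compact quasi-separated schemes with affine transition
morphisms and cd(X_i) <= d for all i, then cd(X) <= d. -/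
theorem result {I : Type u} [SmallCategory I] [IsCofiltered I] (D : I ⥤ Scheme.{u})
    [∀ {i j : I} (a : i ⟶ j), IsAffineHom (D.map a)]
    [∀ i, CompactSpace (D.obj i)] [∀ i, QuasiSeparatedSpace (D.obj i)]
    (c : Cone D) (hc : IsLimit c) (d : ℕ) (h : ∀ i, EtCoh.CohDimLE (D.obj i) d) :
    EtCoh.CohDimLE c.pt d := by
    intro F hF q hq
    haveI : ∀ (j k : I) (a : j ⟶ k), IsAffineHom (D.map a) := fun j k a => inferInstance
    haveI : ∀ i, IsAffineHom (Groth.L27.LimCoh.prj c i) := fun i => Groth.L27.LimCoh.isAffineHom_π hc i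
    haveI : ∀ i, PreservesFiniteLimits (EtCoh.pull (Groth.L27.LimCoh.prj c i)) :=
      fun i => Groth.L27.EtSite.preservesFiniteLimits_pull _
    haveI : ∀ {i j : I} (g : j ⟶ i), PreservesFiniteLimits (EtCoh.pull (D.map g)) :=
      fun g => Groth.L27.EtSite.preservesFiniteLimits_pull _
    obtain ⟨h1, -⟩ := Groth.L27.LimCoh.commutes_isLim hc (Groth.L27.LimCoh.pushCocn c F)
      (Groth.L27.LimCoh.isLim_pushCocn c F) q
    refine subsingleton_of_forall_eq 0 fun ξ => ?_
    obtain ⟨j, e, he⟩ := h1 ξ
    haveI := h j ((EtCoh.push (Groth.L27.LimCoh.prj c j)).obj F)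
      (Groth.L27.Colim.isTorsion_push (Groth.L27.LimCoh.prj c j) hF) q hq
    have h0 : e = 0 := Subsingleton.elim (α := EtCoh.H (D.obj j) ((EtCoh.push (Groth.L27.LimCoh.prj c j)).obj F) q) e 0
    rw [h0, map_zero] at he
    exact he.symm

end Groth.Agent.S0149
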