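import Groth.Statements.S0150
import Groth.Agent.L28.CdFinite.Main
-- import your own Groth.Agent.* helpers here

set_option autoImplicit false
universe u
open CategoryTheory CategoryTheory.Limits AlgebraicGeometry Opposite
open EtPBC

namespace Groth.Agent.S0150

/-- (1): if f : X -> Y is a morphism of schemes of finite type over a field K then there is d with R^q
f_* F = 0 for all torsion abelian F on X_et and all q > d. -/
theorem result (K : Type u) [Field K] {X Y : Scheme.{u}}
    (a : X ⟶ Spec (CommRingCat.of K)) (b : Y ⟶ Spec (CommRingCat.of K))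
    [LocallyOfFiniteType a] [QuasiCompact a] [LocallyOfFiniteType b] [QuasiCompact b]
    (f : X ⟶ Y) (w : f ≫ b = a) [EtCoh.BCCont f] :
    ∃ d : ℕ, EtCoh.RelCohDimLE f d := by
  exact Groth.L28.CdFinite.exists_relCohDimLE K a b f w

end Groth.Agent.S0150
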