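import Groth.Statements.S0159
import Groth.Agent.L27.PBC.CohBC

set_option autoImplicit false
set_option linter.style.haveILetI false
set_option backward.isDefEq.respectTransparency.types false
universe u
open CategoryTheory CategoryTheory.Limits AlgebraicGeometry Opposite
open EtPBC

namespace Groth.Agent.S0159

/-- Let f : X -> Y and g : Y -> Z be proper with f surjective. If cohomology commutes with base change
(abstract form) for f and for g ∘ f then it does for g. -/
theorem result {X Y Z : Scheme.{u}} (f : X ⟶ Y) (g : Y ⟶ Z) [IsProper f] [IsProper g]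
    [Surjective f] [EtCoh.BCCont f] [EtCoh.BCCont g] [EtCoh.BCCont (f ≫ g)]
    (hf : EtPBC.CohCommutesWithBC f) (hgf : EtPBC.CohCommutesWithBC (f ≫ g)) :
    EtPBC.CohCommutesWithBC g := by
  exact Groth.L27.PBC.cohCommutesWithBC g

end Groth.Agent.S0159
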