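import Groth.Statements.S0165
import Groth.Agent.L27.SmoothLA.FieldExt
import Groth.Agent.L27.SmoothLA.Torsion

set_option autoImplicit false
set_option linter.style.haveILetI false
set_option backward.isDefEq.respectTransparency.types false
universe u
open CategoryTheory CategoryTheory.Limits AlgebraicGeometry Opposite
open EtPBC

namespace Groth.Agent.S0165

/-- (1), for a sheaf: K/k an extension of separably closed fields, X quasi-compact and quasi-separated
over k, F an abelian sheaf on X_et etale-locally killed by integers invertible in k. Then H^q(X, F)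
≅ H^q(X_K, F|X_K). The source shows the pullback map is an isomorphism (and treats complexes); we
state existence of an isomorphism for sheaves (weaker). -/
theorem result {k K : Type u} [Field k] [IsSepClosed k] [Field K]
    [IsSepClosed K] (i : k →+* K) (X : Scheme.{u}) [CompactSpace X] [QuasiSeparatedSpace X]
    (a : X ⟶ Spec (CommRingCat.of k))
    [EtCoh.BCCont (pullback.fst a (Spec.map (CommRingCat.ofHom i)))]
    (F : EtCoh.Ab X) (hF : EtPBC.IsTorsionInvertibleOn (Spec (CommRingCat.of k)) F) (q : ℕ) :
    Nonempty (EtCoh.H X F q ≃+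
      EtCoh.H (pullback a (Spec.map (CommRingCat.ofHom i)))
        ((EtCoh.pull (pullback.fst a (Spec.map (CommRingCat.ofHom i)))).obj F) q) := by
  letI : Algebra k K := i.toAlgebra
  haveI := Groth.L27.EtSite.preservesFiniteLimits_pull (pullback.fst a (Spec.map (CommRingCat.ofHom i)))
  exact ⟨AddEquiv.ofBijective (EtCore.Hpull (pullback.fst a (Spec.map (CommRingCat.ofHom i))) F q)
    (((Groth.L27.ULA.compN_self (Groth.L27.SmoothLA.isUAcyclicN_fieldExt k K _ (fun ℓ hℓ hp => Groth.L27.SmoothLA.natCast_ne_zero_of_ne_ringChar hp hℓ.2) q _ _ a (IsPullback.of_hasPullback a (Spec.map (CommRingCat.ofHom i))).flip)) F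
      (Groth.L27.SmoothLA.isLTorsion_mono (fun ℓ hℓ _ => Groth.L27.SmoothLA.ne_ringChar_of_primesInvertible hℓ) (Groth.L27.SmoothLA.isLTorsion_of_invertible a hF))).1 q le_rfl)⟩

end Groth.Agent.S0165
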