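import Groth.Statements.S0169
import Groth.Agent.L28.EtaleStrata.Main

set_option autoImplicit false
universe u
open CategoryTheory CategoryTheory.Limits AlgebraicGeometry Opposite
open EtPBC

namespace Groth.Agent.S0169

/-- For j : U -> X an etale morphism of quasi-compact quasi-separated schemes there are finitely many
immersions T_i -> X with pairwise disjoint constructible images covering X such that U x_X T_i ->
T_i is finite (etale) for each i. -/
theorem result {U X : Scheme.{u}} [CompactSpace U] [QuasiSeparatedSpace U]
    [CompactSpace X] [QuasiSeparatedSpace X] (j : U ⟶ X) [Etale j] :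
    ∃ (n : ℕ) (T : Fin n → Scheme.{u}) (g : ∀ i, T i ⟶ X),
      (∀ i, IsImmersion (g i)) ∧ (∀ i, Topology.IsConstructible (Set.range (g i))) ∧
      Pairwise (fun i i' => Disjoint (Set.range (g i)) (Set.range (g i'))) ∧
      (⋃ i, Set.range (g i)) = Set.univ ∧ ∀ i, IsFinite (pullback.snd j (g i)) := by
  exact Groth.L28.EtaleStrata.strat_finPred j

end Groth.Agent.S0169
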