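import Groth.Statements.S0170
import Groth.Agent.L06.SplitQF.Split
import Mathlib.AlgebraicGeometry.Morphisms.Etale
import Mathlib.AlgebraicGeometry.Morphisms.QuasiFinite
import Mathlib.AlgebraicGeometry.Morphisms.Finite


set_option autoImplicit false
set_option maxSynthPendingDepth 3
set_option linter.style.haveILetI false
universe u
open CategoryTheory CategoryTheory.Limits AlgebraicGeometry Opposite
open EtPBC

namespace Groth.Agent.S0170

/-- For f : Y -> X quasi-finite and of finite presentation with X and Y affine, one can find an affine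
X' mapping onto X such that the base change Y' = X' x_X Y contains a closed subscheme Z' with the
same underlying space (a thickening) for which the composite Z' -> Y' -> X' is finite etale. -/
theorem result {Y X : Scheme.{u}} [IsAffine X] [IsAffine Y] (f : Y ⟶ X)
    [LocallyQuasiFinite f] [LocallyOfFinitePresentation f] :
    ∃ (X' : Scheme.{u}) (_ : IsAffine X') (a : X' ⟶ X) (_ : Surjective a) (Z' : Scheme.{u})
      (c : Z' ⟶ pullback a f) (_ : IsClosedImmersion c) (_ : Surjective c),
      IsFinite (c ≫ pullback.fst a f) ∧ Etale (c ≫ pullback.fst a f) := by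
  have hqf : f.appTop.hom.QuasiFinite :=
    (HasRingHomProperty.iff_of_isAffine (P := @LocallyQuasiFinite)).1 inferInstance
  have hfp : f.appTop.hom.FinitePresentation :=
    (HasRingHomProperty.iff_of_isAffine (P := @LocallyOfFinitePresentation)).1 inferInstance
  algebraize [f.appTop.hom]
  obtain ⟨A', iA', iA, C, iC, iAC, hsurj, hfin, het, c, hc, hker⟩ :=
    Groth.L06.SplitQF.exists_split (A := Γ(X, ⊤)) (B := Γ(Y, ⊤))
  let φ : Γ(X, ⊤) ⟶ CommRingCat.of A' := CommRingCat.ofHom (algebraMap Γ(X, ⊤) A')
  let a : Spec (CommRingCat.of A') ⟶ X := Spec.map φ ≫ X.isoSpec.inv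
  haveI : Surjective (Spec.map φ) := ⟨hsurj⟩
  have sq : IsPullback (Spec.map (CommRingCat.ofHom
        (Algebra.TensorProduct.includeLeftRingHom : A' →+* TensorProduct Γ(X, ⊤) A' Γ(Y, ⊤))))
      (Spec.map (CommRingCat.ofHom (Algebra.TensorProduct.includeRight :
        Γ(Y, ⊤) →ₐ[Γ(X, ⊤)] TensorProduct Γ(X, ⊤) A' Γ(Y, ⊤)).toRingHom) ≫ Y.isoSpec.inv)
      a f := by
    have h0 := isPullback_SpecMap_of_isPushout _ _ _ _
      (CommRingCat.isPushout_tensorProduct Γ(X, ⊤) A' Γ(Y, ⊤))
    refine h0.of_iso (Iso.refl _) (Iso.refl _) Y.isoSpec.symm X.isoSpec.symm ?_ ?_ ?_ ?_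
    · simp
    · simp
    · simp [a, φ]
    · show Spec.map f.appTop ≫ X.isoSpec.inv = Y.isoSpec.inv ≫ f
      exact Scheme.isoSpec_inv_naturality f
  let c' : Spec (CommRingCat.of C) ⟶ pullback a f :=
    Spec.map (CommRingCat.ofHom c.toRingHom) ≫ sq.isoPullback.hom
  haveI : IsClosedImmersion (Spec.map (CommRingCat.ofHom c.toRingHom)) :=
    IsClosedImmersion.spec_of_surjective _ hc
  haveI hs : Surjective (Spec.map (CommRingCat.ofHom c.toRingHom)) := ⟨fun q => by
    have : q ∈ Set.range (PrimeSpectrum.comap c.toRingHom) := by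
      rw [range_comap_of_surjective _ c.toRingHom hc]
      exact hker q
    exact this⟩
  have hcomp : c' ≫ pullback.fst a f = Spec.map (CommRingCat.ofHom (algebraMap A' C)) := by
    simp only [c', Category.assoc, IsPullback.isoPullback_hom_fst, ← Spec.map_comp]
    congr 1
    exact CommRingCat.hom_ext (RingHom.ext fun x => c.commutes x)
  refine ⟨Spec (CommRingCat.of A'), inferInstance, a, inferInstance, Spec (CommRingCat.of C), c',
    inferInstance, inferInstance, ?_, ?_⟩
  · rw [hcomp, IsFinite.SpecMap_iff]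
    exact RingHom.finite_algebraMap.2 hfin
  · rw [hcomp, HasRingHomProperty.Spec_iff (P := @Etale)]
    exact RingHom.etale_algebraMap.2 het

end Groth.Agent.S0170
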