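import Groth.Statements.S0182
import Groth.Agent.L28.Strata.Support

set_option autoImplicit false
universe u
open CategoryTheory CategoryTheory.Limits AlgebraicGeometry Opposite
open EtPBC

namespace Groth.Agent.S0182

/-- (1), surjectivity case, for abelian sheaves: X quasi-compact and quasi-separated, F -> G a map of
constructible abelian sheaves on X_et; the set of points x of X such that F -> G is surjective on
stalks at (every) geometric point over x is constructible. The source states this for constructible
sheaves of sets; an abelian constructible sheaf is one, with the same stalks. -/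
theorem result (X : Scheme.{u}) [CompactSpace X] [QuasiSeparatedSpace X]
    {F G : EtCoh.Ab X} (φ : F ⟶ G) (hF : EtPBC.IsConstructible F) (hG : EtPBC.IsConstructible G) :
    Topology.IsConstructible {x : X | ∀ (Ω : Type u) [Field Ω] [IsSepClosed Ω]
      (ξ : Spec (CommRingCat.of Ω) ⟶ X), Set.range ξ = {x} →
        Function.Surjective ((EtCoh.stalk ξ).map φ)} := by
  have h := Groth.L28.Locus.isConstructible_zero_stalks (Groth.L28.Strata.isConstructible_kernel_cokernel φ hF hG).2
  refine cast (congrArg Topology.IsConstructible ?_) h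
  ext x
  have key : ∀ (Ω : Type u) [Field Ω] [IsSepClosed Ω] (ξ : Spec (CommRingCat.of Ω) ⟶ X),
      Subsingleton ((EtCoh.stalk ξ).obj (cokernel φ)) ↔ Function.Surjective ((EtCoh.stalk ξ).map φ) := by
    intro Ω _ _ ξ
    rw [← AddCommGrpCat.epi_iff_surjective,
      (PreservesCokernel.iso (EtCoh.stalk ξ) φ).addCommGroupIsoToAddEquiv.toEquiv.subsingleton_congr,
      ← AddCommGrpCat.isZero_iff_subsingleton]
    exact ⟨fun hz => Preadditive.epi_of_isZero_cokernel _ hz, fun _ => isZero_cokernel_of_epi _⟩
  have hr : ∀ (Ω : Type u) [Field Ω] [IsSepClosed Ω] (ξ : Spec (CommRingCat.of Ω) ⟶ X),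
      Set.range ξ = {x} ↔ ξ.base default = x := by
    intro Ω _ _ ξ
    constructor
    · intro h
      exact (Set.mem_singleton_iff.1 (h ▸ ⟨default, rfl⟩))
    · intro h
      refine Set.eq_singleton_iff_unique_mem.2 ⟨⟨default, h⟩, ?_⟩
      rintro _ ⟨t, rfl⟩
      rw [Subsingleton.elim t default]
      exact h
  exact ⟨fun hx Ω _ _ ξ hξ => (key Ω ξ).1 (hx Ω ξ ((hr Ω ξ).1 hξ)),
    fun hx Ω _ _ ξ hξ => (key Ω ξ).2 (hx Ω ξ ((hr Ω ξ).2 hξ))⟩

end Groth.Agent.S0182
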