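import Groth.Statements.S0185
import Groth.Agent.L23.PFin.Finite

set_option autoImplicit false
universe u
open CategoryTheory CategoryTheory.Limits AlgebraicGeometry Opposite
open EtPBC

namespace Groth.Agent.S0185

/-- Let X be proper over a separably closed field k and F a constructible abelian sheaf on X_et killed
by some n > 0. Then H^q(X_et, F) is a finite group for every q >= 0. (The source states it for
constructible torsion abelian sheaves; on quasi-compact X these are killed by some n.) -/
theorem result {k : Type u} [Field k] [IsSepClosed k]
    (X : Scheme.{u}) (a : X ⟶ Spec (CommRingCat.of k)) [IsProper a]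
    (n : ℕ) (hn : 0 < n) (F : EtCoh.Ab X) (hF : EtPBC.IsConstructible F) (hFn : EtCoh.KilledBy n F) (q : ℕ) :
    Finite (EtCoh.H X F q) := by
  exact Groth.L23.PFin.finite_H_of_cons a F (Groth.L23.PFin.cons_of_killedBy hn hF hFn) q

end Groth.Agent.S0185
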