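import Groth.Statements.S0189
import Groth.Agent.L11.CSA.Centralizer

set_option autoImplicit false
universe u v w
open scoped TensorProduct
open Curves

namespace Groth.Agent.S0189

/-- Double centralizer: a simple subalgebra of a finite central simple algebra is the centralizer of its
centralizer. -/
theorem result (k : Type u) [Field k] (A : Type v) [Ring A] [Algebra k A]
    [Algebra.IsCentral k A] [IsSimpleRing A] [FiniteDimensional k A]
    (B : Subalgebra k A) [IsSimpleRing B] :
    Subalgebra.centralizer k (Subalgebra.centralizer k (B : Set A) : Set A) = B := by
  have h1 := Groth.L11.CSA.centralizer_simple k A B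
  have := h1.1
  have h2 := Groth.L11.CSA.centralizer_simple k A (Subalgebra.centralizer k (B : Set A))
  have hle : B ≤ Subalgebra.centralizer k ((Subalgebra.centralizer k (B : Set A) : Subalgebra k A) : Set A) :=
    fun b hb => (Subalgebra.mem_centralizer_iff k).mpr fun c hc => ((Subalgebra.mem_centralizer_iff k).mp hc b hb).symm
  refine (Subalgebra.eq_of_le_of_finrank_eq hle ?_).symm
  have hpos : 0 < Module.finrank k (Subalgebra.centralizer k (B : Set A)) := Module.finrank_pos
  exact Nat.eq_of_mul_eq_mul_right hpos (by rw [← h1.2, h2.2, mul_comm])

end Groth.Agent.S0189
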