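import Groth.Statements.S0191
import Groth.Agent.L11.CSA.Tensor

set_option autoImplicit false
universe u v w
open scoped TensorProduct
open Curves

namespace Groth.Agent.S0191

/-- If K is a skew field with center k, every two-sided ideal of A ⊗ K is generated by the elements a ⊗
1 it contains. -/
theorem result (k : Type u) [Field k] (A : Type v) [Ring A] [Algebra k A]
    (K : Type w) [DivisionRing K] [Algebra k K] [Algebra.IsCentral k K]
    (I : TwoSidedIdeal (A ⊗[k] K)) :
    I = TwoSidedIdeal.span ((fun a : A => a ⊗ₜ[k] (1 : K)) '' {a : A | a ⊗ₜ[k] (1 : K) ∈ I}) := by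
  let c := Algebra.TensorProduct.comm k K A
  have h := Groth.L11.CSA.eq_span_contract (k := k) (A := K) (B := A) (TwoSidedIdeal.comap c I)
  refine le_antisymm ?_ (TwoSidedIdeal.span_le.mpr (by rintro _ ⟨a, ha, rfl⟩; exact ha))
  intro z hz
  set S := TwoSidedIdeal.span ((fun a : A => a ⊗ₜ[k] (1 : K)) '' {a : A | a ⊗ₜ[k] (1 : K) ∈ I}) with hS
  have hle : TwoSidedIdeal.comap c I ≤ TwoSidedIdeal.comap c S := by
    rw [h]
    refine TwoSidedIdeal.span_le.mpr ?_
    rintro _ ⟨a, ha, rfl⟩
    rw [Set.mem_ofPred_eq, TwoSidedIdeal.mem_comap] at ha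
    rw [SetLike.mem_coe, TwoSidedIdeal.mem_comap, Algebra.TensorProduct.comm_tmul]
    exact TwoSidedIdeal.subset_span ⟨a, by simpa [c] using ha, rfl⟩
  have := hle (show c.symm z ∈ TwoSidedIdeal.comap c I by
    rw [TwoSidedIdeal.mem_comap, AlgEquiv.apply_symm_apply]; exact hz)
  rwa [TwoSidedIdeal.mem_comap, AlgEquiv.apply_symm_apply] at this

end Groth.Agent.S0191
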