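import Groth.Statements.S0196
import Groth.Agent.L11.CSA.Centralizer
import Mathlib.RingTheory.IntegralClosure.IsIntegralClosure.Basic
import Mathlib.RingTheory.SimpleRing.Field

set_option autoImplicit false
universe u v w
open scoped TensorProduct
open Curves

namespace Groth.Agent.S0196

/-- In a finite central skew field D over k, a maximal commutative k-subalgebra L satisfies dim D = (dim
L)^2. -/
theorem result (k : Type u) [Field k]
    (D : Type v) [DivisionRing D] [Algebra k D] [Algebra.IsCentral k D] [FiniteDimensional k D]
    (L : Subalgebra k D) (hcomm : ∀ x ∈ L, ∀ y ∈ L, x * y = y * x)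
    (hmax : ∀ L' : Subalgebra k D, (∀ x ∈ L', ∀ y ∈ L', x * y = y * x) → L ≤ L' → L' = L) :
    Module.finrank k D = Module.finrank k L ^ 2 := by
  have hL : Subalgebra.centralizer k (L : Set D) = L := by
    refine le_antisymm (fun x hx => ?_) (fun x hx => (Subalgebra.mem_centralizer_iff k).mpr fun y hy => hcomm y hy x hx)
    have hx' : ∀ y ∈ L, y * x = x * y := (Subalgebra.mem_centralizer_iff k).mp hx
    have hc : ∀ y ∈ insert x (L : Set D), ∀ z ∈ insert x (L : Set D), y * z = z * y := by
      rintro y (rfl | hy) z (rfl | hz)
      · rfl
      · exact (hx' z hz).symm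
      · exact hx' y hy
      · exact hcomm y hy z hz
    have hcr := Algebra.adjoin_le_centralizer_centralizer k (insert x (L : Set D))
    have hcomm' : ∀ y ∈ Algebra.adjoin k (insert x (L : Set D)), ∀ z ∈ Algebra.adjoin k (insert x (L : Set D)),
        y * z = z * y := by
      intro y hy z hz
      have h1 : y ∈ Subalgebra.centralizer k (insert x (L : Set D)) := by
        refine (Algebra.adjoin_le ?_) hy
        intro a ha
        exact (Subalgebra.mem_centralizer_iff k).mpr fun b hb => hc b hb a ha
      exact ((Subalgebra.mem_centralizer_iff k).mp (hcr hz) y h1)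
    rw [← hmax _ hcomm' (fun y hy => Algebra.subset_adjoin (Set.mem_insert_of_mem x hy))]
    exact Algebra.subset_adjoin (Set.mem_insert x _)
  letI : CommRing L := { (inferInstance : Ring L) with mul_comm := fun a b => Subtype.ext (hcomm a a.2 b b.2) }
  haveI : IsDomain L := Subalgebra.isDomain L
  have hf : IsField L := (Algebra.IsIntegral.isField_iff_isField (R := k) (algebraMap k L).injective).mp (Field.toIsField k)
  haveI : IsSimpleRing L := by letI := hf.toField; infer_instance
  rw [(Groth.L11.CSA.centralizer_simple k D L).2, hL, sq]

end Groth.Agent.S0196
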