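import Groth.Statements.S0202
import Groth.Agent.L21.AicCoh.Main

set_option autoImplicit false
universe u
open CategoryTheory CategoryTheory.Limits AlgebraicGeometry
open Curves

namespace Groth.Agent.S0202

/-- Over the spectrum of an absolutely integrally closed ring, constant sheaves with finite value group
have no higher étale cohomology. Absolutely integrally closed is taken as: every monic of positive
degree has a root. -/
theorem result (R : Type u) [CommRing R] (hR : Curves.IsAIC R)
    (M : Type) [AddCommGroup M] [Finite M] (i : ℕ) (hi : 0 < i) :
    Subsingleton (EtCoh.H (Spec (CommRingCat.of R)) (EtCoh.const (Spec (CommRingCat.of R)) M) i) := by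
  obtain ⟨i, rfl⟩ : ∃ j, i = j + 1 := ⟨i - 1, by omega⟩
  exact Groth.L21.AicCoh.subsingleton_H M i (CommRingCat.of R) hR

end Groth.Agent.S0202
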