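import Groth.Statements.S0205
import Groth.Agent.L21.AffCd.Atom
import Groth.Agent.L21.TopDeg.ArtinSchreier

set_option autoImplicit false
set_option backward.isDefEq.respectTransparency false
set_option linter.style.haveILetI false
universe u
open CategoryTheory CategoryTheory.Limits AlgebraicGeometry Opposite
open Curves

namespace Groth.Agent.S0205

/-- In characteristic p, p-power torsion abelian étale sheaves (every section is étale-locally killed by
a power of p) on a separated finite type scheme of dimension at most one over an algebraically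
closed field have no cohomology above degree one. -/
theorem result (k : Type u) [Field k] [IsAlgClosed k] (p : ℕ) [Fact p.Prime] [CharP k p]
    (X : Scheme.{u}) (f : X ⟶ Spec (CommRingCat.of k)) [IsSeparated f] [LocallyOfFiniteType f] [QuasiCompact f]
    (hdim : topologicalKrullDim X ≤ 1) (F : EtCoh.Ab X)
    (hF : ∀ (U : X.Etale) (s : EtCoh.sect F U) (x : U.left), ∃ (V : X.Etale) (g : V ⟶ U),
      (∃ v : V.left, g.left.base v = x) ∧ ∃ n : ℕ, (p ^ n) • (F.obj.map g.op s) = 0)
    (q : ℕ) (hq : 1 < q) :
    Subsingleton (EtCoh.H X F q) := by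
  haveI : CompactSpace ↥X := QuasiCompact.compactSpace_of_compactSpace f
  haveI : QuasiSeparatedSpace ↥X := quasiSeparatedSpace_of_quasiSeparated f
  have hp : p.Prime := Fact.out
  rcases (show q = 2 ∨ 3 ≤ q by omega) with rfl | h3
  · refine Groth.L21.AffCd.subsingleton_of_atoms (P := fun r => r = p) 2
      (fun G hG => Groth.L28.CurveCd.subsingleton_H f hdim G hG 0) (fun a => ?_) F
      (Groth.L21.AffCd.exists_killed_pow p hp hF)
    obtain ⟨V, hV, r, hr, rfl⟩ := a
    haveI := hV
    refine Groth.L21.AffCd.subsingleton_atom f hdim r (fun Y π _ => ?_) V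
    haveI : LocallyOfFiniteType (π ≫ f) := inferInstance
    exact Groth.L21.TopDeg.subsingleton_const k r (π ≫ f) 1
      ((Groth.L19.topologicalKrullDim_le_of_isIntegralHom π).trans hdim) 1 le_rfl
  · obtain ⟨i, rfl⟩ : ∃ i, q = i + 3 := ⟨q - 3, by omega⟩
    exact Groth.L28.CurveCd.subsingleton_H f hdim F (Groth.L21.AffCd.isTorsion_of_pow p hp hF) i

end Groth.Agent.S0205
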