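import Groth.Statements.S0207
import Groth.Agent.L28.EtCartan.Frobenius
import Groth.Agent.L10.Spectral.Vanishing

set_option autoImplicit false
set_option backward.isDefEq.respectTransparency.types false
set_option linter.style.haveILetI false
universe u
open CategoryTheory CategoryTheory.Limits AlgebraicGeometry
open Curves

namespace Groth.Agent.S0207

/-- On a quasi-compact quasi-separated scheme of dimension d on which the prime p is zero, étale
cohomology with Z/p coefficients vanishes from degree d+2 on. -/
theorem result (p : ℕ) [Fact p.Prime] (S : Scheme.{u}) [CompactSpace S] [QuasiSeparatedSpace S]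
    (hp : (p : Γ(S, ⊤)) = 0) (d : ℕ) (hd : topologicalKrullDim S = d) (q : ℕ) (hq : 2 + d ≤ q) :
    Subsingleton (EtCoh.H S (EtCoh.const S (ZMod p)) q) := by
  haveI := Groth.L28.EtCartan.zarCont S
  haveI : SpectralSpace ↑S.toTopCat := show SpectralSpace ↥S from {}
  have hv : ∀ n, d < n → Subsingleton (EtCoh.H S (EtCoh.Ga S) n) := fun n hn => by
    haveI : Subsingleton (Coh.HH S (Coh.structureModule S) n) :=
      Groth.L10.Spectral.subsingleton_H (X := S.toTopCat) _ hd.le n hn
    obtain ⟨e⟩ := Groth.L28.EtCartan.nonempty_H_Ga (X := S) n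
    exact e.toEquiv.subsingleton
  obtain ⟨m, rfl⟩ : ∃ m, q = m + 1 := ⟨q - 1, by omega⟩
  refine subsingleton_of_forall_eq 0 fun z => ?_
  obtain ⟨w, hw⟩ := Abelian.Ext.covariant_sequence_exact₁ _ (Groth.L28.EtCartan.shortExact_asSeq (X := S) p hp) z
    (@Subsingleton.elim _ (hv (m + 1) (by omega)) _ _) (n₀ := m) rfl
  rw [← hw, show w = 0 from @Subsingleton.elim _ (hv m (by omega)) _ _, Abelian.Ext.zero_comp]
  rfl

end Groth.Agent.S0207
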