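import Groth.Statements.S0217
import Groth.Agent.L22.AffFin.Basic

set_option autoImplicit false
universe u
open CategoryTheory CategoryTheory.Limits AlgebraicGeometry TopologicalSpace
open Curves

namespace Groth.Agent.S0217

/-- On a separated scheme whose quasi-compact opens have finitely many irreducible components, any
finite set of points with Noetherian local rings of dimension at most one lies in a common affine
open. -/
theorem result (X : Scheme.{u}) [X.IsSeparated]
    (hirr : ∀ U : X.Opens, IsCompact (U : Set X) → (irreducibleComponents (U : Set X)).Finite)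
    (s : Finset X) (hs : ∀ x ∈ s, IsNoetherianRing (X.presheaf.stalk x) ∧ ringKrullDim (X.presheaf.stalk x) ≤ 1) :
    ∃ U : X.Opens, IsAffineOpen U ∧ ∀ x ∈ s, x ∈ U := by
  classical
  choose A hA hxA _ using fun x : s => TopologicalSpace.Opens.isBasis_iff_nbhd.1
    X.isBasis_affineOpens (show x.1 ∈ (⊤ : X.Opens) from trivial)
  let U₀ : X.Opens := ⨆ x, A x
  have hc : IsCompact ((U₀ : X.Opens) : Set X) := by
    rw [TopologicalSpace.Opens.coe_iSup]
    exact isCompact_iUnion fun y => (hA y).isCompact
  haveI : U₀.toScheme.IsSeparated := ⟨by rw [← terminal.comp_from U₀.ι]; infer_instance⟩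
  let Ps : Finset U₀ :=
    ((s.finite_toSet).preimage (Subtype.val_injective (p := (· ∈ U₀))).injOn).toFinset
  have hP : ∀ x ∈ Ps, x.1 ∈ s := fun x hx =>
    (Set.Finite.mem_toFinset (s.finite_toSet.preimage (Subtype.val_injective (p := (· ∈ U₀))).injOn)).1 hx
  obtain ⟨V, hV, hPV⟩ := Groth.L22.AffFin.exists_affine_finset' (X := U₀.toScheme) (hirr U₀ hc) Ps
    (fun x hx => by
      haveI := (hs _ (hP x hx)).1
      exact isNoetherianRing_of_ringEquiv _ (U₀.stalkIso x).commRingCatIsoToRingEquiv.symm)
    fun x hx => by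
      rw [ringKrullDim_eq_of_ringEquiv (U₀.stalkIso x).commRingCatIsoToRingEquiv]
      exact (hs _ (hP x hx)).2
  exact ⟨U₀.ι ''ᵁ V, hV.image_of_isOpenImmersion U₀.ι, fun x hx =>
    ⟨⟨x, TopologicalSpace.Opens.mem_iSup.2 ⟨⟨x, hx⟩, hxA _⟩⟩, hPV ((Set.Finite.mem_toFinset _).2 hx), rfl⟩⟩

end Groth.Agent.S0217
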