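import Groth.Statements.S0218
import Mathlib.Algebra.DualNumber
import Mathlib.FieldTheory.Minpoly.Field
import Mathlib.RingTheory.Adjoin.Polynomial.Basic
import Mathlib.Algebra.Polynomial.Expand
import Mathlib.Tactic.LinearCombination
import Mathlib.RingTheory.Algebraic.Integral

set_option autoImplicit false
universe u
open Curves

namespace Groth.Agent.S0218

/-- Over an algebraically closed field k, a commutative k-algebra with exactly two k-subalgebras is
isomorphic to k × k or to the dual numbers over k. -/
theorem result (k : Type u) [Field k] [IsAlgClosed k] (A : Type u) [CommRing A] [Algebra k A]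
    (h : Nat.card (Subalgebra k A) = 2) :
    Nonempty (A ≃ₐ[k] (k × k)) ∨ Nonempty (A ≃ₐ[k] DualNumber k) := by
  obtain ⟨S₁, S₂, hne12, huniv⟩ := Nat.card_eq_two_iff.1 h
  -- there are no other subalgebras than ⊥ and ⊤, and they differ
  have hmem : ∀ S : Subalgebra k A, S = S₁ ∨ S = S₂ := fun S => by
    have : S ∈ ({S₁, S₂} : Set (Subalgebra k A)) := huniv ▸ Set.mem_univ S
    simpa using this
  have hbt : (⊥ : Subalgebra k A) ≠ ⊤ := by
    intro hh
    exact hne12 (le_antisymm (le_trans le_top (hh ▸ bot_le)) (le_trans le_top (hh ▸ bot_le)))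
  have htop : ∀ S : Subalgebra k A, S ≠ ⊥ → S = ⊤ := by
    intro S hS
    rcases hmem ⊥ with h1 | h1 <;> rcases hmem ⊤ with h2 | h2 <;> rcases hmem S with h3 | h3 <;>
      simp_all
  obtain ⟨x, hx⟩ : ∃ x : A, x ∉ (⊥ : Subalgebra k A) := by
    by_contra hh
    push Not at hh
    exact hbt (top_unique fun y _ => hh y)
  have hAnt : Nontrivial A := by
    by_contra hh
    rw [not_nontrivial_iff_subsingleton] at hh
    exact hx (Subsingleton.elim x 0 ▸ zero_mem _)
  have hgen : ∀ y : A, y ∉ (⊥ : Subalgebra k A) → Algebra.adjoin k ({y} : Set A) = ⊤ := by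
    intro y hy
    exact htop _ fun hh => hy (hh ▸ Algebra.self_mem_adjoin_singleton k y)
  have hsurj : ∀ y : A, ∃ P : Polynomial k, Polynomial.aeval x P = y := by
    intro y
    have : y ∈ Algebra.adjoin k ({x} : Set A) := by rw [hgen x hx]; trivial
    rw [Algebra.adjoin_singleton_eq_range_aeval] at this
    exact this
  have hint : IsIntegral k x := by
    by_cases hxx : x ^ 2 ∈ (⊥ : Subalgebra k A)
    · obtain ⟨c, hc⟩ := Algebra.mem_bot.1 hxx
      exact ⟨Polynomial.X ^ 2 - Polynomial.C c, Polynomial.monic_X_pow_sub_C c two_ne_zero,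
        by simp [← hc]⟩
    · have : x ∈ Algebra.adjoin k ({x ^ 2} : Set A) := by rw [hgen _ hxx]; trivial
      rw [Algebra.adjoin_singleton_eq_range_aeval] at this
      obtain ⟨g, hg⟩ := this
      refine (isAlgebraic_iff_isIntegral).1 ⟨Polynomial.X - Polynomial.expand k 2 g, ?_, ?_⟩
      · intro h0
        have := congrArg (fun q => Polynomial.coeff q 1) h0
        simp [Polynomial.coeff_expand] at this
      · rw [map_sub, Polynomial.aeval_X, Polynomial.expand_aeval]
        exact sub_eq_zero.2 hg.symm
  set P := minpoly k x with hP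
  have hPm : P.Monic := minpoly.monic hint
  obtain ⟨a, ha⟩ := IsAlgClosed.exists_root P (by
    rw [Polynomial.degree_eq_natDegree hPm.ne_zero]
    exact_mod_cast (minpoly.natDegree_pos hint).ne')
  obtain ⟨Q, hQ⟩ := Polynomial.dvd_iff_isRoot.2 ha
  set z := Polynomial.aeval x Q with hz
  have hQ0 : Q ≠ 0 := fun h0 => hPm.ne_zero (by rw [hQ, h0, mul_zero])
  have hQlt : Q.natDegree < P.natDegree := by
    rw [hQ, Polynomial.natDegree_mul (Polynomial.X_sub_C_ne_zero a) hQ0,
      Polynomial.natDegree_X_sub_C]
    omega
  have hxz : x * z = algebraMap k A a * z := by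
    have := minpoly.aeval k x
    rw [← hP, hQ, map_mul, map_sub, Polynomial.aeval_X, Polynomial.aeval_C, sub_mul,
      sub_eq_zero] at this
    exact this
  have hzb : z ∉ (⊥ : Subalgebra k A) := by
    intro hh
    obtain ⟨c, hc⟩ := Algebra.mem_bot.1 hh
    have h1 : Polynomial.aeval x (Q - Polynomial.C c) = 0 := by simp [← hz, hc]
    by_cases h0 : Q - Polynomial.C c = 0
    · rw [sub_eq_zero] at h0
      have hx1 : (Polynomial.C c : Polynomial k) ≠ 0 := h0 ▸ hQ0
      have : x = algebraMap k A a := by
        have := hxz
        rw [hz, h0, Polynomial.aeval_C] at this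
        exact ((Ne.isUnit (Polynomial.C_ne_zero.1 hx1)).map (algebraMap k A)).mul_left_inj.1 this
      exact hx (this ▸ Subalgebra.algebraMap_mem _ a)
    · have := minpoly.degree_le_of_ne_zero k x h0 h1
      rw [← hP] at this
      have := Polynomial.natDegree_le_natDegree this
      rw [Polynomial.natDegree_sub_C] at this
      omega
  -- z satisfies z * z ∈ k z
  have hzz : z * z = algebraMap k A (Q.eval a) * z := by
    have key : ∀ R : Polynomial k, Polynomial.aeval x R * z = algebraMap k A (R.eval a) * z := by
      intro R
      induction R using Polynomial.induction_on' with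
      | add R S hR hS => simp only [map_add, Polynomial.eval_add, add_mul, hR, hS]
      | monomial n r =>
        simp only [Polynomial.aeval_monomial, Polynomial.eval_monomial, map_mul, map_pow]
        induction n with
        | zero => simp
        | succ n ih =>
          have : algebraMap k A r * x ^ (n + 1) * z = algebraMap k A r * x ^ n * (x * z) := by ring
          rw [this, hxz]
          linear_combination (algebraMap k A a) * ih
    exact key Q
  -- hence x = c + d z
  obtain ⟨c, d, hcd⟩ : ∃ c d : k, x = algebraMap k A c + algebraMap k A d * z := by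
    have hx' : x ∈ Algebra.adjoin k ({z} : Set A) := by rw [hgen z hzb]; trivial
    rw [Algebra.adjoin_singleton_eq_range_aeval] at hx'
    obtain ⟨R, hR⟩ := hx'
    have key : ∀ R : Polynomial k, ∃ c d : k, Polynomial.aeval z R = algebraMap k A c + algebraMap k A d * z := by
      intro R
      induction R using Polynomial.induction_on with
      | C r => exact ⟨r, 0, by simp⟩
      | add R S hR hS =>
        obtain ⟨c, d, h1⟩ := hR; obtain ⟨c', d', h2⟩ := hS
        exact ⟨c + c', d + d', by rw [map_add, h1, h2, map_add, map_add]; ring⟩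
      | monomial n r ih =>
        obtain ⟨c, d, h1⟩ := ih
        refine ⟨0, c + d * Q.eval a, ?_⟩
        rw [pow_succ, ← mul_assoc, map_mul, h1, Polynomial.aeval_X, map_zero, map_add, map_mul]
        linear_combination (algebraMap k A d) * hzz
    obtain ⟨c, d, h1⟩ := key R
    exact ⟨c, d, hR.symm.trans h1⟩
  have hsq : (x - algebraMap k A a) * (x - algebraMap k A c) = 0 := by
    have : x * (x - algebraMap k A c) = algebraMap k A a * (x - algebraMap k A c) := by
      rw [show x - algebraMap k A c = algebraMap k A d * z by rw [hcd]; ring]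
      linear_combination (algebraMap k A d) * hxz
    linear_combination this
  -- every element is p + q x
  have hspan : ∀ y : A, ∃ p q : k, y = algebraMap k A p + algebraMap k A q * x := by
    intro y
    obtain ⟨R, rfl⟩ := hsurj y
    induction R using Polynomial.induction_on with
    | C r => exact ⟨r, 0, by simp⟩
    | add R S hR hS =>
      obtain ⟨p, q, h1⟩ := hR; obtain ⟨p', q', h2⟩ := hS
      exact ⟨p + p', q + q', by rw [map_add, h1, h2, map_add, map_add]; ring⟩
    | monomial n r ih =>
      obtain ⟨p, q, h1⟩ := ih
      refine ⟨-(q * a * c), p + q * (a + c), ?_⟩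
      rw [pow_succ, ← mul_assoc, map_mul, h1, Polynomial.aeval_X]
      simp only [map_neg, map_mul, map_add]
      linear_combination (algebraMap k A q) * hsq
  have hindep : ∀ p q : k, algebraMap k A p + algebraMap k A q * x = 0 → p = 0 ∧ q = 0 := by
    intro p q hpq
    have hq : q = 0 := by
      by_contra hq
      refine hx (Algebra.mem_bot.2 ⟨-p / q, ?_⟩)
      have hu : algebraMap k A q⁻¹ * algebraMap k A q = 1 := by
        rw [← map_mul, inv_mul_cancel₀ hq, map_one]
      rw [div_eq_inv_mul, map_mul, map_neg]
      linear_combination -(algebraMap k A q⁻¹) * hpq + x * hu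
    refine ⟨?_, hq⟩
    rw [hq, map_zero, zero_mul, add_zero] at hpq
    exact (map_eq_zero_iff _ (algebraMap k A).injective).1 hpq
  by_cases hac : a = c
  · subst hac
    right
    let ε : A := x - algebraMap k A a
    let φ : DualNumber k →ₐ[k] A :=
      DualNumber.lift ⟨(Algebra.ofId k A, ε), by simpa [ε] using hsq, fun r => Commute.all _ _⟩
    have hφ : ∀ p q : k, φ (TrivSqZeroExt.inl p + q • DualNumber.eps) =
        algebraMap k A p + algebraMap k A q * ε := by
      intro p q
      rw [map_add, map_smul, DualNumber.lift_apply_eps, Algebra.smul_def]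
      congr 1
      exact φ.commutes p
    refine ⟨(AlgEquiv.ofBijective φ ⟨?_, fun y => ?_⟩).symm⟩
    · rw [injective_iff_map_eq_zero]
      intro w hw
      have hw' : w = TrivSqZeroExt.inl w.fst + w.snd • DualNumber.eps := by
        ext <;> simp
      rw [hw', hφ] at hw
      obtain ⟨h1, h2⟩ := hindep (w.fst - w.snd * a) w.snd (by rw [map_sub, map_mul]; linear_combination hw)
      rw [h2, zero_mul, sub_zero] at h1
      rw [hw', h1, h2]; simp
    · obtain ⟨p, q, rfl⟩ := hspan y
      exact ⟨TrivSqZeroExt.inl (p + q * a) + q • DualNumber.eps, by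
        rw [hφ, map_add, map_mul]; ring⟩
  · left
    have hca : c - a ≠ 0 := sub_ne_zero.2 (Ne.symm hac)
    let e : A := algebraMap k A (c - a)⁻¹ * (x - algebraMap k A a)
    have hu : algebraMap k A (c - a)⁻¹ * (algebraMap k A c - algebraMap k A a) = 1 := by
      rw [← map_sub, ← map_mul, inv_mul_cancel₀ hca, map_one]
    have hee : e * e = e := by
      simp only [e]
      linear_combination (algebraMap k A (c - a)⁻¹) ^ 2 * hsq +
        (algebraMap k A (c - a)⁻¹ * (x - algebraMap k A a)) * hu
    let φ : (k × k) →ₐ[k] A :=
      { toFun := fun w => algebraMap k A w.1 * (1 - e) + algebraMap k A w.2 * e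
        map_one' := by simp
        map_zero' := by simp
        map_mul' := fun v w => by
          simp only [Prod.fst_mul, Prod.snd_mul, map_mul]
          linear_combination -(algebraMap k A v.1 - algebraMap k A v.2) *
            (algebraMap k A w.1 - algebraMap k A w.2) * hee
        map_add' := fun v w => by
          simp only [Prod.fst_add, Prod.snd_add, map_add]; ring
        commutes' := fun r => by
          simp only [Prod.algebraMap_apply, Algebra.algebraMap_self, RingHom.id_apply]; ring }
    have hφ : ∀ w, φ w = algebraMap k A w.1 * (1 - e) + algebraMap k A w.2 * e := fun w => rfl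
    refine ⟨(AlgEquiv.ofBijective φ ⟨?_, fun y => ?_⟩).symm⟩
    · rw [injective_iff_map_eq_zero]
      intro w hw
      rw [hφ] at hw
      obtain ⟨h1, h2⟩ := hindep (w.1 - (w.2 - w.1) * (c - a)⁻¹ * a) ((w.2 - w.1) * (c - a)⁻¹) (by
        simp only [map_sub, map_mul]
        linear_combination hw)
      have h3 : w.2 = w.1 := by
        rcases mul_eq_zero.1 h2 with h | h
        · exact sub_eq_zero.1 h
        · exact absurd h (inv_ne_zero hca)
      rw [h3, sub_self, zero_mul, zero_mul, sub_zero] at h1
      exact Prod.ext h1 (h3.trans h1)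
    · obtain ⟨p, q, rfl⟩ := hspan y
      refine ⟨(p + q * a, p + q * c), ?_⟩
      rw [hφ]
      simp only [map_add, map_mul, e]
      linear_combination (algebraMap k A q * (x - algebraMap k A a)) * hu

end Groth.Agent.S0218
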