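import Groth.Statements.S0219
import Groth.Agent.L21.CurveMaps

set_option autoImplicit false
universe u
open CategoryTheory CategoryTheory.Limits AlgebraicGeometry TopologicalSpace
open Curves

namespace Groth.Agent.S0219

/-- A morphism over a field from a proper scheme of dimension at most one to a separated scheme, which
does not contract any one-dimensional irreducible component to a point, is finite. -/
theorem result (k : Type u) [Field k] (X Y : Scheme.{u}) (p : X ⟶ Spec (CommRingCat.of k)) (q : Y ⟶ Spec (CommRingCat.of k))
    [IsProper p] [IsSeparated q] (f : X ⟶ Y) (hf : f ≫ q = p) (hdim : topologicalKrullDim X ≤ 1)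
    (h : ∀ Z ∈ irreducibleComponents (X : Type u), topologicalKrullDim Z = 1 → (f.base '' Z).Nontrivial) :
    IsFinite f := by
  exact Groth.L21.CurveTop.isFinite_of_nonconstant p q f hf hdim h

end Groth.Agent.S0219
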