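import Groth.Statements.S0221
import Groth.Agent.L21.TopDeg.ArtinSchreier

set_option autoImplicit false
universe u
open CategoryTheory CategoryTheory.Limits AlgebraicGeometry
open Curves

namespace Groth.Agent.S0221

/-- For a separated finite type scheme of dimension d over an algebraically closed field of
characteristic p, étale cohomology with Z/p coefficients vanishes above degree d. -/
theorem result (k : Type u) [Field k] [IsAlgClosed k] (p : ℕ) [Fact p.Prime] [CharP k p]
    (X : Scheme.{u}) (f : X ⟶ Spec (CommRingCat.of k)) [IsSeparated f] [LocallyOfFiniteType f] [QuasiCompact f]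
    (d : ℕ) (hd : topologicalKrullDim X = d) (q : ℕ) (hq : d + 1 ≤ q) :
    Subsingleton (EtCoh.H X (EtCoh.const X (ZMod p)) q) := by
  obtain ⟨m, rfl⟩ : ∃ m, q = m + 1 := ⟨q - 1, by omega⟩
  exact Groth.L21.TopDeg.subsingleton_const k p f d hd.le m (by omega)

end Groth.Agent.S0221
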