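import Groth.Statements.S0222
import Groth.Agent.L21.TopDeg.Finite

set_option autoImplicit false
universe u
open CategoryTheory CategoryTheory.Limits AlgebraicGeometry
open Curves

namespace Groth.Agent.S0222

/-- For a separated scheme of finite type and dimension d over a field k and a coherent module F, the
top cohomology H^d(X, F) is finite-dimensional over k (no properness needed). -/
theorem result (k : Type u) [Field k] (X : Scheme.{u}) [X.Over (Spec (CommRingCat.of k))]
    [IsSeparated (X ↘ Spec (CommRingCat.of k))] [LocallyOfFiniteType (X ↘ Spec (CommRingCat.of k))]
    [QuasiCompact (X ↘ Spec (CommRingCat.of k))]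
    (F : X.Modules) (hF : Coh.IsCoh F) (d : ℕ) (hd : topologicalKrullDim X = d) :
    Module.Finite k (Coh.HH X F d) := by
  exact Groth.L21.TopDeg.finite_top k F hF d hd.le

end Groth.Agent.S0222
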