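import Groth.Statements.S0223
import Groth.Agent.L21.RR.BaseChange

set_option autoImplicit false
set_option backward.isDefEq.respectTransparency false
universe u
open CategoryTheory CategoryTheory.Limits AlgebraicGeometry
open Curves

namespace Groth.Agent.S0223

/-- For a proper one-dimensional scheme X over a field k with only constant global functions, base
change to a field extension k' keeps the global functions equal to the constants and keeps the genus
dim H^1(X, O_X). The base change is given as any pullback square. -/
theorem result (k : Type u) [Field k] (X : Scheme.{u}) [X.Over (Spec (CommRingCat.of k))]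
    [IsProper (X ↘ Spec (CommRingCat.of k))] (hdim : topologicalKrullDim X = 1)
    (h0 : Module.finrank k (Coh.HH X (Coh.structureModule X) 0) = 1)
    (k' : Type u) [Field k'] [Algebra k k'] (X' : Scheme.{u}) [X'.Over (Spec (CommRingCat.of k'))]
    (g : X' ⟶ X)
    (hpb : IsPullback g (X' ↘ Spec (CommRingCat.of k')) (X ↘ Spec (CommRingCat.of k))
      (Spec.map (CommRingCat.ofHom (algebraMap k k')))) :
    Module.finrank k' (Coh.HH X' (Coh.structureModule X') 0) = 1 ∧
      Module.finrank k' (Coh.HH X' (Coh.structureModule X') 1) =
        Module.finrank k (Coh.HH X (Coh.structureModule X) 1) := by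
  have h := fun p => Groth.L21.RR.h_structure_bc g hpb p
  exact ⟨(h 0).trans h0, h 1⟩

end Groth.Agent.S0223
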