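import Groth.Statements.S0225
import Groth.Agent.L21.CurveKummer.Main

set_option autoImplicit false
set_option backward.isDefEq.respectTransparency false
set_option linter.style.haveILetI false
universe u
open CategoryTheory CategoryTheory.Limits AlgebraicGeometry
open Curves

namespace Groth.Agent.S0225

/-- For a smooth proper curve X over an algebraically closed field k and an integer n ≥ 1 invertible in
k, the étale cohomology group H²(X, ℤ/n) of the constant sheaf ℤ/n is isomorphic to ℤ/n. (The
published statement is for smooth projective curves; smooth proper is assumed here.) -/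
theorem result (k : Type u) [Field k] [IsAlgClosed k] (X : Scheme.{u}) [X.Over (Spec (CommRingCat.of k))]
    (hX : Curve.IsSmoothProperCurve k X (X ↘ Spec (CommRingCat.of k)))
    (n : ℕ) (hn : 1 ≤ n) (hnk : (n : k) ≠ 0) :
    Nonempty (EtCoh.H X (EtCoh.const X (ZMod n)) 2 ≃+ ZMod n) := by
  obtain ⟨hp, hs, hi, hd⟩ := hX
  haveI : IsProper (X ↘ Spec (CommRingCat.of k)) := hp
  haveI : Smooth (X ↘ Spec (CommRingCat.of k)) := hs
  haveI : IsIntegral X := hi
  haveI : NeZero n := ⟨Nat.one_le_iff_ne_zero.1 hn⟩
  obtain ⟨e⟩ := Groth.L21.CurveKummer.nonempty_const_iso_mu (X ↘ Spec (CommRingCat.of k)) n hnk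
  obtain ⟨a⟩ := Groth.L21.CurveKummer.nonempty_H2 k X hd n hnk
  exact ⟨(Groth.L21.CurveKummer.congrH e 2).trans a⟩

end Groth.Agent.S0225
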