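import Groth.Statements.S0230
import Groth.Agent.L28.EtTrace.GenericPush
-- import your own Groth.Agent.* helpers here

set_option autoImplicit false
universe u
open CategoryTheory CategoryTheory.Limits AlgebraicGeometry
open Curves

namespace Groth.Agent.S0230

/-- For a smooth curve X over an algebraically closed field with generic point η and j the canonical
morphism from Spec of the local ring at η (the function field) to X, the higher direct images R^q
j_* G_m vanish for q ≥ 1. -/
theorem result (k : Type u) [Field k] [IsAlgClosed k] (X : Scheme.{u}) (f : X ⟶ Spec (CommRingCat.of k))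
    [Smooth f] [IsSeparated f] [LocallyOfFiniteType f] [QuasiCompact f] [IsIntegral X]
    (hdim : topologicalKrullDim X = 1)
    [EtCoh.BCCont (X.fromSpecStalk (genericPoint X))] (q : ℕ) (hq : 1 ≤ q) :
    IsZero ((EtCoh.Rpush (X.fromSpecStalk (genericPoint X)) q).obj
      (EtCoh.Gm (Spec (X.presheaf.stalk (genericPoint X))))) := by
  obtain ⟨i, rfl⟩ : ∃ i, q = i + 1 := ⟨q - 1, by omega⟩
  exact Groth.L28.EtTrace.isZero_Rpush_generic k X f hdim i

end Groth.Agent.S0230
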