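import Groth.Statements.S0242
import Groth.Agent.L27.FEtExt.AlgClosed

set_option autoImplicit false
set_option linter.style.haveILetI false
set_option backward.isDefEq.respectTransparency.types false
universe u
open Pi1

namespace Groth.Agent.S0242

open AlgebraicGeometry CategoryTheory CategoryTheory.Limits in
/-- Let k'/k be an extension of algebraically closed fields and X a proper k-scheme. Base change from X
to X_{k'} is an equivalence on categories of finite etale covers. -/
theorem result (k k' : Type u) [Field k] [Field k'] [IsAlgClosed k] [IsAlgClosed k'] [Algebra k k']
    {X : Scheme.{u}} (f : X ⟶ Spec (CommRingCat.of k)) [IsProper f] :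
    (FEt.restrict (pullback.fst f (Spec.map (CommRingCat.ofHom (algebraMap k k'))))).IsEquivalence := by
  exact Groth.L27.FEtExt.isEquivalence_restrict f k'

end Groth.Agent.S0242
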