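import Groth.Statements.S0244
import Groth.Agent.L27.NormalSepClosed.FEt

set_option autoImplicit false
universe u
open Pi1

namespace Groth.Agent.S0244

open AlgebraicGeometry CategoryTheory CategoryTheory.Limits in
/-- Let X be a normal integral scheme and U ⊆ X a nonempty open subscheme. Then the restriction functor
from finite étale covers of X to finite étale covers of U is full and faithful. -/
theorem result {X : Scheme.{u}} [IsIntegral X] (hX : Pi1.IsNormalScheme X) (U : X.Opens)
    (hU : (U : Set X).Nonempty) : (FEt.restrict U.ι).Full ∧ (FEt.restrict U.ι).Faithful := by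
  haveI : Nonempty (U : Scheme.{u}) := ⟨⟨hU.some, hU.some_mem⟩⟩
  have hη : U.ι (genericPoint (U : Scheme.{u})) = genericPoint X := genericPoint_eq_of_isOpenImmersion U.ι
  exact ⟨Groth.L27.NormalSepClosed.full_restrict_of_preimmersion (fun x => (hX x).2) U.ι hη,
    Groth.L27.NormalSepClosed.faithful_restrict_of_mem U.ι ⟨_, hη⟩⟩

end Groth.Agent.S0244
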