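import Groth.Statements.S0248
import Groth.Agent.L13.Purity.Main

set_option autoImplicit false
set_option linter.style.haveILetI false
universe u
open Pi1

namespace Groth.Agent.S0248

open AlgebraicGeometry CategoryTheory CategoryTheory.Limits in
/-- Let A be a regular local ring of dimension at least 2 and B a finite A-algebra which is an
integrally closed domain, with A → B injective. If B is étale over A at every prime of B not lying
over the maximal ideal of A, then B is étale over A. This is the case of the published statement in
which B is a domain and A → B is injective. -/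
theorem result (A B : Type u) [CommRing A] [IsRegularLocalRing A]
    (hA : (2 : WithBot ℕ∞) ≤ ringKrullDim A) [CommRing B] [IsDomain B] [IsIntegrallyClosed B]
    [Algebra A B] [Module.Finite A B] (hinj : Function.Injective (algebraMap A B))
    (h : ∀ (q : Ideal B) (_ : q.IsPrime), q.comap (algebraMap A B) ≠ IsLocalRing.maximalIdeal A →
      Algebra.IsEtaleAt A q) : Algebra.Etale A B := by
  haveI := Groth.L01.isDomain_of_regular A
  haveI : FaithfulSMul A B := (faithfulSMul_iff_algebraMap_injective A B).2 hinj
  let K := FractionRing A
  let L := FractionRing B
  letI : Algebra K L := FractionRing.liftAlgebra A L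
  haveI : IsScalarTower A K L := inferInstance
  haveI : Algebra.IsIntegral A B := Algebra.IsIntegral.of_finite A B
  haveI : IsIntegralClosure B A L := IsIntegralClosure.of_isIntegrallyClosed B A L
  haveI : Algebra.IsAlgebraic A B := Algebra.IsIntegral.isAlgebraic
  haveI : Module.Finite K L := Module.Finite.of_isLocalization A B (nonZeroDivisors A)
  have hbot : (⊥ : Ideal B).comap (algebraMap A B) ≠ IsLocalRing.maximalIdeal A := by
    rw [← RingHom.ker_eq_comap_bot, (RingHom.injective_iff_ker_eq_bot _).1 hinj]
    intro h0
    have h1 := IsLocalRing.maximalIdeal_height_eq_ringKrullDim (R := A)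
    rw [← h0, Ideal.height_bot] at h1
    rw [← h1] at hA
    exact absurd hA (by decide)
  haveI : Algebra.FormallyEtale A (Localization.AtPrime (⊥ : Ideal B)) := h ⊥ Ideal.isPrime_bot hbot
  haveI : IsLocalization.AtPrime L (⊥ : Ideal B) := by
    show IsLocalization (⊥ : Ideal B).primeCompl L
    rw [show (⊥ : Ideal B).primeCompl = nonZeroDivisors B by
      ext; simp [Ideal.primeCompl, mem_nonZeroDivisors_iff_ne_zero]]
    infer_instance
  haveI : Algebra.FormallyEtale A L := Algebra.FormallyEtale.of_equiv
    ((IsLocalization.algEquiv (⊥ : Ideal B).primeCompl (Localization.AtPrime (⊥ : Ideal B)) L).restrictScalars A)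
  haveI : Algebra.FormallyUnramified K L := Algebra.FormallyUnramified.of_restrictScalars A K L
  haveI : Algebra.IsSeparable K L := Algebra.FormallyUnramified.isSeparable K L
  refine Groth.L13.Purity.pure_of_regular A K L B fun P hP hP1 => ?_
  haveI : Algebra.FormallyEtale A (Localization.AtPrime P) := h P hP (fun h0 => ?_)
  · exact inferInstance
  · have h1 := IsLocalRing.maximalIdeal_height_eq_ringKrullDim (R := A)
    rw [← h0, hP1] at h1
    rw [← h1] at hA
    exact absurd hA (by decide)

end Groth.Agent.S0248
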