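import Groth.Statements.S0257
import Groth.Agent.L13.Purity.BranchFlat

set_option autoImplicit false
universe u
open Pi1

namespace Groth.Agent.S0257

open AlgebraicGeometry CategoryTheory CategoryTheory.Limits in
/-- Let f be flat and locally of finite type between locally Noetherian schemes, x a point of X which is
not a generic point of an irreducible component (its local ring has dimension at least 1), with f
quasi-finite at x and unramified at all points of dimension one specializing to x. Then f is etale
on an open neighbourhood of x. -/
theorem result {X Y : Scheme.{u}} (f : X ⟶ Y) [LocallyOfFiniteType f] [Flat f] [IsLocallyNoetherian X]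
    [IsLocallyNoetherian Y] (x : X) (hq : f.QuasiFiniteAt x)
    (hdim1 : (1 : WithBot ℕ∞) ≤ ringKrullDim (X.presheaf.stalk x))
    (hunr : ∀ x' : X, x' ⤳ x → ringKrullDim (X.presheaf.stalk x') = 1 →
      (f.stalkMap x').hom.FormallyUnramified) :
    ∃ U : X.Opens, x ∈ U ∧ Etale (U.ι ≫ f) := by
  exact Groth.L13.Purity.etale_at_of_flat f x hq hdim1 hunr

end Groth.Agent.S0257
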