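import Groth.Statements.S0258
import Groth.Agent.L27.PushO.Depth

set_option autoImplicit false
universe u
open Pi1

namespace Groth.Agent.S0258

open AlgebraicGeometry CategoryTheory CategoryTheory.Limits in
/-- For a Noetherian local ring A of depth at least 2, the functor restricting finite étale covers of
Spec A to the punctured spectrum is fully faithful (full and faithful). The published statement
assumes instead that the punctured spectrum of the strict henselization of A is connected; depth at
least 2 is a sufficient condition for this, and the result is stated here under that hypothesis. -/
theorem result (A : Type u) [CommRing A] [IsNoetherianRing A] [IsLocalRing A] (hA : (2 : ℕ∞) ≤ LocCoh.depth A A) :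
    (FEt.restrict (FEt.puncturedSpec A).ι).Full ∧ (FEt.restrict (FEt.puncturedSpec A).ι).Faithful := by
  refine Groth.L27.PushO.fullyFaithful_restrict_of_depth _ fun x hx => ?_
  have hx' : x = IsLocalRing.closedPoint A := by
    by_contra hne
    exact hx hne
  have e : A ≃+* (Spec (CommRingCat.of A)).presheaf.stalk x := by
    rw [hx']
    exact (stalkClosedPointIso (CommRingCat.of A)).commRingCatIsoToRingEquiv.symm
  exact hA.trans_eq (Groth.L06.FlatFibre.depth_eq_of_ringEquiv e).symm

end Groth.Agent.S0258
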