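import Groth.Statements.S0259
import Groth.Agent.L27.PushO.Depth

set_option autoImplicit false
universe u
open Pi1

namespace Groth.Agent.S0259

open AlgebraicGeometry CategoryTheory CategoryTheory.Limits in
/-- Let X be a Noetherian scheme and U ⊆ X a dense open subscheme such that at every point x outside U
the local ring 𝒪_{X,x} has depth at least 2. Then the functor restricting finite étale covers of X
to U is full and faithful. (The published statement assumes instead that the punctured spectra of
the strict henselizations of X at the points outside U are connected; depth at least 2 is a
sufficient condition for this and is what is assumed here.) -/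
theorem result {X : Scheme.{u}} [IsNoetherian X] (U : X.Opens) (hU : Dense (U : Set X))
    (h : ∀ x : X, x ∉ U → (2 : ℕ∞) ≤ LocCoh.depth (X.presheaf.stalk x) (X.presheaf.stalk x)) :
    (FEt.restrict U.ι).Full ∧ (FEt.restrict U.ι).Faithful := by
  exact Groth.L27.PushO.fullyFaithful_restrict_of_depth U h

end Groth.Agent.S0259
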