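import Groth.Statements.S0260
import Groth.Agent.L27.Lefschetz.Main
import Groth.Agent.L04.LC.Depth

set_option autoImplicit false
universe u
open Pi1

namespace Groth.Agent.S0260

open AlgebraicGeometry CategoryTheory CategoryTheory.Limits in
/-- Let A be a henselian Noetherian local ring of depth at least 3 and f an element of the maximal
ideal. Then restricting finite etale covers from the punctured spectrum of A to the punctured
spectrum of A/fA is fully faithful. -/
theorem result (A : Type u) [CommRing A] [IsNoetherianRing A] [HenselianLocalRing A] (hA : (3 : ℕ∞) ≤ LocCoh.depth A A)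
    (f : A) (hf : f ∈ IsLocalRing.maximalIdeal A) :
    (FEt.restrict (pullback.fst (FEt.puncturedSpec A).ι
      (Spec.map (CommRingCat.ofHom (Ideal.Quotient.mk (Ideal.span {f})))))).Full ∧
    (FEt.restrict (pullback.fst (FEt.puncturedSpec A).ι
      (Spec.map (CommRingCat.ofHom (Ideal.Quotient.mk (Ideal.span {f})))))).Faithful := by
  haveI hm : HenselianRing A (IsLocalRing.maximalIdeal A) := {
    jac := IsLocalRing.maximalIdeal_le_jacobson ⊥
    is_henselian := fun p hp a h1 h2 => HenselianLocalRing.is_henselian p hp a h1 <| by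
      refine IsLocalRing.notMem_maximalIdeal.1 fun hmem => ?_
      rw [Ideal.Quotient.eq_zero_iff_mem.2 hmem] at h2
      haveI : Nontrivial (A ⧸ IsLocalRing.maximalIdeal A) :=
        Ideal.Quotient.nontrivial_iff.2 (IsLocalRing.maximalIdeal.isMaximal A).ne_top
      exact not_isUnit_zero h2 }
  haveI : HenselianRing A (Ideal.span {f}) :=
    Groth.L05.henselianRing_mono ((Ideal.span_singleton_le_iff_mem _).2 hf)
  have h := (Groth.L04.LC.le_idealDepth_iff_H (IsLocalRing.maximalIdeal A) A 3).1 hA
  exact Groth.L27.LefLocal.full_faithful A f hf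
    ⟨0, fun x => @Subsingleton.elim _ (h 1 (by omega)) _ _⟩ ⟨0, fun x => @Subsingleton.elim _ (h 2 (by omega)) _ _⟩

end Groth.Agent.S0260
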