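import Groth.Statements.S0262
import Groth.Agent.L13.Purity.Compl

set_option autoImplicit false
universe u
open Pi1

namespace Groth.Agent.S0262

open AlgebraicGeometry CategoryTheory CategoryTheory.Limits in
/-- Let A be a Noetherian local ring with completion A^, U the punctured spectrum of A and U' its base
change to Spec A^. A finite etale cover V of U is the restriction of a finite etale cover of Spec A
if and only if the base change of V to U' is the restriction of a finite etale cover of Spec A^. -/
theorem result (A : Type u) [CommRing A] [IsNoetherianRing A] [IsLocalRing A]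
    (V : FEt.Cat (FEt.puncturedSpec A : Scheme.{u})) :
    (∃ Y : FEt.Cat (Spec (CommRingCat.of A)),
      Nonempty ((FEt.restrict (FEt.puncturedSpec A).ι).obj Y ≅ V)) ↔
    (∃ Y' : FEt.Cat (Spec (CommRingCat.of (AdicCompletion (IsLocalRing.maximalIdeal A) A))),
      Nonempty ((FEt.restrict (pullback.snd (FEt.puncturedSpec A).ι
        (Spec.map (CommRingCat.ofHom
          (algebraMap A (AdicCompletion (IsLocalRing.maximalIdeal A) A)))))).obj Y' ≅
        (FEt.restrict (pullback.fst (FEt.puncturedSpec A).ι
        (Spec.map (CommRingCat.ofHom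
          (algebraMap A (AdicCompletion (IsLocalRing.maximalIdeal A) A)))))).obj V)) := by
  let sp := Spec.map (CommRingCat.ofHom (algebraMap A (AdicCompletion (IsLocalRing.maximalIdeal A) A)))
  let ι := (FEt.puncturedSpec A).ι
  constructor
  · rintro ⟨Y, ⟨e⟩⟩
    refine ⟨(FEt.restrict sp).obj Y, ⟨?_⟩⟩
    exact ((MorphismProperty.Over.pullbackComp (pullback.snd ι sp) sp).app Y).symm ≪≫
      (MorphismProperty.Over.pullbackCongr (pullback.condition (f := ι) (g := sp)).symm).app Y ≪≫
      (MorphismProperty.Over.pullbackComp (pullback.fst ι sp) ι).app Y ≪≫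
      (FEt.restrict (pullback.fst ι sp)).mapIso e
  · rintro ⟨Y', ⟨e⟩⟩
    exact Groth.L13.Purity.Compl.exists_extension A V Y' e

end Groth.Agent.S0262
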