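import Groth.Statements.S0263
import Groth.Agent.L20.FlatHartogs
import Mathlib.AlgebraicGeometry.Morphisms.Etale

set_option autoImplicit false
universe u
open Pi1

namespace Groth.Agent.S0263

open AlgebraicGeometry CategoryTheory CategoryTheory.Limits in
/-- Let A be a Noetherian local ring of depth at least 2 and V a finite étale cover of the punctured
spectrum of A which is isomorphic to the restriction of some finite étale cover of Spec A. Then the
ring of global sections Γ(V, O_V) is finite and étale over A, via the ring map A → Γ(V, O_V) induced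
by the composite V → Spec A. (Only this implication of the published statement is asserted here; its
converse is not.) -/
theorem result (A : Type u) [CommRing A] [IsNoetherianRing A] [IsLocalRing A] (hA : (2 : ℕ∞) ≤ LocCoh.depth A A)
    (V : FEt.Cat (FEt.puncturedSpec A : Scheme.{u}))
    (hV : ∃ Y : FEt.Cat (Spec (CommRingCat.of A)),
      Nonempty ((FEt.restrict (FEt.puncturedSpec A).ι).obj Y ≅ V)) :
    ((Scheme.ΓSpecIso (CommRingCat.of A)).inv ≫ (V.hom ≫ (FEt.puncturedSpec A).ι).appTop).hom.Finite ∧
    ((Scheme.ΓSpecIso (CommRingCat.of A)).inv ≫ (V.hom ≫ (FEt.puncturedSpec A).ι).appTop).hom.Etale := by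
  obtain ⟨Y, ⟨e⟩⟩ := hV
  let S := Spec (CommRingCat.of A)
  let U : S.Opens := FEt.puncturedSpec A
  have hU : ∀ x : S, x ∉ U → (2 : ℕ∞) ≤ LocCoh.depth (S.presheaf.stalk x) (S.presheaf.stalk x) := by
    intro x hx
    have hx' : x = IsLocalRing.closedPoint A := by
      by_contra hne
      exact hx hne
    have f : A ≃+* (Spec (CommRingCat.of A)).presheaf.stalk x := by
      rw [hx']
      exact (stalkClosedPointIso (CommRingCat.of A)).commRingCatIsoToRingEquiv.symm
    exact hA.trans_eq (Groth.L06.FlatFibre.depth_eq_of_ringEquiv f).symm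
  let p : Y.left ⟶ S := Y.hom
  haveI : IsFinite p := Y.prop.1
  haveI : Etale p := Y.prop.2
  haveI : IsAffine Y.left := isAffine_of_isAffineHom p
  let i : pullback p U.ι ⟶ Y.left := pullback.fst p U.ι
  have hbij : Function.Bijective i.appTop := by
    have hb := Groth.L20.FlatHartogs.appTop_bijective hU p (isAffineOpen_top S) (isAffineOpen_top Y.left)
      (fun _ _ => trivial)
    let j : ((⊤ : Y.left.Opens) ⊓ p ⁻¹ᵁ U : Y.left.Opens).toScheme ≅ pullback p U.ι :=
      Y.left.isoOfEq (top_inf_eq _) ≪≫ (pullbackRestrictIsoRestrict p U).symm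
    have hj : j.hom ≫ i = Y.left.homOfLE (inf_le_left : (⊤ : Y.left.Opens) ⊓ p ⁻¹ᵁ U ≤ ⊤) ≫ (⊤ : Y.left.Opens).ι := by
      simp [j, i]
    have hh : Function.Bijective (j.hom ≫ i).appTop := by
      rw [hj, Scheme.Hom.comp_appTop]
      haveI : IsIso (⊤ : Y.left.Opens).ι.appTop := by
        rw [← Scheme.topIso_hom]; exact inferInstanceAs (IsIso (Scheme.Γ.map Y.left.topIso.hom.op))
      exact hb.comp (ConcreteCategory.bijective_of_isIso (⊤ : Y.left.Opens).ι.appTop)
    rw [Scheme.Hom.comp_appTop] at hh
    exact (Function.Bijective.of_comp_iff' (ConcreteCategory.bijective_of_isIso (Scheme.Γ.map j.hom.op)) _).mp hh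
  let c : V.left ⟶ pullback p U.ι := e.inv.left
  haveI : IsIso c := inferInstanceAs (IsIso ((MorphismProperty.Over.forget FEt.prop.{u} ⊤ _ ⋙
    CategoryTheory.Over.forget _).map e.inv))
  have hci : V.hom ≫ U.ι = (c ≫ i) ≫ p := by
    have h1 : c ≫ pullback.snd p U.ι = V.hom := MorphismProperty.Over.w e.inv
    rw [← h1, Category.assoc, Category.assoc, pullback.condition]
  haveI : IsIso (c ≫ i).appTop := by
    rw [ConcreteCategory.isIso_iff_bijective, Scheme.Hom.comp_appTop]
    exact (ConcreteCategory.bijective_of_isIso (Scheme.Γ.map c.op)).comp hbij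
  have hfac : (Scheme.ΓSpecIso (CommRingCat.of A)).inv ≫ (V.hom ≫ U.ι).appTop =
      ((Scheme.ΓSpecIso (CommRingCat.of A)).inv ≫ p.appTop) ≫ (c ≫ i).appTop := by
    rw [hci, Scheme.Hom.comp_appTop, Category.assoc]
  have hfin : p.appTop.hom.Finite := p.finite_appTop
  have het : p.appTop.hom.Etale := HasRingHomProperty.appTop @Etale p inferInstance
  have hb1 := ConcreteCategory.bijective_of_isIso (Scheme.ΓSpecIso (CommRingCat.of A)).inv
  have hb2 := ConcreteCategory.bijective_of_isIso (c ≫ i).appTop
  show ((Scheme.ΓSpecIso (CommRingCat.of A)).inv ≫ (V.hom ≫ U.ι).appTop).hom.Finite ∧ _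
  rw [hfac]
  refine ⟨?_, ?_⟩
  · exact (RingHom.Finite.of_surjective _ hb2.2).comp (hfin.comp (RingHom.Finite.of_surjective _ hb1.2))
  · exact RingHom.Etale.stableUnderComposition _ _ (RingHom.Etale.stableUnderComposition _ _
      (RingHom.Etale.of_bijective hb1) het) (RingHom.Etale.of_bijective hb2)

end Groth.Agent.S0263
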