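import Groth.Statements.S0267
import Groth.Agent.L27.GaloisMaps

set_option autoImplicit false
universe u v
open Pi1

namespace Groth.Agent.S0267

open CategoryTheory CategoryTheory.Limits in
/-- For an exact functor H between Galois categories, H is fully faithful exactly when it carries
connected objects to connected objects (both are equivalent to surjectivity of the induced map on
fundamental groups). -/
theorem result {C : Type u} [Category.{v} C]
    [GaloisCategory C] {D : Type u} [Category.{v} D] [GaloisCategory D]
    (H : C ⥤ D) [PreservesFiniteLimits H] [PreservesFiniteColimits H] :
    (H.Full ∧ H.Faithful) ↔
      ∀ X : C, PreGaloisCategory.IsConnected X → PreGaloisCategory.IsConnected (H.obj X) := by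
  exact Groth.L27.Galois.full_faithful_iff_preservesConnected H

end Groth.Agent.S0267
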