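import Groth.Statements.S0268
import Groth.Agent.L27.SGA1.FEtFaithful
import Groth.Agent.L27.SGA1.FieldFibres

set_option autoImplicit false
universe u
open Pi1

namespace Groth.Agent.S0268

open AlgebraicGeometry CategoryTheory CategoryTheory.Limits in
/-- Functor form of the surjectivity of pi_1(X) -> pi_1(Spec k): Let X be quasi-compact and
quasi-separated over a field k with X_{kbar} connected. Then the functor pulling back finite etale
k-schemes to X is full and faithful. -/
theorem result (k : Type u) [Field k] {X : Scheme.{u}} (f : X ⟶ Spec (CommRingCat.of k)) [CompactSpace X]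
    [QuasiSeparatedSpace X]
    [ConnectedSpace ↥(pullback f (Spec.map (CommRingCat.ofHom (algebraMap k (AlgebraicClosure k)))))] :
    (FEt.restrict f).Full ∧ (FEt.restrict f).Faithful := by
  have := Groth.L27.SGA1Conn.flat_toField f
  have : Surjective f := ⟨fun s => by
    obtain ⟨x⟩ : Nonempty ↥(pullback f (Spec.map (CommRingCat.ofHom (algebraMap k (AlgebraicClosure k))))) := inferInstance
    exact ⟨(pullback.fst f _).base x, Subsingleton.elim (α := Spec (CommRingCat.of k)) _ _⟩⟩
  have : QuasiCompact f := quasiCompact_iff_compactSpace f |>.2 inferInstance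
  exact Groth.L27.SGA1Conn.full_faithful_restrict f (Groth.L27.TopInv.univSubmersive_of_fpqc f)
    fun K _ _ ξ => Groth.L27.SGA1Conn.connectedSpace_of_algClosure f K ξ

end Groth.Agent.S0268
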