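import Groth.Statements.S0270
import Groth.Agent.L27.FEtField.SepClosure
import Groth.Agent.L27.FEtGal.SplitFinite
import Mathlib.Data.Fintype.EquivFin
import Mathlib.Order.Directed

set_option autoImplicit false
set_option linter.style.haveILetI false
set_option backward.isDefEq.respectTransparency.types false
universe u
open Pi1

namespace Groth.Agent.S0270

open AlgebraicGeometry CategoryTheory CategoryTheory.Limits in
/-- (Exactness of the homotopy sequence of etale fundamental groups at pi_1(X), in functor form.) Let X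
be quasi-compact and quasi-separated over a field k with X_{kbar} connected, kbar an algebraic
closure of k. If a finite etale cover U of X becomes completely split (a disjoint union of copies of
X_{kbar}) after base change to kbar, then there are a finite etale k-scheme V and an X-morphism from
V x_k X to U which is surjective. -/
theorem result (k : Type u) [Field k] {X : Scheme.{u}} (f : X ⟶ Spec (CommRingCat.of k)) [CompactSpace X]
    [QuasiSeparatedSpace X]
    [ConnectedSpace ↥(pullback f (Spec.map (CommRingCat.ofHom (algebraMap k (AlgebraicClosure k)))))]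
    (U : FEt.Cat X) (hU : Pi1.IsSplit ((FEt.restrict (pullback.fst f (Spec.map (CommRingCat.ofHom (algebraMap k (AlgebraicClosure k)))))).obj U)) :
    ∃ (V : FEt.Cat (Spec (CommRingCat.of k))) (e : (FEt.restrict f).obj V ⟶ U), Surjective e.left := by
  let K := Groth.L27.FEtField.Ks k
  haveI : Algebra.IsAlgebraic k ↥K := inferInstance
  haveI : Algebra.IsSeparable k ↥K := inferInstance
  obtain ⟨ι, hι, e₀, he₀⟩ := hU
  haveI := hι
  obtain ⟨n, ⟨en⟩⟩ := Finite.exists_equiv_fin ι
  let sΩ := Spec.map (CommRingCat.ofHom (algebraMap k (AlgebraicClosure k)))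
  let sK := Spec.map (CommRingCat.ofHom (algebraMap k ↥K))
  let π : U.left ⟶ X := U.hom
  have hπ : IsFinite π ∧ Etale π := U.prop
  haveI := hπ.1; haveI := hπ.2
  obtain ⟨hru, _, _, hrs, _, hrsurj⟩ := Groth.L27.FEtField.toKs_props f
  let r := Groth.L27.FEtField.toKs f
  haveI : UniversallyInjective r := ‹_›
  -- the sheets over the algebraic closure
  let P : Scheme.{u} := pullback π (pullback.fst f sΩ)
  let ei : (∐ fun _ : ι => pullback f sΩ) ⟶ P := e₀.inv
  let eh : P ⟶ ∐ fun _ : ι => pullback f sΩ := e₀.hom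
  have hee : eh ≫ ei = 𝟙 P := e₀.hom_inv_id
  let s : Fin n → (pullback f sΩ ⟶ U.left) := fun i =>
    Sigma.ι (fun _ : ι => pullback f sΩ) (en.symm i) ≫ ei ≫ pullback.fst π (pullback.fst f sΩ)
  have hs : ∀ i, s i ≫ π = pullback.fst f sΩ := fun i => by
    have h1 : Sigma.ι (fun _ : ι => pullback f sΩ) (en.symm i) ≫ ei ≫ pullback.snd π (pullback.fst f sΩ) =
        𝟙 _ := he₀ (en.symm i)
    simp only [s, Category.assoc, pullback.condition]
    rw [reassoc_of% h1]
  have hcov : ∀ y : U.left, ∃ i z, s i z = y := by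
    intro y
    haveI : Surjective sΩ := ⟨fun x => ⟨IsLocalRing.closedPoint (AlgebraicClosure k), by
      haveI : Subsingleton ↥(Spec (CommRingCat.of k)) := inferInstanceAs (Subsingleton (PrimeSpectrum k))
      exact Subsingleton.elim _ _⟩⟩
    haveI : Surjective (pullback.fst f sΩ) := MorphismProperty.pullback_fst (P := @Surjective) f _ inferInstance
    obtain ⟨w, hw⟩ := (pullback.fst π (pullback.fst f sΩ)).surjective y
    obtain ⟨i, z, hz⟩ := Scheme.IsLocallyDirected.ι_jointly_surjective (Discrete.functor fun _ : ι => pullback f sΩ) (eh w)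
    refine ⟨en i.as, z, ?_⟩
    have he : ei (eh w) = w := by rw [← Scheme.Hom.comp_apply, hee]; rfl
    simp only [s, Equiv.symm_apply_apply, Scheme.Hom.comp_apply]
    exact ((congrArg (fun t => pullback.fst π (pullback.fst f sΩ) (ei t)) hz).trans
      (congrArg (pullback.fst π (pullback.fst f sΩ)) he)).trans hw
  -- descend them to the separable closure
  let q : pullback π (pullback.fst f sK) ⟶ pullback f sK := pullback.snd _ _
  haveI : Etale q := MorphismProperty.pullback_snd (P := @Etale) π _ inferInstance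
  have hσ : ∀ i, ∃ σ : pullback f sK ⟶ U.left, σ ≫ π = pullback.fst f sK ∧ r ≫ σ = s i := by
    intro i
    let a₀ : pullback f sΩ ⟶ pullback π (pullback.fst f sK) :=
      pullback.lift (s i) r (by rw [hs, Groth.L27.FEtField.toKs_fst])
    obtain ⟨σ, ⟨hσ1, hσ2⟩, -⟩ := Groth.L27.TopInv.existsUnique_hom_of_univInjective r hrs (𝟙 (pullback f sK)) q
      (pullback.snd _ _ ≫ a₀) (by
        rw [Category.assoc, pullback.lift_snd, Category.comp_id]
        exact pullback.condition.symm.trans (Category.comp_id _))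
    refine ⟨σ ≫ pullback.fst _ _, ?_, ?_⟩
    · rw [Category.assoc, pullback.condition, ← Category.assoc, hσ1, Category.id_comp]
    · let j : pullback f sΩ ⟶ pullback (𝟙 (pullback f sK)) r := pullback.lift r (𝟙 _) (by simp)
      have hj1 : j ≫ pullback.fst (𝟙 (pullback f sK)) r = r := pullback.lift_fst _ _ _
      have hj2 : j ≫ pullback.snd (𝟙 (pullback f sK)) r = 𝟙 _ := pullback.lift_snd _ _ _
      have h1 := congrArg (fun m => j ≫ m ≫ pullback.fst π (pullback.fst f sK)) hσ2
      simp only [Category.assoc] at h1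
      rw [reassoc_of% hj1, reassoc_of% hj2] at h1
      exact h1.symm.trans (pullback.lift_fst _ _ _)
  choose σ hσπ hσr using hσ
  -- descend to a finite separable stage
  haveI : ∀ L, CompactSpace ((Groth.L27.FEtField.bc (K := ↥K) f).obj L) := Groth.L27.FEtField.compactSpace_bc f
  haveI : ∀ L, QuasiSeparatedSpace ((Groth.L27.FEtField.bc (K := ↥K) f).obj L) :=
    Groth.L27.FEtField.quasiSeparatedSpace_bc f
  let t : Groth.L27.FEtField.bc (K := ↥K) f ⟶ (Functor.const _).obj X :=
    { app := fun L => pullback.fst _ _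
      naturality := fun L M h => (pullback.lift_fst _ _ _).trans (Category.comp_id _).symm }
  have hstage : ∀ i, ∃ (L : (Groth.L27.FEtField.FSub k ↥K)ᵒᵖ)
      (g : (Groth.L27.FEtField.bc (K := ↥K) f).obj L ⟶ U.left),
      (Groth.L27.FEtField.bcCone f).π.app L ≫ g = σ i ∧ g ≫ π = t.app L := fun i =>
    Scheme.exists_π_app_comp_eq_of_locallyOfFinitePresentation _ t π (Groth.L27.FEtField.bcCone f)
      (Groth.L27.FEtField.isLimitBcCone f) (σ i) (by
        ext L : 2
        show pullback.lift _ _ _ ≫ pullback.fst _ _ = σ i ≫ π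
        rw [pullback.lift_fst, hσπ])
  choose L g hg hgπ using hstage
  obtain ⟨L₀, hL₀⟩ := Finite.exists_le (fun i => (L i).unop)
  have hle : ∀ i, ∃ g' : pullback f (Groth.L27.FEtField.sp L₀) ⟶ U.left,
      (Groth.L27.FEtField.bcCone (K := ↥K) f).π.app (Opposite.op L₀) ≫ g' = σ i ∧
        g' ≫ π = pullback.fst _ _ := by
    intro i
    let h : Opposite.op L₀ ⟶ L i := (homOfLE (hL₀ i)).op
    refine ⟨(Groth.L27.FEtField.bc (K := ↥K) f).map h ≫ g i, ?_, ?_⟩
    · exact ((Category.assoc _ _ _).symm.trans (congrArg (· ≫ g i) ((Groth.L27.FEtField.bcCone f).w h))).trans (hg i)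
    · rw [Category.assoc, hgπ i]
      exact (t.naturality h).trans (Category.comp_id _)
  choose g' hg' hg'π using hle
  -- the constant cover
  let T := Spec (CommRingCat.of ↥L₀.1)
  let v : (∐ fun _ : Fin n => T) ⟶ Spec (CommRingCat.of k) :=
    Sigma.desc fun _ => Groth.L27.FEtField.sp L₀
  have hsp := Groth.L27.FEtField.etale_sp (k := k) (K := ↥K) L₀
  have hv : IsFinite v ∧ Etale v := by
    have hv' : v = Sigma.desc (fun _ : Fin n => 𝟙 T) ≫ Groth.L27.FEtField.sp L₀ :=
      Sigma.hom_ext _ _ fun i => by simp [v]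
    haveI := hsp.1; haveI := hsp.2
    haveI := Groth.L27.FEtGal.isFinite_foldId (Y := T) n
    haveI := Groth.L27.FEtGal.etale_foldId (Y := T) (ι := Fin n)
    rw [hv']
    exact ⟨inferInstance, inferInstance⟩
  let V : FEt.Cat (Spec (CommRingCat.of k)) := MorphismProperty.Over.mk ⊤ v hv
  let c : (∐ fun i : Fin n × Fin 1 => pullback (Groth.L27.FEtField.sp L₀) f) ⟶
      pullback v f := Sigma.desc fun i => pullback.map _ _ _ _ (Sigma.ι (fun _ : Fin n => T) i.1) (𝟙 _) (𝟙 _)
        (by simp [v]) (by simp)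
  haveI : IsIso c := by
    let fX : Fin 1 → (X ⟶ Spec (CommRingCat.of k)) := fun _ => f
    let fT : Fin n → (T ⟶ Spec (CommRingCat.of k)) := fun _ => Groth.L27.FEtField.sp L₀
    haveI : IsIso (Sigma.ι (fun _ : Fin 1 => X) 0) := ⟨Sigma.desc fun _ => 𝟙 X, by simp, by
      refine Sigma.hom_ext _ _ fun j => ?_
      obtain rfl : j = 0 := Subsingleton.elim _ _
      simp⟩
    have sq := FinitaryPreExtensive.isPullback_sigmaDesc fT fX
    have hi : IsPullback (𝟙 (∐ fun _ : Fin n => T)) v v (𝟙 _) := IsPullback.of_horiz_isIso ⟨by simp⟩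
    let θ : pullback v f ⟶ pullback v (Sigma.desc fX) :=
      pullback.map _ _ _ _ (𝟙 _) (Sigma.ι (fun _ : Fin 1 => X) 0) (𝟙 _) (by simp) (by simp [fX])
    haveI : IsIso θ := inferInstance
    have hc : c ≫ θ = sq.isoPullback.hom := by
      refine Sigma.hom_ext _ _ fun p => ?_
      obtain ⟨p, q⟩ := p
      obtain rfl : q = 0 := Subsingleton.elim _ _
      apply pullback.hom_ext
      · simp only [Category.assoc, c, Sigma.ι_desc_assoc]
        refine Eq.trans ?_ ((congrArg (Sigma.ι _ (p, 0) ≫ ·) sq.isoPullback_hom_fst).trans (Sigma.ι_desc _ _)).symm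
        exact ((congrArg (_ ≫ ·) ((pullback.lift_fst _ _ _).trans (Category.comp_id _)))).trans
          (pullback.lift_fst _ _ _)
      · simp only [Category.assoc, c, Sigma.ι_desc_assoc]
        refine Eq.trans ?_ ((congrArg (Sigma.ι _ (p, 0) ≫ ·) sq.isoPullback_hom_snd).trans (Sigma.ι_desc _ _)).symm
        refine (congrArg (_ ≫ ·) (pullback.lift_snd _ _ _)).trans ?_
        exact (Category.assoc _ _ _).symm.trans
          (congrArg (· ≫ _) ((pullback.lift_snd _ _ _).trans (Category.comp_id _)))
    exact IsIso.of_isIso_fac_right hc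
  let e : pullback v f ⟶ U.left := inv c ≫ Sigma.desc fun i => (pullbackSymmetry _ _).hom ≫ g' i.1
  have he : e ≫ π = pullback.snd v f := by
    rw [Category.assoc, IsIso.inv_comp_eq]
    refine Sigma.hom_ext _ _ fun i => ?_
    simp [c, hg'π]
    exact ((pullback.lift_snd _ _ _).trans (Category.comp_id _)).symm
  refine ⟨V, MorphismProperty.Over.homMk e he, ⟨fun y => ?_⟩⟩
  obtain ⟨i, z, rfl⟩ := hcov y
  let jmap : pullback f sΩ ⟶ pullback v f :=
    r ≫ (Groth.L27.FEtField.bcCone (K := ↥K) f).π.app (Opposite.op L₀) ≫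
      (pullbackSymmetry _ _).inv ≫ Sigma.ι (fun _ : Fin n × Fin 1 => pullback (Groth.L27.FEtField.sp L₀) f) (i, 0) ≫ c
  refine ⟨jmap z, ?_⟩
  have hj : jmap ≫ e = s i := by
    simp only [jmap, e, Category.assoc, IsIso.hom_inv_id_assoc, Sigma.ι_desc, Iso.inv_hom_id_assoc]
    rw [← hσr, ← hg']
    congr 2
    exact Iso.inv_hom_id_assoc _ _
  exact (Scheme.Hom.comp_apply jmap e z).symm.trans (congrArg (fun m => m z) hj)

end Groth.Agent.S0270
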