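import Groth.Statements.S0272
import Groth.Agent.L13.FEtLeff.CI

set_option autoImplicit false
set_option maxSynthPendingDepth 3
set_option linter.style.haveILetI false
set_option backward.isDefEq.respectTransparency false
universe u
open Pi1

namespace Groth.Agent.S0272

open AlgebraicGeometry CategoryTheory CategoryTheory.Limits in
/-- Let A be a Noetherian local ring which is a complete intersection (its completion is a regular local
ring modulo a regular sequence) of dimension at least 3. Then every finite etale cover of the
punctured spectrum of A extends to Spec A. -/
theorem result (A : Type u) [CommRing A] [IsNoetherianRing A] [IsLocalRing A] (hA : Pi1.IsCompleteIntersection A)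
    (hd : (3 : WithBot ℕ∞) ≤ ringKrullDim A) : FEt.PurityHolds A := by
  exact Groth.L13.FEtLeff.purityHolds_ci_completion hA hd

end Groth.Agent.S0272
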