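import Groth.Statements.S0273
import Groth.Agent.L27.Lefschetz.SmoothPurityPoint
import Groth.Agent.L13.FEtLeff.Extend
import Groth.Agent.L06.FlatFibre

set_option autoImplicit false
universe u
open Pi1

namespace Groth.Agent.S0273

open AlgebraicGeometry CategoryTheory CategoryTheory.Limits in
example : True := trivial

attribute [local instance] HasDerivedCategory.standard

open AlgebraicGeometry CategoryTheory CategoryTheory.Limits IsLocalRing in
theorem purity_at {X S : Scheme.{u}} (f : X ⟶ S) [Smooth f] [IsNoetherian S] (U : X.Opens)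
    (h3 : ∀ s : S, LocCoh.depth (S.presheaf.stalk s) (S.presheaf.stalk s) ≤ 1 → f.base ⁻¹' {s} ⊆ (U : Set X))
    (h4 : ∀ s : S, f.base ⁻¹' {s} ⊆ closure ((U : Set X) ∩ f.base ⁻¹' {s})) (x : X) (hxU : x ∉ U) :
    (2 : ℕ∞) ≤ LocCoh.depth (X.presheaf.stalk x) (X.presheaf.stalk x) ∧ FEt.PurityHolds (X.presheaf.stalk x) := by
  obtain ⟨V, hV, hxV, -⟩ := exists_isAffineOpen_mem_and_subset (x := f x) (U := ⊤) trivial
  obtain ⟨D, hD, hxD, hDV⟩ := exists_isAffineOpen_mem_and_subset (x := x) (U := f ⁻¹ᵁ V) hxV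
  let A := Γ(S, V)
  let R := Γ(X, D)
  letI : Algebra A R := (f.appLE V D hDV).hom.toAlgebra
  haveI : Algebra.Smooth A R := RingHom.smooth_algebraMap.1 (f.smooth_appLE hV hD hDV)
  haveI : IsNoetherianRing A := IsLocallyNoetherian.component_noetherian ⟨V, hV⟩
  haveI : IsNoetherianRing R := Algebra.FiniteType.isNoetherianRing A R
  let p : Ideal A := (hV.primeIdealOf ⟨f x, hxV⟩).asIdeal
  let q : Ideal R := (hD.primeIdealOf ⟨x, hxD⟩).asIdeal
  have hq : q.comap (algebraMap A R) = p :=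
    congrArg PrimeSpectrum.asIdeal (IsAffineOpen.comap_primeIdealOf_appLE V hV D hD hDV hxD)
  letI : Algebra A (S.presheaf.stalk (f x)) := TopCat.Presheaf.algebra_section_stalk S.presheaf (⟨f x, hxV⟩ : V)
  letI : Algebra R (X.presheaf.stalk x) := TopCat.Presheaf.algebra_section_stalk X.presheaf (⟨x, hxD⟩ : D)
  haveI : IsLocalization.AtPrime (S.presheaf.stalk (f x)) p := hV.isLocalization_stalk ⟨f x, hxV⟩
  haveI : IsLocalization.AtPrime (X.presheaf.stalk x) q := hD.isLocalization_stalk ⟨x, hxD⟩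
  let eA := (IsLocalization.algEquiv p.primeCompl (Localization.AtPrime p) (S.presheaf.stalk (f x))).toRingEquiv
  let eR := (IsLocalization.algEquiv q.primeCompl (Localization.AtPrime q) (X.presheaf.stalk x)).toRingEquiv
  haveI : IsNoetherianRing (Localization.AtPrime p) := IsLocalization.isNoetherianRing p.primeCompl _ inferInstance
  haveI : IsNoetherianRing (Localization.AtPrime q) := IsLocalization.isNoetherianRing q.primeCompl _ inferInstance
  have hA : (2 : ℕ∞) ≤ LocCoh.depth (Localization.AtPrime p) (Localization.AtPrime p) := by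
    rw [← Groth.L06.FlatFibre.depth_eq_of_ringEquiv eA]
    by_contra hlt
    refine hxU (h3 (f x) ?_ rfl)
    have h2 : ¬ ((1 : ℕ∞) < LocCoh.depth (S.presheaf.stalk (f x)) (S.presheaf.stalk (f x))) := fun h =>
      hlt (Order.add_one_le_of_lt h)
    exact not_lt.1 h2
  haveI : Module.Flat A R := inferInstance
  refine ⟨?_, ?_⟩
  · rw [Groth.L06.FlatFibre.depth_eq_of_ringEquiv eR]
    exact Groth.L27.SmoothPurity.two_le_depth_localization p q hq.symm hA
  refine Groth.L13.FEtLeff.purityHolds_of_ringEquiv eR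
    (Groth.L27.SmoothPurity.purityHolds_smooth p hA q hq ?_)
  by_contra hno
  let J : Ideal R := p.map (algebraMap A R)
  have hfin := Ideal.finite_minimalPrimes_of_isNoetherianRing R J
  have hJq : J ≤ q := Ideal.map_le_iff_le_comap.2 hq.ge
  have hmin : ∀ P ∈ J.minimalPrimes, P ≤ q → P = q := by
    intro P hP hle
    by_contra hne
    refine hno ⟨P, hP.1.1, lt_of_le_of_ne hle hne, le_antisymm ?_ (Ideal.map_le_iff_le_comap.1 hP.1.2)⟩
    exact (Ideal.comap_mono hle).trans hq.le
  -- an open neighbourhood of `x` meeting the fibre only in specialisations of `x`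
  classical
  have hex : ∀ P ∈ hfin.toFinset.erase q, ∃ h ∈ P, h ∉ q := by
    intro P hP
    obtain ⟨hne, hP⟩ := Finset.mem_erase.1 hP
    exact SetLike.not_le_iff_exists.1 fun hle => hne (hmin P (hfin.mem_toFinset.1 hP) hle)
  choose! hh hhP hhq using hex
  let h : R := ∏ P ∈ hfin.toFinset.erase q, hh P
  have hhq' : h ∉ q := fun hc => by
    obtain ⟨P, hP, hPq⟩ := (Ideal.IsPrime.prod_mem_iff).1 hc
    exact hhq P hP hPq
  have hxh : x ∈ X.basicOpen h := by
    have h1 : hD.fromSpec (hD.primeIdealOf ⟨x, hxD⟩) ∈ X.basicOpen h := by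
      show hD.primeIdealOf ⟨x, hxD⟩ ∈ hD.fromSpec ⁻¹ᵁ X.basicOpen h
      rw [hD.fromSpec_preimage_basicOpen]
      exact hhq'
    rwa [hD.fromSpec_primeIdealOf] at h1
  obtain ⟨z, hzh, hzU, hzs⟩ := mem_closure_iff.1 (h4 (f x) (rfl : x ∈ f.base ⁻¹' {f x})) _ (X.basicOpen h).2 hxh
  have hzD : z ∈ D := X.basicOpen_le h hzh
  let Q : PrimeSpectrum R := hD.primeIdealOf ⟨z, hzD⟩
  have hQ : Q.asIdeal.comap (algebraMap A R) = p := by
    refine (congrArg PrimeSpectrum.asIdeal (IsAffineOpen.comap_primeIdealOf_appLE V hV D hD hDV hzD)).trans ?_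
    show (hV.primeIdealOf ⟨f z, _⟩).asIdeal = (hV.primeIdealOf ⟨f x, hxV⟩).asIdeal
    congr 3
  have hzQ : h ∉ Q.asIdeal := by
    have h1 : hD.fromSpec Q ∈ X.basicOpen h := by
      show hD.fromSpec (hD.primeIdealOf ⟨z, hzD⟩) ∈ _
      rw [hD.fromSpec_primeIdealOf]
      exact hzh
    change Q ∈ hD.fromSpec ⁻¹ᵁ X.basicOpen h at h1
    rw [hD.fromSpec_preimage_basicOpen] at h1
    exact h1
  obtain ⟨P, hP, hPQ⟩ := Ideal.exists_minimalPrimes_le (Ideal.map_le_iff_le_comap.2 hQ.ge : J ≤ Q.asIdeal)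
  have hPq : P = q := by
    by_contra hne
    have hm : P ∈ hfin.toFinset.erase q := Finset.mem_erase.2 ⟨hne, hfin.mem_toFinset.2 hP⟩
    exact hzQ (Ideal.prod_mem _ hm (hPQ (hhP P hm)))
  have hspec : hD.fromSpec (hD.primeIdealOf ⟨x, hxD⟩) ⤳ hD.fromSpec Q :=
    ((PrimeSpectrum.le_iff_specializes _ _).1 (show hD.primeIdealOf ⟨x, hxD⟩ ≤ Q by show q ≤ Q.asIdeal; rw [← hPq]; exact hPQ)).map
      hD.fromSpec.continuous
  rw [hD.fromSpec_primeIdealOf, hD.fromSpec_primeIdealOf] at hspec
  exact hxU (hspec.mem_open U.2 hzU)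

open AlgebraicGeometry CategoryTheory CategoryTheory.Limits in

/-- Let f : X -> S be smooth with S Noetherian and U an open of X such that U contains the whole fibre
over every point of S whose local ring has depth at most 1, and U is dense in every fibre. Then
restricting finite etale covers from X to U is an equivalence of categories. -/
theorem result {X S : Scheme.{u}} (f : X ⟶ S) [Smooth f] [IsNoetherian S] (U : X.Opens)
    (h3 : ∀ s : S, LocCoh.depth (S.presheaf.stalk s) (S.presheaf.stalk s) ≤ 1 → f.base ⁻¹' {s} ⊆ (U : Set X))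
    (h4 : ∀ s : S, f.base ⁻¹' {s} ⊆ closure ((U : Set X) ∩ f.base ⁻¹' {s})) :
    (FEt.restrict U.ι).IsEquivalence := by
  haveI : IsLocallyNoetherian X := LocallyOfFiniteType.isLocallyNoetherian f
  exact Groth.L13.FEtLeff.isEquivalence_restrict_of_depth_purity U
    (fun x hx => (purity_at f U h3 h4 x hx).1) (fun x hx => (purity_at f U h3 h4 x hx).2)

end Groth.Agent.S0273
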