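import Groth.Statements.S0280
import Groth.Agent.L15.EtaleNoether
-- import your own Groth.Agent.* helpers here

set_option autoImplicit false
universe u
open Pi1

namespace Groth.Agent.S0280

theorem etale_aeval {k : Type u} [Field k] {n : ℕ} {C : Type u} [CommRing C] [Algebra k C] [Algebra.Smooth k C]
    (g : Fin n → C) (b : Module.Basis (Fin n) C Ω[C⁄k]) (hb : ∀ i, KaehlerDifferential.D k C (g i) = b i)
    [Algebra.IsIntegral (Algebra.adjoin k (Set.range g)) C] :
    (MvPolynomial.aeval g : MvPolynomial (Fin n) k →ₐ[k] C).toRingHom.Finite ∧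
      (MvPolynomial.aeval g : MvPolynomial (Fin n) k →ₐ[k] C).toRingHom.Etale := by
  letI := (MvPolynomial.aeval g : MvPolynomial (Fin n) k →ₐ[k] C).toRingHom.toAlgebra
  haveI : IsScalarTower k (MvPolynomial (Fin n) k) C := IsScalarTower.of_algebraMap_eq fun a =>
    ((MvPolynomial.aeval g : MvPolynomial (Fin n) k →ₐ[k] C).commutes a).symm
  haveI het : Algebra.Etale (MvPolynomial (Fin n) k) C :=
    Groth.L15.EtaleNoether.etale_of_differentials b fun i => by
      rw [← hb]; congr 1; exact MvPolynomial.aeval_X g i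
  let r : MvPolynomial (Fin n) k →ₐ[k] Algebra.adjoin k (Set.range g) :=
    (MvPolynomial.aeval g).codRestrict _ fun a => by rw [Algebra.adjoin_range_eq_range_aeval]; exact ⟨a, rfl⟩
  have hsurj : Function.Surjective r.toRingHom := fun a => by
    have ha : (a : C) ∈ Algebra.adjoin k (Set.range g) := a.2
    simp only [Algebra.adjoin_range_eq_range_aeval] at ha
    obtain ⟨q, hq⟩ := ha
    exact ⟨q, Subtype.ext hq⟩
  have hi : (MvPolynomial.aeval g : MvPolynomial (Fin n) k →ₐ[k] C).toRingHom.IsIntegral :=
    RingHom.IsIntegral.trans r.toRingHom (algebraMap (Algebra.adjoin k (Set.range g)) C)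
      (r.toRingHom.isIntegral_of_surjective hsurj) fun c => Algebra.IsIntegral.isIntegral c
  haveI : Algebra.IsIntegral (MvPolynomial (Fin n) k) C := ⟨hi⟩
  refine ⟨?_, het⟩
  exact Algebra.IsIntegral.finite


/-- Let k be a field of characteristic p > 0 and C a k-algebra which is etale over the polynomial ring
in n variables. Then there is a (possibly different) k-algebra map from that polynomial ring to C
which is finite etale. -/
theorem result (k : Type u) [Field k] (p : ℕ)
    [Fact p.Prime] [CharP k p] (n : ℕ) (C : Type u) [CommRing C]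
    [Algebra (MvPolynomial (Fin n) k) C] [Algebra k C] [IsScalarTower k (MvPolynomial (Fin n) k) C]
    [Algebra.Etale (MvPolynomial (Fin n) k) C] :
    ∃ φ : MvPolynomial (Fin n) k →ₐ[k] C, φ.toRingHom.Finite ∧ φ.toRingHom.Etale := by
  classical
  haveI : Algebra.Smooth k (MvPolynomial (Fin n) k) := ⟨inferInstance, inferInstance⟩
  haveI : Algebra.Smooth k C := Algebra.Smooth.comp k (MvPolynomial (Fin n) k) C
  let x : Fin n → C := fun i => algebraMap (MvPolynomial (Fin n) k) C (MvPolynomial.X i)
  let b : Module.Basis (Fin n) C Ω[C⁄k] :=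
    ((KaehlerDifferential.mvPolynomialBasis k (Fin n)).baseChange C).map
      (KaehlerDifferential.tensorKaehlerEquivOfFormallyEtale k (MvPolynomial (Fin n) k) C)
  have hb : ∀ i, b i = KaehlerDifferential.D k C (x i) := fun i => by
    simp [b, x, KaehlerDifferential.mvPolynomialBasis_apply, KaehlerDifferential.tensorKaehlerEquivOfFormallyEtale_apply]
  obtain ⟨s, hs⟩ := (inferInstance : Algebra.FiniteType k C).out
  let z : Fin s.card → C := fun i => (s.equivFin.symm i).1
  have htop : Algebra.adjoin k (Set.range (Fin.append x z)) = ⊤ := by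
    rw [eq_top_iff, ← hs]
    refine Algebra.adjoin_mono fun c hc => ⟨Fin.natAdd n (s.equivFin ⟨c, hc⟩), ?_⟩
    simp [z]
  obtain ⟨g, hg, hint⟩ := Groth.L15.EtaleNoether.exists_coords (Fact.out : p.Prime) x s.card (Fin.append x z)
    (fun i => by rw [Fin.append_left]) ⟨fun c => by
      have hc : c ∈ Algebra.adjoin k (Set.range (Fin.append x z)) := htop ▸ Algebra.mem_top
      exact isIntegral_algebraMap (x := (⟨c, hc⟩ : Algebra.adjoin k (Set.range (Fin.append x z))))⟩
  haveI := hint
  exact ⟨MvPolynomial.aeval g, etale_aeval g b fun i => (hg i).trans (hb i).symm⟩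

end Groth.Agent.S0280
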