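import Groth.Statements.S0286
import Groth.Agent.L27.TopInv.FEtUnivHomeo
import Groth.Agent.L02.Radicial
import Mathlib.FieldTheory.PerfectClosure

set_option autoImplicit false
universe u
open Pi1

namespace Groth.Agent.S0286

open AlgebraicGeometry CategoryTheory CategoryTheory.Limits in
/-- For a scheme X over a field k of characteristic p (p a prime), pulling back finite étale covers
along the projection X ×_{Spec k} Spec(k^perf) → X, where k^perf is the perfect closure of k, is an
equivalence of categories. -/
theorem result (k : Type u) [Field k] (p : ℕ) [Fact p.Prime] [CharP k p] {X : Scheme.{u}}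
    (f : X ⟶ Spec (CommRingCat.of k)) :
    (FEt.restrict (pullback.fst f
      (Spec.map (CommRingCat.ofHom (PerfectClosure.of k p))))).IsEquivalence := by
  letI := (PerfectClosure.of k p).toAlgebra
  let K := PerfectClosure k p
  have hp := (Fact.out : p.Prime)
  have hpow : ∀ z : K, ∃ (n : ℕ) (r : k), algebraMap k K r = z ^ p ^ n := fun z => by
    obtain ⟨⟨n, x⟩, rfl⟩ := PerfectClosure.mk_surjective k p z
    refine ⟨n, x, ?_⟩
    show PerfectClosure.of k p x = _
    rw [← iterate_frobenius, PerfectClosure.iterate_frobenius_mk]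
  let i := Spec.map (CommRingCat.ofHom (PerfectClosure.of k p))
  haveI : CharP (TensorProduct k K K) p :=
    charP_of_injective_algebraMap (RingHom.injective (algebraMap k (TensorProduct k K K))) p
  haveI : ExpChar (TensorProduct k K K) p := ExpChar.prime hp
  haveI : UniversallyInjective i := Groth.L02.Radicial.universallyInjective fun z => by
    obtain ⟨n, r, hr⟩ := hpow z
    refine ⟨p ^ n, ?_⟩
    rw [sub_pow_char_pow, Algebra.TensorProduct.tmul_pow, Algebra.TensorProduct.tmul_pow, one_pow, ← hr,
      Algebra.algebraMap_eq_smul_one, TensorProduct.tmul_smul, TensorProduct.smul_tmul', sub_self]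
  haveI : Algebra.IsIntegral k K := ⟨fun z => by
    obtain ⟨n, r, hr⟩ := hpow z
    exact IsIntegral.of_pow (pow_pos hp.pos n) (hr ▸ isIntegral_algebraMap)⟩
  haveI : IsIntegralHom i := IsIntegralHom.SpecMap_iff.mpr (algebraMap_isIntegral_iff.mpr ‹_›)
  haveI : Surjective i := ⟨fun x => ⟨⟨⊥, Ideal.isPrime_bot⟩, Subsingleton.elim _ _⟩⟩
  have hi : FlatMor.IsUnivHomeo i :=
    (Groth.L20.isUnivHomeo_iff i).2 ⟨inferInstance, inferInstance, inferInstance⟩
  haveI : Flat i := Flat.SpecMap_iff.mpr (show Module.Flat k K from inferInstance)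
  haveI : (FlatMor.IsUnivHomeo.{u}).IsStableUnderBaseChange :=
    inferInstanceAs (MorphismProperty.universally _).IsStableUnderBaseChange
  exact Groth.L27.TopInv.isEquivalence_restrict_of_isUnivHomeo _ (MorphismProperty.pullback_fst f i hi)

end Groth.Agent.S0286
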