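import Groth.Statements.S0288
import Groth.Agent.L06.Unibranch
import Groth.Agent.L18.NormalizationGeneric
import Groth.Agent.S1450

set_option autoImplicit false
set_option linter.style.haveILetI false
universe u
open Pi1

namespace Groth.Agent.S0288

open AlgebraicGeometry CategoryTheory CategoryTheory.Limits in
/-- Let X be a normal integral scheme with function field K, L a finite field extension of K and Y -> X
the normalization of X in Spec L. If Y -> X is unramified (formally unramified and locally of finite
type), then it is etale, and finite. -/
theorem result {X : Scheme.{u}} [IsIntegral X] (hX : Pi1.IsNormalScheme X) (L : Type u) [Field L]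
    [Algebra X.functionField L] [FiniteDimensional X.functionField L]
    [QuasiCompact (Spec.map (CommRingCat.ofHom (algebraMap X.functionField L)) ≫ X.fromSpecStalk (genericPoint X))]
    [QuasiSeparated (Spec.map (CommRingCat.ofHom (algebraMap X.functionField L)) ≫ X.fromSpecStalk (genericPoint X))]
    [FormallyUnramified (Spec.map (CommRingCat.ofHom (algebraMap X.functionField L)) ≫ X.fromSpecStalk (genericPoint X)).fromNormalization]
    [LocallyOfFiniteType (Spec.map (CommRingCat.ofHom (algebraMap X.functionField L)) ≫ X.fromSpecStalk (genericPoint X)).fromNormalization] :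
    Etale (Spec.map (CommRingCat.ofHom (algebraMap X.functionField L)) ≫ X.fromSpecStalk (genericPoint X)).fromNormalization ∧
    IsFinite (Spec.map (CommRingCat.ofHom (algebraMap X.functionField L)) ≫ X.fromSpecStalk (genericPoint X)).fromNormalization := by
  let g := Spec.map (CommRingCat.ofHom (algebraMap X.functionField L)) ≫ X.fromSpecStalk (genericPoint X)
  haveI : IsIntegral g.normalization := inferInstance
  haveI : ConnectedSpace g.normalization := inferInstance
  refine ⟨(Groth.Agent.S1450.result g.fromNormalization (fun y => ?_)
    ⟨_, Groth.L18.NormField.fromNormalization_genericPoint rfl⟩).1, ?_⟩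
  · haveI := (hX y).1
    haveI := (hX y).2
    refine (Groth.L06.Unibranch.isGeomUnibranch_iff (RingHom.id (X.presheaf.stalk y))
      (RingHom.isIntegral_of_surjective _ Function.surjective_id) (by intro x hx; exact ⟨1, by simpa using hx⟩) fun t => ?_).mpr
      ⟨inferInstance, fun P _ x => ⟨0, x, by simp⟩⟩
    exact ⟨1, t, by simp, by simp⟩
  · exact IsFinite.iff_isIntegralHom_and_locallyOfFiniteType _ |>.mpr ⟨inferInstance, inferInstance⟩

end Groth.Agent.S0288
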