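import Groth.Statements.S0290
import Groth.Agent.L27.FEtGal.FieldPi1

set_option autoImplicit false
universe u
open Pi1

namespace Groth.Agent.S0290

open AlgebraicGeometry CategoryTheory CategoryTheory.Limits FintypeCatDiscrete in
/-- For a field K, the category of finite étale schemes over Spec K is equivalent to the category of
finite sets with a continuous action of the absolute Galois group of K. Only the existence of an
equivalence is asserted; its compatibility with the fibre functor is not stated. -/
theorem result (K : Type u) [Field K] :
    Nonempty (FEt.Cat (Spec (CommRingCat.of K)) ≌ ContAction FintypeCat.{u} (Field.absoluteGaloisGroup K)) := by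
  exact Groth.L27.FEtGal.equiv_contAction K

end Groth.Agent.S0290
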