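import Groth.Statements.S0293
import Groth.Agent.L27.PushO.S2Etale

set_option autoImplicit false
universe u
open Pi1

namespace Groth.Agent.S0293

open AlgebraicGeometry CategoryTheory CategoryTheory.Limits in
/-- Let X be a locally Noetherian scheme, U ⊆ X an open subset such that the local rings of X at points
outside U have depth at least 2, and π : Y → X a finite morphism which is étale over U and such that
the local rings of Y at points outside the preimage of U have depth at least 2. Then π is étale if
and only if it is flat. -/
theorem result {X : Scheme.{u}} [IsLocallyNoetherian X] (U : X.Opens)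
    (hU : ∀ x : X, x ∉ U → (2 : ℕ∞) ≤ LocCoh.depth (X.presheaf.stalk x) (X.presheaf.stalk x)) {Y : Scheme.{u}} (π : Y ⟶ X)
    [IsFinite π] [Etale (pullback.snd π U.ι)]
    (hY : ∀ y : Y, π.base y ∉ U → (2 : ℕ∞) ≤ LocCoh.depth (Y.presheaf.stalk y) (Y.presheaf.stalk y)) :
    Etale π ↔ Flat π := by
  haveI := hY
  refine ⟨fun h => inferInstance, fun h => Groth.L27.PushO.etale_of_flat_of_depth U hU π⟩

end Groth.Agent.S0293
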