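import Groth.Statements.S0294
import Groth.Agent.L27.ExtZero.Supp

set_option autoImplicit false
universe u
open Pi1

namespace Groth.Agent.S0294

open AlgebraicGeometry CategoryTheory CategoryTheory.Limits in
/-- For a finite étale cover Y of a scheme X and a point ξ : Spec Ω → X with values in a field Ω, the
fibre of Y over ξ (the set of Ω-valued points of Y lying over ξ) is finite. -/
theorem result {X : Scheme.{u}} {Ω : Type u} [Field Ω] (ξ : Spec (CommRingCat.of Ω) ⟶ X) (Y : FEt.Cat X) :
    Finite (FEt.fiberObj ξ Y) := by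
  let f : Y.left ⟶ X := Y.hom
  haveI : IsFinite f := Y.prop.1
  haveI := Groth.L27.Supp.finite_sections (pullback.snd f ξ)
  refine Finite.of_injective (fun s : FEt.fiberObj ξ Y =>
    (⟨pullback.lift s.1 (𝟙 _) (by rw [Category.id_comp]; exact s.2), pullback.lift_snd _ _ _⟩ :
      {t : Spec (CommRingCat.of Ω) ⟶ pullback f ξ // t ≫ pullback.snd f ξ = 𝟙 _})) fun s t e => Subtype.ext ?_
  have := congrArg (fun r => r.1 ≫ pullback.fst f ξ) e
  simp only [pullback.lift_fst] at this
  exact this

end Groth.Agent.S0294
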