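import Groth.Statements.S0297
import Groth.Agent.L27.FEtGal.Unique

set_option autoImplicit false
universe u
open Pi1

namespace Groth.Agent.S0297

open AlgebraicGeometry CategoryTheory CategoryTheory.Limits in
/-- For a connected scheme X and geometric points ξ : Spec Ω → X and ξ' : Spec Ω' → X (Ω, Ω'
algebraically closed fields), every morphism of functors from the fibre functor at ξ to the fibre
functor at ξ' on finite étale covers of X is an isomorphism. -/
theorem result {X : Scheme.{u}} [ConnectedSpace X] {Ω Ω' : Type u} [Field Ω]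
    [IsAlgClosed Ω] [Field Ω'] [IsAlgClosed Ω'] (ξ : Spec (CommRingCat.of Ω) ⟶ X)
    (ξ' : Spec (CommRingCat.of Ω') ⟶ X) (φ : FEt.fiber ξ ⟶ FEt.fiber ξ') : IsIso φ := by
  exact Groth.L27.FEtGal.isIso_fiber_hom ξ ξ' φ

end Groth.Agent.S0297
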