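import Groth.Statements.S0304
import Groth.Agent.L04.InjNoeth

set_option autoImplicit false
universe u v
open InjHull

namespace Groth.Agent.S0304

/-- Let R be a commutative ring and E an indecomposable injective R-module. Then any two nonzero
submodules of E have nonzero intersection, and the set of elements r ∈ R such that r·x = 0 for some
nonzero x ∈ E is a prime ideal of R. -/
theorem result (R : Type u) [CommRing R] (E : Type u) [AddCommGroup E] [Module R E] (hE : InjHull.IsIndecomposable R E) (hinj : Module.Injective R E) : (∀ N N' : Submodule R E, N ≠ ⊥ → N' ≠ ⊥ → N ⊓ N' ≠ ⊥) ∧ ∃ p : Ideal R, p.IsPrime ∧ (p : Set R) = {r : R | ∃ x : E, x ≠ 0 ∧ r • x = 0} := by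
  refine ⟨fun N N' h h' => Groth.L04.inf_ne_bot_of_indecomposable hE hinj h h', ?_⟩
  let p : Ideal R :=
    { carrier := {r : R | ∃ x : E, x ≠ 0 ∧ r • x = 0}
      zero_mem' := by
        haveI := hE.1
        obtain ⟨x, hx⟩ := exists_ne (0 : E)
        exact ⟨x, hx, zero_smul R x⟩
      add_mem' := by
        rintro a b ⟨x, hx, hax⟩ ⟨y, hy, hby⟩
        obtain ⟨r, hr, hr0⟩ := Groth.L04.uniform_of_indecomposable hE hinj (Submodule.span R {y})
          (by simpa using hy) hx
        obtain ⟨c, hc⟩ := Submodule.mem_span_singleton.1 hr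
        refine ⟨r • x, hr0, ?_⟩
        rw [add_smul, smul_comm a r x, hax, smul_zero, ← hc, smul_comm b c y, hby, smul_zero,
          add_zero]
      smul_mem' := by
        rintro c a ⟨x, hx, hax⟩
        exact ⟨x, hx, by rw [smul_eq_mul, mul_smul, hax, smul_zero]⟩ }
  refine ⟨p, ⟨?_, ?_⟩, rfl⟩
  · rw [Ideal.ne_top_iff_one]
    rintro ⟨x, hx, h1⟩
    exact hx (by simpa using h1)
  · rintro a b ⟨x, hx, h⟩
    by_cases hb : b • x = 0
    · exact Or.inr ⟨x, hx, hb⟩
    · exact Or.inl ⟨b • x, hb, by rw [← mul_smul]; exact h⟩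

end Groth.Agent.S0304
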