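import Groth.Statements.S0315
import Groth.Agent.L04.MatlisArtin

set_option autoImplicit false
universe u v
open Matlis

namespace Groth.Agent.S0315

/-- Over a Noetherian local ring a module has the descending chain condition exactly when it is killed
elementwise by powers of the maximal ideal and its socle is finite-dimensional over the residue
field. -/
theorem result (R : Type u) [CommRing R] [IsLocalRing R] [IsNoetherianRing R] (M : Type u) [AddCommGroup M] [Module R M] : IsArtinian R M ↔ (LocCoh.IsPowerTorsion (IsLocalRing.maximalIdeal R) M ∧ Module.Finite (R ⧸ IsLocalRing.maximalIdeal R) ↥(LocCoh.torsionBy (IsLocalRing.maximalIdeal R) M)) := by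
  obtain ⟨E, _, _, f, hf⟩ := Groth.L04.exists_injectiveHull (R := R) (IsLocalRing.ResidueField R)
  exact Groth.L04.isArtinian_iff_torsion_socle hf M

end Groth.Agent.S0315
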