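import Groth.Statements.S0328
import Groth.Agent.L04.LC.Nonvanish

set_option autoImplicit false
universe u v
open LocCoh

namespace Groth.Agent.S0328

/-- In a Noetherian local ring, if a prime p and a proper ideal I together have radical the maximal
ideal and dim R/p = d ≥ 1, then local cohomology with support in I does not vanish in all degrees ≥
d. -/
theorem result (R : Type u) [CommRing R] [IsLocalRing R] [IsNoetherianRing R] (I : Ideal R) (hI : I ≠ ⊤) (p : Ideal R) [p.IsPrime] (hpI : (p ⊔ I).radical = IsLocalRing.maximalIdeal R) (d : ℕ) (hd : ringKrullDim (R ⧸ p) = d) (hd1 : 1 ≤ d) : ¬ LocCoh.CdLE R I (d - 1) := by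
  exact Groth.L04.LC.not_cdLE_of_radical_sup I p hpI d hd hd1

end Groth.Agent.S0328
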