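import Groth.Statements.S0329
import Groth.Agent.L04.LC.Annihilate

set_option autoImplicit false
universe u v
open LocCoh

namespace Groth.Agent.S0329

/-- Part (1): ⇔(2) with T = V(I) (Faltings): for a finite module M over a Noetherian ring, the local
cohomology modules H^i_I(M) for i ≤ n are all finitely generated exactly when some ideal J with I
contained in the radical of J kills all of them. -/
theorem result (R : Type u) [CommRing R] [IsNoetherianRing R] (I : Ideal R) (M : Type u) [AddCommGroup M] [Module R M] [Module.Finite R M] (n : ℕ) : (∀ i : ℕ, i ≤ n → Module.Finite R (LocCoh.H I i M)) ↔ ∃ J : Ideal R, I ≤ J.radical ∧ ∀ i : ℕ, i ≤ n → ∀ a ∈ J, ∀ x : LocCoh.H I i M, a • x = 0 := by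
  exact Groth.L04.LC.finite_H_iff_killed I M n

end Groth.Agent.S0329
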