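import Groth.Statements.S0336
import Groth.Agent.L01.Kunz
import Groth.Agent.L13.Wild.Kunz
import Mathlib.RingTheory.Flat.Localization
import Mathlib.Algebra.CharP.Basic
import Mathlib.RingTheory.RingHom.Flat

set_option autoImplicit false
universe u v
open LocCoh

namespace Groth.Agent.S0336

theorem flat_of_maximal {R S : Type u} [CommRing R] [CommRing S] (φ : R →+* S)
    (h : ∀ (P : Ideal S) [P.IsMaximal], ((algebraMap S (Localization.AtPrime P)).comp φ).Flat) : φ.Flat := by
  letI := φ.toAlgebra
  show Module.Flat R S
  refine Module.flat_of_isLocalized_maximal (R := R) (M := S) S (fun P hP => Localization.AtPrime P (hp := hP.isPrime))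
    (fun P hP => Algebra.linearMap S (Localization.AtPrime P)) fun P hP => ?_
  have he : algebraMap R (Localization.AtPrime P) = (algebraMap S (Localization.AtPrime P)).comp φ :=
    IsScalarTower.algebraMap_eq R S (Localization.AtPrime P)
  have := h P
  rw [← he] at this
  exact RingHom.flat_algebraMap_iff.mp this

theorem flat_localized {R T Rp Tp : Type u} [CommRing R] [CommRing Rp] [CommRing Tp] [Algebra R Rp]
    (M : Submonoid R) [IsLocalization M Rp] (ψ : Rp →+* Tp) (h : (ψ.comp (algebraMap R Rp)).Flat) :
    ψ.Flat := by
  letI := ψ.toAlgebra
  letI := (ψ.comp (algebraMap R Rp)).toAlgebra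
  haveI : IsScalarTower R Rp Tp := IsScalarTower.of_algebraMap_eq fun x => rfl
  exact (Module.flat_iff_of_isLocalization Rp M Tp).mpr h

theorem charP_localization (p : ℕ) [Fact p.Prime] {R : Type u} [CommRing R] [CharP R p] (P : Ideal R) [P.IsPrime] :
    CharP (Localization.AtPrime P) p :=
  (CharP.charP_iff_prime_eq_zero Fact.out).mpr (by
    rw [← map_natCast (algebraMap R (Localization.AtPrime P)), CharP.cast_eq_zero, map_zero])


/-- A Noetherian ring of prime characteristic p is regular exactly when its Frobenius endomorphism is
flat. -/
theorem result (p : ℕ) [Fact p.Prime] (R : Type u) [CommRing R] [IsNoetherianRing R] [CharP R p] : IsRegularRing R ↔ (frobenius R p).Flat := by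
  constructor
  · intro hR
    refine flat_of_maximal _ fun P _ => ?_
    haveI := charP_localization p P
    haveI : IsRegularLocalRing (Localization.AtPrime P) := IsRegularRing.isRegularLocalRing_localization P
    have hc : (algebraMap R (Localization.AtPrime P)).comp (frobenius R p) =
        (frobenius (Localization.AtPrime P) p).comp (algebraMap R (Localization.AtPrime P)) :=
      RingHom.ext fun x => by simp [frobenius_def]
    rw [hc]
    exact RingHom.Flat.comp (RingHom.flat_algebraMap_iff.mpr (IsLocalization.flat _ P.primeCompl))
      (Groth.L13.Wild.Kunz.flat_frobenius p _)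
  · intro h
    refine isRegularRing_iff.mpr fun P _ => ?_
    haveI := charP_localization p P
    refine Groth.L01.Kunz.isRegularLocalRing_of_flat_frobenius p
      (flat_localized (T := R) P.primeCompl _ ?_)
    have hc : (algebraMap R (Localization.AtPrime P)).comp (frobenius R p) =
        (frobenius (Localization.AtPrime P) p).comp (algebraMap R (Localization.AtPrime P)) :=
      RingHom.ext fun x => by simp [frobenius_def]
    rw [← hc]
    exact RingHom.Flat.comp h (RingHom.flat_algebraMap_iff.mpr (IsLocalization.flat _ P.primeCompl))

end Groth.Agent.S0336
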