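import Groth.Statements.S0337
import Mathlib.Algebra.Category.ModuleCat.ChangeOfRings
import Mathlib.LinearAlgebra.Matrix.NonsingularInverse
import Mathlib.RingTheory.Filtration
import Mathlib.RingTheory.Nakayama
import Mathlib.LinearAlgebra.Dimension.Free
import Mathlib.LinearAlgebra.FiniteDimensional.Basic
import Mathlib.RingTheory.LocalRing.MaximalIdeal.Basic
import Mathlib.Algebra.CharP.Frobenius

set_option autoImplicit false
universe u v
open CategoryTheory
open LocCoh

namespace Groth.Agent.S0337

section
open CategoryTheory TensorProduct IsLocalRing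

/-- `M/JM` is free on `b` elements. -/
def FreeMod {R : Type u} [CommRing R] (M : Type u) [AddCommGroup M] [Module R M] (b : ℕ) (J : Ideal R) : Prop :=
  ∃ (v : Fin b → M) (l : Fin b → (M →ₗ[R] R ⧸ J)), (∀ i j, l i (v j) = if i = j then 1 else 0) ∧
    Submodule.span R (Set.range v) ⊔ J • ⊤ = ⊤

theorem freeMod_map {R S : Type u} [CommRing R] [CommRing S] (f : R →+* S) {b : ℕ} {J : Ideal R}
    {M : Type u} [AddCommGroup M] [Module R M] {N : Type u} [AddCommGroup N] [Module S N]
    (e : (ModuleCat.extendScalars f).obj (ModuleCat.of R M) ≅ ModuleCat.of S N) (h : FreeMod M b J) :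
    FreeMod N b (J.map f) := by
  letI := f.toAlgebra
  let e' : S ⊗[R] M ≃ₗ[S] N := e.toLinearEquiv
  obtain ⟨v, l, hl, hv⟩ := h
  let q : R ⧸ J →ₗ[R] S ⧸ J.map f :=
    Submodule.liftQ J ((Ideal.Quotient.mkₐ R (J.map f)).toLinearMap ∘ₗ Algebra.linearMap R S) fun x hx => by
      rw [LinearMap.mem_ker]
      exact Ideal.Quotient.eq_zero_iff_mem.mpr (Ideal.mem_map_of_mem f hx)
  let g : Fin b → (S ⊗[R] M →ₗ[S] S ⧸ J.map f) := fun i =>
    TensorProduct.AlgebraTensorModule.lift (LinearMap.toSpanSingleton S (M →ₗ[R] S ⧸ J.map f) (q ∘ₗ l i))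
  refine ⟨fun j => e' (1 ⊗ₜ v j), fun i => g i ∘ₗ e'.symm.toLinearMap, fun i j => ?_, ?_⟩
  · simp only [LinearMap.comp_apply, LinearEquiv.coe_coe, LinearEquiv.symm_apply_apply]
    show (1 : S) • q (l i (v j)) = _
    rw [one_smul, hl]
    split_ifs
    · exact map_one (Ideal.Quotient.mk (J.map f)) ▸ (by
        show Ideal.Quotient.mk (J.map f) (f 1) = Ideal.Quotient.mk (J.map f) 1
        rw [map_one])
    · exact map_zero q
  · rw [eq_top_iff]
    rintro y -
    obtain ⟨z, rfl⟩ := e'.surjective y
    induction z using TensorProduct.induction_on with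
    | zero => rw [map_zero]; exact zero_mem _
    | add a c ha hc => rw [map_add]; exact add_mem ha hc
    | tmul s m =>
      rw [show s ⊗ₜ[R] m = s • ((1 : S) ⊗ₜ[R] m) by rw [TensorProduct.smul_tmul', smul_eq_mul, mul_one], map_smul]
      refine Submodule.smul_mem _ _ ?_
      have hm : m ∈ Submodule.span R (Set.range v) ⊔ J • ⊤ := by rw [hv]; trivial
      obtain ⟨a, ha, c, hc, rfl⟩ := Submodule.mem_sup.mp hm
      clear hm
      rw [TensorProduct.tmul_add, map_add]
      refine Submodule.add_mem_sup ?_ ?_
      · induction ha using Submodule.span_induction with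
        | mem x hx =>
          obtain ⟨j, rfl⟩ := hx
          exact Submodule.subset_span ⟨j, rfl⟩
        | zero => rw [TensorProduct.tmul_zero, map_zero]; exact zero_mem _
        | add x y _ _ hx hy => rw [TensorProduct.tmul_add, map_add]; exact add_mem hx hy
        | smul r x _ hx =>
          rw [TensorProduct.tmul_smul, ← algebraMap_smul S r, map_smul]
          exact Submodule.smul_mem _ _ hx
      · refine Submodule.smul_induction_on hc (fun r hr x _ => ?_) fun x y hx hy => ?_
        · rw [TensorProduct.tmul_smul, ← algebraMap_smul S r, map_smul]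
          exact Submodule.smul_mem_smul (Ideal.mem_map_of_mem f hr) Submodule.mem_top
        · rw [TensorProduct.tmul_add, map_add]; exact add_mem hx hy

theorem coeff_mem {R : Type u} [CommRing R] {M : Type u} [AddCommGroup M] [Module R M] {b : ℕ} {J : Ideal R}
    (h : FreeMod M b J) (w : Fin b → M) (hw : Submodule.span R (Set.range w) = ⊤) (c : Fin b → R)
    (hc : ∑ i, c i • w i = 0) (i : Fin b) : c i ∈ J := by
  classical
  obtain ⟨v, l, hl, -⟩ := h
  have hC : ∀ j, ∃ a : Fin b → R, ∑ k, a k • w k = v j := fun j =>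
    (Submodule.mem_span_range_iff_exists_fun R).mp (hw ▸ Submodule.mem_top)
  choose a ha using hC
  let mk := Ideal.Quotient.mk J
  have hsm : ∀ (r : R) (x : R ⧸ J), r • x = mk r * x := fun r x => Algebra.smul_def r x
  let W : Matrix (Fin b) (Fin b) (R ⧸ J) := fun p k => l p (w k)
  let C : Matrix (Fin b) (Fin b) (R ⧸ J) := fun k j => mk (a j k)
  have hWC : W * C = 1 := by
    ext p j
    rw [Matrix.mul_apply, Matrix.one_apply, ← hl p j, ← ha j, map_sum]
    exact Finset.sum_congr rfl fun k _ => by rw [map_smul, hsm, mul_comm]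
  have hCW : C * W = 1 := mul_eq_one_comm.mp hWC
  have hz : W.mulVec (fun k => mk (c k)) = 0 := by
    funext p
    have := congrArg (l p) hc
    rw [map_sum, map_zero] at this
    rw [Pi.zero_apply, ← this]
    simp only [Matrix.mulVec, dotProduct]
    exact Finset.sum_congr rfl fun k _ => by rw [map_smul, hsm, mul_comm]
  have h2 := congrArg (C.mulVec) hz
  rw [Matrix.mulVec_mulVec, hCW, Matrix.one_mulVec, Matrix.mulVec_zero] at h2
  exact Ideal.Quotient.eq_zero_iff_mem.mp (congrFun h2 i)

theorem exists_base {R : Type u} [CommRing R] [IsLocalRing R] (M : Type u) [AddCommGroup M] [Module R M]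
    [Module.Finite R M] : ∃ (b : ℕ) (w : Fin b → M), FreeMod M b (maximalIdeal R) ∧
      Submodule.span R (Set.range w) = ⊤ := by
  let V := M ⧸ maximalIdeal R • (⊤ : Submodule R M)
  letI : Field (R ⧸ maximalIdeal R) := Ideal.Quotient.field _
  haveI : Module.Finite (R ⧸ maximalIdeal R) V := Module.Finite.of_restrictScalars_finite R _ _
  let B := Module.finBasis (R ⧸ maximalIdeal R) V
  choose w hw using fun i => Submodule.mkQ_surjective (maximalIdeal R • (⊤ : Submodule R M)) (B i)
  have hsup : Submodule.span R (Set.range w) ⊔ maximalIdeal R • ⊤ = ⊤ := by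
    rw [eq_top_iff]
    intro m _
    have h1 : (Submodule.mkQ _ m : V) ∈ Submodule.span R (Set.range B) := by
      rw [← Submodule.restrictScalars_span R (R ⧸ maximalIdeal R) Ideal.Quotient.mk_surjective, B.span_eq]
      trivial
    rw [show Set.range B = (Submodule.mkQ (maximalIdeal R • (⊤ : Submodule R M))) '' Set.range w by
      rw [← Set.range_comp]; exact congrArg Set.range (funext fun i => (hw i).symm), Submodule.span_image] at h1
    have h2 := Submodule.mem_comap.mpr h1
    rw [Submodule.comap_map_eq, Submodule.ker_mkQ] at h2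
    exact h2
  refine ⟨_, w, ⟨w, fun i => ((B.coord i).restrictScalars R) ∘ₗ (maximalIdeal R • (⊤ : Submodule R M)).mkQ,
    fun i j => ?_, hsup⟩, ?_⟩
  · simp [hw, Finsupp.single_apply, eq_comm]
  · exact top_le_iff.mp (Submodule.le_of_le_smul_of_le_jacobson_bot (I := maximalIdeal R) Module.Finite.fg_top
      (IsLocalRing.maximalIdeal_le_jacobson _) hsup.ge)

end


/-- Over a Noetherian local ring of prime characteristic p, a finite module isomorphic to its own base
change along Frobenius is free. -/
theorem result (p : ℕ) [Fact p.Prime] (R : Type u) [CommRing R] [IsLocalRing R] [IsNoetherianRing R] [CharP R p] (M : Type u) [AddCommGroup M] [Module R M] [Module.Finite R M] (h : Nonempty ((ModuleCat.extendScalars (frobenius R p)).obj (ModuleCat.of R M) ≅ ModuleCat.of R M)) : Module.Free R M := by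
  obtain ⟨b, w, hb, hw⟩ := exists_base (R := R) M
  obtain ⟨e⟩ := h
  have hJ : ∀ k : ℕ, ∃ J : Ideal R, J ≤ IsLocalRing.maximalIdeal R ^ (k + 1) ∧ FreeMod M b J := by
    intro k
    induction k with
    | zero => exact ⟨_, by rw [zero_add, pow_one], hb⟩
    | succ k ih =>
      obtain ⟨J, hJle, hJ⟩ := ih
      refine ⟨J.map (frobenius R p), Ideal.map_le_iff_le_comap.mpr fun x hx => ?_, freeMod_map _ e hJ⟩
      rw [Ideal.mem_comap, frobenius_def]
      have h1 := Ideal.pow_mem_pow (hJle hx) p
      rw [← pow_mul] at h1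
      refine Ideal.pow_le_pow_right ?_ h1
      have := (Fact.out : p.Prime).two_le
      nlinarith
  have hli : LinearIndependent R w := by
    rw [Fintype.linearIndependent_iff]
    intro c hc i
    have hmem : c i ∈ ⨅ n : ℕ, IsLocalRing.maximalIdeal R ^ n := by
      rw [Submodule.mem_iInf]
      intro n
      obtain ⟨J, hJle, hJ⟩ := hJ n
      exact Ideal.pow_le_pow_right n.le_succ (hJle (coeff_mem hJ w hw c hc i))
    rwa [Ideal.iInf_pow_eq_bot_of_isLocalRing _ (IsLocalRing.maximalIdeal.isMaximal R).ne_top] at hmem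
  exact Module.Free.of_basis (Module.Basis.mk hli hw.ge)

end Groth.Agent.S0337
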