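import Groth.Statements.S0347
import Groth.Agent.L25.GrpBasics
import Mathlib.AlgebraicGeometry.Morphisms.UniversallyOpen

set_option autoImplicit false
universe u v
open CategoryTheory MonoidalCategory CartesianMonoidalCategory MonObj GrpObj AlgebraicGeometry
open GrpSch

namespace Groth.Agent.S0347

/-- The multiplication map of a group scheme over a field is an open map of topological spaces. -/
theorem result (K : Type u) [Field K] (G : Over (Spec (CommRingCat.of K))) [GrpObj G] : IsOpenMap (μ[G].left : (G ⊗ G).left ⟶ G.left) := by
  have e : μ[G] = (Groth.L25.GrpBasics.shear (𝟙 G)).hom ≫ snd G G := by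
    rw [Groth.L25.GrpBasics.shear_hom_snd, id_whiskerRight, Category.id_comp]
  rw [e, Over.comp_left]
  have : IsIso (Groth.L25.GrpBasics.shear (𝟙 G)).hom.left :=
    inferInstanceAs (IsIso ((Over.forget _).map (Groth.L25.GrpBasics.shear (𝟙 G)).hom))
  have hK : UniversallyOpen G.hom := inferInstance
  have h2 : IsOpenMap (snd G G).left := by
    have : UniversallyOpen (Limits.pullback.snd G.hom G.hom) := UniversallyOpen.snd (hf := hK) _ _
    exact (Limits.pullback.snd G.hom G.hom).isOpenMap
  rw [Scheme.Hom.comp_base, TopCat.coe_comp]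
  exact h2.comp ((Groth.L25.GrpBasics.shear (𝟙 G)).hom.left.homeomorph.isOpenMap)
end Groth.Agent.S0347
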