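import Groth.Statements.S0350
import Groth.Agent.L25.Component

set_option autoImplicit false
universe u v
open CategoryTheory MonoidalCategory CartesianMonoidalCategory MonObj GrpObj AlgebraicGeometry
open GrpSch

namespace Groth.Agent.S0350

open PrimeSpectrum in
theorem subsingleton_minimalPrimes {R : Type u} [CommRing R]
    (h : (irreducibleComponents (PrimeSpectrum R)).Subsingleton) : (minimalPrimes R).Subsingleton := by
  rw [← vanishingIdeal_irreducibleComponents]
  exact h.image _


/-- Let G be a group scheme over a field K. Then for every point x of G the local ring O_{G,x} has at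
most one (hence exactly one) minimal prime, and there is exactly one irreducible component of G
passing through the identity point. The published statement also asserts that this component is
geometrically irreducible, which is not asserted here. -/
theorem result (K : Type u) [Field K] (G : Over (Spec (CommRingCat.of K))) [GrpObj G] : (∀ x : G.left, (minimalPrimes (G.left.presheaf.stalk x)).Subsingleton) ∧ ∃! Z : Set G.left, Z ∈ irreducibleComponents (G.left : Type u) ∧ η[G].left (IsLocalRing.closedPoint K) ∈ Z := by
  refine ⟨fun x => subsingleton_minimalPrimes fun W₁ h1 W₂ h2 => ?_, ?_⟩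
  · obtain ⟨ξ₁, rfl, -⟩ := Groth.L25.Component.maximal_of_mem_irreducibleComponents h1
    obtain ⟨ξ₂, rfl, -⟩ := Groth.L25.Component.maximal_of_mem_irreducibleComponents h2
    have hb := Groth.L16.bijOn_irreducibleComponents_specStalk G.left x
    rw [hb.injOn (x₁ := ξ₁) (x₂ := ξ₂) h1 h2
      (Groth.L25.Component.eq_of_mem (hb.mapsTo h1).1 (hb.mapsTo h2).1 (hb.mapsTo h1).2 (hb.mapsTo h2).2)]
  · obtain ⟨Z, hZ, hsub⟩ := exists_mem_irreducibleComponents_subset_of_isIrreducible
      {η[G].left (IsLocalRing.closedPoint K)} isIrreducible_singleton
    exact ⟨Z, ⟨hZ, hsub rfl⟩, fun W hW => Groth.L25.Component.eq_of_mem hW.1 hZ hW.2 (hsub rfl)⟩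
end Groth.Agent.S0350
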