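import Groth.Statements.S0362
import Mathlib.RingTheory.SimpleModule.Basic
import Mathlib.RingTheory.FiniteLength
import Mathlib.RingTheory.Nakayama
import Mathlib.RingTheory.HopkinsLevitzki

set_option autoImplicit false
universe u v
open CategoryTheory
open Dual

namespace Groth.Agent.S0362

open IsLocalRing Submodule

variable {A : Type u} [CommRing A] [IsLocalRing A] [IsNoetherianRing A]

/-- `X` is killed by the `n + 1`-st power of the maximal ideal. -/
def Killed (X : Dual.FinLen A) (n : ℕ) : Prop :=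
  ∀ a ∈ maximalIdeal A ^ (n + 1), ∀ x : X.obj, a • x = 0

theorem killed_mono {X : Dual.FinLen A} {n k : ℕ} (h : Killed X n) (hk : n ≤ k) : Killed X k :=
  fun a ha => h a (Ideal.pow_le_pow_right (Nat.succ_le_succ hk) ha)

theorem isFiniteLength_quot (n : ℕ) : IsFiniteLength A (A ⧸ maximalIdeal A ^ (n + 1)) := by
  have hart : IsArtinianRing (A ⧸ maximalIdeal A ^ (n + 1)) :=
    quotient_artinian_of_mem_minimalPrimes_of_isLocalRing (maximalIdeal A ^ (n + 1))
      ⟨⟨inferInstance, Ideal.pow_le_self n.succ_ne_zero⟩,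
        fun q hq _ => hq.1.le_of_pow_le hq.2⟩
  rw [isFiniteLength_iff_isNoetherian_isArtinian]
  exact ⟨inferInstance,
    isArtinian_of_surjective_algebraMap (R := A ⧸ maximalIdeal A ^ (n + 1)) Ideal.Quotient.mk_surjective⟩

/-- The test object `A / m ^ (n + 1)`. -/
noncomputable abbrev Qo (n : ℕ) : Dual.FinLen A :=
  ⟨ModuleCat.of A (A ⧸ maximalIdeal A ^ (n + 1)), isFiniteLength_quot n⟩

/-- The class of `1` in the test object. -/
def q1 (n : ℕ) : (Qo (A := A) n).obj := Submodule.Quotient.mk (1 : A)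

theorem exists_smul_q1 {n : ℕ} (z : (Qo (A := A) n).obj) : ∃ a : A, z = a • q1 n := by
  obtain ⟨a, rfl⟩ := Submodule.Quotient.mk_surjective _ z
  refine ⟨a, ?_⟩
  show Submodule.Quotient.mk a = a • Submodule.Quotient.mk (1 : A)
  rw [← Submodule.Quotient.mk_smul, smul_eq_mul, mul_one]

theorem killed_Qo (n : ℕ) : Killed (Qo (A := A) n) n := fun a ha z => by
  obtain ⟨b, rfl⟩ := Submodule.Quotient.mk_surjective _ z
  show a • Submodule.Quotient.mk b = 0
  rw [← Submodule.Quotient.mk_smul, Submodule.Quotient.mk_eq_zero, smul_eq_mul]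
  exact Ideal.mul_mem_right _ _ ha

/-- The map out of the test object given by an element. -/
noncomputable def el {X : Dual.FinLen A} (n : ℕ) (x : X.obj)
    (hx : ∀ a ∈ maximalIdeal A ^ (n + 1), a • x = 0) : Qo n ⟶ X :=
  ObjectProperty.homMk (ModuleCat.ofHom
    (Submodule.liftQ _ (LinearMap.toSpanSingleton A X.obj x) fun a ha => hx a ha))

theorem el_q1 {X : Dual.FinLen A} {n : ℕ} (x : X.obj)
    (hx : ∀ a ∈ maximalIdeal A ^ (n + 1), a • x = 0) :
    (el n x hx).hom.hom (q1 n) = x := by
  show (1 : A) • x = x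
  exact one_smul A x

theorem hom_ext_q1 {X : Dual.FinLen A} {n : ℕ} {f g : Qo n ⟶ X}
    (h : f.hom.hom (q1 n) = g.hom.hom (q1 n)) : f = g := by
  apply ObjectProperty.hom_ext
  apply ModuleCat.hom_ext
  refine LinearMap.ext fun z => ?_
  obtain ⟨a, rfl⟩ := exists_smul_q1 z
  rw [map_smul, map_smul, h]

theorem exists_killed (X : Dual.FinLen A) : ∃ n, Killed X n := by
  obtain ⟨hN, hA⟩ := isFiniteLength_iff_isNoetherian_isArtinian.1 X.property
  obtain ⟨n, hn⟩ := IsArtinian.monotone_stabilizes
    (⟨fun k => OrderDual.toDual ((maximalIdeal A ^ k) • (⊤ : Submodule A X.obj)),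
      fun k l hkl => Submodule.smul_mono_left (Ideal.pow_le_pow_right hkl)⟩ :
      ℕ →o (Submodule A X.obj)ᵒᵈ)
  have hn' : (maximalIdeal A ^ n) • (⊤ : Submodule A X.obj) =
      (maximalIdeal A ^ (n + 1)) • (⊤ : Submodule A X.obj) := hn (n + 1) (Nat.le_succ n)
  have h0 : (maximalIdeal A ^ n) • (⊤ : Submodule A X.obj) = ⊥ := by
    refine Submodule.eq_bot_of_le_smul_of_le_jacobson_bot (maximalIdeal A) _
      (IsNoetherian.noetherian _) ?_ (IsLocalRing.maximalIdeal_le_jacobson ⊥)
    rw [← Submodule.smul_assoc, smul_eq_mul, ← pow_succ']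
    exact hn'.le
  refine ⟨n, fun a ha x => ?_⟩
  rw [← Submodule.mem_bot A, ← h0]
  exact Submodule.smul_mem_smul (Ideal.pow_le_pow_right (Nat.le_succ n) ha) trivial

theorem surjective_of_epi {X Y : Dual.FinLen A} (g : X ⟶ Y) [Epi g] :
    Function.Surjective g.hom.hom := by
  obtain ⟨hN, hA⟩ := isFiniteLength_iff_isNoetherian_isArtinian.1 Y.property
  let R : Submodule A Y.obj := LinearMap.range g.hom.hom
  let C : Dual.FinLen A := ⟨ModuleCat.of A (Y.obj ⧸ R),
    isFiniteLength_iff_isNoetherian_isArtinian.2 ⟨inferInstance, inferInstance⟩⟩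
  let p : Y ⟶ C := ObjectProperty.homMk (ModuleCat.ofHom R.mkQ)
  let z : Y ⟶ C := ObjectProperty.homMk (ModuleCat.ofHom 0)
  have hpz : g ≫ p = g ≫ z := by
    apply ObjectProperty.hom_ext
    apply ModuleCat.hom_ext
    refine LinearMap.ext fun x => ?_
    show R.mkQ (g.hom.hom x) = 0
    rw [Submodule.mkQ_apply, Submodule.Quotient.mk_eq_zero]
    exact ⟨x, rfl⟩
  have h : p = z := (cancel_epi g).1 hpz
  intro y
  have hy : R.mkQ y = 0 := by
    have := congrArg (fun t : Y ⟶ C => t.hom.hom y) h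
    exact this
  rwa [Submodule.mkQ_apply, Submodule.Quotient.mk_eq_zero] at hy

theorem epi_el_one {X : Dual.FinLen A} {n : ℕ} (f : Qo (A := A) n ⟶ X)
    (hf : Function.Surjective f.hom.hom) : Epi f := by
  refine ⟨fun {Z} g h hgh => ?_⟩
  apply ObjectProperty.hom_ext
  apply ModuleCat.hom_ext
  refine LinearMap.ext fun y => ?_
  obtain ⟨x, rfl⟩ := hf y
  exact congrArg (fun t : Qo n ⟶ Z => t.hom.hom x) hgh

theorem nonempty_simple_equiv (M : Type u) [AddCommGroup M] [Module A M] [IsSimpleModule A M] :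
    Nonempty (M ≃ₗ[A] (A ⧸ maximalIdeal A ^ (0 + 1))) := by
  obtain ⟨I, hI, ⟨e⟩⟩ := isSimpleModule_iff_quot_maximal.1 (inferInstance : IsSimpleModule A M)
  have hIm : I = maximalIdeal A := IsLocalRing.eq_maximalIdeal hI
  exact ⟨e.trans (Submodule.quotEquivOfEq _ _ (by rw [hIm, pow_one]))⟩

variable (F : Dual.FinLen A ≌ Dual.FinLen A) [F.functor.Additive] [F.functor.Linear A]

theorem killed_obj {X : Dual.FinLen A} {n : ℕ} (h : Killed X n) : Killed (F.functor.obj X) n := by
  intro a ha x
  have h0 : a • 𝟙 X = 0 := by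
    apply ObjectProperty.hom_ext
    apply ModuleCat.hom_ext
    exact LinearMap.ext fun y => h a ha y
  have h1 : a • 𝟙 (F.functor.obj X) = 0 := by
    rw [← F.functor.map_id, ← F.functor.map_smul, h0, F.functor.map_zero]
  exact congrArg (fun t : F.functor.obj X ⟶ F.functor.obj X => t.hom.hom x) h1

theorem nontrivial_obj (n : ℕ) : Nontrivial (F.functor.obj (Qo n)).obj := by
  by_contra h
  rw [not_nontrivial_iff_subsingleton] at h
  have h1 : 𝟙 (F.functor.obj (Qo n)) = 0 := by
    apply ObjectProperty.hom_ext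
    apply ModuleCat.hom_ext
    exact LinearMap.ext fun x => Subsingleton.elim _ _
  rw [← F.functor.map_id, ← F.functor.map_zero (X := Qo n) (Y := Qo n)] at h1
  have h2 := congrArg (fun t : Qo (A := A) n ⟶ Qo n => t.hom.hom (q1 n)) (F.functor.map_injective h1)
  have h3 : (q1 n : (Qo (A := A) n).obj) = 0 := h2
  have h4 : (1 : A) ∈ maximalIdeal A ^ (n + 1) := (Submodule.Quotient.mk_eq_zero _).1 h3
  exact Ideal.pow_le_self n.succ_ne_zero h4 |> (maximalIdeal.isMaximal A).ne_top ∘
    (Ideal.eq_top_iff_one _).2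

theorem exists_iso_residue : Nonempty ((F.functor.obj (Qo 0)).obj ≃ₗ[A] (Qo (A := A) 0).obj) := by
  haveI := nontrivial_obj F 0
  let P := F.functor.obj (Qo (A := A) 0)
  obtain ⟨hN, hA⟩ := isFiniteLength_iff_isNoetherian_isArtinian.1 P.property
  obtain ⟨N, hN1, -⟩ := (eq_top_or_exists_le_coatom (⊥ : Submodule A P.obj)).resolve_left bot_ne_top
  haveI : IsSimpleModule A (P.obj ⧸ N) := isSimpleModule_iff_isCoatom.2 hN1
  obtain ⟨e1⟩ := nonempty_simple_equiv (A := A) (P.obj ⧸ N)
  haveI : IsAtomic (Submodule A P.obj) := isAtomic_of_orderBot_wellFounded_lt wellFounded_lt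
  obtain ⟨S, hS, -⟩ := (IsAtomic.eq_bot_or_exists_atom_le (⊤ : Submodule A P.obj)).resolve_left top_ne_bot
  haveI : IsSimpleModule A S := isSimpleModule_iff_isAtom.2 hS
  obtain ⟨e2⟩ := nonempty_simple_equiv (A := A) S
  let q : P.obj →ₗ[A] (Qo (A := A) 0).obj := e1.toLinearMap ∘ₗ N.mkQ
  let i : (Qo (A := A) 0).obj →ₗ[A] P.obj := S.subtype ∘ₗ e2.symm.toLinearMap
  have hq : Function.Surjective q := e1.surjective.comp (Submodule.mkQ_surjective N)
  have hi : Function.Injective i := S.injective_subtype.comp e2.symm.injective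
  let g : P ⟶ P := ObjectProperty.homMk (ModuleCat.ofHom (i ∘ₗ q))
  obtain ⟨h, hh⟩ := F.functor.map_surjective g
  obtain ⟨a, ha⟩ := exists_smul_q1 (h.hom.hom (q1 0))
  have hha : h = a • 𝟙 (Qo 0) := hom_ext_q1 ha
  have hga : ∀ x : P.obj, i (q x) = a • x := fun x => by
    have h1 : g = a • 𝟙 P := by rw [← hh, hha, F.functor.map_smul, F.functor.map_id]
    exact congrArg (fun t : P ⟶ P => t.hom.hom x) h1
  have hau : IsUnit a := by
    by_contra hu
    have ham : a ∈ maximalIdeal A ^ (0 + 1) := by rw [pow_one]; exact hu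
    obtain ⟨x, hx⟩ := hq (q1 0)
    have h1 := hga x
    rw [killed_obj F (killed_Qo 0) a ham x, hx, ← map_zero i] at h1
    have h2 : (1 : A) ∈ maximalIdeal A ^ (0 + 1) := (Submodule.Quotient.mk_eq_zero _).1 (hi h1)
    rw [pow_one] at h2
    exact (maximalIdeal.isMaximal A).ne_top ((Ideal.eq_top_iff_one _).2 h2)
  refine ⟨LinearEquiv.ofBijective q ⟨(injective_iff_map_eq_zero q).2 fun x hx => ?_, hq⟩⟩
  have h1 := hga x
  rw [hx, map_zero] at h1
  exact (hau.smul_eq_zero).1 h1.symm

theorem coatom_unique {n : ℕ} {M₁ M₂ : Submodule A (F.functor.obj (Qo n)).obj}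
    (h1 : IsCoatom M₁) (h2 : IsCoatom M₂) : M₁ = M₂ := by
  obtain ⟨e0⟩ := exists_iso_residue F
  let K := (Qo (A := A) 0).obj
  haveI : IsSimpleModule A ((F.functor.obj (Qo n)).obj ⧸ M₁) := isSimpleModule_iff_isCoatom.2 h1
  haveI : IsSimpleModule A ((F.functor.obj (Qo n)).obj ⧸ M₂) := isSimpleModule_iff_isCoatom.2 h2
  obtain ⟨e1⟩ := nonempty_simple_equiv (A := A) ((F.functor.obj (Qo n)).obj ⧸ M₁)
  obtain ⟨e2⟩ := nonempty_simple_equiv (A := A) ((F.functor.obj (Qo n)).obj ⧸ M₂)
  let c1 := (e0.symm.toLinearMap ∘ₗ e1.toLinearMap) ∘ₗ M₁.mkQ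
  let c2 := (e0.symm.toLinearMap ∘ₗ e2.toLinearMap) ∘ₗ M₂.mkQ
  have k1 : LinearMap.ker c1 = M₁ := by
    rw [LinearMap.ker_comp, LinearMap.ker_eq_bot.2 (show Function.Injective (e0.symm.toLinearMap ∘ₗ e1.toLinearMap) from
      e0.symm.injective.comp e1.injective)]
    exact M₁.ker_mkQ
  have k2 : LinearMap.ker c2 = M₂ := by
    rw [LinearMap.ker_comp, LinearMap.ker_eq_bot.2 (show Function.Injective (e0.symm.toLinearMap ∘ₗ e2.toLinearMap) from
      e0.symm.injective.comp e2.injective)]
    exact M₂.ker_mkQ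
  obtain ⟨p1, hp1⟩ := F.functor.map_surjective
    (ObjectProperty.homMk (ModuleCat.ofHom c1) : F.functor.obj (Qo n) ⟶ F.functor.obj (Qo 0))
  obtain ⟨p2, hp2⟩ := F.functor.map_surjective
    (ObjectProperty.homMk (ModuleCat.ofHom c2) : F.functor.obj (Qo n) ⟶ F.functor.obj (Qo 0))
  obtain ⟨a1, ha1⟩ := exists_smul_q1 (p1.hom.hom (q1 n))
  obtain ⟨a2, ha2⟩ := exists_smul_q1 (p2.hom.hom (q1 n))
  have hu : IsUnit a1 := by
    by_contra hu
    have ham : a1 ∈ maximalIdeal A ^ (0 + 1) := by rw [pow_one]; exact hu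
    have hp0 : p1 = 0 := hom_ext_q1 (ha1.trans (killed_Qo 0 a1 ham _))
    have h0 : c1 = 0 := by
      rw [hp0, F.functor.map_zero] at hp1
      exact LinearMap.ext fun x => (congrArg (fun t : F.functor.obj (Qo n) ⟶ F.functor.obj (Qo 0) =>
        t.hom.hom x) hp1).symm
    refine h1.1 ?_
    rw [← k1, h0, LinearMap.ker_zero]
  obtain ⟨u, rfl⟩ := hu
  have hp : p2 = (a2 * (↑u⁻¹ : A)) • p1 := hom_ext_q1 (by
    show p2.hom.hom (q1 n) = (a2 * (↑u⁻¹ : A)) • p1.hom.hom (q1 n)
    rw [ha1, ha2, ← mul_smul, mul_assoc, Units.inv_mul, mul_one])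
  have hc : c2 = (a2 * (↑u⁻¹ : A)) • c1 := by
    rw [hp, F.functor.map_smul, hp1] at hp2
    exact LinearMap.ext fun x => (congrArg (fun t : F.functor.obj (Qo n) ⟶ F.functor.obj (Qo 0) =>
      t.hom.hom x) hp2).symm
  have hle : M₁ ≤ M₂ := by
    rw [← k1, ← k2]
    intro x hx
    rw [LinearMap.mem_ker] at hx ⊢
    rw [hc, LinearMap.smul_apply, hx, smul_zero]
  rcases hle.lt_or_eq with h | h
  · exact absurd (h1.2 _ h) h2.1
  · exact h

/-- `e` generates. -/
def Gen {X : Dual.FinLen A} (e : X.obj) : Prop := Submodule.span A {e} = ⊤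

theorem exists_gen (n : ℕ) : ∃ e : (F.functor.obj (Qo n)).obj, Gen e := by
  haveI := nontrivial_obj F n
  obtain ⟨hN, -⟩ := isFiniteLength_iff_isNoetherian_isArtinian.1 (F.functor.obj (Qo n)).property
  obtain ⟨M, hM, -⟩ := (eq_top_or_exists_le_coatom
    (⊥ : Submodule A (F.functor.obj (Qo n)).obj)).resolve_left bot_ne_top
  obtain ⟨e, -, he⟩ := SetLike.exists_of_lt hM.1.lt_top
  refine ⟨e, (eq_top_or_exists_le_coatom (Submodule.span A {e})).resolve_right ?_⟩
  rintro ⟨M', hM', hle⟩
  rw [coatom_unique F hM' hM] at hle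
  exact he (hle (Submodule.mem_span_singleton_self e))

theorem gen_of_map {n : ℕ} {Y : Dual.FinLen A} [Nontrivial Y.obj] (p : F.functor.obj (Qo n) ⟶ Y)
    (hp : Function.Surjective p.hom.hom) (e : (F.functor.obj (Qo n)).obj)
    (he : Gen (p.hom.hom e)) : Gen e := by
  obtain ⟨hN, -⟩ := isFiniteLength_iff_isNoetherian_isArtinian.1 (F.functor.obj (Qo n)).property
  refine (eq_top_or_exists_le_coatom (Submodule.span A {e})).resolve_right ?_
  rintro ⟨M, hM, hle⟩
  have hk : LinearMap.ker p.hom.hom ≠ ⊤ := by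
    rw [Ne, LinearMap.ker_eq_top]
    intro h0
    obtain ⟨y, hy⟩ := exists_ne (0 : Y.obj)
    obtain ⟨x, rfl⟩ := hp y
    exact hy (by rw [h0]; rfl)
  obtain ⟨M', hM', hle'⟩ := (eq_top_or_exists_le_coatom (LinearMap.ker p.hom.hom)).resolve_left hk
  rw [coatom_unique F hM' hM] at hle'
  refine hM.1 (top_le_iff.1 fun x _ => ?_)
  obtain ⟨c, hc⟩ := Submodule.mem_span_singleton.1
    ((he ▸ Submodule.mem_top : p.hom.hom x ∈ Submodule.span A {p.hom.hom e}))
  have h1 : x - c • e ∈ M := hle' (by rw [LinearMap.mem_ker, map_sub, map_smul, hc, sub_self])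
  simpa using M.add_mem h1 (M.smul_mem c (hle (Submodule.mem_span_singleton_self e)))

theorem proj_cond (n : ℕ) : ∀ a ∈ maximalIdeal A ^ (n + 1 + 1), a • q1 (A := A) n = 0 :=
  fun a ha => killed_Qo n a (Ideal.pow_le_pow_right (Nat.le_succ _) ha) _

/-- The projection between consecutive test objects. -/
noncomputable def proj (n : ℕ) : Qo (A := A) (n + 1) ⟶ Qo n := el (n + 1) (q1 n) (proj_cond n)

theorem surjective_map_proj (n : ℕ) : Function.Surjective (F.functor.map (proj n)).hom.hom := by
  haveI : Epi (proj (A := A) n) := by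
    refine epi_el_one _ fun z => ?_
    obtain ⟨a, rfl⟩ := exists_smul_q1 z
    exact ⟨a • q1 (n + 1), by rw [map_smul, proj, el_q1]⟩
  exact surjective_of_epi _

/-- Compatible generators of the images of the test objects. -/
noncomputable def E : (n : ℕ) → { e : (F.functor.obj (Qo n)).obj // Gen e }
  | 0 => ⟨(exists_gen F 0).choose, (exists_gen F 0).choose_spec⟩
  | n + 1 => ⟨(surjective_map_proj F n (E n).1).choose,
      haveI := nontrivial_obj F n
      gen_of_map F _ (surjective_map_proj F n) _ (by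
        rw [(surjective_map_proj F n (E n).1).choose_spec]; exact (E n).2)⟩

theorem map_proj_E (n : ℕ) : (F.functor.map (proj n)).hom.hom (E F (n + 1)).1 = (E F n).1 :=
  (surjective_map_proj F n (E F n).1).choose_spec

theorem exists_smul_E {n : ℕ} (y : (F.functor.obj (Qo n)).obj) : ∃ a : A, a • (E F n).1 = y :=
  Submodule.mem_span_singleton.1 ((E F n).2.symm ▸ Submodule.mem_top)

/-- The candidate component of the inverse of the natural isomorphism. -/
noncomputable def theta {X : Dual.FinLen A} (n : ℕ) (h : Killed X n) (x : X.obj) :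
    (F.functor.obj X).obj :=
  (F.functor.map (el n x fun a ha => h a ha x)).hom.hom (E F n).1

theorem theta_succ {X : Dual.FinLen A} (n : ℕ) (h : Killed X n) (x : X.obj) :
    theta F (n + 1) (killed_mono h (Nat.le_succ n)) x = theta F n h x := by
  have h1 : el (n + 1) x (fun a ha => killed_mono h (Nat.le_succ n) a ha x) =
      proj n ≫ el n x (fun a ha => h a ha x) := hom_ext_q1 (by
    show _ = (el n x (fun a ha => h a ha x)).hom.hom ((proj n).hom.hom (q1 (n + 1)))
    rw [proj, el_q1, el_q1, el_q1])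
  unfold theta
  rw [h1, F.functor.map_comp]
  show (F.functor.map _).hom.hom ((F.functor.map (proj n)).hom.hom (E F (n + 1)).1) = _
  rw [map_proj_E]

theorem theta_indep {X : Dual.FinLen A} {n k : ℕ} (h : Killed X n) (hk : n ≤ k) (x : X.obj) :
    theta F k (killed_mono h hk) x = theta F n h x := by
  induction hk with
  | refl => rfl
  | @step k hk ih => exact (theta_succ F k (killed_mono h hk) x).trans ih

theorem theta_indep' {X : Dual.FinLen A} {n k : ℕ} (h : Killed X n) (h' : Killed X k) (x : X.obj) :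
    theta F k h' x = theta F n h x :=
  (theta_indep F h' (le_max_right n k) x).symm.trans (theta_indep F h (le_max_left n k) x)

theorem theta_nat {X Y : Dual.FinLen A} (f : X ⟶ Y) (n : ℕ) (hX : Killed X n) (hY : Killed Y n)
    (x : X.obj) : theta F n hY (f.hom.hom x) = (F.functor.map f).hom.hom (theta F n hX x) := by
  have h1 : el n (f.hom.hom x) (fun a ha => hY a ha _) = el n x (fun a ha => hX a ha x) ≫ f :=
    hom_ext_q1 (by
      show _ = f.hom.hom ((el n x _).hom.hom (q1 n))
      rw [el_q1, el_q1])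
  unfold theta
  rw [h1, F.functor.map_comp]
  rfl

/-- `theta` as a linear map. -/
noncomputable def thetaL {X : Dual.FinLen A} (n : ℕ) (h : Killed X n) :
    X.obj →ₗ[A] (F.functor.obj X).obj where
  toFun := theta F n h
  map_add' x y := by
    have h1 : el n (x + y) (fun a ha => h a ha _) =
        el n x (fun a ha => h a ha x) + el n y (fun a ha => h a ha y) :=
      hom_ext_q1 (by
        show _ = (el n x _).hom.hom (q1 n) + (el n y _).hom.hom (q1 n)
        rw [el_q1, el_q1, el_q1])
    unfold theta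
    rw [h1, F.functor.map_add]
    rfl
  map_smul' c x := by
    have h1 : el n (c • x) (fun a ha => h a ha _) = c • el n x (fun a ha => h a ha x) :=
      hom_ext_q1 (by
        show _ = c • (el n x _).hom.hom (q1 n)
        rw [el_q1, el_q1])
    unfold theta
    rw [h1, F.functor.map_smul]
    rfl

theorem thetaL_bijective {X : Dual.FinLen A} (n : ℕ) (h : Killed X n) :
    Function.Bijective (thetaL F n h) := by
  constructor
  · refine (injective_iff_map_eq_zero _).2 fun x hx => ?_
    have h0 : F.functor.map (el n x fun a ha => h a ha x) = F.functor.map 0 := by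
      rw [F.functor.map_zero]
      apply ObjectProperty.hom_ext
      apply ModuleCat.hom_ext
      refine LinearMap.ext fun y => ?_
      obtain ⟨a, rfl⟩ := exists_smul_E F y
      show _ = 0
      rw [map_smul, show (F.functor.map (el n x fun a ha => h a ha x)).hom.hom (E F n).1 = 0 from hx,
        smul_zero]
    rw [← el_q1 x (fun a ha => h a ha x), F.functor.map_injective h0]
    rfl
  · intro y
    let P := F.functor.obj (Qo (A := A) n)
    let φ := el (X := P) n (E F n).1 (fun a ha => killed_obj F (killed_Qo n) a ha _)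
    have hsurj : Function.Surjective φ.hom.hom := fun z => by
      obtain ⟨a, rfl⟩ := exists_smul_E F z
      exact ⟨a • q1 n, by rw [map_smul, el_q1]⟩
    have hinj : Function.Injective φ.hom.hom := (injective_iff_map_eq_zero _).2 fun z hz => by
      obtain ⟨a, rfl⟩ := exists_smul_q1 z
      rw [map_smul, el_q1] at hz
      have h0 : F.functor.map (a • 𝟙 (Qo n)) = F.functor.map 0 := by
        rw [F.functor.map_smul, F.functor.map_id, F.functor.map_zero]
        apply ObjectProperty.hom_ext
        apply ModuleCat.hom_ext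
        refine LinearMap.ext fun w => ?_
        obtain ⟨b, rfl⟩ := exists_smul_E F w
        show a • b • (E F n).1 = 0
        rw [smul_comm, hz, smul_zero]
      exact congrArg (fun t : Qo (A := A) n ⟶ Qo n => t.hom.hom (q1 n)) (F.functor.map_injective h0)
    let e := LinearEquiv.ofBijective φ.hom.hom ⟨hinj, hsurj⟩
    let g : P ⟶ F.functor.obj X := ObjectProperty.homMk (ModuleCat.ofHom
      ((el (X := F.functor.obj X) n y fun a ha => killed_obj F h a ha y).hom.hom ∘ₗ e.symm.toLinearMap))
    obtain ⟨f, hf⟩ := F.functor.map_surjective g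
    refine ⟨f.hom.hom (q1 n), ?_⟩
    have h1 : el n (f.hom.hom (q1 n)) (fun a ha => h a ha _) = f := hom_ext_q1 (el_q1 _ _)
    show (F.functor.map _).hom.hom _ = y
    rw [h1, hf]
    show (el (X := F.functor.obj X) n y fun a ha => killed_obj F h a ha y).hom.hom
      (e.symm (E F n).1) = y
    have he : e.symm (E F n).1 = q1 n := by
      rw [LinearEquiv.symm_apply_eq]
      exact (el_q1 (X := P) (E F n).1 (fun a ha => killed_obj F (killed_Qo n) a ha _)).symm
    rw [he, el_q1]

/-- The components of the isomorphism `𝟭 ≅ F`. -/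
noncomputable def compIso (X : Dual.FinLen A) : X ≅ F.functor.obj X :=
  ObjectProperty.isoMk _ (LinearEquiv.toModuleIso
    (LinearEquiv.ofBijective (thetaL F _ (exists_killed X).choose_spec)
      (thetaL_bijective F _ (exists_killed X).choose_spec)))

/-- Over a Noetherian local ring A, an additive A-linear equivalence from the category of finite length
A-modules to itself is naturally isomorphic to the identity. -/
theorem result (A : Type u) [CommRing A] [IsLocalRing A] [IsNoetherianRing A] (F : Dual.FinLen A ≌ Dual.FinLen A) [F.functor.Additive] [F.functor.Linear A] : Nonempty (F.functor ≅ 𝟭 (Dual.FinLen A)) := by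
  refine ⟨(NatIso.ofComponents (F := 𝟭 (Dual.FinLen A)) (G := F.functor) (fun X => compIso F X) ?_).symm⟩
  intro X Y f
  apply ObjectProperty.hom_ext
  apply ModuleCat.hom_ext
  refine LinearMap.ext fun x => ?_
  show theta F _ (exists_killed Y).choose_spec (f.hom.hom x) =
    (F.functor.map f).hom.hom (theta F _ (exists_killed X).choose_spec x)
  have hX := killed_mono (exists_killed X).choose_spec
    (le_max_left (exists_killed X).choose (exists_killed Y).choose)
  have hY := killed_mono (exists_killed Y).choose_spec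
    (le_max_right (exists_killed X).choose (exists_killed Y).choose)
  rw [theta_indep' F hY (exists_killed Y).choose_spec,
    theta_indep' F hX (exists_killed X).choose_spec, theta_nat F f _ hX hY]

end Groth.Agent.S0362
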