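import Groth.Statements.S0363
import Groth.Agent.L04.Tor.DualTor
import Groth.Agent.L04.LC.GorCriterion

set_option autoImplicit false
universe u v
open CategoryTheory
open Goren

namespace Groth.Agent.S0363

/-- Over a Gorenstein local ring of dimension d with E an injective hull of the residue field κ,
Tor_i(E, κ) vanishes for i ≠ d and Tor_d(E, κ) is isomorphic to κ. -/
theorem result (A : Type u) [CommRing A] [LocCoh.IsGorensteinLocalRing A] (d : ℕ) (hd : ringKrullDim A = d) (E : Type u) [AddCommGroup E] [Module A E] (f : IsLocalRing.ResidueField A →ₗ[A] E) (hf : InjHull.IsInjectiveHull f) : (∀ i : ℕ, i ≠ d → Limits.IsZero (((Tor (ModuleCat.{u} A) i).obj (ModuleCat.of A E)).obj (ModuleCat.of A (IsLocalRing.ResidueField A)))) ∧ Nonempty ((((Tor (ModuleCat.{u} A) d).obj (ModuleCat.of A E)).obj (ModuleCat.of A (IsLocalRing.ResidueField A))) ≅ ModuleCat.of A (IsLocalRing.ResidueField A)) := by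

    obtain ⟨g, hg⟩ := Groth.Agent.S11665.result A d hd
    haveI := Groth.Agent.S0341.result A
    let m := IsLocalRing.maximalIdeal A
    let H := LocCoh.H m d A
    haveI : Module.Injective A E := hf.isInjective
    have hvan : ∀ j, j ≠ d → Subsingleton (LocCoh.H m j A) := fun j hj => by
      rcases Nat.lt_or_gt_of_ne hj with h | h
      · exact (Groth.L04.LC.le_idealDepth_iff_H m A d).1 (Groth.L04.Canon.depth_self hd).ge j h
      · refine Groth.L04.LC.subsingleton_H_of_supportDim_lt m A j ?_
        rw [Module.supportDim_self_eq_ringKrullDim, hd]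
        exact_mod_cast h
    have hk : LocCoh.IsPowerTorsion m (IsLocalRing.ResidueField A) := fun x => ⟨1, fun a ha => by
      rw [pow_one] at ha
      exact Groth.L04.smul_residueField_eq_zero ha x⟩
    have hsoc : ∀ (N : Type u) [AddCommGroup N] [Module A N] (h : IsLocalRing.ResidueField A →ₗ[A] N),
        InjHull.IsInjectiveHull h →
        Nonempty ((IsLocalRing.ResidueField A →ₗ[A] N) ≃ₗ[A] IsLocalRing.ResidueField A) := by
      intro N _ _ h hh
      haveI : IsSimpleModule A (IsLocalRing.ResidueField A) :=
        isSimpleModule_iff_isCoatom.2 (IsLocalRing.maximalIdeal.isMaximal A).out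
      haveI := IsSimpleModule.nontrivial A (IsLocalRing.ResidueField A)
      haveI : IsSimpleModule A (IsLocalRing.ResidueField A →ₗ[A] N) :=
        Module.length_eq_one_iff.1 (Groth.L04.length_hom_residueField hh)
      haveI := IsSimpleModule.nontrivial A (IsLocalRing.ResidueField A →ₗ[A] N)
      obtain ⟨φ, hφ⟩ := exists_ne (0 : IsLocalRing.ResidueField A →ₗ[A] N)
      let ev : IsLocalRing.ResidueField A →ₗ[A] (IsLocalRing.ResidueField A →ₗ[A] N) :=
        (IsLocalRing.maximalIdeal A).liftQ (LinearMap.toSpanSingleton A _ φ) (fun a ha => by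
          refine LinearMap.ext fun c => ?_
          change a • φ c = 0
          rw [← map_smul, Groth.L04.smul_residueField_eq_zero ha, map_zero])
      refine ⟨(LinearEquiv.ofBijective ev (LinearMap.bijective_of_ne_zero fun h0 => hφ ?_)).symm⟩
      have := LinearMap.congr_fun h0 (Submodule.Quotient.mk 1)
      exact ((one_smul A φ).symm.trans this)
    constructor
    · intro i hi
      obtain ⟨e⟩ := Groth.L04.DualTor.nonempty_tor_linearEquiv (R := A) E (IsLocalRing.ResidueField A) i
      haveI : Subsingleton (CategoryTheory.Abelian.Ext (ModuleCat.of A (IsLocalRing.ResidueField A)) (ModuleCat.of A A) i) := by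
        rcases Nat.lt_or_gt_of_ne hi with h | h
        · exact Groth.L04.LC.subsingleton_ext_of_H m d A (fun j hj => hvan j (by omega)) _ hk i h
        · exact Groth.L04.LC.subsingleton_ext_of_single_injective m d A hvan hg.isInjective _ hk i h
      refine @ModuleCat.isZero_of_subsingleton _ _ _ ?_
      exact e.toEquiv.subsingleton
    · obtain ⟨e⟩ := Groth.L04.DualTor.nonempty_tor_linearEquiv (R := A) E (IsLocalRing.ResidueField A) d
      obtain ⟨e1⟩ := Groth.L04.LC.nonempty_ext_equiv_hom_H m d A (fun j hj => hvan j (by omega)) _ hk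
      obtain ⟨e2⟩ := hsoc H g hg
      obtain ⟨e3⟩ := hsoc E f hf
      exact ⟨(e ≪≫ₗ LinearEquiv.congrLeft E A (e1 ≪≫ₗ e2) ≪≫ₗ e3).toModuleIso⟩

end Groth.Agent.S0363
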