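import Groth.Statements.S0370
import Groth.Agent.L29.Dual.DualizingModule

set_option autoImplicit false
universe u v
open CategoryTheory
attribute [local instance] HasDerivedCategory.standard
open Dual

namespace Groth.Agent.S0370

/-- A Noetherian ring admitting a finite module which, placed in degree 0, is a dualizing complex, is
Cohen–Macaulay. -/
theorem result (A : Type u) [CommRing A] [IsNoetherianRing A] (W : Type u) [AddCommGroup W] [Module A W] [Module.Finite A W] (h : Dual.IsDualizing A (Dual.inD A W)) : LocCoh.IsCohenMacaulayRing A := by
  exact ⟨fun p _ => by
    haveI : Module.Flat A (Localization.AtPrime p) := IsLocalization.flat _ p.primeCompl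
    exact ⟨Groth.L29.HomD.supportDim_eq_depth_of_dualizing_module _
      (Groth.L29.HomD.isDualizing_of_iso (Groth.L29.FlatBC.singleL (Localization.AtPrime p) W)
        (Groth.L29.FlatBC.isDualizing_L_localization p.primeCompl h))⟩⟩

end Groth.Agent.S0370
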