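import Groth.Statements.S0375
import Groth.Agent.L29.Dual.Normalized

set_option autoImplicit false
set_option backward.isDefEq.respectTransparency false
universe u v
open CategoryTheory
attribute [local instance] HasDerivedCategory.standard
open Dual

namespace Groth.Agent.S0375

/-- Over a Noetherian local ring of dimension 0, a normalized dualizing complex is isomorphic in D(A) to
an injective hull of the residue field placed in degree 0. -/
theorem result (A : Type u) [CommRing A] [IsLocalRing A] [IsNoetherianRing A] (h0 : ringKrullDim A = 0) (ω : Dual.D A) (hω : Dual.IsDualizing A ω) (hn : Dual.IsNormalized A ω) (E : Type u) [AddCommGroup E] [Module A E] (f : IsLocalRing.ResidueField A →ₗ[A] E) (hf : InjHull.IsInjectiveHull f) : Nonempty (ω ≅ Dual.inD A E) := by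
  haveI : Ring.KrullDimLE 0 A := Ring.krullDimLE_iff.2 (by rw [h0]; exact le_of_eq (by norm_num))
  haveI : IsArtinianRing A := IsNoetherianRing.isArtinianRing_of_krullDimLE_zero
  obtain ⟨k, hk⟩ := IsArtinianRing.isNilpotent_jacobson_bot (R := A)
  rw [IsLocalRing.jacobson_eq_maximalIdeal ⊥ bot_ne_top] at hk
  have hkill : ∀ a ∈ IsLocalRing.maximalIdeal A ^ k, ∀ x : A, a • x = 0 := fun a ha x => by
    rw [hk] at ha
    rw [Submodule.mem_bot _ |>.1 ha, zero_smul]
  obtain ⟨I, a, hGE, hinj, hK, hc, ⟨eI⟩, ⟨e⟩⟩ := Groth.L29.HomD.exists_gamma_hull hω hn f hf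
  have hz : ∀ i : ℤ, i ≠ 0 → Limits.IsZero ((DerivedCategory.homologyFunctor (ModuleCat.{u} A) i).obj ω) :=
    fun i hi => by
      haveI := Groth.L29.HomD.subsingleton_hom_of_kills hω hn A k hkill i hi
      haveI : Subsingleton (Dual.HD A ω i) :=
        (Groth.L29.HomD.evalShiftEquiv ω i).symm.toEquiv.subsingleton
      exact ModuleCat.isZero_of_subsingleton _
  haveI : DerivedCategory.IsGE ω 0 := (DerivedCategory.isGE_iff ω 0).2 fun i hi => hz i (by omega)
  haveI : DerivedCategory.IsLE ω 0 := (DerivedCategory.isLE_iff ω 0).2 fun i hi => hz i (by omega)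
  obtain ⟨eω⟩ := Groth.L10.exists_iso_single_H (A := ModuleCat.{u} A) ω 0
  obtain ⟨e2⟩ := Groth.L29.HomD.nonempty_hom_GH hinj a hc (ModuleCat.of A A) k hkill
  let eE : Dual.HD A ω 0 ≃ₗ[A] E := (Groth.L29.HomD.evalEquiv ω).symm ≪≫ₗ
    Linear.homCongr A (Iso.refl _) eI.symm ≪≫ₗ e2 ≪≫ₗ LinearEquiv.congrRight e ≪≫ₗ
    LinearMap.ringLmapEquivSelf A A E
  exact ⟨eω ≪≫ (DerivedCategory.singleFunctor (ModuleCat.{u} A) 0).mapIso eE.toModuleIso⟩

end Groth.Agent.S0375
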