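import Groth.Statements.S0382
import Groth.Agent.L08.MulEtale
import Mathlib.AlgebraicGeometry.Group.Abelian
import Mathlib.AlgebraicGeometry.Group.Smooth
import Mathlib.CategoryTheory.Monoidal.CommMon_

set_option autoImplicit false
universe u v
open CategoryTheory MonoidalCategory CartesianMonoidalCategory MonObj GrpObj AlgebraicGeometry
open GrpSch

namespace Groth.Agent.S0382
open Groth.L25.GrpDeriv CategoryTheory.Limits

/-- On an abelian variety of positive dimension over a field K (a proper, geometrically integral group
scheme over K), multiplication by an integer d is étale exactly when d is nonzero in K.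
Multiplication by d is written as the d-th power of the identity morphism in the group Hom(A, A),
whose multiplication is pointwise, induced by the group structure of A. -/
theorem result (K : Type u) [Field K] (A : Over (Spec (CommRingCat.of K))) [GrpObj A] [IsProper A.hom] [GeometricallyIntegral A.hom] (hA : 0 < topologicalKrullDim A.left) (d : ℤ) : Etale ((𝟙 A ^ d).left) ↔ ((d : K) ≠ 0) := by
  haveI hcomm : IsCommMonObj A := isCommMonObj_of_isProper_of_geometricallyIntegral A
  haveI hsm : Smooth A.hom :=
    haveI : GrpObj (Over.mk A.hom) := inferInstanceAs (GrpObj A)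
    smooth_of_grpObj A.hom
  constructor
  · intro hEt hd0
    haveI := hEt
    haveI : IsIntegral A.left := GeometricallyIntegral.isIntegral_of_subsingleton A.hom
    obtain ⟨A₀, _, _, uA, _, χA, B, _, _, uB, _, χB, φ, hχA, hχB, hφ, hcomp⟩ :=
      Groth.L08.MulEtale.exists_charts (G := A) d
    let jA : Spec (CommRingCat.of A₀) ⟶ A.left := uA.left
    let jB : Spec (CommRingCat.of B) ⟶ A.left := uB.left
    haveI : IsOpenImmersion jA := ‹IsOpenImmersion uA.left›
    haveI : IsOpenImmersion jB := ‹IsOpenImmersion uB.left›
    have hs : Spec.map (CommRingCat.ofHom φ.toRingHom) ≫ jA = jB ≫ (𝟙 A ^ d).left :=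
      congrArg (fun f => f.left) hφ
    haveI : Etale (Spec.map (CommRingCat.ofHom φ.toRingHom) ≫ jA) := by rw [hs]; infer_instance
    have hEφ : Etale (Spec.map (CommRingCat.ofHom φ.toRingHom)) := Etale.of_comp _ jA
    letI : Algebra A₀ B := φ.toRingHom.toAlgebra
    haveI : Algebra.Etale A₀ B :=
      RingHom.etale_algebraMap.1 ((HasRingHomProperty.Spec_iff (P := @Etale)).1 hEφ)
    haveI : IsScalarTower K A₀ B := IsScalarTower.of_algebraMap_eq fun r => (φ.commutes r).symm
    have hzero : ∀ w : B →ₗ[K] K, Groth.L08.EtalePoint.IsPtDer χB w → w = 0 := by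
      intro w hw
      have hres : Groth.L08.EtalePoint.IsPtDer χA (w.comp φ.toLinearMap) := by
        intro a b
        change w (φ (a * b)) = χA a * w (φ b) + χA b * w (φ a)
        rw [map_mul, hw, ← hcomp]
        rfl
      have h0 : w.comp φ.toLinearMap = 0 := by
        have h := Groth.L08.MulEtale.pt_comp_pow d hχB hφ hcomp w hw _ hres fun a => rfl
        refine Groth.L08.TangentUnit.pt_inj (u' := uA) χA hres (Groth.L08.TangentUnit.isPtDer_zero χA) ?_
        rw [h, Groth.L08.TangentUnit.pt_zero χA hχA, ← Groth.L08.TangentUnit.pt_zero χB hχB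
          (Groth.L08.TangentUnit.isPtDer_zero χB)]
        congr 1
        rw [hd0, zero_smul]
      letI : Algebra B K := χB.toRingHom.toAlgebra
      letI : Algebra A₀ K := (χB.comp φ).toRingHom.toAlgebra
      haveI : IsScalarTower A₀ B K := IsScalarTower.of_algebraMap_eq fun a => rfl
      let D : Derivation A₀ B K := Derivation.mk'
        { toFun := w
          map_add' := w.map_add
          map_smul' := fun a b => by
            have ha : w (φ a) = 0 := LinearMap.congr_fun h0 a
            rw [RingHom.id_apply, Algebra.smul_def, Algebra.smul_def]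
            change w (φ a * b) = χB (φ a) * w b
            rw [hw, ha, mul_zero, add_zero] }
        (fun a b => (hw a b).trans (by rw [Algebra.smul_def, Algebra.smul_def]; rfl))
      refine LinearMap.ext fun b => ?_
      calc w b = D.liftKaehlerDifferential (KaehlerDifferential.D A₀ B b) :=
            (Derivation.liftKaehlerDifferential_comp_D D b).symm
        _ = 0 := by rw [Subsingleton.elim (KaehlerDifferential.D A₀ B b) 0, map_zero]
    haveI : Nonempty (Spec (CommRingCat.of B)) :=
      ⟨(Groth.L25.GrpDeriv.spMap χB).left (IsLocalRing.closedPoint K)⟩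
    haveI : IsIntegral (Spec (CommRingCat.of B)) := isIntegral_of_isOpenImmersion jB
    haveI : IsDomain B := (affine_isIntegral_iff (CommRingCat.of B)).1 inferInstance
    haveI := Groth.L08.MulEtale.smooth_of_chart uB
    haveI : IsNoetherianRing B := Algebra.FiniteType.isNoetherianRing K B
    let P : Ideal B := RingHom.ker χB
    have hPP : P ≤ P * P := by
      intro b hb
      by_contra hb'
      have hne : Ideal.Quotient.mk (P * P) b ≠ 0 := fun e =>
        hb' (Ideal.Quotient.eq_zero_iff_mem.1 e)
      obtain ⟨θ, hθ⟩ := Module.Projective.exists_dual_ne_zero K hne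
      let w : B →ₗ[K] K := θ.comp ((Ideal.Quotient.mkₐ K (P * P)).toLinearMap -
        LinearMap.smulRight χB.toLinearMap (1 : B ⧸ (P * P)))
      have hw : Groth.L08.EtalePoint.IsPtDer χB w := by
        intro a c
        have e2 : ((Ideal.Quotient.mkₐ K (P * P)).toLinearMap -
            LinearMap.smulRight χB.toLinearMap (1 : B ⧸ (P * P))) (a * c) =
            χB a • ((Ideal.Quotient.mkₐ K (P * P)).toLinearMap -
              LinearMap.smulRight χB.toLinearMap (1 : B ⧸ (P * P))) c +
            χB c • ((Ideal.Quotient.mkₐ K (P * P)).toLinearMap -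
              LinearMap.smulRight χB.toLinearMap (1 : B ⧸ (P * P))) a := by
          have hmem : (a - algebraMap K B (χB a)) * (c - algebraMap K B (χB c)) ∈ P * P :=
            Ideal.mul_mem_mul (by simp [P, RingHom.mem_ker]) (by simp [P, RingHom.mem_ker])
          have e := (Ideal.Quotient.eq_zero_iff_mem (I := P * P)).2 hmem
          rw [map_mul, map_sub, map_sub, Ideal.Quotient.mk_algebraMap,
            Ideal.Quotient.mk_algebraMap] at e
          simp only [LinearMap.sub_apply, LinearMap.smulRight_apply, AlgHom.toLinearMap_apply,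
            map_mul, Ideal.Quotient.mkₐ_eq_mk, Algebra.smul_def]
          linear_combination e
        exact (congrArg θ e2).trans ((map_add θ _ _).trans
          (congrArg₂ (· + ·) (map_smul θ _ _) (map_smul θ _ _)))
      apply hθ
      have h := LinearMap.congr_fun (hzero w hw) b
      simpa [w, RingHom.mem_ker.1 hb] using h
    obtain ⟨r, hr, hrP⟩ := Submodule.exists_sub_one_mem_and_smul_eq_zero_of_fg_of_le_smul P P
      (IsNoetherian.noetherian P) hPP
    have hr0 : r ≠ 0 := by
      rintro rfl
      have : χB ((0 : B) - 1) = 0 := hr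
      simp at this
    have hPbot : ∀ b : B, χB b = 0 → b = 0 := fun b hb =>
      (mul_eq_zero.1 (hrP b hb)).resolve_left hr0
    have hfield : IsField B := by
      refine IsField.mk ⟨0, 1, zero_ne_one⟩ mul_comm fun {a} ha => ?_
      refine ⟨algebraMap K B (χB a)⁻¹, sub_eq_zero.1 (hPbot _ ?_)⟩
      rw [map_sub, map_mul, AlgHom.commutes, map_one]
      change χB a * (χB a)⁻¹ - 1 = 0
      rw [mul_inv_cancel₀ fun h => ha (hPbot a h), sub_self]
    letI := hfield.toField
    haveI : Subsingleton (Spec (CommRingCat.of B)) := inferInstanceAs (Subsingleton (PrimeSpectrum B))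
    have hone : Set.range jB = {Groth.L25.Component.one A} := by
      obtain ⟨z, hz⟩ := Groth.L08.MulEtale.one_mem_range uB χB hχB
      refine Set.eq_singleton_iff_unique_mem.2 ⟨⟨z, hz⟩, ?_⟩
      rintro _ ⟨y, rfl⟩
      rw [← hz, Subsingleton.elim y z]
      rfl
    have hclosed : IsClosed ({Groth.L25.Component.one A} : Set A.left) := by
      have hr : Set.range η[A].left = {Groth.L25.Component.one A} := by
        refine Set.eq_singleton_iff_unique_mem.2 ⟨⟨_, rfl⟩, ?_⟩
        rintro _ ⟨y, rfl⟩
        exact congrArg η[A].left (Subsingleton.elim (α := PrimeSpectrum K) _ _)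
      rw [← hr]
      exact η[A].left.isClosedEmbedding.isClosed_range
    have hopen : IsOpen ({Groth.L25.Component.one A} : Set A.left) := hone ▸ jB.isOpenEmbedding.isOpen_range
    have huniv : ({Groth.L25.Component.one A} : Set A.left) = Set.univ :=
      IsClopen.eq_univ ⟨hclosed, hopen⟩ ⟨_, rfl⟩
    haveI : Subsingleton A.left := ⟨fun a b => by
      have ha : a ∈ ({Groth.L25.Component.one A} : Set A.left) := huniv ▸ trivial
      have hb : b ∈ ({Groth.L25.Component.one A} : Set A.left) := huniv ▸ trivial
      exact ha.trans hb.symm⟩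
    haveI : Subsingleton (TopologicalSpace.IrreducibleCloseds A.left) := ⟨fun s t => by
      apply TopologicalSpace.IrreducibleCloseds.ext
      obtain ⟨a, ha⟩ := s.isIrreducible.nonempty
      obtain ⟨b, hb⟩ := t.isIrreducible.nonempty
      ext c
      exact ⟨fun _ => Subsingleton.elim b c ▸ hb, fun _ => Subsingleton.elim a c ▸ ha⟩⟩
    exact (lt_irrefl _) (hA.trans_le Order.krullDim_nonpos_of_subsingleton)
  · intro hd
    let L := AlgebraicClosure K
    let t := Spec.map (CommRingCat.ofHom (algebraMap K L))
    let A' := (Over.pullback t).obj A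
    letI : GrpObj A' := Functor.grpObjObj
    haveI : IsCommMonObj A' := inferInstanceAs (IsCommMonObj ((Over.pullback t).obj A))
    haveI : Smooth A'.hom := inferInstanceAs (Smooth (pullback.snd A.hom t))
    have hdL : (d : L) ≠ 0 := by
      rw [← map_intCast (algebraMap K L)]
      exact (map_ne_zero _).2 hd
    have hEt : Etale (𝟙 A' ^ d).left := Groth.L08.MulEtale.etale_pow_of_isAlgClosed d hdL
    have hmap : (Over.pullback t).map (𝟙 A ^ d) = 𝟙 A' ^ d := by
      change (Over.pullback t).homMonoidHom (𝟙 A ^ d) = _
      rw [map_zpow]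
      congr 1
      exact (Over.pullback t).map_id A
    rw [← hmap] at hEt
    have hsq : IsPullback ((Over.pullback t).map (𝟙 A ^ d)).left (pullback.fst A.hom t)
        (pullback.fst A.hom t) (𝟙 A ^ d).left := by
      have hw : ((Over.pullback t).map (𝟙 A ^ d)).left ≫ pullback.snd A.hom t =
          pullback.snd A.hom t := Over.w ((Over.pullback t).map (𝟙 A ^ d))
      have hf : ((Over.pullback t).map (𝟙 A ^ d)).left ≫ pullback.fst A.hom t =
          pullback.fst A.hom t ≫ (𝟙 A ^ d).left := pullback.lift_fst _ _ _
      refine IsPullback.of_right ?_ hf (IsPullback.of_hasPullback A.hom t).flip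
      rw [hw, Over.w]
      exact (IsPullback.of_hasPullback A.hom t).flip
    refine MorphismProperty.of_isPullback_of_descendsAlong (P := @Etale)
      (Q := @Surjective ⊓ @Flat ⊓ @QuasiCompact) hsq ?_ hEt
    exact ⟨⟨inferInstance, inferInstance⟩, inferInstance⟩

end Groth.Agent.S0382
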