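import Groth.Statements.S0392
import Groth.Agent.L20.Nilpotent
import Mathlib.RingTheory.Flat.FaithfullyFlat.Basic

set_option autoImplicit false
universe u
open FlatMor

namespace Groth.Agent.S0392

open TensorProduct in
/-- Fibrewise criterion of flatness, Noetherian local form: for local homomorphisms R → S → S' of
Noetherian local rings and a nonzero finite S'-module M that is flat over R and whose reduction
modulo the maximal ideal of R is flat over the corresponding fibre ring of S, the ring S is flat
over R and M is flat over S. -/
theorem result {R S S' M : Type u} [CommRing R] [CommRing S] [CommRing S'] [IsLocalRing R] [IsLocalRing S] [IsLocalRing S']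
    [IsNoetherianRing R] [IsNoetherianRing S] [IsNoetherianRing S'] [Algebra R S] [Algebra S S'] [Algebra R S'] [IsScalarTower R S S']
    [IsLocalHom (algebraMap R S)] [IsLocalHom (algebraMap S S')]
    [AddCommGroup M] [Module S' M] [Module S M] [Module R M] [IsScalarTower S S' M] [IsScalarTower R S M]
    [Module.Finite S' M] [Nontrivial M] [Module.Flat R M]
    (h : Module.Flat (S ⧸ ((IsLocalRing.maximalIdeal R).map (algebraMap R S))) ((S ⧸ ((IsLocalRing.maximalIdeal R).map (algebraMap R S))) ⊗[S] M)) :
    Module.Flat R S ∧ Module.Flat S M := by
  have hm := h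
  set n := (IsLocalRing.maximalIdeal R).map (algebraMap R S) with hn
  have h1 : Function.Injective ((n.subtype).lTensor M) := by
    rw [LinearMap.lTensor_inj_iff_rTensor_inj]
    exact Groth.L20.rTensor_map_injective_of_flat _
  have hne : n ≠ ⊤ := by
    intro htop
    have h2 : n ≤ Ideal.jacobson ⊥ := Groth.L20.map_maximalIdeal_le_jacobson
    rw [htop, IsLocalRing.jacobson_eq_maximalIdeal ⊥ bot_ne_top, top_le_iff] at h2
    exact (IsLocalRing.maximalIdeal.isMaximal S).ne_top h2
  have hflat : Module.Flat S M := Groth.L20.flat_of_lTensor_injective_of_flat_quotient S' n hne h1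
  refine ⟨?_, hflat⟩
  have : Module.FaithfullyFlat S M := by
    refine ⟨fun {m} hmax htop => ?_⟩
    obtain rfl := IsLocalRing.eq_maximalIdeal hmax
    have hle : (⊤ : Submodule S' M) ≤ (IsLocalRing.maximalIdeal S).map (algebraMap S S') • ⊤ := by
      intro x _
      exact Groth.L20.smul_top_le_map_smul_top _ (by rw [htop]; exact Submodule.mem_top)
    exact top_ne_bot (Submodule.eq_bot_of_le_smul_of_le_jacobson_bot _ (⊤ : Submodule S' M)
      Module.Finite.fg_top hle Groth.L20.map_maximalIdeal_le_jacobson)
  rw [Module.Flat.iff_lTensor_injective']
  intro I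
  have hf : ⇑((Submodule.subtype I).lTensor S) = ⇑((Submodule.subtype I).baseChange S) := rfl
  rw [hf, ← Module.FaithfullyFlat.lTensor_injective_iff_injective S M]
  have hR : Function.Injective ((Submodule.subtype I).lTensor M) :=
    Module.Flat.lTensor_preserves_injective_linearMap _ Subtype.val_injective
  intro x y hxy
  obtain ⟨x, rfl⟩ := (TensorProduct.AlgebraTensorModule.cancelBaseChange R S S M I).symm.surjective x
  obtain ⟨y, rfl⟩ := (TensorProduct.AlgebraTensorModule.cancelBaseChange R S S M I).symm.surjective y
  have key : ∀ z : M ⊗[R] I, TensorProduct.AlgebraTensorModule.cancelBaseChange R S S M R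
      (((Submodule.subtype I).baseChange S).lTensor M
        ((TensorProduct.AlgebraTensorModule.cancelBaseChange R S S M I).symm z)) =
      (Submodule.subtype I).lTensor M z := by
    intro z
    induction z using TensorProduct.induction_on with
    | zero => simp only [map_zero]
    | add a b ha hb => simp only [map_add, ha, hb]
    | tmul m i => simp
  congr 1
  apply hR
  rw [← key, ← key, hxy]

end Groth.Agent.S0392
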