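import Groth.Statements.S0394
import Groth.Agent.L20.UnivInj

set_option autoImplicit false
universe u
open FlatMor

namespace Groth.Agent.S0394

open TensorProduct in
/-- For a local homomorphism R → S of Noetherian local rings and a nonzero finite S-module M flat over R
whose fibre M/mM is free over S/mS (m the maximal ideal of R), M is free over S and S is flat over
R. -/
theorem result {R S M : Type u} [CommRing R] [CommRing S] [IsLocalRing R] [IsLocalRing S] [IsNoetherianRing R] [IsNoetherianRing S] [Algebra R S] [IsLocalHom (algebraMap R S)]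
    [AddCommGroup M] [Module R M] [Module S M] [IsScalarTower R S M] [Module.Finite S M] [Nontrivial M] [Module.Flat R M]
    (h : Module.Free (S ⧸ ((IsLocalRing.maximalIdeal R).map (algebraMap R S))) ((S ⧸ ((IsLocalRing.maximalIdeal R).map (algebraMap R S))) ⊗[S] M)) :
    Module.Free S M ∧ Module.Flat R S := by
  set J := (IsLocalRing.maximalIdeal R).map (algebraMap R S) with hJ
  have : Nontrivial (S ⧸ J) := Ideal.Quotient.nontrivial_iff.mpr (fun htop => by
    have h1 : J ≤ Ideal.jacobson ⊥ := Groth.L20.map_maximalIdeal_le_jacobson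
    rw [htop, IsLocalRing.jacobson_eq_maximalIdeal ⊥ bot_ne_top, top_le_iff] at h1
    exact (IsLocalRing.maximalIdeal.isMaximal S).ne_top h1)
  have hjac : J ≤ Ideal.jacobson ⊥ := Groth.L20.map_maximalIdeal_le_jacobson
  let b := Module.Free.chooseBasis (S ⧸ J) ((S ⧸ J) ⊗[S] M)
  choose v hv using fun i => TensorProduct.mk_surjective S M (S ⧸ J) Ideal.Quotient.mk_surjective (b i)
  let φ : ((Module.Free.ChooseBasisIndex (S ⧸ J) ((S ⧸ J) ⊗[S] M)) → S) →ₗ[S] M :=
    Fintype.linearCombination S v
  have hcoord : ∀ c, (TensorProduct.mk S (S ⧸ J) M 1) (φ c) =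
      Fintype.linearCombination (S ⧸ J) b (fun i => Ideal.Quotient.mk J (c i)) := by
    intro c
    simp only [φ, Fintype.linearCombination_apply, map_sum, map_smul, hv]
    refine Finset.sum_congr rfl fun i _ => ?_
    rw [← Ideal.Quotient.algebraMap_eq, algebraMap_smul]
  have key : IsLocalRing.maximalIdeal R • (⊤ : Submodule R M) = (J • (⊤ : Submodule S M)).restrictScalars R := by
    rw [Ideal.smul_restrictScalars, Submodule.restrictScalars_top]
  have hsurj : Function.Surjective φ := by
    rw [← LinearMap.range_eq_top]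
    refine top_le_iff.mp (Submodule.le_of_le_smul_of_le_jacobson_bot (I := J) Module.Finite.fg_top hjac ?_)
    intro x _
    obtain ⟨c, hc⟩ : ∃ c, Fintype.linearCombination (S ⧸ J) b c = (TensorProduct.mk S (S ⧸ J) M 1) x :=
      ⟨b.repr ((TensorProduct.mk S (S ⧸ J) M 1) x), by
        rw [Fintype.linearCombination_apply, b.sum_repr]⟩
    choose c' hc' using fun i => Ideal.Quotient.mk_surjective (c i)
    obtain rfl : (fun i => Ideal.Quotient.mk J (c' i)) = c := funext hc'
    rw [← hcoord] at hc
    have h0 : x - φ c' ∈ J • (⊤ : Submodule S M) := by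
      rw [← Submodule.Quotient.mk_eq_zero, ← TensorProduct.quotTensorEquivQuotSMul_mk_one_tmul]
      rw [LinearEquiv.map_eq_zero_iff, TensorProduct.tmul_sub]
      exact sub_eq_zero.mpr hc.symm
    exact Submodule.mem_sup.mpr ⟨φ c', ⟨c', rfl⟩, x - φ c', h0, by abel⟩
  have hinjmod : Function.Injective ((φ.restrictScalars R).lTensor (IsLocalRing.ResidueField R)) := by
    rw [Groth.L20.injective_lTensor_residueField_iff, key]
    intro c hc
    rw [Submodule.restrictScalars_mem, LinearMap.restrictScalars_apply] at hc
    have h0 : (TensorProduct.mk S (S ⧸ J) M 1) (φ c) = 0 := by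
      rw [← (TensorProduct.quotTensorEquivQuotSMul M J).map_eq_zero_iff, TensorProduct.mk_apply,
        TensorProduct.quotTensorEquivQuotSMul_mk_one_tmul, Submodule.Quotient.mk_eq_zero]
      exact hc
    rw [hcoord] at h0
    have hc0 : ∀ i, c i ∈ J := fun i => by
      rw [← Ideal.Quotient.eq_zero_iff_mem]
      exact Fintype.linearIndependent_iff.mp b.linearIndependent _ h0 i
    classical
    rw [← Finset.univ_sum_single c]
    refine sum_mem fun i _ => ?_
    have hi : c i ∈ IsLocalRing.maximalIdeal R • (⊤ : Submodule R S) := by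
      rw [Ideal.smul_top_eq_map]
      exact hc0 i
    have := Submodule.mem_map_of_mem (f := (LinearMap.single S (fun _ => S) i).restrictScalars R) hi
    rw [Submodule.map_smul''] at this
    exact Submodule.smul_mono le_rfl le_top this
  have hinj := Groth.L20.injective_of_lTensor_self (φ.restrictScalars R)
    (Groth.L20.lTensor_injective_of_residueField S (φ.restrictScalars R) hinjmod R)
  let e := LinearEquiv.ofBijective φ ⟨hinj, hsurj⟩
  refine ⟨Module.Free.of_equiv e, ?_⟩
  obtain ⟨i⟩ : Nonempty (Module.Free.ChooseBasisIndex (S ⧸ J) ((S ⧸ J) ⊗[S] M)) := by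
    by_contra hne
    rw [not_nonempty_iff] at hne
    exact not_subsingleton M e.symm.injective.subsingleton
  classical
  refine Module.Flat.of_retract (f := inferInstance)
    ((e.toLinearMap ∘ₗ LinearMap.single S (fun _ => S) i).restrictScalars R)
    ((LinearMap.proj i ∘ₗ e.symm.toLinearMap).restrictScalars R) ?_
  ext
  simp

end Groth.Agent.S0394
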