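import Groth.Statements.S0397
import Groth.Agent.L20.Nilpotent

set_option autoImplicit false
universe u
open FlatMor

namespace Groth.Agent.S0397

/-- Over a local ring whose maximal ideal is nilpotent, every flat module (not necessarily finitely
generated) is free. -/
theorem result {R M : Type u} [CommRing R] [IsLocalRing R] (hR : IsNilpotent (IsLocalRing.maximalIdeal R))
    [AddCommGroup M] [Module R M] [Module.Flat R M] : Module.Free R M := by
  obtain ⟨ι, φ, hsurj, hker⟩ := Groth.L20.exists_free_cover (M := M) hR
  have h : Function.Injective (φ.lTensor (IsLocalRing.ResidueField R)) :=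
    (Groth.L20.injective_lTensor_residueField_iff φ).mpr hker
  have hinj := Groth.L20.injective_of_lTensor_self φ (Groth.L20.lTensor_injective_of_projective φ h R)
  exact Module.Free.of_equiv (LinearEquiv.ofBijective φ ⟨hinj, hsurj⟩)

end Groth.Agent.S0397
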