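import Groth.Statements.S0398
import Groth.Agent.L20.Nilpotent
import Mathlib.RingTheory.Artinian.Module
import Mathlib.RingTheory.Artinian.Ring

set_option autoImplicit false
universe u
open FlatMor

namespace Groth.Agent.S0398

open TensorProduct in
/-- For an injective ring map R → S with R Artinian and an R-module M, if S ⊗ M is flat over S then M is
flat over R. -/
theorem result {R S M : Type u} [CommRing R] [CommRing S] [IsArtinianRing R] [Algebra R S] (hinj : Function.Injective (algebraMap R S))
    [AddCommGroup M] [Module R M] [Module.Flat S (S ⊗[R] M)] : Module.Flat R M := by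
  apply Module.flat_of_localized_maximal
  intro P _
  suffices Module.Flat (Localization.AtPrime P) (LocalizedModule P.primeCompl M) from
    (Module.flat_iff_of_isLocalization (Localization.AtPrime P) P.primeCompl _).mp this
  let Rp := Localization.AtPrime P
  let A := Rp ⊗[R] S
  let _ : Algebra S A := Algebra.TensorProduct.rightAlgebra
  have : IsScalarTower R S A := Algebra.TensorProduct.right_isScalarTower
  let e : LocalizedModule P.primeCompl M ≃ₗ[Rp] Rp ⊗[R] M :=
    (IsLocalizedModule.isBaseChange P.primeCompl Rp (LocalizedModule.mkLinearMap P.primeCompl M)).equiv.symm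
  suffices Module.Flat Rp (Rp ⊗[R] M) from Module.Flat.of_linearEquiv e
  have : FaithfulSMul Rp A := by
    refine (faithfulSMul_iff_algebraMap_injective Rp A).mpr ?_
    have := Module.Flat.lTensor_preserves_injective_linearMap (M := Rp) (Algebra.linearMap R S) hinj
    intro x y hxy
    have h1 : (Algebra.linearMap R S).lTensor Rp (x ⊗ₜ[R] (1 : R)) =
        (Algebra.linearMap R S).lTensor Rp (y ⊗ₜ[R] (1 : R)) := by
      rw [LinearMap.lTensor_tmul, LinearMap.lTensor_tmul, Algebra.linearMap_apply, map_one]
      exact hxy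
    simpa using congrArg (TensorProduct.rid R Rp) (this h1)
  let e1 : A ⊗[Rp] (Rp ⊗[R] M) ≃ₗ[A] A ⊗[R] M :=
    TensorProduct.AlgebraTensorModule.cancelBaseChange R Rp A A M
  let e2 : A ⊗[S] (S ⊗[R] M) ≃ₗ[A] A ⊗[R] M :=
    TensorProduct.AlgebraTensorModule.cancelBaseChange R S A A M
  have : Module.Flat A (A ⊗[Rp] (Rp ⊗[R] M)) := Module.Flat.of_linearEquiv (e1 ≪≫ₗ e2.symm)
  have hnil : IsNilpotent (IsLocalRing.maximalIdeal Rp) := by
    have h := IsArtinianRing.isNilpotent_jacobson_bot (R := Rp)
    rwa [IsLocalRing.jacobson_eq_maximalIdeal ⊥ bot_ne_top] at h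
  obtain ⟨ι, φ, hsurj, hker⟩ := Groth.L20.exists_free_cover (M := Rp ⊗[R] M) hnil
  have hbij : Function.Bijective φ := by
    refine ⟨?_, hsurj⟩
    rw [injective_iff_map_eq_zero]
    intro x hx
    apply Module.Flat.tensorProduct_mk_injective (R := Rp) (S := A) (M := ι →₀ Rp)
    rw [map_zero]
    exact Groth.L20.baseChange_relations_eq_zero (A := A) _ hnil φ hsurj
      (fun y hy => hker y (by rw [hy]; exact zero_mem _)) x hx
  exact Module.Flat.of_linearEquiv (LinearEquiv.ofBijective φ hbij).symm

end Groth.Agent.S0398
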