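import Groth.Statements.S0399
import Groth.Agent.L20.UnivInj
import Mathlib.RingTheory.Flat.Localization

set_option autoImplicit false
universe u
open FlatMor

namespace Groth.Agent.S0399

theorem exists_smul_eq_of_mem {A : Type u} [CommRing A] {X : Type u} [AddCommGroup X] [Module A X] (f : A)
    {x : X} (hx : x ∈ Ideal.span {f} • (⊤ : Submodule A X)) : ∃ y, f • y = x := by
  rw [Submodule.ideal_span_singleton_smul, Submodule.mem_smul_pointwise_iff_exists] at hx
  obtain ⟨y, -, hy⟩ := hx
  exact ⟨y, hy⟩

open TensorProduct in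
theorem smul_eq_zero_aux {A : Type u} [CommRing A] {M : Type u} [AddCommGroup M] [Module A M] (f : A)
    [Module.Flat (A ⧸ Ideal.span {f}) ((A ⧸ Ideal.span {f}) ⊗[A] M)]
    {F J : Type u} [AddCommGroup F] [Module A F] [AddCommGroup J] [Module A J]
    (π : F →ₗ[A] J) (hπ : Function.Surjective π) (hfj : ∀ j : J, f • j = 0 → j = 0)
    (hreg : Function.Injective (fun y : M ⊗[A] F => f • y))
    (z : M ⊗[A] J) (hz : f • z = 0) : z = 0 := by
  obtain ⟨w, rfl⟩ := LinearMap.lTensor_surjective M hπ z
  rw [← map_smul] at hz
  obtain ⟨v, hv⟩ := Groth.L20.mem_range_lTensor_of_exact (A := LinearMap.ker π)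
    (LinearMap.exact_subtype_ker_map π) hπ hz
  let KK := LinearMap.ker π
  let I := Ideal.span {f}
  let L : Submodule A KK := I • ⊤
  let LF : Submodule A F := I • ⊤
  let ι := KK.subtype
  have hle : L ≤ Submodule.comap ι LF := by
    rw [← Submodule.map_le_iff_le_comap, Submodule.map_smul'']
    exact Submodule.smul_mono le_rfl le_top
  let ιbar : (KK ⧸ L) →ₗ[A] F ⧸ LF := Submodule.mapQ L LF ι hle
  have hinj : Function.Injective ιbar := by
    rw [injective_iff_map_eq_zero]
    intro x hx
    obtain ⟨⟨x, hxK⟩, rfl⟩ := L.mkQ_surjective x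
    have hxK' : π x = 0 := hxK
    obtain ⟨y, hy⟩ := exists_smul_eq_of_mem f ((Submodule.Quotient.mk_eq_zero LF).mp hx)
    have hyK : y ∈ KK := hfj _ (by rw [← map_smul, hy]; exact hxK')
    rw [Submodule.mkQ_apply, Submodule.Quotient.mk_eq_zero,
      show (⟨x, hxK⟩ : KK) = f • ⟨y, hyK⟩ from Subtype.ext hy.symm]
    exact Submodule.smul_mem_smul (Ideal.mem_span_singleton_self f) trivial
  have hinjT : Function.Injective (ιbar.lTensor M) := by
    rw [LinearMap.lTensor_inj_iff_rTensor_inj]
    refine Groth.L20.rTensor_injective_of_killed I (fun a ha x => ?_) ιbar hinj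
    obtain ⟨x, rfl⟩ := LF.mkQ_surjective x
    rw [← map_smul, Submodule.mkQ_apply, Submodule.Quotient.mk_eq_zero]
    exact Submodule.smul_mem_smul ha trivial
  have hv0 : L.mkQ.lTensor M v = 0 := by
    apply hinjT
    rw [map_zero, ← LinearMap.lTensor_comp_apply, show ιbar ∘ₗ L.mkQ = LF.mkQ ∘ₗ ι from rfl,
      LinearMap.lTensor_comp_apply]
    change LF.mkQ.lTensor M (ι.lTensor M v) = 0
    rw [hv]
    change LF.mkQ.lTensor M (f • w) = 0
    clear hv hz
    induction w using TensorProduct.induction_on with
    | zero => simp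
    | add a b ha hb => rw [smul_add, map_add, ha, hb, add_zero]
    | tmul m x =>
      rw [← TensorProduct.tmul_smul, LinearMap.lTensor_tmul, Submodule.mkQ_apply,
        (Submodule.Quotient.mk_eq_zero LF).mpr
          (Submodule.smul_mem_smul (Ideal.mem_span_singleton_self f) trivial), TensorProduct.tmul_zero]
  obtain ⟨v', hv'⟩ := Groth.L20.mem_range_lTensor_of_exact (A := L)
    (LinearMap.exact_subtype_mkQ L) L.mkQ_surjective hv0
  have hv'' : v ∈ I • (⊤ : Submodule A (M ⊗[A] KK)) :=
    Groth.L20.range_lTensor_smul_top_le _ ⟨v', hv'⟩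
  obtain ⟨u, rfl⟩ := exists_smul_eq_of_mem f hv''
  have hwu : w = ι.lTensor M u := hreg (by
    change f • w = f • _
    rw [← hv, map_smul])
  rw [hwu, ← LinearMap.lTensor_comp_apply, LinearMap.comp_ker_subtype, LinearMap.lTensor_zero,
    LinearMap.zero_apply]

open TensorProduct in
/-- For a ring A, a module M and an element f that is a nonzerodivisor on A and on M, if M_f is flat
over A_f and M/fM is flat over A/fA then M is flat over A (the source's companion statement for
faithful flatness is not stated). -/
theorem result {A M : Type u} [CommRing A] [AddCommGroup M] [Module A M] (f : A) (hA : f ∈ nonZeroDivisors A) (hM : IsSMulRegular M f)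
    [Module.Flat (Localization.Away f) (LocalizedModule (Submonoid.powers f) M)]
    [Module.Flat (A ⧸ Ideal.span {f}) ((A ⧸ Ideal.span {f}) ⊗[A] M)] : Module.Flat A M := by
  rw [Module.Flat.iff_lTensor_injective']
  intro J
  rw [injective_iff_map_eq_zero]
  intro z hz
  have hloc : Module.Flat A (LocalizedModule (Submonoid.powers f) M) :=
    (Module.flat_iff_of_isLocalization (Localization.Away f) (Submonoid.powers f) _).mp inferInstance
  let g := LocalizedModule.mkLinearMap (Submonoid.powers f) M
  have hg : g.rTensor J z = 0 := by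
    apply Module.Flat.lTensor_preserves_injective_linearMap (M := LocalizedModule (Submonoid.powers f) M)
      (Submodule.subtype J) Subtype.val_injective
    rw [map_zero, ← Groth.L20.tensor_swap, hz, map_zero]
  obtain ⟨⟨t, n, rfl⟩, ht⟩ :=
    (IsLocalizedModule.eq_zero_iff (Submonoid.powers f)
      (TensorProduct.AlgebraTensorModule.rTensor A J g)).mp hg
  change f ^ n • z = 0 at ht
  suffices htf : ∀ z : M ⊗[A] J, f • z = 0 → z = 0 by
    clear hg hz
    induction n generalizing z with
    | zero => simpa using ht
    | succ n ih => exact htf z (ih (f • z) (by rw [smul_smul, ← pow_succ, ht]))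
  clear ht hg hz z
  intro z hz
  classical
  let π : (J →₀ A) →ₗ[A] J := Finsupp.linearCombination A id
  have hπ : Function.Surjective π := fun j => ⟨Finsupp.single j 1, by
    change Finsupp.linearCombination A id (Finsupp.single j 1) = j
    rw [Finsupp.linearCombination_single, one_smul]; rfl⟩
  refine smul_eq_zero_aux f π hπ ?_ ?_ z hz
  · rintro ⟨j, hj⟩ h0
    refine Subtype.ext (mem_nonZeroDivisors_iff_left.mp hA j ?_)
    simpa using congrArg Subtype.val h0
  · intro a b hab
    apply (TensorProduct.finsuppScalarRight A A M J).injective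
    ext1 i
    apply hM
    change f • _ = f • _
    rw [← Finsupp.smul_apply, ← map_smul, ← Finsupp.smul_apply, ← map_smul]
    exact congrArg (fun t => TensorProduct.finsuppScalarRight A A M J t i) hab

end Groth.Agent.S0399
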