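import Groth.Statements.S0401
import Mathlib.RingTheory.QuasiFinite.Basic
import Mathlib.RingTheory.Ideal.Height

set_option autoImplicit false
set_option maxSynthPendingDepth 3
set_option linter.style.haveILetI false
universe u
open FlatMor

namespace Groth.Agent.S0401

/-- For a finite type ring map R → S quasi-finite at a prime q lying over p, the dimension of S_q is at
most the dimension of R_p. -/
theorem result {R S : Type u} [CommRing R] [CommRing S] [Algebra R S] [Algebra.FiniteType R S] (q : Ideal S) [q.IsPrime] [Algebra.QuasiFiniteAt R q] :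
    ringKrullDim (Localization.AtPrime q) ≤ ringKrullDim (Localization.AtPrime (q.under R)) := by
  haveI : Algebra.QuasiFinite R (Localization.AtPrime q) := inferInstance
  have h1 : ∀ Q : PrimeSpectrum (Localization.AtPrime q),
      PrimeSpectrum.comap (algebraMap S (Localization.AtPrime q)) Q ≤ ⟨q, inferInstance⟩ := fun Q => by
    intro r hr
    by_contra hr'
    exact Q.2.ne_top (Ideal.eq_top_of_isUnit_mem _ hr
      (IsLocalization.map_units (Localization.AtPrime q) (⟨r, hr'⟩ : q.primeCompl)))
  let g : PrimeSpectrum (Localization.AtPrime q) → Set.Iic (⟨q.under R, inferInstance⟩ : PrimeSpectrum R) := fun Q =>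
    ⟨PrimeSpectrum.comap (algebraMap R S) (PrimeSpectrum.comap (algebraMap S (Localization.AtPrime q)) Q),
      Ideal.comap_mono (h1 Q)⟩
  have hg : StrictMono g := by
    intro P Q hPQ
    refine lt_of_le_of_ne (Ideal.comap_mono (Ideal.comap_mono hPQ.le)) fun h => hPQ.ne ?_
    have h' : P.asIdeal.under R = Q.asIdeal.under R := by
      have := congrArg (fun x : Set.Iic (⟨q.under R, inferInstance⟩ : PrimeSpectrum R) => x.1.asIdeal) h
      simpa [g, Ideal.under, Ideal.comap_comap, ← IsScalarTower.algebraMap_eq] using this
    exact PrimeSpectrum.ext (Algebra.QuasiFinite.eq_of_le_of_under_eq (R := R) P.asIdeal Q.asIdeal hPQ.le h')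
  refine (Order.krullDim_le_of_strictMono g hg).trans (le_of_eq ?_)
  rw [← Order.height_eq_krullDim_Iic, ← PrimeSpectrum.height_eq_orderHeight]
  exact (IsLocalization.AtPrime.ringKrullDim_eq_height (q.under R) (Localization.AtPrime (q.under R))).symm

end Groth.Agent.S0401
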