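import Groth.Statements.S0407
import Groth.Agent.L20.RG.InjModUniv
import Groth.Agent.L20.RG.InjModChain

set_option autoImplicit false
set_option linter.style.haveILetI false
set_option backward.isDefEq.respectTransparency.types false
universe u
open TensorProduct IsLocalRing
open FlatMor

set_option backward.isDefEq.respectTransparency.types false
namespace Groth.Agent.S0407
set_option maxHeartbeats 1000000

open TensorProduct in
/-- For a local homomorphism A → B essentially of finite type, a flat A-module M, a finite B-module N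
and an A-linear map u from N to M that is injective modulo the maximal ideal of A: u is universally
injective over A, N is finitely presented over B and N is flat over A (no Noetherian hypothesis). -/
theorem result {A B M N : Type u} [CommRing A] [CommRing B] [IsLocalRing A] [IsLocalRing B] [Algebra A B] [IsLocalHom (algebraMap A B)] [Algebra.EssFiniteType A B]
    [AddCommGroup M] [Module A M] [Module.Flat A M]
    [AddCommGroup N] [Module A N] [Module B N] [IsScalarTower A B N] [Module.Finite B N]
    (u : N →ₗ[A] M) (h : Function.Injective (LinearMap.lTensor (IsLocalRing.ResidueField A) u)) :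
    (∀ (Q : Type u) [AddCommGroup Q] [Module A Q], Function.Injective (LinearMap.rTensor Q u)) ∧
      Module.FinitePresentation B N ∧ Module.Flat A N := by
  classical
  let S₀ := Algebra.EssFiniteType.subalgebra A B
  let T₀ := Algebra.EssFiniteType.submonoid A B
  haveI : IsLocalization T₀ B := Algebra.EssFiniteType.isLocalization A B
  obtain ⟨n, φ, hφ⟩ := Algebra.FiniteType.iff_quotient_mvPolynomial''.mp (inferInstance : Algebra.FiniteType A S₀)
  let P := MvPolynomial (Fin n) A
  letI : Algebra P B := ((algebraMap S₀ B).comp φ.toRingHom).toAlgebra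
  haveI : IsScalarTower A P B := IsScalarTower.of_algebraMap_eq fun a => by
    show _ = algebraMap S₀ B (φ (algebraMap A P a))
    rw [φ.commutes, ← IsScalarTower.algebraMap_apply]
  let q : Ideal P := (maximalIdeal B).comap (algebraMap P B)
  haveI : q.LiesOver (maximalIdeal A) := ⟨by
    rw [Ideal.under_def, Ideal.comap_comap, ← IsScalarTower.algebraMap_eq, IsLocalRing.maximalIdeal_comap]⟩
  have hunit : ∀ s : q.primeCompl, IsUnit (algebraMap P B (s : P)) := fun s =>
    IsLocalRing.notMem_maximalIdeal.mp s.2
  let C := Localization.AtPrime q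
  letI : Algebra C B := (IsLocalization.lift hunit).toAlgebra
  haveI : IsScalarTower P C B := IsScalarTower.of_algebraMap_eq fun x => (IsLocalization.lift_eq hunit x).symm
  have hsurj : Function.Surjective (algebraMap C B) := fun b => by
    obtain ⟨⟨s, t⟩, hb⟩ := IsLocalization.surj T₀ b
    obtain ⟨x, rfl⟩ := hφ s
    obtain ⟨y, hy⟩ := hφ t
    have ht : y ∉ q := fun h => by
      refine (IsLocalRing.mem_maximalIdeal _).mp (show algebraMap P B y ∈ maximalIdeal B from h) ?_
      show IsUnit (algebraMap S₀ B (φ y))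
      rw [hy]
      exact IsLocalization.map_units B t
    refine ⟨IsLocalization.mk' C x (⟨y, ht⟩ : q.primeCompl), ?_⟩
    refine (hunit ⟨y, ht⟩).mul_left_cancel (a := algebraMap P B y) ?_
    have h1 : algebraMap P C y * IsLocalization.mk' C x (⟨y, ht⟩ : q.primeCompl) = algebraMap P C x :=
      IsLocalization.mk'_spec' C x (⟨y, ht⟩ : q.primeCompl)
    rw [IsScalarTower.algebraMap_apply P C B y, ← map_mul, h1, ← IsScalarTower.algebraMap_apply,
      ← IsScalarTower.algebraMap_apply,
      show algebraMap P B x = algebraMap S₀ B (φ x) from rfl, ← hb,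
      show algebraMap P B y = algebraMap S₀ B (φ y) from rfl, hy, mul_comm]
  letI : Module P N := Module.compHom N (algebraMap P B)
  haveI : IsScalarTower P B N := IsScalarTower.of_algebraMap_smul fun _ _ => rfl
  haveI : IsScalarTower A P N := IsScalarTower.of_algebraMap_smul fun a x => by
    show algebraMap P B (algebraMap A P a) • x = a • x
    rw [← IsScalarTower.algebraMap_apply, algebraMap_smul]
  letI : Module C N := Module.compHom N (algebraMap C B)
  haveI : IsScalarTower C B N := IsScalarTower.of_algebraMap_smul fun _ _ => rfl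
  haveI : IsScalarTower P C N := IsScalarTower.of_algebraMap_smul fun r x => by
    show algebraMap C B (algebraMap P C r) • x = algebraMap P B r • x
    rw [← IsScalarTower.algebraMap_apply]
  obtain ⟨k, π₀, hπ₀⟩ := Module.Finite.exists_fin' B N
  let π : (Fin k → P) →ₗ[P] N := (π₀.restrictScalars P).comp ((Algebra.linearMap P B).compLeft (Fin k))
  have hgen : ∀ x : N, ∃ t : q.primeCompl, ∃ v, π v = (t : P) • x := by
    intro x
    obtain ⟨w, rfl⟩ := hπ₀ x
    choose c hc using fun i => hsurj (w i)
    obtain ⟨t, ht⟩ := IsLocalization.exist_integer_multiples_of_finite q.primeCompl c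
    choose v hv using ht
    refine ⟨t, v, ?_⟩
    show π₀ (fun i => algebraMap P B (v i)) = (t : P) • π₀ w
    rw [← LinearMap.map_smul_of_tower π₀ (t : P) w]
    congr 1
    funext i
    rw [IsScalarTower.algebraMap_apply P C B, hv i, Pi.smul_apply, ← hc i, Algebra.smul_def, Algebra.smul_def, map_mul,
      ← IsScalarTower.algebraMap_apply]
  -- finitely many relations, generating modulo the maximal ideal
  let m := maximalIdeal A
  let Q₀ := (Fin k → P) ⧸ (m • (⊤ : Submodule A (Fin k → P)))
  let mP : Submodule P (Fin k → P) := m.map (algebraMap A P) • ⊤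
  obtain ⟨G, hGker, hG⟩ : ∃ G : Finset (Fin k → P), (∀ v ∈ G, π v = 0) ∧
      LinearMap.ker π ≤ Submodule.span P (G : Set (Fin k → P)) ⊔ mP := by
    let PK := P ⧸ m.map (algebraMap A P)
    haveI : IsNoetherianRing PK := by
      haveI : IsNoetherianRing (A ⧸ m) := inferInstanceAs (IsNoetherianRing (ResidueField A))
      haveI : IsNoetherianRing (MvPolynomial (Fin n) (A ⧸ m)) := inferInstance
      exact isNoetherianRing_of_ringEquiv (MvPolynomial (Fin n) (A ⧸ m)) (MvPolynomial.quotientEquivQuotientMvPolynomial m).toRingEquiv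
    have hfg : ((LinearMap.ker π).map mP.mkQ).FG := by
      haveI : IsNoetherian PK ((Fin k → P) ⧸ mP) := isNoetherian_of_isNoetherianRing_of_finite PK _
      rw [← Submodule.span_eq ((LinearMap.ker π).map mP.mkQ),
        ← Submodule.restrictScalars_span P PK Ideal.Quotient.mk_surjective]
      exact Submodule.FG.restrictScalars_of_surjective (IsNoetherian.noetherian _) Ideal.Quotient.mk_surjective
    obtain ⟨F, hFsub, hF⟩ := Submodule.fg_span_iff_fg_span_finset_subset _ |>.mp
      (show (Submodule.span P (mP.mkQ '' (LinearMap.ker π : Set (Fin k → P)))).FG by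
        rwa [← Submodule.map_span, Submodule.span_eq])
    choose pre hpre hpre' using fun y : F => hFsub y.2
    refine ⟨Finset.univ.image pre, fun v hv => ?_, fun x hx => ?_⟩
    · obtain ⟨y, -, rfl⟩ := Finset.mem_image.mp hv
      exact hpre y
    · have h1 : mP.mkQ x ∈ Submodule.span P (F : Set ((Fin k → P) ⧸ mP)) := by
        rw [← hF]; exact Submodule.subset_span ⟨x, hx, rfl⟩
      have h2 : Submodule.span P (F : Set ((Fin k → P) ⧸ mP)) ≤
          (Submodule.span P ((Finset.univ.image pre : Finset (Fin k → P)) : Set (Fin k → P))).map mP.mkQ :=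
        Submodule.span_le.mpr fun y hy => ⟨pre ⟨y, hy⟩, Submodule.subset_span (by simp), hpre' ⟨y, hy⟩⟩
      obtain ⟨x', hx', hxx⟩ := h2 h1
      exact Submodule.mem_sup.mpr ⟨x', hx', x - x', (Submodule.Quotient.eq mP).mp hxx.symm, by abel⟩
  let K₁ : Submodule P (Fin k → P) := Submodule.span P (G : Set (Fin k → P))
  let N₀ := (Fin k → P) ⧸ K₁
  haveI : Module.FinitePresentation P N₀ :=
    Module.finitePresentation_of_surjective K₁.mkQ K₁.mkQ_surjective (by rw [Submodule.ker_mkQ]; exact ⟨G, rfl⟩)
  let π₁ : N₀ →ₗ[P] N := K₁.liftQ π (Submodule.span_le.mpr fun v hv => hGker v hv)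
  have hπ₁ : ∀ v, π₁ (K₁.mkQ v) = π v := fun v => rfl
  have hu1 : ∀ t : q.primeCompl, IsUnit (algebraMap P (Module.End P N) t) := fun t => by
    obtain ⟨e, he⟩ := (hunit t).exists_left_inv
    refine (Module.End.isUnit_iff _).mpr ⟨fun a b hab => ?_, fun a => ⟨e • a, ?_⟩⟩
    · have h2 : e • algebraMap P B (t : P) • a = e • algebraMap P B (t : P) • b := congrArg (e • ·) hab
      rwa [smul_smul, smul_smul, he, one_smul, one_smul] at h2
    · show algebraMap P B (t : P) • e • a = a
      rw [smul_smul, mul_comm, he, one_smul]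
  let Nq := LocalizedModule q.primeCompl N₀
  let lq := LocalizedModule.mkLinearMap q.primeCompl N₀
  let πq : Nq →ₗ[P] N := IsLocalizedModule.lift q.primeCompl lq π₁ hu1
  have hπq : ∀ v, πq (lq v) = π₁ v := fun v => IsLocalizedModule.lift_apply _ _ _ _ _
  have hπsurj : Function.Surjective πq := fun x => by
    obtain ⟨t, v, hv⟩ := hgen x
    obtain ⟨y, hy⟩ := ((Module.End.isUnit_iff _).mp (IsLocalizedModule.map_units lq t)).2 (lq (K₁.mkQ v))
    refine ⟨y, ((Module.End.isUnit_iff _).mp (hu1 t)).1 ?_⟩
    show (t : P) • πq y = (t : P) • x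
    rw [← map_smul, show (t : P) • y = lq (K₁.mkQ v) from hy, hπq, hπ₁, hv]
  have hmem : ∀ w ∈ m • (⊤ : Submodule A N), ∃ t : q.primeCompl, ∃ v ∈ mP, π v = (t : P) • w := by
    intro w hw
    refine Submodule.smul_induction_on hw (fun a ha y _ => ?_) fun a b ⟨t, v, hv, hv'⟩ ⟨t', v', hv'', hv'''⟩ => ?_
    · obtain ⟨t, v, hv⟩ := hgen y
      refine ⟨t, algebraMap A P a • v, Submodule.smul_mem_smul (Ideal.mem_map_of_mem _ ha) trivial, ?_⟩
      rw [map_smul, hv, algebraMap_smul, smul_comm]
    · refine ⟨t * t', (t' : P) • v + (t : P) • v', add_mem (mP.smul_mem _ hv) (mP.smul_mem _ hv''), ?_⟩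
      rw [map_add, map_smul, map_smul, hv', hv''', smul_add, Submonoid.coe_mul, smul_smul, smul_smul, mul_comm (t' : P)]
  let u₀ : Nq →ₗ[A] M := u ∘ₗ πq.restrictScalars A
  have hinj : Groth.L20.RG.InjMod (R := A) u₀ := by
    intro y hy
    have h1 : πq y ∈ m • (⊤ : Submodule A N) :=
      (Groth.L20.RG.InjMod.iff_rTensor u).mpr ((LinearMap.lTensor_inj_iff_rTensor_inj _ _).mp h) _ hy
    obtain ⟨⟨y₀, s⟩, hs⟩ := IsLocalizedModule.surj q.primeCompl lq y
    obtain ⟨x, rfl⟩ := K₁.mkQ_surjective y₀
    obtain ⟨t, v, hv, hv'⟩ := hmem (πq y) h1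
    have h2 : π ((t : P) • x) = π ((s : P) • v) := by
      rw [map_smul, map_smul, hv', ← hπ₁, ← hπq, ← show (s : P) • y = lq (K₁.mkQ x) from hs, map_smul, smul_comm]
    obtain ⟨a, ha, b, hb, hab⟩ := Submodule.mem_sup.mp (hG (show (t : P) • x - (s : P) • v ∈ LinearMap.ker π by
      rw [LinearMap.mem_ker, map_sub, h2, sub_self]))
    have h3 : ((t : P) * (s : P)) • y ∈ (m • ⊤ : Submodule A Nq) := by
      rw [← Groth.L20.RG.mem_map_smul_top (D := P), mul_smul,
        show (s : P) • y = lq (K₁.mkQ x) from hs, ← map_smul, ← map_smul]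
      have hx : K₁.mkQ ((t : P) • x) = K₁.mkQ ((s : P) • v + b) := (Submodule.Quotient.eq K₁).mpr (by
        rw [show (t : P) • x - ((s : P) • v + b) = a by rw [← sub_sub, ← hab]; abel]
        exact ha)
      rw [hx]
      have := Submodule.mem_map_of_mem (f := lq ∘ₗ K₁.mkQ) (add_mem (mP.smul_mem (s : P) hv) hb)
      rw [Submodule.map_smul''] at this
      exact Submodule.smul_mono le_rfl le_top this
    obtain ⟨e, he⟩ := ((Module.End.isUnit_iff _).mp (IsLocalizedModule.map_units lq (t * s))).2 y
    have h4 : (e : Nq) ∈ (⊤ : Submodule A Nq) := trivial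
    let σ : Nq ≃ₗ[A] Nq := (LinearEquiv.ofBijective (algebraMap P (Module.End P Nq) (t * s : q.primeCompl))
      ((Module.End.isUnit_iff _).mp (IsLocalizedModule.map_units lq (t * s)))).restrictScalars A
    have h5 := Submodule.mem_map_of_mem (f := σ.symm.toLinearMap) h3
    rw [Submodule.map_smul'', Submodule.map_top, LinearEquiv.range,
      show σ.symm.toLinearMap (((t : P) * (s : P)) • y) = y from σ.symm_apply_apply y] at h5
    exact h5
  obtain ⟨hflat, huniv⟩ := Groth.L20.RG.flat_and_univInj_of_injMod_base q N₀ lq u₀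
    ((Groth.L20.RG.InjMod.iff_rTensor u₀).mp hinj)
  have hu₀ : Function.Injective u₀ := by
    intro a b hab
    have := huniv A (show u₀.rTensor A (a ⊗ₜ 1) = u₀.rTensor A (b ⊗ₜ 1) by simp [hab])
    simpa using congrArg (TensorProduct.rid A Nq) this
  have hbij : Function.Bijective πq := ⟨fun a b hab => hu₀ (congrArg u hab), hπsurj⟩
  let e := (LinearEquiv.ofBijective πq hbij)
  let eA := e.restrictScalars A
  refine ⟨fun Q _ _ => ?_, ?_, Module.Flat.of_linearEquiv eA.symm⟩
  · have h1 : u.rTensor Q = u₀.rTensor Q ∘ₗ eA.symm.toLinearMap.rTensor Q := by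
      rw [← LinearMap.rTensor_comp]
      congr 1
      exact LinearMap.ext fun x => congrArg u (e.apply_symm_apply x).symm
    rw [h1, LinearMap.coe_comp]
    exact (huniv Q).comp (eA.symm.rTensor Q).injective
  · let eC : Nq ≃ₗ[C] N := e.extendScalarsOfIsLocalization q.primeCompl C
    haveI : Module.FinitePresentation C Nq :=
      FinitePresentation.of_isBaseChange lq (IsLocalizedModule.isBaseChange q.primeCompl C lq)
    haveI : Module.FinitePresentation C N := Module.FinitePresentation.of_equiv eC
    refine FinitePresentation.of_isBaseChange (LinearMap.id : N →ₗ[C] N) (IsBaseChange.of_equiv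
      (LinearEquiv.ofBijective ((LinearMap.id : N →ₗ[C] N).liftBaseChange B) ⟨?_, fun x => ⟨1 ⊗ₜ x, by simp⟩⟩) fun x => by simp)
    have key : ∀ z : B ⊗[C] N, z = 1 ⊗ₜ[C] ((LinearMap.id : N →ₗ[C] N).liftBaseChange B z) := fun z => by
      induction z using TensorProduct.induction_on with
      | zero => simp
      | add a b ha hb => rw [map_add, TensorProduct.tmul_add, ← ha, ← hb]
      | tmul b x =>
        obtain ⟨c, rfl⟩ := hsurj b
        rw [LinearMap.liftBaseChange_tmul, LinearMap.id_apply, algebraMap_smul, TensorProduct.tmul_smul,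
          TensorProduct.smul_tmul', Algebra.smul_def, mul_one]
    intro a b hab
    rw [key a, key b, hab]

end Groth.Agent.S0407
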