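import Groth.Statements.S0408
import Groth.Agent.L16.FinPart.Local
import Groth.Agent.L20.Weight.Isolate

set_option autoImplicit false
universe u
open FlatMor

set_option backward.isDefEq.respectTransparency.types false
namespace Groth.Agent.S0408

open AlgebraicGeometry CategoryTheory Limits in
/-- Étale localization of a quasi-finite point (one-point case): for f separated and locally of finite
type and x isolated in its fibre, after base change along an étale morphism g with a point u over
f(x) having the same residue field, the base change splits off an open and closed piece V, finite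
over the base, whose fibre over u is a single point v lying over x with the same residue field as x,
and no other point over u lies over x. -/
theorem result {X S : Scheme.{u}} (f : X ⟶ S) [LocallyOfFiniteType f] [IsSeparated f] (x : X) (hx : f.QuasiFiniteAt x) :
    ∃ (U : Scheme.{u}) (g : U ⟶ S) (u : U), Etale g ∧ g u = f x ∧ Function.Surjective (g.residueFieldMap u) ∧
      ∃ (V : (pullback f g).Opens) (v : ↑(pullback f g)), IsClopen (V : Set ↑(pullback f g)) ∧
        IsFinite (V.ι ≫ pullback.snd f g) ∧ v ∈ V ∧ pullback.fst f g v = x ∧ pullback.snd f g v = u ∧
        Function.Surjective ((pullback.fst f g).residueFieldMap v) ∧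
        (∀ w : ↑(pullback f g), pullback.snd f g w = u → (w ∈ V ∨ pullback.fst f g w = x) → w = v) := by
  obtain ⟨U, g, u, hu, V, hfin, ⟨v, hv, hvu, hvx⟩, huniq⟩ := Groth.L16.FinPart.exists_nbhd_piece f hx
  obtain ⟨v', h1, h2, hbij, hv'⟩ := Groth.L16.FinPart.exists_unique_point f g u hu.residue_bijective x hu.base_eq.symm
  have hvv : v = v' := hv' v hvx hvu
  subst hvv
  exact ⟨U, g, u, hu.etale, hu.base_eq, hu.residue_bijective.2, V, v,
    ⟨Groth.L20.Weight.isClosed_of_isFinite (pullback.snd f g) V, V.2⟩, hfin, hv, hvx, hvu, hbij.2,
    fun w hw hor => hv' w (hor.elim (fun hV => huniq w hV hw) id) hw⟩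

end Groth.Agent.S0408
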