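import Groth.Statements.S0411
-- import your own Groth.Agent.* helpers here

import Groth.Agent.L22.FinAff.Glue
import Mathlib.AlgebraicGeometry.ZariskisMainTheorem
import Mathlib.AlgebraicGeometry.Morphisms.QuasiFinite

set_option autoImplicit false
universe u
open FlatMor

namespace Groth.Agent.S0411

open AlgebraicGeometry CategoryTheory Limits in
/-- For a separated, locally quasi-finite morphism (locally of finite type with discrete fibres) to an
affine scheme, every finite set of points of the source lies in an affine open. -/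
theorem result {X Y : Scheme.{u}} (f : X ⟶ Y) [IsAffine Y] [IsSeparated f] [LocallyQuasiFinite f] [LocallyOfFiniteType f] (T : Finset ↑X) :
    ∃ U : X.Opens, IsAffineOpen U ∧ ∀ x ∈ T, x ∈ U := by
  classical
  choose V hV hxV _ using fun x : X => exists_isAffineOpen_mem_and_subset (x := x) (U := ⊤) trivial
  let O : X.Opens := T.sup V
  have hO : IsCompact (O : Set X) := by
    rw [show (O : Set X) = ⋃ x ∈ T, (V x : Set X) by simp [O]]
    exact T.isCompact_biUnion fun x _ => (hV x).isCompact
  haveI : CompactSpace O.toScheme := isCompact_iff_compactSpace.1 hO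
  let σ : O.toScheme ⟶ Y := O.ι ≫ f
  haveI : QuasiCompact σ := inferInstance
  haveI : IsAffine σ.normalization := isAffine_of_isAffineHom σ.fromNormalization
  obtain ⟨a, haR, haT⟩ := Groth.L22.FinAff.exists_basicOpen_le_finset σ.toNormalization.opensRange
    (σ.toNormalization '' (O.ι ⁻¹' (T : Set X)))
    ((T.finite_toSet.preimage O.ι.isOpenEmbedding.injective.injOn).image _)
    (Set.image_subset_range _ _)
  refine ⟨O.ι ''ᵁ (σ.toNormalization ⁻¹ᵁ σ.normalization.basicOpen a),
    (((isAffineOpen_top _).basicOpen a).preimage_of_isOpenImmersion σ.toNormalization haR).image_of_isOpenImmersion _,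
    fun x hx => ?_⟩
  have hxO : x ∈ O := (Finset.le_sup (f := V) hx) (hxV x)
  exact ⟨⟨x, hxO⟩, haT ⟨⟨x, hxO⟩, hx, rfl⟩, rfl⟩

end Groth.Agent.S0411
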