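import Groth.Statements.S0413
import Groth.Agent.L24.SmoothDivisor.Slice
import Groth.Agent.L23.QFDescent
import Mathlib.AlgebraicGeometry.Morphisms.Smooth
import Mathlib.AlgebraicGeometry.Morphisms.Etale
import Mathlib.AlgebraicGeometry.Morphisms.QuasiFinite
import Mathlib.AlgebraicGeometry.Morphisms.Immersion

set_option autoImplicit false
set_option maxSynthPendingDepth 3
set_option backward.isDefEq.respectTransparency.types false
universe u
open FlatMor

namespace Groth.Agent.S0413

open AlgebraicGeometry CategoryTheory Limits in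
/-- For a smooth morphism and a point that is closed in its fibre with separable residue field
extension, there is a locally closed subscheme through the point which is étale over the base and
meets the fibre only in that point. -/
theorem result {X S : Scheme.{u}} (f : X ⟶ S) [Smooth f] (x : X)
    (hcl : IsClosed ({f.asFiber x} : Set ↑(f.fiber (f x))))
    (hsep : @Algebra.IsSeparable (S.residueField (f x)) (X.residueField x) _ _ (f.residueFieldMap x).hom.toAlgebra) :
    ∃ (Z : Scheme.{u}) (i : Z ⟶ X) (z : Z), IsImmersion i ∧ Etale (i ≫ f) ∧ i z = x ∧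
      ∀ z' : ↑Z, f (i z') = f x → z' = z := by
  obtain ⟨_, ⟨(V : S.Opens), (hV : IsAffineOpen V), rfl⟩, (hxV : f x ∈ V), -⟩ :=
    S.isBasis_affineOpens.exists_subset_of_mem_open (Set.mem_univ (f x)) isOpen_univ
  obtain ⟨_, ⟨(U : X.Opens), (hU : IsAffineOpen U), rfl⟩, (hxU : x ∈ U), hUle⟩ := X.isBasis_affineOpens.exists_subset_of_mem_open
    (u := ((f ⁻¹ᵁ V : X.Opens) : Set X)) (a := x) hxV (f ⁻¹ᵁ V).isOpen
  have hUV : U ≤ f ⁻¹ᵁ V := fun y hy => hUle hy
  let A := Γ(S, V)
  let B := Γ(X, U)
  let R := X.presheaf.stalk x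
  let O := S.presheaf.stalk (f x)
  letI : Algebra A B := (f.appLE V U hUV).hom.toAlgebra
  letI : Algebra B R := X.presheaf.algebra_section_stalk ⟨x, hxU⟩
  letI : Algebra A R := ((algebraMap B R).comp (algebraMap A B)).toAlgebra
  haveI : IsScalarTower A B R := IsScalarTower.of_algebraMap_eq fun _ => rfl
  haveI := hU.isLocalization_stalk ⟨x, hxU⟩
  haveI : Algebra.Smooth A B := RingHom.smooth_algebraMap.mp
    (HasRingHomProperty.appLE (P := @Smooth) f inferInstance ⟨V, hV⟩ ⟨U, hU⟩ hUV)
  let q := (hU.primeIdealOf ⟨x, hxU⟩).asIdeal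
  letI : Algebra A O := S.presheaf.algebra_section_stalk ⟨f x, hxV⟩
  haveI := hV.isLocalization_stalk ⟨f x, hxV⟩
  haveI : Algebra.FormallyUnramified A O :=
    haveI := Algebra.FormallyEtale.of_isLocalization (Rₘ := O) (hV.primeIdealOf ⟨f x, hxV⟩).asIdeal.primeCompl
    inferInstance
  haveI : Algebra.FormallyUnramified A (IsLocalRing.ResidueField O) := by
    haveI : Algebra.FormallyUnramified O (IsLocalRing.ResidueField O) :=
      Algebra.FormallyUnramified.of_surjective (Algebra.ofId O _) IsLocalRing.residue_surjective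
    exact Algebra.FormallyUnramified.comp A O _
  haveI : Algebra.FormallyUnramified A (IsLocalRing.ResidueField R) := by
    letI : Algebra (IsLocalRing.ResidueField O) (IsLocalRing.ResidueField R) := (f.residueFieldMap x).hom.toAlgebra
    haveI : Algebra.IsSeparable (IsLocalRing.ResidueField O) (IsLocalRing.ResidueField R) := hsep
    haveI : Algebra.FormallyUnramified (IsLocalRing.ResidueField O) (IsLocalRing.ResidueField R) :=
      Algebra.FormallyUnramified.of_isSeparable _ _
    haveI : IsScalarTower A (IsLocalRing.ResidueField O) (IsLocalRing.ResidueField R) :=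
      IsScalarTower.of_algebraMap_eq fun a => by
        show IsLocalRing.residue R (X.presheaf.germ U x hxU (f.appLE V U hUV a)) =
          IsLocalRing.residue R (f.stalkMap x (S.presheaf.germ V (f x) hxV a))
        rw [Scheme.Hom.germ_stalkMap_apply, Scheme.Hom.appLE, CommRingCat.comp_apply]
        exact congrArg _ (TopCat.Presheaf.germ_res_apply X.presheaf (homOfLE hUV) x hxU _)
    exact Algebra.FormallyUnramified.comp A (IsLocalRing.ResidueField O) _
  obtain ⟨g, J, hg, hJq, het⟩ := Groth.L24.SmoothDivisor.exists_etale_slice A B R q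
  let T := Localization.Away g
  let I := J.map (algebraMap B T)
  let j : Spec (CommRingCat.of T) ⟶ X := Spec.map (CommRingCat.ofHom (algebraMap B T)) ≫ hU.fromSpec
  haveI : IsOpenImmersion j := by
    haveI : IsOpenImmersion (Spec.map (CommRingCat.ofHom (algebraMap B T))) := IsOpenImmersion.of_isLocalization g
    infer_instance
  let cl : Spec (CommRingCat.of (T ⧸ I)) ⟶ Spec (CommRingCat.of T) := Spec.map (CommRingCat.ofHom (Ideal.Quotient.mk I))
  haveI : IsClosedImmersion cl := IsClosedImmersion.spec_of_surjective _ Ideal.Quotient.mk_surjective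
  haveI : Etale (cl ≫ j ≫ f) := by
    have e : cl ≫ j ≫ f = Spec.map (f.appLE V U hUV ≫ CommRingCat.ofHom (algebraMap B T) ≫
        CommRingCat.ofHom (Ideal.Quotient.mk I)) ≫ hV.fromSpec := by
      simp only [j, cl, Spec.map_comp, Category.assoc]
      rw [IsAffineOpen.SpecMap_appLE_fromSpec f hV hU hUV]
    rw [e]
    haveI : Etale (Spec.map (f.appLE V U hUV ≫ CommRingCat.ofHom (algebraMap B T) ≫
        CommRingCat.ofHom (Ideal.Quotient.mk I))) := (HasRingHomProperty.Spec_iff (P := @Etale)).mpr het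
    infer_instance
  have hqT : Disjoint (Submonoid.powers g : Set B) (q : Set B) := by
    rw [Set.disjoint_left]
    rintro _ ⟨n, rfl⟩ h
    exact hg ((inferInstance : q.IsPrime).mem_of_pow_mem n h)
  let qT : Ideal T := q.map (algebraMap B T)
  haveI : qT.IsPrime := IsLocalization.isPrime_of_isPrime_disjoint (Submonoid.powers g) T q inferInstance hqT
  have hcm : qT.comap (algebraMap B T) = q := IsLocalization.comap_map_of_isPrime_disjoint (Submonoid.powers g) T inferInstance hqT
  haveI : (qT.map (Ideal.Quotient.mk I)).IsPrime := Ideal.map_isPrime_of_surjective Ideal.Quotient.mk_surjective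
    (by rw [Ideal.mk_ker]; exact Ideal.map_mono hJq)
  let z : Spec (CommRingCat.of (T ⧸ I)) := ⟨qT.map (Ideal.Quotient.mk I), inferInstance⟩
  have hz : (cl ≫ j) z = x := by
    have h1 : Spec.map (CommRingCat.ofHom (algebraMap B T)) (cl z) = hU.primeIdealOf ⟨x, hxU⟩ := by
      refine PrimeSpectrum.ext ?_
      show ((qT.map (Ideal.Quotient.mk I)).comap (Ideal.Quotient.mk I)).comap (algebraMap B T) = q
      rw [Ideal.comap_map_of_surjective' _ Ideal.Quotient.mk_surjective, Ideal.mk_ker,
        sup_eq_left.mpr (Ideal.map_mono hJq), hcm]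
    show hU.fromSpec (Spec.map (CommRingCat.ofHom (algebraMap B T)) (cl z)) = x
    rw [h1, hU.fromSpec_primeIdealOf]
  haveI : IsImmersion (cl ≫ j) := inferInstance
  have hzf : (cl ≫ j ≫ f) z = f x := by
    show f ((cl ≫ j) z) = f x
    rw [hz]
  haveI : LocallyQuasiFinite (cl ≫ j ≫ f) := Groth.L23.locallyQuasiFinite_of_unramified _
  haveI := ((cl ≫ j ≫ f).isDiscrete_preimage_singleton (f x)).to_subtype
  obtain ⟨W, hW, hWz⟩ := isOpen_induced_iff.mp
    (isOpen_discrete ({⟨z, hzf⟩} : Set ↑((cl ≫ j ≫ f) ⁻¹' {f x})))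
  have hzW : z ∈ W := (Set.ext_iff.mp hWz ⟨z, hzf⟩).mpr rfl
  let W' : (Spec (CommRingCat.of (T ⧸ I))).Opens := ⟨W, hW⟩
  refine ⟨W', W'.ι ≫ cl ≫ j, ⟨z, hzW⟩, inferInstance, ?_, hz, fun z' hz' => Subtype.ext ?_⟩
  · rw [Category.assoc, Category.assoc]
    infer_instance
  · have h : (⟨z'.1, hz'⟩ : ↑((cl ≫ j ≫ f) ⁻¹' {f x})) = ⟨z, hzf⟩ := (Set.ext_iff.mp hWz ⟨z'.1, hz'⟩).mp z'.2
    have h2 := congrArg Subtype.val h
    exact h2

end Groth.Agent.S0413
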