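import Groth.Statements.S0418
import Groth.Agent.L06.UnivHomeoPPow

set_option autoImplicit false
set_option maxSynthPendingDepth 3
set_option linter.style.haveILetI false
universe u
open FlatMor

namespace Groth.Agent.S0418

open AlgebraicGeometry in
/-- For a prime number p and a ring map A → B that becomes an isomorphism after inverting p, Spec B →
Spec A is a universal homeomorphism if and only if the kernel consists of nilpotents and every
element of B has some p-power multiple and p-power power in the image. -/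
theorem result {A B : Type u} [CommRing A] [CommRing B] (φ : A →+* B) (p : ℕ) (hp : p.Prime)
    (h : Function.Bijective (Localization.awayMap φ (p : A))) :
    FlatMor.IsUnivHomeo (Spec.map (CommRingCat.ofHom φ)) ↔
      (∀ a ∈ RingHom.ker φ, IsNilpotent a) ∧ ∀ b : B, ∃ n : ℕ, (p ^ n : B) * b ∈ φ.range ∧ b ^ (p ^ n) ∈ φ.range := by
  rw [Groth.L28.AWN.isUnivHomeo_iff_isUH]
  refine ⟨fun hU => ⟨fun a ha => hU.nil a ha, fun b => ?_⟩,
    fun hh => Groth.L06.UnivHomeoPPow.isUH_of p hp hh.1 hh.2⟩
  have hsat := Groth.L06.UnivHomeoPPow.exists_pow_mul_mem_of_surjective p h.2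
  obtain ⟨n, hn⟩ := hsat b
  obtain ⟨N, hN⟩ := Groth.L06.UnivHomeoPPow.exists_pow_mem p hp hU hsat b
  refine ⟨n + N, ?_, ?_⟩
  · rw [pow_add, mul_comm (_ : B) (_ ^ N), mul_assoc, ← map_natCast φ, ← map_pow]
    exact mul_mem ⟨_, rfl⟩ (by simpa using hn)
  · rw [pow_add, mul_comm, pow_mul]
    exact pow_mem hN _

end Groth.Agent.S0418
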