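import Groth.Statements.S0424
import Mathlib.AlgebraicGeometry.Morphisms.WeaklyEtale
import Mathlib.RingTheory.Flat.EquationalCriterion

set_option autoImplicit false
universe u
open FlatMor

namespace Groth.Agent.S0424
open CategoryTheory CategoryTheory.Limits AlgebraicGeometry

private theorem formallyUnramified_of_flat_lmul {R S : Type u} [CommRing R] [CommRing S]
    [Algebra R S] (h : (Algebra.TensorProduct.lmul' R (S := S)).toRingHom.Flat) :
    Algebra.FormallyUnramified R S := by
  rw [Algebra.formallyUnramified_iff, KaehlerDifferential, Ideal.cotangent_subsingleton_iff]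
  let J := KaehlerDifferential.ideal R S
  let _ : Algebra (TensorProduct R S S) S := (Algebra.TensorProduct.lmul' R (S := S)).toRingHom.toAlgebra
  have hfl : Module.Flat (TensorProduct R S S) S := h
  have hs : ∀ (w : TensorProduct R S S) (l : S),
      w • l = Algebra.TensorProduct.lmul' R (S := S) w * l := fun _ _ => rfl
  show J * J = J
  refine le_antisymm Ideal.mul_le_left fun x hx => ?_
  have hx0 : Algebra.TensorProduct.lmul' R (S := S) x = 0 := hx
  have hrel : ∑ i : Fin 1, (fun _ => x) i • (fun _ => (1 : S)) i = 0 := by simp [hs, hx0]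
  obtain ⟨k, A, y, hy, hA⟩ := Module.Flat.isTrivialRelation_of_sum_smul_eq_zero hrel
  let z := ∑ j, A 0 j * Algebra.TensorProduct.includeLeft (R := R) (S := R) (y j)
  have hz : 1 - z ∈ J := by
    show Algebra.TensorProduct.lmul' R (S := S) (1 - z) = 0
    have h1 : (1 : S) = ∑ j, A 0 j • y j := hy 0
    rw [map_sub, map_one, sub_eq_zero, h1, map_sum]
    simp [hs]
  have hxz : x * z = 0 := by
    simp only [z, Finset.mul_sum, ← mul_assoc]
    refine Finset.sum_eq_zero fun j _ => ?_
    have := hA j
    simp only [Fin.sum_univ_one] at this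
    rw [this, zero_mul]
  have : x = x * (1 - z) := by rw [mul_sub, hxz, mul_one, sub_zero]
  rw [this]
  exact Ideal.mul_mem_mul hx hz

set_option backward.isDefEq.respectTransparency.types false in
private theorem aux {X Y : Scheme.{u}} (f : X ⟶ Y) [WeaklyEtale f] : FormallyUnramified f := by
  wlog hY : ∃ R, Y = Spec R
  · rw [IsZariskiLocalAtTarget.iff_of_openCover (P := @FormallyUnramified) Y.affineCover]
    intro i
    exact this (pullback.snd _ _) ⟨_, rfl⟩
  obtain ⟨R, rfl⟩ := hY
  wlog hX : ∃ S, X = Spec S generalizing X
  · rw [IsZariskiLocalAtSource.iff_of_openCover (P := @FormallyUnramified) X.affineCover]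
    intro i
    exact this (_ ≫ _) ⟨_, rfl⟩
  obtain ⟨S, rfl⟩ := hX
  obtain ⟨φ, rfl : Spec.map φ = f⟩ := Spec.homEquiv.symm.surjective f
  rw [HasRingHomProperty.Spec_iff (P := @FormallyUnramified)]
  have hd := WeaklyEtale.flat_diagonal (f := Spec.map φ)
  algebraize [φ.hom]
  refine formallyUnramified_of_flat_lmul ?_
  rw [show φ = CommRingCat.ofHom (algebraMap R S) from rfl, diagonal_SpecMap R S,
    MorphismProperty.cancel_right_of_respectsIso (P := @Flat),
    HasRingHomProperty.Spec_iff (P := @Flat)] at hd
  exact hd


open AlgebraicGeometry CategoryTheory Limits in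
/-- A weakly étale morphism locally of finite presentation is étale. -/
theorem result {X Y : Scheme.{u}} (f : X ⟶ Y) [WeaklyEtale f] [LocallyOfFinitePresentation f] : Etale f := by
  have := aux f
  exact Etale.of_formallyUnramified_of_flat f

end Groth.Agent.S0424
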