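import Groth.Statements.S0427
import Groth.Agent.L27.OlivierMain

set_option autoImplicit false
universe u
open FlatMor

namespace Groth.Agent.S0427

/-- A result of Olivier: a local homomorphism from a strictly henselian local ring (henselian with
separably closed residue field) to a local ring that is weakly étale is an isomorphism. -/
theorem result {A B : Type u} [CommRing A] [CommRing B] [HenselianLocalRing A] [IsLocalRing B]
    [IsSepClosed (IsLocalRing.ResidueField A)] [Algebra A B] [IsLocalHom (algebraMap A B)] [Algebra.WeaklyEtale A B] :
    Function.Bijective (algebraMap A B) := by
    exact Groth.L27.Olivier.bijective_algebraMap A B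

end Groth.Agent.S0427
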