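import Groth.Statements.S0431
import Groth.Agent.L20.Pinch.Cases

set_option autoImplicit false
universe u
open FlatMor

set_option linter.style.haveILetI false
set_option backward.isDefEq.respectTransparency.types false

namespace Groth.Agent.S0431

open AlgebraicGeometry CategoryTheory Limits in
/-- For a thickening X → X' (a surjective closed immersion) and an affine morphism X → Y, the pushout Y'
of X' and Y along X exists in schemes, Y → Y' is again a thickening and X is the fibre product of Y
and X' over Y' (the source's description of the structure sheaf of the pushout as a fibre product of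
sheaves is not restated). -/
theorem result {X X' Y : Scheme.{u}} (t : X ⟶ X') [IsClosedImmersion t] (ht : Function.Surjective t) (f : X ⟶ Y) [IsAffineHom f] :
    ∃ (Y' : Scheme.{u}) (f' : X' ⟶ Y') (b : Y ⟶ Y'), IsPushout t f f' b ∧ IsPullback t f f' b ∧
      IsClosedImmersion b ∧ Function.Surjective b := by
  obtain ⟨P, a, b, h⟩ := (Groth.L20.Pinch.std_of_thickening (i := t) (j := f) ht).exists_isPinch
  exact ⟨P, a, b, h.isPushout, h.isPullback, h.isClosedImmersion_b, h.surjective_b ht⟩

end Groth.Agent.S0431
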