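import Groth.Statements.S0432
import Groth.Agent.L20.Pinch.Cases

set_option autoImplicit false
universe u
open FlatMor

set_option linter.style.haveILetI false
set_option backward.isDefEq.respectTransparency.types false

namespace Groth.Agent.S0432

open AlgebraicGeometry CategoryTheory Limits in
/-- The pushout of two closed immersions Z → X and Z → Y exists in schemes, both maps into it are closed
immersions and the square is cartesian. -/
theorem result {X Y Z : Scheme.{u}} (i : Z ⟶ X) (j : Z ⟶ Y) [IsClosedImmersion i] [IsClosedImmersion j] :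
    ∃ (P : Scheme.{u}) (a : X ⟶ P) (b : Y ⟶ P), IsPushout i j a b ∧ IsPullback i j a b ∧ IsClosedImmersion a ∧ IsClosedImmersion b := by
  have hs := Groth.L20.Pinch.std_of_isIntegralHom (i := i) (j := j)
    (Groth.L20.Pinch.exists_affine_of_isClosedImmersion (i := i) (j := j))
  obtain ⟨P, a, b, h⟩ := hs.exists_isPinch
  refine ⟨P, a, b, h.isPushout, h.isPullback, ?_, h.isClosedImmersion_b⟩
  refine h.property_a (Q := @IsClosedImmersion) fun k => ?_
  refine IsClosedImmersion.spec_of_surjective (CommRingCat.ofHom k.p2) fun x => ?_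
  obtain ⟨y, hy⟩ := j.app_surjective k.V k.hV
    (Z.presheaf.map (eqToHom k.eq.symm).op (k.r2 x))
  obtain ⟨t, -, ht⟩ := k.isFib.glue y x (by
    show Z.presheaf.map (homOfLE k.eq.le).op (j.app k.V y) = k.r2 x
    rw [hy, ← CommRingCat.comp_apply, ← Functor.map_comp, ← op_comp,
      Subsingleton.elim (homOfLE k.eq.le ≫ eqToHom k.eq.symm) (𝟙 _), op_id,
      CategoryTheory.Functor.map_id]
    rfl)
  exact ⟨t, ht⟩

end Groth.Agent.S0432
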