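import Groth.Statements.S0433
import Groth.Agent.L20.Pinch.Affine
import Mathlib.Algebra.Category.Ring.Constructions

set_option autoImplicit false
universe u
open FlatMor

set_option backward.isDefEq.respectTransparency.types false

namespace Groth.Agent.S0433

open AlgebraicGeometry CategoryTheory Limits in
/-- For a surjective ring map A' → A and any ring map B → A, the spectra of A, A', B and of the fibre
product ring B ×_A A' form a pushout square of schemes. -/
theorem result {A A' B : Type u} [CommRing A] [CommRing A'] [CommRing B] (p : A' →+* A) (hp : Function.Surjective p) (q : B →+* A) :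
    IsPushout (Spec.map (CommRingCat.ofHom p)) (Spec.map (CommRingCat.ofHom q))
      (Spec.map (pullback.snd (CommRingCat.ofHom q) (CommRingCat.ofHom p)))
      (Spec.map (pullback.fst (CommRingCat.ofHom q) (CommRingCat.ofHom p))) := by
  let hL := IsPullback.of_isLimit
    (CommRingCat.pullbackConeIsLimit (CommRingCat.ofHom q) (CommRingCat.ofHom p))
  have hbij : ∀ t, ∃ s, hL.isoPullback.hom s = t := fun t =>
    ⟨hL.isoPullback.inv t, by rw [← CommRingCat.comp_apply, Iso.inv_hom_id]; rfl⟩
  have h1 : ∀ s, (pullback.fst (CommRingCat.ofHom q) (CommRingCat.ofHom p)).hom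
      (hL.isoPullback.hom s) = (CommRingCat.pullbackCone (CommRingCat.ofHom q)
        (CommRingCat.ofHom p)).fst.hom s := fun s => by
    rw [← CommRingCat.comp_apply, IsPullback.isoPullback_hom_fst]
  have h2 : ∀ s, (pullback.snd (CommRingCat.ofHom q) (CommRingCat.ofHom p)).hom
      (hL.isoPullback.hom s) = (CommRingCat.pullbackCone (CommRingCat.ofHom q)
        (CommRingCat.ofHom p)).snd.hom s := fun s => by
    rw [← CommRingCat.comp_apply, IsPullback.isoPullback_hom_snd]
  have h : Groth.L20.Pinch.IsFib
      (pullback.fst (CommRingCat.ofHom q) (CommRingCat.ofHom p)).hom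
      (pullback.snd (CommRingCat.ofHom q) (CommRingCat.ofHom p)).hom q p := by
    refine ⟨congrArg CommRingCat.Hom.hom (pullback.condition (f := CommRingCat.ofHom q)
      (g := CommRingCat.ofHom p)), fun t a b => ?_, fun x y e => ?_, hp⟩
    · obtain ⟨s, rfl⟩ := hbij t
      rw [h1] at a; rw [h2] at b
      have : s = 0 := Subtype.ext (Prod.ext a b)
      rw [this, map_zero]
    · exact ⟨hL.isoPullback.hom ⟨(x, y), e⟩, h1 _, h2 _⟩
  exact h.isPushout

end Groth.Agent.S0433
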