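import Groth.Statements.S0436
import Mathlib.RingTheory.Filtration
import Mathlib.AlgebraicGeometry.FunctionField
import Groth.Agent.L07.FlatReducedScheme
import Groth.Agent.L07.DVRConnected
-- import your own Groth.Agent.* helpers here

set_option autoImplicit false
universe u
open FlatMor

namespace Groth.Agent.S0436

open AlgebraicGeometry CategoryTheory Limits in
/-- For a proper flat morphism to the spectrum of a discrete valuation ring whose special fibre is
reduced, both the total space and the generic fibre are reduced. (The published statement is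
stronger: instead of flatness it only needs every irreducible component of the total space to
dominate the base.) -/
theorem result {R : Type u} [CommRing R] [IsDomain R] [IsDiscreteValuationRing R] {X : Scheme.{u}}
    (f : X ⟶ Spec (CommRingCat.of R)) [IsProper f] [Flat f]
    (hred : IsReduced (f.fiber (IsLocalRing.closedPoint R))) :
    IsReduced X ∧ IsReduced (f.fiber (⟨⊥, Ideal.isPrime_bot⟩ : PrimeSpectrum R)) := by
  haveI : IsLocallyNoetherian X := LocallyOfFiniteType.isLocallyNoetherian f
  let a : ↥(Spec (CommRingCat.of R)) := IsLocalRing.closedPoint R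
  have hspecial : ∀ x : X, f x = a → _root_.IsReduced (X.presheaf.stalk x) := by
    intro x hxa
    obtain ⟨hd, hdvr⟩ := Groth.L07.DVRFlat.stalk_dvr (f.base x) hxa
    let S0 := (Spec (CommRingCat.of R)).presheaf.stalk (f.base x)
    haveI : AlgebraicGeometry.IsReduced (f.fiber (f.base x)) := by rw [show f.base x = a from hxa]; exact hred
    let T := X.presheaf.stalk x
    letI : Algebra S0 T := (f.stalkMap x).hom.toAlgebra
    haveI : Module.Flat S0 T := Flat.stalkMap f x
    haveI : IsNoetherianRing T := inferInstance
    obtain ⟨π, hπ⟩ := IsDiscreteValuationRing.exists_irreducible S0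
    let t : T := (f.stalkMap x).hom π
    have ht : IsSMulRegular T t := IsSMulRegular.of_flat (S := T) (IsRegular.of_ne_zero hπ.ne_zero).left
    have hrad : (Ideal.span {t}).IsRadical := by
      obtain ⟨e⟩ := Groth.L07.CIScheme.exists_fiberStalkEquiv f (f.base x) (f.asFiber x) x (f.fiberι_asFiber x)
      have h1 := isReduced_of_injective e.toRingHom e.injective
      rw [← Ideal.isRadical_iff_quotient_reduced, EGA4.mB, hπ.maximalIdeal_eq, Ideal.map_span, Set.image_singleton] at h1
      exact h1
    have htm : t ∈ IsLocalRing.maximalIdeal T := by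
      rw [IsLocalRing.mem_maximalIdeal]
      intro hu
      exact hπ.not_isUnit (IsUnit.of_map (f.stalkMap x).hom π hu)
    refine ⟨fun y hy => ?_⟩
    obtain ⟨n, hn⟩ := hy
    have key : ∀ m : ℕ, ∀ z : T, z ^ n = 0 → z ∈ (Ideal.span {t}) ^ m := by
      intro m
      induction m with
      | zero => intro z _; simp
      | succ m ih =>
        intro z hz
        obtain ⟨c, rfl⟩ := Ideal.mem_span_singleton.mp (hrad ⟨n, hz.symm ▸ Submodule.zero_mem _⟩ : z ∈ Ideal.span {t})
        have hc : c ^ n = 0 := by
          refine (ht.pow n) (?_ : t ^ n • c ^ n = t ^ n • 0)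
          rw [smul_zero, smul_eq_mul, ← mul_pow]; exact hz
        rw [pow_succ']
        exact Ideal.mul_mem_mul (Ideal.mem_span_singleton_self t) (ih c hc)
    have hbot := Ideal.iInf_pow_eq_bot_of_isLocalRing (Ideal.span {t})
      (fun h => (IsLocalRing.maximalIdeal.isMaximal T).ne_top (top_le_iff.mp (h.ge.trans ((Ideal.span_singleton_le_iff_mem _).mpr htm))))
    exact (Submodule.mem_bot _).mp (hbot ▸ Ideal.mem_iInf.mpr fun m => key m y hn)
  haveI hX : IsReduced X := by
    haveI : ∀ z : X, _root_.IsReduced (X.presheaf.stalk z) := by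
      intro z
      obtain ⟨x, hzx, hxa⟩ : ∃ x, z ⤳ x ∧ f x = a := by
        have hcl := f.isClosedMap _ (isClosed_closure (s := ({z} : Set X)))
        have : a ∈ f '' closure ({z} : Set X) :=
          (IsLocalRing.specializes_closedPoint (R := R) (f z)).mem_closed hcl ⟨z, subset_closure rfl, rfl⟩
        obtain ⟨x, hx, hxa⟩ := this
        exact ⟨x, specializes_iff_mem_closure.mpr hx, hxa⟩
      obtain ⟨U, hxU, hU⟩ := Groth.L07.FlatGeomReduced.exists_reduced_nhd x (hspecial x hxa)
      haveI := hU
      have hzU : z ∈ U := hzx.mem_open U.2 hxU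
      exact isReduced_of_injective (U.stalkIso ⟨z, hzU⟩).commRingCatIsoToRingEquiv.symm.toRingHom
        (U.stalkIso ⟨z, hzU⟩).commRingCatIsoToRingEquiv.symm.injective
    exact isReduced_of_isReduced_stalk X
  refine ⟨hX, ?_⟩
  let b : ↥(Spec (CommRingCat.of R)) := (⟨⊥, Ideal.isPrime_bot⟩ : PrimeSpectrum R)
  haveI : ∀ y : f.fiber b, _root_.IsReduced ((f.fiber b).presheaf.stalk y) := by
    intro y
    letI := (f.stalkMap (f.fiberι b y)).hom.toAlgebra
    obtain ⟨e⟩ := Groth.L07.CIScheme.exists_fiberStalkEquiv f b y (f.fiberι b y) rfl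
    have hb : f.base (f.fiberι b y) = genericPoint ↥(Spec (CommRingCat.of R)) := by
      rw [genericPoint_eq_bot_of_affine]
      have : f.fiberι b y ∈ Set.range (f.fiberι b) := ⟨y, rfl⟩
      rw [f.range_fiberι] at this
      exact this
    have hF : IsField ((Spec (CommRingCat.of R)).presheaf.stalk (f.base (f.fiberι b y))) := by
      rw [hb]; exact Field.toIsField ((Spec (CommRingCat.of R)).functionField)
    have h0 : IsLocalRing.maximalIdeal ((Spec (CommRingCat.of R)).presheaf.stalk (f.base (f.fiberι b y))) = ⊥ :=
      IsLocalRing.isField_iff_maximalIdeal_eq.mp hF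
    have : _root_.IsReduced (EGA4.FibRing ((Spec (CommRingCat.of R)).presheaf.stalk (f.base (f.fiberι b y))) (X.presheaf.stalk (f.fiberι b y))) := by
      rw [← Ideal.isRadical_iff_quotient_reduced, EGA4.mB, h0, Ideal.map_bot]
      exact fun x hx => (Submodule.mem_bot _).mpr ((IsReduced.eq_zero _ (by simpa using hx) : x = 0))
    exact isReduced_of_injective e.symm.toRingHom e.symm.injective
  exact isReduced_of_isReduced_stalk _

end Groth.Agent.S0436
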