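import Groth.Statements.S0438
import Groth.Agent.L06.ReducedSpecial

set_option autoImplicit false
set_option maxSynthPendingDepth 3
set_option linter.style.haveILetI false
universe u
open FlatMor

namespace Groth.Agent.S0438

open AlgebraicGeometry CategoryTheory Limits in
/-- For a proper flat morphism to the spectrum of a valuation ring whose special fibre is reduced, the
total space and every fibre are reduced. -/
theorem result {R : Type u} [CommRing R] [IsDomain R] [ValuationRing R] {X : Scheme.{u}}
    (f : X ⟶ Spec (CommRingCat.of R)) [IsProper f] [Flat f]
    (hred : IsReduced (f.fiber (IsLocalRing.closedPoint R))) :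
    IsReduced X ∧ ∀ s : ↑(Spec (CommRingCat.of R)), IsReduced (f.fiber s) := by
  exact Groth.L06.ReducedSpecial.main f hred

end Groth.Agent.S0438
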