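import Groth.Statements.S0445
import Mathlib.AlgebraicGeometry.Morphisms.FormallyUnramified
import Mathlib.AlgebraicGeometry.ResidueField

set_option autoImplicit false
universe u
open FlatMor

namespace Groth.Agent.S0445

open AlgebraicGeometry CategoryTheory Limits in
/-- Two morphisms over S into an S-scheme unramified over S which agree at a point and induce the same
map on residue fields there agree on an open neighbourhood of that point. -/
theorem result {X Y S : Scheme.{u}} (p : Y ⟶ S) [FormallyUnramified p] [LocallyOfFiniteType p] (f g : X ⟶ Y) (hfg : f ≫ p = g ≫ p)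
    (x : X) (h1 : f x = g x) (h2 : f.residueFieldMap x = (Y.residueFieldCongr h1).hom ≫ g.residueFieldMap x) :
    ∃ U : X.Opens, x ∈ U ∧ U.ι ≫ f = U.ι ≫ g := by
  let L : X ⟶ pullback p p := pullback.lift f g hfg
  let h := pullback.fst L (pullback.diagonal p)
  have hL₁ : L ≫ pullback.fst p p = f := pullback.lift_fst _ _ _
  have hL₂ : L ≫ pullback.snd p p = g := pullback.lift_snd _ _ _
  have hh₁ : h ≫ f = pullback.snd L (pullback.diagonal p) := by
    have := congrArg (· ≫ pullback.fst p p) (pullback.condition (f := L) (g := pullback.diagonal p))
    simp only [Category.assoc, hL₁, pullback.diagonal_fst, Category.comp_id] at this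
    exact this
  have hh₂ : h ≫ g = pullback.snd L (pullback.diagonal p) := by
    have := congrArg (· ≫ pullback.snd p p) (pullback.condition (f := L) (g := pullback.diagonal p))
    simp only [Category.assoc, hL₂, pullback.diagonal_snd, Category.comp_id] at this
    exact this
  let a := X.fromSpecResidueField x
  have ha : a ≫ f = a ≫ g := by
    have e2 := congrArg (fun q => Spec.map q ≫ Y.fromSpecResidueField (f x)) h2
    simp only [Spec.map_comp, Category.assoc, Scheme.residueFieldCongr_fromSpecResidueField,
      Scheme.Hom.SpecMap_residueFieldMap_fromSpecResidueField] at e2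
    exact e2
  let z : Spec (X.residueField x) ⟶ pullback L (pullback.diagonal p) :=
    pullback.lift a (a ≫ f) (by
      apply pullback.hom_ext
      · simp only [Category.assoc, hL₁, pullback.diagonal_fst, Category.comp_id]
      · simp only [Category.assoc, hL₂, pullback.diagonal_snd, Category.comp_id, ha])
  refine ⟨h.opensRange, ⟨z (IsLocalRing.closedPoint _), ?_⟩, ?_⟩
  · have he : z ≫ h = a := pullback.lift_fst _ _ _
    have := Scheme.Hom.comp_apply z h (IsLocalRing.closedPoint _)
    rw [he] at this
    rw [← this]
    exact Scheme.fromSpecResidueField_apply x _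
  · rw [← cancel_epi h.isoOpensRange.hom, Scheme.Hom.isoOpensRange_hom_ι_assoc,
      Scheme.Hom.isoOpensRange_hom_ι_assoc, hh₁, hh₂]

end Groth.Agent.S0445
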