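import Groth.Statements.S0446
import Groth.Agent.L20.RG.ProjNhd
import Groth.Agent.L20.RG.LocalStructure

set_option autoImplicit false
universe u
open FlatMor

set_option backward.isDefEq.respectTransparency.types false
open AlgebraicGeometry CategoryTheory in
set_option backward.isDefEq.respectTransparency.types false in
/-- Flatness at a point in affine charts. -/
theorem flat_localizedModule {X S : Scheme.{u}} (f : X ⟶ S) {W : S.Opens} {U : X.Opens} (hW : IsAffineOpen W)
    (hU : IsAffineOpen U) (hUle : U ≤ f ⁻¹ᵁ W) (q : PrimeSpectrum Γ(X, U)) (x : X) (hxq : hU.fromSpec q = x)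
    (h : (f.stalkMap x).hom.Flat) [Algebra Γ(S, W) Γ(X, U)]
    (halg : algebraMap Γ(S, W) Γ(X, U) = (f.appLE W U hUle).hom) :
    Module.Flat Γ(S, W) (LocalizedModule q.asIdeal.primeCompl Γ(X, U)) := by
  subst hxq
  let φ := f.appLE W U hUle
  have hsq : Spec.map φ ≫ hW.fromSpec = hU.fromSpec ≫ f := IsAffineOpen.SpecMap_appLE_fromSpec f hW hU hUle
  have hiso : ∀ {A B : CommRingCat.{u}} (g : A ⟶ B) [IsIso g], g.hom.Flat := fun g _ =>
    RingHom.Flat.of_bijective (ConcreteCategory.bijective_of_isIso g)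
  have h1 : ((hU.fromSpec ≫ f).stalkMap q).hom.Flat := by
    rw [Scheme.Hom.stalkMap_comp]
    exact RingHom.Flat.comp h (hiso (hU.fromSpec.stalkMap q))
  have h2 : ((Spec.map φ ≫ hW.fromSpec).stalkMap q).hom.Flat := by
    rw [Scheme.Hom.stalkMap_congr_hom _ _ hsq]
    exact RingHom.Flat.comp (hiso (S.presheaf.stalkCongr (.of_eq (by rw [hsq]))).hom) h1
  have h3 : ((Spec.map φ).stalkMap q).hom.Flat := by
    rw [Scheme.Hom.stalkMap_comp] at h2
    rw [← IsIso.inv_hom_id_assoc (hW.fromSpec.stalkMap (Spec.map φ q)) ((Spec.map φ).stalkMap q)]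
    exact RingHom.Flat.comp (hiso (inv (hW.fromSpec.stalkMap (Spec.map φ q)))) h2
  haveI : (RingHom.toMorphismProperty RingHom.Flat).RespectsIso :=
    RingHom.toMorphismProperty_respectsIso_iff.mp RingHom.Flat.respectsIso
  have h4 := ((RingHom.toMorphismProperty RingHom.Flat).arrow_mk_iso_iff
    (Scheme.arrowStalkMapSpecIso φ q)).mp h3
  let Rp := Localization.AtPrime (PrimeSpectrum.comap φ.hom q).asIdeal
  let Sq := Localization.AtPrime q.asIdeal
  let l : Rp →+* Sq := Localization.localRingHom (PrimeSpectrum.comap φ.hom q).asIdeal q.asIdeal φ.hom rfl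
  letI : Algebra Rp Sq := l.toAlgebra
  haveI : Module.Flat Rp Sq := h4
  haveI : IsScalarTower Γ(S, W) Rp Sq := IsScalarTower.of_algebraMap_eq fun r => by
    rw [IsScalarTower.algebraMap_apply Γ(S, W) Γ(X, U) Sq, halg]
    exact (Localization.localRingHom_to_map _ _ _ _ r).symm
  haveI : Module.Flat Γ(S, W) Rp := IsLocalization.flat _ (PrimeSpectrum.comap φ.hom q).asIdeal.primeCompl
  haveI : Module.Flat Γ(S, W) Sq := Module.Flat.trans Γ(S, W) Rp Sq
  exact Module.Flat.of_linearEquiv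
    ((IsLocalizedModule.iso q.asIdeal.primeCompl (Algebra.linearMap Γ(X, U) Sq)).restrictScalars Γ(S, W))

namespace Groth.Agent.S0446

open AlgebraicGeometry CategoryTheory Limits in
/-- For a morphism locally of finite presentation which is flat at a point x, there are affine étale
neighbourhoods (X', x') of (X, x) and (S', s') of (S, f x) with trivial residue field extensions and
a compatible morphism X' → S' such that the ring of global sections of X' is a projective module
over that of S'. -/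
theorem result {X S : Scheme.{u}} (f : X ⟶ S) [LocallyOfFinitePresentation f] (x : X) (hx : (f.stalkMap x).hom.Flat) :
    ∃ (X' S' : Scheme.{u}) (g : X' ⟶ X) (e : S' ⟶ S) (f' : X' ⟶ S') (x' : X'),
      IsAffine X' ∧ IsAffine S' ∧ Etale g ∧ Etale e ∧ g ≫ f = f' ≫ e ∧ g x' = x ∧ e (f' x') = f x ∧
      Function.Surjective (g.residueFieldMap x') ∧ Function.Surjective (e.residueFieldMap (f' x')) ∧
      @Module.Projective Γ(S', ⊤) _ Γ(X', ⊤) _ (f'.appTop).hom.toAlgebra.toModule := by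
  obtain ⟨W₀, hW₀, hxW₀, -⟩ := exists_isAffineOpen_mem_and_subset (x := f x) (U := (⊤ : S.Opens)) trivial
  obtain ⟨U, hU, hxU, hUle⟩ := exists_isAffineOpen_mem_and_subset (x := x) (U := f ⁻¹ᵁ W₀) hxW₀
  let φ : Γ(S, W₀) ⟶ Γ(X, U) := f.appLE W₀ U hUle
  letI : Algebra Γ(S, W₀) Γ(X, U) := φ.hom.toAlgebra
  haveI : Algebra.FinitePresentation Γ(S, W₀) Γ(X, U) := f.finitePresentation_appLE hW₀ hU hUle
  have hsq : Spec.map φ ≫ hW₀.fromSpec = hU.fromSpec ≫ f := IsAffineOpen.SpecMap_appLE_fromSpec f hW₀ hU hUle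
  obtain ⟨q, rfl⟩ : x ∈ Set.range hU.fromSpec := by rw [hU.range_fromSpec]; exact hxU
  let qs : PrimeSpectrum Γ(X, U) := q
  let p : PrimeSpectrum Γ(S, W₀) := PrimeSpectrum.comap φ.hom qs
  haveI : qs.asIdeal.LiesOver p.asIdeal := ⟨rfl⟩
  have hflat : FlatCA.FlatAt Γ(S, W₀) qs.asIdeal Γ(X, U) :=
    flat_localizedModule f hW₀ hU hUle qs _ rfl hx rfl
  obtain ⟨R', S', _, _, _, _, _, _, _, _, p', hp'P, hp, hS, ⟨q', hq'P, hq'p, hq'⟩, -, H⟩ :=
    Groth.L20.RG.exists_projective_local Γ(X, U) p.asIdeal qs.asIdeal hflat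
  haveI := hp'P
  haveI := hq'P
  have hproj : Module.Projective R' S' :=
    H S' (Algebra.linearMap Γ(X, U) S') (IsBaseChange.linearMap Γ(X, U) S')
  have hfx : hW₀.fromSpec p = f (hU.fromSpec q) := by
    rw [← Scheme.Hom.comp_apply, ← hsq, Scheme.Hom.comp_apply]
    rfl
  let gS : Spec (CommRingCat.of S') ⟶ Spec Γ(X, U) := Spec.map (CommRingCat.ofHom (algebraMap Γ(X, U) S'))
  let eR : Spec (CommRingCat.of R') ⟶ Spec Γ(S, W₀) := Spec.map (CommRingCat.ofHom (algebraMap Γ(S, W₀) R'))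
  let f' : Spec (CommRingCat.of S') ⟶ Spec (CommRingCat.of R') := Spec.map (CommRingCat.ofHom (algebraMap R' S'))
  let x' : Spec (CommRingCat.of S') := (⟨q', hq'P⟩ : PrimeSpectrum S')
  have hfx' : f' x' = (⟨p', hp'P⟩ : PrimeSpectrum R') := PrimeSpectrum.ext hq'p.over.symm
  have hX : Hens2.IsEtaleNbhd (gS ≫ hU.fromSpec) x' (hU.fromSpec q) :=
    Groth.L20.RG.isEtaleNbhd_comp (Groth.L20.RG.isEtaleNbhd_spec ⟨hS, hq'⟩) hU.fromSpec
  have hR : Hens2.IsEtaleNbhd (eR ≫ hW₀.fromSpec) (f' x') (f (hU.fromSpec q)) := by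
    rw [hfx', ← hfx]
    exact Groth.L20.RG.isEtaleNbhd_comp (Groth.L20.RG.isEtaleNbhd_spec hp) hW₀.fromSpec
  refine ⟨Spec (CommRingCat.of S'), Spec (CommRingCat.of R'), gS ≫ hU.fromSpec, eR ≫ hW₀.fromSpec, f', x',
    inferInstance, inferInstance, hX.etale, hR.etale, ?_, hX.base_eq, hR.base_eq, hX.residue_bijective.2,
    hR.residue_bijective.2, ?_⟩
  · have e1 : gS ≫ Spec.map φ = f' ≫ eR := by
      rw [← Spec.map_comp, ← Spec.map_comp]
      congr 1
      ext c
      show algebraMap Γ(X, U) S' (algebraMap Γ(S, W₀) Γ(X, U) c) = algebraMap R' S' (algebraMap Γ(S, W₀) R' c)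
      rw [← IsScalarTower.algebraMap_apply, ← IsScalarTower.algebraMap_apply]
    rw [Category.assoc, ← hsq, reassoc_of% e1]
  · letI := f'.appTop.hom.toAlgebra
    have hnat := Scheme.ΓSpecIso_naturality (CommRingCat.ofHom (algebraMap R' S'))
    let eA := (Scheme.ΓSpecIso (CommRingCat.of R')).commRingCatIsoToRingEquiv.symm
    let eB := (Scheme.ΓSpecIso (CommRingCat.of S')).commRingCatIsoToRingEquiv.symm
    have hcomm : ∀ r : R', eB (algebraMap R' S' r) = algebraMap Γ(Spec (CommRingCat.of R'), ⊤) Γ(Spec (CommRingCat.of S'), ⊤) (eA r) := fun r => by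
      have h := congrArg (fun k => k.hom r) (Scheme.ΓSpecIso_inv_naturality (CommRingCat.ofHom (algebraMap R' S')))
      exact h
    letI := RingHomInvPair.of_ringEquiv eA
    letI := RingHomInvPair.of_ringEquiv_symm eA
    haveI := hproj
    exact Module.Projective.of_equiv ({ eB.toAddEquiv with
      map_smul' := fun r m => by
        show eB (r • m) = eA r • eB m
        rw [Algebra.smul_def, map_mul, hcomm, ← Algebra.smul_def] } : S' ≃ₛₗ[(eA : R' →+* Γ(Spec (CommRingCat.of R'), ⊤))] Γ(Spec (CommRingCat.of S'), ⊤))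

end Groth.Agent.S0446
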