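import Groth.Statements.S0447
import Groth.Agent.S1219
import Groth.Agent.S1223
import Mathlib.AlgebraicGeometry.Morphisms.FinitePresentation
import Mathlib.AlgebraicGeometry.Morphisms.Flat

set_option autoImplicit false
universe u
open FlatMor

set_option backward.isDefEq.respectTransparency.types false
namespace Groth.Agent.S0447

open AlgebraicGeometry CategoryTheory Limits in
/-- For a flat morphism of finite presentation between affine schemes whose fibres are geometrically
integral, the coordinate ring of the source is a projective module over that of the target. -/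
theorem result {X S : Scheme.{u}} (f : X ⟶ S) [IsAffine X] [IsAffine S] [Flat f] [LocallyOfFinitePresentation f] [GeometricallyIntegral f] :
    @Module.Projective Γ(S, ⊤) _ Γ(X, ⊤) _ (f.appTop).hom.toAlgebra.toModule := by
  letI := (f.appTop).hom.toAlgebra
  haveI : Algebra.FinitePresentation Γ(S, ⊤) Γ(X, ⊤) :=
    (HasRingHomProperty.iff_of_isAffine (P := @LocallyOfFinitePresentation)).mp inferInstance
  haveI : Module.Flat Γ(S, ⊤) Γ(X, ⊤) :=
    (HasRingHomProperty.iff_of_isAffine (P := @AlgebraicGeometry.Flat)).mp inferInstance
  have hgi : FlatCA.GeomIntegralFibres Γ(S, ⊤) Γ(X, ⊤) :=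
    (MorphismProperty.arrow_mk_iso_iff @GeometricallyIntegral (arrowIsoSpecΓOfIsAffine f)).mp inferInstance
  exact (Groth.Agent.S1219.result Γ(X, ⊤)).mpr fun p _ A' B' N' _ _ _ _ _ _ _ _ _ _ _ _ _ _ g t' t _ _ P _ _ =>
    Groth.Agent.S1223.result hgi p A' B' N' g t' t P

end Groth.Agent.S0447
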