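import Groth.Statements.S0449
import Groth.Agent.L06.DenseIsoOpenImm

set_option autoImplicit false
set_option maxSynthPendingDepth 3
set_option linter.style.haveILetI false
universe u
open FlatMor

namespace Groth.Agent.S0449

open AlgebraicGeometry CategoryTheory Limits in
/-- A separated, flat morphism locally of finite type that is an isomorphism over a quasi-compact,
scheme-theoretically dense open of the target is an open immersion. -/
theorem result {X S : Scheme.{u}} (f : X ⟶ S) [IsSeparated f] [LocallyOfFiniteType f] [Flat f] (U : S.Opens)
    [QuasiCompact U.ι] [IsSchemeTheoreticallyDominant U.ι] [IsIso (f ∣_ U)] : IsOpenImmersion f := by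
  exact Groth.L06.DenseIsoOpenImm.isOpenImmersion_of_dense f U

end Groth.Agent.S0449
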