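import Groth.Statements.S0450
import Groth.Agent.L02.CMMor.AffineChart
import Groth.Agent.L23.QFPoints
import Groth.Agent.L07.SyntDim
import Mathlib.AlgebraicGeometry.ZariskisMainTheorem

set_option autoImplicit false
universe u
open FlatMor

set_option backward.isDefEq.respectTransparency.types false
namespace Groth.L20.FiniteFlatDense

open AlgebraicGeometry CategoryTheory Limits Topology

theorem main {X S : Scheme.{u}} (f : X ⟶ S) [Flat f] [IsProper f] [LocallyOfFinitePresentation f] (U : S.Opens)
    (hU : Dense (U : Set S)) [IsFinite (f ∣_ U)] : IsFinite f := by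
  haveI : LocallyQuasiFinite (f ∣_ U) := inferInstance
  -- over `U` the fibre dimension vanishes
  have hzero : ∀ w : X, f w ∈ U → FlatMor.fibreDimAt f w = 0 := fun w hw => by
    let w' : ((f ⁻¹ᵁ U : X.Opens) : Scheme.{u}) := ⟨w, hw⟩
    show FlatMor.fibreDimAt f ((f ⁻¹ᵁ U).ι w') = 0
    rw [Groth.L07.SyntDim.fibreDimAt_congr f (f ∣_ U) (f ⁻¹ᵁ U).ι U.ι (morphismRestrict_ι f U).symm w']
    haveI : LocallyOfFiniteType ((f ∣_ U).fiberToSpecResidueField ((f ∣_ U) w')) :=
      MorphismProperty.pullback_snd _ _ (inferInstance : LocallyOfFiniteType (f ∣_ U))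
    haveI := LocallyOfFiniteType.isLocallyNoetherian ((f ∣_ U).fiberToSpecResidueField ((f ∣_ U) w'))
    exact (Groth.L23.isOpen_singleton_iff_localDim _).mp
      (Scheme.Hom.quasiFiniteAt_iff_isOpen_singleton_asFiber.mp ((f ∣_ U).quasiFiniteAt w'))
  -- the Cohen–Macaulay locus
  let O : X.Opens := ⟨{x | MoreMor.IsCMAt f x}, L02.CMMor.isOpen_cmLocus f⟩
  have hconst : IsLocallyConstant (fun z : ↥O => FlatMor.fibreDimAt f z.1) := by
    haveI : LocallyOfFinitePresentation (O.ι ≫ f) := inferInstance
    have := L02.CMMor.isLocallyConstant_fibreDimAt (O.ι ≫ f)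
      fun z => (L02.CMMor.isCMAt_openImmersion_comp O.ι f z).2 z.2
    rw [show (fun z : ↥O => FlatMor.fibreDimAt f z.1) = fun z : ↥O => FlatMor.fibreDimAt (O.ι ≫ f) z from
      funext fun z => Groth.L07.SyntDim.fibreDimAt_congr f (O.ι ≫ f) O.ι (𝟙 _) (Category.comp_id _).symm z]
    exact this
  have hqf : ∀ (s : S) (z : f.fiber s), IsOpen ({z} : Set (f.fiber s)) := by
    intro s z
    haveI : LocallyOfFiniteType (f.fiberToSpecResidueField s) :=
      MorphismProperty.pullback_snd f (S.fromSpecResidueField s) inferInstance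
    haveI := LocallyOfFiniteType.isLocallyNoetherian (f.fiberToSpecResidueField s)
    have hC := irreducibleComponent_mem_irreducibleComponents z
    obtain ⟨ξ, hξ⟩ : ∃ ξ, IsGenericPoint ξ (irreducibleComponent z) :=
      ⟨_, hC.1.isGenericPoint_genericPoint isClosed_irreducibleComponent⟩
    obtain ⟨x, hxdef⟩ : ∃ x, f.fiberι s ξ = x := ⟨_, rfl⟩
    obtain rfl : f x = s := hxdef ▸ (f.range_fiberι s).subset ⟨ξ, rfl⟩
    let F := f.fiber (f x)
    have hx : ξ = f.asFiber x := (f.fiberι (f x)).isEmbedding.injective (hxdef.trans (f.fiberι_asFiber x).symm)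
    have hmax : ∀ η : F, η ⤳ ξ → η = ξ := fun η hη => by
      have h1 : irreducibleComponent z ≤ closure {η} := hξ.def ▸ hη.closure_subset
      have h2 : closure {η} = irreducibleComponent z :=
        le_antisymm (hC.2 isIrreducible_singleton.closure h1) h1
      exact (show IsGenericPoint η _ from h2).eq hξ
    have hopen : IsOpen ({ξ} : Set F) := by
      by_contra hne
      have hge : 1 ≤ FlatMor.fibreDimAt f x := Groth.L23.QFL.one_le_fibreDimAt f fun hq => by
        rw [Groth.L23.QFL.qfAt_iff_quasiFiniteAt, Scheme.Hom.quasiFiniteAt_iff_isOpen_singleton_asFiber,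
          ← hx] at hq
        exact hne hq
      have hxO : x ∈ O := by
        refine ⟨Flat.stalkMap f x, ?_⟩
        rw [← hx]
        refine L02.CMMor.cm_of_dim_le_zero ?_
        rw [← PrimeSpectrum.topologicalKrullDim_eq_ringKrullDim]
        refine (F.fromSpecStalk ξ).isEmbedding.isInducing.codRestrict
          (s := ({ξ} : Set F)) (fun p => hmax _ ?_) |>.topologicalKrullDim_le.trans
          (topologicalKrullDim_zero_of_discreteTopology _)
        have : (F.fromSpecStalk ξ) p ∈ Set.range (F.fromSpecStalk ξ) := ⟨p, rfl⟩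
        rwa [Scheme.range_fromSpecStalk] at this
      obtain ⟨W, hWo, hxW, hW⟩ := hconst.exists_open ⟨x, hxO⟩
      let W' : Set X := Subtype.val '' W
      have hW'o : IsOpen W' := O.2.isOpenMap_subtype_val W hWo
      obtain ⟨y, hyU, w, ⟨⟨w, hwO⟩, hwW, rfl⟩, rfl⟩ :=
        hU.inter_open_nonempty (f '' W') (f.isOpenMap W' hW'o) ⟨f x, x, ⟨⟨x, hxO⟩, hxW, rfl⟩, rfl⟩ |>.imp
          fun y hy => (⟨hy.2, hy.1⟩ : y ∈ U ∧ y ∈ f '' W')
      have h0 : FlatMor.fibreDimAt f w = FlatMor.fibreDimAt f x := hW ⟨w, hwO⟩ hwW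
      rw [hzero w hyU] at h0
      rw [← h0] at hge
      exact absurd hge (by decide)
    have hcl : IsClopen ({ξ} : Set F) := by
      have := Scheme.Hom.QuasiFiniteAt.isClopen_singleton_asFiber (f := f)
        (Scheme.Hom.quasiFiniteAt_iff_isOpen_singleton_asFiber.mpr (hx ▸ hopen) : f.QuasiFiniteAt x)
      rwa [← hx] at this
    have : z = ξ := hcl.1.closure_subset_iff.mpr subset_rfl (hξ.def.ge mem_irreducibleComponent)
    rw [this]; exact hopen
  haveI : LocallyQuasiFinite f := locallyQuasiFinite_iff_isDiscrete_preimage_singleton.mpr fun s => by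
    haveI : DiscreteTopology (f.fiber s) := discreteTopology_iff_isOpen_singleton.mpr (hqf s)
    exact ⟨(f.fiberHomeo s).discreteTopology⟩
  exact IsFinite.of_isProper_of_locallyQuasiFinite f

end Groth.L20.FiniteFlatDense
namespace Groth.Agent.S0450

open AlgebraicGeometry CategoryTheory Limits in
/-- A flat proper morphism locally of finite presentation that is finite over a dense open subset of the
target is finite (the source alternatively allows the open to be retrocompact instead of assuming
finite presentation; only this alternative is stated). -/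
theorem result {X S : Scheme.{u}} (f : X ⟶ S) [Flat f] [IsProper f] [LocallyOfFinitePresentation f] (U : S.Opens)
    (hU : Dense (U : Set ↑S)) [IsFinite (f ∣_ U)] : IsFinite f := by
  exact Groth.L20.FiniteFlatDense.main f U hU


end Groth.Agent.S0450
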