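import Groth.Statements.S0455
import Groth.Agent.L10.CechNerves
import Groth.Agent.L10.TopCoh

set_option autoImplicit false
universe u
open CategoryTheory
open CohTop

namespace Groth.Agent.S0455

open TopologicalSpace CategoryTheory.Limits in
/-- If F is a flasque abelian sheaf on X, then for any family of opens the Cech cohomology groups of F
in positive degree are zero. -/
theorem result {X : TopCat.{u}} (F : CohTop.Ab X) [TopCat.Sheaf.IsFlasque F]
    {ι : Type u} (U : ι → Opens X) (p : ℕ) : IsZero (CohTop.cechH F.obj U (p + 1)) := by
  exact (HomologicalComplex.exactAt_iff_isZero_homology _ _).1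
    (Groth.L10.Cech.exactAt_of_class (Groth.L10.Cech.isNerve_opens U) (Groth.L10.Cech.cover_opens U)
      (fun F => TopCat.Sheaf.IsFlasque F)
      (fun F h => by
        have : TopCat.Sheaf.IsFlasque (Groth.L10.SiteCoh.hull F).X₁ := h
        have : TopCat.Sheaf.IsFlasque (Groth.L10.SiteCoh.hull F).X₂ := Groth.L10.TopCoh.isFlasque_of_injective _
        exact TopCat.Sheaf.IsFlasque.of_shortExact_of_isFlasque₁₂ (Groth.L10.SiteCoh.hull_shortExact F))
      (fun F h => by
        have := Groth.L10.TopCoh.subsingleton_ext_of_flasque F h (iSup U) 0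
        exact Groth.L10.SiteCoh.surjective_sections_of_subsingleton (Groth.L10.SiteCoh.hull_shortExact F) _)
      (fun F h n a => by
        have := Groth.L10.TopCoh.subsingleton_ext_of_flasque F h ((𝟭 (TopologicalSpace.Opens X)).obj (Groth.L10.Cech.tup U a)) 0
        exact Groth.L10.SiteCoh.surjective_sections_of_subsingleton (Groth.L10.SiteCoh.hull_shortExact F) _)
      F inferInstance p)

end Groth.Agent.S0455
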