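import Groth.Statements.S0482
import Groth.Agent.L15.CohLoc

set_option autoImplicit false
universe u
open CategoryTheory
open CohSite

namespace Groth.Agent.S0482

set_option backward.isDefEq.respectTransparency false in
theorem result {C : Type u} [SmallCategory C] (J : GrothendieckTopology C)
    (F : Sheaf J AddCommGrpCat.{u}) (U : C) (n : ℕ) :
    Nonempty (CohSite.HU F n U ≃+ Sheaf.H.{u} (F.over U) n) :=
  Groth.L15.CohLoc.nonempty_HU_H J U F n

end Groth.Agent.S0482
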