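import Groth.Statements.S0488
import Groth.Agent.L10.InjPreserved
import Mathlib.Topology.Sheaves.Over
import Mathlib.CategoryTheory.Sites.Pullback
import Mathlib.Algebra.Category.Grp.Colimits
set_option backward.isDefEq.respectTransparency false
-- import your own Groth.Agent.* helpers here

set_option autoImplicit false
universe u
open CohTop

namespace Groth.Agent.S0488

open TopologicalSpace in
/-- For an open U of X, restriction to U sends K-injective complexes of abelian sheaves on X to
K-injective complexes on U. -/
theorem result {X : TopCat.{u}} (U : Opens X) (I : CochainComplex (CohTop.Ab X) ℤ)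
    (h : I.IsKInjective) :
    CochainComplex.IsKInjective (((CohTop.restrFunctor U).mapHomologicalComplex (ComplexShape.up ℤ)).obj I) := by
  have hinj : ∀ I : CohTop.Ab X, CategoryTheory.Injective I → CategoryTheory.Injective ((CohTop.restrFunctor U).obj I) := fun I _ => by
    have h := Groth.L10.InjOverRes.injective_overPullback (Opens.grothendieckTopology X) U I
    have : CategoryTheory.Injective ((U.sheafEquivOver (A := AddCommGrpCat.{u})).functor.obj
        (((Opens.grothendieckTopology X).overPullback AddCommGrpCat.{u} U).obj I)) :=
      CategoryTheory.Injective.injective_of_adjoint (U.sheafEquivOver (A := AddCommGrpCat.{u})).symm.toAdjunction _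
    exact CategoryTheory.Injective.of_iso ((U.overPullbackSheafEquivOver (A := AddCommGrpCat.{u})).app I) this
  have : ((Opens.grothendieckTopology X).overPullback AddCommGrpCat.{u} U).IsRightAdjoint :=
    ⟨_, ⟨(CategoryTheory.Over.forget U).sheafAdjunctionContinuous AddCommGrpCat.{u} _ _⟩⟩
  have : (CohTop.restrFunctor U).IsRightAdjoint :=
    CategoryTheory.Functor.isRightAdjoint_of_iso (U.overPullbackSheafEquivOver (A := AddCommGrpCat.{u}))
  exact Groth.L10.InjPreserved.isKInjective_map (CategoryTheory.Adjunction.ofIsRightAdjoint _) hinj I h

end Groth.Agent.S0488
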