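import Groth.Statements.S0489
import Groth.Agent.L10.KInjLim

set_option autoImplicit false
universe v u
open CategoryTheory
open CohDer

namespace Groth.Agent.S0489

open CategoryTheory.Limits Opposite in
/-- Let … → I_3 → I_2 → I_1 be an inverse system of K-injective cochain complexes in an abelian category
with sequential limits, such that each transition map is a split epimorphism in each degree. Then
the (termwise) limit complex is K-injective. -/
theorem result {A : Type u} [Category.{v} A] [Abelian A] [HasLimitsOfShape ℕᵒᵖ A]
    (I : ℕᵒᵖ ⥤ CochainComplex A ℤ) (h1 : ∀ n : ℕ, (I.obj (op n)).IsKInjective)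
    (h2 : ∀ (n : ℕ) (m : ℤ), IsSplitEpi ((I.map (homOfLE (Nat.le_succ n)).op).f m)) :
    (limit I).IsKInjective := by
  exact Groth.L10.s0489 I h1 h2

end Groth.Agent.S0489
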