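import Groth.Statements.S0492
import Groth.Agent.L10.WeakAB4

set_option autoImplicit false
set_option backward.defeqAttrib.useBackward true
set_option backward.isDefEq.respectTransparency false
set_option synthInstance.maxHeartbeats 200000
set_option backward.defeqAttrib.useBackward true
set_option backward.isDefEq.respectTransparency false
universe u
open CategoryTheory
open CohSite

namespace Groth.Agent.S0492

open CategoryTheory.Limits in
/-- Part (4), for sheaves of abelian groups: let B be a set of weakly contractible objects of a small
site such that every object admits a covering family by members of B. Then products in the category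
of abelian sheaves are exact (Grothendieck's AB4*). -/
theorem result {C : Type u} [SmallCategory C] (J : GrothendieckTopology C)
    (B : Set C) (hB : ∀ U ∈ B, CohSite.IsWeaklyContractible J U)
    (hcov : ∀ V : C, ∃ (ι : Type u) (U : ι → C) (f : ∀ i, U i ⟶ V), (∀ i, U i ∈ B) ∧ Sieve.ofArrows U f ∈ J V) :
    AB4Star (Sheaf J AddCommGrpCat.{u}) := by
  constructor
  intro α
  constructor
  haveI : (lim : (Discrete α ⥤ Sheaf J AddCommGrpCat.{u}) ⥤ _).Additive :=
    Functor.additive_of_preserves_binary_products _
  refine (Functor.preservesFiniteColimits_iff_forall_exact_map_and_epi _).2 fun S hS => ⟨?_, ?_⟩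
  · have := hS.mono_f
    exact hS.exact.map_of_mono_of_preservesKernel _ inferInstance inferInstance
  · have := hS.epi_g
    exact Groth.L10.WeakAB4.epi_limMap hB hcov S.g fun j => inferInstance

end Groth.Agent.S0492
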