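import Groth.Statements.S0496
import Groth.Agent.L05.Hensel.Perm

set_option autoImplicit false
universe u
open Hensel

namespace Groth.Agent.S0496

/-- If every factorization of the reduction of a monic polynomial into two coprime factors over the
residue field lifts to a factorization over the local ring, then the local ring is henselian. -/
theorem result (R : Type u) [CommRing R] [IsLocalRing R]
    (h : ∀ f : Polynomial R, f.Monic →
      ∀ g₀ h₀ : Polynomial (IsLocalRing.ResidueField R), IsCoprime g₀ h₀ →
      Polynomial.map (IsLocalRing.residue R) f = g₀ * h₀ →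
      ∃ g h : Polynomial R, f = g * h ∧ Polynomial.map (IsLocalRing.residue R) g = g₀ ∧
        Polynomial.map (IsLocalRing.residue R) h = h₀) :
    HenselianLocalRing R := by
  have hI : IsLocalRing.maximalIdeal R ≤ Ideal.jacobson ⊥ := IsLocalRing.maximalIdeal_le_jacobson _
  refine Groth.L05.henselianLocalRing_of_henselianRing (h := Groth.L05.henselianRing_of_gabberRoots
    ⟨hI, fun f n hn hf hmap => ?_⟩)
  let k₀ := IsLocalRing.ResidueField R
  have hmap' : f.map (IsLocalRing.residue R) =
      (Polynomial.X ^ n * (Polynomial.X - Polynomial.C 1) : Polynomial k₀) := by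
    rw [Polynomial.C_1]; exact hmap
  obtain ⟨g, k, hfgk, hgm, hkm⟩ := h f hf (Polynomial.X ^ n) (Polynomial.X - Polynomial.C (1 : k₀))
    (IsCoprime.pow_left ⟨1, -1, by rw [Polynomial.C_1]; ring⟩) hmap'
  let B := AdjoinRoot f
  have : Module.Finite R B := hf.finite_adjoinRoot
  set J := (IsLocalRing.maximalIdeal R).map (algebraMap R B)
  have hred : ∀ p q : Polynomial R, p.map (IsLocalRing.residue R) = q.map (IsLocalRing.residue R) →
      AdjoinRoot.mk f p - AdjoinRoot.mk f q ∈ J := by
    intro p q hpq
    rw [← map_sub, ← AdjoinRoot.aeval_eq, Polynomial.aeval_eq_sum_range]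
    refine Ideal.sum_mem _ fun i _ => ?_
    rw [Algebra.smul_def]
    refine Ideal.mul_mem_right _ _ (Ideal.mem_map_of_mem _ ?_)
    rw [← IsLocalRing.residue_eq_zero_iff, ← Polynomial.coeff_map, Polynomial.map_sub, hpq, sub_self,
      Polynomial.coeff_zero]
  set x : B := AdjoinRoot.root f
  set γ : B := AdjoinRoot.mk f g
  set κ : B := AdjoinRoot.mk f k
  have hγ : γ - x ^ n ∈ J := by
    have := hred g (Polynomial.X ^ n) (by simpa using hgm)
    simpa using this
  have hκ : κ - (x - 1) ∈ J := by
    have := hred k (Polynomial.X - 1) (by simpa using hkm)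
    simpa using this
  have hγκ : γ * κ = 0 := by rw [← map_mul, ← hfgk, AdjoinRoot.mk_self]
  -- `γ` and `κ` generate the unit ideal
  have htop : (1 : B) ∈ Ideal.span {γ, κ} := by
    obtain ⟨q, hq⟩ := Polynomial.X_sub_C_dvd_sub_C_eval (a := (1 : R)) (p := Polynomial.X ^ n)
    have hq' : x ^ n - 1 = (x - 1) * AdjoinRoot.mk f q := by
      simpa using congrArg (AdjoinRoot.mk f) hq
    have hu : IsUnit (γ - κ * AdjoinRoot.mk f q) := by
      refine Groth.L05.isUnit_of_sub_one_mem (Groth.L05.map_le_jacobson_bot (C := B) hI) ?_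
      rw [show γ - κ * AdjoinRoot.mk f q - 1 =
        (γ - x ^ n) - (κ - (x - 1)) * AdjoinRoot.mk f q by linear_combination hq']
      exact sub_mem hγ (Ideal.mul_mem_right _ _ hκ)
    exact (Ideal.eq_top_of_isUnit_mem _ (sub_mem (Ideal.subset_span (s := ({γ, κ} : Set B)) (Set.mem_insert γ _))
      (Ideal.mul_mem_right _ _ (Ideal.subset_span (s := ({γ, κ} : Set B)) (Set.mem_insert_of_mem γ rfl)))) hu) ▸ Submodule.mem_top
  obtain ⟨a, b, hab⟩ := Ideal.mem_span_pair.mp htop
  refine Groth.L05.exists_root_of_idem_congr hI f n hf hmap (a * γ) ?_ ?_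
  · show a * γ * (a * γ) = a * γ
    linear_combination (a * γ) * hab - a * b * hγκ
  · let φ := Ideal.Quotient.mk J
    rw [← Ideal.Quotient.eq]
    have h1 : φ a * φ x ^ n + φ b * (φ x - 1) = 1 := by
      have := congrArg φ hab
      rw [map_add, map_mul, map_mul, Ideal.Quotient.eq.mpr hγ, Ideal.Quotient.eq.mpr hκ,
        map_pow, map_sub, map_one] at this
      exact this
    have h2 : φ x ^ n * (φ x - 1) = 0 := by
      have := congrArg φ hγκ
      rw [map_mul, Ideal.Quotient.eq.mpr hγ, Ideal.Quotient.eq.mpr hκ, map_pow, map_sub, map_one,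
        map_zero] at this
      exact this
    show φ (a * γ) = φ (x ^ n)
    rw [map_mul, Ideal.Quotient.eq.mpr hγ, map_pow]
    have h3 : ∀ m, φ x ^ (n + m) = φ x ^ n := fun m => by
      induction m with
      | zero => rfl
      | succ m ih =>
        rw [← add_assoc, pow_succ, ih]
        linear_combination h2
    have h4 : φ x ^ n * φ x ^ n = φ x ^ n := by rw [← pow_add]; exact h3 n
    linear_combination (φ x ^ n) * h1 - φ b * h2 - φ a * h4

end Groth.Agent.S0496
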