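import Groth.Statements.S0498
import Groth.Agent.L05.Hensel.Newton

set_option autoImplicit false
universe u
open Hensel

namespace Groth.Agent.S0498

/-- Over a henselian local ring, a simple root in the residue field of the reduction of an arbitrary
polynomial (monic or not) lifts to a root in the ring. -/
theorem result (R : Type u) [CommRing R] [HenselianLocalRing R]
    (f : Polynomial R) (a₀ : IsLocalRing.ResidueField R)
    (h₁ : Polynomial.eval₂ (IsLocalRing.residue R) a₀ f = 0)
    (h₂ : Polynomial.eval₂ (IsLocalRing.residue R) a₀ (Polynomial.derivative f) ≠ 0) :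
    ∃ a : R, Polynomial.IsRoot f a ∧ IsLocalRing.residue R a = a₀ := by
  obtain ⟨a₁, rfl⟩ := IsLocalRing.residue_surjective a₀
  rw [Polynomial.eval₂_at_apply] at h₁ h₂
  let g : MvPolynomial Unit R := Polynomial.aeval (MvPolynomial.X ()) f
  have hev : ∀ (b : R) (p : Polynomial R),
      MvPolynomial.eval (fun _ => b) (Polynomial.aeval (MvPolynomial.X ()) p) = p.eval b := by
    intro b p
    induction p using Polynomial.induction_on' with
    | add p q hp hq => simp [hp, hq]
    | monomial k c => simp [MvPolynomial.algebraMap_eq]
  have hder : ∀ p : Polynomial R,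
      MvPolynomial.pderiv () (Polynomial.aeval (MvPolynomial.X ()) p : MvPolynomial Unit R) =
        Polynomial.aeval (MvPolynomial.X ()) (Polynomial.derivative p) := by
    intro p
    induction p using Polynomial.induction_on' with
    | add p q hp hq => simp [hp, hq]
    | monomial k c => simp [MvPolynomial.algebraMap_eq, Polynomial.derivative_monomial, Derivation.leibniz_pow, mul_comm, mul_assoc, mul_left_comm]
  obtain ⟨b, hb, hroot⟩ := Groth.L05.exists_zero_of_jacobian (IsLocalRing.maximalIdeal R)
    (fun _ : Unit => g) (fun _ => a₁)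
    (fun _ => by rw [hev]; exact (IsLocalRing.residue_eq_zero_iff _).mp h₁)
    (by
      rw [Matrix.det_unique]
      show IsUnit (Ideal.Quotient.mk _ (MvPolynomial.eval _ (MvPolynomial.pderiv () g)))
      rw [hder, hev]
      exact ((IsLocalRing.residue_ne_zero_iff_isUnit _).mp h₂).map _)
  refine ⟨b (), ?_, Ideal.Quotient.eq.mpr (hb ())⟩
  rw [Polynomial.IsRoot.def, ← hev (b ()) f]
  exact hroot ()

end Groth.Agent.S0498
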