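import Groth.Statements.S0502
import Groth.Agent.L05.Hensel.LocalCriteria

set_option autoImplicit false
universe u
open Hensel

namespace Groth.Agent.S0502

/-- A local ring `R` is henselian as soon as every étale `R`-algebra having a prime over the maximal
ideal with trivial residue field extension admits an `R`-algebra retraction to `R`. -/
theorem result (R : Type u) [CommRing R] [IsLocalRing R]
    (h : ∀ (S : Type u) [CommRing S] [Algebra R S] [Algebra.Etale R S] (q : Ideal S) [q.IsPrime],
      q.LiesOver (IsLocalRing.maximalIdeal R) → Function.Surjective (algebraMap R q.ResidueField) →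
      Nonempty (S →ₐ[R] R)) :
    HenselianLocalRing R := by
  refine Groth.L05.henselianLocalRing_of_retraction fun S _ _ _ σ _ => ?_
  let q := RingHom.ker (σ : S →+* R ⧸ IsLocalRing.maximalIdeal R)
  have hq : q.IsPrime := RingHom.ker_isPrime _
  refine h S q ⟨?_⟩ ?_
  · ext a
    simp [q, Ideal.Quotient.eq_zero_iff_mem]
  · have hall : ∀ s : S, ∃ r : R, algebraMap R q.ResidueField r = algebraMap S q.ResidueField s := by
      intro s
      obtain ⟨r, hr⟩ := Ideal.Quotient.mk_surjective (σ s)
      refine ⟨r, ?_⟩
      rw [IsScalarTower.algebraMap_apply R S q.ResidueField, ← sub_eq_zero, ← map_sub,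
        Ideal.algebraMap_residueField_eq_zero]
      show σ (algebraMap R S r - s) = 0
      rw [map_sub, σ.commutes, Ideal.Quotient.algebraMap_eq, hr, sub_self]
    intro y
    obtain ⟨x, ⟨t, ht⟩, rfl⟩ : ∃ (x : S) (t : q.primeCompl), y = algebraMap S q.ResidueField x / algebraMap S q.ResidueField t.1 := by
      obtain ⟨a, b, hb, rfl⟩ := IsFractionRing.div_surjective (S ⧸ q) y
      obtain ⟨a, rfl⟩ := Ideal.Quotient.mk_surjective a
      obtain ⟨b, rfl⟩ := Ideal.Quotient.mk_surjective b
      refine ⟨a, ⟨b, show b ∈ q.primeCompl from fun hbq => ?_⟩, rfl⟩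
      exact nonZeroDivisors.ne_zero hb (Ideal.Quotient.eq_zero_iff_mem.mpr hbq)
    obtain ⟨r, hr⟩ := hall x
    obtain ⟨r', hr'⟩ := hall t
    have hu : IsUnit r' := by
      by_contra hn
      apply ht
      have hm : algebraMap R S r' ∈ q := by
        show σ (algebraMap R S r') = 0
        rw [σ.commutes, Ideal.Quotient.algebraMap_eq, Ideal.Quotient.eq_zero_iff_mem]
        exact hn
      show t ∈ q
      rw [← Ideal.algebraMap_residueField_eq_zero (I := q), ← hr',
        IsScalarTower.algebraMap_apply R S q.ResidueField, Ideal.algebraMap_residueField_eq_zero]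
      exact hm
    obtain ⟨c, hc⟩ := hu.exists_left_inv
    refine ⟨r * c, ?_⟩
    rw [map_mul, ← hr, ← hr', eq_div_iff, mul_assoc, ← map_mul, hc, map_one, mul_one]
    exact (hu.map _).ne_zero

end Groth.Agent.S0502
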