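import Groth.Statements.S0504
import Groth.Agent.L05.Hensel.LocalAlg

set_option autoImplicit false
universe u
open Hensel

namespace Groth.Agent.S0504

/-- A finite-type algebra `S` over a henselian local ring `R` contains an idempotent `e` such that
`S/(1-e)` is finitely generated as an `R`-module and `R → S/(e)` is quasi-finite at no prime lying
over the maximal ideal of `R`. -/
theorem result (R : Type u) [CommRing R] [HenselianLocalRing R]
    (S : Type u) [CommRing S] [Algebra R S] [Algebra.FiniteType R S] :
    ∃ e : S, IsIdempotentElem e ∧ Module.Finite R (S ⧸ Ideal.span ({1 - e} : Set S)) ∧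
      ∀ (q : Ideal (S ⧸ Ideal.span ({e} : Set S))) [q.IsPrime],
        q.LiesOver (IsLocalRing.maximalIdeal R) → ¬ Algebra.QuasiFiniteAt R q := by
  obtain ⟨e, he, hfin, hqf⟩ := Groth.L05.exists_idem_finiteType (A := R) (S := S)
  refine ⟨e, he, hfin, fun q _ hover hq => ?_⟩
  set π := Ideal.Quotient.mk (Ideal.span ({e} : Set S))
  have hcomapP : (q.comap π).IsPrime := Ideal.comap_isPrime π q
  refine hqf (q.comap π) ?_ ⟨?_⟩ ?_
  · rw [Ideal.mem_comap, Ideal.Quotient.eq_zero_iff_mem.mpr (Ideal.mem_span_singleton_self e)]
    exact q.zero_mem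
  · have : IsLocalRing.maximalIdeal R = q.under R := hover.over
    rw [this, Ideal.under_def, Ideal.under_def, Ideal.comap_comap]
    rfl
  · let P := Localization.Away (1 - e)
    have hone : IsUnit (π (1 - e)) := by
      rw [map_sub, map_one, Ideal.Quotient.eq_zero_iff_mem.mpr (Ideal.mem_span_singleton_self e),
        sub_zero]
      exact isUnit_one
    let φ : P →ₐ[R] (S ⧸ Ideal.span ({e} : Set S)) :=
      IsLocalization.Away.liftAlgHom (1 - e) (f := Ideal.Quotient.mkₐ R _) hone
    have hez : algebraMap S P e = 0 := by
      have hu := IsLocalization.Away.algebraMap_isUnit (S := P) (1 - e)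
      refine hu.mul_left_cancel ?_
      rw [← map_mul, mul_zero, sub_mul, one_mul, he.eq, sub_self, map_zero]
    let ψ : (S ⧸ Ideal.span ({e} : Set S)) →ₐ[R] P :=
      Ideal.Quotient.liftₐ _ (IsScalarTower.toAlgHom R S P) (by
        intro a ha
        obtain ⟨c, rfl⟩ := Ideal.mem_span_singleton'.mp ha
        simp [hez])
    have h1 : φ.comp ψ = AlgHom.id R _ := by
      refine Ideal.Quotient.algHom_ext _ (AlgHom.ext fun s => ?_)
      show IsLocalization.Away.liftAlgHom (1 - e) hone (algebraMap S P s) = _
      rw [IsLocalization.Away.liftAlgHom_apply, IsLocalization.Away.lift_eq]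
      rfl
    have h2 : ψ.comp φ = AlgHom.id R _ := by
      refine IsLocalization.algHom_ext (.powers (1 - e)) (AlgHom.ext fun s => ?_)
      show ψ (IsLocalization.Away.liftAlgHom (1 - e) hone (algebraMap S P s)) = _
      rw [IsLocalization.Away.liftAlgHom_apply, IsLocalization.Away.lift_eq]
      rfl
    let E : P ≃ₐ[R] (S ⧸ Ideal.span ({e} : Set S)) := AlgEquiv.ofAlgHom φ ψ h1 h2
    have h3 : Algebra.QuasiFiniteAt R (q.comap E.toRingHom) := inferInstance
    have hP : (q.comap E.toRingHom).comap (algebraMap S P) = q.comap π := by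
      rw [Ideal.comap_comap]
      congr 1
      ext s
      show IsLocalization.Away.liftAlgHom (1 - e) hone (algebraMap S P s) = _
      rw [IsLocalization.Away.liftAlgHom_apply, IsLocalization.Away.lift_eq]
      rfl
    have := IsLocalization.isLocalization_isLocalization_atPrime_isLocalization
      (Submonoid.powers (1 - e)) (Localization.AtPrime (q.comap E.toRingHom)) (q.comap E.toRingHom)
    have h4 : IsLocalization.AtPrime (Localization.AtPrime (q.comap E.toRingHom)) (q.comap π) := by
      simp only [Ideal.under_def, hP] at this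
      exact this
    let E2 : Localization.AtPrime (q.comap E.toRingHom) ≃ₐ[S] Localization.AtPrime (q.comap π) :=
      IsLocalization.algEquiv (q.comap π).primeCompl _ _
    exact Algebra.QuasiFinite.of_surjective_algHom (E2.toAlgHom.restrictScalars R) E2.surjective

end Groth.Agent.S0504
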