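import Groth.Statements.S0516
import Groth.Agent.L05.Hensel.LocalAlg
import Groth.Agent.L05.Hensel.Homs
import Mathlib.RingTheory.Unramified.LocalRing

set_option autoImplicit false
universe u
open Hensel

namespace Groth.Agent.S0516

/-- An unramified algebra `S` (formally unramified of finite type) over a strictly henselian local ring
`R` is isomorphic over `R` to a product of finitely many quotient rings of `R` and an `R`-algebra in
which the maximal ideal of `R` generates the unit ideal. -/
theorem result (R : Type u) [CommRing R]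
    [HenselianLocalRing R] [IsSepClosed (IsLocalRing.ResidueField R)] (S : Type u) [CommRing S] [Algebra R S]
    [Algebra.Unramified R S] :
    ∃ (ι : Type u) (_ : Fintype ι) (A : ι → Type u) (_ : ∀ i, CommRing (A i))
      (_ : ∀ i, Algebra R (A i)) (B : Type u) (_ : CommRing B) (_ : Algebra R B),
      (∀ i, Function.Surjective (algebraMap R (A i))) ∧
      Ideal.map (algebraMap R B) (IsLocalRing.maximalIdeal R) = ⊤ ∧
      Nonempty (S ≃ₐ[R] ((∀ i, A i) × B)) := by
  obtain ⟨e, he, hfin, hqf⟩ := Groth.L05.exists_idem_finiteType (A := R) (S := S)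
  let T := S ⧸ Ideal.span ({1 - e} : Set S)
  let B := S ⧸ Ideal.span ({e} : Set S)
  obtain ⟨ι, hι, ε, hε, hloc⟩ := Groth.L05.exists_idem_local_of_finite (A := R) T
  let Φ : S ≃ₐ[R] T × B :=
    AlgEquiv.prodQuotientOfIsIdempotentElem (R := R) he.one_sub he (by simp)
      (by rw [sub_mul, one_mul, he.eq, sub_self])
  let Ψ : T →ₐ[R] (∀ i, T ⧸ Ideal.span ({1 - ε i} : Set T)) :=
    Pi.algHom R (fun i => T ⧸ Ideal.span ({1 - ε i} : Set T)) fun i => Ideal.Quotient.mkₐ R _
  have hΨ : Function.Bijective Ψ := hε.bijective_pi
  refine ⟨ι, hι, fun i => T ⧸ Ideal.span ({1 - ε i} : Set T), inferInstance, inferInstance, B,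
    inferInstance, inferInstance, fun i => ?_, ?_,
    ⟨Φ.trans (AlgEquiv.prodCongr (AlgEquiv.ofBijective Ψ hΨ) AlgEquiv.refl)⟩⟩
  · have := hloc i
    set A := T ⧸ Ideal.span ({1 - ε i} : Set T)
    have : Module.Finite R A := inferInstance
    have : Algebra.FiniteType R A := inferInstance
    have : Algebra.FormallyUnramified R T :=
      Algebra.FormallyUnramified.of_surjective (Ideal.Quotient.mkₐ R _) Ideal.Quotient.mk_surjective
    have : Algebra.FormallyUnramified R A :=
      Algebra.FormallyUnramified.of_surjective (Ideal.Quotient.mkₐ R (Ideal.span ({1 - ε i} : Set T)))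
        Ideal.Quotient.mk_surjective
    have : IsLocalHom (algebraMap R A) := by
      constructor
      intro a ha
      by_contra hn
      have hmem : a ∈ IsLocalRing.maximalIdeal R := hn
      have h1 := Groth.L05.map_le_jacobson_bot (C := A) (IsLocalRing.maximalIdeal_le_jacobson _)
        (Ideal.mem_map_of_mem _ hmem)
      exact (IsLocalRing.maximalIdeal.isMaximal A).ne_top (Ideal.eq_top_of_isUnit_mem _
        (sInf_le (show IsLocalRing.maximalIdeal A ∈ {J : Ideal A | ⊥ ≤ J ∧ J.IsMaximal} from
          ⟨bot_le, inferInstance⟩) h1) ha)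
    let k := IsLocalRing.ResidueField R
    let L := IsLocalRing.ResidueField A
    have : Algebra.FormallyUnramified R L := Algebra.FormallyUnramified.of_surjective
      (IsScalarTower.toAlgHom R A L) IsLocalRing.residue_surjective
    have : Algebra.FormallyUnramified k L := Algebra.FormallyUnramified.of_restrictScalars R k L
    have : Module.Finite k L := Module.Finite.of_restrictScalars_finite R k L
    have : Algebra.IsSeparable k L := Algebra.FormallyUnramified.isSeparable k L
    have hmap : IsLocalRing.maximalIdeal A =
        (IsLocalRing.maximalIdeal R).map (algebraMap R A) :=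
      (Algebra.FormallyUnramified.map_maximalIdeal).symm
    have htop : (⊤ : Submodule R A) ≤ LinearMap.range (Algebra.linearMap R A) := by
      refine Submodule.le_of_le_smul_of_le_jacobson_bot Module.Finite.fg_top
        (IsLocalRing.maximalIdeal_le_jacobson _) fun x _ => ?_
      obtain ⟨y, hy⟩ := IsSepClosed.algebraMap_surjective k L (IsLocalRing.residue A x)
      obtain ⟨r, rfl⟩ := IsLocalRing.residue_surjective (R := R) y
      refine Submodule.mem_sup.mpr ⟨algebraMap R A r, ⟨r, rfl⟩, x - algebraMap R A r, ?_,
        add_sub_cancel _ _⟩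
      rw [Ideal.smul_top_eq_map, Submodule.restrictScalars_mem, ← hmap]
      exact Ideal.Quotient.eq.mp hy.symm
    intro x
    exact htop (Submodule.mem_top (x := x))
  · by_contra hne
    obtain ⟨M, hM, hle⟩ := Ideal.exists_le_maximal _ hne
    set π := Ideal.Quotient.mk (Ideal.span ({e} : Set S))
    have : (M.comap π).IsPrime := Ideal.comap_isPrime π M
    refine hqf (M.comap π) ?_ ⟨?_⟩ inferInstance
    · rw [Ideal.mem_comap, Ideal.Quotient.eq_zero_iff_mem.mpr (Ideal.mem_span_singleton_self e)]
      exact M.zero_mem
    · rw [Ideal.under_def, Ideal.comap_comap]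
      exact (IsLocalRing.maximalIdeal.isMaximal R).eq_of_le (Ideal.comap_ne_top _ hM.ne_top)
        (Ideal.map_le_iff_le_comap.mp hle)

end Groth.Agent.S0516
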