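import Groth.Statements.S0517
import Groth.Agent.L05.Hensel.Homs

set_option autoImplicit false
universe u
open Hensel

namespace Groth.Agent.S0517

/-- Given strictly henselian local rings `R` and `S`, a local ring map `φ` between them, and a square
system of `n` polynomial equations in `n` unknowns over `R` whose quotient algebra is étale over
`R`, applying `φ` coordinatewise matches the solutions of the system in `Rⁿ` bijectively with the
solutions of the transported system in `Sⁿ`. -/
theorem result (R : Type u) [CommRing R]
    [HenselianLocalRing R] [IsSepClosed (IsLocalRing.ResidueField R)] (S : Type u) [CommRing S]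
    [HenselianLocalRing S] [IsSepClosed (IsLocalRing.ResidueField S)] (φ : R →+* S) [IsLocalHom φ] (n : ℕ)
    (P : Fin n → MvPolynomial (Fin n) R)
    [Algebra.Etale R (MvPolynomial (Fin n) R ⧸ Ideal.span (Set.range P))] :
    Set.BijOn (fun r : Fin n → R => φ ∘ r)
      {r : Fin n → R | ∀ i, MvPolynomial.eval r (P i) = 0}
      {s : Fin n → S | ∀ i, MvPolynomial.eval s (MvPolynomial.map φ (P i)) = 0} := by
  let Q := MvPolynomial (Fin n) R ⧸ Ideal.span (Set.range P)
  let : Algebra R S := φ.toAlgebra
  have hmap : ∀ (p : MvPolynomial (Fin n) R) (s : Fin n → S),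
      MvPolynomial.eval s (MvPolynomial.map φ p) = MvPolynomial.aeval s p := fun p s => by
    rw [MvPolynomial.eval_map]; rfl
  have hcomp : ∀ (p : MvPolynomial (Fin n) R) (r : Fin n → R),
      MvPolynomial.aeval (φ ∘ r) p = φ (MvPolynomial.eval r p) := by
    intro p r
    induction p using MvPolynomial.induction_on with
    | C a => simp; rfl
    | add p q hp hq => simp [hp, hq]
    | mul_X p i hp => simp [hp]
  let pt : ∀ (B : Type u) [CommRing B] [Algebra R B] (b : Fin n → B),
      (∀ i, MvPolynomial.aeval b (P i) = 0) → (Q →ₐ[R] B) := fun B _ _ b hb =>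
    Ideal.Quotient.liftₐ _ (MvPolynomial.aeval b) (by
      show Ideal.span (Set.range P) ≤ RingHom.ker (MvPolynomial.aeval b)
      rw [Ideal.span_le]
      rintro _ ⟨i, rfl⟩
      exact hb i)
  have hev : ∀ (r : Fin n → R) i, MvPolynomial.aeval r (P i) = MvPolynomial.eval r (P i) :=
    fun r i => by rw [← MvPolynomial.coe_aeval_eq_eval]; rfl
  refine ⟨fun r hr i => ?_, fun r hr r' hr' h => ?_, fun s hs => ?_⟩
  · rw [hmap, hcomp, hr i, map_zero]
  · let f := pt R r fun i => (hev r i).trans (hr i)
    let g := pt R r' fun i => (hev r' i).trans (hr' i)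
    have hres : ∀ i, IsLocalRing.residue R (r i) = IsLocalRing.residue R (r' i) := fun i =>
      (IsLocalRing.ResidueField.map φ).injective (by
        rw [IsLocalRing.ResidueField.map_residue, IsLocalRing.ResidueField.map_residue]
        exact congrArg (IsLocalRing.residue S) (congrFun h i))
    have h1 : (Ideal.Quotient.mkₐ R (IsLocalRing.maximalIdeal R)).comp f =
        (Ideal.Quotient.mkₐ R (IsLocalRing.maximalIdeal R)).comp g :=
      Ideal.Quotient.algHom_ext _ (MvPolynomial.algHom_ext fun i => by
        show IsLocalRing.residue R (MvPolynomial.aeval r (MvPolynomial.X i)) =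
          IsLocalRing.residue R (MvPolynomial.aeval r' (MvPolynomial.X i))
        simp [hres i])
    have hfg : f = g := Groth.L05.algHom_eq_of_sub_mem (IsLocalRing.maximalIdeal_le_jacobson _) f g
      fun x => Ideal.Quotient.eq.mp (DFunLike.congr_fun h1 x)
    funext i
    have := DFunLike.congr_fun hfg (Ideal.Quotient.mk _ (MvPolynomial.X i))
    change MvPolynomial.aeval r (MvPolynomial.X i) = MvPolynomial.aeval r' (MvPolynomial.X i) at this
    simpa using this
  · let k := IsLocalRing.ResidueField R
    let L := IsLocalRing.ResidueField S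
    let g := pt S s fun i => by rw [← hmap]; exact hs i
    let p0 : Q →ₐ[R] L :=
      { toRingHom := (IsLocalRing.residue S).comp g.toRingHom
        commutes' := fun a => by
          show IsLocalRing.residue S (g (algebraMap R Q a)) = _
          rw [g.commutes]
          rfl }
    let : Algebra k L := (IsLocalRing.ResidueField.map φ).toAlgebra
    have : IsScalarTower R k L := IsScalarTower.of_algebraMap_eq fun a => rfl
    let p : TensorProduct R k Q →ₐ[k] L :=
      Algebra.TensorProduct.lift (Algebra.ofId k L) p0 fun _ _ => Commute.all _ _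
    choose c hc using fun i => Groth.L05.exists_point_of_isSepClosed (B := TensorProduct R k Q) p
      ((1 : k) ⊗ₜ[R] Ideal.Quotient.mk _ (MvPolynomial.X i))
    choose r0 hr0 using fun i => IsLocalRing.residue_surjective (R := R) (c i)
    have hφr0 : ∀ i, IsLocalRing.residue S (φ (r0 i)) = IsLocalRing.residue S (s i) := by
      intro i
      rw [← IsLocalRing.ResidueField.map_residue, hr0]
      refine (hc i).trans ?_
      show Algebra.ofId k L 1 * p0 (Ideal.Quotient.mk _ (MvPolynomial.X i)) = _
      rw [map_one, one_mul]
      show IsLocalRing.residue S (MvPolynomial.aeval s (MvPolynomial.X i)) = _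
      rw [MvPolynomial.aeval_X]
    have h0 : ∀ i, MvPolynomial.aeval (fun j => IsLocalRing.residue R (r0 j)) (P i) = 0 := by
      intro i
      have h1 : MvPolynomial.aeval (fun j => IsLocalRing.residue R (r0 j)) (P i) =
          IsLocalRing.residue R (MvPolynomial.eval r0 (P i)) := by
        rw [← hev r0 i]
        exact (MvPolynomial.comp_aeval_apply (f := r0) (Algebra.ofId R k) (P i)).symm
      rw [h1]
      apply (IsLocalRing.ResidueField.map φ).injective
      rw [IsLocalRing.ResidueField.map_residue, map_zero, ← hcomp]
      have h2 : ∀ t : Fin n → S, IsLocalRing.residue S (MvPolynomial.aeval t (P i)) =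
          MvPolynomial.eval₂ ((IsLocalRing.residue S).comp φ) (IsLocalRing.residue S ∘ t) (P i) :=
        fun t => MvPolynomial.eval₂_comp_left (IsLocalRing.residue S) φ t (P i)
      rw [h2, show IsLocalRing.residue S ∘ (φ ∘ r0) = IsLocalRing.residue S ∘ s from funext hφr0, ← h2,
        ← hmap, hs i, map_zero]
    obtain ⟨τ, hτ, -⟩ := Groth.L05.existsUnique_algHom_lift_etale (R := R) (B := R) (S := Q)
      (IsLocalRing.maximalIdeal R) (pt (R ⧸ IsLocalRing.maximalIdeal R) _ h0)
    have hXr : ∀ i, IsLocalRing.residue R (τ (Ideal.Quotient.mk _ (MvPolynomial.X i))) =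
        IsLocalRing.residue R (r0 i) := by
      intro i
      refine (DFunLike.congr_fun hτ _).trans ?_
      show MvPolynomial.aeval (fun j => IsLocalRing.residue R (r0 j)) (MvPolynomial.X i) = _
      rw [MvPolynomial.aeval_X]
    let r : Fin n → R := fun i => τ (Ideal.Quotient.mk _ (MvPolynomial.X i))
    have hτr : ∀ p : MvPolynomial (Fin n) R,
        τ (Ideal.Quotient.mk _ p) = MvPolynomial.eval r p := by
      intro p
      induction p using MvPolynomial.induction_on with
      | C a =>
        rw [MvPolynomial.eval_C]
        exact τ.commutes a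
      | add p q hp hq => simp [hp, hq]
      | mul_X p i hp => simp [hp, r]
    refine ⟨r, fun i => ?_, ?_⟩
    · rw [← hτr, Ideal.Quotient.eq_zero_iff_mem.mpr (Ideal.subset_span (Set.mem_range_self i)),
        map_zero]
    · have hr : ∀ i, MvPolynomial.aeval (φ ∘ r) (P i) = 0 := fun i => by
        rw [hcomp, ← hτr, Ideal.Quotient.eq_zero_iff_mem.mpr (Ideal.subset_span (Set.mem_range_self i)),
          map_zero, map_zero]
      have h3 : (Ideal.Quotient.mkₐ R (IsLocalRing.maximalIdeal S)).comp (pt S _ hr) =
          (Ideal.Quotient.mkₐ R (IsLocalRing.maximalIdeal S)).comp g :=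
        Ideal.Quotient.algHom_ext _ (MvPolynomial.algHom_ext fun i => by
          show IsLocalRing.residue S (MvPolynomial.aeval (φ ∘ r) (MvPolynomial.X i)) =
            IsLocalRing.residue S (MvPolynomial.aeval s (MvPolynomial.X i))
          rw [MvPolynomial.aeval_X, MvPolynomial.aeval_X, ← hφr0 i, Function.comp_apply,
            ← IsLocalRing.ResidueField.map_residue, hXr, IsLocalRing.ResidueField.map_residue])
      have h4 : pt S _ hr = g := Groth.L05.algHom_eq_of_sub_mem (IsLocalRing.maximalIdeal_le_jacobson _) _ g
        fun x => Ideal.Quotient.eq.mp (DFunLike.congr_fun h3 x)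
      funext i
      have := DFunLike.congr_fun h4 (Ideal.Quotient.mk _ (MvPolynomial.X i))
      change MvPolynomial.aeval (φ ∘ r) (MvPolynomial.X i) =
        MvPolynomial.aeval s (MvPolynomial.X i) at this
      simpa using this

end Groth.Agent.S0517
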