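import Groth.Statements.S0520
import Groth.Agent.L05.Hensel.Criteria

set_option autoImplicit false
universe u
open Hensel

namespace Groth.Agent.S0520

/-- A ring `A` is Henselian at an ideal `I` in Mathlib's sense (simple roots lift) exactly when `I` lies
in the Jacobson radical and every factorization of the reduction of a monic polynomial into two
comaximal monic factors over `A/I` lifts to a factorization into monic polynomials over `A`. -/
theorem result (A : Type u) [CommRing A] (I : Ideal A) :
    HenselianRing A I ↔ (I ≤ Ideal.jacobson ⊥ ∧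
      ∀ f : Polynomial A, f.Monic → ∀ g₀ h₀ : Polynomial (A ⧸ I), g₀.Monic → h₀.Monic →
        IsCoprime g₀ h₀ → Polynomial.map (Ideal.Quotient.mk I) f = g₀ * h₀ →
        ∃ g h : Polynomial A, g.Monic ∧ h.Monic ∧ f = g * h ∧
          Polynomial.map (Ideal.Quotient.mk I) g = g₀ ∧ Polynomial.map (Ideal.Quotient.mk I) h = h₀) := by
  constructor
  · intro hh
    refine ⟨hh.jac, fun f hf g₀ h₀ hg hh₀ hc heq => ?_⟩
    obtain ⟨g, k, h1, h2, h3, h4, h5, -⟩ :=
      Groth.L05.exists_factor_lift I f hf g₀ h₀ hg hh₀ hc heq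
    exact ⟨g, k, h1, h2, h3, h4, h5⟩
  · rintro ⟨hI, hfac⟩
    refine ⟨hI, fun f hf a₀ h1 h2 => ?_⟩
    obtain ⟨q, hq⟩ := Polynomial.X_sub_C_dvd_sub_C_eval (a := Ideal.Quotient.mk I a₀)
      (p := f.map (Ideal.Quotient.mk I))
    rw [Polynomial.eval_map_apply, Ideal.Quotient.eq_zero_iff_mem.mpr h1, map_zero, sub_zero] at hq
    have hqm : q.Monic :=
      (Polynomial.monic_X_sub_C _).of_mul_monic_left (hq ▸ hf.map _)
    have hder : q.eval (Ideal.Quotient.mk I a₀) = Ideal.Quotient.mk I (f.derivative.eval a₀) := by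
      have := congrArg (fun p => Polynomial.eval (Ideal.Quotient.mk I a₀) (Polynomial.derivative p)) hq
      simp only [Polynomial.derivative_map, Polynomial.eval_map_apply] at this
      rw [this]; simp
    obtain ⟨s, hs⟩ := Polynomial.X_sub_C_dvd_sub_C_eval (a := Ideal.Quotient.mk I a₀) (p := q)
    obtain ⟨c, hc⟩ := (hder ▸ h2 : IsUnit (q.eval (Ideal.Quotient.mk I a₀))).exists_left_inv
    have hcop : IsCoprime (Polynomial.X - Polynomial.C (Ideal.Quotient.mk I a₀)) q := by
      refine ⟨- (Polynomial.C c * s), Polynomial.C c, ?_⟩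
      have : Polynomial.C c * Polynomial.C (q.eval (Ideal.Quotient.mk I a₀)) = 1 := by
        rw [← map_mul, hc, map_one]
      linear_combination Polynomial.C c * hs + this
    obtain ⟨g, k, hg, hk, hfgk, hgm, hkm⟩ :=
      hfac f hf _ q (Polynomial.monic_X_sub_C _) hqm hcop hq
    cases subsingleton_or_nontrivial (A ⧸ I)
    · have := Groth.L05.subsingleton_of_subsingleton_quotient hI
      exact ⟨a₀, Subsingleton.elim _ _, by simp⟩
    have hdeg : g.natDegree = 1 := by
      rw [← hg.natDegree_map (Ideal.Quotient.mk I), hgm, Polynomial.natDegree_X_sub_C]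
    refine ⟨- g.coeff 0, ?_, ?_⟩
    · rw [Polynomial.IsRoot.def, hfgk, Polynomial.eval_mul, hg.eq_X_add_C hdeg]
      simp
    · rw [← Ideal.Quotient.eq, map_neg, ← Polynomial.coeff_map, hgm]
      simp

end Groth.Agent.S0520
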