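import Groth.Statements.S0524
import Groth.Agent.L05.Hensel.Pairs

set_option autoImplicit false
universe u
open Hensel

namespace Groth.Agent.S0524

/-- (1) iff (5) with the uniqueness complement: `A` is Henselian at `I` exactly when `I` lies in the
Jacobson radical and, for every `n ≥ 1` and every polynomial `p` of degree at most `n` with all
coefficients in `I`, the polynomial `Tⁿ(T-1) + p` has exactly one root congruent to `1` modulo `I`. -/
theorem result (A : Type u) [CommRing A] (I : Ideal A) :
    HenselianRing A I ↔ (I ≤ Ideal.jacobson ⊥ ∧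
      ∀ (n : ℕ), 0 < n → ∀ p : Polynomial A, p.natDegree ≤ n → (∀ i, p.coeff i ∈ I) →
        ∃! α : A, α - 1 ∈ I ∧
          Polynomial.IsRoot (Polynomial.X ^ n * (Polynomial.X - 1) + p) α) := by
  constructor
  · intro hh
    refine ⟨hh.jac, fun n hn p hp hpI => ?_⟩
    set f : Polynomial A := Polynomial.X ^ n * (Polynomial.X - 1) + p
    cases subsingleton_or_nontrivial A
    · exact ⟨1, ⟨by simp, Subsingleton.elim _ _⟩, fun _ _ => Subsingleton.elim _ _⟩
    have hpm : p.map (Ideal.Quotient.mk I) = 0 := by
      ext i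
      rw [Polynomial.coeff_map, Polynomial.coeff_zero, Ideal.Quotient.eq_zero_iff_mem]
      exact hpI i
    have hmap : f.map (Ideal.Quotient.mk I) = Polynomial.X ^ n * (Polynomial.X - 1) := by
      simp [f, hpm]
    have h1 : (Polynomial.X - 1 : Polynomial A).Monic := by
      simpa using Polynomial.monic_X_sub_C (1 : A)
    have hd : (Polynomial.X ^ n * (Polynomial.X - 1) : Polynomial A).natDegree = n + 1 := by
      rw [(Polynomial.monic_X_pow n).natDegree_mul h1, Polynomial.natDegree_X_pow]
      simpa using Polynomial.natDegree_X_sub_C (1 : A)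
    have hf : f.Monic :=
      ((Polynomial.monic_X_pow n).mul h1).add_of_left (Polynomial.degree_lt_degree (by omega))
    obtain ⟨α, hα, hroot⟩ := (Groth.L05.gabberRoots_of_henselianRing I).2 f n hn hf hmap
    refine ⟨α, ⟨hα, hroot⟩, ?_⟩
    rintro β ⟨hβ, hβroot⟩
    obtain ⟨q, hq⟩ := Polynomial.dvd_iff_isRoot.mpr hroot
    have h2 := congrArg (fun r => Polynomial.eval β r) hq
    simp only [Polynomial.eval_mul, Polynomial.eval_sub, Polynomial.eval_X, Polynomial.eval_C] at h2
    have hu : IsUnit (q.eval β) := by
      refine Groth.L05.isUnit_of_sub_one_mem hh.jac ?_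
      rw [← Ideal.Quotient.eq, ← Polynomial.eval_map_apply]
      have hq' := congrArg (Polynomial.map (Ideal.Quotient.mk I)) hq
      rw [hmap, Polynomial.map_mul, Polynomial.map_sub, Polynomial.map_X, Polynomial.map_C,
        Ideal.Quotient.eq.mpr hα, map_one, map_one, mul_comm] at hq'
      have hm : (Polynomial.X - 1 : Polynomial (A ⧸ I)).Monic := by
        simpa using Polynomial.monic_X_sub_C (1 : A ⧸ I)
      rw [← hm.isRegular.left hq', Ideal.Quotient.eq.mpr hβ]
      simp
    rw [hβroot] at h2
    exact sub_eq_zero.mp (hu.mul_left_eq_zero.mp h2.symm)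
  · rintro ⟨hI, h⟩
    refine Groth.L05.henselianRing_of_gabberRoots ⟨hI, fun f n hn hf hmap => ?_⟩
    cases subsingleton_or_nontrivial (A ⧸ I)
    · have : Subsingleton A := by
        have h0 : IsUnit (0 : A) :=
          Groth.L05.isUnit_of_isUnit_mk hI (isUnit_of_subsingleton _)
        exact subsingleton_of_zero_eq_one (isUnit_zero_iff.mp h0)
      exact ⟨1, by simp, Subsingleton.elim _ _⟩
    have h1 : (Polynomial.X - 1 : Polynomial (A ⧸ I)).Monic := by
      simpa using Polynomial.monic_X_sub_C (1 : A ⧸ I)
    have h1' : (Polynomial.X - 1 : Polynomial A).Monic := by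
      simpa using Polynomial.monic_X_sub_C (1 : A)
    have hd : f.natDegree = n + 1 := by
      rw [← hf.natDegree_map (Ideal.Quotient.mk I), hmap,
        (Polynomial.monic_X_pow n).natDegree_mul h1, Polynomial.natDegree_X_pow]
      simpa using Polynomial.natDegree_X_sub_C (1 : A ⧸ I)
    have : Nontrivial A := (Ideal.Quotient.mk_surjective (I := I)).nontrivial
    have hd' : (Polynomial.X ^ n * (Polynomial.X - 1) : Polynomial A).natDegree = n + 1 := by
      rw [(Polynomial.monic_X_pow n).natDegree_mul h1', Polynomial.natDegree_X_pow]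
      simpa using Polynomial.natDegree_X_sub_C (1 : A)
    obtain ⟨α, ⟨hα, hroot⟩, -⟩ := h n hn (f - Polynomial.X ^ n * (Polynomial.X - 1)) (by
      rw [Polynomial.natDegree_le_iff_coeff_eq_zero]
      intro i hi
      rw [Polynomial.coeff_sub]
      rcases eq_or_lt_of_le (Nat.succ_le_of_lt hi) with h' | h'
      · have e1 : f.coeff (n + 1) = 1 := hd ▸ hf.coeff_natDegree
        have e2 : (Polynomial.X ^ n * (Polynomial.X - 1) : Polynomial A).coeff (n + 1) = 1 :=
          hd' ▸ ((Polynomial.monic_X_pow n).mul h1').coeff_natDegree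
        rw [show i = n + 1 from h'.symm, e1, e2, sub_self]
      · rw [Polynomial.coeff_eq_zero_of_natDegree_lt (by omega),
          Polynomial.coeff_eq_zero_of_natDegree_lt (by omega), sub_zero]) (fun i => by
        rw [← Ideal.Quotient.eq_zero_iff_mem, ← Polynomial.coeff_map, Polynomial.map_sub, hmap]
        simp)
    exact ⟨α, hα, by simpa using hroot⟩

end Groth.Agent.S0524
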