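import Groth.Statements.S0529
import Groth.Agent.L05.Hensel.Pairs

set_option autoImplicit false
universe u
open Hensel

namespace Groth.Agent.S0529

/-- A product of rings, with the product ideal, is Henselian exactly when every factor is Henselian at
its ideal. -/
theorem result (J : Type u) (A : J → Type u) [∀ j, CommRing (A j)]
    (I : ∀ j, Ideal (A j)) :
    HenselianRing (∀ j, A j) (⨅ j, Ideal.comap (Pi.evalRingHom A j) (I j)) ↔
      ∀ j, HenselianRing (A j) (I j) := by
  classical
  set K : Ideal (∀ j, A j) := ⨅ j, Ideal.comap (Pi.evalRingHom A j) (I j)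
  have hK : ∀ x, x ∈ K ↔ ∀ j, x j ∈ I j := fun x => by
    simp only [K, Ideal.mem_iInf, Ideal.mem_comap, Pi.evalRingHom_apply]
  constructor
  · intro hh j
    have hev : ∀ x, Pi.evalRingHom A j x = x j := fun x => rfl
    refine Groth.L05.henselianRing_of_gabberRoots ⟨?_, ?_⟩
    · intro x hx
      rw [Ideal.mem_jacobson_bot]
      intro y
      have hmem : Pi.single j x ∈ K := (hK _).mpr fun i => by
        rcases eq_or_ne i j with rfl | hne
        · simpa using hx
        · simp [Pi.single_eq_of_ne hne]
      have := (Ideal.mem_jacobson_bot.mp (hh.jac hmem) (Pi.single j y)).map (Pi.evalRingHom A j)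
      simpa using this
    · intro f n hn hf hmap
      cases subsingleton_or_nontrivial (A j ⧸ I j)
      · refine ⟨1, by simp, ?_⟩
        have htop : I j = ⊤ := Ideal.Quotient.subsingleton_iff.mp inferInstance
        have hmem : Pi.single j (1 : A j) ∈ K := (hK _).mpr fun i => by
          rcases eq_or_ne i j with rfl | hne
          · simp [htop]
          · simp [Pi.single_eq_of_ne hne]
        have := (Ideal.mem_jacobson_bot.mp (hh.jac hmem) (-1)).map (Pi.evalRingHom A j)
        simp at this
        have : Subsingleton (A j) := subsingleton_of_zero_eq_one this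
        exact Subsingleton.elim _ _
      have : Nontrivial (A j) := (Ideal.Quotient.mk (I j)).domain_nontrivial
      have hX1 : (Polynomial.X - 1 : Polynomial (A j ⧸ I j)).Monic := by
        simpa using Polynomial.monic_X_sub_C (1 : A j ⧸ I j)
      have hX1' : (Polynomial.X - 1 : Polynomial (A j)).Monic := by
        simpa using Polynomial.monic_X_sub_C (1 : A j)
      have hd : f.natDegree = n + 1 := by
        rw [← hf.natDegree_map (Ideal.Quotient.mk (I j)), hmap,
          (Polynomial.monic_X_pow n).natDegree_mul hX1, Polynomial.natDegree_X_pow]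
        simpa using Polynomial.natDegree_X_sub_C (1 : A j ⧸ I j)
      have hd' : (Polynomial.X ^ n * (Polynomial.X - 1) : Polynomial (A j)).natDegree = n + 1 := by
        rw [(Polynomial.monic_X_pow n).natDegree_mul hX1', Polynomial.natDegree_X_pow]
        simpa using Polynomial.natDegree_X_sub_C (1 : A j)
      set p := f - Polynomial.X ^ n * (Polynomial.X - 1) with hp
      have hpd : ∀ k, n < k → p.coeff k = 0 := fun k hk => by
        rw [hp, Polynomial.coeff_sub]
        rcases eq_or_lt_of_le (Nat.succ_le_of_lt hk) with h' | h'
        · have e1 : f.coeff (n + 1) = 1 := hd ▸ hf.coeff_natDegree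
          have e2 : (Polynomial.X ^ n * (Polynomial.X - 1) : Polynomial (A j)).coeff (n + 1) = 1 :=
            hd' ▸ ((Polynomial.monic_X_pow n).mul hX1').coeff_natDegree
          rw [show k = n + 1 from h'.symm, e1, e2, sub_self]
        · rw [Polynomial.coeff_eq_zero_of_natDegree_lt (by omega),
            Polynomial.coeff_eq_zero_of_natDegree_lt (by omega), sub_zero]
      have hpI : ∀ k, p.coeff k ∈ I j := fun k => by
        rw [← Ideal.Quotient.eq_zero_iff_mem, ← Polynomial.coeff_map, hp, Polynomial.map_sub, hmap]
        simp
      let g : Polynomial (∀ i, A i) := ∑ k ∈ Finset.range (n + 1),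
        Polynomial.C (Pi.single j (p.coeff k)) * Polynomial.X ^ k
      have hgd : g.degree < ((n + 1 : ℕ) : WithBot ℕ) := by
        refine (Polynomial.degree_sum_le _ _).trans_lt ((Finset.sup_lt_iff (WithBot.bot_lt_coe _)).mpr ?_)
        intro k hk
        exact (Polynomial.degree_C_mul_X_pow_le k _).trans_lt
          (WithBot.coe_lt_coe.mpr (Finset.mem_range.mp hk))
      have : Nontrivial (∀ i, A i) := (Pi.evalRingHom A j).domain_nontrivial
      have hX1'' : (Polynomial.X - 1 : Polynomial (∀ i, A i)).Monic := by
        simpa using Polynomial.monic_X_sub_C (1 : ∀ i, A i)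
      have hd'' : (Polynomial.X ^ n * (Polynomial.X - 1) : Polynomial (∀ i, A i)).degree =
          ((n + 1 : ℕ) : WithBot ℕ) := by
        rw [Polynomial.degree_eq_natDegree ((Polynomial.monic_X_pow n).mul hX1'').ne_zero,
          (Polynomial.monic_X_pow n).natDegree_mul hX1'', Polynomial.natDegree_X_pow]
        congr 2
        simpa using Polynomial.natDegree_X_sub_C (1 : ∀ i, A i)
      let F := Polynomial.X ^ n * (Polynomial.X - 1) + g
      have hF : F.Monic := ((Polynomial.monic_X_pow n).mul hX1'').add_of_left (hd'' ▸ hgd)
      have hgK : g.map (Ideal.Quotient.mk K) = 0 := by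
        simp only [g, Polynomial.map_sum, Polynomial.map_mul, Polynomial.map_C]
        refine Finset.sum_eq_zero fun k _ => ?_
        rw [Ideal.Quotient.eq_zero_iff_mem.mpr ((hK _).mpr fun i => ?_), map_zero, zero_mul]
        rcases eq_or_ne i j with rfl | hne
        · rw [Pi.single_eq_same]; exact hpI k
        · simp [Pi.single_eq_of_ne hne]
      obtain ⟨α, hα, hroot⟩ := (Groth.L05.gabberRoots_of_henselianRing K).2 F n hn hF
        (by simp [F, hgK])
      refine ⟨α j, by have := (hK _).mp hα j; simpa using this, ?_⟩
      have hFj : F.map (Pi.evalRingHom A j) = f := by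
        have : g.map (Pi.evalRingHom A j) = p := by
          simp only [g, Polynomial.map_sum, Polynomial.map_mul, Polynomial.map_C, Polynomial.map_pow,
            Polynomial.map_X, Pi.evalRingHom_apply, Pi.single_eq_same]
          exact (p.as_sum_range_C_mul_X_pow' (Nat.lt_succ_of_le
            (Polynomial.natDegree_le_iff_coeff_eq_zero.mpr hpd))).symm
        simp [F, Polynomial.map_add, this, hp]
      rw [← hFj, Polynomial.IsRoot.def, show α j = Pi.evalRingHom A j α from rfl,
        Polynomial.eval_map_apply, hroot, map_zero]
  · intro hh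
    refine Groth.L05.henselianRing_of_gabberRoots ⟨?_, ?_⟩
    · intro x hx
      rw [Ideal.mem_jacobson_bot]
      intro y
      choose v hv using fun j =>
        (Ideal.mem_jacobson_bot.mp ((hh j).jac ((hK x).mp hx j)) (y j)).exists_right_inv
      exact IsUnit.of_mul_eq_one v (funext hv)
    · intro f n hn hf hmap
      have key : ∀ j, ∃ α : A j, α - 1 ∈ I j ∧ (f.map (Pi.evalRingHom A j)).IsRoot α := by
        intro j
        refine (@Groth.L05.gabberRoots_of_henselianRing _ _ (I j) (hh j)).2 _ n hn (hf.map _) ?_
        have hle : K ≤ RingHom.ker ((Ideal.Quotient.mk (I j)).comp (Pi.evalRingHom A j)) := fun x hx =>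
          Ideal.Quotient.eq_zero_iff_mem.mpr ((hK x).mp hx j)
        have := congrArg (Polynomial.map (Ideal.Quotient.lift K
          ((Ideal.Quotient.mk (I j)).comp (Pi.evalRingHom A j)) hle)) hmap
        rw [Polynomial.map_map, Ideal.Quotient.lift_comp_mk, ← Polynomial.map_map] at this
        simpa using this
      choose α hα hroot using key
      refine ⟨α, (hK _).mpr fun j => hα j, ?_⟩
      rw [Polynomial.IsRoot.def]
      funext j
      have := hroot j
      rw [Polynomial.IsRoot.def, show α j = Pi.evalRingHom A j α from rfl, Polynomial.eval_map_apply] at this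
      exact this

end Groth.Agent.S0529
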