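import Groth.Statements.S0530
import Groth.Agent.L05.Hensel.Perm
import Mathlib.RingTheory.Spectrum.Prime.Topology

set_option autoImplicit false
universe u
open Hensel

namespace Groth.Agent.S0530

/-- If `A` is Henselian at `I` and `p` is a prime ideal of `A`, then the spectrum of `A/(p + I)` is
connected. -/
theorem result (A : Type u) [CommRing A] (I : Ideal A) [HenselianRing A I]
    (p : Ideal A) [p.IsPrime] : ConnectedSpace (PrimeSpectrum (A ⧸ p ⊔ I)) := by
  have hmap : (p ⊔ I) = Ideal.comap (Ideal.Quotient.mk p) (I.map (Ideal.Quotient.mk p)) := by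
    rw [Ideal.comap_map_of_surjective _ Ideal.Quotient.mk_surjective, ← RingHom.ker_eq_comap_bot,
      Ideal.mk_ker, sup_comm]
  have := Groth.L05.henselianRing_quotient I p
  have hne : p ⊔ I ≠ ⊤ := by
    intro htop
    obtain ⟨a, ha, b, hb, hab⟩ := Submodule.mem_sup.mp (htop ▸ Submodule.mem_top : (1 : A) ∈ p ⊔ I)
    have : IsUnit a := Groth.L05.isUnit_of_sub_one_mem (HenselianRing.jac (I := I))
      (by rw [← hab, sub_add_cancel_left]; exact neg_mem hb)
    exact (inferInstance : p.IsPrime).ne_top (Ideal.eq_top_of_isUnit_mem _ ha this)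
  have : Nontrivial (A ⧸ p ⊔ I) := Ideal.Quotient.nontrivial_iff.mpr hne
  let E : (A ⧸ p) ⧸ I.map (Ideal.Quotient.mk p) ≃+* A ⧸ p ⊔ I :=
    DoubleQuot.quotQuotEquivQuotSup p I
  rw [connectedSpace_iff_clopen]
  refine ⟨inferInstance, fun s hs => ?_⟩
  obtain ⟨e, he, rfl⟩ := PrimeSpectrum.exists_idempotent_basicOpen_eq_of_isClopen hs
  rcases Groth.L05.idem_quotient_domain (I.map (Ideal.Quotient.mk p)) (he.map E.symm) with h0 | h1
  · left
    rw [show e = 0 from E.symm.injective (h0.trans (map_zero _).symm)]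
    simp
  · right
    rw [show e = 1 from E.symm.injective (h1.trans (map_one _).symm)]
    simp

end Groth.Agent.S0530
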