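import Groth.Statements.S0535
import Mathlib.RingTheory.Nakayama
import Mathlib.Algebra.Module.Projective
import Mathlib.RingTheory.OrzechProperty
import Mathlib.LinearAlgebra.TensorProduct.RightExactness
import Mathlib.LinearAlgebra.TensorProduct.Quotient
import Mathlib.RingTheory.FiniteType

set_option autoImplicit false
universe u
open Hensel

namespace Groth.Agent.S0535

/-- If `R` is Henselian at `I` and two finitely generated projective `R`-modules become isomorphic after
base change to `R/I`, then they are isomorphic. -/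
theorem result (R : Type u) [CommRing R] (I : Ideal R)
    [HenselianRing R I] (P₁ P₂ : Type u) [AddCommGroup P₁] [Module R P₁] [AddCommGroup P₂]
    [Module R P₂] [Module.Finite R P₁] [Module.Projective R P₁] [Module.Finite R P₂]
    [Module.Projective R P₂]
    (e : TensorProduct R (R ⧸ I) P₁ ≃ₗ[R ⧸ I] TensorProduct R (R ⧸ I) P₂) :
    Nonempty (P₁ ≃ₗ[R] P₂) := by
  have hI : I ≤ Ideal.jacobson ⊥ := HenselianRing.jac
  let q₁ : P₁ →ₗ[R] TensorProduct R (R ⧸ I) P₁ := TensorProduct.mk R (R ⧸ I) P₁ 1
  let q₂ : P₂ →ₗ[R] TensorProduct R (R ⧸ I) P₂ := TensorProduct.mk R (R ⧸ I) P₂ 1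
  have hq₁ : Function.Surjective q₁ := TensorProduct.mk_surjective R P₁ _ Ideal.Quotient.mk_surjective
  have hq₂ : Function.Surjective q₂ := TensorProduct.mk_surjective R P₂ _ Ideal.Quotient.mk_surjective
  obtain ⟨φ, hφ⟩ := Module.projective_lifting_property q₂ ((e.toLinearMap.restrictScalars R).comp q₁) hq₂
  obtain ⟨ψ, hψ⟩ := Module.projective_lifting_property q₁ ((e.symm.toLinearMap.restrictScalars R).comp q₂) hq₁
  have hφ' : ∀ x, q₂ (φ x) = e (q₁ x) := fun x => LinearMap.congr_fun hφ x
  have hψ' : ∀ x, q₁ (ψ x) = e.symm (q₂ x) := fun x => LinearMap.congr_fun hψ x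
  have key : ∀ (P : Type u) [AddCommGroup P] [Module R P] [Module.Finite R P] (θ : P →ₗ[R] P),
      (∀ x, TensorProduct.mk R (R ⧸ I) P 1 (θ x) = TensorProduct.mk R (R ⧸ I) P 1 x) →
      Function.Bijective θ := by
    intro P _ _ _ θ hθ
    have hsurj : Function.Surjective θ := by
      rw [← LinearMap.range_eq_top]
      apply top_unique
      refine Submodule.le_of_le_smul_of_le_jacobson_bot Module.Finite.fg_top hI ?_
      intro x _
      have h0 : TensorProduct.mk R (R ⧸ I) P 1 (x - θ x) = 0 := by rw [map_sub, hθ, sub_self]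
      have h1 : x - θ x ∈ I • (⊤ : Submodule R P) := by
        have := congrArg (TensorProduct.quotTensorEquivQuotSMul P I) h0
        rw [map_zero, TensorProduct.mk_apply, ← map_one (Ideal.Quotient.mk I),
          TensorProduct.quotTensorEquivQuotSMul_mk_tmul, one_smul] at this
        exact (Submodule.Quotient.mk_eq_zero _).mp this
      exact Submodule.mem_sup.mpr ⟨θ x, ⟨x, rfl⟩, x - θ x, h1, add_sub_cancel _ _⟩
    exact ⟨OrzechProperty.injective_of_surjective_endomorphism θ hsurj, hsurj⟩
  have h1 := key P₁ (ψ ∘ₗ φ) fun x => by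
    show q₁ (ψ (φ x)) = q₁ x
    rw [hψ', hφ', LinearEquiv.symm_apply_apply]
  have h2 := key P₂ (φ ∘ₗ ψ) fun x => by
    show q₂ (φ (ψ x)) = q₂ x
    rw [hφ', hψ', LinearEquiv.apply_symm_apply]
  exact ⟨LinearEquiv.ofBijective φ ⟨Function.Injective.of_comp (f := ψ) h1.1,
    Function.Surjective.of_comp (g := ψ) h2.2⟩⟩

end Groth.Agent.S0535
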