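import Groth.Statements.S0545
import Mathlib.RingTheory.AdicCompletion.AsTensorProduct
import Mathlib.RingTheory.AdicCompletion.Noetherian
import Mathlib.RingTheory.AdicCompletion.Functoriality
import Mathlib.RingTheory.Henselian

set_option autoImplicit false
universe u
open CAlg

namespace Groth.Agent.S0545

/-- For a Noetherian ring `A` with two ideals `I` and `J`, completeness of `A` along `I` together with
completeness of the quotient `A/I` along the image of `J` forces completeness of `A` along `J`. -/
theorem result (A : Type u) [CommRing A] [IsNoetherianRing A]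
    (I J : Ideal A) [IsAdicComplete I A]
    [IsAdicComplete (Ideal.map (Ideal.Quotient.mk I) J) (A ⧸ I)] : IsAdicComplete J A := by
  set K := I ⊔ J with hKdef
  have hmk : K.map (Ideal.Quotient.mk I) = J.map (Ideal.Quotient.mk I) := by
    rw [hKdef, Ideal.map_sup, Ideal.map_quotient_self, bot_sup_eq]
  have hcomp : IsPrecomplete K (A ⧸ I) := by
    rw [← IsPrecomplete.map_algebraMap_iff (S := A ⧸ I), Ideal.Quotient.algebraMap_eq, hmk]
    infer_instance
  have hjac : K ≤ Ideal.jacobson ⊥ := by
    intro x hx
    rw [Ideal.mem_jacobson_bot]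
    intro y
    have h1 : Ideal.Quotient.mk I x ∈ Ideal.jacobson (⊥ : Ideal (A ⧸ I)) :=
      IsAdicComplete.le_jacobson_bot (J.map (Ideal.Quotient.mk I)) (hmk ▸ Ideal.mem_map_of_mem _ hx)
    have h2 : IsUnit (Ideal.Quotient.mk I (x * y + 1)) := by
      simpa using Ideal.mem_jacobson_bot.mp h1 (Ideal.Quotient.mk I y)
    exact (isLocalHom_of_le_jacobson_bot I (IsAdicComplete.le_jacobson_bot I)).map_nonunit _ h2
  haveI : IsHausdorff I (AdicCompletion K A) := by
    refine ⟨fun x hx => ?_⟩
    ext n
    have h := hx n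
    rw [SModEq.zero] at h
    have h' := Submodule.mem_map_of_mem (f := AdicCompletion.eval K A n) h
    rw [Submodule.map_smul''] at h'
    have hbot : I ^ n • Submodule.map (AdicCompletion.eval K A n) ⊤ = ⊥ := by
      rw [eq_bot_iff, Submodule.smul_le]
      intro r hr m _
      obtain ⟨m, rfl⟩ := Submodule.Quotient.mk_surjective _ m
      rw [Submodule.mem_bot, ← Submodule.Quotient.mk_smul, Submodule.Quotient.mk_eq_zero]
      exact Submodule.smul_mem_smul (Ideal.pow_right_mono le_sup_left n hr) Submodule.mem_top
    rw [hbot, Submodule.mem_bot] at h'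
    rw [AdicCompletion.val_zero_apply]; exact h'
  have hsurj : Function.Surjective (AdicCompletion.of K A) := by
    refine surjective_of_mkQ_comp_surjective (I := I) fun u => ?_
    obtain ⟨u, rfl⟩ := Submodule.mkQ_surjective _ u
    obtain ⟨q, hq⟩ := AdicCompletion.of_surjective K (A ⧸ I) (AdicCompletion.map K I.mkQ u)
    obtain ⟨a, rfl⟩ := Submodule.mkQ_surjective I q
    refine ⟨a, ?_⟩
    have hex := AdicCompletion.map_exact (I := K) (f := I.subtype) (g := I.mkQ)
      (Submodule.injective_subtype I) (LinearMap.exact_subtype_mkQ I) (Submodule.mkQ_surjective I)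
    have h0 : AdicCompletion.map K I.mkQ (AdicCompletion.of K A a - u) = 0 := by
      rw [map_sub, AdicCompletion.map_of, hq, sub_self]
    obtain ⟨w, hw⟩ := (hex _).mp h0
    obtain ⟨t, rfl⟩ := (AdicCompletion.ofTensorProduct_bijective_of_finite_of_isNoetherian K I).2 w
    rw [LinearMap.comp_apply, Submodule.mkQ_apply, Submodule.mkQ_apply, Submodule.Quotient.eq, ← hw]
    clear hw
    induction t using TensorProduct.induction_on with
    | zero => simp
    | tmul r i =>
      rw [AdicCompletion.ofTensorProduct_tmul, map_smul, AdicCompletion.map_of]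
      rw [show r • AdicCompletion.of K A (I.subtype i) = (i : A) • r by
        ext n; simp [Algebra.smul_def, mul_comm, AdicCompletion.algebraMap_apply]]
      exact Submodule.smul_mem_smul i.2 Submodule.mem_top
    | add t₁ t₂ h₁ h₂ => rw [map_add, map_add]; exact add_mem h₁ h₂
  have hKpre : IsPrecomplete K A := AdicCompletion.of_surjective_iff.mp hsurj
  haveI : IsHausdorff K A := IsHausdorff.of_le_jacobson K A hjac
  haveI : IsHausdorff J A := IsHausdorff.of_le_jacobson J A (le_sup_right.trans hjac)
  refine { prec' := fun f hf => ?_ }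
  obtain ⟨L, hL⟩ := hKpre.prec (f := f) fun {m n} hmn => SModEq.mono
    (Submodule.smul_mono_left (Ideal.pow_right_mono le_sup_right m)) (hf hmn)
  refine ⟨L, fun n => ?_⟩
  rw [SModEq.sub_mem, smul_eq_mul, Ideal.mul_top]
  haveI : IsHausdorff K (A ⧸ J ^ n) := IsHausdorff.of_le_jacobson K _ hjac
  rw [← Ideal.Quotient.eq_zero_iff_mem]
  refine IsHausdorff.haus ‹IsHausdorff K (A ⧸ J ^ n)› _ fun m => ?_
  have h1 := hL (max m n)
  have h2 := hf (le_max_right m n)
  rw [SModEq.sub_mem, smul_eq_mul, Ideal.mul_top] at h1 h2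
  rw [SModEq.zero, show f n - L = (f n - f (max m n)) + (f (max m n) - L) by ring, map_add,
    Ideal.Quotient.eq_zero_iff_mem.mpr h2, zero_add, ← Ideal.Quotient.mk_eq_mk, ← mul_one (f (max m n) - L),
    ← smul_eq_mul, Submodule.Quotient.mk_smul]
  exact Submodule.smul_mem_smul (Ideal.pow_le_pow_right (le_max_left m n) h1) Submodule.mem_top

end Groth.Agent.S0545
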