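import Groth.Statements.S0546
import Mathlib.RingTheory.AdicCompletion.Basic
import Mathlib.RingTheory.Finiteness.Ideal

set_option autoImplicit false
universe u
open CAlg

namespace Groth.Agent.S0546

/-- If `I ≤ J` are ideals with `I` finitely generated and `M` is `J`-adically complete, then `M` is
`I`-adically complete. -/
theorem result (A : Type u) [CommRing A] (I J : Ideal A) (hIJ : I ≤ J)
    (hI : I.FG) (M : Type u) [AddCommGroup M] [Module A M] [IsAdicComplete J M] :
    IsAdicComplete I M := by
  classical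
  have hle : ∀ n, (I ^ n • ⊤ : Submodule A M) ≤ J ^ n • ⊤ := fun n =>
    Submodule.smul_mono_left (Ideal.pow_right_mono hIJ n)
  refine { haus' := fun x hx => IsHausdorff.haus inferInstance x fun n => (hx n).mono (hle n),
           prec' := fun f hf => ?_ }
  obtain ⟨L, hL⟩ := IsPrecomplete.prec (I := J) (M := M) inferInstance
    (f := f) fun h => (hf h).mono (hle _)
  refine ⟨L, fun n => ?_⟩
  obtain ⟨r, g, hg⟩ := Submodule.fg_iff_exists_fin_generating_family.mp (hI.pow (n := n))
  have key : ∀ N : Submodule A M, ∀ z ∈ (I ^ n : Ideal A) • N, ∃ c : Fin r → M, (∀ i, c i ∈ N) ∧ z = ∑ i, g i • c i := by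
    intro N z hz
    refine Submodule.smul_induction_on hz (fun a ha x hx => ?_) ?_
    · rw [← hg] at ha
      obtain ⟨a', rfl⟩ := (Submodule.mem_span_range_iff_exists_fun A).mp ha
      exact ⟨fun i => a' i • x, fun i => N.smul_mem _ hx, by simp [Finset.sum_smul, smul_smul, mul_comm]⟩
    · rintro x y ⟨c, hc, rfl⟩ ⟨d, hd, rfl⟩
      exact ⟨c + d, fun i => N.add_mem (hc i) (hd i), by simp [smul_add, Finset.sum_add_distrib]⟩
  have hstep : ∀ k, ∃ c : Fin r → M, (∀ i, c i ∈ (I ^ k • ⊤ : Submodule A M)) ∧
      f (n + (k + 1)) - f (n + k) = ∑ i, g i • c i := fun k => by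
    refine key _ _ ?_
    rw [← Submodule.mul_smul, ← pow_add]
    exact SModEq.sub_mem.mp (hf (show n + k ≤ n + (k + 1) by omega)).symm
  choose c hc hsum using hstep
  let S : Fin r → ℕ → M := fun i N => ∑ k ∈ Finset.range N, c k i
  have hS : ∀ i, ∃ s, ∀ N, S i N ≡ s [SMOD (J ^ N • ⊤ : Submodule A M)] := fun i => by
    refine IsPrecomplete.prec inferInstance fun {a b} h => SModEq.symm ?_
    rw [SModEq.sub_mem]
    show (∑ k ∈ Finset.range b, c k i) - (∑ k ∈ Finset.range a, c k i) ∈ _
    rw [← Finset.sum_Ico_eq_sub _ h]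
    exact Submodule.sum_mem _ fun k hk =>
      Submodule.smul_mono_left (Ideal.pow_le_pow_right (Finset.mem_Ico.mp hk).1) (hle k (hc k i))
  choose s hs using hS
  have hLn : L - f n = ∑ i, g i • s i := by
    rw [← sub_eq_zero]
    refine IsHausdorff.haus (I := J) (M := M) inferInstance _ fun N => SModEq.zero.mpr ?_
    have h1 : L - f (n + N) ∈ (J ^ N • ⊤ : Submodule A M) :=
      Submodule.smul_mono_left (Ideal.pow_le_pow_right (by omega)) (SModEq.sub_mem.mp (hL (n + N)).symm)
    have h2 : f (n + N) - f n = ∑ i, g i • S i N := by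
      have h3 := Finset.sum_range_sub (fun k => f (n + k)) N
      simp only [add_zero] at h3
      rw [← h3, Finset.sum_congr rfl fun k _ => hsum k, Finset.sum_comm]
      simp [S, Finset.smul_sum]
    have h4 : ∑ i, g i • S i N - ∑ i, g i • s i ∈ (J ^ N • ⊤ : Submodule A M) := by
      rw [← Finset.sum_sub_distrib]
      refine Submodule.sum_mem _ fun i _ => ?_
      rw [← smul_sub]
      exact Submodule.smul_mem _ _ (SModEq.sub_mem.mp (hs i N))
    have := Submodule.add_mem _ h1 h4
    rwa [← h2, show L - f (n + N) + (f (n + N) - f n - ∑ i, g i • s i) = L - f n - ∑ i, g i • s i by abel] at this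
  refine SModEq.symm ?_
  rw [SModEq.sub_mem, hLn]
  exact Submodule.sum_mem _ fun i _ =>
    Submodule.smul_mem_smul (hg ▸ Submodule.subset_span ⟨i, rfl⟩) trivial

end Groth.Agent.S0546
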