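import Groth.Statements.S0550
import Mathlib.RingTheory.Flat.EquationalCriterion
import Mathlib.RingTheory.AdicCompletion.Basic
import Mathlib.RingTheory.Filtration

set_option autoImplicit false
universe u
open CAlg

namespace Groth.Agent.S0550

/-- membership in `J • ⊤` for finitely supported functions is coordinatewise -/
theorem mem_smul_top_finsupp {R : Type u} [CommRing R] {α : Type u} (J : Ideal R) (z : α →₀ R) :
    z ∈ (J • ⊤ : Submodule R (α →₀ R)) ↔ ∀ a, z a ∈ J := by
  classical
  constructor
  · intro h a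
    have h1 := Submodule.mem_map_of_mem (f := Finsupp.lapply a) h
    rw [Submodule.map_smul''] at h1
    have h2 := Submodule.smul_mono (le_refl J) le_top h1
    rwa [smul_eq_mul, Ideal.mul_top] at h2
  · intro h
    rw [← Finsupp.sum_single z]
    refine Submodule.sum_mem _ fun a _ => ?_
    show Finsupp.single a (z a) ∈ _
    rw [← mul_one (z a), ← smul_eq_mul, ← Finsupp.smul_single]
    exact Submodule.smul_mem_smul (h a) Submodule.mem_top

/-- membership in `J • ⊤` for tuples is coordinatewise -/
theorem mem_smul_top_pi {R : Type u} [CommRing R] {n : ℕ} (J : Ideal R) (z : Fin n → R) :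
    z ∈ (J • ⊤ : Submodule R (Fin n → R)) ↔ ∀ a, z a ∈ J := by
  classical
  constructor
  · intro h a
    have h1 := Submodule.mem_map_of_mem (f := LinearMap.proj (R := R) (φ := fun _ : Fin n => R) a) h
    rw [Submodule.map_smul''] at h1
    have h2 := Submodule.smul_mono (le_refl J) le_top h1
    rwa [smul_eq_mul, Ideal.mul_top] at h2
  · intro h
    rw [← Finset.univ_sum_single z]
    refine Submodule.sum_mem _ fun a _ => ?_
    rw [← mul_one (z a), ← smul_eq_mul, Pi.single_smul']
    exact Submodule.smul_mem_smul (h a) Submodule.mem_top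

/-- Artin-Rees: preimages of small elements of the image can be chosen small -/
theorem exists_small_lift {R : Type u} [CommRing R] [IsNoetherianRing R] (I : Ideal R) {a b : ℕ}
    (g : (Fin a → R) →ₗ[R] (Fin b → R)) :
    ∃ c : ℕ, ∀ (k : ℕ) (y : Fin b → R), y ∈ LinearMap.range g → (∀ i, y i ∈ I ^ k) →
      ∃ p : Fin a → R, g p = y ∧ ∀ i, p i ∈ I ^ (k - c) := by
  obtain ⟨c, hc⟩ := I.exists_pow_inf_eq_pow_smul (LinearMap.range g)
  refine ⟨c, fun k y hy hk => ?_⟩
  have hmem : y ∈ I ^ (k - c) • LinearMap.range g := by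
    rcases le_or_gt c k with h | h
    · have h1 : y ∈ I ^ k • (⊤ : Submodule R (Fin b → R)) ⊓ LinearMap.range g :=
        ⟨(mem_smul_top_pi _ _).mpr hk, hy⟩
      rw [hc k h] at h1
      exact Submodule.smul_mono le_rfl inf_le_right h1
    · rw [Nat.sub_eq_zero_of_le h.le, pow_zero, Ideal.one_eq_top, Submodule.top_smul]
      exact hy
  rw [← Submodule.map_top, ← Submodule.map_smul''] at hmem
  obtain ⟨p, hp, hpy⟩ := hmem
  exact ⟨p, hpy, (mem_smul_top_pi _ _).mp hp⟩

/-- Artin-Rees lifting, sending zero to zero -/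
theorem exists_small_lift_fun {R : Type u} [CommRing R] [IsNoetherianRing R] (I : Ideal R) {a b : ℕ}
    (g : (Fin a → R) →ₗ[R] (Fin b → R)) :
    ∃ (c : ℕ) (L : ℕ → (Fin b → R) → (Fin a → R)), (∀ k, L k 0 = 0) ∧
      ∀ (k : ℕ) (y : Fin b → R), y ∈ LinearMap.range g → (∀ i, y i ∈ I ^ k) →
        g (L k y) = y ∧ ∀ i, L k y i ∈ I ^ (k - c) := by
  classical
  obtain ⟨c, hc⟩ := exists_small_lift I g
  choose! p hp using hc
  refine ⟨c, fun k y => if y = 0 then 0 else p k y, fun k => if_pos rfl, fun k y hy hk => ?_⟩
  by_cases h : y = 0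
  · simp [h]
  · simpa [h] using hp k y hy hk

/-- Over a Noetherian ring `R` with an ideal `I`, the `I`-adic completion of a free module (on any index
set) is a flat `R`-module. -/
theorem result (R : Type u) [CommRing R] [IsNoetherianRing R]
    (I : Ideal R) (α : Type u) : Module.Flat R (AdicCompletion I (α →₀ R)) := by
  classical
  rw [Module.Flat.iff_forall_isTrivialRelation]
  intro l f x hx
  choose X hX using fun i => AdicCompletion.mk_surjective I (α →₀ R) (x i)
  have hrel : ∀ k a, ∑ i, f i * X i k a ∈ I ^ k := by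
    intro k
    have h := congrArg (AdicCompletion.eval I (α →₀ R) k) hx
    rw [map_sum, map_zero] at h
    simp only [map_smul, ← hX] at h
    have h' : Submodule.Quotient.mk (p := (I ^ k • ⊤ : Submodule R (α →₀ R))) (∑ i, f i • X i k) = 0 := by
      rw [← Submodule.mkQ_apply, map_sum]
      simp only [map_smul]
      exact h
    intro a
    have h'' := (mem_smul_top_finsupp _ _).mp ((Submodule.Quotient.mk_eq_zero _).mp h') a
    simpa [Finsupp.finsetSum_apply] using h''
  let φ : (Fin l → R) →ₗ[R] (Fin 1 → R) := LinearMap.pi fun _ => Fintype.linearCombination R f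
  have hφ : ∀ y i, φ y i = ∑ j, f j * y j := fun y i => by
    simp [φ, Fintype.linearCombination_apply, mul_comm]
  obtain ⟨c, U, hU0, hU⟩ := exists_small_lift_fun I φ
  obtain ⟨m, g, hg⟩ := Submodule.fg_iff_exists_fin_generating_family.mp
    (IsNoetherian.noetherian (LinearMap.ker φ))
  let κ : (Fin m → R) →ₗ[R] (Fin l → R) := Fintype.linearCombination R g
  have hκ : LinearMap.range κ = LinearMap.ker φ := by
    rw [← hg]
    exact Fintype.range_linearCombination R g
  obtain ⟨c', V, hV0, hV⟩ := exists_small_lift_fun I κ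
  let xv : ℕ → α → Fin l → R := fun k a i => X i k a
  let u : ℕ → α → Fin l → R := fun k a => U k (φ (xv k a))
  let w : ℕ → α → Fin l → R := fun k a => xv k a - u k a
  have hu : ∀ k a, φ (u k a) = φ (xv k a) ∧ ∀ i, u k a i ∈ I ^ (k - c) := fun k a =>
    hU k _ ⟨_, rfl⟩ fun i => by rw [hφ]; exact hrel k a
  have hw : ∀ k a, w k a ∈ LinearMap.range κ := by
    intro k a
    rw [hκ, LinearMap.mem_ker, map_sub, (hu k a).1, sub_self]
  have hcauchy : ∀ i k a, X i (k + 1) a - X i k a ∈ I ^ k := by
    intro i k a
    have h := SModEq.sub_mem.mp ((X i).property (Nat.le_succ k))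
    have h' := neg_mem ((mem_smul_top_finsupp _ _).mp h a)
    rw [Finsupp.sub_apply, neg_sub] at h'
    exact h'
  have hwstep : ∀ k a i, (w (k + 1) a - w k a) i ∈ I ^ (k - c) := by
    intro k a i
    have he : (w (k + 1) a - w k a) i
        = (X i (k + 1) a - X i k a) - (u (k + 1) a i - u k a i) := by
      simp only [w, xv, Pi.sub_apply]
      ring
    rw [he]
    exact sub_mem (Ideal.pow_le_pow_right (Nat.sub_le k c) (hcauchy i k a))
      (sub_mem (Ideal.pow_le_pow_right (by omega) ((hu (k + 1) a).2 i)) ((hu k a).2 i))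
  let v : ℕ → α → Fin m → R := fun k => Nat.rec (fun a => V 0 (w 0 a))
    (fun k v a => v a + V (k - c) (w (k + 1) a - w k a)) k
  have hv : ∀ k a, κ (v k a) = w k a := by
    intro k a
    induction k with
    | zero => exact (hV 0 _ (hw 0 a) fun i => by simp).1
    | succ k ih =>
      show κ (v k a + V (k - c) (w (k + 1) a - w k a)) = _
      rw [map_add, ih, (hV (k - c) _ (sub_mem (hw (k + 1) a) (hw k a)) (hwstep k a)).1]
      abel
  let S : ℕ → Finset α := fun k => (Finset.range (k + 1)).biUnion fun t =>
    Finset.univ.biUnion fun i => (X i t).support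
  have hw0 : ∀ k a, (∀ i, X i k a = 0) → w k a = 0 := by
    intro k a h
    have h1 : xv k a = 0 := funext h
    simp [w, u, h1, hU0]
  have hv0 : ∀ k a, a ∉ S k → v k a = 0 := by
    intro k a
    induction k with
    | zero =>
      intro h
      show V 0 (w 0 a) = 0
      rw [hw0 0 a (fun i => by
        by_contra hne
        exact h (by simp [S]; exact ⟨i, hne⟩)), hV0]
    | succ k ih =>
      intro h
      have hz : ∀ t, t ≤ k + 1 → ∀ i, X i t a = 0 := fun t ht i => by
        by_contra hne
        exact h (Finset.mem_biUnion.mpr ⟨t, Finset.mem_range.mpr (by omega),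
          Finset.mem_biUnion.mpr ⟨i, Finset.mem_univ i, Finsupp.mem_support_iff.mpr hne⟩⟩)
      show v k a + V (k - c) (w (k + 1) a - w k a) = 0
      rw [hw0 (k + 1) a (hz _ le_rfl), hw0 k a (hz k (by omega)), sub_zero, hV0, add_zero]
      refine ih fun hk => h (Finset.mem_of_subset ?_ hk)
      exact Finset.biUnion_subset_biUnion_of_subset_left _ (by intro t; simp; omega)
  let D := c + c'
  let Y : Fin m → AdicCompletion.AdicCauchySequence I (α →₀ R) := fun j =>
    AdicCompletion.AdicCauchySequence.mk I (α →₀ R)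
      (fun k => Finsupp.onFinset (S (k + D)) (fun a => v (k + D) a j) fun a ha => by
        by_contra hn
        exact ha (by rw [hv0 _ a hn]; rfl))
      fun k => by
        rw [SModEq.sub_mem, mem_smul_top_finsupp]
        intro a
        simp only [Finsupp.sub_apply, Finsupp.onFinset_apply]
        rw [show k + 1 + D = k + D + 1 by omega]
        have h := (hV (k + D - c) _ (sub_mem (hw (k + D + 1) a) (hw (k + D) a)) (hwstep (k + D) a)).2 j
        have he : v (k + D + 1) a j = v (k + D) a j + V (k + D - c) (w (k + D + 1) a - w (k + D) a) j := rfl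
        rw [he, sub_add_cancel_left]
        exact neg_mem (Ideal.pow_le_pow_right (by omega) h)
  refine ⟨m, fun i j => g j i, fun j => AdicCompletion.mk I _ (Y j), fun i => ?_, fun j => ?_⟩
  · rw [← hX]
    refine AdicCompletion.ext fun {k} => ?_
    simp only [AdicCompletion.val_sum_apply, AdicCompletion.val_smul_apply]
    change Submodule.Quotient.mk (X i k) = ∑ j, g j i • Submodule.Quotient.mk (Y j k)
    simp only [← Submodule.mkQ_apply, ← map_smul, ← map_sum]
    rw [Submodule.mkQ_apply, Submodule.mkQ_apply, Submodule.Quotient.eq, mem_smul_top_finsupp]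
    intro a
    have h1 : ∑ j, g j i * v (k + D) a j = w (k + D) a i := by
      rw [← hv]
      simp [κ, Fintype.linearCombination_apply, Finset.sum_apply, mul_comm]
    have h2 : (∑ j, g j i • Y j k) a = w (k + D) a i := by
      rw [← h1, Finsupp.finsetSum_apply]
      rfl
    rw [Finsupp.sub_apply, h2, show X i k a - w (k + D) a i
      = u (k + D) a i - (X i (k + D) a - X i k a) by simp [w, xv]; ring]
    refine sub_mem (Ideal.pow_le_pow_right (by omega) ((hu (k + D) a).2 i)) ?_
    have h := neg_mem ((mem_smul_top_finsupp _ _).mp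
      (SModEq.sub_mem.mp ((X i).property (Nat.le_add_right k D))) a)
    rwa [Finsupp.sub_apply, neg_sub] at h
  · have h : g j ∈ LinearMap.ker φ := hg ▸ Submodule.subset_span ⟨j, rfl⟩
    have h' := congrFun (LinearMap.mem_ker.mp h) 0
    rwa [hφ] at h'

end Groth.Agent.S0550
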