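import Groth.Statements.S0551
import Groth.Agent.L27.AlgebraMisc
import Groth.Agent.L01.AdicNoeth
import Groth.Agent.S0550
import Mathlib.RingTheory.AdicCompletion.Algebra
import Mathlib.RingTheory.AdicCompletion.Completeness
import Mathlib.LinearAlgebra.TensorProduct.Quotient
import Mathlib.RingTheory.Flat.EquationalCriterion

set_option autoImplicit false
universe u
open CAlg

namespace Groth.Agent.S0551

section Helpers
open TensorProduct
open scoped Pointwise

set_option maxHeartbeats 1000000
set_option synthInstance.maxHeartbeats 100000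

variable {R : Type u} [CommRing R] {I : Ideal R} {M : Type u} [AddCommGroup M] [Module R M]

/-- Tensoring injects on submodules of modules killed by a power of `I`. -/
lemma inj_killed [Module.Flat (R ⧸ I) ((R ⧸ I) ⊗[R] M)]
    (hI : Function.Injective (LinearMap.rTensor M (Submodule.subtype I))) (n : ℕ)
    {N : Type u} [AddCommGroup N] [Module R N] (hN : ∀ a ∈ I ^ n, ∀ x : N, a • x = 0)
    (N₁ : Submodule R N) : Function.Injective (N₁.subtype.rTensor M) := by
  have key : ∀ k : ℕ, Function.Injective ((N₁ ⊔ I ^ k • (⊤ : Submodule R N)).subtype.rTensor M) := by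
    intro k
    induction k with
    | zero =>
      have ht : (N₁ ⊔ I ^ 0 • (⊤ : Submodule R N)) = ⊤ := by
        rw [pow_zero, Ideal.one_eq_top, Submodule.top_smul]; exact sup_top_eq N₁
      rw [ht]
      exact (LinearEquiv.rTensor M (LinearEquiv.ofTop (⊤ : Submodule R N) rfl)).injective
    | succ k ih =>
      have hle : N₁ ⊔ I ^ (k + 1) • (⊤ : Submodule R N) ≤ N₁ ⊔ I ^ k • ⊤ :=
        sup_le_sup_left (Submodule.smul_mono_left (Ideal.pow_le_pow_right k.le_succ)) _
      have hs : I • (N₁ ⊔ I ^ k • (⊤ : Submodule R N)) ≤ N₁ ⊔ I ^ (k + 1) • ⊤ := by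
        rw [Submodule.smul_sup, pow_succ', Submodule.mul_smul]
        exact sup_le_sup_right Submodule.smul_le_right _
      rw [← Submodule.subtype_comp_inclusion _ _ hle, LinearMap.rTensor_comp]
      exact ih.comp (Groth.L27.AlgebraMisc.rTensor_inclusion_injective R I M hI _ _ hle hs)
  have h3 := key n
  have h0 : I ^ n • (⊤ : Submodule R N) = ⊥ := by
    rw [eq_bot_iff, Submodule.smul_le]
    intro a ha x _
    exact (Submodule.mem_bot R).mpr (hN a ha x)
  rwa [h0, sup_bot_eq] at h3

/-- `M / I^n M` is flat over `R / I^n`. -/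
lemma flat_level [Module.Flat (R ⧸ I) ((R ⧸ I) ⊗[R] M)]
    (hI : Function.Injective (LinearMap.rTensor M (Submodule.subtype I))) (n : ℕ) :
    Module.Flat (R ⧸ I ^ n) ((R ⧸ I ^ n) ⊗[R] M) := by
  rw [Module.Flat.iff_rTensor_injective']
  intro K
  have hinj := inj_killed hI n (N := R ⧸ I ^ n) (fun a ha x => by
    obtain ⟨x, rfl⟩ := Ideal.Quotient.mk_surjective x
    rw [Algebra.smul_def, Ideal.Quotient.algebraMap_eq, ← map_mul, Ideal.Quotient.eq_zero_iff_mem]
    exact (I ^ n).mul_mem_right _ ha) (K.restrictScalars R)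
  let eK := AlgebraTensorModule.cancelBaseChange R (R ⧸ I ^ n) (R ⧸ I ^ n) K M
  let eQ := AlgebraTensorModule.cancelBaseChange R (R ⧸ I ^ n) (R ⧸ I ^ n) (R ⧸ I ^ n) M
  have hcomm : ∀ x, eQ (K.subtype.rTensor _ x) =
      (K.restrictScalars R).subtype.rTensor M (eK x) := by
    intro x
    induction x using TensorProduct.induction_on with
    | zero => simp only [map_zero]; exact (map_zero _).symm
    | add a b ha hb => simp only [map_add, ha, hb]; exact (map_add _ _ _).symm
    | tmul k y =>
      induction y using TensorProduct.induction_on with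
      | zero => simp only [tmul_zero, map_zero]; exact (map_zero _).symm
      | add a b ha hb => simp only [tmul_add, map_add, ha, hb]; exact (map_add _ _ _).symm
      | tmul q m =>
        show eQ ((k : R ⧸ I ^ n) ⊗ₜ (q ⊗ₜ[R] m)) = _
        rw [AlgebraTensorModule.cancelBaseChange_tmul, AlgebraTensorModule.cancelBaseChange_tmul]
        rfl
  intro x y hxy
  apply eK.injective
  apply hinj
  exact (hcomm x).symm.trans ((congrArg eQ hxy).trans (hcomm y))

/-- The equational criterion at level `N`. -/
lemma trivial_relation_level [Module.Flat (R ⧸ I) ((R ⧸ I) ⊗[R] M)]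
    (hI : Function.Injective (LinearMap.rTensor M (Submodule.subtype I))) (N : ℕ) {T : Type}
    [Fintype T] (r : T → R) (μ : T → M) (h : ∑ k, r k • μ k ∈ I ^ N • (⊤ : Submodule R M)) :
    ∃ (q : ℕ) (b : T → Fin q → R) (y : Fin q → M),
      (∀ k, μ k - ∑ j, b k j • y j ∈ I ^ N • (⊤ : Submodule R M)) ∧ ∀ j, ∑ k, r k * b k j ∈ I ^ N := by
  classical
  haveI := flat_level hI N
  let e := TensorProduct.quotTensorEquivQuotSMul M (I ^ N)
  let eT := Fintype.equivFin T
  have he : ∀ (a : R) (m : M), e ((Ideal.Quotient.mk (I ^ N) a) ⊗ₜ[R] m) = Submodule.Quotient.mk (a • m) :=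
    fun a m => TensorProduct.quotTensorEquivQuotSMul_mk_tmul (I ^ N) a m
  have hsmul : ∀ (a : R) (m : M), (Ideal.Quotient.mk (I ^ N) a) • ((1 : R ⧸ I ^ N) ⊗ₜ[R] m) =
      (Ideal.Quotient.mk (I ^ N) a) ⊗ₜ[R] m := fun a m => by
    rw [smul_tmul', smul_eq_mul, mul_one]
  have h0 : ∑ i, (Ideal.Quotient.mk (I ^ N) (r (eT.symm i))) •
      ((1 : R ⧸ I ^ N) ⊗ₜ[R] μ (eT.symm i)) = 0 := by
    apply e.injective
    simp only [hsmul, map_sum, he, map_zero, ← Submodule.mkQ_apply]
    rw [← map_sum, Equiv.sum_comp eT.symm (fun k => r k • μ k)]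
    exact (Submodule.Quotient.mk_eq_zero _).mpr h
  obtain ⟨q, a, y, hy, ha⟩ := Module.Flat.isTrivialRelation_of_sum_smul_eq_zero h0
  choose b hb using fun i j => Ideal.Quotient.mk_surjective (a i j)
  have hlift : ∀ j, ∃ m : M, (1 : R ⧸ I ^ N) ⊗ₜ[R] m = y j := fun j =>
    TensorProduct.mk_surjective R M (R ⧸ I ^ N) Ideal.Quotient.mk_surjective (y j)
  choose m hm using hlift
  refine ⟨q, fun k j => b (eT k) j, m, fun k => ?_, fun j => ?_⟩
  · have h1 := congrArg e (hy (eT k))
    simp only [← hb, ← hm, hsmul, map_sum, he, Equiv.symm_apply_apply] at h1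
    rw [← map_one (Ideal.Quotient.mk (I ^ N)), he, one_smul] at h1
    simp only [← Submodule.mkQ_apply, ← map_sum] at h1
    exact (Submodule.Quotient.eq _).mp h1
  · have h1 := ha j
    simp only [← hb, ← map_mul, ← map_sum, Ideal.Quotient.eq_zero_iff_mem] at h1
    rw [← Equiv.sum_comp eT.symm (fun k => r k * b (eT k) j)]
    simpa only [Equiv.apply_symm_apply] using h1

variable (hfg : I.FG)
include hfg

lemma mem_pow_iff_eval {N : ℕ} (x : AdicCompletion I M) :
    x ∈ I ^ N • (⊤ : Submodule R (AdicCompletion I M)) ↔ AdicCompletion.eval I M N x = 0 := by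
  rw [AdicCompletion.pow_smul_top_eq_ker_eval hfg]
  rfl

/-- Elements of the completed ring are congruent to elements of the ring. -/
lemma exists_approx (a : AdicCompletion I R) (N : ℕ) :
    ∃ r : R, a - algebraMap R (AdicCompletion I R) r ∈ (I.map (algebraMap R (AdicCompletion I R))) ^ N := by
  obtain ⟨r, hr⟩ := Submodule.Quotient.mk_surjective _ (AdicCompletion.eval I R N a)
  refine ⟨r, ?_⟩
  rw [← Ideal.map_pow]
  have h : a - algebraMap R (AdicCompletion I R) r ∈ I ^ N • (⊤ : Submodule R (AdicCompletion I R)) := by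
    rw [mem_pow_iff_eval hfg, map_sub, sub_eq_zero, ← hr]
    rfl
  rw [Ideal.smul_top_eq_map] at h
  exact h

omit hfg in
lemma smul_mem_of_mem {a : AdicCompletion I R} {N : ℕ}
    (ha : a ∈ (I.map (algebraMap R (AdicCompletion I R))) ^ N) (x : AdicCompletion I M) :
    a • x ∈ I ^ N • (⊤ : Submodule R (AdicCompletion I M)) := by
  rw [← Ideal.map_pow] at ha
  induction ha using Submodule.span_induction generalizing x with
  | mem a ha =>
    obtain ⟨r, hr, rfl⟩ := ha
    rw [algebraMap_smul]
    exact Submodule.smul_mem_smul hr trivial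
  | zero => rw [zero_smul]; exact Submodule.zero_mem _
  | add a b _ _ iha ihb => rw [add_smul]; exact Submodule.add_mem _ (iha x) (ihb x)
  | smul c a _ iha => rw [smul_eq_mul, mul_comm, mul_smul]; exact iha (c • x)

omit hfg in
lemma smul_mem_smul_top {J : Ideal R} {x : AdicCompletion I M}
    (hx : x ∈ J • (⊤ : Submodule R (AdicCompletion I M))) (a : AdicCompletion I R) :
    a • x ∈ J • (⊤ : Submodule R (AdicCompletion I M)) := by
  induction hx using Submodule.smul_induction_on' with
  | smul r hr y _ => rw [smul_comm]; exact Submodule.smul_mem_smul hr trivial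
  | add x _ y _ hx hy => rw [smul_add]; exact Submodule.add_mem _ hx hy

/-- The equational criterion at level `N`, inside the completion. -/
lemma trivial_relation_completion [Module.Flat (R ⧸ I) ((R ⧸ I) ⊗[R] M)]
    (hI : Function.Injective (LinearMap.rTensor M (Submodule.subtype I))) (N : ℕ) {T : Type}
    [Fintype T] (r : T → R) (μ : T → AdicCompletion I M)
    (h : ∑ k, r k • μ k ∈ I ^ N • (⊤ : Submodule R (AdicCompletion I M))) :
    ∃ (q : ℕ) (b : T → Fin q → R) (y : Fin q → AdicCompletion I M),
      (∀ k, μ k - ∑ j, b k j • y j ∈ I ^ N • (⊤ : Submodule R (AdicCompletion I M))) ∧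
        ∀ j, ∑ k, r k * b k j ∈ I ^ N := by
  choose m hm using fun k => Submodule.Quotient.mk_surjective _ (AdicCompletion.eval I M N (μ k))
  have h' : ∑ k, r k • m k ∈ I ^ N • (⊤ : Submodule R M) := by
    rw [mem_pow_iff_eval hfg, map_sum] at h
    rw [← Submodule.Quotient.mk_eq_zero, ← Submodule.mkQ_apply, map_sum]
    simpa only [map_smul, Submodule.mkQ_apply, hm] using h
  obtain ⟨q, b, y, hy, hb⟩ := trivial_relation_level hI N r m h'
  choose y' hy' using fun j => AdicCompletion.eval_surjective I M N (Submodule.Quotient.mk (y j))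
  refine ⟨q, b, y', fun k => ?_, hb⟩
  rw [mem_pow_iff_eval hfg, map_sub, map_sum, ← hm k]
  simp only [map_smul, hy', ← Submodule.mkQ_apply]
  simp only [← map_smul]
  rw [← map_sum, ← map_sub]
  exact (Submodule.Quotient.mk_eq_zero _).mpr (hy k)

omit hfg in
/-- A tuple in `J • ⊤` is a combination with coefficients in `J`. -/
lemma exists_common_expansion {J : Ideal R} {X : Type u} [AddCommGroup X] [Module R X] {l : ℕ}
    (w : Fin l → X) (hw : ∀ i, w i ∈ J • (⊤ : Submodule R X)) :
    ∃ (T : Type) (_ : Fintype T) (a : Fin l → T → R) (μ : T → X),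
      (∀ i k, a i k ∈ J) ∧ ∀ i, w i = ∑ k, a i k • μ k := by
  classical
  have h : ∀ i, ∃ (t : ℕ) (c : Fin t → R) (v : Fin t → X), (∀ k, c k ∈ J) ∧ w i = ∑ k, c k • v k := by
    intro i
    refine Submodule.smul_induction_on (p := fun x => ∃ (t : ℕ) (c : Fin t → R) (v : Fin t → X),
      (∀ k, c k ∈ J) ∧ x = ∑ k, c k • v k) (hw i) (fun r hr x _ => ?_) ?_
    · exact ⟨1, fun _ => r, fun _ => x, fun _ => hr, by simp⟩
    · rintro x y ⟨t, c, v, hc, rfl⟩ ⟨t', c', v', hc', rfl⟩
      refine ⟨t + t', Fin.append c c', Fin.append v v', ?_, by simp [Fin.sum_univ_add]⟩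
      intro k
      induction k using Fin.addCases with
      | left k => simpa using hc k
      | right k => simpa using hc' k
  choose t c v hc hsum using h
  refine ⟨Σ i, Fin (t i), inferInstance, fun i k => if k.1 = i then c k.1 k.2 else 0,
    fun k => v k.1 k.2, fun i k => ?_, fun i => ?_⟩
  · dsimp only
    split_ifs
    · exact hc _ _
    · exact J.zero_mem
  · rw [hsum i, Fintype.sum_sigma, Finset.sum_eq_single i (fun j _ hj => by simp [hj]) (by simp)]
    simp

/-- The correction step. -/
lemma step [Module.Flat (R ⧸ I) ((R ⧸ I) ⊗[R] M)]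
    (hI : Function.Injective (LinearMap.rTensor M (Submodule.subtype I))) {l m : ℕ}
    (f : Fin l → AdicCompletion I R) (g : Fin m → Fin l → AdicCompletion I R) (c c' : ℕ)
    (hc : ∀ (k : ℕ) (h : Fin l → AdicCompletion I R),
      (∑ i, f i * h i ∈ (I.map (algebraMap R (AdicCompletion I R))) ^ k) →
      ∃ p : Fin l → AdicCompletion I R, ∑ i, f i * p i = ∑ i, f i * h i ∧
        ∀ i, p i ∈ (I.map (algebraMap R (AdicCompletion I R))) ^ (k - c))
    (hc' : ∀ (k : ℕ) (h : Fin l → AdicCompletion I R), ∑ i, f i * h i = 0 →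
      (∀ i, h i ∈ (I.map (algebraMap R (AdicCompletion I R))) ^ k) →
      ∃ v : Fin m → AdicCompletion I R, (∀ i, ∑ j, v j * g j i = h i) ∧
        ∀ j, v j ∈ (I.map (algebraMap R (AdicCompletion I R))) ^ (k - c'))
    (n : ℕ) (w : Fin l → AdicCompletion I M) (hw : ∑ i, f i • w i = 0)
    (hwn : ∀ i, w i ∈ I ^ n • (⊤ : Submodule R (AdicCompletion I M))) :
    ∃ z : Fin m → AdicCompletion I M,
      (∀ j, z j ∈ I ^ (n - c') • (⊤ : Submodule R (AdicCompletion I M))) ∧
      ∀ i, w i - ∑ j, g j i • z j ∈ I ^ (n + 1) • (⊤ : Submodule R (AdicCompletion I M)) := by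
  classical
  set N := n + 1 + c with hN
  set J := I.map (algebraMap R (AdicCompletion I R)) with hJ
  obtain ⟨T, _, a, μ, ha, hwa⟩ := exists_common_expansion w hwn
  choose rf hrf using fun i => exists_approx hfg (f i) N
  have h1 : ∑ k, (∑ i, rf i * a i k) • μ k ∈ I ^ N • (⊤ : Submodule R (AdicCompletion I M)) := by
    have e : ∑ k, (∑ i, rf i * a i k) • μ k = -(∑ i, (f i - algebraMap R (AdicCompletion I R) (rf i)) • w i) := by
      simp only [sub_smul, Finset.sum_sub_distrib, hw, zero_sub, neg_neg, algebraMap_smul]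
      simp only [Finset.sum_smul, mul_smul]
      rw [Finset.sum_comm]
      simp only [← Finset.smul_sum, ← hwa]
    rw [e]
    exact Submodule.neg_mem _ (Submodule.sum_mem _ fun i _ => smul_mem_of_mem (hrf i) (w i))
  obtain ⟨q, b, y, hy, hb⟩ := trivial_relation_completion hfg hI N _ μ h1
  let h : Fin q → Fin l → (AdicCompletion I R) := fun s i => algebraMap R (AdicCompletion I R) (∑ k, a i k * b k s)
  have hhn : ∀ s i, h s i ∈ J ^ n := fun s i => by
    rw [hJ, ← Ideal.map_pow]
    exact Ideal.mem_map_of_mem _ (Ideal.sum_mem _ fun k _ => Ideal.mul_mem_right _ _ (ha i k))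
  have hfh : ∀ s, ∑ i, f i * h s i ∈ J ^ N := by
    intro s
    have e : ∑ i, f i * h s i = ∑ i, (f i - algebraMap R (AdicCompletion I R) (rf i)) * h s i +
        algebraMap R (AdicCompletion I R) (∑ k, (∑ i, rf i * a i k) * b k s) := by
      simp only [sub_mul, Finset.sum_sub_distrib]
      rw [eq_comm, sub_add_eq_add_sub, sub_eq_iff_eq_add, add_right_inj, map_sum]
      simp only [h, map_sum, map_mul, Finset.sum_mul, Finset.mul_sum]
      rw [Finset.sum_comm]
      simp only [mul_assoc]
    rw [e]
    refine Ideal.add_mem _ (Ideal.sum_mem _ fun i _ => Ideal.mul_mem_right _ _ (hrf i)) ?_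
    rw [hJ, ← Ideal.map_pow]
    exact Ideal.mem_map_of_mem _ (hb s)
  choose p hp hpn using fun s => hc N (h s) (hfh s)
  have hv : ∀ s, ∃ v : Fin m → (AdicCompletion I R), (∀ i, ∑ j, v j * g j i = h s i - p s i) ∧ ∀ j, v j ∈ J ^ (n - c') := by
    intro s
    refine hc' n _ ?_ fun i => Ideal.sub_mem _ (hhn s i) (Ideal.pow_le_pow_right (by omega) (hpn s i))
    simp only [mul_sub, Finset.sum_sub_distrib, hp, sub_self]
  choose v hvg hvn using hv
  refine ⟨fun j => ∑ s, v s j • y s, fun j => Submodule.sum_mem _ fun s _ => smul_mem_of_mem (hvn s j) _, fun i => ?_⟩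
  have e : w i - ∑ j, g j i • ∑ s, v s j • y s =
      ∑ k, a i k • (μ k - ∑ s, b k s • y s) + ∑ s, p s i • y s := by
    have e1 : ∑ j, g j i • ∑ s, v s j • y s = ∑ s, (h s i - p s i) • y s := by
      simp only [Finset.smul_sum, smul_smul]
      rw [Finset.sum_comm]
      simp only [← Finset.sum_smul, ← hvg, mul_comm]
    have e2 : ∑ s, h s i • y s = ∑ k, a i k • ∑ s, b k s • y s := by
      simp only [h, algebraMap_smul, Finset.smul_sum, smul_smul]
      rw [Finset.sum_comm]
      simp only [← Finset.sum_smul]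
    rw [e1, hwa i]
    simp only [sub_smul, Finset.sum_sub_distrib, smul_sub, e2]
    abel
  dsimp only
  rw [e]
  refine Submodule.add_mem _ (Submodule.sum_mem _ fun k _ => ?_)
    (Submodule.sum_mem _ fun s _ => smul_mem_of_mem (Ideal.pow_le_pow_right (by omega) (hpn s i)) _)
  exact Submodule.smul_mem _ _ (Submodule.smul_mono_left (Ideal.pow_le_pow_right (by omega)) (hy k))

end Helpers

open scoped TensorProduct


/-- Let `R` be a ring, `I` a finitely generated ideal with `R/I` Noetherian, and `M` an `R`-module such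
that `M/IM` is flat over `R/I` and the multiplication map `I ⊗ M → M` is injective (the vanishing of
the first Tor of `M` against `R/I`). Then the `I`-adic completion of `M` is flat over the `I`-adic
completion of `R`. (The published statement also records that the completed ring is Noetherian; that
is stated separately.) -/
theorem result (R : Type u) [CommRing R] (I : Ideal R) (hI : I.FG)
    [IsNoetherianRing (R ⧸ I)] (M : Type u) [AddCommGroup M] [Module R M]
    [Module.Flat (R ⧸ I) (M ⧸ (I • ⊤ : Submodule R M))]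
    (hT : Function.Injective (TensorProduct.lift ((LinearMap.lsmul R M).comp (Submodule.subtype I)))) :
    Module.Flat (AdicCompletion I R) (AdicCompletion I M) := by
  classical
  haveI hflat : Module.Flat (R ⧸ I) ((R ⧸ I) ⊗[R] M) :=
    Module.Flat.of_linearEquiv (LinearEquiv.extendScalarsOfSurjective Ideal.Quotient.mk_surjective
      (TensorProduct.quotTensorEquivQuotSMul M I))
  have hI' : Function.Injective (LinearMap.rTensor M (Submodule.subtype I)) := by
    have e : TensorProduct.lift ((LinearMap.lsmul R M).comp (Submodule.subtype I)) =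
        (TensorProduct.lid R M).toLinearMap ∘ₗ LinearMap.rTensor M (Submodule.subtype I) := by
      refine TensorProduct.ext' fun i m => ?_
      simp
    rw [e] at hT
    exact Function.Injective.of_comp (f := (TensorProduct.lid R M)) hT
  haveI : IsNoetherianRing (AdicCompletion I R) :=
    Groth.L01.AdicNoeth.isNoetherianRing_adicCompletion I hI
  haveI hcomp : IsAdicComplete I (AdicCompletion I M) := AdicCompletion.isAdicComplete hI
  rw [Module.Flat.iff_forall_isTrivialRelation]
  intro l f x hx
  set J := I.map (algebraMap R (AdicCompletion I R)) with hJ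
  let φ : (Fin l → AdicCompletion I R) →ₗ[AdicCompletion I R] (Fin 1 → AdicCompletion I R) :=
    LinearMap.pi fun _ => Fintype.linearCombination (AdicCompletion I R) f
  have hφ : ∀ y i, φ y i = ∑ j, f j * y j := fun y i => by
    simp [φ, Fintype.linearCombination_apply, mul_comm]
  obtain ⟨c, hc⟩ := Groth.Agent.S0550.exists_small_lift J φ
  obtain ⟨m, g, hg⟩ := Submodule.fg_iff_exists_fin_generating_family.mp
    (IsNoetherian.noetherian (LinearMap.ker φ))
  let κ : (Fin m → AdicCompletion I R) →ₗ[AdicCompletion I R] (Fin l → AdicCompletion I R) :=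
    Fintype.linearCombination (AdicCompletion I R) g
  have hκ : LinearMap.range κ = LinearMap.ker φ := by
    rw [← hg]
    exact Fintype.range_linearCombination (AdicCompletion I R) g
  obtain ⟨c', hc'⟩ := Groth.Agent.S0550.exists_small_lift J κ
  have hgrel : ∀ j, ∑ i, f i * g j i = 0 := fun j => by
    have h : g j ∈ LinearMap.ker φ := hg ▸ Submodule.subset_span ⟨j, rfl⟩
    have h' := congrFun (LinearMap.mem_ker.mp h) 0
    rwa [hφ] at h'
  have hstep : ∀ (n : ℕ) (w : Fin l → AdicCompletion I M), ∑ i, f i • w i = 0 →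
      (∀ i, w i ∈ I ^ n • (⊤ : Submodule R (AdicCompletion I M))) →
      ∃ z : Fin m → AdicCompletion I M,
        (∀ j, z j ∈ I ^ (n - c') • (⊤ : Submodule R (AdicCompletion I M))) ∧
        ∀ i, w i - ∑ j, g j i • z j ∈ I ^ (n + 1) • (⊤ : Submodule R (AdicCompletion I M)) := by
    refine fun n w hw hwn => step hI hI' f g c c' (fun k h hk => ?_) (fun k h h0 hk => ?_) n w hw hwn
    · obtain ⟨p, hp, hpk⟩ := hc k (φ h) ⟨h, rfl⟩ (fun i => by rw [hφ]; exact hk)
      refine ⟨p, ?_, hpk⟩
      have := congrFun hp 0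
      rwa [hφ, hφ] at this
    · obtain ⟨v, hv, hvk⟩ := hc' k h (by
        rw [hκ, LinearMap.mem_ker]; funext i; rw [hφ]; exact h0) hk
      refine ⟨v, fun i => ?_, hvk⟩
      rw [← hv]
      simp [κ, Fintype.linearCombination_apply, Finset.sum_apply]
  choose! Z hZ hZw using hstep
  let rem : (Fin m → AdicCompletion I M) → Fin l → AdicCompletion I M := fun S i =>
    x i - ∑ j, g j i • S j
  let S : ℕ → Fin m → AdicCompletion I M := fun n => Nat.rec 0 (fun k S => S + Z k (rem S)) n
  have hrem : ∀ S, ∑ i, f i • rem S i = 0 := by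
    intro S
    simp only [rem, smul_sub, Finset.sum_sub_distrib, hx, Finset.smul_sum, smul_smul, zero_sub,
      neg_eq_zero]
    rw [Finset.sum_comm]
    simp only [← Finset.sum_smul, hgrel, zero_smul, Finset.sum_const_zero]
  have hS : ∀ n i, rem (S n) i ∈ I ^ n • (⊤ : Submodule R (AdicCompletion I M)) := by
    intro n
    induction n with
    | zero => intro i; rw [pow_zero, Ideal.one_eq_top, Submodule.top_smul]; trivial
    | succ n ih =>
      intro i
      have h := hZw n _ (hrem (S n)) ih i
      have e : rem (S (n + 1)) i = rem (S n) i - ∑ j, g j i • Z n (rem (S n)) j := by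
        show x i - ∑ j, g j i • (S n + Z n (rem (S n))) j = _
        simp only [rem, Pi.add_apply, smul_add, Finset.sum_add_distrib]
        abel
      rw [e]; exact h
  have hdiff : ∀ n j, S (n + 1) j - S n j ∈ I ^ (n - c') • (⊤ : Submodule R (AdicCompletion I M)) := by
    intro n j
    show S n j + Z n (rem (S n)) j - S n j ∈ _
    rw [add_sub_cancel_left]
    exact hZ n _ (hrem (S n)) (hS n) j
  have hcauchy : ∀ j {a b : ℕ}, a ≤ b →
      S (a + c') j - S (b + c') j ∈ I ^ a • (⊤ : Submodule R (AdicCompletion I M)) := by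
    intro j a b hab
    induction b, hab using Nat.le_induction with
    | base => rw [sub_self]; exact Submodule.zero_mem _
    | succ b hab ih =>
      have h1 : S (b + c' + 1) j - S (b + c') j ∈ I ^ a • (⊤ : Submodule R (AdicCompletion I M)) :=
        Submodule.smul_mono_left (Ideal.pow_le_pow_right (by omega)) (hdiff (b + c') j)
      rw [show b + 1 + c' = b + c' + 1 by omega,
        show S (a + c') j - S (b + c' + 1) j =
          (S (a + c') j - S (b + c') j) - (S (b + c' + 1) j - S (b + c') j) by abel]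
      exact Submodule.sub_mem _ ih h1
  have hlim : ∀ j, ∃ L, ∀ n, S (n + c') j - L ∈ I ^ n • (⊤ : Submodule R (AdicCompletion I M)) := by
    intro j
    obtain ⟨L, hL⟩ := IsPrecomplete.prec (I := I) (M := AdicCompletion I M) inferInstance
      (f := fun n => S (n + c') j) fun {a b} hab => SModEq.sub_mem.mpr (hcauchy j hab)
    exact ⟨L, fun n => SModEq.sub_mem.mp (hL n)⟩
  choose L hL using hlim
  refine ⟨m, fun i j => g j i, L, fun i => ?_, hgrel⟩
  show x i = ∑ j, g j i • L j
  rw [← sub_eq_zero]
  refine IsHausdorff.haus (I := I) inferInstance _ fun n => ?_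
  rw [SModEq.sub_mem, sub_zero,
    show x i - ∑ j, g j i • L j = rem (S (n + c')) i + ∑ j, g j i • (S (n + c') j - L j) by
      simp only [rem, smul_sub, Finset.sum_sub_distrib]; abel]
  exact Submodule.add_mem _
    (Submodule.smul_mono_left (Ideal.pow_le_pow_right (by omega)) (hS (n + c') i))
    (Submodule.sum_mem _ fun j _ => smul_mem_smul_top (hL j n) _)


end Groth.Agent.S0551
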