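import Groth.Statements.S0556
import Groth.Agent.L18.DominatingDVR
import Mathlib.RingTheory.DedekindDomain.IntegralClosure
import Mathlib.RingTheory.Ideal.GoingUp
import Mathlib.RingTheory.KrullDimension.Basic

set_option autoImplicit false
universe u
open CAlg

namespace Groth.Agent.S0556

/-- Any domain `A` sandwiched between a one-dimensional Noetherian domain `R` and a field `L` of finite
degree over the fraction field of `R` is itself Noetherian. -/
theorem result (R : Type u) [CommRing R]
    [IsDomain R] [IsNoetherianRing R] (hdim : ringKrullDim R = 1) (K L : Type u) [Field K] [Field L]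
    [Algebra R K] [IsFractionRing R K] [Algebra K L] [FiniteDimensional K L] [Algebra R L]
    [IsScalarTower R K L] (A : Type u) [CommRing A] [Algebra R A] [Algebra A L]
    [IsScalarTower R A L] (hA : Function.Injective (algebraMap A L)) :
    IsNoetherianRing A := by
  classical
  haveI : IsDomain A := hA.isDomain (algebraMap A L)
  have hRK : Function.Injective (algebraMap R K) := IsFractionRing.injective R K
  have hRL : Function.Injective (algebraMap R L) := by
    rw [IsScalarTower.algebraMap_eq R K L]
    exact (algebraMap K L).injective.comp hRK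
  have hRA : Function.Injective (algebraMap R A) := by
    rw [IsScalarTower.algebraMap_eq R A L] at hRL
    exact Function.Injective.of_comp hRL
  obtain ⟨s, hsA, hs⟩ := (Submodule.fg_span_iff_fg_span_finset_subset (R := K) (Set.range (algebraMap A L))).mp
    (IsNoetherian.noetherian _)
  obtain ⟨y, hy, hint⟩ := exists_integral_multiples R K s
  let T : Set A := {a | ∃ x ∈ s, algebraMap A L a = y • x}
  have hTfin : T.Finite := Set.Finite.of_finite_image (f := algebraMap A L)
    ((s.finite_toSet.image (fun x => y • x)).subset (by rintro _ ⟨a, ⟨x, hx, he⟩, rfl⟩; exact ⟨x, hx, he.symm⟩))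
    hA.injOn
  have hTint : ∀ a ∈ T, IsIntegral R a := by
    rintro a ⟨x, hx, he⟩
    refine (isIntegral_algebraMap_iff hA).mp ?_
    rw [he]
    exact hint x hx
  let S0 := Algebra.adjoin R T
  haveI : Module.Finite R S0 := Module.Finite.iff_fg.mpr (fg_adjoin_of_finite hTfin hTint)
  haveI : IsNoetherianRing S0 := isNoetherian_of_tower R inferInstance
  haveI : Algebra.IsIntegral R S0 := inferInstance
  haveI : Ring.KrullDimLE 1 R := Ring.krullDimLE_iff.mpr hdim.le
  haveI : Ring.KrullDimLE 1 S0 := by
    rw [Ring.krullDimLE_one_iff]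
    intro P hP
    rcases Ring.krullDimLE_one_iff.mp (inferInstanceAs (Ring.KrullDimLE 1 R)) (P.comap (algebraMap R S0)) inferInstance with h | h
    · left
      rw [IsDomain.minimalPrimes_eq_singleton_bot] at h ⊢
      exact Ideal.eq_bot_of_comap_eq_bot h
    · right
      exact Ideal.isMaximal_of_isIntegral_of_isMaximal_comap P h
  refine Groth.L18.isNoetherianRing_of_krullDimLE_one (R := S0) Subtype.val_injective fun a => ?_
  have ha : algebraMap A L a ∈ Submodule.span K (s : Set L) := hs ▸ Submodule.subset_span ⟨a, rfl⟩
  obtain ⟨c, -, hc⟩ := Submodule.mem_span_finset.mp ha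
  obtain ⟨⟨d, hd⟩, hdc⟩ := IsLocalization.exist_integer_multiples (nonZeroDivisors R) s c
  choose! r hr using fun x (hx : x ∈ s) => hdc x hx
  have hpre : ∀ x ∈ s, ∃ b : A, b ∈ T ∧ algebraMap A L b = y • x := by
    intro x hx
    obtain ⟨b, rfl⟩ := hsA hx
    refine ⟨y • b, ⟨_, hx, ?_⟩, ?_⟩ <;> rw [Algebra.smul_def, Algebra.smul_def, map_mul, ← IsScalarTower.algebraMap_apply]
  choose! b hbT hb using hpre
  have hmem : algebraMap R A (y * d) * a ∈ S0 := by
    have he : algebraMap R A (y * d) * a = ∑ x ∈ s, algebraMap R A (r x) * b x := by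
      apply hA
      rw [map_mul, ← IsScalarTower.algebraMap_apply, map_sum, ← hc, Finset.mul_sum]
      refine Finset.sum_congr rfl fun x hx => ?_
      have h1 : algebraMap K L (algebraMap R K (r x)) = algebraMap R L d * algebraMap K L (c x) := by
        rw [hr x hx, Algebra.smul_def, map_mul, ← IsScalarTower.algebraMap_apply]
      rw [← IsScalarTower.algebraMap_apply] at h1
      simp only [map_mul, ← IsScalarTower.algebraMap_apply, hb x hx, h1, Algebra.smul_def]
      ring
    rw [he]
    exact sum_mem fun x hx => mul_mem (S0.algebraMap_mem _) (Algebra.subset_adjoin (hbT x hx))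
  refine ⟨algebraMap R S0 (y * d), ⟨_, hmem⟩, fun h => ?_, rfl⟩
  have h' : algebraMap R A (y * d) = 0 := congrArg Subtype.val h
  rw [map_eq_zero_iff _ hRA] at h'
  exact mul_ne_zero hy (nonZeroDivisors.ne_zero hd) h' 

end Groth.Agent.S0556
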