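import Groth.Statements.S0561
import Groth.Agent.L01.Regular

set_option autoImplicit false
universe u
open CAlg

namespace Groth.Agent.S0561

/-- Let `R` be a regular local ring of dimension `d` and `I` an ideal with `R/I` a regular local ring.
Then there are elements `x₁, …, x_d` generating the maximal ideal such that `I` is generated by `x₁,
…, x_c` for some `c ≤ d`. -/
theorem result (R : Type u) [CommRing R]
    [IsRegularLocalRing R] (d : ℕ) (hd : ringKrullDim R = d) (I : Ideal R)
    [IsRegularLocalRing (R ⧸ I)] :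
    ∃ (x : Fin d → R) (c : ℕ) (hc : c ≤ d), Ideal.span (Set.range x) = IsLocalRing.maximalIdeal R ∧
      I = Ideal.span (Set.range (fun i : Fin c => x (Fin.castLE hc i))) := by
  obtain ⟨l₁, l₂, hlen, hgen, hI⟩ :=
    Groth.L01.exists_lists_of_regular_quotient d R hd I inferInstance
  have hl : l₁.length + l₂.length = d := by simpa using hlen
  refine ⟨fun i => (l₁ ++ l₂)[i.1]'(hlen ▸ i.2), l₁.length, by omega, ?_, ?_⟩
  · rw [← hgen, Ideal.ofList]
    congr 1
    ext y
    simp only [Set.mem_range, Set.mem_ofPred_eq, List.mem_iff_getElem]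
    exact ⟨fun ⟨i, hi⟩ => ⟨i.1, hlen ▸ i.2, hi⟩, fun ⟨i, hi, hy⟩ => ⟨⟨i, hlen ▸ hi⟩, hy⟩⟩
  · rw [hI, Ideal.ofList]
    congr 1
    ext y
    simp only [Set.mem_range, Set.mem_ofPred_eq, List.mem_iff_getElem, Fin.val_castLE]
    exact ⟨fun ⟨i, hi, hy⟩ => ⟨⟨i, hi⟩, (List.getElem_append_left hi).trans hy⟩,
      fun ⟨i, hy⟩ => ⟨i.1, i.2, (List.getElem_append_left i.2).symm.trans hy⟩⟩

end Groth.Agent.S0561
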