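import Groth.Statements.S0571
import Groth.Agent.L01.NormalLocusN
import Mathlib.RingTheory.Localization.Finiteness

set_option autoImplicit false
universe u
open CAlg

namespace Groth.Agent.S0571

theorem finite_iff_of_algEquiv (L K K' : Type u) [CommRing L] [CommRing K] [CommRing K'] [Algebra L K]
    [Algebra L K'] (e : K ≃ₐ[L] K') :
    Module.Finite L (integralClosure L K) → Module.Finite L (integralClosure L K') := fun _ =>
  Module.Finite.equiv e.mapIntegralClosure.toLinearEquiv


/-- A Noetherian domain `R` is N-1 exactly when (a) `R_f` is integrally closed for some nonzero `f`, and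
(b) the localization of `R` at every maximal ideal is N-1. -/
theorem result (R : Type u) [CommRing R] [IsDomain R]
    [IsNoetherianRing R] :
    CAlg.IsN1 R ↔ ((∃ f : R, f ≠ 0 ∧ IsIntegrallyClosed (Localization.Away f)) ∧
      ∀ (m : Ideal R) [m.IsMaximal], CAlg.IsN1 (Localization.AtPrime m)) := by
  classical
  let K := FractionRing R
  constructor
  · intro (h : Module.Finite R (integralClosure R K))
    obtain ⟨S, hS⟩ := Module.Finite.iff_fg.mp (show Module.Finite R (Subalgebra.toSubmodule (integralClosure R K)) from h)
    constructor
    · obtain ⟨⟨f, hf⟩, hfS⟩ := IsLocalization.exist_integer_multiples_of_finset (nonZeroDivisors R) S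
      refine ⟨f, nonZeroDivisors.ne_zero hf, (Groth.L01.NormalLocus.isIntegrallyClosed_localization_iff
        (Submonoid.powers f) (powers_le_nonZeroDivisors_of_noZeroDivisors (nonZeroDivisors.ne_zero hf)) _).mpr
        fun x hx => ⟨f, Submonoid.mem_powers f, ?_⟩⟩
      have hle : Subalgebra.toSubmodule (integralClosure R K) ≤
          Submodule.comap (LinearMap.lsmul R K f) (LinearMap.range (Algebra.linearMap R K)) := by
        rw [← hS, Submodule.span_le]
        intro t ht
        obtain ⟨r, hr⟩ := hfS t ht
        exact ⟨r, hr⟩
      obtain ⟨r, hr⟩ := hle hx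
      exact ⟨r, by rw [← Algebra.smul_def]; exact hr.symm⟩
    · intro m _
      let L := Localization.AtPrime m
      letI : Algebra L K := IsLocalization.localizationAlgebraOfSubmonoidLe L K m.primeCompl (nonZeroDivisors R)
        m.primeCompl_le_nonZeroDivisors
      haveI : IsScalarTower R L K := IsLocalization.localization_isScalarTower_of_submonoid_le L K m.primeCompl
        (nonZeroDivisors R) m.primeCompl_le_nonZeroDivisors
      haveI : IsFractionRing L K := IsFractionRing.isFractionRing_of_isDomain_of_isLocalization m.primeCompl L K
      refine finite_iff_of_algEquiv L K (FractionRing L) (FractionRing.algEquiv L K).symm ?_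
      have heq : Subalgebra.toSubmodule (integralClosure L K) = Submodule.span L (S : Set K) := by
        refine le_antisymm (fun y (hy : IsIntegral L y) => ?_) (Submodule.span_le.mpr fun t ht => ?_)
        · obtain ⟨⟨s, hs⟩, hsy⟩ := IsIntegral.exists_multiple_integral_of_isLocalization m.primeCompl y hy
          have h1 : s • y ∈ Submodule.span R (S : Set K) := by rw [hS]; exact hsy
          have h2 : algebraMap R L s • y ∈ Submodule.span L (S : Set K) := by
            rw [algebraMap_smul]
            exact Submodule.span_le_restrictScalars R L (S : Set K) h1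
          obtain ⟨u, hu⟩ := (IsLocalization.map_units L (⟨s, hs⟩ : m.primeCompl))
          have h3 := Submodule.smul_mem _ (↑u⁻¹ : L) h2
          rwa [smul_smul, ← hu, Units.inv_mul, one_smul] at h3
        · have : t ∈ Subalgebra.toSubmodule (integralClosure R K) := hS ▸ Submodule.subset_span ht
          exact IsIntegral.tower_top this
      exact (Module.Finite.iff_fg (N := Subalgebra.toSubmodule (integralClosure L K))).mpr (heq ▸ ⟨_, rfl⟩)
  · rintro ⟨⟨f, hf, hn⟩, hloc⟩
    refine Groth.L01.NormalLocus.finite_integralClosure hf hn fun m hm => ?_
    haveI := hm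
    let L := Localization.AtPrime m
    letI : Algebra L K := IsLocalization.localizationAlgebraOfSubmonoidLe L K m.primeCompl (nonZeroDivisors R)
      m.primeCompl_le_nonZeroDivisors
    haveI : IsScalarTower R L K := IsLocalization.localization_isScalarTower_of_submonoid_le L K m.primeCompl
      (nonZeroDivisors R) m.primeCompl_le_nonZeroDivisors
    haveI : IsFractionRing L K := IsFractionRing.isFractionRing_of_isDomain_of_isLocalization m.primeCompl L K
    have hfin : Module.Finite L (integralClosure L K) :=
      finite_iff_of_algEquiv L (FractionRing L) K (FractionRing.algEquiv L K) (hloc m)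
    obtain ⟨S, hS⟩ := Module.Finite.iff_fg.mp (show Module.Finite L (Subalgebra.toSubmodule (integralClosure L K)) from hfin)
    have hmul : ∀ t ∈ S, ∃ s : m.primeCompl, IsIntegral R (s • t) := fun t ht =>
      IsIntegral.exists_multiple_integral_of_isLocalization m.primeCompl t
        (show t ∈ Subalgebra.toSubmodule (integralClosure L K) from hS ▸ Submodule.subset_span ht)
    choose! c hc using hmul
    refine ⟨S.image fun t => c t • t, fun t ht => ?_, fun x hx => ?_⟩
    · obtain ⟨a, ha, rfl⟩ := Finset.mem_image.mp ht
      exact hc a ha
    have hxL : x ∈ Submodule.span L ((S.image fun t => c t • t : Finset K) : Set K) := by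
      refine (Submodule.span_le.mpr fun t ht => ?_) (hS.symm ▸ (IsIntegral.tower_top hx : x ∈ Subalgebra.toSubmodule (integralClosure L K)) : x ∈ Submodule.span L (S : Set K))
      obtain ⟨u, hu⟩ := IsLocalization.map_units L (c t)
      have h2 : algebraMap R L (c t) • t ∈ Submodule.span L ((S.image fun t => c t • t : Finset K) : Set K) := by
        rw [algebraMap_smul]
        exact Submodule.subset_span (Finset.mem_image_of_mem _ ht)
      have h3 := Submodule.smul_mem _ (↑u⁻¹ : L) h2
      rwa [smul_smul, ← hu, Units.inv_mul, one_smul] at h3
    obtain ⟨s, hs⟩ := multiple_mem_span_of_mem_localization_span m.primeCompl L _ _ hxL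
    exact ⟨s, s.2, hs⟩

end Groth.Agent.S0571
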