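import Groth.Statements.S0577
import Groth.Agent.L01.CompletionExt
import Mathlib.FieldTheory.KummerPolynomial
import Mathlib.RingTheory.AdjoinRoot
import Mathlib.Algebra.CharP.Lemmas

set_option autoImplicit false
universe u
open CAlg

namespace Groth.Agent.S0577

open scoped TensorProduct

/-- Let `A` be a Noetherian local domain of prime characteristic `p` which is a Nagata ring. If `a ∈ A`
has a `p`-th root in the completion of `A`, then it has a `p`-th root in `A`. -/
theorem result (A : Type u) [CommRing A] [IsDomain A]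
    [IsLocalRing A] (hA : CAlg.IsNagata A) (p : ℕ) [Fact p.Prime] [CharP A p] (a : A)
    (h : ∃ α : AdicCompletion (IsLocalRing.maximalIdeal A) A,
      α ^ p = algebraMap A (AdicCompletion (IsLocalRing.maximalIdeal A) A) a) :
    ∃ b : A, b ^ p = a := by
  classical
  obtain ⟨α, hα⟩ := h
  haveI := hA.1
  let Ah := AdicCompletion (IsLocalRing.maximalIdeal A) A
  haveI : IsReduced Ah := Groth.L01.AnalUnram.isReduced_completion A hA
  have hp : p.Prime := Fact.out
  haveI := Groth.L01.CompletionExt.faithfullyFlat A
  have hinj : Function.Injective (algebraMap A Ah) := FaithfulSMul.algebraMap_injective A Ah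
  haveI : Nontrivial Ah := hinj.nontrivial
  haveI : CharP Ah p := charP_of_injective_ringHom hinj p
  let K := FractionRing A
  by_cases hK : ∃ b : K, b ^ p = algebraMap A K a
  · obtain ⟨b, hb⟩ := hK
    obtain ⟨x, y, hy, rfl⟩ := IsFractionRing.div_surjective (A := A) b
    have hy0 : algebraMap A K y ≠ 0 := IsFractionRing.to_map_ne_zero_of_mem_nonZeroDivisors hy
    have hxy : x ^ p = a * y ^ p := IsFractionRing.injective A K (by
      rw [map_pow, map_mul, map_pow, ← hb, div_pow, div_mul_cancel₀ _ (pow_ne_zero _ hy0)])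
    have h1 : algebraMap A Ah x = α * algebraMap A Ah y := by
      rw [← sub_eq_zero]
      refine IsReduced.eq_zero _ ⟨p, ?_⟩
      rw [sub_pow_char, mul_pow, hα, ← map_pow, ← map_pow, ← map_mul, hxy, sub_self]
    have h2 : x ∈ Ideal.span {y} := by
      rw [← Ideal.comap_map_eq_self_of_faithfullyFlat (B := Ah) (Ideal.span {y}), Ideal.mem_comap, h1]
      exact Ideal.mul_mem_left _ _ (Ideal.mem_map_of_mem _ (Ideal.mem_span_singleton_self y))
    obtain ⟨c, hc⟩ := Ideal.mem_span_singleton.mp h2
    refine ⟨c, mul_right_cancel₀ (pow_ne_zero p (nonZeroDivisors.ne_zero hy)) ?_⟩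
    rw [← hxy, hc]; ring
  · exfalso
    push Not at hK
    let g : Polynomial A := Polynomial.X ^ p - Polynomial.C a
    have hg : g.Monic := Polynomial.monic_X_pow_sub_C a hp.pos.ne'
    have hgK : Irreducible (g.map (algebraMap A K)) := by
      simp only [g, Polynomial.map_sub, Polynomial.map_pow, Polynomial.map_X, Polynomial.map_C]
      exact X_pow_sub_C_irreducible_of_prime hp hK
    have hgp : Prime g := by
      refine ⟨hg.ne_zero, fun hu => ?_, fun u v huv => ?_⟩
      · exact hgK.not_isUnit (hu.map (Polynomial.mapRingHom (algebraMap A K)))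
      · have h' := Polynomial.map_dvd (algebraMap A K) huv
        rw [Polynomial.map_mul] at h'
        exact (hgK.prime.dvd_or_dvd h').imp
          (fun h => (Polynomial.map_dvd_map _ (IsFractionRing.injective A K) hg).mp h)
          (fun h => (Polynomial.map_dvd_map _ (IsFractionRing.injective A K) hg).mp h)
    let B := AdjoinRoot g
    haveI : IsDomain B := AdjoinRoot.isDomain_of_prime hgp
    haveI : Module.Finite A B := hg.finite_adjoinRoot
    have hker : RingHom.ker (algebraMap A B) = ⊥ := by
      rw [← RingHom.injective_iff_ker_eq_bot, AdjoinRoot.algebraMap_eq]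
      refine AdjoinRoot.of.injective_of_degree_ne_zero ?_
      rw [Polynomial.degree_X_pow_sub_C hp.pos]
      exact_mod_cast hp.pos.ne'
    haveI := Groth.L01.AnalUnram.isReduced_tensor A hA ⊥ B hker
    let g' : Polynomial Ah := g.map (algebraMap A Ah)
    let Φ : TensorProduct A Ah B →ₐ[A] AdjoinRoot g' := Algebra.TensorProduct.lift
      (IsScalarTower.toAlgHom A Ah _)
      (AdjoinRoot.liftAlgHom g (Algebra.ofId A _) (AdjoinRoot.root g') (by
        have h := AdjoinRoot.eval₂_root g'
        rw [Polynomial.eval₂_map] at h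
        have he : ((Algebra.ofId A (AdjoinRoot g')) : A →+* AdjoinRoot g') = (AdjoinRoot.of g').comp (algebraMap A Ah) := by
          ext x; exact IsScalarTower.algebraMap_apply A Ah (AdjoinRoot g') x
        rw [he]; exact h))
      fun _ _ => Commute.all _ _
    let z : TensorProduct A Ah B := (1 : Ah) ⊗ₜ[A] (AdjoinRoot.root g) - α ⊗ₜ[A] (1 : B)
    have hz : Φ z ≠ 0 := by
      have h1 : Φ z = AdjoinRoot.mk g' (Polynomial.X - Polynomial.C α) := by
        rw [map_sub, Algebra.TensorProduct.lift_tmul, Algebra.TensorProduct.lift_tmul, map_one, map_one, one_mul, mul_one,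
          map_sub, AdjoinRoot.mk_X, AdjoinRoot.mk_C]
        erw [AdjoinRoot.liftAlgHom_root]
        rfl
      rw [h1]
      refine AdjoinRoot.mk_ne_zero_of_degree_lt (hg.map _) (Polynomial.X_sub_C_ne_zero α) ?_
      rw [Polynomial.degree_X_sub_C, hg.degree_map, Polynomial.degree_X_pow_sub_C hp.pos]
      exact_mod_cast hp.one_lt
    haveI : Nontrivial (TensorProduct A Ah B) := ⟨⟨z, 0, fun h => hz (by rw [h, map_zero])⟩⟩
    haveI : CharP (TensorProduct A Ah B) p := (CharP.charP_iff_prime_eq_zero hp).mpr (by
      rw [← map_natCast (algebraMap A (TensorProduct A Ah B)), CharP.cast_eq_zero, map_zero])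
    suffices hzp : z ^ p = 0 from hz (by rw [IsReduced.eq_zero z ⟨p, hzp⟩, map_zero])
    have hroot : (AdjoinRoot.root g) ^ p = algebraMap A B a := by
      have h := AdjoinRoot.eval₂_root g
      simp only [g, Polynomial.eval₂_sub, Polynomial.eval₂_pow, Polynomial.eval₂_X, Polynomial.eval₂_C] at h
      exact sub_eq_zero.mp h
    rw [sub_pow_char, Algebra.TensorProduct.tmul_pow, Algebra.TensorProduct.tmul_pow, one_pow, one_pow, hα, hroot,
      Algebra.algebraMap_eq_smul_one, Algebra.algebraMap_eq_smul_one, TensorProduct.smul_tmul, sub_self]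

end Groth.Agent.S0577
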