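import Groth.Statements.S0579
import Mathlib.RingTheory.Smooth.Field
import Mathlib.RingTheory.Smooth.AdicCompletion
import Mathlib.FieldTheory.Perfect
import Mathlib.RingTheory.AlgebraicIndependent.TranscendenceBasis

set_option autoImplicit false
universe u
open CAlg

namespace Groth.Agent.S0579

/-- A local ring which is complete with respect to its maximal ideal and whose residue field has
characteristic zero admits a coefficient field: there is a ring homomorphism from the residue field
to the ring which is a section of the residue map. -/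
theorem result (R : Type u) [CommRing R] [IsLocalRing R]
    [IsAdicComplete (IsLocalRing.maximalIdeal R) R] [CharZero (IsLocalRing.ResidueField R)] :
    ∃ s : IsLocalRing.ResidueField R →+* R, (IsLocalRing.residue R).comp s = RingHom.id _ := by
  have hu : ∀ n : ℕ, n ≠ 0 → IsUnit (n : R) := fun n hn => by
    by_contra h
    have h0 : IsLocalRing.residue R (n : R) = 0 :=
      Ideal.Quotient.eq_zero_iff_mem.mpr ((IsLocalRing.mem_maximalIdeal _).mpr h)
    rw [map_natCast, Nat.cast_eq_zero] at h0
    exact hn h0
  have hz : ∀ z : nonZeroDivisors ℤ, IsUnit (Int.castRingHom R z) := by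
    rintro ⟨z, hz⟩
    have hz' : z ≠ 0 := nonZeroDivisors.ne_zero hz
    have := hu z.natAbs (Int.natAbs_ne_zero.mpr hz')
    rcases Int.natAbs_eq z with h | h
    · rw [eq_intCast, show ((z : ℤ) : R) = (z.natAbs : R) by conv_lhs => rw [h, Int.cast_natCast]]
      exact this
    · rw [eq_intCast, show ((z : ℤ) : R) = -(z.natAbs : R) by
        conv_lhs => rw [h, Int.cast_neg, Int.cast_natCast]]
      exact this.neg
  let φ : ℚ →+* R := IsLocalization.lift (S := ℚ) hz
  letI : Algebra ℚ R := φ.toAlgebra
  obtain ⟨t, ht⟩ := exists_isTranscendenceBasis ℚ (IsLocalRing.ResidueField R)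
  have : Algebra.IsAlgebraic (IntermediateField.adjoin ℚ (Set.range ((↑) : t → IsLocalRing.ResidueField R)))
      (IsLocalRing.ResidueField R) := ht.isAlgebraic_field
  have : Algebra.FormallySmooth ℚ (IsLocalRing.ResidueField R) :=
    .of_algebraicIndependent_of_isSeparable ht.1
  let f : IsLocalRing.ResidueField R →ₐ[ℚ] R ⧸ IsLocalRing.maximalIdeal R :=
    { toRingHom := RingHom.id _
      commutes' := fun q => RingHom.congr_fun (RingHom.ext_rat
        ((RingHom.id (R ⧸ IsLocalRing.maximalIdeal R)).comp
          (algebraMap ℚ (IsLocalRing.ResidueField R) : ℚ →+* R ⧸ IsLocalRing.maximalIdeal R))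
        (algebraMap ℚ (R ⧸ IsLocalRing.maximalIdeal R))) q }
  obtain ⟨g, hg⟩ := Algebra.FormallySmooth.exists_mkₐ_comp_eq_of_isAdicComplete f
  exact ⟨g.toRingHom, RingHom.ext fun x => AlgHom.congr_fun hg x⟩

end Groth.Agent.S0579
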