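import Groth.Statements.S0580
import Groth.Agent.L01.CohenRing

set_option autoImplicit false
universe u
open CAlg

namespace Groth.Agent.S0580

/-- A local ring complete with respect to a finitely generated maximal ideal is a quotient of a power
series ring in finitely many variables over a ring which is either a field or a Cohen ring. -/
theorem result (R : Type u) [CommRing R]
    [IsLocalRing R] [IsAdicComplete (IsLocalRing.maximalIdeal R) R]
    (hfg : (IsLocalRing.maximalIdeal R).FG) :
    ∃ (Λ : Type u) (_ : CommRing Λ) (n : ℕ) (f : MvPowerSeries (Fin n) Λ →+* R),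
      (IsField Λ ∨ CAlg.IsCohenRing Λ) ∧ Function.Surjective f := by
  obtain ⟨n, x, hx⟩ := Submodule.fg_iff_exists_fin_generating_family.mp hfg
  obtain ⟨p, hp⟩ := CharP.exists (IsLocalRing.ResidueField R)
  rcases CharP.char_is_prime_or_zero (IsLocalRing.ResidueField R) p with hpp | rfl
  · haveI := Fact.mk hpp
    obtain ⟨Λ, i1, i2, _, hC, hm, hreg, -, -, ⟨e⟩⟩ := Groth.L01.Cohen.exists_cohenRing p (IsLocalRing.ResidueField R)
    have hpR : (p : R) ∈ IsLocalRing.maximalIdeal R := by
      rw [← IsLocalRing.residue_eq_zero_iff, map_natCast, CharP.cast_eq_zero]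
    obtain ⟨F, hF⟩ := Groth.L01.Cohen.exists_lift_cohen hm hreg hpR (e.toRingHom.comp (IsLocalRing.residue Λ))
    obtain ⟨φ, -, -, hφ⟩ := Groth.L01.Cohen.exists_surjective_powerSeries F
      (by rw [hF]; exact e.surjective.comp IsLocalRing.residue_surjective) x hx
    exact ⟨Λ, i1, n, φ, Or.inr hC, hφ⟩
  · haveI := CharP.charP_to_charZero (IsLocalRing.ResidueField R)
    obtain ⟨F, hF⟩ := Groth.L01.Cohen.exists_coefficientField_charZero (R := R)
    obtain ⟨φ, -, -, hφ⟩ := Groth.L01.Cohen.exists_surjective_powerSeries F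
      (by rw [hF]; exact Function.surjective_id) x hx
    exact ⟨_, inferInstance, n, φ, Or.inl (Field.toIsField _), hφ⟩

end Groth.Agent.S0580
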