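import Groth.Statements.S0586
import Groth.Agent.L01.MLDescent

set_option autoImplicit false
universe u
open CAlg

namespace Groth.Agent.S0586

/-- Let `R → S` be faithfully flat and `M` an `R`-module. If `S ⊗ M` is a Mittag-Leffler `S`-module then
`M` is a Mittag-Leffler `R`-module. -/
theorem result (R : Type u) [CommRing R] (S : Type u)
    [CommRing S] [Algebra R S] [Module.FaithfullyFlat R S] (M : Type u) [AddCommGroup M] [Module R M]
    (h : CAlg.IsMittagLeffler S (TensorProduct R S M)) : CAlg.IsMittagLeffler R M := Groth.L01.MLDescent.isMittagLeffler h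

end Groth.Agent.S0586
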