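import Groth.Statements.S0587
import Groth.Agent.L02.Pi

set_option autoImplicit false
universe u
open CAlg

namespace Groth.Agent.S0587

/-- A module `M` is finitely generated exactly when for every family of modules `(Qᵢ)` the natural map
from `M ⊗ ∏ Qᵢ` to `∏ (M ⊗ Qᵢ)` is surjective. -/
theorem result (R : Type u) [CommRing R] (M : Type u)
    [AddCommGroup M] [Module R M] :
    Module.Finite R M ↔ ∀ (ι : Type u) (Q : ι → Type u) [∀ i, AddCommGroup (Q i)]
      [∀ i, Module R (Q i)], Function.Surjective (TensorProduct.piRightHom R R M Q) := by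
  classical
  refine ⟨fun _ ι Q _ _ => Groth.L02.piRightHom_surjective_of_finite, fun h => ?_⟩
  obtain ⟨x, hx⟩ := h M (fun _ => R) (fun m => m ⊗ₜ (1 : R))
  obtain ⟨S, hS⟩ := TensorProduct.exists_finset x
  refine ⟨⟨S.image Prod.fst, eq_top_iff.mpr fun m _ => ?_⟩⟩
  have h1 := congrArg (TensorProduct.rid R M) (congrFun hx m)
  simp only [hS, map_sum, Finset.sum_apply, TensorProduct.piRightHom_tmul, TensorProduct.rid_tmul, one_smul] at h1
  rw [← h1]
  exact Submodule.sum_mem _ fun p hp => Submodule.smul_mem _ _
    (Submodule.subset_span (Finset.mem_coe.mpr (Finset.mem_image_of_mem _ hp)))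

end Groth.Agent.S0587
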