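import Groth.Statements.S0588
import Groth.Agent.L02.Pi
import Groth.Agent.S0587

set_option autoImplicit false
universe u
open CAlg

namespace Groth.Agent.S0588

/-- A module `M` is finitely presented exactly when for every family of modules `(Qᵢ)` the natural map
from `M ⊗ ∏ Qᵢ` to `∏ (M ⊗ Qᵢ)` is bijective. -/
theorem result (R : Type u) [CommRing R] (M : Type u)
    [AddCommGroup M] [Module R M] :
    Module.FinitePresentation R M ↔ ∀ (ι : Type u) (Q : ι → Type u) [∀ i, AddCommGroup (Q i)]
      [∀ i, Module R (Q i)], Function.Bijective (TensorProduct.piRightHom R R M Q) := by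
  classical
  refine ⟨fun _ ι Q _ _ => Groth.L02.piRightHom_bijective_of_finitePresentation, fun h => ?_⟩
  haveI : Module.Finite R M := (Groth.Agent.S0587.result R M).mpr fun ι Q _ _ => (h ι Q).2
  obtain ⟨n, s, hs⟩ := Module.Finite.exists_fin' R M
  refine Module.finitePresentation_of_surjective s hs ?_
  suffices Module.Finite R (LinearMap.ker s) from Module.Finite.iff_fg.mp this
  obtain ⟨w, hw⟩ := Groth.L02.piRightHom_surjective_of_finite (M := Fin n → R) (Q := fun _ : LinearMap.ker s => R)
    (fun k => (k : Fin n → R) ⊗ₜ[R] (1 : R))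
  have hsw : s.rTensor (∀ _ : LinearMap.ker s, R) w = 0 := by
    apply (h (LinearMap.ker s) fun _ => R).1
    rw [map_zero, Groth.L02.piRightHom_rTensor, hw]
    funext k
    rw [LinearMap.rTensor_tmul, LinearMap.mem_ker.mp k.2, TensorProduct.zero_tmul, Pi.zero_apply]
  obtain ⟨v, rfl⟩ := ((rTensor_exact (∀ _ : LinearMap.ker s, R) (LinearMap.exact_subtype_ker_map s) hs) w).mp hsw
  obtain ⟨S, hS⟩ := TensorProduct.exists_finset v
  refine ⟨⟨S.image Prod.fst, eq_top_iff.mpr fun k _ => ?_⟩⟩
  have h1 := congrArg (TensorProduct.rid R (Fin n → R)) (congrFun hw k)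
  simp only [hS, map_sum, Finset.sum_apply, LinearMap.rTensor_tmul, TensorProduct.piRightHom_tmul,
    TensorProduct.rid_tmul, one_smul] at h1
  have h2 : k = ∑ p ∈ S, p.2 k • p.1 := Subtype.ext (by rw [← h1]; simp)
  rw [h2]
  exact Submodule.sum_mem _ fun p hp => Submodule.smul_mem _ _
    (Submodule.subset_span (Finset.mem_coe.mpr (Finset.mem_image_of_mem _ hp)))

end Groth.Agent.S0588
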