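import Groth.Statements.S0594
import Groth.Agent.L19.Limit.Fixed

set_option autoImplicit false
set_option backward.isDefEq.respectTransparency.types false
set_option backward.isDefEq.respectTransparency false
universe u
open CategoryTheory AlgebraicGeometry
open Lim

namespace Groth.Agent.S0594

/-- Over a quasi-compact quasi-separated base `S`, let `X` be the limit of a cofiltered system of
quasi-compact quasi-separated `S`-schemes, locally of finite type over `S`, whose transition
morphisms are closed immersions. If `X → S` is a closed immersion then so is `Xᵢ → S` for some index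
`i`. -/
theorem result {I : Type u} [SmallCategory I] [IsCofiltered I]
    (S : Scheme.{u}) [CompactSpace S] [QuasiSeparatedSpace S]
    (D : I ⥤ Scheme.{u}) (t : D ⟶ (Functor.const I).obj S) (c : Limits.Cone D)
    (hc : Limits.IsLimit c) [∀ (i j : I) (f : i ⟶ j), IsClosedImmersion (D.map f)]
    [∀ i, CompactSpace (D.obj i)] [∀ i, QuasiSeparatedSpace (D.obj i)]
    [∀ i, LocallyOfFiniteType (t.app i)] (i₀ : I) [IsClosedImmersion (c.π.app i₀ ≫ t.app i₀)] :
    ∃ i : I, IsClosedImmersion (t.app i) := by
  haveI : ∀ {i j} (f : i ⟶ j), IsAffineHom (D.map f) := fun f => inferInstance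
  haveI : QuasiCompact (t.app i₀) := quasiCompact_of_compactSpace (Y := S) (t.app i₀)
  obtain ⟨j, φ, hj⟩ := Groth.L19.Limit.exists_isClosedImmersion hc (fun f => inferInstance) (S := S)
    (t.app i₀)
  refine ⟨j, ?_⟩
  have e : t.app j = D.map φ ≫ t.app i₀ := by
    simpa using ((t.naturality φ).trans (Category.comp_id _)).symm
  rw [e]
  exact hj

end Groth.Agent.S0594
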