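import Groth.Statements.S0604
import Groth.Agent.L03.AuslanderBuchsbaum

set_option autoImplicit false
universe u
open CategoryTheory
open CAlg

namespace Groth.Agent.S0604

/-- Over a Noetherian local ring `R`, a nonzero finitely generated module `M` of finite projective
dimension satisfies depth R = pd M + depth M. -/
theorem result (R : Type u) [CommRing R] [IsLocalRing R] [IsNoetherianRing R]
    (M : Type u) [AddCommGroup M] [Module R M] [Module.Finite R M] [Nontrivial M] (e : ℕ)
    (he : projectiveDimension (ModuleCat.of R M) = e) :
    LocCoh.depth R R = e + LocCoh.depth R M := by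
  refine Groth.L03.AB.auslander_buchsbaum e M ((projectiveDimension_le_iff _ e).1 he.le) fun e' he' hle => ?_
  have h1 := (projectiveDimension_le_iff _ e').2 hle
  rw [he] at h1
  have : e ≤ e' := by exact_mod_cast h1
  omega

end Groth.Agent.S0604
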