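import Groth.Statements.S0605
import Groth.Agent.L01.AusBuch

set_option autoImplicit false
universe u
open CAlg

namespace Groth.Agent.S0605

/-- Over a regular local ring, a finitely generated module whose depth equals the dimension of the ring
(a maximal Cohen–Macaulay module) is free. -/
theorem result (R : Type u) [CommRing R]
    [IsRegularLocalRing R] (M : Type u) [AddCommGroup M] [Module R M] [Module.Finite R M]
    (h : ((LocCoh.depth R M : ℕ∞) : WithBot ℕ∞) = ringKrullDim R) : Module.Free R M := by
  obtain ⟨d, hd⟩ := Groth.L01.exists_dim_eq_nat (R := R)
  rw [hd] at h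
  have hdep : LocCoh.depth R M = (d : ℕ∞) := by exact_mod_cast h
  have h0 := Groth.L04.hasProjectiveDimensionLE_of_dim_le_add_depth M (t := 0) hd (by rw [hdep]; simp)
  rw [CategoryTheory.HasProjectiveDimensionLE, zero_add,
    ← CategoryTheory.projective_iff_hasProjectiveDimensionLT_one] at h0
  haveI : Module.Projective R M := (IsProjective.iff_projective M).2 h0
  exact Module.free_of_flat_of_isLocalRing

end Groth.Agent.S0605
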