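import Groth.Statements.S0608
import Groth.Agent.L14.QRegRegular

set_option autoImplicit false
universe u
open RRAlg

namespace Groth.Agent.S0608

/-- Let a_1, …, a_n be a weakly regular sequence in a commutative ring A (each a_i is a non-zero-divisor
modulo (a_1, …, a_(i−1)); the a_i are allowed to generate the unit ideal). Then the kernel of the
A-algebra map A[X_1, …, X_n] → A[T] sending X_i to a_i·T, whose image is the Rees algebra of the
ideal (a_1, …, a_n), is the ideal generated by the elements a_i X_j − a_j X_i. (The published
statement assumes a regular sequence; only weak regularity is assumed here.) -/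
theorem result {A : Type u} [CommRing A] {n : ℕ} (a : Fin n → A)
    (ha : RingTheory.Sequence.IsWeaklyRegular A (List.ofFn a)) :
    RingHom.ker (MvPolynomial.aeval (R := A)
      (fun i : Fin n => Polynomial.C (a i) * (Polynomial.X : Polynomial A))) =
      Ideal.span {q : MvPolynomial (Fin n) A | ∃ i j : Fin n,
        q = MvPolynomial.C (a i) * MvPolynomial.X j - MvPolynomial.C (a j) * MvPolynomial.X i} := by
  apply le_antisymm
  · intro P hP
    rw [RingHom.mem_ker] at hP
    have key : ∀ n, MvPolynomial.eval a (MvPolynomial.homogeneousComponent n P) = 0 := by
      intro n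
      have h1 : ∀ m, MvPolynomial.aeval (R := A) (fun i => Polynomial.C (a i) * (Polynomial.X : Polynomial A))
          (MvPolynomial.homogeneousComponent m P) =
          Polynomial.C (MvPolynomial.eval a (MvPolynomial.homogeneousComponent m P)) * Polynomial.X ^ m := by
        intro m
        rw [show (fun i => Polynomial.C (a i) * (Polynomial.X : Polynomial A)) =
          fun i => Polynomial.X * Polynomial.C (a i) from funext fun i => mul_comm _ _,
          Groth.L14.QRR.aeval_mul_hom _ _ (MvPolynomial.homogeneousComponent_isHomogeneous m P), mul_comm]
        congr 1
        exact MvPolynomial.aeval_algebraMap_apply (B := Polynomial A) a _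
      conv_lhs at hP => rw [← MvPolynomial.sum_homogeneousComponent P, map_sum]
      simp only [h1] at hP
      have h2 := congrArg (fun q => Polynomial.coeff q n) hP
      simp only [Polynomial.finset_sum_coeff, Polynomial.coeff_C_mul_X_pow, Polynomial.coeff_zero,
        Finset.sum_ite_eq, Finset.mem_range] at h2
      by_cases hn : n < P.totalDegree + 1
      · rwa [if_pos hn] at h2
      · rw [MvPolynomial.homogeneousComponent_eq_zero _ _ (by omega)]; simp
    rw [← MvPolynomial.sum_homogeneousComponent P]
    exact Submodule.sum_mem _ fun n _ => Groth.L14.QRR.mem_koszul ha n _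
      (MvPolynomial.homogeneousComponent_isHomogeneous n P) (key n)
  · rw [Ideal.span_le]
    rintro _ ⟨i, j, rfl⟩
    simp [mul_left_comm]

end Groth.Agent.S0608
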