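import Groth.Statements.S0619
import Groth.Agent.L03.HasseWeil.Curve
-- import your own Groth.Agent.* helpers here

set_option autoImplicit false
universe u
open AlgebraicGeometry CategoryTheory
open Zeta

namespace Groth.Agent.S0619

/-- For a geometrically connected smooth proper curve of genus g over a finite field k with q elements
and a finite extension k' of degree n, |#C(k') − (qⁿ + 1)| ≤ 2g·q^(n/2). -/
theorem result {k : Type u} [Field k] [Finite k] {C : Scheme.{u}}
    (f : C ⟶ Spec (CommRingCat.of k)) (hC : Curve.IsSmoothProperCurve k C f)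
    [GeometricallyIrreducible f] (g : ℕ)
    (hg : Nat.card (Coh.HH C (Coh.structureModule C) 1) = Nat.card k ^ g)
    (k' : Type u) [Field k'] [Algebra k k'] [Finite k'] :
    |(SgaExt.pointCount f k' : ℝ) - ((Nat.card k : ℝ) ^ Module.finrank k k' + 1)| ≤
      2 * g * (Nat.card k : ℝ) ^ ((Module.finrank k k' : ℝ) / 2) := by
  have h := Groth.L03.HasseWeil.sq_pointCount_ext_le f hC g hg k'
  set q : ℝ := (Nat.card k : ℝ) with hq
  set n := Module.finrank k k'
  have hq0 : 0 ≤ q := Nat.cast_nonneg _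
  have hR : ((SgaExt.pointCount f k' : ℝ) - q ^ n - 1) ^ 2 ≤ 4 * (g : ℝ) ^ 2 * q ^ n := by
    rw [Module.natCard_eq_pow_finrank (K := k) (V := k')] at h
    have := (Int.cast_le (R := ℝ)).2 h
    push_cast at this
    exact this
  have hs : (q ^ ((n : ℝ) / 2)) ^ 2 = q ^ n := by
    rw [← Real.rpow_natCast, ← Real.rpow_mul hq0, ← Real.rpow_natCast]
    congr 1
    push_cast
    ring
  refine abs_le_of_sq_le_sq ?_ (by positivity)
  calc ((SgaExt.pointCount f k' : ℝ) - (q ^ n + 1)) ^ 2
      = ((SgaExt.pointCount f k' : ℝ) - q ^ n - 1) ^ 2 := by ring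
    _ ≤ 4 * (g : ℝ) ^ 2 * q ^ n := hR
    _ = (2 * (g : ℝ) * q ^ ((n : ℝ) / 2)) ^ 2 := by rw [mul_pow, hs]; ring

end Groth.Agent.S0619
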