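import Groth.Statements.S15524
import Mathlib.Analysis.Complex.Basic
import Mathlib.Analysis.SpecialFunctions.Pow.Real
import Mathlib.Algebra.Polynomial.BigOperators
import Mathlib.Analysis.SpecificLimits.Basic
import Mathlib.Tactic

set_option autoImplicit false
open Finset
open Zeta

namespace Groth.Agent.S15524

/-- Let q ≥ 1 and let α_1, …, α_{2g} be complex numbers permuted by α ↦ q/α, i.e. α_{σ(i)} α_i = q for a
permutation σ of the indices; these play the role of the inverse roots of the numerator of the zeta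
function of a curve over a field with q elements, for which #X(F_{q^N}) = q^N + 1 − Σ_i α_i^N. If
for some d ≥ 1 and real C one has |Σ_i α_i^{dN}| ≤ C q^{dN/2} for every N ≥ 1, then |α_i|^2 = q for
every i (the Riemann hypothesis for the curve). -/
theorem result {g : ℕ} (q : ℕ) (hq : 0 < q)
    (α : Fin (2 * g) → ℂ) (σ : Equiv.Perm (Fin (2 * g))) (hσ : ∀ i, α (σ i) * α i = q)
    (d : ℕ) (hd : 0 < d) (C : ℝ)
    (hC : ∀ N : ℕ, 1 ≤ N → ‖∑ i, α i ^ (d * N)‖ ≤ C * (q : ℝ) ^ ((d : ℝ) * N / 2))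
    (i : Fin (2 * g)) : ‖α i‖ ^ 2 = q := by
  classical
  have hq' : (0 : ℝ) < q := by exact_mod_cast hq
  set r : ℝ := (q : ℝ) ^ ((d : ℝ) / 2) with hr
  have hr0 : 0 < r := Real.rpow_pos_of_pos hq' _
  have hrd : r ^ 2 = (q : ℝ) ^ d := by
    rw [hr, ← Real.rpow_natCast, ← Real.rpow_mul hq'.le, ← Real.rpow_natCast]
    congr 1
    push_cast
    ring
  have hrN : ∀ N : ℕ, (q : ℝ) ^ ((d : ℝ) * N / 2) = r ^ N := fun N => by
    rw [hr, ← Real.rpow_natCast _ N, ← Real.rpow_mul hq'.le]
    congr 1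
    ring
  -- every root has absolute value at most `√q`
  have hle : ∀ j, ‖α j‖ ^ 2 ≤ q := fun j => by
    set b := α j ^ d
    let S : Finset ℂ := (Finset.univ.image fun i => α i ^ d).erase b
    let P : Polynomial ℂ := ∏ c ∈ S, (Polynomial.X - Polynomial.C c)
    have hPb : P.eval b ≠ 0 := by
      rw [Polynomial.eval_prod, Finset.prod_ne_zero_iff]
      intro c hc
      rw [Polynomial.eval_sub, Polynomial.eval_X, Polynomial.eval_C, sub_ne_zero]
      exact (Finset.ne_of_mem_erase hc).symm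
    let m : ℕ := (Finset.univ.filter fun i => α i ^ d = b).card
    have hm : (m : ℂ) ≠ 0 := by
      exact_mod_cast (Finset.card_ne_zero.mpr ⟨j, by simp [b]⟩)
    have key : ∀ N : ℕ, (m : ℂ) * P.eval b * b ^ N =
        ∑ t ∈ Finset.range (P.natDegree + 1), P.coeff t * ∑ i, α i ^ (d * (N + t)) := fun N => by
      have h1 : ∀ t, P.coeff t * ∑ i, α i ^ (d * (N + t)) = ∑ i, (α i ^ d) ^ N * (P.coeff t * (α i ^ d) ^ t) := fun t => by
        rw [Finset.mul_sum]
        exact Finset.sum_congr rfl fun i _ => by rw [pow_mul, pow_add]; ring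
      rw [Finset.sum_congr rfl fun t _ => h1 t, Finset.sum_comm]
      simp only [← Finset.mul_sum, ← Polynomial.eval_eq_sum_range]
      rw [← Finset.sum_filter_add_sum_filter_not Finset.univ (fun i => α i ^ d = b),
        Finset.sum_eq_zero (s := Finset.univ.filter fun i => ¬ α i ^ d = b), add_zero,
        Finset.sum_congr rfl (g := fun _ => b ^ N * P.eval b) fun i hi => by rw [(Finset.mem_filter.mp hi).2],
        Finset.sum_const, nsmul_eq_mul]
      · ring
      · intro i hi
        rw [Polynomial.eval_prod, Finset.prod_eq_zero (i := α i ^ d), mul_zero]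
        · exact Finset.mem_erase.mpr ⟨(Finset.mem_filter.mp hi).2, Finset.mem_image_of_mem _ (Finset.mem_univ i)⟩
        · simp
    let D : ℝ := ∑ t ∈ Finset.range (P.natDegree + 1), ‖P.coeff t‖ * C * r ^ t
    have hbound : ∀ N : ℕ, 1 ≤ N → ‖(m : ℂ) * P.eval b‖ * ‖b‖ ^ N ≤ D * r ^ N := fun N hN => by
      rw [← norm_pow, ← norm_mul, key N, Finset.sum_mul]
      refine (norm_sum_le _ _).trans (Finset.sum_le_sum fun t _ => ?_)
      have h2 := hC (N + t) (by omega)
      rw [hrN] at h2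
      rw [norm_mul, show ‖P.coeff t‖ * C * r ^ t * r ^ N = ‖P.coeff t‖ * (C * r ^ (N + t)) by ring]
      exact mul_le_mul_of_nonneg_left h2 (norm_nonneg _)
    have hbr : ‖b‖ ≤ r := by
      by_contra hlt
      rw [not_le] at hlt
      have hc : 0 < ‖(m : ℂ) * P.eval b‖ := norm_pos_iff.mpr (mul_ne_zero hm hPb)
      have hgt : 1 < ‖b‖ / r := (one_lt_div hr0).mpr hlt
      obtain ⟨N, hN⟩ := ((tendsto_pow_atTop_atTop_of_one_lt hgt).eventually_gt_atTop
        (D / ‖(m : ℂ) * P.eval b‖)).and (Filter.eventually_ge_atTop 1) |>.exists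
      rw [div_pow, div_lt_div_iff₀ hc (pow_pos hr0 N)] at hN
      have := hbound N hN.2
      nlinarith [hN.1]
    have h3 : (‖α j‖ ^ 2) ^ d ≤ (q : ℝ) ^ d := by
      rw [← hrd, ← pow_mul, mul_comm, pow_mul, ← norm_pow]
      exact pow_le_pow_left₀ (norm_nonneg _) hbr 2
    exact le_of_pow_le_pow_left₀ hd.ne' hq'.le h3
  have hprod : ‖α (σ i)‖ ^ 2 * ‖α i‖ ^ 2 = (q : ℝ) ^ 2 := by
    rw [← mul_pow, ← norm_mul, hσ, Complex.norm_natCast]
  refine le_antisymm (hle i) ?_
  nlinarith [hle (σ i), hle i, sq_nonneg ‖α i‖]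

end Groth.Agent.S15524
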