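import Groth.Statements.S0610
import Groth.Agent.L03.CurveCount.Numerator
import Groth.Agent.L03.HasseWeil.Curve
import Groth.Agent.S0619
import Groth.Agent.S15524
-- import your own Groth.Agent.* helpers here

set_option autoImplicit false
universe u
open AlgebraicGeometry CategoryTheory
open Zeta

namespace Groth.Agent.S0610

/-- Weil conjectures for curves, in elementary form (rationality of the zeta function with numerator of
degree 2g, the functional equation and the Riemann hypothesis, packaged as a point-count formula):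
let k be a finite field with q elements and C a smooth, proper, geometrically irreducible curve over
k of genus g, the genus being pinned down by #H¹(C, O_C) = q^g (equivalent to dim_k H¹(C, O_C) = g).
Then there are complex numbers α_1, …, α_{2g}, each an algebraic integer with |α_i|² = q, and a
permutation σ of the indices with α_{σ(i)} · α_i = q for all i, such that for every finite extension
k' of k the number of k'-points of C equals q^{[k':k]} + 1 − Σ_i α_i^{[k':k]}. -/
theorem result {k : Type u} [Field k] [Finite k] {C : Scheme.{u}}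
    (f : C ⟶ Spec (CommRingCat.of k)) (hC : Curve.IsSmoothProperCurve k C f)
    [GeometricallyIrreducible f] (g : ℕ)
    (hg : Nat.card (Coh.HH C (Coh.structureModule C) 1) = Nat.card k ^ g) :
    ∃ α : Fin (2 * g) → ℂ, (∀ i, IsIntegral ℤ (α i)) ∧ (∀ i, ‖α i‖ ^ 2 = Nat.card k) ∧
      (∃ σ : Equiv.Perm (Fin (2 * g)), ∀ i, α (σ i) * α i = Nat.card k) ∧
      ∀ (k' : Type u) [Field k'] [Algebra k k'] [Finite k'],
        (SgaExt.pointCount f k' : ℂ) =
          (Nat.card k : ℂ) ^ Module.finrank k k' + 1 - ∑ i, α i ^ Module.finrank k k' := by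
  obtain ⟨hp, hs, hi, hd⟩ := hC
  letI : C.Over (Spec (CommRingCat.of k)) := ⟨f⟩
  haveI : IsProper (C ↘ Spec (CommRingCat.of k)) := hp
  haveI : Smooth (C ↘ Spec (CommRingCat.of k)) := hs
  haveI : GeometricallyIrreducible (C ↘ Spec (CommRingCat.of k)) := ‹GeometricallyIrreducible f›
  haveI := hi
  haveI : CompactSpace C := QuasiCompact.compactSpace_of_compactSpace (C ↘ Spec (CommRingCat.of k))
  obtain rfl : Curv2.genus k C = g := Groth.L03.HasseWeil.genus_eq_of_card hg
  obtain ⟨α, hint, hpair, hsum⟩ := Groth.L03.CurveCount.exists_powerSum k hd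
  have hcount : ∀ (k' : Type u) [Field k'] [Algebra k k'] [Finite k'],
      (SgaExt.pointCount f k' : ℂ) =
        (Nat.card k : ℂ) ^ Module.finrank k k' + 1 - ∑ i, α i ^ Module.finrank k k' := by
    intro k' _ _ _
    obtain ⟨n, hn⟩ := Nat.exists_eq_succ_of_ne_zero (Module.finrank_pos (R := k) (M := k')).ne'
    rw [show SgaExt.pointCount f k' = Zeta.nPts (C ↘ Spec (CommRingCat.of k)) (Module.finrank k k') from
      Groth.L11.Points.pointCount_eq k', hn]
    exact hsum n
  have hσ : ∀ i, α (Fin.revPerm i) * α i = (Nat.card k : ℂ) := fun i => by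
    rw [Fin.revPerm_apply, mul_comm]; exact hpair i
  refine ⟨α, hint, fun i => ?_, ⟨Fin.revPerm, hσ⟩, hcount⟩
  refine Groth.Agent.S15524.result (Nat.card k) Nat.card_pos α Fin.revPerm hσ 1 one_pos
    (2 * (Curv2.genus k C : ℝ)) (fun N hN => ?_) i
  obtain ⟨k', _, _, _, hk'⟩ := Groth.L11.ZetaCounts.exists_extension (k := k) N hN
  have h := Groth.Agent.S0619.result f ⟨hp, hs, hi, hd⟩ (Curv2.genus k C) hg k'
  have hc := hcount k'
  rw [hk'] at hc h
  have e : ∑ i, α (i) ^ (1 * N) =
      -((((SgaExt.pointCount f k' : ℝ) - ((Nat.card k : ℝ) ^ N + 1) : ℝ)) : ℂ) := by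
    rw [one_mul]
    push_cast
    linear_combination hc
  rw [e, norm_neg, Complex.norm_real, Real.norm_eq_abs, Nat.cast_one, one_mul]
  exact h

end Groth.Agent.S0610
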