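import Groth.Statements.S0611
import Groth.Agent.L14.QRegRegular

set_option autoImplicit false
universe u
open RRAlg

namespace Groth.Agent.S0611

/-- In a Noetherian local ring, any minimal generating set of an ideal generated by a regular sequence
is again a regular sequence: if a₁, …, aₙ is a regular sequence and b₁, …, bₙ are n elements
generating the same ideal, then b₁, …, bₙ is a regular sequence. (A regular sequence of length n
generating an ideal I is a minimal generating set of I, so "minimal" amounts to "of length n".) -/
theorem result {A : Type u} [CommRing A] [IsLocalRing A] [IsNoetherianRing A]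
    {n : ℕ} (a b : Fin n → A) (ha : RingTheory.Sequence.IsRegular A (List.ofFn a))
    (hab : Ideal.span (Set.range a) = Ideal.span (Set.range b)) :
    RingTheory.Sequence.IsRegular A (List.ofFn b) := by
  have hl : Ideal.ofList (List.ofFn a) = Ideal.ofList (List.ofFn b) := by
    rw [Groth.L07.QReg.ofList_ofFn, Groth.L07.QReg.ofList_ofFn, hab]
  refine ⟨Groth.L14.QRR.isWeaklyRegular_of_isQuasiRegular b (fun i => ?_) ?_, hl ▸ ha.top_ne_smul⟩
  · rw [IsLocalRing.jacobson_eq_maximalIdeal ⊥ bot_ne_top]
    refine IsLocalRing.le_maximalIdeal (J := Ideal.span (Set.range b)) (fun htop => ha.top_ne_smul ?_)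
      (Ideal.subset_span ⟨i, rfl⟩)
    rw [Groth.L07.QReg.ofList_ofFn, hab, htop, smul_eq_mul, Ideal.mul_top]
  · exact Groth.L14.QRR.isQuasiRegular_of_span_eq a b
      (Groth.L07.QReg.isQuasiRegular_of_isWeaklyRegular ha.toIsWeaklyRegular) hab.symm

end Groth.Agent.S0611
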