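import Groth.Statements.S0614
import Mathlib.AlgebraicGeometry.EllipticCurve.IsomOfJ
import Mathlib.AlgebraicGeometry.EllipticCurve.Reduction
import Mathlib.FieldTheory.IsAlgClosed.AlgebraicClosure
import Mathlib.Tactic.ComputeDegree
import Groth.Agent.L18.DominatingDVR

set_option autoImplicit false
universe u
open Neron

namespace Groth.Agent.S0614

open WeierstrassCurve
set_option linter.style.haveILetI false

/-- The valuation ring bound on the parameter of a Deuring equation. -/
theorem deuring_val {L : Type u} [Field L] {Γ : Type*} [LinearOrderedCommGroupWithZero Γ] (v : Valuation L Γ)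
    {x j : L} (h3 : v 3 = 1) (h24 : v 24 ≤ 1) (hj : v j ≤ 1)
    (h : x ^ 3 * (x ^ 3 - 24) ^ 3 = j * (x ^ 3 - 27)) : v x ≤ 1 ∧ v (x ^ 3 - 27) = 1 := by
  have h27 : v 27 = 1 := by rw [show (27 : L) = 3 ^ 3 by norm_num, map_pow, h3, one_pow]
  have hv := congrArg v h
  rw [map_mul, map_mul, map_pow v (x ^ 3 - 24)] at hv
  have hX : v (x ^ 3) ≤ 1 := by
    by_contra hgt
    rw [not_le] at hgt
    rw [v.map_sub_eq_of_lt_left (h24.trans_lt hgt), v.map_sub_eq_of_lt_left (h27.le.trans_lt hgt)] at hv
    have h1 : v j * v (x ^ 3) ≤ v (x ^ 3) := mul_le_of_le_one_left' hj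
    have h2 : v (x ^ 3) < v (x ^ 3) * v (x ^ 3) ^ 3 := by
      refine lt_mul_of_one_lt_right (zero_lt_one.trans hgt) ?_
      exact one_lt_pow₀ hgt (by norm_num)
    exact absurd (hv ▸ h1) (not_le.2 h2)
  have hx : v x ≤ 1 := by
    rw [map_pow] at hX
    exact (pow_le_one_iff (by norm_num)).1 hX
  refine ⟨hx, le_antisymm ((v.map_sub _ _).trans (max_le hX h27.le)) (not_lt.1 fun hlt => ?_)⟩
  have hsmall : v (x ^ 3) * v (x ^ 3 - 24) ^ 3 < 1 := hv ▸ (mul_le_of_le_one_left' hj).trans_lt hlt
  have hA : v (x ^ 3) = 1 := by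
    have := v.map_sub_eq_of_lt_left (x := 27) (y := -(x ^ 3 - 27)) (by rw [v.map_neg, h27]; exact hlt)
    rw [sub_neg_eq_add, add_sub_cancel, h27] at this
    exact this
  have hB : v (x ^ 3 - 24) = 1 := by
    have := v.map_sub_eq_of_lt_left (x := 3) (y := -(x ^ 3 - 27)) (by rw [v.map_neg, h3]; exact hlt)
    rw [sub_neg_eq_add, h3, show (3 : L) + (x ^ 3 - 27) = x ^ 3 - 24 by ring] at this
    exact this
  rw [hA, hB, one_pow, _root_.mul_one] at hsmall
  exact lt_irrefl _ hsmall

/-- The valuation ring bound on the parameter of a Legendre equation. -/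
theorem legendre_val {L : Type u} [Field L] {Γ : Type*} [LinearOrderedCommGroupWithZero Γ] (v : Valuation L Γ)
    {x j : L} (h2 : v 2 = 1) (hj : v j ≤ 1)
    (h : 256 * (x ^ 2 - x + 1) ^ 3 = j * (x ^ 2 * (x - 1) ^ 2)) :
    v x ≤ 1 ∧ v (16 * (x ^ 2 * (x - 1) ^ 2)) = 1 := by
  have h256 : v 256 = 1 := by rw [show (256 : L) = 2 ^ 8 by norm_num, map_pow, h2, one_pow]
  have h16 : v 16 = 1 := by rw [show (16 : L) = 2 ^ 4 by norm_num, map_pow, h2, one_pow]
  have hv := congrArg v h
  simp only [map_mul, map_pow, h256, _root_.one_mul] at hv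
  have hx : v x ≤ 1 := by
    by_contra hgt
    rw [not_le] at hgt
    have hx1 : v (x - 1) = v x := v.map_sub_eq_of_lt_left (by rwa [map_one])
    have hxx : v (x ^ 2 - x + 1) = v x ^ 2 := by
      have hsq : v x < v x ^ 2 := lt_self_pow₀ hgt (by norm_num)
      have h1 : v (x ^ 2 - x) = v x ^ 2 := by
        rw [v.map_sub_eq_of_lt_left (by rw [map_pow]; exact hsq), map_pow]
      rw [v.map_add_eq_of_lt_left (by rw [h1, map_one]; exact hgt.trans hsq), h1]
    rw [hxx, hx1, ← pow_mul, ← pow_add] at hv
    have h4 : v j * v x ^ (2 + 2) ≤ v x ^ 4 := mul_le_of_le_one_left' hj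
    exact absurd (hv ▸ h4) (not_le.2 (pow_lt_pow_right₀ hgt (by norm_num)))
  have hle : v (x - 1) ≤ 1 := (v.map_sub _ _).trans (max_le hx (map_one v).le)
  have hu : v x = 1 ∧ v (x - 1) = 1 := by
    by_contra hne
    have hlt : v (x * (x - 1)) < 1 := by
      rw [map_mul]
      rcases lt_or_eq_of_le hx with hx' | hx'
      · exact (mul_le_of_le_one_right' hle).trans_lt hx'
      · rw [hx', _root_.one_mul]
        exact lt_of_le_of_ne hle fun e => hne ⟨hx', e⟩
    have hxx : v (x ^ 2 - x + 1) = 1 := by
      rw [show x ^ 2 - x + 1 = x * (x - 1) + 1 by ring, v.map_add_eq_of_lt_right (by rwa [map_one]), map_one]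
    have hlt2 : v x ^ 2 * v (x - 1) ^ 2 < 1 := by
      rw [← mul_pow, ← map_mul]
      exact pow_lt_one' hlt (by norm_num)
    rw [hxx, one_pow] at hv
    exact absurd hv ((mul_le_of_le_one_left' hj).trans_lt hlt2).ne'
  exact ⟨hx, by simp only [map_mul, map_pow, h16, hu.1, hu.2, one_pow, _root_.mul_one]⟩

/-- Deuring equations. -/
def deuring (F : Type u) [Field F] (x : F) : WeierstrassCurve F := ⟨x, 0, 1, 0, 0⟩

/-- Legendre equations. -/
def legendre (F : Type u) [Field F] (x : F) : WeierstrassCurve F := ⟨0, -(1 + x), 0, x, 0⟩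

theorem deuring_Δ (F : Type u) [Field F] (x : F) : (deuring F x).Δ = x ^ 3 - 27 := by
  simp [deuring, WeierstrassCurve.Δ, WeierstrassCurve.b₂, WeierstrassCurve.b₄, WeierstrassCurve.b₆, WeierstrassCurve.b₈]
  ring

theorem deuring_c₄ (F : Type u) [Field F] (x : F) : (deuring F x).c₄ = x * (x ^ 3 - 24) := by
  simp [deuring, WeierstrassCurve.c₄, WeierstrassCurve.b₂, WeierstrassCurve.b₄]
  ring

theorem legendre_Δ (F : Type u) [Field F] (x : F) : (legendre F x).Δ = 16 * (x ^ 2 * (x - 1) ^ 2) := by
  simp [legendre, WeierstrassCurve.Δ, WeierstrassCurve.b₂, WeierstrassCurve.b₄, WeierstrassCurve.b₆, WeierstrassCurve.b₈]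
  ring

theorem legendre_c₄ (F : Type u) [Field F] (x : F) : (legendre F x).c₄ = 16 * (x ^ 2 - x + 1) := by
  simp [legendre, WeierstrassCurve.c₄, WeierstrassCurve.b₂, WeierstrassCurve.b₄]
  ring

theorem j_eq_div {F : Type u} [Field F] (E : WeierstrassCurve F) [E.IsElliptic] : E.j = E.c₄ ^ 3 / E.Δ := by
  rw [WeierstrassCurve.j, Units.val_inv_eq_inv_val, WeierstrassCurve.coe_Δ', div_eq_inv_mul]

/-- A model with integral coefficients and unit discriminant forces good reduction of a minimal model. -/
theorem hasGood {A : Type u} [CommRing A] [IsDomain A] [IsDiscreteValuationRing A] {L : Type u} [Field L]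
    [Algebra A L] [IsFractionRing A L] (E : WeierstrassCurve L) (C : VariableChange L)
    (hint : IsIntegral A (C • E)) (hΔ : ∃ a : A, IsUnit a ∧ algebraMap A L a = (C • E).Δ) :
    (E.minimal A).HasGoodReduction A := by
  refine { (inferInstance : IsMinimal A (E.minimal A)) with goodReduction := ?_ }
  obtain ⟨C₀, hC₀⟩ : ∃ C₀ : VariableChange L, C₀ • E = E.minimal A := ⟨_, rfl⟩
  have hC : (C * C₀⁻¹) • E.minimal A = C • E := by rw [← hC₀, smul_smul, inv_mul_cancel_right]
  obtain ⟨a, ha, hav⟩ := hΔ
  have hone : IsDedekindDomain.HeightOneSpectrum.valuation L (IsDiscreteValuationRing.maximalIdeal A) (C • E).Δ = 1 := by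
    rw [← hav]
    refine le_antisymm (IsDedekindDomain.HeightOneSpectrum.valuation_le_one _ a) (not_lt.1 fun hlt => ?_)
    exact (IsLocalRing.mem_maximalIdeal a).1 ((IsDedekindDomain.HeightOneSpectrum.valuation_lt_one_iff_mem _ _).1 hlt) ha
  haveI := hint
  have hmax := (IsMinimal.val_Δ_maximal (R := A) (W := E.minimal A)).2 (j := C * C₀⁻¹) (by show IsIntegral A ((C * C₀⁻¹) • E.minimal A); rw [hC]; exact hint) ?_
  · beta_reduce at hmax
    rw [one_smul, hC] at hmax
    rw [← valuation_Δ_aux_eq_of_isIntegral A (E.minimal A)]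
    have := Subtype.coe_le_coe.2 hmax
    rw [valuation_Δ_aux_eq_of_isIntegral A (C • E), hone] at this
    exact le_antisymm (valuation_Δ_aux A (E.minimal A)).2 this
  · beta_reduce
    rw [one_smul, hC]
    refine Subtype.coe_le_coe.1 ?_
    rw [valuation_Δ_aux_eq_of_isIntegral A (C • E), hone]
    exact (valuation_Δ_aux A (E.minimal A)).2

/-- Descent of an equation with good behaviour from the algebraic closure. -/
theorem finish {R : Type u} [CommRing R] [IsDomain R] [IsDiscreteValuationRing R] {K : Type u} [Field K]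
    [Algebra R K] [IsFractionRing R K] (W : WeierstrassCurve K) [W.IsElliptic]
    (fam : ∀ (F : Type u) [Field F], F → WeierstrassCurve F)
    (hfam : ∀ (F F' : Type u) [Field F] [Field F'] (f : F →+* F') (x : F), (fam F x).map f = fam F' (f x))
    (θ : AlgebraicClosure K) [(fam (AlgebraicClosure K) θ).IsElliptic]
    (hj : (fam (AlgebraicClosure K) θ).j = algebraMap K (AlgebraicClosure K) W.j)
    (hval : ∀ (L : Type u) [Field L] [Algebra R L] (V : ValuationSubring L) (x : L) [(fam L x).IsElliptic],
      (∀ r : R, algebraMap R L r ∈ V) → (∀ r : R, IsUnit r → V.valuation (algebraMap R L r) = 1) →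
      (∃ r : R, algebraMap R L r = (fam L x).j) →
      ((fam L x).a₁ ∈ V ∧ (fam L x).a₂ ∈ V ∧ (fam L x).a₃ ∈ V ∧ (fam L x).a₄ ∈ V ∧ (fam L x).a₆ ∈ V) ∧
        V.valuation (fam L x).Δ = 1)
    (hint : ∃ r : R, algebraMap R K r = W.j) :
    ∃ (L : Type u) (_ : Field L) (_ : Algebra K L) (_ : FiniteDimensional K L) (RL : Type u)
        (_ : CommRing RL) (_ : IsDomain RL) (_ : IsDiscreteValuationRing RL) (_ : Algebra RL L)
        (_ : IsFractionRing RL L) (φ : R →+* RL), IsLocalHom φ ∧
        (∀ r : R, algebraMap K L (algebraMap R K r) = algebraMap RL L (φ r)) ∧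
        ((W.baseChange L).minimal RL).HasGoodReduction RL := by
  obtain ⟨C, hC⟩ := exists_variableChange_of_j_eq (W.map (algebraMap K (AlgebraicClosure K))) (fam _ θ)
    (by rw [map_j, hj])
  let M : IntermediateField K (AlgebraicClosure K) :=
    IntermediateField.adjoin K {θ, (C.u : AlgebraicClosure K), C.r, C.s, C.t}
  haveI : FiniteDimensional K M := IntermediateField.finiteDimensional_adjoin fun z _ => Algebra.IsIntegral.isIntegral z
  have hmem : ∀ z ∈ ({θ, (C.u : AlgebraicClosure K), C.r, C.s, C.t} : Set (AlgebraicClosure K)), z ∈ M :=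
    fun z hz => IntermediateField.subset_adjoin _ _ hz
  let x : M := ⟨θ, hmem _ (by simp)⟩
  let u : Mˣ := Units.mk0 ⟨C.u, hmem _ (by simp)⟩ fun h => C.u.ne_zero (congrArg Subtype.val h)
  let C' : VariableChange M := ⟨u, ⟨C.r, hmem _ (by simp)⟩, ⟨C.s, hmem _ (by simp)⟩, ⟨C.t, hmem _ (by simp)⟩⟩
  let ι : M →+* AlgebraicClosure K := algebraMap M (AlgebraicClosure K)
  have hCmap : C'.map ι = C := by
    cases C with
    | mk cu cr cs ct => exact VariableChange.ext (Units.ext rfl) rfl rfl rfl
  have heq : C' • W.baseChange M = fam M x := by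
    refine WeierstrassCurve.map_injective (f := ι) ι.injective ?_
    beta_reduce
    rw [← map_variableChange, hCmap, hfam, WeierstrassCurve.baseChange, WeierstrassCurve.map_map,
      show ι.comp (algebraMap K M) = algebraMap K (AlgebraicClosure K) from
        (IsScalarTower.algebraMap_eq K M (AlgebraicClosure K)).symm]
    exact hC
  haveI : (W.baseChange M).IsElliptic := inferInstanceAs (W.map _).IsElliptic
  haveI : (fam M x).IsElliptic := heq ▸ inferInstance
  have hjM : ∃ r : R, algebraMap R M r = (fam M x).j := by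
    obtain ⟨r, hr⟩ := hint
    refine ⟨r, ?_⟩
    rw [show (fam M x).j = (C' • W.baseChange M).j by simp only [heq], variableChange_j]
    show _ = (W.map (algebraMap K M)).j
    rw [map_j, ← hr, ← IsScalarTower.algebraMap_apply]
  let b := Module.finBasis K M
  have hgen : IntermediateField.adjoin K (Set.range b) = ⊤ := eq_top_iff.2 fun z _ => by
    have : z ∈ Submodule.span K (Set.range b) := by rw [b.span_eq]; trivial
    exact (Submodule.span_le (p := (IntermediateField.adjoin K (Set.range b)).toSubalgebra.toSubmodule)).2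
      (IntermediateField.subset_adjoin K (Set.range b)) this
  have hker : RingHom.ker (algebraMap R M) ≠ IsLocalRing.maximalIdeal R := by
    rw [(RingHom.injective_iff_ker_eq_bot _).1 (by
      rw [IsScalarTower.algebraMap_eq R K M]
      exact (algebraMap K M).injective.comp (IsFractionRing.injective R K))]
    exact (IsDiscreteValuationRing.not_a_field R).symm
  obtain ⟨V, hV, hRV, hlt⟩ := Groth.L18.exists_isDiscreteValuationRing_dominating (A := R) (L := M)
    (Set.finite_range b) (Groth.L18.closure_range_union_eq_top K hgen) hker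
  have hunit : ∀ r : R, IsUnit r → V.valuation (algebraMap R M r) = 1 := fun r hr => by
    obtain ⟨s, hs⟩ := hr.exists_right_inv
    exact (V.valuation_eq_one_iff ⟨_, hRV r⟩).1 (IsUnit.of_mul_eq_one ⟨_, hRV s⟩ (Subtype.ext (by
      show algebraMap R M r * algebraMap R M s = 1
      rw [← map_mul, hs, map_one])))
  obtain ⟨⟨e1, e2, e3, e4, e6⟩, eΔ⟩ := hval M V x hRV hunit hjM
  refine ⟨M, inferInstance, inferInstance, inferInstance, V, inferInstance, inferInstance, hV, inferInstance,
    inferInstance, (algebraMap R M).codRestrict V.toSubring hRV, ⟨fun r hr => ?_⟩, fun r =>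
      (IsScalarTower.algebraMap_apply R K M r).symm, ?_⟩
  · by_contra hn
    exact ((V.valuation_eq_one_iff _).1 hr).not_lt (hlt r hn)
  · refine hasGood (A := V) (W.baseChange M) C' ?_ ?_
    · rw [heq]
      exact isIntegral_of_exists_lift V ⟨⟨_, e1⟩, rfl⟩ ⟨⟨_, e2⟩, rfl⟩ ⟨⟨_, e3⟩, rfl⟩ ⟨⟨_, e4⟩, rfl⟩ ⟨⟨_, e6⟩, rfl⟩
    · rw [heq]
      exact ⟨⟨(fam M x).Δ, (V.valuation_le_one_iff _).1 eΔ.le⟩, (V.valuation_eq_one_iff _).2 eΔ, rfl⟩

/-- (c) (the base Dedekind scheme taken local): an elliptic curve E over the fraction field K of a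
discrete valuation ring R has integral j-invariant if and only if it has potential good reduction
(stated here with a finite extension: there are a finite extension L of K and a discrete valuation
ring R_L of L dominating R over which a minimal Weierstrass equation of E_L has good reduction). -/
theorem result {R : Type u} [CommRing R] [IsDomain R]
    [IsDiscreteValuationRing R] {K : Type u} [Field K] [Algebra R K] [IsFractionRing R K]
    (W : WeierstrassCurve K) [W.IsElliptic] :
    (∃ r : R, algebraMap R K r = W.j) ↔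
      ∃ (L : Type u) (_ : Field L) (_ : Algebra K L) (_ : FiniteDimensional K L) (RL : Type u)
        (_ : CommRing RL) (_ : IsDomain RL) (_ : IsDiscreteValuationRing RL) (_ : Algebra RL L)
        (_ : IsFractionRing RL L) (φ : R →+* RL), IsLocalHom φ ∧
        (∀ r : R, algebraMap K L (algebraMap R K r) = algebraMap RL L (φ r)) ∧
        ((W.baseChange L).minimal RL).HasGoodReduction RL := by
  constructor
  · intro hint
    rcases IsLocalRing.isUnit_or_isUnit_of_add_one (a := (3 : R)) (b := -2) (by norm_num) with h3 | h2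
    · have h3K : (3 : AlgebraicClosure K) ≠ 0 := by
        rw [show (3 : AlgebraicClosure K) = algebraMap K _ (algebraMap R K 3) by simp [map_ofNat]]
        exact ((h3.map (algebraMap R K)).map (algebraMap K (AlgebraicClosure K))).ne_zero
      generalize hc : algebraMap K (AlgebraicClosure K) W.j = c
      obtain ⟨X₀, hX⟩ := IsAlgClosed.exists_root
        (Polynomial.X * (Polynomial.X - Polynomial.C 24) ^ 3 - Polynomial.C c * (Polynomial.X - Polynomial.C 27))
        (by
          refine fun hd => absurd (Polynomial.natDegree_eq_zero_iff_degree_le_zero.2 hd.le) ?_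
          have : (Polynomial.X * (Polynomial.X - Polynomial.C (24 : AlgebraicClosure K)) ^ 3 -
              Polynomial.C c * (Polynomial.X - Polynomial.C 27)).natDegree = 4 := by compute_degree!
          omega)
      simp only [Polynomial.IsRoot, Polynomial.eval_sub, Polynomial.eval_mul, Polynomial.eval_pow,
        Polynomial.eval_X, Polynomial.eval_C, sub_eq_zero] at hX
      obtain ⟨θ, rfl⟩ := IsAlgClosed.exists_pow_nat_eq X₀ (n := 3) (by norm_num)
      have hne : θ ^ 3 - 27 ≠ 0 := fun h => by
        rw [h, mul_zero, sub_eq_zero.1 h] at hX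
        have : (3 : AlgebraicClosure K) ^ 6 = 0 := by linear_combination hX
        exact h3K (eq_zero_of_pow_eq_zero this)
      haveI : (deuring _ θ).IsElliptic := ⟨isUnit_iff_ne_zero.2 (by rw [deuring_Δ]; exact hne)⟩
      refine finish W deuring (fun F F' _ _ f x => by ext <;> simp [deuring]) θ ?_ ?_ hint
      · rw [j_eq_div, deuring_Δ, deuring_c₄, div_eq_iff hne, hc]
        linear_combination hX
      · intro L _ _ V x _ hRV hu hjx
        obtain ⟨r, hr⟩ := hjx
        have hne' : x ^ 3 - 27 ≠ 0 := by rw [← deuring_Δ]; exact (deuring L x).isUnit_Δ.ne_zero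
        rw [j_eq_div, deuring_Δ, deuring_c₄, eq_div_iff hne'] at hr
        have h24 : V.valuation 24 ≤ 1 := (V.valuation_le_one_iff _).2 (by simpa [map_ofNat] using hRV 24)
        have h3' : V.valuation 3 = 1 := by simpa [map_ofNat] using hu 3 h3
        obtain ⟨hx, hΔ⟩ := deuring_val V.valuation h3' h24 ((V.valuation_le_one_iff _).2 (hRV r))
          (show x ^ 3 * (x ^ 3 - 24) ^ 3 = algebraMap R L r * (x ^ 3 - 27) by rw [hr]; ring)
        exact ⟨⟨(V.valuation_le_one_iff _).1 hx, zero_mem _, one_mem _, zero_mem _, zero_mem _⟩,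
          (deuring_Δ L x).symm ▸ hΔ⟩
    · rw [IsUnit.neg_iff] at h2
      have h2K : (2 : AlgebraicClosure K) ≠ 0 := by
        rw [show (2 : AlgebraicClosure K) = algebraMap K _ (algebraMap R K 2) by simp [map_ofNat]]
        exact ((h2.map (algebraMap R K)).map (algebraMap K (AlgebraicClosure K))).ne_zero
      have h256 : (256 : AlgebraicClosure K) ≠ 0 := by
        rw [show (256 : AlgebraicClosure K) = 2 ^ 8 by norm_num]
        exact pow_ne_zero _ h2K
      generalize hc : algebraMap K (AlgebraicClosure K) W.j = c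
      obtain ⟨θ, hθ⟩ := IsAlgClosed.exists_root
        (Polynomial.C 256 * (Polynomial.X ^ 2 - Polynomial.X + 1) ^ 3 -
          Polynomial.C c * (Polynomial.X ^ 2 * (Polynomial.X - 1) ^ 2))
        (by
          refine fun hd => absurd (Polynomial.natDegree_eq_zero_iff_degree_le_zero.2 hd.le) ?_
          have : (Polynomial.C (256 : AlgebraicClosure K) * (Polynomial.X ^ 2 - Polynomial.X + 1) ^ 3 -
              Polynomial.C c * (Polynomial.X ^ 2 * (Polynomial.X - 1) ^ 2)).natDegree = 6 := by compute_degree!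
          omega)
      simp only [Polynomial.IsRoot, Polynomial.eval_sub, Polynomial.eval_mul, Polynomial.eval_pow,
        Polynomial.eval_add, Polynomial.eval_one, Polynomial.eval_X, Polynomial.eval_C, sub_eq_zero] at hθ
      have h16 : (16 : AlgebraicClosure K) ≠ 0 := by
        rw [show (16 : AlgebraicClosure K) = 2 ^ 4 by norm_num]
        exact pow_ne_zero _ h2K
      have hne : θ ^ 2 * (θ - 1) ^ 2 ≠ 0 := fun h => by
        have h0 := hθ
        rw [h, mul_zero, mul_eq_zero, or_iff_right h256, pow_eq_zero_iff (by norm_num)] at h0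
        rcases mul_eq_zero.1 h with h' | h'
        · rw [eq_zero_of_pow_eq_zero h'] at h0; simp at h0
        · rw [sub_eq_zero.1 (eq_zero_of_pow_eq_zero h')] at h0; simp at h0
      haveI : (legendre _ θ).IsElliptic := ⟨isUnit_iff_ne_zero.2 (by rw [legendre_Δ]; exact mul_ne_zero h16 hne)⟩
      refine finish W legendre (fun F F' _ _ f x => by ext <;> simp [legendre]) θ ?_ ?_ hint
      · rw [j_eq_div, legendre_Δ, legendre_c₄, div_eq_iff (mul_ne_zero h16 hne), hc]
        linear_combination 16 * hθ
      · intro L _ _ V x _ hRV hu hjx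
        obtain ⟨r, hr⟩ := hjx
        have hne' : 16 * (x ^ 2 * (x - 1) ^ 2) ≠ 0 := by rw [← legendre_Δ]; exact (legendre L x).isUnit_Δ.ne_zero
        rw [j_eq_div, legendre_Δ, legendre_c₄, eq_div_iff hne'] at hr
        have h2' : V.valuation 2 = 1 := by simpa [map_ofNat] using hu 2 h2
        obtain ⟨hx, hΔ⟩ := legendre_val V.valuation h2' ((V.valuation_le_one_iff _).2 (hRV r))
          (show 256 * (x ^ 2 - x + 1) ^ 3 = algebraMap R L r * (x ^ 2 * (x - 1) ^ 2) from
            mul_left_cancel₀ (left_ne_zero_of_mul hne') (by linear_combination -hr))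
        exact ⟨⟨zero_mem _, neg_mem (add_mem (one_mem _) ((V.valuation_le_one_iff _).1 hx)), zero_mem _,
          (V.valuation_le_one_iff _).1 hx, zero_mem _⟩, (legendre_Δ L x).symm ▸ hΔ⟩
  · rintro ⟨L, _, _, _, RL, _, _, _, _, _, φ, hφ, hcomp, hgood⟩
    haveI : (W.baseChange L).IsElliptic := inferInstanceAs (W.map _).IsElliptic
    obtain ⟨C, hC⟩ : ∃ C : VariableChange L, C • W.baseChange L = (W.baseChange L).minimal RL := ⟨_, rfl⟩
    haveI := hgood.toIsMinimal
    set E := (W.baseChange L).minimal RL with hE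
    haveI : E.IsElliptic := hC ▸ inferInstance
    have hunit : IsUnit (integralModel RL E).Δ := by
      have h := hgood.goodReduction
      rw [← integralModel_Δ_eq RL E] at h
      by_contra hn
      exact h.not_lt ((IsDedekindDomain.HeightOneSpectrum.valuation_lt_one_iff_mem _ _).2 hn)
    obtain ⟨d, hd⟩ := hunit.exists_left_inv
    have hjE : algebraMap RL L (d * (integralModel RL E).c₄ ^ 3) = algebraMap K L W.j := by
      have h1 : E.j = algebraMap K L W.j := by
        rw [show E.j = (C • W.baseChange L).j by simp only [hC], variableChange_j]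
        exact map_j W (algebraMap K L)
      rw [← h1, j_eq_div, eq_div_iff E.isUnit_Δ.ne_zero, ← integralModel_Δ_eq RL E, ← map_mul,
        ← integralModel_c₄_eq RL E, ← map_pow, mul_right_comm, hd, _root_.one_mul]
    rcases (ValuationRing.iff_isInteger_or_isInteger R K).1 inferInstance W.j with h | ⟨r, hr⟩
    · exact h
    · by_cases h0 : W.j = 0
      · exact ⟨0, by rw [map_zero, h0]⟩
      have hru : IsUnit r := by
        refine IsUnit.of_map φ r (IsUnit.of_mul_eq_one (d * (integralModel RL E).c₄ ^ 3)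
          (IsFractionRing.injective RL L ?_))
        rw [map_mul, map_one, hjE, ← hcomp, hr, ← map_mul, inv_mul_cancel₀ h0, map_one]
      obtain ⟨s, hs⟩ := hru.exists_left_inv
      refine ⟨s, ?_⟩
      have := congrArg (algebraMap R K) hs
      rw [map_mul, map_one, hr, mul_inv_eq_one₀ h0] at this
      exact this

end Groth.Agent.S0614
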