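import Groth.Statements.S0615
import Groth.Agent.L14.QRegRegular

set_option autoImplicit false
universe u
open RRAlg

namespace Groth.Agent.S0615

/-- Let A be a commutative ring and a_0, a_1, …, a_n a weakly regular sequence in A (for each i, a_i is
a non-zero-divisor on A/(a_0, …, a_{i−1}); the sequence is indexed here by Fin (n+1)). Then the
kernel of the A-algebra homomorphism A[T_1, …, T_n] → A[1/a_0] sending T_i to a_i/a_0 is the ideal
generated by the elements a_0 T_i − a_i for 1 ≤ i ≤ n (a presentation of the affine blow-up algebra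
A[a_1/a_0, …, a_n/a_0]). -/
theorem result {A : Type u} [CommRing A] {n : ℕ}
    (a : Fin (n + 1) → A) (ha : RingTheory.Sequence.IsWeaklyRegular A (List.ofFn a)) :
    RingHom.ker (MvPolynomial.aeval (R := A) (S₁ := Localization.Away (a 0))
      (fun i : Fin n => IsLocalization.mk' (Localization.Away (a 0)) (a i.succ)
        (⟨a 0, Submonoid.mem_powers (a 0)⟩ : Submonoid.powers (a 0)))) =
      Ideal.span (Set.range fun i : Fin n =>
        MvPolynomial.C (a 0) * MvPolynomial.X i - MvPolynomial.C (a i.succ)) := by
  set y : Fin n → Localization.Away (a 0) := fun i => IsLocalization.mk' (Localization.Away (a 0))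
    (a i.succ) (⟨a 0, Submonoid.mem_powers (a 0)⟩ : Submonoid.powers (a 0)) with hy
  have hay : ∀ i, algebraMap A (Localization.Away (a 0)) (a 0) * y i =
      algebraMap A (Localization.Away (a 0)) (a i.succ) := fun i =>
    IsLocalization.mk'_spec' (Localization.Away (a 0)) (a i.succ)
      (⟨a 0, Submonoid.mem_powers (a 0)⟩ : Submonoid.powers (a 0))
  set J := Ideal.span (Set.range fun i : Fin n =>
    MvPolynomial.C (a 0) * MvPolynomial.X i - MvPolynomial.C (a i.succ)) with hJ
  apply le_antisymm
  · intro P hP
    rw [RingHom.mem_ker] at hP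
    set N := P.totalDegree
    set F : MvPolynomial (Fin (n + 1)) A := ∑ m ∈ Finset.range (N + 1),
      MvPolynomial.X 0 ^ (N - m) * MvPolynomial.rename Fin.succ (MvPolynomial.homogeneousComponent m P) with hF
    have hFhom : F.IsHomogeneous N := MvPolynomial.IsHomogeneous.sum _ _ _ fun m hm => by
      have := ((MvPolynomial.isHomogeneous_X A (0 : Fin (n + 1))).pow (N - m)).mul
        ((MvPolynomial.homogeneousComponent_isHomogeneous m P).rename_isHomogeneous (f := Fin.succ))
      rwa [one_mul, Nat.sub_add_cancel (Nat.lt_succ_iff.mp (Finset.mem_range.mp hm))] at this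
    have hFe : MvPolynomial.eval a F = 0 := by
      have h0 : IsSMulRegular A (a 0) := by
        rw [List.ofFn_succ, RingTheory.Sequence.isWeaklyRegular_cons_iff] at ha
        exact ha.1
      have hinj : Function.Injective (algebraMap A (Localization.Away (a 0))) :=
        IsLocalization.injective (M := Submonoid.powers (a 0)) _ (by
          rintro _ ⟨k, rfl⟩
          rw [mem_nonZeroDivisors_iff_right]
          intro x hx
          exact (h0.pow k) (show a 0 ^ k • x = a 0 ^ k • 0 by rw [smul_zero, smul_eq_mul, mul_comm]; exact hx))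
      apply hinj
      rw [map_zero, ← mul_zero (algebraMap A (Localization.Away (a 0)) (a 0) ^ N), ← hP,
        show algebraMap A (Localization.Away (a 0)) (MvPolynomial.eval a F) =
          MvPolynomial.aeval (fun i => algebraMap A (Localization.Away (a 0)) (a i)) F from
          (MvPolynomial.aeval_algebraMap_apply (B := Localization.Away (a 0)) a F).symm]
      conv_rhs => rw [← MvPolynomial.sum_homogeneousComponent P, map_sum, Finset.mul_sum]
      simp only [hF, map_sum, map_mul, map_pow, MvPolynomial.aeval_X, MvPolynomial.aeval_rename]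
      refine Finset.sum_congr rfl fun m hm => ?_
      rw [show ((fun i => algebraMap A (Localization.Away (a 0)) (a i)) ∘ Fin.succ) =
        fun i => algebraMap A (Localization.Away (a 0)) (a 0) * y i from funext fun i => (hay i).symm,
        Groth.L14.QRR.aeval_mul_hom _ _ (MvPolynomial.homogeneousComponent_isHomogeneous m P),
        ← mul_assoc, ← pow_add, Nat.sub_add_cancel (Nat.lt_succ_iff.mp (Finset.mem_range.mp hm))]
    have hmem := Groth.L14.QRR.mem_koszul ha N F hFhom hFe
    let φ : MvPolynomial (Fin (n + 1)) A →ₐ[A] MvPolynomial (Fin n) A :=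
      MvPolynomial.aeval (Fin.cons 1 MvPolynomial.X)
    have hφ : Groth.L14.QRR.koszul a ≤ Ideal.comap φ J := by
      rw [Groth.L14.QRR.koszul, Ideal.span_le]
      rintro _ ⟨i, j, rfl⟩
      have hx : ∀ i, MvPolynomial.C (a 0) * φ (MvPolynomial.X i) - MvPolynomial.C (a i) ∈ J := by
        intro i
        rcases Fin.eq_zero_or_eq_succ i with rfl | ⟨k, rfl⟩
        · simp [φ]
        · simp only [φ, MvPolynomial.aeval_X, Fin.cons_succ]
          exact Ideal.subset_span ⟨k, rfl⟩
      show φ _ ∈ J
      rw [map_sub, map_mul, map_mul, MvPolynomial.algHom_C, MvPolynomial.algHom_C, MvPolynomial.algebraMap_eq]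
      have := J.sub_mem (J.mul_mem_left (φ (MvPolynomial.X i)) (hx j)) (J.mul_mem_left (φ (MvPolynomial.X j)) (hx i))
      convert this using 1
      ring
    have h3 : φ F ∈ J := hφ hmem
    have h4 : φ F = P := by
      conv_rhs => rw [← MvPolynomial.sum_homogeneousComponent P]
      simp only [hF, map_sum, map_mul, map_pow, φ, MvPolynomial.aeval_X, MvPolynomial.aeval_rename,
        Fin.cons_zero, one_pow, one_mul]
      refine Finset.sum_congr rfl fun m _ => ?_
      rw [show ((Fin.cons 1 MvPolynomial.X : Fin (n + 1) → MvPolynomial (Fin n) A) ∘ Fin.succ) =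
        MvPolynomial.X from funext fun i => Fin.cons_succ _ _ i, MvPolynomial.aeval_X_left_apply]
    rwa [h4] at h3
  · rw [hJ, Ideal.span_le]
    rintro _ ⟨i, rfl⟩
    rw [SetLike.mem_coe, RingHom.mem_ker, map_sub, map_mul, MvPolynomial.aeval_C, MvPolynomial.aeval_X,
      MvPolynomial.aeval_C, hay i, sub_self]

end Groth.Agent.S0615
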