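import Groth.Statements.S0632
import Groth.Agent.L27.EtSite.Reflect

set_option autoImplicit false
open CategoryTheory CategoryTheory.Limits AlgebraicGeometry Opposite
universe u
open EtCore

namespace Groth.Agent.S0632

/-- Let X -> Y be a closed immersion and U_i -> X (i in ι) a jointly surjective family of etale
morphisms. Then one can find a jointly surjective family of etale Y-schemes V_j each of which either
has empty preimage over X or, after base change to X, maps into one of the U_i over X. -/
theorem result {X Y : Scheme.{u}} (f : X ⟶ Y) [IsClosedImmersion f]
    {ι : Type u} (U : ι → X.Etale) (hU : EtCoh.Covers U) :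
    ∃ (κ : Type u) (V : κ → Y.Etale), EtCoh.Covers V ∧
      ∀ j, IsEmpty ↥(pullback (V j).hom f) ∨
        ∃ (i : ι) (h : pullback (V j).hom f ⟶ (U i).left), h ≫ (U i).hom = pullback.snd (V j).hom f := by
  exact Groth.L27.EtSite.exists_refinement_of_isClosedImmersion f U hU

end Groth.Agent.S0632
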