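import Groth.Statements.S0633
import Groth.Agent.L27.EtSite.Reflect
import Groth.Agent.L27.EtaleLift
import Mathlib.AlgebraicGeometry.Morphisms.ClosedImmersion

set_option autoImplicit false
open CategoryTheory CategoryTheory.Limits AlgebraicGeometry Opposite
universe u
open EtCore

set_option backward.isDefEq.respectTransparency.types false

namespace Groth.Agent.S0633

/-- Let X -> Y be a closed immersion and U -> X etale. Then there exist etale morphisms V_i -> Y and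
X-morphisms V_i x_Y X -> U which are open immersions whose images cover U. -/
theorem result {X Y : Scheme.{u}} (f : X ⟶ Y) [IsClosedImmersion f]
    (U : X.Etale) :
    ∃ (κ : Type u) (V : κ → Y.Etale) (h : ∀ j, pullback (V j).hom f ⟶ U.left),
      (∀ j, h j ≫ U.hom = pullback.snd (V j).hom f) ∧ (∀ j, IsOpenImmersion (h j)) ∧
      ∀ x : U.left, ∃ (j : κ) (y : ↥(pullback (V j).hom f)), (h j).base y = x := by
  have key : ∀ u : U.left, ∃ (V : Y.Etale) (h : pullback V.hom f ⟶ U.left), h ≫ U.hom = pullback.snd V.hom f ∧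
      IsOpenImmersion h ∧ ∃ y : ↥(pullback V.hom f), h.base y = u := by
    intro u
    obtain ⟨_, ⟨Vo, hVo, rfl⟩, hfu, -⟩ := Y.isBasis_affineOpens.exists_subset_of_mem_open
      (Set.mem_univ (f.base (U.hom.base u))) isOpen_univ
    have hXo : IsAffineOpen (f ⁻¹ᵁ Vo) := hVo.preimage f
    obtain ⟨_, ⟨Uo, hUo, rfl⟩, huU, hUsub⟩ := U.left.isBasis_affineOpens.exists_subset_of_mem_open
      (show u ∈ ((U.hom ⁻¹ᵁ (f ⁻¹ᵁ Vo) : U.left.Opens) : Set U.left) from hfu) (U.hom ⁻¹ᵁ (f ⁻¹ᵁ Vo)).2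
    haveI : AlgebraicGeometry.Etale U.hom := U.prop
    have hle : Uo ≤ U.hom ⁻¹ᵁ (f ⁻¹ᵁ Vo) := hUsub
    letI algR : Algebra Γ(Y, Vo) Γ(X, f ⁻¹ᵁ Vo) := (f.app Vo).hom.toAlgebra
    letI algC : Algebra Γ(X, f ⁻¹ᵁ Vo) Γ(U.left, Uo) := (U.hom.appLE (f ⁻¹ᵁ Vo) Uo hle).hom.toAlgebra
    haveI : Algebra.Etale Γ(X, f ⁻¹ᵁ Vo) Γ(U.left, Uo) :=
      RingHom.etale_algebraMap.mp (Scheme.Hom.etale_appLE U.hom hXo hUo hle)
    letI : Algebra Γ(Y, Vo) Γ(U.left, Uo) :=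
      ((algebraMap Γ(X, f ⁻¹ᵁ Vo) Γ(U.left, Uo)).comp (algebraMap Γ(Y, Vo) Γ(X, f ⁻¹ᵁ Vo))).toAlgebra
    haveI : IsScalarTower Γ(Y, Vo) Γ(X, f ⁻¹ᵁ Vo) Γ(U.left, Uo) := .of_algebraMap_eq' rfl
    obtain ⟨ι, σ, _, _, P, hP⟩ :=
      ((Algebra.Etale.iff_isStandardSmoothOfRelativeDimension_zero (R := Γ(X, f ⁻¹ᵁ Vo))
        (S := Γ(U.left, Uo))).mp inferInstance).out
    haveI : P.HasCoeffs Γ(Y, Vo) := ⟨fun x _ => f.app_surjective Vo hVo x⟩
    obtain ⟨C, _, _, hC, ⟨e⟩⟩ := Groth.L27.EtaleLift.exists_model (A := Γ(Y, Vo)) P hP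
    let ψ : C →+* Γ(U.left, Uo) :=
      e.toRingEquiv.toRingHom.comp (Algebra.TensorProduct.includeRight (R := Γ(Y, Vo))
        (A := Γ(X, f ⁻¹ᵁ Vo)) (B := C)).toRingHom
    have hpo : IsPushout (f.app Vo) (CommRingCat.ofHom (algebraMap Γ(Y, Vo) C))
        (U.hom.appLE (f ⁻¹ᵁ Vo) Uo hle) (CommRingCat.ofHom ψ) := by
      refine (CommRingCat.isPushout_tensorProduct Γ(Y, Vo) Γ(X, f ⁻¹ᵁ Vo) C).of_iso
        (Iso.refl _) (Iso.refl _) (Iso.refl _) e.toRingEquiv.toCommRingCatIso ?_ ?_ ?_ ?_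
      · simp only [Iso.refl_hom, Category.comp_id, Category.id_comp]
        rfl
      · simp only [Iso.refl_hom, Category.comp_id, Category.id_comp]
      · ext x
        exact (e.commutes x)
      · rfl
    have H1 := isPullback_SpecMap_of_isPushout _ _ _ _ hpo
    have H2 : IsPullback (Spec.map (f.app Vo)) hXo.fromSpec hVo.fromSpec f := by
      refine IsOpenImmersion.isPullback _ _ _ _ ?_ ?_
      · rw [← IsAffineOpen.SpecMap_appLE_fromSpec f hVo hXo le_rfl, Scheme.Hom.app_eq_appLE]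
      · rw [IsAffineOpen.opensRange_fromSpec, IsAffineOpen.opensRange_fromSpec]
    have H3 := (H1.flip.paste_vert H2.flip.flip)
    let v : Spec (CommRingCat.of C) ⟶ Y := Spec.map (CommRingCat.ofHom (algebraMap Γ(Y, Vo) C)) ≫ hVo.fromSpec
    haveI : AlgebraicGeometry.Etale (Spec.map (CommRingCat.ofHom (algebraMap Γ(Y, Vo) C))) :=
      HasRingHomProperty.Spec_iff.mpr (RingHom.etale_algebraMap.mpr hC)
    haveI : AlgebraicGeometry.Etale v := inferInstanceAs (AlgebraicGeometry.Etale (_ ≫ _))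
    have H4 : IsPullback (Spec.map (CommRingCat.ofHom ψ))
        (Spec.map (U.hom.appLE (f ⁻¹ᵁ Vo) Uo hle) ≫ hXo.fromSpec) v f := H3
    let ε := H4.isoPullback
    refine ⟨Scheme.Etale.mk v, ε.inv ≫ hUo.fromSpec, ?_, inferInstanceAs (IsOpenImmersion (ε.inv ≫ hUo.fromSpec)), ?_⟩
    · show (ε.inv ≫ hUo.fromSpec) ≫ U.hom = pullback.snd v f
      rw [Category.assoc, ← IsAffineOpen.SpecMap_appLE_fromSpec U.hom hXo hUo hle, Iso.inv_comp_eq]
      exact (H4.isoPullback_hom_snd).symm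
    · obtain ⟨z, hz⟩ : u ∈ Set.range hUo.fromSpec.base := hUo.range_fromSpec.ge huU
      refine ⟨ε.hom z, ?_⟩
      rw [← hz]
      exact (Scheme.Hom.comp_apply _ _ _).symm.trans
        (congrArg (fun k : Spec Γ(U.left, Uo) ⟶ U.left => k z) (ε.hom_inv_id_assoc hUo.fromSpec))
  choose V h hh ho y hy using key
  exact ⟨U.left, V, h, hh, ho, fun x => ⟨x, y x, hy x⟩⟩

end Groth.Agent.S0633
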