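import Groth.Statements.S0634
import Groth.Agent.L27.Fppf.Pull
import Groth.Agent.L27.Fppf.Submersive

set_option autoImplicit false
set_option backward.isDefEq.respectTransparency.types false
open CategoryTheory CategoryTheory.Limits AlgebraicGeometry Opposite
universe u
open EtCore

namespace Groth.Agent.S0634

/-- For an abelian sheaf F on the small etale site of S and two global sections s, t there is an open W
of S such that a morphism f : T -> S has image inside W if and only if the pullbacks of s and t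
along f (images under the adjunction unit, as sections of the pullback sheaf over T) coincide. -/
theorem result {S : Scheme.{u}} (F : EtCoh.Ab S) (s t : EtCoh.sect F (EtCoh.top S)) :
    ∃ W : S.Opens, ∀ (T : Scheme.{u}) (f : T ⟶ S),
      Set.range f.base ⊆ (W : Set S) ↔
        ((EtCoh.pullPushAdj f).unit.app F).hom.app (op (EtCoh.top S)) s =
          ((EtCoh.pullPushAdj f).unit.app F).hom.app (op (EtCoh.top S)) t := by
  let c₀ : Over.mk (𝟙 S) ⟶ (EtFppf.a S).obj (EtCoh.top S) := Over.homMk (𝟙 S) (Category.comp_id _)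
  let x₀ := Groth.L27.Fppf.e F c₀ (HSub.hSub (α := F.obj.obj (op (EtCoh.top S))) (β := F.obj.obj (op (EtCoh.top S))) s t)
  refine ⟨⟨_, Groth.L27.Fppf.isOpen_zeroNear F x₀⟩, fun T f => ?_⟩
  let g : (Groth.L27.Fppf.cT f).obj ((EtCoh.bc f).obj (EtCoh.top S)) ⟶ Over.mk (𝟙 S) :=
    Over.homMk (Groth.L27.Fppf.pr f (EtCoh.top S)).left (Over.w (Groth.L27.Fppf.pr f (EtCoh.top S)))
  have hg : g ≫ c₀ = Groth.L27.Fppf.pr f (EtCoh.top S) := Over.OverMorphism.ext (Category.comp_id _)
  have key : ((EtCoh.pullPushAdj f).unit.app F).hom.app (op (EtCoh.top S)) s =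
      ((EtCoh.pullPushAdj f).unit.app F).hom.app (op (EtCoh.top S)) t ↔
      (Groth.L27.Fppf.G F).obj.map g.op x₀ = 0 := by
    haveI := Groth.L27.Fppf.isIso_theta f F
    rw [show (Groth.L27.Fppf.G F).obj.map g.op x₀ = _ from Groth.L27.Fppf.e_map F g c₀ _, hg, map_sub,
      sub_eq_zero]
    constructor
    · intro h
      rw [← Groth.L27.Fppf.theta_eta, ← Groth.L27.Fppf.theta_eta, h]
    · intro h
      rw [← Groth.L27.Fppf.theta_eta, ← Groth.L27.Fppf.theta_eta] at h
      haveI : IsIso (((sheafToPresheaf _ _).map (Groth.L27.Fppf.theta f F)).app (op ((EtCoh.bc f).obj (EtCoh.top S)))) :=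
        inferInstance
      exact ((AddCommGrpCat.mono_iff_injective
        (((sheafToPresheaf _ _).map (Groth.L27.Fppf.theta f F)).app (op ((EtCoh.bc f).obj (EtCoh.top S))))).1
        inferInstance) h
  rw [key]
  have hr : ∀ z, g.left z ∈ Set.range f.base := fun z => by
    refine ⟨pullback.snd (EtCoh.top S).hom f z, ?_⟩
    refine (Scheme.Hom.comp_apply _ _ _).symm.trans ?_
    refine congrArg (fun m : _ ⟶ S => m z) ?_
    exact pullback.condition.symm.trans (Category.comp_id _)
  constructor
  · exact fun h => Groth.L27.Fppf.eq_zero_of_zeroNear F _ fun z =>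
      Groth.L27.Fppf.ZeroNear.map F g x₀ z (h (hr z))
  · rintro h _ ⟨p, rfl⟩
    have hp : ∃ z, g.left z = f.base p := by
      obtain ⟨z, hz, -⟩ := Scheme.exists_preimage_of_isPullback
        (IsPullback.of_hasPullback (EtCoh.top S).hom f) (f.base p) p rfl
      exact ⟨z, hz⟩
    obtain ⟨z, hz⟩ := hp
    rw [← hz]
    exact Groth.L27.Fppf.ZeroNear.of_map F g x₀ z (Groth.L27.Fppf.zeroNear_of_eq_zero F _ h z)

end Groth.Agent.S0634
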