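import Groth.Statements.S0637
import Groth.Agent.L21.CurveExt.Main

set_option autoImplicit false
set_option backward.isDefEq.respectTransparency false
set_option linter.style.haveILetI false
open CategoryTheory CategoryTheory.Limits AlgebraicGeometry Opposite
universe u
open EtCore

namespace Groth.Agent.S0637

/-- Let k'/k be an extension of algebraically closed fields, X separated of finite type over k of
dimension at most 1 and F a torsion abelian sheaf on the small etale site of X whose torsion orders
are invertible in k. Then for every q the pullback map from H^q(X, F) to H^q of the base change of X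
to k' with coefficients in the pulled back sheaf is bijective. (Exactness of pullback of abelian
sheaves, which always holds, is carried as an instance hypothesis.) -/
theorem result (k : Type u) [Field k] [IsAlgClosed k] (X : Scheme.{u})
    (f : X ⟶ Spec (CommRingCat.of k)) [IsSeparated f] [LocallyOfFiniteType f] [QuasiCompact f]
    (hdim : topologicalKrullDim X ≤ 1) (F : EtCoh.Ab X) (hF : EtCoh.IsTorsion F)
    (hFt : EtPBC.IsTorsionInvertibleOn (Spec (CommRingCat.of k)) F)
    (k' : Type u) [Field k'] [IsAlgClosed k'] (φ : k →+* k')
    [PreservesFiniteLimits (EtCoh.pull (pullback.fst f (Spec.map (CommRingCat.ofHom φ))))] (q : ℕ) :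
    Function.Bijective (EtCore.Hpull (pullback.fst f (Spec.map (CommRingCat.ofHom φ))) F q) := by
  letI : Algebra k k' := φ.toAlgebra
  refine @Groth.L21.CurveExt.bijective_curve k _ _ k' _ _ _ X f _ _ _ ‹_› hdim F (fun U s x => ?_) q
  obtain ⟨V, g, n, hv, hu, h0⟩ := hFt U s x
  have hu' : IsUnit (n : k) := by
    have := hu.map (Scheme.ΓSpecIso (CommRingCat.of k)).hom.hom
    rwa [map_natCast] at this
  refine ⟨V, g, n, hv, ⟨Nat.pos_of_ne_zero fun h => hu'.ne_zero (by rw [h, Nat.cast_zero]), fun p _ hpn hp0 =>
    hu'.ne_zero ?_⟩, h0⟩
  obtain ⟨j, rfl⟩ := hpn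
  rw [Nat.cast_mul, hp0, zero_mul]

end Groth.Agent.S0637
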