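import Groth.Statements.S0643
import Mathlib.RingTheory.AdjoinRoot
import Mathlib.RingTheory.Coprime.Lemmas
import Mathlib.Algebra.Polynomial.Monic

set_option autoImplicit false
universe u
open EtCore

namespace Groth.Agent.S0643

open Polynomial in
/-- Let A be a ring, assumed nonzero here (the published statement does not say so; over the zero ring
no polynomial has positive degree in Lean's sense), and a, b elements generating the unit ideal such
that some positive power of a is congruent to 1 modulo b. Then there is a monic polynomial P of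
positive degree over A such that in B = A[y]/(P) the element a - b y is a unit. -/
theorem result (A : Type u) [CommRing A] [Nontrivial A] (a b : A) (hab : IsCoprime a b)
    (hroot : ∃ n : ℕ, 0 < n ∧ a ^ n - 1 ∈ Ideal.span ({b} : Set A)) :
    ∃ P : A[X], P.Monic ∧ 0 < P.natDegree ∧
      IsUnit (algebraMap A (AdjoinRoot P) a - algebraMap A (AdjoinRoot P) b * AdjoinRoot.root P) := by
  obtain ⟨x, z, hxz⟩ := hab
  obtain ⟨n, hn, hc⟩ := hroot
  obtain ⟨c, hc⟩ := Ideal.mem_span_singleton.1 hc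
  let d : Fin n → A := fun i => -c * (x ^ (i : ℕ) * z ^ (n - 1 - i) * ((n - 1).choose i : A))
  have hsum : ∑ i : Fin n, d i * a ^ (i : ℕ) * b ^ (n - 1 - (i : ℕ)) = -c := by
    have h := add_pow (x * a) (z * b) (n - 1)
    rw [hxz, one_pow, Nat.sub_add_cancel hn] at h
    rw [Fin.sum_univ_eq_sum_range (fun i => -c * (x ^ i * z ^ (n - 1 - i) * ((n - 1).choose i : A)) * a ^ i * b ^ (n - 1 - i))]
    calc _ = -c * ∑ i ∈ Finset.range n, (x * a) ^ i * (z * b) ^ (n - 1 - i) * ((n - 1).choose i : A) := by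
          rw [Finset.mul_sum]; exact Finset.sum_congr rfl fun i _ => by ring
      _ = -c := by rw [← h, mul_one]
  let Q : A[X] := ∑ i : Fin n, C (d i) * X ^ (i : ℕ)
  have hQ : Q.degree < (n : ℕ) := Polynomial.degree_sum_fin_lt d
  refine ⟨X ^ n + Q, Polynomial.monic_X_pow_add hQ, ?_, ?_⟩
  · have h0 : (X ^ n + Q).natDegree = n := by
      apply Polynomial.natDegree_eq_of_degree_eq_some
      rw [Polynomial.degree_add_eq_left_of_degree_lt (by rwa [Polynomial.degree_X_pow]), Polynomial.degree_X_pow]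
    omega
  · let φ := algebraMap A (AdjoinRoot (X ^ n + Q))
    let y := AdjoinRoot.root (X ^ n + Q)
    have hy : y ^ n + ∑ i : Fin n, φ (d i) * y ^ (i : ℕ) = 0 := by
      have := AdjoinRoot.eval₂_root (X ^ n + Q)
      simpa [Q, φ, y, Polynomial.eval₂_finsetSum, AdjoinRoot.algebraMap_eq] using this
    have h1 : a ^ n + ∑ i : Fin n, d i * a ^ (i : ℕ) * b ^ (n - (i : ℕ)) = 1 := by
      have : ∀ i : Fin n, d i * a ^ (i : ℕ) * b ^ (n - (i : ℕ)) = b * (d i * a ^ (i : ℕ) * b ^ (n - 1 - (i : ℕ))) := fun i => by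
        rw [show n - (i : ℕ) = n - 1 - (i : ℕ) + 1 by omega, pow_succ]; ring
      rw [Finset.sum_congr rfl fun i _ => this i, ← Finset.mul_sum, hsum]
      linear_combination hc
    refine isUnit_of_dvd_one ?_
    have e : (1 : AdjoinRoot (X ^ n + Q)) = (φ a ^ n - (φ b * y) ^ n) +
        ∑ i : Fin n, φ (d i) * φ b ^ (n - (i : ℕ)) * (φ a ^ (i : ℕ) - (φ b * y) ^ (i : ℕ)) := by
      rw [← map_one φ, ← h1, map_add, map_sum, map_pow]
      have h2 : ∀ i : Fin n, φ (d i) * φ b ^ (n - (i : ℕ)) * (φ b * y) ^ (i : ℕ) = φ b ^ n * (φ (d i) * y ^ (i : ℕ)) := fun i => by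
        have h3 : φ b ^ n = φ b ^ (n - (i : ℕ)) * φ b ^ (i : ℕ) := by rw [← pow_add, Nat.sub_add_cancel i.2.le]
        rw [h3]; ring
      have h4 : ∀ i : Fin n, φ (d i) * φ b ^ (n - (i : ℕ)) * (φ a ^ (i : ℕ) - (φ b * y) ^ (i : ℕ)) =
          φ (d i * a ^ (i : ℕ) * b ^ (n - (i : ℕ))) - φ b ^ n * (φ (d i) * y ^ (i : ℕ)) := fun i => by
        rw [← h2 i]; generalize d i = e; rw [map_mul, map_mul, map_pow, map_pow]; ring
      rw [Finset.sum_congr rfl fun i _ => h4 i, Finset.sum_sub_distrib, ← Finset.mul_sum]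
      linear_combination (φ b ^ n) * hy
    rw [e]
    exact dvd_add (sub_dvd_pow_sub_pow _ _ _) (Finset.dvd_sum fun i _ => (sub_dvd_pow_sub_pow _ _ _).mul_left _)

end Groth.Agent.S0643
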