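import Groth.Statements.S0644
import Groth.Agent.L27.EtSite.Common
import Mathlib.AlgebraicGeometry.Morphisms.UniversallyOpen

set_option autoImplicit false
open CategoryTheory CategoryTheory.Limits AlgebraicGeometry Opposite
universe u
open EtCore
set_option backward.isDefEq.respectTransparency.types false

namespace Groth.Agent.S0644

/-- Let F be a sheaf of sets on the small etale site of S which is a subsheaf of the final sheaf, i.e.
every set of sections has at most one element. Then there is exactly one open W of S such that F is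
isomorphic to the sheaf represented by W (viewed as a scheme etale over S). -/
theorem result (S : Scheme.{u}) (F : Sheaf S.smallEtaleTopology (Type u))
    (hF : ∀ U : S.Etale, Subsingleton (F.obj.obj (op U))) :
    ∃! W : S.Opens, Nonempty (F.obj ≅ yoneda.obj (Scheme.Etale.mk W.ι)) := by
  let W : S.Opens := ⟨⋃ (V : S.Etale) (_ : Nonempty (F.obj.obj (op V))), Set.range V.hom.base,
    isOpen_iUnion fun (V : S.Etale) => isOpen_iUnion fun _ =>
      (have : AlgebraicGeometry.Etale V.hom := V.prop; V.hom.isOpenMap.isOpen_range)⟩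
  have key : ∀ (V : S.Etale), Set.range V.hom.base ⊆ (W : Set S) → Nonempty (F.obj.obj (op V)) := by
    intro V hV
    let R : Sieve V :=
      { arrows := fun V' g => Nonempty (F.obj.obj (op V'))
        downward_closed := fun {Y Z g} hg k => hg.map (F.obj.map k.op) }
    have hR : R ∈ S.smallEtaleTopology V := by
      refine (Groth.L27.EtSite.mem_topology_iff R).2 fun v => ?_
      obtain ⟨V', hV'⟩ := Set.mem_iUnion.1 (hV ⟨v, rfl⟩)
      obtain ⟨hne, v', hv'⟩ := Set.mem_iUnion.1 hV'
      let U : S.Etale := Scheme.Etale.mk (𝟙 S)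
      let φ : V ⟶ U := MorphismProperty.Over.homMk V.hom (Category.comp_id _)
      let φ' : V' ⟶ U := MorphismProperty.Over.homMk V'.hom (Category.comp_id _)
      obtain ⟨T, a, b, t, ha, -, -⟩ := Groth.L27.EtSite.exists_common φ φ' v v' hv'.symm
      exact ⟨T, a, t, hne.map (F.obj.map b.op), ha⟩
    have hs := (isSheaf_iff_isSheaf_of_type _ _).1 F.2 R hR
    let x : Presieve.FamilyOfElements F.obj R.arrows := fun V' g hg => hg.some
    have hx : x.Compatible := fun Y₁ Y₂ Z g₁ g₂ f₁ f₂ h₁ h₂ e => (hF Z).elim _ _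
    exact ⟨(hs x hx).choose⟩
  have hsub : ∀ (W : S.Opens) (V : S.Etale), Subsingleton (V ⟶ Scheme.Etale.mk W.ι) := fun W V =>
    ⟨fun a b => MorphismProperty.Over.Hom.ext ((cancel_mono W.ι).1 ((Over.w a.hom).trans (Over.w b.hom).symm))⟩
  have hiff : ∀ (W : S.Opens) (V : S.Etale),
      Nonempty (V ⟶ Scheme.Etale.mk W.ι) ↔ Set.range V.hom.base ⊆ (W : Set S) := by
    intro W V
    constructor
    · rintro ⟨a⟩ x ⟨v, rfl⟩
      have e : a.left ≫ W.ι = V.hom := Over.w a.hom
      rw [← e]
      exact (a.left.base v).2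
    · intro h
      have h' : Set.range V.hom.base ⊆ Set.range W.ι.base := by rwa [Scheme.Opens.range_ι]
      have hi : IsOpenImmersion (W.ι : (W : Scheme) ⟶ S) := inferInstance
      exact ⟨MorphismProperty.Over.homMk (@IsOpenImmersion.lift _ _ S W.ι V.hom hi h') (@IsOpenImmersion.lift_fac _ _ S W.ι V.hom hi h')⟩
  have hW : ∀ V : S.Etale, Nonempty (F.obj.obj (op V)) ↔ Set.range V.hom.base ⊆ (W : Set S) :=
    fun V => ⟨fun h x hx => Set.mem_iUnion.2 ⟨V, Set.mem_iUnion.2 ⟨h, hx⟩⟩, key V⟩
  refine ⟨W, ⟨NatIso.ofComponents (fun V => Equiv.toIso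
    { toFun := fun s => ((hiff W V.unop).2 ((hW V.unop).1 ⟨s⟩)).some
      invFun := fun a => ((hW V.unop).2 ((hiff W V.unop).1 ⟨a⟩)).some
      left_inv := fun s => (hF V.unop).elim _ _
      right_inv := fun a => (hsub W V.unop).elim _ _ }) (fun {V V'} g => by
        ext s
        exact (hsub W V'.unop).elim _ _)⟩, ?_⟩
  rintro W' ⟨e⟩
  have h' : ∀ V : S.Etale, Set.range V.hom.base ⊆ (W' : Set S) ↔ Set.range V.hom.base ⊆ (W : Set S) :=
    fun V => (hiff W' V).symm.trans ((e.app (op V)).toEquiv.nonempty_congr.symm.trans (hW V))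
  refine TopologicalSpace.Opens.ext (le_antisymm ?_ ?_)
  · have h3 := (h' (Scheme.Etale.mk W'.ι)).1 (Scheme.Opens.range_ι W').le
    exact fun x hx => h3 ((Scheme.Opens.range_ι W').ge hx)
  · have h3 := (h' (Scheme.Etale.mk W.ι)).2 (Scheme.Opens.range_ι W).le
    exact fun x hx => h3 ((Scheme.Opens.range_ι W).ge hx)

end Groth.Agent.S0644
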