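import Groth.Statements.S0650
import Groth.Agent.L27.ExtZero.ToPush

set_option autoImplicit false
open CategoryTheory CategoryTheory.Limits AlgebraicGeometry Opposite
universe u
open EtCore

namespace Groth.Agent.S0650

/-- For a separated étale morphism j : U → X there is a natural transformation from extension by zero
j_! to direct image j_*, on abelian sheaves, whose component at every abelian sheaf on the small
étale site of U is a monomorphism. (Only the existence of such a natural injective comparison map is
stated; the published statement constructs a specific one.) (Continuity of the composition functor
of étale sites, which always holds, is carried as an instance hypothesis.) -/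
theorem result {U X : Scheme.{u}} (j : U ⟶ X) [AlgebraicGeometry.Etale j]
    [IsSeparated j] [EtShriek.JCont j] :
    ∃ τ : EtShriek.extZero j ⟶ EtCoh.push j, ∀ F : EtCoh.Ab U, Mono (τ.app F) := by
  exact ⟨Groth.L27.ExtZero.toPush j, Groth.L27.ExtZero.mono_toPush j⟩

end Groth.Agent.S0650
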