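import Groth.Statements.S0653
import Groth.Agent.L27.ExtZero.Unique
import Groth.Agent.L27.ExtZero.Supp
import Groth.Agent.L27.EtSite.BaseChangeIso

set_option autoImplicit false
open CategoryTheory CategoryTheory.Limits AlgebraicGeometry Opposite
universe u
open EtCore
set_option backward.isDefEq.respectTransparency.types false
set_option linter.style.haveILetI false

namespace Groth.Agent.S0653

/-- Consider a cartesian square U = X x_Y V with f : X -> Y finite, j : V -> Y an open immersion, j' : U
-> X and g : U -> V the projections. Then for every abelian sheaf F on the small etale site of U,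
f_* j'_! F is isomorphic to j_! g_* F. (The source also asserts functoriality in F; only the
objectwise isomorphism is stated.) (Continuity of the composition functor of etale sites, which
always holds, is carried as an instance hypothesis.) -/
theorem result {U X V Y : Scheme.{u}} (f : X ⟶ Y) [IsFinite f] (j : V ⟶ Y)
    [IsOpenImmersion j] [AlgebraicGeometry.Etale j] [EtShriek.JCont j] (j' : U ⟶ X) [IsOpenImmersion j']
    [AlgebraicGeometry.Etale j'] [EtShriek.JCont j'] (g : U ⟶ V) (h : IsPullback j' g f j) (F : EtCoh.Ab U) :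
    Nonempty ((EtCoh.push f).obj ((EtShriek.extZero j').obj F) ≅ (EtShriek.extZero j).obj ((EtCoh.push g).obj F)) := by
  obtain ⟨e⟩ : Nonempty ((EtShriek.restrAlong j).obj ((EtCoh.push f).obj ((EtShriek.extZero j').obj F)) ≅
      (EtCoh.push g).obj F) := by
    haveI := Groth.L27.EtSite.BC.isIso_baseChange0 (f := f) (g := j) (f' := g) (g' := j') h ((EtShriek.extZero j').obj F)
    haveI := (Groth.L27.ExtZero.isIso_counit_of_mono j').2
    exact ⟨((Groth.L27.ExtZero.pullRestr j).app _).symm ≪≫
      asIso (EtCoh.baseChange0 f j g j' h.w ((EtShriek.extZero j').obj F)) ≪≫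
      (EtCoh.push g).mapIso ((Groth.L27.ExtZero.pullRestr j').app _ ≪≫ (asIso ((EtShriek.extZeroAdj j').unit.app F)).symm)⟩
  refine Groth.L27.ExtZero.nonempty_iso_extZero j ((EtCoh.push g).obj F) _ ⟨e⟩ fun Ω _ _ ξ hξ => ?_
  refine AddCommGrpCat.isZero_iff_subsingleton.2 (subsingleton_of_forall_eq 0 fun p => ?_)
  obtain ⟨V, y, t, rfl⟩ := (Scheme.pointSmallEtale ξ).toPresheafFiber_jointly_surjective p
  let P := (EtCoh.bc f).obj V
  let q : P.left ⟶ V.left := pullback.fst V.hom f
  haveI : IsFinite q := MorphismProperty.pullback_fst _ _ inferInstance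
  let t' : EtCoh.sect ((EtShriek.extZero j').obj F) P := t
  let C := EtShriek.sectSupp ((EtShriek.extZero j').obj F) P t'
  have hC : IsClosed C := Groth.L27.Supp.isClosed_supp _ t'
  have hCj : ∀ x ∈ C, P.hom x ∈ Set.range j' := by
    intro x hx
    by_contra hn
    obtain ⟨Ω', _, _, ξ', hξ'⟩ := Groth.L27.EtSite.exists_geometric_point (P.hom x)
    obtain ⟨z, hz⟩ := Groth.L27.EtSite.exists_fiber ξ' P x hξ'.symm
    haveI := AddCommGrpCat.subsingleton_of_isZero (Groth.L27.ExtZero.isZero_stalk_extZero_of_outside j' ξ'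
      (by rintro - ⟨a, rfl⟩; rw [Subsingleton.elim a default, hξ']; exact hn) F)
    obtain ⟨W, a, w, hw, ha⟩ := ((Scheme.pointSmallEtale ξ').toPresheafFiber_eq_iff' P z t'
      (0 : EtCoh.sect ((EtShriek.extZero j').obj F) P)).1 (Subsingleton.elim (α := (EtCoh.stalk ξ').obj ((EtShriek.extZero j').obj F)) _ _)
    refine hx W a ⟨w.left (default : Spec (CommRingCat.of Ω')), ?_⟩ (ha.trans (map_zero _))
    rw [← hz, ← hw]
    rfl
  have hD : IsClosed (q '' C) := q.isClosedMap _ hC
  let O : V.left.Opens := ⟨(q '' C)ᶜ, hD.isOpen_compl⟩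
  have hyO : y.left (default : Spec (CommRingCat.of Ω)) ∈ O := by
    rintro ⟨x, hx, hxy⟩
    obtain ⟨u, hu⟩ := hCj x hx
    refine hξ ⟨default, rfl⟩ ⟨g u, ?_⟩
    calc j (g u) = (g ≫ j) u := rfl
      _ = (j' ≫ f) u := by rw [h.w]
      _ = f (P.hom x) := congrArg f hu
      _ = (P.hom ≫ f) x := rfl
      _ = (q ≫ V.hom) x := congr($((pullback.condition : q ≫ V.hom = P.hom ≫ f).symm) x)
      _ = V.hom (y.left (default : Spec (CommRingCat.of Ω))) := congrArg V.hom hxy
      _ = ξ default := Groth.L27.EtSite.fiber_apply y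
  haveI : Etale V.hom := V.prop
  let VO : Y.Etale := Scheme.Etale.mk (O.ι ≫ V.hom)
  let m : VO ⟶ V := MorphismProperty.Over.homMk O.ι rfl
  let yl := IsOpenImmersion.lift O.ι y.left (by
    rintro _ ⟨a, rfl⟩
    rw [Scheme.Opens.range_ι, Subsingleton.elim (α := Spec (CommRingCat.of Ω)) a default]
    exact hyO)
  have hfac : yl ≫ O.ι = y.left := IsOpenImmersion.lift_fac O.ι y.left _
  let y' : (Scheme.pointSmallEtale ξ).fiber.obj VO := Over.homMk yl (by
    show yl ≫ O.ι ≫ V.hom = ξ
    rw [← Category.assoc, IsOpenImmersion.lift_fac]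
    exact Over.w y)
  have hm : (Scheme.pointSmallEtale ξ).fiber.map m y' = y := Over.OverMorphism.ext hfac
  have h0 : ((EtShriek.extZero j').obj F).obj.map ((EtCoh.bc f).map m).op t = 0 := by
    refine Groth.L27.Supp.eq_zero_of_supp _ _ fun x hx => ?_
    have hx' := Groth.L27.Supp.supp_map _ _ _ hx
    have hmem : q (((EtCoh.bc f).map m).left x) ∈ O := by
      have e1 : ((EtCoh.bc f).map m).left ≫ q = pullback.fst VO.hom f ≫ O.ι := (EtCoh.isPullback_bc_map f m).w
      refine (congr($e1 x) : (((EtCoh.bc f).map m).left ≫ q) x = _) ▸ ?_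
      show O.ι (pullback.fst VO.hom f x) ∈ O
      have : O.ι (pullback.fst VO.hom f x) ∈ Set.range O.ι := ⟨_, rfl⟩
      rwa [Scheme.Opens.range_ι] at this
    exact hmem ⟨_, hx', rfl⟩
  refine (congrArg (fun z => (Scheme.pointSmallEtale ξ).toPresheafFiber V z
    ((EtCoh.push f).obj ((EtShriek.extZero j').obj F)).obj t) hm).symm.trans ?_
  refine ((Scheme.pointSmallEtale ξ).toPresheafFiber_w_apply m y' _ t).symm.trans ?_
  exact (congrArg _ h0).trans (map_zero _)

end Groth.Agent.S0653
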