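import Groth.Statements.S0657
import Groth.Agent.L27.FLC.Filtration
import Groth.Agent.L27.FLC.Index

set_option autoImplicit false
open CategoryTheory CategoryTheory.Limits AlgebraicGeometry Opposite
universe u
open EtCore

namespace Groth.Agent.S0657

/-- Let S be a connected scheme, ℓ a prime and F a finite locally constant abelian sheaf on the small
etale site of S killed by ℓ. Then there are a finite etale morphism f : T -> S whose geometric
fibres all have the same cardinality d prime to ℓ, and a finite filtration of f^{-1} F by subsheaves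
whose successive quotients are isomorphic to the constant sheaf Z/ℓ. The filtration is given as a
chain G_0 -> G_1 -> ... -> G_n of monomorphisms with G_0 = 0, G_n isomorphic to f^{-1} F and
cokernels constant. -/
theorem result (S : Scheme.{u}) [ConnectedSpace S] (ℓ : ℕ) [Fact ℓ.Prime]
    (F : EtCoh.Ab S) (hF : EtCoh.IsFiniteLocallyConstant F) (hℓ : EtCoh.KilledBy ℓ F) :
    ∃ (T : Scheme.{u}) (f : T ⟶ S) (_ : IsFinite f) (_ : AlgebraicGeometry.Etale f) (d : ℕ), ℓ.Coprime d ∧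
      (∀ (Ω : Type u) [Field Ω] [IsAlgClosed Ω] (η : Spec (CommRingCat.of Ω) ⟶ S),
        Nat.card {t : Spec (CommRingCat.of Ω) ⟶ T // t ≫ f = η} = d) ∧
      ∃ (n : ℕ) (G : ℕ → EtCoh.Ab T) (φ : ∀ i, G i ⟶ G (i + 1)),
        IsZero (G 0) ∧ Nonempty (G n ≅ (EtCoh.pull f).obj F) ∧
        ∀ i, i < n → Mono (φ i) ∧ Nonempty (cokernel (φ i) ≅ EtCoh.const T (ZMod ℓ)) := by
  obtain ⟨A, hconn, hsurj, hfinA, htor, N, hN, hNℓ, ⟨i⟩⟩ :=
    Groth.L27.FLC.exists_galois_trivializing F hF ℓ hℓ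
  haveI := hconn
  haveI := hfinA
  haveI := hN
  let P : Sylow ℓ (Aut A) := Classical.arbitrary _
  obtain ⟨T, q, hq, hqfib⟩ := Groth.L27.FLC.exists_quotient A (P : Subgroup (Aut A))
  let f : T.left ⟶ S := T.hom
  haveI hff : IsFinite f := T.prop.1
  haveI hfe : AlgebraicGeometry.Etale f := T.prop.2
  let q₀ : A.left ⟶ T.left := q.left
  have hqw : q₀ ≫ f = Groth.L27.FEtGal.hm A := MorphismProperty.Over.w q
  haveI : AlgebraicGeometry.Etale (q₀ ≫ f) := hqw.symm ▸ A.prop.2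
  haveI : AlgebraicGeometry.Etale q₀ := AlgebraicGeometry.Etale.of_comp q₀ f
  haveI : Surjective q₀ := ⟨fun t => by
    obtain ⟨Ω, _, _, η, rfl⟩ := Groth.L27.FEtGal.exists_geometric t
    obtain ⟨a, ha⟩ := (hqfib Ω (η ≫ f)).1 ⟨η, rfl⟩
    exact ⟨a.1 default, (Scheme.Hom.comp_apply a.1 q₀ default).symm.trans
      (congrArg (fun m : FEt.fiberObj (η ≫ f) T => m.1 default) ha)⟩⟩
  refine ⟨T.left, f, hff, hfe, (P : Subgroup (Aut A)).index,
    (Nat.Prime.coprime_iff_not_dvd Fact.out).2 P.not_dvd_index, fun Ω _ _ η => ?_, ?_⟩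
  · obtain ⟨a, ha⟩ := htor Ω η
    have hcomp : ∀ g h : Aut A, (FEt.fiber η).map (g * h).hom a =
        (FEt.fiber η).map g.hom ((FEt.fiber η).map h.hom a) := fun g h =>
      Functor.map_comp_apply (FEt.fiber η) h.hom g.hom a
    refine Groth.L27.FLC.card_eq_index (P : Subgroup (Aut A)) _ ha.2 _ (hqfib Ω η).1 ?_ ?_
    · intro p hp g
      rw [hcomp, ← Functor.map_comp_apply, hq p hp]
    · intro g h hgh
      obtain ⟨σ, hσ, hσ'⟩ := (hqfib Ω η).2 _ _ hgh
      rw [← hcomp] at hσ'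
      rw [← ha.1 hσ', mul_inv_cancel_right]
      exact hσ
  · refine (Groth.L27.FLC.fil_const (ℓ := ℓ) q₀ (P := (P : Subgroup (Aut A))) P.isPGroup'
      (fun p => p.1.hom.left) (fun p => congrArg (fun m : A ⟶ T => m.left) (hq p.1 p.2)) rfl
      (fun p p' => rfl) (fun Ω _ _ a b hab => ?_) ((EtCoh.pull f).obj F) N hNℓ
      (((EtCore.pullComp q₀ f).app F).symm ≪≫ (EtCore.pullCongr hqw).app F ≪≫ i)).exists_chain
    have hb : b ≫ A.hom = a ≫ A.hom := by
      have hA : A.hom = q₀ ≫ f := hqw.symm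
      rw [hA, ← Category.assoc, ← hab, Category.assoc]
    obtain ⟨σ, hσ, hσ'⟩ := (hqfib Ω (a ≫ A.hom)).2 ⟨a, rfl⟩ ⟨b, hb⟩ (Subtype.ext hab)
    exact ⟨⟨σ, hσ⟩, congrArg Subtype.val hσ'⟩

end Groth.Agent.S0657
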