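import Groth.Statements.S0658
import Mathlib.AlgebraicGeometry.Morphisms.Etale
import Mathlib.AlgebraicGeometry.Morphisms.QuasiFinite
import Mathlib.RingTheory.Etale.Field
import Mathlib.RingTheory.Unramified.LocalStructure
import Mathlib.AlgebraicGeometry.Limits

set_option autoImplicit false
open CategoryTheory CategoryTheory.Limits AlgebraicGeometry Opposite
universe u
open EtCore

namespace Groth.Agent.S0658

/-- Let k be a field and φ : U → Spec k a morphism of schemes. Then φ is étale if and only if U is
isomorphic over k to a disjoint union ∐ Spec K_i with each K_i a finite separable field extension of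
k. -/
theorem result (k : Type u) [Field k] (U : Scheme.{u}) (φ : U ⟶ Spec (CommRingCat.of k)) :
    AlgebraicGeometry.Etale φ ↔
      ∃ (ι : Type u) (K : ι → Type u) (_ : ∀ i, Field (K i)) (_ : ∀ i, Algebra k (K i))
        (_ : ∀ i, FiniteDimensional k (K i)) (_ : ∀ i, Algebra.IsSeparable k (K i))
        (e : (∐ fun i => Spec (CommRingCat.of (K i))) ≅ U),
        ∀ i, Sigma.ι (fun i => Spec (CommRingCat.of (K i))) i ≫ e.hom ≫ φ =
          Spec.map (CommRingCat.ofHom (algebraMap k (K i))) := by
  constructor
  · intro hφ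
    have : DiscreteTopology U := by
      haveI : LocallyQuasiFinite φ := by
        have h0 : AlgebraicGeometry.LocallyOfFiniteType φ := inferInstance
        rw [HasRingHomProperty.iff_appLE (P := @LocallyQuasiFinite)]
        intro V W' e
        have hE := HasRingHomProperty.appLE @AlgebraicGeometry.Etale φ hφ V W' e
        algebraize [(φ.appLE V.1 W'.1 e).hom]
        exact RingHom.quasiFinite_algebraMap.2 inferInstance
      have h := φ.isDiscrete_preimage_singleton (default : Spec (CommRingCat.of k))
      have he : φ ⁻¹' {(default : Spec (CommRingCat.of k))} = Set.univ :=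
        Set.eq_univ_of_forall fun z => Subsingleton.elim (α := Spec (CommRingCat.of k)) _ _
      rw [he] at h
      exact isDiscrete_univ_iff.mp h
    have hex : ∀ x : U, ∃ W : U.Opens, IsAffineOpen W ∧ x ∈ W ∧ (W : Set U) ⊆ {x} := by
      intro x
      obtain ⟨W, hW, hxW, hWx⟩ := TopologicalSpace.Opens.isBasis_iff_nbhd.mp U.isBasis_affineOpens
        (U := ⟨{x}, isOpen_discrete _⟩) (x := x) rfl
      exact ⟨W, hW, hxW, hWx⟩
    choose W hW hxW hWx using hex
    let ψ : ∀ x, (k : Type u) →+* Γ(U, W x) := fun x => (Spec.preimage ((hW x).fromSpec ≫ φ)).hom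
    have hψ : ∀ x, Spec.map (CommRingCat.ofHom (ψ x)) = (hW x).fromSpec ≫ φ := fun x => Spec.map_preimage _
    letI alg : ∀ x, Algebra k Γ(U, W x) := fun x => (ψ x).toAlgebra
    haveI : ∀ x, Algebra.Etale k Γ(U, W x) := fun x => by
      have h : AlgebraicGeometry.Etale (Spec.map (CommRingCat.ofHom (ψ x))) := by rw [hψ]; infer_instance
      exact (RingHom.etale_algebraMap (R := k) (S := Γ(U, W x))).1
        ((HasRingHomProperty.Spec_iff (P := @AlgebraicGeometry.Etale)).1 h)
    haveI : ∀ x, Subsingleton (PrimeSpectrum Γ(U, W x)) := fun x => by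
      have : Subsingleton (W x).toScheme :=
        ⟨fun a b => Subtype.ext ((hWx x a.2).trans (hWx x b.2).symm)⟩
      exact (hW x).isoSpec.hom.homeomorph.symm.injective.subsingleton
    have hF : ∀ x, IsField Γ(U, W x) := fun x => by
      haveI : IsReduced Γ(U, W x) := Algebra.FormallyUnramified.isReduced_of_field k _
      haveI : Nonempty (W x).toScheme := ⟨⟨x, hxW x⟩⟩
      haveI : Nontrivial Γ(U, W x) := by
        obtain ⟨p⟩ : Nonempty (PrimeSpectrum Γ(U, W x)) := ⟨(hW x).isoSpec.hom ⟨x, hxW x⟩⟩
        exact ⟨0, 1, fun h => p.isPrime.ne_top ((Ideal.eq_top_iff_one _).2 (h ▸ zero_mem _))⟩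
      refine ⟨⟨0, 1, zero_ne_one⟩, mul_comm, fun {a} ha => ?_⟩
      by_contra hu
      obtain ⟨M, hM, haM⟩ := exists_max_ideal_of_mem_nonunits (a := a) (fun hu' => hu hu'.exists_right_inv)
      refine ha (IsNilpotent.eq_zero ((nilpotent_iff_mem_prime).2 fun P hP => ?_))
      have := Subsingleton.elim (⟨P, hP⟩ : PrimeSpectrum Γ(U, W x)) ⟨M, hM.isPrime⟩
      have e1 : P = M := congrArg PrimeSpectrum.asIdeal this
      rw [e1]; exact haM
    letI fld : ∀ x, Field Γ(U, W x) := fun x => (hF x).toField
    have hc : Nonempty (IsColimit (Cofan.mk U fun x => (hW x).fromSpec)) := by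
      refine nonempty_isColimit_cofanMk_of (fun x => (hW x).fromSpec) ?_ ?_
      · refine top_le_iff.mp fun z _ => TopologicalSpace.Opens.mem_iSup.2 ⟨z, ?_⟩
        rw [IsAffineOpen.opensRange_fromSpec]
        exact hxW z
      · intro a b hab
        simp only [Function.onFun, IsAffineOpen.opensRange_fromSpec]
        rw [disjoint_iff_inf_le]
        rintro z ⟨za, zb⟩
        exact absurd ((hWx a za).symm.trans (hWx b zb)) hab
    refine ⟨U, fun x => Γ(U, W x), fld, alg, fun x => Algebra.FormallyUnramified.finite_of_free k _,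
      fun x => Algebra.FormallyUnramified.isSeparable k _, ?_, ?_⟩
    · exact (colimit.isColimit _).coconePointUniqueUpToIso hc.some
    · intro x
      have h1 := IsColimit.comp_coconePointUniqueUpToIso_hom (colimit.isColimit _) hc.some ⟨x⟩
      refine (Category.assoc _ _ _).symm.trans (Eq.trans ?_ (hψ x).symm)
      exact congrArg (· ≫ φ) h1
  · rintro ⟨ι, K, hKf, hKa, hKfin, hKsep, e, he⟩
    have h1 : AlgebraicGeometry.Etale (e.hom ≫ φ) := by
      have : e.hom ≫ φ = Sigma.desc (fun i => Spec.map (CommRingCat.ofHom (algebraMap k (K i)))) :=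
        Sigma.hom_ext _ _ fun i => by rw [Sigma.ι_desc]; exact he i
      rw [this]
      refine IsZariskiLocalAtSource.sigmaDesc (P := @AlgebraicGeometry.Etale) fun i => ?_
      have : Algebra.FormallyEtale k (K i) := Algebra.FormallyEtale.of_isSeparable k (K i)
      have : Algebra.Etale k (K i) := ⟨this, Algebra.FinitePresentation.of_finiteType.1 inferInstance⟩
      exact (HasRingHomProperty.Spec_iff (P := @AlgebraicGeometry.Etale)).2 (RingHom.etale_algebraMap.2 this)
    exact (MorphismProperty.cancel_left_of_respectsIso @AlgebraicGeometry.Etale e.hom φ).1 h1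

end Groth.Agent.S0658
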