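import Groth.Statements.S0660
import Groth.Agent.L27.EtSite.Reflect
import Mathlib.AlgebraicGeometry.Morphisms.FlatMono

set_option autoImplicit false
open CategoryTheory CategoryTheory.Limits AlgebraicGeometry Opposite
universe u
open EtCore

set_option backward.isDefEq.respectTransparency.types false

namespace Groth.Agent.S0660

/-- Let i : Z -> X be a closed immersion, U and U' schemes etale over X, and h a Z-morphism from U x_X Z
to U' x_X Z. Then there are an etale X-scheme W and X-morphisms a : W -> U, b : W -> U' such that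
the base change of a to Z is an isomorphism and h is the base change of b composed with the inverse
of the base change of a. -/
theorem result {Z X : Scheme.{u}} (i : Z ⟶ X) [IsClosedImmersion i] (U U' : X.Etale)
    (h : (EtCoh.bc i).obj U ⟶ (EtCoh.bc i).obj U') :
    ∃ (W : X.Etale) (a : W ⟶ U) (b : W ⟶ U'), IsIso ((EtCoh.bc i).map a) ∧ (EtCoh.bc i).map a ≫ h = (EtCoh.bc i).map b := by
  let i' := i
  let P : X.Etale := Scheme.Etale.mk (pullback.fst U.hom U'.hom ≫ U.hom)
  let p₁ : P ⟶ U := MorphismProperty.Over.homMk (pullback.fst U.hom U'.hom) rfl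
  let p₂ : P ⟶ U' := MorphismProperty.Over.homMk (pullback.snd U.hom U'.hom) pullback.condition.symm
  let h' : pullback U.hom i ⟶ pullback U'.hom i := h.left
  have hh : h' ≫ pullback.snd U'.hom i = pullback.snd U.hom i := MorphismProperty.Over.w h
  let m : pullback U.hom i ⟶ pullback U.hom U'.hom :=
    pullback.lift (pullback.fst U.hom i) (h' ≫ pullback.fst U'.hom i) (by
      rw [pullback.condition, Category.assoc, pullback.condition, ← Category.assoc, hh])
  let Γ' : pullback U.hom i ⟶ pullback (pullback.fst U.hom U'.hom ≫ U.hom) i :=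
    pullback.lift m (pullback.snd U.hom i) (by
      rw [← Category.assoc, pullback.lift_fst, pullback.condition])
  let Γ : (EtCoh.bc i).obj U ⟶ (EtCoh.bc i).obj P := MorphismProperty.Over.homMk Γ' (pullback.lift_snd _ _ _)
  have hf1 : ((EtCoh.bc i).map p₁).left ≫ pullback.fst U.hom i =
      pullback.fst P.hom i ≫ pullback.fst U.hom U'.hom := (EtCoh.isPullback_bc_map i p₁).w
  have hf2 : ((EtCoh.bc i).map p₂).left ≫ pullback.fst U'.hom i =
      pullback.fst P.hom i ≫ pullback.snd U.hom U'.hom := (EtCoh.isPullback_bc_map i p₂).w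
  have hm1 : Γ' ≫ pullback.fst P.hom i = m := pullback.lift_fst _ _ _
  have e1 : Γ ≫ (EtCoh.bc i).map p₁ = 𝟙 _ := MorphismProperty.Over.Hom.ext (pullback.hom_ext
    ((Category.assoc _ _ _).trans ((congrArg (Γ' ≫ ·) hf1).trans ((Category.assoc _ _ _).symm.trans
      ((congrArg (· ≫ _) hm1).trans ((pullback.lift_fst _ _ _).trans (Category.id_comp _).symm)))))
    ((MorphismProperty.Over.w (Γ ≫ (EtCoh.bc i).map p₁)).trans (Category.id_comp _).symm))
  have e2 : Γ ≫ (EtCoh.bc i).map p₂ = h := MorphismProperty.Over.Hom.ext (pullback.hom_ext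
    ((Category.assoc _ _ _).trans ((congrArg (Γ' ≫ ·) hf2).trans ((Category.assoc _ _ _).symm.trans
      ((congrArg (· ≫ _) hm1).trans (pullback.lift_snd _ _ _)))))
    ((MorphismProperty.Over.w (Γ ≫ (EtCoh.bc i).map p₂)).trans (MorphismProperty.Over.w h).symm))
  haveI : AlgebraicGeometry.Etale Γ.left := Groth.L27.EtSite.etale_left Γ
  haveI : IsSplitMono Γ.left := ⟨⟨⟨((EtCoh.bc i).map p₁).left, congrArg (fun k => k.left) e1⟩⟩⟩
  haveI : IsOpenImmersion Γ.left := IsOpenImmersion.of_flat_of_mono _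
  let q : ((EtCoh.bc i).obj P).left ⟶ P.left := pullback.fst P.hom i
  haveI : IsClosedImmersion q := inferInstanceAs (IsClosedImmersion (pullback.fst P.hom i))
  let O : P.left.Opens := ⟨(q '' (Set.range Γ.left)ᶜ)ᶜ,
    (q.isClosedMap _ Γ.left.isOpenEmbedding.isOpen_range.isClosed_compl).isOpen_compl⟩
  let W : X.Etale := Scheme.Etale.mk (O.ι ≫ P.hom)
  let o : W ⟶ P := MorphismProperty.Over.homMk O.ι rfl
  haveI : IsOpenImmersion o.left := inferInstanceAs (IsOpenImmersion O.ι)
  haveI : IsOpenImmersion ((EtCoh.bc i).map o).left :=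
    MorphismProperty.of_isPullback (P := @IsOpenImmersion) (EtCoh.isPullback_bc_map i o).flip ‹IsOpenImmersion o.left›
  have hr : Set.range ((EtCoh.bc i).map o).left = Set.range Γ.left := by
    refine Set.Subset.antisymm ?_ ?_
    · rintro _ ⟨z, rfl⟩
      by_contra hz
      exact (pullback.fst W.hom i z).2 ⟨_, hz, (Scheme.Hom.comp_apply _ _ _).symm.trans
        ((congrArg (fun k : ((EtCoh.bc i).obj W).left ⟶ P.left => k z) (EtCoh.isPullback_bc_map i o).w).trans
          (Scheme.Hom.comp_apply _ _ _))⟩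
    · rintro _ ⟨z, rfl⟩
      have hz : q (Γ.left z) ∈ O := by
        rintro ⟨z', hz', hzz⟩
        exact hz' ⟨z, (q.isClosedEmbedding.injective hzz).symm⟩
      obtain ⟨x', hx'⟩ := Groth.L27.EtSite.exists_point_bc i o (Γ.left z) ⟨_, hz⟩ rfl
      exact ⟨x', hx'⟩
  let e := IsOpenImmersion.isoOfRangeEq ((EtCoh.bc i).map o).left Γ.left hr
  have he : e.hom ≫ Γ.left = ((EtCoh.bc i).map o).left := IsOpenImmersion.isoOfRangeEq_hom_fac _ _ _
  let E : (EtCoh.bc i).obj W ⟶ (EtCoh.bc i).obj U := MorphismProperty.Over.homMk e.hom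
    ((congrArg (e.hom ≫ ·) (MorphismProperty.Over.w Γ).symm).trans ((Category.assoc _ _ _).symm.trans
      ((congrArg (· ≫ _) he).trans (MorphismProperty.Over.w _))))
  have hE : E ≫ Γ = (EtCoh.bc i).map o := MorphismProperty.Over.Hom.ext he
  have ha : (EtCoh.bc i).map (o ≫ p₁) = E := by
    rw [(EtCoh.bc i).map_comp, ← hE, Category.assoc, e1, Category.comp_id]
  refine ⟨W, o ≫ p₁, o ≫ p₂, ?_, ?_⟩
  · rw [ha]
    haveI : IsIso E.left := inferInstanceAs (IsIso e.hom)
    exact ⟨MorphismProperty.Over.homMk (inv E.left) ((IsIso.inv_comp_eq _).2 (MorphismProperty.Over.w E).symm),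
      MorphismProperty.Over.Hom.ext (IsIso.hom_inv_id _), MorphismProperty.Over.Hom.ext (IsIso.inv_hom_id _)⟩
  · rw [ha, (EtCoh.bc i).map_comp, ← hE, Category.assoc, e2]

end Groth.Agent.S0660
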