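import Groth.Statements.S0661
import Groth.Agent.L27.GabberH1.Main

set_option autoImplicit false
open CategoryTheory CategoryTheory.Limits AlgebraicGeometry Opposite
universe u
open EtCore

namespace Groth.Agent.S0661

/-- Let R be a ring such that the localization at every prime is strictly henselian, and F an abelian
sheaf on the small etale site of X = Spec R. Suppose that for all global functions f, g on X the map
from H^1 of the basic open D(f+g) (with coefficients in the restriction of F) to the product of H^1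
of D(f(f+g)) and H^1 of D(g(f+g)) has zero kernel. Then H^q(X, F) vanishes for all q > 0. (Global
functions on Spec R are used in place of elements of R; the two rings are canonically isomorphic.)
(Exactness of pullback of abelian sheaves, which always holds, is carried as an instance
hypothesis.) -/
theorem result (R : Type u) [CommRing R]
    (hR : ∀ p : PrimeSpectrum R, EtCoh.IsStrictlyHenselianLocalRing (Localization.AtPrime p.asIdeal))
    (F : EtCoh.Ab (Spec (CommRingCat.of R)))
    (hker : ∀ (f g : Γ((Spec (CommRingCat.of R)), ⊤))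
      [PreservesFiniteLimits (EtCoh.pull ((Spec (CommRingCat.of R)).homOfLE (((Spec (CommRingCat.of R)).basicOpen_mul f (f + g)).trans_le inf_le_right)))]
      [PreservesFiniteLimits (EtCoh.pull ((Spec (CommRingCat.of R)).homOfLE (((Spec (CommRingCat.of R)).basicOpen_mul g (f + g)).trans_le inf_le_right)))]
      (ξ : EtCoh.H ↑((Spec (CommRingCat.of R)).basicOpen (f + g)) ((EtCoh.pull ((Spec (CommRingCat.of R)).basicOpen (f + g)).ι).obj F) 1),
      EtCore.HpullVia ((Spec (CommRingCat.of R)).homOfLE (((Spec (CommRingCat.of R)).basicOpen_mul f (f + g)).trans_le inf_le_right)) ((Spec (CommRingCat.of R)).basicOpen (f + g)).ι ((Spec (CommRingCat.of R)).basicOpen (f * (f + g))).ι ((Spec (CommRingCat.of R)).homOfLE_ι (((Spec (CommRingCat.of R)).basicOpen_mul f (f + g)).trans_le inf_le_right)) F 1 ξ = 0 →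
      EtCore.HpullVia ((Spec (CommRingCat.of R)).homOfLE (((Spec (CommRingCat.of R)).basicOpen_mul g (f + g)).trans_le inf_le_right)) ((Spec (CommRingCat.of R)).basicOpen (f + g)).ι ((Spec (CommRingCat.of R)).basicOpen (g * (f + g))).ι ((Spec (CommRingCat.of R)).homOfLE_ι (((Spec (CommRingCat.of R)).basicOpen_mul g (f + g)).trans_le inf_le_right)) F 1 ξ = 0 →
      ξ = 0)
    (q : ℕ) (hq : 1 ≤ q) : Subsingleton (EtCoh.H (Spec (CommRingCat.of R)) F q) := by
    haveI : ∀ W : (Spec (CommRingCat.of R)).Opens, PreservesFiniteLimits (EtCoh.pull W.ι) :=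
      fun W => Groth.L27.EtSite.preservesFiniteLimits_pull _
    haveI : ∀ {W W' : (Spec (CommRingCat.of R)).Opens} (h : W ≤ W'),
        PreservesFiniteLimits (EtCoh.pull ((Spec (CommRingCat.of R)).homOfLE h)) :=
      fun h => Groth.L27.EtSite.preservesFiniteLimits_pull _
    obtain ⟨n, rfl⟩ : ∃ n, q = n + 1 := ⟨q - 1, by omega⟩
    have hk : ∀ (f g : Γ(Spec (CommRingCat.of R), ⊤))
        (x : Abelian.Ext (Groth.L27.Colim.freeSh (Groth.L27.MV.oE ((Spec (CommRingCat.of R)).basicOpen (f + g)))) F 1),
        Groth.L27.GabberH1.r (((Spec (CommRingCat.of R)).basicOpen_mul f (f + g)).trans_le inf_le_right) x = 0 →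
        Groth.L27.GabberH1.r (((Spec (CommRingCat.of R)).basicOpen_mul g (f + g)).trans_le inf_le_right) x = 0 →
        x = 0 := by
      intro f g x hf hg
      refine (Groth.L27.MV.ΦEquiv _ F 1).injective ((hker f g _ ?_ ?_).trans (map_zero _).symm)
      · refine (Groth.L27.MV.HpullVia_ΦEquiv _ _ F 1 x).trans ?_
        exact (congrArg (Groth.L27.MV.ΦEquiv _ F 1) hf).trans (map_zero _)
      · refine (Groth.L27.MV.HpullVia_ΦEquiv _ _ F 1 x).trans ?_
        exact (congrArg (Groth.L27.MV.ΦEquiv _ F 1) hg).trans (map_zero _)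
    have hall := Groth.L27.GabberH1.ext_eq_zero hR F hk n
    have h1 : ∀ x : Abelian.Ext (Groth.L27.Colim.freeSh (Groth.L27.MV.oE (⊤ : (Spec (CommRingCat.of R)).Opens))) F (n + 1),
        x = 0 := by
      have e : (⊤ : (Spec (CommRingCat.of R)).Opens) = (Spec (CommRingCat.of R)).basicOpen 1 :=
        (Scheme.basicOpen_of_isUnit _ isUnit_one).symm
      rw [e]
      exact hall 1
    haveI := Groth.L27.GabberH1.isIso_toConst_top (Spec (CommRingCat.of R))
    refine ⟨fun x y => ?_⟩
    have inj : ∀ z : Abelian.Ext (EtCoh.const (Spec (CommRingCat.of R)) ℤ) F (n + 1), z = 0 := fun z => by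
      rw [← Abelian.Ext.mk₀_id_comp z, ← IsIso.inv_hom_id (Groth.L27.MV.toConst (⊤ : (Spec (CommRingCat.of R)).Opens)),
        ← Abelian.Ext.mk₀_comp_mk₀_assoc, h1 ((Abelian.Ext.mk₀ _).comp z (zero_add (n + 1))), Abelian.Ext.comp_zero]
    exact (inj x).trans (inj y).symm

end Groth.Agent.S0661
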