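import Groth.Statements.S0663
import Groth.Agent.L21.AffCd.MuOpen

set_option autoImplicit false
set_option backward.isDefEq.respectTransparency false
set_option linter.style.haveILetI false
open CategoryTheory CategoryTheory.Limits AlgebraicGeometry Opposite
universe u
open EtCore

namespace Groth.Agent.S0663

/-- Let k be an algebraically closed field, Xb a smooth proper curve over k, U the open complement of r
≥ 1 closed points of Xb and n ≥ 1 invertible in k. Then the global sections of the sheaf of n-th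
roots of unity on U form a group isomorphic to the n-th roots of unity of k, and H^q(U, μ_n)
vanishes for q ≥ 2. -/
theorem result (k : Type u) [Field k] [IsAlgClosed k] (Xb : Scheme.{u})
    [Xb.Over (Spec (CommRingCat.of k))] (hXb : Curve.IsSmoothProperCurve k Xb (Xb ↘ Spec (CommRingCat.of k)))
    (U : Xb.Opens) (r : ℕ) (hr : 1 ≤ r) (hUc : ((U : Set Xb)ᶜ).Finite) (hUr : Nat.card ↥((U : Set Xb)ᶜ) = r)
    (n : ℕ) (hn : 1 ≤ n) (hnk : (n : k) ≠ 0) :
    Nonempty (EtCoh.H (↑U : Scheme.{u}) (EtCoh.mu ↑U n) 0 ≃+ Additive ↥(rootsOfUnity n k)) ∧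
    ∀ q : ℕ, 2 ≤ q → Subsingleton (EtCoh.H (↑U : Scheme.{u}) (EtCoh.mu ↑U n) q) := by
  obtain ⟨hp, hs, hi, hd⟩ := hXb
  obtain ⟨⟨P, hP⟩⟩ : Nonempty ↥((U : Set Xb)ᶜ) := (Nat.card_pos_iff.1 (by omega)).1
  obtain ⟨hA, hne⟩ := Groth.L21.AffCd.open_props (k := k) ⟨hp, hs, hi, hd⟩ U hUc P hP
  haveI : IsAffine (↑U : Scheme.{u}) := hA
  haveI := hp; haveI := hi; haveI := hne
  haveI : IsIntegral (↑U : Scheme.{u}) := isIntegral_of_isOpenImmersion U.ι
  haveI : NeZero n := ⟨by omega⟩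
  let f : (↑U : Scheme.{u}) ⟶ Spec (CommRingCat.of k) := U.ι ≫ (Xb ↘ Spec (CommRingCat.of k))
  haveI : LocallyOfFiniteType f := inferInstanceAs (LocallyOfFiniteType (U.ι ≫ (Xb ↘ Spec (CommRingCat.of k))))
  exact ⟨Groth.L21.AffCd.nonempty_H0_mu f n hnk, fun q hq => Groth.L21.AffCd.subsingleton_Hge2_mu f
    (U.ι.isOpenEmbedding.isEmbedding.isInducing.topologicalKrullDim_le.trans hd.le) n (by omega) q hq⟩

end Groth.Agent.S0663
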