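import Groth.Statements.S0664
import Groth.Agent.L23.GeomRedProd.Prod

set_option autoImplicit false
open CategoryTheory CategoryTheory.Limits AlgebraicGeometry Opposite
universe u
open EtCore

namespace Groth.Agent.S0664

/-- Let f : X -> S be a flat morphism that is locally of finite presentation and whose fibres are
geometrically reduced. Then the pullback functor f^{-1} on abelian sheaves on the small etale sites
preserves products indexed by any type in the universe of the schemes. (The source states this for
sheaves of sets; products and pullbacks of abelian sheaves are computed on underlying sheaves of
sets.) -/
theorem result {X S : Scheme.{u}} (f : X ⟶ S) [Flat f]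
    [LocallyOfFinitePresentation f] [GeometricallyReduced f] (ι : Type u) :
    PreservesLimitsOfShape (Discrete ι) (EtCoh.pull f) := by
  exact Groth.L23.GeomRedProd.preservesProducts_pull f ι

end Groth.Agent.S0664
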