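import Groth.Statements.S0671
import Groth.Agent.L27.EtSite.Points
import Mathlib.AlgebraicGeometry.Morphisms.UniversallyOpen

set_option autoImplicit false
set_option backward.isDefEq.respectTransparency.types false
open CategoryTheory CategoryTheory.Limits AlgebraicGeometry Opposite
universe u
open EtCore

namespace Groth.Agent.S0671

/-- For an abelian sheaf F on the small etale site of S and a section σ over an etale S-scheme U, the
support of σ is a closed subset of U; and a point of S has a nonzero geometric stalk exactly when it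
is the image of a point lying in the support of some section over some etale S-scheme. -/
theorem result {S : Scheme.{u}} (F : EtCoh.Ab S) :
    (∀ (U : S.Etale) (σ : EtCoh.sect F U), IsClosed (EtShriek.sectSupp F U σ)) ∧
    EtPBC.supp F = ⋃ (U : S.Etale) (σ : EtCoh.sect F U), U.hom.base '' EtShriek.sectSupp F U σ := by
  constructor
  · intro U σ
    refine ⟨isOpen_iff_forall_mem_open.2 fun x hx => ?_⟩
    simp only [Set.mem_compl_iff, EtShriek.sectSupp, Set.mem_setOf_eq, not_forall, not_not] at hx
    obtain ⟨W, g, ⟨w, hw⟩, h0⟩ := hx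
    exact ⟨Set.range g.left.base, by rintro _ ⟨z, rfl⟩ hz; exact hz W g ⟨z, rfl⟩ h0,
      g.left.isOpenMap.isOpen_range, w, hw⟩
  · ext x
    constructor
    · rintro ⟨Ω, i1, i2, ξ, hξ, hne⟩
      rw [AddCommGrpCat.isZero_iff_subsingleton] at hne
      obtain ⟨z, hz⟩ : ∃ z : (EtCoh.stalk ξ).obj F, z ≠ 0 := by
        by_contra hc
        push Not at hc
        exact hne ⟨fun a b => (hc a).trans (hc b).symm⟩
      obtain ⟨V, y, s, rfl⟩ := (Scheme.pointSmallEtale ξ).toPresheafFiber_jointly_surjective z
      refine Set.mem_iUnion₂.2 ⟨V, s, y.left.base (default : Spec (CommRingCat.of Ω)), ?_, ?_⟩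
      · intro W g ⟨w, hw⟩ h0
        let W' : V.left.Etale := Scheme.Etale.mk g.left
        obtain ⟨y', hy'⟩ := Groth.L27.EtSite.exists_fiber (X := V.left) y.left W' w hw
        let wξ : (Scheme.pointSmallEtale ξ).fiber.obj W := Over.homMk y'.left
          ((congrArg (y'.left ≫ ·) (MorphismProperty.Over.w g).symm).trans ((Category.assoc _ _ _).symm.trans
            ((congrArg (· ≫ V.hom) (Over.w y')).trans (Over.w y))))
        have hg : (Scheme.pointSmallEtale ξ).fiber.map g wξ = y := Over.OverMorphism.ext (Over.w y')
        refine hz ?_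
        rw [← hg]
        exact ((Scheme.pointSmallEtale ξ).toPresheafFiber_w_apply g wξ F.obj s).symm.trans
          ((congrArg _ h0).trans (map_zero _))
      · have : ξ.base default = x := by
          have := Set.mem_range_self (f := ⇑ξ) (default : Spec (CommRingCat.of Ω))
          rw [hξ] at this
          exact this
        exact (Groth.L27.EtSite.fiber_apply y).trans this
    · intro hx
      obtain ⟨U, σ, u, hu, rfl⟩ : ∃ (U : S.Etale) (σ : EtCoh.sect F U) (u : U.left),
          u ∈ EtShriek.sectSupp F U σ ∧ U.hom.base u = x := by simpa using hx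
      obtain ⟨Ω, i1, i2, ξ, hξ⟩ := Groth.L27.EtSite.exists_geometric_point (U.hom.base u)
      obtain ⟨y, hy⟩ := Groth.L27.EtSite.exists_fiber ξ U u hξ.symm
      refine ⟨Ω, i1, i2, ξ, ?_, fun hz => ?_⟩
      · rw [Set.eq_singleton_iff_unique_mem]
        exact ⟨⟨default, hξ⟩, by rintro _ ⟨z, rfl⟩; rw [Subsingleton.elim z default]; exact hξ⟩
      · have h0 : (Scheme.pointSmallEtale ξ).toPresheafFiber U y F.obj σ =
            (Scheme.pointSmallEtale ξ).toPresheafFiber U y F.obj 0 :=
          (AddCommGrpCat.subsingleton_of_isZero hz).elim _ _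
        obtain ⟨W, c, w, hw, hc⟩ := ((Scheme.pointSmallEtale ξ).toPresheafFiber_eq_iff' _ _ _ _).1 h0
        refine hu W c ⟨w.left.base (default : Spec (CommRingCat.of Ω)), ?_⟩ (hc.trans (map_zero _))
        rw [← hy, ← hw]
        rfl

end Groth.Agent.S0671
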