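import Groth.Statements.S0672
import Groth.Agent.L27.SmoothLA.BaseChange

set_option autoImplicit false
set_option linter.style.haveILetI false
set_option backward.isDefEq.respectTransparency.types false
open CategoryTheory CategoryTheory.Limits AlgebraicGeometry Opposite
universe u
open EtCore

namespace Groth.Agent.S0672

/-- For a single sheaf, degree by degree: let S be a scheme and S' the limit of a directed inverse
system of S-schemes S_i, each smooth over S, with affine transition morphisms; let g : S' -> S be
the induced morphism, f : X -> S quasi-compact and quasi-separated, and X' = X x_S S' with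
projections f' and g'. Then for every abelian sheaf F on the small etale site of X whose torsion
orders are invertible on S and every q, the pullback along g of R^q f_* F is isomorphic to R^q f'_*
of the pullback of F along g' (existence of an isomorphism; in degree 0 the canonical base change
map is an isomorphism). The source treats bounded below complexes; only sheaves are stated. -/
theorem result {ι : Type u} [Preorder ι] [IsDirected ι (· ≤ ·)] [Nonempty ι]
    {S : Scheme.{u}} (D : ιᵒᵖ ⥤ Over S) (hsm : ∀ i, Smooth (D.obj i).hom)
    (haff : ∀ ⦃a b : ιᵒᵖ⦄ (h : a ⟶ b), IsAffineHom (D.map h).left)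
    (c : Cone (D ⋙ Over.forget S)) (hc : IsLimit c) (g : c.pt ⟶ S) (hg : ∀ i, c.π.app i ≫ (D.obj i).hom = g)
    {X X' : Scheme.{u}} (f : X ⟶ S) [QuasiCompact f] [QuasiSeparated f] (f' : X' ⟶ c.pt) (g' : X' ⟶ X)
    (hsq : IsPullback g' f' f g) (F : EtCoh.Ab X) (hF : EtPBC.IsTorsionInvertibleOn S F) (q : ℕ) :
    Nonempty ((EtCoh.pull g).obj ((EtCoh.Rpush f q).obj F) ≅ (EtCoh.Rpush f' q).obj ((EtCoh.pull g').obj F)) ∧
      IsIso (EtCoh.baseChange0 f g f' g' hsq.w F) := by
  haveI : ∀ {a b : ιᵒᵖ} (m : a ⟶ b), IsAffineHom ((D ⋙ Over.forget S).map m) := fun m => haff m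
  refine Groth.L27.SmoothLA.baseChange_of_ubc f g f' g' hsq (fun n => ?_) F hF q
  exact Groth.L27.SmoothLA.ubc_limit (D := D ⋙ Over.forget S) (c := c) (fun i => (D.obj i).hom) (fun m => Over.w (D.map m)) g hg hc fun i => by
    haveI := hsm i
    exact Groth.L27.SmoothLA.ubc_smooth (D.obj i).hom n

end Groth.Agent.S0672
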