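import Groth.Statements.S0679
import Groth.Agent.L28.ProEt.WCFinitePres

set_option autoImplicit false
open CategoryTheory CategoryTheory.Limits AlgebraicGeometry Opposite Topology
universe u
open ProEtW

namespace Groth.Agent.S0679

/-- If A → B is a finite ring map of finite presentation and A is w-contractible, then B is
w-contractible. -/
theorem result (A B : Type u) [CommRing A] [CommRing B]
    [Algebra A B] [Module.Finite A B] [Algebra.FinitePresentation A B]
    (h : EtPBC.IsWContractible A) : EtPBC.IsWContractible B := by
  exact Groth.L28.ProEt.WC.isWContractible_of_finite_presentation h

end Groth.Agent.S0679
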