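import Groth.Statements.S0681
import Groth.Agent.L27.ShriekBC.Main

set_option autoImplicit false
open CategoryTheory CategoryTheory.Limits AlgebraicGeometry Opposite
universe u
open EtShriek

namespace Groth.Agent.S0681

/-- For a cartesian square with g' : X' → X, f' : X' → Y', f : X → Y, g : Y' → Y, where f is separated
and locally of finite type, and an abelian sheaf F on X_ét, the sheaves f'_!(g'^{-1} F) and
g^{-1}(f_! F) are isomorphic. The published statement asserts that the canonical base change map is
an isomorphism; here only the existence of an isomorphism is asserted. -/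
theorem result {X Y X' Y' : Scheme.{u}} (f : X ⟶ Y) (g : Y' ⟶ Y) (f' : X' ⟶ Y')
    (g' : X' ⟶ X) (hc : IsPullback g' f' f g) [IsSeparated f] [LocallyOfFiniteType f]
    [EtCoh.BCCont g] [EtCoh.BCCont g'] (F : EtCoh.Ab X) :
    Nonempty ((EtShriek.lowerShriek f').obj ((EtCoh.pull g').obj F) ≅
      (EtCoh.pull g).obj ((EtShriek.lowerShriek f).obj F)) := by
    haveI : LocallyOfFiniteType f' := MorphismProperty.of_isPullback hc inferInstance
    exact ⟨(Groth.L27.ShriekBC.bcIso hc F).symm⟩

end Groth.Agent.S0681
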