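import Groth.Statements.S0682
import Groth.Agent.L27.ExtZero.ShriekColim
import Mathlib.CategoryTheory.Limits.Constructions.Filtered
import Mathlib.CategoryTheory.Preadditive.AdditiveFunctor

set_option autoImplicit false
open CategoryTheory CategoryTheory.Limits AlgebraicGeometry Opposite
universe u
open EtShriek
set_option linter.style.haveILetI false

namespace Groth.Agent.S0682

set_option backward.isDefEq.respectTransparency false
open CategoryTheory.Limits.CoproductsFromFiniteFiltered in
/-- A functor preserving finite coproducts and filtered colimits preserves coproducts. -/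
theorem preservesCoproducts_of_finite_and_filtered {C D : Type*} [Category C] [Category D]
    [HasFiniteCoproducts C] (G : C ⥤ D) [PreservesFiniteCoproducts G] (α : Type u)
    [HasColimitsOfShape (Finset (Discrete α)) C] [PreservesColimitsOfShape (Finset (Discrete α)) G] :
    PreservesColimitsOfShape (Discrete α) G := by
  refine ⟨fun {K} => preservesColimit_of_preserves_colimit_cocone (liftToFinsetColimitCocone K).isColimit ?_⟩
  have hs : ∀ s : Finset (Discrete α),
      IsColimit (G.mapCocone (colimit.cocone (Discrete.functor fun x : s => K.obj x))) :=
    fun s => isColimitOfPreserves G (colimit.isColimit _)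
  let hC : IsColimit (G.mapCocone (colimit.cocone (liftToFinsetObj K))) := isColimitOfPreserves G (colimit.isColimit _)
  let t' (t : Cocone (K ⋙ G)) : Cocone (liftToFinsetObj K ⋙ G) :=
    { pt := t.pt
      ι :=
        { app := fun s => (hs s).desc ⟨t.pt, Discrete.natTrans fun x => t.ι.app x.as.val⟩
          naturality := fun s s' h => (hs s).hom_ext fun x => by
            have e : colimit.ι (Discrete.functor fun x : s => K.obj x) x ≫ (liftToFinsetObj K).map h =
                colimit.ι (Discrete.functor fun x : s' => K.obj x) ⟨⟨x.as.val, h.down.down x.as.2⟩⟩ :=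
              colimit.ι_desc _ _
            refine Eq.trans ?_ ((congrArg (_ ≫ ·) (Category.comp_id _)).trans ((hs s).fac
              ⟨t.pt, Discrete.natTrans fun x => t.ι.app x.as.val⟩ x)).symm
            exact (Category.assoc _ _ _).symm.trans ((congrArg (· ≫ _)
              ((G.map_comp _ _).symm.trans (congrArg G.map e))).trans ((hs s').fac _ _)) } }
  refine
    { desc := fun t => hC.desc (t' t)
      fac := fun t j => ?_
      uniq := fun t m hm => hC.hom_ext fun s => (hs s).hom_ext fun x => ?_ }
  · dsimp [liftToFinsetColimitCocone]
    rw [G.map_comp, Category.assoc]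
    refine (congrArg _ (hC.fac (t' t) {j})).trans ?_
    exact (hs {j}).fac _ ⟨⟨j, Finset.mem_singleton_self j⟩⟩
  · rw [hC.fac]
    refine ((Category.assoc _ _ _).symm.trans ?_).trans ((hs s).fac
      ⟨t.pt, Discrete.natTrans fun x => t.ι.app x.as.val⟩ x).symm
    refine Eq.trans ?_ (hm x.as.val)
    refine congrArg (· ≫ m) ((G.map_comp _ _).symm.trans (congrArg G.map ?_))
    dsimp [liftToFinsetColimitCocone]
    rw [← colimit.w (liftToFinsetObj K) (homOfLE (Finset.singleton_subset_iff.2 x.as.2) :
      ({x.as.val} : Finset (Discrete α)) ⟶ s), ← Category.assoc]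
    refine congrArg (· ≫ _) ?_
    simp [liftToFinsetObj]

/-- For f : X -> Y separated and locally of finite type, the functor f_! on abelian etale sheaves
commutes with direct sums (coproducts indexed by any small type). -/
theorem result {X Y : Scheme.{u}} (f : X ⟶ Y) [IsSeparated f]
    [LocallyOfFiniteType f] (ι : Type u) :
    PreservesColimitsOfShape (Discrete ι) (EtShriek.lowerShriek f) := by
  haveI := Groth.L27.Supp.additive_lowerShriek f
  haveI : PreservesFilteredColimitsOfSize.{u, u} (EtShriek.lowerShriek f) :=
    Groth.L27.Supp.preservesFilteredColimits_lowerShriek f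
  haveI : PreservesFiniteCoproducts (EtShriek.lowerShriek f) :=
    ⟨fun n => preservesCoproductsOfShape_of_preservesBiproductsOfShape _⟩
  exact preservesCoproducts_of_finite_and_filtered _ ι

end Groth.Agent.S0682
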