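import Groth.Statements.S0687
import Groth.Agent.L27.ExtZero.ShriekComp
import Groth.Agent.L27.ExtZero.ToShriek

set_option autoImplicit false
open CategoryTheory CategoryTheory.Limits AlgebraicGeometry Opposite
universe u
open EtShriek
set_option backward.isDefEq.respectTransparency.types false
set_option linter.style.haveILetI false

namespace Groth.Agent.S0687

/-- Let k be a field, j : X → X' an open immersion into a scheme X' proper over k, and p : X → Spec k
the composite of j with the structure morphism of X', with p separated and locally of finite type.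
Then for every abelian sheaf F on X_ét the group H^0_c(X, F) of sections with compact support (the
global sections of F whose support is proper over k) is isomorphic to the group of global sections
H^0(X', j_!F) of the extension by zero of F. (Only the existence of an isomorphism of groups is
asserted; the published statement gives a canonical one.) -/
theorem result {k : Type u} [Field k] {X Xb : Scheme.{u}} (j : X ⟶ Xb)
    [IsOpenImmersion j] (pb : Xb ⟶ Spec (CommRingCat.of k)) [IsProper pb]
    (p : X ⟶ Spec (CommRingCat.of k)) (hp : p = j ≫ pb) [IsSeparated p] [LocallyOfFiniteType p]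
    [EtShriek.JCont j] (F : EtCoh.Ab X) :
    Nonempty ((EtShriek.H0c p F) ≃+ EtCoh.sect ((EtShriek.extZero j).obj F) (EtCoh.top Xb)) := by
  haveI : LocallyOfFiniteType j := inferInstance
  haveI : IsSeparated j := inferInstance
  let T := EtCoh.top Xb
  let b := EtCore.bcTopIso j
  have ha : b.hom.left ≫ j = EtShriek.prV j T := by
    have h1 : b.hom.left = ((EtCoh.bc j).obj T).hom := (Category.comp_id _).symm.trans (MorphismProperty.Over.w b.hom)
    rw [h1]
    exact pullback.condition.symm.trans (Category.comp_id _)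
  haveI : IsIso b.hom.left := ⟨b.inv.left, congrArg (fun a => a.left) b.hom_inv_id, congrArg (fun a => a.left) b.inv_hom_id⟩
  let pr : ((EtCoh.bc j).obj T).left ⟶ Xb := EtShriek.prV j T
  have sq : IsPullback b.hom.left pr j (𝟙 Xb) :=
    IsPullback.of_horiz_isIso ⟨ha.trans (Category.comp_id _).symm⟩
  have sq' : IsPullback (inv b.hom.left) j pr (𝟙 Xb) :=
    IsPullback.of_horiz_isIso ⟨by rw [IsIso.inv_comp_eq, Category.comp_id]; exact ha.symm⟩
  have key : ∀ C : Set X, ClSub.IsProperOver (EtShriek.prV j T) (b.hom.left ⁻¹' C) ↔ ClSub.IsProperOver p C := by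
    intro C
    have h2 : ClSub.IsProperOver (EtShriek.prV j T) (b.hom.left ⁻¹' C) ↔ ClSub.IsProperOver j C := by
      refine ⟨fun h => ?_, fun h => Groth.L27.Supp.isProperOver_preimage sq h⟩
      have h' := Groth.L27.Supp.isProperOver_preimage sq' h
      have e : (inv b.hom.left) ⁻¹' (b.hom.left ⁻¹' C) = C := by
        ext x
        have hx : b.hom.left ((inv b.hom.left) x) = x :=
          (Scheme.Hom.comp_apply _ _ _).symm.trans (congr($(IsIso.inv_hom_id b.hom.left) x).trans rfl)
        show b.hom.left ((inv b.hom.left) x) ∈ C ↔ x ∈ C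
        rw [hx]
      rwa [e] at h'
    rw [h2, hp, Groth.L27.Supp.isProperOver_comp_iff j pb]
    refine ⟨fun h => ⟨h, ?_⟩, And.left⟩
    haveI : IsProper (𝟙 Xb ≫ pb) := by rw [Category.id_comp]; infer_instance
    exact Groth.L27.Supp.isProperOver_of_subset pb (Groth.L27.Supp.isClosed_image j h) (D := Set.range (𝟙 Xb : Xb ⟶ Xb)) (fun x _ => ⟨x, rfl⟩)
      (Groth.L27.Supp.isProperOver_range_of_closedImmersion (𝟙 Xb) pb)
  have hH : ∀ s : EtCoh.sect F (EtCoh.top X), s ∈ EtShriek.H0c p F ↔
      ClSub.IsProperOver p (EtShriek.sectSupp F (EtCoh.top X) s) := by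
    intro s
    refine ⟨fun h => ?_, fun h => AddSubgroup.subset_closure ((Groth.L27.Supp.hasProperSupport_iff F (U := EtCoh.top X) s p).2 h)⟩
    refine AddSubgroup.closure_induction (p := fun x _ => ClSub.IsProperOver p (EtShriek.sectSupp F (EtCoh.top X) x))
      (fun x hx => (Groth.L27.Supp.hasProperSupport_iff F (U := EtCoh.top X) x p).1 hx)
      ?_ (fun x y _ _ hx hy => ?_) (fun x _ hx => ?_) h
    · rw [Groth.L27.Supp.supp_zero]
      exact Groth.L27.Supp.isProperOver_empty _
    · exact Groth.L27.Supp.isProperOver_of_subset _ (Groth.L27.Supp.isClosed_supp F _)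
        (Groth.L27.Supp.supp_add F x y) (Groth.L27.Supp.isProperOver_union _ hx hy)
    · exact Groth.L27.Supp.isProperOver_of_subset _ (Groth.L27.Supp.isClosed_supp F _)
        (Groth.L27.Supp.supp_neg F x) hx
  let e0 : EtCoh.sect F (EtCoh.top X) ≃+ EtCoh.sect F ((EtCoh.bc j).obj T) :=
    (F.obj.mapIso b.op).addCommGroupIsoToAddEquiv
  have hmap : (EtShriek.H0c p F).map e0.toAddMonoidHom = EtShriek.shriekSubgroup j F T := by
    ext t
    rw [AddSubgroup.mem_map, Groth.L27.Supp.mem_shriekSubgroup_iff]
    constructor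
    · rintro ⟨s, hs, rfl⟩
      show ClSub.IsProperOver _ (EtShriek.sectSupp F ((EtCoh.bc j).obj T) (F.obj.map b.hom.op s))
      rw [Groth.L27.Supp.supp_map_eq]
      exact (key _).2 ((hH s).1 hs)
    · intro ht
      refine ⟨e0.symm t, (hH _).2 ((key _).1 ?_), e0.apply_symm_apply t⟩
      have e : EtShriek.sectSupp F ((EtCoh.bc j).obj T) t =
          b.hom.left ⁻¹' EtShriek.sectSupp F (EtCoh.top X) (e0.symm t) := by
        rw [← Groth.L27.Supp.supp_map_eq]
        exact congrArg _ (e0.apply_symm_apply t).symm
      exact e ▸ ht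
  let i : (EtShriek.extZero j).obj F ≅ (Groth.L27.Supp.shriekFunctor j).obj F :=
    (Groth.L27.ExtZero.shriekIso j).app F ≪≫ ((Groth.L27.Supp.shriekFunctorIso j).app F).symm
  let e1 : EtShriek.H0c p F ≃+ EtShriek.shriekSubgroup j F T :=
    (e0.addSubgroupMap (EtShriek.H0c p F)).trans (AddEquiv.addSubgroupCongr hmap)
  exact ⟨e1.trans (((sheafSections Xb.smallEtaleTopology AddCommGrpCat.{u + 1}).obj (op T)).mapIso i.symm).addCommGroupIsoToAddEquiv⟩

end Groth.Agent.S0687
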