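import Groth.Statements.S0699
import Groth.Agent.L27.IdentifiesLocal

set_option autoImplicit false
open CategoryTheory CategoryTheory.Limits AlgebraicGeometry Opposite Topology
universe u
open ProEtW

namespace Groth.Agent.S0699

/-- Let A -> B identify local rings, with Spec A and Spec B w-local, Spec B -> Spec A w-local, and
pi_0(Spec B) -> pi_0(Spec A) bijective. Then A -> B is bijective. -/
theorem result (A B : Type u) [CommRing A] [CommRing B]
    [Algebra A B] (h1 : EtPBC.IdentifiesLocalRings A B) (h2 : ProEtW.IsWLocal (PrimeSpectrum A))
    (h3 : ProEtW.IsWLocal (PrimeSpectrum B))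
    (h4 : ProEtW.IsWLocalMap (PrimeSpectrum.comap (algebraMap A B)))
    (h5 : Function.Bijective
      (PrimeSpectrum.continuous_comap (algebraMap A B)).connectedComponentsMap) :
    Function.Bijective (algebraMap A B) := by
  exact Groth.L27.IdentifiesLocal.bijective_of_wLocal A B h1 h2 h3 h4 h5

end Groth.Agent.S0699
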