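import Groth.Statements.S0702
import Groth.Agent.L27.WLocal

set_option autoImplicit false
open CategoryTheory CategoryTheory.Limits AlgebraicGeometry Opposite Topology
universe u
open ProEtW

namespace Groth.Agent.S0702

/-- Let Spec A be profinite and A -> B induce algebraic extensions of residue fields at all primes. Then
Spec B is profinite. -/
theorem result (A B : Type u) [CommRing A] [CommRing B]
    [Algebra A B] [T2Space (PrimeSpectrum A)] [TotallyDisconnectedSpace (PrimeSpectrum A)]
    (h : ProEtW.AlgebraicResidueExtensions A B) :
    ProEtW.IsProfinite (PrimeSpectrum B) := by
  exact Groth.L27.WLocal.profinite_spec_of_incomparable A B (Groth.L27.WLocal.incomparable_of_algebraic A B h)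

end Groth.Agent.S0702
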