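import Groth.Statements.S0706
import Groth.Agent.L27.LocalizationSpecializing

set_option autoImplicit false
open CategoryTheory CategoryTheory.Limits AlgebraicGeometry Opposite Topology
universe u
open ProEtW

namespace Groth.Agent.S0706

/-- Let f be an element and I an ideal of A, and Z the intersection of D(f) and V(I) in Spec A. There is
a multiplicative subset S of A for which the image of Spec(S^{-1}A) in Spec A consists precisely of
the points having a specialization in Z. -/
theorem result (A : Type u) [CommRing A] (f : A) (I : Ideal A) :
    ∃ S : Submonoid A,
      Set.range (PrimeSpectrum.comap (algebraMap A (Localization S))) =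
        {x | ∃ z : PrimeSpectrum A,
          z ∈ (PrimeSpectrum.basicOpen f : Set (PrimeSpectrum A)) ∩ PrimeSpectrum.zeroLocus I ∧ x ⤳ z} := by
  exact Groth.L27.LocalizationSpecializing.exists_localization A f I

end Groth.Agent.S0706
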