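import Groth.Statements.S0707
import Groth.Agent.L27.WContractibleLoc

set_option autoImplicit false
open CategoryTheory CategoryTheory.Limits AlgebraicGeometry Opposite Topology
universe u
open ProEtW

namespace Groth.Agent.S0707

/-- Let A be w-contractible, E a finite set of elements of A with zero set Z in Spec A, and B a
localization of A at a multiplicative subset S such that the image of Spec B → Spec A is precisely
the set of points of Spec A specializing to some point of Z. Then B is w-contractible. -/
theorem result (A B : Type u) [CommRing A] [CommRing B]
    [Algebra A B] (S : Submonoid A) [IsLocalization S B] (E : Finset A)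
    (hB : Set.range (PrimeSpectrum.comap (algebraMap A B)) =
      {x | ∃ z : PrimeSpectrum A, z ∈ PrimeSpectrum.zeroLocus (R := A) E ∧ x ⤳ z})
    (hA : EtPBC.IsWContractible A) : EtPBC.IsWContractible B := by
    exact Groth.L27.WContractible.localization_specializing A B S E hB hA

end Groth.Agent.S0707
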