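import Groth.Statements.S0716
import Groth.Agent.L28.ProEt.Cech.Vanish

set_option autoImplicit false
open CategoryTheory CategoryTheory.Limits AlgebraicGeometry Opposite
universe u
open ProEtS

namespace Groth.Agent.S0716

/-- On an affine scheme X, the pullback to X_proet of any injective abelian sheaf I of the small etale
site has vanishing pro-etale cohomology in every positive degree p (assuming, as a binder, the
continuity of X_et -> X_proet). -/
theorem result (X : Scheme.{u}) [IsAffine X] [ProEtS.EpsCont X]
    (I : EtCoh.Ab X) [Injective I] (p : ℕ) (hp : 0 < p) :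
    Subsingleton (ProEtS.HP X ((ProEtS.epsPull X).obj I) p) := by
  obtain ⟨e⟩ := Groth.L28.ProEt.Cech.nonempty_H_equiv I p
  obtain ⟨q, rfl⟩ := Nat.exists_eq_succ_of_ne_zero hp.ne'
  haveI : Subsingleton (EtCoh.H X I (q + 1)) := inferInstance
  exact e.symm.toEquiv.subsingleton

end Groth.Agent.S0716
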