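import Groth.Statements.S0718
import Groth.Agent.L28.ProEt.Cech.Vanish

set_option autoImplicit false
open CategoryTheory CategoryTheory.Limits AlgebraicGeometry Opposite
universe u
open ProEtS

namespace Groth.Agent.S0718

/-- For an abelian sheaf F on X_et and q > 0 we have R^q eps_* (eps^{-1} F) = 0 (assuming, as a binder,
the continuity of X_et -> X_proet). -/
theorem result (X : Scheme.{u}) [ProEtS.EpsCont X] (F : EtCoh.Ab X) (q : ℕ)
    (hq : 0 < q) : IsZero ((ProEtS.RepsPush X q).obj ((ProEtS.epsPull X).obj F)) := by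
  obtain ⟨m, rfl⟩ := Nat.exists_eq_succ_of_ne_zero hq.ne'
  exact Groth.L28.ProEt.Cech.isZero_RepsPush m F

end Groth.Agent.S0718
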