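import Groth.Statements.S0727
import Groth.Agent.L27.ExtZero.ToShriek

set_option autoImplicit false
open CategoryTheory CategoryTheory.Limits AlgebraicGeometry Opposite
universe u
open EtShriek

namespace Groth.Agent.S0727

/-- Let j : U → X be a separated étale morphism of schemes. Then the extension by zero functor j_! on
abelian étale sheaves and the direct image with proper support along j (the subsheaf of j_* of
sections with proper support) are isomorphic functors. Only the existence of an isomorphism is
asserted; continuity of the site functor of j is assumed as a binder, and is automatic when j is a
monomorphism. -/
theorem result {U X : Scheme.{u}} (j : U ⟶ X) [Etale j]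
    [IsSeparated j] [EtShriek.JCont j] :
    Nonempty (EtShriek.extZero j ≅ EtShriek.lowerShriek j) := by
  exact ⟨Groth.L27.ExtZero.shriekIso j⟩

end Groth.Agent.S0727
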