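import Groth.Statements.S0729
import Groth.Agent.L27.ProEt.Continuity

set_option autoImplicit false
open CategoryTheory CategoryTheory.Limits AlgebraicGeometry Opposite
universe u
open ProEtS

namespace Groth.Agent.S0729

/-- Every étale covering of a scheme X is a pro-étale covering, in the form used to define the
comparison morphism of sites ε : X_proét → X_ét: the inclusion functor from the small étale site of
X to the small pro-étale site of X is continuous. -/
theorem result (X : Scheme.{u}) : ProEtS.EpsCont X := by
  exact Groth.L27.ProEt.epsCont X

end Groth.Agent.S0729
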