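import Groth.Statements.S0740
import Groth.Agent.L28.ProEt.ClosedSections
import Mathlib.CategoryTheory.Limits.Preserves.Limits
-- import your own Groth.Agent.* helpers here

set_option autoImplicit false
open CategoryTheory CategoryTheory.Limits AlgebraicGeometry Opposite
universe u
open ProEtS

namespace Groth.Agent.S0740

open Groth.L28.ProEt.Closed in
set_option backward.isDefEq.respectTransparency.types false in
/-- For a closed immersion i : Z -> X the functor i^{-1} on abelian pro-etale sheaves commutes with
(small) limits (continuity of base change assumed as a binder). -/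
theorem result {Z X : Scheme.{u}} (i : Z ⟶ X) [IsClosedImmersion i]
    [ProEtS.PCont i] (J : Type u) [SmallCategory J] :
    PreservesLimitsOfShape J (ProEtS.pullP i) := by
  let P := Functor.sheafPullbackConstruction.sheafPullback (ProEtS.bcP i) AddCommGrpCat.{u + 1}
    (Scheme.ProEt.topology X) (Scheme.ProEt.topology Z)
  suffices h : PreservesLimitsOfShape J P from
    preservesLimitsOfShape_of_natIso (Functor.sheafPullbackConstruction.sheafPullbackIso _ _ _ _).symm
  refine ⟨fun {K} => ?_⟩
  haveI : IsIso (limit.post K P) := by
    refine isIso_of_good (i := i) _ fun W hW => ?_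
    let E := sheafToPresheaf (Scheme.ProEt.topology Z) AddCommGrpCat.{u + 1} ⋙
      (evaluation _ _).obj (op ((ProEtS.bcP i).obj W))
    let τ : sheafToPresheaf (Scheme.ProEt.topology X) AddCommGrpCat.{u + 1} ⋙ (evaluation _ _).obj (op W) ⟶ P ⋙ E :=
      Functor.whiskerRight (secComp i AddCommGrpCat.{u + 1}) ((evaluation _ _).obj (op W))
    haveI : ∀ F, IsIso (τ.app F) := fun F => isIso_secComp F hW
    haveI := NatIso.isIso_of_isIso_app τ
    haveI : PreservesLimitsOfShape J (P ⋙ E) := preservesLimitsOfShape_of_natIso (asIso τ)
    haveI : IsIso (E.map (limit.post K P) ≫ limit.post (K ⋙ P) E) := by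
      rw [limit.post_post]
      exact inferInstanceAs (IsIso (limit.post K (P ⋙ E)))
    haveI : IsIso (E.map (limit.post K P)) := IsIso.of_isIso_comp_right _ (limit.post (K ⋙ P) E)
    exact ConcreteCategory.bijective_of_isIso (E.map (limit.post K P))
  exact preservesLimit_of_isIso_post P K

end Groth.Agent.S0740
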