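import Groth.Statements.S0741
import Groth.Agent.L28.ProEt.ClosedDense
import Mathlib.CategoryTheory.Adjunction.FullyFaithful
-- import your own Groth.Agent.* helpers here

set_option autoImplicit false
open CategoryTheory CategoryTheory.Limits AlgebraicGeometry Opposite
universe u
open ProEtS

namespace Groth.Agent.S0741

/-- For a closed immersion i : Z -> X the counit i^{-1} i_* F -> F is an isomorphism for every abelian
pro-etale sheaf F on Z; equivalently i_* is fully faithful (continuity of base change assumed as a
binder). -/
theorem result {Z X : Scheme.{u}} (i : Z ⟶ X) [IsClosedImmersion i]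
    [ProEtS.PCont i] (F : ProEtS.AbP Z) :
    IsIso ((ProEtS.pullPushAdjP i).counit.app F) := by
  haveI := Groth.L28.ProEt.Closed.isCoverDense i
  haveI := Groth.L28.ProEt.Closed.isLocallyFull i
  haveI : (ProEtS.pushP i).Full := inferInstance
  haveI : (ProEtS.pushP i).Faithful := inferInstance
  infer_instance

end Groth.Agent.S0741
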