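import Groth.Statements.S0757
import Groth.Agent.L27.ProEt.WContr

set_option autoImplicit false
open CategoryTheory CategoryTheory.Limits AlgebraicGeometry Opposite
universe u
open ProEtS

namespace Groth.Agent.S0757

/-- For an affine object U of the small pro-etale site of X: the ring of functions of U is
w-contractible if and only if every covering sieve of U contains the inclusions of the pieces of
some finite decomposition of U into pairwise disjoint open and closed subschemes. -/
theorem result {X : Scheme.{u}} (U : X.ProEt)
    [IsAffine U.left] :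
    EtPBC.IsWContractible ↥(Γ(U.left, ⊤)) ↔
      ∀ R ∈ Scheme.ProEt.topology X U, ∃ (n : ℕ) (W : Fin n → U.left.Opens),
        (∀ k, IsClopen ((W k : Set ↥U.left))) ∧
        Pairwise (fun k l => Disjoint (W k : Set ↥U.left) (W l)) ∧ (⋃ k, (W k : Set ↥U.left)) = Set.univ ∧
        ∀ k, R.arrows (MorphismProperty.Over.homMk (W k).ι : Scheme.ProEt.mk ((W k).ι ≫ U.hom) ⟶ U) := by
  exact ⟨fun h _ hR => Groth.L27.ProEt.exists_refinement h hR, Groth.L27.ProEt.isWContractible_of_refinement⟩

end Groth.Agent.S0757
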