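import Groth.Statements.S0758
import Groth.Agent.L28.ProEt.LC.Main
-- import your own Groth.Agent.* helpers here

set_option autoImplicit false
open CategoryTheory CategoryTheory.Limits AlgebraicGeometry Opposite
open scoped TensorProduct
universe u
open EtModW

namespace Groth.Agent.S0758

/-- For a ring L (in the value universe) the functor eps^{-1} sends locally constant sheaves of
L-modules of finite presentation on X_et to such sheaves on X_proet, and every locally constant
sheaf of L-modules of finite presentation on X_proet is isomorphic to eps^{-1} of one on X_et (so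
eps^{-1}, which is fully faithful, is an equivalence between these categories; continuity of the
comparison functor assumed as a binder). -/
theorem result (X : Scheme.{u}) [ProEtS.EpsCont X]
    (Λ : Type (u + 1)) [CommRing Λ] :
    (∀ F : EtModW.Mod Λ X, EtModW.IsFPLocConst Λ F →
      EtModW.IsFPLocConstP Λ ((EtModW.epsPullMod Λ X).obj F)) ∧
    ∀ G : EtModW.ModP Λ X, EtModW.IsFPLocConstP Λ G →
      ∃ F : EtModW.Mod Λ X, EtModW.IsFPLocConst Λ F ∧ Nonempty ((EtModW.epsPullMod Λ X).obj F ≅ G) := by
  exact ⟨fun F hF => Groth.L28.ProEt.LC.isFPLocConstP_epsPull F hF, fun G hG => Groth.L28.ProEt.LC.exists_fp_etale G hG⟩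

end Groth.Agent.S0758
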