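import Groth.Statements.S0760
import Groth.Agent.L23.LocAcycRel.Main

set_option autoImplicit false
open CategoryTheory CategoryTheory.Limits AlgebraicGeometry Opposite
open scoped TensorProduct
universe u
open EtRest

namespace Groth.Agent.S0760

/-- Let f : X -> S be locally acyclic and F a locally constant abelian sheaf on X_et all of whose
geometric stalks are torsion groups whose elements have order prime to the residue characteristic.
Then f is locally acyclic relative to F: for every point x, strict henselizations R_S -> R_X of the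
local rings at f(x) and x (compatible with f), separably closed field Om under R_S, and every q,
pulling back along the variety of vanishing cycles Spec(R_X (x)_{R_S} Om) -> Spec R_X induces a
bijection H^q(Spec R_X, F|) -> H^q(Spec(R_X (x) Om), F|). (Left exactness of the pullback functor
carried as a binder.) -/
theorem result {X S : Scheme.{u}} (f : X ⟶ S)
    (hf : EtRest.IsLocallyAcyclic f) (F : EtCoh.Ab X) (hF : EtRest.IsLocallyConstant F)
    (htor : ∀ (Ω : Type u) [Field Ω] [IsSepClosed Ω] (ξ : Spec (CommRingCat.of Ω) ⟶ X)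
      (s : (EtCoh.stalk ξ).obj F), ∃ n : ℕ, 0 < n ∧ (n : Ω) ≠ 0 ∧ n • s = 0)
    (x : ↥X) (RS RX : Type u) [CommRing RS] [CommRing RX] [IsLocalRing RS] [IsLocalRing RX]
    [Algebra (S.presheaf.stalk (f.base x)) RS] [IsLocalHom (algebraMap (S.presheaf.stalk (f.base x)) RS)]
    [Hensel.IsStrictHenselization (S.presheaf.stalk (f.base x)) RS]
    [Algebra (X.presheaf.stalk x) RX] [IsLocalHom (algebraMap (X.presheaf.stalk x) RX)]
    [Hensel.IsStrictHenselization (X.presheaf.stalk x) RX]
    [Algebra RS RX] [IsLocalHom (algebraMap RS RX)]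
    (hc : (algebraMap RS RX).comp (algebraMap (S.presheaf.stalk (f.base x)) RS) =
      (algebraMap (X.presheaf.stalk x) RX).comp (f.stalkMap x).hom)
    (Ω : Type u) [Field Ω] [IsSepClosed Ω] [Algebra RS Ω]
    [PreservesFiniteLimits (EtCoh.pull
      (Spec.map (CommRingCat.ofHom (algebraMap RX (EtRest.vcRing RS RX Ω)))))] (q : ℕ) :
    Function.Bijective (EtCore.HpullVia
      (Spec.map (CommRingCat.ofHom (algebraMap RX (EtRest.vcRing RS RX Ω)))) (Hens2.specOf X x RX)
      (Spec.map (CommRingCat.ofHom (algebraMap RX (EtRest.vcRing RS RX Ω))) ≫ Hens2.specOf X x RX)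
      rfl F q) := by
  let φ := Spec.map (CommRingCat.ofHom (algebraMap RX (EtRest.vcRing RS RX Ω)))
  let t := Hens2.specOf X x RX
  let g := (EtCoh.HF (Spec (CommRingCat.of (EtRest.vcRing RS RX Ω))) q).map
    (((EtCore.pullComp φ t).symm ≪≫ EtCore.pullCongr (rfl : φ ≫ t = φ ≫ t)).app F).hom
  have hg := ConcreteCategory.bijective_of_isIso g
  have h := hg.comp (Groth.L23.LocAcycRel.bijective_Hpull f hf F hF htor x RS RX hc Ω q)
  exact h

end Groth.Agent.S0760
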