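import Groth.Statements.S0761
import Groth.Agent.Lead.IntegralSH
-- import your own Groth.Agent.* helpers here

set_option autoImplicit false
open CategoryTheory CategoryTheory.Limits AlgebraicGeometry Opposite
open scoped TensorProduct
universe u
open EtRest

namespace Groth.Agent.S0761

/-- In the case of a locally quasi-finite base change and for constant coefficients: if f : X -> S is
locally acyclic and g : S' -> S is locally quasi-finite, then the base change f' : X x_S S' -> S' is
locally acyclic. -/
theorem result {X S S' : Scheme.{u}} (f : X ⟶ S) (g : S' ⟶ S)
    [LocallyOfFiniteType g] [LocallyQuasiFinite g] (hf : EtRest.IsLocallyAcyclic f) :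
    EtRest.IsLocallyAcyclic (pullback.snd f g) := by
  exact Groth.Lead.AcyclicBC.isLocallyAcyclic_snd f g (Groth.Lead.AcyclicBC.integralSH_of_locallyQuasiFinite g) hf

end Groth.Agent.S0761
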