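import Groth.Statements.S0769
import Groth.Agent.L27.RShriek.Coprod

set_option autoImplicit false
set_option linter.style.haveILetI false
set_option backward.isDefEq.respectTransparency.types false
open CategoryTheory CategoryTheory.Limits AlgebraicGeometry Opposite
universe u
attribute [local instance] HasDerivedCategory.standard
open EtRest

namespace Groth.Agent.S0769

/-- Let f : X -> Y be separated of finite type with X, Y quasi-compact quasi-separated and c a
compactification. For a family K_i of objects of D(X_et) with torsion cohomology sheaves, all
vanishing below a common degree a, Rf_! (computed through c) preserves the direct sum of the K_i.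
(The left exactness of j_! and the existence of the unbounded derived direct image along the
compactification are assumed as hypotheses.) -/
theorem result {X Y : Scheme.{u}} [CompactSpace ↥X] [QuasiSeparatedSpace ↥X] [CompactSpace ↥Y] [QuasiSeparatedSpace ↥Y]
    (f : X ⟶ Y) [IsSeparated f] [LocallyOfFiniteType f] [QuasiCompact f] (c : DEt.Compactification f)
    [PreservesFiniteLimits (EtShriek.extZero c.j)] [DCoh.HasRpushEt c.Xbar c.fbar]
    {ι : Type u} (K : ι → DCoh.DEt X) (a : ℤ) (hb : ∀ i, ∀ n : ℤ, n < a → IsZero (DCoh.HDEt (K i) n))
    (ht : ∀ i, ∀ n : ℤ, EtCoh.IsTorsion (DCoh.HDEt (K i) n)) :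
    PreservesColimit (Discrete.functor K) (DEt.Rshriek c) := by
  exact Groth.L27.RShriek.preservesColimit_Rshriek c K a fun i => (DerivedCategory.isGE_iff _ a).2 (hb i)

end Groth.Agent.S0769
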