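import Groth.Statements.S0770
import Groth.Agent.L27.RShriek.Bounded

set_option autoImplicit false
set_option linter.style.haveILetI false
set_option backward.isDefEq.respectTransparency.types false
open CategoryTheory CategoryTheory.Limits AlgebraicGeometry Opposite
universe u
attribute [local instance] HasDerivedCategory.standard
open EtRest

namespace Groth.Agent.S0770

/-- Let f : X -> Y be separated of finite type with X, Y quasi-compact quasi-separated and c a
compactification. There is an integer N such that for every bounded below E in D(X_et) with torsion
cohomology sheaves whose cohomology sheaves vanish outside [a, b], the cohomology sheaves of Rf_! E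
(computed through c) vanish outside [a, b + N]. (The left exactness of j_! and the existence of the
unbounded derived direct image along the compactification are assumed as hypotheses.) -/
theorem result {X Y : Scheme.{u}} [CompactSpace ↥X] [QuasiSeparatedSpace ↥X] [CompactSpace ↥Y] [QuasiSeparatedSpace ↥Y]
    (f : X ⟶ Y) [IsSeparated f] [LocallyOfFiniteType f] [QuasiCompact f] (c : DEt.Compactification f)
    [PreservesFiniteLimits (EtShriek.extZero c.j)] [DCoh.HasRpushEt c.Xbar c.fbar] :
    ∃ N : ℕ, ∀ (E : DCoh.DEt X), (∀ n : ℤ, EtCoh.IsTorsion (DCoh.HDEt E n)) → ∀ a b : ℤ,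
      (∀ i : ℤ, i < a ∨ b < i → IsZero (DCoh.HDEt E i)) →
        ∀ i : ℤ, i < a ∨ b + N < i → IsZero (DCoh.HDEt ((DEt.Rshriek c).obj E) i) := by
  exact Groth.L27.RShriek.exists_bound c

end Groth.Agent.S0770
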