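import Groth.Statements.S0777
import Groth.Agent.L27.ProEtDC.Generate

set_option autoImplicit false
open CategoryTheory CategoryTheory.Limits AlgebraicGeometry Opposite
universe u
open ProEtDC

namespace Groth.Agent.S0777

/-- Let X be an affine scheme whose ring of functions is w-contractible (a weakly contractible affine),
L a Noetherian ring (value universe), I an ideal generated by a_1, ..., a_r, and F a sheaf of
L-modules on X_proet which is derived complete with respect to I and such that F/IF (the cokernel of
F^r -> F, (s_k) |-> sum a_k s_k) is a locally constant sheaf of finite presentation. Then for some t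
there is an epimorphism (L^)^t -> F from a finite direct sum of copies of the completed constant
sheaf. -/
theorem result (X : Scheme.{u}) [IsAffine X]
    (hX : EtPBC.IsWContractible ↥(Γ(X, ⊤))) (Λ : Type (u + 1)) [CommRing Λ] [IsNoetherianRing Λ]
    {r : ℕ} (a : Fin r → Λ) (F : EtModW.ModP Λ X)
    (hF : ProEtDC.IsDCSheaf Λ (Ideal.span (Set.range a)) F)
    (hq : EtModW.IsFPLocConstP Λ (cokernel (ProEtDC.gensMap Λ a F))) :
    ∃ (t : ℕ) (φ : (⨁ fun _ : Fin t => ProEtDC.lambdaHat Λ X (Ideal.span (Set.range a))) ⟶ F), Epi φ := by
  exact Groth.L27.ProEtDC.exists_epi hX a F hF hq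

end Groth.Agent.S0777
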