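import Groth.Statements.S0781
import Mathlib.AlgebraicGeometry.PullbackCarrier
import Mathlib.AlgebraicGeometry.Morphisms.FormallyUnramified
import Mathlib.AlgebraicGeometry.Morphisms.Etale
-- import your own Groth.Agent.* helpers here

set_option autoImplicit false
open CategoryTheory CategoryTheory.Limits AlgebraicGeometry Opposite
universe u
open Desc

namespace Groth.Agent.S0781

/-- If p : X → S is a surjective morphism of schemes, then for schemes U₁, U₂ étale over S, two
S-morphisms U₁ → U₂ whose base changes to X agree, as morphisms of canonical descent data relative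
to p, are equal; that is, the canonical-descent-datum functor is faithful on schemes étale over S.
(Descent data are taken in functor-of-points form, equivalent by the Yoneda lemma to an isomorphism
over X ×_S X satisfying the cocycle condition.) -/
theorem result {X S : Scheme.{u}} (p : X ⟶ S) [Surjective p] (U₁ U₂ : Over S)
    [Etale U₁.hom] [Etale U₂.hom] : Function.Injective ((Desc.toDD p).map : (U₁ ⟶ U₂) → _) := by
  intro u v huv
  have h1 : pullback.map p U₁.hom p U₂.hom (𝟙 X) u.left (𝟙 S) (by simp) (by simp) =
      pullback.map p U₁.hom p U₂.hom (𝟙 X) v.left (𝟙 S) (by simp) (by simp) :=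
    congrArg (fun m : Desc.SchDD.Hom _ _ => m.hom.left) huv
  have h2 : pullback.snd p U₁.hom ≫ u.left = pullback.snd p U₁.hom ≫ v.left := by
    have := congrArg (· ≫ pullback.snd p U₂.hom) h1
    simp only [pullback.map, pullback.lift_snd] at this
    exact this
  let γ : U₁.left ⟶ pullback U₂.hom U₂.hom := pullback.lift u.left v.left (by rw [Over.w u, Over.w v])
  haveI : IsOpenImmersion (pullback.diagonal U₂.hom) := inferInstance
  let j := pullback.fst γ (pullback.diagonal U₂.hom)
  haveI : IsOpenImmersion j := inferInstance
  let t : pullback p U₁.hom ⟶ pullback γ (pullback.diagonal U₂.hom) :=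
    pullback.lift (pullback.snd p U₁.hom) (pullback.snd p U₁.hom ≫ u.left)
      (pullback.hom_ext
        (by rw [Category.assoc, Category.assoc, Category.assoc, pullback.diagonal_fst]
            erw [pullback.lift_fst, Category.comp_id])
        (by rw [Category.assoc, Category.assoc, Category.assoc, pullback.diagonal_snd]
            erw [pullback.lift_snd, Category.comp_id]
            exact h2.symm))
  haveI : Surjective (pullback.snd p U₁.hom) := inferInstance
  haveI : Surjective j := ⟨fun y => by
    obtain ⟨z, hz⟩ := (pullback.snd p U₁.hom).surjective y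
    exact ⟨t z, by rw [← Scheme.Hom.comp_apply, pullback.lift_fst, hz]⟩⟩
  haveI : IsIso j := (isIso_iff_isOpenImmersion_and_epi_base j).mpr
    ⟨inferInstance, (TopCat.epi_iff_surjective _).mpr j.surjective⟩
  ext1
  rw [← cancel_epi j]
  have hc := pullback.condition (f := γ) (g := pullback.diagonal U₂.hom)
  have e1 := congrArg (· ≫ pullback.fst U₂.hom U₂.hom) hc
  have e2 := congrArg (· ≫ pullback.snd U₂.hom U₂.hom) hc
  simp only [Category.assoc, pullback.diagonal_fst, pullback.diagonal_snd, Category.comp_id, γ,
    pullback.lift_fst, pullback.lift_snd] at e1 e2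
  exact e1.trans e2.symm

end Groth.Agent.S0781
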