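import Groth.Statements.S0782
import Groth.Agent.L24.Desc.EtaleFull

set_option backward.isDefEq.respectTransparency.types false

set_option autoImplicit false
open CategoryTheory CategoryTheory.Limits AlgebraicGeometry Opposite
universe u
open Desc

namespace Groth.Agent.S0782

/-- Let p : X ⟶ S be a morphism such that for every scheme U étale over S the projection X ×_S U ⟶ U is
a quotient map of topological spaces (submersive; U = S is allowed). Then for U₁, U₂ étale over S,
every morphism between their canonical descent data relative to p comes from an S-morphism U₁ ⟶ U₂: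
the canonical-descent-datum functor is full on schemes étale over S (injectivity of this assignment
is a companion statement). (Descent data are taken in functor-of-points form, equivalent by the
Yoneda lemma to the usual form of an isomorphism over X ×_S X satisfying the cocycle condition.) -/
theorem result {X S : Scheme.{u}} (p : X ⟶ S)
    (hp : ∀ U : Over S, Etale U.hom → Topology.IsQuotientMap (pullback.snd p U.hom).base) (U₁ U₂ : Over S)
    [Etale U₁.hom] [Etale U₂.hom] : Function.Surjective ((Desc.toDD p).map : (U₁ ⟶ U₂) → _) := by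
  intro m
  let h := Limits.pullback.snd p U₁.hom
  let m' : Limits.pullback p U₁.hom ⟶ Limits.pullback p U₂.hom := m.hom.left
  let φ' := m' ≫ Limits.pullback.snd p U₂.hom
  have hm : m' ≫ Limits.pullback.fst p U₂.hom = Limits.pullback.fst p U₁.hom := Over.w m.hom
  have hw : h ≫ U₁.hom = φ' ≫ U₂.hom := by
    simp only [h, φ', Category.assoc, ← Limits.pullback.condition]
    rw [reassoc_of% hm]
  let π := Limits.pullback.fst U₁.hom U₂.hom
  let φ := Limits.pullback.lift h φ' hw
  haveI : Surjective h := ⟨(hp U₁ inferInstance).surjective⟩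
  haveI : Etale π := MorphismProperty.pullback_fst (P := @Etale) _ _ inferInstance
  have hq : Topology.IsQuotientMap (Limits.pullback.fst π h).base := by
    have sq := ((IsPullback.of_hasPullback π h).paste_vert (IsPullback.of_hasPullback p U₁.hom).flip).flip
    rw [← sq.isoPullback_hom_snd, Scheme.Hom.comp_base]
    exact (hp (Over.mk (π ≫ U₁.hom)) (inferInstanceAs (Etale (π ≫ U₁.hom)))).comp
      sq.isoPullback.hom.homeomorph.isQuotientMap
  have hc : Limits.pullback.fst h h ≫ φ = Limits.pullback.snd h h ≫ φ := by
    let a := Limits.pullback.fst h h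
    let b := Limits.pullback.snd h h
    have hab : a ≫ h = b ≫ h := Limits.pullback.condition
    let x₀ := a ≫ Limits.pullback.fst p U₁.hom
    let x₁ := b ≫ Limits.pullback.fst p U₁.hom
    have hx : x₀ ≫ p = x₁ ≫ p := by
      simp only [x₀, x₁, Category.assoc, Limits.pullback.condition]
      exact (reassoc_of% hab) U₁.hom
    have e := m.comm x₀ x₁ hx (⟨a, rfl⟩ : Desc.Lifts (Over.mk (Limits.pullback.fst p U₁.hom)) x₀)
      (⟨a ≫ m', by rw [Category.assoc]; exact congrArg (a ≫ ·) hm⟩ :
        Desc.Lifts (Over.mk (Limits.pullback.fst p U₂.hom)) x₀) rfl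
    have hb : Limits.pullback.lift x₁ (a ≫ Limits.pullback.snd p U₁.hom) (by
        rw [← hx]; simp [x₀, Limits.pullback.condition]) = b :=
      Limits.pullback.hom_ext (Limits.pullback.lift_fst _ _ _) ((Limits.pullback.lift_snd _ _ _).trans hab)
    have e2 := congrArg (fun k => k ≫ Limits.pullback.snd p U₂.hom) e
    change Limits.pullback.lift x₁ ((a ≫ m') ≫ Limits.pullback.snd p U₂.hom) _ ≫ _ =
      (Limits.pullback.lift x₁ (a ≫ Limits.pullback.snd p U₁.hom) _ ≫ m') ≫ _ at e2
    rw [hb, Limits.pullback.lift_snd] at e2
    refine Limits.pullback.hom_ext ?_ ?_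
    · rw [Category.assoc, Category.assoc, Limits.pullback.lift_fst]; exact hab
    · simp only [φ, φ', Category.assoc, Limits.pullback.lift_snd] at e2 ⊢
      exact e2
  obtain ⟨s, ⟨hs₁, hs₂⟩, -⟩ :=
    Groth.L24.Desc.existsUnique_descend_of_isQuotientMap π h hq φ (Limits.pullback.lift_fst _ _ _) hc
  refine ⟨Over.homMk (s ≫ Limits.pullback.snd U₁.hom U₂.hom) (by
    rw [Category.assoc, ← Limits.pullback.condition, reassoc_of% hs₁]), ?_⟩
  apply Desc.SchDD.hom_ext
  apply Over.OverMorphism.ext
  refine Limits.pullback.hom_ext ?_ ?_
  · refine (Limits.pullback.lift_fst _ _ _).trans ?_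
    exact (Category.comp_id _).trans hm.symm
  · refine (Limits.pullback.lift_snd _ _ _).trans ?_
    show h ≫ s ≫ _ = φ'
    rw [reassoc_of% hs₂, Limits.pullback.lift_snd]

end Groth.Agent.S0782
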