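import Groth.Statements.S0783
import Groth.Agent.L23.SepEt.Qc

set_option autoImplicit false
open CategoryTheory CategoryTheory.Limits AlgebraicGeometry Opposite
universe u
open Desc

set_option backward.isDefEq.respectTransparency.types false

namespace Groth.Agent.S0783

/-- Effectivity of descent for étale morphisms along integral surjections. Let p : X ⟶ S be surjective
and integral. Every descent datum relative to p whose underlying scheme is quasi-compact, separated
and étale over X is isomorphic to the canonical descent datum of a scheme quasi-compact, separated
and étale over S. (Descent data are taken in functor-of-points form, equivalent by the Yoneda lemma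
to an isomorphism over X ×_S X satisfying the cocycle condition.) -/
theorem result {X S : Scheme.{u}} (p : X ⟶ S) [Surjective p] [IsIntegralHom p]
    (D : Desc.SchDD p) [QuasiCompact D.obj.hom] [IsSeparated D.obj.hom] [Etale D.obj.hom] :
    ∃ U : Over S, QuasiCompact U.hom ∧ IsSeparated U.hom ∧ Etale U.hom ∧ Nonempty ((Desc.toDD p).obj U ≅ D) := by
  exact Groth.L23.SepEt.exists_of_univSSubtrusive p (Groth.L23.SepEt.univSSubtrusive_of_universallyClosed p) D

end Groth.Agent.S0783
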