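import Groth.Statements.S0784
import Groth.Agent.L27.HenselClopen

set_option autoImplicit false
open CategoryTheory CategoryTheory.Limits AlgebraicGeometry Opposite
universe u
open Desc

namespace Groth.Agent.S0784

/-- Let (A, I) be a henselian pair and g : U ⟶ Spec A quasi-compact, separated and etale such that the
base change of U to Spec(A/I) is finite over Spec(A/I). Then U is the disjoint union of an open and
closed subscheme finite over Spec A and an open and closed subscheme with no points lying over V(I). -/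
theorem result (A : Type u) [CommRing A] (I : Ideal A) [HenselianRing A I]
    {U : Scheme.{u}} (g : U ⟶ Spec (CommRingCat.of A)) [QuasiCompact g] [IsSeparated g] [Etale g]
    (hfin : IsFinite (pullback.snd g (Spec.map (CommRingCat.ofHom (Ideal.Quotient.mk I))))) :
    ∃ W : U.Opens, IsClosed (W : Set U) ∧ IsFinite (W.ι ≫ g) ∧
      ∀ u : U, u ∉ W → ¬ I ≤ (g.base u : PrimeSpectrum A).asIdeal := by
  let ι := Spec.map (CommRingCat.ofHom (Ideal.Quotient.mk I))
  haveI : IsClosedImmersion ι := IsClosedImmersion.spec_of_surjective _ Ideal.Quotient.mk_surjective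
  have ha := Groth.L27.ClopenLift.clopen_lift I
  haveI : LocallyQuasiFinite g := Groth.L23.lqf_of_etale g
  obtain ⟨T, j, π, _, _, _, hjπ⟩ := Groth.Agent.S0385.result g
  let k : Limits.pullback g ι ⟶ Limits.pullback π ι :=
    Limits.pullback.map g ι π ι j (𝟙 _) (𝟙 _) (by rw [hjπ, Category.comp_id]) (by simp)
  have hk : k ≫ Limits.pullback.snd π ι = Limits.pullback.snd g ι :=
    (Limits.pullback.lift_snd _ _ _).trans (Category.comp_id _)
  have hk1 : k ≫ Limits.pullback.fst π ι = Limits.pullback.fst g ι ≫ j := Limits.pullback.lift_fst _ _ _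
  haveI : IsFinite (k ≫ Limits.pullback.snd π ι) := by rw [hk]; exact hfin
  haveI : IsFinite k := IsFinite.of_comp k (Limits.pullback.snd π ι)
  have hV : IsClopen (Set.range k) :=
    ⟨k.isClosedMap.isClosed_range, k.isOpenEmbedding.isOpen_range⟩
  obtain ⟨C, ⟨hC, hCV⟩, -⟩ := ha T π inferInstance _ hV
  have hCj : C ⊆ Set.range j := by
    have hempty := Groth.L27.ClopenLift.closed_eq_empty ι ha
      (π.isClosedMap _ (hC.1.inter j.isOpenEmbedding.isOpen_range.isClosed_compl)) (by
        rw [Set.disjoint_left]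
        rintro _ ⟨x, rfl⟩ ⟨z, ⟨hzC, hzj⟩, hz⟩
        obtain ⟨w, hw, -⟩ := Scheme.Pullback.exists_preimage_pullback (f := π) (g := ι) z x hz
        have hwV : w ∈ Set.range k := by
          rw [← hCV]
          show Limits.pullback.fst π ι w ∈ C
          rw [hw]; exact hzC
        obtain ⟨s, rfl⟩ := hwV
        refine hzj ⟨Limits.pullback.fst g ι s, ?_⟩
        rw [← hw, ← Scheme.Hom.comp_apply, ← Scheme.Hom.comp_apply, hk1])
    intro z hz
    by_contra hzj
    exact Set.eq_empty_iff_forall_notMem.mp hempty _ ⟨z, ⟨hz, hzj⟩, rfl⟩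
  let W : U.Opens := ⟨j ⁻¹' C, hC.2.preimage j.continuous⟩
  refine ⟨W, hC.1.preimage j.continuous, ?_, fun u hu hI => hu ?_⟩
  · haveI : IsClosedImmersion (W.ι ≫ j) := IsClosedImmersion.of_isPreimmersion _ (by
      have : Set.range (W.ι ≫ j) = C := by
        rw [Scheme.Hom.comp_base, TopCat.coe_comp, Set.range_comp, Scheme.Opens.range_ι]
        exact Set.image_preimage_eq_of_subset hCj
      rw [this]; exact hC.1)
    rw [← hjπ, ← Category.assoc]
    exact MorphismProperty.comp_mem _ _ _ inferInstance inferInstance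
  · obtain ⟨x, hx⟩ : g u ∈ Set.range ι := by
      show g u ∈ Set.range (PrimeSpectrum.comap (Ideal.Quotient.mk I))
      rw [range_comap_of_surjective _ _ Ideal.Quotient.mk_surjective, Ideal.mk_ker]
      exact hI
    obtain ⟨s, hs, -⟩ := Scheme.Pullback.exists_preimage_pullback (f := g) (g := ι) u x hx.symm
    have h1 : Limits.pullback.fst π ι (k s) ∈ C := hCV.ge ⟨s, rfl⟩
    rw [← Scheme.Hom.comp_apply, hk1, Scheme.Hom.comp_apply, hs] at h1
    exact h1

end Groth.Agent.S0784
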