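import Groth.Statements.S0792
import Groth.Agent.L16.SchSupport

set_option autoImplicit false
universe u
open Coherent

namespace Groth.Agent.S0792

open CategoryTheory AlgebraicGeometry in
/-- Let f : X → S be locally of finite type and F a quasi-coherent O_X-module of finite type. The
support of F is proper over S if and only if there are a closed subscheme i : Z → X with Z proper
over S and a quasi-coherent O_Z-module G of finite type with i_* G isomorphic to F. (The published
statement also gives a further equivalent condition, that the scheme-theoretic support of F is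
proper over S; it is not used here.) -/
theorem result {X S : Scheme.{u}} (f : X ⟶ S) [LocallyOfFiniteType f]
    (F : X.Modules) (hq : Coh.IsQCoh F) (hft : CohB1.IsFT F) :
    ClSub.IsProperOver f (CohB1.support F) ↔
      ∃ (Z : Scheme.{u}) (i : Z ⟶ X), IsClosedImmersion i ∧ IsProper (i ≫ f) ∧
        ∃ G : Z.Modules, Coh.IsQCoh G ∧ CohB1.IsFT G ∧
          Nonempty ((Scheme.Modules.pushforward i).obj G ≅ F) := by
  refine ⟨fun h => ?_, ?_⟩
  · obtain ⟨Z, i, hi, hp, N, hN, e⟩ := Groth.L16.SchSupport.exists_proper_subscheme f (M := F) ⟨hq, hft⟩ h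
    exact ⟨Z, i, hi, hp, N, hN.1, hN.2, e⟩
  · rintro ⟨Z, i, hi, hp, G, -, -, ⟨e⟩⟩
    have hcl : IsClosed (CohB1.support F) := Groth.L16.CohSupport.isClosed_support F hft
    have hsub : CohB1.support F ⊆ Set.range i :=
      (Groth.L21.Mod.support_mono e.inv).trans (Groth.L16.CohClosedPush.support_push_subset i G)
    refine ⟨hcl, ?_⟩
    let V := Scheme.IdealSheafData.vanishingIdeal ⟨_, hcl⟩
    have hle : i.ker ≤ V.subschemeι.ker := by
      rw [Scheme.IdealSheafData.ker_subschemeι, ← Scheme.IdealSheafData.le_support_iff_le_vanishingIdeal]
      show CohB1.support F ⊆ _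
      rw [Scheme.Hom.support_ker]
      exact hsub.trans subset_closure
    have hj : IsClosedImmersion.lift i V.subschemeι hle ≫ i = V.subschemeι := IsClosedImmersion.lift_fac _ _ _
    haveI : IsClosedImmersion (IsClosedImmersion.lift i V.subschemeι hle ≫ i) := by rw [hj]; infer_instance
    haveI : IsClosedImmersion (IsClosedImmersion.lift i V.subschemeι hle) := IsClosedImmersion.of_comp _ i
    show IsProper (V.subschemeι ≫ f)
    rw [← hj, Category.assoc]
    infer_instance

end Groth.Agent.S0792
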