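import Groth.Statements.S0800
import Groth.Agent.L09.CohColim.Opens

set_option autoImplicit false
universe u
open Coherent

namespace Groth.Agent.S0800

open CategoryTheory CategoryTheory.Limits AlgebraicGeometry in
/-- Let f : X → S be quasi-compact and quasi-separated. Then for every p the higher direct image functor
R^p f_* on abelian sheaves (on the underlying spaces) preserves filtered colimits. -/
theorem result {X S : Scheme.{u}} (f : X ⟶ S) [QuasiCompact f]
    [QuasiSeparated f] (p : ℕ) (J : Type u) [SmallCategory J] [IsFiltered J] :
    PreservesColimitsOfShape J (Coh.RpushAb f p) := by
  exact Groth.L09.CohColim.preservesColimitsOfShape_RpushAb f p J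

end Groth.Agent.S0800
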