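import Groth.Statements.S0802
import Groth.Agent.L29.Formal.PrincipalColim

set_option autoImplicit false
set_option backward.isDefEq.respectTransparency false
universe u
open Formal2

namespace Groth.Agent.S0802

open AlgebraicGeometry in
/-- Let A be a Noetherian ring, f an element of an ideal 𝔞, and M a finite A-module on which f acts as a
nonzerodivisor; suppose A is complete for the f-adic topology and H^1_𝔞(M/fM) is a finite A-module.
Then, with U the complement of V(𝔞), the canonical map from the colimit of the sections of M~ over
the opens V ⊆ U containing U ∩ V(f) to the limit of the sections of (M/f^nM)~ over U is bijective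
(in the elementwise formulation of the prelude, degree-0 cohomology standing for sections). -/
theorem result (A : Type u) [CommRing A] [IsNoetherianRing A]
    (𝔞 : Ideal A) (f : A) (hf : f ∈ 𝔞) [IsAdicComplete (Ideal.span {f}) A]
    (M : Type u) [AddCommGroup M] [Module A M] [Module.Finite A M] (hreg : IsSMulRegular M f)
    (hfin : Module.Finite A (LocCoh.H 𝔞 1 (M ⧸ (Ideal.span {f} • (⊤ : Submodule A M))))) :
    Formal2.FormalCohColimBijective A (Ideal.span {f}) M 0 (LocCoh.puncturedOpen A 𝔞) := by
  exact Groth.L29.PrincipalColim.colimBijective M f 𝔞 hf hreg hfin

end Groth.Agent.S0802
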