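import Groth.Statements.S0807
import Groth.Agent.L29.Formal.CechZero
import Groth.Agent.L29.Formal.CechArtinian
import Groth.Agent.L29.Formal.ColimDeg

set_option autoImplicit false
set_option backward.isDefEq.respectTransparency false
universe u
open CategoryTheory
attribute [local instance] HasDerivedCategory.standard
open Formal2

namespace Groth.Agent.S0807

open AlgebraicGeometry in
/-- Algebraization of formal sections on the punctured spectrum. Let (A, 𝔪) be a Noetherian local ring
with a dualizing complex, complete with respect to an ideal I, let d be a natural number with cd(A,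
I) ≤ d, let M be a finite A-module, s a natural number, and U the punctured spectrum of A. Assume
that for every prime 𝔭 not containing I for which some non-maximal prime contains 𝔭 + I, either
depth M_𝔭 ≥ s or depth M_𝔭 + dim A/𝔭 > d + s. Then there is an open V₀ ⊆ U containing U ∩ V(I) such
that for every open V ⊆ V₀ containing U ∩ V(I) and every i < s the canonical map H^i(V, M̃) → lim_n
H^i(V, (M/IⁿM)̃) is bijective (injective, and every compatible family of classes comes from a class
on M̃). The published statement is for a general coherent module on U (here it is the one attached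
to a finite A-module M), carries a finiteness addendum not asserted here, and writes the limit with
cohomology over U rather than V; the terms agree since the quotient sheaves are supported in U ∩
V(I) ⊆ V. -/
theorem result (A : Type u) [CommRing A] [IsNoetherianRing A]
    [IsLocalRing A] (I : Ideal A) [IsAdicComplete I A] (hω : ∃ ω : Dual.D A, Dual.IsDualizing A ω)
    (d : ℕ) (hd : LocCoh.CdLE A I d) (M : Type u) [AddCommGroup M] [Module A M] [Module.Finite A M]
    (s : ℕ)
    (h₂ : ∀ (p : Ideal A) [p.IsPrime], ¬ I ≤ p →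
      (∃ r : Ideal A, r.IsPrime ∧ p ≤ r ∧ I ≤ r ∧ r ≠ IsLocalRing.maximalIdeal A) →
        (s : ℕ∞) ≤ LocCoh.depth (Localization.AtPrime p) (LocalizedModule p.primeCompl M) ∨
          ((d + s : ℕ) : WithBot ℕ∞) <
            ((LocCoh.depth (Localization.AtPrime p) (LocalizedModule p.primeCompl M) : ℕ∞) : WithBot ℕ∞) +
              ringKrullDim (A ⧸ p)) :
    ∃ V₀ : (Spec (CommRingCat.of A)).Opens,
      Formal2.Admissible A I (LocCoh.puncturedOpen A (IsLocalRing.maximalIdeal A)) V₀ ∧
      ∀ V : (Spec (CommRingCat.of A)).Opens,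
        Formal2.Admissible A I (LocCoh.puncturedOpen A (IsLocalRing.maximalIdeal A)) V → V ≤ V₀ →
          ∀ i : ℕ, i < s → Formal2.FormalCohBijective A I M i V := by
  obtain ⟨ω, hω'⟩ := hω
  obtain ⟨J₀, hle, hJV, hbij⟩ := Groth.L29.ColimDeg.exists_ideal I M (IsLocalRing.maximalIdeal A) ⟨ω, hω'⟩ d hd s
    (fun p hpI hr => by
      obtain ⟨r, hpr, hIr, hrm⟩ := hr
      refine (h₂ p.asIdeal hpI ⟨r.asIdeal, r.2, hpr, hIr, fun h => hrm h.ge⟩).imp id fun h q _ hqm _ => ?_
      obtain rfl : q = IsLocalRing.closedPoint A :=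
        PrimeSpectrum.ext (le_antisymm (IsLocalRing.le_maximalIdeal q.isPrime.ne_top) hqm)
      rw [Groth.L04.ComplTors.ringKrullDim_quotient_eq hω' p] at h
      exact h)
  refine ⟨LocCoh.puncturedOpen A J₀, ⟨fun r hr hr' => hr (hle.trans hr'), fun r hrU hrI hr => hrU (hJV r hr hrI)⟩,
    fun V hV hVV₀ i hi => ?_⟩
  obtain ⟨J₁, rfl⟩ := Groth.L29.LevelCoh.exists_eq_punctured V
  obtain ⟨fs, hfs⟩ := Groth.L29.ColimDeg.exists_span_list (J₀ * J₁)
  have hfs₀ : Ideal.span {x : A | x ∈ fs} ≤ J₀ := hfs.le.trans Ideal.mul_le_left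
  have hfV : ∀ q : PrimeSpectrum A, I ≤ q.asIdeal → (∀ g ∈ fs, g ∈ q.asIdeal) →
      IsLocalRing.maximalIdeal A ≤ q.asIdeal := fun q hqI hq => by
    have h1 : J₀ * J₁ ≤ q.asIdeal := hfs ▸ Ideal.span_le.2 hq
    rcases q.2.mul_le.1 h1 with h2 | h2
    · exact hJV q h2 hqI
    · by_contra hqa
      exact hV.2 q hqa hqI h2
  have hVeq : LocCoh.puncturedOpen A J₁ = ⨆ j : Fin fs.length, Groth.L29.CechSect.D fs[j] := by
    rw [Groth.L29.ColimDeg.iSup_D_eq fs, hfs]
    refine le_antisymm (fun r hr hr' => ?_) fun r hr hr' => hr (Ideal.mul_le_right.trans hr')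
    rcases r.2.mul_le.1 hr' with h | h
    · exact hVV₀ hr h
    · exact hr h
  have hb := hbij fs hfs₀ hfV
  cases i with
  | zero =>
    refine ⟨fun x x' hxx => sub_eq_zero.1 ?_, fun y hy =>
      Groth.L29.CechZero.exists_of_compat I M fs hVeq (hb 1 (by omega)).2 y hy⟩
    refine Groth.L29.CechZero.eq_zero_of_levels I M fs hVeq (hb 1 (by omega)).1 (hb 0 (by omega)).2 _ fun n => ?_
    rw [map_sub, sub_eq_zero]
    exact hxx n
  | succ p =>
    refine ⟨fun x x' hxx => sub_eq_zero.1 ?_, fun y hy =>
      Groth.L29.LevelCoh.exists_of_compat I M fs hVeq p _ rfl (hb _ (by omega)).2 y hy⟩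
    refine Groth.L29.LevelCoh.eq_zero_of_levels I M fs hVeq p _ rfl (hb _ (by omega)).1 ?_ _ fun n => ?_
    · exact_mod_cast Groth.L29.CechArtinian.ML_of_local fs I (hfs₀.trans hle) hfV M (p + 1)
    · exact (map_sub _ _ _).trans (sub_eq_zero.2 (hxx n))

end Groth.Agent.S0807
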