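import Groth.Statements.S0808
import Groth.Agent.L20.TorsPic.Punctured

set_option autoImplicit false
universe u
open CategoryTheory
attribute [local instance] HasDerivedCategory.standard
open Formal2

set_option backward.isDefEq.respectTransparency.types false
namespace Groth.Agent.S0808

open AlgebraicGeometry in
/-- Let (A, 𝔪) be a Noetherian local ring with a dualizing complex, f ∈ 𝔪 a nonzerodivisor, with depth A
≥ 3 and depth A_𝔭 ≥ 2 for every prime 𝔭 containing f with dim A/𝔭 = 2. Let U be the punctured
spectrum of A and U₀ its closed subscheme cut out by f (the punctured spectrum of A/fA). Then an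
invertible O_U-module whose pullback to U₀ is trivial is itself trivial. (The final remark of the
source, that (S_2) and dim A ≥ 4 imply the last hypothesis, is not part of this row.) -/
theorem result (A : Type u) [CommRing A] [IsNoetherianRing A] [IsLocalRing A]
    (hω : ∃ ω : Dual.D A, Dual.IsDualizing A ω) (f : A) (hf : f ∈ IsLocalRing.maximalIdeal A)
    (hnzd : f ∈ nonZeroDivisors A) (hdepth : (3 : ℕ∞) ≤ LocCoh.depth A A)
    (h₄ : ∀ (p : Ideal A) [p.IsPrime], f ∈ p → ringKrullDim (A ⧸ p) = 2 →
      (2 : ℕ∞) ≤ LocCoh.depth (Localization.AtPrime p) (Localization.AtPrime p)) :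
    Formal2.PicPullbackInjective (Formal2.specQuotMap A f ∣_ FEt.puncturedSpec A) := by
  intro L hL h₀
  obtain ⟨ψ⟩ := h₀
  obtain ⟨σ, hσ⟩ := Groth.L20.TorsPic.exists_frame_top_of_depth hω f hf hnzd hdepth h₄ L hL ψ
  exact Groth.L20.TorsPic.nonempty_iso_of_frame hσ


end Groth.Agent.S0808
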