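import Groth.Statements.S0810
import Groth.Agent.L18.LocPicCI
import Groth.Agent.L05.Henselization.EtaleLike

set_option autoImplicit false
set_option linter.style.haveILetI false
set_option backward.isDefEq.respectTransparency.types false
set_option backward.isDefEq.respectTransparency false
universe u
open Formal2

namespace Groth.Agent.S0810

open CategoryTheory AlgebraicGeometry in
/-- Let A be a Noetherian local ring which is a complete intersection (its completion is a regular local
ring modulo a regular sequence) of dimension at least 4. Then every invertible module on the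
punctured spectrum of A is trivial. -/
theorem result (A : Type u) [CommRing A] [IsNoetherianRing A]
    [IsLocalRing A] (hci : Pi1.IsCompleteIntersection A) (hdim : (4 : WithBot ℕ∞) ≤ ringKrullDim A) :
    Formal2.PicTrivial (↑(FEt.puncturedSpec A) : Scheme.{u}) := by
  obtain ⟨C, _, hC, rs, hrs, hreg, ⟨e⟩⟩ := hci
  haveI := hC
  haveI := Groth.L01.AnalUnram.isNoetherianRing_completion A
  haveI := Groth.L01.CompletionExt.faithfullyFlat A
  let Ah := AdicCompletion (IsLocalRing.maximalIdeal A) A
  have hmap : (IsLocalRing.maximalIdeal A).map (algebraMap A Ah) = IsLocalRing.maximalIdeal Ah :=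
    Groth.L01.AnalUnram.completion_map_maximalIdeal A
  let π : C →+* Ah := e.symm.toRingHom.comp (Ideal.Quotient.mk _)
  have hπ : Function.Surjective π := e.symm.surjective.comp Ideal.Quotient.mk_surjective
  have hker : RingHom.ker π = Ideal.ofList rs := by
    ext x
    rw [RingHom.mem_ker]
    exact (map_eq_zero_iff _ e.symm.injective).trans Ideal.Quotient.eq_zero_iff_mem
  have hdim' : (4 : WithBot ℕ∞) ≤ ringKrullDim Ah := by
    rwa [Groth.L01.CompletionReg.ringKrullDim_completion]
  have hAh := Groth.L18.LocPic.picTrivial_ci rs.length C Ah rs rfl hrs hreg.toIsWeaklyRegular π hπ hker hdim'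
  have hdepth : (2 : ℕ∞) ≤ LocCoh.depth A A := by
    rw [← Groth.L05.Henselization.depth_eq_of_map_maximalIdeal A Ah hmap]
    exact Groth.L18.LocPic.le_depth_of_le_dim rs hrs hreg.toIsWeaklyRegular π hπ hker (k := 2)
      (le_trans (by norm_num) hdim')
  intro L hL
  refine Groth.Agent.S0813.result A hdepth L hL ?_
  have hpre : Spec.map (CommRingCat.ofHom (algebraMap A Ah)) ⁻¹ᵁ FEt.puncturedSpec A = FEt.puncturedSpec Ah := by
    refine Groth.L18.LocPic.preimage_punctured _ (fun P hP => ?_) ?_
    · refine ((IsLocalRing.maximalIdeal.isMaximal Ah).eq_of_le P.2.ne_top ?_).symm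
      exact hmap.symm.le.trans (Ideal.map_le_iff_le_comap.2 hP.ge)
    · refine ((IsLocalRing.maximalIdeal.isMaximal A).eq_of_le
        (Ideal.comap_ne_top _ (IsLocalRing.maximalIdeal.isMaximal Ah).ne_top) ?_).symm
      exact Ideal.map_le_iff_le_comap.1 hmap.le
  have hT : Formal2.PicTrivial
      (↑(Spec.map (CommRingCat.ofHom (algebraMap A Ah)) ⁻¹ᵁ FEt.puncturedSpec A) : Scheme.{u}) := by
    rw [hpre]; exact hAh
  exact hT _ (PicLoc.isInvertible_pullback _ hL)

end Groth.Agent.S0810
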