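import Groth.Statements.S0815
import Groth.Agent.L04.Canon.ConnPunctured

set_option autoImplicit false
universe u
open Formal2

namespace Groth.Agent.S0815

open CategoryTheory AlgebraicGeometry in
/-- Let (A, 𝔪) be a complete Noetherian local ring, I a proper ideal, e a bound for the cohomological
dimension of I, and Z ⊆ V(I) a closed subset of Spec A. Assume that dim Z + e + 1 < dim A/𝔭 for
every minimal prime 𝔭 of A, and that dim Z + e < dim Z' for every closed subset Z' of Spec A whose
complement is not connected (the empty complement counts as not connected). Then V(I) ∖ Z is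
connected, in particular nonempty. -/
theorem result (A : Type u) [CommRing A] [IsNoetherianRing A] [IsLocalRing A]
    [IsAdicComplete (IsLocalRing.maximalIdeal A) A] (I : Ideal A) (hI : I ≠ ⊤) (e : ℕ) (he : LocCoh.CdLE A I e)
    (Z : Set (PrimeSpectrum A)) (hZ : IsClosed Z) (hZI : Z ⊆ PrimeSpectrum.zeroLocus (I : Set A))
    (hdim : ∀ p ∈ minimalPrimes A, topologicalKrullDim Z + ((e + 1 : ℕ) : WithBot ℕ∞) < ringKrullDim (A ⧸ p))
    (hc : ∀ Z' : Set (PrimeSpectrum A), IsClosed Z' → ¬ _root_.IsConnected Z'ᶜ →
      topologicalKrullDim Z + ((e : ℕ) : WithBot ℕ∞) < topologicalKrullDim Z') :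
    _root_.IsConnected (PrimeSpectrum.zeroLocus (I : Set A) \ Z) :=
  Groth.L04.Canon.isConnected_zeroLocus_diff I hI e he Z hZ hZI hdim hc

end Groth.Agent.S0815
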