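import Groth.Statements.S0818
import Groth.Agent.L16.Devissage

set_option autoImplicit false
universe u
open Coherent

namespace Groth.Agent.S0818

open CategoryTheory AlgebraicGeometry in
/-- Let X be a nonempty Noetherian scheme and P an isomorphism-invariant property of O_X-modules such
that (1) in every short exact sequence of coherent O_X-modules, if two of the three terms satisfy P
then so does the third, and (2) for every integral scheme Z and closed immersion i : Z → X, with ξ
the generic point of Z, there is a coherent O_X-module G satisfying P whose support is exactly i(Z)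
and whose stalk at i(ξ) is isomorphic, as a module over the local ring O_{X,i(ξ)}, to the residue
field of that local ring. Then every coherent O_X-module satisfies P. (The published statement
leaves the nonemptiness of X implicit; it is needed to handle the zero module and is assumed
explicitly here.) -/
theorem result (X : Scheme.{u}) [IsNoetherian X] [Nonempty X]
    (P : X.Modules → Prop) (hP : ∀ M N : X.Modules, Nonempty (M ≅ N) → P M → P N)
    (h₁ : ∀ S : ShortComplex X.Modules, S.ShortExact → Coh.IsCoh S.X₁ → Coh.IsCoh S.X₂ → Coh.IsCoh S.X₃ →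
      (P S.X₁ → P S.X₂ → P S.X₃) ∧ (P S.X₁ → P S.X₃ → P S.X₂) ∧ (P S.X₂ → P S.X₃ → P S.X₁))
    (h₂ : ∀ (Z : Scheme.{u}) (i : Z ⟶ X) [IsClosedImmersion i] [IsIntegral Z],
      ∃ G : X.Modules, Coh.IsCoh G ∧ CohB1.support G = Set.range ⇑i ∧
        Nonempty (↑(G.presheaf.stalk (i (genericPoint Z))) ≃ₗ[X.presheaf.stalk (i (genericPoint Z))]
          IsLocalRing.ResidueField (X.presheaf.stalk (i (genericPoint Z)))) ∧ P G)
    (M : X.Modules) (hM : Coh.IsCoh M) : P M := by
  have key : ∀ y : X, ∃ G : X.Modules, Coh.IsCoh G ∧ P G ∧ CohB1.support G ⊆ closure {y} ∧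
      Groth.L16.CohSupport.len y G = 1 := fun y => by
    obtain ⟨Z, i, hi, hZ, hgen, hrange⟩ := Groth.L16.CohClosedPush.exists_integral y
    obtain ⟨G, hG, hsG, ⟨e⟩, hPG⟩ := h₂ Z i
    refine ⟨G, hG, hPG, (hsG.trans hrange).le, ?_⟩
    rw [← hgen]
    exact e.length_eq.trans (Groth.L16.Devissage.length_residueField _)
  have h21 : Groth.L16.Devissage.TwoOutOfThree P Set.univ := fun S hS a b c _ => h₁ S hS a b c
  obtain ⟨G, hG, hPG, -, -⟩ := key (Classical.arbitrary X)
  exact Groth.L16.Devissage.devissage P isClosed_univ hP
    (fun M hM' => Groth.L16.Devissage.isZero_prop P h21 hG (Set.subset_univ _) hPG hM') h21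
    (fun y _ => key y) hM (Set.subset_univ _)

end Groth.Agent.S0818
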