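import Groth.Statements.S0820
import Groth.Agent.L17.ClosedSupp

set_option autoImplicit false
universe u
open Coherent

namespace Groth.Agent.S0820

open CategoryTheory AlgebraicGeometry in
/-- Let f : Y → X be finite and surjective with X locally Noetherian, and let i : Z → X be a closed
immersion from an integral scheme, ξ the image of the generic point of Z. Then some coherent
O_Y-module F has f_* F supported exactly on i(Z), with the stalk of f_* F at ξ killed by every
element of 𝔪_{X,ξ}, the maximal ideal of O_{X,ξ}. -/
theorem result {Y X : Scheme.{u}} (f : Y ⟶ X) [IsFinite f]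
    [Surjective f] [IsLocallyNoetherian X] (Z : Scheme.{u}) (i : Z ⟶ X) [IsClosedImmersion i] [IsIntegral Z] :
    ∃ F : Y.Modules, Coh.IsCoh F ∧ CohB1.support ((Coh.push f).obj F) = Set.range ⇑i ∧
      ∀ a ∈ IsLocalRing.maximalIdeal (X.presheaf.stalk (i (genericPoint Z))),
        ∀ m : ↑(((Coh.push f).obj F).presheaf.stalk (i (genericPoint Z))), a • m = 0 := by
  haveI : IsLocallyNoetherian Y := LocallyOfFiniteType.isLocallyNoetherian f
  haveI : IsLocallyNoetherian (Limits.pullback f i) := LocallyOfFiniteType.isLocallyNoetherian (Limits.pullback.fst f i)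
  haveI : Surjective (Limits.pullback.snd f i) := MorphismProperty.pullback_snd (P := @Surjective) f i ‹_›
  refine ⟨(Coh.push (Limits.pullback.fst f i)).obj (Coh.structureModule _),
    Groth.L07.PrinParts.isCoh_pushforward_finite _ Groth.L16.CohClosedPush.isCoh_structure,
    Groth.L17.ClosedSupp.support_MX f i _ (Limits.pullback.snd f i) Limits.pullback.condition (Limits.pullback.snd f i).surjective, ?_⟩
  exact fun a ha m => Groth.L17.ClosedSupp.maximal_smul_eq_zero f i _ (Limits.pullback.snd f i) Limits.pullback.condition a ha m

end Groth.Agent.S0820
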