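import Groth.Statements.S0821
import Groth.Agent.L29.Formal.FreeLevelsLocal
import Groth.Agent.L29.Formal.DualKill
import Groth.Agent.S9531
import Groth.Agent.S9535

set_option autoImplicit false
set_option backward.isDefEq.respectTransparency false
universe u
open CategoryTheory
attribute [local instance] HasDerivedCategory.standard
open Formal2

namespace Groth.Agent.S0821

open AlgebraicGeometry in
theorem eq_puncturedOpen (A : Type u) [CommRing A] [IsLocalRing A] :
    FEt.puncturedSpec A = LocCoh.puncturedOpen A (IsLocalRing.maximalIdeal A) := by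
  refine TopologicalSpace.Opens.ext (Set.ext fun p => not_congr ?_)
  exact ⟨fun h => (show p = IsLocalRing.closedPoint A from h) ▸ (fun _ hm => hm),
    fun h => PrimeSpectrum.ext (((IsLocalRing.maximalIdeal.isMaximal A).eq_of_le p.2.ne_top h).symm)⟩

open AlgebraicGeometry in
theorem modPow_congr {A : Type u} [CommRing A] {X : Scheme.{u}} [X.Over (Spec (CommRingCat.of A))] {I J : Ideal A}
    {m n : ℕ} (h : I ^ m = J ^ n) (P : X.Modules) : Formal.modPow I m P = Formal.modPow J n P :=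
  congrArg (fun K => Limits.cokernel (Formal.smulFamily K P)) h

open AlgebraicGeometry Opposite in
theorem aux (A : Type u) [CommRing A]
    [IsNoetherianRing A] [IsLocalRing A] {ω : Dual.D A} (hω : Dual.IsDualizing A ω) (hn : Dual.IsNormalized A ω) (f : A)
    (hf : f ∈ IsLocalRing.maximalIdeal A) (hnzd : f ∈ nonZeroDivisors A) [IsAdicComplete (Ideal.span {f}) A]
    (U : (Spec (CommRingCat.of A)).Opens) (hU : U = LocCoh.puncturedOpen A (IsLocalRing.maximalIdeal A))
    (G : ℕᵒᵖ ⥤ (U : Scheme.{u}).Modules) (hG : Formal.IsCohFormal (Ideal.span {f}) G)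
    (hfree : ∀ n : ℕ, Formal2.IsFinLocFreeMod (Ideal.span {f}) (n + 1) (G.obj (op n)))
    (h₅ : ∀ (p : Ideal A) [p.IsPrime], f ∈ p → p ≠ IsLocalRing.maximalIdeal A →
      (1 : WithBot ℕ∞) < ((LocCoh.depth (Localization.AtPrime p)
          (LocalizedModule p.primeCompl (A ⧸ Ideal.span {f})) : ℕ∞) : WithBot ℕ∞) + ringKrullDim (A ⧸ p))
    (h₆ : ∀ (p : Ideal A) [p.IsPrime], f ∉ p →
      (∃ r : Ideal A, r.IsPrime ∧ p ≤ r ∧ f ∈ r ∧ r ≠ IsLocalRing.maximalIdeal A) →
      (3 : WithBot ℕ∞) < ((LocCoh.depth (Localization.AtPrime p) (Localization.AtPrime p) : ℕ∞) : WithBot ℕ∞) +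
        ringKrullDim (A ⧸ p)) :
    ∃ F : (U : Scheme.{u}).Modules, Coh.IsCoh F ∧ Nonempty (Formal.completion (Ideal.span {f}) F ≅ G) := by
  subst hU
  let 𝔪 := IsLocalRing.maximalIdeal A
  have hI : Ideal.span {f} ≤ 𝔪 := (Ideal.span_singleton_le_iff_mem 𝔪).2 hf
  let e : ∀ I : Ideal A, Formal2.quotPow A I A 0 ≃ₗ[A] A ⧸ I := fun I =>
    Submodule.quotEquivOfEq _ _ (by rw [zero_add, pow_one, smul_eq_mul, Ideal.mul_top])
  have hH : ∀ (I : Ideal A) (i : ℕ) (c : A), (∀ x : LocCoh.H 𝔪 i (A ⧸ I), c • x = 0) →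
      ∀ x : LocCoh.H 𝔪 i (Formal2.quotPow A I A 0), c • x = 0 := fun I i c h x => by
    refine (((localCohomology 𝔪 i).mapIso (e I).toModuleIso).toLinearEquiv).injective ?_
    rw [map_smul, map_zero]
    exact h _
  have hk : Formal.KilledBy (Ideal.span {f}) (G.obj (op 0)) := by
    have := hG.2.1 0
    rwa [zero_add, pow_one] at this
  obtain ⟨e₁, he₁⟩ := Groth.L29.DualKill.exists_pow_kills hω hn (A ⧸ Ideal.span {f}) 1 fun p hp hpm => by
    rw [Module.support_eq_zeroLocus, Ideal.annihilator_quotient] at hp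
    exact h₅ p.asIdeal (hp (Ideal.mem_span_singleton_self f)) hpm
  have h0 := Groth.L29.FreeLevels.finite_bottom_zero 𝔪 (Ideal.span {f}) (G.obj (op 0)) (hG.1 0) hk (hfree 0)
    ⟨e₁, fun a ha => hH _ 1 a (he₁ a ha)⟩
  haveI := Module.Finite.equiv (Groth.L29.FreeLevels.Φ (LocCoh.puncturedOpen A 𝔪) (G.obj (op 0)))
  obtain ⟨M, e₂, hM, he₂⟩ := Groth.L29.DualKill.exists_kills_level hω hn f hnzd h₆
  obtain ⟨M, rfl⟩ := Nat.exists_eq_succ_of_ne_zero hM.ne'
  let I' : Ideal A := Ideal.span {f ^ (M + 1 + 1)}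
  have hII : I' ^ (0 + 1) = Ideal.span {f} ^ (M + 1 + 1) := by
    rw [zero_add, pow_one, Ideal.span_singleton_pow]
  have hfree' : Formal2.IsFinLocFreeMod I' (0 + 1) (G.obj (op (M + 1))) := by
    intro x
    obtain ⟨V, r, hx, φ⟩ := hfree (M + 1) x
    refine ⟨V, r, hx, ?_⟩
    rw [modPow_congr hII]
    exact φ
  haveI := Groth.L29.FreeLevels.isNoetherian_multiple I' (G.obj (op (M + 1))) (hG.1 (M + 1))
    (by intro a ha; exact hG.2.1 (M + 1) a (by rwa [Ideal.span_singleton_pow])) hfree' (f ^ (M + 1)) e₂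
    (fun a ha x => by rw [← mul_smul]; exact hH I' 2 _ (fun y => by rw [mul_smul]; exact he₂ a ha y) x)
  exact Groth.Agent.S9535.result A _ 𝔪 hI G hG (Groth.Agent.S9531.result A _ 𝔪 hI G hG
    (Groth.L29.FreeLevels.canonicallyExtends_of_multiple hG hfree hnzd M))

open AlgebraicGeometry Opposite in
/-- In the form of its final sentence (A complete). Let (A, 𝔪) be a Noetherian local ring with a
dualizing complex, f ∈ 𝔪 a nonzerodivisor with A f-adically complete, and U the punctured spectrum.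
Let (F_n) be a coherent formal module on U for the ideal (f) (indices shifted by one) with each F_n
finite locally free over O_U/f^nO_U. Assume depth (A/fA)_𝔭 + dim A/𝔭 > 1 for every non-maximal prime
𝔭 containing f, and depth A_𝔭 + dim A/𝔭 > 3 for every prime 𝔭 not containing f such that some
non-maximal prime contains 𝔭 and f. Then (F_n) is isomorphic to the system (F/f^nF) of a coherent
O_U-module F. -/
theorem result (A : Type u) [CommRing A]
    [IsNoetherianRing A] [IsLocalRing A] (hω : ∃ ω : Dual.D A, Dual.IsDualizing A ω) (f : A)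
    (hf : f ∈ IsLocalRing.maximalIdeal A) (hnzd : f ∈ nonZeroDivisors A) [IsAdicComplete (Ideal.span {f}) A]
    (G : ℕᵒᵖ ⥤ (↑(FEt.puncturedSpec A) : Scheme.{u}).Modules) (hG : Formal.IsCohFormal (Ideal.span {f}) G)
    (hfree : ∀ n : ℕ, Formal2.IsFinLocFreeMod (Ideal.span {f}) (n + 1) (G.obj (op n)))
    (h₅ : ∀ (p : Ideal A) [p.IsPrime], f ∈ p → p ≠ IsLocalRing.maximalIdeal A →
      (1 : WithBot ℕ∞) < ((LocCoh.depth (Localization.AtPrime p)
          (LocalizedModule p.primeCompl (A ⧸ Ideal.span {f})) : ℕ∞) : WithBot ℕ∞) + ringKrullDim (A ⧸ p))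
    (h₆ : ∀ (p : Ideal A) [p.IsPrime], f ∉ p →
      (∃ r : Ideal A, r.IsPrime ∧ p ≤ r ∧ f ∈ r ∧ r ≠ IsLocalRing.maximalIdeal A) →
      (3 : WithBot ℕ∞) < ((LocCoh.depth (Localization.AtPrime p) (Localization.AtPrime p) : ℕ∞) : WithBot ℕ∞) +
        ringKrullDim (A ⧸ p)) :
    ∃ F : (↑(FEt.puncturedSpec A) : Scheme.{u}).Modules, Coh.IsCoh F ∧
      Nonempty (Formal.completion (Ideal.span {f}) F ≅ G) := by
  obtain ⟨ω, hω, hn⟩ := Groth.L29.DualKill.exists_normalized hω
  exact aux A hω hn f hf hnzd _ (eq_puncturedOpen A) G hG hfree h₅ h₆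

end Groth.Agent.S0821
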