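import Groth.Statements.S0826
import Groth.Agent.L17.TowerCohMod

set_option autoImplicit false
universe u
open Formal2

namespace Groth.Agent.S0826

open CategoryTheory CategoryTheory.Limits AlgebraicGeometry in
/-- Part (2), for the ideal sheaf generated by an ideal I of a base ring A. Let X be a scheme over Spec
A and (G_n) an inverse system of quasi-coherent O_X-modules with G_n killed by I^(n+1) and G_n =
G_{n+1}/I^(n+1)G_{n+1} (indices shifted by one). Then the limit O_X-module lim G_n has vanishing
cohomology in positive degrees over every affine open of X. -/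
theorem result (A : Type u) [CommRing A] (I : Ideal A) (X : Scheme.{u})
    [X.Over (Spec (CommRingCat.of A))] (G : ℕᵒᵖ ⥤ X.Modules) (hG : Formal2.IsQCohFormal I G)
    (U : X.Opens) (hU : IsAffineOpen U) (p : ℕ) (hp : 0 < p) :
    Subsingleton (Coh.HHon X (limit G) U p) := by
  obtain ⟨q, rfl⟩ : ∃ q, p = q + 1 := ⟨p - 1, by omega⟩
  exact Groth.L17.TowerCohMod.subsingleton_HHon_limit G hG.1
    (Groth.L17.TowerCohMod.epi_of_isQCohFormal G hG) hU q

end Groth.Agent.S0826
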