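import Groth.Statements.S0828
import Groth.Agent.L04.RegularPd
import Groth.Agent.L01.AusBuch
import Groth.Agent.L06.SupportStalk
import Groth.Agent.L15.Ref.FreeLocus
import Groth.Agent.L29.DCoh.CokerLocFree
-- import your own Groth.Agent.* helpers here

set_option autoImplicit false
universe u
open Coherent

namespace Groth.Agent.S0828

open CategoryTheory AlgebraicGeometry in
theorem subsingleton_iff {X : Scheme.{u}} (F : X.Modules) {U : X.Opens} {n : ℕ}
    (e : F.restrict U.ι ≅ FlatMod.freeMod (↑U) n) {x : X} (hx : x ∈ U) :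
    Subsingleton (F.presheaf.stalk x) ↔ n = 0 := by
  let y : (U : Scheme.{u}) := ⟨x, hx⟩
  have e₁ : (F.restrict U.ι).presheaf.stalk y ≃+ F.presheaf.stalk x :=
    ((Scheme.Modules.restrictStalkNatIso U.ι y).app F).addCommGroupIsoToAddEquiv
  have e₂ : (F.restrict U.ι).presheaf.stalk y ≃+ (FlatMod.freeMod (↑U) n).presheaf.stalk y :=
    ((Scheme.Modules.toPresheaf _ ⋙ TopCat.Presheaf.stalkFunctor _ y).mapIso e).addCommGroupIsoToAddEquiv
  let k : (Groth.L00.Stk.F (↑U) y).obj (FlatMod.freeMod (↑U) n) ≃ₗ[(U : Scheme.{u}).presheaf.stalk y]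
      (Fin n → (U : Scheme.{u}).presheaf.stalk y) :=
    letI := (RingHom.id ((U : Scheme.{u}).presheaf.stalk y)).toAlgebra
    (TensorProduct.lid ((U : Scheme.{u}).presheaf.stalk y) _).symm ≪≫ₗ
      Groth.L29.DC.Fib.coord (RingHom.id ((U : Scheme.{u}).presheaf.stalk y)) n
  rw [(e₁.symm.trans e₂).toEquiv.subsingleton_congr]
  refine (k.toEquiv.subsingleton_congr).trans ⟨fun h => ?_, fun h => by subst h; infer_instance⟩
  by_contra hn
  haveI : Nonempty (Fin n) := ⟨⟨0, Nat.pos_of_ne_zero hn⟩⟩
  exact not_subsingleton (Fin n → (U : Scheme.{u}).presheaf.stalk y) h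

open CategoryTheory AlgebraicGeometry in
/-- Let X be a regular scheme (locally Noetherian with regular local rings) and F a coherent O_X-module.
Then F has support all of X and Cohen–Macaulay stalks if and only if F is finite locally free of
positive rank near every point. -/
theorem result (X : Scheme.{u}) [IsLocallyNoetherian X]
    (hreg : ∀ x : X, IsRegularLocalRing (X.presheaf.stalk x)) (F : X.Modules) (hF : Coh.IsCoh F) :
    (CohB1.support F = Set.univ ∧
        ∀ x : X, LocCoh.IsCohenMacaulayModule (X.presheaf.stalk x) ↑(F.presheaf.stalk x)) ↔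
      ∀ x : X, ∃ (U : X.Opens) (n : ℕ), x ∈ U ∧ 0 < n ∧
        Nonempty (F.restrict U.ι ≅ FlatMod.freeMod (↑U) n) := by
  
  refine ⟨fun ⟨hsupp, hCM⟩ x => ?_, fun h => ⟨Set.eq_univ_iff_forall.2 fun x => ?_, fun x => ?_⟩⟩
  · have hflat : FlatMod.IsFlat F := fun y => by
      haveI := hreg y
      haveI := Groth.L06.SupportStalk.finite_stalk F hF y
      obtain ⟨d, hd⟩ := Groth.L01.exists_dim_eq_nat (R := X.presheaf.stalk y)
      have hs : Module.supportDim (X.presheaf.stalk y) (F.presheaf.stalk y) = d := by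
        rw [← hd]
        have hu : Module.support (X.presheaf.stalk y) (F.presheaf.stalk y) = Set.univ :=
          Set.eq_univ_iff_forall.2 fun Q => (Groth.L06.SupportStalk.mem_support_iff F hF y Q).2 (hsupp ▸ trivial)
        rw [Module.supportDim, hu]
        exact Order.krullDim_eq_of_orderIso OrderIso.Set.univ
      have hdep : LocCoh.depth (X.presheaf.stalk y) (F.presheaf.stalk y) = (d : ℕ∞) :=
        WithBot.coe_injective ((hCM y).symm.trans hs)
      haveI := Groth.L04.hasProjectiveDimensionLE_of_dim_le_add_depth (F.presheaf.stalk y) (t := 0) hd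
        (by rw [hdep]; simp)
      haveI : Projective (ModuleCat.of (X.presheaf.stalk y) (F.presheaf.stalk y)) :=
        projective_iff_hasProjectiveDimensionLT_one.2 ‹_›
      haveI := (IsProjective.iff_projective (R := X.presheaf.stalk y) (F.presheaf.stalk y)).2 ‹_›
      exact Module.Flat.of_projective
    obtain ⟨U, n, hxU, ⟨e⟩⟩ := Groth.L15.CohFlat.isFinLocFree_of_isCoh_isFlat F hF hflat x
    refine ⟨U, n, hxU, Nat.pos_of_ne_zero fun hn => ?_, ⟨e⟩⟩
    exact (hsupp.symm ▸ Set.mem_univ x : x ∈ CohB1.support F) ((subsingleton_iff F e hxU).2 hn)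
  · obtain ⟨U, n, hxU, hn, ⟨e⟩⟩ := h x
    exact fun hs => hn.ne' ((subsingleton_iff F e hxU).1 hs)
  · haveI := hreg x
    haveI := Groth.L06.SupportStalk.finite_stalk F hF x
    haveI : Module.Free (X.presheaf.stalk x) (F.presheaf.stalk x) :=
      Groth.L18.LFP.free_stalk F (fun y => by
        obtain ⟨U, n, hy, -, he⟩ := h y
        exact ⟨U, n, hy, he⟩) x
    haveI : Nontrivial (F.presheaf.stalk x) := by
      obtain ⟨U, n, hxU, hn, ⟨e⟩⟩ := h x
      exact not_subsingleton_iff_nontrivial.1 fun hs => hn.ne' ((subsingleton_iff F e hxU).1 hs)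
    obtain ⟨d, hd⟩ := Groth.L01.exists_dim_eq_nat (R := X.presheaf.stalk x)
    haveI := Groth.L04.isCohenMacaulayLocalRing_of_regular (X.presheaf.stalk x)
    have hR : ((LocCoh.depth (X.presheaf.stalk x) (X.presheaf.stalk x) : ℕ∞) : WithBot ℕ∞) = d := by
      rw [← hd, ← LocCoh.IsCohenMacaulayLocalRing.supportDim_eq_depth, Module.supportDim_self_eq_ringKrullDim]
    have hR' : LocCoh.depth (X.presheaf.stalk x) (X.presheaf.stalk x) = (d : ℕ∞) := WithBot.coe_injective hR
    have h1 : (d : ℕ∞) ≤ LocCoh.depth (X.presheaf.stalk x) (F.presheaf.stalk x) :=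
      (Groth.L01.AusBuch.depth_free _ d).2 hR'.ge
    have h2 : Module.supportDim (X.presheaf.stalk x) (F.presheaf.stalk x) ≤ (d : WithBot ℕ∞) :=
      (Module.supportDim_le_ringKrullDim _ _).trans hd.le
    have h3 := Groth.L04.depth_le_supportDim (R := X.presheaf.stalk x) (M := F.presheaf.stalk x)
    exact le_antisymm (h2.trans (WithBot.coe_le_coe.2 h1)) h3

end Groth.Agent.S0828
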