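import Groth.Statements.S0830
import Groth.Agent.L16.Exist.Reduce

set_option autoImplicit false
universe u
open Formal2

namespace Groth.Agent.S0830

open CategoryTheory CategoryTheory.Limits AlgebraicGeometry Opposite in
/-- For the ideal sheaf I·O_X of an ideal I of a base ring A, with the closed subschemes X_e = V(K^e)
replaced by coherent modules and systems annihilated by K^e. Let X be a Noetherian scheme over Spec
A, K a quasi-coherent ideal sheaf, (F_n) a coherent formal module for I. Assume: (1) for every e,
maps between the systems (M/I^nM), (N/I^nN) of coherent modules M, N killed by K^e come from unique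
maps M → N, and every coherent formal module all of whose terms are killed by K^e is isomorphic to
(M/I^nM) for a coherent M killed by K^e; (2) there are a coherent H and a map (F_n) → (H/I^nH) with
componentwise kernels and cokernels killed by a fixed power of K. Then (F_n) is isomorphic to
(F/I^nF) for some coherent O_X-module F. -/
theorem result (A : Type u) [CommRing A] (I : Ideal A) (X : Scheme.{u})
    [X.Over (Spec (CommRingCat.of A))] [IsNoetherian X] (K : X.IdealSheafData) (F : ℕᵒᵖ ⥤ X.Modules) (hF : Formal.IsCohFormal I F)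
    (h₁ : ∀ e : ℕ,
      (∀ (M N : X.Modules), Coh.IsCoh M → Coh.IsCoh N → ClSub.KilledByIdeal (K ^ e) M →
        ClSub.KilledByIdeal (K ^ e) N → ∀ ψ : Formal.completion I M ⟶ Formal.completion I N,
          ∃! φ : M ⟶ N, ∀ n : ℕ, Formal.modPowπ I (n + 1) M ≫ ψ.app (op n) = φ ≫ Formal.modPowπ I (n + 1) N) ∧
      (∀ G : ℕᵒᵖ ⥤ X.Modules, Formal.IsCohFormal I G → (∀ n : ℕ, ClSub.KilledByIdeal (K ^ e) (G.obj (op n))) →
        ∃ M : X.Modules, Coh.IsCoh M ∧ ClSub.KilledByIdeal (K ^ e) M ∧ Nonempty (Formal.completion I M ≅ G)))
    (h₂ : ∃ (H : X.Modules) (α : F ⟶ Formal.completion I H), Coh.IsCoh H ∧ Formal2.KerCokerKilledByPow K α) :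
    ∃ M : X.Modules, Coh.IsCoh M ∧ Nonempty (Formal.completion I M ≅ F) := Groth.L16.Exist.exists_algebraization K hF h₁ h₂

end Groth.Agent.S0830
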