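import Groth.Statements.S0831
import Groth.Agent.L16.Exist.PushPull
import Mathlib.AlgebraicGeometry.Morphisms.Proper
-- import your own Groth.Agent.* helpers here

set_option autoImplicit false
universe u
open Formal2

namespace Groth.Agent.S0831

open CategoryTheory CategoryTheory.Limits AlgebraicGeometry Opposite in
/-- For the ideal sheaf J·O_Y of an ideal J of a base ring A (position n of a system holds the quotient
by J^(n+1)). Let Y be a Noetherian scheme over Spec A, K a quasi-coherent ideal sheaf on Y, and f :
X → Y a proper morphism over Spec A which restricts to an isomorphism over the complement of the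
support of K. Let (G_n) be a coherent formal module for J on Y, F a coherent O_X-module, and suppose
the pulled-back system (f^* G_n) is isomorphic to (F/J^nF). Then there is a map of systems (G_n) →
(f_*F/J^n f_*F) whose componentwise kernels and cokernels are annihilated by a fixed power of K. -/
theorem result (A : Type u) [CommRing A] (J : Ideal A) (X Y : Scheme.{u})
    [X.Over (Spec (CommRingCat.of A))] [Y.Over (Spec (CommRingCat.of A))] [IsNoetherian Y]
    (f : X ⟶ Y) [IsProper f] (hf : f ≫ (Y ↘ Spec (CommRingCat.of A)) = X ↘ Spec (CommRingCat.of A))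
    (K : Y.IdealSheafData) (hV : IsIso (f ∣_ K.support.compl))
    (G : ℕᵒᵖ ⥤ Y.Modules) (hG : Formal.IsCohFormal J G) (F : X.Modules) (hF : Coh.IsCoh F)
    (β : (G ⋙ Scheme.Modules.pullback f) ≅ Formal.completion J F) :
    ∃ α : G ⟶ Formal.completion J ((Scheme.Modules.pushforward f).obj F),
      Formal2.KerCokerKilledByPow K α := by
  haveI : IsLocallyNoetherian X := LocallyOfFiniteType.isLocallyNoetherian f
  haveI : CompactSpace X := QuasiCompact.compactSpace_of_compactSpace f
  haveI : AlgebraicGeometry.IsNoetherian X := ⟨⟩
  refine Groth.L16.Exist.exists_killed J f hf hV hG hF (fun m => β.app (op m)) (fun n => ?_) K le_rfl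
  exact (β.hom.naturality (homOfLE (Nat.le_succ n)).op).trans
    (congrArg (β.hom.app (op (n + 1)) ≫ ·) (Groth.L16.Existence.completion_tr J F n))

end Groth.Agent.S0831
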