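import Groth.Statements.S0832
import Groth.Agent.L16.Exist.Systems

set_option autoImplicit false
universe u
open Formal2

namespace Groth.Agent.S0832

open CategoryTheory AlgebraicGeometry Opposite in
/-- First assertion, for the ideal sheaf I·O_X of an ideal I of a base ring A. Let X be a Noetherian
scheme over Spec A and (F_n) a coherent formal module for I such that some fixed power I^c
annihilates every F_n. Then (F_n) is isomorphic to the system (M/I^nM) of a coherent O_X-module M. -/
theorem result (A : Type u) [CommRing A] (I : Ideal A) (X : Scheme.{u})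
    [X.Over (Spec (CommRingCat.of A))] [IsNoetherian X] (F : ℕᵒᵖ ⥤ X.Modules) (hF : Formal.IsCohFormal I F)
    (hc : ∃ c : ℕ, ∀ n : ℕ, Formal.KilledBy (I ^ c) (F.obj (op n))) :
    ∃ M : X.Modules, Coh.IsCoh M ∧ Nonempty (Formal.completion I M ≅ F) := by
  obtain ⟨c, hc⟩ := hc
  open Groth.L16.Existence CategoryTheory CategoryTheory.Limits in
    have hepi : ∀ {m n : ℕ} (h : m ≤ n), Epi (tr F m n h) := fun h => epi_tr hF h
    have hu : ∀ n, ∃ u : F.obj (op c) ⟶ F.obj (op n),
        tr F c (c + n) (Nat.le_add_right c n) ≫ u = tr F n (c + n) (Nat.le_add_left n c) := fun n =>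
      exists_desc hF (Nat.le_add_right c n) _ fun a ha => by
        rw [hc (c + n) a (Ideal.pow_le_pow_right (Nat.le_succ c) ha), zero_comp]
    choose u hu using hu
    have ha : ∀ n, ∃ a, Formal.modPowπ I (n + 1) (F.obj (op c)) ≫ a = u n := fun n =>
      modPow_desc I _ fun b hb => by rw [Groth.L16.Rees.smulMod_naturality, hF.2.1 n b hb, comp_zero]
    choose a ha using ha
    have hv : ∀ n, ∃ v, tr F n (c + n) (Nat.le_add_left n c) ≫ v =
        tr F c (c + n) (Nat.le_add_right c n) ≫ Formal.modPowπ I (n + 1) (F.obj (op c)) := fun n =>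
      exists_desc hF _ _ fun b hb => by
        rw [← Category.assoc, Groth.L16.Rees.smulMod_naturality, Category.assoc,
          Groth.L16.Rees.smulMod_modPowπ I _ hb, comp_zero]
    choose v hv using hv
    refine ⟨F.obj (op c), hF.1 c, nonempty_iso_of_sequence (fun n => ⟨a n, v n, ?_, ?_⟩) fun n => ?_⟩
    · haveI := epi_modPowπ I (n + 1) (F.obj (op c))
      haveI := hepi (Nat.le_add_right c n)
      refine (cancel_epi (Formal.modPowπ I (n + 1) (F.obj (op c)))).1
        ((cancel_epi (tr F c (c + n) (Nat.le_add_right c n))).1 ?_)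
      show _ ≫ Formal.modPowπ I (n + 1) _ ≫ a n ≫ v n =
        _ ≫ Formal.modPowπ I (n + 1) _ ≫ 𝟙 (Formal.modPow I (n + 1) (F.obj (op c)))
      rw [reassoc_of% ha n, reassoc_of% hu n, hv n]
      exact congrArg (_ ≫ ·) (Category.comp_id _).symm
    · haveI := hepi (Nat.le_add_left n c)
      refine (cancel_epi (tr F n (c + n) (Nat.le_add_left n c))).1 ?_
      exact ((Category.assoc _ _ _).symm.trans ((congrArg (· ≫ a n) (hv n)).trans ((Category.assoc _ _ _).trans
        ((congrArg (_ ≫ ·) (ha n)).trans (hu n))))).trans (Category.comp_id _).symm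
    · haveI := epi_modPowπ I (n + 1 + 1) (F.obj (op c))
      haveI := hepi (show c ≤ c + (n + 1) from Nat.le_add_right c (n + 1))
      rw [show (Formal.completion I (F.obj (op c))).map (homOfLE (Nat.le_succ n)).op =
        Formal.modPowTrans I (n + 1) (F.obj (op c)) from completion_tr I _ n]
      refine (cancel_epi (Formal.modPowπ I (n + 1 + 1) (F.obj (op c)))).1
        ((cancel_epi (tr F c (c + (n + 1)) (Nat.le_add_right c (n + 1)))).1 ?_)
      show _ ≫ Formal.modPowπ I (n + 1 + 1) _ ≫ Formal.modPowTrans I (n + 1) _ ≫ a n =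
        _ ≫ Formal.modPowπ I (n + 1 + 1) _ ≫ a (n + 1) ≫ tr F n (n + 1) (Nat.le_succ n)
      rw [reassoc_of% Formal.modPowπ_trans I (n + 1) (F.obj (op c)), ha n, reassoc_of% ha (n + 1),
        reassoc_of% hu (n + 1), ← tr_comp F (Nat.le_add_right c n) (show c + n ≤ c + (n + 1) by omega),
        Category.assoc, hu n, tr_comp, tr_comp]

end Groth.Agent.S0832
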