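import Groth.Statements.S0834
import Groth.Agent.L09.FormalKer.Adic

set_option autoImplicit false
universe u
open Formal2

set_option backward.isDefEq.respectTransparency false
set_option backward.isDefEq.respectTransparency.types false

namespace Groth.Agent.S0834

open CategoryTheory CategoryTheory.Limits AlgebraicGeometry in
/-- Let A be a ring, I ⊆ A an ideal and X a Noetherian scheme over Spec A. Then the full subcategory of
inverse systems of 𝒪_X-modules formed by the coherent formal modules for the ideal sheaf I·𝒪_X has
kernels. (This is the kernel half of the statement that this category is abelian; cokernels are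
componentwise, and abelianness itself is not asserted here.) -/
theorem result (A : Type u) [CommRing A] (I : Ideal A) (X : Scheme.{u})
    [X.Over (Spec (CommRingCat.of A))] [IsNoetherian X] : HasKernels (Formal2.CohFormalCat I X) := by
  obtain ⟨r, g, hg, hk⟩ := Groth.L09.FormalKer.exists_fin_kills X I
  let φ : MvPolynomial (Fin r) (ULift.{u} ℤ) →+* A :=
    MvPolynomial.eval₂Hom ((Int.castRingHom A).comp ULift.ringEquiv.toRingHom) g
  let J : Ideal (MvPolynomial (Fin r) (ULift.{u} ℤ)) := Ideal.span (Set.range MvPolynomial.X)
  haveI : IsNoetherianRing (ULift.{u} ℤ) := isNoetherianRing_of_ringEquiv ℤ ULift.ringEquiv.symm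
  letI : X.Over (Spec (CommRingCat.of (MvPolynomial (Fin r) (ULift.{u} ℤ)))) :=
    ⟨(X ↘ Spec (CommRingCat.of A)) ≫ Spec.map (CommRingCat.ofHom φ)⟩
  have hJ : J.map φ = Ideal.span (Set.range g) := by
    rw [Ideal.map_span]
    congr 1
    ext a
    simp [φ]
  exact Groth.L09.FormalKer.hasKernels_of_base φ rfl (J := J) (hJ.trans_le hg) fun m _ _ f hf =>
    hk m f (hJ ▸ hf)

end Groth.Agent.S0834
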