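import Groth.Statements.S0836
import Groth.Agent.L09.FormalKer.Equiv

set_option autoImplicit false
universe u
open Formal2

set_option backward.isDefEq.respectTransparency false
set_option backward.isDefEq.respectTransparency.types false

namespace Groth.Agent.S0836

open CategoryTheory CategoryTheory.Limits AlgebraicGeometry in
/-- For the ideal sheaf generated by an ideal I of a base ring A (so Z = X ×_A Spec(A/I)). Let f : X' →
X be a flat morphism of Noetherian schemes over Spec A such that the induced morphism X' ×_A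
Spec(A/I) → X ×_A Spec(A/I) is an isomorphism. Then componentwise pullback along f is fully faithful
and essentially surjective from coherent formal modules for I on X to those on X'. -/
theorem result (A : Type u) [CommRing A] (I : Ideal A) (X X' : Scheme.{u})
    [X.Over (Spec (CommRingCat.of A))] [X'.Over (Spec (CommRingCat.of A))] [IsNoetherian X] [IsNoetherian X']
    (f : X' ⟶ X) [Flat f] (hf : f ≫ (X ↘ Spec (CommRingCat.of A)) = X' ↘ Spec (CommRingCat.of A))
    (hZ : IsIso (pullback.map (X' ↘ Spec (CommRingCat.of A)) (CohB1.specQuot I 0)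
      (X ↘ Spec (CommRingCat.of A)) (CohB1.specQuot I 0) f (𝟙 _) (𝟙 _)
      ((Category.comp_id _).trans hf.symm) ((Category.comp_id _).trans (Category.id_comp _).symm))) :
    (∀ G₁ G₂ : ℕᵒᵖ ⥤ X.Modules, Formal.IsCohFormal I G₁ → Formal.IsCohFormal I G₂ →
      Function.Bijective (fun φ : G₁ ⟶ G₂ => Functor.whiskerRight φ (Scheme.Modules.pullback f))) ∧
    (∀ G' : ℕᵒᵖ ⥤ X'.Modules, Formal.IsCohFormal I G' →
      ∃ G : ℕᵒᵖ ⥤ X.Modules, Formal.IsCohFormal I G ∧ Nonempty (G ⋙ Scheme.Modules.pullback f ≅ G')) := by
  exact ⟨fun G₁ G₂ _ h₂ => Groth.L09.FormalKer.bijective_whiskerRight I f hf hZ G₁ G₂ h₂,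
    fun G' h' => Groth.L09.FormalKer.exists_pullback_iso I f hf hZ G' h'⟩

end Groth.Agent.S0836
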