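import Groth.Statements.S0838
import Groth.Agent.L17.FlatPair.PairIso

set_option autoImplicit false
universe u
open Coherent

namespace Groth.Agent.S0838

open CategoryTheory CategoryTheory.Limits AlgebraicGeometry in
/-- Consider a cartesian square X' = X ×_S S' with projections g' : X' → X and f' : X' → S', where f : X
→ S is quasi-compact and quasi-separated. Let F be a quasi-coherent O_X-module and G a
quasi-coherent O_{S'}-module which is flat over S. Then for every i the O_{S'}-modules G ⊗ g^* R^i
f_* F and R^i f'_* (f'^* G ⊗ g'^* F) are isomorphic. (Carries the existence of injective resolutions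
of O-modules as instance arguments; only the existence of an isomorphism is asserted.) -/
theorem result {X S X' S' : Scheme.{u}} (f : X ⟶ S)
    [QuasiCompact f] [QuasiSeparated f] (g : S' ⟶ S) (g' : X' ⟶ X) (f' : X' ⟶ S') (sq : IsPullback g' f' f g)
    [HasInjectiveResolutions X.Modules] [HasInjectiveResolutions X'.Modules]
    (F : X.Modules) (hF : Coh.IsQCoh F) (G : S'.Modules) (hG : Coh.IsQCoh G) (hGf : FlatMod.IsFlatOver g G) (i : ℕ) :
    Nonempty (CohB1.tensorMod G ((Scheme.Modules.pullback g).obj ((Coh.Rpush f i).obj F)) ≅
      (Coh.Rpush f' i).obj (CohB1.tensorMod ((Scheme.Modules.pullback f').obj G) ((Scheme.Modules.pullback g').obj F))) := by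
  haveI : QuasiCompact f' := MorphismProperty.of_isPullback sq ‹QuasiCompact f›
  haveI : QuasiSeparated f' := MorphismProperty.of_isPullback sq ‹QuasiSeparated f›
  haveI : Coh.IsQCoh F := hF
  haveI : Coh.IsQCoh G := hG
  exact Groth.L17.FlatPair.nonempty_iso_tensor f g g' f' G sq hGf i

end Groth.Agent.S0838
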