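import Groth.Statements.S0846
import Groth.Agent.L16.ProjSpace.QuotTwist

set_option autoImplicit false
universe u
open Coherent

namespace Groth.Agent.S0846

open CategoryTheory CategoryTheory.Limits AlgebraicGeometry in
/-- Let A be a Noetherian graded ring (graded by ℕ as an R-algebra) and X = Proj A. Then every coherent
O_X-module is a quotient of a finite coproduct of twisting modules O_X(d_1), …, O_X(d_r). -/
theorem result {R A : Type u} [CommRing R] [CommRing A] [Algebra R A]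
    (𝒜 : ℕ → Submodule R A) [GradedAlgebra 𝒜] [IsNoetherianRing A] (F : (Proj 𝒜).Modules) (hF : Coh.IsCoh F) :
    ∃ (r : ℕ) (d : Fin r → ℤ) (φ : (∐ fun j : Fin r => Twist.twist 𝒜 (d j)) ⟶ F), Epi φ := by
  obtain ⟨d, hd, ι, hι, f, hf⟩ := Groth.L16.ProjTwist.exists_cover_common_degree 𝒜
  haveI : Coh.IsQCoh F := hF.1
  obtain ⟨n₀, h⟩ := Groth.L16.ProjTwist.exists_epi_neg_twists 𝒜 f hd hf F hF.2
  obtain ⟨k, p, hp⟩ := h n₀ le_rfl
  exact ⟨k, fun _ => -((n₀ * d : ℕ) : ℤ), p, hp⟩

end Groth.Agent.S0846
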