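import Groth.Statements.S0850
import Groth.Agent.Lead.GrPres.Iso
import Groth.Agent.L17.SerreCriterion
import Groth.Agent.L17.ToAbRpush

set_option autoImplicit false
universe u
open Coherent

namespace Groth.Agent.S0850

open CategoryTheory AlgebraicGeometry in
/-- The essential-surjectivity content of the equivalence (finite graded modules modulo irrelevant ones
≃ coherent modules): let A be a Noetherian graded ring (graded by ℕ as an R-algebra) and X = Proj A.
Then every coherent O_X-module is isomorphic to the sheaf M~ associated to some finite graded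
A-module M (graded in nonnegative degrees). -/
theorem result {R A : Type u} [CommRing R] [CommRing A] [Algebra R A]
    (𝒜 : ℕ → Submodule R A) [GradedAlgebra 𝒜] [IsNoetherianRing A] (F : (Proj 𝒜).Modules) (hF : Coh.IsCoh F) :
    ∃ (M : Type u) (_ : AddCommGroup M) (_ : Module R M) (_ : Module A M) (_ : IsScalarTower R A M)
      (ℳ : ℕ → Submodule R M) (_ : DirectSum.Decomposition ℳ) (_ : SetLike.GradedSMul 𝒜 ℳ),
      Module.Finite A M ∧ Nonempty (GrTilde.tilde 𝒜 ℳ 0 ≅ F) := by
  classical
  obtain ⟨d, hd, ι, hι, f, hf⟩ := Groth.L16.ProjTwist.exists_cover_common_degree 𝒜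
  haveI := hι
  haveI : Coh.IsQCoh F := hF.1
  obtain ⟨n₀, h⟩ := Groth.L16.ProjTwist.exists_epi_neg_twists 𝒜 f hd hf F hF.2
  obtain ⟨k, p, hp⟩ := h n₀ le_rfl
  let T : Fin k → (Proj 𝒜).Modules := fun _ => Twist.twist 𝒜 (-((n₀ * d : ℕ) : ℤ))
  let q : Fin k → (Twist.twist 𝒜 (-((n₀ * d : ℕ) : ℤ)) ⟶ F) := fun j => Limits.Sigma.ι T j ≫ p
  refine ⟨Groth.Lead.GrPres.Quot' q, inferInstance, inferInstance, inferInstance, inferInstance,
    Groth.Lead.GrPres.gr q, inferInstance, inferInstance, inferInstance, ?_⟩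
  refine Groth.Lead.GrPres.nonempty_iso q hd f hf fun U g x hx => ?_
  haveI := hp
  haveI hpe : Epi ((Groth.L17.toAbShF (Proj 𝒜)).map p) := inferInstance
  rw [← CategoryTheory.Sheaf.isLocallySurjective_iff_epi'] at hpe
  obtain ⟨V, hVU, ⟨s, hs⟩, hxV⟩ := (TopCat.Presheaf.isLocallySurjective_iff (X := (Proj 𝒜).toTopCat)
    ((Groth.L17.toAbShF (Proj 𝒜)).map p).hom).1 hpe U g x hx
  let pr : ∀ j, (∐ T) ⟶ T j := fun j =>
    Limits.Sigma.desc fun i => if e : i = j then eqToHom (congrArg T e) else 0
  have hid : 𝟙 (∐ T) = ∑ j, pr j ≫ Limits.Sigma.ι T j := by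
    refine Limits.Sigma.hom_ext _ _ fun i => ?_
    rw [Category.comp_id, Preadditive.comp_sum, Finset.sum_eq_single i]
    · simp [pr]
    · intro j _ hj
      simp [pr, Ne.symm hj]
    · simp
  refine ⟨V, hVU, fun j => (pr j).app V s, hxV, ?_⟩
  have happ : ∀ (S : Finset (Fin k)), (∑ j ∈ S, pr j ≫ q j).app V s = ∑ j ∈ S, (q j).app V ((pr j).app V s) := by
    intro S
    induction S using Finset.induction with
    | empty => simp only [Finset.sum_empty]; rfl
    | insert j S hj ih =>
      rw [Finset.sum_insert hj, Finset.sum_insert hj, Scheme.Modules.Hom.add_app, ← ih]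
      rfl
  have hp' : p = ∑ j, pr j ≫ q j := by
    refine (Category.id_comp p).symm.trans ?_
    rw [hid, Preadditive.sum_comp]
    exact Finset.sum_congr rfl fun j _ => Category.assoc _ _ _
  refine Eq.trans hs.symm (Eq.trans ?_ (happ Finset.univ))
  exact congrArg (fun φ => φ.app V s) hp'

end Groth.Agent.S0850
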