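import Groth.Statements.S0852
import Groth.Agent.L17.FormalLimit

set_option autoImplicit false
universe u
open Formal2

namespace Groth.Agent.S0852

open CategoryTheory CategoryTheory.Limits AlgebraicGeometry Opposite in
/-- Part (4), for the ideal sheaf generated by a finitely generated ideal I of a base ring A. Let X be a
scheme over Spec A and (G_n) an inverse system of quasi-coherent O_X-modules with G_n killed by
I^(n+1) and G_n = G_{n+1}/I^(n+1)G_{n+1} (indices shifted by one), and let F = lim G_n in the
category of O_X-modules. Then each projection F → G_n identifies G_n with F/I^(n+1)F. -/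
theorem result (A : Type u) [CommRing A] (I : Ideal A) (hI : I.FG) (X : Scheme.{u})
    [X.Over (Spec (CommRingCat.of A))] (G : ℕᵒᵖ ⥤ X.Modules) (hG : Formal2.IsQCohFormal I G) (n : ℕ) :
    ∃ h : Formal.smulFamily (I ^ (n + 1)) (limit G) ≫ limit.π G (op n) = 0,
      IsIso (cokernel.desc _ _ h) := by
  exact Groth.L17.FormalLimit.isIso_limit_desc G I hI
    (fun U hU => Groth.L17.FormalLimit.formal_surjective hG U hU)
    (fun U hU n x => Groth.L17.FormalLimit.formal_ker hG hI U hU n x) n

end Groth.Agent.S0852
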