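import Groth.Statements.S0854
import Groth.Agent.L10.RestrExact

set_option autoImplicit false
set_option backward.defeqAttrib.useBackward true
set_option backward.isDefEq.respectTransparency false
universe u
open CategoryTheory
open CohTop

namespace Groth.Agent.S0854

open TopologicalSpace in
/-- For abelian sheaves, one degree at a time: for a continuous map f : X -> Y, an abelian sheaf F on X,
an open V of Y and g : f^{-1}(V) -> V the restriction of f, the restriction of R^p f_* F to V is
isomorphic to R^p g_* (F|_{f^{-1} V}). -/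
theorem result {X Y : TopCat.{u}} (f : X ⟶ Y) (F : CohTop.Ab X)
    (V : Opens Y) (p : ℕ) :
    Nonempty (CohTop.restr ((CohTop.Rpush f p).obj F) V ≅
      (CohTop.Rpush (TopCat.ofHom ⟨(V : Set Y).restrictPreimage f, f.hom.continuous.restrictPreimage⟩ :
          TopCat.of ((Opens.map f).obj V) ⟶ TopCat.of V) p).obj
        (CohTop.restr F ((Opens.map f).obj V))) := by
  let g : TopCat.of ((Opens.map f).obj V) ⟶ TopCat.of V :=
    TopCat.ofHom ⟨(V : Set Y).restrictPreimage f, f.hom.continuous.restrictPreimage⟩
  have hO : ∀ O : Opens (TopCat.of V),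
      (Groth.L10.Restr.ofun ((Opens.map f).obj V)).obj ((Opens.map g).obj O) =
        (Opens.map f).obj ((Groth.L10.Restr.ofun V).obj O) := fun O => by
    ext x
    constructor
    · rintro ⟨p, hp, rfl⟩
      exact ⟨g p, hp, rfl⟩
    · rintro ⟨q, hq, hqx⟩
      refine ⟨⟨x, ?_⟩, ?_, rfl⟩
      · show f x ∈ (V : Set Y)
        exact hqx ▸ q.2
      · show g ⟨x, _⟩ ∈ O
        exact (Subtype.ext hqx : q = g ⟨x, _⟩) ▸ hq
  let c : CohTop.restrFunctor ((Opens.map f).obj V) ⋙ CohTop.push g ≅ CohTop.push f ⋙ CohTop.restrFunctor V :=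
    NatIso.ofComponents
      (fun G => (fullyFaithfulSheafToPresheaf _ _).preimageIso
        (NatIso.ofComponents (fun O => G.obj.mapIso (eqToIso (congrArg Opposite.op (hO O.unop))))
          (fun {O O'} i => by
            show G.obj.map _ ≫ G.obj.map _ = G.obj.map _ ≫ G.obj.map _
            rw [← Functor.map_comp, ← Functor.map_comp]
            exact congrArg G.obj.map (Quiver.Hom.unop_inj (Subsingleton.elim _ _)))))
      (fun {G G'} φ => Sheaf.hom_ext (NatTrans.ext (funext fun O =>
        (φ.hom.naturality (eqToIso (congrArg Opposite.op (hO O.unop))).hom).symm)))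
  haveI := Groth.L10.Restr.preservesFiniteLimits_restr ((Opens.map f).obj V)
  haveI := Groth.L10.Restr.preservesFiniteColimits_restr ((Opens.map f).obj V)
  haveI := Groth.L10.Restr.preservesFiniteLimits_restr V
  haveI := Groth.L10.Restr.preservesFiniteColimits_restr V
  haveI hadd : (CohTop.push g).Additive := { }
  obtain ⟨e⟩ := Groth.L10.Restr.nonempty_rightDerived_exact_comp (CohTop.restrFunctor ((Opens.map f).obj V))
    (fun I _ => Groth.L10.Restr.injective_restr _ I) (CohTop.push g) F p
  exact ⟨(Groth.L10.SiteCoh.rightDerivedCompIso (CohTop.push f) (CohTop.restrFunctor V) p F).symm ≪≫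
    ((Groth.L10.SiteCoh.rightDerivedCongr c p).app F).symm ≪≫ e⟩

end Groth.Agent.S0854
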