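import Groth.Statements.S0856
import Groth.Agent.L10.InjTAR

set_option autoImplicit false
set_option backward.defeqAttrib.useBackward true
set_option backward.isDefEq.respectTransparency false
universe u
open CategoryTheory
open CohSite

namespace Groth.Agent.S0856

open Opposite in
/-- Let (C, O) be a ringed site, a : U' -> U a monomorphism of C and I an injective sheaf of O-modules.
Then the restriction map I(U) -> I(U') is surjective. -/
theorem result {C : Type u} [SmallCategory C]
    {J : GrothendieckTopology C} (O : Sheaf J RingCat.{u}) (I : SheafOfModules.{u} O) [Injective I]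
    {U U' : C} (a : U' ⟶ U) [Mono a] : Function.Surjective (I.val.map a.op) := by
  intro s
  let F := (SheafOfModules.toSheaf O).obj I
  let e := fun V : C => ((Groth.L10.SiteFr.adj J).homEquiv (Groth.L10.SiteFr.rep J V) F).trans
    (Groth.L10.SiteFr.repEquiv V ((Groth.L10.SiteFr.U J).obj F))
  have : Mono (Groth.L10.SiteFr.repMap J a) := inferInstance
  obtain ⟨w, hw⟩ := Groth.L10.Nerve.surjective_restrict (Groth.L10.InjTAR.isTotallyAcyclic O I)
    (Groth.L10.SiteFr.repMap J a) ((e U').symm s)
  refine ⟨e U w, ?_⟩
  have h : e U' ((Groth.L10.SiteFr.fr J).map (Groth.L10.SiteFr.repMap J a) ≫ w) = F.obj.map a.op (e U w) := by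
    simp only [e, Equiv.trans_apply, Adjunction.homEquiv_naturality_left]
    exact Groth.L10.SiteFr.repEquiv_map a _
  exact h.symm.trans ((congrArg (e U') hw).trans ((e U').apply_symm_apply s))

end Groth.Agent.S0856
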