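import Groth.Statements.S0857
import Groth.Agent.L10.SitePush

set_option autoImplicit false
universe u
open CategoryTheory
open CohSite

namespace Groth.Agent.S0857

open Opposite CategoryTheory.Limits in
/-- For a family of abelian sheaves F_i on a site and an object U, the map H^1(U, ∏ F_i) -> ∏ H^1(U,
F_i) induced by the projections is injective. (The degree-zero part of the published statement, that
sections of a product are the product of sections, is not restated.) -/
theorem result {C : Type u} [SmallCategory C] {J : GrothendieckTopology C}
    {I : Type u} (F : I → Sheaf J AddCommGrpCat.{u}) (U : C) :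
    Function.Injective (fun (x : CohSite.HU (∏ᶜ F) 1 U) (i : I) =>
      (((Sheaf.cohomologyPresheafFunctor J 1).map (Pi.π F i)).app (op U)).hom x) := by
  intro x y h
  apply sub_eq_zero.1
  exact Groth.L10.SiteCoh.h1_product_injective F U (x - y) fun i =>
    (map_sub (((Sheaf.cohomologyPresheafFunctor J 1).map (Pi.π F i)).app (op U)).hom x y).trans (sub_eq_zero.2 (congrFun h i))

end Groth.Agent.S0857
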