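import Groth.Statements.S0864
import Groth.Agent.L10.SitePush

set_option autoImplicit false
universe u
open CategoryTheory
open CohSite

namespace Groth.Agent.S0864

/-- A totally acyclic abelian sheaf F on a site satisfies H^p(U, F) = 0 for every object U and every p >
0. -/
theorem result {C : Type u} [SmallCategory C] {J : GrothendieckTopology C}
    (F : Sheaf J AddCommGrpCat.{u}) (hF : CohCx.IsTotallyAcyclic F) (U : C) (p : ℕ) :
    Subsingleton (CohSite.HU F (p + 1) U) := by
  have := hF ((presheafToSheaf J (Type u)).obj (yoneda.obj U)) p
  exact @Equiv.subsingleton _ _ ((Abelian.extFunctor (p+1)).mapIso (Groth.L10.SiteCoh.freeSheafifyIso (J := J) (yoneda.obj U)).op |>.app F |>.addCommGroupIsoToAddEquiv).toEquiv this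

end Groth.Agent.S0864
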