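import Groth.Statements.S0867
import Groth.Agent.L10.ClassResEmb
import Groth.Agent.L10.Proper.Profinite

set_option autoImplicit false
set_option backward.defeqAttrib.useBackward true
set_option backward.isDefEq.respectTransparency false
universe u
open CategoryTheory
open CohTop

namespace Groth.Agent.S0867

/-- For a complex F of abelian sheaves on X with F^n = 0 for n < a there are a complex G with G^n = 0
for n < a whose terms are all flasque and a morphism F -> G which is a quasi-isomorphism and which
induces, at every point x, a homotopy equivalence between the complexes of stalks F_x -> G_x. -/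
theorem result {X : TopCat.{u}} (F : CochainComplex (CohTop.Ab X) ℤ)
    (a : ℤ) (hF : F.IsStrictlyGE a) :
    ∃ (G : CochainComplex (CohTop.Ab X) ℤ) (φ : F ⟶ G), G.IsStrictlyGE a ∧ QuasiIso φ ∧
      (∀ n : ℤ, TopCat.Sheaf.IsFlasque (G.X n)) ∧
      ∀ x : X, ∃ e : HomotopyEquiv ((CohCx.stalkCx x).obj F) ((CohCx.stalkCx x).obj G),
        e.hom = (CohCx.stalkCx x).map φ := by
  let e : ∀ M : CohTop.Ab X, M ⟶ _ := fun M =>
    (TopCat.Sheaf.pullbackPushforwardAdjunction AddCommGrpCat.{u} (TopCat.adj₁.counit.app X)).unit.app M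
  let E : Groth.L10.ClassResEmb.Emb (fun M : CohTop.Ab X => TopCat.Sheaf.IsFlasque M) :=
    { Y := fun M => (CohTop.push (TopCat.adj₁.counit.app X)).obj ((CohTop.pull (TopCat.adj₁.counit.app X)).obj M)
      ι := e
      cls := fun M => (Groth.L10.Proper.godement_first M).2
      mono := fun M => (Groth.L10.Proper.godement_first M).1 }
  have : ObjectProperty.IsClosedUnderIsomorphisms (C := CohTop.Ab X) (fun M => TopCat.Sheaf.IsFlasque M) := ⟨fun {M N} i hM => ⟨fun {U V} r => by
    have := hM.epi r
    have h : N.obj.map r = (((sheafToPresheaf _ _).mapIso i).app U).inv ≫ M.obj.map r ≫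
        (((sheafToPresheaf _ _).mapIso i).app V).hom := by
      rw [Iso.eq_inv_comp]
      exact (i.hom.hom.naturality r).symm
    rw [h]
    exact epi_comp _ _⟩⟩
  obtain ⟨G, φ, hG, hfl, hq, hS⟩ := Groth.L10.ClassResEmb.exists_res_retr.{u, u + 1} _ E
    (fun Z hZ => by exact ⟨fun i => by
      exact (((sheafToPresheaf _ _).map_isZero hZ).obj _).epi _⟩) F a
  refine ⟨G, φ, hG, hq, hfl, fun x => ?_⟩
  let S := sheafToPresheaf (Opens.grothendieckTopology X) AddCommGrpCat.{u} ⋙
    TopCat.Presheaf.stalkFunctor AddCommGrpCat.{u} x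
  have : Limits.PreservesFiniteColimits S :=
    inferInstanceAs (Limits.PreservesFiniteColimits (TopCat.Sheaf.forget AddCommGrpCat.{u} X ⋙ TopCat.Presheaf.stalkFunctor AddCommGrpCat.{u} x))
  have : Limits.PreservesBinaryBiproducts S := Limits.preservesBinaryBiproducts_of_preservesBinaryCoproducts S
  have : S.Additive := Functor.additive_of_preservesBinaryBiproducts S
  refine hS S fun M => ?_
  let f := TopCat.adj₁.counit.app X
  obtain ⟨x', hx'⟩ : ∃ x' : (forget TopCat.{u} ⋙ TopCat.discrete).obj X, f x' = x := ⟨x, rfl⟩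
  subst hx'
  have hiso : IsIso (Groth.L10.Proper.stalkComp f (e M) x') :=
    (ConcreteCategory.isIso_iff_bijective _).2 (Groth.L10.Proper.isPullUnit_unit f M x')
  exact IsSplitMono.mk' ⟨TopCat.Presheaf.stalkPushforward AddCommGrpCat.{u} f _ x' ≫
    inv (Groth.L10.Proper.stalkComp f (e M) x'), by
      rw [← Category.assoc]
      exact IsIso.hom_inv_id (Groth.L10.Proper.stalkComp f (e M) x')⟩

end Groth.Agent.S0867
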