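import Groth.Statements.S0871
import Groth.Agent.L10.RestrExact
import Groth.Agent.L10.CechHDU.Inj
import Groth.Agent.L10.KInjRes.Resolution
import Groth.Agent.L10.InjPreserved

set_option autoImplicit false
set_option backward.defeqAttrib.useBackward true
set_option backward.isDefEq.respectTransparency false
set_option backward.isDefEq.respectTransparency.types false
universe u
open CategoryTheory
open CohTop

namespace Groth.Agent.S0871

open TopologicalSpace CategoryTheory.Limits in
/-- For an object K of the derived category of abelian sheaves on X and an open U, H^p(U, K) is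
isomorphic to H^p(U, K|_U), where K|_U is the image of K under the functor on derived categories
induced by the (exact) restriction to U. Exactness of restriction is assumed through instance
arguments (true, but not recorded by Mathlib in this generality). -/
theorem result {X : TopCat.{u}} (U : Opens X)
    [HasDerivedCategory.{u} (CohTop.Ab X)] [HasDerivedCategory.{u} (CohTop.Ab (TopCat.of U))]
    [PreservesFiniteLimits (CohTop.restrFunctor U)] [PreservesFiniteColimits (CohTop.restrFunctor U)]
    (K : DerivedCategory (CohTop.Ab X)) (p : ℤ) :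
    Nonempty (CohCx.HDU K p U ≃+ CohCx.HDU ((CohTop.restrFunctor U).mapDerivedCategory.obj K) p ⊤) := by
  let M := DerivedCategory.Q.objPreimage K
  let e : DerivedCategory.Q.obj M ≅ K := DerivedCategory.Q.objObjPreimageIso K
  obtain ⟨I, φ, hI, hφ, -, -⟩ := Groth.L10.KInjRes.exists_resolution M
  let R := (CohTop.restrFunctor U).mapHomologicalComplex (ComplexShape.up ℤ)
  haveI := Groth.L10.Restr.isRightAdjoint_restr U
  haveI : CochainComplex.IsKInjective (R.obj I) := Groth.L10.InjPreserved.isKInjective_map
    (Adjunction.ofIsRightAdjoint (CohTop.restrFunctor U)) (fun I _ => Groth.L10.Restr.injective_restr U I) I hI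
  haveI : QuasiIso (R.map φ) := HomologicalComplex.quasiIso_map_of_preservesHomology _ _
  let V : Opens X := (Groth.L10.Restr.ofun U).obj ⊤
  have hV : V = U := by
    ext x
    exact ⟨fun ⟨q, _, hq⟩ => hq ▸ q.2, fun hx => ⟨⟨x, hx⟩, trivial, rfl⟩⟩
  let f₁ : Groth.L10.CechHDU.Z I V p →+ CohCx.HDU (DerivedCategory.Q.obj M) p V := Groth.L10.CechHDU.cls φ V p
  let f₂ : Groth.L10.CechHDU.Z I V p →+ CohCx.HDU (DerivedCategory.Q.obj (R.obj M)) p (⊤ : Opens (TopCat.of U)) :=
    Groth.L10.CechHDU.cls (R.map φ) ⊤ p
  have hker : f₁.ker = f₂.ker := by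
    ext s
    exact (Groth.L10.CechHDU.cls_eq_zero_iff φ V p (p - 1) (by omega) s).trans
      (Groth.L10.CechHDU.cls_eq_zero_iff (R.map φ) ⊤ p (p - 1) (by omega) s).symm
  let a : CohCx.HDU (DerivedCategory.Q.obj M) p V ≃+
      CohCx.HDU (DerivedCategory.Q.obj (R.obj M)) p (⊤ : Opens (TopCat.of U)) :=
    (QuotientAddGroup.quotientKerEquivOfSurjective f₁ (Groth.L10.CechHDU.cls_surjective φ V p)).symm.trans
      ((QuotientAddGroup.quotientAddEquivOfEq hker).trans
        (QuotientAddGroup.quotientKerEquivOfSurjective f₂ (Groth.L10.CechHDU.cls_surjective (R.map φ) ⊤ p)))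
  let q : (CohTop.restrFunctor U).mapDerivedCategory.obj K ≅ DerivedCategory.Q.obj (R.obj M) :=
    (CohTop.restrFunctor U).mapDerivedCategory.mapIso e.symm ≪≫ (CohTop.restrFunctor U).mapDerivedCategoryFactors.app M
  let b₁ : CohCx.HDU K p V ≃+ CohCx.HDU (DerivedCategory.Q.obj M) p V :=
    Groth.L10.Restr.postEquiv ((shiftFunctor (DerivedCategory (CohTop.Ab X)) p).mapIso e.symm) _
  let b₂ : CohCx.HDU (DerivedCategory.Q.obj (R.obj M)) p (⊤ : Opens (TopCat.of U)) ≃+
      CohCx.HDU ((CohTop.restrFunctor U).mapDerivedCategory.obj K) p ⊤ :=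
    Groth.L10.Restr.postEquiv ((shiftFunctor (DerivedCategory (CohTop.Ab (TopCat.of U))) p).mapIso q.symm) _
  exact ⟨(AddEquiv.cast (M := fun W => CohCx.HDU K p W) hV.symm).trans (b₁.trans (a.trans b₂))⟩

end Groth.Agent.S0871
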