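import Groth.Statements.S0873
import Groth.Agent.L10.RelMV

set_option autoImplicit false
set_option backward.defeqAttrib.useBackward true
set_option backward.isDefEq.respectTransparency false
universe u
open CategoryTheory
open CohTop

namespace Groth.Agent.S0873

open TopologicalSpace CategoryTheory.Limits in
/-- Let f : X -> Y be continuous, X = U ∪ V an open covering, and a, b, c the restrictions of f to U, V,
U ∩ V. For an abelian sheaf F there are connecting maps making the long sequence 0 -> f_* F ->
a_*(F|_U) ⊕ b_*(F|_V) -> c_*(F|_{U ∩ V}) -> R^1 f_* F -> R^1 a_*(F|_U) ⊕ R^1 b_*(F|_V) -> ... exact,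
where the unnamed maps are induced (sum, resp. difference) by restriction of sections and R^n
a_*(F|_U) denotes the n-th right derived functor of F ↦ a_*(F|_U) (and similarly for b, c).
Functoriality in F is not asserted. -/
theorem result {X Y : TopCat.{u}} (f : X ⟶ Y) (U V : Opens X) (hUV : U ⊔ V = ⊤)
    (F : CohTop.Ab X) :
    ∃ δ : ∀ n : ℕ, (CohCx.RpushOn f (U ⊓ V) n).obj F ⟶ (CohTop.Rpush f (n + 1)).obj F,
      Mono (biprod.lift ((NatTrans.rightDerived (CohCx.pushToRestrPush f U) 0).app F)
        ((NatTrans.rightDerived (CohCx.pushToRestrPush f V) 0).app F)) ∧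
      ∀ n : ℕ,
        (ComposableArrows.mk₂
          (biprod.lift ((NatTrans.rightDerived (CohCx.pushToRestrPush f U) n).app F)
            ((NatTrans.rightDerived (CohCx.pushToRestrPush f V) n).app F))
          (biprod.desc
            ((NatTrans.rightDerived (CohCx.restrPushToRestrPush f (inf_le_left : U ⊓ V ≤ U)) n).app F)
            (-((NatTrans.rightDerived (CohCx.restrPushToRestrPush f (inf_le_right : U ⊓ V ≤ V)) n).app F)))).Exact ∧
        (ComposableArrows.mk₂
          (biprod.desc
            ((NatTrans.rightDerived (CohCx.restrPushToRestrPush f (inf_le_left : U ⊓ V ≤ U)) n).app F)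
            (-((NatTrans.rightDerived (CohCx.restrPushToRestrPush f (inf_le_right : U ⊓ V ≤ V)) n).app F)))
          (δ n)).Exact ∧
        (ComposableArrows.mk₂ (δ n)
          (biprod.lift ((NatTrans.rightDerived (CohCx.pushToRestrPush f U) (n + 1)).app F)
            ((NatTrans.rightDerived (CohCx.pushToRestrPush f V) (n + 1)).app F))).Exact := by
  exact Groth.L10.RelMV.exists_les_mv f U V hUV F

end Groth.Agent.S0873
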