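import Groth.Statements.S0877
import Groth.Agent.L10.HDUAcyclic

set_option autoImplicit false
universe u
open CategoryTheory
open CohSite

namespace Groth.Agent.S0877

open Opposite in
/-- Let K be an object of the derived category of abelian sheaves on a site and B a class of objects
such that every object has a covering by members of B and H^p(U, H^q(K)) = 0 for all p > 0, all q
and all U in B. Then for U in B and all q, H^q(U, K) is isomorphic to the group of sections of the
cohomology sheaf H^q(K) over U. -/
theorem result {C : Type u} [SmallCategory C]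
    {J : GrothendieckTopology C} [HasDerivedCategory.{u} (Sheaf J AddCommGrpCat.{u})]
    (K : DerivedCategory (Sheaf J AddCommGrpCat.{u})) (B : Set C)
    (hB : ∀ U : C, ∃ (ι : Type u) (Y : ι → C) (f : ∀ i, Y i ⟶ U), Sieve.ofArrows Y f ∈ J U ∧ ∀ i, Y i ∈ B)
    (h : ∀ U ∈ B, ∀ (p : ℕ) (q : ℤ), Subsingleton (CohSite.HU (CohCx.HD K q) (p + 1) U))
    (U : C) (hU : U ∈ B) (q : ℤ) :
    Nonempty (CohCx.HDU K q U ≃+ (CohCx.HD K q).obj.obj (op U)) := by
  exact Groth.L10.HDUAcyclic.nonempty_HDU_equiv K B hB h U hU q

end Groth.Agent.S0877
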