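import Groth.Statements.S0878
import Groth.Agent.L10.Rlim.Single
set_option backward.isDefEq.respectTransparency false
-- import your own Groth.Agent.* helpers here

set_option autoImplicit false
universe u
open CategoryTheory
open CohSite

namespace Groth.Agent.S0878

open Opposite CategoryTheory.Limits in
/-- Let (K_n) be an inverse system in the derived category of abelian sheaves on a site with a derived
limit L, and B a class of objects such that every object is covered by members of B and, for U in B
and all q, H^p(U, H^q(K_n)) = 0 for p > 0 and the system of sections H^q(K_n)(U) has vanishing R^1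
lim. Then H^q(L) is isomorphic to lim_n H^q(K_n) for every q. -/
theorem result {C : Type u} [SmallCategory C]
    {J : GrothendieckTopology C} [HasDerivedCategory.{u} (Sheaf J AddCommGrpCat.{u})]
    (K : ℕ → DerivedCategory (Sheaf J AddCommGrpCat.{u})) (t : ∀ n, K (n + 1) ⟶ K n) [HasProduct K]
    (L : DerivedCategory (Sheaf J AddCommGrpCat.{u})) (hL : DCoh.IsRlim K t L) (B : Set C)
    (hB : ∀ U : C, ∃ (ι : Type u) (Y : ι → C) (f : ∀ i, Y i ⟶ U), Sieve.ofArrows Y f ∈ J U ∧ ∀ i, Y i ∈ B)
    (h1 : ∀ U ∈ B, ∀ (p : ℕ) (q : ℤ) (n : ℕ), Subsingleton (CohSite.HU (CohCx.HD (K n) q) (p + 1) U))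
    (h2 : ∀ U ∈ B, ∀ (q : ℤ), CohCx.LimOneIsZero (fun n => (CohCx.HD (K n) q).obj.obj (op U))
      (fun n => (((DerivedCategory.homologyFunctor _ q).map (t n)).hom.app (op U)).hom))
    (q : ℤ) :
    Nonempty (CohCx.HD L q ≅ limit (CohCx.opSequence (fun n => CohCx.HD (K n) q)
      (fun n => (DerivedCategory.homologyFunctor _ q).map (t n)))) := by
  obtain ⟨a, ha⟩ := Groth.L10.Rlim.exists_via hL
  exact Groth.L10.Rlim.nonempty_iso_limit B hB h1 h2 ha q

end Groth.Agent.S0878
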