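import Groth.Statements.S0880
import Groth.Agent.L10.Rlim.Inj

set_option autoImplicit false
universe u
open CategoryTheory
open CohSite

namespace Groth.Agent.S0880

open Opposite CategoryTheory.Limits in
/-- Let (K_n) be an inverse system in the derived category of abelian sheaves on a site with derived
limit L through maps a_n : L -> K_n, V an object and m an integer. Suppose there is an index n(V)
such that every covering sieve of V contains a covering family {V_i -> V} with, for each i, (1)
vanishing R^1 lim of the system H^{m-1}(V_i, K_n) and (2) H^m(V_i, K_n) -> H^m(V_i, K_{n(V)})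
injective for n >= n(V). Then H^m(L)(V) -> H^m(K_{n(V)})(V) is injective. -/
theorem result {C : Type u} [SmallCategory C]
    {J : GrothendieckTopology C} [HasDerivedCategory.{u} (Sheaf J AddCommGrpCat.{u})]
    (K : ℕ → DerivedCategory (Sheaf J AddCommGrpCat.{u})) (t : ∀ n, K (n + 1) ⟶ K n) [HasProduct K]
    (L : DerivedCategory (Sheaf J AddCommGrpCat.{u})) (a : ∀ n, L ⟶ K n) (hL : CohCx.IsRlimVia K t L a)
    (V : C) (m : ℤ) (nV : ℕ)
    (h : ∀ T ∈ J V, ∃ (ι : Type u) (Y : ι → C) (f : ∀ i, Y i ⟶ V), (∀ i, T.arrows (f i)) ∧
      Sieve.ofArrows Y f ∈ J V ∧ ∀ i,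
        CohCx.LimOneIsZero (fun n => CohCx.HDU (K n) (m - 1) (Y i))
          (fun n => Preadditive.rightComp _ ((shiftFunctor _ (m - 1)).map (t n))) ∧
        ∀ k : ℕ, Function.Injective
          (Preadditive.rightComp _ ((shiftFunctor _ m).map (CohCx.transition K t nV k)) :
            CohCx.HDU (K (nV + k)) m (Y i) → CohCx.HDU (K nV) m (Y i))) :
    Function.Injective (((DerivedCategory.homologyFunctor _ m).map (a nV)).hom.app (op V)) := by
  exact Groth.L10.Rlim.injective_app hL V m nV (fun T hT => h T hT)

end Groth.Agent.S0880
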