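import Groth.Statements.S0883
import Groth.Agent.L10.NegVanish

set_option autoImplicit false
universe u
open CategoryTheory
open CohTop

namespace Groth.Agent.S0883

open TopologicalSpace in
/-- Part (1) (abelian sheaves; the assertion about Rf_* K is not included): given a continuous map f : X
-> Y, a basis B of opens of Y and an object K of the derived category of abelian sheaves on X such
that H^i(f^{-1}V, K) = 0 for all i < 0 and V in B. Then H^i(f^{-1}V, K) = 0 for i < 0 and every open
V of Y, and the presheaf V ↦ H^0(f^{-1}V, K) is a sheaf on Y. -/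
theorem result {X Y : TopCat.{u}} (f : X ⟶ Y)
    [HasDerivedCategory.{u} (CohTop.Ab X)] (B : Set (Opens Y)) (hB : Opens.IsBasis B)
    (K : DerivedCategory (CohTop.Ab X))
    (h : ∀ V ∈ B, ∀ i : ℤ, i < 0 → Subsingleton (CohCx.HDU K i ((Opens.map f).obj V))) :
    (∀ (V : Opens Y) (i : ℤ), i < 0 → Subsingleton (CohCx.HDU K i ((Opens.map f).obj V))) ∧
    Presheaf.IsSheaf (Opens.grothendieckTopology Y) ((Opens.map f).op ⋙ CohCx.HDUPresheaf K 0) := by
  exact Groth.L10.NegVanish.s0883 f B hB K h

end Groth.Agent.S0883
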