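import Groth.Statements.S0884
import Groth.Agent.L10.Spectral.GenClosed

set_option autoImplicit false
set_option backward.defeqAttrib.useBackward true
set_option backward.isDefEq.respectTransparency false
set_option backward.defeqAttrib.useBackward true
set_option backward.isDefEq.respectTransparency false
universe u
open CategoryTheory
open CohTop

namespace Groth.Agent.S0884

open TopologicalSpace Opposite CategoryTheory.Limits in
/-- Let f : X -> Y be a spectral map of spectral spaces, y a point of Y, E ⊆ Y the set of points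
specializing to y, and F an abelian sheaf on X. Then the stalk (R^p f_* F)_y is isomorphic to
H^p(f^{-1}(E), F|_{f^{-1}(E)}), the cohomology of the pullback of F to the subspace f^{-1}(E). -/
theorem result {X Y : TopCat.{u}} [SpectralSpace X] [SpectralSpace Y]
    (f : X ⟶ Y) (hf : IsSpectralMap f) (y : Y) (F : CohTop.Ab X) (p : ℕ) :
    Nonempty (CohTop.stalk ((CohTop.Rpush f p).obj F) y ≃+
      CohTop.H ((CohTop.pull (TopCat.ofHom ⟨Subtype.val, continuous_subtype_val⟩ :
          TopCat.of {x : X | y ∈ closure {f x}} ⟶ X)).obj F) p) := by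
  let j : TopCat.of {x : X | y ∈ closure {f x}} ⟶ X := TopCat.ofHom ⟨Subtype.val, continuous_subtype_val⟩
  let o : (OpenNhds y)ᵒᵖ ⥤ (Opens X)ᵒᵖ := (OpenNhds.inclusion y).op ⋙ (Opens.map f).op
  have hj : Topology.IsInducing j := Topology.IsInducing.subtypeVal
  have hq : ∀ x, ¬ f x ⤳ y → ∃ A : Opens Y, IsCompact (A : Set Y) ∧ y ∈ A ∧ f x ∉ A := fun x hx => by
    obtain ⟨O, hO, hyO, hxO⟩ := not_specializes_iff_exists_open.1 hx
    obtain ⟨A, hA, hyA, hAO⟩ := PrespectralSpace.isTopologicalBasis.exists_subset_of_mem_open hyO hO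
    exact ⟨⟨A, hA.1⟩, hA.2, hyA, fun h => hxO (hAO h)⟩
  have hpre : ∀ A : Opens Y, IsCompact (A : Set Y) → IsCompact ((Opens.map f).obj A : Set X) := fun A hA =>
    hf.isCompact_preimage_of_isOpen A.isOpen hA
  have hR : ∀ x, x ∉ Set.range j → ∃ U : Opens X, IsCompact (U : Set X) ∧ Set.range j ⊆ U ∧ x ∉ U := by
    intro x hx
    obtain ⟨A, hA, hyA, hxA⟩ := hq x fun h => hx ⟨⟨x, specializes_iff_mem_closure.1 h⟩, rfl⟩
    refine ⟨(Opens.map f).obj A, hpre A hA, ?_, hxA⟩
    rintro _ ⟨⟨z, hz⟩, rfl⟩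
    exact (specializes_iff_mem_closure.2 hz).mem_open A.isOpen hyA
  have ho : ∀ i, (⊤ : Opens _) ≤ (Opens.map j).obj (o.obj i).unop := fun i k _ =>
    (specializes_iff_mem_closure.2 k.2).mem_open i.unop.1.isOpen i.unop.2
  have hcof : ∀ O : Opens X, (∀ k, j k ∈ O) → ∃ i, (o.obj i).unop ≤ O := fun O hO => by
    have h : ∀ c : ((O : Set X)ᶜ : Set X), ∃ A : Opens Y, IsCompact (A : Set Y) ∧ y ∈ A ∧ f c.1 ∉ A := fun c =>
      hq c.1 fun h => c.2 (hO ⟨c.1, specializes_iff_mem_closure.1 h⟩)
    choose A hA hyA hcA using h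
    obtain ⟨t, ht⟩ := @IsCompact.elim_finite_subcover X (constructibleTopology X) _ _
      (@IsClosed.isCompact X (constructibleTopology X) _ Groth.L10.GenClosed.compactSpace_cons
        ((@isOpen_compl_iff X _ (constructibleTopology X)).1
          (by rw [compl_compl]; exact Groth.L10.GenClosed.isOpen_cons O.isOpen)))
      (fun c => ((Opens.map f).obj (A c) : Set X)ᶜ) (fun c => Groth.L10.GenClosed.isOpen_compl_cons (hpre _ (hA c)))
      (fun x hx => Set.mem_iUnion.2 ⟨⟨x, hx⟩, hcA ⟨x, hx⟩⟩)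
    obtain ⟨-, h2⟩ := Groth.L10.GenClosed.exists_finset_inf A hA t
    refine ⟨op ⟨t.inf A, (h2 y).2 fun c _ => hyA c⟩, fun x hx => ?_⟩
    by_contra hxO
    obtain ⟨c, hc, hxc⟩ := Set.mem_iUnion₂.1 (ht (show x ∈ (O : Set X)ᶜ from hxO))
    exact hxc ((h2 (f x)).1 hx c hc)
  classical
  have : PreservesColimitsOfSize.{0, 0} (Groth.L10.Proper.stk y) :=
    (stalkSkyscraperSheafAdjunction (C := AddCommGrpCat.{u}) y).leftAdjoint_preservesColimits
  have : PreservesFiniteColimits (Groth.L10.Proper.stk y) := PreservesColimitsOfSize.preservesFiniteColimits _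
  have : PreservesFiniteLimits (Groth.L10.Proper.stk y) :=
    inferInstanceAs (PreservesFiniteLimits (TopCat.Sheaf.forget AddCommGrpCat.{u} Y ⋙ TopCat.Presheaf.stalkFunctor AddCommGrpCat.{u} y))
  have : (Groth.L10.Proper.stk y).Additive := Functor.additive_of_preserves_binary_products _
  haveI := Groth.L10.NearCoh.preservesFiniteLimits_colimAt o
  haveI := Groth.L10.NearCoh.preservesFiniteColimits_colimAt o
  haveI : (Groth.L10.NearCoh.colimAt o).Additive := Functor.additive_of_preserves_binary_products _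
  obtain ⟨e⟩ := Groth.L10.NearCoh.nonempty_rightDerived_secNear o j ho hcof
    (fun G w => Groth.L10.GenClosed.exists_lift_top hR hj G w)
    (fun Q hQ n => Groth.L10.GenClosed.subsingleton_H_pull hR hj Q hQ n) F p
  exact ⟨((Groth.L10.SiteCoh.rightDerivedCompIso (CohTop.push f) (Groth.L10.Proper.stk y) p F).symm ≪≫
    (Groth.L10.SiteCoh.rightDerivedCongr (Iso.refl (CohTop.push f ⋙ Groth.L10.Proper.stk y) :
      CohTop.push f ⋙ Groth.L10.Proper.stk y ≅ Groth.L10.NearCoh.secNear o) p).app F ≪≫ e).addCommGroupIsoToAddEquiv⟩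

end Groth.Agent.S0884
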