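import Groth.Statements.S0890
import Groth.Agent.L29.DCoh.TopCoh

set_option autoImplicit false
set_option backward.isDefEq.respectTransparency false
universe u
open CategoryTheory
attribute [local instance] HasDerivedCategory.standard
open DCoh

namespace Groth.Agent.S0890

open AlgebraicGeometry CategoryTheory.Limits in
/-- For an m-pseudo-coherent object K of D(O_X): (1) vanishing of the cohomology sheaves above degree m
makes H^m(K) an O_X-module of finite type; (2) vanishing above degree m + 1 makes H^{m+1}(K) an
O_X-module of finite presentation. -/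
theorem result {X : Scheme.{u}} (m : ℤ) (K : DCoh.D X)
    (hK : DCoh.IsPseudoCoherentD m K) :
    ((∀ i : ℤ, m < i → IsZero (DCoh.HD K i)) → CohB1.IsFT (DCoh.HD K m)) ∧
    ((∀ i : ℤ, m + 1 < i → IsZero (DCoh.HD K i)) → CohB1.IsFP (DCoh.HD K (m + 1))) := by
  exact ⟨fun h => Groth.L29.DC.TopCoh.isFT_top le_rfl hK h,
    fun h => Groth.L29.DC.TopCoh.isFP_top (by omega) hK h⟩

end Groth.Agent.S0890
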