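import Groth.Statements.S0892
import Groth.Agent.L10.HExact.FreeLocus

set_option autoImplicit false
set_option backward.defeqAttrib.useBackward true
set_option backward.isDefEq.respectTransparency false
universe u
open CategoryTheory
attribute [local instance] HasDerivedCategory.standard
open DCoh

namespace Groth.Agent.S0892

open AlgebraicGeometry in
/-- Let X be a scheme and E a perfect object of D(O_X). Then the set U of points x such that for every i
the stalk H^i(E)_x is a finite free O_{X,x}-module is open, all cohomology sheaves H^i(E) are finite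
locally free over U, and every open W over which all H^i(E) are finite locally free is contained in
U. (Stated for schemes; the published statement is for ringed spaces all of whose stalks of the
structure sheaf are local rings.) -/
theorem result {X : Scheme.{u}} (E : DCoh.D X) (hE : DCoh.IsPerfect E) :
    ∃ U : X.Opens,
      (U : Set X) = {x : X | ∀ i : ℤ, Module.Free (X.presheaf.stalk x) ((DCoh.HD E i).presheaf.stalk x) ∧
        Module.Finite (X.presheaf.stalk x) ((DCoh.HD E i).presheaf.stalk x)} ∧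
      (∀ i : ℤ, FlatMod.IsFinLocFree ((DCoh.HD E i).restrict U.ι)) ∧
      ∀ W : X.Opens, (∀ i : ℤ, FlatMod.IsFinLocFree ((DCoh.HD E i).restrict W.ι)) → W ≤ U := by
  let S : Set X := {x : X | ∀ i : ℤ, Module.Free (X.presheaf.stalk x) ((DCoh.HD E i).presheaf.stalk x) ∧
    Module.Finite (X.presheaf.stalk x) ((DCoh.HD E i).presheaf.stalk x)}
  have h1 : ∀ W : X.Opens, (∀ i : ℤ, FlatMod.IsFinLocFree ((DCoh.HD E i).restrict W.ι)) → (W : Set X) ⊆ S :=
    fun W hW x hx i => Groth.L10.HExact.FreeLocus.free_stalk_of_isFinLocFree W (hW i) hx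
  have h2 : ∀ x ∈ S, ∃ W : X.Opens, x ∈ W ∧ ∀ i : ℤ, FlatMod.IsFinLocFree ((DCoh.HD E i).restrict W.ι) :=
    fun x hx => Groth.L10.HExact.FreeLocus.exists_nhd_perfect E hE x fun i => (hx i).1
  have hS : IsOpen S := isOpen_iff_mem_nhds.2 fun x hx => by
    obtain ⟨W, hxW, hW⟩ := h2 x hx
    exact Filter.mem_of_superset (W.2.mem_nhds hxW) (h1 W hW)
  refine ⟨⟨S, hS⟩, rfl, fun i => ?_, fun W hW => h1 W hW⟩
  refine Groth.L29.DC.isFinLocFree_of_local fun y => ?_
  obtain ⟨W, hyW, hW⟩ := h2 _ y.2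
  let U : X.Opens := ⟨S, hS⟩
  let k := (U.ι ⁻¹ᵁ W).ι ≫ U.ι
  refine ⟨U.ι ⁻¹ᵁ W, hyW, Groth.L29.LocFree.of_iso
    (((Scheme.Modules.restrictFunctorIsoPullback (U.ι ∣_ W)).app _).symm ≪≫
      (Groth.L29.DC.resTrans W.ι (U.ι ∣_ W) k (morphismRestrict_ι _ _)).app _ ≪≫
      ((Groth.L29.DC.resTrans U.ι (U.ι ⁻¹ᵁ W).ι k rfl).app _).symm)
    (Groth.L29.LocFree.pullback (U.ι ∣_ W) (hW i))⟩

end Groth.Agent.S0892
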