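import Groth.Statements.S0893
import Groth.Agent.L29.DCoh.Cpt.Vanish

set_option autoImplicit false
set_option backward.isDefEq.respectTransparency false
universe u
open CategoryTheory
attribute [local instance] HasDerivedCategory.standard
open DCoh

namespace Groth.Agent.S0893

open AlgebraicGeometry CategoryTheory.Limits in
/-- Schemes; a quasi-compact quasi-separated scheme satisfies the topological hypotheses of the source:
for a perfect object K of D(O_X) on a quasi-compact quasi-separated scheme X: (a) For every family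
(M_i) of objects of D(O_X) which are uniformly bounded below and whose direct sum exists, the
canonical map ⊕_i Hom(K, M_i) -> Hom(K, ⊕_i M_i) is bijective. (b) If moreover there is d with
H^i(X, F) = 0 for all i > d and all O_X-modules F, the same holds for every family whose direct sum
exists. (Index types are lifted one universe because morphism sets of this model of D(O_X) live one
universe up.) -/
theorem result {X : Scheme.{u}} [CompactSpace X] [QuasiSeparatedSpace X]
    (K : DCoh.D X) (hK : DCoh.IsPerfect K) :
    (∀ (I : Type u) (M : I → DCoh.D X) [HasCoproduct fun i : ULift.{u + 1} I => M i.down] (a : ℤ),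
      (∀ i, (M i).IsGE a) →
      Function.Bijective (CohDer.homSumToHomCoprod K (fun i : ULift.{u + 1} I => M i.down))) ∧
    ((∃ d : ℕ, ∀ (F : X.Modules) (i : ℕ), d < i → Subsingleton (Coh.HH X F i)) →
      ∀ (I : Type u) (M : I → DCoh.D X) [HasCoproduct fun i : ULift.{u + 1} I => M i.down],
      Function.Bijective (CohDer.homSumToHomCoprod K (fun i : ULift.{u + 1} I => M i.down))) := by
  open Groth.L29.DC in
  classical
  have hs := Cpt.small_of_isPerfect hK
  let tt : Triangulated.TStructure (DCoh.D X) := DerivedCategory.TStructure.t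
  refine ⟨fun I M _ a ha => Cpt.bijective_homSum M fun φ => ?_, fun ⟨d, hd⟩ I M _ => Cpt.bijective_homSum M fun φ => ?_⟩
  · let e := (shiftFunctorZero (DCoh.D X) ℤ).app K
    obtain ⟨s, ψ, hψ⟩ := hs I _ a (fun i => by
      haveI : tt.IsGE (M i) a := ha i
      exact tt.isGE_of_iso (DerivedCategory.Q.objObjPreimageIso (M i)).symm a) 0 (e.hom ≫ φ)
    refine ⟨s, fun i => e.inv ≫ ψ i, ?_⟩
    rw [← cancel_epi e.hom, hψ, Preadditive.comp_sum]
    simp
  · obtain ⟨c₀, D, _, -, -, hv⟩ := Cpt.hom_zero_of_unit hK (fun _ => True) (-((d : ℤ) + 1))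
      (fun L _ hL g => Cpt.unit_hom_zero hd L _ hL (by omega) g)
    have hle : ∀ L : DCoh.D X, tt.IsLE ((tt.truncLT (c₀ + 1)).obj L) c₀ := fun L =>
      tt.isLE_truncLT_obj _ _ _ (by omega)
    refine Cpt.isFin_of_vanish hs _ (c₀ + 1) (fun i g => hv _ ?_ trivial g) (fun g => hv _ (hle _) trivial g) φ
    haveI := hle (DCoh.toD X (DerivedCategory.Q.objPreimage (M i)))
    haveI : tt.IsLE (((tt.truncLT (c₀ + 1)).obj (DCoh.toD X (DerivedCategory.Q.objPreimage (M i))))⟦(1 : ℤ)⟧) (c₀ - 1) :=
      tt.isLE_shift _ c₀ 1 (c₀ - 1) (by omega)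
    exact tt.isLE_of_le _ (c₀ - 1) c₀ (by omega)

end Groth.Agent.S0893
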