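import Groth.Statements.S0895
import Groth.Agent.L10.Hyper.H0
import Groth.Agent.L10.InjOverRes

set_option autoImplicit false
universe u
open CategoryTheory
open Hyper

namespace Groth.Agent.S0895

open Opposite CategoryTheory.Limits in
/-- Let C be a site with fibre products, X an object of C, K a hypercovering of X and I an injective
abelian sheaf. Then the Čech cohomology groups of I with respect to K vanish in all positive
degrees. (Degree zero is stated separately; the existence of the right Kan extensions used to form
coskeleta is assumed as an instance binder.) -/
theorem result {C : Type u} [SmallCategory C] [HasPullbacks C]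
    (J : GrothendieckTopology C) (X : C) (K : SimplicialObject (FormalCoproduct.{u} (Over X)))
    [∀ (n : ℕ) (F : (SimplexCategory.Truncated n)ᵒᵖ ⥤ Limits.FormalCoproduct.{u} (Over X)),
      (SimplexCategory.Truncated.inclusion n).op.HasRightKanExtension F]
    (hK : Hyper.IsHypercovering J X K) (I : Sheaf J AddCommGrpCat.{u}) [Injective I] :
    ∀ p : ℕ, IsZero (Hyper.cechH X K I.obj (p + 1)) := by
  intro p
  have := Groth.L10.InjOverRes.injective_overPullback J X I
  exact Groth.L10.Hyper.isZero_homology_of_injective (Groth.L10.Hyper.locFill_of_isHypercovering J X K hK) ((J.overPullback AddCommGrpCat.{u} X).obj I) p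

end Groth.Agent.S0895
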