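import Groth.Statements.S0902
import Groth.Agent.L10.Spectral.ExtZero

set_option autoImplicit false
set_option backward.defeqAttrib.useBackward true
set_option backward.isDefEq.respectTransparency false
universe u
open CategoryTheory
open CohTop

namespace Groth.Agent.S0902

open TopologicalSpace in
/-- Let X be a quasi-compact space whose quasi-compact opens form a basis stable under pairwise
intersections, and d ≥ 0. If H^p(X, j_!Z_U) = 0 for all p > d and every quasi-compact open U (j_!Z_U
the extension by zero of the constant sheaf Z, i.e. the free abelian sheaf on U), then H^p(X, F) = 0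
for all p > d and every abelian sheaf F. -/
theorem result {X : TopCat.{u}} [CompactSpace X]
    [PrespectralSpace X] [QuasiSeparatedSpace X] (d : ℕ)
    (h : ∀ (U : Opens X), IsCompact (U : Set X) → ∀ p : ℕ, d < p →
      Subsingleton (CohTop.H (CohCx.freeSheaf (Opens.grothendieckTopology X) U) p))
    (F : CohTop.Ab X) (p : ℕ) (hp : d < p) : Subsingleton (CohTop.H F p) := by
  obtain ⟨n, rfl⟩ := Nat.exists_eq_add_one.2 (Nat.lt_of_le_of_lt (Nat.zero_le _) hp)
  have hd : ∀ U : TopologicalSpace.Opens X, IsCompact (U : Set X) →
      Groth.L10.ExtZero.Cl d (Groth.L10.SiteCoh.fs (Opens.grothendieckTopology X) U) := fun U hU m hm => by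
    haveI := h U hU (m + 1) hm
    exact (Groth.L10.SiteCoh.hEquiv (Groth.L10.TopCoh.topTerminal X) _ (m + 1)).symm.toEquiv.subsingleton
  haveI := Groth.L10.ExtZero.cl_all hd F n hp
  exact (Groth.L10.SiteCoh.hEquiv (Groth.L10.TopCoh.topTerminal X) F (n + 1)).toEquiv.subsingleton

end Groth.Agent.S0902
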