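import Groth.Statements.S0905
import Groth.Agent.L10.SiteCoh
import Groth.Prelude.Def_CohCx
import Mathlib.Algebra.Homology.DerivedCategory.Ext.EnoughProjectives
import Mathlib.Algebra.Homology.ShortComplex.ExactFunctor

set_option autoImplicit false
set_option backward.defeqAttrib.useBackward true
set_option backward.isDefEq.respectTransparency false
set_option synthInstance.maxHeartbeats 200000
set_option backward.defeqAttrib.useBackward true
set_option backward.isDefEq.respectTransparency false
universe u
open CategoryTheory
open CohSite

namespace Groth.Agent.S0905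

open Opposite CategoryTheory.Limits in
/-- Parts (1) and (2), for a weakly contractible object U of a site (one over which every epimorphism of
sheaves of sets is surjective on sections): (1) the functor F ↦ F(U) from abelian sheaves to abelian
groups preserves finite colimits (it is exact, finite limits being automatic), and (2) H^p(U, F) = 0
for every abelian sheaf F and every p > 0. (Part (3) about torsors is not included.) -/
theorem result {C : Type u} [SmallCategory C] (J : GrothendieckTopology C)
    (U : C) (hU : CohSite.IsWeaklyContractible J U) :
    PreservesFiniteColimits (sheafToPresheaf J AddCommGrpCat.{u} ⋙ (evaluation Cᵒᵖ AddCommGrpCat.{u}).obj (op U)) ∧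
    ∀ (F : Sheaf J AddCommGrpCat.{u}) (p : ℕ), Subsingleton (CohSite.HU F (p + 1) U) := by
  haveI : Balanced (Sheaf J AddCommGrpCat.{u}) := inferInstance
  have hsurj : ∀ {F G : Sheaf J AddCommGrpCat.{u}} (e : F ⟶ G) [Epi e], Function.Surjective (e.hom.app (op U)) := by
    intro F G e _
    haveI : Sheaf.IsLocallySurjective e :=
      (Sheaf.isLocallySurjective_iff_epi' (J := J) (A := AddCommGrpCat.{u}) e).2 inferInstance
    exact hU _ _ ((sheafCompose J (forget AddCommGrpCat.{u})).map e) inferInstance
  refine ⟨?_, fun F p => ?_⟩
  · haveI : ((sheafToPresheaf J AddCommGrpCat.{u}) ⋙ (evaluation Cᵒᵖ AddCommGrpCat.{u}).obj (op U)).Additive := {}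
    refine (Functor.preservesFiniteColimits_iff_forall_exact_map_and_epi _).2 fun S hS => ⟨?_, ?_⟩
    · have := hS.mono_f
      exact hS.exact.map_of_mono_of_preservesKernel _ inferInstance inferInstance
    · have := hS.epi_g
      exact (AddCommGrpCat.epi_iff_surjective _).2 (hsurj S.g)
  · haveI : Projective (CohCx.freeSheaf J U) :=
      { factors := fun {E X} f e _ => by
          obtain ⟨s, hs⟩ := hsurj e (Groth.L10.SiteCoh.secEquiv J U X f)
          refine ⟨(Groth.L10.SiteCoh.secEquiv J U E).symm s, (Groth.L10.SiteCoh.secEquiv J U X).injective ?_⟩
          rw [Groth.L10.SiteCoh.secEquiv_comp, AddEquiv.apply_symm_apply]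
          exact hs }
    exact Abelian.Ext.subsingleton_of_projective (CohCx.freeSheaf J U) F p

end Groth.Agent.S0905
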