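import Groth.Statements.S0906
import Groth.Agent.L10.Hyper.H0

set_option autoImplicit false
universe u
open CategoryTheory
open Hyper

namespace Groth.Agent.S0906

open Opposite CategoryTheory.Limits in
/-- For a hypercovering K of an object X of a site with fibre products and an abelian sheaf F, the
degree-zero Cech cohomology group of F with respect to K is isomorphic to F(X). -/
theorem result {C : Type u} [SmallCategory C] [HasPullbacks C]
    (J : GrothendieckTopology C) (X : C) (K : SimplicialObject (FormalCoproduct.{u} (Over X)))
    [∀ (n : ℕ) (F : (SimplexCategory.Truncated n)ᵒᵖ ⥤ Limits.FormalCoproduct.{u} (Over X)),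
      (SimplexCategory.Truncated.inclusion n).op.HasRightKanExtension F]
    (hK : Hyper.IsHypercovering J X K) (F : Sheaf J AddCommGrpCat.{u}) :
    Nonempty (Hyper.cechH X K F.obj 0 ≅ F.obj.obj (op X)) := by
  exact ⟨(Groth.L10.Hyper.nonempty_h0_limit (Groth.L10.Hyper.locFill_of_isHypercovering J X K hK) ((J.overPullback AddCommGrpCat.{u} X).obj F)).some ≪≫
    Groth.L10.Hyper.limitOverIso _⟩

end Groth.Agent.S0906
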