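import Groth.Statements.S0907
import Groth.Agent.L10.Hyper.Exists

set_option autoImplicit false
universe u
open CategoryTheory
open Hyper

namespace Groth.Agent.S0907

open TopologicalSpace Opposite CategoryTheory.Limits in
/-- Phrased in the site of opens of X, with X the top open: let B be a basis for the topology of X. Then
there is a hypercovering K of X such that every open occurring in every K_n belongs to B. -/
theorem result {X : TopCat.{u}} (B : Set (Opens X)) (hB : Opens.IsBasis B)
    [∀ (n : ℕ) (F : (SimplexCategory.Truncated n)ᵒᵖ ⥤ Limits.FormalCoproduct.{u} (Over (⊤ : Opens X))),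
      (SimplexCategory.Truncated.inclusion n).op.HasRightKanExtension F] :
    ∃ K : SimplicialObject (FormalCoproduct.{u} (Over (⊤ : Opens X))),
      Hyper.IsHypercovering (Opens.grothendieckTopology X) ⊤ K ∧
      ∀ (n : ℕ) (i : (K.obj (op (SimplexCategory.mk n))).I),
        ((K.obj (op (SimplexCategory.mk n))).obj i).left ∈ B := by
  refine Groth.L10.Hyper.exists_hypercovering (fun U => ?_) ⊤
  refine ⟨{V : Opens X // V ∈ B ∧ V ≤ U}, fun V => V.1, fun V => homOfLE V.2.2, fun x hx => ?_, fun V => V.2.1⟩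
  obtain ⟨V, hV, hxV, hVU⟩ := Opens.isBasis_iff_nbhd.1 hB hx
  exact ⟨V, homOfLE hVU, ⟨_, 𝟙 V, _, ⟨(⟨V, hV, hVU⟩ : {V : Opens X // V ∈ B ∧ V ≤ U})⟩, rfl⟩, hxV⟩

end Groth.Agent.S0907
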