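import Groth.Statements.S0908
import Groth.Agent.L10.TopCech

set_option autoImplicit false
universe u
open CategoryTheory
open CohSite

namespace Groth.Agent.S0908

open Opposite CategoryTheory.Limits in
/-- Let F be an abelian sheaf on a site such that (1) H^p(U, F) vanishes for every p > 0 and every
object U of the site, and (2) whenever K' → K is an epimorphism of sheaves of sets, the augmented
Čech complex 0 → H^0(K, F) → H^0(K', F) → H^0(K' ×_K K', F) → … is exact, meaning that the
augmentation H^0(K, F) → H^0(K', F) is injective, its image equals the kernel of the first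
differential, and the Čech complex has zero cohomology in every positive degree. Then F is totally
acyclic. (Only this direction of the published statement is asserted; the converse is not.) -/
theorem result {C : Type u} [SmallCategory C] {J : GrothendieckTopology C}
    (F : Sheaf J AddCommGrpCat.{u})
    (h1 : ∀ (U : C) (p : ℕ), Subsingleton (CohSite.HU F (p + 1) U))
    (h2 : ∀ (K' K : Sheaf J (Type u)) (f : K' ⟶ K), Epi f →
      Function.Injective (CohCx.cechNerveAug F f) ∧
      (∀ x : (CohCx.cechNerveCx F f).X 0, (CohCx.cechNerveCx F f).d 0 1 x = 0 →
        ∃ y, CohCx.cechNerveAug F f y = x) ∧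
      ∀ p : ℕ, IsZero ((CohCx.cechNerveCx F f).homology (p + 1))) :
    CohCx.IsTotallyAcyclic F := by
  exact Groth.L10.Nerve.CechAcyclic.isTotallyAcyclic fun K' K f hf n => (Groth.L10.Nerve.isZero_cechNerveCx_iff F f n).1 ((h2 K' K f hf).2.2 n)

end Groth.Agent.S0908
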