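import Groth.Statements.S0909
import Groth.Agent.L10.RegularPoints

set_option autoImplicit false
set_option backward.defeqAttrib.useBackward true
set_option backward.isDefEq.respectTransparency false
universe u
open CategoryTheory
open CohDer

namespace Groth.Agent.S0909

open CategoryTheory.Limits in
/-- Let A be a small abelian category, made into a site by declaring the single epimorphisms to be
coverings (Mathlib's regular topology; the regularity instance is assumed). Then the functor X ↦
h_X, viewed in abelian sheaves (here: additive Yoneda followed by sheafification, which does not
change h_X since representables are sheaves), is fully faithful and exact, and the site has enough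
points (a small conservative family of points, with fibre functors valued in Type u). -/
theorem result {A : Type u} [SmallCategory A] [Abelian A] [Preregular A] :
    (preadditiveYoneda ⋙ presheafToSheaf (regularTopology A) AddCommGrpCat.{u}).Full ∧
    (preadditiveYoneda ⋙ presheafToSheaf (regularTopology A) AddCommGrpCat.{u}).Faithful ∧
    PreservesFiniteLimits (preadditiveYoneda ⋙ presheafToSheaf (regularTopology A) AddCommGrpCat.{u}) ∧
    PreservesFiniteColimits (preadditiveYoneda ⋙ presheafToSheaf (regularTopology A) AddCommGrpCat.{u}) ∧
    GrothendieckTopology.HasEnoughPoints.{u, u, u} (regularTopology A) := by
  exact ⟨Groth.L10.RegularPoints.full_faithful.1, Groth.L10.RegularPoints.full_faithful.2,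
    Groth.L10.RegularPoints.preservesFiniteLimits, Groth.L10.RegularPoints.preservesFiniteColimits,
    Groth.L10.RegularPoints.hasEnoughPoints⟩

end Groth.Agent.S0909
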