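import Groth.Statements.S0919

set_option autoImplicit false
universe v u
open CategoryTheory
open CohDer

namespace Groth.Agent.S0919

open CategoryTheory.Limits in
/-- Let A be a Grothendieck abelian category and F a contravariant functor from A to sets (a functor on
the opposite category). Then F is representable if and only if F turns all small colimits of A into
limits, i.e. preserves small limits as a functor on the opposite category. -/
theorem result {A : Type u} [Category.{v} A] [Abelian A]
    [IsGrothendieckAbelian.{v} A] (F : Aᵒᵖ ⥤ Type v) :
    F.IsRepresentable ↔ PreservesLimitsOfSize.{v, v} F := by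
  constructor
  · intro h
    obtain ⟨X, ⟨e⟩⟩ := h
    exact preservesLimits_of_natIso e.toIso
  · intro h
    have : IsGrothendieckAbelian.{v} A := inferInstance
    obtain ⟨G, hG⟩ := HasSeparator.hasSeparator (C := A)
    have : WellPowered.{v} Aᵒᵖ := inferInstance
    have hP : ObjectProperty.IsCoseparating (ObjectProperty.ofObj (fun _ : PUnit.{v+1} => Opposite.op G)) := by
      intro X Y f g hh
      apply Quiver.Hom.unop_inj
      apply hG.def
      intro k
      exact congrArg Quiver.Hom.unop (hh _ (ObjectProperty.ofObj_apply _ PUnit.unit) k.op)
    have := isRightAdjoint_of_preservesLimits_of_isCoseparating hP F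
    let adj := Adjunction.ofIsRightAdjoint F
    refine ⟨⟨(F.leftAdjoint.obj PUnit.{v+1}).unop, ⟨{ homEquiv := fun {Y} => ?_, homEquiv_comp := ?_ }⟩⟩⟩
    · exact (opEquiv _ _).symm.trans ((adj.homEquiv PUnit.{v+1} (Opposite.op Y)).trans { toFun := fun k => k PUnit.unit, invFun := fun x => ↾(fun _ => x), left_inv := fun k => by ext; rfl, right_inv := fun x => rfl })
    · intro Y Y' f g
      have := adj.homEquiv_naturality_right (X := PUnit.{v+1}) g.op f.op
      exact congr($this PUnit.unit)

end Groth.Agent.S0919
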