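import Groth.Statements.S0926
import Groth.Agent.L10.ConstSub

set_option autoImplicit false
universe u
open CategoryTheory
open CohTop

namespace Groth.Agent.S0926

open TopologicalSpace CategoryTheory.Limits in
/-- Let X be an irreducible topological space and H an abelian subsheaf of the constant sheaf Z (given
by a monomorphism ι). Then there are a nonempty open U and an integer d such that over U the
subsheaf H coincides with the image of multiplication by d on the constant sheaf: the images of ι|_U
and of (d · id)|_U agree as subobjects of the constant sheaf on U. -/
theorem result {X : TopCat.{u}} [IrreducibleSpace X]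
    (H : CohTop.Ab X) (ι : H ⟶ CohTop.const X (ULift.{u} ℤ)) [Mono ι] :
    ∃ (U : Opens X) (d : ℤ), U ≠ ⊥ ∧
      imageSubobject ((CohTop.restrFunctor U).map ι) =
        imageSubobject ((CohTop.restrFunctor U).map (d • 𝟙 (CohTop.const X (ULift.{u} ℤ)))) := by
  exact Groth.L10.ConstSub.sub_of_const H ι

end Groth.Agent.S0926
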