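import Groth.Statements.S0930
import Groth.Agent.L10.RDer.CompPlus
import Groth.Agent.L10.TopCoh

set_option autoImplicit false
universe u
open CategoryTheory
attribute [local instance] HasDerivedCategory.standard
open CohTop

namespace Groth.Agent.S0930

/-- For continuous maps f : X -> Y and g : Y -> Z, the composite of the right derived functors Rf_* :
D^+(X) -> D^+(Y) and Rg_* : D^+(Y) -> D^+(Z) is isomorphic to R(g ∘ f)_* (existence of an
isomorphism of functors between bounded below derived categories). -/
theorem result {X Y Z : TopCat.{u}} (f : X ⟶ Y) (g : Y ⟶ Z) :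
    Nonempty ((CohTop.push f).rightDerivedFunctorPlus ⋙ (CohTop.push g).rightDerivedFunctorPlus ≅
      (CohTop.push (f ≫ g)).rightDerivedFunctorPlus) := by
  exact Groth.L10.CompPlus.nonempty_iso (H := CohTop.push (f ≫ g)) (NatIso.ofComponents (fun F => Iso.refl _))
    (fun I hI => Groth.L10.TopCoh.push_injective f I)

end Groth.Agent.S0930
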