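import Groth.Statements.S0931
import Groth.Agent.L10.CechHDU.Sheafify

set_option autoImplicit false
universe u
open CategoryTheory
open CohSite

namespace Groth.Agent.S0931

/-- Let K be an object of the derived category of abelian sheaves on a site and q an integer. Then the
sheafification of the presheaf U ↦ H^q(U, K) is isomorphic to the q-th cohomology sheaf H^q(K). -/
theorem result {C : Type u} [SmallCategory C] {J : GrothendieckTopology C}
    [HasDerivedCategory.{u} (Sheaf J AddCommGrpCat.{u})] (K : DerivedCategory (Sheaf J AddCommGrpCat.{u}))
    (q : ℤ) :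
    Nonempty ((presheafToSheaf J AddCommGrpCat.{u}).obj (CohCx.HDUPresheaf K q) ≅ CohCx.HD K q) := by
  exact Groth.L10.CechHDU.sheafify_HDUPresheaf q K

end Groth.Agent.S0931
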