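import Groth.Statements.S0937
import Groth.Agent.L10.CocontCompare

set_option autoImplicit false
universe u
open CategoryTheory
open CohSite

namespace Groth.Agent.S0937

/-- Part (1), for a single abelian sheaf: let u : C -> D be a functor between sites which is continuous
(preserving coverings and commuting with fibre products, which exist in C) and cocontinuous, F an
abelian sheaf on D and U an object of C. Then H^p(U, g^{-1}F) ≅ H^p(u(U), F) for all p, where
g^{-1}F is the sheaf V ↦ F(u(V)). -/
theorem result {C D : Type u} [SmallCategory C] [SmallCategory D]
    [Limits.HasPullbacks C] (J : GrothendieckTopology C) (K : GrothendieckTopology D) (u : C ⥤ D)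
    [u.IsContinuous J K] (hu : CoverPreserving J K u) [Limits.PreservesLimitsOfShape Limits.WalkingCospan u]
    [u.IsCocontinuous J K]
    (F : Sheaf K AddCommGrpCat.{u}) (U : C) (p : ℕ) :
    Nonempty (CohSite.HU ((CohSite.push K J u).obj F) p U ≃+ CohSite.HU F p (u.obj U)) := by
  obtain ⟨e⟩ := Groth.L10.CocontCompare.nonempty_compare J K u F U p; exact ⟨e.symm⟩

end Groth.Agent.S0937
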