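import Groth.Statements.S0938
import Groth.Agent.L16.GammaFree.Equiv

set_option autoImplicit false
universe u
open CategoryTheory
open Coh

namespace Groth.Agent.S0938

open AlgebraicGeometry CategoryTheory.Limits in
/-- For a scheme X with R = Γ(X, O_X), the full subcategory of O_X-modules which are retracts of a
finite free O_X-module is equivalent to the full subcategory of R-modules which are finite and
projective (existence of an equivalence of categories). The published statement is for ringed
spaces; stated here for schemes. -/
theorem result {X : Scheme.{u}} :
    Nonempty ((ObjectProperty.FullSubcategory fun M : X.Modules =>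
        ∃ (n : ℕ) (i : M ⟶ FlatMod.freeMod X n) (r : FlatMod.freeMod X n ⟶ M), i ≫ r = 𝟙 M) ≌
      (ObjectProperty.FullSubcategory fun N : ModuleCat.{u} (Γ(X, ⊤)) =>
        Module.Finite (Γ(X, ⊤)) N ∧ Module.Projective (Γ(X, ⊤)) N)) := by
  exact Groth.L16.GammaFree.nonempty_equivalence X
end Groth.Agent.S0938
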