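import Groth.Statements.S0939
import Groth.Agent.L10.Hyper.Exists

set_option autoImplicit false
universe u
open CategoryTheory
open Hyper

namespace Groth.Agent.S0939

open Opposite CategoryTheory.Limits in
/-- On a site with equalizers, fibre products and binary products, if a class B of objects covers every
object, there is a hypercovering K of the final object of the topos (Verdier's sense; coskeleta
assumed to exist) such that every object occurring in every K_n belongs to B. -/
theorem result {C : Type u} [SmallCategory C] [HasEqualizers C] [HasPullbacks C] [HasBinaryProducts C]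
    (J : GrothendieckTopology C) (B : Set C)
    (hB : ∀ U : C, ∃ (ι : Type u) (Y : ι → C) (f : ∀ i, Y i ⟶ U), Sieve.ofArrows Y f ∈ J U ∧ ∀ i, Y i ∈ B)
    [∀ (n : ℕ) (F : (SimplexCategory.Truncated n)ᵒᵖ ⥤ Limits.FormalCoproduct.{u} C),
      (SimplexCategory.Truncated.inclusion n).op.HasRightKanExtension F] :
    ∃ K : SimplicialObject (FormalCoproduct.{u} C), Hyper.IsHypercoveringSite J K ∧
      ∀ (n : ℕ) (i : (K.obj (op (SimplexCategory.mk n))).I), (K.obj (op (SimplexCategory.mk n))).obj i ∈ B := by
  exact Groth.L10.Hyper.exists_hypercoveringSite hB

end Groth.Agent.S0939
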