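import Groth.Statements.S0942
import Groth.Agent.L10.InjPreserved
import Mathlib.CategoryTheory.Sites.Pullback
import Mathlib.Algebra.Category.Grp.Colimits
set_option backward.isDefEq.respectTransparency false
-- import your own Groth.Agent.* helpers here

set_option autoImplicit false
universe u
open CategoryTheory
open CohSite

namespace Groth.Agent.S0942

/-- Let U be an object of a site and I a K-injective complex of abelian sheaves. Then the restriction of
I to the site of objects over U (precomposition with the forgetful functor from the over category)
is a K-injective complex. -/
theorem result {C : Type u} [SmallCategory C] (J : GrothendieckTopology C) (U : C)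
    (I : CochainComplex (Sheaf J AddCommGrpCat.{u}) ℤ) (hI : I.IsKInjective) :
    CochainComplex.IsKInjective ((((Over.forget U).sheafPushforwardContinuous AddCommGrpCat.{u} (J.over U) J).mapHomologicalComplex
      (ComplexShape.up ℤ)).obj I) := by
  have : EnoughInjectives (Sheaf J AddCommGrpCat.{u}) := inferInstance
  exact Groth.L10.InjPreserved.isKInjective_map
    ((Over.forget U).sheafAdjunctionContinuous AddCommGrpCat.{u} (J.over U) J)
    (fun I hI => Groth.L10.InjOverRes.injective_overPullback J U I) I hI

end Groth.Agent.S0942
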