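import Groth.Statements.S0946
import Groth.Agent.L10.NearCoh

set_option autoImplicit false
set_option backward.defeqAttrib.useBackward true
set_option backward.isDefEq.respectTransparency false
universe u
open CategoryTheory
open CohTop

namespace Groth.Agent.S0946

open TopologicalSpace Opposite CategoryTheory.Limits in
/-- Take a quasi-compact subset Z of a topological space X whose points are pairwise separated by
disjoint opens of X, and an abelian sheaf F on X. For every p the group H^p(Z, F|_Z) (cohomology of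
the pullback of F to the subspace Z) is isomorphic to the colimit of the groups H^p(U, F) over the
open neighbourhoods U of Z (existence of an isomorphism with the colimit of the cohomology presheaf
restricted to the opens containing Z). -/
theorem result {X : TopCat.{u}} (Z : Set X) (hZ : IsCompact Z)
    (hsep : ∀ x ∈ Z, ∀ y ∈ Z, x ≠ y → ∃ U V : Opens X, x ∈ U ∧ y ∈ V ∧ Disjoint U V)
    (F : CohTop.Ab X) (p : ℕ) :
    Nonempty ((colimit (ObjectProperty.ι (fun U : (Opens X)ᵒᵖ => Z ⊆ (U.unop : Set X)) ⋙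
        (Sheaf.cohomologyPresheafFunctor (Opens.grothendieckTopology X) p).obj F) : AddCommGrpCat.{u}) ≃+
      CohTop.H ((CohTop.pull (TopCat.ofHom ⟨Subtype.val, continuous_subtype_val⟩ : TopCat.of Z ⟶ X)).obj F) p) := by
  let P : ObjectProperty (Opens X)ᵒᵖ := fun U => Z ⊆ (U.unop : Set X)
  let j : TopCat.of Z ⟶ X := TopCat.ofHom ⟨Subtype.val, continuous_subtype_val⟩
  haveI : IsFiltered P.FullSubcategory := Groth.L10.NearCoh.isFiltered_fullSubcategory P
    ⟨⊤, fun x _ => trivial⟩ (fun U V hU hV => ⟨U ⊓ V, fun x hx => ⟨hU hx, hV hx⟩, inf_le_left, inf_le_right⟩)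
  haveI : CompactSpace (TopCat.of Z) := isCompact_iff_compactSpace.1 hZ
  have hsep' : ∀ k k' : TopCat.of Z, k ≠ k' →
      ∃ U V : Set X, IsOpen U ∧ IsOpen V ∧ j k ∈ U ∧ j k' ∈ V ∧ Disjoint U V := fun k k' h => by
    obtain ⟨U, V, hU, hV, hd⟩ := hsep k.1 k.2 k'.1 k'.2 fun e => h (Subtype.ext e)
    refine ⟨U, V, U.isOpen, V.isOpen, hU, hV, Set.disjoint_left.2 fun x hxU hxV => ?_⟩
    exact (hd.le_bot (show x ∈ U ⊓ V from ⟨hxU, hxV⟩) : x ∈ (⊥ : Opens X)).elim
  haveI : T2Space (TopCat.of Z) := ⟨fun k k' h => by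
    obtain ⟨U, U', hU, hU', h₁, h₂, hd⟩ := hsep' k k' h
    exact ⟨j ⁻¹' U, j ⁻¹' U', hU.preimage j.hom.continuous, hU'.preimage j.hom.continuous, h₁, h₂, hd.preimage j⟩⟩
  refine Groth.L10.NearCoh.nonempty_colimit_equiv P.ι j (fun i k _ => i.property k.2)
    (fun O hO => ⟨⟨op O, fun x hx => hO ⟨x, hx⟩⟩, le_rfl⟩)
    (fun G w => Groth.L10.Proper.exists_lift (Groth.L10.Proper.isPullUnit_unit j G) hsep' w isClosed_univ
      (fun k _ => trivial))
    (fun Q hQ n => ?_) F p
  haveI := Groth.L10.TopCoh.isFlasque_of_injective (X := X) Q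
  exact Groth.L10.Proper.subsingleton_H_of_soft _
    (Groth.L10.Proper.isSoft_of_pullUnit (G := Q) (Groth.L10.Proper.isPullUnit_unit j Q) hsep') n

end Groth.Agent.S0946
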