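import Groth.Statements.S0947
import Groth.Agent.L10.Spectral.GenClosed

set_option autoImplicit false
set_option backward.defeqAttrib.useBackward true
set_option backward.isDefEq.respectTransparency false
set_option backward.defeqAttrib.useBackward true
set_option backward.isDefEq.respectTransparency false
universe u
open CategoryTheory
open CohTop

namespace Groth.Agent.S0947

open TopologicalSpace Opposite CategoryTheory.Limits in
/-- Let X be a spectral space, F an abelian sheaf on X, E ⊆ X a quasi-compact subset and W the set of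
points of X specializing to some point of E. Then for every p the group H^p(W, F|_W) (cohomology of
the pullback of F to the subspace W) is isomorphic to the colimit of the groups H^p(U, F) over the
quasi-compact open neighbourhoods U of E (existence of an isomorphism). -/
theorem result {X : TopCat.{u}} [SpectralSpace X] (E : Set X)
    (hE : IsCompact E) (F : CohTop.Ab X) (p : ℕ) :
    Nonempty ((colimit (ObjectProperty.ι (fun U : (Opens X)ᵒᵖ => E ⊆ (U.unop : Set X) ∧ IsCompact (U.unop : Set X)) ⋙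
        (Sheaf.cohomologyPresheafFunctor (Opens.grothendieckTopology X) p).obj F) : AddCommGrpCat.{u}) ≃+
      CohTop.H ((CohTop.pull (TopCat.ofHom ⟨Subtype.val, continuous_subtype_val⟩ :
        TopCat.of {x : X | ∃ e ∈ E, e ∈ closure {x}} ⟶ X)).obj F) p) := by
  let P : ObjectProperty (Opens X)ᵒᵖ := fun U => E ⊆ (U.unop : Set X) ∧ IsCompact (U.unop : Set X)
  let j : TopCat.of {x : X | ∃ e ∈ E, e ∈ closure {x}} ⟶ X := TopCat.ofHom ⟨Subtype.val, continuous_subtype_val⟩
  haveI : IsFiltered P.FullSubcategory := Groth.L10.NearCoh.isFiltered_fullSubcategory P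
    ⟨⊤, fun x _ => trivial, by rw [unop_op, Opens.coe_top]; exact isCompact_univ⟩
    (fun U V hU hV => ⟨U ⊓ V, ⟨fun x hx => ⟨hU.1 hx, hV.1 hx⟩, by
      rw [unop_op, Opens.coe_inf]
      exact QuasiSeparatedSpace.inter_isCompact _ _ U.isOpen hU.2 V.isOpen hV.2⟩, inf_le_left, inf_le_right⟩)
  have hj : Topology.IsInducing j := Topology.IsInducing.subtypeVal
  have hgen : ∀ (U : Opens X), E ⊆ (U : Set X) → ∀ x : X, (∃ e ∈ E, e ∈ closure {x}) → x ∈ U :=
    fun U hU x ⟨e, he, hxe⟩ => (specializes_iff_mem_closure.2 hxe).mem_open U.isOpen (hU he)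
  have hR : ∀ x, x ∉ Set.range j → ∃ U : Opens X, IsCompact (U : Set X) ∧ Set.range j ⊆ U ∧ x ∉ U := by
    intro x hx
    have h : ∀ e : E, ∃ A : Opens X, IsCompact (A : Set X) ∧ e.1 ∈ A ∧ x ∉ A := fun e => by
      have hne : ¬ x ⤳ e.1 := fun hs => hx ⟨⟨x, e.1, e.2, specializes_iff_mem_closure.1 hs⟩, rfl⟩
      obtain ⟨O, hO, heO, hxO⟩ := not_specializes_iff_exists_open.1 hne
      obtain ⟨A, hA, heA, hAO⟩ := PrespectralSpace.isTopologicalBasis.exists_subset_of_mem_open heO hO
      exact ⟨⟨A, hA.1⟩, hA.2, heA, fun h => hxO (hAO h)⟩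
    choose A hA heA hxA using h
    obtain ⟨t, ht⟩ := hE.elim_finite_subcover (fun e => (A e : Set X)) (fun e => (A e).isOpen)
      fun e he => Set.mem_iUnion.2 ⟨⟨e, he⟩, heA ⟨e, he⟩⟩
    refine ⟨⨆ e : t, A e.1, ?_, ?_, fun h => ?_⟩
    · rw [Opens.coe_iSup]
      exact isCompact_iUnion fun e => hA e.1
    · rintro _ ⟨⟨z, hz⟩, rfl⟩
      refine hgen _ (fun e he => ?_) z hz
      obtain ⟨i, hi, hei⟩ := Set.mem_iUnion₂.1 (ht he)
      exact Opens.mem_iSup.2 ⟨⟨i, hi⟩, hei⟩
    · obtain ⟨i, hi⟩ := Opens.mem_iSup.1 h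
      exact hxA i.1 hi
  refine Groth.L10.NearCoh.nonempty_colimit_equiv P.ι j (fun i k _ => hgen _ i.property.1 k.1 k.2)
    (fun O hO => ?_) (fun G w => Groth.L10.GenClosed.exists_lift_top hR hj G w)
    (fun Q hQ n => Groth.L10.GenClosed.subsingleton_H_pull hR hj Q hQ n) F p
  obtain ⟨U, hU, hUo, hEU, hUO⟩ := PrespectralSpace.exists_isCompact_and_isOpen_between hE O.isOpen
    fun e he => hO ⟨e, e, he, subset_closure rfl⟩
  exact ⟨⟨op ⟨U, hUo⟩, hEU, hU⟩, hUO⟩

end Groth.Agent.S0947
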