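import Groth.Statements.S0948
import Groth.Agent.L09.CohColim.Covered

set_option autoImplicit false
universe u
open CategoryTheory
open CohSite

namespace Groth.Agent.S0948

open CategoryTheory.Limits in
/-- Let S be a class of sheaves of sets on a site such that (1) some member of S maps epimorphically to
the final sheaf, (2) every epimorphism F -> K onto a member K of S is refined by a map K' -> F from
a member K' of S with K' -> K epimorphic, (3) for K, K' in S some member of S maps epimorphically
onto K × K', (4) for parallel maps a, b : K -> K' between members of S some member of S maps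
epimorphically onto their equalizer, and (5) every member of S is a quasi-compact object. Then for
every p the functor F ↦ H^p(C, F) on abelian sheaves preserves filtered colimits. -/
theorem result {C : Type u} [SmallCategory C]
    {J : GrothendieckTopology C} (S : Set (Sheaf J (Type u)))
    (h1 : ∃ K ∈ S, Epi (terminal.from K))
    (h2 : ∀ (F : Sheaf J (Type u)) (K : Sheaf J (Type u)) (g : F ⟶ K), K ∈ S → Epi g →
      ∃ (K' : Sheaf J (Type u)) (k : K' ⟶ F), K' ∈ S ∧ Epi (k ≫ g))
    (h3 : ∀ K ∈ S, ∀ K' ∈ S, ∃ (K'' : Sheaf J (Type u)) (g : K'' ⟶ K ⨯ K'), K'' ∈ S ∧ Epi g)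
    (h4 : ∀ K ∈ S, ∀ K' ∈ S, ∀ (a b : K ⟶ K'), ∃ (K'' : Sheaf J (Type u)) (g : K'' ⟶ equalizer a b), K'' ∈ S ∧ Epi g)
    (h5 : ∀ K ∈ S, CohCx.IsQcObject K)
    (Λ : Type u) [SmallCategory Λ] [IsFiltered Λ] (p : ℕ) :
    PreservesColimitsOfShape Λ (Sheaf.functorH J p : Sheaf J AddCommGrpCat.{u} ⥤ AddCommGrpCat.{u}) := by
  exact Groth.L09.CohColim.preservesColimitsOfShape_of_commutes _ p fun D c hc =>
    (Groth.L09.CohColim.commutes (Groth.L09.CohColim.good_covSet h2 h3 h4 fun K hK => Groth.L09.CohColim.isQC_of_isQcObject (h5 K hK))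
      (Groth.L09.CohColim.terminal_mem_covSet h1) p D c hc).of_iso
      (Groth.L09.CohColim.constIso (J := J) (T := ⊤_ (Sheaf J (Type u))) terminalIsTerminal)

end Groth.Agent.S0948
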