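import Groth.Agent.L00.KFlatPull
import Groth.Statements.S0952
-- import your own Groth.Agent.* helpers here

set_option autoImplicit false
universe u
open CategoryTheory
attribute [local instance] HasDerivedCategory.standard
open DCoh

namespace Groth.Agent.S0952

open AlgebraicGeometry in
/-- For a morphism f : X -> Y and a K-flat complex K of O_Y-modules, the termwise pullback f^* K is a
K-flat complex of O_X-modules. -/
theorem result {X Y : Scheme.{u}} (f : X ⟶ Y) (K : CochainComplex Y.Modules ℤ) (hK : DCoh.IsKFlat K) :
    DCoh.IsKFlat (((Scheme.Modules.pullback f).mapHomologicalComplex (ComplexShape.up ℤ)).obj K) := by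
  exact Groth.L00.KFlat.pullback_kflat f K hK

end Groth.Agent.S0952
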