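import Groth.Agent.L00.KFlatStalk
import Groth.Statements.S0953
-- import your own Groth.Agent.* helpers here

set_option autoImplicit false
universe u
open CategoryTheory
attribute [local instance] HasDerivedCategory.standard
open DCoh

namespace Groth.Agent.S0953

open AlgebraicGeometry in
/-- A bounded above complex of O_X-modules all of whose terms are flat (stalkwise) is K-flat. -/
theorem result {X : Scheme.{u}} (K : CochainComplex X.Modules ℤ) (b : ℤ) (hb : K.IsStrictlyLE b)
    (hflat : ∀ n : ℤ, FlatMod.IsFlat (K.X n)) : DCoh.IsKFlat K := by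
  refine Groth.L00.Stk.isKFlat_of_stalks K fun x L hL i => ?_
  haveI : ∀ p, Module.Flat (X.presheaf.stalk x) (((Groth.L00.Stk.S X x).obj K).X p) := fun p => hflat p x
  exact Groth.L00.KFlatAlg.acyclic_tensor_of_bounded_flat _ b
    (fun p hp => (Groth.L00.Stk.F X x).map_isZero (K.isZero_of_isStrictlyLE b p hp)) L hL i

end Groth.Agent.S0953
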