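import Groth.Statements.S0965
import Groth.Agent.L29.DCoh.EvalMain

set_option autoImplicit false
set_option backward.isDefEq.respectTransparency false
universe u
open CategoryTheory
attribute [local instance] HasDerivedCategory.standard
open DCoh

namespace Groth.Agent.S0965

open AlgebraicGeometry in
/-- Schemes; K given by a K-flat complex representing a perfect object, and the dual K^∨ represented by
a K-flat complex D: with K^∨ := RHom(K, O_X), (1) K^∨ is perfect, and (2) for every complex D which
is K-flat and represents K^∨, and every M in D(O_X), M ⊗^L D ≅ RHom(K, M). The derived tensor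
functors and RHom(K, -) are taken under their existence binders. (The biduality (K^∨)^∨ ≅ K and the
global-sections formula of the source are not asserted.) -/
theorem result {X : Scheme.{u}} (K : CochainComplex X.Modules ℤ) (hK : DCoh.IsKFlat K)
    (hKp : DCoh.IsPerfect (DerivedCategory.Q.obj K)) [DCoh.HasLTensorCx K] [DCoh.HasRSheafHom K] :
    DCoh.IsPerfect ((DCoh.RSheafHom K).obj ((DerivedCategory.singleFunctor X.Modules 0).obj (Coh.structureModule X))) ∧
    ∀ (D : CochainComplex X.Modules ℤ), DCoh.IsKFlat D →
      Nonempty (DerivedCategory.Q.obj D ≅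
        (DCoh.RSheafHom K).obj ((DerivedCategory.singleFunctor X.Modules 0).obj (Coh.structureModule X))) →
      ∀ [DCoh.HasLTensorCx D] (M : DCoh.D X),
        Nonempty ((DCoh.LTensorCx D).obj M ≅ (DCoh.RSheafHom K).obj M) := by
  obtain ⟨o⟩ := Groth.L29.DC.EvalMain.nonempty_O0_iso (X := X)
  let e := (DCoh.RSheafHom K).mapIso o
  refine ⟨Groth.L29.DC.isPerfect_of_iso e (Groth.L29.DC.EvalMain.isPerfect_dual K hK hKp), fun D hD hrep _ M => ?_⟩
  obtain ⟨d⟩ := hrep
  exact Groth.L29.DC.EvalMain.nonempty_dual K D hK hKp hD ⟨d ≪≫ e.symm⟩ M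

end Groth.Agent.S0965
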