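import Groth.Statements.S0970
import Groth.Agent.L00.ClassResLeft
-- import your own Groth.Agent.* helpers here

set_option autoImplicit false
universe v u
open CategoryTheory
open CohDer

namespace Groth.Agent.S0970

/-- Let P be a class of objects in an abelian category containing a zero object and such that every
object is a quotient of an object in P. For a cochain complex K vanishing in degrees above a there
is a quasi-isomorphism Q ⟶ K, surjective in each degree, where Q has all terms in P and also
vanishes above degree a. -/
theorem result {A : Type u} [Category.{v} A] [Abelian A] (P : A → Prop)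
    (hP0 : ∃ Z : A, Limits.IsZero Z ∧ P Z) (hP : ∀ X : A, ∃ (Y : A) (π : Y ⟶ X), P Y ∧ Epi π)
    (K : CochainComplex A ℤ) (a : ℤ) [K.IsStrictlyLE a] :
    ∃ (Q : CochainComplex A ℤ) (α : Q ⟶ K), Q.IsStrictlyLE a ∧ (∀ n, P (Q.X n)) ∧ (∀ n, Epi (α.f n)) ∧ QuasiIso α := by
  exact Groth.L00.ClassResLeft.exists_res P hP0 hP K a

end Groth.Agent.S0970
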