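import Groth.Statements.S0978
import Groth.Agent.L10.CompactGen

set_option autoImplicit false
universe v u
open CategoryTheory
open CohDer

namespace Groth.Agent.S0978

open CategoryTheory.Limits in
/-- Let D be a triangulated category with all small direct sums and E a compact object. Then E generates
D (an object admitting only zero maps from all shifts of E is zero) if and only if D is compactly
generated and every compact object lies in the triangulated envelope of E (objects reachable from E
by shifts, finite sums, direct summands and extensions). -/
theorem result {D : Type u} [Category.{v} D] [Preadditive D] [Limits.HasZeroObject D] [HasShift D ℤ]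
    [∀ n : ℤ, (shiftFunctor D n).Additive] [Pretriangulated D] [IsTriangulated D] [HasCoproducts.{v} D]
    [HasColimitsOfShape (Discrete ℕ) D]
    (E : D) (hE : CohDer.IsCompactObject E) :
    CohDer.Generates (fun _ : Unit => E) ↔
      (CohDer.IsCompactlyGenerated D ∧ ∀ X : D, CohDer.IsCompactObject X → ObjectProperty.triangEnvelope (fun Y : D => Y = E) X) := by
  exact Groth.L10.CompactGen.generates_iff E hE

end Groth.Agent.S0978
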