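import Groth.Statements.S0981
import Groth.Agent.L20.DescLocus.AppIso
import Groth.Agent.L20.GeomFibre
import Mathlib.AlgebraicGeometry.Geometrically.Reduced
import Mathlib.AlgebraicGeometry.Geometrically.Connected

set_option autoImplicit false
universe u
open CategoryTheory AlgebraicGeometry
open Perf

namespace Groth.Agent.S0981

open CategoryTheory.Limits in
/-- Let f : X ⟶ S be proper, flat and of finite presentation, and assume that for every algebraically
closed field K and every point Spec K ⟶ S the fibre X ×_S Spec K is a reduced, connected (in
particular nonempty) scheme. Then O_S ⟶ f_*O_X is an isomorphism: for every open V of S the map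
O_S(V) ⟶ O_X(f⁻¹V) is an isomorphism. (The source adds that this persists after any base change.) -/
theorem result {X S : Scheme.{u}} (f : X ⟶ S)
    [IsProper f] [Flat f] [LocallyOfFinitePresentation f]
    (h : ∀ (K : Type u) [Field K] [IsAlgClosed K] (g : Spec (CommRingCat.of K) ⟶ S),
      IsReduced (pullback f g) ∧ ConnectedSpace ↥(pullback f g))
    (V : S.Opens) : IsIso (f.app V) := by
  have key : ∀ (K : Type u) [Field K] (g : Spec (CommRingCat.of K) ⟶ S),
      IsReduced (pullback f g) ∧ ConnectedSpace ↥(pullback f g) := by
    intro K _ g
    let Ω := AlgebraicClosure K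
    let j := Spec.map (CommRingCat.ofHom (algebraMap K Ω))
    haveI : Flat j := by
      rw [Flat.SpecMap_iff]; exact RingHom.flat_algebraMap_iff.mpr inferInstance
    haveI : Surjective j := ⟨fun _ => ⟨default, Subsingleton.elim (α := Spec (CommRingCat.of K)) _ _⟩⟩
    obtain ⟨h1, h2⟩ := h Ω (j ≫ g)
    let e := pullbackLeftPullbackSndIso f g j
    let p : pullback f (j ≫ g) ⟶ pullback f g := e.inv ≫ pullback.fst (pullback.snd f g) j
    haveI : Surjective (pullback.fst (pullback.snd f g) j) := MorphismProperty.pullback_fst _ _ inferInstance
    haveI : Flat (pullback.fst (pullback.snd f g) j) := MorphismProperty.pullback_fst _ _ inferInstance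
    haveI := h1
    haveI := h2
    exact ⟨Groth.L20.isReduced_of_surjective_of_flat p, p.surjective.connectedSpace p.continuous⟩
  haveI : GeometricallyConnected f :=
    ⟨geometrically_iff_of_isClosedUnderIsomorphisms.mpr fun K _ g => (key K g).2⟩
  haveI : GeometricallyReduced f :=
    ⟨geometrically_iff_of_isClosedUnderIsomorphisms.mpr fun K _ g => (key K g).1⟩
  exact Groth.L20.DescLocus.isIso_app f V
end Groth.Agent.S0981
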