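import Groth.Statements.S0983
import Mathlib.CategoryTheory.Triangulated.Triangulated
-- import your own Groth.Agent.* helpers here

set_option autoImplicit false
universe v u
open CategoryTheory
open CohDer

namespace Groth.Agent.S0983

open CategoryTheory.Pretriangulated in
/-- In a triangulated category, a commutative square f ≫ v = u ≫ f' (with f : X ⟶ Y, f' : X' ⟶ Y', u : X
⟶ X', v : Y ⟶ Y') extends to a diagram with three distinguished rows (X, Y, Z), (X', Y', Z'), (X'',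
Y'', Z'') and three distinguished columns (X, X', X''), (Y, Y', Y''), (Z, Z', Z''), in which all
squares commute except the one formed by the third morphisms of the last row and last column, which
anticommutes; the fourth row and column are the shifts of the first ones. -/
theorem result {D : Type u} [Category.{v} D] [Preadditive D] [Limits.HasZeroObject D] [HasShift D ℤ]
    [∀ n : ℤ, (shiftFunctor D n).Additive] [Pretriangulated D] [IsTriangulated D]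
    {X Y X' Y' : D} (f : X ⟶ Y) (f' : X' ⟶ Y') (u : X ⟶ X') (v : Y ⟶ Y') (comm : f ≫ v = u ≫ f') :
    ∃ (Z Z' X'' Y'' Z'' : D) (g : Y ⟶ Z) (h : Z ⟶ (shiftFunctor D (1 : ℤ)).obj X)
      (g' : Y' ⟶ Z') (h' : Z' ⟶ (shiftFunctor D (1 : ℤ)).obj X')
      (f'' : X'' ⟶ Y'') (g'' : Y'' ⟶ Z'') (h'' : Z'' ⟶ (shiftFunctor D (1 : ℤ)).obj X'')
      (u' : X' ⟶ X'') (u'' : X'' ⟶ (shiftFunctor D (1 : ℤ)).obj X)
      (v' : Y' ⟶ Y'') (v'' : Y'' ⟶ (shiftFunctor D (1 : ℤ)).obj Y)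
      (w : Z ⟶ Z') (w' : Z' ⟶ Z'') (w'' : Z'' ⟶ (shiftFunctor D (1 : ℤ)).obj Z),
      Triangle.mk f g h ∈ distinguishedTriangles ∧ Triangle.mk f' g' h' ∈ distinguishedTriangles ∧
      Triangle.mk f'' g'' h'' ∈ distinguishedTriangles ∧
      Triangle.mk u u' u'' ∈ distinguishedTriangles ∧ Triangle.mk v v' v'' ∈ distinguishedTriangles ∧
      Triangle.mk w w' w'' ∈ distinguishedTriangles ∧
      g ≫ w = v ≫ g' ∧ h ≫ (shiftFunctor D (1 : ℤ)).map u = w ≫ h' ∧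
      f' ≫ v' = u' ≫ f'' ∧ g' ≫ w' = v' ≫ g'' ∧ h' ≫ (shiftFunctor D (1 : ℤ)).map u' = w' ≫ h'' ∧
      f'' ≫ v'' = u'' ≫ (shiftFunctor D (1 : ℤ)).map f ∧ g'' ≫ w'' = v'' ≫ (shiftFunctor D (1 : ℤ)).map g ∧
      h'' ≫ (shiftFunctor D (1 : ℤ)).map u'' = -(w'' ≫ (shiftFunctor D (1 : ℤ)).map h) := by
  obtain ⟨Z, g, h, hT1⟩ := Pretriangulated.distinguished_cocone_triangle f
  obtain ⟨Z', g', h', hT2⟩ := Pretriangulated.distinguished_cocone_triangle f'
  obtain ⟨X'', u', u'', hU⟩ := Pretriangulated.distinguished_cocone_triangle u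
  obtain ⟨Y'', v', v'', hV⟩ := Pretriangulated.distinguished_cocone_triangle v
  obtain ⟨W, a, b, hW⟩ := Pretriangulated.distinguished_cocone_triangle (f ≫ v)
  have hW' : Pretriangulated.Triangle.mk (u ≫ f') a b ∈ distinguishedTriangles := comm ▸ hW
  let o1 := Triangulated.someOctahedron rfl hT1 hV hW
  let o2 := Triangulated.someOctahedron rfl hU hT2 hW'
  obtain ⟨Z'', g'', h'', hT3⟩ := Pretriangulated.distinguished_cocone_triangle (o2.m₁ ≫ o1.m₃)
  let o3 := Triangulated.someOctahedron rfl o2.mem (Pretriangulated.rot_of_distTriang _ o1.mem) hT3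
  have c41 : h'' ≫ o2.m₁⟦(1 : ℤ)⟧' = o3.m₃ ≫ (-(o1.m₁⟦(1 : ℤ)⟧')) := o3.comm₄
  have c32 : g'' ≫ o3.m₃ = v'' ≫ g⟦(1 : ℤ)⟧' := o3.comm₃
  have aux : ∀ {A B C E : D} (p : A ⟶ B⟦(1 : ℤ)⟧) (m : B ⟶ C) (q : C ⟶ E) (r : B ⟶ E), m ≫ q = r →
      (p ≫ (-(m⟦(1 : ℤ)⟧'))) ≫ q⟦(1 : ℤ)⟧' = -(p ≫ r⟦(1 : ℤ)⟧') := fun p m q r hr => by subst hr; simp
  refine ⟨Z, Z', X'', Y'', Z'', g, h, g', h', o2.m₁ ≫ o1.m₃, g'', h'', u', u'', v', v'',
    o1.m₁ ≫ o2.m₃, o3.m₁, o3.m₃, hT1, hT2, hT3, hU, hV, ?_, ?_, ?_, ?_, ?_, ?_, ?_, ?_, ?_⟩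
  · rw [Pretriangulated.rotate_distinguished_triangle]
    refine Pretriangulated.isomorphic_distinguished _ o3.mem _ (Pretriangulated.Triangle.isoMk _ _ (Iso.refl _) (Iso.refl _) (Iso.refl _) ?_ ?_ ?_)
    · exact (Category.comp_id _).trans (Category.id_comp _).symm
    · exact (Category.comp_id _).trans (Category.id_comp _).symm
    · refine Eq.trans ?_ (Category.id_comp _).symm
      refine ((congrArg (_ ≫ ·) ((shiftFunctor D (1 : ℤ)).map_id _)).trans (Category.comp_id _)).trans ?_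
      show -((o1.m₁ ≫ o2.m₃)⟦(1 : ℤ)⟧') = (-(o1.m₁⟦(1 : ℤ)⟧')) ≫ o2.m₃⟦(1 : ℤ)⟧'
      rw [Functor.map_comp, Preadditive.neg_comp]
  · rw [← Category.assoc, o1.comm₁, Category.assoc, o2.comm₃]
  · rw [Category.assoc, ← o2.comm₄, ← Category.assoc, o1.comm₂]
  · rw [← Category.assoc, o2.comm₁, Category.assoc, o1.comm₃]
  · have := o3.comm₁
    exact (congrArg (· ≫ o3.m₁) o2.comm₃).symm.trans ((Category.assoc _ _ _).trans ((congrArg (a ≫ ·) this).trans
      ((Category.assoc _ _ _).symm.trans (congrArg (· ≫ g'') o1.comm₃))))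
  · exact o3.comm₂.symm
  · rw [Category.assoc, ← o1.comm₄, ← Category.assoc, o2.comm₂]
  · exact c32
  · refine (congrArg (fun z => h'' ≫ z⟦(1 : ℤ)⟧') o2.comm₂).symm.trans ?_
    exact (congrArg (h'' ≫ ·) ((shiftFunctor D (1 : ℤ)).map_comp _ _)).trans ((Category.assoc _ _ _).symm.trans
      ((congrArg (· ≫ b⟦(1 : ℤ)⟧') c41).trans (aux o3.m₃ o1.m₁ b h o1.comm₂)))

end Groth.Agent.S0983
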