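import Groth.Statements.S0985
import Groth.Agent.L10.SeqColim
import Mathlib.Algebra.Homology.GrothendieckAbelian
import Mathlib.Algebra.Homology.DerivedCategory.ShortExact
import Mathlib.CategoryTheory.Limits.Preserves.Shapes.Products

set_option autoImplicit false
set_option backward.defeqAttrib.useBackward true
set_option backward.isDefEq.respectTransparency false
universe w v u
open CategoryTheory CategoryTheory.Limits
open DerLim

namespace Groth.Agent.S0985

theorem result {A : Type u} [Category.{v} A] [Abelian A] [HasDerivedCategory.{w} A]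
    [HasColimitsOfShape ℕ A] [HasExactColimitsOfShape ℕ A]
    (L : ℕ ⥤ CochainComplex A ℤ) [HasCoproduct L.obj] [PreservesColimit (Discrete.functor L.obj) (DerivedCategory.Q (C := A))]
    [HasCoproduct (fun n => DerivedCategory.Q.obj (L.obj n))] :
    DerLim.IsHocolim (fun n => DerivedCategory.Q.obj (L.obj n)) (fun n => DerivedCategory.Q.map (L.map (homOfLE (Nat.le_succ n))))
      (DerivedCategory.Q.obj (colimit L)) (fun n => DerivedCategory.Q.map (colimit.ι L n)) := by
  obtain ⟨w, h⟩ := Groth.L10.SeqColim.shortExact L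
  let e : (∐ fun n => DerivedCategory.Q.obj (L.obj n)) ≅ DerivedCategory.Q.obj (∐ L.obj) :=
    (PreservesCoproduct.iso DerivedCategory.Q L.obj).symm
  have he : ∀ n, Sigma.ι (fun n => DerivedCategory.Q.obj (L.obj n)) n ≫ e.hom = DerivedCategory.Q.map (Sigma.ι L.obj n) := fun n => by
    simp [e]
  refine ⟨DerivedCategory.triangleOfSESδ h ≫ (shiftFunctor (DerivedCategory A) (1 : ℤ)).map e.inv, ?_⟩
  refine Pretriangulated.isomorphic_distinguished _ (DerivedCategory.triangleOfSES_distinguished h) _ ?_
  refine Pretriangulated.Triangle.isoMk _ _ e e (Iso.refl _) ?_ ?_ ?_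
  · refine Sigma.hom_ext _ _ fun n => ?_
    have h1 := he n
    have h2 := he (n + 1)
    dsimp at h1 h2 ⊢
    simp [DerLim.shiftMap, reassoc_of% h1, h1, h2, Functor.map_sub]
    rw [← Functor.map_comp, ← Functor.map_comp]
    simp [Functor.map_sub, DerLim.shiftMap]
  · refine Sigma.hom_ext _ _ fun n => ?_
    have h1 := he n
    dsimp at h1 ⊢
    simp [reassoc_of% h1]
    rw [← Functor.map_comp]
    simp
  · dsimp
    simp [← Functor.map_comp]

end Groth.Agent.S0985
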