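import Groth.Statements.S0987
import Groth.Agent.L29.K.EulerDb
import Groth.Agent.L29.KBasic

set_option autoImplicit false
universe w v u
open CategoryTheory CategoryTheory.Limits
open KZero

namespace Groth.Agent.S0987

/-- For an abelian category A there is an isomorphism between K₀(A) and K₀ of the bounded derived
category D^b(A) (objects of D(A) with bounded cohomology, with the distinguished triangles of D(A))
which sends the class of an object X to the class of X placed in degree 0. -/
theorem result (A : Type u) [Category.{v} A] [Abelian A] [HasDerivedCategory.{w} A] :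
    ∃ φ : KZero.K0 A ≃+ KZero.K0tr (fun X : DerivedCategory A => ∃ a b : ℤ, X.IsGE a ∧ X.IsLE b),
      ∀ X : A, φ (KZero.cl X) =
        KZero.clTr (fun X : DerivedCategory A => ∃ a b : ℤ, X.IsGE a ∧ X.IsLE b) ((DerivedCategory.singleFunctor A 0).obj X) := by
  let P : ObjectProperty A := ⊤
  haveI : P.IsClosedUnderIsomorphisms := ⟨fun _ _ => trivial⟩
  haveI : P.ContainsZero := ⟨⟨_, CategoryTheory.Limits.isZero_zero A, trivial⟩⟩
  haveI : P.IsClosedUnderKernels := CategoryTheory.ObjectProperty.IsClosedUnderKernels.mk (fun _ _ => trivial)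
  haveI : P.IsClosedUnderCokernels := CategoryTheory.ObjectProperty.IsClosedUnderCokernels.mk (fun _ _ => trivial)
  haveI : P.IsClosedUnderExtensions := ⟨fun _ _ _ => trivial⟩
  obtain ⟨e, he⟩ := Groth.L29.EulerDb.exists_equiv P
    (fun X : DerivedCategory A => ∃ a b : ℤ, X.IsGE a ∧ X.IsLE b)
    (fun K => ⟨fun h => ⟨fun _ => trivial, h⟩, fun h => h.2⟩)
  let u : KZero.K0 A →+ KZero.K0sub P :=
    QuotientAddGroup.lift _ (FreeAbelianGroup.lift fun X => KZero.clSub P X) <| by
      rw [KZero.relAb, AddSubgroup.closure_le]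
      rintro _ ⟨S, hS, rfl⟩
      simp only [SetLike.mem_coe, AddMonoidHom.mem_ker, map_sub, FreeAbelianGroup.lift_apply_of]
      rw [Groth.L29.KSub.clSub_shortExact P hS trivial trivial trivial]
      abel
  let v : KZero.K0sub P →+ KZero.K0 A := Groth.L29.KSub.lift (fun X => KZero.cl X) fun S hS _ _ _ =>
    Groth.L29.cl_shortExact S hS
  have hu : ∀ X : A, u (KZero.cl X) = KZero.clSub P X := fun X => FreeAbelianGroup.lift_apply_of _ _
  have hv : ∀ X : A, v (KZero.clSub P X) = KZero.cl X := fun X => Groth.L29.KSub.lift_clSub _ _ trivial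
  refine ⟨(AddMonoidHom.toAddEquiv u v ?_ ?_).trans e, fun X => ?_⟩
  · refine QuotientAddGroup.addMonoidHom_ext _ (FreeAbelianGroup.lift_ext _ _ fun X => ?_)
    exact (congrArg v (hu X)).trans (hv X)
  · exact Groth.L29.KSub.hom_ext fun X _ => (congrArg u (hv X)).trans (hu X)
  · exact (congrArg e (hu X)).trans (he X trivial)

end Groth.Agent.S0987
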