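import Groth.Statements.S0992
import Mathlib.Algebra.Homology.HomologicalComplexLimits
import Mathlib.Algebra.Homology.ShortComplex.Ab

set_option autoImplicit false
universe w
open CategoryTheory CategoryTheory.Limits Opposite
open CohDer

namespace Groth.Agent.S0992

section
variable {I : Type w} [LinearOrder I] (K : Iᵒᵖ ⥤ CochainComplex AddCommGrpCat.{w} ℤ)

/-- The transition map in degree `m`. -/
private def r {γ β : I} (h : γ ≤ β) (m : ℤ) :
    (K.obj (op β)).X m →+ (K.obj (op γ)).X m := ((K.map (homOfLE h).op).f m).hom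

/-- The differential. -/
private def dd (β : I) (p q : ℤ) : (K.obj (op β)).X p →+ (K.obj (op β)).X q :=
  ((K.obj (op β)).d p q).hom

private lemma r_self {β : I} (m : ℤ) (x : (K.obj (op β)).X m) : r K (le_refl β) m x = x := by
  unfold r
  rw [show (homOfLE (le_refl β)).op = 𝟙 (op β) from rfl, K.map_id]
  rfl

private lemma r_trans {α γ β : I} (h : α ≤ γ) (h' : γ ≤ β) (m : ℤ) (x : (K.obj (op β)).X m) :
    r K h m (r K h' m x) = r K (h.trans h') m x := by
  unfold r
  rw [show (homOfLE (h.trans h')).op = (homOfLE h').op ≫ (homOfLE h).op from rfl, K.map_comp]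
  rfl

private lemma r_dd {γ β : I} (h : γ ≤ β) (p q : ℤ) (x : (K.obj (op β)).X p) :
    r K h q (dd K β p q x) = dd K γ p q (r K h p x) := by
  exact (ConcreteCategory.congr_hom ((K.map (homOfLE h).op).comm p q) x).symm

private lemma dd_dd (β : I) (p q s : ℤ) (x : (K.obj (op β)).X p) :
    dd K β q s (dd K β p q x) = 0 :=
  ConcreteCategory.congr_hom ((K.obj (op β)).d_comp_d p q s) x

/-- Compatibility of a family on a set of indices. -/
private def CompatOn (S : Set I) (m : ℤ) (x : ∀ γ : I, (K.obj (op γ)).X m) : Prop :=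
  ∀ (γ γ' : I) (h : γ ≤ γ'), γ ∈ S → γ' ∈ S → r K h m (x γ') = x γ

/-- Exactness of the limit over a set of indices. -/
private def Solve (S : Set I) : Prop :=
  ∀ (p q : ℤ), p + 1 = q → ∀ x : ∀ γ : I, (K.obj (op γ)).X q, CompatOn K S q x →
    (∀ γ ∈ S, dd K γ q (q + 1) (x γ) = 0) →
    ∃ y : ∀ γ : I, (K.obj (op γ)).X p, CompatOn K S p y ∧ ∀ γ ∈ S, dd K γ p q (y γ) = x γ

variable (hac : ∀ (β : I) (n : ℤ), (K.obj (op β)).ExactAt n)
  (hsurj : ∀ (β : I) (n : ℤ) (x : ∀ γ : {γ : I // γ < β}, (K.obj (op γ.1)).X n),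
      (∀ (γ γ' : {γ : I // γ < β}) (h : γ.1 ≤ γ'.1), ((K.map (homOfLE h).op).f n).hom (x γ') = x γ) →
      ∃ y : (K.obj (op β)).X n, ∀ γ : {γ : I // γ < β}, ((K.map (homOfLE γ.2.le).op).f n).hom y = x γ)

include hsurj in
private lemma lift_family (β : I) (m : ℤ) (y : ∀ γ : I, (K.obj (op γ)).X m)
    (hy : CompatOn K (Set.Iio β) m y) :
    ∃ z : (K.obj (op β)).X m, ∀ γ (h : γ < β), r K h.le m z = y γ := by
  obtain ⟨z, hz⟩ := hsurj β m (fun γ => y γ.1) (fun γ γ' h => hy γ.1 γ'.1 h γ.2 γ'.2)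
  exact ⟨z, fun γ h => hz ⟨γ, h⟩⟩

include hac in
private lemma exists_pre (β : I) (p q : ℤ) (hpq : p + 1 = q) (c : (K.obj (op β)).X q)
    (hc : dd K β q (q + 1) c = 0) : ∃ w, dd K β p q w = c := by
  have h := hac β q
  rw [HomologicalComplex.exactAt_iff' _ p q (q + 1) (by simp; omega) (by simp),
    ShortComplex.ab_exact_iff] at h
  exact h c hc

include hac hsurj in
private lemma step {β : I} (hs : Solve K (Set.Iio β)) {p q : ℤ} (hpq : p + 1 = q)
    (x : ∀ γ : I, (K.obj (op γ)).X q) (hxc : ∀ γ (h : γ < β), r K h.le q (x β) = x γ)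
    (hx : dd K β q (q + 1) (x β) = 0) (y : ∀ γ : I, (K.obj (op γ)).X p)
    (hy : CompatOn K (Set.Iio β) p y) (hyx : ∀ γ < β, dd K γ p q (y γ) = x γ) :
    ∃ z, dd K β p q z = x β ∧ ∀ γ (h : γ < β), r K h.le p z = y γ := by
  classical
  subst hpq
  obtain ⟨y', hy'⟩ := lift_family K hsurj β p y hy
  obtain ⟨w, hw⟩ := exists_pre K hac β p (p + 1) rfl (dd K β p (p + 1) y' - x β)
    (by rw [map_sub, dd_dd, hx, sub_zero])
  let x' : ∀ γ : I, (K.obj (op γ)).X p := fun γ => if h : γ < β then r K h.le p w else 0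
  have hx'c : CompatOn K (Set.Iio β) p x' := fun γ γ' h hγ hγ' => by
    simp only [x', dif_pos (show γ < β from hγ), dif_pos (show γ' < β from hγ'), r_trans]
  obtain ⟨u, hu, hux⟩ := hs (p - 1) p (by omega) x' hx'c (fun γ hγ => by
    have hγ' : γ < β := hγ
    simp only [x', dif_pos hγ', ← r_dd, hw, map_sub, hxc γ hγ']
    rw [r_dd, hy' γ hγ', hyx γ hγ', sub_self])
  obtain ⟨u', hu'⟩ := lift_family K hsurj β (p - 1) u hu
  refine ⟨y' - (w - dd K β (p - 1) p u'), ?_, fun γ h => ?_⟩
  · rw [map_sub, map_sub, dd_dd, hw, sub_zero, sub_sub_cancel]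
  · rw [map_sub, map_sub, hy' γ h, r_dd, hu' γ h, hux γ h]
    simp [x', dif_pos h]

variable [WellFoundedLT I]

include hac hsurj in
private lemma solve_of (S : Set I) (hS : IsLowerSet S) (hs : ∀ β ∈ S, Solve K (Set.Iio β)) :
    Solve K S := by
  classical
  intro p q hpq x hxc hx
  let P : ∀ β : I, (∀ γ, γ < β → (K.obj (op γ)).X p) → (K.obj (op β)).X p → Prop :=
    fun β g z => dd K β p q z = x β ∧ ∀ γ (h : γ < β), r K h.le p z = g γ h
  let F : ∀ β : I, (∀ γ, γ < β → (K.obj (op γ)).X p) → (K.obj (op β)).X p :=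
    fun β g => if h : ∃ z, P β g z then h.choose else 0
  let f : ∀ β : I, (K.obj (op β)).X p := (wellFounded_lt (α := I)).fix F
  have hf : ∀ β, f β = F β (fun γ _ => f γ) := fun β => (wellFounded_lt (α := I)).fix_eq F β
  have key : ∀ β, β ∈ S → P β (fun γ _ => f γ) (f β) := by
    intro β
    induction β using WellFoundedLT.induction with
    | ind β ih =>
      intro hβ
      have hmem : ∀ γ, γ < β → γ ∈ S := fun γ h => hS h.le hβ
      have hyc : CompatOn K (Set.Iio β) p f := by
        intro γ γ' h _ hγ'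
        rcases h.eq_or_lt with rfl | h'
        · exact r_self K p _
        · exact (ih γ' hγ' (hmem γ' hγ')).2 γ h'
      have hex : ∃ z, P β (fun γ _ => f γ) z :=
        step K hac hsurj (hs β hβ) hpq x (fun γ h => hxc γ β h.le (hmem γ h) hβ) (hx β hβ) f hyc
          (fun γ h => (ih γ h (hmem γ h)).1)
      rw [hf β]
      simp only [F, dif_pos hex]
      exact hex.choose_spec
  refine ⟨f, fun γ γ' h _ hγ' => ?_, fun γ hγ => (key γ hγ).1⟩
  rcases h.eq_or_lt with rfl | h'
  · exact r_self K p _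
  · exact (key γ' hγ').2 γ h'

include hac hsurj in
private lemma solve_univ : Solve K Set.univ := by
  refine solve_of K hac hsurj _ isLowerSet_univ fun β _ => ?_
  induction β using WellFoundedLT.induction with
  | ind β ih => exact solve_of K hac hsurj _ (isLowerSet_Iio β) fun γ hγ => ih γ hγ trivial

end


/-- Let I be a well-ordered type and K : Iᵒᵖ ⥤ CochainComplex Ab an inverse system of acyclic complexes
of abelian groups such that for every β and every degree n, each family of elements of the Kⁿ_γ (γ <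
β) compatible under the transition maps lifts to an element of Kⁿ_β (i.e. Kⁿ_β → lim_{γ<β} Kⁿ_γ is
surjective). Then the limit complex lim K is acyclic. -/
theorem result {I : Type w} [LinearOrder I] [WellFoundedLT I]
    (K : Iᵒᵖ ⥤ CochainComplex AddCommGrpCat.{w} ℤ)
    (hac : ∀ (β : I) (n : ℤ), (K.obj (op β)).ExactAt n)
    (hsurj : ∀ (β : I) (n : ℤ) (x : ∀ γ : {γ : I // γ < β}, (K.obj (op γ.1)).X n),
      (∀ (γ γ' : {γ : I // γ < β}) (h : γ.1 ≤ γ'.1), ((K.map (homOfLE h).op).f n).hom (x γ') = x γ) →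
      ∃ y : (K.obj (op β)).X n, ∀ γ : {γ : I // γ < β}, ((K.map (homOfLE γ.2.le).op).f n).hom y = x γ)
    (n : ℤ) : (limit K).ExactAt n := by
  let c := (HomologicalComplex.eval AddCommGrpCat.{w} (ComplexShape.up ℤ))
  let π : ∀ (γ : I) (m : ℤ), (limit K).X m →+ (K.obj (op γ)).X m :=
    fun γ m => ((limit.π K (op γ)).f m).hom
  have hlim : ∀ m : ℤ, IsLimit ((forget AddCommGrpCat.{w}).mapCone ((c m).mapCone (limit.cone K))) :=
    fun m => isLimitOfPreserves _ (isLimitOfPreserves _ (limit.isLimit K))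
  rw [HomologicalComplex.exactAt_iff' _ (n - 1) n (n + 1) (by simp) (by simp),
    ShortComplex.ab_exact_iff]
  intro (x : (limit K).X n) hx
  have hπd : ∀ (γ : I) (p q : ℤ) (z : (limit K).X p),
      π γ q (((limit K).d p q).hom z) = dd K γ p q (π γ p z) := fun γ p q z =>
    (ConcreteCategory.congr_hom ((limit.π K (op γ)).comm p q) z).symm
  obtain ⟨y, hy, hyx⟩ := solve_univ K hac hsurj (n - 1) n (by omega) (fun γ => π γ n x)
    (fun γ γ' h _ _ => ConcreteCategory.congr_hom
      (congrArg (fun φ => HomologicalComplex.Hom.f φ n) (limit.w K (homOfLE h).op)) x)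
    (fun γ _ => by
      rw [← hπd]
      exact (congrArg (π γ (n + 1)) hx).trans (map_zero _))
  refine ⟨(Types.isLimitEquivSections (hlim (n - 1))).symm
    ⟨fun j => y j.unop, fun {j j'} f => hy j'.unop j.unop (leOfHom f.unop) trivial trivial⟩, ?_⟩
  refine (Types.isLimitEquivSections (hlim n)).injective (Subtype.ext (funext fun j => ?_))
  show π j.unop n _ = π j.unop n x
  refine (hπd j.unop (n - 1) n _).trans ?_
  rw [← hyx j.unop trivial]
  exact congrArg _ (Types.isLimitEquivSections_symm_apply (hlim (n - 1)) _ j)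

end Groth.Agent.S0992
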