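import Groth.Statements.S0994
import Groth.Agent.L10.CdDim.RDer

set_option autoImplicit false
universe w w' v v' u u'
open CategoryTheory CategoryTheory.Limits
open CohDer

namespace Groth.Agent.S0994

/-- Part (1), in the case of enough injectives: take abelian categories A and B, with A having injective
resolutions, and a left exact functor F : A ⥤ B, and suppose RⁿF = 0 for some n ≥ 0. Then F, viewed
as a functor from the homotopy category K(A) to D(B), has a right derived functor with respect to
quasi-isomorphisms, i.e. RF : D(A) ⥤ D(B) exists on the unbounded derived category (as a left Kan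
extension along K(A) → D(A)). -/
theorem result {A : Type u} [Category.{v} A] [Abelian A] [HasDerivedCategory.{w} A] [HasInjectiveResolutions A]
    {B : Type u'} [Category.{v'} B] [Abelian B] [HasDerivedCategory.{w'} B]
    (F : A ⥤ B) [F.Additive] [PreservesFiniteLimits F] (n : ℕ) (hn : ∀ X : A, IsZero ((F.rightDerived n).obj X)) :
    (F.mapHomotopyCategory (ComplexShape.up ℤ) ⋙ DerivedCategory.Qh).HasRightDerivedFunctor
      (HomotopyCategory.quasiIso A (ComplexShape.up ℤ)) := by
  haveI : EnoughInjectives A := ⟨fun X => ⟨{
    J := (injectiveResolution X).cocomplex.X 0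
    injective := inferInstance
    f := (injectiveResolution X).ι.f 0
    mono := inferInstanceAs (Mono ((injectiveResolution X).ι.f 0)) }⟩⟩
  have hN : ∀ (i : ℕ) (X : A), n < i → IsZero ((F.rightDerived i).obj X) := fun i X hi =>
    Groth.L10.CdDim.isZero_rd_of_le F n hn i X hi.le
  have := Groth.L10.CdDim.hasRightDerived_Kh F hN
  infer_instance

end Groth.Agent.S0994
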