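import Groth.Statements.S0996
import Groth.Agent.L00.RPlusUnit
-- import your own Groth.Agent.* helpers here

set_option autoImplicit false
universe w w' v v' u u'
open CategoryTheory CategoryTheory.Limits
open CohDer

namespace Groth.Agent.S0996

/-- Leray's acyclicity lemma. Let F : C ⥤ D be a left exact additive functor between abelian categories,
with C having enough injectives. If K is a bounded below cochain complex in C all of whose terms are
right F-acyclic (RⁱF(Kᵐ) = 0 for i > 0), then the canonical map F(K) → RF(K) in the bounded below
derived category D⁺(D) is an isomorphism. -/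
theorem result {C : Type u} [Category.{v} C] [Abelian C] [HasDerivedCategory.{w} C] [EnoughInjectives C]
    {D : Type u'} [Category.{v'} D] [Abelian D] [HasDerivedCategory.{w'} D]
    (F : C ⥤ D) [F.Additive] [PreservesFiniteLimits F] (K : CochainComplex.Plus C)
    (hK : ∀ (m : ℤ) (i : ℕ), 0 < i → IsZero ((F.rightDerived i).obj (K.obj.X m))) :
    IsIso (F.rightDerivedFunctorPlusUnit.app ((HomotopyCategory.Plus.quotient C).obj K)) := by
  exact Groth.L00.RPlusUnit.unit_isIso_of_acyclic F K (fun m i hi => hK m i hi)

end Groth.Agent.S0996
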