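import Groth.Statements.S10001
import Groth.Agent.L23.CutOutApps

set_option autoImplicit false
universe u
open CategoryTheory CategoryTheory.Limits AlgebraicGeometry Opposite
open AlgSp

namespace Groth.Agent.S10001

/-- Last assertion, on T-valued points for schemes T: if i : Z ⟶ X is the closed subspace cut out by the
sheaf of ideals I, a morphism h : h_T ⟶ X from a scheme T factors through Z exactly when h^*I ⟶ O_T
vanishes, that is, when for every affine etale chart U of X the functions in I(U) pull back to zero
on T ×_X U (I is contained in the kernel family of h). -/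
theorem result {S : Scheme.{u}} {Z X : AlgSp.Space S} (i : Z ⟶ X) (I : AlgSp.IdealEt X.obj)
    (hZ : AlgSp.IsCutOutBy I i.hom) {T : Over S} (h : (AlgSp.yon S).obj T ⟶ X.obj) (hh : AlgSp.Representable h) :
    (∃ k : (AlgSp.yon S).obj T ⟶ Z.obj, k ≫ i.hom = h) ↔ I ≤ AlgSp.idealOfRep hh := by
  exact Groth.L23.CutOut.exists_factor_iff_le X.property hZ h hh

end Groth.Agent.S10001
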