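import Groth.Statements.S10005
import Groth.Agent.L09.SpLimit.Separated

set_option autoImplicit false
universe u
open CategoryTheory CategoryTheory.Limits AlgebraicGeometry
open AlgSp

set_option backward.isDefEq.respectTransparency false
set_option backward.isDefEq.respectTransparency.types false

namespace Groth.Agent.S10005

/-- Let `S` be a quasi-separated scheme and `X` the limit, in fppf sheaves over `S`, of a cofiltered
system `(X_i)` of quasi-compact algebraic spaces over `S`, each quasi-separated over `S`, whose
transition maps are affine. If `X` is separated over `S`, then `X_i` is separated over `S` for some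
`i`. (The published statement uses absolute separatedness and quasi-separatedness and puts no
condition on `S`; this row assumes `S` quasi-separated and takes both notions over `S`, which gives
the same quasi-separatedness and, when `S` is separated, the same separatedness.) -/
theorem result (S : Scheme.{u}) [QuasiSeparatedSpace S] {I : Type u} [SmallCategory I] [IsCofiltered I]
    (D : I ⥤ AlgSp.Sp S) (hD : ∀ i, AlgSp.IsAlgSpace (D.obj i))
    (hDa : ∀ (i j : I) (φ : i ⟶ j), AlgSp.IsAffineMor (D.map φ))
    (hqc : ∀ i, AlgSp.IsQuasiCompactSp (D.obj i)) (hqs : ∀ i, AlgSp.IsQuasiSeparatedSp (D.obj i))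
    (c : Cone D) (hc : IsLimit c)
    (hX : AlgSp.IsSeparatedSp c.pt) : ∃ i, AlgSp.IsSeparatedSp (D.obj i) := by
  let B : Sp S := (yon S).obj (Over.mk (𝟙 S))
  have hT : IsTerminal B := IsTerminal.isTerminalObj (yon S) _ Over.mkIdTerminal
  let t : D ⟶ (Functor.const I).obj B :=
    { app := fun i => hT.from _, naturality := fun _ _ _ => hT.hom_ext _ _ }
  have hdiag : ∀ (X : Sp S) (g : X ⟶ B), IsSeparatedMor g ↔ IsSeparatedSp X := fun X g => by
    let θ : pullback g g ⟶ X ⨯ X := prod.lift (pullback.fst g g) (pullback.snd g g)
    have : IsIso θ :=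
      ⟨pullback.lift prod.fst prod.snd (hT.hom_ext _ _), by apply pullback.hom_ext <;> simp [θ], by
        ext <;> simp [θ]⟩
    show RepWith _ _ ↔ RepWith _ _
    rw [show Limits.diag X = pullback.diagonal g ≫ θ by ext <;> simp [θ]]
    exact (MorphismProperty.cancel_right_of_respectsIso (RepWith @IsClosedImmersion) _ θ).symm
  have hBqs : IsQuasiSeparatedSp B :=
    (repWith_diag_yon_iff _ _).2 (inferInstanceAs (QuasiCompact (pullback.diagonal (𝟙 S))))
  obtain ⟨i, hi⟩ := Groth.L09.SpLimit.eventually_separated hD hDa hc (IsAlgSpace.yon_obj _) t (hT.from _)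
    (fun i => hT.hom_ext _ _) hqc hqs hBqs ((hdiag _ _).2 hX)
  exact ⟨i, (hdiag _ _).1 (hi i (𝟙 i))⟩

end Groth.Agent.S10005
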