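import Groth.Statements.S10028
import Groth.Agent.L09.LfpFppf.Apply

set_option autoImplicit false
universe u
open CategoryTheory CategoryTheory.Limits AlgebraicGeometry
open AlgSp

set_option backward.isDefEq.respectTransparency false
set_option backward.isDefEq.respectTransparency.types false

namespace Groth.Agent.S10028

/-- If a presheaf of sets `F` on schemes over `S` is limit preserving, then so is (the underlying
presheaf of) its fppf sheafification. -/
theorem result (S : Scheme.{u}) (F : AlgSp.PSp S) (hF : AlgSp.IsLimitPreserving F) :
    AlgSp.IsLimitPreserving ((presheafToSheaf (AlgSp.J S) (Type (u + 1))).obj F).obj := by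
  exact Groth.L09.LfpFppf.isLimitPreserving_sheafify F hF

end Groth.Agent.S10028
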