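import Groth.Statements.S1003
import Groth.Agent.L29.DCoh.Cpt.Compact

set_option autoImplicit false
set_option backward.isDefEq.respectTransparency false
universe u
open CategoryTheory CategoryTheory.Limits AlgebraicGeometry
attribute [local instance] HasDerivedCategory.standard
open Perf

namespace Groth.Agent.S1003

/-- Let the scheme X be quasi-compact and quasi-separated and K an object of D_QCoh(O_X). Then K is
compact in D_QCoh(O_X) (maps from K into any small direct sum of objects of D_QCoh(O_X) are uniquely
finite sums of maps into the summands) if and only if K is perfect. -/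
theorem result (X : Scheme.{u}) [CompactSpace ↥X] [QuasiSeparatedSpace ↥X]
    (K : DCoh.D X) (hK : DCoh.IsQCohD K) :
    PerfAux.IsCompactObjRel.{u} (fun L : DCoh.D X => DCoh.IsQCohD L) K ↔ DCoh.IsPerfect K := by
  refine ⟨fun h => Groth.L29.DC.Cpt.isPerfect_of_compact hK h, fun h I M _ hM => ?_⟩
  exact Groth.L29.DC.Cpt.bijective_homSum_rel M fun {_} φ => Groth.L29.DC.Cpt.isFin_qcoh h _
    (fun i => Groth.L29.DC.isQCohD_of_iso (DerivedCategory.Q.objObjPreimageIso (M i)).symm (hM i)) φ

end Groth.Agent.S1003
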