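import Groth.Statements.S10030
import Groth.Agent.L09.LfpFppf.Apply

set_option autoImplicit false
universe u
open CategoryTheory CategoryTheory.Limits AlgebraicGeometry
open AlgSp

set_option backward.isDefEq.respectTransparency false
set_option backward.isDefEq.respectTransparency.types false

namespace Groth.Agent.S10030

/-- Let `F` be an fppf sheaf of sets on schemes over `S` and `{U_j ⟶ S}` an fppf covering (flat
morphisms locally of finite presentation, jointly surjective). If the restriction of `F` to schemes
over each `U_j` is limit preserving, then `F` is limit preserving. -/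
theorem result (S : Scheme.{u}) (F : AlgSp.PSp S)
    (hF : Presheaf.IsSheaf (AlgSp.J S) F) {ι : Type u} (U : ι → Over S)
    (hfl : ∀ j, Flat (U j).hom) (hfp : ∀ j, LocallyOfFinitePresentation (U j).hom)
    (hsurj : ∀ s : ↥S, ∃ (j : ι) (x : ↥(U j).left), (U j).hom.base x = s)
    (hloc : ∀ j, AlgSp.IsLimitPreserving (S := (U j).left) ((Over.map (U j).hom).op ⋙ F)) :
    AlgSp.IsLimitPreserving F := by
  exact Groth.L09.LfpFppf.isLimitPreserving_of_fppfLocally F hF U hfl hfp hsurj hloc

end Groth.Agent.S10030
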