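import Groth.Statements.S10038
import Groth.Agent.L23.Approx.Closed37

set_option autoImplicit false
set_option linter.style.haveILetI false
set_option backward.isDefEq.respectTransparency false
set_option backward.isDefEq.respectTransparency.types false
universe u
open CategoryTheory CategoryTheory.Limits AlgebraicGeometry
open AlgSp

namespace Groth.Agent.S10038

/-- Let `f : X ⟶ Y` be a separated morphism of finite type of algebraic spaces over `S`; suppose the
target `Y` is quasi-compact and quasi-separated over `S`. Then `f` factors as a closed immersion `X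
⟶ X'` followed by a separated morphism `X' ⟶ Y` of finite presentation. (The published statement
allows any base scheme and uses absolute quasi-separatedness; this row assumes the base
quasi-separated, over which quasi-separatedness relative to the base is the absolute notion.) -/
theorem result (S : Scheme.{u}) [QuasiSeparatedSpace S]
    {X Y : AlgSp.Space S} (f : X ⟶ Y) (hft : AlgSp.IsFiniteTypeMor f.hom) (hsep : AlgSp.IsSeparatedMor f.hom) (hYqc : AlgSp.IsQuasiCompactSp Y.obj) (hYqs : AlgSp.IsQuasiSeparatedSp Y.obj) :
    ∃ (X' : AlgSp.Space S) (i : X ⟶ X') (f' : X' ⟶ Y), i ≫ f' = f ∧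
      AlgSp.RepWith @IsClosedImmersion i.hom ∧ AlgSp.IsFinitePresentationMor f'.hom ∧ AlgSp.IsSeparatedMor f'.hom := by
  have hXqc : IsQuasiCompactSp X.obj := hft.2 Y.property hYqc (𝟙 _) (𝟙 _) f.hom IsPullback.of_id_fst
  have hXqs : IsQuasiSeparatedSp X.obj := Groth.L09.SpLimit.qsSp_of_qsMor hYqs
    (Groth.L23.repWith_mono (fun φ (_ : IsClosedImmersion φ) => inferInstanceAs (QuasiCompact φ)) hsep)
  obtain ⟨X', i, f', hX', hif, hi, hf', hs⟩ :=
    Groth.L23.Approx.exists_closed_into_fp X.property hXqc hXqs hYqc hYqs f.hom hft.1
  exact ⟨⟨X', hX'⟩, ObjectProperty.homMk i, ObjectProperty.homMk f', ObjectProperty.hom_ext _ hif, hi, hf', hs hsep⟩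

end Groth.Agent.S10038
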