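import Groth.Statements.S10040
import Groth.Agent.L23.Approx.PairSystem

set_option autoImplicit false
set_option linter.style.haveILetI false
set_option backward.isDefEq.respectTransparency false
set_option backward.isDefEq.respectTransparency.types false
universe u
open CategoryTheory CategoryTheory.Limits AlgebraicGeometry
open AlgSp
open Groth.L23 Opposite

namespace Groth.Agent.S10040

/-- Over a terminal base scheme `S` (the spectrum of the integers), let `f : X ⟶ Y` be a morphism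
between algebraic spaces each of which is quasi-compact and quasi-separated. Then `f` is a directed
limit of morphisms `f_i : X_i ⟶ Y_i`, where every `X_i` and every `Y_i` is of finite type and
quasi-separated over `S` and both systems have affine transition maps (limits in fppf sheaves,
indexed by one nonempty directed preorder, compatible with `f`). -/
theorem result (S : Scheme.{u}) (hS : IsTerminal S) {X Y : AlgSp.Space S} (f : X ⟶ Y)
    (hXqc : AlgSp.IsQuasiCompactSp X.obj) (hXqs : AlgSp.IsQuasiSeparatedSp X.obj)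
    (hYqc : AlgSp.IsQuasiCompactSp Y.obj) (hYqs : AlgSp.IsQuasiSeparatedSp Y.obj) :
    ∃ (I : Type u) (_ : Preorder I) (_ : IsDirected I (fun a b => a ≤ b)) (_ : Nonempty I)
      (DX DY : Iᵒᵖ ⥤ AlgSp.Sp S) (φ : DX ⟶ DY) (cX : Cone DX) (cY : Cone DY) (_ : IsLimit cX) (_ : IsLimit cY)
      (eX : cX.pt ≅ X.obj) (eY : cY.pt ≅ Y.obj),
      (∀ i, AlgSp.IsAlgSpace (DX.obj i) ∧ AlgSp.IsAlgSpace (DY.obj i)) ∧
      (∀ (i j : Iᵒᵖ) (g : i ⟶ j), AlgSp.IsAffineMor (DX.map g) ∧ AlgSp.IsAffineMor (DY.map g)) ∧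
      (∀ i, AlgSp.IsQuasiSeparatedSp (DX.obj i) ∧ AlgSp.IsQuasiSeparatedSp (DY.obj i) ∧
        (∀ q : DX.obj i ⟶ (AlgSp.yon S).obj (Over.mk (𝟙 S)), AlgSp.IsFiniteTypeMor q) ∧
        (∀ q : DY.obj i ⟶ (AlgSp.yon S).obj (Over.mk (𝟙 S)), AlgSp.IsFiniteTypeMor q)) ∧
      (∀ i, cX.π.app i ≫ φ.app i = eX.hom ≫ f.hom ≫ eY.inv ≫ cY.π.app i) := by
  haveI : IsAffine S := IsAffine.of_isIso (hS.uniqueUpToIso specULiftZIsTerminal).hom
  haveI : QuasiSeparatedSpace S := inferInstance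
  let T₀ : Over S := Over.mk (𝟙 S)
  haveI : IsAffine T₀.left := inferInstanceAs (IsAffine S)
  let B : Space S := ⟨(yon S).obj T₀, IsAlgSpace.yon_obj T₀⟩
  have hT : IsTerminal B.obj := Over.mkIdTerminal.isTerminalObj (yon S) T₀
  obtain ⟨hBqc, hBqs⟩ : IsQuasiCompactSp B.obj ∧ IsQuasiSeparatedSp B.obj :=
    Groth.L09.Filtration.qcqs_of_affine (IsAlgSpace.yon_obj T₀) (Iso.refl _)
  obtain ⟨IA, iA, iA', iA'', DA, tA, cA, hcA, eA, hA, hAa, hAq, hAf, -, -⟩ :=
    Approx.exists_limit_fp X.property hXqc hXqs (Y := B) hBqs (hT.from X.obj)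
  obtain ⟨IB, iB, iB', iB'', DB, tB, cB, hcB, eB, hB, hBa, hBq, hBf, -, -⟩ :=
    Approx.exists_limit_fp Y.property hYqc hYqs (Y := B) hBqs (hT.from Y.obj)
  have H : Approx.PairSetup DA DB cA :=
    { space := hA
      aff := hAa
      qc := fun a => (hAq a).1
      qs := fun a => (hAq a).2
      lim := ⟨hcA⟩
      lfp := fun b => ⟨B.obj, tB.app b, fun T => ⟨fun p q => hT.hom_ext p q⟩,
        Groth.L09.LfpLift.lifts_of_locP (hB b) B.property (hBf b).1,
        Groth.L09.LfpLift.seps_of_locP (hB b) B.property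
          (locP_mono (fun φ (_ : LocallyOfFinitePresentation φ) => inferInstanceAs (LocallyOfFiniteType φ)) (hBf b).1),
        fun T => ⟨hT.from T⟩⟩ }
  obtain ⟨I, i1, i2, i3, FA, FB, φ, hlA, hlB, hφ⟩ :=
    Approx.exists_pairSystem H (cB := cB) (g := eA.hom ≫ f.hom ≫ eB.inv) hcA hcB
  refine ⟨I, i1, i2, i3, FA ⋙ DA, FB ⋙ DB, φ, cA.whisker FA, cB.whisker FB, hlA, hlB, eA, eB,
    fun i => ⟨hA _, hB _⟩, fun i j m => ⟨hAa _ _ _, hBa _ _ _⟩,
    fun i => ⟨(hAq _).2, (hBq _).2, fun q => ?_, fun q => ?_⟩, fun i => by simpa using hφ i⟩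
  · rw [hT.hom_ext q (tA.app (FA.obj i))]
    exact ⟨locP_mono (fun φ (_ : LocallyOfFinitePresentation φ) => inferInstanceAs (LocallyOfFiniteType φ))
      (hAf _).1, (hAf _).2.1⟩
  · rw [hT.hom_ext q (tB.app (FB.obj i))]
    exact ⟨locP_mono (fun φ (_ : LocallyOfFinitePresentation φ) => inferInstanceAs (LocallyOfFiniteType φ))
      (hBf _).1, (hBf _).2.1⟩

end Groth.Agent.S10040
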