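import Groth.Statements.S10041
import Groth.Agent.L23.Approx.ProperStage
import Groth.Agent.L23.Approx.Closed37
import Groth.Agent.S10035

set_option autoImplicit false
set_option linter.style.haveILetI false
set_option backward.isDefEq.respectTransparency false
set_option backward.isDefEq.respectTransparency.types false
universe u
open CategoryTheory CategoryTheory.Limits AlgebraicGeometry
open AlgSp
open Groth.L23 Opposite

namespace Groth.Agent.S10041

/-- Let `Y` be an algebraic space, quasi-compact and quasi-separated over the scheme `S`, and `f : X ⟶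
Y` a proper morphism from another algebraic space. Then `X` is the limit of a directed system of
algebraic spaces `X_i`, each proper and of finite presentation over `Y`, in which the transition
maps and the projections `X ⟶ X_i` are closed immersions (limit in fppf sheaves, indexed by a
nonempty directed preorder, compatible with `f`). (The published statement allows any base scheme
and uses absolute quasi-separatedness; this row assumes the base quasi-separated, over which
quasi-separatedness relative to the base is the absolute notion.) -/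
theorem result (S : Scheme.{u}) [QuasiSeparatedSpace S]
    {X Y : AlgSp.Space S} (f : X ⟶ Y) (hf : AlgSp.IsProperMor f.hom) (hYqc : AlgSp.IsQuasiCompactSp Y.obj) (hYqs : AlgSp.IsQuasiSeparatedSp Y.obj) :
    ∃ (I : Type u) (_ : Preorder I) (_ : IsDirected I (fun a b => a ≤ b)) (_ : Nonempty I) (D : Iᵒᵖ ⥤ AlgSp.Sp S)
      (t : D ⟶ (Functor.const Iᵒᵖ).obj Y.obj) (c : Cone D) (_ : IsLimit c) (e : c.pt ≅ X.obj),
      (∀ i, AlgSp.IsAlgSpace (D.obj i)) ∧ (∀ (i j : Iᵒᵖ) (φ : i ⟶ j), AlgSp.RepWith @IsClosedImmersion (D.map φ)) ∧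
      (∀ i, AlgSp.RepWith @IsClosedImmersion (c.π.app i)) ∧
      (∀ i, AlgSp.IsProperMor (t.app i) ∧ AlgSp.IsFinitePresentationMor (t.app i)) ∧
      (∀ i, e.inv ≫ c.π.app i ≫ t.app i = f.hom) := by
  have hXqc : IsQuasiCompactSp X.obj := hf.2.1.2 Y.property hYqc (𝟙 _) (𝟙 _) f.hom IsPullback.of_id_fst
  have hXqs : IsQuasiSeparatedSp X.obj := Groth.L09.SpLimit.qsSp_of_qsMor hYqs
    (repWith_mono (fun φ (_ : IsClosedImmersion φ) => inferInstanceAs (QuasiCompact φ)) hf.1)
  obtain ⟨X', i, w, hX', hiw, hi, hwf, hws⟩ :=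
    Approx.exists_closed_into_fp X.property hXqc hXqs hYqc hYqs f.hom hf.2.1.1
  have hX'qc : IsQuasiCompactSp X' := hwf.2.1 Y.property hYqc (𝟙 _) (𝟙 _) w IsPullback.of_id_fst
  have hX'qs : IsQuasiSeparatedSp X' := Groth.L09.SpLimit.qsSp_of_qsMor hYqs hwf.2.2
  obtain ⟨J, j1, j2, j3, Z, t, c, hc, e, hZ, hZc, ht, hfac⟩ :=
    Groth.Agent.S10035.result S (X := X) (Y := ⟨X', hX'⟩) (ObjectProperty.homMk i) hi hX'qc hX'qs
  have hct : ∀ j, c.π.app j ≫ t.app j = e.hom ≫ i := fun j => by
    rw [← cancel_epi e.inv, hfac, Iso.inv_hom_id_assoc]; rfl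
  have hg : RepWith @IsClosedImmersion (e.hom ≫ i) := repWith_comp (repWith_of_isIso _) hi
  have hπ : ∀ j, RepWith @IsClosedImmersion (c.π.app j) := fun j => by
    haveI := Approx.mono_closed (ht j).1
    exact repWith_of_comp_mono (m := t.app j) ((hct j).symm ▸ hg)
  have hgw : IsProperMor ((e.hom ≫ i) ≫ w) := by
    have he : IsProperMor e.hom := isProperMor_of_repWith (repWith_of_isIso _)
    have hcp : IsAlgSpace c.pt := isAlgSpace_of_representable_to X.property (repWith_of_isIso (P := @IsOpenImmersion) e.hom).1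
    rw [Category.assoc, hiw]
    exact ⟨separated_comp he.1 hf.1, ⟨locP_comp etLocal_lft hcp X.property Y.property he.2.1.1 hf.2.1.1,
      qcMor_comp X.property Y.property he.2.1.2 hf.2.1.2⟩, univClosed_comp X.property Y.property he.2.2 hf.2.2⟩
  obtain ⟨a₀, ha₀⟩ := Approx.exists_proper_stage hYqc hYqs hX' hX'qc hX'qs (hws hf.1)
    (locP_mono (fun φ (_ : LocallyOfFinitePresentation φ) => inferInstanceAs (LocallyOfFiniteType φ)) hwf.1)
    hc t hZ (fun j => (ht j).1) hg hct hgw
  let K := {a : J // a₀.unop ≤ a}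
  have hK : Monotone (fun a : K => a.1) := fun a b h => h
  haveI : IsDirectedOrder K := ⟨fun a b => by
    obtain ⟨d, hd₁, hd₂⟩ := exists_ge_ge a.1 b.1
    exact ⟨⟨d, a.2.trans hd₁⟩, hd₁, hd₂⟩⟩
  haveI : hK.functor.Final := hK.final_functor_iff.2 fun a => by
    obtain ⟨d, hd₁, hd₂⟩ := exists_ge_ge a₀.unop a
    exact ⟨⟨d, hd₁⟩, hd₂⟩
  let F := hK.functor.op
  let t' : F ⋙ Z ⟶ (Functor.const Kᵒᵖ).obj Y.obj :=
    { app := fun k => t.app (F.obj k) ≫ w
      naturality := fun a b m => by
        show Z.map (F.map m) ≫ t.app (F.obj b) ≫ w = (t.app (F.obj a) ≫ w) ≫ 𝟙 Y.obj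
        rw [← Category.assoc, t.naturality (F.map m)]
        simp }
  refine ⟨K, inferInstance, inferInstance, ⟨⟨a₀.unop, le_rfl⟩⟩, F ⋙ Z, t', c.whisker F,
    (Functor.Initial.isLimitWhiskerEquiv F c).symm hc, e, fun k => hZ _, fun a b m => hZc _ _ _, fun k => hπ _,
    fun k => ⟨ha₀ _ (homOfLE k.unop.2).op, QAffineFp.fp_comp (hZ _) hX' Y.property (ht _).2 hwf⟩, fun k => ?_⟩
  show e.inv ≫ c.π.app (F.obj k) ≫ t.app (F.obj k) ≫ w = f.hom
  rw [reassoc_of% (hct (F.obj k)), Iso.inv_hom_id_assoc, hiw]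

end Groth.Agent.S10041
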