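import Groth.Statements.S10042
import Groth.Agent.L23.EmbedSpace

set_option autoImplicit false
universe u
open CategoryTheory CategoryTheory.Limits AlgebraicGeometry
open AlgSp

namespace Groth.Agent.S10042

/-- Let `X` be a quasi-separated and locally separated algebraic space over `S`, `U` an affine scheme
over `S` and `f : U ⟶ X` locally of finite type. Then there are an `n` and an immersion `U ⟶ 𝐀^n_X =
X ×_S 𝐀^n_S` over `X`. (The published statement allows any base scheme and uses absolute
quasi-separatedness; this row assumes the base quasi-separated, over which quasi-separatedness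
relative to the base is the absolute notion.) -/
theorem result (S : Scheme.{u}) [QuasiSeparatedSpace S]
    (X : AlgSp.Space S) (hqs : AlgSp.IsQuasiSeparatedSp X.obj) (hls : AlgSp.IsLocallySeparatedSp X.obj)
    (U : Over S) (hU : IsAffine U.left) (f : (AlgSp.yon S).obj U ⟶ X.obj) (hf : AlgSp.LocP @LocallyOfFiniteType f) :
    ∃ (n : ℕ) (i : (AlgSp.yon S).obj U ⟶ X.obj ⨯ (AlgSp.yon S).obj (Over.mk (𝔸(ULift.{u} (Fin n); S) ↘ S))),
      i ≫ prod.fst = f ∧ AlgSp.RepWith @IsImmersion i :=
  haveI := hU
  Groth.L23.EmbedSpace.exists_embedding_locallySeparated X.property hqs hls hf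

end Groth.Agent.S10042
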