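import Groth.Statements.S10043
import Groth.Agent.L23.ChevGen.Main

set_option autoImplicit false
universe u
open CategoryTheory CategoryTheory.Limits AlgebraicGeometry
open AlgSp

namespace Groth.Agent.S10043

/-- Let `f : X ⟶ Y` be a finite and surjective morphism of algebraic spaces over `S` with `X` an affine
scheme. Then `Y` is an affine scheme. -/
theorem result (S : Scheme.{u}) {X Y : AlgSp.Space S} (f : X ⟶ Y)
    (hfin : AlgSp.IsFiniteMor f.hom) (hsurj : AlgSp.IsSurjectiveMor f.hom) (hX : ∃ (T : Over S), IsAffine T.left ∧ Nonempty ((AlgSp.yon S).obj T ≅ X.obj)) :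
    ∃ (T : Over S), IsAffine T.left ∧ Nonempty ((AlgSp.yon S).obj T ≅ Y.obj) := by
  obtain ⟨T, hT, ⟨e⟩⟩ := hX
  haveI := hT
  refine Groth.L23.ChevGen.isAff_of_chevalley Y (e.hom ≫ f.hom) ?_ fun y => ?_
  · exact Groth.L23.isFiniteMor_iff.2
      (MorphismProperty.RespectsIso.precomp _ e.hom f.hom (Groth.L23.isFiniteMor_iff.1 hfin))
  · obtain ⟨x, rfl⟩ := hsurj y
    exact ⟨Points.map e.inv x, by rw [← Points.map_comp, e.inv_hom_id_assoc]⟩

end Groth.Agent.S10043
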