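import Groth.Statements.S10045
import Groth.Agent.L23.ThickScheme

set_option autoImplicit false
set_option backward.isDefEq.respectTransparency.types false
universe u
open CategoryTheory CategoryTheory.Limits AlgebraicGeometry
open AlgSp

namespace Groth.Agent.S10045

/-- Let `X` be an algebraic space over `S` and `X_red ⟶ X` its reduction (the reduced closed subspace
with the same points). If `X_red` is a scheme, then `X` is a scheme. -/
theorem result (S : Scheme.{u}) (X Z : AlgSp.Space S) (i : Z ⟶ X)
    (hi : AlgSp.IsRedInduced Set.univ i.hom) (hZ : Z.obj.obj.IsRepresentable) : X.obj.obj.IsRepresentable := Groth.L23.isRepresentable_of_thickening X.property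
  (Groth.L23.isThickMor_of_surjective hi.1 (Set.range_eq_univ.1 hi.2.1)) hZ

end Groth.Agent.S10045
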