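import Groth.Statements.S10046
import Groth.Agent.S10044
import Groth.Agent.L23.OpenCharts
import Groth.Agent.L23.EtaleGlue
import Groth.Agent.L23.SchemeRep

set_option autoImplicit false
universe u
open CategoryTheory CategoryTheory.Limits AlgebraicGeometry
open AlgSp

set_option backward.isDefEq.respectTransparency false
set_option backward.isDefEq.respectTransparency.types false

namespace Groth.Agent.S10046

open Groth.L23 in
/-- Let `f : X ⟶ Y`, a morphism of algebraic spaces over `S`, be integral and induce a bijection on
points. Then `X` is representable by a scheme over `S` exactly when `Y` is. -/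
theorem result (S : Scheme.{u}) {X Y : AlgSp.Space S} (f : X ⟶ Y)
    (hint : AlgSp.IsIntegralMor f.hom) (hbij : Function.Bijective (AlgSp.Points.map f.hom)) :
    X.obj.obj.IsRepresentable ↔ Y.obj.obj.IsRepresentable := by
  have hf : RepWith @IsIntegralHom f.hom := isIntegralMor_iff.1 hint
  constructor
  · intro hX
    obtain ⟨T, ⟨e⟩⟩ := isRepresentable_iff_exists_iso.1 hX
    let q := e.hom ≫ f.hom
    have hq : RepWith @IsIntegralHom q := MorphismProperty.RespectsIso.precomp _ e.hom f.hom hf
    have hmap : Function.Bijective (Points.map q) := by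
      have he : Function.Bijective (Points.map e.hom) :=
        Function.bijective_iff_has_inverse.2 ⟨Points.map e.inv,
          fun x => by rw [← Points.map_comp, e.hom_inv_id, Points.map_id],
          fun x => by rw [← Points.map_comp, e.inv_hom_id, Points.map_id]⟩
      rw [show Points.map q = Points.map f.hom ∘ Points.map e.hom from funext fun x => Points.map_comp _ _ x]
      exact hbij.comp he
    have hpt : Function.Bijective (Points.ofPt q) := by
      rw [show Points.ofPt q = Points.map q ∘ Points.schemeEquiv T from funext fun t => Points.ofPt_eq_map_ofScheme q t]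
      exact hmap.comp (Points.schemeEquiv T).bijective
    have huq : RepWith @UniversallyClosed q := repWith_mono (Q := (@UniversallyClosed : MorphismProperty Scheme.{u})) (fun φ (_ : IsIntegralHom φ) => inferInstanceAs (UniversallyClosed φ)) hq
    have hsq : RepWith @Surjective q := repWith_surjective_of_map hq.1 hmap.2
    obtain ⟨G, θ, hθ⟩ := OpenCharts.exists_scheme_of_open_charts Y.property fun y => by
      obtain ⟨t, rfl⟩ := hpt.2 y
      obtain ⟨_, ⟨B, hB, rfl⟩, htB, -⟩ := T.left.isBasis_affineOpens.exists_subset_of_mem_open
        (Set.mem_univ t) isOpen_univ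
      have hcl : IsClosed (Points.ofPt q '' (B : Set T.left)ᶜ) := by
        have hm := EtaleGlue.isClosedMap_of_univClosed Y.property ((repWith_universallyClosed_iff huq.1).1 huq)
        rw [show Points.ofPt q = Points.map q ∘ Points.schemeEquiv T from
          funext fun t => Points.ofPt_eq_map_ofScheme q t, Set.image_comp]
        exact hm _ ((Points.schemeHomeo T).isClosedMap _ B.isOpen.isClosed_compl)
      let W : TopologicalSpace.Opens (Points Y.obj) := ⟨_, hcl.isOpen_compl⟩
      have hW : openPre W q = B := by
        ext s
        show Points.ofPt q s ∉ Points.ofPt q '' (B : Set T.left)ᶜ ↔ s ∈ B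
        simp [hpt.1.mem_set_image]
      obtain ⟨fst, sq⟩ := isPullback_openSub W q
      haveI : IsAffine (openPre W q : Scheme.{u}) := hW ▸ hB
      let P : AlgSp.Space S := ⟨_, IsAlgSpace.yon_obj (Over.mk ((openPre W q).ι ≫ T.hom))⟩
      let O : AlgSp.Space S := ⟨openSub W, isAlgSpace_openSub W Y.property⟩
      have hu := repWith_of_isPullback sq.flip huq
      obtain ⟨A, hA, ⟨eA⟩⟩ := Groth.Agent.S10044.result S (X := P) (Y := O) (ObjectProperty.homMk fst)
        (surjective_map_of_repWith (repWith_of_isPullback sq.flip hsq))
        ((repWith_universallyClosed_iff hu.1).1 hu)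
        ⟨_, inferInstanceAs (IsAffine (openPre W q : Scheme.{u})), ⟨Iso.refl _⟩⟩
      have hy : Points.ofPt q t ∈ W := by
        show Points.ofPt q t ∉ Points.ofPt q '' (B : Set T.left)ᶜ
        simpa [hpt.1.mem_set_image] using htB
      rw [← SetLike.mem_coe, ← range_openSubι W] at hy
      obtain ⟨w, hw⟩ := hy
      obtain ⟨a, ha⟩ := (Points.schemeEquiv A).surjective (Points.map eA.inv w)
      refine ⟨A, eA.hom ≫ openSubι W, a, MorphismProperty.RespectsIso.precomp _ _ _ (repWith_openSubι W), ?_⟩
      rw [Points.ofPt_eq_map_ofScheme, show Points.ofScheme A a = Points.map eA.inv w from ha, ← Points.map_comp,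
        eA.inv_hom_id_assoc]
      exact hw
    exact isRepresentable_iff_exists_iso.2 ⟨G, ⟨asIso θ⟩⟩
  · intro hY
    obtain ⟨T, ⟨e⟩⟩ := isRepresentable_iff_exists_iso.1 hY
    have sq := hf.1.isPullback e.hom
    haveI : IsIso (hf.1.fst e.hom) := sq.isIso_fst_of_isIso
    exact isRepresentable_iff_exists_iso.2 ⟨_, ⟨asIso (hf.1.fst e.hom)⟩⟩

end Groth.Agent.S10046
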