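import Groth.Statements.S10047
import Groth.Agent.L23.ThickFp

set_option autoImplicit false
set_option backward.isDefEq.respectTransparency.types false
set_option linter.style.haveILetI false
universe u
open CategoryTheory CategoryTheory.Limits AlgebraicGeometry
open AlgSp

namespace Groth.Agent.S10047

/-- Let `f : X ⟶ B` and `g : B' ⟶ B` be morphisms of algebraic spaces over `S` with `g` a closed
immersion inducing a bijection on points, and suppose the base change `X ×_B B' ⟶ B'` is a closed
immersion. If `f` is of finite type or `g` is of finite presentation, then `f` is a closed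
immersion. -/
theorem result (S : Scheme.{u}) {X B B' : AlgSp.Space S}
    (f : X ⟶ B) (g : B' ⟶ B) (hg : AlgSp.RepWith @IsClosedImmersion g.hom)
    (hbij : Function.Bijective (AlgSp.Points.map g.hom))
    (X' : AlgSp.Sp S) (fst : X' ⟶ X.obj) (snd : X' ⟶ B'.obj) (hX' : IsPullback fst snd f.hom g.hom)
    (hsnd : AlgSp.RepWith @IsClosedImmersion snd)
    (hor : AlgSp.IsFiniteTypeMor f.hom ∨ AlgSp.IsFinitePresentationMor g.hom) :
    AlgSp.RepWith @IsClosedImmersion f.hom := by
  exact Groth.L23.closedImmersion_of_bijective X.property B.property hX' hg hbij.2 hsnd hor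

end Groth.Agent.S10047
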