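import Groth.Statements.S10050
import Groth.Statements.S10050
import Groth.Agent.L23.UnionAffine

set_option autoImplicit false
universe u
open CategoryTheory CategoryTheory.Limits AlgebraicGeometry
open AlgSp

set_option backward.isDefEq.respectTransparency false
set_option backward.isDefEq.respectTransparency.types false
set_option linter.style.haveILetI false

namespace Groth.Agent.S10050

/-- Let `X` be an algebraic space, quasi-compact and quasi-separated over the scheme `S`, which is not a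
scheme although every proper closed subspace of `X` is one. Then `X` is reduced and irreducible.
(The published statement allows any base scheme and uses absolute quasi-separatedness; this row
assumes the base quasi-separated, over which quasi-separatedness relative to the base is the
absolute notion.) -/
theorem result (S : Scheme.{u}) [QuasiSeparatedSpace S]
    (X : AlgSp.Space S) (hXqc : AlgSp.IsQuasiCompactSp X.obj) (hXqs : AlgSp.IsQuasiSeparatedSp X.obj) (hX : ¬ X.obj.obj.IsRepresentable)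
    (hmin : ∀ (Z : AlgSp.Space S) (i : Z ⟶ X), AlgSp.RepWith @IsClosedImmersion i.hom → ¬ IsIso i → Z.obj.obj.IsRepresentable) :
    AlgSp.IsReducedSp X.obj ∧ IrreducibleSpace (AlgSp.Points X.obj) := by
  haveI hred : AlgSp.IsReducedSp X.obj := by
    obtain ⟨Z, hZ, i, hcl, hr, hZr⟩ := Groth.L23.exists_isRedInduced X.property (isClosed_univ (X := AlgSp.Points X.obj))
    haveI : IsIso i := by
      by_contra hn
      refine hX (Groth.L23.isRepresentable_of_thickening X.property
        (Groth.L23.isThickMor_of_surjective hcl (Set.range_eq_univ.1 hr)) ?_)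
      refine hmin ⟨Z, hZ⟩ (ObjectProperty.homMk i) hcl fun hi => hn ?_
      exact inferInstanceAs (IsIso ((ObjectProperty.ι _).map (ObjectProperty.homMk i : (⟨Z, hZ⟩ : AlgSp.Space S) ⟶ X)))
    exact Groth.L23.isReducedSp_of_iso i hZr
  have hcharts : (∀ x : AlgSp.Points X.obj, ∃ (A : Over S) (a : (AlgSp.yon S).obj A ⟶ X.obj) (t : ↥A.left),
      AlgSp.RepWith @IsOpenImmersion a ∧ AlgSp.Points.ofPt a t = x) → False := fun h => by
    obtain ⟨G, θ, hθ⟩ := Groth.L23.OpenCharts.exists_scheme_of_open_charts X.property h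
    exact hX (Groth.L23.isRepresentable_iff_exists_iso.2 ⟨G, ⟨asIso θ⟩⟩)
  haveI : Nonempty (AlgSp.Points X.obj) := not_isEmpty_iff.1 fun he => hcharts fun x => isEmptyElim x
  haveI : PreirreducibleSpace (AlgSp.Points X.obj) := by
    refine ⟨isPreirreducible_iff_isClosed_union_isClosed.2 fun C₁ C₂ hC₁ hC₂ h => ?_⟩
    by_contra hn
    rw [not_or] at hn
    have key : ∀ C : Set (AlgSp.Points X.obj), IsClosed C → ¬ Set.univ ⊆ C →
        ∃ (T : Over S) (c : (AlgSp.yon S).obj T ⟶ X.obj),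
          AlgSp.RepWith @IsClosedImmersion c ∧ Set.range (AlgSp.Points.map c) = C := fun C hC hne => by
      obtain ⟨Z, hZ, i, hcl, hr, -⟩ := Groth.L23.exists_isRedInduced X.property hC
      obtain ⟨T, ⟨e⟩⟩ := Groth.L23.isRepresentable_iff_exists_iso.1
        (hmin ⟨Z, hZ⟩ (ObjectProperty.homMk i) hcl fun hi => hne (by
          haveI : IsIso i := inferInstanceAs
            (IsIso ((ObjectProperty.ι _).map (ObjectProperty.homMk i : (⟨Z, hZ⟩ : AlgSp.Space S) ⟶ X)))
          rw [← hr]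
          intro y _
          exact ⟨AlgSp.Points.map (inv i) y, by
            rw [← AlgSp.Points.map_comp, IsIso.inv_hom_id, AlgSp.Points.map_id]⟩))
      refine ⟨T, e.hom ≫ i, MorphismProperty.RespectsIso.precomp _ _ _ hcl, ?_⟩
      rw [← hr]
      ext y
      constructor
      · rintro ⟨z, rfl⟩
        exact ⟨_, (AlgSp.Points.map_comp e.hom i z).symm⟩
      · rintro ⟨z, rfl⟩
        exact ⟨AlgSp.Points.map e.inv z, by rw [← AlgSp.Points.map_comp, e.inv_hom_id_assoc]⟩
    obtain ⟨T₁, c₁, hc₁, hr₁⟩ := key C₁ hC₁ hn.1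
    obtain ⟨T₂, c₂, hc₂, hr₂⟩ := key C₂ hC₂ hn.2
    have hcov : Set.range (AlgSp.Points.map c₁) ∪ Set.range (AlgSp.Points.map c₂) = Set.univ := by
      rw [hr₁, hr₂]
      exact Set.univ_subset_iff.1 h
    obtain ⟨P, p₁, p₂, sq⟩ := Groth.L23.exists_isPullback_of_representable hc₁.1 c₂
    haveI : IsClosedImmersion p₂.left := Groth.L23.repWith_prop hc₁ sq
    haveI : IsClosedImmersion p₁.left := Groth.L23.repWith_prop hc₂ sq.flip
    refine hcharts fun x => ?_
    have hsurj : ∀ {T : Over S} (c : (AlgSp.yon S).obj T ⟶ X.obj), x ∈ Set.range (AlgSp.Points.map c) →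
        ∃ t, AlgSp.Points.ofPt c t = x := fun {T} c hx => by
      rwa [Groth.L23.range_map_yon] at hx
    have hinj₁ := Groth.L23.UnionAffine.injective_ofPt hc₁
    have hinj₂ := Groth.L23.UnionAffine.injective_ofPt hc₂
    rcases (Set.ext_iff.1 hcov x).2 trivial with hx | hx
    · obtain ⟨t₁, ht₁⟩ := hsurj c₁ hx
      by_cases hx' : x ∈ Set.range (AlgSp.Points.map c₂)
      · obtain ⟨t₂, ht₂⟩ := hsurj c₂ hx'
        obtain ⟨r, hr₁', hr₂'⟩ := (Groth.L23.ofPt_eq_ofPt_iff sq t₁ t₂).1 (ht₁.trans ht₂.symm)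
        obtain ⟨B₁, B₂, hB₁, hB₂, hB, hm₁, hm₂⟩ := Groth.L23.UnionAffine.exists_affine_pair p₁.left p₂.left r
        exact Groth.L23.UnionAffine.exists_chart hred hXqs hc₁ hc₂ hcov sq hB₁ hB₂ hB x
          (fun t e => hinj₁ (ht₁.trans e.symm) ▸ hr₁' ▸ hm₁) (fun t e => hinj₂ (ht₂.trans e.symm) ▸ hr₂' ▸ hm₂)
      · obtain ⟨B, hB, htB, hsub⟩ := exists_isAffineOpen_mem_and_subset (x := t₁)
          (U := ⟨(Set.range p₁.left)ᶜ, p₁.left.isClosedEmbedding.isClosed_range.isOpen_compl⟩) (by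
            rintro ⟨r, hr⟩
            refine hx' ⟨AlgSp.Points.map ((AlgSp.yon S).map p₂) (AlgSp.Points.ofScheme P r), ?_⟩
            rw [← AlgSp.Points.map_comp, ← sq.w, ← AlgSp.Points.ofPt_eq_map_ofScheme, Groth.L23.ofPt_comp, hr, ht₁])
        exact Groth.L23.UnionAffine.exists_chart hred hXqs hc₁ hc₂ hcov sq hB (isAffineOpen_bot T₂.left)
          (TopologicalSpace.Opens.ext (Set.ext fun r => ⟨fun hr => absurd ⟨r, rfl⟩ (hsub hr), fun hr => hr.elim⟩)) x
          (fun t e => hinj₁ (ht₁.trans e.symm) ▸ htB)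
          (fun t e => absurd (by rw [Groth.L23.range_map_yon]; exact ⟨t, e⟩) hx')
    · obtain ⟨t₂, ht₂⟩ := hsurj c₂ hx
      by_cases hx' : x ∈ Set.range (AlgSp.Points.map c₁)
      · obtain ⟨t₁, ht₁⟩ := hsurj c₁ hx'
        obtain ⟨r, hr₁', hr₂'⟩ := (Groth.L23.ofPt_eq_ofPt_iff sq t₁ t₂).1 (ht₁.trans ht₂.symm)
        obtain ⟨B₁, B₂, hB₁, hB₂, hB, hm₁, hm₂⟩ := Groth.L23.UnionAffine.exists_affine_pair p₁.left p₂.left r
        exact Groth.L23.UnionAffine.exists_chart hred hXqs hc₁ hc₂ hcov sq hB₁ hB₂ hB x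
          (fun t e => hinj₁ (ht₁.trans e.symm) ▸ hr₁' ▸ hm₁) (fun t e => hinj₂ (ht₂.trans e.symm) ▸ hr₂' ▸ hm₂)
      · obtain ⟨B, hB, htB, hsub⟩ := exists_isAffineOpen_mem_and_subset (x := t₂)
          (U := ⟨(Set.range p₂.left)ᶜ, p₂.left.isClosedEmbedding.isClosed_range.isOpen_compl⟩) (by
            rintro ⟨r, hr⟩
            refine hx' ⟨AlgSp.Points.map ((AlgSp.yon S).map p₁) (AlgSp.Points.ofScheme P r), ?_⟩
            rw [← AlgSp.Points.map_comp, sq.w, ← AlgSp.Points.ofPt_eq_map_ofScheme, Groth.L23.ofPt_comp, hr, ht₂])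
        exact Groth.L23.UnionAffine.exists_chart hred hXqs hc₁ hc₂ hcov sq (isAffineOpen_bot T₁.left) hB
          (TopologicalSpace.Opens.ext (Set.ext fun r => ⟨fun hr => hr.elim, fun hr => absurd ⟨r, rfl⟩ (hsub hr)⟩)) x
          (fun t e => absurd (by rw [Groth.L23.range_map_yon]; exact ⟨t, e⟩) hx')
          (fun t e => hinj₂ (ht₂.trans e.symm) ▸ htB)
  exact ⟨hred, ⟨inferInstance⟩⟩

end Groth.Agent.S10050
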