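import Groth.Statements.S10051
import Groth.Agent.L23.StalkRep

set_option autoImplicit false
universe u
open CategoryTheory CategoryTheory.Limits AlgebraicGeometry
open AlgSp

namespace Groth.Agent.S10051

/-- Let `X` be an algebraic space whose structure morphism to the scheme `S` is quasi-compact and
quasi-separated. If for every `x ∈ |X|` with image `s ∈ S` the base change `X ×_S Spec(O_{S,s})` is
a scheme, then `X` is a scheme. -/
theorem result (S : Scheme.{u}) (X : AlgSp.Space S)
    (q : X.obj ⟶ (AlgSp.yon S).obj (Over.mk (𝟙 S))) (hqc : AlgSp.IsQuasiCompactMor q) (hqs : AlgSp.IsQuasiSeparatedMor q)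
    (h : ∀ x : AlgSp.Points X.obj, ∀ (P : AlgSp.Sp S) (fst : P ⟶ X.obj)
      (snd : P ⟶ (AlgSp.yon S).obj (Over.mk (S.fromSpecStalk ((AlgSp.Points.schemeHomeo (Over.mk (𝟙 S))).symm (AlgSp.Points.map q x))))),
      IsPullback fst snd q ((AlgSp.yon S).map (Over.homMk (S.fromSpecStalk _))) → P.obj.IsRepresentable) :
    X.obj.obj.IsRepresentable := by
  exact Groth.L23.StalkRep.isRepresentable_of_stalks X q hqc hqs h

end Groth.Agent.S10051
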