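import Groth.Statements.S10052
import Groth.Agent.L09.ClosedSub.Base

set_option autoImplicit false
universe u
open CategoryTheory CategoryTheory.Limits AlgebraicGeometry
open AlgSp

set_option backward.isDefEq.respectTransparency false
set_option backward.isDefEq.respectTransparency.types false

namespace Groth.Agent.S10052

/-- Let `X` be an algebraic space over `Spec A` with quasi-compact and quasi-separated structure
morphism. If `X` is not a scheme, there is an ideal `I ⊂ A` such that `X_{A/I}` is not a scheme but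
`X_{A/I'}` is a scheme for every ideal `I'` strictly containing `I`. -/
theorem result (A : CommRingCat.{u}) (X : AlgSp.Space (Spec A))
    (q : X.obj ⟶ (AlgSp.yon (Spec A)).obj (Over.mk (𝟙 (Spec A))))
    (hqc : AlgSp.IsQuasiCompactMor q) (hqs : AlgSp.IsQuasiSeparatedMor q) (hX : ¬ X.obj.obj.IsRepresentable) :
    ∃ I : Ideal A,
      (∀ (P : AlgSp.Sp (Spec A)) (fst : P ⟶ X.obj)
        (snd : P ⟶ (AlgSp.yon (Spec A)).obj (Over.mk (Spec.map (CommRingCat.ofHom (Ideal.Quotient.mk I))))),
        IsPullback fst snd q ((AlgSp.yon (Spec A)).map (Over.homMk (Spec.map (CommRingCat.ofHom (Ideal.Quotient.mk I))))) →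
          ¬ P.obj.IsRepresentable) ∧
      ∀ I' : Ideal A, I < I' →
        ∀ (P : AlgSp.Sp (Spec A)) (fst : P ⟶ X.obj)
          (snd : P ⟶ (AlgSp.yon (Spec A)).obj (Over.mk (Spec.map (CommRingCat.ofHom (Ideal.Quotient.mk I'))))),
          IsPullback fst snd q ((AlgSp.yon (Spec A)).map (Over.homMk (Spec.map (CommRingCat.ofHom (Ideal.Quotient.mk I'))))) →
            P.obj.IsRepresentable := by
  haveI : IsAffine (Over.mk (𝟙 (Spec A))).left := inferInstanceAs (IsAffine (Spec A))
  have hT := Groth.L09.Filtration.qcqs_of_affine (S := Spec A) (IsAlgSpace.yon_obj (Over.mk (𝟙 (Spec A)))) (Iso.refl _)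
  have hXc : AlgSp.IsQuasiCompactSp X.obj := hqc (IsAlgSpace.yon_obj _) hT.1 (𝟙 _) (𝟙 X.obj) q IsPullback.of_id_fst
  have hXs : AlgSp.IsQuasiSeparatedSp X.obj := Groth.L09.SpLimit.qsSp_of_qsMor hT.2 hqs
  obtain ⟨I, hI, hI'⟩ := Groth.L09.ClosedSub.exists_maximal_ideal X q hXc hXs hX
  exact ⟨I, fun P fst snd sq h => hI (Groth.L09.ClosedSub.rep_of_iso sq.isoPullback h),
    fun I' hI'' P fst snd sq => Groth.L09.ClosedSub.rep_of_iso sq.isoPullback.symm (hI' I' hI'')⟩

end Groth.Agent.S10052
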