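import Groth.Statements.S10053
import Groth.Agent.L23.ClosedAffineSpace
import Groth.Agent.L23.LocP

set_option autoImplicit false
set_option backward.isDefEq.respectTransparency.types false
universe u
open CategoryTheory CategoryTheory.Limits AlgebraicGeometry
open AlgSp

namespace Groth.Agent.S10053
open Groth.L23

/-- For a quasi-compact morphism `f : X ⟶ Y` of algebraic spaces over `S` these conditions are
equivalent: (1) `f` is universally closed; (2) for every `Z ⟶ Y` locally of finite presentation,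
with `Z` an algebraic space, the map `|X ×_Y Z| → |Z|` is closed; (3) for some scheme `V` with a
surjective etale morphism `V ⟶ Y`, the maps `|X ×_Y 𝐀^n_V| → |𝐀^n_V|` are closed for all `n`. Stated
as (1) ↔ (2) and (1) ↔ (3). -/
theorem result (S : Scheme.{u}) {X Y : AlgSp.Space S} (f : X ⟶ Y)
    (hqc : AlgSp.IsQuasiCompactMor f.hom) :
    (AlgSp.IsUnivClosedMor f.hom ↔
      ∀ (Z : AlgSp.Space S) (g : Z ⟶ Y), AlgSp.LocP @LocallyOfFinitePresentation g.hom →
        ∀ (P : AlgSp.Sp S) (fst : P ⟶ X.obj) (snd : P ⟶ Z.obj), IsPullback fst snd f.hom g.hom →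
          IsClosedMap (AlgSp.Points.map snd)) ∧
    (AlgSp.IsUnivClosedMor f.hom ↔
      ∃ (V : Over S) (p : (AlgSp.yon S).obj V ⟶ Y.obj), AlgSp.RepWith @Etale p ∧ AlgSp.RepWith @Surjective p ∧
        ∀ (n : ℕ) (P : AlgSp.Sp S) (fst : P ⟶ X.obj)
          (snd : P ⟶ (AlgSp.yon S).obj (Over.mk ((𝔸(ULift.{u} (Fin n); V.left) ↘ V.left) ≫ V.hom))),
          IsPullback fst snd f.hom ((AlgSp.yon S).map (Over.homMk (𝔸(ULift.{u} (Fin n); V.left) ↘ V.left)) ≫ p) →
            IsClosedMap (AlgSp.Points.map snd)) := by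
  have key : ∀ (V : Over S) (p : (AlgSp.yon S).obj V ⟶ Y.obj), AlgSp.RepWith @Etale p →
      AlgSp.RepWith @Surjective p → (∀ (n : ℕ) (P : AlgSp.Sp S) (fst : P ⟶ X.obj)
        (snd : P ⟶ (AlgSp.yon S).obj (affOver V (ULift.{u} (Fin n)))),
        IsPullback fst snd f.hom ((AlgSp.yon S).map (affProj V (ULift.{u} (Fin n))) ≫ p) →
          IsClosedMap (AlgSp.Points.map snd)) → AlgSp.IsUnivClosedMor f.hom :=
    fun V p hp hps h => isUnivClosedMor_of_affineSpace X.property Y.property hqc hp hps h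
  refine ⟨⟨fun h Z g _ P fst snd sq => h Z.property g.hom fst snd sq, fun h => ?_⟩,
    ⟨fun h => ?_, fun ⟨V, p, hp, hps, h⟩ => key V p hp hps h⟩⟩
  · obtain ⟨V, p, hp, hps⟩ := Y.property.atlas
    refine key V p hp hps fun n P fst snd sq => ?_
    refine h ⟨_, IsAlgSpace.yon_obj (affOver V (ULift.{u} (Fin n)))⟩
      (ObjectProperty.homMk ((AlgSp.yon S).map (affProj V (ULift.{u} (Fin n))) ≫ p)) ?_ P fst snd sq
    exact locP_comp etLocal_lfp (IsAlgSpace.yon_obj _) (IsAlgSpace.yon_obj V) Y.property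
      (locP_of_repWith etLocal_lfp ((repWith_yon_map_iff _ _).2
        (inferInstanceAs (LocallyOfFinitePresentation (𝔸(ULift.{u} (Fin n); V.left) ↘ V.left)))))
      (locP_mono (P := @Etale) (fun φ (_ : Etale φ) => by infer_instance)
        (locP_of_repWith etLocal_etale hp))
  · obtain ⟨V, p, hp, hps⟩ := Y.property.atlas
    exact ⟨V, p, hp, hps, fun n P fst snd sq => h (IsAlgSpace.yon_obj _) _ fst snd sq⟩

end Groth.Agent.S10053
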