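import Groth.Statements.S10054
import Groth.Agent.L18.DominatingDVR
import Groth.Agent.L23.LocP
import Groth.Agent.L23.MorCalc
import Groth.Agent.L23.QsTop
import Groth.Agent.L23.Univ
import Mathlib.RingTheory.Polynomial.Basic
import Mathlib.RingTheory.Localization.FractionRing
import Mathlib.RingTheory.Ideal.MinimalPrime.Basic
import Mathlib.AlgebraicGeometry.Morphisms.FiniteType

set_option autoImplicit false
set_option backward.isDefEq.respectTransparency.types false
set_option linter.style.haveILetI false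
universe u
open CategoryTheory CategoryTheory.Limits AlgebraicGeometry
open AlgSp

namespace Groth.Agent.S10054

open Groth.L23

open Polynomial in
/-- A point in the closure of the image of a morphism of finite type of affine schemes with Noetherian target is
the centre of a discrete valuation ring whose generic point lifts. -/
theorem exists_dvr {R C : Type u} [CommRing R] [IsNoetherianRing R] [CommRing C] (φ : R →+* C)
    (hφ : φ.FiniteType) {v : PrimeSpectrum R} (hv : v ∈ closure (Set.range (PrimeSpectrum.comap φ))) :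
    ∃ (A : Type u) (_ : CommRing A) (_ : IsDomain A) (_ : IsDiscreteValuationRing A) (ψ : R →+* A)
      (χ : C →+* FractionRing A), (algebraMap A (FractionRing A)).comp ψ = χ.comp φ ∧
        PrimeSpectrum.comap ψ (IsLocalRing.closedPoint A) = v := by
  classical
  rw [PrimeSpectrum.closure_range_comap, PrimeSpectrum.mem_zeroLocus, SetLike.coe_subset_coe] at hv
  obtain ⟨q, hq, hqv⟩ := Ideal.exists_minimalPrimes_le hv
  obtain ⟨ξ, hξ, -, hξq⟩ := Ideal.exists_comap_eq_of_mem_minimalPrimes (I := ⊥) φ q hq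
  haveI := hξ
  letI := φ.toAlgebra
  haveI : Algebra.FiniteType R C := hφ
  obtain ⟨gens, hgens⟩ := Algebra.FiniteType.out (R := R) (A := C)
  let L := ξ.ResidueField
  let eL : C →+* L := algebraMap C L
  let L' := FractionRing L[X]
  let ι : L →+* L' := (algebraMap L[X] L').comp Polynomial.C
  let Φ : R[X] →+* L' := (algebraMap L[X] L').comp (Polynomial.mapRingHom (eL.comp φ))
  let 𝔪 : Ideal R[X] := v.asIdeal.comap (Polynomial.evalRingHom 0)
  haveI : 𝔪.IsPrime := Ideal.IsPrime.comap _
  have hker : ∀ r, eL (φ r) = 0 ↔ r ∈ q := fun r => by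
    rw [Ideal.algebraMap_residueField_eq_zero, ← hξq, Ideal.mem_comap]
  have hΦ : ∀ f : 𝔪.primeCompl, IsUnit (Φ f) := fun f => by
    refine isUnit_iff_ne_zero.2 fun h0 => f.2 ?_
    have h1 : Polynomial.map (eL.comp φ) f.1 = 0 :=
      IsFractionRing.injective L[X] L' (h0.trans (map_zero _).symm)
    have h2 : eL (φ (f.1.eval 0)) = 0 := by
      rw [← Polynomial.coeff_zero_eq_eval_zero]
      have h3 := congrArg (fun g : L[X] => g.coeff 0) h1
      simpa [Polynomial.coeff_map] using h3
    exact hqv ((hker _).1 h2)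
  let A := Localization.AtPrime 𝔪
  haveI : IsNoetherianRing A := IsLocalization.isNoetherianRing 𝔪.primeCompl A inferInstance
  let g : A →+* L' := IsLocalization.lift hΦ
  have hg : ∀ f, g (algebraMap R[X] A f) = Φ f := IsLocalization.lift_eq hΦ
  letI : Algebra A L' := g.toAlgebra
  have hX : Φ Polynomial.X = algebraMap L[X] L' Polynomial.X := by simp [Φ]
  have hgen : Subfield.closure (Set.range (algebraMap A L') ∪ ((fun c => ι (eL c)) '' (gens : Set C))) = ⊤ := by
    set F := Subfield.closure (Set.range (algebraMap A L') ∪ ((fun c => ι (eL c)) '' (gens : Set C)))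
    have hR : ∀ f, Φ f ∈ F := fun f => Subfield.subset_closure (Or.inl ⟨_, hg f⟩)
    have hC : ∀ c, ι (eL c) ∈ F := by
      intro c
      have hc : c ∈ Algebra.adjoin R (gens : Set C) := hgens ▸ Algebra.mem_top
      induction hc using Algebra.adjoin_induction with
      | mem x hx => exact Subfield.subset_closure (Or.inr ⟨x, hx, rfl⟩)
      | algebraMap r =>
        have := hR (Polynomial.C r)
        rw [show algebraMap R C r = φ r from rfl]
        simpa [Φ, ι] using this
      | add x y _ _ hx hy => rw [map_add, map_add]; exact add_mem hx hy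
      | mul x y _ _ hx hy => rw [map_mul, map_mul]; exact mul_mem hx hy
    have hL : ∀ l : L, ι l ∈ F := by
      intro l
      obtain ⟨a, b, -, rfl⟩ := IsFractionRing.div_surjective (C ⧸ ξ) l
      obtain ⟨a, rfl⟩ := Ideal.Quotient.mk_surjective a
      obtain ⟨b, rfl⟩ := Ideal.Quotient.mk_surjective b
      rw [map_div₀]
      exact div_mem (hC a) (hC b)
    have hP : ∀ p : L[X], algebraMap L[X] L' p ∈ F := by
      intro p
      induction p using Polynomial.induction_on' with
      | add p q hp hq => rw [map_add]; exact add_mem hp hq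
      | monomial n a =>
        rw [← Polynomial.C_mul_X_pow_eq_monomial, map_mul, map_pow, ← hX]
        exact mul_mem (hL a) (pow_mem (hR _) n)
    refine eq_top_iff.2 fun z _ => ?_
    obtain ⟨a, b, -, rfl⟩ := IsFractionRing.div_surjective L[X] z
    exact div_mem (hP a) (hP b)
  have hXm : algebraMap R[X] A Polynomial.X ∈ IsLocalRing.maximalIdeal A := by
    refine (IsLocalization.AtPrime.to_map_mem_maximal_iff A 𝔪 _).2 ?_
    show Polynomial.eval 0 Polynomial.X ∈ v.asIdeal
    rw [Polynomial.eval_X]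
    exact zero_mem _
  have hne : RingHom.ker (algebraMap A L') ≠ IsLocalRing.maximalIdeal A := fun h => by
    have h1 : g (algebraMap R[X] A Polynomial.X) = 0 := (h.ge hXm :)
    rw [hg, hX] at h1
    exact Polynomial.X_ne_zero (IsFractionRing.injective L[X] L' (h1.trans (map_zero _).symm))
  obtain ⟨W, hW, hWA, hWm⟩ := Groth.L18.exists_isDiscreteValuationRing_dominating
    ((gens.finite_toSet).image _) hgen hne
  haveI := hW
  let ψ : R →+* W := RingHom.codRestrict
    ((g.comp (algebraMap R[X] A)).comp Polynomial.C) W fun r => hWA _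
  refine ⟨W, inferInstance, inferInstance, hW, ψ,
    (FractionRing.algEquiv W L').symm.toRingEquiv.toRingHom.comp (ι.comp eL), RingHom.ext fun r => ?_, ?_⟩
  · show algebraMap W (FractionRing W) (ψ r) = (FractionRing.algEquiv W L').symm (ι (eL (φ r)))
    rw [← (FractionRing.algEquiv W L').symm.commutes]
    congr 1
    show g (algebraMap R[X] A (Polynomial.C r)) = ι (eL (φ r))
    rw [hg]
    simp [Φ, ι]
  · refine PrimeSpectrum.ext (Ideal.ext fun r => ?_)
    show ψ r ∈ IsLocalRing.maximalIdeal W ↔ r ∈ v.asIdeal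
    have hr : Polynomial.C r ∈ 𝔪 ↔ r ∈ v.asIdeal := by
      show Polynomial.eval 0 (Polynomial.C r) ∈ v.asIdeal ↔ _
      rw [Polynomial.eval_C]
    constructor
    · intro h
      by_contra hrv
      have hu : IsUnit (algebraMap R[X] A (Polynomial.C r)) :=
        IsLocalization.map_units A (⟨Polynomial.C r, fun h' => hrv (hr.1 h')⟩ : 𝔪.primeCompl)
      let gW : A →+* W := RingHom.codRestrict g W hWA
      exact (IsLocalRing.mem_maximalIdeal _).1 h (hu.map gW)
    · intro hrv
      refine (W.valuation_lt_one_iff _).2 ?_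
      exact hWm _ ((IsLocalization.AtPrime.to_map_mem_maximal_iff A 𝔪 _).2 (hr.2 hrv))

theorem specSquare {R C : CommRingCat.{u}} {A K : Type u} [CommRing A] [CommRing K] (φ : R ⟶ C) (ψ : R →+* A)
    (χ : C →+* K) (κ : A →+* K) (h : κ.comp ψ = χ.comp φ.hom) :
    Spec.map (CommRingCat.ofHom χ) ≫ Spec.map φ =
      Spec.map (CommRingCat.ofHom κ) ≫ Spec.map (CommRingCat.ofHom ψ) := by
  rw [← Spec.map_comp, ← Spec.map_comp]
  exact congrArg Spec.map (CommRingCat.hom_ext h.symm)

theorem map_schemeHomeo {S : Scheme.{u}} {T T' : Over S} (k : T ⟶ T') (p : T.left) :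
    Points.map ((yon S).map k) (Points.schemeHomeo T p) = Points.schemeHomeo T' (k.left p) := by
  rw [Points.map_yon_map_eq]
  simp only [Function.comp_apply]
  rw [Homeomorph.symm_apply_apply]

/-- A lift through a chart gives a valuative square. -/
theorem exists_square {S : Scheme.{u}} {X Y : Sp S} (f : X ⟶ Y) {R : CommRingCat.{u}} (r : Spec R ⟶ S) {U : Over S}
    [IsAffine U.left] (h : U ⟶ Over.mk r) {a : (yon S).obj U ⟶ X} {b : (yon S).obj (Over.mk r) ⟶ Y}
    (w : a ≫ f = (yon S).map h ≫ b) (φ : R ⟶ Γ(U.left, ⊤)) (hφ : Spec.map φ = U.left.isoSpec.inv ≫ h.left)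
    {A : Type u} [CommRing A] (ψ : R →+* A) (χ : Γ(U.left, ⊤) →+* FractionRing A)
    (hsq : (algebraMap A (FractionRing A)).comp ψ = χ.comp φ.hom) {v : Spec R} [IsLocalRing A]
    (hv : PrimeSpectrum.comap ψ (IsLocalRing.closedPoint A) = v) :
    ∃ (a₁ : Spec (CommRingCat.of A) ⟶ S) (α : (yon S).obj (Over.mk a₁) ⟶ Y)
      (κ : (yon S).obj (Over.mk (Spec.map (CommRingCat.ofHom (algebraMap A (FractionRing A))) ≫ a₁)) ⟶ X),
      κ ≫ f = (yon S).map (Over.homMk (Spec.map (CommRingCat.ofHom (algebraMap A (FractionRing A))))) ≫ α ∧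
      Points.map α (Points.schemeEquiv (Over.mk a₁) (IsLocalRing.closedPoint A)) = Points.ofPt b v := by
  have e := specSquare φ ψ χ _ hsq
  let α₀ : Over.mk (Spec.map (CommRingCat.ofHom ψ) ≫ r) ⟶ Over.mk r := Over.homMk (Spec.map (CommRingCat.ofHom ψ)) rfl
  let κ₀ : Over.mk (Spec.map (CommRingCat.ofHom (algebraMap A (FractionRing A))) ≫
      Spec.map (CommRingCat.ofHom ψ) ≫ r) ⟶ U :=
    Over.homMk (Spec.map (CommRingCat.ofHom χ) ≫ U.left.isoSpec.inv) (by
      show (_ ≫ _) ≫ U.hom = _ ≫ _ ≫ r
      rw [← Over.w h]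
      show (_ ≫ _) ≫ h.left ≫ r = _
      rw [Category.assoc, ← Category.assoc U.left.isoSpec.inv, ← hφ, ← Category.assoc (Spec.map (CommRingCat.ofHom χ)), e, Category.assoc])
  refine ⟨_, (yon S).map α₀ ≫ b, (yon S).map κ₀ ≫ a, ?_, ?_⟩
  · rw [Category.assoc, w, ← Functor.map_comp_assoc, ← Functor.map_comp_assoc]
    refine congrArg (fun m => (yon S).map m ≫ b) (Over.OverMorphism.ext ?_)
    show (_ ≫ _) ≫ h.left = _ ≫ _
    rw [Category.assoc, ← hφ, e]
    rfl
  · refine ((Points.map_comp _ _ _).trans (congrArg (Points.map b) ?_)).trans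
      (Points.ofPt_eq_map_ofScheme b v).symm
    refine (map_schemeHomeo α₀ _).trans ?_
    exact congrArg (Points.schemeHomeo (Over.mk r)) hv

set_option maxHeartbeats 2000000 in
/-- Let `f : X ⟶ Y` be a morphism of finite type of algebraic spaces over `S` with `Y` locally
Noetherian, and `y ∈ |Y|` a point lying in the closure of `f`'s image on points. Then one can find a
discrete valuation ring `A` with fraction field `K` and a commutative square `Spec K ⟶ X`, `Spec A ⟶
Y` (over `f` and `Spec K ⟶ Spec A`) sending the closed point of `Spec A` to `y`. (The refinement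
that the `K`-point may be taken at a codimension-0 point with `K` a residue field of an etale chart
is not included.) -/
theorem result (S : Scheme.{u}) {X Y : AlgSp.Space S} (f : X ⟶ Y)
    (hft : AlgSp.IsFiniteTypeMor f.hom) (hY : AlgSp.IsLocNoethSp Y.obj) (y : AlgSp.Points Y.obj)
    (hy : y ∈ closure (Set.range (AlgSp.Points.map f.hom))) :
    ∃ (A : Type u) (_ : CommRing A) (_ : IsDomain A) (_ : IsDiscreteValuationRing A)
      (a : Spec (CommRingCat.of A) ⟶ S)
      (α : (AlgSp.yon S).obj (Over.mk a) ⟶ Y.obj)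
      (κ : (AlgSp.yon S).obj (Over.mk (Spec.map (CommRingCat.ofHom (algebraMap A (FractionRing A))) ≫ a)) ⟶ X.obj),
      κ ≫ f.hom = (AlgSp.yon S).map (Over.homMk (Spec.map (CommRingCat.ofHom (algebraMap A (FractionRing A))))) ≫ α ∧
      AlgSp.Points.map α (AlgSp.Points.schemeEquiv (Over.mk a) (IsLocalRing.closedPoint A)) = y := by
  classical
  obtain ⟨V₁, b₁, hb₁, hb₁s, hV₁⟩ := hY
  haveI : IsLocallyNoetherian V₁.left := hV₁
  obtain ⟨v₁, hv₁⟩ := surjective_ofPt hb₁s y
  obtain ⟨O, hO, hvO, -⟩ := exists_isAffineOpen_mem_and_subset (U := (⊤ : V₁.left.Opens)) (x := v₁) trivial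
  let R := Γ(V₁.left, O)
  haveI : IsNoetherianRing R := IsLocallyNoetherian.component_noetherian ⟨O, hO⟩
  let V : Over S := Over.mk (hO.fromSpec ≫ V₁.hom)
  let b : (yon S).obj V ⟶ Y.obj := (yon S).map (Over.homMk hO.fromSpec rfl : V ⟶ V₁) ≫ b₁
  have hb : RepWith @Etale b :=
    repWith_comp (repWith_map (inferInstanceAs (Etale hO.fromSpec))) hb₁
  let v : Spec R := hO.primeIdealOf ⟨v₁, hvO⟩
  have hvy : Points.ofPt b v = y := by
    rw [ofPt_comp, ← hv₁]
    exact congrArg _ (hO.fromSpec_primeIdealOf ⟨v₁, hvO⟩)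
  have sq := IsPullback.of_hasPullback f.hom b
  have hP : IsAlgSpace (pullback f.hom b) :=
    isAlgSpace_of_isPullback Y.property.diag X.property (IsAlgSpace.yon_obj V) sq
  haveI : CompactSpace V.left := inferInstanceAs (CompactSpace (Spec R))
  obtain ⟨U, a', hU, ha', ha's⟩ := Qs.exists_affine_atlas hP
    (hft.2 (IsAlgSpace.yon_obj V) isQuasiCompactSp_of_compactSpace b _ _ sq)
  haveI := hU
  obtain ⟨h, hh⟩ := (yon S).map_surjective (a' ≫ pullback.snd f.hom b)
  let a := a' ≫ pullback.fst f.hom b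
  have ha : RepWith @Etale a := repWith_comp ha' (repWith_of_isPullback sq.flip hb)
  have w : a ≫ f.hom = (yon S).map h ≫ b := by
    rw [hh, Category.assoc, Category.assoc, sq.w]
  haveI : LocallyOfFiniteType h.left := hft.1 a b h ha hb w
  have hvcl : v ∈ closure (Set.range h.left) := by
    have hop : IsOpenMap (Points.ofPt b) := isOpenMap_ofPt hb
    refine closure_mono ?_ (hop.preimage_closure_subset_closure_preimage (show v ∈ Points.ofPt b ⁻¹' closure _ by
      rw [Set.mem_preimage, hvy]; exact hy))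
    rintro z ⟨x, hx⟩
    rw [Points.ofPt_eq_map_ofScheme] at hx
    obtain ⟨p, -, hp⟩ := exists_of_isPullback sq x _ hx
    obtain ⟨t, rfl⟩ := surjective_ofPt ha's p
    refine ⟨t, (Points.schemeHomeo V).injective ?_⟩
    rw [Points.map_ofPt, ← hh, Points.ofPt_eq_map_ofScheme, Points.map_yon_map_eq] at hp
    refine Eq.trans ?_ hp
    show _ = Points.schemeHomeo V (h.left ((Points.schemeHomeo U).symm (Points.schemeHomeo U t)))
    rw [Homeomorph.symm_apply_apply]
  obtain ⟨φ, hφ⟩ := Spec.map_surjective (U.left.isoSpec.inv ≫ h.left)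
  haveI : LocallyOfFiniteType (Spec.map φ) := by rw [hφ]; infer_instance
  have hφft : φ.hom.FiniteType := HasRingHomProperty.Spec_iff.1 (inferInstance : LocallyOfFiniteType (Spec.map φ))
  have hrange : v ∈ closure (Set.range (PrimeSpectrum.comap φ.hom)) := by
    refine closure_mono ?_ hvcl
    rintro _ ⟨t, rfl⟩
    refine ⟨U.left.isoSpec.hom t, ?_⟩
    show Spec.map φ (U.left.isoSpec.hom t) = h.left t
    rw [hφ, ← Scheme.Hom.comp_apply, Iso.hom_inv_id_assoc]
  obtain ⟨A, _, _, _, ψ, χ, hsq, hcp⟩ := exists_dvr φ.hom hφft hrange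
  obtain ⟨a₁, α, κ, h1, h2⟩ := exists_square f.hom (hO.fromSpec ≫ V₁.hom) h w φ hφ ψ χ hsq hcp
  exact ⟨A, inferInstance, inferInstance, inferInstance, a₁, α, κ, h1, h2.trans hvy⟩

end Groth.Agent.S10054
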