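import Groth.Statements.S10056
import Groth.Agent.L09.LimReduced.Basic

set_option autoImplicit false
universe u
open CategoryTheory CategoryTheory.Limits AlgebraicGeometry
open AlgSp

set_option backward.isDefEq.respectTransparency false
set_option backward.isDefEq.respectTransparency.types false

set_option linter.style.haveILetI false

namespace Groth.Agent.S10056

/-- Let `X` be the limit, in fppf sheaves over `S`, of a cofiltered system `(X_i)` of algebraic spaces
over `S` whose transition maps are affine. If each `X_i` is reduced, then `X` is reduced. (The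
published statement does not restate that the transition morphisms are affine; the limit it refers
to is formed under that assumption, which this row states.) -/
theorem result (S : Scheme.{u}) {I : Type u} [SmallCategory I] [IsCofiltered I]
    (D : I ⥤ AlgSp.Sp S) (hD : ∀ i, AlgSp.IsAlgSpace (D.obj i))
    (hDa : ∀ (i j : I) (φ : i ⟶ j), AlgSp.IsAffineMor (D.map φ))
    (c : Cone D) (hc : IsLimit c)
    (hred : ∀ i, AlgSp.IsReducedSp (D.obj i)) : AlgSp.IsReducedSp c.pt := by
  open Groth.L23 Groth.L09.LimReduced in
  obtain ⟨i₀⟩ : Nonempty I := IsCofiltered.nonempty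
  have hred' : ∀ (j : I) (V : Over S) (b : (AlgSp.yon S).obj V ⟶ D.obj j), AlgSp.RepWith @Etale b →
      IsReduced V.left := fun j V b hb =>
    Groth.L23.Supp.isReduced_obj (X := ⟨D.obj j, hD j⟩) (hred j) (AlgSp.EtOver.mk b hb)
  have haff : AlgSp.IsAffineMor (c.π.app i₀) := fun T hT a => by
    haveI := hT
    obtain ⟨W, q, l, sq, hW, -⟩ := Groth.L09.LimReduced.isPullback_limit hDa hc a
    exact ⟨W, q, l, sq, hW⟩
  obtain ⟨U, p, hp, hps⟩ := (hD i₀).atlas
  have hrep := Groth.L23.repWith_isAffineHom_of_isAffineMor haff
  let q := hrep.1.snd p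
  have sq := hrep.1.isPullback p
  refine ⟨_, hrep.1.fst p, Groth.L23.repWith_of_isPullback sq.flip hp,
    Groth.L23.repWith_of_isPullback sq.flip hps, ?_⟩
  let 𝒰 := U.left.affineCover
  let 𝒱 := 𝒰.pullback₁ q.left
  haveI : ∀ i, IsReduced (𝒱.X i) := fun i => by
    let V : Over S := Over.mk (𝒰.f i ≫ U.hom)
    let g : V ⟶ U := Over.homMk (𝒰.f i)
    haveI : IsAffine V.left := inferInstanceAs (IsAffine (𝒰.X i))
    haveI : IsOpenImmersion g.left := 𝒰.map_prop i
    obtain ⟨W, q', l, sq', -, hWred⟩ := Groth.L09.LimReduced.isPullback_limit hDa hc ((AlgSp.yon S).map g ≫ p)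
    haveI := hWred hred' (Groth.L23.repWith_comp (Groth.L23.repWith_map (inferInstanceAs (Etale g.left))) hp)
    have sq₁ := ((IsPullback.of_hasPullback q g).map (AlgSp.yon S)).paste_horiz sq
    let e₁ := sq₁.isoIsPullback _ _ sq'
    let e₂ := (Over.forget S).mapIso ((AlgSp.yon S).preimageIso e₁)
    have e₃ := (((IsPullback.of_hasPullback q g).map (Over.forget S)).isoPullback)
    haveI : IsReduced ((Over.forget S).obj W) := inferInstanceAs (IsReduced W.left)
    haveI : IsReduced ((Over.forget S).obj (pullback q g)) := isReduced_of_isOpenImmersion e₂.hom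
    exact isReduced_of_isOpenImmersion e₃.inv
  exact IsReduced.of_openCover (X := _) 𝒱

end Groth.Agent.S10056
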