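import Groth.Statements.S1006
import Groth.Agent.L29.DCoh.PCNoeth
import Groth.Agent.L29.DCoh.Triangle

set_option autoImplicit false
set_option backward.isDefEq.respectTransparency false
universe u
open CategoryTheory CategoryTheory.Limits AlgebraicGeometry
attribute [local instance] HasDerivedCategory.standard
open Perf

namespace Groth.Agent.S1006

/-- On a Noetherian scheme X every perfect object of D(O_X) has coherent cohomology sheaves and is
bounded. -/
theorem result (X : Scheme.{u}) [IsNoetherian X] (E : DCoh.D X) (hE : DCoh.IsPerfect E) :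
    DCoh.IsCohD E ∧ ∃ a b : ℤ, E.IsGE a ∧ E.IsLE b := by
  have hq : DCoh.IsQCohD E := Groth.L29.DC.PCQCoh.isQCohD_of_perfect hE
  refine ⟨fun i => Groth.L29.DC.PCNoeth.coh_of_pc hq (Groth.L29.DC.pc_of_perfect hE i) i le_rfl, ?_⟩
  choose V hx hV using (Groth.L29.DC.isPerfect_iff_wit E).1 hE
  choose P hP e using hV
  choose a b hab using fun x => (hP x).1
  obtain ⟨t, ht⟩ := isCompact_univ.elim_finite_subcover (fun x : X => (V x : Set X))
    (fun x => (V x).isOpen) (fun x _ => Set.mem_iUnion.2 ⟨x, hx x⟩)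
  obtain ⟨A, hA⟩ := (t.image a).finite_toSet.bddBelow
  obtain ⟨B, hB⟩ := (t.image b).finite_toSet.bddAbove
  have key : ∀ i, (i < A ∨ B < i) → IsZero (DCoh.HD E i) := fun i hi =>
    Groth.L29.DC.isZero_HD_of_local E i fun x => by
      obtain ⟨y, hy, hxy⟩ := Set.mem_iUnion₂.1 (ht (Set.mem_univ x))
      refine ⟨V y, hxy, IsZero.of_iso ?_ ((DerivedCategory.homologyFunctor _ i).mapIso (e y).some)⟩
      refine (((P y).exactAt_iff_isZero_homology i).1 (HomologicalComplex.ExactAt.of_isZero ?_)).of_iso
        ((DerivedCategory.homologyFunctorFactors _ i).app (P y))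
      refine hab y i ?_
      rcases hi with hi | hi
      · exact Or.inl (lt_of_lt_of_le hi (hA (Finset.mem_coe.2 (Finset.mem_image_of_mem a hy))))
      · exact Or.inr (lt_of_le_of_lt (hB (Finset.mem_coe.2 (Finset.mem_image_of_mem b hy))) hi)
  exact ⟨A, B, (DerivedCategory.isGE_iff E A).2 fun i hi => key i (Or.inl hi),
    (DerivedCategory.isLE_iff E B).2 fun i hi => key i (Or.inr hi)⟩

end Groth.Agent.S1006
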