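import Groth.Statements.S10063
import Groth.Agent.L23.Approx.Closed37

set_option autoImplicit false
set_option linter.style.haveILetI false
set_option backward.isDefEq.respectTransparency false
set_option backward.isDefEq.respectTransparency.types false
universe u
open CategoryTheory CategoryTheory.Limits AlgebraicGeometry
open AlgSp
open Groth.L23

namespace Groth.Agent.S10063

/-- Let `B` be the limit, in fppf sheaves over `S`, of a cofiltered system `(B_i)` of Noetherian
algebraic spaces over `S` (quasi-compact and quasi-separated over `S`, locally Noetherian) whose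
transition maps are affine, and `X ⟶ B` a quasi-separated morphism of finite type. Then for some `i`
there are `W ⟶ B_i` of finite type and `X ⟶ W` compatible with `X ⟶ B ⟶ B_i` such that `X ⟶ B
×_{B_i} W` is a closed immersion. (The published statement allows any base scheme and uses absolute
quasi-separatedness; this row assumes the base quasi-separated, over which quasi-separatedness
relative to the base is the absolute notion.) -/
theorem result (S : Scheme.{u}) [QuasiSeparatedSpace S] {I : Type u} [SmallCategory I] [IsCofiltered I]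
    (D : I ⥤ AlgSp.Sp S) (hD : ∀ i, AlgSp.IsAlgSpace (D.obj i))
    (hDa : ∀ (i j : I) (φ : i ⟶ j), AlgSp.IsAffineMor (D.map φ))
    (hqc : ∀ i, AlgSp.IsQuasiCompactSp (D.obj i)) (hqs : ∀ i, AlgSp.IsQuasiSeparatedSp (D.obj i))
    (c : Cone D) (hc : IsLimit c)
    (hln : ∀ i, AlgSp.IsLocNoethSp (D.obj i))
    (X : AlgSp.Space S) (a : X.obj ⟶ c.pt) (haqs : AlgSp.IsQuasiSeparatedMor a) (hft : AlgSp.IsFiniteTypeMor a) :
    ∃ (i : I) (W : AlgSp.Space S) (w : W.obj ⟶ D.obj i) (b : X.obj ⟶ W.obj),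
      AlgSp.IsFiniteTypeMor w ∧ b ≫ w = a ≫ c.π.app i ∧
      ∀ (P : AlgSp.Sp S) (fst : P ⟶ c.pt) (snd : P ⟶ W.obj), IsPullback fst snd (c.π.app i) w →
        ∀ k : X.obj ⟶ P, k ≫ fst = a → k ≫ snd = b → AlgSp.RepWith @IsClosedImmersion k := by
  haveI : IsConnected I := IsCofiltered.isConnected I
  obtain ⟨i₁⟩ := IsCofiltered.nonempty (C := I)
  have hq : RepWith @IsAffineHom (c.π.app i₁) := repWith_isAffineHom_of_isAffineMor fun T hT g => by
    haveI := hT
    obtain ⟨W, q, l, sq, hW, -⟩ := Groth.L09.LimReduced.isPullback_limit hDa hc g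
    exact ⟨W, q, l, sq, hW⟩
  have hB : IsAlgSpace c.pt := isAlgSpace_of_representable_to (hD i₁) hq.1
  have hBqc : IsQuasiCompactSp c.pt := Groth.L09.SpLimit.qcSp_of_affine (hD i₁) (hqc i₁) hq
  have hBqs : IsQuasiSeparatedSp c.pt := Groth.L09.SpLimit.qsSp_of_affine (hqs i₁) hq
  have hXqc : IsQuasiCompactSp X.obj := hft.2 hB hBqc (𝟙 _) (𝟙 _) a IsPullback.of_id_fst
  have hXqs : IsQuasiSeparatedSp X.obj := Groth.L09.SpLimit.qsSp_of_qsMor hBqs haqs
  obtain ⟨J, j1, j2, j3, Z, t, cZ, hcZ, eZ, hZ, hZa, hZq, hZf, -, hZfac⟩ :=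
    Approx.exists_limit_fp X.property hXqc hXqs (Y := ⟨D.obj i₁, hD i₁⟩) (hqs i₁) (a ≫ c.π.app i₁)
  haveI : IsConnected Jᵒᵖ := IsCofiltered.isConnected _
  let q := c.π.app i₁
  have hfac : ∀ l, cZ.π.app l ≫ t.app l = eZ.hom ≫ a ≫ q := fun l => by
    rw [← cancel_epi eZ.inv, hZfac, Iso.inv_hom_id_assoc]
  let cP := Groth.L09.SpLimit.pbCone t q cZ (eZ.hom ≫ a ≫ q) hfac
  have hcP : IsLimit cP := Groth.L09.SpLimit.isLimitPbCone t q hcZ (eZ.hom ≫ a ≫ q) hfac
  let P := Groth.L09.SpLimit.pbSys t q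
  have hPsnd : ∀ l, RepWith @IsAffineHom (pullback.snd q (t.app l)) := fun l =>
    repWith_of_isPullback (IsPullback.of_hasPullback q (t.app l)) hq
  have hPsp : ∀ l, IsAlgSpace (P.obj l) := fun l => isAlgSpace_of_representable_to (hZ l) (hPsnd l).1
  have hPa : ∀ b b' φ, IsAffineMor (P.map φ : P.obj b ⟶ P.obj b') := fun b b' φ => isAffineMor_iff.2
    (repWith_of_isPullback (Groth.L09.SpLimit.isPullback_pbSys t q φ).flip (isAffineMor_iff.1 (hZa b b' φ)))
  let y : X.obj ⟶ cP.pt := pullback.lift a eZ.inv (by rw [Iso.inv_hom_id_assoc])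
  have hy : RepWith @IsClosedImmersion y := by
    refine repWith_of_comp_diagonal (q := pullback.snd q (eZ.hom ≫ a ≫ q)) ?_ ?_
    · rw [show y ≫ pullback.snd q (eZ.hom ≫ a ≫ q) = eZ.inv from pullback.lift_snd _ _ _]
      exact repWith_of_isIso _
    · have h := repWith_of_isPullback (IsPullback.of_hasPullback q (eZ.hom ≫ a ≫ q)) hq
      exact (isSeparatedMor_iff h.1).2
        (repWith_mono (fun φ (_ : IsAffineHom φ) => inferInstanceAs (IsSeparated φ)) h)
  obtain ⟨l₁⟩ := IsCofiltered.nonempty (C := Jᵒᵖ)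
  have hya : ∀ l, (y ≫ cP.π.app l) ≫ pullback.fst q (t.app l) = a := fun l => by
    rw [Category.assoc, show cP.π.app l ≫ pullback.fst q (t.app l) = pullback.fst q (eZ.hom ≫ a ≫ q) from
      (pullback.lift_fst _ _ _).trans (Category.comp_id _)]
    exact pullback.lift_fst _ _ _
  have hyb : ∀ l, (y ≫ cP.π.app l) ≫ pullback.snd q (t.app l) = eZ.inv ≫ cZ.π.app l := fun l => by
    rw [Category.assoc, show cP.π.app l ≫ pullback.snd q (t.app l) =
      pullback.snd q (eZ.hom ≫ a ≫ q) ≫ cZ.π.app l from pullback.lift_snd _ _ _, ← Category.assoc]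
    exact congrArg (· ≫ cZ.π.app l) (pullback.lift_snd _ _ _)
  have hlft : LocP @LocallyOfFiniteType (y ≫ cP.π.app l₁) :=
    locP_of_comp etLocal_lft (fun φ ψ (h : LocallyOfFiniteType (φ ≫ ψ)) => locallyOfFiniteType_of_comp φ ψ) X.property
      (hPsp l₁) hB (g := pullback.fst q (t.app l₁)) (by rw [hya]; exact hft.1)
  obtain ⟨l₀, hl₀⟩ := Groth.L09.SpLimit.eventually_closedImmersion hPsp hPa hcP X.property hy hlft
    (Groth.L09.SpLimit.qcSp_of_affine (hZ l₁) (hZq l₁).1 (hPsnd l₁))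
  refine ⟨i₁, ⟨Z.obj l₀, hZ l₀⟩, t.app l₀, eZ.inv ≫ cZ.π.app l₀,
    ⟨locP_mono (fun φ (_ : LocallyOfFinitePresentation φ) => inferInstanceAs (LocallyOfFiniteType φ)) (hZf l₀).1,
      (hZf l₀).2.1⟩, by rw [Category.assoc, hZfac], fun P' fst snd sq k hk₁ hk₂ => ?_⟩
  have e : k = (y ≫ cP.π.app l₀) ≫ sq.isoPullback.inv := by
    rw [Iso.eq_comp_inv]
    apply pullback.hom_ext
    · rw [Category.assoc, IsPullback.isoPullback_hom_fst, hk₁, hya]
    · rw [Category.assoc, IsPullback.isoPullback_hom_snd, hk₂, hyb]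
  rw [e]
  exact repWith_comp (hl₀ l₀ (𝟙 _)) (repWith_of_isIso _)

end Groth.Agent.S10063
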