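import Groth.Statements.S10067
import Groth.Agent.L09.SpLimit.RelPullback

set_option autoImplicit false
universe u
open CategoryTheory CategoryTheory.Limits AlgebraicGeometry
open AlgSp

set_option backward.isDefEq.respectTransparency false
set_option backward.isDefEq.respectTransparency.types false

namespace Groth.Agent.S10067

/-- A transformation `a : F ⟶ G` of presheaves of sets on schemes over `S` is relatively limit
preserving if and only if, for every directed limit `T = lim T_i` of affine schemes over `S` (with
`T` affine), the square formed by `colim F(T_i) → F(T)`, `colim G(T_i) → G(T)` and the two maps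
induced by `a` is cartesian in sets. -/
theorem result (S : Scheme.{u}) {F G : AlgSp.PSp S} (a : F ⟶ G) :
    AlgSp.IsRelLimitPreserving a ↔
      ∀ ⦃I : Type u⦄ [SmallCategory I] [IsCofiltered I] (D : I ⥤ Over S) (c : Cone D),
        IsLimit ((Over.forget S).mapCone c) → (∀ i, IsAffine (D.obj i).left) → IsAffine c.pt.left →
          IsPullback (colimMap (Functor.whiskerLeft D.op a)) (colimit.desc (D.op ⋙ F) (F.mapCocone c.op))
            (colimit.desc (D.op ⋙ G) (G.mapCocone c.op)) (a.app (Opposite.op c.pt)) := by
  exact Groth.L09.SpLimit.isRelLimitPreserving_iff_isPullback a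

end Groth.Agent.S10067
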