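import Groth.Statements.S10068
import Groth.Agent.L23.ZMT.IsoOver

set_option autoImplicit false
universe u
open CategoryTheory CategoryTheory.Limits AlgebraicGeometry
open AlgSp

namespace Groth.Agent.S10068

/-- Let `f : X ⟶ Y`, a morphism of algebraic spaces over `S`, be integral, with `Y` quasi-compact and
quasi-separated over `S`, and let `V ⊂ Y` be an open subspace, quasi-compact, over which the base
change `f⁻¹(V) ⟶ V` is finite as well as of finite presentation. Then `X` is the limit of a directed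
system of algebraic spaces `X_i`, each finite and of finite presentation over `Y` (limit in fppf
sheaves, indexed by a nonempty directed preorder, affine transitions, compatible with `f`), such
that `f⁻¹(V) ⟶ f_i⁻¹(V)` is an isomorphism for every `i`. (The published statement allows any base
scheme and uses absolute quasi-separatedness; this row assumes the base quasi-separated, over which
quasi-separatedness relative to the base is the absolute notion.) -/
theorem result (S : Scheme.{u}) [QuasiSeparatedSpace S]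
    {X Y : AlgSp.Space S} (f : X ⟶ Y) (hf : AlgSp.IsIntegralMor f.hom)
    (hYqc : AlgSp.IsQuasiCompactSp Y.obj) (hYqs : AlgSp.IsQuasiSeparatedSp Y.obj)
    (V : AlgSp.Space S) (j : V ⟶ Y) (hj : AlgSp.RepWith @IsOpenImmersion j.hom) (hVqc : AlgSp.IsQuasiCompactSp V.obj)
    (PV : AlgSp.Sp S) (pv₁ : PV ⟶ X.obj) (pv₂ : PV ⟶ V.obj) (hPV : IsPullback pv₁ pv₂ f.hom j.hom)
    (hfin : AlgSp.IsFiniteMor pv₂) (hfp : AlgSp.IsFinitePresentationMor pv₂) :
    ∃ (I : Type u) (_ : Preorder I) (_ : IsDirected I (fun a b => a ≤ b)) (_ : Nonempty I) (D : Iᵒᵖ ⥤ AlgSp.Sp S)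
      (t : D ⟶ (Functor.const Iᵒᵖ).obj Y.obj) (c : Cone D) (_ : IsLimit c) (e : c.pt ≅ X.obj),
      (∀ i, AlgSp.IsAlgSpace (D.obj i)) ∧ (∀ (i j : Iᵒᵖ) (φ : i ⟶ j), AlgSp.IsAffineMor (D.map φ)) ∧
      (∀ i, AlgSp.IsFiniteMor (t.app i) ∧ AlgSp.IsFinitePresentationMor (t.app i)) ∧ (∀ i, e.inv ≫ c.π.app i ≫ t.app i = f.hom) ∧
      (∀ (i : Iᵒᵖ) (Pi : AlgSp.Sp S) (q₁ : Pi ⟶ D.obj i) (q₂ : Pi ⟶ V.obj), IsPullback q₁ q₂ (t.app i) j.hom →
        ∀ k : PV ⟶ Pi, k ≫ q₁ = pv₁ ≫ e.inv ≫ c.π.app i → k ≫ q₂ = pv₂ → IsIso k) := by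
  exact Groth.L23.ZMT.exists_limit_iso_over X.property (Groth.L23.isIntegralMor_iff.1 hf) hYqc hYqs hj hVqc hPV hfin hfp

end Groth.Agent.S10068
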