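import Groth.Statements.S10070
import Groth.Agent.L23.DVRSeparated

set_option autoImplicit false
set_option backward.isDefEq.respectTransparency.types false
universe u
open CategoryTheory CategoryTheory.Limits AlgebraicGeometry
open AlgSp

namespace Groth.Agent.S10070

/-- Let `h : U ⟶ X`, `f : X ⟶ Y` be morphisms of algebraic spaces over `S` with `Y` locally Noetherian,
`f` locally of finite type and quasi-separated, `h` of finite type and `|h|` with dense image. If
every valuative test square for `h ≫ f` over a discrete valuation ring admits at most one dotted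
arrow `Spec A ⟶ X` (compatible with `Spec K ⟶ U ⟶ X` and with `Spec A ⟶ Y`), then `f` is separated. -/
theorem result (S : Scheme.{u}) {U X Y : AlgSp.Space S} (h : U ⟶ X) (f : X ⟶ Y) (hY : AlgSp.IsLocNoethSp Y.obj)
    (hflt : AlgSp.LocP @LocallyOfFiniteType f.hom) (hfqs : AlgSp.IsQuasiSeparatedMor f.hom) (hh : AlgSp.IsFiniteTypeMor h.hom) (hdense : Dense (Set.range (AlgSp.Points.map h.hom)))
    (hval : ∀ sq : AlgSp.ValSq (h.hom ≫ f.hom), IsDiscreteValuationRing sq.A →
      ∀ l l' : (AlgSp.yon S).obj sq.ptA ⟶ X.obj, (AlgSp.yon S).map sq.j ≫ l = sq.top ≫ h.hom ∧ l ≫ f.hom = sq.bot → (AlgSp.yon S).map sq.j ≫ l' = sq.top ≫ h.hom ∧ l' ≫ f.hom = sq.bot → l = l') :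
    AlgSp.IsSeparatedMor f.hom := Groth.L23.isSeparatedMor_of_refined_dvr U.property X.property Y.property hfqs hflt hY hh hdense hval

end Groth.Agent.S10070
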