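import Groth.Statements.S10072
import Groth.Agent.L23.SeparateNbhd
import Groth.Agent.L23.AlgSpace
-- import your own Groth.Agent.* helpers here

set_option autoImplicit false
universe u
open CategoryTheory CategoryTheory.Limits AlgebraicGeometry
open AlgSp

set_option backward.isDefEq.respectTransparency.types false
set_option linter.style.haveILetI false

namespace Groth.Agent.S10072

open Groth.L23

/-- Let `f : X ⟶ Y` be quasi-compact, `g : Z ⟶ Y` a morphism of algebraic spaces over `S`, `P = X ×_Y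
Z`, `z ∈ |Z|` and `T ⊂ |P|` closed with `z` not in the image of `T`. Then there are an affine etale
neighbourhood `(V, v) ⟶ (Z, z)`, an affine scheme `Z'` with `b : Z' ⟶ Y` locally of finite
presentation and `a : V ⟶ Z'` over `Y`, and for every fibre product `P' = X ×_Y Z'` a closed `T' ⊂
|P'|` whose image in `|Z'|` misses `a(v)` and which contains the image of the inverse image of `T`
in `|X ×_Y V|`. (The variant with `V` an open neighbourhood when `Z` is a scheme is not included.) -/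
theorem result (S : Scheme.{u}) {X Y Z : AlgSp.Space S} (f : X ⟶ Y) (g : Z ⟶ Y)
    (hf : AlgSp.IsQuasiCompactMor f.hom)
    (P : AlgSp.Sp S) (p₁ : P ⟶ X.obj) (p₂ : P ⟶ Z.obj) (hP : IsPullback p₁ p₂ f.hom g.hom)
    (z : AlgSp.Points Z.obj) (T : Set (AlgSp.Points P)) (hT : IsClosed T) (hz : z ∉ AlgSp.Points.map p₂ '' T) :
    ∃ (V : Over S) (_ : IsAffine V.left) (e : (AlgSp.yon S).obj V ⟶ Z.obj) (_ : AlgSp.RepWith @Etale e) (v : ↥V.left)
      (_ : AlgSp.Points.map e (AlgSp.Points.schemeEquiv V v) = z)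
      (Z' : Over S) (_ : IsAffine Z'.left) (b : (AlgSp.yon S).obj Z' ⟶ Y.obj) (_ : AlgSp.LocP @LocallyOfFinitePresentation b)
      (a : V ⟶ Z') (_ : (AlgSp.yon S).map a ≫ b = e ≫ g.hom),
      ∀ (P' : AlgSp.Sp S) (q₁ : P' ⟶ X.obj) (q₂ : P' ⟶ (AlgSp.yon S).obj Z'), IsPullback q₁ q₂ f.hom b →
        ∃ T' : Set (AlgSp.Points P'), IsClosed T' ∧
          AlgSp.Points.schemeEquiv Z' (a.left v) ∉ AlgSp.Points.map q₂ '' T' ∧
          ∀ (PV : AlgSp.Sp S) (r₁ : PV ⟶ X.obj) (r₂ : PV ⟶ (AlgSp.yon S).obj V), IsPullback r₁ r₂ f.hom (e ≫ g.hom) →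
            ∀ (κ₁ : PV ⟶ P) (κ₂ : PV ⟶ P'), κ₁ ≫ p₁ = r₁ → κ₁ ≫ p₂ = r₂ ≫ e → κ₂ ≫ q₁ = r₁ → κ₂ ≫ q₂ = r₂ ≫ (AlgSp.yon S).map a →
              ∀ w : AlgSp.Points PV, AlgSp.Points.map κ₁ w ∈ T → AlgSp.Points.map κ₂ w ∈ T' := by
  -- charts
  obtain ⟨W, c, hWa, hc, w, hw⟩ := exists_affine_etale_nhd Y.property (AlgSp.Points.map g.hom z)
  haveI := hWa
  have sqZ := IsPullback.of_hasPullback g.hom c
  have hQ : AlgSp.IsAlgSpace (pullback g.hom c) :=
    isAlgSpace_of_representable_to Z.property (repWith_of_isPullback sqZ.flip hc).1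
  obtain ⟨ω, hω₁, hω₂⟩ := exists_of_isPullback sqZ z (AlgSp.Points.ofScheme W w)
    (by rw [← AlgSp.Points.ofPt_eq_map_ofScheme]; exact hw.symm)
  obtain ⟨V, e', hVa, he', v, hv⟩ := exists_affine_etale_nhd hQ ω
  haveI := hVa
  let e := e' ≫ pullback.fst g.hom c
  have he : AlgSp.RepWith @Etale e := repWith_comp he' (repWith_of_isPullback sqZ.flip hc)
  obtain ⟨s, hs⟩ := (AlgSp.yon S).map_surjective (e' ≫ pullback.snd g.hom c)
  have hes : e ≫ g.hom = (AlgSp.yon S).map s ≫ c := by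
    rw [hs, Category.assoc, Category.assoc, pullback.condition]
  have hev : AlgSp.Points.map e (AlgSp.Points.schemeEquiv V v) = z := by
    show AlgSp.Points.map e (AlgSp.Points.ofScheme V v) = z
    rw [← AlgSp.Points.ofPt_eq_map_ofScheme, ← AlgSp.Points.map_ofPt, hv, hω₁]
  -- an affine atlas of `X ×_Y W`
  have sqX := IsPullback.of_hasPullback f.hom c
  have hXW : AlgSp.IsAlgSpace (pullback f.hom c) :=
    isAlgSpace_of_representable_to X.property (repWith_of_isPullback sqX.flip hc).1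
  have hqcW : AlgSp.IsQuasiCompactSp (pullback f.hom c) :=
    hf (IsAlgSpace.yon_obj W) ((isQuasiCompactSp_of_compactSpace (T := W))) c _ _ sqX
  obtain ⟨C, c₀, hCa, hc₀, hc₀s⟩ := Qs.exists_affine_atlas hXW hqcW
  haveI := hCa
  obtain ⟨φ, hφ⟩ := (AlgSp.yon S).map_surjective (c₀ ≫ pullback.snd f.hom c)
  have sqC := IsPullback.of_hasPullback φ s
  -- the canonical fibre product over `V`
  obtain ⟨P₀, ρ₁, ρ₂, sq0⟩ : ∃ (P₀ : AlgSp.Sp S) (ρ₁ : P₀ ⟶ X.obj) (ρ₂ : P₀ ⟶ (AlgSp.yon S).obj V),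
      IsPullback ρ₁ ρ₂ f.hom (e ≫ g.hom) := ⟨_, _, _, IsPullback.of_hasPullback _ _⟩
  obtain ⟨k₀, hk₁, hk₂⟩ := hP.exists_lift ρ₁ (ρ₂ ≫ e)
    (sq0.w.trans (Category.assoc _ _ _).symm)
  obtain ⟨π, hπ₁, hπ₂⟩ := sq0.exists_lift
    ((AlgSp.yon S).map (pullback.fst φ s) ≫ c₀ ≫ pullback.fst f.hom c) ((AlgSp.yon S).map (pullback.snd φ s))
    (by rw [Category.assoc, Category.assoc, pullback.condition, ← reassoc_of% hφ, ← Functor.map_comp_assoc,
      pullback.condition, Functor.map_comp_assoc, hes])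
  let T₀ : Set (AlgSp.Points P₀) := AlgSp.Points.map k₀ ⁻¹' T
  have hT₀ : IsClosed T₀ := hT.preimage (AlgSp.Points.continuous_map _)
  let Z₀ : Set ↥(pullback φ s).left := AlgSp.Points.ofPt π ⁻¹' T₀
  have hZ₀ : IsClosed Z₀ := hT₀.preimage (AlgSp.Points.continuous_ofPt _)
  obtain ⟨Z₁, hZ₁, q, a₀, hq, haq, hsep⟩ := SepNbhd.exists_affine_separating (C := C.left) (V := V.left) (W := W.left) (sqC.map (Over.forget S)) Z₀ hZ₀ v
    (fun x hx hxv => hz ⟨_, hx, by
      rw [← AlgSp.Points.map_comp, hk₂, AlgSp.Points.map_comp, AlgSp.Points.map_ofPt, hπ₂,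
        ← Category.comp_id ((AlgSp.yon S).map _), ofPt_comp]
      exact (congrArg (fun p => AlgSp.Points.map e (AlgSp.Points.ofPt (𝟙 _) p)) hxv).trans hev⟩)
  let Z' : Over S := Over.mk (q ≫ W.hom)
  let q' : Z' ⟶ W := Over.homMk q rfl
  let a : V ⟶ Z' := Over.homMk a₀ (by
    show a₀ ≫ q ≫ W.hom = V.hom
    rw [reassoc_of% haq]
    exact Over.w s)
  have haq' : a ≫ q' = s := Over.OverMorphism.ext haq
  have hb : AlgSp.LocP @LocallyOfFinitePresentation ((AlgSp.yon S).map q' ≫ c) :=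
    locP_of_repWith etLocal_lfp (repWith_comp (repWith_map (g := q') hq)
      (repWith_mono (fun φ (h : Etale φ) => by haveI := h; infer_instance) hc))
  refine ⟨V, hVa, e, he, v, hev, Z', hZ₁, (AlgSp.yon S).map q' ≫ c, hb, a,
    by rw [← Functor.map_comp_assoc, haq', hes], fun P' q₁ q₂ hP' => ?_⟩
  -- compare the atlases
  obtain ⟨κ, hκ₁, hκ₂⟩ := hP'.exists_lift ρ₁
    (ρ₂ ≫ (AlgSp.yon S).map a)
    (by rw [sq0.w, hes, Category.assoc, ← Functor.map_comp_assoc, haq'])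
  obtain ⟨l, hl₁, hl₂⟩ := sqX.exists_lift q₁ (q₂ ≫ (AlgSp.yon S).map q') (by rw [hP'.w, Category.assoc])
  have sqC' := IsPullback.of_hasPullback φ q'
  obtain ⟨π', hπ'₁, hπ'₂⟩ := hP'.exists_lift
    ((AlgSp.yon S).map (pullback.fst φ q') ≫ c₀ ≫ pullback.fst f.hom c) ((AlgSp.yon S).map (pullback.snd φ q'))
    (by rw [Category.assoc, Category.assoc, pullback.condition, ← reassoc_of% hφ, ← Functor.map_comp_assoc,
      pullback.condition, Functor.map_comp_assoc])
  have sql : IsPullback l q₂ (pullback.snd f.hom c) ((AlgSp.yon S).map q') :=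
    IsPullback.of_right (hl₁.symm ▸ hP') hl₂ sqX
  have sqπ' : IsPullback ((AlgSp.yon S).map (pullback.fst φ q')) π' c₀ l := by
    refine IsPullback.of_bot ?_ ?_ sql.flip.flip
    · rw [hπ'₂, ← hφ]
      exact sqC'.map (AlgSp.yon S)
    · apply sqX.hom_ext <;> simp only [Category.assoc]
      · rw [hl₁, hπ'₁]
      · rw [hl₂, reassoc_of% hπ'₂, ← hφ, ← Functor.map_comp, ← Functor.map_comp, pullback.condition]
  let θ : pullback φ s ⟶ pullback φ q' := pullback.lift (pullback.fst φ s) (pullback.snd φ s ≫ a)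
    (by rw [Category.assoc, haq', pullback.condition])
  have sqθ : IsPullback ((AlgSp.yon S).map θ) π π' κ := by
    have hbig : IsPullback ((AlgSp.yon S).map θ ≫ (AlgSp.yon S).map (pullback.fst φ q')) π c₀ (κ ≫ l) := by
      have sql₀ : IsPullback (κ ≫ l) ρ₂ (pullback.snd f.hom c)
          ((AlgSp.yon S).map s) := by
        refine IsPullback.of_right ?_ ?_ sqX
        · rw [Category.assoc, hl₁, hκ₁, ← hes]
          exact sq0
        · rw [Category.assoc, hl₂, reassoc_of% hκ₂, ← Functor.map_comp, haq']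
      refine IsPullback.of_bot ?_ ?_ sql₀
      · rw [hπ₂, ← hφ, ← Functor.map_comp, pullback.lift_fst]
        exact sqC.map (AlgSp.yon S)
      · apply sqX.hom_ext <;> simp only [Category.assoc]
        · rw [hl₁, hκ₁, hπ₁, ← Functor.map_comp_assoc, pullback.lift_fst]
        · rw [hl₂, reassoc_of% hκ₂, ← Functor.map_comp, haq', reassoc_of% hπ₂, ← hφ, ← Functor.map_comp,
            ← Functor.map_comp, pullback.lift_fst_assoc, ← Functor.map_comp, pullback.condition]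
    refine IsPullback.of_right hbig ?_ sqπ'
    refine hP'.hom_ext ?_ ?_ <;> simp only [Category.assoc]
    · rw [hπ'₁, hκ₁, hπ₁, ← Functor.map_comp_assoc, pullback.lift_fst]
    · rw [hπ'₂, hκ₂, reassoc_of% hπ₂, ← Functor.map_comp, ← Functor.map_comp, pullback.lift_snd]
  have hπ'et : AlgSp.RepWith @Etale π' := repWith_of_isPullback sqπ' hc₀
  have hπ's : AlgSp.RepWith @Surjective π' := repWith_of_isPullback sqπ' hc₀s
  refine ⟨closure (AlgSp.Points.map κ '' T₀), isClosed_closure, ?_, ?_⟩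
  · rintro ⟨y, hy, hy'⟩
    obtain ⟨ξ, rfl⟩ := surjective_ofPt hπ's y
    rw [AlgSp.Points.map_ofPt, hπ'₂, ← Category.comp_id ((AlgSp.yon S).map _), ofPt_comp] at hy'
    have hξ : (pullback.snd φ q').left ξ = a.left v := by
      refine (AlgSp.Points.schemeEquiv Z').injective ?_
      rw [← hy', AlgSp.Points.ofPt_eq_map_ofScheme, AlgSp.Points.map_id]
      rfl
    have hmem : ξ ∈ closure (AlgSp.Points.ofPt π' ⁻¹' (AlgSp.Points.map κ '' T₀)) :=
      (isOpenMap_ofPt hπ'et).preimage_closure_subset_closure_preimage hy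
    refine hsep _ _ _ (sqC'.map (Over.forget S)) θ.left ?_ ?_ ξ hξ (closure_mono ?_ hmem)
    · exact congrArg (fun m : pullback φ s ⟶ C => m.left) (pullback.lift_fst (f := φ) (g := q') _ _ _)
    · exact congrArg (fun m : pullback φ s ⟶ Z' => m.left) (pullback.lift_snd (f := φ) (g := q') _ _ _)
    · rintro x ⟨y, hy, hxy⟩
      obtain ⟨x₀, hx₁, hx₂⟩ := exists_point_of_isPullback sqθ.flip (x := y) (u := x) hxy
      exact ⟨x₀, show AlgSp.Points.ofPt π x₀ ∈ T₀ by rw [hx₁]; exact hy, hx₂⟩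
  · intro PV r₁ r₂ hPV κ₁ κ₂ h11 h12 h21 h22 x hx
    let ψ := hPV.isoIsPullback _ _ sq0
    have hψ₁ : κ₁ = ψ.hom ≫ k₀ := hP.hom_ext
      (by rw [Category.assoc, hk₁, h11, IsPullback.isoIsPullback_hom_fst])
      (by rw [Category.assoc, hk₂, h12, IsPullback.isoIsPullback_hom_snd_assoc])
    have hψ₂ : κ₂ = ψ.hom ≫ κ := hP'.hom_ext
      (by rw [Category.assoc, hκ₁, h21, IsPullback.isoIsPullback_hom_fst])
      (by rw [Category.assoc, hκ₂, h22, IsPullback.isoIsPullback_hom_snd_assoc])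
    refine subset_closure ⟨AlgSp.Points.map ψ.hom x, ?_, ?_⟩
    · show AlgSp.Points.map k₀ _ ∈ T
      rwa [← AlgSp.Points.map_comp, ← hψ₁]
    · rw [← AlgSp.Points.map_comp, ← hψ₂]

end Groth.Agent.S10072
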