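import Groth.Statements.S10080
import Groth.Agent.L09.EtSub.FpExhaust

set_option autoImplicit false
universe u
open CategoryTheory CategoryTheory.Limits AlgebraicGeometry Opposite
open AlgSp

set_option backward.isDefEq.respectTransparency false
set_option backward.isDefEq.respectTransparency.types false

namespace Groth.Agent.S10080

/-- Let `S` be a quasi-separated scheme, `X` an algebraic space over `S`, quasi-compact and
quasi-separated over `S`, and `M` a quasi-coherent `O_X`-module of finite type on the small etale
site of `X`. Then `M` is the colimit of a system of `O_X`-modules of finite presentation, indexed by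
a nonempty directed partial order, whose transition maps are all epimorphisms. (The published
statement allows any base scheme and uses absolute quasi-separatedness; this row assumes the base
quasi-separated, over which quasi-separatedness relative to the base is the absolute notion.) -/
theorem result {S : Scheme.{u}} [QuasiSeparatedSpace ↥S]
    (X : AlgSp.Space S) (hqc : AlgSp.IsQuasiCompactSp X.obj) (hqs : AlgSp.IsQuasiSeparatedSp X.obj)
    (M : AlgSp.ModEt X.obj) [M.IsQuasicoherent] [M.IsFiniteType] :
    ∃ (J : Type (u + 1)) (_ : PartialOrder J) (_ : IsDirected J (· ≤ ·)) (_ : Nonempty J)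
      (D : J ⥤ AlgSp.ModEt X.obj) (ι : D ⟶ (Functor.const J).obj M),
      Nonempty (IsColimit (Cocone.mk M ι)) ∧ (∀ j, (D.obj j).IsFinitePresentation) ∧
        ∀ (j j' : J) (h : j ⟶ j'), Epi (D.map h) := by
  obtain ⟨P, ψ, hP, hfp, hs⟩ := Groth.L09.EtSub.exists_fp_epi X.property hqc hqs M
  haveI := hP
  exact Groth.L09.EtSub.exists_directed_fp ψ X.property hqc hqs hfp hs

end Groth.Agent.S10080
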