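import Groth.Statements.S10083
import Groth.Agent.L23.SubQcoh
-- import your own Groth.Agent.* helpers here

set_option autoImplicit false
universe u
open CategoryTheory CategoryTheory.Limits AlgebraicGeometry Opposite
open AlgSp

set_option backward.isDefEq.respectTransparency false
set_option backward.isDefEq.respectTransparency.types false
set_option linter.style.haveILetI false

namespace Groth.Agent.S10083

open Groth.L23.SubQcoh Groth.L09.ModEt

/-- Let `X` be an algebraic space over a scheme `S`, `I` a quasi-coherent ideal sheaf on the small etale
site of `X` which is of finite type (on every affine object its ideal of sections is finitely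
generated) and `F` a quasi-coherent `O_X`-module. Then the subsheaf of sections of `F` annihilated
by `I` is a quasi-coherent submodule: there is a monomorphism `F' ⟶ F` of `O_X`-modules with `F'`
quasi-coherent whose image over every affine object `U` is the set of sections `s` of `F` over `U`
with `I(U) s = 0`. (The assertion on stalks at geometric points is not included.) -/
theorem result {S : Scheme.{u}} (X : AlgSp.Space S)
    (I : AlgSp.IdealEt X.obj) (hI : I.IsQCoh)
    (hft : ∀ (E : AlgSp.EtOver X.obj) (hE : IsAffine E.obj.left.left), (I.ideal E hE).FG)
    (F : AlgSp.ModEt X.obj) [F.IsQuasicoherent] :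
    ∃ (F' : AlgSp.ModEt X.obj) (ι : F' ⟶ F), Mono ι ∧ F'.IsQuasicoherent ∧
      ∀ (E : AlgSp.EtOver X.obj) (hE : IsAffine E.obj.left.left),
        Set.range (ι.val.app (op E)).hom =
          {s : AlgSp.sectModEt F E | ∀ a ∈ I.ideal E hE, (AlgSp.upΓ E a) • s = 0} := by
  letI : ∀ E : AlgSp.EtOver X.obj, Module (Γ₀ E) (AlgSp.sectModEt F E) := secModule F
  let A : AffSub F :=
    { P := fun E hE =>
        { carrier := {s | ∀ a ∈ I.ideal E hE, a • s = 0}
          add_mem' := fun hs ht a ha => by rw [smul_add, hs a ha, ht a ha, add_zero]
          zero_mem' := fun a _ => smul_zero a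
          smul_mem' := fun r s hs a ha => by rw [smul_comm, hs a ha, smul_zero] }
      res_mem := fun {E E'} hE hE' g {s} hs a ha => by
        have ha' := hI g hE hE' ha
        clear ha
        induction ha' using Submodule.span_induction with
        | mem x hx =>
          obtain ⟨b, hb, rfl⟩ := hx
          rw [← res_smul, hs b hb, map_zero]
        | zero => exact zero_smul _ _
        | add x y _ _ hx hy =>
          rw [add_smul, hx, hy, add_zero]
        | smul r x _ hx => rw [smul_eq_mul, mul_smul, hx, smul_zero]
      mem_span := fun {E E'} hE hE' g {z} hz =>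
        mem_span_killed g (I.ideal E hE) (hft E hE) fun a ha => hz _ (I.map_le g hE hE' (Ideal.mem_map_of_mem _ ha)) }
  exact ⟨A.mod, A.ι, inferInstance, A.isQuasicoherent, fun E hE => @AffSub.range_ι _ _ _ A _ E hE⟩

end Groth.Agent.S10083
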