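import Groth.Statements.S10084
import Groth.Statements.S10084
import Groth.Agent.L23.IdealFt

set_option autoImplicit false
universe u
open CategoryTheory CategoryTheory.Limits AlgebraicGeometry Opposite
open AlgSp

set_option backward.isDefEq.respectTransparency false
set_option backward.isDefEq.respectTransparency.types false
set_option linter.style.haveILetI false

namespace Groth.Agent.S10084

theorem region_eq {S : Scheme.{u}} {X U : AlgSp.Sp S} {j : U ⟶ X} (hp : AlgSp.RepWith @Etale j)
    (hqU : AlgSp.IsQuasiCompactSp U) :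
    ((Groth.L09.EtSub.region hp : TopologicalSpace.Opens (AlgSp.Points X)) : Set (AlgSp.Points X)) =
      Set.range (AlgSp.Points.map j) := by
  ext x
  constructor
  · intro hx
    obtain ⟨Z, z, -, hz⟩ := TopologicalSpace.Opens.mem_iSup.1 hx
    exact ⟨AlgSp.Points.ofPt Z.obj.hom z, (AlgSp.Points.map_ofPt _ _ _).trans hz⟩
  · rintro ⟨y, rfl⟩
    obtain ⟨U₀, φ, hU₀, hφ, hs⟩ := Groth.L09.Filtration.exists_affine_atlas hqU
    obtain ⟨u₀, rfl⟩ := Groth.L23.surjective_ofPt hs y
    rw [AlgSp.Points.map_ofPt]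
    exact Groth.L09.EtSub.inB_pushObj hp (AlgSp.EtOver.mk φ hφ) u₀

/-- Let `S` be a quasi-separated scheme, `X` an algebraic space over `S`, quasi-compact and
quasi-separated over `S`, and `j : U ⟶ X` an open subspace. Then `U` is quasi-compact exactly when
there are a quasi-coherent sheaf of ideals `I` of finite type on the small etale site of `X`
(finitely generated ideal of sections on every affine object) and a closed subspace `Z ⟶ X` cut out
by `I` whose points are exactly the points of `X` outside the image of `U`. (The further equivalent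
condition that `j` is quasi-compact is not included.) (The published statement allows any base
scheme and uses absolute quasi-separatedness; this row assumes the base quasi-separated, over which
quasi-separatedness relative to the base is the absolute notion.) -/
theorem result {S : Scheme.{u}} [QuasiSeparatedSpace ↥S] (X : AlgSp.Space S)
    (hqc : AlgSp.IsQuasiCompactSp X.obj) (hqs : AlgSp.IsQuasiSeparatedSp X.obj)
    (U : AlgSp.Space S) (j : U ⟶ X) (hj : AlgSp.RepWith @IsOpenImmersion j.hom) :
    AlgSp.IsQuasiCompactSp U.obj ↔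
      ∃ (I : AlgSp.IdealEt X.obj), I.IsQCoh ∧
        (∀ (E : AlgSp.EtOver X.obj) (hE : IsAffine E.obj.left.left), (I.ideal E hE).FG) ∧
        ∃ (Z : AlgSp.Space S) (i : Z ⟶ X), AlgSp.IsCutOutBy I i.hom ∧
          Set.range (AlgSp.Points.map i.hom) = (Set.range (AlgSp.Points.map j.hom))ᶜ := by
  constructor
  · intro hU
    obtain ⟨V₀, φ, hV₀, hφ, hφs⟩ := Groth.L09.Filtration.exists_affine_atlas hqc
    let E₀ : AlgSp.EtOver X.obj := AlgSp.EtOver.mk φ hφ
    haveI hE₀ : IsAffine E₀.obj.left.left := hV₀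
    have hje := Groth.L09.EtSub.repWith_etale_of_open hj
    have hreg := region_eq hje hU
    have hopen : IsOpen (Set.range (AlgSp.Points.map j.hom)) := hreg ▸ (Groth.L09.EtSub.region hje).isOpen
    have hcW : IsCompact (AlgSp.Points.ofPt E₀.obj.hom ⁻¹' Set.range (AlgSp.Points.map j.hom)) := by
      rw [← hreg]
      exact Groth.L09.EtSub.isCompact_preOpen_region (hp := hje) hj hqs hU E₀
    obtain ⟨Z₀, -, i₀, hi₀, hr₀, -⟩ := Groth.L23.exists_isRedInduced X.property hopen.isClosed_compl
    have hq₀ := Groth.L23.CutOut.repWith_quasiCompact_of_closedImmersion hi₀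
    have hI₀ := Groth.L23.CutOut.idealOfRep_isQCoh hq₀
    have hp₀ := Groth.L23.IdealFt.preimage_range (i := i₀) (I := AlgSp.idealOfRep hq₀.1) ⟨hi₀, rfl⟩ E₀
    rw [hr₀, Set.preimage_compl] at hp₀
    obtain ⟨t, ht, hzt⟩ := Groth.L23.IdealFt.exists_finite_sub_ideal
      (I := (AlgSp.idealOfRep hq₀.1).ideal E₀ hE₀) (by rw [← hp₀, compl_compl]; exact hcW)
    obtain ⟨J, hJ, hfg, hle, htJ⟩ := Groth.L23.IdealFt.exists_ft_le X.property hqc hqs _ hI₀ E₀ t ht
    refine ⟨J, hJ, hfg, ?_⟩
    obtain ⟨Z, hZ, i, hi⟩ := Groth.L23.CutOut.exists_isCutOutBy X.property hJ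
    refine ⟨⟨Z, hZ⟩, ObjectProperty.homMk i, hi, ?_⟩
    have hp := Groth.L23.IdealFt.preimage_range hi E₀
    have hsq : Function.Surjective (AlgSp.Points.ofPt E₀.obj.hom) := Groth.L23.surjective_ofPt hφs
    refine hsq.preimage_injective ?_
    show AlgSp.Points.ofPt E₀.obj.hom ⁻¹' Set.range (AlgSp.Points.map i) = _
    rw [Set.preimage_compl, hp₀, hp]
    exact subset_antisymm
      (fun x hx => hzt.le ((Scheme.mem_zeroLocus_iff _ _ _).2 fun f hf =>
        (Scheme.mem_zeroLocus_iff _ _ _).1 hx f (htJ f hf)))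
      fun x hx => (Scheme.mem_zeroLocus_iff _ _ _).2 fun f hf =>
        (Scheme.mem_zeroLocus_iff _ _ _).1 hx f (hle E₀ hE₀ hf)
  · rintro ⟨I, -, hfg, Z, i, hi, hr⟩
    obtain ⟨V₀, φ, hV₀, hφ, hφs⟩ := Groth.L09.Filtration.exists_affine_atlas hqc
    let E₀ : AlgSp.EtOver X.obj := AlgSp.EtOver.mk φ hφ
    haveI hE₀ : IsAffine E₀.obj.left.left := hV₀
    refine Groth.L09.Filtration.qcSp_of_range U.property X.property hj ?_
    have hp := Groth.L23.IdealFt.preimage_range hi E₀
    rw [hr, Set.preimage_compl] at hp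
    have hc := Groth.L23.IdealFt.isCompact_compl_zeroLocus (hfg E₀ hE₀)
    rw [← hp, compl_compl] at hc
    have h := hc.image (AlgSp.Points.continuous_ofPt E₀.obj.hom)
    rwa [Set.image_preimage_eq _ (Groth.L23.surjective_ofPt hφs : Function.Surjective (AlgSp.Points.ofPt E₀.obj.hom))] at h

end Groth.Agent.S10084
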