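import Groth.Statements.S10085
import Groth.Agent.L23.SubQcoh
import Groth.Agent.L23.Univ
import Groth.Agent.L23.Points
-- import your own Groth.Agent.* helpers here

set_option autoImplicit false
universe u
open CategoryTheory CategoryTheory.Limits AlgebraicGeometry Opposite
open AlgSp

set_option backward.isDefEq.respectTransparency false
set_option backward.isDefEq.respectTransparency.types false
set_option linter.style.haveILetI false

namespace Groth.Agent.S10085

open Groth.L23.SubQcoh Groth.L09.ModEt

set_option maxHeartbeats 1600000 in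
/-- Let `X` be an algebraic space over a scheme `S`, `j : U ⟶ X` an open subspace whose inclusion is
quasi-compact, `T` the closed subset of points of `X` complementary to the image of `U`, and `F` a
quasi-coherent `O_X`-module on the small etale site of `X`. Then, first, on every affine object `W ⟶
X` of the site the inverse image of `T` is the zero locus of a finitely generated ideal of the
global functions on `W`; second, the subsheaf of sections of `F` supported on `T` is a
quasi-coherent submodule: there is a monomorphism `F' ⟶ F` with `F'` quasi-coherent whose image over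
every affine object `W` is the set of sections `x` of `F` over `W` whose support (the zero locus of
the annihilator ideal of `x` in the global functions on `W`) lies in the inverse image of `T`, and
is also, for any finitely generated ideal `I` of the functions on `W` with zero locus the inverse
image of `T`, the set of sections of `F` over `W` annihilated by some power of `I`. -/
theorem result {S : Scheme.{u}} (X : AlgSp.Space S)
    (U : AlgSp.Space S) (j : U ⟶ X) (hj : AlgSp.RepWith @IsOpenImmersion j.hom)
    (hjqc : AlgSp.IsQuasiCompactMor j.hom)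
    (T : Set (AlgSp.Points X.obj)) (hT : T = (Set.range (AlgSp.Points.map j.hom))ᶜ)
    (F : AlgSp.ModEt X.obj) [F.IsQuasicoherent] :
    (∀ (W : AlgSp.EtOver X.obj), IsAffine W.obj.left.left →
      ∃ I : Ideal Γ(W.obj.left.left, ⊤), I.FG ∧
        W.obj.left.left.zeroLocus (U := ⊤) (I : Set Γ(W.obj.left.left, ⊤)) =
          {w | AlgSp.Points.ofPt W.obj.hom w ∈ T}) ∧
    ∃ (F' : AlgSp.ModEt X.obj) (ι : F' ⟶ F), Mono ι ∧ F'.IsQuasicoherent ∧
      (∀ (W : AlgSp.EtOver X.obj), IsAffine W.obj.left.left →
        Set.range (ι.val.app (op W)).hom =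
          {x : AlgSp.sectModEt F W | W.obj.left.left.zeroLocus (U := ⊤)
              ((AlgSp.annSect x : Ideal Γ(W.obj.left.left, ⊤)) : Set Γ(W.obj.left.left, ⊤)) ⊆
            {w | AlgSp.Points.ofPt W.obj.hom w ∈ T}}) ∧
      ∀ (W : AlgSp.EtOver X.obj), IsAffine W.obj.left.left →
        ∀ I : Ideal Γ(W.obj.left.left, ⊤), I.FG →
          W.obj.left.left.zeroLocus (U := ⊤) (I : Set Γ(W.obj.left.left, ⊤)) =
            {w | AlgSp.Points.ofPt W.obj.hom w ∈ T} →
          Set.range (ι.val.app (op W)).hom =
            {x : AlgSp.sectModEt F W | ∃ n : ℕ, ∀ a ∈ I ^ n, (AlgSp.upΓ W a) • x = 0} := by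
  letI : ∀ E : AlgSp.EtOver X.obj, Module (Γ₀ E) (AlgSp.sectModEt F E) := secModule F
  let TW : ∀ W : AlgSp.EtOver X.obj, Set ↥W.obj.left.left := fun W => {w | AlgSp.Points.ofPt W.obj.hom w ∈ T}
  have hex : ∀ (W : AlgSp.EtOver X.obj), IsAffine W.obj.left.left →
      ∃ I : Ideal Γ(W.obj.left.left, ⊤), I.FG ∧ W.obj.left.left.zeroLocus (U := ⊤) (I : Set Γ(W.obj.left.left, ⊤)) = TW W := by
    intro W hW
    have hq : AlgSp.RepWith @QuasiCompact j.hom := Groth.L23.repWith_quasiCompact_of_isQuasiCompactMor hj.1 hjqc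
    let q := (hj.1.snd W.obj.hom).left
    haveI : QuasiCompact q := hq.2 W.obj.hom _ _ (hj.1.isPullback _)
    haveI : IsOpenImmersion q := hj.2 W.obj.hom _ _ (hj.1.isPullback _)
    have hr : Set.range q = (TW W)ᶜ := by
      ext w
      simp only [TW, hT, Set.mem_compl_iff, Set.mem_setOf_eq, not_not]
      constructor
      · rintro ⟨v, rfl⟩
        exact ⟨AlgSp.Points.ofPt (hj.1.fst W.obj.hom) v, by
          rw [AlgSp.Points.map_ofPt, (hj.1.isPullback W.obj.hom).w, Groth.L23.ofPt_comp]⟩
      · rintro ⟨x, hx⟩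
        obtain ⟨v, -, hv⟩ := Groth.L23.exists_point_of_isPullback (hj.1.isPullback W.obj.hom) hx
        exact ⟨v, hv⟩
    have hc : IsCompact ((TW W)ᶜ) := by
      haveI : CompactSpace W.obj.left.left := inferInstance
      haveI := QuasiCompact.compactSpace_of_compactSpace q
      rw [← hr]
      exact isCompact_range q.continuous
    have ho : IsOpen ((TW W)ᶜ) := hr ▸ q.isOpenEmbedding.isOpen_range
    have e := W.obj.left.left.isoSpec.hom.homeomorph
    obtain ⟨I, hI, hIz⟩ := PrimeSpectrum.isCompact_isOpen_iff_ideal.1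
      (show IsCompact (W.obj.left.left.toSpecΓ '' (TW W)ᶜ) ∧ IsOpen (W.obj.left.left.toSpecΓ '' (TW W)ᶜ) from
        ⟨hc.image W.obj.left.left.toSpecΓ.continuous, W.obj.left.left.toSpecΓ.homeomorph.isOpenMap _ ho⟩)
    have hbij : Function.Bijective W.obj.left.left.toSpecΓ := W.obj.left.left.toSpecΓ.homeomorph.bijective
    refine ⟨I, hI, ?_⟩
    rw [← Scheme.toSpecΓ_preimage_zeroLocus, ← compl_compl (PrimeSpectrum.zeroLocus _), hIz, Set.preimage_compl,
      Set.preimage_image_eq _ hbij.injective, compl_compl]
  have key : ∀ (W : AlgSp.EtOver X.obj) [IsAffine W.obj.left.left] (I : Ideal Γ(W.obj.left.left, ⊤)), I.FG →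
      W.obj.left.left.zeroLocus (U := ⊤) (I : Set Γ(W.obj.left.left, ⊤)) = TW W → ∀ s : AlgSp.sectModEt F W,
        W.obj.left.left.zeroLocus (U := ⊤) ((AlgSp.annSect s : Ideal Γ(W.obj.left.left, ⊤)) : Set Γ(W.obj.left.left, ⊤)) ⊆ TW W ↔
          ∃ n : ℕ, I ^ n ≤ AlgSp.annSect s := by
    intro W _ I hI hIz s
    have hbij : Function.Bijective W.obj.left.left.toSpecΓ := W.obj.left.left.toSpecΓ.homeomorph.bijective
    rw [← hIz, ← Scheme.toSpecΓ_preimage_zeroLocus, ← Scheme.toSpecΓ_preimage_zeroLocus,
      hbij.surjective.preimage_subset_preimage_iff,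
      PrimeSpectrum.zeroLocus_subset_zeroLocus_iff]
    refine ⟨fun h => Ideal.exists_pow_le_of_le_radical_of_fg h hI, fun ⟨n, hn⟩ x hx => ⟨n, hn (Ideal.pow_mem_pow hx n)⟩⟩
  refine ⟨hex, ?_⟩
  let A : AffSub F :=
    { P := fun W hW =>
        { carrier := {s | W.obj.left.left.zeroLocus (U := ⊤) ((AlgSp.annSect s : Ideal Γ(W.obj.left.left, ⊤)) : Set Γ(W.obj.left.left, ⊤)) ⊆ TW W}
          add_mem' := fun {a b} ha hb => by
            obtain ⟨I, hI, hIz⟩ := hex W hW
            obtain ⟨n, hn⟩ := (key W I hI hIz a).1 ha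
            obtain ⟨m, hm⟩ := (key W I hI hIz b).1 hb
            refine (key W I hI hIz (a + b)).2 ⟨n + m, fun x hx => ?_⟩
            rw [AlgSp.mem_annSect_iff, smul_add, (AlgSp.mem_annSect_iff a x).1 (hn (Ideal.pow_le_pow_right (by omega) hx)),
              (AlgSp.mem_annSect_iff b x).1 (hm (Ideal.pow_le_pow_right (by omega) hx)), add_zero]
          zero_mem' := by
            obtain ⟨I, hI, hIz⟩ := hex W hW
            exact (key W I hI hIz 0).2 ⟨0, fun x _ => smul_zero _⟩
          smul_mem' := fun r s hs => by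
            obtain ⟨I, hI, hIz⟩ := hex W hW
            obtain ⟨n, hn⟩ := (key W I hI hIz s).1 hs
            refine (key W I hI hIz (r • s)).2 ⟨n, fun x hx => ?_⟩
            show x • r • s = 0
            rw [smul_comm, show x • s = 0 from hn hx, smul_zero] }
      res_mem := fun {W W'} hW hW' g {s} hs w hw => by
        have h1 : g.hom.left.left w ∈ TW W := hs (by
          rw [← Scheme.toSpecΓ_preimage_zeroLocus] at hw ⊢
          intro a ha
          have ha' : pb g a ∈ AlgSp.annSect (res F g s) := by
            show pb g a • res F g s = 0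
            rw [← res_smul, show a • s = 0 from ha, map_zero]
          show a ∈ (W.obj.left.left.toSpecΓ (g.hom.left.left w)).asIdeal
          rw [← Scheme.Hom.comp_apply, Scheme.toSpecΓ_naturality, Scheme.Hom.comp_apply]
          exact hw ha')
        show AlgSp.Points.ofPt W'.obj.hom w ∈ T
        rw [← AlgSp.EtOver.w g, Groth.L23.ofPt_comp]
        exact h1
      mem_span := fun {W W'} hW hW' g {z} hz => by
        obtain ⟨I, hI, hIz⟩ := hex W hW
        have hI' : W'.obj.left.left.zeroLocus (U := ⊤) ((I.map (pb g) : Ideal _) : Set Γ(W'.obj.left.left, ⊤)) = TW W' := by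
          ext w
          show _ ↔ AlgSp.Points.ofPt W'.obj.hom w ∈ T
          rw [← AlgSp.EtOver.w g, Groth.L23.ofPt_comp]
          refine Iff.trans ?_ (Set.ext_iff.1 hIz (g.hom.left.left w))
          rw [← Scheme.toSpecΓ_preimage_zeroLocus, ← Scheme.toSpecΓ_preimage_zeroLocus, Set.mem_preimage,
            Set.mem_preimage, PrimeSpectrum.mem_zeroLocus, PrimeSpectrum.mem_zeroLocus, SetLike.coe_subset_coe,
            SetLike.coe_subset_coe, ← Scheme.Hom.comp_apply g.hom.left.left, Scheme.toSpecΓ_naturality,
            Scheme.Hom.comp_apply]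
          exact Ideal.map_le_iff_le_comap
        obtain ⟨n, hn⟩ := (key W' _ (hI.map _) hI' z).1 hz
        refine Submodule.span_mono (Set.image_mono fun s hs => (key W I hI hIz s).2 ⟨n, hs⟩)
          (mem_span_killed g (I ^ n) hI.pow fun a ha => hn ?_)
        rw [← Ideal.map_pow]
        exact Ideal.mem_map_of_mem _ ha }
  refine ⟨A.mod, A.ι, inferInstance, A.isQuasicoherent, fun W hW => @AffSub.range_ι _ _ _ A _ W hW, fun W hW I hI hIz => ?_⟩
  rw [@AffSub.range_ι _ _ _ A _ W hW]
  ext s
  exact (key W I hI hIz s)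

end Groth.Agent.S10085
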