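import Groth.Statements.S10086
import Groth.Agent.L09.SpLimit.OpenDescend

set_option autoImplicit false
universe u
open CategoryTheory CategoryTheory.Limits AlgebraicGeometry Opposite
open AlgSp

set_option backward.isDefEq.respectTransparency false
set_option backward.isDefEq.respectTransparency.types false

namespace Groth.Agent.S10086

/-- Let `S` be a quasi-separated scheme and `X` the limit, in fppf sheaves over `S`, of a cofiltered
system `(X_i)` of algebraic spaces over `S`, each quasi-compact and quasi-separated over `S`, whose
transition maps are affine. Then every quasi-compact open subspace `U ⟶ X` is the inverse image of a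
quasi-compact open subspace `U_i ⟶ X_i` for some index `i` (a pullback square over the projection `X
⟶ X_i`). (The published statement allows any base scheme and uses absolute quasi-separatedness; this
row assumes the base quasi-separated, over which quasi-separatedness relative to the base is the
absolute notion.) -/
theorem result (S : Scheme.{u}) [QuasiSeparatedSpace ↥S] {I : Type u} [SmallCategory I] [IsCofiltered I]
    (D : I ⥤ AlgSp.Sp S) (hD : ∀ i, AlgSp.IsAlgSpace (D.obj i))
    (hDa : ∀ (i j : I) (φ : i ⟶ j), AlgSp.IsAffineMor (D.map φ))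
    (hqc : ∀ i, AlgSp.IsQuasiCompactSp (D.obj i)) (hqs : ∀ i, AlgSp.IsQuasiSeparatedSp (D.obj i))
    (c : Cone D) (hc : IsLimit c)
    (U : AlgSp.Sp S) (j : U ⟶ c.pt) (hj : AlgSp.RepWith @IsOpenImmersion j) (hU : AlgSp.IsQuasiCompactSp U) :
    ∃ (i : I) (Ui : AlgSp.Sp S) (ji : Ui ⟶ D.obj i) (q : U ⟶ Ui),
      AlgSp.RepWith @IsOpenImmersion ji ∧ AlgSp.IsQuasiCompactSp Ui ∧ IsPullback j q (c.π.app i) ji := by
  exact Groth.L09.SpLimit.exists_open_descend hD hDa hqc hqs hc j hj hU

end Groth.Agent.S10086
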