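import Groth.Statements.S10088
import Groth.Agent.L23.Filtr88.Main

set_option autoImplicit false
universe u
open CategoryTheory CategoryTheory.Limits AlgebraicGeometry Opposite
open AlgSp

namespace Groth.Agent.S10088

/-- Let `S` be a quasi-separated scheme and `X` an algebraic space over `S`, quasi-compact and
quasi-separated over `S`. Then there are `t ≥ 0` and closed subspaces `Z_0, …, Z_t` of `X`, each of
finite presentation over `X`, with `|Z_0| ⊇ |Z_1| ⊇ ⋯ ⊇ |Z_t|`, `Z_0 ⟶ X` a thickening and `Z_t`
empty, and for every `k < t` a scheme `Y_k` with a finite surjective morphism `Y_k ⟶ Z_k` of finite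
presentation which is finite etale over the open subspace of `Z_k` with points `|Z_k| ∖ |Z_{k+1}|`.
(The inclusions among the `Z_k` are recorded on points.) (The published statement allows any base
scheme and uses absolute quasi-separatedness; this row assumes the base quasi-separated, over which
quasi-separatedness relative to the base is the absolute notion.) -/
theorem result (S : Scheme.{u}) [QuasiSeparatedSpace ↥S]
    (X : AlgSp.Space S) (hXqc : AlgSp.IsQuasiCompactSp X.obj) (hXqs : AlgSp.IsQuasiSeparatedSp X.obj) :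
    ∃ (t : ℕ) (Z : Fin (t + 1) → AlgSp.Space S) (z : ∀ k, Z k ⟶ X),
      (∀ k, AlgSp.RepWith @IsClosedImmersion (z k).hom ∧ AlgSp.IsFinitePresentationMor (z k).hom) ∧
      (∀ k l : Fin (t + 1), k ≤ l →
        Set.range (AlgSp.Points.map (z l).hom) ⊆ Set.range (AlgSp.Points.map (z k).hom)) ∧
      AlgSp.IsThickMor (z 0).hom ∧ IsEmpty (AlgSp.Points (Z (Fin.last t)).obj) ∧
      ∀ k : Fin t, ∃ (Y : Over S) (g : (AlgSp.yon S).obj Y ⟶ (Z k.castSucc).obj),
        AlgSp.IsFiniteMor g ∧ AlgSp.IsSurjectiveMor g ∧ AlgSp.IsFinitePresentationMor g ∧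
        ∀ (W : AlgSp.Space S) (j : W ⟶ Z k.castSucc), AlgSp.RepWith @IsOpenImmersion j.hom →
          Set.range (AlgSp.Points.map (j ≫ z k.castSucc).hom) =
            Set.range (AlgSp.Points.map (z k.castSucc).hom) \ Set.range (AlgSp.Points.map (z k.succ).hom) →
          ∀ (P : AlgSp.Sp S) (fst : P ⟶ (AlgSp.yon S).obj Y) (snd : P ⟶ W.obj), IsPullback fst snd g j.hom →
            AlgSp.IsFiniteMor snd ∧ AlgSp.IsEtaleMor snd := by
  exact Groth.L23.Filtr88.exists_filtration_covers X hXqc hXqs

end Groth.Agent.S10088
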