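import Groth.Statements.S10096
import Groth.Agent.L24.Boot.EtaleCharts
import Groth.Agent.L23.Cover

set_option autoImplicit false
universe u
open CategoryTheory CategoryTheory.Limits AlgebraicGeometry
open AlgSp

set_option backward.isDefEq.respectTransparency false
set_option backward.isDefEq.respectTransparency.types false

namespace Groth.Agent.S10096

/-- Let `a : F ⟶ G` be a map of fppf sheaves of sets over `S` that is flat, surjective, locally of
finite presentation and representable by algebraic spaces (every base change `h_U ×_G F ⟶ h_U` to a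
scheme is such a morphism of algebraic spaces). Then `a` is surjective as a map of sheaves (an
epimorphism of fppf sheaves). -/
theorem result (S : Scheme.{u}) (F G : AlgSp.Sp S) (a : F ⟶ G)
    (ha : AlgSp.RepBySpWith (AlgSp.IsSurjectiveMor ⊓ AlgSp.LocP @Flat ⊓ AlgSp.LocP @LocallyOfFinitePresentation) a.hom) :
    Epi a := by
  refine (Sheaf.isLocallySurjective_iff_epi' _ a).1 ⟨fun {T} x => ?_⟩
  let ξ : (AlgSp.yon S).obj T ⟶ G := (AlgSp.J S).uliftYonedaEquiv.symm x
  have sq := IsPullback.of_hasPullback a ξ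
  obtain ⟨hP, ⟨hs, hf⟩, hp⟩ := (AlgSp.repBySpWith_hom_iff _ a).1 ha ξ _ _ sq
  obtain ⟨W, w, hw, hws⟩ := hP.atlas
  obtain ⟨g, hg⟩ := (AlgSp.yon S).map_surjective (w ≫ pullback.snd a ξ)
  have hi : AlgSp.RepWith @Etale (𝟙 ((AlgSp.yon S).obj T)) := Groth.L23.repWith_of_isIso _
  have e : w ≫ pullback.snd a ξ = (AlgSp.yon S).map g ≫ 𝟙 _ := by rw [Category.comp_id, hg]
  haveI : Flat g.left := hf w (𝟙 _) g hw hi e
  haveI : LocallyOfFinitePresentation g.left := hp w (𝟙 _) g hw hi e
  haveI : Surjective g.left := Groth.L24.Boot.surjective_of_points g (by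
    rw [hg]
    intro t
    obtain ⟨z, rfl⟩ := hs t
    obtain ⟨v, rfl⟩ := Groth.L23.surjective_map_of_repWith hws z
    exact ⟨v, AlgSp.Points.map_comp _ _ _⟩)
  refine GrothendieckTopology.superset_covering _ ?_ (Groth.L23.generate_singleton_mem g)
  rw [Sieve.generate_le_iff]
  rintro V v ⟨⟩
  refine ⟨(AlgSp.J S).uliftYonedaEquiv (w ≫ pullback.fst a ξ), ?_⟩
  change a.hom.app _ _ = _
  rw [← GrothendieckTopology.uliftYonedaEquiv_comp, Category.assoc, sq.w, ← Category.assoc, ← hg,
    ← GrothendieckTopology.uliftYonedaEquiv_naturality, Equiv.apply_symm_apply]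

end Groth.Agent.S10096
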