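import Groth.Statements.S10104
import Groth.Agent.L24.Boot.EtaleCharts
import Groth.Agent.L24.Boot.FlatBootstrap

set_option autoImplicit false
universe u
open CategoryTheory CategoryTheory.Limits AlgebraicGeometry
open AlgSp

namespace Groth.Agent.S10104

/-- Let `F` be an fppf sheaf of sets over `S` admitting a map `U ⟶ F` from an algebraic space `U`, where
the map is representable by algebraic spaces and is flat, surjective and locally of finite
presentation. It follows that `F` is an algebraic space over `S`. (The published statement lists
further sufficient conditions, namely `U` a scheme, or the diagonal of `F` representable by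
algebraic spaces with `U ⟶ F` surjective, flat and locally of finite presentation, each of which
implies the hypotheses of this row.) -/
theorem result (S : Scheme.{u}) (F : AlgSp.Sp S) (U : AlgSp.Space S)
    (p : U.obj ⟶ F) (hp : AlgSp.RepBySpWith (AlgSp.IsSurjectiveMor ⊓ AlgSp.LocP @Flat ⊓ AlgSp.LocP @LocallyOfFinitePresentation) p.hom) :
    AlgSp.IsAlgSpace F := by
  obtain ⟨V, q, hq, hq'⟩ := U.property.atlas
  refine Groth.L24.Boot.isAlgSpace_of_flatCharts (Groth.L24.Boot.hasCharts_of_repBySpWith U.property p hp q hq hq'
    (P := @Flat ⊓ @LocallyOfFinitePresentation ⊓ @Surjective)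
    fun {A T G} r f a _ hre hrs hf hrf => ?_)
  have hi : RepWith @Etale (𝟙 ((yon S).obj T)) := Groth.L23.repWith_of_isIso _
  have w : r ≫ f = (yon S).map a ≫ 𝟙 _ := by rw [Category.comp_id, hrf]
  refine ⟨⟨hf.1.2 r (𝟙 _) a hre hi w, hf.2 r (𝟙 _) a hre hi w⟩, Groth.L24.Boot.surjective_of_points a ?_⟩
  rw [← hrf]
  have e : Points.map (r ≫ f) = Points.map f ∘ Points.map r := funext fun x => Points.map_comp r f x
  rw [e]
  exact Function.Surjective.comp hf.1.1 (Groth.L23.surjective_map_of_repWith hrs)

end Groth.Agent.S10104
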