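import Groth.Statements.S10098
import Groth.Agent.S10104
import Groth.Agent.L23.MorCalc
import Groth.Agent.L24.Alg.SpaceBaseLocal
import Groth.Agent.L23.LqfRep
import Groth.Agent.L24.St.LocPFppf

set_option autoImplicit false
universe u
open CategoryTheory CategoryTheory.Limits AlgebraicGeometry
open AlgSp

set_option backward.isDefEq.respectTransparency false
set_option backward.isDefEq.respectTransparency.types false

namespace Groth.Agent.S10098

/-- Let `E = H ×_G F` be a cartesian square of fppf sheaves of sets over `S`, with `a : E ⟶ F`, `f : E ⟶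
H`, `g : F ⟶ G`, `b : H ⟶ G`. Suppose that `a` and `g` are both representable by algebraic spaces,
that `g` is flat, surjective and locally of finite presentation, and that `a` is separated and
locally quasi-finite. Under these assumptions `b` is representable by schemes, separated, and
locally quasi-finite. -/
theorem result (S : Scheme.{u}) (E F G H : AlgSp.Sp S)
    (a : E ⟶ F) (f : E ⟶ H) (g : F ⟶ G) (b : H ⟶ G) (sq : IsPullback a f g b)
    (hg : AlgSp.RepBySpWith (AlgSp.IsSurjectiveMor ⊓ AlgSp.LocP @Flat ⊓ AlgSp.LocP @LocallyOfFinitePresentation) g.hom)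
    (ha : AlgSp.RepBySpWith
      (AlgSp.IsSeparatedMor ⊓ AlgSp.LocP (@LocallyQuasiFinite ⊓ @LocallyOfFiniteType)) a.hom) :
    AlgSp.RepWith @IsSeparated b ∧ AlgSp.RepWith (@LocallyQuasiFinite ⊓ @LocallyOfFiniteType) b := by
  suffices key : ∀ (T : Over S) (ξ : (AlgSp.yon S).obj T ⟶ G),
      ∃ (V : Over S) (θ : (AlgSp.yon S).obj V ⟶ pullback b ξ) (k : V ⟶ T), IsIso θ ∧
        θ ≫ pullback.snd b ξ = (AlgSp.yon S).map k ∧ IsSeparated k.left ∧
          (@LocallyQuasiFinite ⊓ @LocallyOfFiniteType : MorphismProperty Scheme.{u}) k.left by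
    have hcart : ∀ (T : Over S) (ξ : (AlgSp.yon S).obj T ⟶ G),
        ∃ (V : Over S) (fst : (AlgSp.yon S).obj V ⟶ H) (k : V ⟶ T), IsPullback fst ((AlgSp.yon S).map k) b ξ ∧
          IsSeparated k.left ∧ (@LocallyQuasiFinite ⊓ @LocallyOfFiniteType : MorphismProperty Scheme.{u}) k.left :=
      fun T ξ => by
        obtain ⟨V, θ, k, hθ, hk, h₁, h₂⟩ := key T ξ
        exact ⟨V, θ ≫ pullback.fst b ξ, k, (IsPullback.of_hasPullback b ξ).of_iso (asIso θ).symm (Iso.refl _)
          (Iso.refl _) (Iso.refl _) (by simp) (by rw [← hk]; simp) (by simp) (by simp), h₁, h₂⟩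
    constructor <;> refine Groth.L23.repWith_of_exists fun T ξ => ?_
    · obtain ⟨V, fst, k, sq, h₁, h₂⟩ := hcart T ξ
      exact ⟨V, fst, k, sq, h₁⟩
    · obtain ⟨V, fst, k, sq, h₁, h₂⟩ := hcart T ξ
      exact ⟨V, fst, k, sq, h₂⟩
  intro T ξ
  have sT := IsPullback.of_hasPullback g ξ
  obtain ⟨hFT, ⟨hs, hf⟩, hp⟩ := (AlgSp.repBySpWith_hom_iff _ g).1 hg ξ _ _ sT
  obtain ⟨W, w, hw, hws⟩ := hFT.atlas
  obtain ⟨k₀, hk₀⟩ := (AlgSp.yon S).map_surjective (w ≫ pullback.snd g ξ)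
  have hi : AlgSp.RepWith @Etale (𝟙 ((AlgSp.yon S).obj T)) := Groth.L23.repWith_of_isIso _
  have e : w ≫ pullback.snd g ξ = (AlgSp.yon S).map k₀ ≫ 𝟙 _ := by rw [Category.comp_id, hk₀]
  haveI : Flat k₀.left := hf w (𝟙 _) k₀ hw hi e
  haveI : LocallyOfFinitePresentation k₀.left := hp w (𝟙 _) k₀ hw hi e
  have hks : Function.Surjective (AlgSp.Points.map ((AlgSp.yon S).map k₀)) := by
    rw [hk₀]
    intro t
    obtain ⟨z, rfl⟩ := hs t
    obtain ⟨v, rfl⟩ := Groth.L23.surjective_map_of_repWith hws z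
    exact ⟨v, AlgSp.Points.map_comp _ _ _⟩
  have hW := IsAlgSpace.yon_obj W
  have hT := IsAlgSpace.yon_obj T
  have hkf : AlgSp.LocP @Flat ((AlgSp.yon S).map k₀) := Groth.L23.locP_of_repWith Groth.L23.etLocal_flat
    ((AlgSp.repWith_yon_map_iff _ _).2 inferInstance)
  have hkp : AlgSp.LocP @LocallyOfFinitePresentation ((AlgSp.yon S).map k₀) :=
    Groth.L23.locP_of_repWith Groth.L23.etLocal_lfp ((AlgSp.repWith_yon_map_iff _ _).2 inferInstance)
  have sH := IsPullback.of_hasPullback b ξ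
  have sW := IsPullback.of_hasPullback (pullback.snd b ξ) ((AlgSp.yon S).map k₀)
  have sE : IsPullback (pullback.fst (pullback.snd b ξ) ((AlgSp.yon S).map k₀) ≫ pullback.fst b ξ)
      (pullback.snd (pullback.snd b ξ) ((AlgSp.yon S).map k₀)) b ((w ≫ pullback.fst g ξ) ≫ g) := by
    have := sW.paste_horiz sH
    rwa [Category.assoc, sT.w, ← Category.assoc, ← hk₀]
  let l := sq.lift (pullback.snd (pullback.snd b ξ) ((AlgSp.yon S).map k₀) ≫ w ≫ pullback.fst g ξ)
    (pullback.fst (pullback.snd b ξ) ((AlgSp.yon S).map k₀) ≫ pullback.fst b ξ)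
    (((congrArg (_ ≫ ·) (Category.assoc _ _ _).symm).trans sE.w.symm |> fun h => by simpa using h))
  have hl₁ := sq.lift_fst (pullback.snd (pullback.snd b ξ) ((AlgSp.yon S).map k₀) ≫ w ≫ pullback.fst g ξ)
    (pullback.fst (pullback.snd b ξ) ((AlgSp.yon S).map k₀) ≫ pullback.fst b ξ) (by simpa using sE.w.symm)
  have sEW : IsPullback l (pullback.snd (pullback.snd b ξ) ((AlgSp.yon S).map k₀)) a (w ≫ pullback.fst g ξ) := by
    refine IsPullback.of_right ?_ hl₁ sq.flip
    rwa [show l ≫ f = pullback.fst (pullback.snd b ξ) ((AlgSp.yon S).map k₀) ≫ pullback.fst b ξ from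
      sq.lift_snd _ _ _]
  obtain ⟨hEW, hsep, hlqf⟩ := (AlgSp.repBySpWith_hom_iff _ a).1 ha _ _ _ sEW
  have hH : AlgSp.IsAlgSpace (pullback b ξ) := by
    refine Groth.Agent.S10104.result S _ ⟨_, hEW⟩ (pullback.fst (pullback.snd b ξ) ((AlgSp.yon S).map k₀))
      ((AlgSp.repBySpWith_hom_iff _ _).2 fun U ζ F' p₁ p₂ sU => ?_)
    have hU := IsAlgSpace.yon_obj U
    have s' : IsPullback (p₁ ≫ pullback.snd (pullback.snd b ξ) ((AlgSp.yon S).map k₀)) p₂ ((AlgSp.yon S).map k₀)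
        (ζ ≫ pullback.snd b ξ) := sU.paste_horiz sW.flip
    exact ⟨Groth.L23.isAlgSpace_of_isPullback hT.diag hW hU s', ⟨Groth.L23.surjective_snd_of_isPullback s' hks,
      Groth.L23.locP_of_isPullback Groth.L23.etLocal_flat hW hT hU s' hkf⟩,
      Groth.L23.locP_of_isPullback Groth.L23.etLocal_lfp hW hT hU s' hkp⟩
  have hcov : AlgSp.IsFppfCover (X := (AlgSp.yon S).obj T) (fun _ : PUnit.{u+1} => (AlgSp.yon S).obj W)
      (fun _ => (AlgSp.yon S).map k₀) := ⟨fun _ => ⟨hkf, hkp⟩, fun t => by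
    obtain ⟨y, hy⟩ := hks t
    exact ⟨PUnit.unit, y, hy⟩⟩
  have hsep' : AlgSp.IsSeparatedMor (pullback.snd b ξ) :=
    (Groth.L24.Alg.isLocalOnBase_fppf_separated (ι := PUnit.{u+1}) _ _ hT (fun _ => hW) hcov _ hH
      (fun _ => pullback (pullback.snd b ξ) ((AlgSp.yon S).map k₀)) _ _ (fun _ => hEW) (fun _ => sW)).2 fun _ => hsep
  have hlqf' : AlgSp.LocP (@LocallyQuasiFinite ⊓ @LocallyOfFiniteType) (pullback.snd b ξ) :=
    (Groth.L24.St.isLocalOnBase_locP_fppf Groth.L23.etLocal_lqfLft (ι := PUnit.{u+1}) _ _ hT (fun _ => hW) hcov _ hH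
      (fun _ => pullback (pullback.snd b ξ) ((AlgSp.yon S).map k₀)) _ _ (fun _ => hEW) (fun _ => sW)).2 fun _ => hlqf
  obtain ⟨V, θ, hθ⟩ := Groth.L23.Lqf.exists_scheme_of_lqf hH _ hlqf' hsep'
  obtain ⟨k, hk⟩ := (AlgSp.yon S).map_surjective (θ ≫ pullback.snd b ξ)
  have hY := IsAlgSpace.yon_obj V
  refine ⟨V, θ, k, hθ, hk.symm, ?_, ?_⟩
  · have h₁ : AlgSp.IsSeparatedMor ((AlgSp.yon S).map k) := by
      rw [hk]
      haveI : IsIso (pullback.diagonal θ) := (pullback.isIso_diagonal_iff θ).2 inferInstance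
      exact Groth.L23.separated_comp (Groth.L23.repWith_of_isIso _) hsep'
    exact (AlgSp.repWith_yon_map_iff _ _).1
      ((Groth.L23.isSeparatedMor_iff (hT.representable_from_yon _)).1 h₁)
  · exact AlgSp.locP_yon_map (by
      rw [hk]
      exact Groth.L23.locP_comp Groth.L23.etLocal_lqfLft hY hH hT
        (Groth.L23.locP_of_repWith Groth.L23.etLocal_lqfLft (Groth.L23.repWith_of_isIso θ)) hlqf')

end Groth.Agent.S10098
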