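import Groth.Statements.S1010
import Groth.Agent.L20.ResDescent
import Groth.Agent.L17.Duality
import Groth.Agent.L17.CoverVanishing
import Groth.Agent.L17.AffineVanishing
import Groth.Agent.L00.TensorQCoh
import Groth.Agent.L29.DCoh.RpushQC
import Groth.Agent.L29.DCoh.PCQCoh
import Groth.Agent.L29.DCoh.Cpt.QCoh
import Groth.Agent.L29.DCoh.Gen.QCohTri

set_option autoImplicit false
set_option backward.isDefEq.respectTransparency false
universe u
open CategoryTheory CategoryTheory.Limits AlgebraicGeometry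
attribute [local instance] HasDerivedCategory.standard
open Perf

namespace Groth.Agent.S1010

open CategoryTheory.Pretriangulated in
theorem ext_vanish {X : Scheme.{u}} [CompactSpace X] [QuasiSeparatedSpace X] :
    ∃ d : ℕ, ∀ (F G : X.Modules), FlatMod.IsFinLocFree F → Coh.IsQCoh G → ∀ n : ℤ, (d : ℤ) < n →
      ∀ φ : DCoh.inD X F ⟶ (DCoh.inD X G)⟦n⟧, φ = 0 := by
  obtain ⟨_, _, _⟩ := Groth.L10.ModRDer.insts X.sheaf
  haveI := Groth.L00.Tensor.grothendieckAbelian_modules X
  haveI : HasExt.{u} X.Modules := inferInstance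
  obtain ⟨d, hd⟩ := Groth.L17.exists_bound_qcqs (⊤ : X.Opens) (by simpa using isCompact_univ)
  refine ⟨d, fun F G hF hG n hn φ => ?_⟩
  obtain ⟨p, rfl⟩ : ∃ p : ℕ, n = p := ⟨n.toNat, by omega⟩
  haveI := Groth.L17.Duality.hasSheafHom F
  obtain ⟨e⟩ := Groth.L17.Duality.nonempty_ext_iso_cohomology F hF G p
  haveI := hG
  haveI : Coh.IsQCoh (Groth.L17.Duality.dual F) :=
    Groth.L29.DC.PCQCoh.isQCoh_of_isFinLocFree (Groth.L20.ResDescent.isFinLocFree_dual F hF)
  haveI : Coh.IsQCoh ((Groth.L17.ChangeRings.homMod F).obj G) :=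
    Groth.L29.DC.isQCoh_of_iso' ((Groth.L17.Duality.tensorDualIso F hF).app G)
      (Groth.L00.Tensor.isQCoh_tensorMod _ _)
  haveI : Subsingleton (Coh.HH X ((Groth.L17.ChangeRings.homMod F).obj G) p) :=
    haveI := subsingleton_of_forall_eq 0 (hd ((Groth.L17.ChangeRings.homMod F).obj G) p (by omega))
    (Groth.L17.hTopEquiv (X := X.toTopCat) _ p).subsingleton
  haveI := e.toEquiv.subsingleton
  haveI := (Abelian.Ext.homEquiv (X := F) (Y := G) (n := p)).symm.subsingleton
  exact Subsingleton.elim (α := ShiftedHom ((DerivedCategory.singleFunctor X.Modules 0).obj F)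
    ((DerivedCategory.singleFunctor X.Modules 0).obj G) (p : ℤ)) _ _

/-- Let the scheme X be quasi-compact and quasi-separated and E a bounded object of D(O_X) with
quasi-coherent cohomology sheaves. There is an integer n₀ > 0 such that for every finite locally
free O_X-module F and every n ≥ n₀, every morphism F ⟶ E[n] in D(O_X) (an element of Extⁿ(F, E)) is
zero. -/
theorem result (X : Scheme.{u}) [CompactSpace ↥X] [QuasiSeparatedSpace ↥X]
    (E : DCoh.D X) (hE : DCoh.IsQCohD E) (a b : ℤ) [E.IsGE a] [E.IsLE b] :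
    ∃ n₀ : ℤ, 0 < n₀ ∧ ∀ (F : X.Modules), FlatMod.IsFinLocFree F → ∀ n : ℤ, n₀ ≤ n →
      ∀ φ : DCoh.inD X F ⟶ E⟦n⟧, φ = 0 := by
  obtain ⟨d, hd⟩ := ext_vanish (X := X)
  let tt := DerivedCategory.TStructure.t (C := X.Modules)
  suffices H : ∀ (k : ℕ) (E : DCoh.D X), DCoh.IsQCohD E → ∀ a : ℤ, tt.IsGE E a → tt.IsLE E (a + k - 1) →
      ∀ F : X.Modules, FlatMod.IsFinLocFree F → ∀ n : ℤ, (d : ℤ) + a + k ≤ n →
        ∀ φ : DCoh.inD X F ⟶ E⟦n⟧, φ = 0 by
    refine ⟨max 1 (d + a + (b + 1 - a).toNat), by omega, fun F hF n hn φ => ?_⟩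
    haveI : tt.IsLE E b := inferInstanceAs (DerivedCategory.IsLE E b)
    exact H (b + 1 - a).toNat E hE a (inferInstanceAs (DerivedCategory.IsGE E a))
      (tt.isLE_of_le E b _ (by omega)) F hF n (by omega) φ
  intro k
  induction k with
  | zero =>
    intro E hE a hge hle F hF n hn φ
    haveI := hge
    haveI := hle
    exact ((shiftFunctor _ n).map_isZero (tt.isZero E (a + (0 : ℕ) - 1) a (by omega))).eq_of_tgt _ _
  | succ k ih =>
    intro E hE a hge hle F hF n hn φ
    haveI := hge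
    haveI := hle
    let A := (tt.truncLT (a + 1)).obj E
    let B := (tt.truncGE (a + 1)).obj E
    haveI : tt.IsLE A a := tt.isLE_truncLT_obj _ _ _ (by omega)
    haveI : tt.IsGE A a := inferInstance
    obtain ⟨eA⟩ := Groth.L10.exists_iso_single_H A a
    have hAq : DCoh.IsQCohD A := Groth.L29.DC.Cpt.isQCohD_truncLT hE (a + 1)
    have hBq : DCoh.IsQCohD B := Groth.L29.DC.Gen.isQCohD_third _ (tt.triangleLTGE_distinguished (a + 1) E) hAq hE
    have hT := Pretriangulated.Triangle.shift_distinguished _ (tt.triangleLTGE_distinguished (a + 1) E) n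
    have hB : φ ≫ (Pretriangulated.Triangle.shiftFunctor _ n |>.obj ((tt.triangleLTGE (a + 1)).obj E)).mor₂ = 0 :=
      ih B hBq (a + 1) inferInstance (tt.isLE_of_le B (a + ((k + 1 : ℕ) : ℤ) - 1) _ (by push_cast; omega)) F hF n
        (by omega) _
    obtain ⟨g, hg⟩ := Pretriangulated.Triangle.coyoneda_exact₂ _ hT φ hB
    let e : A⟦n⟧ ≅ (DCoh.inD X ((DerivedCategory.homologyFunctor X.Modules a).obj A))⟦n - a⟧ :=
      (shiftFunctor _ n).mapIso eA ≪≫
        ((DerivedCategory.singleFunctors X.Modules).shiftIso n (a - n) a (by omega)).app _ ≪≫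
        (((DerivedCategory.singleFunctors X.Modules).shiftIso (n - a) (a - n) 0 (by omega)).app _).symm
    have h0 : g ≫ e.hom = 0 := hd F _ hF (hAq a) (n - a) (by push_cast at hn; omega) _
    rw [hg, show g = 0 from (cancel_mono e.hom).1 (by rw [h0, zero_comp])]
    exact zero_comp

end Groth.Agent.S1010
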