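import Groth.Statements.S10100
import Groth.Agent.L23.LqfRep

set_option autoImplicit false
universe u
open CategoryTheory CategoryTheory.Limits AlgebraicGeometry
open AlgSp

set_option backward.isDefEq.respectTransparency false
set_option backward.isDefEq.respectTransparency.types false

namespace Groth.Agent.S10100

/-- Let `F` be a presheaf of sets on schemes over `S`, `X` a scheme over `S` and `h_X ⟶ F` a map which
is representable by algebraic spaces and locally quasi-finite. Then `h_X ⟶ F` is representable by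
schemes. -/
theorem result (S : Scheme.{u}) (F : AlgSp.PSp S) (X : Over S)
    (p : (AlgSp.pyon S).obj X ⟶ F)
    (hp : AlgSp.RepBySpWith (AlgSp.LocP (@LocallyQuasiFinite ⊓ @LocallyOfFiniteType)) p) :
    (AlgSp.pyon S).relativelyRepresentable p := by
  intro T ξ
  have sq := IsPullback.of_hasPullback p ξ
  obtain ⟨h, hP, hq⟩ := hp ξ _ _ sq
  let P : AlgSp.Sp S := ⟨pullback p ξ, h⟩
  let f₁ : P ⟶ (AlgSp.yon S).obj X := ObjectProperty.homMk (pullback.fst p ξ)
  let f₂ : P ⟶ (AlgSp.yon S).obj T := ObjectProperty.homMk (pullback.snd p ξ)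
  let g : P ⟶ (AlgSp.yon S).obj (X ⨯ T) := prod.lift f₁ f₂ ≫ inv (prodComparison (AlgSp.yon S) X T)
  have e₁ : g ≫ (AlgSp.yon S).map prod.fst = f₁ := by
    simp only [g, Category.assoc, inv_prodComparison_map_fst, prod.lift_fst]
  have e₂ : g ≫ (AlgSp.yon S).map prod.snd = f₂ := by
    simp only [g, Category.assoc, inv_prodComparison_map_snd, prod.lift_snd]
  haveI : Mono g := ⟨fun {Z} a b e => by
    have h₁ : a ≫ f₁ = b ≫ f₁ := by rw [← e₁, reassoc_of% e]
    have h₂ : a ≫ f₂ = b ≫ f₂ := by rw [← e₂, reassoc_of% e]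
    exact ObjectProperty.hom_ext _ (sq.hom_ext (congrArg (fun m : Z ⟶ _ => m.hom) h₁)
      (congrArg (fun m : Z ⟶ _ => m.hom) h₂))⟩
  have hg : AlgSp.LocP (@LocallyQuasiFinite ⊓ @LocallyOfFiniteType) g := fun A B a b k ha hb w => by
    obtain ⟨b₀, hb₀⟩ := (AlgSp.yon S).map_surjective b
    have e : a ≫ f₂ = (AlgSp.yon S).map (k ≫ b₀ ≫ prod.snd) ≫ 𝟙 _ := by
      rw [Category.comp_id, ← e₂, reassoc_of% w, ← hb₀, Functor.map_comp, Functor.map_comp]
    obtain ⟨q1, q2⟩ := hq a (𝟙 _) (k ≫ b₀ ≫ prod.snd) ha (Groth.L23.repWith_of_isIso _) e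
    haveI : LocallyQuasiFinite (k.left ≫ (b₀ ≫ prod.snd).left) := q1
    haveI : LocallyOfFiniteType (k.left ≫ (b₀ ≫ prod.snd).left) := q2
    exact ⟨LocallyQuasiFinite.of_comp k.left (b₀ ≫ prod.snd).left,
      locallyOfFiniteType_of_comp k.left (b₀ ≫ prod.snd).left⟩
  haveI : IsIso (pullback.diagonal g) := (pullback.isIso_diagonal_iff g).2 inferInstance
  obtain ⟨G, θ, hθ⟩ := Groth.L23.Lqf.exists_scheme_of_lqf hP g hg (Groth.L23.repWith_of_isIso _)
  obtain ⟨s, hs⟩ := (AlgSp.yon S).map_surjective (θ ≫ f₂)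
  let θ' : (AlgSp.pyon S).obj G ≅ pullback p ξ := (sheafToPresheaf _ _).mapIso (asIso θ)
  refine ⟨G, s, θ'.hom ≫ pullback.fst p ξ, sq.of_iso θ'.symm (Iso.refl _) (Iso.refl _) (Iso.refl _)
    (by simp) ?_ (by simp) (by simp)⟩
  simp only [Iso.refl_hom, Category.comp_id, Iso.symm_hom]
  rw [show (AlgSp.pyon S).map s = θ'.hom ≫ pullback.snd p ξ from congrArg (fun m : (AlgSp.yon S).obj G ⟶ _ => m.hom) hs]
  simp

end Groth.Agent.S10100
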