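import Groth.Statements.S10105
import Groth.Agent.L24.Boot.SpaceCofan

set_option autoImplicit false
universe u
open CategoryTheory CategoryTheory.Limits AlgebraicGeometry
open AlgSp

namespace Groth.Agent.S10105

/-- Let `F` be an fppf sheaf of sets over `S` and `{S_i ⟶ S}` an fppf covering. If every `h_{S_i} × F`
is an algebraic space and the coproduct `∐ h_{S_i} × F` (in sheaves) is an algebraic space, then `F`
is an algebraic space: being an algebraic space is fppf local on the base. -/
theorem result (S : Scheme.{u}) (F : AlgSp.Sp S) {ι : Type u} (Si : ι → Over S)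
    (hfl : ∀ i, Flat (Si i).hom) (hfp : ∀ i, LocallyOfFinitePresentation (Si i).hom)
    (hsurj : ∀ x : ↥S, ∃ (i : ι) (y : ↥(Si i).left), (Si i).hom.base y = x)
    (halg : ∀ i, AlgSp.IsAlgSpace ((AlgSp.yon S).obj (Si i) ⨯ F))
    (c : Cofan (fun i => (AlgSp.yon S).obj (Si i) ⨯ F)) (hc : IsColimit c) (hcop : AlgSp.IsAlgSpace c.pt) :
    AlgSp.IsAlgSpace F := by
  have : MorphismProperty.ContainsIdentities (@Flat : MorphismProperty Scheme.{u}) := ⟨fun X => (inferInstance : Flat (𝟙 X))⟩
  have : MorphismProperty.ContainsIdentities (@LocallyOfFinitePresentation : MorphismProperty Scheme.{u}) :=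
    ⟨fun X => (inferInstance : LocallyOfFinitePresentation (𝟙 X))⟩
  refine Groth.L24.Boot.isAlgSpace_of_flat_cover halg (fun i => Limits.prod.snd)
    (fun i => (repBySpWith_hom_iff _ _).2 fun T ξ P fst snd sq => ?_) fun y => ?_
  · let e : T ⨯ Si i ⟶ T := Limits.prod.fst
    have sq' : IsPullback (prod.lift ((yon S).map (Limits.prod.snd : T ⨯ Si i ⟶ Si i)) ((yon S).map e ≫ ξ)) ((yon S).map e) (Limits.prod.snd : (yon S).obj (Si i) ⨯ F ⟶ F) ξ := by
      refine Groth.L24.Boot.isPullback_of_yon (by rw [prod.lift_snd]) (fun W x y h1 h2 => ?_) fun W x y h => ?_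
      · obtain ⟨x, rfl⟩ := (yon S).map_surjective x
        obtain ⟨y, rfl⟩ := (yon S).map_surjective y
        have h1' := h1 =≫ Limits.prod.fst
        rw [Category.assoc, Category.assoc, prod.lift_fst, ← Functor.map_comp, ← Functor.map_comp] at h1'
        rw [← Functor.map_comp, ← Functor.map_comp] at h2
        congr 1
        exact Limits.prod.hom_ext ((yon S).map_injective h2) ((yon S).map_injective h1')
      · obtain ⟨y, rfl⟩ := (yon S).map_surjective y
        obtain ⟨x₁, hx₁⟩ := (yon S).map_surjective (x ≫ Limits.prod.fst)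
        refine ⟨(yon S).map (prod.lift y x₁), ?_, by rw [← Functor.map_comp, prod.lift_fst]⟩
        apply Limits.prod.hom_ext
        · rw [Category.assoc, prod.lift_fst, ← Functor.map_comp, prod.lift_snd, hx₁]
        · rw [Category.assoc, prod.lift_snd, ← Functor.map_comp_assoc, prod.lift_fst, h]
    have he : IsPullback e.left (Limits.prod.snd : T ⨯ Si i ⟶ Si i).left T.hom (Si i).hom :=
      IsPullback.of_iso_pullback ⟨by rw [Over.w, Over.w]⟩ (Over.prodLeftIsoPullback T (Si i)) (Over.prodLeftIsoPullback_hom_fst T (Si i)) (Over.prodLeftIsoPullback_hom_snd T (Si i))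
    have := hfl i
    have := hfp i
    have hef : Flat e.left := MorphismProperty.of_isPullback he.flip (hfl i)
    have hep : LocallyOfFinitePresentation e.left := MorphismProperty.of_isPullback he.flip (hfp i)
    let j := sq'.isoIsPullback _ _ sq
    have hj : j.hom ≫ snd = (yon S).map e := IsPullback.isoIsPullback_hom_snd _ _ _ _
    have hsnd : j.inv ≫ (yon S).map e = snd := by rw [← hj, Iso.inv_hom_id_assoc]
    refine ⟨(IsAlgSpace.yon_obj _).of_iso j, ?_, ?_⟩
    · rw [← hsnd]
      exact Groth.L23.locP_comp Groth.L23.etLocal_flat ((IsAlgSpace.yon_obj _).of_iso j) (IsAlgSpace.yon_obj _) (IsAlgSpace.yon_obj T)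
        (Groth.L23.locP_of_repWith Groth.L23.etLocal_flat (Groth.L23.repWith_of_isIso _))
        (Groth.L23.locP_of_repWith Groth.L23.etLocal_flat (Groth.L23.repWith_map hef))
    · rw [← hsnd]
      exact Groth.L23.locP_comp Groth.L23.etLocal_lfp ((IsAlgSpace.yon_obj _).of_iso j) (IsAlgSpace.yon_obj _) (IsAlgSpace.yon_obj T)
        (Groth.L23.locP_of_repWith Groth.L23.etLocal_lfp (Groth.L23.repWith_of_isIso _))
        (Groth.L23.locP_of_repWith Groth.L23.etLocal_lfp (Groth.L23.repWith_map hep))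
  · obtain ⟨T, ξ, t, rfl⟩ := Groth.L23.exists_eq_ofPt y
    obtain ⟨i, z, hz⟩ := hsurj (T.hom t)
    have he : IsPullback (Limits.prod.fst : T ⨯ Si i ⟶ T).left (Limits.prod.snd : T ⨯ Si i ⟶ Si i).left T.hom (Si i).hom :=
      IsPullback.of_iso_pullback ⟨by rw [Over.w, Over.w]⟩ (Over.prodLeftIsoPullback T (Si i)) (Over.prodLeftIsoPullback_hom_fst T (Si i)) (Over.prodLeftIsoPullback_hom_snd T (Si i))
    obtain ⟨m, hm, -⟩ := Scheme.exists_preimage_of_isPullback he t z hz.symm
    refine ⟨i, Points.ofPt (prod.lift ((yon S).map (Limits.prod.snd : T ⨯ Si i ⟶ Si i)) ((yon S).map (Limits.prod.fst : T ⨯ Si i ⟶ T) ≫ ξ)) m, ?_⟩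
    rw [Points.map_ofPt, prod.lift_snd, Groth.L23.ofPt_comp]
    exact congrArg _ hm

end Groth.Agent.S10105
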