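import Groth.Statements.S10108
import Groth.Agent.L24.Boot.EtaleSheaf

set_option autoImplicit false
universe u
open CategoryTheory CategoryTheory.Limits AlgebraicGeometry
open AlgSp

namespace Groth.Agent.S10108

/-- A presheaf of sets on schemes over `S` which is a sheaf for the etale topology, has diagonal
representable by schemes, and receives a representable surjective etale map from a scheme over `S`,
is an algebraic space (in particular an fppf sheaf): algebraic spaces defined with the etale
topology are the same as with the fppf topology. -/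
theorem result (S : Scheme.{u}) (F : AlgSp.PSp S)
    (h1 : Presheaf.IsSheaf (QuotSh.J Scheme.etalePrecoverage S) F)
    (h2 : (AlgSp.pyon S).relativelyRepresentable (Limits.diag F))
    (U : Over S) (p : (AlgSp.pyon S).obj U ⟶ F)
    (h3 : (MorphismProperty.inverseImage @Etale (Over.forget S)).relative (AlgSp.pyon S) p ∧
      (MorphismProperty.inverseImage @Surjective (Over.forget S)).relative (AlgSp.pyon S) p) :
    AlgSp.IsAlgSpaceP F := by
  have hs : ∀ (T : Over S) (x : (pyon S).obj T ⟶ F), Etale (h3.1.1.snd x).left ∧ Surjective (h3.1.1.snd x).left :=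
    fun T x => ⟨h3.1.2 x _ _ (h3.1.1.isPullback x), h3.2.2 x _ _ (h3.1.1.isPullback x)⟩
  refine Groth.L24.Boot.isAlgSpaceP_of_smooth_chart h1 p (fun T x => ?_) (R := (yon S).obj (h3.1.1.pullback p))
    (IsAlgSpace.yon_obj _) ((yon S).map (h3.1.1.snd p)) (ObjectProperty.homMk (h3.1.1.fst p)) (h3.1.1.isPullback p).flip ?_
  · obtain ⟨h, h'⟩ := hs T x
    exact ⟨_, h3.1.1.snd x, h3.1.1.fst x, inferInstance, h', (h3.1.1.isPullback x).w⟩
  · obtain ⟨h, -⟩ := hs U p
    exact Groth.L23.locP_of_repWith Groth.L23.etLocal_smooth
      (Groth.L23.repWith_map (show Smooth (h3.1.1.snd p).left from inferInstance))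

end Groth.Agent.S10108
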