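import Groth.Statements.S10109
import Groth.Agent.L24.Boot.EtaleSheafSpace

set_option autoImplicit false
universe u
open CategoryTheory CategoryTheory.Limits AlgebraicGeometry
open AlgSp

namespace Groth.Agent.S10109

/-- A presheaf of sets on schemes over `S` which is a sheaf for the etale topology and receives a map
from an algebraic space which is representable by algebraic spaces, surjective and etale, is an
algebraic space (in particular an fppf sheaf). -/
theorem result (S : Scheme.{u}) (F : AlgSp.PSp S)
    (h1 : Presheaf.IsSheaf (QuotSh.J Scheme.etalePrecoverage S) F) (U : AlgSp.Space S) (p : U.obj.obj ⟶ F)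
    (h2 : AlgSp.RepBySpWith (AlgSp.IsSurjectiveMor ⊓ AlgSp.IsEtaleMor) p) :
    AlgSp.IsAlgSpaceP F := by
  refine Groth.L24.Boot.isAlgSpaceP_of_smooth_space_chart h1 U p fun T x G fst snd sq => ?_
  obtain ⟨hG, hGa, hs, he⟩ := h2 x fst snd sq
  refine ⟨hG, hGa, hs, Groth.L23.locP_mono (fun φ (hφ : Etale φ) => ?_)
    ((Groth.L23.isEtaleMor_iff_locP hGa (IsAlgSpace.yon_obj T) _).1 he)⟩
  show Smooth φ
  infer_instance

end Groth.Agent.S10109
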