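import Groth.Statements.S10115
import Groth.Agent.L23.QuotRestrict

set_option autoImplicit false
universe u
open CategoryTheory CategoryTheory.Limits AlgebraicGeometry
open AlgSp AlgSp.GroupoidSp

namespace Groth.Agent.S10115

/-- For a groupoid `(U, R, s, t, c)` in algebraic spaces over `B`, let `(U', R', s', t', c')` be its
restriction along a morphism `g : U' ⟶ U` over `B`. Then `U'/R' ⟶ U/R` is injective; if the
composite `h : U' ×_{g, U, t} R ⟶ R ⟶ U` of the projection with `s` is a surjection of fppf sheaves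
(for instance if `g` is), then it is bijective. -/
theorem result (S : Scheme.{u}) (B : AlgSp.Sp S) (hB : AlgSp.IsAlgSpace B)
    (G G' : AlgSp.GroupoidSp B) (hU : AlgSp.IsAlgSpace G.U) (hR : AlgSp.IsAlgSpace G.R)
    (hU' : AlgSp.IsAlgSpace G'.U) (hR' : AlgSp.IsAlgSpace G'.R) (φ : AlgSp.GroupoidSp.Hom G' G)
    (hφ : φ.IsRestriction) (ψ : G'.quot ⟶ G.quot) (hψ : G'.quotπ ≫ ψ = φ.fU ≫ G.quotπ) :
    Mono ψ ∧ (Epi (pullback.snd φ.fU G.t ≫ G.s) → IsIso ψ) := by
  have hmono : Mono ψ := Groth.L23.QR.mono_of_restrict G.s G.t (Groth.L23.QR.GroupoidSp.isPreEqvRelSp G)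
    (fun T a b r₀ ht hs => by
      have hab : a ≫ G'.pU = b ≫ G'.pU := by
        rw [← φ.fU_over, ← reassoc_of% ht, ← reassoc_of% hs, G.t_over, G.s_over]
      have hw : r₀ ≫ G.j = pullback.lift a b hab ≫ φ.prodMap := by
        apply pullback.hom_ext
        · simp [AlgSp.GroupoidSp.Hom.prodMap, ht, pullback.lift_fst, pullback.lift_fst_assoc]
        · simp [AlgSp.GroupoidSp.Hom.prodMap, hs, pullback.lift_snd, pullback.lift_snd_assoc]
      obtain ⟨k, -, hk⟩ := hφ.exists_lift r₀ (pullback.lift a b hab) hw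
      exact ⟨k, by simpa [pullback.lift_fst] using congrArg (· ≫ pullback.fst _ _) hk,
        by simpa [pullback.lift_snd] using congrArg (· ≫ pullback.snd _ _) hk⟩) ψ hψ
  refine ⟨hmono, fun he => ?_⟩
  haveI : Epi (AlgSp.quotSpπ G.s G.t) := inferInstanceAs (Epi (coequalizer.π G.s G.t))
  have e : (pullback.snd φ.fU G.t ≫ G.s) ≫ AlgSp.quotSpπ G.s G.t =
      pullback.fst φ.fU G.t ≫ φ.fU ≫ AlgSp.quotSpπ G.s G.t := by
    rw [Category.assoc, pullback.condition_assoc]
    exact congrArg (_ ≫ ·) (AlgSp.quotSp_condition G.s G.t)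
  haveI := he
  exact Groth.L23.QR.isIso_of_restrict ψ hψ hmono (epi_of_epi_fac e.symm)

end Groth.Agent.S10115
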