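import Groth.Statements.S10117
import Groth.Agent.L09.GrpSp.Basic

set_option autoImplicit false
universe u
open CategoryTheory CategoryTheory.Limits AlgebraicGeometry MonoidalCategory MonObj
open AlgSp AlgSp.GAction

set_option backward.isDefEq.respectTransparency false
set_option backward.isDefEq.respectTransparency.types false

namespace Groth.Agent.S10117

/-- If a group algebraic space `G` over `B` acts freely on an algebraic space `X` over `B`, then `G ×_B
X ⟶ X ×_B X`, `(g, x) ↦ (g x, x)`, is a monomorphism. (The published statement is an equivalence;
this row states only the direction from free to monomorphism.) -/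
theorem result (S : Scheme.{u}) (B : AlgSp.Sp S) (hB : AlgSp.IsAlgSpace B)
    (G X : Over B) [GrpObj G] (hG : AlgSp.IsAlgSpace G.left) (hX : AlgSp.IsAlgSpace X.left)
    (a : AlgSp.GAction G X) (ha : a.IsFree) :
    Mono (CartesianMonoidalCategory.lift a.act (CartesianMonoidalCategory.snd G X)).left := by
  exact Groth.L09.GrpSp.mono_shear a ha

end Groth.Agent.S10117
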