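import Groth.Statements.S10119
import Groth.Agent.L23.GroupScheme

set_option autoImplicit false
set_option backward.isDefEq.respectTransparency.types false
set_option linter.style.haveILetI false
universe u
open CategoryTheory CategoryTheory.Limits AlgebraicGeometry MonoidalCategory MonObj
open AlgSp

namespace Groth.Agent.S10119

/-- Let `k` be a field with algebraic closure `k̄` and `G` a separated group algebraic space over `k`.
Then `G_{k̄}` is a scheme. -/
theorem result (k : Type u) [Field k]
    (G : Over ((AlgSp.yon (Spec (CommRingCat.of k))).obj (Over.mk (𝟙 _)))) [GrpObj G]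
    (hG : AlgSp.IsAlgSpace G.left) (hsep : AlgSp.IsSeparatedSp G.left) :
    (G.left ⨯ ((AlgSp.yon (Spec (CommRingCat.of k))).obj (Over.mk (Spec.map (CommRingCat.ofHom (algebraMap k (AlgebraicClosure k))))))).obj.IsRepresentable := by
  have hqs : AlgSp.IsQuasiSeparatedSp G.left :=
    Groth.L23.repWith_mono (Q := @QuasiCompact) (fun f (_ : IsClosedImmersion f) => inferInstanceAs (QuasiCompact f)) hsep
  have hY : AlgSp.IsAlgSpace (G.left ⨯ Groth.L23.GConn.ext (k := k) (AlgebraicClosure k)) :=
    Groth.L23.isAlgSpace_of_isPullback (IsAlgSpace.yon_obj (Over.mk (𝟙 _))).diag hG (IsAlgSpace.yon_obj _)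
      (Groth.L23.GConn.isPullback_prod_terminal (Groth.L23.GConn.isTerminalPt k)
        ((Groth.L23.GConn.isTerminalPt k).from _) ((Groth.L23.GConn.isTerminalPt k).from _))
  obtain ⟨X', j, hj, hrep, hjr⟩ := Groth.L23.SL.exists_locus hY
  have := Groth.L23.isIso_of_openImmersion_surjective hj fun z =>
    hjr.ge (Groth.L23.GrpScheme.schemePt_group G hG hqs (AlgebraicClosure k) z)
  obtain ⟨T', ⟨e'⟩⟩ := Groth.L23.isRepresentable_iff_exists_iso.1 hrep
  exact Groth.L23.isRepresentable_iff_exists_iso.2 ⟨T', ⟨e' ≪≫ asIso j⟩⟩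


end Groth.Agent.S10119
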