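import Groth.Statements.S10129
import Groth.Agent.L23.SchApps3

set_option autoImplicit false
universe u
open CategoryTheory CategoryTheory.Limits AlgebraicGeometry
open AlgSp

namespace Groth.Agent.S10129

/-- Consider morphisms `g : X ⟶ Z` and `f : X ⟶ Y` of algebraic spaces over `B`, with `Y ⟶ B` separated
and `g` surjective, flat and locally of finite presentation, and let `V ⊂ Z` be a scheme
theoretically dense open subspace with `V ⟶ Z` quasi-compact such that `f` restricted to `g⁻¹(V)`
factors through `g⁻¹(V) ⟶ V`. Then `f` factors through `g`. (The published statement does not ask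
the open immersion `V ⟶ Z` to be quasi-compact; the published proof pulls the scheme theoretic
density of `V` back along a flat morphism by a lemma that requires it, so this row assumes it.) -/
theorem result (S : Scheme.{u}) (B : AlgSp.Sp S) (hB : AlgSp.IsAlgSpace B)
    (X Y Z : AlgSp.Space S) (pX : X.obj ⟶ B) (pY : Y.obj ⟶ B) (pZ : Z.obj ⟶ B)
    (f : X.obj ⟶ Y.obj) (g : X.obj ⟶ Z.obj) (hf : f ≫ pY = pX) (hg : g ≫ pZ = pX)
    (hY : AlgSp.IsSeparatedMor pY)
    (hgs : AlgSp.IsSurjectiveMor g) (hgf : AlgSp.LocP @Flat g) (hgp : AlgSp.LocP @LocallyOfFinitePresentation g)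
    (V : AlgSp.Sp S) (v : V ⟶ Z.obj) (hv : AlgSp.IsSchDense v) (hvq : AlgSp.IsQuasiCompactMor v)
    (hfac : ∃ φ : V ⟶ Y.obj, pullback.fst g v ≫ f = pullback.snd g v ≫ φ) :
    ∃ h : Z.obj ⟶ Y.obj, g ≫ h = f := by
  exact Groth.L23.exists_factor_over_schDense X.property Z.property (hf.trans hg.symm) hY hgs hgf hgp hv hvq hfac

end Groth.Agent.S10129
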