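import Groth.Statements.S1013
import Groth.Agent.L29.DCoh.Gen.PCHocolim

set_option autoImplicit false
set_option backward.isDefEq.respectTransparency false
universe u
open CategoryTheory CategoryTheory.Limits AlgebraicGeometry
attribute [local instance] HasDerivedCategory.standard
open Perf

namespace Groth.Agent.S1013

/-- Let the scheme X be quasi-compact and quasi-separated and K ∈ D(O_X). Assuming countable direct sums
exist in D(O_X) (they do), K is pseudo-coherent (m-pseudo-coherent for every m) if and only if K is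
a homotopy colimit of a sequence of perfect objects Kₙ whose structure maps Kₙ ⟶ K induce
isomorphisms τ_{≥ -n}Kₙ ⟶ τ_{≥ -n}K for every n. -/
theorem result (X : Scheme.{u}) [CompactSpace ↥X] [QuasiSeparatedSpace ↥X]
    [HasColimitsOfShape (Discrete ℕ) (DCoh.D X)] (K : DCoh.D X) :
    (∀ m : ℤ, DCoh.IsPseudoCoherentD m K) ↔
    ∃ (E : ℕ → DCoh.D X) (f : ∀ n, E n ⟶ E (n + 1)) (i : ∀ n, E n ⟶ K),
      (∀ n, DCoh.IsPerfect (E n)) ∧ DerLim.IsHocolim E f K i ∧
      ∀ n : ℕ, IsIso (((DerivedCategory.TStructure.t : CategoryTheory.Triangulated.TStructure (DCoh.D X)).truncGE (-(n : ℤ))).map (i n)) := by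
  constructor
  · intro hK
    obtain ⟨E, f, i, hE, -, hi, hiso⟩ := Groth.L29.DC.Gen.exists_system (Ω := (⊥ : X.Opens))
      (by rw [TopologicalSpace.Opens.coe_bot]; exact fun S _ _ => by simp) hK
      (fun j x hx => absurd hx (by simp))
    exact ⟨E, f, i, hE, Groth.L29.DC.Gen.isHocolim_of_approx hi hiso,
      fun n => (Groth.L29.DC.Gen.isIso_truncGE_map_iff _ _).2 (hiso n)⟩
  · rintro ⟨E, f, i, hE, -, h⟩ m
    exact Groth.L29.DC.Gen.pc_of_hocolim i hE (fun n => (Groth.L29.DC.Gen.isIso_truncGE_map_iff _ _).1 (h n)) m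

end Groth.Agent.S1013
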