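import Groth.Statements.S10131
import Groth.Agent.L23.GpdField

set_option autoImplicit false
set_option backward.isDefEq.respectTransparency.types false
set_option linter.style.haveILetI false
universe u
open CategoryTheory CategoryTheory.Limits AlgebraicGeometry
open AlgSp AlgSp.GroupoidSp

namespace Groth.Agent.S10131

/-- Let `(U, R, s, t, c)` be a groupoid in algebraic spaces over `B` with `s, t` open and quasi-compact.
Then `U` has an open covering by `R`-invariant quasi-compact open subspaces. -/
theorem result (S : Scheme.{u}) (B : AlgSp.Sp S) (hB : AlgSp.IsAlgSpace B)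
    (G : AlgSp.GroupoidSp B) (hU : AlgSp.IsAlgSpace G.U) (hR : AlgSp.IsAlgSpace G.R)
    (hs : AlgSp.IsOpenMor G.s ∧ AlgSp.IsQuasiCompactMor G.s) (ht : AlgSp.IsOpenMor G.t ∧ AlgSp.IsQuasiCompactMor G.t)
    (x : AlgSp.Points G.U) :
    ∃ (W : AlgSp.Sp S) (w : W ⟶ G.U), AlgSp.RepWith @IsOpenImmersion w ∧ G.IsInvariant w ∧
      AlgSp.IsQuasiCompactSp W ∧ x ∈ Set.range (AlgSp.Points.map w) := by
  exact Groth.L23.Gpd.exists_invariant_qc_cover G hU hR hs.1 ht.2 x

end Groth.Agent.S10131
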