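import Groth.Statements.S10135
import Groth.Agent.L23.GpdDim

set_option autoImplicit false
set_option backward.isDefEq.respectTransparency.types false
set_option linter.style.haveILetI false
universe u
open CategoryTheory CategoryTheory.Limits AlgebraicGeometry
open AlgSp AlgSp.GroupoidSp

namespace Groth.Agent.S10135

/-- For a groupoid in algebraic spaces `(U, R, s, t, c)` over `B` with `U = Spec k` and `s, t` locally
of finite type, `dim_r(R) = dim(R)` for every point `r` of `R`. -/
theorem result (S : Scheme.{u}) (B : AlgSp.Sp S) (hB : AlgSp.IsAlgSpace B)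
    (G : AlgSp.GroupoidSp B) (hR : AlgSp.IsAlgSpace G.R) (k : Type u) [Field k]
    (σ : Spec (CommRingCat.of k) ⟶ S) (eU : G.U ≅ (AlgSp.yon S).obj (Over.mk σ))
    (hs : AlgSp.LocP @LocallyOfFiniteType G.s) (ht : AlgSp.LocP @LocallyOfFiniteType G.t) (r : AlgSp.Points G.R) :
    AlgSp.HasAt (fun V v => FlatMor.localDim ↥V v = AlgSp.dim G.R) G.R r := by
  exact Groth.L23.Gpd.localDim_eq_dim G hR σ eU hs r

end Groth.Agent.S10135
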