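import Groth.Statements.S1014
import Groth.Agent.L29.DCoh.Gen.Main

set_option autoImplicit false
set_option backward.isDefEq.respectTransparency false
universe u
open CategoryTheory CategoryTheory.Limits AlgebraicGeometry
attribute [local instance] HasDerivedCategory.standard
open Perf

namespace Groth.Agent.S1014

/-- Let X be an affine scheme, U a quasi-compact open subscheme and F a perfect object of D(O_U). Then F
⊕ F[1] extends to X as a perfect complex: there is a complex G of O_X-modules, perfect as an object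
of D(O_X), whose termwise restriction to U is isomorphic in D(O_U) to F ⊕ F[1]. -/
theorem result (X : Scheme.{u}) [IsAffine X] (U : X.Opens) (hU : IsCompact (U : Set X))
    (F : DCoh.D (U : Scheme.{u})) (hF : DCoh.IsPerfect F) [HasBinaryBiproduct F (F⟦(1 : ℤ)⟧)] :
    ∃ G : CochainComplex X.Modules ℤ, DCoh.IsPerfect (DCoh.toD X G) ∧
      Nonempty (DerivedCategory.Q.obj ((DCoh.restrictCx U).obj G) ≅ F ⊞ F⟦(1 : ℤ)⟧) := by
  let R : CommRingCat.{u} := Γ(X, ⊤)
  haveI := Groth.L18.TildeF.tilde_preservesFiniteLimits (R := R)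
  haveI : CompactSpace (U : Scheme.{u}) := isCompact_iff_compactSpace.1 hU
  let s : X ⟶ Spec R := X.isoSpec.hom
  let k : (U : Scheme.{u}) ⟶ Spec R := U.ι ≫ s
  obtain ⟨C, hC, ⟨eC⟩⟩ := Groth.L29.DC.Gen.exists_extend k hF
  let b := (DCoh.restrictD s).obj ((DCoh.tildeD R).obj C)
  have hb : DCoh.IsPerfect b :=
    Groth.L29.DC.Gen.isPerfect_restrictD s (Groth.L29.DC.TildeAlg.perfect_tilde hC)
  let e := DerivedCategory.Q.objObjPreimageIso b
  refine ⟨DerivedCategory.Q.objPreimage b, Groth.L29.DC.isPerfect_of_iso e.symm hb, ⟨?_⟩⟩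
  exact ((Scheme.Modules.restrictFunctor U.ι).mapDerivedCategoryFactors.app _).symm ≪≫
    (DCoh.restrictD U.ι).mapIso e ≪≫ (Groth.L29.DC.resTransD s U.ι k rfl).app _ ≪≫ eC

end Groth.Agent.S1014
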