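import Groth.Statements.S10141
import Groth.Agent.L23.QuotOpen

set_option autoImplicit false
universe u
open CategoryTheory CategoryTheory.Limits AlgebraicGeometry
open AlgSp

namespace Groth.Agent.S10141

/-- Let `(U, R, s, t, c)` be a groupoid scheme over `S` and `g : U' ⟶ U` a morphism such that the
composite `h : U' ×_{g, U, t} R ⟶ R ⟶ U` of the projection with `s` has open image `W ⊂ U` and `h :
U' ×_{g, U, t} R ⟶ W` is a surjection of fppf sheaves. Then for the restriction `R' = R|_{U'}` the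
map of fppf quotient sheaves `U'/R' ⟶ U/R` is representable and an open immersion. -/
theorem result (S : Scheme.{u}) (G : Grpd.GroupoidScheme S)
    (U' : Scheme.{u}) (g : U' ⟶ G.U) (W : G.U.Opens)
    (hW : (W : Set ↥G.U) = Set.range ⇑(pullback.snd g G.t ≫ G.s))
    (hlift : pullback g G.t ⟶ ↑W) (hh : hlift ≫ W.ι = pullback.snd g G.t ≫ G.s)
    (hsurj : Sheaf.IsLocallySurjective ((AlgSp.yon S).map
      (Over.homMk hlift ((Category.assoc _ _ _).symm.trans (congrArg (· ≫ G.pU) hh)) :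
        Over.mk ((pullback.snd g G.t ≫ G.s) ≫ G.pU) ⟶ Over.mk (W.ι ≫ G.pU))))
    (R' : Over S) (s' t' : R' ⟶ Over.mk (g ≫ G.pU)) (r : R' ⟶ Over.mk G.pR)
    (hsq : IsPullback (prod.lift t' s') r
      (prod.map (Over.homMk g rfl : Over.mk (g ≫ G.pU) ⟶ Over.mk G.pU) (Over.homMk g rfl : Over.mk (g ≫ G.pU) ⟶ Over.mk G.pU))
      (prod.lift (Over.homMk G.t G.t_over : Over.mk G.pR ⟶ Over.mk G.pU) (Over.homMk G.s G.s_over : Over.mk G.pR ⟶ Over.mk G.pU)))
    (ψ : QuotSh.quot Scheme.fppfPrecoverage s' t' ⟶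
      QuotSh.quot Scheme.fppfPrecoverage (Over.homMk G.s G.s_over : Over.mk G.pR ⟶ Over.mk G.pU) (Over.homMk G.t G.t_over : Over.mk G.pR ⟶ Over.mk G.pU))
    (hψ : QuotSh.quotπ Scheme.fppfPrecoverage s' t' ≫ ψ =
      QuotSh.repMap Scheme.fppfPrecoverage (Over.homMk g rfl : Over.mk (g ≫ G.pU) ⟶ Over.mk G.pU) ≫ QuotSh.quotπ Scheme.fppfPrecoverage _ _) :
    AlgSp.RepWith @IsOpenImmersion ψ := by
  refine Groth.L23.QO.repWith_of_quotIso _ ψ hψ fun φ hφ => ?_
  let sO : Over.mk G.pR ⟶ Over.mk G.pU := Over.homMk G.s G.s_over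
  let tO : Over.mk G.pR ⟶ Over.mk G.pU := Over.homMk G.t G.t_over
  let gO : Over.mk (g ≫ G.pU) ⟶ Over.mk G.pU := Over.homMk g rfl
  let P : Over S := Over.mk ((pullback.snd g G.t ≫ G.s) ≫ G.pU)
  let a : P ⟶ Over.mk (g ≫ G.pU) := Over.homMk (pullback.fst g G.t) (by
    show pullback.fst g G.t ≫ g ≫ G.pU = (pullback.snd g G.t ≫ G.s) ≫ G.pU
    rw [pullback.condition_assoc, Category.assoc, G.t_over, G.s_over])
  let ρ : P ⟶ Over.mk G.pR := Over.homMk (pullback.snd g G.t) (by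
    show pullback.snd g G.t ≫ G.pR = (pullback.snd g G.t ≫ G.s) ≫ G.pU
    rw [Category.assoc, G.s_over])
  have hW' : (W : Set ↥G.U) = G.s '' (G.t ⁻¹' Set.range g) := by
    rw [hW]
    ext u
    constructor
    · rintro ⟨x, rfl⟩
      refine ⟨pullback.snd g G.t x, ⟨pullback.fst g G.t x, ?_⟩, (Scheme.Hom.comp_apply _ _ _).symm⟩
      rw [← Scheme.Hom.comp_apply, pullback.condition, Scheme.Hom.comp_apply]
    · rintro ⟨r₀, ⟨u', hu'⟩, rfl⟩
      obtain ⟨x, -, hx⟩ := Scheme.Pullback.exists_preimage_pullback (f := g) (g := G.t) u' r₀ hu'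
      exact ⟨x, (Scheme.Hom.comp_apply _ _ _).trans (congrArg _ hx)⟩
  exact Groth.L23.QO.repWith_isOpenImmersion_restrict sO tO gO
    (Groth.L23.QO.isPreEqvRelSp_groupoidScheme G) (Groth.L23.QO.hlift_of_isPullback hsq) W hW' a ρ
    (Over.OverMorphism.ext pullback.condition.symm)
    (Over.homMk hlift ((Category.assoc _ _ _).symm.trans (congrArg (· ≫ G.pU) hh))) (Over.OverMorphism.ext hh)
    hsurj φ hφ

end Groth.Agent.S10141
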