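import Groth.Statements.S10143
import Groth.Agent.L23.GrpUnit

set_option autoImplicit false
set_option backward.isDefEq.respectTransparency.types false
set_option linter.style.haveILetI false
universe u
open CategoryTheory CategoryTheory.Limits AlgebraicGeometry MonoidalCategory MonObj
open AlgSp

namespace Groth.Agent.S10143

/-- Let `G` be a group algebraic space over an algebraic space `B` with `G ⟶ B` locally of finite type.
Then there is a largest open subspace `W ⊂ B` such that `G_W ⟶ W` is unramified, and its formation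
commutes with base change along any morphism of algebraic spaces `B' ⟶ B`. -/
theorem result (S : Scheme.{u}) (B : AlgSp.Sp S) (hB : AlgSp.IsAlgSpace B)
    (G : Over B) [GrpObj G] (hG : AlgSp.IsAlgSpace G.left) (hlft : AlgSp.LocP @LocallyOfFiniteType G.hom) :
    ∃ (W : AlgSp.Sp S) (w : W ⟶ B), AlgSp.RepWith @IsOpenImmersion w ∧
      (∀ (W' : AlgSp.Sp S) (w' : W' ⟶ B), AlgSp.RepWith @IsOpenImmersion w' →
        (AlgSp.LocP (@LocallyOfFiniteType ⊓ @FormallyUnramified) (pullback.snd G.hom w') ↔ ∃ k : W' ⟶ W, k ≫ w = w')) ∧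
      (∀ (B' : AlgSp.Sp S), AlgSp.IsAlgSpace B' → ∀ (f : B' ⟶ B) (W'' : AlgSp.Sp S) (w'' : W'' ⟶ B'),
        AlgSp.RepWith @IsOpenImmersion w'' →
        (AlgSp.LocP (@LocallyOfFiniteType ⊓ @FormallyUnramified) (pullback.snd (pullback.snd G.hom f) w'') ↔
          ∃ k : W'' ⟶ pullback w f, k ≫ pullback.snd w f = w'')) := by
  exact Groth.L23.GrpUnit.exists_largest Groth.L23.GrpUnit.ptLocal_unr hB hG hlft

end Groth.Agent.S10143
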