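import Groth.Statements.S10156
import Groth.Agent.L05.LinTop.Taut

set_option autoImplicit false
universe u v w
open LinTop

namespace Groth.Agent.S10156

/-- Given pre-adic rings A, B, C and continuous ring maps ψ : B → C and φ : A → B, adicness of the
composite A → C implies that ψ is adic. -/
theorem result
    (A : Type u) [CommRing A] [TopologicalSpace A] [IsTopologicalRing A] (hA : LinTop.IsPreadic A)
    (B : Type v) [CommRing B] [TopologicalSpace B] [IsTopologicalRing B] (hB : LinTop.IsPreadic B)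
    (C : Type w) [CommRing C] [TopologicalSpace C] [IsTopologicalRing C] (hC : LinTop.IsPreadic C)
    (φ : A →+* B) (ψ : B →+* C) (hφ : Continuous φ) (hψ : Continuous ψ)
    (h : LinTop.IsAdicHom (ψ.comp φ)) : LinTop.IsAdicHom ψ := by
  obtain ⟨J, hJ⟩ := hB
  obtain ⟨I, hI, hIC⟩ := h
  have hClin := Groth.L05.LinTop.isLinearTopology_of_isAdic hIC
  refine ⟨J, Groth.L05.LinTop.isIdealOfDefinition_of_isAdic hJ, isAdic_iff.mpr ⟨fun n => ?_, fun s hs => ?_⟩⟩
  · have hJo : IsOpen (J : Set B) := (Groth.L05.LinTop.isIdealOfDefinition_of_isAdic hJ).1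
    obtain ⟨m, -, hm⟩ := hI.2 _ ((hJo.preimage hφ).mem_nhds (show φ 0 ∈ J by simp))
    refine Groth.L05.LinTop.isOpen_of_le ((isAdic_iff.mp hIC).1 (m * n)) ?_
    rw [pow_mul, ← Ideal.map_pow, ← Ideal.map_map]
    exact Ideal.pow_right_mono (Ideal.map_mono (Groth.L05.LinTop.map_le_of_subset hm)) n
  · obtain ⟨W, hW, hWs⟩ := Groth.L05.LinTop.exists_open_ideal hs
    obtain ⟨k, hk⟩ := (isAdic_iff.mp hJ).2 _ ((hW.preimage hψ).mem_nhds (show ψ 0 ∈ W by simp))
    refine ⟨k, subset_trans ?_ hWs⟩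
    rw [← Ideal.map_pow]
    exact Groth.L05.LinTop.map_le_of_subset hk

end Groth.Agent.S10156
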