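import Groth.Statements.S10159
import Groth.Agent.L05.LinTop.Synonym

set_option autoImplicit false
universe u
open LinTop

namespace Groth.Agent.S10159

/-- For a ring A carrying a linear topology, the following four conditions are equivalent: (1) A is
weakly pre-adic; (2) there exist a pre-adic topological ring A' and a taut continuous ring
homomorphism A' → A (A' is taken in the universe of A, which suffices since A with an adic topology
serves); (3) A has an ideal of definition, and for at least one ideal of definition I every closure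
cl(I^n) with n ≥ 1 is open; (4) A has an ideal of definition, and for each of its ideals of
definition I every closure cl(I^n) with n ≥ 1 is open. -/
theorem result
    (A : Type u) [CommRing A] [TopologicalSpace A] [IsTopologicalRing A] [IsLinearTopology A A] :
    List.TFAE [LinTop.IsWeaklyPreadic A,
      ∃ (A' : Type u) (_ : CommRing A') (_ : TopologicalSpace A') (_ : IsTopologicalRing A')
        (φ : A' →+* A), LinTop.IsPreadic A' ∧ LinTop.IsTaut φ,
      LinTop.IsPreadmissible A ∧ ∃ I : Ideal A, LinTop.IsIdealOfDefinition A I ∧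
        ∀ n : ℕ, 0 < n → IsOpen (closure ((I ^ n : Ideal A) : Set A)),
      LinTop.IsPreadmissible A ∧ ∀ I : Ideal A, LinTop.IsIdealOfDefinition A I →
        ∀ n : ℕ, 0 < n → IsOpen (closure ((I ^ n : Ideal A) : Set A))] := by
  tfae_have 1 → 2 := by
    intro hA
    exact Groth.L05.LinTop.exists_preadic_taut hA
  tfae_have 2 → 3 := by
    rintro ⟨A', _, _, _, φ, ⟨I, hI⟩, hφ⟩
    have hI' := Groth.L05.LinTop.isIdealOfDefinition_of_isAdic hI
    have hJ := Groth.L05.LinTop.isIdealOfDefinition_closure_map hφ hI'
    refine ⟨⟨inferInstance, _, hJ⟩, _, hJ, fun n _ => ?_⟩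
    have h1 := hφ.2.1 (I ^ n) ((isAdic_iff.mp hI).1 n)
    rw [← Ideal.coe_closure] at h1
    refine Groth.L05.LinTop.isOpen_closure_of_le h1 (Groth.L05.LinTop.closure_mono ?_)
    rw [Ideal.map_pow]
    exact Ideal.pow_right_mono (Groth.L05.LinTop.le_closure _) n
  tfae_have 3 → 4 := by
    rintro ⟨hp, I, hI, hopen⟩
    refine ⟨hp, fun I' hI' n _ => ?_⟩
    exact Groth.L05.LinTop.isOpen_closure_pow_of_isWeaklyPreadic
      (Groth.L05.LinTop.isWeaklyPreadic_of hI hopen) hI'.1 n
  tfae_have 4 → 1 := by
    rintro ⟨⟨hlin, I, hI⟩, h⟩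
    exact Groth.L05.LinTop.isWeaklyPreadic_of hI fun n hn => h I hI n hn
  tfae_finish

end Groth.Agent.S10159
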