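import Groth.Statements.S1016
import Groth.Agent.L29.DCoh.Gen.SuppCompact
import Groth.Agent.L29.DCoh.Cpt.Compact

set_option autoImplicit false
set_option backward.isDefEq.respectTransparency false
universe u
open CategoryTheory CategoryTheory.Limits AlgebraicGeometry
attribute [local instance] HasDerivedCategory.standard
open Perf

namespace Groth.Agent.S1016

/-- Let X be a quasi-compact and quasi-separated scheme and T ⊆ X a closed subset whose complement is
quasi-compact and nonempty (the case T = X is stated separately). Let K ∈ D(O_X) have quasi-coherent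
cohomology sheaves supported on T. Then K is compact in D_{QCoh,T}(O_X) (with respect to small
direct sums of objects with quasi-coherent cohomology supported on T) if and only if K is a perfect
object of D(O_X). -/
theorem result (X : Scheme.{u}) [CompactSpace ↥X] [QuasiSeparatedSpace ↥X]
    (T : Set X) (hT : IsClosed T) (hTc : IsCompact Tᶜ) (hTne : Tᶜ.Nonempty)
    (K : DCoh.D X) (hK : DCoh.IsQCohD K) (hKT : ∀ i : ℤ, CohB1.support (DCoh.HD K i) ⊆ T) :
    PerfAux.IsCompactObjRel.{u} (fun L : DCoh.D X => DCoh.IsQCohD L ∧ ∀ i : ℤ, CohB1.support (DCoh.HD L i) ⊆ T) K ↔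
      DCoh.IsPerfect K := by
  let O : X.Opens := Groth.L29.DC.Gen.compl hT
  have hz : ∀ L : DCoh.D X, (∀ i : ℤ, CohB1.support (DCoh.HD L i) ⊆ T) ↔ Groth.L29.DC.Gen.ZOn L O := fun L =>
    (Groth.L29.DC.Gen.supp_iff hT L).trans (Groth.L29.DC.Gen.isZero_res_iff O L)
  refine ⟨fun h => Groth.L29.DC.Cpt.isPerfect_of_compact hK
    (Groth.L29.DC.Gen.isCompact_of_supp O hTc ((hz K).1 hKT) fun ι M _ hM => h ι M fun i => ⟨(hM i).1, (hz _).2 (hM i).2⟩),
    fun h I M _ hM => ?_⟩
  exact Groth.L29.DC.Cpt.bijective_homSum_rel M fun {_} φ => Groth.L29.DC.Cpt.isFin_qcoh h _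
    (fun i => Groth.L29.DC.isQCohD_of_iso (DerivedCategory.Q.objObjPreimageIso (M i)).symm (hM i).1) φ

end Groth.Agent.S1016
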