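import Groth.Statements.S10160
import Groth.Agent.L05.LinTop.Basic

set_option autoImplicit false
universe u
open LinTop

namespace Groth.Agent.S10160

/-- A weakly adic topological ring is admissible and has a countable fundamental system of open ideals. -/
theorem result
    (A : Type u) [CommRing A] [UniformSpace A] [IsUniformAddGroup A] [IsTopologicalRing A] (hA : LinTop.IsWeaklyAdic A) :
    LinTop.IsAdmissible A ∧ (nhds (0 : A)).IsCountablyGenerated := by
  obtain ⟨⟨hlin, I, hopen, hbasis⟩, hT2, hC⟩ := hA
  refine ⟨⟨⟨hlin, I.closure, Groth.L05.LinTop.isIdealOfDefinition_closure_of_isWeaklyPreadic hopen hbasis⟩, hT2, hC⟩, ?_⟩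
  have : (nhds (0 : A)).HasBasis (fun _ : ℕ => True) (fun n => closure ((I ^ n : Ideal A) : Set A)) :=
    Filter.hasBasis_iff.mpr fun U => ⟨fun hU => let ⟨n, hn⟩ := hbasis U hU; ⟨n, trivial, hn⟩,
      fun ⟨n, _, hn⟩ => Filter.mem_of_superset ((hopen n).mem_nhds (subset_closure (zero_mem _))) hn⟩
  exact this.isCountablyGenerated

end Groth.Agent.S10160
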