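import Groth.Statements.S10161
import Groth.Agent.L05.LinTop.Completion

set_option autoImplicit false
universe u
open LinTop

namespace Groth.Agent.S10161

/-- The (separated) completion of a weakly pre-adic linearly topologized ring is weakly adic. -/
theorem result
    (A : Type u) [CommRing A] [UniformSpace A] [IsUniformAddGroup A] [IsTopologicalRing A] [IsLinearTopology A A] (hA : LinTop.IsWeaklyPreadic A) :
    LinTop.IsWeaklyAdic (UniformSpace.Completion A) := by
  obtain ⟨hlin, I, hopen, hbasis⟩ := hA
  haveI := Groth.L05.LinTop.isLinearTopology_completion (A := A)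
  have hφ := Groth.L05.LinTop.isTaut_coeRingHom (A := A)
  refine ⟨⟨inferInstance, I.map UniformSpace.Completion.coeRingHom, fun n => ?_, fun U hU => ?_⟩, inferInstance, inferInstance⟩
  · rw [← Ideal.map_pow]
    exact Groth.L05.LinTop.isOpen_closure_map_of_closure hφ (hopen n)
  · obtain ⟨I', hI', hU'⟩ := hφ.2.2 U hU
    obtain ⟨n, hn⟩ := hbasis I' (hI'.mem_nhds (zero_mem I'))
    refine ⟨n, subset_trans ?_ hU'⟩
    rw [← Ideal.map_pow]
    exact Groth.L05.LinTop.closure_mono (Ideal.map_mono fun x hx => hn (subset_closure hx))

end Groth.Agent.S10161
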