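import Groth.Statements.S10165
import Groth.Agent.L05.LinTop.Taut

set_option autoImplicit false
universe u v
open LinTop

namespace Groth.Agent.S10165

/-- Let φ : A → B be a taut homomorphism of linearly topologized rings. If A is weakly pre-adic, then B
is weakly pre-adic. -/
theorem result
    (A : Type u) [CommRing A] [TopologicalSpace A] [IsTopologicalRing A] [IsLinearTopology A A]
    (B : Type v) [CommRing B] [TopologicalSpace B] [IsTopologicalRing B] [IsLinearTopology B B]
    (φ : A →+* B) (hφ : LinTop.IsTaut φ) (hA : LinTop.IsWeaklyPreadic A) :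
    LinTop.IsWeaklyPreadic B := by
  obtain ⟨hlin, I, hopen, hbasis⟩ := hA
  refine ⟨inferInstance, I.map φ, fun n => ?_, fun U hU => ?_⟩
  · rw [← Ideal.map_pow]
    exact Groth.L05.LinTop.isOpen_closure_map_of_closure hφ (hopen n)
  · obtain ⟨I', hI', hU'⟩ := hφ.2.2 U hU
    obtain ⟨n, hn⟩ := hbasis I' (hI'.mem_nhds (zero_mem I'))
    refine ⟨n, subset_trans ?_ hU'⟩
    rw [← Ideal.map_pow]
    exact Groth.L05.LinTop.closure_mono (Ideal.map_mono fun x hx => hn (subset_closure hx))

end Groth.Agent.S10165
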