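import Groth.Statements.S10166
import Groth.Agent.L05.LinTop.Taut

set_option autoImplicit false
universe u v
open LinTop

namespace Groth.Agent.S10166

/-- Let φ : A → B be a taut homomorphism of linearly topologized rings such that for every open ideal I
of A, with J the closure of φ(I)B, the induced map A/I → B/J is faithfully flat. If B has a
countable fundamental system of open ideals, then so does A. -/
theorem result
    (A : Type u) [CommRing A] [TopologicalSpace A] [IsTopologicalRing A] [IsLinearTopology A A]
    (B : Type v) [CommRing B] [TopologicalSpace B] [IsTopologicalRing B] [IsLinearTopology B B]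
    (φ : A →+* B) (hφ : LinTop.IsTautFFlat φ) (hB : (nhds (0 : B)).IsCountablyGenerated) :
    (nhds (0 : A)).IsCountablyGenerated := by
  haveI := hB
  obtain ⟨V, hV⟩ := (nhds (0 : B)).exists_antitone_basis
  choose J hJ hJV using fun n => Groth.L05.LinTop.exists_open_ideal (hV.mem n)
  have : (nhds (0 : A)).HasBasis (fun _ : ℕ => True) (fun n => ((J n).comap φ : Set A)) :=
    Filter.hasBasis_iff.mpr fun U => ⟨fun hU => by
      obtain ⟨I', hI', hU'⟩ := Groth.L05.LinTop.exists_open_ideal hU
      obtain ⟨n, -, hn⟩ := hV.1.mem_iff.mp ((hφ.1.2.1 I' hI').mem_nhds (subset_closure (zero_mem _)))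
      refine ⟨n, trivial, fun x hx => hU' ?_⟩
      rw [← Groth.L05.LinTop.comap_closure_map_eq hφ hI']
      exact hn (hJV n hx),
      fun ⟨n, _, hn⟩ => Filter.mem_of_superset
        (((hJ n).preimage hφ.1.1).mem_nhds (show φ 0 ∈ J n by simp)) hn⟩
  exact this.isCountablyGenerated

end Groth.Agent.S10166
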