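import Groth.Statements.S10172
import Groth.Agent.L05.LinTop.QuotientCompletion

set_option autoImplicit false
universe u v
open LinTop

namespace Groth.Agent.S10172

/-- Let M be a linearly topologized module over a ring R having a countable fundamental system of
neighbourhoods of 0, and N a submodule. With M^ and (M/N)^ the separated completions of M and of M/N
(quotient topology, additive uniform structure), the induced map M^ → (M/N)^ is surjective and open
(so, its kernel being the completion of N, the sequence 0 → N^ → M^ → (M/N)^ → 0 is exact). -/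
theorem result
    {R : Type u} [Ring R] {M : Type v} [AddCommGroup M] [Module R M] [UniformSpace M]
    [IsUniformAddGroup M] [IsLinearTopology R M] (hc : (nhds (0 : M)).IsCountablyGenerated)
    (N : Submodule R M) :
    Function.Surjective (@UniformSpace.Completion.map M _ (M ⧸ N.toAddSubgroup)
        (IsTopologicalAddGroup.rightUniformSpace (M ⧸ N.toAddSubgroup))
        (QuotientAddGroup.mk' N.toAddSubgroup)) ∧
      IsOpenMap (@UniformSpace.Completion.map M _ (M ⧸ N.toAddSubgroup)
        (IsTopologicalAddGroup.rightUniformSpace (M ⧸ N.toAddSubgroup))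
        (QuotientAddGroup.mk' N.toAddSubgroup)) := by
  letI : UniformSpace (M ⧸ N.toAddSubgroup) :=
    IsTopologicalAddGroup.rightUniformSpace (M ⧸ N.toAddSubgroup)
  haveI : IsUniformAddGroup (M ⧸ N.toAddSubgroup) := isUniformAddGroup_of_addCommGroup
  haveI : NonarchimedeanAddGroup M := ⟨fun U hU => by
    obtain ⟨B, hB, hBU⟩ := (IsLinearTopology.hasBasis_open_submodule R).mem_iff.mp hU
    exact ⟨⟨B.toAddSubgroup, hB⟩, hBU⟩⟩
  exact Groth.L05.LinTop.surjective_isOpenMap_completion hc (QuotientAddGroup.mk' N.toAddSubgroup)
    continuous_quotient_mk' QuotientAddGroup.isOpenMap_coe (QuotientAddGroup.mk'_surjective _)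

end Groth.Agent.S10172
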