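import Groth.Statements.S10179
import Groth.Agent.L23.Points

set_option autoImplicit false
set_option backward.isDefEq.respectTransparency.types false
universe u
open CategoryTheory CategoryTheory.Limits AlgebraicGeometry Topology TopologicalSpace
open AlgSp AlgSp.Points

namespace Groth.Agent.S10179

/-- For an algebraic space X over a scheme S, every point x of |X| has a fundamental system of
quasi-compact open neighbourhoods: every open subset of |X| containing x contains a quasi-compact
open subset containing x. In particular |X| is locally quasi-compact. -/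
theorem result {S : Scheme.{u}} (X : AlgSp.Space S) (x : AlgSp.Points X.obj)
    (W : Set (AlgSp.Points X.obj)) (hW : IsOpen W) (hx : x ∈ W) :
    ∃ V : Set (AlgSp.Points X.obj), IsOpen V ∧ IsCompact V ∧ x ∈ V ∧ V ⊆ W := by
  obtain ⟨U, p, he, hs⟩ := X.property.atlas
  obtain ⟨u, rfl⟩ := Groth.L23.surjective_ofPt hs x
  have ho : IsOpen (AlgSp.Points.ofPt p ⁻¹' W) := hW.preimage (AlgSp.Points.continuous_ofPt p)
  obtain ⟨B, hB, hu, hBW⟩ :=
    U.left.isBasis_affineOpens.exists_subset_of_mem_open hx ho
  obtain ⟨B', hB', rfl⟩ := hB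
  exact ⟨AlgSp.Points.ofPt p '' B', Groth.L23.isOpenMap_ofPt he _ B'.isOpen,
    (IsAffineOpen.isCompact hB').image (AlgSp.Points.continuous_ofPt p), ⟨u, hu, rfl⟩,
    Set.image_subset_iff.2 hBW⟩

end Groth.Agent.S10179
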