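import Groth.Statements.S10187
import Groth.Agent.L09.AffinePB.Basic

set_option autoImplicit false
universe u
open CategoryTheory CategoryTheory.Limits AlgebraicGeometry Topology TopologicalSpace
open AlgSp

set_option backward.isDefEq.respectTransparency false
set_option backward.isDefEq.respectTransparency.types false

namespace Groth.Agent.S10187

/-- Let S be a separated scheme and X an algebraic space over S whose diagonal over S is a closed
immersion. Then for all affine schemes U, V over S mapping to X and every scheme P over S
representing h_U ×_X h_V, the scheme P is affine and the ring map from the tensor product over the
integers of the global sections of U and V to the global sections of P, induced by the projections,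
is surjective. (The published statement uses absolute separatedness of X; over a separated base this
agrees with separatedness over S, and without a hypothesis on S the relative notion does not
suffice: take X = h_S for an affine line with doubled origin S and U, V the two copies of the line.) -/
theorem result {S : Scheme.{u}} [S.IsSeparated]
    (X : AlgSp.Space S) (hX : AlgSp.IsSeparatedSp X.obj) (U V P : Over S) (a : (AlgSp.yon S).obj U ⟶ X.obj) (b : (AlgSp.yon S).obj V ⟶ X.obj)
      (fst : P ⟶ U) (snd : P ⟶ V)
    (hU : IsAffine U.left) (hV : IsAffine V.left)
    (h : IsPullback ((AlgSp.yon S).map fst) ((AlgSp.yon S).map snd) a b) :
    IsAffine P.left ∧ Function.Surjective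
          (Algebra.TensorProduct.productMap fst.left.appTop.hom.toIntAlgHom snd.left.appTop.hom.toIntAlgHom) := by
  haveI := hU
  haveI := hV
  exact Groth.L09.AffinePB.surjective_of_isSeparatedSp hX a b fst snd h

end Groth.Agent.S10187
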