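import Groth.Statements.S10188
import Groth.Agent.L23.LocP

set_option autoImplicit false
set_option backward.isDefEq.respectTransparency.types false
universe u
open CategoryTheory CategoryTheory.Limits AlgebraicGeometry Topology TopologicalSpace
open AlgSp

namespace Groth.Agent.S10188
open Groth.L23

/-- Let P be a property of schemes that is local in the etale topology (for every scheme V and every
etale covering family of V, V has P if and only if all members have P), and let X be an algebraic
space over a scheme S. Then X has P etale locally (some surjective etale chart from a scheme with P)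
if and only if every scheme admitting a representable etale map to X has P. -/
theorem result {S : Scheme.{u}} (P : Scheme.{u} → Prop)
    (hP : ∀ (V : Scheme.{u}) (𝒰 : Scheme.Cover.{u} (Scheme.precoverage @Etale) V), P V ↔ ∀ i, P (𝒰.X i))
    (X : AlgSp.Space S) :
    AlgSp.EtaleLocally P X.obj ↔
      ∀ (U : Over S) (a : (AlgSp.yon S).obj U ⟶ X.obj), AlgSp.RepWith @Etale a → P U.left := by
  refine ⟨fun ⟨V, p, hp, hps, hV⟩ U a ha => ?_, fun h => ?_⟩
  · obtain ⟨W, q, r, sq⟩ := exists_isPullback_of_representable hp.1 a
    have hr : Etale r.left := repWith_prop hp sq
    have hrs : Surjective r.left := repWith_prop hps sq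
    have hq : Etale q.left := repWith_prop ha sq.flip
    refine (hP _ (r.left.cover hr)).2 fun i => ?_
    exact (hP _ (Scheme.Cover.add (Scheme.coverOfIsIso.{u, u} (P := @Etale) (𝟙 V.left)) q.left hq)).1 hV none
  · obtain ⟨U, a, ha, has⟩ := X.property.atlas
    exact ⟨U, a, ha, has, h U a ha⟩

end Groth.Agent.S10188
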