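import Groth.Statements.S4586
import Groth.Agent.L06.ProCons

set_option autoImplicit false
set_option linter.style.haveILetI false
universe u
open AlgebraicGeometry CategoryTheory Topology
open EGA41

namespace Groth.Agent.S4586

/-- Let f : X → Y be surjective and either quasi-compact or locally of finite presentation, E ⊆ Y. Then
E is locally constructible (resp. pro-constructible, resp. ind-constructible) if and only if f⁻¹(E)
is. -/
theorem result {X Y : Scheme.{u}} (f : X ⟶ Y) [Surjective f]
    (hf : QuasiCompact f ∨ LocallyOfFinitePresentation f) (E : Set Y) :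
    (IsLocallyConstructible E ↔ IsLocallyConstructible (f.base ⁻¹' E)) ∧
    (ProCons.IsProConstructible E ↔ ProCons.IsProConstructible (f.base ⁻¹' E)) ∧
    (ProCons.IsIndConstructible E ↔ ProCons.IsIndConstructible (f.base ⁻¹' E)) := by
  open Groth.L06.ProCons Groth.L19.Limit in
  have hb : CC E ↔ CC (f.base ⁻¹' E) := by
    refine ⟨fun h => h.preimage f, fun h => ?_⟩
    rcases hf with hq | hl
    · haveI := hq
      have := cc_image f h
      rwa [Set.image_preimage_eq E f.surjective] at this
    · haveI := hl
      have h' : CC ((f.base ⁻¹' Eᶜ)ᶜ) := by rwa [Set.preimage_compl, compl_compl]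
      have := cc_compl_image f h'
      rwa [Set.image_preimage_eq Eᶜ f.surjective, compl_compl] at this
  open Groth.L06.ProCons Groth.L19.Limit in
  have hc : CC Eᶜ ↔ CC (f.base ⁻¹' E)ᶜ := by
    refine ⟨fun h => by rw [← Set.preimage_compl]; exact h.preimage f, fun h => ?_⟩
    rcases hf with hq | hl
    · haveI := hq
      rw [← Set.preimage_compl] at h
      have := cc_image f h
      rwa [Set.image_preimage_eq Eᶜ f.surjective] at this
    · haveI := hl
      have := cc_compl_image f h
      rwa [Set.image_preimage_eq E f.surjective] at this
  refine ⟨?_, ?_, ?_⟩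
  · rw [Groth.L06.ProCons.isLocallyConstructible_iff_cc, Groth.L06.ProCons.isLocallyConstructible_iff_cc]
    exact and_congr hb hc
  · rw [Groth.L06.ProCons.isProConstructible_iff_cc, Groth.L06.ProCons.isProConstructible_iff_cc]
    exact hb
  · rw [Groth.L06.ProCons.isIndConstructible_iff_cc_compl, Groth.L06.ProCons.isIndConstructible_iff_cc_compl]
    exact hc

end Groth.Agent.S4586
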