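import Groth.Statements.S10189
import Groth.Agent.L23.LocP
import Groth.Agent.S4586

set_option autoImplicit false
set_option backward.isDefEq.respectTransparency.types false
universe u
open CategoryTheory CategoryTheory.Limits AlgebraicGeometry Topology TopologicalSpace
open AlgSp

namespace Groth.Agent.S10189
open Groth.L23

/-- Let X be an algebraic space over a scheme S and E a subset of |X|. If the inverse image of E under
some representable etale surjective map h_U ⟶ X from a scheme U is a locally constructible subset of
U, then its inverse image under every representable etale map h_V ⟶ X from a scheme V is locally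
constructible in V. -/
theorem result {S : Scheme.{u}} (X : AlgSp.Space S)
    (E : Set (AlgSp.Points X.obj)) {U : Over S} (p : (AlgSp.yon S).obj U ⟶ X.obj)
    (hp : AlgSp.RepWith @Etale p) (hs : AlgSp.RepWith @Surjective p)
    (hE : IsLocallyConstructible (AlgSp.Points.ofPt p ⁻¹' E))
    {V : Over S} (a : (AlgSp.yon S).obj V ⟶ X.obj) (ha : AlgSp.RepWith @Etale a) :
    IsLocallyConstructible (AlgSp.Points.ofPt a ⁻¹' E) := by
  obtain ⟨W, q, r, sq⟩ := exists_isPullback_of_representable hp.1 a
  have hr : Etale r.left := repWith_prop hp sq
  have hrs : Surjective r.left := repWith_prop hs sq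
  refine (Groth.Agent.S4586.result r.left (.inr inferInstance) _).1.2 ?_
  have e : r.left.base ⁻¹' (Points.ofPt a ⁻¹' E) = q.left.base ⁻¹' (Points.ofPt p ⁻¹' E) := by
    ext w
    simp only [Set.mem_preimage]
    show Points.ofPt a (r.left w) ∈ E ↔ Points.ofPt p (q.left w) ∈ E
    rw [← ofPt_comp r a w, ← ofPt_comp q p w, sq.w]
  rw [e]
  rw [Groth.L06.ProCons.isLocallyConstructible_iff_cc] at hE ⊢
  exact ⟨hE.1.preimage q.left, by rw [← Set.preimage_compl]; exact hE.2.preimage q.left⟩

end Groth.Agent.S10189
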