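import Groth.Statements.S10197
import Groth.Agent.L23.OpenCharts
import Groth.Agent.L23.SchemeRep

set_option autoImplicit false
set_option backward.isDefEq.respectTransparency.types false
universe u
open CategoryTheory CategoryTheory.Limits AlgebraicGeometry Topology TopologicalSpace
open AlgSp

namespace Groth.Agent.S10197

/-- An algebraic space X over a scheme S has a largest open subspace which is a scheme: there is an open
subspace X' ⟶ X whose underlying sheaf is representable by a scheme over S, through which every open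
subspace of X with representable underlying sheaf factors. -/
theorem result {S : Scheme.{u}} (X : AlgSp.Space S) :
    ∃ (X' : AlgSp.Space S) (j : X' ⟶ X), AlgSp.RepWith @IsOpenImmersion j.hom ∧ X'.obj.obj.IsRepresentable ∧
      ∀ (X'' : AlgSp.Space S) (j'' : X'' ⟶ X), AlgSp.RepWith @IsOpenImmersion j''.hom →
        X''.obj.obj.IsRepresentable → ∃ k : X'' ⟶ X', k ≫ j = j'' := by
  let W : TopologicalSpace.Opens (AlgSp.Points X.obj) :=
    ⟨{x | ∃ (A : Over S) (a : (AlgSp.yon S).obj A ⟶ X.obj),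
        AlgSp.RepWith @IsOpenImmersion a ∧ x ∈ Set.range (AlgSp.Points.ofPt a)}, by
      rw [isOpen_iff_forall_mem_open]
      rintro x ⟨A, a, ha, hx⟩
      exact ⟨_, fun y hy => ⟨A, a, ha, hy⟩, (Groth.L23.isOpenMap_ofPt (Groth.L23.repWith_mono
        (fun φ (_ : IsOpenImmersion φ) => inferInstanceAs (Etale φ)) ha)).isOpen_range, hx⟩⟩
  have hW := Groth.L23.repWith_openSubι W
  haveI : Mono (Groth.L23.openSubι W) := Groth.L23.mono_of_repWith_openImmersion hW
  let X' : AlgSp.Space S := ⟨Groth.L23.openSub W, Groth.L23.isAlgSpace_openSub W X.property⟩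
  refine ⟨X', ObjectProperty.homMk (Groth.L23.openSubι W), hW, ?_, fun X'' j'' hj'' hX'' => ?_⟩
  · suffices hch : ∀ x : AlgSp.Points X'.obj, ∃ (A : Over S) (a : (AlgSp.yon S).obj A ⟶ X'.obj) (t : ↥A.left),
        AlgSp.RepWith @IsOpenImmersion a ∧ AlgSp.Points.ofPt a t = x by
      obtain ⟨G, θ, hθ⟩ := Groth.L23.OpenCharts.exists_scheme_of_open_charts X'.property hch
      exact Groth.L23.isRepresentable_iff_exists_iso.2 ⟨G, ⟨asIso θ⟩⟩
    intro x
    have hx : AlgSp.Points.map (Groth.L23.openSubι W) x ∈ W := by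
      rw [← SetLike.mem_coe, ← Groth.L23.range_openSubι W]; exact ⟨x, rfl⟩
    obtain ⟨A, a, ha, t, ht⟩ := hx
    obtain ⟨l, hl⟩ := (Groth.L23.exists_factor_iff hW a).2 (by
      rw [Groth.L23.range_openSubι]
      rintro _ ⟨p, rfl⟩
      obtain ⟨t', rfl⟩ := (AlgSp.Points.schemeEquiv A).surjective p
      exact ⟨A, a, ha, t', AlgSp.Points.ofPt_eq_map_ofScheme a t'⟩)
    refine ⟨A, l, t, Groth.L23.repWith_of_comp_mono (m := Groth.L23.openSubι W) (by rw [hl]; exact ha), ?_⟩
    refine (Groth.L23.isEmbedding_map_of_immersion X.property (Groth.L23.repWith_mono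
      (fun φ (_ : IsOpenImmersion φ) => inferInstanceAs (IsImmersion φ)) hW)).1.injective ?_
    rw [← ht, AlgSp.Points.ofPt_eq_map_ofScheme, ← AlgSp.Points.map_comp, hl,
      ← AlgSp.Points.ofPt_eq_map_ofScheme]
  · obtain ⟨A, ⟨e⟩⟩ := Groth.L23.isRepresentable_iff_exists_iso.1 hX''
    obtain ⟨k, hk⟩ := (Groth.L23.exists_factor_iff hW j''.hom).2 (by
      rw [Groth.L23.range_openSubι]
      rintro _ ⟨p, rfl⟩
      obtain ⟨t', ht'⟩ := (AlgSp.Points.schemeEquiv A).surjective (AlgSp.Points.map e.inv p)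
      refine ⟨A, e.hom ≫ j''.hom, MorphismProperty.RespectsIso.precomp (AlgSp.RepWith @IsOpenImmersion) _ _ hj'', t', ?_⟩
      rw [AlgSp.Points.ofPt_eq_map_ofScheme, show AlgSp.Points.ofScheme A t' = AlgSp.Points.map e.inv p from ht',
        ← AlgSp.Points.map_comp, Iso.inv_hom_id_assoc])
    exact ⟨ObjectProperty.homMk k, ObjectProperty.hom_ext _ hk⟩

end Groth.Agent.S10197
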