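import Groth.Statements.S10198
import Groth.Agent.L23.QsTop2

set_option autoImplicit false
set_option backward.isDefEq.respectTransparency.types false
universe u
open CategoryTheory CategoryTheory.Limits AlgebraicGeometry Topology TopologicalSpace
open AlgSp

namespace Groth.Agent.S10198

/-- (1) if and only if (3): for an algebraic space X over a scheme S, X is Zariski locally
quasi-separated over S (it has a Zariski covering by open subspaces whose diagonals over S are
quasi-compact) if and only if X has a Zariski covering by open subspaces each of which admits a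
quasi-compact, etale, surjective map from an affine scheme. Since the second condition does not
mention S, being Zariski locally quasi-separated does not depend on the base. -/
theorem result {S : Scheme.{u}} (X : AlgSp.Space S) :
    (∃ (ι : Type u) (Xi : ι → AlgSp.Space S) (j : ∀ i, Xi i ⟶ X),
        AlgSp.IsZarCover (fun i => (Xi i).obj) (fun i => (j i).hom) ∧ ∀ i, AlgSp.IsQuasiSeparatedSp (Xi i).obj) ↔
      (∃ (ι : Type u) (Xi : ι → AlgSp.Space S) (j : ∀ i, Xi i ⟶ X),
        AlgSp.IsZarCover (fun i => (Xi i).obj) (fun i => (j i).hom) ∧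
          ∀ i, ∃ (U : Over S) (p : (AlgSp.yon S).obj U ⟶ (Xi i).obj), IsAffine U.left ∧
            AlgSp.RepWith @QuasiCompact p ∧ AlgSp.RepWith @Etale p ∧ AlgSp.RepWith @Surjective p) := by
  constructor
  · rintro ⟨ι, Xi, j, hj, hq⟩
    choose κ W a hW ha hcov hA using fun i => Groth.L23.Qs.exists_affine_charts (Xi i).property
    choose Z m b hZ hm hb hbs hbm hr using fun (c : Σ i, κ i) =>
      Groth.L23.Qs.exists_openSub_chart (Xi c.1).property (ha c.1 c.2)
    refine ⟨Σ i, κ i, fun c => ⟨Z c, hZ c⟩, fun c => ObjectProperty.homMk (m c) ≫ j c.1,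
      ⟨fun c => Groth.L23.repWith_comp (hm c) (hj.1 c.1), fun x => ?_⟩, fun c => ?_⟩
    · obtain ⟨i, y, rfl⟩ := hj.2 x
      obtain ⟨k, w, rfl⟩ := hcov i y
      obtain ⟨z, hz⟩ : AlgSp.Points.ofPt (a i k) w ∈ Set.range (AlgSp.Points.map (m ⟨i, k⟩)) :=
        (hr ⟨i, k⟩).ge ⟨w, rfl⟩
      exact ⟨⟨i, k⟩, z, by
        show AlgSp.Points.map (m ⟨i, k⟩ ≫ (j i).hom) z = _
        rw [AlgSp.Points.map_comp, hz]⟩
    · obtain ⟨A, hA', hw⟩ := hA c.1 c.2
      have := hW c.1 c.2
      have := Groth.L23.mono_of_repWith_openImmersion (hm c)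
      have hd := Groth.L23.Qs.isQuasiSeparatedSp_of_mono (hq c.1) (m c)
      refine ⟨W c.1 c.2, b c, hW c.1 c.2, Groth.L23.repWith_quasiCompact_of_isQuasiCompactMor
        ((hZ c).representable_from_yon _) (Groth.L23.isQuasiCompactMor_of_affine (AlgSp.IsAlgSpace.yon_obj _) (hZ c)
          fun T hT g => ?_), hb c, hbs c⟩
      obtain ⟨P, p₁, p₂, sP⟩ := Groth.L23.exists_isPullback_of_representable ((hZ c).representable_from_yon (b c)) g
      have hTA : ∀ t, T.hom t ∈ A := fun t => by
        obtain ⟨w, hw'⟩ := Groth.L23.surjective_ofPt (hbs c) (AlgSp.Points.ofPt g t)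
        obtain ⟨r, hr₁, hr₂⟩ := (Groth.L23.ofPt_eq_ofPt_iff sP w t).1 hw'
        rw [← hr₂, ← Scheme.Hom.comp_apply, Over.w p₂, ← Over.w p₁, Scheme.Hom.comp_apply, hr₁]
        exact hw w
      have := Groth.L23.Qs.compactSpace_of_over_open hd hA' hw hTA sP
      exact Groth.L23.qcSp_of_compactSpace
        (Groth.L23.isAlgSpace_of_isPullback (hZ c).diag (AlgSp.IsAlgSpace.yon_obj _) (AlgSp.IsAlgSpace.yon_obj T)
          (IsPullback.of_hasPullback (b c) g))
        (Groth.L23.Pt.compact_of_iso sP.isoPullback Groth.L23.Pt.compact_yon)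
  · rintro ⟨ι, Xi, j, hj, h⟩
    refine ⟨ι, Xi, j, hj, fun i => ?_⟩
    obtain ⟨U, p, hU, hpq, hpe, hps⟩ := h i
    obtain ⟨R, t, s, sq⟩ := Groth.L23.exists_isPullback_of_representable ((Xi i).property.representable_from_yon p) p
    have : QuasiCompact t.left := Groth.L23.repWith_prop hpq sq.flip
    exact Groth.L23.Qs.isQuasiSeparatedSp_of_compact (Xi i).property fun A B P a b fst snd hA hB sP =>
      Groth.L23.Qs.compact_of_chart (Xi i).property hpe hps sq A B P a b fst snd sP

end Groth.Agent.S10198
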