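import Groth.Statements.S10208
import Groth.Agent.L23.LocP

set_option autoImplicit false
set_option backward.isDefEq.respectTransparency.types false
universe u
open CategoryTheory CategoryTheory.Limits AlgebraicGeometry Topology TopologicalSpace
open AlgSp

namespace Groth.Agent.S10208
open Groth.L23

/-- Let f : X ⟶ Y be a morphism of algebraic spaces over a scheme S. Suppose there is a commutative
square with a : h_U ⟶ X representable etale and surjective, b : h_V ⟶ Y representable etale, and an
etale morphism of schemes h : U ⟶ V over S with a ≫ f = h_h ≫ b. Then f is etale. -/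
theorem result {S : Scheme.{u}} {X Y : AlgSp.Space S} (f : X ⟶ Y) {U V : Over S}
    (a : (AlgSp.yon S).obj U ⟶ X.obj) (ha : AlgSp.RepWith @Etale a) (has : AlgSp.RepWith @Surjective a)
    (b : (AlgSp.yon S).obj V ⟶ Y.obj) (hb : AlgSp.RepWith @Etale b) (h : U ⟶ V) [Etale h.left]
    (w : a ≫ f.hom = (AlgSp.yon S).map h ≫ b) :
    AlgSp.IsEtaleMor f.hom := (isEtaleMor_iff_locP X.property Y.property _).2 (locP_of_chart etLocal_etale ha has hb w inferInstance)

end Groth.Agent.S10208
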