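import Groth.Statements.S10213
import Groth.Agent.L23.QsTop

set_option autoImplicit false
set_option backward.isDefEq.respectTransparency.types false
universe u
open CategoryTheory CategoryTheory.Limits AlgebraicGeometry Topology TopologicalSpace
open AlgSp

namespace Groth.Agent.S10213

/-- For an algebraic space X over a scheme S there is a surjective etale map h_U ⟶ X where U is a
disjoint union of affine schemes, each of which maps into an affine open of S. -/
theorem result {S : Scheme.{u}} (X : AlgSp.Space S) :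
    ∃ (ι : Type u) (V : ι → Scheme.{u}) (_ : ∀ i, IsAffine (V i)) (q : (∐ V) ⟶ S)
      (p : (AlgSp.yon S).obj (Over.mk q) ⟶ X.obj),
      AlgSp.RepWith @Etale p ∧ AlgSp.RepWith @Surjective p ∧
        ∀ i, ∃ W : S.Opens, IsAffineOpen W ∧ ∀ v : ↥(V i), (Sigma.ι V i ≫ q) v ∈ W := by
  obtain ⟨U, p, he, hs⟩ := X.property.atlas
  let κ : Type u := {B : U.left.Opens // IsAffineOpen B ∧ ∃ A : S.Opens, IsAffineOpen A ∧ ∀ x ∈ B, U.hom x ∈ A}
  let V : κ → Scheme.{u} := fun B => B.1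
  let d : (∐ V) ⟶ U.left := Sigma.desc fun B => Scheme.Opens.ι B.1
  let π : Over.mk (d ≫ U.hom) ⟶ U := Over.homMk d
  have : Etale d := IsZariskiLocalAtSource.of_openCover (sigmaOpenCover V) fun B => by
    show Etale (Sigma.ι V B ≫ d)
    rw [Sigma.ι_desc]; infer_instance
  have : Surjective d := ⟨fun u => by
    obtain ⟨_, ⟨A, hA, rfl⟩, hAu, -⟩ :=
      S.isBasis_affineOpens.exists_subset_of_mem_open (Set.mem_univ (U.hom u)) isOpen_univ
    change S.Opens at A
    obtain ⟨_, ⟨B, hB, rfl⟩, hBu, hBA⟩ :=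
      U.left.isBasis_affineOpens.exists_subset_of_mem_open (show u ∈ U.hom ⁻¹ᵁ A from hAu) (U.hom ⁻¹ᵁ A).isOpen
    change U.left.Opens at B
    exact ⟨Sigma.ι V ⟨B, hB, A, hA, fun z hz => hBA hz⟩ ⟨u, hBu⟩, by
      rw [← Scheme.Hom.comp_apply, Sigma.ι_desc]; rfl⟩⟩
  refine ⟨κ, V, fun B => B.2.1, d ≫ U.hom, (AlgSp.yon S).map π ≫ p, Groth.L23.repWith_comp (Groth.L23.repWith_map ‹Etale d›) he,
    Groth.L23.repWith_comp (Groth.L23.repWith_map ‹Surjective d›) hs, fun B => ?_⟩
  obtain ⟨A, hA, h⟩ := B.2.2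
  refine ⟨A, hA, fun v => ?_⟩
  rw [Sigma.ι_desc_assoc, Scheme.Hom.comp_apply]
  exact h v.1 v.2

end Groth.Agent.S10213
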