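import Groth.Statements.S10214
import Groth.Agent.L23.QsTop

set_option autoImplicit false
set_option backward.isDefEq.respectTransparency.types false
universe u
open CategoryTheory CategoryTheory.Limits AlgebraicGeometry Topology TopologicalSpace
open AlgSp

namespace Groth.Agent.S10214

/-- Every algebraic space X over a scheme S has a Zariski covering by open subspaces X_i such that each
X_i has a surjective etale map from an affine scheme; moreover the affine schemes may be taken to
map into affine opens of S. -/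
theorem result {S : Scheme.{u}} (X : AlgSp.Space S) :
    ∃ (ι : Type u) (Xi : ι → AlgSp.Space S) (j : ∀ i, Xi i ⟶ X),
      AlgSp.IsZarCover (fun i => (Xi i).obj) (fun i => (j i).hom) ∧
        ∀ i, ∃ (U : Over S) (p : (AlgSp.yon S).obj U ⟶ (Xi i).obj), IsAffine U.left ∧
          AlgSp.RepWith @Etale p ∧ AlgSp.RepWith @Surjective p ∧
          ∃ W : S.Opens, IsAffineOpen W ∧ ∀ v : ↥U.left, U.hom v ∈ W := by
  obtain ⟨ι, W, a, hW, ha, hcov, hA⟩ := Groth.L23.Qs.exists_affine_charts X.property
  choose Z j b hZ hj hb hbs hbj hr using fun i => Groth.L23.Qs.exists_openSub_chart X.property (ha i)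
  refine ⟨ι, fun i => ⟨Z i, hZ i⟩, fun i => ObjectProperty.homMk (j i), ⟨hj, fun x => ?_⟩, fun i => ?_⟩
  · obtain ⟨i, w, rfl⟩ := hcov x
    exact ⟨i, (hr i).ge ⟨w, rfl⟩⟩
  · obtain ⟨A, hA', hw⟩ := hA i
    exact ⟨W i, b i, hW i, hb i, hbs i, A, hA', hw⟩

end Groth.Agent.S10214
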