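import Groth.Statements.S10221
import Groth.Agent.L23.StalkConservative

set_option autoImplicit false
set_option backward.isDefEq.respectTransparency.types false
universe u
open CategoryTheory CategoryTheory.Limits AlgebraicGeometry Topology TopologicalSpace
open AlgSp

namespace Groth.Agent.S10221

/-- Let X be an algebraic space over a scheme S. A short complex of abelian sheaves on the small etale
site of X (maps f, g with g ∘ f = 0) is exact if and only if it is exact on stalks at all geometric
points x̄ of X: every element of the middle stalk killed by g_x̄ is in the image of f_x̄. -/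
theorem result {S : Scheme.{u}} (X : AlgSp.Space S) (C : ShortComplex (AlgSp.AbEt X.obj)) :
    C.Exact ↔ ∀ p : AlgSp.FieldPt X.obj, p.IsGeometric →
      ∀ y : ↥((AlgSp.stalkEtFunctor AddCommGrpCat.{u + 1} p).obj C.X₂),
        ((AlgSp.stalkEtFunctor AddCommGrpCat.{u + 1} p).map C.g) y = 0 →
          ∃ x : ↥((AlgSp.stalkEtFunctor AddCommGrpCat.{u + 1} p).obj C.X₁),
            ((AlgSp.stalkEtFunctor AddCommGrpCat.{u + 1} p).map C.f) x = y := by
  constructor
  · intro h p hp
    have h' := h.map ((Groth.L23.SH.sitePoint p hp).sheafFiber (A := AddCommGrpCat.{u+1}))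
    rw [ShortComplex.ab_exact_iff] at h'
    exact h'
  · intro h
    rw [ShortComplex.exact_iff_isZero_homology]
    have hz : ∀ (p : AlgSp.FieldPt X.obj) (hp : p.IsGeometric),
        IsZero ((Groth.L23.SH.sitePoint p hp).sheafFiber.obj C.homology) := by
      intro p hp
      have h' : (C.map ((Groth.L23.SH.sitePoint p hp).sheafFiber (A := AddCommGrpCat.{u+1}))).Exact := by
        rw [ShortComplex.ab_exact_iff]
        exact h p hp
      rw [ShortComplex.exact_iff_isZero_homology] at h'
      exact h'.of_iso (C.mapHomologyIso _).symm
    haveI : Sheaf.IsLocallyInjective (0 : C.homology ⟶ C.homology) :=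
      Groth.L23.SH.isLocallyInjective_of_stalk _ fun p hp x y _ => by
        haveI := AddCommGrpCat.subsingleton_of_isZero (hz p hp)
        exact @Subsingleton.elim _ this x y
    haveI := Sheaf.mono_of_isLocallyInjective (0 : C.homology ⟶ C.homology)
    exact IsZero.of_mono_zero C.homology C.homology

end Groth.Agent.S10221
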