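import Groth.Statements.S10227
import Groth.Agent.L23.StalkBranch
import Groth.Agent.L23.StalkProps
import Groth.Agent.L23.GeomUnibranchSH

set_option autoImplicit false
set_option backward.isDefEq.respectTransparency.types false
universe u
open CategoryTheory CategoryTheory.Limits AlgebraicGeometry Topology TopologicalSpace
open AlgSp

namespace Groth.Agent.S10227

/-- (1) ⇔ (4) ⇔ (5): let X be an algebraic space over a scheme S and x ∈ |X|. The following are
equivalent: for every scheme U, every etale h_U ⟶ X and every point u of U over x, the local ring of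
U at u has a unique minimal prime; for every such (U, u), the local ring of U at u is geometrically
unibranch; for every geometric point x̄ over x, the etale local ring of X at x̄ has a unique minimal
prime. -/
theorem result {S : Scheme.{u}} (X : AlgSp.Space S) (x : AlgSp.Points X.obj) :
    ((∀ (U : Over S) (a : (AlgSp.yon S).obj U ⟶ X.obj) (u : ↥U.left),
        AlgSp.RepWith @Etale a → AlgSp.Points.ofPt a u = x → CAlgX.HasUniqueMinimalPrime ↥(U.left.presheaf.stalk u)) ↔
      (∀ (U : Over S) (a : (AlgSp.yon S).obj U ⟶ X.obj) (u : ↥U.left),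
        AlgSp.RepWith @Etale a → AlgSp.Points.ofPt a u = x → CAlg2.IsGeomUnibranch ↥(U.left.presheaf.stalk u))) ∧
    ((∀ (U : Over S) (a : (AlgSp.yon S).obj U ⟶ X.obj) (u : ↥U.left),
        AlgSp.RepWith @Etale a → AlgSp.Points.ofPt a u = x → CAlgX.HasUniqueMinimalPrime ↥(U.left.presheaf.stalk u)) ↔
      ∀ p : AlgSp.FieldPt X.obj, p.IsGeometric → AlgSp.Points.mk p = x →
        CAlgX.HasUniqueMinimalPrime ↥(AlgSp.OEtStalk p)) := by
  have hsh : ∀ (p : AlgSp.FieldPt X.obj), p.IsGeometric → AlgSp.Points.mk p = x →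
      (∀ (U : Over S) (a : (AlgSp.yon S).obj U ⟶ X.obj) (u : ↥U.left),
        AlgSp.RepWith @Etale a → AlgSp.Points.ofPt a u = x → CAlgX.HasUniqueMinimalPrime ↥(U.left.presheaf.stalk u)) →
      CAlgX.HasUniqueMinimalPrime ↥(AlgSp.OEtStalk p) := by
    intro p hp hx H
    haveI : IsLocalRing ↥(AlgSp.OEtStalk p) := by
      obtain ⟨U, a, u, ha, hu⟩ := Groth.L23.SH.exists_chart_point X.property p
      obtain ⟨T, _, _, _, _, -, ⟨e⟩⟩ := Groth.L23.SH.exists_strictHenselization_stalk X.property p hp ha u hu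
      exact e.isLocalRing
    obtain ⟨P, hP⟩ := Ideal.nonempty_minimalPrimes (I := (⊥ : Ideal ↥(AlgSp.OEtStalk p))) bot_ne_top
    refine ⟨P, hP, fun Q hQ => ?_⟩
    by_contra hne
    classical
    obtain ⟨U, a, u, ha, hu, hle⟩ := Groth.L23.SH.exists_chart_card_le X.property p hp {P, Q} (fun R hR => by
      rcases Finset.mem_insert.1 hR with rfl | hR
      · exact hP
      · rw [Finset.mem_singleton.1 hR]; exact hQ)
    rw [Groth.L23.SH.hasUniqueMinimalPrime_iff_encard.1 (H U a u ha (hu.trans hx)),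
      Finset.card_pair (Ne.symm hne)] at hle
    exact absurd hle (by norm_num)
  have hchart : ∀ (p : AlgSp.FieldPt X.obj), p.IsGeometric → AlgSp.Points.mk p = x →
      ∀ (U : Over S) (a : (AlgSp.yon S).obj U ⟶ X.obj) (u : ↥U.left),
        AlgSp.RepWith @Etale a → AlgSp.Points.ofPt a u = x →
        (CAlgX.HasUniqueMinimalPrime ↥(AlgSp.OEtStalk p) → CAlgX.HasUniqueMinimalPrime ↥(U.left.presheaf.stalk u)) ∧
        (CAlgX.HasUniqueMinimalPrime ↥(AlgSp.OEtStalk p) ↔ CAlg2.IsGeomUnibranch ↥(U.left.presheaf.stalk u)) := by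
    intro p hp hx U a u ha hu
    obtain ⟨T, _, _, _, _, hT, ⟨e⟩⟩ :=
      Groth.L23.SH.exists_strictHenselization_stalk X.property p hp ha u (hu.trans hx.symm)
    haveI := hT
    have hiff : CAlgX.HasUniqueMinimalPrime ↥(AlgSp.OEtStalk p) ↔ CAlgX.HasUniqueMinimalPrime T := by
      rw [Groth.L23.SH.hasUniqueMinimalPrime_iff_encard, Groth.L23.SH.hasUniqueMinimalPrime_iff_encard,
        Groth.L23.SH.encard_minimalPrimes_ringEquiv e]
    refine ⟨fun h => ?_, hiff.trans Groth.L23.SH.isGeomUnibranch_iff_uniqueMinimal.symm⟩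
    rw [Groth.L23.SH.hasUniqueMinimalPrime_iff_encard]
    refine le_antisymm ((Groth.L23.SH.encard_minimalPrimes_le_strict _ T).trans
      (Groth.L23.SH.hasUniqueMinimalPrime_iff_encard.1 (hiff.1 h)).le) ?_
    exact Set.one_le_encard_iff_nonempty.2 (Set.nonempty_coe_sort.1 (Ideal.nonempty_minimalPrimes bot_ne_top))
  obtain ⟨p₀, hp₀, hx⟩ := Groth.L23.SH.exists_geometric x
  refine ⟨⟨fun H U a u ha hu => (hchart p₀ hp₀ hx U a u ha hu).2.1 (hsh p₀ hp₀ hx H),
      fun H U a u ha hu => (hchart p₀ hp₀ hx U a u ha hu).1 ((hchart p₀ hp₀ hx U a u ha hu).2.2 (H U a u ha hu))⟩,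
    ⟨fun H p hp hpx => hsh p hp hpx H,
      fun H U a u ha hu => (hchart p₀ hp₀ hx U a u ha hu).1 (H p₀ hp₀ hx)⟩⟩

end Groth.Agent.S10227
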