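import Groth.Statements.S10229
import Groth.Agent.L23.PointClassify
import Mathlib.Algebra.Category.Grp.AB

set_option autoImplicit false
set_option backward.isDefEq.respectTransparency.types false
universe u
open CategoryTheory CategoryTheory.Limits AlgebraicGeometry Topology TopologicalSpace
open AlgSp

namespace Groth.Agent.S10229

/-- Let X be an algebraic space over a scheme S and let P be a point of the small etale topos of X,
given as a point of the site X_etale (a fibre functor). Then there is a geometric point x̄ of X such
that the stalk functor of P on sheaves of sets is isomorphic to the stalk functor F ↦ F_x̄. -/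
theorem result {S : Scheme.{u}} (X : AlgSp.Space S)
    (P : GrothendieckTopology.Point.{u} (AlgSp.etTop X.obj)) :
    ∃ p : AlgSp.FieldPt X.obj, p.IsGeometric ∧
      Nonempty (P.sheafFiber (A := Type (u + 1)) ≅ AlgSp.stalkEtFunctor (Type (u + 1)) p) := by
  obtain ⟨p, hp, ⟨i⟩⟩ := Groth.L23.PC.exists_iso_sitePoint P
  exact ⟨p, hp, ⟨⟨GrothendieckTopology.Point.Hom.sheafFiber i.inv, GrothendieckTopology.Point.Hom.sheafFiber i.hom,
    (GrothendieckTopology.Point.Hom.sheafFiber_comp (A := Type (u+1)) i.hom i.inv).symm.trans ((congrArg (fun f => GrothendieckTopology.Point.Hom.sheafFiber f) i.hom_inv_id).trans (GrothendieckTopology.Point.Hom.sheafFiber_id _)),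
    (GrothendieckTopology.Point.Hom.sheafFiber_comp (A := Type (u+1)) i.inv i.hom).symm.trans ((congrArg (fun f => GrothendieckTopology.Point.Hom.sheafFiber f) i.inv_hom_id).trans (GrothendieckTopology.Point.Hom.sheafFiber_id _))⟩⟩⟩

end Groth.Agent.S10229
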