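import Groth.Statements.S10231
import Groth.Agent.L23.StalkProps
import Groth.Agent.S2743

set_option autoImplicit false
set_option backward.isDefEq.respectTransparency.types false
universe u
open CategoryTheory CategoryTheory.Limits AlgebraicGeometry Topology TopologicalSpace
open AlgSp

namespace Groth.Agent.S10231

/-- Let X be a locally Noetherian algebraic space over a scheme S. Then X is regular (etale locally a
regular scheme: some surjective etale chart from a locally Noetherian scheme all of whose local
rings are regular) if and only if every etale local ring of X at a geometric point is a regular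
local ring. -/
theorem result {S : Scheme.{u}} (X : AlgSp.Space S) (hX : AlgSp.IsLocNoethSp X.obj) :
    AlgSp.EtaleLocally (fun U => IsLocallyNoetherian U ∧ ∀ u : ↥U, IsRegularLocalRing ↥(U.presheaf.stalk u)) X.obj ↔
      ∀ p : AlgSp.FieldPt X.obj, p.IsGeometric → IsRegularLocalRing ↥(AlgSp.OEtStalk p) := by
  have key : ∀ {U : Over S} (a : (AlgSp.yon S).obj U ⟶ X.obj), AlgSp.RepWith @Etale a →
      IsLocallyNoetherian U.left → ∀ (u : U.left) (p : AlgSp.FieldPt X.obj), p.IsGeometric →
      AlgSp.Points.ofPt a u = AlgSp.Points.mk p →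
      (IsRegularLocalRing ↥(U.left.presheaf.stalk u) ↔ IsRegularLocalRing ↥(AlgSp.OEtStalk p)) := by
    intro U a ha hN u p hp hu
    obtain ⟨R, T, _, _, _, _, _, _, hT, ⟨e⟩, ⟨e'⟩⟩ :=
      Groth.L23.SH.exists_stalk_strictHenselization X.property p hp ha u hu
    haveI := hN
    haveI : IsNoetherianRing R := isNoetherianRing_of_ringEquiv _ e
    haveI := hT
    exact ⟨fun h => haveI := h; haveI : IsRegularLocalRing R := IsRegularLocalRing.of_ringEquiv e
      haveI := (Groth.Agent.S2743.result R T).2 inferInstance; IsRegularLocalRing.of_ringEquiv e',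
      fun h => haveI := h; haveI : IsRegularLocalRing T := IsRegularLocalRing.of_ringEquiv e'.symm
      haveI := (Groth.Agent.S2743.result R T).1 inferInstance; IsRegularLocalRing.of_ringEquiv e.symm⟩
  constructor
  · rintro ⟨U, a, ha, has, hN, hR⟩ p hp
    obtain ⟨u, hu⟩ := Groth.L23.surjective_ofPt has (AlgSp.Points.mk p)
    exact (key a ha hN u p hp hu).1 (hR u)
  · intro H
    obtain ⟨U, a, ha, has, hN⟩ := hX
    refine ⟨U, a, ha, has, hN, fun u => ?_⟩
    obtain ⟨p, hp, hu⟩ := Groth.L23.SH.exists_geometric (AlgSp.Points.ofPt a u)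
    exact (key a ha hN u p hp hu.symm).2 (H p hp)

end Groth.Agent.S10231
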