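import Groth.Statements.S10232
import Groth.Agent.L23.StalkProps
import Groth.Agent.S0540
import Groth.Agent.S2743

set_option autoImplicit false
set_option backward.isDefEq.respectTransparency.types false
universe u
open CategoryTheory CategoryTheory.Limits AlgebraicGeometry Topology TopologicalSpace
open AlgSp

namespace Groth.Agent.S10232

/-- Let X be an algebraic space over a scheme S and x ∈ |X|. Then X is regular at x (for some etale
chart h_U ⟶ X and some point u of U over x, the local ring of U at u is regular) if and only if the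
etale local ring of X at x̄ is regular for every geometric point x̄ lying over x, if and only if it
is regular for some geometric point x̄ lying over x. -/
theorem result {S : Scheme.{u}} (X : AlgSp.Space S) (x : AlgSp.Points X.obj) :
    (AlgSp.HasAt (fun U u => IsRegularLocalRing ↥(U.presheaf.stalk u)) X.obj x ↔
      ∀ p : AlgSp.FieldPt X.obj, p.IsGeometric → AlgSp.Points.mk p = x → IsRegularLocalRing ↥(AlgSp.OEtStalk p)) ∧
    (AlgSp.HasAt (fun U u => IsRegularLocalRing ↥(U.presheaf.stalk u)) X.obj x ↔
      ∃ p : AlgSp.FieldPt X.obj, p.IsGeometric ∧ AlgSp.Points.mk p = x ∧ IsRegularLocalRing ↥(AlgSp.OEtStalk p)) := by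
  have key : ∀ p : AlgSp.FieldPt X.obj, p.IsGeometric →
      (AlgSp.HasAt (fun U u => IsRegularLocalRing ↥(U.presheaf.stalk u)) X.obj (AlgSp.Points.mk p) ↔
        IsRegularLocalRing ↥(AlgSp.OEtStalk p)) := fun p hp =>
    Groth.L23.SH.hasAt_iff_stalk (fun R _ => IsRegularLocalRing R) (fun R _ => IsRegularLocalRing R)
      (fun _ _ _ _ e h => haveI := h; IsRegularLocalRing.of_ringEquiv e)
      (fun _ _ _ _ e => ⟨fun h => haveI := h; IsRegularLocalRing.of_ringEquiv e,
        fun h => haveI := h; IsRegularLocalRing.of_ringEquiv e.symm⟩)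
      (fun R T _ _ _ _ _ _ hT => by
        haveI := hT
        refine ⟨fun h => ?_, fun h => ?_⟩
        · haveI : IsNoetherianRing R := (Groth.Agent.S0540.result R T).2 inferInstance
          exact (Groth.Agent.S2743.result R T).1 h
        · haveI := h
          exact (Groth.Agent.S2743.result R T).2 h) X.property p hp
  obtain ⟨p₀, hp₀, hx⟩ := Groth.L23.SH.exists_geometric x
  refine ⟨⟨fun h p hp e => (key p hp).1 (e ▸ h), fun h => hx ▸ (key p₀ hp₀).2 (h p₀ hp₀ hx)⟩,
    ⟨fun h => ⟨p₀, hp₀, hx, (key p₀ hp₀).1 (hx.symm ▸ h)⟩, ?_⟩⟩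
  rintro ⟨p, hp, rfl, h⟩
  exact (key p hp).2 h

end Groth.Agent.S10232
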