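import Groth.Statements.S10234

set_option autoImplicit false
set_option backward.isDefEq.respectTransparency.types false
universe u
open CategoryTheory CategoryTheory.Limits AlgebraicGeometry Topology TopologicalSpace
open AlgSp

namespace Groth.Agent.S10234

/-- Suppose f : X ⟶ Y is a morphism of algebraic spaces over a scheme S that is etale. Then the functor
j : X_etale ⟶ Y_etale, (U ⟶ X) ↦ (U ⟶ X ⟶ Y), is continuous and cocontinuous for the etale
topologies. (The identification of the associated morphism of topoi with f_small, and the resulting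
formula for inverse images, are not part of this row.) -/
theorem result {S : Scheme.{u}} {X Y : AlgSp.Space S} (f : X ⟶ Y)
    (hf : AlgSp.IsEtaleMor f.hom) :
    (AlgSp.EtOver.postcomp f.hom hf).IsContinuous (AlgSp.etTop X.obj) (AlgSp.etTop Y.obj) ∧
      (AlgSp.EtOver.postcomp f.hom hf).IsCocontinuous (AlgSp.etTop X.obj) (AlgSp.etTop Y.obj) := by
  haveI hpp : ∀ {E₁ E₂ E₀ : EtOver X.obj} (g₁ : E₁ ⟶ E₀) (g₂ : E₂ ⟶ E₀),
      PreservesLimit (cospan g₁ g₂) (EtOver.postcomp f.hom hf) := by
    intro E₁ E₂ E₀ g₁ g₂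
    refine preservesLimit_of_preserves_limit_cone (EtOver.pullbackIsLimit g₁ g₂)
      ((isLimitMapConePullbackConeEquiv _ _).symm (PullbackCone.IsLimit.mk _ (fun s => EtOver.homMk
        (pullback.lift s.fst.hom.left s.snd.hom.left (congrArg (fun k => k.hom.left) s.condition)) ?_)
        (fun s => EtOver.hom_ext _ _ (pullback.lift_fst _ _ _))
        (fun s => EtOver.hom_ext _ _ (pullback.lift_snd _ _ _))
        (fun s m h₁ h₂ => EtOver.hom_ext _ _ (pullback.hom_ext
          ((congrArg (fun k => k.hom.left) h₁).trans (pullback.lift_fst _ _ _).symm)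
          ((congrArg (fun k => k.hom.left) h₂).trans (pullback.lift_snd _ _ _).symm)))))
    change (AlgSp.yon S).map _ ≫ ((AlgSp.yon S).map _ ≫ E₁.obj.hom) ≫ f.hom = s.pt.obj.hom
    rw [Category.assoc, ← Category.assoc ((AlgSp.yon S).map _), ← Functor.map_comp]
    exact (congrArg (fun k => (AlgSp.yon S).map k ≫ E₁.obj.hom ≫ f.hom) (pullback.lift_fst _ _ _)).trans
      (EtOver.w s.fst)
  haveI : PreservesLimitsOfShape WalkingCospan (EtOver.postcomp f.hom hf) :=
    ⟨fun {K} => preservesLimit_of_iso_diagram _ (diagramIsoCospan K).symm⟩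
  haveI : (etPre X.obj).HasPullbacks := inferInstance
  haveI : (etPre Y.obj).HasPullbacks := inferInstance
  refine ⟨?_, ⟨fun {E T} hT => ?_⟩⟩
  · refine Functor.isContinuous_toGrothendieck_of_pullbacksPreservedBy _ (etPre X.obj) (etPre Y.obj)
      fun E R hR => ?_
    obtain ⟨ι, Z, g, rfl⟩ := R.exists_eq_ofArrows
    rw [Precoverage.mem_comap_iff, Presieve.map_ofArrows]
    exact (ofArrows_mem_etPre_iff _ _).2 fun x => (ofArrows_mem_etPre_iff Z g).1 hR x
  · obtain ⟨R, hR, hle⟩ := Precoverage.mem_toGrothendieck_iff_of_isStableUnderComposition.1 hT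
    obtain ⟨ι, Z, g, rfl⟩ := R.exists_eq_ofArrows
    have hg : ∀ i, Etale (g i).hom.left.left := fun i => EtOver.etale_left (g i)
    let Z' : ι → EtOver X.obj := fun i => EtOver.mk ((AlgSp.yon S).map (g i).hom.left ≫ E.obj.hom)
      ((repWith_isMultiplicative (S := S) @Etale).comp_mem _ _ ((repWith_yon_map_iff _ _).2 (hg i))
        E.property)
    let g' : ∀ i, Z' i ⟶ E := fun i => EtOver.homMk (g i).hom.left rfl
    refine GrothendieckTopology.superset_covering _ ?_
      (ofArrows_mem_etTop Z' g' fun x => (ofArrows_mem_etPre_iff Z g).1 hR x)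
    rw [Sieve.generate_le_iff, Presieve.ofArrows_le_iff]
    intro i
    have w : (AlgSp.yon S).map (𝟙 (Z i).obj.left) ≫ (Z i).obj.hom =
        ((AlgSp.yon S).map (g i).hom.left ≫ E.obj.hom) ≫ f.hom := by
      rw [(AlgSp.yon S).map_id, Category.id_comp, Category.assoc]
      exact (EtOver.w (g i)).symm
    let k : (EtOver.postcomp f.hom hf).obj (Z' i) ⟶ Z i := EtOver.homMk (𝟙 _) w
    have e : (EtOver.postcomp f.hom hf).map (g' i) = k ≫ g i :=
      EtOver.hom_ext _ _ (Category.id_comp _).symm
    show T ((EtOver.postcomp f.hom hf).map (g' i))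
    rw [e]
    exact T.downward_closed (hle _ _ ⟨i⟩) k

end Groth.Agent.S10234
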