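import Groth.Statements.S10239
import Groth.Agent.L23.BranchSpace

set_option autoImplicit false
set_option backward.isDefEq.respectTransparency.types false
universe u
open CategoryTheory CategoryTheory.Limits AlgebraicGeometry Topology TopologicalSpace
open AlgSp

namespace Groth.Agent.S10239

/-- (1) ⇔ (4) ⇔ (5): let X be an algebraic space over a scheme S, x ∈ |X| and n ≥ 1 an integer. The
following are equivalent: (1) for every scheme U, etale h_U ⟶ X and u ∈ U over x the local ring of U
at u has at most n minimal primes, and for some such (U, u) exactly n; (4) for every such (U, u) the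
number of geometric branches of U at u is n; (5) for every geometric point x̄ over x the etale local
ring of X at x̄ has exactly n minimal primes. -/
theorem result {S : Scheme.{u}} (X : AlgSp.Space S) (x : AlgSp.Points X.obj)
    (n : ℕ) (hn : 1 ≤ n) :
    (((∀ (U : Over S) (a : (AlgSp.yon S).obj U ⟶ X.obj) (u : ↥U.left),
        AlgSp.RepWith @Etale a → AlgSp.Points.ofPt a u = x → (minimalPrimes ↥(U.left.presheaf.stalk u)).encard ≤ n) ∧
        AlgSp.HasAt (fun U u => (minimalPrimes ↥(U.presheaf.stalk u)).encard = n) X.obj x) ↔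
      (∀ (U : Over S) (a : (AlgSp.yon S).obj U ⟶ X.obj) (u : ↥U.left),
        AlgSp.RepWith @Etale a → AlgSp.Points.ofPt a u = x → Brnch.numGeomBranchesAt U.left u = n)) ∧
    ((∀ (U : Over S) (a : (AlgSp.yon S).obj U ⟶ X.obj) (u : ↥U.left),
        AlgSp.RepWith @Etale a → AlgSp.Points.ofPt a u = x → Brnch.numGeomBranchesAt U.left u = n) ↔
      ∀ p : AlgSp.FieldPt X.obj, p.IsGeometric → AlgSp.Points.mk p = x →
        (minimalPrimes ↥(AlgSp.OEtStalk p)).encard = n) := by
  have hX := X.property
  refine ⟨⟨fun h U a u ha hu => ?_, fun h => ?_⟩, ⟨fun h p hp hpx => ?_, fun h U a u ha hu => ?_⟩⟩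
  · obtain ⟨p, hp, hpx⟩ := Groth.L23.SH.exists_geometric x
    rw [Groth.L23.SH.numGeomBranchesAt_eq_encard hX p hp ha u (hu.trans hpx.symm)]
    refine le_antisymm (Groth.L23.SH.encard_OEtStalk_le hX p hp n fun V b v hb hv => h.1 V b v hb (hv.trans hpx)) ?_
    obtain ⟨V, b, v, hb, hv, hQ⟩ := h.2
    rw [← Groth.L23.SH.numGeomBranchesAt_eq_encard hX p hp hb v (hv.trans hpx.symm), ← hQ]
    exact Groth.L23.SH.encard_stalk_le_numGeom v
  · refine ⟨fun U a u ha hu => (Groth.L23.SH.encard_stalk_le_numGeom u).trans_eq (h U a u ha hu), ?_⟩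
    obtain ⟨p, hp, hpx⟩ := Groth.L23.SH.exists_geometric x
    obtain ⟨U, a, u, ha, hu⟩ := Groth.L23.SH.exists_chart_point hX p
    obtain ⟨V, b, v, hb, hv, hQ⟩ := Groth.L23.SH.exists_chart_encard_eq hX p hp n
      ((Groth.L23.SH.numGeomBranchesAt_eq_encard hX p hp ha u hu).symm.trans (h U a u ha (hu.trans hpx)))
    exact ⟨V, b, v, hb, hv.trans hpx, hQ⟩
  · obtain ⟨U, a, u, ha, hu⟩ := Groth.L23.SH.exists_chart_point hX p
    exact (Groth.L23.SH.numGeomBranchesAt_eq_encard hX p hp ha u hu).symm.trans (h U a u ha (hu.trans hpx))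
  · obtain ⟨p, hp, hpx⟩ := Groth.L23.SH.exists_geometric x
    exact (Groth.L23.SH.numGeomBranchesAt_eq_encard hX p hp ha u (hu.trans hpx.symm)).trans (h p hp hpx)

end Groth.Agent.S10239
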