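import Groth.Statements.S10242
import Groth.Agent.L23.SiteFacts

set_option autoImplicit false
set_option backward.isDefEq.respectTransparency.types false
universe u
open CategoryTheory CategoryTheory.Limits AlgebraicGeometry Topology TopologicalSpace
open AlgSp

namespace Groth.Agent.S10242
open Groth.L23 Groth.L23.Supp

/-- Let X be a reduced algebraic space over a scheme S. Then the ring of global sections of the
structure sheaf of X (on the small etale site) is reduced, and if a global section f satisfies X =
V(f), meaning that its restriction to every scheme U etale over X has empty non-vanishing locus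
D(f|_U), then f = 0. -/
theorem result {S : Scheme.{u}} (X : AlgSp.Space S) (hX : AlgSp.IsReducedSp X.obj) :
    _root_.IsReduced ↥(AlgSp.gsectEt (AlgSp.OEt X.obj)) ∧
      ∀ f : ↥(AlgSp.gsectEt (AlgSp.OEt X.obj)),
        (∀ E : AlgSp.EtOver X.obj,
            E.obj.left.left.basicOpen ((limit.π (AlgSp.OEt X.obj).obj (Opposite.op E)) f).down = ⊥) →
          f = 0 := by
  have red : ∀ E : AlgSp.EtOver X.obj, _root_.IsReduced Γ(E.obj.left.left, ⊤) := fun E => by
    haveI := isReduced_obj hX E
    infer_instance
  refine ⟨⟨fun f ⟨n, hn⟩ => ?_⟩, fun f hf => ?_⟩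
  · refine Concrete.limit_ext _ _ _ fun E => ?_
    refine (ULift.down_injective ?_).trans (map_zero (limit.π (AlgSp.OEt X.obj).obj E).hom).symm
    refine (red E.unop).eq_zero _ ⟨n, ?_⟩
    exact congrArg ULift.down (((map_pow (limit.π (AlgSp.OEt X.obj).obj E).hom f n).symm.trans (congrArg _ hn)).trans (map_zero _))
  · refine Concrete.limit_ext _ _ _ fun E => ?_
    refine (ULift.down_injective ?_).trans (map_zero (limit.π (AlgSp.OEt X.obj).obj E).hom).symm
    exact (@basicOpen_eq_bot_iff _ (isReduced_obj hX E.unop) _ _).1 (hf E.unop)

end Groth.Agent.S10242
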