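import Groth.Statements.S10249
import Groth.Agent.L23.DimDecent

set_option autoImplicit false
set_option backward.isDefEq.respectTransparency.types false
universe u
open CategoryTheory CategoryTheory.Limits AlgebraicGeometry Topology TopologicalSpace
open AlgSp

namespace Groth.Agent.S10249
open Groth.L23

/-- Let X and Y be algebraic spaces over a scheme S, f : X ⟶ Y an etale morphism and x ∈ |X| with image
y ∈ |Y|. Then (1) X at x and Y at y have the same dimension: for every d, some etale chart h_U ⟶ X
from a scheme U and some point u of U over x have local dimension d (of the topological space U at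
u) if and only if the same holds for Y at y; and (2) the local rings of X at x and of Y at y have
the same Krull dimension, in the same some-chart sense with the Krull dimension of the local ring of
U at u. -/
theorem result {S : Scheme.{u}} {X Y : AlgSp.Space S} (f : X ⟶ Y)
    (hf : AlgSp.IsEtaleMor f.hom) (x : AlgSp.Points X.obj) :
    (∀ d : WithBot ℕ∞,
        AlgSp.HasAt (fun U u => FlatMor.localDim ↥U u = d) X.obj x ↔
          AlgSp.HasAt (fun U u => FlatMor.localDim ↥U u = d) Y.obj (AlgSp.Points.map f.hom x)) ∧
    (∀ d : WithBot ℕ∞,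
        AlgSp.HasAt (fun U u => ringKrullDim ↥(U.presheaf.stalk u) = d) X.obj x ↔
          AlgSp.HasAt (fun U u => ringKrullDim ↥(U.presheaf.stalk u) = d) Y.obj (AlgSp.Points.map f.hom x)) := by
  obtain ⟨U, a, ha, has⟩ := X.property.atlas
  obtain ⟨u, rfl⟩ := Groth.L23.surjective_ofPt has x
  rw [AlgSp.Points.map_ofPt]
  have key : ∀ {Z : AlgSp.Space S} {U : Over S} {a : (AlgSp.yon S).obj U ⟶ Z.obj}, AlgSp.RepWith @Etale a →
      ∀ (u : U.left) (d : WithBot ℕ∞), AlgSp.HasAt (fun U u => FlatMor.localDim ↥U u = d) Z.obj (AlgSp.Points.ofPt a u) ↔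
        FlatMor.localDim ↥U.left u = d := by
    intro Z U a ha u d
    refine ⟨?_, fun h => ⟨U, a, u, ha, rfl, h⟩⟩
    rintro ⟨V, b, v, hb, e, h⟩
    obtain ⟨R, p, q, sq⟩ := Groth.L23.exists_isPullback_of_representable (Z.property.representable_from_yon a) b
    obtain ⟨r, hr, hr'⟩ := (Groth.L23.ofPt_eq_ofPt_iff sq u v).1 e.symm
    have : Etale p.left := repWith_prop hb sq.flip
    have : Etale q.left := repWith_prop ha sq
    rw [← hr, ← Groth.L23.localDim_eq_of_etale, Groth.L23.localDim_eq_of_etale q.left r, hr']
    exact h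
  refine ⟨fun d => ?_, fun d => ?_⟩
  · rw [key ha, key (hf a ha)]
  · rw [Groth.L23.Pt.hasAt_stalkDim_iff X.property ha u (fun t => t = d),
      Groth.L23.Pt.hasAt_stalkDim_iff Y.property (hf a ha) u (fun t => t = d)]

end Groth.Agent.S10249
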