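import Groth.Statements.S10250
import Groth.Agent.L23.DimDecent

set_option autoImplicit false
set_option backward.isDefEq.respectTransparency.types false
universe u
open CategoryTheory CategoryTheory.Limits AlgebraicGeometry Topology TopologicalSpace
open AlgSp

namespace Groth.Agent.S10250
open Groth.L23

/-- Let f : X ⟶ Y be an etale and surjective morphism of algebraic spaces over a scheme S. Then X and Y
have the same dimension (the dimension of an algebraic space being the supremum of the Krull
dimensions of the schemes etale over it). -/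
theorem result {S : Scheme.{u}} {X Y : AlgSp.Space S} (f : X ⟶ Y)
    (hf : AlgSp.IsEtaleMor f.hom) (hs : AlgSp.IsSurjectiveMor f.hom) :
    AlgSp.dim X.obj = AlgSp.dim Y.obj := by
  have hfs : Function.Surjective (AlgSp.Points.map f.hom) := hs
  refine le_antisymm (iSup_le fun U => iSup_le fun a => iSup_le fun ha =>
    le_iSup_of_le U (le_iSup_of_le (a ≫ f.hom) (le_iSup_of_le (hf a ha) le_rfl))) ?_
  obtain ⟨W, c, hc, hcs⟩ := X.property.atlas
  refine iSup_le fun V => iSup_le fun b => iSup_le fun hb => ?_
  obtain ⟨R, p, q, sq⟩ := Groth.L23.exists_isPullback_of_representable (Y.property.representable_from_yon b) (c ≫ f.hom)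
  have : Etale p.left := repWith_prop (hf c hc) sq.flip
  have : Surjective p.left := ⟨fun v => by
    obtain ⟨x, hx⟩ := hfs (AlgSp.Points.ofPt b v)
    obtain ⟨w, rfl⟩ := Groth.L23.surjective_ofPt hcs x
    obtain ⟨r, hr, -⟩ := (Groth.L23.ofPt_eq_ofPt_iff sq v w).1 (by rw [← hx, AlgSp.Points.map_ofPt])
    exact ⟨r, hr⟩⟩
  have : Etale q.left := repWith_prop hb sq
  rw [← Groth.L23.Pt.dim_eq_of_etale_surjective p.left]
  exact le_iSup_of_le R (le_iSup_of_le ((AlgSp.yon S).map q ≫ c)
    (le_iSup_of_le (Groth.L23.repWith_comp (Groth.L23.repWith_map (inferInstanceAs (Etale q.left))) hc) le_rfl))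

end Groth.Agent.S10250
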