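import Groth.Statements.S10254
import Groth.Agent.L23.Support
import Mathlib.Algebra.Category.Grp.AB

set_option autoImplicit false
set_option backward.isDefEq.respectTransparency.types false
universe u
open CategoryTheory CategoryTheory.Limits AlgebraicGeometry Topology TopologicalSpace
open AlgSp

namespace Groth.Agent.S10254
open Groth.L23 Groth.L23.Supp Groth.L23.PC

/-- On the small etale site with scheme objects: let X be an algebraic space over a scheme S, F an
abelian sheaf on the small etale site of X, U an object of that site and σ ∈ F(U). Then there is an
open subset W of U such that: for every morphism φ : V ⟶ U of the site, σ|_V = 0 if and only if φ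
maps V into W (in particular W is the largest open subscheme of U on which σ restricts to zero); and
for every geometric point x̄ of X and every lift ū of x̄ to U, the image of σ in the stalk F_x̄
through the etale neighbourhood (U, ū) vanishes if and only if the point of U under ū lies in W.
(The published statement is for abelian sheaves on the site of algebraic spaces etale over X; this
row is its restriction to the site of schemes etale over X, where V ranges over schemes.) -/
theorem result {S : Scheme.{u}} (X : AlgSp.Space S) (F : AlgSp.AbEt X.obj)
    (U : AlgSp.EtOver X.obj) (σ : ↥(F.obj.obj (Opposite.op U))) :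
    ∃ W : TopologicalSpace.Opens ↥U.obj.left.left,
      (∀ (V : AlgSp.EtOver X.obj) (φ : V ⟶ U),
          (F.obj.map φ.op).hom σ = 0 ↔ Set.range (fun v => φ.hom.left.left v) ⊆ (W : Set ↥U.obj.left.left)) ∧
      (∀ p : AlgSp.FieldPt X.obj, p.IsGeometric → ∀ l : (AlgSp.FieldPt.liftsTo p).obj U,
          (AlgSp.stalkEtι p F ⟨U, l⟩).hom σ = 0 ↔ l.1.left (IsLocalRing.closedPoint p.K) ∈ W) := ⟨zeroLocus F σ,
    fun V φ => (zero_iff F σ φ).trans ⟨fun h => by rintro _ ⟨v, rfl⟩; exact h v, fun h v => h ⟨v, rfl⟩⟩,
    fun p hp l => germ_eq_zero_iff F σ p hp l⟩

end Groth.Agent.S10254
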