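import Groth.Statements.S10255
import Groth.Agent.L09.Pull.Proj
import Groth.Agent.L09.Pull.Qcoh
import Groth.Agent.L09.Pull.EtaleAdj
import Groth.Agent.L09.Pull.Companion

set_option autoImplicit false
universe u
open CategoryTheory CategoryTheory.Limits AlgebraicGeometry Topology TopologicalSpace
open AlgSp

set_option linter.style.haveILetI false
set_option backward.isDefEq.respectTransparency false
set_option backward.isDefEq.respectTransparency.types false

set_option linter.style.haveILetI false
set_option backward.isDefEq.respectTransparency false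
set_option backward.isDefEq.respectTransparency.types false

namespace Groth.Agent.S10255

/-- For a representable morphism: let f : X ⟶ Y be a representable morphism of algebraic spaces over a
scheme S and G a quasi-coherent O_Y-module on the small etale site of Y, with u-small modules of
sections over the affine objects of that site, which is locally projective (for every scheme V etale
over Y the restriction of G to the Zariski site of V has projective modules of sections over all
affine opens). Then the pullback f^*G is locally projective on X: for every scheme U etale over X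
the restriction of f^*G to the Zariski site of U has projective modules of sections over all affine
opens. (The published statement is for an arbitrary morphism of algebraic spaces; this row takes f
representable, where f^* is the left adjoint of the direct image V ↦ (V ×_Y X) on modules on the
small etale sites with scheme objects. Modules on these sites take values one universe up, so the
smallness of sections is stated as a hypothesis; without it the local-projectivity hypothesis,
phrased through Zariski companions with u-small sections, can be vacuous.) -/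
theorem result {S : Scheme.{u}} {X Y : AlgSp.Space S} (f : X ⟶ Y)
    (hrep : AlgSp.Representable f.hom)
    [(SheafOfModules.pushforward.{u + 1} (AlgSp.bcRingHom hrep)).IsRightAdjoint]
    (G : AlgSp.ModEt Y.obj) (hG : G.IsQuasicoherent)
    (hsmall : ∀ E : AlgSp.EtOver Y.obj, IsAffine E.obj.left.left → Small.{u} (AlgSp.sectModEt G E))
    (hproj : ∀ {V : Over S} (q : (AlgSp.yon S).obj V ⟶ Y.obj) (hrepq : AlgSp.Representable q)
      [(SheafOfModules.pushforward.{u + 1} (AlgSp.bcRingHom hrepq)).IsRightAdjoint]
      (H : V.left.Modules) [Coh.IsQCoh H]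
      (c : AlgSp.ZarCompanion V.left H ((AlgSp.resSchModEt V).obj ((AlgSp.pullModEt hrepq).obj G)))
      (W : V.left.Opens), AlgSp.RepWith @Etale q → IsAffineOpen W →
        Module.Projective (V.left.ringCatSheaf.obj.obj (Opposite.op W)) (H.val.obj (Opposite.op W)))
    {U : Over S} (p : (AlgSp.yon S).obj U ⟶ X.obj) (hrepp : AlgSp.Representable p)
    (hp : AlgSp.RepWith @Etale p)
    [(SheafOfModules.pushforward.{u + 1} (AlgSp.bcRingHom hrepp)).IsRightAdjoint]
    (H' : U.left.Modules) [Coh.IsQCoh H']
    (c' : AlgSp.ZarCompanion U.left H'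
      ((AlgSp.resSchModEt U).obj ((AlgSp.pullModEt hrepp).obj ((AlgSp.pullModEt hrep).obj G))))
    (W : U.left.Opens) (hW : IsAffineOpen W) :
    Module.Projective (U.left.ringCatSheaf.obj.obj (Opposite.op W)) (H'.val.obj (Opposite.op W)) := by
  haveI := hG
  haveI := Groth.L09.Pull.isQuasicoherent_pullM hrep G Y.property
  have hG0 : ∀ E : EtOver Y.obj, IsAffine E.obj.left.left → Groth.L09.Pull.ProjAt G E := fun E hE => by
    haveI := hE
    let V : Over S := E.obj.left
    let q : (yon S).obj V ⟶ Y.obj := E.obj.hom
    have hq : RepWith @Etale q := E.property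
    have hrepq : Representable q := Y.property.representable_from_yon q
    haveI : (SheafOfModules.pushforward.{u + 1} (bcRingHom hrepq)).IsRightAdjoint :=
      Groth.L09.Pull.isRightAdjoint_push hq hrepq
    let M := Groth.L09.Pull.pullM hrepq G
    haveI : M.IsQuasicoherent := Groth.L09.Pull.isQuasicoherent_pullM hrepq G Y.property
    haveI : ∀ W : V.left.Opens, Small.{u} (Groth.L09.Pull.SW M W) :=
      Groth.L09.Pull.small_open M fun W hW => by
        haveI : IsAffine (Groth.L09.Pull.openEt V W).obj.left.left := hW
        haveI : Small.{u} (sectModEt G (Groth.L09.Pull.pushObj hq (Groth.L09.Pull.openEt V W))) := hsmall _ hW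
        exact small_map (Groth.L09.Pull.resPushEquiv hq hrepq G (Groth.L09.Pull.openEt V W)).symm.toEquiv
    haveI := Groth.L09.Pull.isQCoh_companion M
    have htop : IsAffineOpen (⊤ : V.left.Opens) := isAffineOpen_top _
    have h1 := hproj q hrepq (Groth.L09.Pull.companion M) (Groth.L09.Pull.compStr M) ⊤ hq htop
    have h2 := (Groth.L09.Pull.projAt_open_iff G hrepq hq (Groth.L09.Pull.compStr M) htop).1 h1
    haveI : IsAffine (Groth.L09.Pull.pushObj hq (Groth.L09.Pull.openEt V ⊤)).obj.left.left := htop
    let k : E.obj.left ⟶ (Groth.L09.Pull.pushObj hq (Groth.L09.Pull.openEt V ⊤)).obj.left :=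
      Over.homMk V.left.topIso.inv (by
        show V.left.topIso.inv ≫ (⊤ : V.left.Opens).ι ≫ V.hom = _
        simp
        rfl)
    let g : E ⟶ Groth.L09.Pull.pushObj hq (Groth.L09.Pull.openEt V ⊤) := EtOver.homMk k (by
      show (yon S).map k ≫ (((yon S).map (EtOver.homOfEtale (etaleOfOpen V.left ⊤)) ≫ 𝟙 _) ≫ q) = _
      rw [Category.comp_id, ← Category.assoc, ← Functor.map_comp]
      have : k ≫ EtOver.homOfEtale (etaleOfOpen V.left ⊤) = 𝟙 V := Over.OverMorphism.ext (by
        show V.left.topIso.inv ≫ (⊤ : V.left.Opens).ι = 𝟙 _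
        simp)
      rw [this, CategoryTheory.Functor.map_id, Category.id_comp])
    exact Groth.L09.Pull.projAt_of_map G g h2
  have hF : ∀ (Z : EtOver X.obj) (E : EtOver Y.obj), IsAffine Z.obj.left.left → IsAffine E.obj.left.left →
      ∀ v : Z ⟶ EtOver.bcObj hrep E, Groth.L09.Pull.ProjAt (Groth.L09.Pull.pullM hrep G) Z := fun Z E hZ hE v => by
    haveI := hZ
    haveI := hE
    haveI : Module.Projective (Groth.L09.ModEt.Γ₀ E) (sectModEt G E) := hG0 E hE
    letI : Module (Groth.L09.Pull.Rg hrep v) (sectModEt (Groth.L09.Pull.pullM hrep G) Z) :=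
      Groth.L09.ModEt.secModule (Groth.L09.Pull.pullM hrep G) Z
    let Θ : Groth.L09.Pull.Tn hrep G v ≃ₗ[Groth.L09.Pull.Rg hrep v]
        sectModEt (Groth.L09.Pull.pullM hrep G) Z :=
      LinearEquiv.ofBijective
        { toFun := Groth.L09.Pull.θ' hrep G v
          map_add' := map_add _
          map_smul' := Groth.L09.Pull.θ'_smul hrep G v } (Groth.L09.Pull.bijective_θ' hrep G v)
    haveI : Module.Projective (Groth.L09.Pull.Rg hrep v) (Groth.L09.Pull.Tn hrep G v) :=
      Module.Projective.tensorProduct
    exact (Module.Projective.of_equiv' (R := Groth.L09.Pull.Rg hrep v) Θ :)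
  let F := Groth.L09.Pull.pullM hrep G
  haveI : IsAffine (Groth.L09.Pull.openEt U W).obj.left.left := hW
  let E := Groth.L09.Pull.pushObj hp (Groth.L09.Pull.openEt U W)
  haveI : IsAffine E.obj.left.left := hW
  obtain ⟨N, _, instN, e, hiff⟩ := Groth.L09.Pull.exists_zariski (Groth.L09.Pull.pullM hrepp F) c' W
  refine hiff.2 ?_
  letI instE : Module (Groth.L09.ModEt.Γ₀ E) N := instN
  let e₀ := e.trans (Groth.L09.Pull.resPushEquiv hp hrepp F (Groth.L09.Pull.openEt U W)).symm
  let e' : N ≃ₗ[Groth.L09.ModEt.Γ₀ E] AlgSp.sectModEt F E :=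
    { e₀.toAddEquiv with map_smul' := fun r n => e₀.map_smul r n }
  have hloc : ∀ z : E.obj.left.left, ∃ (Z : EtOver X.obj) (_ : IsAffine Z.obj.left.left) (g : Z ⟶ E)
      (E₀ : EtOver Y.obj) (_ : IsAffine E₀.obj.left.left) (_ : Z ⟶ EtOver.bcObj hrep E₀),
      z ∈ Set.range g.hom.left.left := fun z => by
    obtain ⟨E₀, hE₀, e₁, he⟩ := Groth.L09.ModEt.exists_affine_chart Y.property
      (Points.map f.hom (Points.ofPt E.obj.hom z))
    obtain ⟨w, hw, -⟩ := Groth.L23.exists_point_of_isPullback (EtOver.isPullback_bcObj hrep E₀)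
      (x := Points.ofPt E.obj.hom z) (u := e₁) he.symm
    obtain ⟨Z, hZ, g₁, g₂, v, hv, -⟩ := Groth.L09.ModEt.exists_common z w hw.symm
    exact ⟨Z, hZ, g₁, E₀, hE₀, g₂, v, hv⟩
  choose Z hZ g E₀ hE₀ v hz using hloc
  obtain ⟨ι, _, V, r, hV, hr, hcov⟩ := Groth.L09.ModEt.exists_finite_cover
    (ofArrows_mem_etTop Z g fun z => ⟨z, hz z⟩)
  haveI := hV
  refine Groth.L09.Pull.projAt_of_cover F e' hcov fun k => ?_
  obtain ⟨z, l, -⟩ := (Sieve.mem_ofArrows_iff _ _ _).1 (hr k)
  exact hF _ _ (hV k) (hE₀ z) (l ≫ v z)

end Groth.Agent.S10255
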