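import Groth.Statements.S10256
import Groth.Agent.L23.Support
import Mathlib.Algebra.Category.Grp.AB

set_option autoImplicit false
set_option backward.isDefEq.respectTransparency.types false
universe u
open CategoryTheory CategoryTheory.Limits AlgebraicGeometry Topology TopologicalSpace
open AlgSp

namespace Groth.Agent.S10256
open Groth.L23 Groth.L23.Supp Groth.L23.PC

/-- Let X be an algebraic space over a scheme S, F an abelian sheaf on the small etale site of X and x ∈
|X|. Then x lies in the support of F, in the sense that the stalk F_x̄ is nonzero for some geometric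
point x̄ over x, if and only if x is the image of a point u of some U etale over X lying in the
support of some section σ ∈ F(U), i.e. such that σ does not restrict to zero on any V ⟶ U whose
image contains u. (The published definition of the support allows any, equivalently some, geometric
point over x; this row uses the existential form and does not assert that the two readings agree.) -/
theorem result {S : Scheme.{u}} (X : AlgSp.Space S) (F : AlgSp.AbEt X.obj)
    (x : AlgSp.Points X.obj) :
    (∃ p : AlgSp.FieldPt X.obj, p.IsGeometric ∧ AlgSp.Points.mk p = x ∧ ¬ IsZero (AlgSp.stalkEt p F)) ↔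
      ∃ (U : AlgSp.EtOver X.obj) (σ : ↥(F.obj.obj (Opposite.op U))) (u : ↥U.obj.left.left),
        AlgSp.Points.ofPt U.obj.hom u = x ∧
          ∀ (V : AlgSp.EtOver X.obj) (φ : V ⟶ U), (F.obj.map φ.op).hom σ = 0 →
            u ∉ Set.range (fun v => φ.hom.left.left v) := by
  constructor
  · rintro ⟨p, hp, rfl, h⟩
    obtain ⟨U, σ, l, hl⟩ := (not_isZero_stalk_iff F p hp).1 h
    exact ⟨U, σ, _, (mk_eq_ofPt_lift p l).symm, fun V φ h₀ ⟨v, hv⟩ => hl (hv ▸ (zero_iff F σ φ).1 h₀ v)⟩
  · rintro ⟨U, σ, u, rfl, h⟩
    obtain ⟨p, hp, l, hl, hpu⟩ := exists_geom_over U u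
    refine ⟨p, hp, hpu, (not_isZero_stalk_iff F p hp).2 ⟨U, σ, l, fun hu => ?_⟩⟩
    rw [hl] at hu
    refine h _ (openEι U (zeroLocus F σ)) ((zero_iff F σ _).2 fun v => openEι_mem v) ⟨⟨u, hu⟩, rfl⟩

end Groth.Agent.S10256
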