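import Groth.Statements.S10257
import Groth.Agent.L23.Support
import Mathlib.Algebra.Category.Grp.AB

set_option autoImplicit false
set_option backward.isDefEq.respectTransparency.types false
universe u
open CategoryTheory CategoryTheory.Limits AlgebraicGeometry Topology TopologicalSpace
open AlgSp

namespace Groth.Agent.S10257
open Groth.L23 Groth.L23.Supp Groth.L23.PC

/-- Let X be an algebraic space over a scheme S and O' a sheaf of commutative rings on the small etale
site of X. Then the support of O', the set of points x ∈ |X| such that the stalk O'_x̄ is not the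
zero ring for some geometric point x̄ over x, is closed in |X|. (The published definition of the
support allows any, equivalently some, geometric point over x; this row uses the existential form
and does not assert that the two readings agree.) -/
theorem result {S : Scheme.{u}} (X : AlgSp.Space S)
    (O' : AlgSp.EtSh X.obj CommRingCat.{u + 1}) :
    IsClosed {x : AlgSp.Points X.obj |
      ∃ p : AlgSp.FieldPt X.obj, p.IsGeometric ∧ AlgSp.Points.mk p = x ∧ Nontrivial ↥(AlgSp.stalkEt p O')} := by
  rw [← isOpen_compl_iff, isOpen_iff_forall_mem_open]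
  intro x hx
  simp only [Set.mem_compl_iff, Set.mem_ofPred_eq, not_exists, not_and] at hx
  obtain ⟨p, hp, rfl⟩ := SH.exists_geometric x
  haveI : HasColimitsOfSize.{u, u} CommRingCat.{u + 1} := hasColimitsOfSizeShrink.{u, u, u + 1, u + 1} _
  haveI : PreservesFilteredColimitsOfSize.{u, u} (CategoryTheory.forget CommRingCat.{u + 1}) :=
    preservesFilteredColimitsOfSize_shrink.{u, u + 1, u, u + 1} _
  haveI : Subsingleton ↥(AlgSp.stalkEt p O') := not_nontrivial_iff_subsingleton.1 (hx p hp rfl)
  obtain ⟨⟨E, l⟩⟩ : Nonempty (AlgSp.EtNbhd p) := (Groth.Agent.S10217.result X p hp).nonempty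
  obtain ⟨V, f, l', -, hf⟩ := ((SH.sitePoint p hp).toPresheafFiber_eq_iff' (P := O'.obj) E l
    (1 : ↥(O'.obj.obj (Opposite.op E))) 0).1 (Subsingleton.elim (α := ↥(AlgSp.stalkEt p O')) _ _)
  have h10 : (1 : ↥(O'.obj.obj (Opposite.op V))) = 0 :=
    ((map_one (O'.obj.map f.op).hom).symm.trans hf).trans (map_zero (O'.obj.map f.op).hom)
  refine ⟨_, ?_, isOpen_range_ofPt V, ⟨_, (mk_eq_ofPt_lift p l').symm⟩⟩
  rintro _ ⟨v, rfl⟩ ⟨q, hq, hqv, hn⟩
  obtain ⟨lq, -⟩ := exists_lift_of_mem_range q hq v hqv
  have e := congrArg (AlgSp.stalkEtι q O' ⟨V, lq⟩).hom h10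
  rw [map_one, map_zero] at e
  exact one_ne_zero e

end Groth.Agent.S10257
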