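import Groth.Statements.S10264
import Groth.Agent.L23.LocP

set_option autoImplicit false
set_option backward.isDefEq.respectTransparency.types false
universe u
open CategoryTheory CategoryTheory.Limits AlgebraicGeometry
open AlgSp

namespace Groth.Agent.S10264
open Groth.L23

/-- An immersion of algebraic spaces is unramified. -/
theorem result {S : Scheme.{u}} {X Y : AlgSp.Space S} (i : X ⟶ Y)
    (hi : AlgSp.RepWith @IsImmersion i.hom) :
    AlgSp.LocP (@LocallyOfFiniteType ⊓ @FormallyUnramified) i.hom := locP_of_repWith etLocal_unramified (repWith_mono (P := @IsImmersion) (fun φ (_ : IsImmersion φ) => ⟨inferInstance, inferInstance⟩) hi)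

end Groth.Agent.S10264
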