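import Groth.Statements.S10268
import Groth.Agent.L23.AffineMor
import Groth.Agent.L23.Cover

set_option autoImplicit false
set_option backward.isDefEq.respectTransparency.types false
universe u
open CategoryTheory CategoryTheory.Limits AlgebraicGeometry
open AlgSp

namespace Groth.Agent.S10268
open Groth.L23

/-- (3) ⇒ (2): integrality and finiteness of a morphism of algebraic spaces descend along a surjective
etale base change from a scheme. -/
theorem result {S : Scheme.{u}} {X Y : AlgSp.Space S} (f : X ⟶ Y) (V : Over S)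
    (p : (AlgSp.yon S).obj V ⟶ Y.obj) (hp : AlgSp.RepWith @Etale p) (hps : AlgSp.RepWith @Surjective p)
    {P : AlgSp.Sp S} (fst : P ⟶ X.obj) (snd : P ⟶ (AlgSp.yon S).obj V) (sq : IsPullback fst snd f.hom p) :
    (AlgSp.IsIntegralMor snd → AlgSp.IsIntegralMor f.hom) ∧ (AlgSp.IsFiniteMor snd → AlgSp.IsFiniteMor f.hom) := by
  have := isLocallySurjective_of_etale p hp hps
  refine ⟨fun h => ?_, fun h => ?_⟩
  · have hA : IsAffineMor f.hom :=
      isAffineMor_of_cover hp hps sq fun Z hZ g => by
        obtain ⟨W, i, fst, s, hW, -⟩ := h hZ g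
        exact ⟨W, i, fst, s, hW⟩
    have : MorphismProperty.IsLocalAtTarget @IsIntegralHom Scheme.fppfPrecoverage.{u} :=
      isLocalAtTarget_fppf _
    exact isIntegralMor_iff.2
      (repWith_of_locallySurjective (isAffineMor_iff.1 hA).1 sq (isIntegralMor_iff.1 h))
  · have hA : IsAffineMor f.hom :=
      isAffineMor_of_cover hp hps sq fun Z hZ g => by
        obtain ⟨W, i, fst, s, hW, -⟩ := h hZ g
        exact ⟨W, i, fst, s, hW⟩
    have : MorphismProperty.IsLocalAtTarget @IsFinite Scheme.fppfPrecoverage.{u} :=
      isLocalAtTarget_fppf _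
    exact isFiniteMor_iff.2
      (repWith_of_locallySurjective (isAffineMor_iff.1 hA).1 sq (isFiniteMor_iff.1 h))

end Groth.Agent.S10268
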