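import Groth.Statements.S10269
import Groth.Agent.L23.AffineMor
import Groth.Agent.L23.LocP

set_option autoImplicit false
set_option backward.isDefEq.respectTransparency.types false
universe u
open CategoryTheory CategoryTheory.Limits AlgebraicGeometry
open AlgSp

namespace Groth.Agent.S10269
open Groth.L23

/-- A finite morphism of algebraic spaces is integral; an integral morphism locally of finite type is
finite. -/
theorem result {S : Scheme.{u}} {X Y : AlgSp.Space S} (f : X ⟶ Y) :
    (AlgSp.IsFiniteMor f.hom → AlgSp.IsIntegralMor f.hom) ∧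
    (AlgSp.IsIntegralMor f.hom → AlgSp.LocP @LocallyOfFiniteType f.hom → AlgSp.IsFiniteMor f.hom) := by
  refine ⟨fun h Z hZ g => ?_, fun h hl => ?_⟩
  · obtain ⟨W, i, fst, s, hW, hi⟩ := h hZ g
    exact ⟨W, i, fst, s, hW, inferInstance⟩
  · have hi := isIntegralMor_iff.1 h
    have hl' := repWith_of_locP etLocal_lft Y.property hi.1 hl
    exact isFiniteMor_iff.2 (repWith_mono (fun φ hφ =>
      (IsFinite.iff_isIntegralHom_and_locallyOfFiniteType φ).2 hφ) (repWith_inf_iff.2 ⟨hi, hl'⟩))

end Groth.Agent.S10269
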