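import Groth.Statements.S10270
import Groth.Agent.L23.AffineMor
import Groth.Agent.L23.Univ

set_option autoImplicit false
set_option backward.isDefEq.respectTransparency.types false
universe u
open CategoryTheory CategoryTheory.Limits AlgebraicGeometry
open AlgSp

namespace Groth.Agent.S10270
open Groth.L23

/-- A morphism of algebraic spaces is integral if and only if it is affine and universally closed. -/
theorem result {S : Scheme.{u}} {X Y : AlgSp.Space S} (f : X ⟶ Y) :
    AlgSp.IsIntegralMor f.hom ↔ (AlgSp.IsAffineMor f.hom ∧ AlgSp.IsUnivClosedMor f.hom) := by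
  refine ⟨fun h => ?_, fun ⟨ha, hc⟩ => ?_⟩
  · have hi := isIntegralMor_iff.1 h
    exact ⟨isAffineMor_iff.2 (repWith_mono (fun φ (_ : IsIntegralHom φ) => by infer_instance) hi),
      (repWith_universallyClosed_iff hi.1).1
        (repWith_mono (fun φ (_ : IsIntegralHom φ) => by infer_instance) hi)⟩
  · have ha' := isAffineMor_iff.1 ha
    exact isIntegralMor_iff.2 (repWith_mono (fun φ hφ =>
      IsIntegralHom.iff_universallyClosed_and_isAffineHom.2 hφ)
      (repWith_inf_iff.2 ⟨(repWith_universallyClosed_iff ha'.1).2 hc, ha'⟩))

end Groth.Agent.S10270
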