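import Groth.Statements.S1028
import Groth.Agent.L10.K0.Euler
import Groth.Agent.Lead.ResD
import Groth.Agent.L29.DCoh.Amplitude

set_option autoImplicit false
set_option backward.defeqAttrib.useBackward true
set_option backward.isDefEq.respectTransparency false
set_option backward.isDefEq.respectTransparency.types false
set_option backward.defeqAttrib.useBackward true
set_option backward.isDefEq.respectTransparency false
universe u
open CategoryTheory CategoryTheory.Limits AlgebraicGeometry
attribute [local instance] HasDerivedCategory.standard
open KZero

namespace Groth.Agent.S1028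

/-- Let the scheme X be quasi-compact, quasi-separated and have the resolution property. There is an
isomorphism between K₀(Vect(X)) (free abelian group on finite locally free O_X-modules modulo short
exact sequences of such) and K₀(X) = K₀(D_perf(O_X)) (free abelian group on perfect objects of
D(O_X) modulo distinguished triangles of perfect objects) sending the class of a finite locally free
module E to the class of E placed in degree 0. -/
theorem result (X : Scheme.{u}) [CompactSpace ↥X] [QuasiSeparatedSpace ↥X] (hX : PerfAux.HasResolutionProperty X) :
    ∃ φ : KZero.K0sub (fun M : X.Modules => FlatMod.IsFinLocFree M) ≃+ KZero.K0tr (fun K : DCoh.D X => DCoh.IsPerfect K),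
      ∀ E : X.Modules, FlatMod.IsFinLocFree E →
        φ (KZero.clSub (fun M : X.Modules => FlatMod.IsFinLocFree M) E) = KZero.clTr (fun K : DCoh.D X => DCoh.IsPerfect K) (DCoh.inD X E) := by
  haveI : ObjectProperty.IsClosedUnderIsomorphisms (fun M : X.Modules => FlatMod.IsFinLocFree M) :=
    ⟨fun e h => Groth.L29.LocFree.of_iso e h⟩
  haveI : ObjectProperty.IsClosedUnderIsomorphisms (fun K : DCoh.D X => DCoh.IsPerfect K) :=
    ⟨fun e h => Groth.L29.DC.isPerfect_of_iso e h⟩
  have hP : Groth.L10.K0Euler.Good (fun M : X.Modules => FlatMod.IsFinLocFree M) :=
    { zero := fun _ hZ => Groth.L29.LocFree.of_isZero hZ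
      biprod := fun h1 h2 => Groth.L29.LocFree.biprod h1 h2
      ker := fun p _ h1 h2 => Groth.L29.DC.isFinLocFree_kernel_of_epi p h1 h2 }
  exact Groth.L10.K0Euler.exists_equiv hP
    (fun E hE => Groth.L29.DC.PushPerfect.isPerfect_of_strictly hE)
    (fun K hK => Groth.Lead.ResD.exists_strictlyPerfect hX K hK)
    (fun E F hE hF α => Groth.Lead.ResD.exists_roof hX E F hE hF α)

end Groth.Agent.S1028
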