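import Groth.Statements.S10281
import Groth.Agent.L23.ProperSchImage

set_option autoImplicit false
universe u
open CategoryTheory CategoryTheory.Limits AlgebraicGeometry
open AlgSp

namespace Groth.Agent.S10281

/-- The scheme theoretic image of a space proper over B in a space separated and locally of finite type
over B is proper over B, and the source surjects onto it. -/
theorem result {S : Scheme.{u}} {X Y Z B : AlgSp.Space S} (h : X ⟶ Y) (f : X ⟶ B)
    (g : Y ⟶ B) (comm : h ≫ g = f) (hf : AlgSp.IsProperMor f.hom) (hg : AlgSp.IsSeparatedMor g.hom)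
    (hg' : AlgSp.LocP @LocallyOfFiniteType g.hom) (i : Z ⟶ Y) (hZ : AlgSp.IsSchImage h.hom i.hom)
    (h' : X ⟶ Z) (fac : h' ≫ i = h) :
    AlgSp.IsProperMor (i ≫ g).hom ∧ AlgSp.IsSurjectiveMor h'.hom := by
  have h1 : h.hom ≫ g.hom = f.hom := congrArg (fun φ => φ.hom) comm
  rw [← h1] at hf
  exact Groth.L23.ProperImage.schImage_of_proper X.property Y.property Z.property B.property hf hg hg' hZ
    (congrArg (fun φ => φ.hom) fac : h'.hom ≫ i.hom = h.hom)

end Groth.Agent.S10281
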