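import Groth.Statements.S10288
import Groth.Agent.L23.Valuative2

set_option autoImplicit false
set_option backward.isDefEq.respectTransparency.types false
universe u
open CategoryTheory CategoryTheory.Limits AlgebraicGeometry
open AlgSp

namespace Groth.Agent.S10288
open Groth.L23

/-- A quasi-compact morphism of algebraic spaces satisfying the existence part of the valuative
criterion is universally closed. -/
theorem result {S : Scheme.{u}} {X Y : AlgSp.Space S} (f : X ⟶ Y)
    (hq : AlgSp.IsQuasiCompactMor f.hom) (he : AlgSp.ExistVC f.hom) : AlgSp.IsUnivClosedMor f.hom := isUnivClosedMor_of_existVC X.property Y.property hq he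

end Groth.Agent.S10288
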