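import Groth.Statements.S1029
import Groth.Agent.L29.K.PerfRing
import Groth.Agent.L29.K.TrEquiv
import Groth.Agent.L29.DCoh.TildeAlg
import Groth.Agent.L29.DCoh.TildeD
import Groth.Agent.L29.DCoh.PCQCoh
import Groth.Agent.L18.TildeFunctor

set_option autoImplicit false
set_option backward.isDefEq.respectTransparency false
set_option backward.isDefEq.respectTransparency.types false
universe u
open CategoryTheory CategoryTheory.Limits AlgebraicGeometry
attribute [local instance] HasDerivedCategory.standard
open KZero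

namespace Groth.Agent.S1029

noncomputable def singleIso {R : CommRingCat.{u}} [PreservesFiniteLimits (tilde.functor R)] (M : ModuleCat.{u} R) :
    (DCoh.tildeD R).obj ((DerivedCategory.singleFunctor (ModuleCat.{u} R) 0).obj M) ≅ DCoh.inD (Spec R) (tilde M) :=
  ((tilde.functor R).mapDerivedCategorySingleFunctor 0).app M

/-- Let A be a ring and X = Spec A. There is an isomorphism from K₀(A) (free abelian group on finite
projective A-modules modulo short exact sequences of such) to K₀(X) = K₀(D_perf(O_X)) (free abelian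
group on perfect objects of D(O_X) modulo distinguished triangles among them) sending the class of M
to the class of M~ placed in degree 0. -/
theorem result (A : Type u) [CommRing A] :
    ∃ φ : KZero.K0sub (fun M : ModuleCat.{u} A => Module.Finite A M ∧ Module.Projective A M) ≃+
        KZero.K0tr (fun K : DCoh.D (Spec (CommRingCat.of A)) => DCoh.IsPerfect K),
      ∀ (M : ModuleCat.{u} A), Module.Finite A M → Module.Projective A M →
        φ (KZero.clSub (fun M : ModuleCat.{u} A => Module.Finite A M ∧ Module.Projective A M) M) =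
          KZero.clTr (fun K : DCoh.D (Spec (CommRingCat.of A)) => DCoh.IsPerfect K) (DCoh.inD (Spec (CommRingCat.of A)) (tilde M)) := by
  haveI : PreservesFiniteLimits (tilde.functor (CommRingCat.of A)) := Groth.L18.TildeF.tilde_preservesFiniteLimits
  obtain ⟨hfull, hfaith⟩ := Groth.L29.DC.TildeD.fullyFaithful (R := CommRingCat.of A)
  haveI := hfull
  haveI := hfaith
  let Q : ObjectProperty (Dual.D A) := fun K => DRing.IsPerfect A K
  let Q' : ObjectProperty (DCoh.D (Spec (CommRingCat.of A))) := fun K => DCoh.IsPerfect K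
  let F : Dual.D A ⥤ DCoh.D (Spec (CommRingCat.of A)) := DCoh.tildeD (CommRingCat.of A)
  haveI : F.Full := hfull
  haveI : F.Faithful := hfaith
  have hQ : ∀ X, Q' (F.obj X) ↔ Q X := fun X =>
    ⟨fun h => Groth.L29.DC.TildeAlg.perfect_of_tilde h, fun h => Groth.L29.DC.TildeAlg.perfect_tilde h⟩
  obtain ⟨e, he⟩ := Groth.L29.KTr.exists_equiv F Q Q' hQ
    (fun Y hY => (Groth.L29.DC.TildeD.isQCohD_iff Y).1 (Groth.L29.DC.PCQCoh.isQCohD_of_perfect hY))
    Groth.L29.KPerf.qq_isZero (fun a h => Groth.L29.DC.isPerfect_of_iso a h)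
  refine ⟨Groth.L29.KPerf.equiv.trans e, fun M h1 h2 => ?_⟩
  have hM : Groth.L29.KPerf.PP A M := ⟨h1, h2⟩
  rw [AddEquiv.trans_apply, Groth.L29.KPerf.equiv_cl hM, he _ (Groth.L29.KPerf.qq_inD hM).1]
  have hP := (hQ _).2 (Groth.L29.KPerf.qq_inD hM).1
  let i := singleIso (R := CommRingCat.of A) M
  exact Groth.L29.KTr.iso (Q := Q')
    (fun Z hZ => Groth.L29.DC.isPerfect_of_iso ((F.map_isZero (isZero_zero _)).iso hZ)
      ((hQ _).2 (Groth.L29.KPerf.qq_isZero _ (isZero_zero _))))
    i hP (Groth.L29.DC.isPerfect_of_iso i hP)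

end Groth.Agent.S1029
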