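import Groth.Statements.S10294
import Groth.Agent.L23.AffineMor
import Groth.Agent.L23.LocP
import Groth.Agent.L23.SchemeFacts

set_option autoImplicit false
set_option backward.isDefEq.respectTransparency.types false
universe u
open CategoryTheory CategoryTheory.Limits AlgebraicGeometry
open AlgSp

namespace Groth.Agent.S10294
open Groth.L23

/-- Finite locally free is the same as finite, flat and locally of finite presentation; over a locally
Noetherian target it is the same as finite and flat. -/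
theorem result {S : Scheme.{u}} {X Y : AlgSp.Space S} (f : X ⟶ Y) :
    (AlgSp.IsFinLocFreeMor f.hom ↔
      (AlgSp.IsFiniteMor f.hom ∧ AlgSp.LocP @Flat f.hom ∧ AlgSp.LocP @LocallyOfFinitePresentation f.hom)) ∧
    (AlgSp.IsLocNoethSp Y.obj →
      (AlgSp.IsFinLocFreeMor f.hom ↔ (AlgSp.IsFiniteMor f.hom ∧ AlgSp.LocP @Flat f.hom))) := by
  have key : IsFinLocFreeMor f.hom ↔ (IsFiniteMor f.hom ∧ LocP @Flat f.hom ∧
      LocP @LocallyOfFinitePresentation f.hom) := by
    refine ⟨fun h => ⟨isFiniteMor_iff.2 (repWith_mono (fun φ hφ => hφ.1) h),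
      locP_of_repWith etLocal_flat (repWith_mono (fun φ hφ => hφ.2.1) h),
      locP_of_repWith etLocal_lfp (repWith_mono (fun φ hφ => hφ.2.2) h)⟩, fun ⟨a, b, c⟩ => ?_⟩
    have a' := isFiniteMor_iff.1 a
    exact repWith_mono (fun φ hφ => ⟨hφ.1.1, hφ.1.2, hφ.2⟩) (repWith_inf_iff.2
      ⟨repWith_inf_iff.2 ⟨a', repWith_of_locP etLocal_flat Y.property a'.1 b⟩,
        repWith_of_locP etLocal_lfp Y.property a'.1 c⟩)
  refine ⟨key, fun hN => ⟨fun h => ⟨(key.1 h).1, (key.1 h).2.1⟩, fun ⟨a, b⟩ => key.2 ⟨a, b, ?_⟩⟩⟩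
  obtain ⟨V, q, hq, hqs, hNV⟩ := hN
  obtain ⟨U, p, h, hp, w, hps⟩ := exists_chart_over X.property Y.property f.hom hq
  have hl : LocP @LocallyOfFiniteType f.hom := locP_of_repWith etLocal_lft
    (repWith_mono (fun φ (_ : IsFinite φ) => by infer_instance) (isFiniteMor_iff.1 a))
  have := hl p q h hp hq w
  exact locP_of_chart etLocal_lfp hp (hps hqs) hq w (lfp_of_lft_locallyNoetherian h.left)

end Groth.Agent.S10294
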