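import Groth.Statements.S10296
import Groth.Agent.L23.MorCalc
import Groth.Agent.L23.AffineMor

set_option autoImplicit false
set_option backward.isDefEq.respectTransparency.types false
universe u
open CategoryTheory CategoryTheory.Limits AlgebraicGeometry
open AlgSp

namespace Groth.Agent.S10296

/-- The induced morphism from the normalization of X in Y to any integral Z -> X through which Y -> X
factors is the normalization of Z in Y. -/
theorem result {S : Scheme.{u}} {Y X X' Z : AlgSp.Space S} (f : Y ⟶ X)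
    (hqc : AlgSp.IsQuasiCompactMor f.hom) (hqs : AlgSp.IsQuasiSeparatedMor f.hom) (ν : X' ⟶ X) (f' : Y ⟶ X')
    (hn : AlgSp.IsRelNormalization f.hom ν.hom f'.hom) (π : Z ⟶ X) (hπ : AlgSp.IsIntegralMor π.hom) (g : Y ⟶ Z)
    (hg : g ≫ π = f) (h : X' ⟶ Z) (h1 : f' ≫ h = g) (h2 : h ≫ π = ν) :
    AlgSp.IsRelNormalization g.hom h.hom f'.hom := by
  obtain ⟨hfac, hν, hu⟩ := hn
  have hfac' : f'.hom ≫ ν.hom = f.hom := hfac
  have h1' : f'.hom ≫ h.hom = g.hom := congr($(h1).hom)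
  have h2' : h.hom ≫ π.hom = ν.hom := congr($(h2).hom)
  have hg' : g.hom ≫ π.hom = f.hom := congr($(hg).hom)
  have hπr := Groth.L23.isIntegralMor_iff.1 hπ
  have hsep : AlgSp.IsSeparatedMor π.hom := (Groth.L23.isSeparatedMor_iff hπr.1).2
    (Groth.L23.repWith_mono (fun φ (_ : IsIntegralHom φ) => by infer_instance) hπr)
  have hh : AlgSp.IsIntegralMor h.hom := by
    refine Groth.L23.isIntegralMor_iff.2 (Groth.L23.repWith_of_comp_diagonal (q := π.hom) ?_
      (Groth.L23.repWith_mono (fun φ (_ : IsClosedImmersion φ) => by infer_instance) hsep))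
    rw [h2']
    exact Groth.L23.isIntegralMor_iff.1 hν
  refine ⟨h1', hh, fun W hW π' g' hπ' hg'' => ?_⟩
  have hint : AlgSp.IsIntegralMor (π' ≫ π.hom) := Groth.L23.isIntegralMor_iff.2
    (Groth.L23.repWith_comp (Groth.L23.isIntegralMor_iff.1 hπ') hπr)
  obtain ⟨k, ⟨hk₁, hk₂⟩, hku⟩ := hu hW (π' ≫ π.hom) g' hint (by rw [← Category.assoc, hg'', hg'])
  obtain ⟨k₀, -, hk₀⟩ := hu Z.property π.hom g.hom hπ hg'
  refine ⟨k, ⟨hk₁, ?_⟩, fun k' hk' => hku k' ⟨hk'.1, by rw [← Category.assoc, hk'.2, h2']⟩⟩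
  rw [hk₀ (k ≫ π') ⟨by rw [← Category.assoc, hk₁, hg''], by rw [Category.assoc, hk₂]⟩,
    hk₀ h.hom ⟨h1', h2'⟩]


end Groth.Agent.S10296
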