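import Groth.Statements.S10298
import Groth.Agent.L23.NormProps

set_option autoImplicit false
set_option backward.isDefEq.respectTransparency.types false
universe u
open CategoryTheory CategoryTheory.Limits AlgebraicGeometry
open AlgSp

namespace Groth.Agent.S10298

/-- For a quasi-compact quasi-separated morphism of schemes, the relative normalization of schemes is
the normalization in the sense of algebraic spaces. -/
theorem result {S : Scheme.{u}} {V U N : Over S} (g : V ⟶ U)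
    [QuasiCompact g.left] [QuasiSeparated g.left] (f' : V ⟶ N) (ν : N ⟶ U)
    (e : N.left ≅ g.left.normalization) (he1 : f'.left ≫ e.hom = g.left.toNormalization)
    (he2 : e.hom ≫ g.left.fromNormalization = ν.left) :
    AlgSp.IsRelNormalization ((AlgSp.yon S).map g) ((AlgSp.yon S).map ν) ((AlgSp.yon S).map f') := by
  have hqc : AlgSp.IsQuasiCompactMor ((AlgSp.yon S).map g) :=
    Groth.L23.isQuasiCompactMor_of_repWith (Groth.L23.repWith_map ‹QuasiCompact g.left›)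
  have hqs : AlgSp.IsQuasiSeparatedMor ((AlgSp.yon S).map g) :=
    (AlgSp.isQuasiSeparatedMor_yon_map_iff g).2 ‹QuasiSeparated g.left›
  obtain ⟨X₀, ν₀, f₀, hX₀, hloc⟩ := Groth.L23.Norm.exists_isLocNorm (AlgSp.IsAlgSpace.yon_obj U) _ hqc hqs
  have hν₀ := Groth.L23.isIntegralMor_iff.1 hloc.integral
  obtain ⟨N₀, θ, i, hθ, hθν⟩ : ∃ (N₀ : Over S) (θ : (AlgSp.yon S).obj N₀ ⟶ X₀) (i : N₀ ⟶ U),
      IsIso θ ∧ θ ≫ ν₀ = (AlgSp.yon S).map i := by
    have sq := hν₀.1.isPullback (𝟙 ((AlgSp.yon S).obj U))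
    exact ⟨_, _, _, sq.isIso_fst_of_isIso, by rw [sq.w, Category.comp_id]⟩
  have hi : IsIntegralHom i.left := (AlgSp.repWith_yon_map_iff @IsIntegralHom i).1
    (by rw [← hθν]; exact Groth.L23.repWith_comp (Groth.L23.repWith_of_isIso θ) hν₀)
  obtain ⟨t, ht⟩ := (AlgSp.yon S).map_surjective (f₀ ≫ inv θ)
  have hti : t ≫ i = g := (AlgSp.yon S).map_injective (by
    rw [Functor.map_comp, ht, ← hθν, Category.assoc, IsIso.inv_hom_id_assoc, hloc.fac])
  obtain ⟨hfac₀, hint₀, hu₀⟩ := hloc.isRelNormalization (AlgSp.IsAlgSpace.yon_obj U)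
  have hνi : IsIntegralHom ν.left := by rw [← he2]; infer_instance
  have hfν : f' ≫ ν = g := Over.OverMorphism.ext (by
    rw [Over.comp_left, ← he2, reassoc_of% he1]
    exact g.left.toNormalization_fromNormalization)
  have hνint : AlgSp.IsIntegralMor ((AlgSp.yon S).map ν) :=
    Groth.L23.isIntegralMor_iff.2 (Groth.L23.repWith_map hνi)
  have H : g.left = t.left ≫ i.left := by rw [← Over.comp_left, hti]
  obtain ⟨b₀, hb₀⟩ : ∃ b₀ : N.left ⟶ N₀.left, b₀ = e.hom ≫ g.left.normalizationDesc t.left i.left H := ⟨_, rfl⟩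
  have hb₀i : b₀ ≫ i.left = ν.left := by
    rw [hb₀, Category.assoc, Scheme.Hom.normalizationDesc_comp, he2]
  let b : N ⟶ N₀ := Over.homMk b₀ (by rw [← Over.w i, reassoc_of% hb₀i, Over.w ν])
  have hbi : b ≫ i = ν := Over.OverMorphism.ext hb₀i
  have hfb : f' ≫ b = t := Over.OverMorphism.ext (by
    show f'.left ≫ b₀ = t.left
    rw [hb₀, reassoc_of% he1, Scheme.Hom.toNormalization_normalizationDesc])
  have hB₁ : (AlgSp.yon S).map f' ≫ (AlgSp.yon S).map b ≫ θ = f₀ := by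
    rw [← Functor.map_comp_assoc, hfb, ht, Category.assoc, IsIso.inv_hom_id, Category.comp_id]
  have hB₂ : ((AlgSp.yon S).map b ≫ θ) ≫ ν₀ = (AlgSp.yon S).map ν := by
    rw [Category.assoc, hθν, ← Functor.map_comp, hbi]
  have huniq : ∀ k : N ⟶ N, f' ≫ k = f' → k ≫ ν = ν → k = 𝟙 N := fun k h₁ h₂ => by
    refine Over.OverMorphism.ext ((cancel_epi e.inv).1 (Scheme.Hom.normalization.hom_ext g.left _ _ ν.left ?_ ?_ ?_))
    · rw [← he1, Category.assoc, e.hom_inv_id_assoc, Category.assoc, e.hom_inv_id_assoc,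
        ← Over.comp_left, h₁, Over.id_left, Category.comp_id]
    · rw [Category.assoc, ← Over.comp_left, h₂, ← he2, e.inv_hom_id_assoc]
    · rw [Category.assoc, Over.id_left, Category.id_comp, ← he2, e.inv_hom_id_assoc]
  obtain ⟨a, ⟨ha₁, ha₂⟩, -⟩ := hu₀ (AlgSp.IsAlgSpace.yon_obj N) ((AlgSp.yon S).map ν) ((AlgSp.yon S).map f')
    hνint (by rw [← Functor.map_comp, hfν])
  obtain ⟨k, hk⟩ := (AlgSp.yon S).map_surjective (((AlgSp.yon S).map b ≫ θ) ≫ a)
  have hkid : k = 𝟙 N := huniq k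
    ((AlgSp.yon S).map_injective (by
      rw [Functor.map_comp, hk, Category.assoc, reassoc_of% hB₁, ha₁]))
    ((AlgSp.yon S).map_injective (by rw [Functor.map_comp, hk, Category.assoc, ha₂, hB₂]))
  have hBa : ((AlgSp.yon S).map b ≫ θ) ≫ a = 𝟙 _ := by rw [← hk, hkid, (AlgSp.yon S).map_id]
  refine ⟨by rw [← Functor.map_comp, hfν], hνint, fun Z hZ π g' hπ hg' => ?_⟩
  obtain ⟨h, ⟨h₁, h₂⟩, hhu⟩ := hu₀ hZ π g' hπ hg'
  refine ⟨((AlgSp.yon S).map b ≫ θ) ≫ h, ⟨by rw [Category.assoc, reassoc_of% hB₁, h₁],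
    by rw [Category.assoc, h₂, hB₂]⟩, fun k' hk' => ?_⟩
  rw [← hhu (a ≫ k') ⟨by rw [reassoc_of% ha₁, hk'.1], by rw [Category.assoc, hk'.2, ha₂]⟩, ← Category.assoc, hBa,
    Category.id_comp]


end Groth.Agent.S10298
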