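import Groth.Statements.S1030
import Groth.Agent.L10.ResStep

set_option autoImplicit false
set_option backward.defeqAttrib.useBackward true
set_option backward.isDefEq.respectTransparency false
universe v u
open CategoryTheory CategoryTheory.Limits
open CohDer

namespace Groth.Agent.S1030

/-- Let P be a class of objects of an abelian category, closed under isomorphisms, which holds for some
zero object, is closed under binary direct sums, and such that every object is a quotient of an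
object satisfying P. For any cochain complex K there are bounded above complexes Pₙ (n ≥ 0) with
terms satisfying P, termwise surjective quasi-isomorphisms πₙ : Pₙ ⟶ τ_{≤ n}K and termwise split
injections ιₙ : Pₙ ⟶ Pₙ₊₁ whose cokernels satisfy P termwise, compatible in the sense that Pₙ ⟶
τ_{≤n}K ⟶ K equals Pₙ ⟶ Pₙ₊₁ ⟶ τ_{≤n+1}K ⟶ K. (The source indexes from 1.) -/
theorem result {A : Type u} [Category.{v} A] [Abelian A] (P : ObjectProperty A) [P.IsClosedUnderIsomorphisms]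
    (hP0 : ∃ Z : A, IsZero Z ∧ P Z) (hPsum : ∀ X Y : A, P X → P Y → P (X ⊞ Y))
    (hP : ∀ X : A, ∃ (Y : A) (π : Y ⟶ X), P Y ∧ Epi π) (K : CochainComplex A ℤ) :
    ∃ (Q : ℕ → CochainComplex A ℤ) (ι : ∀ n, Q n ⟶ Q (n + 1)) (π : ∀ n : ℕ, Q n ⟶ K.truncLE (n : ℤ)),
      (∀ n, QuasiIso (π n) ∧ ∀ i, Epi ((π n).f i)) ∧
      (∀ n, ∃ b : ℤ, (Q n).IsStrictlyLE b) ∧ (∀ n i, P ((Q n).X i)) ∧
      (∀ n i, (∃ r : (Q (n + 1)).X i ⟶ (Q n).X i, (ι n).f i ≫ r = 𝟙 _) ∧ P (cokernel ((ι n).f i))) ∧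
      (∀ n : ℕ, π n ≫ K.ιTruncLE (n : ℤ) = ι n ≫ π (n + 1) ≫ K.ιTruncLE ((n + 1 : ℕ) : ℤ)) := by
  classical
  have hg : ∀ n : ℕ, ∃ g : K.truncLE (n : ℤ) ⟶ K.truncLE ((n + 1 : ℕ) : ℤ),
      g ≫ K.ιTruncLE ((n + 1 : ℕ) : ℤ) = K.ιTruncLE (n : ℤ) := fun n => by
    have : (K.truncLE (n : ℤ)).IsStrictlyLE ((n + 1 : ℕ) : ℤ) :=
      (K.truncLE (n : ℤ)).isStrictlyLE_of_le (n : ℤ) _ (by omega)
    refine ⟨inv ((K.truncLE (n : ℤ)).ιTruncLE ((n + 1 : ℕ) : ℤ)) ≫ CochainComplex.truncLEMap (K.ιTruncLE (n : ℤ)) ((n + 1 : ℕ) : ℤ), ?_⟩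
    rw [Category.assoc, CochainComplex.ιTruncLE_naturality, IsIso.inv_hom_id_assoc]
  choose g hg using hg
  let Stage : ℕ → Type _ := fun n => { S : Σ Q : CochainComplex A ℤ, Q ⟶ K.truncLE (n : ℤ) //
    QuasiIso S.2 ∧ (∀ i, Epi (S.2.f i)) ∧ S.1.IsStrictlyLE (n : ℤ) ∧ ∀ i, P (S.1.X i) }
  have h0 : Nonempty (Stage 0) := by
    obtain ⟨Q, α, hQ, hPQ, he, hq⟩ := Groth.L00.ClassResLeft.exists_res P hP0 hP (K.truncLE ((0 : ℕ) : ℤ)) ((0 : ℕ) : ℤ)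
    exact ⟨⟨⟨Q, α⟩, hq, he, hQ, hPQ⟩⟩
  have hs : ∀ (n : ℕ) (S : Stage n), ∃ (S' : Stage (n + 1)) (inc : S.1.1 ⟶ S'.1.1),
      inc ≫ S'.1.2 = S.1.2 ≫ g n ∧
      ∀ i, (∃ r : S'.1.1.X i ⟶ S.1.1.X i, inc.f i ≫ r = 𝟙 _) ∧ P (cokernel (inc.f i)) := fun n S => by
    obtain ⟨⟨Q, α⟩, hq, he, hQ, hPQ⟩ := S
    have : Q.IsStrictlyLE ((n + 1 : ℕ) : ℤ) := Q.isStrictlyLE_of_le (n : ℤ) _ (by omega)
    obtain ⟨K', incl, π, hcomp, hLE, hepi, hqi, hsplit⟩ :=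
      Groth.L10.ResStep.exists_step P hP0 hP (α ≫ g n) ((n + 1 : ℕ) : ℤ)
    refine ⟨⟨⟨K', π⟩, hqi, hepi, hLE, fun i => ?_⟩, incl, hcomp, fun i => ?_⟩
    · obtain ⟨r, hr, R, hR, ⟨e₁⟩, he₂⟩ := hsplit i
      exact P.prop_of_iso e₁.symm (hPsum _ _ (hPQ i) hR)
    · obtain ⟨r, hr, R, hR, he₁, ⟨e₂⟩⟩ := hsplit i
      exact ⟨⟨r, hr⟩, P.prop_of_iso e₂.symm hR⟩
  choose next inc hcomp hsplit using hs
  let S : ∀ n, Stage n := fun n => Nat.rec h0.some next n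
  refine ⟨fun n => (S n).1.1, fun n => inc n (S n), fun n => (S n).1.2, fun n => ⟨(S n).2.1, (S n).2.2.1⟩,
    fun n => ⟨_, (S n).2.2.2.1⟩, fun n => (S n).2.2.2.2, fun n i => hsplit n (S n) i, fun n => ?_⟩
  change _ = inc n (S n) ≫ (next n (S n)).1.2 ≫ _
  rw [← Category.assoc, hcomp, Category.assoc, hg]

end Groth.Agent.S1030
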