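import Groth.Statements.S10300
import Groth.Agent.L23.NormQF

set_option autoImplicit false
set_option backward.isDefEq.respectTransparency.types false
universe u
open CategoryTheory CategoryTheory.Limits AlgebraicGeometry
open AlgSp

namespace Groth.Agent.S10300

/-- For f quasi-finite and separated, the map from X to the normalization of Y in X is a quasi-compact
open immersion, and f is quasi-affine. -/
theorem result {S : Scheme.{u}} {X Y Y' : AlgSp.Space S}
    (f : X ⟶ Y) (hqf : AlgSp.LocP (@LocallyQuasiFinite ⊓ @LocallyOfFiniteType) f.hom)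
    (hqc : AlgSp.IsQuasiCompactMor f.hom) (hsep : AlgSp.IsSeparatedMor f.hom) (ν : Y' ⟶ Y) (f' : X ⟶ Y')
    (hn : AlgSp.IsRelNormalization f.hom ν.hom f'.hom) :
    AlgSp.RepWith @IsOpenImmersion f'.hom ∧ AlgSp.IsQuasiCompactMor f'.hom ∧ AlgSp.IsQuasiAffineMor f.hom := by
  have hqs : AlgSp.IsQuasiSeparatedMor f.hom := Groth.L23.repWith_mono (Q := (@QuasiCompact : MorphismProperty Scheme.{u}))
    (fun φ (_ : IsClosedImmersion φ) => inferInstanceAs (QuasiCompact φ)) hsep
  have hloc := Groth.L23.Norm.isLocNorm_of_isRelNormalization Y.property Y'.property hqc hqs hn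
  refine ⟨Groth.L23.Norm.isOpenImmersion_of_qf X.property Y.property Y'.property hloc hqc hsep hqf, ?_,
    Groth.L23.Norm.isQuasiAffineMor_of_qf X.property Y.property hqf hqc hsep⟩
  have hν := Groth.L23.isIntegralMor_iff.1 hloc.integral
  have hνs : AlgSp.IsSeparatedMor ν.hom := (Groth.L23.isSeparatedMor_iff hν.1).2
    (Groth.L23.repWith_mono (fun φ (_ : IsIntegralHom φ) => by infer_instance) hν)
  refine Groth.L23.qcMor_of_comp X.property Y'.property Y.property (g := ν.hom) ?_
    (Groth.L23.repWith_mono (Q := (@QuasiCompact : MorphismProperty Scheme.{u}))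
      (fun φ (_ : IsClosedImmersion φ) => inferInstanceAs (QuasiCompact φ)) hνs)
  rw [hloc.fac]
  exact hqc


end Groth.Agent.S10300
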