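import Groth.Statements.S10302
import Groth.Agent.L23.DimDecent

set_option autoImplicit false
set_option backward.isDefEq.respectTransparency.types false
universe u
open CategoryTheory CategoryTheory.Limits AlgebraicGeometry
open AlgSp

namespace Groth.Agent.S10302

/-- A flat morphism of algebraic spaces maps points of codimension 0 to points of codimension 0. -/
theorem result {S : Scheme.{u}} {X Y : AlgSp.Space S} (f : X ⟶ Y) (hf : AlgSp.LocP @Flat f.hom)
    (x : AlgSp.Points X.obj) (hx : AlgSp.HasAt (fun U u => ringKrullDim ↥(U.presheaf.stalk u) = 0) X.obj x) :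
    AlgSp.HasAt (fun U u => ringKrullDim ↥(U.presheaf.stalk u) = 0) Y.obj (AlgSp.Points.map f.hom x) := by
  obtain ⟨U, V, a, b, h, ha, has, hb, -, w⟩ := Groth.L23.exists_chart X.property Y.property f.hom
  obtain ⟨u, rfl⟩ := Groth.L23.surjective_ofPt has x
  have : Flat h.left := hf a b h ha hb w
  rw [AlgSp.Points.map_ofPt, w, Groth.L23.ofPt_comp]
  refine ⟨V, b, h.left u, hb, rfl, ?_⟩
  have h0 := (Groth.L23.Pt.hasAt_stalkDim_iff X.property ha u (fun t => t = 0)).1 hx
  show ringKrullDim _ = 0
  rw [AlgebraicGeometry.ringKrullDim_stalk_eq_coheight, WithBot.coe_eq_zero, Order.coheight_eq_zero] at h0 ⊢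
  intro y hy
  obtain ⟨u', hu', e⟩ := Flat.generalizingMap h.left (show y ⤳ h.left u from hy)
  exact e ▸ Specializes.map (show u ⤳ u' from h0 hu') h.left.continuous

end Groth.Agent.S10302
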