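import Groth.Statements.S10304
import Groth.Agent.L23.LocFinComp
import Groth.Agent.L23.StLocal
import Mathlib.AlgebraicGeometry.Morphisms.Etale

set_option autoImplicit false
set_option backward.isDefEq.respectTransparency.types false
set_option linter.style.haveILetI false
universe u
open CategoryTheory CategoryTheory.Limits AlgebraicGeometry
open AlgSp

namespace Groth.Agent.S10304

/-- Equivalent forms of the condition that the schemes etale over X have locally finitely many
irreducible components: one etale surjective chart, every etale chart, finiteness of codimension-0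
points of quasi-compact spaces etale over X, finiteness of irreducible components of such spaces. -/
theorem result {S : Scheme.{u}} (X : AlgSp.Space S) :
    (AlgSp.EtaleLocally (fun U => ∀ W : U.Opens, IsCompact (W : Set ↥U) → (irreducibleComponents ↥W).Finite) X.obj ↔
      ∀ (U : Over S) (a : (AlgSp.yon S).obj U ⟶ X.obj), AlgSp.RepWith @Etale a →
        ∀ W : U.left.Opens, IsCompact (W : Set ↥U.left) → (irreducibleComponents ↥W).Finite) ∧
    (AlgSp.EtaleLocally (fun U => ∀ W : U.Opens, IsCompact (W : Set ↥U) → (irreducibleComponents ↥W).Finite) X.obj ↔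
      ∀ (Y : AlgSp.Space S) (g : Y ⟶ X), AlgSp.IsEtaleMor g.hom → AlgSp.IsQuasiCompactSp Y.obj →
        {y : AlgSp.Points Y.obj |
          AlgSp.HasAt (fun U u => ringKrullDim ↥(U.presheaf.stalk u) = 0) Y.obj y}.Finite) ∧
    (AlgSp.EtaleLocally (fun U => ∀ W : U.Opens, IsCompact (W : Set ↥U) → (irreducibleComponents ↥W).Finite) X.obj ↔
      ∀ (Y : AlgSp.Space S) (g : Y ⟶ X), AlgSp.IsEtaleMor g.hom → AlgSp.IsQuasiCompactSp Y.obj →
        (irreducibleComponents (AlgSp.Points Y.obj)).Finite) := by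
  open Groth.L23 in
  have h1 : AlgSp.EtaleLocally LFC.LFin X.obj ↔
      ∀ (U : Over S) (a : (AlgSp.yon S).obj U ⟶ X.obj), AlgSp.RepWith @Etale a → LFC.LFin U.left := by
    constructor
    · exact fun h U a ha => LFC.lfin_chart h a ha
    · intro h
      obtain ⟨U, a, ha, has⟩ := X.property.atlas
      exact ⟨U, a, ha, has, h U a ha⟩
  have key : ∀ (Y : AlgSp.Space S) (g : Y ⟶ X), AlgSp.IsEtaleMor g.hom → AlgSp.IsQuasiCompactSp Y.obj →
      AlgSp.EtaleLocally Groth.L23.LFC.LFin X.obj →
      ∃ (U : Over S) (a : (AlgSp.yon S).obj U ⟶ Y.obj), RepWith @Etale a ∧ RepWith @Surjective a ∧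
        (Groth.L23.LFC.maxPts U.left).Finite := by
    intro Y g hg hqc hX
    obtain ⟨U, p, hp, hps, hU⟩ := hqc
    have hUc : CompactSpace U.left := hU
    refine ⟨U, p, hp, hps, ?_⟩
    have := (Groth.L23.LFC.finite_irr_opens_iff (⊤ : U.left.Opens)).1 (h1.1 hX U _ (hg p hp) ⊤ isCompact_univ)
    exact this.subset fun x hx => ⟨hx, trivial⟩
  have mkY : ∀ (U : Over S) (a : (AlgSp.yon S).obj U ⟶ X.obj), RepWith @Etale a →
      ∀ W : U.left.Opens, IsCompact (W : Set U.left) →
      ∃ (T : Over S) (g : (⟨(AlgSp.yon S).obj T, IsAlgSpace.yon_obj T⟩ : AlgSp.Space S) ⟶ X),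
        AlgSp.IsEtaleMor g.hom ∧ AlgSp.IsQuasiCompactSp ((AlgSp.yon S).obj T) ∧ T.left = (W : Scheme.{u}) := by
    intro U a ha W hW
    let T : Over S := Over.mk (W.ι ≫ U.hom)
    let i : (AlgSp.yon S).obj T ⟶ (AlgSp.yon S).obj U := (AlgSp.yon S).map (Over.homMk W.ι rfl : T ⟶ U)
    refine ⟨T, ⟨i ≫ a⟩, Groth.L23.StLocal.isEtaleMor_of_repWith (IsAlgSpace.yon_obj _) X.property
      (Groth.L23.repWith_comp (Groth.L23.repWith_etale_openMk W) ha), ?_, rfl⟩
    haveI : CompactSpace T.left := isCompact_iff_compactSpace.1 hW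
    exact Groth.L23.qcSp_of_compactSpace (IsAlgSpace.yon_obj _) (Points.schemeHomeo T).compactSpace
  refine ⟨h1, ⟨fun hX Y g hg hqc => ?_, fun H => h1.2 fun U a ha W hW => ?_⟩,
    ⟨fun hX Y g hg hqc => ?_, fun H => h1.2 fun U a ha W hW => ?_⟩⟩
  · obtain ⟨U, a, ha, has, hfin⟩ := key Y g hg hqc hX
    refine (hfin.image (Points.ofPt a)).subset ?_
    rintro y ⟨V, b, v, hb, rfl, hv⟩
    obtain ⟨R, r₁, r₂, sR⟩ : ∃ (R : Over S) (r₁ : R ⟶ U) (r₂ : R ⟶ V),
        IsPullback ((AlgSp.yon S).map r₁) ((AlgSp.yon S).map r₂) a b :=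
      Groth.L23.exists_isPullback_of_representable ha.1 b
    haveI : Etale r₁.left := Groth.L23.repWith_prop hb sR.flip
    haveI : Etale r₂.left := Groth.L23.repWith_prop ha sR
    haveI : Surjective r₂.left := Groth.L23.repWith_prop has sR
    obtain ⟨r, rfl⟩ := r₂.left.surjective v
    obtain ⟨r', hr', hm⟩ := Groth.L07.Equidim.exists_maximal_generization r
    have hv' : r₂.left r' = r₂.left r :=
      (Groth.L23.CodimOne.stalkDim_eq_zero_iff _).1 hv _ (hr'.map r₂.left.continuous)
    refine ⟨r₁.left r', Groth.L23.LFC.map_maxPts r₁.left hm, ?_⟩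
    rw [← Groth.L23.ofPt_comp, sR.w, Groth.L23.ofPt_comp, hv']
  · obtain ⟨T, g, hg, hqc, hT⟩ := mkY U a ha W hW
    have hf := H _ g hg hqc
    show (irreducibleComponents ↥(W : Scheme.{u})).Finite
    rw [← hT, Groth.L23.LFC.finite_irr_iff]
    refine (hf.preimage (Points.schemeEquiv T).injective.injOn).subset fun t ht => ?_
    exact ⟨T, 𝟙 _, t, AlgSp.repWith_id (@Etale) T, rfl, (Groth.L23.CodimOne.stalkDim_eq_zero_iff _).2 ht⟩
  · obtain ⟨U, a, ha, has, hfin⟩ := key Y g hg hqc hX
    exact Groth.L23.LFC.finite_components_of_surjective (Points.continuous_ofPt a)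
      (Groth.L23.surjective_ofPt has) ((Groth.L23.LFC.finite_irr_iff U.left).2 hfin)
  · obtain ⟨T, g, hg, hqc, hT⟩ := mkY U a ha W hW
    show (irreducibleComponents ↥(W : Scheme.{u})).Finite
    rw [← hT]
    exact Groth.L23.LFC.finite_components_of_surjective (Points.schemeHomeo T).symm.continuous
      (Points.schemeHomeo T).symm.surjective (H _ g hg hqc)

end Groth.Agent.S10304
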