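import Groth.Statements.S10307
import Groth.Agent.L23.PushEtFull
import Groth.Agent.L23.Univ

set_option autoImplicit false
set_option backward.isDefEq.respectTransparency.types false
universe u
open CategoryTheory CategoryTheory.Limits AlgebraicGeometry
open AlgSp

namespace Groth.Agent.S10307
open Groth.L23 Groth.L23.PushEt

/-- For an integral universally injective morphism f of algebraic spaces, f_* on small etale sites is
fully faithful on sheaves of sets and on abelian sheaves, and the counit from the pullback of the
pushforward to the identity is an isomorphism. (The description of the essential image is not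
included here.) -/
theorem result {S : Scheme.{u}} {Y X : AlgSp.Space S} (f : Y ⟶ X)
    (hi : AlgSp.RepWith @IsIntegralHom f.hom) (hu : AlgSp.IsUnivInjectiveMor f.hom) :
    ((AlgSp.pushEt hi.1 (Type (u + 1))).Full ∧ (AlgSp.pushEt hi.1 (Type (u + 1))).Faithful) ∧
    ((AlgSp.pushEt hi.1 AddCommGrpCat.{u + 1}).Full ∧ (AlgSp.pushEt hi.1 AddCommGrpCat.{u + 1}).Faithful) ∧
    IsIso (AlgSp.pullPushAdjEt hi.1 (Type (u + 1))).counit := by
  have hint : AlgSp.RepWith @IsIntegralHom f.hom := hi
  have hinj : AlgSp.RepWith @UniversallyInjective f.hom := (repWith_universallyInjective_iff hi.1).2 hu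
  haveI := full_pushEt_type hi.1 hint hinj
  haveI := faithful_pushEt (A := Type (u + 1)) hi.1 hint hinj
  exact ⟨⟨inferInstance, inferInstance⟩, ⟨full_pushEt_ab hi.1 hint hinj,
    faithful_pushEt hi.1 hint hinj⟩, inferInstance⟩

end Groth.Agent.S10307
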