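import Groth.Statements.S10309
import Groth.Agent.L23.FibreDimRetro

set_option autoImplicit false
universe u
open CategoryTheory CategoryTheory.Limits AlgebraicGeometry
open AlgSp

namespace Groth.Agent.S10309

/-- For f locally of finite presentation, the locus where the relative dimension is at most n is
retrocompact in |X|. -/
theorem result {S : Scheme.{u}} {X Y : AlgSp.Space S} (f : X ⟶ Y)
    (hf : AlgSp.LocP @LocallyOfFinitePresentation f.hom) (n : ℕ) (V : Set (AlgSp.Points X.obj))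
    (hV : IsOpen V) (hVc : IsCompact V) :
    IsCompact (V ∩ {x : AlgSp.Points X.obj |
      AlgSp.HasAtMor (fun _ _ h u => FlatMor.fibreDimAt h u ≤ (n : WithBot ℕ∞)) f.hom x}) := by
  classical
  obtain ⟨U, W, a, b, g, ha, has, hb, -, w⟩ := Groth.L23.exists_chart X.property Y.property f.hom
  haveI : LocallyOfFinitePresentation g.left := hf a b g ha hb w
  have hmap := Groth.L23.isOpenMap_ofPt ha
  have hcont := AlgSp.Points.continuous_ofPt a
  have key : ∀ x : ↥V, ∃ (u : U.left) (A : W.left.Opens) (B : U.left.Opens), IsAffineOpen A ∧ IsAffineOpen B ∧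
      B ≤ g.left ⁻¹ᵁ A ∧ u ∈ B ∧ (B : Set U.left) ⊆ AlgSp.Points.ofPt a ⁻¹' V ∧ AlgSp.Points.ofPt a u = x.1 := by
    intro x
    obtain ⟨u, hu⟩ := Groth.L23.surjective_ofPt has x.1
    obtain ⟨A, B, hA, hB, hle, hu', hBV⟩ := Groth.L23.FibRetro.exists_affine_pair g.left (hV.preimage hcont)
      (show u ∈ AlgSp.Points.ofPt a ⁻¹' V from (congrArg (· ∈ V) hu).mpr x.2)
    exact ⟨u, A, B, hA, hB, hle, hu', hBV, hu⟩
  choose u A B hA hB hle hu hBV hux using key
  obtain ⟨s, hs⟩ := hVc.elim_finite_subcover (fun x => AlgSp.Points.ofPt a '' (B x : Set U.left))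
    (fun x => hmap _ (B x).2) fun x hx => Set.mem_iUnion.2 ⟨⟨x, hx⟩, u ⟨x, hx⟩, hu _, hux _⟩
  have e : V ∩ {x : AlgSp.Points X.obj | AlgSp.HasAtMor (fun _ _ h u => FlatMor.fibreDimAt h u ≤ (n : WithBot ℕ∞)) f.hom x} =
      ⋃ x ∈ s, AlgSp.Points.ofPt a '' ((B x : Set U.left) ∩ {z | FlatMor.fibreDimAt g.left z ≤ n}) := by
    ext z
    constructor
    · rintro ⟨hzV, hz⟩
      obtain ⟨i, hi, v, hv, rfl⟩ := Set.mem_iUnion₂.1 (hs hzV)
      exact Set.mem_biUnion hi ⟨v, ⟨hv, (Groth.L23.hasAtMor_fibreDim_iff (· ≤ (n : WithBot ℕ∞)) ha hb w v).1 hz⟩, rfl⟩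
    · intro hz
      obtain ⟨i, hi, v, ⟨hv, hv'⟩, rfl⟩ := Set.mem_iUnion₂.1 hz
      exact ⟨hBV i hv, (Groth.L23.hasAtMor_fibreDim_iff (· ≤ (n : WithBot ℕ∞)) ha hb w v).2 hv'⟩
  rw [e]
  exact s.finite_toSet.isCompact_biUnion fun x _ =>
    (Groth.L23.FibRetro.isCompact_inter_affine g.left n (hA x) (hB x) (hle x)).image hcont

end Groth.Agent.S10309
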