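import Groth.Statements.S10310
import Groth.Agent.L23.RelDimZero

set_option autoImplicit false
set_option backward.isDefEq.respectTransparency.types false
universe u
open CategoryTheory CategoryTheory.Limits AlgebraicGeometry
open AlgSp

namespace Groth.Agent.S10310

/-- A morphism locally of finite type is locally quasi-finite if and only if it has relative dimension 0
at every point. -/
theorem result {S : Scheme.{u}} {X Y : AlgSp.Space S} (f : X ⟶ Y)
    (hf : AlgSp.LocP @LocallyOfFiniteType f.hom) :
    AlgSp.LocP (@LocallyQuasiFinite ⊓ @LocallyOfFiniteType) f.hom ↔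
      ∀ x : AlgSp.Points X.obj, AlgSp.HasAtMor (fun _ _ h u => FlatMor.fibreDimAt h u = 0) f.hom x := by
  obtain ⟨U, V, a, b, h, ha, has, hb, hbs, w⟩ := Groth.L23.exists_chart X.property Y.property f.hom
  have : LocallyOfFiniteType h.left := hf a b h ha hb w
  rw [Groth.L23.forall_hasAtMor_fibreDim_iff (fun e => e = 0) ha has hb w,
    ← Groth.L23.locallyQuasiFinite_iff_fibreDim h.left]
  exact ⟨fun H => (H a b h ha hb w).1, fun H => Groth.L23.locP_of_chart Groth.L23.etLocal_lqfLft ha has hb w ⟨H, this⟩⟩

end Groth.Agent.S10310
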