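import Groth.Statements.S10311
import Groth.Agent.L23.QFPoints
import Groth.Agent.L23.FibreDimBC
import Groth.Agent.L23.Points

set_option autoImplicit false
set_option backward.isDefEq.respectTransparency.types false
universe u
open CategoryTheory CategoryTheory.Limits AlgebraicGeometry
open AlgSp

namespace Groth.Agent.S10311

/-- The relative dimension at a point of a morphism locally of finite type is preserved by base change. -/
theorem result {S : Scheme.{u}} {X Y Y' X' : AlgSp.Space S} (f : X ⟶ Y) (g : Y' ⟶ Y)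
    (g' : X' ⟶ X) (f' : X' ⟶ Y') (sq : IsPullback g'.hom f'.hom f.hom g.hom)
    (hf : AlgSp.LocP @LocallyOfFiniteType f.hom) (x' : AlgSp.Points X'.obj) (d : WithBot ℕ∞)
    (hd : AlgSp.HasAtMor (fun _ _ h u => FlatMor.fibreDimAt h u = d) f.hom (AlgSp.Points.map g'.hom x')) :
    AlgSp.HasAtMor (fun _ _ h u => FlatMor.fibreDimAt h u = d) f'.hom x' := by
  obtain ⟨U, V, a, b, h, u, ha, hb, w, e, hd⟩ := hd
  haveI : LocallyOfFiniteType h.left := hf a b h ha hb w
  obtain ⟨U', V₁, a', b', h', q, r, z, ha', hb', w', sU, hz, hx⟩ :=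
    Groth.L23.QFL.exists_chart_of_isPullback Y'.property sq ha hb w e
  refine ⟨U', V₁, a', b', h', z, ha', hb', w', hx, ?_⟩
  show FlatMor.fibreDimAt h'.left z = d
  rw [Groth.L23.fibreDimAt_of_isPullback sU, hz]
  exact hd

end Groth.Agent.S10311
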