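import Groth.Statements.S10313
import Groth.Agent.L23.QFPoints

set_option autoImplicit false
set_option backward.isDefEq.respectTransparency.types false
universe u
open CategoryTheory CategoryTheory.Limits AlgebraicGeometry
open AlgSp

namespace Groth.Agent.S10313

/-- For f locally of finite type there is an open subspace of X on which f is locally quasi-finite,
outside of which the relative dimension is at least 1, and whose formation commutes with base
change. -/
theorem result {S : Scheme.{u}} {X Y : AlgSp.Space S} (f : X ⟶ Y)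
    (hf : AlgSp.LocP @LocallyOfFiniteType f.hom) :
    ∃ (X' : AlgSp.Space S) (j : X' ⟶ X), AlgSp.RepWith @IsOpenImmersion j.hom ∧
      AlgSp.LocP (@LocallyQuasiFinite ⊓ @LocallyOfFiniteType) (j ≫ f).hom ∧
      (∀ x : AlgSp.Points X.obj, x ∉ Set.range (AlgSp.Points.map j.hom) →
        AlgSp.HasAtMor (fun _ _ h u => 1 ≤ FlatMor.fibreDimAt h u) f.hom x) ∧
      ∀ (Y'' X'' : AlgSp.Space S) (g : Y'' ⟶ Y) (b : X'' ⟶ X) (f'' : X'' ⟶ Y''),
        IsPullback b.hom f''.hom f.hom g.hom → ∀ x'' : AlgSp.Points X''.obj,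
          AlgSp.Points.map b.hom x'' ∈ Set.range (AlgSp.Points.map j.hom) ↔ AlgSp.HasAtMor (fun U _ h u => ∃ W : U.Opens, u ∈ W ∧ LocallyQuasiFinite (W.ι ≫ h) ∧ LocallyOfFiniteType (W.ι ≫ h)) f''.hom x'' := by
  let W : TopologicalSpace.Opens (AlgSp.Points X.obj) := ⟨{x | AlgSp.HasAtMor Groth.L23.QFL.qfAt f.hom x}, Groth.L23.QFL.isOpen_qfSet f.hom⟩
  have hW := Groth.L23.isAlgSpace_openSub W X.property
  refine ⟨⟨Groth.L23.openSub W, hW⟩, ObjectProperty.homMk (Groth.L23.openSubι W),
    Groth.L23.repWith_openSubι W, ?_, ?_, ?_⟩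
  · refine Groth.L23.QFL.locP_of_hasAtMor fun x => (Groth.L23.QFL.hasAtMor_comp_iff hW Y.property ?_ x).2 ?_
    · exact Groth.L23.repWith_mono (fun φ (_ : IsOpenImmersion φ) => inferInstanceAs (Etale φ))
        (Groth.L23.repWith_openSubι W)
    · exact (Groth.L23.range_openSubι W).le ⟨x, rfl⟩
  · intro x hx
    rw [show Set.range (AlgSp.Points.map (ObjectProperty.homMk (Groth.L23.openSubι W) :
      (⟨Groth.L23.openSub W, hW⟩ : AlgSp.Space S) ⟶ X).hom) = W from Groth.L23.range_openSubι W] at hx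
    obtain ⟨U, V, a, b, h, ha, has, hb, -, w⟩ := Groth.L23.exists_chart X.property Y.property f.hom
    obtain ⟨u, rfl⟩ := Groth.L23.surjective_ofPt has x
    have : LocallyOfFiniteType h.left := hf a b h ha hb w
    exact ⟨U, V, a, b, h, u, ha, hb, w, rfl, Groth.L23.QFL.one_le_fibreDimAt h.left fun H =>
      hx ((Groth.L23.QFL.hasAtMor_iff ha hb w u).2 H)⟩
  · intro Y'' X'' g b f'' sq x''
    rw [show Set.range (AlgSp.Points.map (ObjectProperty.homMk (Groth.L23.openSubι W) :
      (⟨Groth.L23.openSub W, hW⟩ : AlgSp.Space S) ⟶ X).hom) = W from Groth.L23.range_openSubι W]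
    exact ⟨fun H => Groth.L23.QFL.hasAtMor_of_isPullback Y''.property sq H,
      fun H => Groth.L23.QFL.hasAtMor_descend X.property Y.property Y''.property sq hf H⟩


end Groth.Agent.S10313
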