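import Groth.Statements.S10315
import Groth.Agent.L23.SpaceFlatDim
import Groth.Agent.S9374
import Groth.Agent.L02.CMMor.AffineChart

set_option autoImplicit false
universe u
open CategoryTheory CategoryTheory.Limits AlgebraicGeometry
open AlgSp

namespace Groth.Agent.S10315

/-- For a smooth morphism of locally Noetherian algebraic spaces, the dimension of X at x is the
dimension of Y at the image of x plus the relative dimension of f at x. -/
theorem result {S : Scheme.{u}} {X Y : AlgSp.Space S} (f : X ⟶ Y)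
    (hX : AlgSp.IsLocNoethSp X.obj) (hY : AlgSp.IsLocNoethSp Y.obj) (hf : AlgSp.LocP @Smooth f.hom)
    (x : AlgSp.Points X.obj) (d dX dY : WithBot ℕ∞)
    (hd : AlgSp.HasAtMor (fun _ _ h u => FlatMor.fibreDimAt h u = d) f.hom x)
    (hx : AlgSp.HasAt (fun U u => FlatMor.localDim ↥U u = dX) X.obj x)
    (hy : AlgSp.HasAt (fun U u => FlatMor.localDim ↥U u = dY) Y.obj (AlgSp.Points.map f.hom x)) :
    dX = dY + d := by
  refine Groth.L23.FlatDim.localDim_eq_add X.property Y.property hX hY ?_ ?_ ?_ x d dX dY hd hx hy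
  · intro U V a b h ha hb w
    haveI := hf a b h ha hb w
    infer_instance
  · intro U V a b h ha hb w
    haveI := hf a b h ha hb w
    infer_instance
  rintro A B h ⟨U, V, a, b, g, rfl, rfl, ha, hb, w, hg⟩ u
  cases hg
  haveI : Smooth g.left := hf a b g ha hb w
  obtain ⟨p, q, -, -, hn⟩ := Groth.L07.DimToolkit.exists_fibreDimAt g.left u
  have hlc := Groth.Agent.S9374.result g.left (L02.CMMor.isCMAt_of_smooth g.left)
  exact ⟨⟨_, hlc.isOpen_fiber ((p + q : ℕ) : WithBot ℕ∞)⟩, p + q, hn, fun z hz => hz⟩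

end Groth.Agent.S10315
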