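import Groth.Statements.S10316
import Groth.Agent.L23.SpaceTrdeg

set_option autoImplicit false
universe u
open CategoryTheory CategoryTheory.Limits AlgebraicGeometry
open AlgSp

namespace Groth.Agent.S10316

/-- For X -> Y locally quasi-finite and Y -> Z locally of finite type, the transcendence degree of x
over Z equals that of its image y over Z. -/
theorem result {S : Scheme.{u}} {X Y Z : AlgSp.Space S} (f : X ⟶ Y) (g : Y ⟶ Z)
    (hf : AlgSp.LocP (@LocallyQuasiFinite ⊓ @LocallyOfFiniteType) f.hom) (hg : AlgSp.LocP @LocallyOfFiniteType g.hom)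
    (x : AlgSp.Points X.obj) (r : Cardinal.{u}) :
    AlgSp.HasAtMor (fun _ _ h u => Dual3.resTrdeg h u = r) (f ≫ g).hom x ↔
      AlgSp.HasAtMor (fun _ _ h u => Dual3.resTrdeg h u = r) g.hom (AlgSp.Points.map f.hom x) := by
  obtain ⟨U, V, W, a, b, c, h, k, ha, has, hb, hc, w, w', w''⟩ :=
    Groth.L23.Trdeg.exists_chart₂ X.property Y.property Z.property f.hom g.hom
  obtain ⟨u, rfl⟩ := Groth.L23.surjective_ofPt has x
  haveI : LocallyQuasiFinite h.left := (hf a b h ha hb w).1
  show AlgSp.HasAtMor _ (f.hom ≫ g.hom) _ ↔ _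
  rw [AlgSp.Points.map_ofPt, w, Groth.L23.ofPt_comp,
    Groth.L23.Trdeg.hasAtMor_resTrdeg_iff (· = r) ha hc w'' u,
    Groth.L23.Trdeg.hasAtMor_resTrdeg_iff (· = r) hb hc w' (h.left u), Over.comp_left,
    Groth.L23.Trdeg.resTrdeg_comp, Groth.L23.Trdeg.resTrdeg_eq_zero_of_locallyQuasiFinite h.left u, add_zero]

end Groth.Agent.S10316
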