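import Groth.Statements.S10317
import Groth.Agent.L23.NormProps
import Groth.Agent.L23.DimDecent
import Groth.Agent.L23.QsTop
import Mathlib.RingTheory.Ideal.MinimalPrime.Basic

set_option autoImplicit false
set_option backward.isDefEq.respectTransparency.types false
set_option linter.style.haveILetI false
universe u
open CategoryTheory CategoryTheory.Limits AlgebraicGeometry
open AlgSp

namespace Groth.Agent.S10317

open Groth.L23

/-- A point of dimension zero of an affine scheme lifts to one along an injection of global functions. -/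
theorem exists_minimal_lift {U N : Scheme.{u}} [IsAffine U] [IsAffine N] (n : U ⟶ N)
    (hn : Function.Injective n.appTop.hom) (z : N) (hz : ringKrullDim (N.presheaf.stalk z) = 0) :
    ∃ u : U, ringKrullDim (U.presheaf.stalk u) = 0 ∧ n u = z := by
  have hmin : ∀ y, y ⤳ z → y = z := fun y hy => by
    rw [ringKrullDim_stalk_eq_coheight, WithBot.coe_eq_zero, Order.coheight_eq_zero] at hz
    exact (hy.antisymm (hz hy)).eq
  have hcl : z ∈ closure (Set.range n) := by
    have hd : DenseRange (Spec.map n.appTop) :=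
      (PrimeSpectrum.denseRange_comap_iff_ker_le_nilRadical n.appTop.hom).2
        (by rw [(RingHom.injective_iff_ker_eq_bot _).1 hn]; exact bot_le)
    have h1 : DenseRange (U.isoSpec.hom ≫ Spec.map n.appTop ≫ N.isoSpec.inv) := by
      refine (N.isoSpec.inv.homeomorph.surjective.denseRange.comp ?_ N.isoSpec.inv.continuous)
      exact hd.comp U.isoSpec.hom.homeomorph.surjective.denseRange (Spec.map n.appTop).continuous
    rw [Scheme.isoSpec_hom, ← Scheme.toSpecΓ_naturality_assoc, Scheme.toSpecΓ_isoSpec_inv, Category.comp_id] at h1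
    exact h1 z
  -- generalizations lift
  obtain ⟨ρ, hρ⟩ : ∃ ρ : PrimeSpectrum Γ(N, ⊤), ρ = N.isoSpec.hom z := ⟨_, rfl⟩
  have hρmin : ρ.asIdeal ∈ minimalPrimes Γ(N, ⊤) := by
    refine ⟨⟨ρ.2, bot_le⟩, fun q hq hle => ?_⟩
    let q' : PrimeSpectrum Γ(N, ⊤) := ⟨q, hq.1⟩
    have h1 : q' ⤳ ρ := (PrimeSpectrum.le_iff_specializes q' ρ).1 hle
    have h2 := hmin (N.isoSpec.inv q') (by
      have := h1.map N.isoSpec.inv.continuous
      rwa [hρ, ← Scheme.Hom.comp_apply, Iso.hom_inv_id] at this)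
    have h3 : q' = ρ := by
      rw [hρ, ← h2, ← Scheme.Hom.comp_apply, Iso.inv_hom_id]
      rfl
    exact (congrArg PrimeSpectrum.asIdeal h3).ge
  have hkerρ : ρ.asIdeal ∈ (RingHom.ker n.appTop.hom).minimalPrimes := by
    rw [(RingHom.injective_iff_ker_eq_bot _).1 hn]
    exact hρmin
  obtain ⟨P, hP, -, hPρ⟩ := Ideal.exists_comap_eq_of_mem_minimalPrimes (I := ⊥) n.appTop.hom ρ.asIdeal hkerρ
  haveI := hP
  obtain ⟨P₀, hP₀, hle⟩ := Ideal.exists_minimalPrimes_le (bot_le : (⊥ : Ideal Γ(U, ⊤)) ≤ P)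
  haveI := hP₀.1.1
  let ν : PrimeSpectrum Γ(U, ⊤) := ⟨P₀, hP₀.1.1⟩
  refine ⟨U.isoSpec.inv ν, ?_, ?_⟩
  · rw [ringKrullDim_stalk_eq_coheight, WithBot.coe_eq_zero, Order.coheight_eq_zero]
    intro y hy
    have hy' : U.isoSpec.hom y ⤳ ν := by
      have := (show y ⤳ U.isoSpec.inv ν from hy).map U.isoSpec.hom.continuous
      rwa [← Scheme.Hom.comp_apply, Iso.inv_hom_id] at this
    have h4 : (U.isoSpec.hom y : PrimeSpectrum Γ(U, ⊤)) = ν := PrimeSpectrum.ext
      (le_antisymm ((PrimeSpectrum.le_iff_specializes (U.isoSpec.hom y) ν).2 hy')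
        (hP₀.2 ⟨PrimeSpectrum.isPrime _, bot_le⟩ ((PrimeSpectrum.le_iff_specializes (U.isoSpec.hom y) ν).2 hy')))
    show U.isoSpec.inv ν ⤳ y
    rw [← h4, ← Scheme.Hom.comp_apply, Iso.hom_inv_id]
    rfl
  · have h5 : (Spec.map n.appTop ν : PrimeSpectrum Γ(N, ⊤)) = ρ := PrimeSpectrum.ext (le_antisymm
      ((Ideal.comap_mono hle).trans hPρ.le)
      (hρmin.2 ⟨Ideal.IsPrime.comap _, bot_le⟩ ((Ideal.comap_mono hle).trans hPρ.le)))
    rw [show n (U.isoSpec.inv ν) = N.isoSpec.inv (Spec.map n.appTop ν) by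
      rw [← Scheme.Hom.comp_apply, ← Scheme.Hom.comp_apply]
      refine congrArg (fun m : Spec Γ(U, ⊤) ⟶ N => m ν) ?_
      rw [Iso.inv_comp_eq, Scheme.isoSpec_hom, ← Scheme.toSpecΓ_naturality_assoc, Scheme.toSpecΓ_isoSpec_inv,
        Category.comp_id]]
    rw [h5, hρ, ← Scheme.Hom.comp_apply, Iso.hom_inv_id]
    rfl

/-- A codimension-0 point of the normalization X' of X in Y is the image of a codimension-0 point of Y.
(The published statement is phrased for a morphism of schemes; this row states it for a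
quasi-compact quasi-separated morphism of algebraic spaces.) -/
theorem result {S : Scheme.{u}} {Y X X' : AlgSp.Space S} (f : Y ⟶ X)
    (hqc : AlgSp.IsQuasiCompactMor f.hom) (hqs : AlgSp.IsQuasiSeparatedMor f.hom) (ν : X' ⟶ X) (f' : Y ⟶ X')
    (hn : AlgSp.IsRelNormalization f.hom ν.hom f'.hom) (x' : AlgSp.Points X'.obj) (hx' : AlgSp.HasAt (fun U u => ringKrullDim ↥(U.presheaf.stalk u) = 0) X'.obj x') :
    ∃ y : AlgSp.Points Y.obj, AlgSp.HasAt (fun U u => ringKrullDim ↥(U.presheaf.stalk u) = 0) Y.obj y ∧ AlgSp.Points.map f'.hom y = x' := by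
  classical
  have hloc := Norm.isLocNorm_of_isRelNormalization X.property X'.property hqc hqs hn
  obtain ⟨V, v, hV, hv, hxv⟩ := exists_affine_etale_nhd X.property (Points.map ν.hom x')
  haveI := hV
  let c : Norm.Chart X.obj := ⟨V, v, hv⟩
  obtain ⟨N, νN, nX, sN, hNa, hNi⟩ := hloc.integral (Z := c.V) c.aff c.v
  haveI := hNa
  obtain ⟨r, hr⟩ : Points.map ν.hom x' ∈ Set.range (Points.map v) := by rw [range_map_yon]; exact hxv
  obtain ⟨q, hq1, -⟩ := exists_of_isPullback sN x' r hr.symm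
  obtain ⟨z, rfl⟩ := (Points.schemeHomeo N).surjective q
  have hne : RepWith @Etale nX := repWith_of_isPullback sN.flip hv
  have hz : ringKrullDim (N.left.presheaf.stalk z) = 0 := by
    refine (Pt.hasAt_stalkDim_iff X'.property hne z (fun d => d = 0)).1 ?_
    rw [Points.ofPt_eq_map_ofScheme]
    exact hq1.symm ▸ hx'
  have sP := IsPullback.of_hasPullback f.hom v
  obtain ⟨γ, hγ1, hγ2⟩ := sN.exists_lift (pullback.fst f.hom v ≫ f'.hom) (pullback.snd f.hom v)
    (by rw [Category.assoc, hloc.fac]; exact sP.w)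
  have hnorm := hloc.norm c _ _ _ sP N nX νN sN γ hγ1 hγ2
  have hPq := Norm.qcqs_chart hqc hqs c sP
  obtain ⟨U, R, p, r₁, r₂, hU, hR, hp⟩ := Norm.exists_isPres (pullback.snd f.hom v) hPq.1 hPq.2
  haveI := hU
  obtain ⟨k, hk⟩ := (yon S).map_surjective (p ≫ pullback.snd f.hom v)
  obtain ⟨N₀, ν₀, γ₀, n, hN₀, hn', he, hN₀'⟩ := Norm.exists_norm_of_pres (pullback.snd f.hom v) hp k hk
  obtain ⟨θ, -, hθ⟩ := hN₀'.exists_iso hnorm
  haveI : IsIso θ.hom.left := inferInstanceAs (IsIso ((Over.forget S).map θ.hom))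
  have hinj : Function.Injective (n ≫ θ.hom).left.appTop.hom := by
    rw [Over.comp_left, Scheme.Hom.comp_appTop, CommRingCat.hom_comp]
    haveI : IsIso θ.hom.left.appTop := inferInstanceAs (IsIso (θ.hom.left.app ⊤))
    exact he.inj.comp (ConcreteCategory.bijective_of_isIso θ.hom.left.appTop).1
  obtain ⟨u, hu, huz⟩ := exists_minimal_lift (n ≫ θ.hom).left hinj z hz
  let a := p ≫ pullback.fst f.hom v
  refine ⟨Points.ofPt a u, ⟨U, a, u, repWith_comp hp.etale (repWith_of_isPullback sP.flip hv), rfl, hu⟩, ?_⟩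
  rw [Points.map_ofPt, ← hq1]
  have e : a ≫ f'.hom = (yon S).map (n ≫ θ.hom) ≫ nX := by
    rw [Functor.map_comp, hn']
    simp only [Category.assoc]
    rw [reassoc_of% hθ, hγ1, Category.assoc]
  rw [e, ofPt_comp, huz]
  exact Points.ofPt_eq_map_ofScheme nX z

end Groth.Agent.S10317
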