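import Groth.Statements.S10318
import Groth.Agent.L23.SpaceTrdeg

set_option autoImplicit false
universe u
open CategoryTheory CategoryTheory.Limits AlgebraicGeometry
open AlgSp

namespace Groth.Agent.S10318

/-- Over a Jacobson algebraic space, a finite type point of a space locally of finite type over it has
transcendence degree 0 over its image. -/
theorem result {S : Scheme.{u}} {X Y : AlgSp.Space S} (f : X ⟶ Y)
    (hf : AlgSp.LocP @LocallyOfFiniteType f.hom) (hY : AlgSp.EtaleLocally (fun U => JacobsonSpace ↥U) Y.obj)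
    (x : AlgSp.Points X.obj) (hx : AlgSp.HasAt (fun U u => IsClosed ({u} : Set ↥U)) X.obj x) :
    AlgSp.HasAtMor (fun _ _ h u => Dual3.resTrdeg h u = 0) f.hom x := by
  obtain ⟨V, b, hb, hbs, -⟩ := hY
  obtain ⟨U, a, z, ha, rfl, hz⟩ := hx
  obtain ⟨U', a', h, z', ha', w, e, hz'⟩ := Groth.L23.Trdeg.exists_closed_lift (f := f.hom) hb hbs ha hz
  haveI : LocallyOfFiniteType h.left := hf a' b h ha' hb w
  exact ⟨U', V, a', b, h, z', ha', hb, w, e, Groth.L23.Trdeg.resTrdeg_eq_zero_of_isClosed h.left z' hz'⟩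

end Groth.Agent.S10318
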