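import Groth.Statements.S10321
import Groth.Agent.L23.LqfRep

set_option autoImplicit false
set_option backward.isDefEq.respectTransparency.types false
universe u
open CategoryTheory CategoryTheory.Limits AlgebraicGeometry
open AlgSp

namespace Groth.Agent.S10321

/-- Let X be separated and locally quasi-finite over an affine scheme T, let T' -> T be etale with T'
affine, and let V' be an open subspace of T' ×_T X that is quasi-affine over T'. Then V' maps onto a
quasi-compact open subspace of X that is itself a scheme. -/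
theorem result {S : Scheme.{u}} {T T' : Over S} [IsAffine T.left]
    [IsAffine T'.left] (e : T' ⟶ T) [Etale e.left] {X P V' : AlgSp.Space S} (f : X ⟶ (AlgSp.ofScheme S).obj T)
    (hsep : AlgSp.IsSeparatedMor f.hom) (hqf : AlgSp.LocP (@LocallyQuasiFinite ⊓ @LocallyOfFiniteType) f.hom)
    (p1 : P ⟶ (AlgSp.ofScheme S).obj T') (p2 : P ⟶ X)
    (sq : IsPullback p2.hom p1.hom f.hom ((AlgSp.yon S).map e)) (j : V' ⟶ P)
    (hj : AlgSp.RepWith @IsOpenImmersion j.hom) (hqa : AlgSp.IsQuasiAffineMor (j ≫ p1).hom) :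
    ∃ (W : Over S) (i : (AlgSp.yon S).obj W ⟶ X.obj), AlgSp.RepWith @IsOpenImmersion i ∧ CompactSpace ↥W.left ∧
      Set.range (AlgSp.Points.map i) = Set.range (AlgSp.Points.map (j ≫ p2).hom) := by
  obtain ⟨G, θ, hθ⟩ := Groth.L23.Lqf.exists_scheme_of_lqf X.property f.hom hqf hsep
  obtain ⟨W', k, fst, sqW, hW'⟩ := hqa (Z := T') inferInstance (𝟙 _)
  haveI : IsIso fst := by
    refine ⟨sqW.lift (𝟙 _) (j ≫ p1).hom ((Category.id_comp _).trans (Category.comp_id _).symm), ?_, sqW.lift_fst _ _ _⟩
    refine sqW.hom_ext ?_ ?_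
    · rw [Category.assoc, sqW.lift_fst, Category.comp_id, Category.id_comp]
    · rw [Category.assoc, sqW.lift_snd, Category.id_comp]
      exact sqW.w.trans (Category.comp_id _)
  have he : AlgSp.RepWith @Etale p2.hom :=
    Groth.L23.repWith_of_isPullback sq.flip ((AlgSp.repWith_yon_map_iff _ e).2 ‹_›)
  have hj' : AlgSp.RepWith @Etale j.hom :=
    Groth.L23.repWith_mono (fun φ (_ : IsOpenImmersion φ) => inferInstanceAs (Etale φ)) hj
  obtain ⟨m, hm⟩ := (AlgSp.yon S).map_surjective (fst ≫ (j ≫ p2).hom ≫ inv θ)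
  have hm' : Etale m.left := (AlgSp.repWith_yon_map_iff @Etale m).1 (by
    rw [hm]
    exact Groth.L23.repWith_comp (Groth.L23.repWith_of_isIso fst)
      (Groth.L23.repWith_comp (Groth.L23.repWith_comp hj' he) (Groth.L23.repWith_of_isIso _)))
  haveI : CompactSpace W'.left := hW'.toCompactSpace
  let O : G.left.Opens := ⟨Set.range m.left, m.left.isOpenMap.isOpen_range⟩
  let W : Over S := Groth.L23.openOver G O
  let jO : W ⟶ G := Groth.L23.openOverι G O
  have hjO : AlgSp.RepWith @IsOpenImmersion ((AlgSp.yon S).map jO) :=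
    (AlgSp.repWith_yon_map_iff _ _).2 (inferInstanceAs (IsOpenImmersion (Scheme.Opens.ι O)))
  refine ⟨W, (AlgSp.yon S).map jO ≫ θ,
    MorphismProperty.RespectsIso.postcomp (AlgSp.RepWith @IsOpenImmersion) _ _ hjO, ?_, ?_⟩
  · exact isCompact_iff_compactSpace.1 (show IsCompact (O : Set G.left) from isCompact_range m.left.continuous)
  · have e1 : Set.range (AlgSp.Points.map (j ≫ p2).hom) = Set.range (AlgSp.Points.ofPt (fst ≫ (j ≫ p2).hom)) := by
      rw [Groth.L23.OpenCharts.ofPt_eq_map, Set.range_comp,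
        (show Function.Surjective (AlgSp.Points.ofScheme W') from (AlgSp.Points.schemeEquiv W').surjective).range_eq,
        Set.image_univ]
      ext x
      constructor
      · rintro ⟨y, rfl⟩
        exact ⟨AlgSp.Points.map (inv fst) y, by rw [← AlgSp.Points.map_comp, IsIso.inv_hom_id_assoc]⟩
      · rintro ⟨y, rfl⟩
        exact ⟨AlgSp.Points.map fst y, (AlgSp.Points.map_comp _ _ _).symm⟩
    have e2 : fst ≫ (j ≫ p2).hom = (AlgSp.yon S).map m ≫ θ := by simp [hm]
    have e3 : Set.range (AlgSp.Points.map ((AlgSp.yon S).map jO ≫ θ)) =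
        Set.range (AlgSp.Points.ofPt ((AlgSp.yon S).map jO ≫ θ)) := by
      rw [Groth.L23.OpenCharts.ofPt_eq_map, Set.range_comp,
        (show Function.Surjective (AlgSp.Points.ofScheme W) from (AlgSp.Points.schemeEquiv W).surjective).range_eq,
        Set.image_univ]
    rw [e1, e2, e3]
    ext x
    constructor
    · rintro ⟨w, rfl⟩
      obtain ⟨y, hy⟩ := w.2
      exact ⟨y, by rw [Groth.L23.ofPt_comp, Groth.L23.ofPt_comp, hy]; rfl⟩
    · rintro ⟨y, rfl⟩
      exact ⟨⟨m.left y, y, rfl⟩, by rw [Groth.L23.ofPt_comp, Groth.L23.ofPt_comp]; rfl⟩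

end Groth.Agent.S10321
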