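
import Groth.Statements.S9687
import Groth.Agent.L22.LocQuotDim

set_option autoImplicit false
universe u
open CategoryTheory CategoryTheory.Limits AlgebraicGeometry
open Mor

namespace Groth.Agent.S9687

/-- Let S be locally Noetherian, f : X ⟶ S locally of finite type and x a point of X with image s. Let n
be the transcendence degree of κ(x) over κ(s) and let E bound the transcendence degree of κ(ξ) over
κ(f ξ) for every generic point ξ of an irreducible component of X passing through x. Then dim
O_{X,x} + n ≤ dim O_{S,s} + E. (The published statement takes E to be the maximum of these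
transcendence degrees; the statement with any upper bound E is equivalent.) -/
theorem result {X S : Scheme.{u}} [IsLocallyNoetherian S]
    (f : X ⟶ S) [LocallyOfFiniteType f] (x : X) (n E : ℕ)
    (hn : letI := (f.residueFieldMap x).hom.toAlgebra
      Algebra.trdeg (S.residueField (f.base x)) (X.residueField x) = n)
    (hE : ∀ ξ : X, closure {ξ} ∈ irreducibleComponents ↥X → ξ ⤳ x →
      letI := (f.residueFieldMap ξ).hom.toAlgebra
      Algebra.trdeg (S.residueField (f.base ξ)) (X.residueField ξ) ≤ E) :
    ringKrullDim (X.presheaf.stalk x) + n ≤ ringKrullDim (S.presheaf.stalk (f.base x)) + E := by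
  haveI : IsLocallyNoetherian X := LocallyOfFiniteType.isLocallyNoetherian f
  haveI : IsNoetherianRing (X.presheaf.stalk x) := inferInstance
  obtain ⟨P, hP, hdim⟩ : ∃ P : PrimeSpectrum (X.presheaf.stalk x),
      P.asIdeal ∈ minimalPrimes (X.presheaf.stalk x) ∧
      ringKrullDim (X.presheaf.stalk x) ≤ ringKrullDim (X.presheaf.stalk x ⧸ P.asIdeal) := by
    obtain ⟨s, hsl, hsn⟩ :=
      (IsLocalRing.maximalIdeal (X.presheaf.stalk x)).exists_ltSeries_length_eq_height
    have cs := Groth.L22.DimFormula.covBy_of_length_eq_height (s := s) (by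
      rw [hsn, hsl]; exact PrimeSpectrum.height_eq_orderHeight ⟨_, _⟩)
    refine ⟨s.head, ?_, ?_⟩
    · exact PrimeSpectrum.isMin_iff.1 cs.1
    · rw [← IsLocalRing.maximalIdeal_height_eq_ringKrullDim, ← hsn, ringKrullDim_quotient]
      let e : LTSeries (PrimeSpectrum.zeroLocus (R := X.presheaf.stalk x) s.head.asIdeal) :=
        LTSeries.mk s.length (fun i => ⟨s i, fun a ha => (LTSeries.head_le s i) ha⟩)
          (fun i j hij => s.strictMono hij)
      exact Order.LTSeries.length_le_krullDim e
  let ξ := X.fromSpecStalk x P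
  have hξx : ξ ⤳ x := Groth.L22.Cyc.specializes_fromSpecStalk x P
  have hmax : ∀ z, z ⤳ ξ → z = ξ := fun z hz => by
    obtain ⟨Q, rfl⟩ := Groth.L22.Cyc.exists_prime_of_specializes (hz.trans hξx)
    have hQP : Q ≤ P := (PrimeSpectrum.le_iff_specializes _ _).2
      ((X.fromSpecStalk x).isEmbedding.isInducing.specializes_iff.mp hz)
    exact congrArg _ (le_antisymm hQP ((PrimeSpectrum.isMin_iff.2 hP) hQP))
  have hcomp : closure ({ξ} : Set X) ∈ irreducibleComponents (X : Type u) := by
    refine ⟨isIrreducible_singleton.closure, fun T hT hle => ?_⟩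
    obtain ⟨η, hη⟩ := QuasiSober.sober hT.closure isClosed_closure
    have hηξ : η ⤳ ξ := hη.specializes (subset_closure (hle (subset_closure rfl)))
    have := hmax η hηξ
    subst this
    exact subset_closure.trans hη.symm.le
  have hker : RingHom.ker (Cyc.specMap x ξ hξx) = P.asIdeal := by
    have := Groth.L22.LocQuotDim.fromSpecStalk_ker_specMap x ξ hξx ⟨⊥, Ideal.isPrime_bot⟩
    have h1 := (X.fromSpecStalk x).isEmbedding.injective this
    exact congrArg PrimeSpectrum.asIdeal h1
  obtain ⟨D, hD, -, -, -⟩ := Groth.L22.LocQuotDim.exists_dim_locQuot x ξ hξx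
  obtain ⟨F, hF, -, -, -⟩ :=
    Groth.L22.LocQuotDim.exists_dim_locQuot (f x) (f ξ) (hξx.map f.continuous)
  have hle := hE ξ hcomp hξx
  obtain ⟨N, hN⟩ : ∃ N : ℕ, Groth.L22.Cyc.rtrdeg f ξ = N :=
    Cardinal.lt_aleph0.1 (lt_of_le_of_lt hle Cardinal.natCast_lt_aleph0)
  have hNE : N ≤ E := by
    have h : Groth.L22.Cyc.rtrdeg f ξ ≤ (E : Cardinal.{u}) := hle
    rw [hN] at h
    exact_mod_cast h
  have key := (Groth.L22.DimFormula.scheme_dim_formula f hξx (n := n) (N := N) hn hN).1
  have hX : ringKrullDim (X.presheaf.stalk x) ≤ ringKrullDim (Cyc.LocQuot x ξ hξx) := by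
    refine hdim.trans_eq ?_
    show _ = ringKrullDim (X.presheaf.stalk x ⧸ RingHom.ker (Cyc.specMap x ξ hξx))
    rw [hker]
  have hS : ringKrullDim (Cyc.LocQuot (f x) (f ξ) (hξx.map f.continuous)) ≤
      ringKrullDim (S.presheaf.stalk (f x)) := ringKrullDim_quotient_le _
  calc ringKrullDim (X.presheaf.stalk x) + n
      ≤ ringKrullDim (Cyc.LocQuot x ξ hξx) + n := by gcongr
    _ ≤ ringKrullDim (Cyc.LocQuot (f x) (f ξ) (hξx.map f.continuous)) + N := key
    _ ≤ ringKrullDim (S.presheaf.stalk (f x)) + E := by gcongr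

end Groth.Agent.S9687
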