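import Groth.Statements.S10323
import Groth.Agent.S9687
import Groth.Agent.L23.SpaceTrdeg
import Groth.Agent.L23.CodimOne
import Groth.Agent.L23.Decent3

set_option autoImplicit false
set_option backward.isDefEq.respectTransparency.types false
set_option linter.style.haveILetI false
universe u
open CategoryTheory CategoryTheory.Limits AlgebraicGeometry
open AlgSp

namespace Groth.Agent.S10323

/-- For Y locally Noetherian and f locally of finite type, the dimension of the local ring of X at x is
at most the dimension of the local ring of Y at the image point plus E minus the transcendence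
degree of x over its image, where E bounds the transcendence degrees of the codimension-0 points
specializing to x. -/
theorem result {S : Scheme.{u}} {X Y : AlgSp.Space S} (f : X ⟶ Y)
    (hY : AlgSp.IsLocNoethSp Y.obj) (hf : AlgSp.LocP @LocallyOfFiniteType f.hom) (x : AlgSp.Points X.obj)
    (E : Cardinal.{u})
    (hE : ∀ ξ : AlgSp.Points X.obj, ξ ⤳ x → AlgSp.HasAt (fun U u => ringKrullDim ↥(U.presheaf.stalk u) = 0) X.obj ξ →
      ∀ s : Cardinal.{u}, AlgSp.HasAtMor (fun _ _ h u => Dual3.resTrdeg h u = s) f.hom ξ → s ≤ E)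
    (a b : WithBot ℕ∞) (r : Cardinal.{u})
    (ha : AlgSp.HasAt (fun U u => ringKrullDim ↥(U.presheaf.stalk u) = a) X.obj x)
    (hb : AlgSp.HasAt (fun U u => ringKrullDim ↥(U.presheaf.stalk u) = b) Y.obj (AlgSp.Points.map f.hom x))
    (hr : AlgSp.HasAtMor (fun _ _ h u => Dual3.resTrdeg h u = r) f.hom x) :
    a + ((Cardinal.toENat r : ℕ∞) : WithBot ℕ∞) ≤ b + ((Cardinal.toENat E : ℕ∞) : WithBot ℕ∞) := by
  obtain ⟨U, V, A, B, h, hA, hAs, hB, -, w⟩ := Groth.L23.exists_chart X.property Y.property f.hom
  obtain ⟨u, rfl⟩ := Groth.L23.surjective_ofPt hAs x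
  haveI : LocallyOfFiniteType h.left := hf A B h hA hB w
  haveI : IsLocallyNoetherian V.left := Groth.L23.Pt.isLocallyNoetherian_of_chart Y.property hY hB
  have him : Points.map f.hom (Points.ofPt A u) = Points.ofPt B (h.left u) := by
    rw [Points.map_ofPt, w, Groth.L23.ofPt_comp]
  rw [Groth.L23.Pt.hasAt_stalkDim_iff X.property hA u (fun t => t = a)] at ha
  rw [him, Groth.L23.Pt.hasAt_stalkDim_iff Y.property hB (h.left u) (fun t => t = b)] at hb
  rw [Groth.L23.Trdeg.hasAtMor_resTrdeg_iff (fun t => t = r) hA hB w u] at hr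
  have hfin : ∀ z : U.left, ∃ n : ℕ, Dual3.resTrdeg h.left z = (n : Cardinal.{u}) := by
    intro z
    letI : (h.left.fiber (h.left z)).Over (Spec (CommRingCat.of (V.left.residueField (h.left z)))) :=
      ⟨h.left.fiberToSpecResidueField (h.left z)⟩
    haveI : LocallyOfFiniteType ((h.left.fiber (h.left z)) ↘ Spec (CommRingCat.of (V.left.residueField (h.left z)))) :=
      MorphismProperty.pullback_snd h.left (V.left.fromSpecResidueField (h.left z)) inferInstance
    obtain ⟨n, m, hn, -, -⟩ :=
      Groth.L22.SchemeDim.exists_localDim (V.left.residueField (h.left z)) (h.left.fiber (h.left z)) (h.left.asFiber z)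
    have := Groth.L22.Cyc.rtrdeg_fiberι h.left (h.left z) (h.left.asFiber z)
    rw [h.left.fiberι_asFiber z] at this
    exact ⟨n, this.trans hn⟩
  rcases lt_or_ge E Cardinal.aleph0 with hEf | hEi
  · obtain ⟨e, rfl⟩ := Cardinal.lt_aleph0.1 hEf
    obtain ⟨n, hn⟩ := hfin u
    have key := Groth.Agent.S9687.result h.left u n e hn fun ξ hξ hs => by
      refine hE (Points.ofPt A ξ) (hs.map (Points.continuous_ofPt A)) ?_ _ ?_
      · exact (Groth.L23.Pt.hasAt_stalkDim_iff X.property hA ξ (fun t => t = 0)).2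
          ((Groth.L23.CodimOne.stalkDim_eq_zero_iff ξ).2
            ((Groth.L07.EquidimQF.closure_singleton_mem_irreducibleComponents_iff ξ).1 hξ))
      · exact (Groth.L23.Trdeg.hasAtMor_resTrdeg_iff (fun t => t = Dual3.resTrdeg h.left ξ) hA hB w ξ).2 rfl
    rw [← ha, ← hb, ← hr, hn, Cardinal.toENat_nat, Cardinal.toENat_nat]
    exact_mod_cast key
  · rw [Cardinal.toENat_eq_top.2 hEi]
    have h0 : (0 : WithBot ℕ∞) ≤ b := hb ▸ ringKrullDim_nonneg_of_nontrivial
    cases b with
    | bot => simp at h0
    | coe d =>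
      rw [show ((d : WithBot ℕ∞) + ((⊤ : ℕ∞) : WithBot ℕ∞)) = ((d + ⊤ : ℕ∞) : WithBot ℕ∞) from rfl, add_top]
      exact le_top

end Groth.Agent.S10323
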