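import Groth.Statements.S10328
import Groth.Agent.L23.FibreDimComp
import Groth.Agent.L23.SpaceTrdeg
import Groth.Prelude.Def_AlgSpMor5

set_option autoImplicit false
universe u
open CategoryTheory CategoryTheory.Limits AlgebraicGeometry
open AlgSp

namespace Groth.Agent.S10328

/-- The relative dimension of a composite at a point is at most the sum of the relative dimensions, with
equality when the first morphism is flat at the point. (The published part (2) allows more generally
flatness of a fibre of X -> Y over a field point of Z; only the case f flat at x is stated.) -/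
theorem result {S : Scheme.{u}} {X Y Z : AlgSp.Space S} (f : X ⟶ Y) (g : Y ⟶ Z)
    (hf : AlgSp.LocP @LocallyOfFiniteType f.hom) (hg : AlgSp.LocP @LocallyOfFiniteType g.hom)
    (x : AlgSp.Points X.obj) (a b : WithBot ℕ∞)
    (ha : AlgSp.HasAtMor (fun _ _ h u => FlatMor.fibreDimAt h u = a) f.hom x)
    (hb : AlgSp.HasAtMor (fun _ _ h u => FlatMor.fibreDimAt h u = b) g.hom (AlgSp.Points.map f.hom x)) :
    AlgSp.HasAtMor (fun _ _ h u => FlatMor.fibreDimAt h u ≤ a + b) (f ≫ g).hom x ∧
    (AlgSp.IsFlatAtMor f.hom x → AlgSp.HasAtMor (fun _ _ h u => FlatMor.fibreDimAt h u = a + b) (f ≫ g).hom x) := by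
  obtain ⟨U, V, W, p, q, c, h, k, hp, has, hq, hc, w, w', w''⟩ :=
    Groth.L23.Trdeg.exists_chart₂ X.property Y.property Z.property f.hom g.hom
  obtain ⟨u, rfl⟩ := Groth.L23.surjective_ofPt has x
  haveI : LocallyOfFiniteType h.left := hf p q h hp hq w
  haveI : LocallyOfFiniteType k.left := hg q c k hq hc w'
  rw [Groth.L23.hasAtMor_fibreDim_iff (· = a) hp hq w u] at ha
  rw [AlgSp.Points.map_ofPt, w, Groth.L23.ofPt_comp,
    Groth.L23.hasAtMor_fibreDim_iff (· = b) hq hc w' (h.left u)] at hb
  refine ⟨⟨U, W, p, c, h ≫ k, u, hp, hc, w'', rfl, ?_⟩, fun hfl => ⟨U, W, p, c, h ≫ k, u, hp, hc, w'', rfl, ?_⟩⟩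
  · show FlatMor.fibreDimAt (h.left ≫ k.left) u ≤ a + b
    rw [← ha, ← hb]
    exact Groth.L23.FibComp.fibreDimAt_comp_le h.left k.left u
  · show FlatMor.fibreDimAt (h.left ≫ k.left) u = a + b
    rw [← ha, ← hb]
    exact Groth.L23.FibComp.fibreDimAt_comp_eq h.left k.left u (hfl p q h u hp hq w rfl)

end Groth.Agent.S10328
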