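import Groth.Statements.S10329
import Groth.Agent.L23.QFPoints

set_option autoImplicit false
set_option backward.isDefEq.respectTransparency.types false
universe u
open CategoryTheory CategoryTheory.Limits AlgebraicGeometry
open AlgSp

namespace Groth.Agent.S10329

/-- If the fibre of a morphism locally of finite type has dimension 0 at a point, then the morphism is
locally quasi-finite on some open subspace containing the image of that point. -/
theorem result {S : Scheme.{u}} {X Y F : AlgSp.Space S} (f : X ⟶ Y)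
    (hf : AlgSp.LocP @LocallyOfFiniteType f.hom) (k : Type u) [Field k] (str : Spec (.of k) ⟶ S)
    (y : (AlgSp.yon S).obj (Over.mk str) ⟶ Y.obj) (p : F ⟶ X) (q : F.obj ⟶ (AlgSp.yon S).obj (Over.mk str))
    (sq : IsPullback p.hom q f.hom y) (z : AlgSp.Points F.obj)
    (hz : AlgSp.HasAt (fun U u => FlatMor.localDim ↥U u = 0) F.obj z) :
    ∃ (X' : AlgSp.Space S) (j : X' ⟶ X), AlgSp.RepWith @IsOpenImmersion j.hom ∧
      AlgSp.Points.map p.hom z ∈ Set.range (AlgSp.Points.map j.hom) ∧
      AlgSp.LocP (@LocallyQuasiFinite ⊓ @LocallyOfFiniteType) (j ≫ f).hom := by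
  let W : TopologicalSpace.Opens (AlgSp.Points X.obj) := ⟨{x | AlgSp.HasAtMor Groth.L23.QFL.qfAt f.hom x}, Groth.L23.QFL.isOpen_qfSet f.hom⟩
  have hW := Groth.L23.isAlgSpace_openSub W X.property
  refine ⟨⟨Groth.L23.openSub W, hW⟩, ObjectProperty.homMk (Groth.L23.openSubι W),
    Groth.L23.repWith_openSubι W, (Groth.L23.range_openSubι W).ge ?_,
    Groth.L23.QFL.locP_of_hasAtMor fun x => (Groth.L23.QFL.hasAtMor_comp_iff hW Y.property
      (Groth.L23.repWith_mono (fun φ (_ : IsOpenImmersion φ) => inferInstanceAs (Etale φ))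
        (Groth.L23.repWith_openSubι W)) x).2 ((Groth.L23.range_openSubι W).le ⟨x, rfl⟩)⟩
  have hk := AlgSp.IsAlgSpace.yon_obj (Over.mk str)
  refine Groth.L23.QFL.hasAtMor_descend X.property Y.property hk sq hf (x' := z) ?_
  obtain ⟨U, a, u, ha, rfl, hd⟩ := hz
  obtain ⟨h, hh⟩ := (AlgSp.yon S).map_surjective (a ≫ q)
  have w : a ≫ q = (AlgSp.yon S).map h ≫ 𝟙 _ := by rw [Category.comp_id, hh]
  have hid : AlgSp.RepWith @Etale (𝟙 ((AlgSp.yon S).obj (Over.mk str))) :=
    Groth.L23.repWith_of_isIso (P := (@Etale : MorphismProperty Scheme.{u})) _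
  refine ⟨U, _, a, _, h, u, ha, hid, w, rfl, ?_⟩
  have : LocallyOfFiniteType h.left :=
    Groth.L23.locP_of_isPullback Groth.L23.etLocal_lft X.property Y.property hk sq hf _ _ h ha hid w
  have : IsLocallyNoetherian (Over.mk str).left := inferInstanceAs (IsLocallyNoetherian (Spec (.of k)))
  have := LocallyOfFiniteType.isLocallyNoetherian h.left
  exact Groth.L23.QFL.qfAt_of_isOpen_singleton h.left ((Groth.L23.isOpen_singleton_iff_localDim u).2 hd)


end Groth.Agent.S10329
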