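import Groth.Statements.S10330
import Groth.Agent.L23.FinLocFreeMod
import Groth.Agent.L23.AffineMor

set_option autoImplicit false
universe u
open CategoryTheory CategoryTheory.Limits AlgebraicGeometry Opposite
open AlgSp

set_option backward.isDefEq.respectTransparency false
set_option backward.isDefEq.respectTransparency.types false
set_option linter.style.haveILetI false

namespace Groth.Agent.S10330

/-- A morphism f : X -> Y of algebraic spaces over S that is representable by schemes is finite locally
free (all base changes to schemes are finite, flat and locally of finite presentation) if and only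
if f is affine and the direct image f_*O_X on the small etale site of Y is a finite locally free
O_Y-module (locally on the site it is free on finitely many generators). -/
theorem result {S : Scheme.{u}} {X Y : AlgSp.Space S} (f : X ⟶ Y)
    (hf : AlgSp.Representable f.hom) :
    AlgSp.IsFinLocFreeMor f.hom ↔
      AlgSp.IsAffineMor f.hom ∧
        ∃ q : SheafOfModules.LocalGeneratorsData.{u + 1} ((AlgSp.pushModEt hf).obj (AlgSp.unitModEt X.obj)),
          q.IsLocallyFreeData ∧ q.IsFiniteType := by
  refine ⟨fun h => ?_, fun ⟨ha, q, hq, hqf⟩ =>
    Groth.L23.FLF.isFinLocFreeMor_of_data f hf (Groth.L23.repWith_isAffineHom_of_isAffineMor ha) q hq hqf⟩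
  have haff : AlgSp.IsAffineMor f.hom := fun Z hZ g => by
    obtain ⟨W, i, fst, sq, hW, -⟩ := (Groth.L23.isFiniteMor_iff.2
      (Groth.L23.repWith_mono (fun φ (hφ : AlgSp.finLocFree φ) => hφ.1) h)) hZ g
    exact ⟨W, i, fst, sq, hW⟩
  haveI : (AlgSp.unitModEt X.obj).IsQuasicoherent :=
    Groth.L23.FLF.isQuasicoherent_unit X.obj
  exact ⟨haff, Groth.L23.FLF.exists_data_of_finLocFree f hf h (Groth.L23.repWith_isAffineHom_of_isAffineMor haff)⟩

end Groth.Agent.S10330
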