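import Groth.Statements.S10331
import Groth.Agent.L23.Univ
import Groth.Agent.L23.AffineMor
import Groth.Agent.L23.MorCalc
import Groth.Agent.L23.QsTop
import Groth.Agent.L23.Epi
import Groth.Agent.L08.GQuot.Gamma
import Mathlib.AlgebraicGeometry.Morphisms.Proper
-- import your own Groth.Agent.* helpers here

set_option autoImplicit false
set_option backward.isDefEq.respectTransparency.types false
set_option linter.style.haveILetI false
universe u
open CategoryTheory CategoryTheory.Limits AlgebraicGeometry Opposite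
open AlgSp

namespace Groth.Agent.S10331

open Groth.L23

/-- A morphism of affine schemes dominated by a universally closed space is universally closed. -/
theorem universallyClosed_of_dominated {S : Scheme.{u}} {V W : Over S} (π : W ⟶ V) {X : Sp S}
    (g : X ⟶ (yon S).obj W) (hg : Function.Surjective (Points.map g))
    (huc : IsUnivClosedMor (g ≫ (yon S).map π)) : UniversallyClosed π.left := by
  refine ⟨?_⟩
  intro T' T i₁ i₂ π' sq
  show IsClosedMap π'
  let T₀ : Over S := Over.mk (i₂ ≫ V.hom)
  let T₁ : Over S := Over.mk (π' ≫ T₀.hom)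
  let jT : T₀ ⟶ V := Over.homMk i₂ rfl
  let π₁ : T₁ ⟶ T₀ := Over.homMk π' rfl
  let j₁ : T₁ ⟶ W := Over.homMk i₁ (by
    show i₁ ≫ W.hom = π' ≫ i₂ ≫ V.hom
    rw [← Over.w π, ← Category.assoc, ← sq.w, Category.assoc])
  have sq' : IsPullback ((Over.forget S).map j₁) ((Over.forget S).map π₁) ((Over.forget S).map π)
      ((Over.forget S).map jT) := sq.flip
  have sqS : IsPullback ((yon S).map j₁) ((yon S).map π₁) ((yon S).map π) ((yon S).map jT) :=
    (IsPullback.of_map (Over.forget S) (Over.OverMorphism.ext sq.w.symm) sq').map (yon S)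
  have sqX := IsPullback.of_hasPullback g ((yon S).map j₁)
  have sqP := sqX.paste_vert sqS
  have hcl : IsClosedMap (Points.map (pullback.snd g ((yon S).map j₁) ≫ (yon S).map π₁)) :=
    huc (IsAlgSpace.yon_obj T₀) _ _ _ sqP
  have hsurj := surjective_snd_of_isPullback sqX hg
  have hc : IsClosedMap (Points.map ((yon S).map π₁)) := fun C hC => by
    rw [← Set.image_preimage_eq C hsurj, Set.image_image]
    have := hcl _ (hC.preimage (Points.continuous_map (pullback.snd g ((yon S).map j₁))))
    simpa only [Points.map_comp] using this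
  have h2 : IsClosedMap ((Points.schemeHomeo T₀).symm ∘ Points.map ((yon S).map π₁) ∘ Points.schemeHomeo T₁) :=
    (Points.schemeHomeo T₀).symm.isClosedMap.comp (hc.comp (Points.schemeHomeo T₁).isClosedMap)
  convert! h2 using 1
  funext x
  simp only [Function.comp_apply]
  rw [Points.map_yon_map_eq]
  simp only [Function.comp_apply]
  rw [Homeomorph.symm_apply_apply (Points.schemeHomeo T₁), Homeomorph.symm_apply_apply (Points.schemeHomeo T₀)]
  rfl

/-- The range of a morphism from a universally closed space to a separated scheme is closed. -/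
theorem isClosed_range_of_univClosed {S : Scheme.{u}} {V W : Over S} (π : W ⟶ V) [IsSeparated π.left] {X : Sp S}
    (g : X ⟶ (yon S).obj W) (huc : IsUnivClosedMor (g ≫ (yon S).map π)) :
    IsClosed (Set.range (Points.map g)) := by
  have hd : RepWith @IsClosedImmersion (pullback.diagonal ((yon S).map π)) :=
    (repWith_diagonal_yon_map_iff @IsClosedImmersion π).2 IsSeparated.isClosedImmersion_diagonal
  have hm := repWith_of_isPullback (pullback_lift_diagonal_isPullback g ((yon S).map π)) hd
  have hcl : IsClosedMap (Points.map (pullback.snd (g ≫ (yon S).map π) ((yon S).map π))) :=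
    huc (IsAlgSpace.yon_obj W) _ _ _ (IsPullback.of_hasPullback _ _)
  have hr : Set.range (Points.map g) = Points.map (pullback.snd (g ≫ (yon S).map π) ((yon S).map π)) ''
      Set.range (Points.map (pullback.lift (𝟙 X) g (by simp) : X ⟶ pullback (g ≫ (yon S).map π) ((yon S).map π))) := by
    rw [← Set.range_comp]
    refine congrArg Set.range (funext fun x => ?_)
    show _ = Points.map _ (Points.map _ x)
    rw [← Points.map_comp, pullback.lift_snd]
  rw [hr]
  refine hcl _ ?_
  refine (isClosedMap_map_of_representable hm.1 fun U a => ?_).isClosed_range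
  haveI : IsClosedImmersion (hm.1.snd a).left := repWith_snd hm a
  exact (hm.1.snd a).left.isClosedMap

end Groth.Agent.S10331

namespace Groth.Agent.S10331

open Groth.L23

set_option maxHeartbeats 2000000 in
/-- Let f : X -> h_V be a quasi-compact, quasi-separated and universally closed morphism from an
algebraic space over S to an affine scheme V over S. Then every global section of O_X (a compatible
family of functions on the schemes etale over X) satisfies a monic polynomial with coefficients in
Γ(V, O_V). (The published statement has an arbitrary algebraic space as target and says that f_*O_X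
is integral over O_Y, which is this assertion for the base change of f to every affine scheme etale
over the target; the reformulation through the relative spectrum of f_*O_X is not included.) -/
theorem result {S : Scheme.{u}} (V : Over S) [IsAffine V.left] (X : AlgSp.Space S)
    (f : X ⟶ (AlgSp.ofScheme S).obj V) (hqc : AlgSp.IsQuasiCompactMor f.hom)
    (hqs : AlgSp.IsQuasiSeparatedMor f.hom) (huc : AlgSp.IsUnivClosedMor f.hom)
    (s : ↥(AlgSp.gsectEt (AlgSp.OEt X.obj) : CommRingCat.{u + 1})) :
    ∃ p : Polynomial Γ(V.left, ⊤), p.Monic ∧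
      ∀ E : AlgSp.EtOver X.obj,
        Polynomial.eval₂ ((AlgSp.yon S).preimage (E.obj.hom ≫ f.hom)).left.appTop.hom
          ((limit.π (AlgSp.OEt X.obj).obj (op E)) s).down p = 0 := by
  classical
  obtain ⟨U, p, hU, hp, hps⟩ : ∃ (U : Over S) (p : (yon S).obj U ⟶ X.obj), IsAffine U.left ∧
      RepWith @Etale p ∧ RepWith @Surjective p := by
    have hVqc : IsQuasiCompactSp ((yon S).obj V) := by
      haveI : CompactSpace V.left := inferInstance
      exact Groth.L23.isQuasiCompactSp_of_compactSpace
    exact Groth.L23.Qs.exists_affine_atlas X.property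
      (hqc (IsAlgSpace.yon_obj V) hVqc (𝟙 _) (𝟙 _) f.hom IsPullback.of_id_fst)
  haveI := hU
  let k : U ⟶ V := (yon S).preimage (p ≫ f.hom)
  have hk : (yon S).map k = p ≫ f.hom := (yon S).map_preimage _
  let E₀ : EtOver X.obj := EtOver.mk p hp
  let a : ∀ E : EtOver X.obj, Γ(E.obj.left.left, ⊤) := fun E => ((limit.π (OEt X.obj).obj (op E)) s).down
  have hsa : ∀ (E E' : EtOver X.obj) (φ : E' ⟶ E), φ.hom.left.left.appTop (a E) = a E' := fun E E' φ => by
    have h1 := ConcreteCategory.congr_hom (limit.w (OEt X.obj).obj φ.op) s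
    rw [ConcreteCategory.comp_apply] at h1
    exact congrArg ULift.down h1
  let kE : ∀ E : EtOver X.obj, Γ(V.left, ⊤) →+* Γ(E.obj.left.left, ⊤) := fun E =>
    ((yon S).preimage (E.obj.hom ≫ f.hom)).left.appTop.hom
  have hkE : ∀ (E E' : EtOver X.obj) (φ : E' ⟶ E) (c : Γ(V.left, ⊤)),
      φ.hom.left.left.appTop (kE E c) = kE E' c := fun E E' φ c => by
    have h1 : φ.hom.left ≫ (yon S).preimage (E.obj.hom ≫ f.hom) = (yon S).preimage (E'.obj.hom ≫ f.hom) :=
      (yon S).map_injective (by
        rw [Functor.map_comp, Functor.map_preimage, Functor.map_preimage]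
        exact (Category.assoc _ _ _).symm.trans (congrArg (· ≫ f.hom) (EtOver.w φ)))
    show (φ.hom.left.left.appTop) ((((yon S).preimage (E.obj.hom ≫ f.hom)).left.appTop) c) = _
    rw [← ConcreteCategory.comp_apply, ← Scheme.Hom.comp_appTop, ← Over.comp_left]
    exact congrArg (fun m : E'.obj.left ⟶ V => m.left.appTop c) h1
  let φ₀ : Polynomial Γ(V.left, ⊤) →+* Γ(E₀.obj.left.left, ⊤) := Polynomial.eval₂RingHom (kE E₀) (a E₀)
  let B := φ₀.range
  let bA : Γ(V.left, ⊤) →+* B := φ₀.rangeRestrict.comp Polynomial.C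
  let tB : B := φ₀.rangeRestrict Polynomial.X
  let W : Over S := Over.mk (Spec.map (CommRingCat.ofHom bA) ≫ V.left.isoSpec.inv ≫ V.hom)
  let π : W ⟶ V := Over.homMk (Spec.map (CommRingCat.ofHom bA) ≫ V.left.isoSpec.inv)
    (by rw [Category.assoc]; rfl)
  have hbA : B.subtype.comp bA = kE E₀ := RingHom.ext fun c => Polynomial.eval₂_C _ _
  have hk' : k.left.appTop = CommRingCat.ofHom (kE E₀) := rfl
  let h : U ⟶ W := Over.homMk (U.left.isoSpec.hom ≫ Spec.map (CommRingCat.ofHom B.subtype)) (by
    show (_ ≫ _) ≫ Spec.map (CommRingCat.ofHom bA) ≫ V.left.isoSpec.inv ≫ V.hom = U.hom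
    rw [Category.assoc, ← Spec.map_comp_assoc, ← CommRingCat.ofHom_comp, hbA, ← hk', ← Category.assoc,
      show U.left.isoSpec.hom = U.left.toSpecΓ from Scheme.isoSpec_hom .., ← Scheme.toSpecΓ_naturality,
      Category.assoc, ← Category.assoc V.left.toSpecΓ, Scheme.toSpecΓ_isoSpec_inv, Category.id_comp, Over.w k])
  have hhπ : h ≫ π = k := Over.OverMorphism.ext (by
    show (_ ≫ _) ≫ Spec.map (CommRingCat.ofHom bA) ≫ V.left.isoSpec.inv = k.left
    rw [Category.assoc, ← Spec.map_comp_assoc, ← CommRingCat.ofHom_comp, hbA, ← hk', ← Category.assoc,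
      show U.left.isoSpec.hom = U.left.toSpecΓ from Scheme.isoSpec_hom .., ← Scheme.toSpecΓ_naturality,
      Category.assoc, Scheme.toSpecΓ_isoSpec_inv, Category.comp_id])
  -- descend to the space
  let hrep := X.property.representable_from_yon p
  let R : Over S := hrep.pullback p
  obtain ⟨q₁, hq₁⟩ := (yon S).map_surjective (hrep.fst p)
  let q₂ := hrep.snd p
  have sqR : IsPullback ((yon S).map q₁) ((yon S).map q₂) p p := by rw [hq₁]; exact hrep.isPullback p
  have hR : RepWith @Etale ((yon S).map q₁ ≫ p) :=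
    repWith_comp (repWith_of_isPullback sqR.flip hp) hp
  let ER : EtOver X.obj := EtOver.mk ((yon S).map q₁ ≫ p) hR
  let φ₁ : ER ⟶ E₀ := EtOver.homMk q₁ rfl
  let φ₂ : ER ⟶ E₀ := EtOver.homMk q₂ sqR.w.symm
  have hq : q₁ ≫ h = q₂ ≫ h := by
    refine Over.OverMorphism.ext ?_
    show q₁.left ≫ U.left.isoSpec.hom ≫ _ = q₂.left ≫ U.left.isoSpec.hom ≫ _
    rw [Scheme.isoSpec_hom, Scheme.toSpecΓ_naturality_assoc, Scheme.toSpecΓ_naturality_assoc, ← Spec.map_comp,
      ← Spec.map_comp]
    refine congrArg (fun r => _ ≫ Spec.map r) (CommRingCat.hom_ext (RingHom.ext fun b => ?_))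
    obtain ⟨P, rfl⟩ := φ₀.rangeRestrict_surjective b
    show φ₁.hom.left.left.appTop (φ₀ P) = φ₂.hom.left.left.appTop (φ₀ P)
    have key : ∀ φ : ER ⟶ E₀, φ.hom.left.left.appTop (φ₀ P) = Polynomial.eval₂ (kE ER) (a ER) P := fun φ => by
      show φ.hom.left.left.appTop.hom (Polynomial.eval₂ (kE E₀) (a E₀) P) = _
      rw [Polynomial.hom_eval₂, show φ.hom.left.left.appTop.hom (a E₀) = a ER from hsa _ _ φ,
        show φ.hom.left.left.appTop.hom.comp (kE E₀) = kE ER from RingHom.ext (hkE _ _ φ)]
    rw [key, key]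
  haveI : Epi p := Groth.L23.epi_of_repWith p hp hps
  obtain ⟨cf⟩ := Groth.L23.nonempty_isColimit_cofork p sqR
  have hw' : (yon S).map q₁ ≫ (yon S).map h = (yon S).map q₂ ≫ (yon S).map h := by
    rw [← Functor.map_comp, ← Functor.map_comp, hq]
  let g : X.obj ⟶ (yon S).obj W := cf.desc (Cofork.ofπ ((yon S).map h) hw')
  have hg : p ≫ g = (yon S).map h := cf.fac _ WalkingParallelPair.one
  have hgπ : g ≫ (yon S).map π = f.hom := by
    rw [← cancel_epi p, ← Category.assoc, hg, ← Functor.map_comp, hhπ, hk]
    rfl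
  haveI : IsAffine W.left := inferInstanceAs (IsAffine (Spec (CommRingCat.of B)))
  haveI : IsAffineHom π.left := isAffineHom_of_isAffine _
  have huc' : IsUnivClosedMor (g ≫ (yon S).map π) := hgπ ▸ huc
  -- the range is dense
  have hdense : DenseRange h.left := by
    haveI : IsDominant (Spec.map (CommRingCat.ofHom B.subtype)) := by
      refine ⟨?_⟩
      exact (PrimeSpectrum.denseRange_comap_iff_ker_le_nilRadical B.subtype).2
        (by rw [RingHom.ker_eq_bot_iff_eq_zero _ |>.2 fun x hx => Subtype.ext hx]; exact bot_le)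
    have : IsDominant h.left := inferInstanceAs (IsDominant (U.left.isoSpec.hom ≫ Spec.map (CommRingCat.ofHom B.subtype)))
    exact h.left.denseRange
  have hgs : Function.Surjective (Points.map g) := by
    rw [← Set.range_eq_univ, ← (isClosed_range_of_univClosed π g huc').closure_eq, ← dense_iff_closure_eq]
    refine ((Points.schemeHomeo W).surjective.denseRange.comp hdense (Points.schemeHomeo W).continuous).mono ?_
    rintro _ ⟨x, rfl⟩
    refine ⟨Points.map p (Points.schemeHomeo U x), ?_⟩
    rw [← Points.map_comp, hg, Points.map_yon_map_eq]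
    simp only [Function.comp_apply]
    rw [Homeomorph.symm_apply_apply (Points.schemeHomeo U)]
  haveI := universallyClosed_of_dominated π g hgs huc'
  haveI : IsIntegralHom π.left := by
    rw [IsIntegralHom.iff_universallyClosed_and_isAffineHom]; exact ⟨inferInstance, inferInstance⟩
  have hint : bA.IsIntegral := by
    have : IsIntegralHom (π.left ≫ V.left.isoSpec.hom) := inferInstance
    rw [show π.left ≫ V.left.isoSpec.hom = Spec.map (CommRingCat.ofHom bA) by
      show (_ ≫ _) ≫ _ = _; rw [Category.assoc, Iso.inv_hom_id, Category.comp_id]] at this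
    exact IsIntegralHom.SpecMap_iff.1 this
  obtain ⟨P, hP, hPt⟩ := hint tB
  have hP0 : Polynomial.eval₂ (kE E₀) (a E₀) P = 0 := by
    have h1 := congrArg B.subtype hPt
    rw [Polynomial.hom_eval₂, hbA, map_zero] at h1
    rwa [show B.subtype tB = a E₀ from Polynomial.eval₂_X _ _] at h1
  refine ⟨P, hP, fun E => ?_⟩
  let hrE := X.property.representable_from_yon p
  let T : Over S := hrE.pullback E.obj.hom
  obtain ⟨e₁, he₁⟩ := (yon S).map_surjective (hrE.fst E.obj.hom)
  let e₂ := hrE.snd E.obj.hom
  have sqT : IsPullback ((yon S).map e₁) ((yon S).map e₂) p E.obj.hom := by rw [he₁]; exact hrE.isPullback _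
  have hTe : RepWith @Etale ((yon S).map e₁ ≫ p) :=
    sqT.w ▸ repWith_comp (repWith_of_isPullback sqT hp) E.property
  let ET : EtOver X.obj := EtOver.mk ((yon S).map e₁ ≫ p) hTe
  let ψ₁ : ET ⟶ E₀ := EtOver.homMk e₁ rfl
  let ψ₂ : ET ⟶ E := EtOver.homMk e₂ sqT.w.symm
  haveI : Flat e₂.left := by
    haveI : Etale e₂.left := repWith_prop hp sqT
    infer_instance
  haveI : Surjective e₂.left := repWith_prop hps sqT
  haveI := AlgebraicGeometry.Flat.epi_of_flat_of_surjective e₂.left
  refine Groth.L08.GQuot.appTop_injective_of_epi e₂.left ?_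
  rw [map_zero]
  show ψ₂.hom.left.left.appTop.hom (Polynomial.eval₂ (kE E) (a E) P) = 0
  rw [Polynomial.hom_eval₂, show ψ₂.hom.left.left.appTop.hom (a E) = a ET from hsa _ _ ψ₂,
    show ψ₂.hom.left.left.appTop.hom.comp (kE E) = kE ET from RingHom.ext (hkE _ _ ψ₂),
    ← show ψ₁.hom.left.left.appTop.hom (a E₀) = a ET from hsa _ _ ψ₁,
    ← show ψ₁.hom.left.left.appTop.hom.comp (kE E₀) = kE ET from RingHom.ext (hkE _ _ ψ₁),
    ← Polynomial.hom_eval₂, hP0, map_zero]

end Groth.Agent.S10331
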