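import Groth.Statements.S10332
import Groth.Agent.L23.IntClosure

set_option autoImplicit false
universe u
open CategoryTheory CategoryTheory.Limits AlgebraicGeometry Opposite
open AlgSp

set_option backward.isDefEq.respectTransparency false
set_option backward.isDefEq.respectTransparency.types false
set_option linter.style.haveILetI false

namespace Groth.Agent.S10332

/-- For an algebraic space X over S and a quasi-coherent sheaf of O_X-algebras A on the small etale site
of X (a sheaf of commutative rings A with O_X -> A, quasi-coherent as an O_X-module), there is a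
quasi-coherent O_X-subalgebra A' of A whose sections over every affine object U of the site are
exactly the elements of A(U) integral over O_X(U). -/
theorem result {S : Scheme.{u}} (X : AlgSp.Space S)
    (A : AlgSp.EtSh X.obj CommRingCat.{u + 1}) (φ : AlgSp.OEt X.obj ⟶ A)
    [((SheafOfModules.restrictScalars
        ((sheafCompose (AlgSp.etTop X.obj) (forget₂ CommRingCat.{u + 1} RingCat.{u + 1})).map φ)).obj
      (SheafOfModules.unit
        ((sheafCompose (AlgSp.etTop X.obj) (forget₂ CommRingCat.{u + 1} RingCat.{u + 1})).obj A))).IsQuasicoherent] :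
    ∃ (A' : AlgSp.EtSh X.obj CommRingCat.{u + 1}) (ι : A' ⟶ A) (φ' : AlgSp.OEt X.obj ⟶ A'),
      φ' ≫ ι = φ ∧ (∀ E : AlgSp.EtOver X.obj, Function.Injective (ι.hom.app (op E))) ∧
      (∀ E : AlgSp.EtOver X.obj, IsAffine E.obj.left.left → ∀ x : A.obj.obj (op E),
        x ∈ Set.range (ι.hom.app (op E)) ↔ (φ.hom.app (op E)).hom.IsIntegralElem x) ∧
      ((SheafOfModules.restrictScalars
          ((sheafCompose (AlgSp.etTop X.obj) (forget₂ CommRingCat.{u + 1} RingCat.{u + 1})).map φ')).obj
        (SheafOfModules.unit
          ((sheafCompose (AlgSp.etTop X.obj) (forget₂ CommRingCat.{u + 1} RingCat.{u + 1})).obj A'))).IsQuasicoherent := by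
  refine ⟨Groth.L23.IntCl.sheaf φ, Groth.L23.IntCl.incl φ, Groth.L23.IntCl.struct φ,
    Groth.L23.IntCl.struct_incl φ, fun E => Subtype.val_injective, fun E hE x => ?_, ?_⟩
  · haveI := hE
    refine (Groth.L23.IntCl.mem_range_incl φ E x).trans ⟨fun h => ?_, fun h => ?_⟩
    · exact RingHom.IsIntegralElem.of_comp (f := ULift.ringEquiv.symm.toRingHom) h
    · have e : (φ.hom.app (op E)).hom =
          (Groth.L23.IntCl.alg φ E).comp ULift.ringEquiv.toRingHom := RingHom.ext fun _ => rfl
      rw [e] at h
      exact RingHom.IsIntegralElem.of_comp h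
  · exact ObjectProperty.prop_of_iso (SheafOfModules.isQuasicoherent (AlgSp.OEtRing X.obj))
      (Groth.L23.IntCl.modIso φ) (Groth.L23.SubQcoh.AffSub.isQuasicoherent _)

end Groth.Agent.S10332
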