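import Groth.Statements.S10333
import Groth.Agent.L23.NormProps

set_option autoImplicit false
set_option backward.isDefEq.respectTransparency.types false
universe u
open CategoryTheory CategoryTheory.Limits AlgebraicGeometry
open AlgSp

namespace Groth.Agent.S10333

/-- Let f : Y -> X be a morphism of algebraic spaces over S that is quasi-compact and quasi-separated,
and X' -> X the normalization of X in Y (an integral morphism through which f factors, initial among
such factorizations). If Y is reduced then X' is reduced. -/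
theorem result {S : Scheme.{u}} {Y X X' : AlgSp.Space S} (f : Y ⟶ X)
    (hqc : AlgSp.IsQuasiCompactMor f.hom) (hqs : AlgSp.IsQuasiSeparatedMor f.hom) (ν : X' ⟶ X) (f' : Y ⟶ X')
    (hn : AlgSp.IsRelNormalization f.hom ν.hom f'.hom) (hY : AlgSp.IsReducedSp Y.obj) :
    AlgSp.IsReducedSp X'.obj := by
  have hloc := Groth.L23.Norm.isLocNorm_of_isRelNormalization X.property X'.property hqc hqs hn
  obtain ⟨V, p, hp, hps⟩ := X.property.atlas
  have hνr := Groth.L23.isIntegralMor_iff.1 hloc.integral
  obtain ⟨W, n, i, sW⟩ : ∃ (W : Over S) (n : (AlgSp.yon S).obj W ⟶ X'.obj) (i : W ⟶ V),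
      IsPullback n ((AlgSp.yon S).map i) ν.hom p := ⟨_, _, _, hνr.1.isPullback p⟩
  refine ⟨W, n, Groth.L23.repWith_of_isPullback sW.flip hp, Groth.L23.repWith_of_isPullback sW.flip hps, ?_⟩
  have hWr : ∀ B : V.left.affineOpens, IsReduced ((i.left ⁻¹ᵁ B.1 : W.left.Opens) : Scheme.{u}) := fun B => by
    have : IsAffine (Groth.L23.openOver V B.1).left := B.2
    let c : Groth.L23.Norm.Chart X.obj := ⟨Groth.L23.openOver V B.1,
      (AlgSp.yon S).map (Groth.L23.openOverι V B.1) ≫ p,
      Groth.L23.repWith_comp (Groth.L23.repWith_map (inferInstanceAs (Etale B.1.ι))) hp⟩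
    have sQ := IsPullback.of_hasPullback f.hom c.v
    let N := Groth.L23.openOver W (i.left ⁻¹ᵁ B.1)
    let iN : N ⟶ Groth.L23.openOver V B.1 := Over.homMk (i.left ∣_ B.1) (by
      show i.left ∣_ B.1 ≫ B.1.ι ≫ V.hom = (i.left ⁻¹ᵁ B.1).ι ≫ W.hom
      rw [morphismRestrict_ι_assoc, Over.w i])
    have s₁ : IsPullback (Groth.L23.openOverι W (i.left ⁻¹ᵁ B.1)) iN i (Groth.L23.openOverι V B.1) :=
      IsPullback.of_map_of_faithful (Over.forget S) (isPullback_morphismRestrict i.left B.1).flip
    have sN := (s₁.map (AlgSp.yon S)).paste_horiz sW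
    obtain ⟨γ, hγ₁, hγ₂⟩ := sN.exists_lift (pullback.fst f.hom c.v ≫ f'.hom) (pullback.snd f.hom c.v)
      (by rw [Category.assoc, hloc.fac]; exact sQ.w)
    have hN := hloc.norm c _ _ _ sQ N _ iN sN γ hγ₁ hγ₂
    have hq := Groth.L23.Norm.qcqs_chart hqc hqs c sQ
    refine Groth.L23.Norm.isReduced_of_isNorm hN hq.1 hq.2 fun U a ha => ?_
    obtain ⟨U₀, a₀, ha₀, has₀, hU₀⟩ := hY
    have : IsReduced U₀.left := hU₀
    have he := Groth.L23.repWith_comp ha (Groth.L23.repWith_of_isPullback sQ.flip c.etale)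
    obtain ⟨R, r, r₀, sR⟩ := Groth.L23.exists_isPullback_of_representable he.1 a₀
    have : Etale r₀.left := Groth.L23.repWith_prop he sR
    have : Etale r.left := Groth.L23.repWith_prop ha₀ sR.flip
    have : Surjective r.left := Groth.L23.repWith_prop has₀ sR.flip
    have : IsReduced R.left := Groth.L23.isReduced_of_etale r₀.left
    exact Groth.L20.isReduced_of_surjective_of_flat r.left
  let 𝒰 := W.left.openCoverOfIsOpenCover (fun B : V.left.affineOpens => i.left ⁻¹ᵁ B.1)
    (TopologicalSpace.IsOpenCover.comap (iSup_affineOpens_eq_top V.left) i.left.base.hom)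
  have : ∀ B, IsReduced (𝒰.X B) := hWr
  exact IsReduced.of_openCover _ 𝒰


end Groth.Agent.S10333
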