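import Groth.Statements.S10335
import Groth.Agent.L23.SpaceFibDimFormula

set_option autoImplicit false
set_option backward.isDefEq.respectTransparency.types false
set_option linter.style.haveILetI false
universe u
open CategoryTheory CategoryTheory.Limits AlgebraicGeometry
open AlgSp

namespace Groth.Agent.S10335

/-- In a base change square of algebraic spaces with f : X -> Y locally of finite type and f' : X' -> Y'
its base change along g : Y' -> Y, take a point x' of X' over x. The fibre of f' has a local ring at
x' whose dimension exceeds the corresponding dimension for the fibre of f at x by exactly the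
transcendence degree of x over f(x) minus that of x' over f'(x'), and this excess is never negative;
and for x in X and y' in Y' over the same point of Y some x' over both has excess zero. All four
quantities are read on some chart diagram through the point. -/
theorem result {S : Scheme.{u}} {X Y Y' X' : AlgSp.Space S} (f : X ⟶ Y) (g : Y' ⟶ Y)
    (g' : X' ⟶ X) (f' : X' ⟶ Y') (sq : IsPullback g'.hom f'.hom f.hom g.hom)
    (hf : AlgSp.LocP @LocallyOfFiniteType f.hom) :
    (∀ (x' : AlgSp.Points X'.obj) (e e' : WithBot ℕ∞) (r r' : Cardinal.{u}),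
      AlgSp.HasAtMor (fun _ _ h u => ringKrullDim ↥((h.fiber (h u)).presheaf.stalk (h.asFiber u)) = e) f.hom
          (AlgSp.Points.map g'.hom x') →
      AlgSp.HasAtMor (fun _ _ h u => Dual3.resTrdeg h u = r) f.hom (AlgSp.Points.map g'.hom x') →
      AlgSp.HasAtMor (fun _ _ h u => ringKrullDim ↥((h.fiber (h u)).presheaf.stalk (h.asFiber u)) = e') f'.hom x' →
      AlgSp.HasAtMor (fun _ _ h u => Dual3.resTrdeg h u = r') f'.hom x' →
        e' + ((Cardinal.toENat r' : ℕ∞) : WithBot ℕ∞) = e + ((Cardinal.toENat r : ℕ∞) : WithBot ℕ∞) ∧ e ≤ e') ∧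
    (∀ (x : AlgSp.Points X.obj) (y' : AlgSp.Points Y'.obj) (e : WithBot ℕ∞),
      AlgSp.Points.map f.hom x = AlgSp.Points.map g.hom y' →
      AlgSp.HasAtMor (fun _ _ h u => ringKrullDim ↥((h.fiber (h u)).presheaf.stalk (h.asFiber u)) = e) f.hom x →
        ∃ x' : AlgSp.Points X'.obj, AlgSp.Points.map g'.hom x' = x ∧ AlgSp.Points.map f'.hom x' = y' ∧
          AlgSp.HasAtMor (fun _ _ h u => ringKrullDim ↥((h.fiber (h u)).presheaf.stalk (h.asFiber u)) = e)
            f'.hom x') := by
  refine ⟨fun x' e e' r r' he hr he' hr' => ?_, fun x y' e hxy he => ?_⟩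
  · obtain ⟨e₀, e₀', r₀, r₀', h1, h2, h3, h4, h5, h6⟩ :=
      Groth.L23.FibDimFormula.baseChange_formula Y'.property X.property Y.property sq hf x'
    rw [h1 e he, h2 r hr, h3 e' he', h4 r' hr']
    exact ⟨h5, h6⟩
  · exact Groth.L23.FibDimFormula.exists_point_fd_eq Y'.property sq hf x y' e hxy he

end Groth.Agent.S10335
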