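import Groth.Statements.S10348
import Groth.Agent.L23.DimDecent

set_option autoImplicit false
set_option backward.isDefEq.respectTransparency.types false
universe u
open CategoryTheory CategoryTheory.Limits AlgebraicGeometry Topology TopologicalSpace
open AlgSp

namespace Groth.Agent.S10348

/-- Let S be a scheme, X and Y algebraic spaces over S, and f : X ⟶ Y a morphism which is locally
quasi-finite; let x ∈ |X| have image y ∈ |Y|. Then the local ring of X at x has dimension at most
that of the local ring of Y at the point y (both dimensions read on etale charts through the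
points). -/
theorem result {S : Scheme.{u}} {X Y : AlgSp.Space S} (f : X ⟶ Y)
    (hf : AlgSp.LocP (@LocallyQuasiFinite ⊓ @LocallyOfFiniteType) f.hom) (x : AlgSp.Points X.obj)
    (d e : WithBot ℕ∞)
    (hx : AlgSp.HasAt (fun U u => ringKrullDim ↥(U.presheaf.stalk u) = d) X.obj x)
    (hy : AlgSp.HasAt (fun V v => ringKrullDim ↥(V.presheaf.stalk v) = e) Y.obj (AlgSp.Points.map f.hom x)) :
    d ≤ e := by
  obtain ⟨U, V, a, b, h, ha, has, hb, -, w⟩ := Groth.L23.exists_chart X.property Y.property f.hom
  obtain ⟨u, rfl⟩ := Groth.L23.surjective_ofPt has x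
  have : LocallyQuasiFinite h.left := (hf a b h ha hb w).1
  rw [AlgSp.Points.map_ofPt, w, Groth.L23.ofPt_comp] at hy
  rw [← (Groth.L23.Pt.hasAt_stalkDim_iff X.property ha u (fun t => t = d)).1 hx,
    ← (Groth.L23.Pt.hasAt_stalkDim_iff Y.property hb (h.left u) (fun t => t = e)).1 hy]
  exact Groth.L23.Pt.stalkDim_le_of_lqf h.left u

end Groth.Agent.S10348
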