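import Groth.Statements.S10353
import Groth.Agent.L23.SchemeDecent
import Groth.Agent.L23.Decent2
import Groth.Agent.L23.Univ

set_option autoImplicit false
set_option backward.isDefEq.respectTransparency.types false
universe u
open CategoryTheory CategoryTheory.Limits AlgebraicGeometry Topology TopologicalSpace
open AlgSp

namespace Groth.Agent.S10353

/-- Let X be an algebraic space over a scheme S and suppose there is a finite, etale, surjective map h_U
⟶ X from a scheme U. Then some dense open subspace of X is a scheme: an open subspace X' ⟶ X with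
representable underlying sheaf and |X'| dense in |X|. -/
theorem result {S : Scheme.{u}} (X : AlgSp.Space S)
    {U : Over S} (a : (AlgSp.yon S).obj U ⟶ X.obj) (hf : AlgSp.RepWith @IsFinite a) (he : AlgSp.RepWith @Etale a)
    (hs : AlgSp.RepWith @Surjective a) :
    ∃ (X' : AlgSp.Space S) (j : X' ⟶ X), AlgSp.RepWith @IsOpenImmersion j.hom ∧ X'.obj.obj.IsRepresentable ∧
      Dense (Set.range (AlgSp.Points.map j.hom)) := by
  obtain ⟨X', j, hj, hr, hR⟩ := Groth.L23.SL.exists_locus X.property
  refine ⟨X', ObjectProperty.homMk j, hj, hr, ?_⟩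
  show Dense (Set.range (AlgSp.Points.map j))
  rw [hR]
  refine Groth.L23.SL.dense_schemePt X.property fun x => ?_
  obtain ⟨u, rfl⟩ := Groth.L23.surjective_ofPt hs x
  obtain ⟨p, hp, -, hq⟩ := Groth.L23.Pt.isDecent_yon U (AlgSp.Points.ofScheme U u)
  rw [AlgSp.Points.ofPt_eq_map_ofScheme, ← hp, AlgSp.Points.map_mk]
  refine Groth.L23.Pt.goodPt_of_qc X.property _ ?_
  rw [AlgSp.FieldPt.toHom_map]
  exact Groth.L23.repWith_comp hq (Groth.L23.repWith_mono (fun f (_ : IsFinite f) => inferInstanceAs (QuasiCompact f)) hf)

end Groth.Agent.S10353
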