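import Groth.Statements.S10354
import Groth.Agent.L23.QsTop
import Groth.Agent.L23.Decent
import Groth.Agent.L23.Decent3
import Groth.Agent.L23.EtaleSepQc
import Groth.Agent.L23.Subspace

set_option autoImplicit false
set_option backward.isDefEq.respectTransparency.types false
set_option linter.style.haveILetI false
universe u
open CategoryTheory CategoryTheory.Limits AlgebraicGeometry Topology TopologicalSpace
open AlgSp

namespace Groth.Agent.S10354

open Groth.L23 in
/-- The projection of the self-product of an affine etale chart of a decent space has finite fibres. -/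
theorem finite_fibres {S : Scheme.{u}} {Z : AlgSp.Sp S} (hZ : IsAlgSpace Z) {W R : Over S} [IsAffine W.left]
    {p : (yon S).obj W ⟶ Z} (hp : RepWith @Etale p) {t s : R ⟶ W}
    (sR : IsPullback ((yon S).map t) ((yon S).map s) p p) (hd : IsDecent Z) (w : W.left) :
    (t.left ⁻¹' {w}).Finite := by
  haveI : Etale t.left := repWith_prop hp sR.flip
  let K : Over S := Over.mk (W.left.fromSpecResidueField w ≫ W.hom)
  let ι : K ⟶ W := Over.homMk (W.left.fromSpecResidueField w) rfl
  let c : IsLocalRing.closedPoint (W.left.residueField w) = IsLocalRing.closedPoint (W.left.residueField w) := rfl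
  let q : FieldPt Z := Pt.ofHom (W.left.fromSpecResidueField w ≫ W.hom) ((yon S).map ι ≫ p)
  have hq : RepWith @QuasiCompact ((yon S).map ι ≫ p) := by
    have := Pt.qc_of_goodPt hZ (hd (Points.mk q)) q rfl
    rwa [Pt.toHom_ofHom] at this
  let F : Over S := Over.mk (t.left.fiberι w ≫ R.hom)
  let i₁ : F ⟶ R := Over.homMk (t.left.fiberι w) rfl
  let i₂ : F ⟶ K := Over.homMk (t.left.fiberToSpecResidueField w) (by
    show t.left.fiberToSpecResidueField w ≫ W.left.fromSpecResidueField w ≫ W.hom = t.left.fiberι w ≫ R.hom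
    rw [← Over.w t]; exact (pullback.condition_assoc (f := t.left) (g := W.left.fromSpecResidueField w) W.hom).symm)
  have sF : IsPullback i₁ i₂ t ι := isPullback_over (IsPullback.of_hasPullback _ _)
  have sq : IsPullback ((yon S).map (i₁ ≫ s)) ((yon S).map i₂) p ((yon S).map ι ≫ p) := by
    rw [Functor.map_comp]
    exact (sF.map (yon S)).paste_horiz sR.flip
  haveI : QuasiCompact (i₁ ≫ s).left := repWith_prop hq sq.flip
  haveI : CompactSpace F.left := QuasiCompact.compactSpace_of_compactSpace (i₁ ≫ s).left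
  let π : F.left ⟶ Spec (CommRingCat.of (W.left.residueField w)) := t.left.fiberToSpecResidueField w
  haveI : Etale π := MorphismProperty.pullback_snd t.left (W.left.fromSpecResidueField w) ‹Etale t.left›
  haveI : CompactSpace (t.left.fiber w) := ‹CompactSpace F.left›
  haveI : Finite F.left := Pt.finite_of_etale_field π
  rw [← Scheme.Hom.range_fiberι]
  haveI : Finite (t.left.fiber w) := ‹Finite F.left›
  exact Set.finite_range _


/-- A locally Noetherian decent algebraic space X over a scheme S is quasi-separated over S (its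
diagonal X ⟶ X ×_S X is representable quasi-compact). (The published statement concludes
quasi-separatedness in the absolute sense, i.e. for the diagonal over the integers; this row
concludes the relative notion over S, which the absolute one implies.) -/
theorem result {S : Scheme.{u}} (X : AlgSp.Space S)
    (hN : AlgSp.IsLocNoethSp X.obj) (hX : AlgSp.IsDecent X.obj) : AlgSp.IsQuasiSeparatedSp X.obj := by
  refine Groth.L23.Qs.isQuasiSeparatedSp_of_compact X.property fun U V P a b fst snd hU hV sq => ?_
  have hc : CompactSpace U.left ∧ CompactSpace V.left := ⟨inferInstance, inferInstance⟩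
  haveI := hc.1; haveI := hc.2
  obtain ⟨U₀, p₀, hp₀, hps₀⟩ := X.property.atlas
  obtain ⟨O, hO, hsub⟩ : ∃ O : U₀.left.Opens, IsCompact (O : Set U₀.left) ∧
      Set.range (Points.ofPt a) ∪ Set.range (Points.ofPt b) ⊆ Points.ofPt p₀ '' O := by
    have hcp : IsCompact (Set.range (Points.ofPt a) ∪ Set.range (Points.ofPt b)) :=
      (isCompact_range (Points.continuous_ofPt a)).union (isCompact_range (Points.continuous_ofPt b))
    have hcov : Set.range (Points.ofPt a) ∪ Set.range (Points.ofPt b) ⊆
        ⋃ B : U₀.left.affineOpens, Points.ofPt p₀ '' (B.1 : Set U₀.left) := fun x _ => by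
      obtain ⟨u, rfl⟩ := Groth.L23.surjective_ofPt hps₀ x
      obtain ⟨B, hB, huB, -⟩ := exists_isAffineOpen_mem_and_subset (x := u) (U := ⊤) trivial
      exact Set.mem_iUnion.2 ⟨⟨B, hB⟩, u, huB, rfl⟩
    obtain ⟨F, hF⟩ := hcp.elim_finite_subcover _ (fun B => Groth.L23.isOpenMap_ofPt hp₀ _ B.1.2) hcov
    refine ⟨F.sup fun B => B.1, ?_, hF.trans ?_⟩
    · simp only [Finset.sup_eq_iSup, TopologicalSpace.Opens.coe_iSup]
      exact F.isCompact_biUnion fun B _ => B.2.isCompact
    · exact Set.iUnion₂_subset fun B hB =>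
        Set.image_mono (Finset.le_sup (f := fun B : U₀.left.affineOpens => B.1) hB)
  let W₁ : Over S := Over.mk (O.ι ≫ U₀.hom)
  let a₁ : (yon S).obj W₁ ⟶ X.obj := (yon S).map (Over.homMk O.ι rfl : W₁ ⟶ U₀) ≫ p₀
  have ha₁ : RepWith @Etale a₁ := Groth.L23.repWith_comp (Groth.L23.repWith_etale_openMk O) hp₀
  obtain ⟨Z, j, b₁, hZ, hj, hb₁, hbs₁, hbj, hr⟩ := Groth.L23.Qs.exists_openSub_chart X.property ha₁
  have hsub' : Set.range (Points.ofPt a) ∪ Set.range (Points.ofPt b) ⊆ Set.range (Points.map j) := by
    rw [hr]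
    refine hsub.trans ?_
    rintro _ ⟨u, hu, rfl⟩
    exact ⟨⟨u, hu⟩, Groth.L23.ofPt_openMk O p₀ ⟨u, hu⟩⟩
  have hqc : IsQuasiCompactSp Z := ⟨W₁, b₁, hb₁, hbs₁, isCompact_iff_compactSpace.1 hO⟩
  obtain ⟨W, p', hW, hp', hps'⟩ := Groth.L23.Qs.exists_affine_atlas hZ hqc
  haveI := hW
  let e : (yon S).obj W ⟶ X.obj := p' ≫ j
  have hpj : p' ≫ j = e := rfl
  have he : RepWith @Etale e := Groth.L23.repWith_comp hp'
    (Groth.L23.repWith_mono (fun φ (_ : IsOpenImmersion φ) => inferInstanceAs (Etale φ)) hj)
  have := Groth.L23.mono_of_repWith_openImmersion hj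
  obtain ⟨a', rfl⟩ := (Groth.L23.exists_factor_iff hj a).2 (by
    rw [Groth.L23.range_map_yon]; exact Set.subset_union_left.trans hsub')
  obtain ⟨b', rfl⟩ := (Groth.L23.exists_factor_iff hj b).2 (by
    rw [Groth.L23.range_map_yon]; exact Set.subset_union_right.trans hsub')
  have sq' : IsPullback ((yon S).map fst) ((yon S).map snd) a' b' :=
    IsPullback.mk' ((cancel_mono j).1 (by simpa only [Category.assoc] using sq.w)) (fun _ φ φ' h₁ h₂ => sq.hom_ext h₁ h₂)
      fun _ x y h => ⟨sq.lift x y (by rw [reassoc_of% h]), sq.lift_fst _ _ _, sq.lift_snd _ _ _⟩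
  obtain ⟨R, t, s, sR⟩ : ∃ (R : Over S) (t : R ⟶ W) (s : R ⟶ W),
      IsPullback ((yon S).map t) ((yon S).map s) p' p' := Groth.L23.exists_isPullback_of_representable hp'.1 p'
  haveI : IsLocallyNoetherian W.left := Groth.L23.Pt.isLocallyNoetherian_of_chart X.property hN he
  haveI : Etale t.left := Groth.L23.repWith_prop hp' sR.flip
  haveI : IsSeparated W.hom := IsSeparated.of_comp W.hom (terminal.from S)
  haveI : IsSeparated t.left := by
    let J : R.left ⟶ pullback W.hom W.hom := pullback.lift t.left s.left (by rw [Over.w t, Over.w s])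
    haveI : Mono J := ⟨fun {A} z z' h => by
      have h₁ : z ≫ t.left = z' ≫ t.left := by simpa [J, pullback.lift_fst] using h =≫ pullback.fst W.hom W.hom
      have h₂ : z ≫ s.left = z' ≫ s.left := by simpa [J, pullback.lift_snd] using h =≫ pullback.snd W.hom W.hom
      have hw : z' ≫ R.hom = z ≫ R.hom := by rw [← Over.w t, reassoc_of% h₁]
      let ζ : Over.mk (z ≫ R.hom) ⟶ R := Over.homMk z rfl
      let ζ' : Over.mk (z ≫ R.hom) ⟶ R := Over.homMk z' hw
      have : ζ = ζ' := (yon S).map_injective (sR.hom_ext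
        (by rw [← Functor.map_comp, ← Functor.map_comp]; exact congrArg _ (Over.OverMorphism.ext h₁))
        (by rw [← Functor.map_comp, ← Functor.map_comp]; exact congrArg _ (Over.OverMorphism.ext h₂)))
      exact congrArg (fun φ => φ.left) this⟩
    rw [show t.left = J ≫ pullback.fst W.hom W.hom from (pullback.lift_fst _ _ _).symm]
    infer_instance
  have hfin : ∀ w : W.left, (t.left ⁻¹' {w}).Finite := by
    refine finite_fibres X.property he (t := t) (s := s) ?_ hX
    refine IsPullback.mk' (by rw [← hpj, reassoc_of% sR.w]) (fun _ φ φ' h₁ h₂ => sR.hom_ext h₁ h₂)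
      fun _ x y h => ⟨sR.lift x y ((cancel_mono j).1 (by simpa only [Category.assoc, hpj] using h)),
        sR.lift_fst _ _ _, sR.lift_snd _ _ _⟩
  haveI : AlgebraicGeometry.IsNoetherian W.left := ⟨⟩
  haveI : CompactSpace R.left := Groth.L23.EtSepQc.compactSpace t.left hfin
  haveI : QuasiCompact t.left := (HasAffineProperty.iff_of_isAffine (P := @QuasiCompact)).2 ‹CompactSpace R.left›
  exact Groth.L23.Qs.compact_of_chart hZ hp' hps' sR U V P a' b' fst snd sq'

end Groth.Agent.S10354
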