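import Groth.Statements.S10355
import Groth.Agent.L23.SchemeDecent

set_option autoImplicit false
set_option backward.isDefEq.respectTransparency.types false
universe u
open CategoryTheory CategoryTheory.Limits AlgebraicGeometry Topology TopologicalSpace
open AlgSp

namespace Groth.Agent.S10355

/-- A decent algebraic space X over a scheme S whose space of points is a single point is a scheme (the
underlying sheaf of X is representable). -/
theorem result {S : Scheme.{u}} (X : AlgSp.Space S)
    (hX : AlgSp.IsDecent X.obj) [Nonempty (AlgSp.Points X.obj)] [Subsingleton (AlgSp.Points X.obj)] :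
    X.obj.obj.IsRepresentable := by
  obtain ⟨G, θ, hθ⟩ := Groth.L23.OpenCharts.exists_scheme_of_open_charts X.property fun y => by
    obtain ⟨z, hz⟩ := (Groth.L23.SL.dense_schemePt X.property hX).nonempty
    exact (show Groth.L23.SL.SchemePt y from Subsingleton.elim z y ▸ hz)
  exact Groth.L23.Pt.isRepresentable_of_iso (asIso θ)

end Groth.Agent.S10355
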