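import Groth.Statements.S10356
import Groth.Agent.L23.FieldSpace

set_option autoImplicit false
set_option backward.isDefEq.respectTransparency.types false
universe u
open CategoryTheory CategoryTheory.Limits AlgebraicGeometry Topology TopologicalSpace
open AlgSp

namespace Groth.Agent.S10356

/-- A reduced decent algebraic space X over a scheme S whose space of points is a single point is
isomorphic to h_{Spec k} for a field k over S. -/
theorem result {S : Scheme.{u}} (X : AlgSp.Space S)
    (hX : AlgSp.IsDecent X.obj) (hr : AlgSp.EtaleLocally (fun U => IsReduced U) X.obj)
    [Nonempty (AlgSp.Points X.obj)] [Subsingleton (AlgSp.Points X.obj)] :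
    ∃ (k : Type u) (_ : Field k) (str : Spec (CommRingCat.of k) ⟶ S),
      Nonempty ((AlgSp.yon S).obj (Over.mk str) ≅ X.obj) := by
  exact Groth.L23.Pt.exists_iso_field_of_subsingleton X.property hX hr

end Groth.Agent.S10356
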