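import Groth.Statements.S10357
import Groth.Agent.L23.FieldSpace

set_option autoImplicit false
set_option backward.isDefEq.respectTransparency.types false
universe u
open CategoryTheory CategoryTheory.Limits AlgebraicGeometry Topology TopologicalSpace
open AlgSp

namespace Groth.Agent.S10357

/-- Let S be a scheme, X a decent algebraic space over S, and Spec k ⟶ X a morphism over S from the
spectrum of a field whose image in S is a closed point s with k algebraic over κ(s). Then the image
point of |X| is closed. Here Spec k ⟶ S is written as Spec k ⟶ Spec κ(s) ⟶ S for a ring map φ : κ(s)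
→ k, integral since k is algebraic over κ(s). -/
theorem result {S : Scheme.{u}} (X : AlgSp.Space S)
    (hX : AlgSp.IsDecent X.obj) (s : ↥S) (hs : IsClosed ({s} : Set ↥S)) (k : Type u) [Field k]
    (φ : S.residueField s ⟶ CommRingCat.of k) (hφ : φ.hom.IsIntegral)
    (p : (AlgSp.yon S).obj (Over.mk (Spec.map φ ≫ S.fromSpecResidueField s)) ⟶ X.obj)
    (t : ↥(Spec (CommRingCat.of k))) :
    IsClosed ({AlgSp.Points.ofPt p t} : Set (AlgSp.Points X.obj)) := by
  have : IsClosedImmersion (S.fromSpecResidueField s) :=
    IsClosedImmersion.of_isPreimmersion _ (by rw [Scheme.range_fromSpecResidueField]; exact hs)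
  have : IsIntegralHom (Spec.map φ) := IsIntegralHom.SpecMap_iff.2 hφ
  exact Groth.L23.Pt.isClosed_of_integral X.property hX p t

end Groth.Agent.S10357
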