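import Groth.Statements.S10358
import Groth.Agent.L23.FieldSpace
import Groth.Agent.L23.Cover

set_option autoImplicit false
set_option backward.isDefEq.respectTransparency.types false
universe u
open CategoryTheory CategoryTheory.Limits AlgebraicGeometry Topology TopologicalSpace
open AlgSp

namespace Groth.Agent.S10358

/-- Let S be a scheme, X a decent algebraic space over S, and Spec k ⟶ X a morphism over S from the
spectrum of a field whose image in S is a closed point s with k finite over κ(s) (Spec k ⟶ S written
through a ring map φ : κ(s) → k). Then Spec k ⟶ X is finite; if moreover φ is bijective (k = κ(s))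
it is a closed immersion. -/
theorem result {S : Scheme.{u}} (X : AlgSp.Space S)
    (hX : AlgSp.IsDecent X.obj) (s : ↥S) (hs : IsClosed ({s} : Set ↥S)) (k : Type u) [Field k]
    (φ : S.residueField s ⟶ CommRingCat.of k) (hφ : φ.hom.Finite)
    (p : (AlgSp.yon S).obj (Over.mk (Spec.map φ ≫ S.fromSpecResidueField s)) ⟶ X.obj) :
    AlgSp.RepWith @IsFinite p ∧
      (Function.Bijective φ.hom → AlgSp.RepWith @IsClosedImmersion p) := by
  have : IsClosedImmersion (S.fromSpecResidueField s) :=
    IsClosedImmersion.of_isPreimmersion _ (by rw [Scheme.range_fromSpecResidueField]; exact hs)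
  have : IsFinite (Spec.map φ) := (IsFinite.SpecMap_iff φ).2 hφ
  have hf := Groth.L23.Pt.isFinite_of_finite X.property hX p
  refine ⟨hf, fun hb => ?_⟩
  have : IsIso φ := (ConcreteCategory.isIso_iff_bijective φ).2 hb
  have : Mono p := Groth.L23.mono_of_yon fun T a b _ => by
    obtain ⟨a, rfl⟩ := (AlgSp.yon S).map_surjective a
    obtain ⟨b, rfl⟩ := (AlgSp.yon S).map_surjective b
    congr 1
    apply Over.OverMorphism.ext
    rw [← cancel_mono (Spec.map φ ≫ S.fromSpecResidueField s)]
    exact (Over.w a).trans (Over.w b).symm
  have hm := Groth.L23.repWith_monomorphisms_of_mono hf.1 (f := p)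
  refine Groth.L23.repWith_mono (P := @IsFinite ⊓ MorphismProperty.monomorphisms Scheme.{u}) ?_
    (Groth.L23.repWith_inf_iff.2 ⟨hf, hm⟩)
  intro A B g hg
  exact (IsClosedImmersion.iff_isFinite_and_mono g).2 hg

end Groth.Agent.S10358
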