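import Groth.Statements.S10360
import Groth.Agent.L23.Decent2

set_option autoImplicit false
set_option backward.isDefEq.respectTransparency.types false
universe u
open CategoryTheory CategoryTheory.Limits AlgebraicGeometry Topology TopologicalSpace
open AlgSp

namespace Groth.Agent.S10360

/-- (1) ⇔ (4): for an algebraic space X over a scheme S and x ∈ |X|, the fibres over x of |U| → |X| and
|U ×_X U| → |X| are finite for every etale h_U ⟶ X with U affine, if and only if x is represented by
a monomorphism Spec k ⟶ X which is representable quasi-compact. -/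
theorem result {S : Scheme.{u}} (X : AlgSp.Space S)
    (x : AlgSp.Points X.obj) :
    (∀ (U : Over S) (φ : (AlgSp.yon S).obj U ⟶ X.obj), IsAffine U.left → AlgSp.RepWith @Etale φ →
        ∀ (R : Over S) (s t : R ⟶ U), IsPullback ((AlgSp.yon S).map t) ((AlgSp.yon S).map s) φ φ →
          (AlgSp.Points.ofPt φ ⁻¹' {x}).Finite ∧ (AlgSp.Points.ofPt ((AlgSp.yon S).map t ≫ φ) ⁻¹' {x}).Finite) ↔
      ∃ p : AlgSp.FieldPt X.obj, AlgSp.Points.mk p = x ∧ Mono p.toHom ∧ AlgSp.RepWith @QuasiCompact p.toHom := by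
  constructor
  · intro h
    obtain ⟨U, φ, hU, hφ, ⟨u, rfl⟩⟩ := Groth.L23.exists_affine_etale_nhd X.property x
    obtain ⟨R, t, s, sq⟩ := Groth.L23.exists_isPullback_of_representable (X.property.representable_from_yon φ) φ
    obtain ⟨m, hm, hmm⟩ := Groth.L23.Pt.exists_mono_of_finite_rel X.property φ u u rfl sq
      ((h U φ hU hφ R s t sq).2.subset fun r hr => by
        show AlgSp.Points.ofPt ((AlgSp.yon S).map t ≫ φ) r = _
        rw [Groth.L23.ofPt_comp, hr.2])
    refine ⟨m, hm, hmm, (Groth.L23.Pt.qc_iff_finite_fibres X.property m).2 fun V ψ hV hψ => ?_⟩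
    obtain ⟨R', t', s', sq'⟩ := Groth.L23.exists_isPullback_of_representable (X.property.representable_from_yon ψ) ψ
    rw [hm]
    exact (h V ψ hV hψ R' s' t' sq').1
  · rintro ⟨p, rfl, hm, hq⟩ U φ hU hφ R s t sq
    have hf := (Groth.L23.Pt.qc_iff_finite_fibres X.property p).1 hq U φ hU hφ
    refine ⟨hf, ((hf.prod hf).biUnion fun uu huu => Groth.L23.Pt.finite_rel_of_mono X.property p φ hφ uu.1 uu.2 huu.1 huu.2 sq).subset
      fun r hr => ?_⟩
    have h₁ : AlgSp.Points.ofPt φ (t.left r) = AlgSp.Points.mk p := (Groth.L23.ofPt_comp t φ r).symm.trans hr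
    have h₂ : AlgSp.Points.ofPt φ (s.left r) = AlgSp.Points.mk p := by
      rw [← Groth.L23.ofPt_comp, ← sq.w]; exact hr
    exact Set.mem_biUnion (x := (s.left r, t.left r)) ⟨h₂, h₁⟩ ⟨rfl, rfl⟩


end Groth.Agent.S10360
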