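import Groth.Statements.S10364
import Groth.Agent.L23.Decent2

set_option autoImplicit false
set_option backward.isDefEq.respectTransparency.types false
universe u
open CategoryTheory CategoryTheory.Limits AlgebraicGeometry Topology TopologicalSpace
open AlgSp

namespace Groth.Agent.S10364

/-- Let X be an algebraic space over a scheme S with a Zariski covering by open subspaces X_i ⟶ X. If
each X_i is decent then X is decent. -/
theorem result {S : Scheme.{u}} (X : AlgSp.Space S) {ι : Type u} (Xi : ι → AlgSp.Space S)
    (j : ∀ i, Xi i ⟶ X) (hj : AlgSp.IsZarCover (fun i => (Xi i).obj) (fun i => (j i).hom))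
    (hd : ∀ i, AlgSp.IsDecent (Xi i).obj) : AlgSp.IsDecent X.obj := 
  Groth.L23.Pt.isDecent_of_open_cover X.property (fun i => (Xi i).obj) (fun i => (j i).hom) (fun i => (Xi i).property) hj.1 hj.2 hd


end Groth.Agent.S10364
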