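import Groth.Statements.S1037
import Groth.Agent.Lead.ResD


set_option autoImplicit false
universe u
open CategoryTheory CategoryTheory.Limits AlgebraicGeometry
attribute [local instance] HasDerivedCategory.standard
open Perf

namespace Groth.Agent.S1037

/-- Let the scheme X be quasi-compact, quasi-separated and have the resolution property and E, F
strictly perfect complexes of O_X-modules. Every morphism α : E ⟶ F in D(O_X) is represented by a
roof E ⟵ G ⟶ F of genuine cochain maps with G strictly perfect and G ⟶ E a quasi-isomorphism: the
image of G ⟶ E composed with α equals the image of G ⟶ F. -/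
theorem result (X : Scheme.{u}) [CompactSpace ↥X] [QuasiSeparatedSpace ↥X] (hX : PerfAux.HasResolutionProperty X)
    (E F : CochainComplex X.Modules ℤ) (hE : DCoh.IsStrictlyPerfect E) (hF : DCoh.IsStrictlyPerfect F)
    (α : DCoh.toD X E ⟶ DCoh.toD X F) :
    ∃ (G : CochainComplex X.Modules ℤ) (g : G ⟶ E) (h : G ⟶ F), DCoh.IsStrictlyPerfect G ∧ QuasiIso g ∧
      DerivedCategory.Q.map g ≫ α = DerivedCategory.Q.map h := by
  exact Groth.Lead.ResD.exists_roof hX E F hE hF α


end Groth.Agent.S1037
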