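import Groth.Statements.S10374
import Groth.Statements.S10374
import Groth.Agent.L23.ElemExists

set_option autoImplicit false
universe u
open CategoryTheory CategoryTheory.Limits AlgebraicGeometry Topology TopologicalSpace
open AlgSp

set_option backward.isDefEq.respectTransparency false
set_option backward.isDefEq.respectTransparency.types false
set_option linter.style.haveILetI false

namespace Groth.Agent.S10374

/-- Let S be a scheme and X a decent algebraic space over S. Every point x ∈ |X| admits an etale
neighbourhood (U, u) ⟶ (X, x) which is elementary, with U an affine scheme and u the only point of U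
over x; being elementary means that Spec κ(u) ⟶ X is a monomorphism, equivalently that the residue
field of X at x maps isomorphically to κ(u). -/
theorem result {S : Scheme.{u}} (X : AlgSp.Space S) (hX : AlgSp.IsDecent X.obj)
    (x : AlgSp.Points X.obj) :
    ∃ (U : Over S) (a : (AlgSp.yon S).obj U ⟶ X.obj) (u : ↥U.left), IsAffine U.left ∧
      AlgSp.IsElemEtaleNbhd a u x ∧ AlgSp.Points.ofPt a ⁻¹' {x} = {u} := by
  obtain ⟨V, a, v, hV, ha, hv, hdeg⟩ := Groth.L23.ElemEx.exists_degOne_chart X.property x (hX x)
  obtain ⟨p, hp, hm, -⟩ := hX x
  haveI := hm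
  refine ⟨V, a, v, hV, ⟨ha, hv, Groth.L23.ElemEx.mono_of_degOneOn X.property p hp ha hv hdeg⟩, ?_⟩
  exact Set.ext fun w => ⟨fun hw => Groth.L23.ElemEx.eq_of_degOneOn X.property hdeg hw hv, fun hw => hw ▸ hv⟩

end Groth.Agent.S10374
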