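import Groth.Statements.S10376
import Groth.Agent.S10295
import Groth.Agent.S10297
import Groth.Agent.L23.QcCalc
import Groth.Agent.L23.MorCalc
import Groth.Agent.L23.EtColimit
import Groth.Agent.L23.OpenSub
import Groth.Agent.L23.AffineMor

set_option autoImplicit false
universe u
open CategoryTheory CategoryTheory.Limits AlgebraicGeometry Topology TopologicalSpace
open AlgSp

set_option backward.isDefEq.respectTransparency false
set_option backward.isDefEq.respectTransparency.types false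
set_option linter.style.haveILetI false

namespace Groth.Agent.S10376

/-- Let S be a scheme, Y and V algebraic spaces over S, j : V ⟶ Y a quasi-compact open immersion, and π
: Z ⟶ V an integral morphism. Then one can find an integral morphism ν : Y' ⟶ Y for which Z is
isomorphic over V to the preimage in Y' of V: there is j' : Z ⟶ Y' making the square (j', π, ν, j)
cartesian. -/
theorem result {S : Scheme.{u}} {V Y Z : AlgSp.Space S} (j : V ⟶ Y)
    (hj : AlgSp.RepWith @IsOpenImmersion j.hom) (hjq : AlgSp.IsQuasiCompactMor j.hom) (π : Z ⟶ V)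
    (hπ : AlgSp.IsIntegralMor π.hom) :
    ∃ (Y' : AlgSp.Space S) (ν : Y' ⟶ Y) (j' : Z ⟶ Y'), AlgSp.IsIntegralMor ν.hom ∧
      IsPullback j'.hom π.hom ν.hom j.hom := by
  haveI := Groth.L23.mono_of_repWith_openImmersion hj
  have hπ' := Groth.L23.isIntegralMor_iff.1 hπ
  have hf : AlgSp.IsQuasiCompactMor (π ≫ j).hom := Groth.L23.qcMor_comp V.property Y.property
    (Groth.L23.isQuasiCompactMor_of_repWith (Groth.L23.repWith_mono (Q := @QuasiCompact) (fun φ (_ : IsIntegralHom φ) => inferInstance) hπ')) hjq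
  have hfs : AlgSp.IsQuasiSeparatedMor (π ≫ j).hom := Groth.L23.qsMor_comp
    ((Groth.L23.isQuasiSeparatedMor_iff hπ'.1).2
      (Groth.L23.repWith_mono (Q := @QuasiSeparated) (fun φ (_ : IsIntegralHom φ) => inferInstance) hπ'))
    ((Groth.L23.isQuasiSeparatedMor_iff hj.1).2
      (Groth.L23.repWith_mono (Q := @QuasiSeparated) (fun φ (_ : IsOpenImmersion φ) => inferInstance) hj))
  obtain ⟨X', ν, f', hn⟩ := Groth.Agent.S10295.result (π ≫ j) hf hfs
  have sqP := IsPullback.of_hasPullback ν.hom j.hom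
  let P : AlgSp.Space S := ⟨pullback ν.hom j.hom,
    Groth.L23.isAlgSpace_of_isPullback Y.property.diag X'.property V.property sqP⟩
  let b : P ⟶ X' := ObjectProperty.homMk (pullback.fst ν.hom j.hom)
  let νW : P ⟶ V := ObjectProperty.homMk (pullback.snd ν.hom j.hom)
  obtain ⟨l, hl₁, hl₂⟩ := sqP.exists_lift f'.hom π.hom hn.1
  let f'W : Z ⟶ P := ObjectProperty.homMk l
  have sq1 : IsPullback (𝟙 Z : Z ⟶ Z).hom π.hom (π ≫ j).hom j.hom :=
    IsPullback.mk' (by simp) (fun T φ φ' h₁ _ => by simpa using h₁)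
      fun T a c e => ⟨a, by simp, (cancel_mono j.hom).1 (by
        rw [Category.assoc]
        exact e)⟩
  have hP := Groth.Agent.S10297.result (π ≫ j) hf hfs ν f' hn j
    (Groth.L23.EtColim.isEtaleMor_of_repWith V.property Y.property
      (Groth.L23.repWith_mono (Q := @Etale) (fun φ (_ : IsOpenImmersion φ) => inferInstance) hj))
    (𝟙 Z) π sq1 b νW sqP f'W (ObjectProperty.hom_ext _ hl₂) (ObjectProperty.hom_ext _ (by
      show l ≫ pullback.fst ν.hom j.hom = 𝟙 Z.obj ≫ f'.hom
      rw [Category.id_comp]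
      exact hl₁))
  obtain ⟨h, ⟨hh₁, hh₂⟩, -⟩ := hP.2.2 Z.property π.hom (𝟙 _) hπ (Category.id_comp _)
  have hid : h ≫ l = 𝟙 _ := by
    obtain ⟨g, -, hu⟩ := hP.2.2 P.property νW.hom l hP.2.1 hl₂
    rw [hu (h ≫ l) ⟨?_, ?_⟩, hu (𝟙 _) ⟨Category.comp_id _, Category.id_comp _⟩]
    · show l ≫ h ≫ l = l
      rw [← Category.assoc]
      exact (congrArg (· ≫ l) hh₁).trans (Category.id_comp _)
    · show (h ≫ l) ≫ pullback.snd ν.hom j.hom = _
      rw [Category.assoc, hl₂]
      exact hh₂
  refine ⟨X', ν, f', hn.2.1, ?_⟩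
  exact sqP.of_iso ⟨h, l, hid, hh₁⟩ (Iso.refl _) (Iso.refl _) (Iso.refl _) (by
    show pullback.fst ν.hom j.hom ≫ 𝟙 _ = h ≫ f'.hom
    rw [Category.comp_id, ← hl₁, ← Category.assoc, hid, Category.id_comp])
    (by
      show pullback.snd ν.hom j.hom ≫ 𝟙 _ = h ≫ π.hom
      rw [Category.comp_id]
      exact hh₂.symm) (by simp) (by simp)

end Groth.Agent.S10376
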