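import Groth.Statements.S10382
import Groth.Agent.L23.Decent2
import Groth.Agent.L23.AlgSpace

set_option autoImplicit false
set_option backward.isDefEq.respectTransparency.types false
universe u
open CategoryTheory CategoryTheory.Limits AlgebraicGeometry Topology TopologicalSpace
open AlgSp

namespace Groth.Agent.S10382

/-- The composition of two decent morphisms of algebraic spaces over a scheme S is decent. -/
theorem result {S : Scheme.{u}} {X Y Z : AlgSp.Space S} (f : X ⟶ Y) (g : Y ⟶ Z)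
    (hf : AlgSp.IsDecentMor f.hom) (hg : AlgSp.IsDecentMor g.hom) : AlgSp.IsDecentMor (f ≫ g).hom := by
  intro T F' c fst snd sq
  obtain ⟨W, w₁, w₂, sW⟩ : ∃ (W : AlgSp.Sp S) (w₁ : W ⟶ Y.obj) (w₂ : W ⟶ (AlgSp.yon S).obj T), IsPullback w₁ w₂ g.hom c :=
    ⟨_, _, _, IsPullback.of_hasPullback _ _⟩
  obtain ⟨l, hl₁, hl₂⟩ := sW.exists_lift (fst ≫ f.hom) snd (by rw [Category.assoc]; exact sq.w)
  have sF : IsPullback fst l f.hom w₁ := (IsPullback.of_bot (by rw [hl₂]; exact sq) hl₁.symm sW)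
  exact Groth.L23.Pt.isDecent_of_fibres l (hg c w₁ w₂ sW) fun p Q a b sQ =>
    hf (p.toHom ≫ w₁) (a ≫ fst) b (sQ.paste_horiz sF)


end Groth.Agent.S10382
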