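import Groth.Statements.S10385
import Groth.Agent.L23.Decent2
import Groth.Agent.L23.LqfRep

set_option autoImplicit false
set_option backward.isDefEq.respectTransparency.types false
universe u
open CategoryTheory CategoryTheory.Limits AlgebraicGeometry Topology TopologicalSpace
open AlgSp

namespace Groth.Agent.S10385

/-- Let S be a scheme, X and Y algebraic spaces over S, and f : X ⟶ Y a quasi-compact, etale and
surjective morphism. If each point of X can be represented by a monomorphism whose source is the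
spectrum of a field, then so can each point of Y. -/
theorem result {S : Scheme.{u}} {X Y : AlgSp.Space S} (f : X ⟶ Y)
    (hq : AlgSp.IsQuasiCompactMor f.hom) (he : AlgSp.IsEtaleMor f.hom) (hs : AlgSp.IsSurjectiveMor f.hom)
    (hX : ∀ x : AlgSp.Points X.obj, ∃ p : AlgSp.FieldPt X.obj, AlgSp.Points.mk p = x ∧ Mono p.toHom)
    (y : AlgSp.Points Y.obj) : ∃ q : AlgSp.FieldPt Y.obj, AlgSp.Points.mk q = y ∧ Mono q.toHom := by
  obtain ⟨x, rfl⟩ := hs y
  obtain ⟨p, hp, hm⟩ := hX x
  rw [← hp, AlgSp.Points.map_mk]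
  refine Groth.L23.Pt.exists_mono_of_selfQc Y.property _ ?_
  have e : (p.map f.hom).toHom = p.toHom ≫ f.hom := AlgSp.FieldPt.toHom_map _ _
  refine (Groth.L23.Pt.compact_eq_iff e e).2 ?_
  obtain ⟨T, fst, snd, sT⟩ : ∃ (T : AlgSp.Sp S) (fst : T ⟶ X.obj) (snd : T ⟶ (AlgSp.yon S).obj p.pt),
      IsPullback fst snd f.hom (p.toHom ≫ f.hom) := ⟨_, _, _, IsPullback.of_hasPullback _ _⟩
  have hT : AlgSp.IsAlgSpace T :=
    Groth.L23.isAlgSpace_of_isPullback Y.property.diag X.property (AlgSp.IsAlgSpace.yon_obj _) sT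
  obtain ⟨U, a, ha, has, hU⟩ := hq (AlgSp.IsAlgSpace.yon_obj _) Groth.L23.isQuasiCompactSp_of_compactSpace _ _ snd sT
  have he : AlgSp.LocP @Etale snd := Groth.L23.locP_of_isPullback Groth.L23.etLocal_etale X.property Y.property
    (AlgSp.IsAlgSpace.yon_obj _) sT ((Groth.L23.isEtaleMor_iff_locP X.property Y.property _).1 he)
  obtain ⟨c, hc⟩ := (AlgSp.yon S).map_surjective (a ≫ snd)
  let c' : U.left ⟶ Spec (CommRingCat.of p.K) := c.left
  have : Etale c' := he a (𝟙 _) c ha
    (Groth.L23.repWith_of_isIso (P := (@Etale : MorphismProperty Scheme.{u})) _) (by rw [Category.comp_id, hc])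
  have := Groth.L23.Pt.finite_of_etale_field c'
  have : Finite (AlgSp.Points T) := Finite.of_surjective _ (Groth.L23.surjective_ofPt has)
  obtain ⟨l, hl₁, hl₂⟩ := sT.exists_lift (pullback.fst (p.toHom ≫ f.hom) (p.toHom ≫ f.hom) ≫ p.toHom)
    (pullback.snd (p.toHom ≫ f.hom) (p.toHom ≫ f.hom)) (by rw [Category.assoc]; exact pullback.condition)
  have : Mono l := ⟨fun a b e => pullback.hom_ext ((cancel_mono p.toHom).1 (by
    simp only [Category.assoc, ← hl₁]; rw [reassoc_of% e]) ) (by rw [← hl₂, reassoc_of% e])⟩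
  exact @Finite.compactSpace _ _ (Finite.of_injective _ (Groth.L23.QFL.map_injective_of_mono l))


end Groth.Agent.S10385
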