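import Groth.Statements.S10386
import Groth.Agent.L23.Decent2

set_option autoImplicit false
set_option backward.isDefEq.respectTransparency.types false
universe u
open CategoryTheory CategoryTheory.Limits AlgebraicGeometry Topology TopologicalSpace
open AlgSp

namespace Groth.Agent.S10386

/-- (3) ⇒ (1): let S be a scheme, X and Y algebraic spaces over S, and f : X ⟶ Y a morphism such that Z
×_Y X is decent for every affine scheme Z and every Z ⟶ Y. Then f is decent, i.e. T ×_Y X is decent
for every scheme T over Y. -/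
theorem result {S : Scheme.{u}} {X Y : AlgSp.Space S} (f : X ⟶ Y)
    (h : ∀ (Z : Over S) (g : (AlgSp.yon S).obj Z ⟶ Y.obj) (P : AlgSp.Sp S) (fst : P ⟶ X.obj)
      (snd : P ⟶ (AlgSp.yon S).obj Z), IsAffine Z.left → IsPullback fst snd f.hom g → AlgSp.IsDecent P) :
    AlgSp.IsDecentMor f.hom := by
  intro T F' g fst snd sq
  let B := fun i : T.left.affineCover.I₀ => (Over.mk (T.left.affineCover.f i ≫ T.hom) : Over S)
  let j := fun i : T.left.affineCover.I₀ => (Over.homMk (T.left.affineCover.f i) : B i ⟶ T)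
  have hF' : AlgSp.IsAlgSpace F' := Groth.L23.isAlgSpace_of_isPullback Y.property.diag X.property (AlgSp.IsAlgSpace.yon_obj T) sq
  have sj := fun i => IsPullback.of_hasPullback snd ((AlgSp.yon S).map (j i))
  have hj : ∀ i, AlgSp.RepWith @IsOpenImmersion ((AlgSp.yon S).map (j i)) := fun i =>
    Groth.L23.repWith_map (show IsOpenImmersion (T.left.affineCover.f i) from inferInstance)
  refine Groth.L23.Pt.isDecent_of_open_cover hF' _ (fun i => pullback.fst snd ((AlgSp.yon S).map (j i)))
    (fun i => Groth.L23.isAlgSpace_of_isPullback (AlgSp.IsAlgSpace.yon_obj T).diag hF' (AlgSp.IsAlgSpace.yon_obj _) (sj i))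
    (fun i => Groth.L23.repWith_of_isPullback (sj i).flip (hj i)) (fun x => ?_)
    (fun i => h (B i) ((AlgSp.yon S).map (j i) ≫ g) _ _ _ (inferInstanceAs (IsAffine (T.left.affineCover.X i)))
      ((sj i).paste_horiz sq))
  obtain ⟨t, ht⟩ := (AlgSp.Points.schemeEquiv T).surjective (AlgSp.Points.map snd x)
  obtain ⟨i, b, rfl⟩ := T.left.affineCover.exists_eq t
  obtain ⟨ρ, hρ, -⟩ := Groth.L23.exists_of_isPullback (sj i) x (AlgSp.Points.ofScheme (B i) b) (by
    rw [← ht, ← AlgSp.Points.ofPt_eq_map_ofScheme, Groth.L23.ofPt_map]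
    rfl)
  exact ⟨i, ρ, hρ⟩


end Groth.Agent.S10386
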