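import Groth.Statements.S10387
import Groth.Agent.L23.Decent2
import Groth.Agent.L23.Points

set_option autoImplicit false
set_option backward.isDefEq.respectTransparency.types false
universe u
open CategoryTheory CategoryTheory.Limits AlgebraicGeometry Topology TopologicalSpace
open AlgSp

namespace Groth.Agent.S10387

/-- (5) ⇒ (1): let S be a scheme, X and Y algebraic spaces over S, f : X ⟶ Y a morphism, and V ⟶ Y a
surjective etale morphism from a scheme. If the base change V ×_Y X ⟶ V is a decent morphism, then f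
is decent. -/
theorem result {S : Scheme.{u}} {X Y : AlgSp.Space S} (f : X ⟶ Y) {V : Over S}
    (p : (AlgSp.yon S).obj V ⟶ Y.obj) (hp : AlgSp.RepWith @Etale p) (hps : AlgSp.RepWith @Surjective p)
    (X' : AlgSp.Sp S) (fst : X' ⟶ X.obj) (snd : X' ⟶ (AlgSp.yon S).obj V) (hsq : IsPullback fst snd f.hom p)
    (h : AlgSp.IsDecentMor snd) : AlgSp.IsDecentMor f.hom := by
  intro T F' g fst' snd' sq
  refine Groth.L23.Pt.isDecent_of_fibres snd' (Groth.L23.Pt.isDecent_yon T) fun q P a b sP => ?_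
  obtain ⟨W, c, d, sW⟩ := Groth.L23.exists_isPullback_of_representable (Y.property.representable_from_yon (q.toHom ≫ g)) p
  have : Surjective c.left := Groth.L23.repWith_prop hps sW.flip
  obtain ⟨e, -⟩ := c.left.surjective (Classical.arbitrary q.pt.left)
  let ι : Over.mk (W.left.fromSpecResidueField e ≫ W.hom) ⟶ W := Over.homMk (W.left.fromSpecResidueField e)
  let E := Over.mk (W.left.fromSpecResidueField e ≫ W.hom)
  have sP' := IsPullback.of_hasPullback b ((AlgSp.yon S).map (ι ≫ c))
  have sY := sP'.paste_horiz (sP.paste_horiz sq)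
  have e₁ : (AlgSp.yon S).map (ι ≫ c) ≫ q.toHom ≫ g = (AlgSp.yon S).map (ι ≫ d) ≫ p := by
    rw [Functor.map_comp, Functor.map_comp, Category.assoc, Category.assoc, sW.w]
  rw [e₁] at sY
  let l := hsq.lift (pullback.fst b ((AlgSp.yon S).map (ι ≫ c)) ≫ a ≫ fst')
    (pullback.snd b ((AlgSp.yon S).map (ι ≫ c)) ≫ (AlgSp.yon S).map (ι ≫ d)) (by rw [sY.w, Category.assoc])
  have hl : IsPullback l (pullback.snd b ((AlgSp.yon S).map (ι ≫ c))) snd ((AlgSp.yon S).map (ι ≫ d)) := by
    refine IsPullback.of_right ?_ (hsq.lift_snd _ _ _) hsq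
    rw [hsq.lift_fst]
    exact sY
  have hd := h _ _ _ hl
  have : Finite ↥(Spec (W.left.residueField e)) := inferInstanceAs (Finite (PrimeSpectrum _))
  have hqc : AlgSp.RepWith @QuasiCompact ((AlgSp.yon S).map (ι ≫ c)) :=
    Groth.L23.repWith_map (Groth.L23.Pt.quasiCompact_of_finite (A := Spec (W.left.residueField e)) (ι ≫ c).left)
  have hsu : AlgSp.RepWith @Surjective ((AlgSp.yon S).map (ι ≫ c)) :=
    Groth.L23.repWith_map (⟨fun z => ⟨IsLocalRing.closedPoint (W.left.residueField e), Subsingleton.elim _ _⟩⟩ : Surjective (ι ≫ c).left)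
  intro x
  obtain ⟨x', rfl⟩ := Groth.L23.surjective_map_of_repWith (Groth.L23.repWith_of_isPullback sP'.flip hsu) x
  obtain ⟨r, hr, -, hrq⟩ := hd x'
  have hP : AlgSp.IsAlgSpace P := Groth.L23.isAlgSpace_of_isPullback (AlgSp.IsAlgSpace.yon_obj T).diag
    (Groth.L23.isAlgSpace_of_isPullback Y.property.diag X.property (AlgSp.IsAlgSpace.yon_obj T) sq)
    (AlgSp.IsAlgSpace.yon_obj _) sP
  rw [← hr, AlgSp.Points.map_mk]
  refine Groth.L23.Pt.goodPt_of_qc hP _ ?_
  rw [AlgSp.FieldPt.toHom_map]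
  exact Groth.L23.repWith_comp hrq (Groth.L23.repWith_of_isPullback sP'.flip hqc)

end Groth.Agent.S10387
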