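import Groth.Statements.S10389
import Groth.Agent.L23.QFPoints

set_option autoImplicit false
set_option backward.isDefEq.respectTransparency.types false
universe u
open CategoryTheory CategoryTheory.Limits AlgebraicGeometry Topology TopologicalSpace
open AlgSp

namespace Groth.Agent.S10389

/-- Let W = X ×_Y Z be a fibre product of algebraic spaces over a scheme S with projections p, q, and
let x ∈ |X|, z ∈ |Z| lie over the same point y ∈ |Y|. If y is represented by a monomorphism Spec k ⟶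
Y from the spectrum of a field and g : Z ⟶ Y is quasi-finite at z, then the set of points of |W|
mapping to x and to z is finite. (Special case: Y decent and g etale.) -/
theorem result {S : Scheme.{u}} {X Y Z W : AlgSp.Space S} (f : X ⟶ Y)
    (g : Z ⟶ Y) (p : W ⟶ X) (q : W ⟶ Z) (hW : IsPullback p.hom q.hom f.hom g.hom) (x : AlgSp.Points X.obj)
    (z : AlgSp.Points Z.obj) (hxz : AlgSp.Points.map f.hom x = AlgSp.Points.map g.hom z)
    (hy : ∃ r : AlgSp.FieldPt Y.obj, AlgSp.Points.mk r = AlgSp.Points.map g.hom z ∧ Mono r.toHom)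
    (hg : AlgSp.HasAtMor (fun U _ h u => ∃ W : U.Opens, u ∈ W ∧ LocallyQuasiFinite (W.ι ≫ h) ∧ LocallyOfFiniteType (W.ι ≫ h)) g.hom z) :
    {w : AlgSp.Points W.obj | AlgSp.Points.map p.hom w = x ∧ AlgSp.Points.map q.hom w = z}.Finite := by
  obtain ⟨r, hr, hmono⟩ := hy
  let K₀ : Over S := r.pt
  obtain ⟨Zr, ζ, gr, sZ⟩ : ∃ (Zr : AlgSp.Sp S) (ζ : Zr ⟶ Z.obj) (gr : Zr ⟶ (AlgSp.yon S).obj K₀),
      IsPullback ζ gr g.hom r.toHom := ⟨_, _, _, IsPullback.of_hasPullback _ _⟩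
  obtain ⟨Xr, ξ, fr, sX⟩ : ∃ (Xr : AlgSp.Sp S) (ξ : Xr ⟶ X.obj) (fr : Xr ⟶ (AlgSp.yon S).obj K₀),
      IsPullback ξ fr f.hom r.toHom := ⟨_, _, _, IsPullback.of_hasPullback _ _⟩
  have : Mono ζ := sZ.mono_fst_of_mono hmono
  have : Mono ξ := sX.mono_fst_of_mono hmono
  have hK := AlgSp.IsAlgSpace.yon_obj K₀
  have hZr : AlgSp.IsAlgSpace Zr := Groth.L23.isAlgSpace_of_isPullback Y.property.diag Z.property hK sZ
  let t : (K₀.left : Scheme.{u}) := IsLocalRing.closedPoint r.K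
  have hsub : Subsingleton K₀.left := inferInstanceAs (Subsingleton (PrimeSpectrum r.K))
  have ht : AlgSp.Points.map r.toHom (AlgSp.Points.ofScheme K₀ t) = AlgSp.Points.map g.hom z := by
    rw [← AlgSp.Points.ofPt_eq_map_ofScheme, AlgSp.Points.ofPt_toHom, hr]
  obtain ⟨zr, hzr, -⟩ := Groth.L23.exists_of_isPullback sZ z _ ht.symm
  obtain ⟨xr, hxr, -⟩ := Groth.L23.exists_of_isPullback sX x _ (hxz.trans ht.symm)
  obtain ⟨P, hP⟩ := AlgSp.Points.mk_surjective xr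
  have hqz := Groth.L23.QFL.hasAtMor_of_isPullback (f' := gr) hK sZ (x' := zr) (hzr.symm ▸ hg)
  obtain ⟨U, V, a, b, h, u, ha, hb, w, rfl, W₀, huW, h₁, h₂⟩ := hqz
  obtain ⟨l, hl⟩ := (AlgSp.yon S).map_surjective b
  obtain ⟨_, ⟨B, hB, rfl⟩, huB, hsB⟩ := U.left.isBasis_affineOpens.exists_subset_of_mem_open huW W₀.isOpen
  change U.left.Opens at B
  have : IsAffine (B : Scheme.{u}) := hB
  let k₀ : (B : Scheme.{u}) ⟶ K₀.left := B.ι ≫ h.left ≫ l.left
  have hl' : Etale l.left := Groth.L23.repWith_prop hb (IsPullback.of_horiz_isIso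
    (fst := 𝟙 _) (snd := (AlgSp.yon S).map l) (f := b) (g := 𝟙 _) ⟨by rw [Category.id_comp, Category.comp_id, hl]⟩)
  have hBW : B.ι = U.left.homOfLE (hsB : B ≤ W₀) ≫ W₀.ι := by simp
  have : LocallyQuasiFinite k₀ := by
    show LocallyQuasiFinite (B.ι ≫ h.left ≫ l.left)
    rw [hBW, Category.assoc, ← Category.assoc W₀.ι]
    infer_instance
  have : LocallyOfFiniteType k₀ := by
    show LocallyOfFiniteType (B.ι ≫ h.left ≫ l.left)
    rw [hBW, Category.assoc, ← Category.assoc W₀.ι]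
    infer_instance
  have : QuasiCompact k₀ :=
    (HasAffineProperty.iff_of_isAffine (P := @QuasiCompact)).2 inferInstance
  obtain ⟨κ, hκ⟩ := (AlgSp.yon S).map_surjective (P.toHom ≫ fr)
  let a₀ : (AlgSp.yon S).obj (Over.mk (B.ι ≫ U.hom)) ⟶ Zr :=
    (AlgSp.yon S).map (Over.homMk B.ι rfl : Over.mk (B.ι ≫ U.hom) ⟶ U) ≫ a
  let j₀ : Over.mk (B.ι ≫ U.hom) ⟶ K₀ := (Over.homMk B.ι rfl : Over.mk (B.ι ≫ U.hom) ⟶ U) ≫ h ≫ l
  have w₀ : a₀ ≫ gr = (AlgSp.yon S).map j₀ := by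
    simp only [a₀, j₀, Category.assoc, w, Functor.map_comp, hl]
  have sT := (IsPullback.of_hasPullback κ j₀)
  have sT' : IsPullback (pullback.fst κ j₀).left (pullback.snd κ j₀).left κ.left k₀ :=
    sT.map (Over.forget S)
  have : LocallyQuasiFinite (pullback.fst κ j₀).left := MorphismProperty.of_isPullback sT'.flip ‹LocallyQuasiFinite k₀›
  have : QuasiCompact (pullback.fst κ j₀).left := MorphismProperty.of_isPullback sT'.flip ‹QuasiCompact k₀›
  have : Finite ↥(pullback κ j₀).left := by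
    have hs : Subsingleton P.pt.left := inferInstanceAs (Subsingleton (PrimeSpectrum P.K))
    have hf := (pullback.fst κ j₀).left.finite_preimage_singleton (IsLocalRing.closedPoint P.K)
    exact Set.finite_univ_iff.1 (hf.subset fun x _ => @Subsingleton.elim _ hs _ _)
  obtain ⟨c, hc₁, hc₂⟩ := hW.exists_lift ((AlgSp.yon S).map (pullback.fst κ j₀) ≫ P.toHom ≫ ξ)
    ((AlgSp.yon S).map (pullback.snd κ j₀) ≫ a₀ ≫ ζ) (by
      simp only [Category.assoc, sX.w, sZ.w]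
      rw [reassoc_of% w₀, ← reassoc_of% hκ, ← Functor.map_comp_assoc, pullback.condition, Functor.map_comp_assoc])
  refine (Set.finite_range (AlgSp.Points.ofPt c)).subset ?_
  rintro ω ⟨hω₁, hω₂⟩
  obtain ⟨Wr, η, wr, sW⟩ : ∃ (Wr : AlgSp.Sp S) (η : Wr ⟶ W.obj) (wr : Wr ⟶ (AlgSp.yon S).obj K₀),
      IsPullback η wr (q.hom ≫ g.hom) r.toHom := ⟨_, _, _, IsPullback.of_hasPullback _ _⟩
  obtain ⟨ωr, hωr, -⟩ := Groth.L23.exists_of_isPullback sW ω (AlgSp.Points.ofScheme K₀ t) (by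
    rw [AlgSp.Points.map_comp, hω₂, ht])
  obtain ⟨qr, hqr₁, hqr₂⟩ := sZ.exists_lift (η ≫ q.hom) wr (by rw [Category.assoc, sW.w])
  obtain ⟨pr, hpr₁, hpr₂⟩ := sX.exists_lift (η ≫ p.hom) wr (by rw [Category.assoc, hW.w, sW.w])
  have hq' : AlgSp.Points.map qr ωr = AlgSp.Points.ofPt a u := Groth.L23.QFL.map_injective_of_mono ζ (by
    rw [hzr, ← AlgSp.Points.map_comp, hqr₁, AlgSp.Points.map_comp, hωr, hω₂])
  have hp' : AlgSp.Points.map pr ωr = xr := Groth.L23.QFL.map_injective_of_mono ξ (by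
    rw [hxr, ← AlgSp.Points.map_comp, hpr₁, AlgSp.Points.map_comp, hωr, hω₁])
  have hWr : IsPullback pr qr fr gr := by
    refine IsPullback.of_right (t := sX) ?_ (by rw [hpr₂, hqr₂]) |>.flip.flip
    rw [hpr₁, ← sZ.w]
    exact (IsPullback.of_bot (by rw [hqr₂]; exact sW) hqr₁.symm sZ).paste_horiz hW
  obtain ⟨A, ea, eb, sA⟩ : ∃ (A : AlgSp.Sp S) (ea : A ⟶ (AlgSp.yon S).obj P.pt) (eb : A ⟶ Wr),
      IsPullback ea eb P.toHom pr := ⟨_, _, _, IsPullback.of_hasPullback _ _⟩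
  obtain ⟨α, hα₁, hα₂⟩ := Groth.L23.exists_of_isPullback sA
    (AlgSp.Points.ofScheme P.pt (IsLocalRing.closedPoint P.K)) ωr (by
    rw [hp', ← AlgSp.Points.ofPt_eq_map_ofScheme, AlgSp.Points.ofPt_toHom, hP])
  have sAZ : IsPullback ea (eb ≫ qr) (P.toHom ≫ fr) gr := sA.paste_vert hWr
  obtain ⟨T₀, t₁, t₂, sT₀⟩ : ∃ (T₀ : AlgSp.Sp S) (t₁ : T₀ ⟶ A) (t₂ : T₀ ⟶ (AlgSp.yon S).obj (Over.mk (B.ι ≫ U.hom))),
      IsPullback t₁ t₂ (eb ≫ qr) a₀ := ⟨_, _, _, IsPullback.of_hasPullback _ _⟩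
  obtain ⟨τ, hτ₁, hτ₂⟩ := Groth.L23.exists_of_isPullback sT₀ α
    (AlgSp.Points.ofScheme (Over.mk (B.ι ≫ U.hom)) ⟨u, huB⟩) (by
    rw [← AlgSp.Points.ofPt_eq_map_ofScheme, AlgSp.Points.map_comp, hα₂, hq', Groth.L23.ofPt_openMk])
  have sT₁ : IsPullback (t₁ ≫ ea) t₂ ((AlgSp.yon S).map κ) ((AlgSp.yon S).map j₀) := by
    have := sT₀.paste_horiz sAZ
    rwa [← hκ, w₀] at this
  obtain ⟨e, he₁, he₂⟩ := (sT.map (AlgSp.yon S)).exists_lift (t₁ ≫ ea) t₂ sT₁.w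
  obtain ⟨τ', hτ'⟩ := (AlgSp.Points.schemeEquiv (pullback κ j₀)).surjective (AlgSp.Points.map e τ)
  refine ⟨τ', ?_⟩
  have hc : e ≫ c = t₁ ≫ eb ≫ η := hW.hom_ext (by
    simp only [Category.assoc, hc₁, ← hpr₁, ← reassoc_of% sA.w]
    rw [reassoc_of% he₁]) (by
    simp only [Category.assoc, hc₂, ← hqr₁]
    rw [reassoc_of% he₂, ← reassoc_of% sT₀.w])
  rw [AlgSp.Points.ofPt_eq_map_ofScheme, show AlgSp.Points.ofScheme (pullback κ j₀) τ' = AlgSp.Points.map e τ from hτ',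
    ← AlgSp.Points.map_comp, hc, AlgSp.Points.map_comp, AlgSp.Points.map_comp, hτ₁, hα₂, hωr]


end Groth.Agent.S10389
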