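import Groth.Statements.S10392
import Groth.Agent.L23.DimPoint

set_option autoImplicit false
universe u
open CategoryTheory CategoryTheory.Limits AlgebraicGeometry Topology TopologicalSpace
open AlgSp

namespace Groth.Agent.S10392

/-- Let k be a field and X a nonempty algebraic space over k which is locally of finite type. Then (2)
|X| is discrete if and only if (4) dim X = 0, and these imply (3) dim |X| = 0; if X is decent then
(3) implies (2) and (1) |X| finite implies (4). (The published statement asserts (2) ⇔ (3) ⇔ (4) for
every such X and does not exclude the empty space; for the quotient of the affine line over a field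
of characteristic zero by the translation action of the integers, |X| is an infinite set with the
indiscrete topology, so (3) holds while (2) and (4) fail, and for the empty space (2) holds while
dim X = ⊥. The equivalence with local quasi-finiteness of X → Spec k is not part of this row.) -/
theorem result (k : Type u) [Field k] (X : AlgSp.Space (Spec (CommRingCat.of k)))
    (p : X.obj ⟶ (AlgSp.yon (Spec (CommRingCat.of k))).obj (Over.mk (𝟙 _))) (hp : AlgSp.LocP @LocallyOfFiniteType p) [Nonempty (AlgSp.Points X.obj)] :
    (DiscreteTopology (AlgSp.Points X.obj) ↔ AlgSp.dim X.obj = 0) ∧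
      (DiscreteTopology (AlgSp.Points X.obj) → topologicalKrullDim (AlgSp.Points X.obj) = 0) ∧
      (AlgSp.IsDecent X.obj → topologicalKrullDim (AlgSp.Points X.obj) = 0 → DiscreteTopology (AlgSp.Points X.obj)) ∧
      (AlgSp.IsDecent X.obj → Finite (AlgSp.Points X.obj) → AlgSp.dim X.obj = 0) := by
  have key : DiscreteTopology (AlgSp.Points X.obj) ↔ AlgSp.dim X.obj = 0 :=
    (Groth.L23.DimPt.discrete_iff X.property hp).trans
      ⟨fun h => le_antisymm h (Groth.L23.DimPt.dim_nonneg X.property hp), fun h => h.le⟩
  refine ⟨key, fun h => ?_, fun hd h => ?_, fun hd hf => ?_⟩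
  · refine le_antisymm ?_ ?_
    · rw [Groth.Agent.S5792.result]
      refine iSup_le fun x => (iInf_le _ (⟨⟨{x}, isOpen_discrete _⟩, rfl⟩ :
        {U : TopologicalSpace.Opens (AlgSp.Points X.obj) // x ∈ U})).trans ?_
      exact topologicalKrullDim_zero_of_discreteTopology _
    · haveI : Nonempty (TopologicalSpace.IrreducibleCloseds (AlgSp.Points X.obj)) :=
        ⟨⟨closure {Classical.arbitrary _}, isIrreducible_singleton.closure, isClosed_closure⟩⟩
      exact Order.krullDim_nonneg
  · rw [discreteTopology_iff_isOpen_singleton]
    intro x
    refine (Groth.L23.DimPt.localDim_points X hp hd x).1 (le_antisymm ?_ ?_)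
    · exact h ▸ (Groth.Agent.S5792.result (AlgSp.Points X.obj)).symm ▸
        le_iSup (fun x => FlatMor.localDim (AlgSp.Points X.obj) x) x
    · obtain ⟨U, a, ha, has⟩ := X.property.atlas
      obtain ⟨u, rfl⟩ := Groth.L23.surjective_ofPt has x
      obtain ⟨π, _⟩ := Groth.L23.DimPt.lft_chart hp ha
      obtain ⟨n, hn⟩ := Groth.L23.DimPt.exists_nat_localDim π u
      rw [← Groth.Agent.S10346.result X hd a ha u, hn]
      exact Nat.cast_nonneg n
  · exact key.1 (Groth.L23.DimPt.discrete_of_finite X.property hp hd)

end Groth.Agent.S10392
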