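import Groth.Statements.S10398
import Groth.Agent.L23.GenFinite
import Groth.Agent.L23.CodimOne
import Groth.Agent.L23.FibreConditions
import Groth.Agent.L23.QsTop
import Groth.Agent.L23.OpenSub

set_option autoImplicit false
set_option backward.isDefEq.respectTransparency.types false
set_option linter.style.haveILetI false
universe u
open CategoryTheory CategoryTheory.Limits AlgebraicGeometry Topology TopologicalSpace
open AlgSp

namespace Groth.Agent.S10398

/-- (2) ⇒ (3): let S be a scheme, X and Y algebraic spaces over S, and f : X ⟶ Y a quasi-separated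
morphism of finite type, and let y ∈ |Y| be a codimension 0 point of Y. Suppose that at every point
of |X| lying over y the morphism f is quasi-finite. Then there is an open subspace Y' ⊆ Y containing
y for which the morphism Y' ×_Y X ⟶ Y' is finite. -/
theorem result {S : Scheme.{u}} {X Y : AlgSp.Space S} (f : X ⟶ Y)
    (hqs : AlgSp.IsQuasiSeparatedMor f.hom) (hft : AlgSp.IsFiniteTypeMor f.hom) (y : AlgSp.Points Y.obj)
    (hy : AlgSp.HasAt (fun U u => ringKrullDim ↥(U.presheaf.stalk u) = 0) Y.obj y)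
    (hqf : ∀ x : AlgSp.Points X.obj, AlgSp.Points.map f.hom x = y → AlgSp.HasAtMor (fun U _ h u => ∃ W : U.Opens, u ∈ W ∧ LocallyQuasiFinite (W.ι ≫ h) ∧ LocallyOfFiniteType (W.ι ≫ h)) f.hom x) :
    ∃ (Y' X' : AlgSp.Space S) (j : Y' ⟶ Y) (fst : X' ⟶ Y') (snd : X' ⟶ X), AlgSp.RepWith @IsOpenImmersion j.hom ∧
      y ∈ Set.range (AlgSp.Points.map j.hom) ∧ IsPullback fst.hom snd.hom j.hom f.hom ∧
      AlgSp.IsFiniteMor fst.hom := by
  obtain ⟨V, b, hV, hb, v, rfl⟩ := Groth.L23.exists_affine_etale_nhd Y.property y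
  haveI := hV
  have hv := (Groth.L23.CodimOne.stalkDim_eq_zero_iff v).1
    ((Groth.L23.Pt.hasAt_stalkDim_iff Y.property hb v (fun d => d = 0)).1 hy)
  have sq := IsPullback.of_hasPullback f.hom b
  have hZ : IsAlgSpace (pullback f.hom b) :=
    Groth.L23.isAlgSpace_of_isPullback Y.property.diag X.property (IsAlgSpace.yon_obj V) sq
  have hVqc : IsQuasiCompactSp ((AlgSp.yon S).obj V) :=
    Groth.L23.qcSp_of_compactSpace (IsAlgSpace.yon_obj _) Groth.L23.Pt.compact_yon
  obtain ⟨U, p, hU, hp, hps⟩ :=
    Groth.L23.Qs.exists_affine_atlas hZ (hft.2 (IsAlgSpace.yon_obj _) hVqc _ _ _ sq)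
  haveI := hU
  obtain ⟨R, t, s, sR⟩ : ∃ (R : Over S) (t : R ⟶ U) (s : R ⟶ U),
      IsPullback ((AlgSp.yon S).map t) ((AlgSp.yon S).map s) p p :=
    Groth.L23.exists_isPullback_of_representable hp.1 p
  have hd : RepWith @QuasiCompact (pullback.diagonal (pullback.snd f.hom b)) :=
    Groth.L23.repWith_of_isPullback (Groth.L23.isPullback_diagonal sq) hqs
  obtain ⟨m, hm⟩ := (AlgSp.yon S).map_surjective (p ≫ pullback.snd f.hom b)
  haveI : CompactSpace R.left := by
    have sm := (IsPullback.of_hasPullback m m).map (AlgSp.yon S)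
    rw [hm] at sm
    haveI : CompactSpace (pullback m m).left := by
      haveI : QuasiCompact m.left := inferInstance
      haveI : QuasiCompact (pullback.snd m m).left :=
        MorphismProperty.of_isPullback ((IsPullback.of_hasPullback m m).map (Over.forget S)) ‹QuasiCompact m.left›
      exact QuasiCompact.compactSpace_of_compactSpace (pullback.snd m m).left
    haveI := Groth.L23.Pt.compact_of_qcDiag hd p p (Groth.L23.Pt.compact_of_iso sm.isoPullback Groth.L23.Pt.compact_yon)
      (Groth.L23.isAlgSpace_of_isPullback (IsAlgSpace.yon_obj V).diag (IsAlgSpace.yon_obj _) (IsAlgSpace.yon_obj _)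
        (IsPullback.of_hasPullback _ _))
    haveI : CompactSpace (Points ((AlgSp.yon S).obj R)) := Groth.L23.Pt.compact_of_iso sR.isoPullback.symm this
    exact (Points.schemeHomeo R).symm.compactSpace
  have ha : RepWith @Etale (p ≫ pullback.fst f.hom b) :=
    Groth.L23.repWith_comp hp (Groth.L23.repWith_of_isPullback sq.flip hb)
  obtain ⟨W, hW, hvW, hfin⟩ := Groth.L23.GenFin.exists_finite_nhd hZ
    (Groth.L23.locP_of_isPullback Groth.L23.etLocal_lft X.property Y.property (IsAlgSpace.yon_obj V) sq hft.1)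
    hp hps sR hv (by
      intro n hn u hu
      have w : (p ≫ pullback.fst f.hom b) ≫ f.hom = (AlgSp.yon S).map n ≫ b := by
        rw [Category.assoc, pullback.condition, ← Category.assoc, hn]
      haveI : LocallyOfFiniteType n.left := hft.1 _ b n ha hb w
      have hx : Points.map f.hom (Points.ofPt (p ≫ pullback.fst f.hom b) u) = Points.ofPt b v := by
        rw [Points.map_ofPt, w, Groth.L23.ofPt_comp, hu]
      have h : HasAtMor Groth.L23.QFL.qfAt f.hom (Points.ofPt (p ≫ pullback.fst f.hom b) u) := hqf _ hx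
      rw [Groth.L23.FibCond.hasAtMor_qf_iff hft.1, Groth.L23.hasAtMor_fibreDim_iff (· = 0) ha hb w u,
        ← Groth.L23.FibCond.qfAt_iff_fibreDimAt] at h
      exact h) ⊤ isCompact_univ (fun _ _ r => ⟨r, specializes_rfl, trivial, Or.inr rfl⟩)
  let jW := (AlgSp.yon S).map (Groth.L23.openOverι V W)
  have hbW : RepWith @Etale (jW ≫ b) := Groth.L23.repWith_comp (Groth.L23.repWith_etale_openMk W) hb
  obtain ⟨Y', j, e, hY', hj, he, hes, hej, hr⟩ := Groth.L23.Qs.exists_openSub_chart Y.property hbW
  have sj := IsPullback.of_hasPullback j f.hom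
  have hX' := Groth.L23.isAlgSpace_of_isPullback Y.property.diag hY' X.property sj
  refine ⟨⟨Y', hY'⟩, ⟨_, hX'⟩, ⟨j⟩, ⟨pullback.fst j f.hom⟩, ⟨pullback.snd j f.hom⟩, hj, ?_, sj, ?_⟩
  · exact hr.ge ⟨⟨v, hvW⟩, Groth.L23.ofPt_openMk W b ⟨v, hvW⟩⟩
  · have sW := IsPullback.of_hasPullback (pullback.snd f.hom b) jW
    have big := sW.paste_horiz sq
    rw [← hej] at big
    let k := sj.flip.lift (pullback.fst _ _ ≫ pullback.fst f.hom b) (pullback.snd _ _ ≫ e)
      (by rw [big.w, Category.assoc])
    have sk : IsPullback k (pullback.snd (pullback.snd f.hom b) jW) (pullback.fst j f.hom) e :=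
      IsPullback.of_right (by rw [sj.flip.lift_fst]; exact big) (sj.flip.lift_snd _ _ _) sj.flip
    haveI : IsAffine (Groth.L23.openOver V W).left := hW
    have haff : IsAffineMor (pullback.fst j f.hom) :=
      Groth.L23.isAffineMor_of_cover he hes sk
        (Groth.L23.isAffineMor_iff.2 (Groth.L23.repWith_mono
          (fun φ (_ : IsFinite φ) => inferInstanceAs (IsAffineHom φ)) (Groth.L23.isFiniteMor_iff.1 hfin)))
    have := Groth.L23.isLocallySurjective_of_etale e he hes
    have := Groth.L23.isLocalAtTarget_fppf (@IsFinite : MorphismProperty Scheme.{u})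
    exact Groth.L23.isFiniteMor_iff.2 (Groth.L23.repWith_of_locallySurjective
      (Groth.L23.isAffineMor_iff.1 haff).1 sk (Groth.L23.isFiniteMor_iff.1 hfin))

end Groth.Agent.S10398
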