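import Groth.Statements.S1040
import Groth.Agent.L29.DCoh.QCohColim

set_option autoImplicit false
set_option backward.isDefEq.respectTransparency false
universe u
open CategoryTheory CategoryTheory.Limits AlgebraicGeometry
attribute [local instance] HasDerivedCategory.standard
open Perf

namespace Groth.Agent.S1040

/-- Let X be a scheme and Kᵢ a family of objects of D(O_X) with quasi-coherent cohomology sheaves,
indexed by a small type, whose direct sum exists in D(O_X). Then ∐ Kᵢ has quasi-coherent cohomology
sheaves. -/
theorem result (X : Scheme.{u}) {ι : Type u} (K : ι → DCoh.D X) (hK : ∀ i, DCoh.IsQCohD (K i)) [HasCoproduct K] :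
    DCoh.IsQCohD (∐ K) := by
  exact Groth.L29.DC.QCohColim.isQCohD_coproduct K hK

end Groth.Agent.S1040
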