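import Groth.Statements.S10402
import Groth.Agent.L23.Jacobson

set_option autoImplicit false
set_option backward.isDefEq.respectTransparency.types false
universe u
open CategoryTheory CategoryTheory.Limits AlgebraicGeometry Topology TopologicalSpace
open AlgSp

namespace Groth.Agent.S10402

/-- Let S be a scheme and X a Jacobson algebraic space over S. Fix a finite type point x of |X|, and let
g : W ⟶ X be locally of finite type, where W is a scheme. If x lies in the image of |W| → |X|, then
some closed point of W is mapped to x. -/
theorem result {S : Scheme.{u}} (X : AlgSp.Space S) (hX : AlgSp.EtaleLocally (fun U => JacobsonSpace ↥U) X.obj)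
    (x : AlgSp.Points X.obj) (hx : AlgSp.HasAt (fun U u => IsClosed ({u} : Set ↥U)) X.obj x) {W : Over S} (g : (AlgSp.yon S).obj W ⟶ X.obj)
    (hg : AlgSp.LocP @LocallyOfFiniteType g) (hxW : x ∈ Set.range (AlgSp.Points.ofPt g)) :
    ∃ w : ↥W.left, IsClosed ({w} : Set ↥W.left) ∧ AlgSp.Points.ofPt g w = x := by
  exact (Groth.L23.Jac.exists_closed_over X.property hX hx g hg).1 hxW

end Groth.Agent.S10402
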