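import Groth.Statements.S10408
import Groth.Agent.L23.Decent2

set_option autoImplicit false
set_option backward.isDefEq.respectTransparency.types false
universe u
open CategoryTheory CategoryTheory.Limits AlgebraicGeometry Topology TopologicalSpace
open AlgSp

namespace Groth.Agent.S10408

/-- (4) ⇒ (2): let S be a scheme and X an algebraic space over S. Suppose x ∈ |X| is a point represented
by a monomorphism Spec k ⟶ X, where k is a field. Then for every etale φ : U ⟶ X with U a scheme and
all u, u' ∈ U over x, the map |U ×_X U| → |U| ×_{|X|} |U| has finite fibre over the point (u, u'). -/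
theorem result {S : Scheme.{u}} (X : AlgSp.Space S) (x : AlgSp.Points X.obj)
    (hx : ∃ p : AlgSp.FieldPt X.obj, AlgSp.Points.mk p = x ∧ Mono p.toHom) {U : Over S}
    (φ : (AlgSp.yon S).obj U ⟶ X.obj) (hφ : AlgSp.RepWith @Etale φ) (u u' : ↥U.left)
    (hu : AlgSp.Points.ofPt φ u = x) (hu' : AlgSp.Points.ofPt φ u' = x) :
    ∀ (R : Over S) (s t : R ⟶ U), IsPullback ((AlgSp.yon S).map t) ((AlgSp.yon S).map s) φ φ →
          {r : ↥R.left | s.left r = u ∧ t.left r = u'}.Finite := by
  obtain ⟨p, rfl, hm⟩ := hx
  exact fun R s t sq => Groth.L23.Pt.finite_rel_of_mono X.property p φ hφ u u' hu hu' sq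


end Groth.Agent.S10408
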