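import Groth.Statements.S10409
import Groth.Agent.L23.Decent2

set_option autoImplicit false
set_option backward.isDefEq.respectTransparency.types false
universe u
open CategoryTheory CategoryTheory.Limits AlgebraicGeometry Topology TopologicalSpace
open AlgSp

namespace Groth.Agent.S10409

/-- (3) ⇔ (4): for an algebraic space X over a scheme S and x ∈ |X|, there is a monomorphism Spec k ⟶ X
representing x if and only if there is a morphism Spec k' ⟶ X representing x whose
self-fibre-product has etale and quasi-compact projections to Spec k'. -/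
theorem result {S : Scheme.{u}} (X : AlgSp.Space S)
    (x : AlgSp.Points X.obj) :
    (∃ p : AlgSp.FieldPt X.obj, AlgSp.Points.mk p = x ∧ Mono p.toHom) ↔
      ∃ q : AlgSp.FieldPt X.obj, AlgSp.Points.mk q = x ∧
        ∀ (P : AlgSp.Sp S) (fst snd : P ⟶ (AlgSp.yon S).obj q.pt), IsPullback fst snd q.toHom q.toHom →
          AlgSp.RepWith @Etale fst ∧ AlgSp.RepWith @QuasiCompact fst := by
  constructor
  · rintro ⟨p, hp, hm⟩
    refine ⟨p, hp, fun P fst snd sq => ?_⟩
    have hi : IsIso fst := sq.isIso_fst_of_mono hm
    exact ⟨Groth.L23.repWith_of_isIso (P := (@Etale : MorphismProperty Scheme.{u})) fst,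
      Groth.L23.repWith_of_isIso (P := (@QuasiCompact : MorphismProperty Scheme.{u})) fst⟩
  · rintro ⟨q, rfl, hq⟩
    refine Groth.L23.Pt.exists_mono_of_selfQc X.property q ?_
    obtain ⟨-, hqc⟩ := hq _ _ _ (IsPullback.of_hasPullback q.toHom q.toHom)
    exact Groth.L23.compactSpace_of_qcSp (Groth.L23.isQuasiCompactMor_of_repWith hqc (AlgSp.IsAlgSpace.yon_obj _)
      Groth.L23.isQuasiCompactSp_of_compactSpace (𝟙 _) (𝟙 _) _ IsPullback.of_id_fst)


end Groth.Agent.S10409
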