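import Groth.Statements.S1041
import Groth.Agent.L29.DCoh.Gen.Main

set_option autoImplicit false
set_option backward.isDefEq.respectTransparency false
universe u
open CategoryTheory CategoryTheory.Limits AlgebraicGeometry
attribute [local instance] HasDerivedCategory.standard
open Perf

namespace Groth.Agent.S1041

/-- Let X be an affine scheme, T ⊆ X a closed subset with quasi-compact complement, U a quasi-compact
open and F a perfect object of D(O_U) whose cohomology sheaves are supported on T ∩ U. Then F ⊕ F[1]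
extends to X as a perfect complex whose cohomology sheaves are supported on T (through a
representing complex restricted termwise; the binary direct sum in D(O_U) is assumed to exist, which
it does). -/
theorem result (X : Scheme.{u}) [IsAffine X] (T : Set X) (hT : IsClosed T) (hTc : IsCompact Tᶜ)
    (U : X.Opens) (hU : IsCompact (U : Set X))
    (F : DCoh.D (U : Scheme.{u})) (hF : DCoh.IsPerfect F)
    (hFT : ∀ i : ℤ, CohB1.support (DCoh.HD F i) ⊆ {x : ↥(U : Scheme.{u}) | U.ι.base x ∈ T}) [HasBinaryBiproduct F (F⟦(1 : ℤ)⟧)] :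
    ∃ G : CochainComplex X.Modules ℤ, DCoh.IsPerfect (DCoh.toD X G) ∧ (∀ i : ℤ, CohB1.support (DCoh.HD (DCoh.toD X G) i) ⊆ T) ∧
      Nonempty (DerivedCategory.Q.obj ((DCoh.restrictCx U).obj G) ≅ F ⊞ F⟦(1 : ℤ)⟧) := by
  let O : X.Opens := Groth.L29.DC.Gen.compl hT
  let R : CommRingCat.{u} := Γ(X, ⊤)
  haveI := Groth.L18.TildeF.tilde_preservesFiniteLimits (R := R)
  haveI : CompactSpace (U : Scheme.{u}) := isCompact_iff_compactSpace.1 hU
  haveI : CompactSpace (O : Scheme.{u}) := isCompact_iff_compactSpace.1 hTc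
  let s : X ⟶ Spec R := X.isoSpec.hom
  let k : (U : Scheme.{u}) ⟶ Spec R := U.ι ≫ s
  let kO : (O : Scheme.{u}) ⟶ Spec R := O.ι ≫ s
  obtain ⟨lT, hlT, hcov⟩ := Groth.L29.DC.Gen.exists_elements kO
  obtain ⟨C, hC, hCT, ⟨eC⟩⟩ := Groth.L29.DC.Gen.exists_extend_supp k hF lT fun f hf => by
    rw [Groth.L29.DC.Gen.isZero_restrictD_iff]
    rintro i x hx ⟨y, rfl⟩
    obtain ⟨z, hz⟩ := hlT f hf (show k ((k ⁻¹ᵁ Groth.L29.DC.Gen.bo f).ι y) ∈ Groth.L29.DC.Gen.bo f from y.2)
    have h1 : O.ι z = U.ι ((k ⁻¹ᵁ Groth.L29.DC.Gen.bo f).ι y) := s.isOpenEmbedding.injective hz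
    exact (show O.ι z ∈ Tᶜ from z.2) (h1 ▸ hFT i hx)
  let b := (DCoh.restrictD s).obj ((DCoh.tildeD R).obj C)
  have hb : DCoh.IsPerfect b :=
    Groth.L29.DC.Gen.isPerfect_restrictD s (Groth.L29.DC.TildeAlg.perfect_tilde hC)
  let e := DerivedCategory.Q.objObjPreimageIso b
  refine ⟨DerivedCategory.Q.objPreimage b, Groth.L29.DC.isPerfect_of_iso e.symm hb, ?_, ⟨?_⟩⟩
  · refine (Groth.L29.DC.Gen.supp_iff hT _).2 (IsZero.of_iso ?_ ((DCoh.restrictD O.ι).mapIso e))
    exact ((Groth.L29.DC.Gen.isZero_tres_iff kO lT hlT hcov C).2 hCT).of_iso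
      ((Groth.L29.DC.resTransD s O.ι kO rfl).app _)
  · exact ((Scheme.Modules.restrictFunctor U.ι).mapDerivedCategoryFactors.app _).symm ≪≫
      (DCoh.restrictD U.ι).mapIso e ≪≫ (Groth.L29.DC.resTransD s U.ι k rfl).app _ ≪≫ eC

end Groth.Agent.S1041
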