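import Groth.Statements.S10410
import Groth.Agent.L23.Decent2

set_option autoImplicit false
set_option backward.isDefEq.respectTransparency.types false
universe u
open CategoryTheory CategoryTheory.Limits AlgebraicGeometry Topology TopologicalSpace
open AlgSp

namespace Groth.Agent.S10410

/-- Let X be an algebraic space over a scheme S, x ∈ |X|, and φ : U ⟶ X etale with U a scheme. Then x
lies in the image of |U| and the fibres of |U| → |X| and |U ×_X U| → |X| over x are finite, if and
only if x is represented by a monomorphism Spec k ⟶ X such that Spec k ×_X U is a nonempty scheme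
finite over k. -/
theorem result {S : Scheme.{u}} (X : AlgSp.Space S) (x : AlgSp.Points X.obj)
    {U : Over S} (φ : (AlgSp.yon S).obj U ⟶ X.obj) (hφ : AlgSp.RepWith @Etale φ) :
    (x ∈ Set.range (AlgSp.Points.ofPt φ) ∧ (AlgSp.Points.ofPt φ ⁻¹' {x}).Finite ∧
        ∀ (R : Over S) (s t : R ⟶ U), IsPullback ((AlgSp.yon S).map t) ((AlgSp.yon S).map s) φ φ →
          (AlgSp.Points.ofPt ((AlgSp.yon S).map t ≫ φ) ⁻¹' {x}).Finite) ↔
      ∃ p : AlgSp.FieldPt X.obj, AlgSp.Points.mk p = x ∧ Mono p.toHom ∧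
        ∀ (T : Over S) (c : T ⟶ p.pt) (snd : (AlgSp.yon S).obj T ⟶ (AlgSp.yon S).obj U),
          IsPullback ((AlgSp.yon S).map c) snd p.toHom φ → Nonempty ↥T.left ∧ IsFinite c.left := by
  constructor
  · rintro ⟨⟨u, rfl⟩, hfin, hR⟩
    obtain ⟨R, t, s, sq⟩ := Groth.L23.exists_isPullback_of_representable (X.property.representable_from_yon φ) φ
    obtain ⟨m, hm, hmm⟩ := Groth.L23.Pt.exists_mono_of_finite_rel X.property φ u u rfl sq
      ((hR R s t sq).subset fun r hr => by
        show AlgSp.Points.ofPt ((AlgSp.yon S).map t ≫ φ) r = _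
        rw [Groth.L23.ofPt_comp, hr.2])
    refine ⟨m, hm, hmm, fun T c snd sT => ?_⟩
    obtain ⟨t₂, rfl⟩ := (AlgSp.yon S).map_surjective snd
    obtain ⟨T', c', t', sT', he, hinj, hr⟩ := Groth.L23.Pt.exists_fibre X.property m φ hφ
    obtain ⟨i, hi⟩ := (AlgSp.yon S).map_surjective (sT.isoIsPullback _ _ sT').hom
    have : IsIso ((AlgSp.yon S).map i) := by rw [hi]; infer_instance
    have : IsIso i := isIso_of_fully_faithful (AlgSp.yon S) i
    have hc : i ≫ c' = c := (AlgSp.yon S).map_injective (by rw [Functor.map_comp, hi, IsPullback.isoIsPullback_hom_fst])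
    have hfinT : Finite T'.left := by
      have := hfin.to_subtype
      rw [← hm, ← hr] at hfin
      exact Set.finite_univ_iff.1 ((hfin.preimage hinj.injOn).subset fun z _ => ⟨z, rfl⟩)
    have : IsIso i.left := inferInstanceAs (IsIso ((Over.forget S).map i))
    have hne : Nonempty T'.left := by
      obtain ⟨z, hz⟩ := hr.symm ▸ (show u ∈ AlgSp.Points.ofPt φ ⁻¹' {AlgSp.Points.mk m} from hm.symm)
      exact ⟨z⟩
    refine ⟨hne.map (inv i.left), ?_⟩
    let c₀ : T'.left ⟶ Spec (CommRingCat.of m.K) := c'.left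
    have : Etale c₀ := he
    have : QuasiCompact c₀ := Groth.L23.Pt.quasiCompact_of_finite _
    have : IsFinite c₀ := IsFinite.of_locallyQuasiFinite _
    rw [← hc]
    show IsFinite (i.left ≫ c₀)
    infer_instance
  · rintro ⟨p, rfl, hm, hp⟩
    obtain ⟨T, c, t₂, sT, he, hinj, hr⟩ := Groth.L23.Pt.exists_fibre X.property p φ hφ
    obtain ⟨⟨z⟩, hc⟩ := hp T c _ sT
    let c₀ : T.left ⟶ Spec (CommRingCat.of p.K) := c.left
    have : IsFinite c₀ := hc
    have : Etale c₀ := he
    have : CompactSpace T.left := QuasiCompact.compactSpace_of_compactSpace c₀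
    have := Groth.L23.Pt.finite_of_etale_field c₀
    have hfin : (AlgSp.Points.ofPt φ ⁻¹' {AlgSp.Points.mk p}).Finite := hr ▸ Set.finite_range _
    refine ⟨⟨t₂.left z, (show t₂.left z ∈ AlgSp.Points.ofPt φ ⁻¹' {AlgSp.Points.mk p} from hr ▸ ⟨z, rfl⟩)⟩, hfin, fun R s t sq => ?_⟩
    refine ((hfin.prod hfin).biUnion fun uu huu => Groth.L23.Pt.finite_rel_of_mono X.property p φ hφ uu.1 uu.2 huu.1 huu.2 sq).subset
      fun r hr => ?_
    have h₁ : AlgSp.Points.ofPt φ (t.left r) = AlgSp.Points.mk p := (Groth.L23.ofPt_comp t φ r).symm.trans hr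
    have h₂ : AlgSp.Points.ofPt φ (s.left r) = AlgSp.Points.mk p := by
      rw [← Groth.L23.ofPt_comp, ← sq.w]; exact hr
    exact Set.mem_biUnion (x := (s.left r, t.left r)) ⟨h₂, h₁⟩ ⟨rfl, rfl⟩

end Groth.Agent.S10410
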