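import Groth.Statements.S10411
import Groth.Agent.L23.FibreAffineLocus
import Groth.Agent.L23.SchemeRep

set_option autoImplicit false
set_option backward.isDefEq.respectTransparency.types false
set_option linter.style.haveILetI false
universe u
open CategoryTheory CategoryTheory.Limits AlgebraicGeometry Topology TopologicalSpace
open AlgSp

namespace Groth.Agent.S10411

/-- Let S be a scheme, X and Y algebraic spaces over S, X ⟶ Y a surjective finite locally free morphism,
and y ∈ |Y|. Then y lies in the schematic locus of Y (some open subspace of Y containing y is a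
scheme) if and only if there is an affine open subscheme U ⊆ X containing the preimage of y. -/
theorem result {S : Scheme.{u}} {X Y : AlgSp.Space S} (f : X ⟶ Y)
    (hf : AlgSp.IsFinLocFreeMor f.hom) (hs : AlgSp.RepWith @Surjective f.hom) (y : AlgSp.Points Y.obj) :
    (∃ (Y' : AlgSp.Space S) (j : Y' ⟶ Y), AlgSp.RepWith @IsOpenImmersion j.hom ∧ Y'.obj.obj.IsRepresentable ∧
        y ∈ Set.range (AlgSp.Points.map j.hom)) ↔
      ∃ (U : Over S) (a : (AlgSp.yon S).obj U ⟶ X.obj), IsAffine U.left ∧ AlgSp.RepWith @IsOpenImmersion a ∧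
        AlgSp.Points.map f.hom ⁻¹' {y} ⊆ Set.range (AlgSp.Points.ofPt a) := by
  rw [← Groth.L23.AQ.schemePt_iff Y.property hf hs y]
  constructor
  · rintro ⟨Y', j, hj, hrep, z, rfl⟩
    obtain ⟨A, ⟨e⟩⟩ : ∃ A : Over S, Nonempty ((AlgSp.yon S).obj A ≅ Y'.obj) := (Groth.L23.isRepresentable_iff_exists_iso).1 hrep
    obtain ⟨t, ht⟩ := (AlgSp.Points.schemeEquiv A).surjective (AlgSp.Points.map e.inv z)
    refine ⟨A, e.hom ≫ j.hom, t, Groth.L23.repWith_comp (Groth.L23.repWith_of_isIso e.hom) hj, ?_⟩
    rw [AlgSp.Points.ofPt_eq_map_ofScheme]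
    show AlgSp.Points.map _ (AlgSp.Points.schemeEquiv A t) = _
    rw [ht, ← AlgSp.Points.map_comp, Iso.inv_hom_id_assoc]
  · intro h
    obtain ⟨Y', j, hj, hrep, hr⟩ := Groth.L23.SL.exists_locus Y.property
    exact ⟨Y', ObjectProperty.homMk j, hj, hrep, hr.ge h⟩

end Groth.Agent.S10411
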