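import Groth.Statements.S10412
import Groth.Agent.L23.QsTop
import Groth.Agent.L23.Descent
import Groth.Agent.L23.Cover

set_option autoImplicit false
set_option backward.isDefEq.respectTransparency.types false
set_option linter.style.haveILetI false
universe u
open CategoryTheory CategoryTheory.Limits AlgebraicGeometry Topology TopologicalSpace
open AlgSp

namespace Groth.Agent.S10412

/-- For an algebraic space X over a scheme S the following are equivalent: (1) X has a Zariski covering
by open subspaces X_i, each X_i admitting a surjective, etale and quasi-compact morphism U_i ⟶ X_i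
with U_i a scheme; (2) there are etale morphisms U_i ⟶ X from schemes, jointly surjective, such that
for each i both projection morphisms from U_i ×_X U_i to U_i are quasi-compact. -/
theorem result {S : Scheme.{u}} (X : AlgSp.Space S) :
    (∃ (ι : Type u) (Xi : ι → AlgSp.Space S) (j : ∀ i, Xi i ⟶ X) (U : ι → Over S)
        (a : ∀ i, (AlgSp.yon S).obj (U i) ⟶ (Xi i).obj),
        AlgSp.IsZarCover (fun i => (Xi i).obj) (fun i => (j i).hom) ∧
          ∀ i, AlgSp.RepWith @Etale (a i) ∧ AlgSp.RepWith @Surjective (a i) ∧ AlgSp.RepWith @QuasiCompact (a i)) ↔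
      ∃ (ι : Type u) (U : ι → Over S) (φ : ∀ i, (AlgSp.yon S).obj (U i) ⟶ X.obj),
        (∀ i, AlgSp.RepWith @Etale (φ i)) ∧
          (∀ x : AlgSp.Points X.obj, ∃ (i : ι) (v : ↥(U i).left), AlgSp.Points.ofPt (φ i) v = x) ∧
          ∀ (i : ι) (R : Over S) (s t : R ⟶ U i), IsPullback ((AlgSp.yon S).map t) ((AlgSp.yon S).map s) (φ i) (φ i) →
            QuasiCompact s.left ∧ QuasiCompact t.left := by
  constructor
  · rintro ⟨ι, Xi, j, U, a, hj, ha⟩
    refine ⟨ι, U, fun i => a i ≫ (j i).hom, fun i => Groth.L23.repWith_comp (ha i).1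
      (Groth.L23.repWith_mono (fun φ (_ : IsOpenImmersion φ) => inferInstanceAs (Etale φ)) (hj.1 i)), fun x => ?_, ?_⟩
    · obtain ⟨i, z, rfl⟩ := hj.2 x
      obtain ⟨v, rfl⟩ := Groth.L23.surjective_ofPt (ha i).2.1 z
      exact ⟨i, v, (Points.map_ofPt (a i) (j i).hom v).symm⟩
    · intro i R s t sq
      have := Groth.L23.mono_of_repWith_openImmersion (hj.1 i)
      have sq' : IsPullback ((AlgSp.yon S).map t) ((AlgSp.yon S).map s) (a i) (a i) := by
        refine IsPullback.mk' ((cancel_mono (j i).hom).1 (by simpa using sq.w)) (fun W φ φ' h₁ h₂ => sq.hom_ext h₁ h₂)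
          fun W p q e => ⟨sq.lift p q (by rw [reassoc_of% e]), sq.lift_fst _ _ _, sq.lift_snd _ _ _⟩
      exact ⟨Groth.L23.repWith_prop (ha i).2.2 sq', Groth.L23.repWith_prop (ha i).2.2 sq'.flip⟩
  · rintro ⟨ι, U, φ, hφ, hs, hR⟩
    choose Z j b hZ hj hb hbs hbj hr using fun i => Groth.L23.Qs.exists_openSub_chart X.property (hφ i)
    refine ⟨ι, fun i => ⟨Z i, hZ i⟩, fun i => ⟨j i⟩, U, b, ⟨hj, fun x => ?_⟩, fun i => ⟨hb i, hbs i, ?_⟩⟩
    · obtain ⟨i, v, rfl⟩ := hs x
      exact ⟨i, (hr i).ge ⟨v, rfl⟩⟩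
    · obtain ⟨R, t, s, sq⟩ : ∃ (R : Over S) (t : R ⟶ U i) (s : R ⟶ U i),
          IsPullback ((AlgSp.yon S).map t) ((AlgSp.yon S).map s) (b i) (b i) :=
        Groth.L23.exists_isPullback_of_representable (hb i).1 (b i)
      have := Groth.L23.mono_of_repWith_openImmersion (hj i)
      have sq' : IsPullback ((AlgSp.yon S).map t) ((AlgSp.yon S).map s) (φ i) (φ i) := by
        refine IsPullback.mk' (by rw [← hbj i, reassoc_of% sq.w]) (fun W φ φ' h₁ h₂ => sq.hom_ext h₁ h₂)
          fun W p q e => ⟨sq.lift p q ((cancel_mono (j i)).1 (by simpa only [Category.assoc, hbj i] using e)),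
            sq.lift_fst _ _ _, sq.lift_snd _ _ _⟩
      have := Groth.L23.isLocalAtTarget_fppf (@QuasiCompact : MorphismProperty Scheme.{u})
      have := Groth.L23.isLocallySurjective_of_etale (b i) (hb i) (hbs i)
      exact Groth.L23.repWith_of_locallySurjective (hb i).1 sq (Groth.L23.repWith_map (hR i R s t sq').1)

end Groth.Agent.S10412
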