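import Groth.Statements.S10413
import Groth.Agent.L23.Decent2

set_option autoImplicit false
set_option backward.isDefEq.respectTransparency.types false
universe u
open CategoryTheory CategoryTheory.Limits AlgebraicGeometry Topology TopologicalSpace
open AlgSp

namespace Groth.Agent.S10413

/-- Let S be a scheme, X and Y algebraic spaces over S, and X ⟶ Y a representable morphism. If every
point of Y can be represented by a monomorphism into Y from the spectrum of a field, then every
point of X can likewise be represented by such a monomorphism into X. -/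
theorem result {S : Scheme.{u}} {X Y : AlgSp.Space S} (f : X ⟶ Y) (hf : AlgSp.Representable f.hom)
    (hY : ∀ y : AlgSp.Points Y.obj, ∃ q : AlgSp.FieldPt Y.obj, AlgSp.Points.mk q = y ∧ Mono q.toHom)
    (x : AlgSp.Points X.obj) : ∃ p : AlgSp.FieldPt X.obj, AlgSp.Points.mk p = x ∧ Mono p.toHom := by
  obtain ⟨q, hq, hm⟩ := hY (AlgSp.Points.map f.hom x)
  obtain ⟨T, t₁, t₂, sT⟩ : ∃ (T : Over S) (t₁ : (AlgSp.yon S).obj T ⟶ X.obj) (t₂ : T ⟶ q.pt),
      IsPullback t₁ ((AlgSp.yon S).map t₂) f.hom q.toHom := ⟨_, _, _, hf.isPullback q.toHom⟩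
  obtain ⟨z, hz, -⟩ := Groth.L23.exists_point_of_isPullback sT (x := x) (u := IsLocalRing.closedPoint q.K)
    (by rw [AlgSp.Points.ofPt_toHom, hq])
  have := sT.mono_fst_of_mono hm
  obtain ⟨m, hm', hmm, -⟩ := Groth.L23.Pt.exists_mono_of_scheme t₁ z
  exact ⟨m, hm'.trans hz, hmm⟩


end Groth.Agent.S10413
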