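import Groth.Statements.S10414
import Groth.Agent.L09.Residual.Space

set_option autoImplicit false
universe u
open CategoryTheory CategoryTheory.Limits AlgebraicGeometry Topology TopologicalSpace
open AlgSp

set_option backward.isDefEq.respectTransparency false
set_option backward.isDefEq.respectTransparency.types false

namespace Groth.Agent.S10414

/-- Let S be a scheme, X an algebraic space over S, x ∈ |X|, and Z_x ⟶ X the residual space of x (a
monomorphism with image {x} from a space which admits a locally finitely presented, flat, surjective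
morphism whose source is the spectrum of a field). Then Z_x is isomorphic to Spec k' for some field
k' if and only if the point x is represented by some monomorphism Spec k ⟶ X. (The decent case, in
which the right side holds at every point, is not part of this row.) -/
theorem result {S : Scheme.{u}} (X : AlgSp.Space S) (x : AlgSp.Points X.obj)
    {Z : AlgSp.Space S} (i : Z ⟶ X) [Mono i.hom] (hi : Set.range (AlgSp.Points.map i.hom) = {x})
    (hZ : ∃ (k : Type u) (_ : Field k) (str : Spec (CommRingCat.of k) ⟶ S) (p : (AlgSp.yon S).obj (Over.mk str) ⟶ Z.obj),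
        AlgSp.LocP @LocallyOfFinitePresentation p ∧ AlgSp.LocP @Flat p ∧ AlgSp.IsSurjectiveMor p) :
    (∃ (k : Type u) (_ : Field k) (str : Spec (CommRingCat.of k) ⟶ S), Nonempty (Z.obj ≅ (AlgSp.yon S).obj (Over.mk str))) ↔
      ∃ p : AlgSp.FieldPt X.obj, AlgSp.Points.mk p = x ∧ Mono p.toHom := by
  constructor
  · rintro ⟨k, _, str, ⟨e⟩⟩
    let q : (AlgSp.yon S).obj (Over.mk str) ⟶ X.obj := e.inv ≫ i.hom
    let p : AlgSp.FieldPt X.obj := ⟨k, str, (AlgSp.J S).uliftYonedaEquiv q⟩
    have hp : p.toHom = q := Equiv.symm_apply_apply _ _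
    refine ⟨p, ?_, hp ▸ mono_comp _ _⟩
    have hmem : AlgSp.Points.mk p ∈ Set.range (AlgSp.Points.map i.hom) :=
      ⟨AlgSp.Points.ofPt e.inv (IsLocalRing.closedPoint k), by
        rw [AlgSp.Points.map_ofPt, ← AlgSp.Points.ofPt_toHom p (IsLocalRing.closedPoint k), hp]⟩
    rw [hi] at hmem
    exact hmem
  · rintro ⟨p, hp, hm⟩
    haveI := hm
    have hy := AlgSp.IsAlgSpace.yon_obj p.pt
    have sq := IsPullback.of_hasPullback i.hom p.toHom
    have hP := Groth.L23.isAlgSpace_of_isPullback X.property.diag Z.property hy sq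
    obtain ⟨z, hz⟩ := hi.symm ▸ Set.mem_singleton x
    obtain ⟨w, -, -⟩ := Groth.L23.exists_of_isPullback sq z (AlgSp.Points.ofScheme p.pt (IsLocalRing.closedPoint p.K))
      (by rw [hz, ← AlgSp.Points.ofPt_eq_map_ofScheme, AlgSp.Points.ofPt_toHom, hp])
    haveI : Nonempty (AlgSp.Points (pullback i.hom p.toHom)) := ⟨w⟩
    haveI : Nonempty (AlgSp.Points ((AlgSp.yon S).obj p.pt)) :=
      ⟨AlgSp.Points.ofScheme p.pt (IsLocalRing.closedPoint p.K)⟩
    obtain ⟨h1, h2, h3⟩ := Groth.L09.Residual.etale_field_props (str := p.str)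
      (p := 𝟙 ((AlgSp.yon S).obj (Over.mk p.str))) (Groth.L23.repWith_of_isIso _) (Groth.L23.repWith_of_isIso _)
    haveI := Groth.L09.Residual.isIso_of_mono_field_cover hP hy (pullback.snd i.hom p.toHom) _ h1 h2 h3
    let g := inv (pullback.snd i.hom p.toHom) ≫ pullback.fst i.hom p.toHom
    have hg : g ≫ i.hom = p.toHom := by simp [g, pullback.condition]
    haveI : Mono g := mono_of_mono_fac hg
    obtain ⟨k, _, str, q, q1, q2, q3⟩ := hZ
    haveI := Groth.L09.Residual.isIso_of_mono_field_cover hy Z.property g q q1 q2 q3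
    exact ⟨p.K, inferInstance, p.str, ⟨(asIso g).symm⟩⟩

end Groth.Agent.S10414
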