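import Groth.Statements.S10417
import Groth.Agent.L23.QFPoints

set_option autoImplicit false
set_option backward.isDefEq.respectTransparency.types false
universe u
open CategoryTheory CategoryTheory.Limits AlgebraicGeometry Topology TopologicalSpace
open AlgSp

namespace Groth.Agent.S10417

/-- Let W = X ×_Y Z be a fibre product of algebraic spaces over a scheme S with projections p, q and let
x ∈ |X|, z ∈ |Z| lie over the same point of |Y|. If f : X ⟶ Y is of finite type and quasi-finite at
x, then the set of points of |W| mapping to x and to z is finite. -/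
theorem result {S : Scheme.{u}} {X Y Z W : AlgSp.Space S} (f : X ⟶ Y)
    (g : Z ⟶ Y) (p : W ⟶ X) (q : W ⟶ Z) (hW : IsPullback p.hom q.hom f.hom g.hom) (x : AlgSp.Points X.obj)
    (z : AlgSp.Points Z.obj) (hxz : AlgSp.Points.map f.hom x = AlgSp.Points.map g.hom z)
    (hft : AlgSp.IsFiniteTypeMor f.hom) (hf : AlgSp.HasAtMor (fun U _ h u => ∃ W : U.Opens, u ∈ W ∧ LocallyQuasiFinite (W.ι ≫ h) ∧ LocallyOfFiniteType (W.ι ≫ h)) f.hom x) :
    {w : AlgSp.Points W.obj | AlgSp.Points.map p.hom w = x ∧ AlgSp.Points.map q.hom w = z}.Finite := by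
  refine (Groth.L23.QFL.finite_qf_over Z.property (f := q.hom)
    (Groth.L23.locP_of_isPullback Groth.L23.etLocal_lft X.property Y.property Z.property hW hft.1)
    (fun A A' hA hqc g' fst snd sq => hft.2 hA hqc _ _ snd (sq.paste_horiz hW)) z).subset ?_
  rintro w ⟨h₁, h₂⟩
  exact ⟨h₂, Groth.L23.QFL.hasAtMor_of_isPullback Z.property hW (h₁ ▸ hf)⟩


end Groth.Agent.S10417
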