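import Groth.Statements.S10418
import Groth.Agent.L09.Filtration.Main

set_option autoImplicit false
universe u
open CategoryTheory CategoryTheory.Limits AlgebraicGeometry Topology TopologicalSpace
open AlgSp

set_option backward.isDefEq.respectTransparency false
set_option backward.isDefEq.respectTransparency.types false

namespace Groth.Agent.S10418

/-- Let S be a scheme and X an algebraic space over S which is quasi-compact. There are open subspaces X
= U_1 ⊇ U_2 ⊇ U_3 ⊇ ⋯ such that (1) with T_p = U_p ∖ U_{p+1} (reduced induced subspace structure)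
there is a separated scheme V_p with a surjective etale f_p : V_p ⟶ U_p for which the map f_p⁻¹(T_p)
⟶ T_p is an isomorphism, and (2) every x ∈ |X| admitting a representative given by a quasi-compact
morphism from the spectrum of a field lies in T_p for some p. -/
theorem result {S : Scheme.{u}} (X : AlgSp.Space S)
    (hX : AlgSp.IsQuasiCompactSp X.obj) :
    ∃ (Uo : ℕ → AlgSp.Space S) (j : ∀ p, Uo p ⟶ X) (k : ∀ p, Uo (p + 1) ⟶ Uo p)
      (T : ℕ → AlgSp.Space S) (i : ∀ p, T p ⟶ Uo p),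
      (∀ p, AlgSp.RepWith @IsOpenImmersion (j p).hom) ∧ (∀ p, k p ≫ j p = j (p + 1)) ∧ IsIso (j 1) ∧
      (∀ p, AlgSp.IsRedInduced (Set.range (AlgSp.Points.map (k p).hom))ᶜ (i p).hom) ∧
      (∀ p, 1 ≤ p → ∃ (V : Over S) (f : (AlgSp.yon S).obj V ⟶ (Uo p).obj), V.left.IsSeparated ∧
        AlgSp.RepWith @Etale f ∧ AlgSp.RepWith @Surjective f ∧
        ∀ (P : AlgSp.Sp S) (fst : P ⟶ (T p).obj) (snd : P ⟶ (AlgSp.yon S).obj V),
          IsPullback fst snd (i p).hom f → IsIso fst) ∧
      (∀ x : AlgSp.Points X.obj, (∃ q : AlgSp.FieldPt X.obj, AlgSp.Points.mk q = x ∧ AlgSp.RepWith @QuasiCompact q.toHom) →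
        ∃ p, 1 ≤ p ∧ x ∈ Set.range (AlgSp.Points.map ((i p) ≫ (j p)).hom)) := by
  obtain ⟨U, φ, hU, hφ, hφs⟩ := Groth.L09.Filtration.exists_affine_atlas hX
  haveI := hU
  obtain ⟨D, Uo, j, k, T, i, hj, hk, h1, hjr, hred, hV⟩ :=
    Groth.L09.Filtration.exists_filtration X.property U φ hφ hφs
  refine ⟨Uo, fun p => ObjectProperty.homMk (j p), k, T, i, hj,
    fun p => ObjectProperty.hom_ext _ (hk p), ?_, hred, fun p hp => ?_, ?_⟩
  · haveI : IsIso ((ObjectProperty.ι AlgSp.IsAlgSpace).map (ObjectProperty.homMk (j 1) : Uo 1 ⟶ X)) := h1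
    exact CategoryTheory.isIso_of_reflects_iso (ObjectProperty.homMk (j 1) : Uo 1 ⟶ X) (ObjectProperty.ι _)
  · obtain ⟨V, f, hs, -, h⟩ := hV p hp
    exact ⟨V, f, hs, h⟩
  · rintro _ ⟨q, rfl, hq⟩
    exact Groth.L09.Filtration.mem_stratum X.property hφ hφs D j hj (fun p => (k p).hom) hk hjr
      (fun p => (i p).hom) (fun p => (hred p).2.1) q hq

end Groth.Agent.S10418
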