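import Groth.Statements.S10422
import Groth.Agent.L23.PairSeq

set_option autoImplicit false
universe u
open Topology TopologicalSpace TensorProduct
open AlgSp

namespace Groth.Agent.S10422

/-- Let A be a ring, k a field, (p_n) a sequence of primes of A which are pairwise distinct, and k →
κ(p_n) field embeddings. Then the closure in Spec(A ⊗ A) of the image of ∐_{n ≠ m} Spec(κ(p_n) ⊗_k
κ(p_m)) meets the diagonal. Here κ(p_n) is any A-algebra K_n which is a field whose structure map
has kernel p_n and whose elements are quotients of images of elements of A. -/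
theorem result (A : Type u) [CommRing A] (k : Type u) [Field k]
    (p : ℕ → PrimeSpectrum A) (hp : Function.Injective p) (K : ℕ → Type u) [∀ n, Field (K n)]
    [∀ n, Algebra A (K n)] [∀ n, Algebra k (K n)]
    (hker : ∀ n, RingHom.ker (algebraMap A (K n)) = (p n).asIdeal)
    (hfrac : ∀ n (x : K n), ∃ a b : A, algebraMap A (K n) b ≠ 0 ∧ x * algebraMap A (K n) b = algebraMap A (K n) a) :
    (closure (⋃ (n : ℕ) (m : ℕ) (_ : n ≠ m),
        Set.range (PrimeSpectrum.comap
          (Algebra.TensorProduct.lift
            ((Algebra.TensorProduct.includeLeft (R := k) (S := ℤ) (A := K n) (B := K m)).toRingHom.toIntAlgHom.comp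
              (Algebra.ofId A (K n)).toRingHom.toIntAlgHom)
            ((Algebra.TensorProduct.includeRight (R := k) (A := K n) (B := K m)).toRingHom.toIntAlgHom.comp
              (Algebra.ofId A (K m)).toRingHom.toIntAlgHom)
            (fun _ _ => Commute.all _ _)).toRingHom)) ∩
      Set.range (PrimeSpectrum.comap (Algebra.TensorProduct.lmul' (S := A) ℤ).toRingHom)).Nonempty := by
  exact Groth.L23.PairSeq.result A k p K hker

end Groth.Agent.S10422
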