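import Groth.Statements.S10428
import Groth.Agent.L09.UnivBdd.Charts

set_option autoImplicit false
universe u
open CategoryTheory CategoryTheory.Limits AlgebraicGeometry Topology TopologicalSpace
open AlgSp

set_option backward.isDefEq.respectTransparency false
set_option backward.isDefEq.respectTransparency.types false

namespace Groth.Agent.S10428

/-- Let X be an algebraic space over a scheme S and φ : U ⟶ X a morphism from a scheme with universally
bounded fibres. Then for some integer n, every fibre of |U| → |X| contains at most n elements. -/
theorem result {S : Scheme.{u}} (X : AlgSp.Space S) {U : Over S}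
    (φ : (AlgSp.yon S).obj U ⟶ X.obj) (hφ : W4dec.HasUnivBddFibres φ) :
    ∃ n : ℕ, ∀ x : AlgSp.Points X.obj, (AlgSp.Points.ofPt φ ⁻¹' {x}).encard ≤ n := by
  obtain ⟨n, hn⟩ := hφ
  exact ⟨n, Groth.L09.UnivBdd.encard_fibre_le X.property hn⟩

end Groth.Agent.S10428
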