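import Groth.Statements.S10430
import Groth.Agent.L23.Decent2

set_option autoImplicit false
set_option backward.isDefEq.respectTransparency.types false
universe u
open CategoryTheory CategoryTheory.Limits AlgebraicGeometry Topology TopologicalSpace
open AlgSp

namespace Groth.Agent.S10430

/-- If every etale morphism U ⟶ X from an affine scheme to the algebraic space X has universally bounded
fibres, then X is decent. -/
theorem result {S : Scheme.{u}} (X : AlgSp.Space S)
    (h : ∀ (U : Over S) (φ : (AlgSp.yon S).obj U ⟶ X.obj), IsAffine U.left → AlgSp.RepWith @Etale φ → W4dec.HasUnivBddFibres φ) :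
    AlgSp.IsDecent X.obj := by
  intro x
  obtain ⟨p, rfl⟩ := AlgSp.Points.mk_surjective x
  refine Groth.L23.Pt.goodPt_of_qc X.property p ((Groth.L23.Pt.qc_iff X.property p).2 fun U φ hU hφ => ?_)
  obtain ⟨n, hn⟩ := h U φ hU hφ
  obtain ⟨T, c, t₂, sT⟩ := Groth.L23.exists_isPullback_of_representable (X.property.representable_from_yon p.toHom) φ
  obtain ⟨hfin, -⟩ := hn p T c _ sT
  have : CompactSpace T.left := QuasiCompact.compactSpace_of_compactSpace c.left
  exact Groth.L23.Pt.compact_of_iso sT.isoPullback (Groth.L23.Pt.compact_yon)


end Groth.Agent.S10430
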