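import Groth.Statements.S10433
import Groth.Agent.L09.UnivBdd.Strata
import Groth.Agent.L23.RedInd

set_option autoImplicit false
universe u
open CategoryTheory CategoryTheory.Limits AlgebraicGeometry Topology TopologicalSpace
open AlgSp

set_option backward.isDefEq.respectTransparency false
set_option backward.isDefEq.respectTransparency.types false

namespace Groth.Agent.S10433

/-- Let S be a scheme, X an algebraic space over S, W a scheme over S, and W ⟶ X a morphism which is
flat, separated, locally of finite presentation and locally quasi-finite, with universally bounded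
fibres. Then X has closed subspaces, each reduced, ∅ = Z_{-1} ⊆ Z_0 ⊆ ⋯ ⊆ Z_n with |Z_n| = |X| such
that, putting X_r = Z_r ∖ Z_{r-1}, for every morphism g : T ⟶ X the second projection W ×_X T ⟶ T is
a finite locally free morphism of degree r exactly when g(|T|) ⊆ |X_r|. (Indexing: Zs 0 = Z_{-1}, Zs
(r+1) = Z_r.) -/
theorem result {S : Scheme.{u}} (X : AlgSp.Space S) {W : Over S}
    (w : (AlgSp.yon S).obj W ⟶ X.obj) (hfl : AlgSp.RepWith @Flat w) (hfp : AlgSp.RepWith @LocallyOfFinitePresentation w)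
    (hsep : AlgSp.RepWith @IsSeparated w) (hqf : AlgSp.RepWith @LocallyQuasiFinite w) (hb : W4dec.HasUnivBddFibres w) :
    ∃ (n : ℕ) (Zs : ℕ → AlgSp.Space S) (i : ∀ r, Zs r ⟶ X),
      (∀ r, AlgSp.IsRedInduced (Set.range (AlgSp.Points.map (i r).hom)) (i r).hom) ∧
      IsEmpty (AlgSp.Points (Zs 0).obj) ∧ Set.range (AlgSp.Points.map (i (n + 1)).hom) = Set.univ ∧
      (∀ r, Set.range (AlgSp.Points.map (i r).hom) ⊆ Set.range (AlgSp.Points.map (i (r + 1)).hom)) ∧
      ∀ (r : ℕ) (T : AlgSp.Space S) (g : T ⟶ X) (P : AlgSp.Sp S) (fst : P ⟶ (AlgSp.yon S).obj W) (snd : P ⟶ T.obj),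
        IsPullback fst snd w g.hom →
          (AlgSp.IsFinLocFreeOfDegMor r snd ↔
            Set.range (AlgSp.Points.map g.hom) ⊆
              Set.range (AlgSp.Points.map (i (r + 1)).hom) \ Set.range (AlgSp.Points.map (i r).hom)) := by
  obtain ⟨n, hn⟩ := hb
  have hc := Groth.L09.UnivBdd.isClosed_level X.property hn hfl hfp hsep hqf
  choose Z hZ i hi hr hred using fun m => Groth.L23.exists_isRedInduced X.property (hc m)
  refine ⟨n, fun m => ⟨Z m, hZ m⟩, fun m => ObjectProperty.homMk (i m), fun m => ⟨hi m, rfl, hred m⟩,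
    ⟨fun z => ?_⟩, ?_, fun m => ?_, fun m T g P fst snd h => ?_⟩
  · have hmem : AlgSp.Points.map (i 0) z ∈ (∅ : Set (AlgSp.Points X.obj)) := by
      rw [← show Set.range (AlgSp.Points.map (i 0)) = ∅ from hr 0]
      exact ⟨z, rfl⟩
    exact hmem
  · exact (hr _).trans (Groth.L09.UnivBdd.degLE_univ hn)
  · show Set.range (AlgSp.Points.map (i m)) ⊆ Set.range (AlgSp.Points.map (i (m + 1)))
    rw [hr, hr]
    exact Groth.L09.UnivBdd.level_subset w m
  · show _ ↔ _ ⊆ Set.range (AlgSp.Points.map (i (m + 1))) \ Set.range (AlgSp.Points.map (i m))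
    rw [hr, hr]
    exact Groth.L09.UnivBdd.isFinLocFreeOfDegMor_iff X.property hn hfl hfp hsep hqf m g.hom fst snd h

end Groth.Agent.S10433
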