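import Groth.Statements.S10434
import Groth.Agent.L09.Birat.Iso

set_option autoImplicit false
universe u
open CategoryTheory CategoryTheory.Limits AlgebraicGeometry Topology TopologicalSpace
open AlgSp

set_option backward.isDefEq.respectTransparency false
set_option backward.isDefEq.respectTransparency.types false

namespace Groth.Agent.S10434

/-- Take decent algebraic spaces X and Y over a scheme S, each with only finitely many irreducible
components in its space of points, and a birational f : X ⟶ Y. For a generic point y of an
irreducible component of |Y|, seen as a point v of an open subscheme V of Y, the base change of f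
along Spec(O_{V,v}) ⟶ V ⟶ Y has invertible projection onto Spec(O_{V,v}). -/
theorem result {S : Scheme.{u}} {X Y : AlgSp.Space S} (f : X ⟶ Y)
    (hX : AlgSp.IsDecent X.obj) (hY : AlgSp.IsDecent Y.obj)
    (hXf : (irreducibleComponents (AlgSp.Points X.obj)).Finite)
    (hYf : (irreducibleComponents (AlgSp.Points Y.obj)).Finite)
    (hf : W4stk3decentspacesp2.IsBirational f.hom) {V : Over S} (b : (AlgSp.yon S).obj V ⟶ Y.obj)
    (hb : AlgSp.RepWith @IsOpenImmersion b) (v : ↥V.left)
    (hv : AlgSp.Points.ofPt b v ∈ genericPoints (AlgSp.Points Y.obj)) {P : AlgSp.Sp S} (fst : P ⟶ X.obj)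
    (snd : P ⟶ (AlgSp.yon S).obj (Over.mk (V.left.fromSpecStalk v ≫ V.hom)))
    (hP : IsPullback fst snd f.hom ((AlgSp.yon S).map (Over.homMk (V.left.fromSpecStalk v) rfl) ≫ b)) :
    IsIso snd := by
  exact Groth.L09.Birat.isIso_specStalk f hX hY hXf hf b hb v hv fst snd hP

end Groth.Agent.S10434
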