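import Groth.Prelude.Def_W4stk3decentspacesp2Birat
import Groth.Prelude.Def_AlgSp4
import Groth.Agent.L23.Sober

set_option autoImplicit false
namespace AlgSp
end AlgSp
universe u
open CategoryTheory CategoryTheory.Limits AlgebraicGeometry Topology TopologicalSpace
open AlgSp

namespace Groth.Agent.S10439

/-- A birational morphism between decent algebraic spaces over a scheme S, each with only finitely many
irreducible components, is dominant: the image of |X| is dense in |Y|. -/
theorem result {S : Scheme.{u}} {X Y : AlgSp.Space S} (f : X ⟶ Y)
    (hX : AlgSp.IsDecent X.obj) (hY : AlgSp.IsDecent Y.obj)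
    (hXf : (irreducibleComponents (AlgSp.Points X.obj)).Finite)
    (hYf : (irreducibleComponents (AlgSp.Points Y.obj)).Finite)
    (hf : W4stk3decentspacesp2.IsBirational f.hom) : AlgSp.IsDominantMor f.hom := by
  haveI : QuasiSober (AlgSp.Points Y.obj) := Groth.L23.Pt.quasiSober_of_isDecent Y.property hY
  intro y
  obtain ⟨η, hη⟩ := QuasiSober.sober (isIrreducible_irreducibleComponent (x := y)) isClosed_irreducibleComponent
  have hmem : η ∈ genericPoints (AlgSp.Points Y.obj) := by
    show closure {η} ∈ irreducibleComponents _
    rw [hη]
    exact irreducibleComponent_mem_irreducibleComponents y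
  obtain ⟨x, -, hx⟩ := hf.bijOn.surjOn hmem
  have hsub : ({η} : Set _) ⊆ Set.range (AlgSp.Points.map f.hom) := Set.singleton_subset_iff.2 ⟨x, hx⟩
  refine closure_mono hsub ?_
  rw [hη]
  exact mem_irreducibleComponent

end Groth.Agent.S10439
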