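import Groth.Statements.S10441
import Groth.Agent.L23.ElemNbhd

set_option autoImplicit false
set_option backward.isDefEq.respectTransparency.types false
universe u
open CategoryTheory CategoryTheory.Limits AlgebraicGeometry Topology TopologicalSpace
open AlgSp

namespace Groth.Agent.S10441

/-- For a decent algebraic space X over a scheme S and x ∈ |X|, fix an elementary etale neighbourhood
(U₀, u₀) of (X, x) and a henselization R of O_{U₀, u₀} (a model of the henselian local ring at x).
The following are equivalent: (1) O_{U, u} has exactly one minimal prime whenever (U, u) is an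
elementary etale neighbourhood of (X, x); (2) a unique irreducible component of U passes through u
for all such (U, u); (3) O_{U, u} is unibranch for all such (U, u); (4) R has exactly one minimal
prime. -/
theorem result {S : Scheme.{u}} (X : AlgSp.Space S)
    (hX : AlgSp.IsDecent X.obj) (x : AlgSp.Points X.obj) {U₀ : Over S}
    (a₀ : (AlgSp.yon S).obj U₀ ⟶ X.obj) (u₀ : ↥U₀.left) (h₀ : AlgSp.IsElemEtaleNbhd a₀ u₀ x)
    (R : Type u) [CommRing R] [IsLocalRing R] [Algebra ↥(U₀.left.presheaf.stalk u₀) R]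
    [IsLocalHom (algebraMap ↥(U₀.left.presheaf.stalk u₀) R)] [Hensel.IsHenselization ↥(U₀.left.presheaf.stalk u₀) R] :
    ((∀ (U : Over S) (a : (AlgSp.yon S).obj U ⟶ X.obj) (u : ↥U.left), AlgSp.IsElemEtaleNbhd a u x →
        CAlgX.HasUniqueMinimalPrime ↥(U.left.presheaf.stalk u)) ↔
      (∀ (U : Over S) (a : (AlgSp.yon S).obj U ⟶ X.obj) (u : ↥U.left), AlgSp.IsElemEtaleNbhd a u x →
        {Z : Set ↥U.left | Z ∈ irreducibleComponents ↥U.left ∧ u ∈ Z}.encard = 1)) ∧
    ((∀ (U : Over S) (a : (AlgSp.yon S).obj U ⟶ X.obj) (u : ↥U.left), AlgSp.IsElemEtaleNbhd a u x →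
        {Z : Set ↥U.left | Z ∈ irreducibleComponents ↥U.left ∧ u ∈ Z}.encard = 1) ↔
      (∀ (U : Over S) (a : (AlgSp.yon S).obj U ⟶ X.obj) (u : ↥U.left), AlgSp.IsElemEtaleNbhd a u x →
        CAlg2.IsUnibranch ↥(U.left.presheaf.stalk u))) ∧
    ((∀ (U : Over S) (a : (AlgSp.yon S).obj U ⟶ X.obj) (u : ↥U.left), AlgSp.IsElemEtaleNbhd a u x →
        CAlg2.IsUnibranch ↥(U.left.presheaf.stalk u)) ↔ CAlgX.HasUniqueMinimalPrime R) := by
  haveI := Groth.L05.Henselization.flat_of_isHenselization ↥(U₀.left.presheaf.stalk u₀) R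
  have hR : Brnch.numBranchesAt U₀.left u₀ = (minimalPrimes R).encard :=
    (Groth.L23.Branch.card_minimalPrimes_hens _ R).symm
  have h3 : ∀ (U : Over S) (a : (AlgSp.yon S).obj U ⟶ X.obj) (u : ↥U.left), AlgSp.IsElemEtaleNbhd a u x →
      Brnch.numBranchesAt U.left u = (minimalPrimes R).encard :=
    fun U a u h => (Groth.L23.Elem.numBranchesAt_eq X.property h h₀).trans hR
  have hu : ∀ (U : Over S) (a : (AlgSp.yon S).obj U ⟶ X.obj) (u : ↥U.left), AlgSp.IsElemEtaleNbhd a u x →
      (CAlg2.IsUnibranch ↥(U.left.presheaf.stalk u) ↔ CAlgX.HasUniqueMinimalPrime R) := fun U a u h => by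
    rw [← Groth.L23.Branch.numBranches_eq_one_iff, Groth.L23.SH.hasUniqueMinimalPrime_iff_encard, ← h3 U a u h]
    rfl
  have hpos : ∀ (U : Over S) (u : ↥U.left), 1 ≤ {Z : Set U.left | Z ∈ irreducibleComponents U.left ∧ u ∈ Z}.encard :=
    fun U u => Set.one_le_encard_iff_nonempty.2
      ⟨irreducibleComponent u, irreducibleComponent_mem_irreducibleComponents u, mem_irreducibleComponent⟩
  refine ⟨⟨fun h U a u hn => ?_, fun h U a u hn => ?_⟩, ⟨fun h => ?_, fun h => ?_⟩,
    ⟨fun h => (hu U₀ a₀ u₀ h₀).1 (h U₀ a₀ u₀ h₀), fun h U a u hn => (hu U a u hn).2 h⟩⟩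
  · rw [Groth.L23.Branch.encard_components]
    exact Groth.L23.SH.hasUniqueMinimalPrime_iff_encard.1 (h U a u hn)
  · rw [Groth.L23.SH.hasUniqueMinimalPrime_iff_encard, ← Groth.L23.Branch.encard_components]
    exact h U a u hn
  · intro U a u hn
    refine (Groth.L23.Branch.numBranches_eq_one_iff _).1 (le_antisymm
      (ENat.forall_natCast_le_iff_le.1 fun m hm => ?_)
      ((hpos U u).trans (Groth.L23.Elem.components_le_numBranchesAt U.left u)))
    obtain ⟨V, b, v, hv, hle⟩ := Groth.L23.Elem.exists_elem_components_ge hn m hm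
    exact hle.trans_eq (h V b v hv)
  · intro U a u hn
    exact le_antisymm ((Groth.L23.Elem.components_le_numBranchesAt U.left u).trans_eq
      ((Groth.L23.Branch.numBranches_eq_one_iff _).2 (h U a u hn))) (hpos U u)

end Groth.Agent.S10441
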