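import Groth.Statements.S10442
import Groth.Agent.L23.ElemNbhd

set_option autoImplicit false
set_option backward.isDefEq.respectTransparency.types false
universe u
open CategoryTheory CategoryTheory.Limits AlgebraicGeometry Topology TopologicalSpace
open AlgSp

namespace Groth.Agent.S10442

/-- For a decent algebraic space X over a scheme S, x ∈ |X| and n ≥ 1, fix an elementary etale
neighbourhood (U₀, u₀) of (X, x) and a henselization R of O_{U₀, u₀} (a model of the henselian local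
ring at x). The following are equivalent: (1) over all elementary etale neighbourhoods (U, u) of (X,
x), O_{U, u} has at most n minimal primes, with the value n attained; (2) the same for the number of
irreducible components of U through u; (3) the same for the branch number of U at u; (4) R has
exactly n minimal primes. -/
theorem result {S : Scheme.{u}} (X : AlgSp.Space S)
    (hX : AlgSp.IsDecent X.obj) (x : AlgSp.Points X.obj) (n : ℕ) (hn : 1 ≤ n) {U₀ : Over S}
    (a₀ : (AlgSp.yon S).obj U₀ ⟶ X.obj) (u₀ : ↥U₀.left) (h₀ : AlgSp.IsElemEtaleNbhd a₀ u₀ x)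
    (R : Type u) [CommRing R] [IsLocalRing R] [Algebra ↥(U₀.left.presheaf.stalk u₀) R]
    [IsLocalHom (algebraMap ↥(U₀.left.presheaf.stalk u₀) R)] [Hensel.IsHenselization ↥(U₀.left.presheaf.stalk u₀) R] :
    (((∀ (U : Over S) (a : (AlgSp.yon S).obj U ⟶ X.obj) (u : ↥U.left), AlgSp.IsElemEtaleNbhd a u x →
        (minimalPrimes ↥(U.left.presheaf.stalk u)).encard ≤ n) ∧
      (∃ (U : Over S) (a : (AlgSp.yon S).obj U ⟶ X.obj) (u : ↥U.left), AlgSp.IsElemEtaleNbhd a u x ∧
        (minimalPrimes ↥(U.left.presheaf.stalk u)).encard = n)) ↔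
     ((∀ (U : Over S) (a : (AlgSp.yon S).obj U ⟶ X.obj) (u : ↥U.left), AlgSp.IsElemEtaleNbhd a u x →
        {Z : Set ↥U.left | Z ∈ irreducibleComponents ↥U.left ∧ u ∈ Z}.encard ≤ n) ∧
      (∃ (U : Over S) (a : (AlgSp.yon S).obj U ⟶ X.obj) (u : ↥U.left), AlgSp.IsElemEtaleNbhd a u x ∧
        {Z : Set ↥U.left | Z ∈ irreducibleComponents ↥U.left ∧ u ∈ Z}.encard = n))) ∧
    (((∀ (U : Over S) (a : (AlgSp.yon S).obj U ⟶ X.obj) (u : ↥U.left), AlgSp.IsElemEtaleNbhd a u x →
        {Z : Set ↥U.left | Z ∈ irreducibleComponents ↥U.left ∧ u ∈ Z}.encard ≤ n) ∧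
      (∃ (U : Over S) (a : (AlgSp.yon S).obj U ⟶ X.obj) (u : ↥U.left), AlgSp.IsElemEtaleNbhd a u x ∧
        {Z : Set ↥U.left | Z ∈ irreducibleComponents ↥U.left ∧ u ∈ Z}.encard = n)) ↔
     ((∀ (U : Over S) (a : (AlgSp.yon S).obj U ⟶ X.obj) (u : ↥U.left), AlgSp.IsElemEtaleNbhd a u x →
        Brnch.numBranchesAt U.left u ≤ n) ∧
      (∃ (U : Over S) (a : (AlgSp.yon S).obj U ⟶ X.obj) (u : ↥U.left), AlgSp.IsElemEtaleNbhd a u x ∧
        Brnch.numBranchesAt U.left u = n))) ∧
    (((∀ (U : Over S) (a : (AlgSp.yon S).obj U ⟶ X.obj) (u : ↥U.left), AlgSp.IsElemEtaleNbhd a u x →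
        Brnch.numBranchesAt U.left u ≤ n) ∧
      (∃ (U : Over S) (a : (AlgSp.yon S).obj U ⟶ X.obj) (u : ↥U.left), AlgSp.IsElemEtaleNbhd a u x ∧
        Brnch.numBranchesAt U.left u = n)) ↔
     (minimalPrimes R).encard = n) := by
  haveI := Groth.L05.Henselization.flat_of_isHenselization ↥(U₀.left.presheaf.stalk u₀) R
  have h3 : ∀ (U : Over S) (a : (AlgSp.yon S).obj U ⟶ X.obj) (u : ↥U.left), AlgSp.IsElemEtaleNbhd a u x →
      Brnch.numBranchesAt U.left u = (minimalPrimes R).encard :=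
    fun U a u h => (Groth.L23.Elem.numBranchesAt_eq X.property h h₀).trans
      (Groth.L23.Branch.card_minimalPrimes_hens _ R).symm
  simp only [← Groth.L23.Branch.encard_components]
  refine ⟨trivial, ⟨fun h => ?_, fun h => ?_⟩,
    ⟨fun ⟨_, U, a, u, hn, he⟩ => (h3 U a u hn).symm.trans he,
      fun h => ⟨fun U a u hn => ((h3 U a u hn).trans h).le, U₀, a₀, u₀, h₀, (h3 U₀ a₀ u₀ h₀).trans h⟩⟩⟩
  · obtain ⟨hle, U, a, u, hn, he⟩ := h
    have hN : (minimalPrimes R).encard = n := by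
      refine le_antisymm (ENat.forall_natCast_le_iff_le.1 fun m hm => ?_)
        (he ▸ (Groth.L23.Elem.components_le_numBranchesAt U.left u).trans_eq (h3 U a u hn))
      obtain ⟨V, b, v, hv, hm'⟩ := Groth.L23.Elem.exists_elem_components_ge h₀ m (hm.trans_eq (h3 U₀ a₀ u₀ h₀).symm)
      exact hm'.trans (hle V b v hv)
    exact ⟨fun V b v hv => ((h3 V b v hv).trans hN).le, U, a, u, hn, (h3 U a u hn).trans hN⟩
  · obtain ⟨-, U, a, u, hn, he⟩ := h
    have hN : (minimalPrimes R).encard = n := (h3 U a u hn).symm.trans he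
    refine ⟨fun V b v hv => (Groth.L23.Elem.components_le_numBranchesAt V.left v).trans ((h3 V b v hv).trans hN).le, ?_⟩
    obtain ⟨V, b, v, hv, hm⟩ := Groth.L23.Elem.exists_elem_components_ge h₀ n ((h3 U₀ a₀ u₀ h₀).trans hN).ge
    exact ⟨V, b, v, hv,
      le_antisymm ((Groth.L23.Elem.components_le_numBranchesAt V.left v).trans ((h3 V b v hv).trans hN).le) hm⟩

end Groth.Agent.S10442
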