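import Groth.Statements.S10443
import Groth.Agent.L23.DimFunction

set_option autoImplicit false
set_option backward.isDefEq.respectTransparency.types false
set_option linter.style.haveILetI false
universe u
open CategoryTheory CategoryTheory.Limits AlgebraicGeometry Topology TopologicalSpace
open AlgSp

namespace Groth.Agent.S10443

/-- Let S be a locally Noetherian, universally catenary scheme carrying a dimension function δ, and X a
decent algebraic space over S that is locally of finite type over S. Define δ_X : |X| → ℤ by δ_X(x)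
= δ(s) + (transcendence degree of x over s), s the image of x in S; concretely, for an etale
surjective chart U ⟶ X with U locally of finite type over S, the composite of δ_X with |U| → |X| is
the function induced from δ along U ⟶ S. Then δ_X is a dimension function: strictly decreasing along
nontrivial specializations, and dropping by one along immediate ones. -/
theorem result {S : Scheme.{u}} (δ : ↥S → ℤ) (hS : Cyc.IsSetup S δ)
    (X : AlgSp.Space S) (hX : AlgSp.IsDecent X.obj) {U : Over S} (a : (AlgSp.yon S).obj U ⟶ X.obj)
    (ha : AlgSp.RepWith @Etale a) (hs : AlgSp.RepWith @Surjective a) [LocallyOfFiniteType U.hom]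
    (δX : AlgSp.Points X.obj → ℤ) (hδ : Cyc.DeltaCompat U.hom (δX ∘ AlgSp.Points.ofPt a) δ) :
    ∀ x y : AlgSp.Points X.obj, x ⤳ y → x ≠ y →
      δX y < δX x ∧ ((∀ z : AlgSp.Points X.obj, x ⤳ z → z ⤳ y → z = x ∨ z = y) → δX x = δX y + 1) := by
  intro x y hxy hne
  obtain ⟨v, hv⟩ := Groth.L23.surjective_ofPt hs y
  haveI := hS.1
  refine Groth.L23.DimFun.isDimFun_points X.property hX ha δX hxy hne v hv ⊤ trivial ?_
  refine Groth.L23.DimFun.isDimFun_of_deltaCompat ((⊤ : U.left.Opens).ι ≫ U.hom) hS.2.1 hS.2.2 fun w => ?_
  obtain ⟨n, hn, hd⟩ := hδ w.1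
  refine ⟨n, ?_, hd⟩
  have h1 := Groth.L22.Cyc.rtrdeg_comp (⊤ : U.left.Opens).ι U.hom w
  rw [Groth.L23.DimFun.rtrdeg_etale (⊤ : U.left.Opens).ι w, add_zero] at h1
  exact h1.trans hn

end Groth.Agent.S10443
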