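import Groth.Statements.S10444
import Groth.Agent.L23.FibreConditions

set_option autoImplicit false
universe u
open CategoryTheory CategoryTheory.Limits AlgebraicGeometry Topology TopologicalSpace
open AlgSp

namespace Groth.Agent.S10444

/-- Take f : X ⟶ Y locally of finite type between algebraic spaces over a scheme S, a field-valued point
Spec k ⟶ Y whose class y ∈ |Y| lies in the image of |f|, the fibre product X_k = Spec k ×_Y X, and
the fibre F = |f|⁻¹(y) ⊆ |X| with the induced topology. Numbering the conditions (1) F finite, (2) F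
discrete, (3) dim F = 0, (4) |X_k| finite, (5) |X_k| discrete, (6) dim |X_k| = 0, (7) dim X_k = 0,
(8) f quasi-finite at all points over y: (5) ⇔ (7) ⇔ (8); (5) ⇒ (6), with the converse when X_k is
decent; (4) ⇒ (5) when X_k is decent; (4) ⇒ (1); (2) ⇒ (3); if Y is decent then (2) ⇔ (5); if X and
Y are decent then (3) ⇒ (2) and (1) ⇒ (2). (The published statement asserts (5) ⇔ (6) for every f
and (2) ⇔ (3) whenever Y is decent, and does not exclude an empty fibre; for the quotient of the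
affine line over a field of characteristic zero by an infinite cyclic group of translations, mapping
to the point, the space of points is infinite and indiscrete, so (3) and (6) hold while (2) and (5)
fail, and for y outside the image (5) holds while (6) and (7) fail; hence the decency hypotheses on
those two converses and the hypothesis that y is in the image. Finiteness of |X_k| for an arbitrary
field k in the class of y is not derived here from (1).) -/
theorem result {S : Scheme.{u}} {X Y : AlgSp.Space S} (f : X ⟶ Y)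
    (hf : AlgSp.LocP @LocallyOfFiniteType f.hom) (r : AlgSp.FieldPt Y.obj)
    (hy : AlgSp.Points.mk r ∈ Set.range (AlgSp.Points.map f.hom)) (Xk : AlgSp.Space S) (fst : Xk ⟶ X)
    (snd : Xk.obj ⟶ (AlgSp.yon S).obj r.pt) (hsq : IsPullback fst.hom snd f.hom r.toHom) :
    (DiscreteTopology (AlgSp.Points Xk.obj) ↔ AlgSp.dim Xk.obj = 0) ∧
    (AlgSp.dim Xk.obj = 0 ↔
      ∀ x : AlgSp.Points X.obj, AlgSp.Points.map f.hom x = AlgSp.Points.mk r → AlgSp.HasAtMor (fun U _ h u => ∃ W : U.Opens, u ∈ W ∧ LocallyQuasiFinite (W.ι ≫ h) ∧ LocallyOfFiniteType (W.ι ≫ h)) f.hom x) ∧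
    (DiscreteTopology (AlgSp.Points Xk.obj) → topologicalKrullDim (AlgSp.Points Xk.obj) = 0) ∧
    (AlgSp.IsDecent Xk.obj → topologicalKrullDim (AlgSp.Points Xk.obj) = 0 →
      DiscreteTopology (AlgSp.Points Xk.obj)) ∧
    (AlgSp.IsDecent Xk.obj → Finite (AlgSp.Points Xk.obj) → DiscreteTopology (AlgSp.Points Xk.obj)) ∧
    (Finite (AlgSp.Points Xk.obj) → (AlgSp.Points.map f.hom ⁻¹' {AlgSp.Points.mk r}).Finite) ∧
    (DiscreteTopology ↥(AlgSp.Points.map f.hom ⁻¹' {AlgSp.Points.mk r}) → topologicalKrullDim ↥(AlgSp.Points.map f.hom ⁻¹' {AlgSp.Points.mk r}) = 0) ∧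
    (AlgSp.IsDecent Y.obj → (DiscreteTopology ↥(AlgSp.Points.map f.hom ⁻¹' {AlgSp.Points.mk r}) ↔ DiscreteTopology (AlgSp.Points Xk.obj))) ∧
    (AlgSp.IsDecent Y.obj → AlgSp.IsDecent X.obj →
      (topologicalKrullDim ↥(AlgSp.Points.map f.hom ⁻¹' {AlgSp.Points.mk r}) = 0 → DiscreteTopology ↥(AlgSp.Points.map f.hom ⁻¹' {AlgSp.Points.mk r})) ∧
        ((AlgSp.Points.map f.hom ⁻¹' {AlgSp.Points.mk r}).Finite → DiscreteTopology ↥(AlgSp.Points.map f.hom ⁻¹' {AlgSp.Points.mk r}))) := by
  have hs := Groth.L23.FibCond.lft_snd hf hsq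
  obtain ⟨x₀, hx₀⟩ := hy
  obtain ⟨z₀, -⟩ := (Groth.L23.Pt.range_map_fst hsq).ge hx₀
  haveI : Nonempty (AlgSp.Points Xk.obj) := ⟨z₀⟩
  have key : DiscreteTopology (AlgSp.Points Xk.obj) ↔ AlgSp.dim Xk.obj = 0 :=
    (Groth.L23.DimPt.discrete_iff Xk.property hs).trans
      ⟨fun h => le_antisymm h (Groth.L23.DimPt.dim_nonneg Xk.property hs), fun h => h.le⟩
  have hq := Groth.L23.FibCond.discrete_iff_qf hf hsq
  haveI : Nonempty ↥(AlgSp.Points.map f.hom ⁻¹' {AlgSp.Points.mk r}) := ⟨⟨x₀, hx₀⟩⟩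
  refine ⟨key, key.symm.trans hq, fun h => Groth.L23.FibCond.krullDim_discrete,
    fun hd h => Groth.L23.FibCond.discrete_of_krullDim_zero Xk hs hd h,
    fun hd hfin => Groth.L23.DimPt.discrete_of_finite Xk.property hs hd, fun hfin => ?_,
    fun h => Groth.L23.FibCond.krullDim_discrete, fun hd => ?_, fun hd hdX => ?_⟩
  · rw [← Groth.L23.Pt.range_map_fst hsq]
    exact Set.finite_range _
  · obtain ⟨r₀, X₀, fst₀, snd₀, e, h₀, sq₀, he, -⟩ := Groth.L23.FibCond.exists_homeo f.hom hd r
    rw [← e.discreteTopology_iff, Groth.L23.FibCond.discrete_iff_qf hf sq₀, hq, h₀]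
  · obtain ⟨r₀, X₀, fst₀, snd₀, e, h₀, sq₀, he, hX₀⟩ := Groth.L23.FibCond.exists_homeo f.hom hd r
    rw [← e.discreteTopology_iff]
    refine ⟨fun h => ?_, fun h => ?_⟩
    · refine Groth.L23.FibCond.discrete_of_krullDim_zero X₀ (Groth.L23.FibCond.lft_snd hf sq₀) (hX₀ hdX) ?_
      rwa [IsHomeomorph.topologicalKrullDim_eq _ e.isHomeomorph]
    · haveI := h.to_subtype
      haveI : Finite (AlgSp.Points X₀.obj) := Finite.of_equiv _ e.toEquiv.symm
      exact Groth.L23.DimPt.discrete_of_finite X₀.property (Groth.L23.FibCond.lft_snd hf sq₀) (hX₀ hdX)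

end Groth.Agent.S10444
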