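import Groth.Statements.S10445
import Groth.Agent.L23.FibreConditions

set_option autoImplicit false
universe u
open CategoryTheory CategoryTheory.Limits AlgebraicGeometry Topology TopologicalSpace
open AlgSp

namespace Groth.Agent.S10445

/-- Take f : X ⟶ Y locally of finite type between algebraic spaces over a scheme S, a field-valued point
Spec k ⟶ Y with class y, the fibre product X_k = Spec k ×_Y X, x ∈ |X| over y, x̃ ∈ |X_k| over x,
and F = |f|⁻¹(y) with the induced topology. Numbering the conditions (1) dim_x F = 0, (2) x isolated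
in F, (3) x closed in F with no proper generization in F, (4) dim_{x̃} |X_k| = 0, (5) x̃ isolated in
|X_k|, (6) x̃ closed in |X_k| with no proper generization, (7) dim_{x̃}(X_k) = 0 (local dimension of
an etale chart), (8) f quasi-finite at x: (5) ⇔ (6) ⇔ (7) ⇔ (8); (4) ⇔ (5) when X_k is decent; (2) ⇔
(5) and (3) ⇔ (6) when Y is decent; (1) ⇔ (2) when X and Y are decent. -/
theorem result {S : Scheme.{u}} {X Y : AlgSp.Space S} (f : X ⟶ Y)
    (hf : AlgSp.LocP @LocallyOfFiniteType f.hom) (r : AlgSp.FieldPt Y.obj) (Xk : AlgSp.Space S) (fst : Xk ⟶ X)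
    (snd : Xk.obj ⟶ (AlgSp.yon S).obj r.pt) (hsq : IsPullback fst.hom snd f.hom r.toHom)
    (x : AlgSp.Points X.obj) (hx : x ∈ (AlgSp.Points.map f.hom ⁻¹' {AlgSp.Points.mk r})) (xt : AlgSp.Points Xk.obj)
    (hxt : AlgSp.Points.map fst.hom xt = x) :
    ((IsOpen ({xt} : Set (AlgSp.Points Xk.obj)) ↔
      IsClosed ({xt} : Set (AlgSp.Points Xk.obj)) ∧ ∀ x' : AlgSp.Points Xk.obj, x' ⤳ xt → x' = xt) ∧
    (IsOpen ({xt} : Set (AlgSp.Points Xk.obj)) ↔ AlgSp.HasAt (fun U u => FlatMor.localDim ↥U u = 0) Xk.obj xt) ∧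
    (AlgSp.HasAt (fun U u => FlatMor.localDim ↥U u = 0) Xk.obj xt ↔ AlgSp.HasAtMor (fun U _ h u => ∃ W : U.Opens, u ∈ W ∧ LocallyQuasiFinite (W.ι ≫ h) ∧ LocallyOfFiniteType (W.ι ≫ h)) f.hom x) ∧
    (AlgSp.IsDecent Xk.obj →
      (FlatMor.localDim (AlgSp.Points Xk.obj) xt = 0 ↔ IsOpen ({xt} : Set (AlgSp.Points Xk.obj)))) ∧
    (AlgSp.IsDecent Y.obj →
      (IsOpen ({(⟨x, hx⟩ : ↥(AlgSp.Points.map f.hom ⁻¹' {AlgSp.Points.mk r}))} : Set ↥(AlgSp.Points.map f.hom ⁻¹' {AlgSp.Points.mk r})) ↔ IsOpen ({xt} : Set (AlgSp.Points Xk.obj))) ∧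
      ((IsClosed ({(⟨x, hx⟩ : ↥(AlgSp.Points.map f.hom ⁻¹' {AlgSp.Points.mk r}))} : Set ↥(AlgSp.Points.map f.hom ⁻¹' {AlgSp.Points.mk r})) ∧ ∀ x' : ↥(AlgSp.Points.map f.hom ⁻¹' {AlgSp.Points.mk r}), x' ⤳ (⟨x, hx⟩ : ↥(AlgSp.Points.map f.hom ⁻¹' {AlgSp.Points.mk r})) → x' = (⟨x, hx⟩ : ↥(AlgSp.Points.map f.hom ⁻¹' {AlgSp.Points.mk r}))) ↔
        IsClosed ({xt} : Set (AlgSp.Points Xk.obj)) ∧ ∀ x' : AlgSp.Points Xk.obj, x' ⤳ xt → x' = xt)) ∧
    (AlgSp.IsDecent Y.obj → AlgSp.IsDecent X.obj →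
      (FlatMor.localDim ↥(AlgSp.Points.map f.hom ⁻¹' {AlgSp.Points.mk r}) (⟨x, hx⟩ : ↥(AlgSp.Points.map f.hom ⁻¹' {AlgSp.Points.mk r})) = 0 ↔ IsOpen ({(⟨x, hx⟩ : ↥(AlgSp.Points.map f.hom ⁻¹' {AlgSp.Points.mk r}))} : Set ↥(AlgSp.Points.map f.hom ⁻¹' {AlgSp.Points.mk r}))))) := by
  have hs := Groth.L23.FibCond.lft_snd hf hsq
  have A1 := Groth.L23.DimPt.isOpen_iff_closed hs Xk.property xt
  have A2 := Groth.L23.DimPt.hasAt_iff Xk.property hs xt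
  have A3 := Groth.L23.FibCond.hasAt_localDim_zero_iff hf hsq xt
  have hopen := Groth.L23.FibCond.isOpen_singleton_iff hf hsq xt
  rw [hxt] at A3 hopen
  refine ⟨A1, A2, A3, fun hd => Groth.L23.DimPt.localDim_points Xk hs hd xt, fun hd => ?_, fun hd hdX => ?_⟩
  · obtain ⟨r₀, X₀, fst₀, snd₀, e, h₀, sq₀, he, -⟩ := Groth.L23.FibCond.exists_homeo f.hom hd r
    obtain ⟨z, hz⟩ := e.surjective ⟨x, hx⟩
    have hzx : AlgSp.Points.map fst₀ z = x := (he z).symm.trans (congrArg Subtype.val hz)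
    have h1 : IsOpen ({z} : Set (AlgSp.Points X₀.obj)) ↔ IsOpen ({xt} : Set (AlgSp.Points Xk.obj)) := by
      rw [Groth.L23.FibCond.isOpen_singleton_iff hf sq₀ z, hzx, hopen]
    rw [← hz]
    refine ⟨(Groth.L23.FibCond.isOpen_singleton_homeo e z).symm.trans h1, ?_⟩
    rw [← Groth.L23.FibCond.isClosed_noGen_iff e z,
      ← Groth.L23.DimPt.isOpen_iff_closed (Groth.L23.FibCond.lft_snd hf sq₀) X₀.property z, h1, A1]
  · obtain ⟨r₀, X₀, fst₀, snd₀, e, h₀, sq₀, he, hX₀⟩ := Groth.L23.FibCond.exists_homeo f.hom hd r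
    obtain ⟨z, hz⟩ := e.surjective ⟨x, hx⟩
    rw [← hz, ← L02.Grpd.localDim_of_homeomorph e z, ← Groth.L23.FibCond.isOpen_singleton_homeo e z]
    exact Groth.L23.DimPt.localDim_points X₀ (Groth.L23.FibCond.lft_snd hf sq₀) (hX₀ hdX) z

end Groth.Agent.S10445
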