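import Groth.Statements.S10446
import Groth.Agent.L23.FibreFinite
import Groth.Agent.L23.QcCalc
import Groth.Agent.L23.MorCalc
import Groth.Agent.S10398
import Groth.Agent.S10350
import Groth.Agent.S10381
import Groth.Agent.S10423

set_option autoImplicit false
set_option backward.isDefEq.respectTransparency.types false
set_option linter.style.haveILetI false
universe u
open CategoryTheory CategoryTheory.Limits AlgebraicGeometry Topology TopologicalSpace
open AlgSp

namespace Groth.Agent.S10446

/-- (1) ⇔ (3): let S be a scheme with quasi-separated underlying space, f : X ⟶ Y a quasi-separated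
morphism of algebraic spaces over S that is locally of finite type, with Y quasi-separated over S,
and y ∈ |Y| a point of codimension 0. Then |f|⁻¹(y) is finite if and only if f restricts to a finite
morphism X' ⟶ Y' between an open subspace X' of X containing the whole fibre |f|⁻¹(y) and an open
subspace Y' of Y through y. (The published statement assumes Y quasi-separated in the absolute
sense; this row assumes S has quasi-separated underlying space and Y quasi-separated over S. Its
condition on the finiteness of |Spec k ×_Y X| is not part of this row.) -/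
theorem result {S : Scheme.{u}} [QuasiSeparatedSpace ↥S] {X Y : AlgSp.Space S}
    (f : X ⟶ Y) (hqs : AlgSp.IsQuasiSeparatedMor f.hom) (hft : AlgSp.LocP @LocallyOfFiniteType f.hom)
    (hY : AlgSp.IsQuasiSeparatedSp Y.obj) (y : AlgSp.Points Y.obj)
    (hy : AlgSp.HasAt (fun U u => ringKrullDim ↥(U.presheaf.stalk u) = 0) Y.obj y) :
    (AlgSp.Points.map f.hom ⁻¹' {y}).Finite ↔
      ∃ (X' Y' : AlgSp.Space S) (i : X' ⟶ X) (j : Y' ⟶ Y) (f' : X' ⟶ Y'), AlgSp.RepWith @IsOpenImmersion i.hom ∧
        AlgSp.RepWith @IsOpenImmersion j.hom ∧ f' ≫ j = i ≫ f ∧ y ∈ Set.range (AlgSp.Points.map j.hom) ∧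
          AlgSp.Points.map f.hom ⁻¹' {y} ⊆ Set.range (AlgSp.Points.map i.hom) ∧ AlgSp.IsFiniteMor f'.hom := by
  classical
  constructor
  · intro hfin
    have hXd : AlgSp.IsDecent X.obj :=
      Groth.Agent.S10381.result f ((Groth.Agent.S10423.result f).2 hqs) (Groth.Agent.S10350.result Y hY)
    obtain ⟨U₁, p₁, hp₁, hp₁s⟩ := X.property.atlas
    choose w hw using Groth.L23.surjective_ofPt hp₁s
    choose A hA hwA _ using fun u : U₁.left => exists_isAffineOpen_mem_and_subset (x := u) (U := ⊤) trivial
    let O : U₁.left.Opens := ⨆ z ∈ Points.map f.hom ⁻¹' {y}, A (w z)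
    have hO : (O : Set U₁.left) = ⋃ z ∈ Points.map f.hom ⁻¹' {y}, (A (w z) : Set U₁.left) := by
      simp only [O, Opens.coe_iSup]
    obtain ⟨X₀, j, e, hX₀, hj, he, hes, hej, hr⟩ := Groth.L23.Qs.exists_openSub_chart X.property
      (a := (AlgSp.yon S).map (Groth.L23.openOverι U₁ O) ≫ p₁)
      (Groth.L23.repWith_comp (Groth.L23.repWith_etale_openMk O) hp₁)
    have hc : CompactSpace (Groth.L23.openOver U₁ O).left :=
      isCompact_iff_compactSpace.1 (hO ▸ hfin.isCompact_biUnion fun z _ => (hA (w z)).isCompact)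
    have hsub : Points.map f.hom ⁻¹' {y} ⊆ Set.range (Points.map j) := fun z hz => by
      refine hr.ge ⟨⟨w z, Opens.mem_iSup.2 ⟨z, Opens.mem_iSup.2 ⟨hz, hwA _⟩⟩⟩, ?_⟩
      rw [Groth.L23.ofPt_comp]
      exact hw z
    have := Groth.L23.mono_of_repWith_openImmersion hj
    have hlft : LocP @LocallyOfFiniteType (j ≫ f.hom) :=
      Groth.L23.locP_comp Groth.L23.etLocal_lft hX₀ X.property Y.property
        (Groth.L23.locP_of_repWith Groth.L23.etLocal_lft (Groth.L23.repWith_mono
          (fun φ (_ : IsOpenImmersion φ) => inferInstanceAs (LocallyOfFiniteType φ)) hj)) hft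
    obtain ⟨Y', X', k, fst, snd, hk, hyk, sq, hfst⟩ := Groth.Agent.S10398.result (X := ⟨X₀, hX₀⟩) (Y := Y)
      ⟨j ≫ f.hom⟩
      (Groth.L23.qsMor_comp (Groth.L23.repWith_of_isIso _) hqs)
      ⟨hlft, Groth.L23.qcMor_of_qc_source hX₀ Y.property ⟨_, e, he, hes, hc⟩ hY _⟩ y hy fun x hx => by
        have := Groth.L23.mono_of_repWith_openImmersion hj
        rw [Points.map_comp] at hx
        exact (Groth.L23.QFL.hasAtMor_comp_iff hX₀ Y.property
          (Groth.L23.repWith_mono (fun φ (_ : IsOpenImmersion φ) => inferInstanceAs (Etale φ)) hj) x).2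
          (Groth.L23.FibFin.hasAtMor_of_finite X.property Y.property hXd hft _ (by rw [hx]; exact hfin))
    refine ⟨X', Y', snd ≫ ⟨j⟩, k, fst, ?_, hk, ?_, hyk, fun z hz => ?_, hfst⟩
    · exact Groth.L23.repWith_comp (Groth.L23.repWith_of_isPullback sq hk) hj
    · apply ObjectProperty.hom_ext
      exact sq.w.trans (Category.assoc _ _ _).symm
    · obtain ⟨x₀, hx₀⟩ := hsub hz
      obtain ⟨y₀, hy₀⟩ := hyk
      obtain ⟨q, -, hq⟩ := Groth.L23.exists_of_isPullback sq y₀ x₀ (by
        show Points.map k.hom y₀ = Points.map (j ≫ f.hom) x₀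
        rw [hy₀, Points.map_comp, hx₀]; exact hz.symm)
      refine ⟨q, ?_⟩
      show Points.map (snd.hom ≫ j) q = z
      rw [Points.map_comp, hq, hx₀]
  · rintro ⟨X', Y', i, j, f', hi, hj, w, hy', hsub, hfin⟩
    obtain ⟨y₀, rfl⟩ := hy'
    have hw : f'.hom ≫ j.hom = i.hom ≫ f.hom := congrArg InducedCategory.Hom.hom w
    have := Groth.L23.mono_of_repWith_openImmersion hj
    refine ((Groth.L23.FibFin.finite_fibre f'.hom hfin y₀).image (Points.map i.hom)).subset fun x hx => ?_
    obtain ⟨x', rfl⟩ := hsub hx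
    refine ⟨x', Groth.L23.QFL.map_injective_of_mono j.hom ?_, rfl⟩
    rw [← Points.map_comp, hw, Points.map_comp]
    exact hx

end Groth.Agent.S10446
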