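import Groth.Statements.S10448
import Groth.Agent.L23.IntegralDim

set_option autoImplicit false
universe u
open CategoryTheory CategoryTheory.Limits AlgebraicGeometry Topology TopologicalSpace
open AlgSp

namespace Groth.Agent.S10448

/-- For an integral morphism f : X ⟶ Y of algebraic spaces over a scheme S, the dimension of X is at
most the dimension of Y. -/
theorem result {S : Scheme.{u}} {X Y : AlgSp.Space S} (f : X ⟶ Y)
    (hf : AlgSp.IsIntegralMor f.hom) : AlgSp.dim X.obj ≤ AlgSp.dim Y.obj := by
  exact Groth.L23.IntDim.dim_le_of_isIntegralMor Y.property hf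

end Groth.Agent.S10448
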