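import Groth.Statements.S1045
import Groth.Agent.L29.DCoh.Gen.Punctured

set_option autoImplicit false
set_option backward.isDefEq.respectTransparency false
universe u
open CategoryTheory CategoryTheory.Limits AlgebraicGeometry
attribute [local instance] HasDerivedCategory.standard
open Perf

namespace Groth.Agent.S1045

/-- Let A be a ring, f₁, …, f_r elements of A, X = Spec A and U ⊆ X the open complement of V(f₁, …,
f_r). Let E ∈ D(O_X) have quasi-coherent cohomology sheaves with Hⁱ(E)|_U = 0 for -r < i ≤ 0. Then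
(tilde being recorded as exact) every morphism s : O_X ⟶ E in D(O_X) factors as O_X ⟶ K_e ⟶ E for
some e ≥ 0, where K_e is the object of D(O_X) associated with the Koszul complex on f₁^e, …, f_r^e. -/
theorem result (A : Type u) [CommRing A] (fs : List A) [PreservesFiniteLimits (tilde.functor (CommRingCat.of A))]
    (E : DCoh.D (Spec (CommRingCat.of A))) (hE : DCoh.IsQCohD E)
    (hU : ∀ i : ℤ, -(fs.length : ℤ) < i → i ≤ 0 → IsZero ((DCoh.HD E i).restrict (LocCoh.puncturedOpen A (Ideal.span {a | a ∈ fs})).ι))
    (s : DCoh.inD (Spec (CommRingCat.of A)) (Coh.structureModule (Spec (CommRingCat.of A))) ⟶ E) :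
    ∃ (e : ℕ) (ψ : (DCoh.tildeD (CommRingCat.of A)).obj (DerivedCategory.Q.obj (Koszul.koszul A (fs.map (fun a => a ^ e)))) ⟶ E)
      (t : DCoh.inD (Spec (CommRingCat.of A)) (Coh.structureModule (Spec (CommRingCat.of A))) ⟶
        (DCoh.tildeD (CommRingCat.of A)).obj (DerivedCategory.Q.obj (Koszul.koszul A (fs.map (fun a => a ^ e))))),
      t ≫ ψ = s := by
  let R : CommRingCat.{u} := CommRingCat.of A
  haveI : (tilde.functor R).Additive := tilde.adjunction.left_adjoint_additive
  haveI := (tilde.adjunction (R := R)).leftAdjoint_preservesColimits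
  haveI : Limits.PreservesFiniteColimits (tilde.functor R) :=
    Limits.PreservesColimitsOfSize.preservesFiniteColimits.{0, 0} _
  obtain ⟨e₀⟩ := Groth.L29.DC.Cpt.nonempty_free_top (X := Spec R)
  let eA : (tilde.functor R).obj (ModuleCat.of R R) ≅ Coh.structureModule (Spec R) :=
    (Groth.L29.DC.TildeD.freeIso (R := R)).symm ≪≫ e₀
  let eO : (DCoh.tildeD R).obj (Groth.L29.DC.Gen.kObj ([] : List A)) ≅ DCoh.inD (Spec R) (Coh.structureModule (Spec R)) :=
    (DCoh.tildeD R).mapIso ((DerivedCategory.singleFunctorIsoCompQ (ModuleCat.{u} A) 0).app (ModuleCat.of A A)).symm ≪≫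
      ((tilde.functor R).mapDerivedCategorySingleFunctor 0).app (ModuleCat.of R R) ≪≫
      (DerivedCategory.singleFunctor (Spec R).Modules 0).mapIso eA
  exact Groth.L29.DC.Gen.exists_section_fac fs hE hU eO s

end Groth.Agent.S1045
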