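import Groth.Statements.S10451
import Groth.Agent.L23.DimZeroSpace

set_option autoImplicit false
set_option backward.isDefEq.respectTransparency.types false
universe u
open CategoryTheory CategoryTheory.Limits AlgebraicGeometry Topology TopologicalSpace
open AlgSp

namespace Groth.Agent.S10451

/-- Let k be a field and X an algebraic space locally of finite type over k with dim X = 0. Then X is a
separated scheme and every quasi-compact open of X is affine. -/
theorem result (k : Type u) [Field k]
    (X : AlgSp.Space (Spec (CommRingCat.of k))) (p : X.obj ⟶ (AlgSp.yon (Spec (CommRingCat.of k))).obj (Over.mk (𝟙 _)))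
    (hp : AlgSp.LocP @LocallyOfFiniteType p) (hd : AlgSp.dim X.obj = 0) :
    ∃ (U : Over (Spec (CommRingCat.of k))) (_ : (AlgSp.yon (Spec (CommRingCat.of k))).obj U ≅ X.obj), U.left.IsSeparated ∧
      ∀ V : U.left.Opens, IsCompact (V : Set ↥U.left) → IsAffineOpen V := by
  have hlft : ∀ (U : Over (Spec (CommRingCat.of k))) (a : (AlgSp.yon _).obj U ⟶ X.obj),
      AlgSp.RepWith @Etale a → LocallyOfFiniteType U.hom := by
    intro U a ha
    obtain ⟨h, hh⟩ := (AlgSp.yon (Spec (CommRingCat.of k))).map_surjective (a ≫ p)
    have h2 := hp a (𝟙 _) h ha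
      (Groth.L23.repWith_of_isIso (P := (@Etale : MorphismProperty Scheme.{u})) _) (by rw [hh, Category.comp_id])
    have e : h.left = U.hom := by simpa using Over.w h
    rwa [e] at h2
  refine Groth.L23.DimZero.exists_separated_scheme X.property hd.le
    (fun x => Groth.L23.DimZero.schemePt_of_field X.property hd.le hlft x) fun G θ hθ => ?_
  have := hθ
  have := hlft G θ (Groth.L23.repWith_of_isIso (P := (@Etale : MorphismProperty Scheme.{u})) θ)
  have := LocallyOfFiniteType.isLocallyNoetherian G.hom
  infer_instance

end Groth.Agent.S10451
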