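import Groth.Statements.S10650
import Groth.Agent.L23.QFPoints
import Groth.Agent.L23.LqfRep
import Groth.Agent.L23.MorCalc
import Groth.Agent.L23.AffineMor
import Groth.Agent.L23.Univ

set_option autoImplicit false
set_option backward.isDefEq.respectTransparency.types false
universe u
open CategoryTheory CategoryTheory.Limits AlgebraicGeometry
open AlgSp

namespace Groth.Agent.S10650

/-- For a proper morphism f : X ⟶ Y of algebraic spaces over S and a point y of |Y| such that f is
quasi-finite at every point of |X| lying over y (for each such point some etale chart diagram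
through it has top arrow locally quasi-finite and locally of finite type on an open neighbourhood),
there is an open subspace V of Y containing y such that the base change X ×_Y V ⟶ V is finite. -/
theorem result {S : Scheme.{u}} {X Y : AlgSp.Space S} (f : X ⟶ Y) (y : AlgSp.Points Y.obj)
    (hf : AlgSp.IsProperMor f.hom)
    (hq : ∀ x : AlgSp.Points X.obj, AlgSp.Points.map f.hom x = y →
      AlgSp.HasAtMor (fun U _ h u => ∃ W : U.Opens, u ∈ W ∧ LocallyQuasiFinite (W.ι ≫ h) ∧ LocallyOfFiniteType (W.ι ≫ h)) f.hom x) :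
    ∃ (V : AlgSp.Space S) (j : V ⟶ Y), AlgSp.RepWith @IsOpenImmersion j.hom ∧
      y ∈ Set.range (AlgSp.Points.map j.hom) ∧
        ∀ (P : AlgSp.Space S) (fst : P ⟶ X) (snd : P ⟶ V), IsPullback fst.hom snd.hom f.hom j.hom →
          AlgSp.IsFiniteMor snd.hom := by
  let N : Set (AlgSp.Points X.obj) := {x | ¬ AlgSp.HasAtMor Groth.L23.QFL.qfAt f.hom x}
  have hN : IsClosed N := isClosed_compl_iff.2 (Groth.L23.QFL.isOpen_qfSet f.hom)
  have hc : IsClosed (AlgSp.Points.map f.hom '' N) :=
    hf.2.2 Y.property (𝟙 _) (𝟙 _) f.hom (IsPullback.of_id_fst) N hN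
  let W : TopologicalSpace.Opens (AlgSp.Points Y.obj) := ⟨(AlgSp.Points.map f.hom '' N)ᶜ, hc.isOpen_compl⟩
  have hW := Groth.L23.isAlgSpace_openSub W Y.property
  refine ⟨⟨Groth.L23.openSub W, hW⟩, ObjectProperty.homMk (Groth.L23.openSubι W),
    Groth.L23.repWith_openSubι W, (Groth.L23.range_openSubι W).ge ?_, fun P fst snd sq => ?_⟩
  · rintro ⟨x, hx, hxy⟩
    exact hx (hq x hxy)
  have hp : AlgSp.IsProperMor snd.hom :=
    Groth.L23.isProperMor_of_isPullback X.property Y.property hW sq hf
  have hl : AlgSp.LocP (@LocallyQuasiFinite ⊓ @LocallyOfFiniteType) snd.hom :=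
    Groth.L23.QFL.locP_of_hasAtMor fun ρ => Groth.L23.QFL.hasAtMor_of_isPullback hW sq (by
      by_contra hn
      have h₁ : AlgSp.Points.map (Groth.L23.openSubι W) (AlgSp.Points.map snd.hom ρ) ∈ W :=
        (Groth.L23.range_openSubι W).le ⟨_, rfl⟩
      rw [← AlgSp.Points.map_comp] at h₁
      exact h₁ ⟨_, hn, by rw [← AlgSp.Points.map_comp]; exact congrArg (fun m => AlgSp.Points.map m ρ) sq.w⟩)
  have hr := Groth.L23.Lqf.representable_of_lqf P.property hW hl hp.1
  have h₁ := (Groth.L23.isSeparatedMor_iff hr).1 hp.1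
  have h₂ := Groth.L23.repWith_of_locP Groth.L23.etLocal_lqfLft hW hr hl
  have h₃ := (Groth.L23.repWith_universallyClosed_iff hr).2 hp.2.2
  exact Groth.L23.isFiniteMor_iff.2 (Groth.L23.repWith_mono
    (fun φ ⟨⟨(_ : IsSeparated φ), ⟨(_ : LocallyQuasiFinite φ), (_ : LocallyOfFiniteType φ)⟩⟩, (_ : UniversallyClosed φ)⟩ =>
      have : IsProper φ := {}
      IsFinite.of_isProper_of_locallyQuasiFinite φ)
    (Groth.L23.repWith_inf_iff.2 ⟨Groth.L23.repWith_inf_iff.2 ⟨h₁, h₂⟩, h₃⟩))


end Groth.Agent.S10650
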