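import Groth.Statements.S10458
import Groth.Agent.L23.AlterExists

set_option autoImplicit false
set_option backward.isDefEq.respectTransparency.types false
set_option linter.style.haveILetI false
universe u
open CategoryTheory CategoryTheory.Limits AlgebraicGeometry Topology TopologicalSpace
open AlgSp

namespace Groth.Agent.S10458

/-- Suppose f : X ⟶ Y is a morphism of algebraic spaces over a scheme S that is proper and surjective,
with Y integral. Then there is an integral closed subspace X' of X such that the restriction X' ⟶ Y
is an alteration: proper and dominant with X' integral, and finite over some nonempty open subspace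
of Y. -/
theorem result {S : Scheme.{u}} {X Y : AlgSp.Space S} (f : X ⟶ Y)
    (hf : AlgSp.IsProperMor f.hom) (hs : AlgSp.IsSurjectiveMor f.hom) (hY : AlgSp.IsIntegralSp Y.obj) :
    ∃ (X' : AlgSp.Space S) (i : X' ⟶ X), AlgSp.RepWith @IsClosedImmersion i.hom ∧ AlgSp.IsIntegralSp X'.obj ∧
      AlgSp.IsProperMor (i ≫ f).hom ∧ AlgSp.IsDominantMor (i ≫ f).hom ∧
      ∃ (V : AlgSp.Space S) (j : V ⟶ Y), AlgSp.RepWith @IsOpenImmersion j.hom ∧ Nonempty (AlgSp.Points V.obj) ∧
        ∀ (P : AlgSp.Space S) (fst : P ⟶ V) (snd : P ⟶ X'), IsPullback fst.hom snd.hom j.hom (i ≫ f).hom →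
          AlgSp.IsFiniteMor fst.hom := by
  exact Groth.L23.Alter.exists_alteration f hf hs hY

end Groth.Agent.S10458
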