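import Groth.Statements.S10459
import Groth.Agent.L23.DimLeAdd

set_option autoImplicit false
universe u
open CategoryTheory CategoryTheory.Limits AlgebraicGeometry Topology TopologicalSpace
open AlgSp

namespace Groth.Agent.S10459

/-- Let f : X ⟶ Y be a dominant morphism locally of finite type between integral algebraic spaces over a
scheme S, with Y locally Noetherian, and let r be the transcendence degree of the generic point of X
over its image (the generic point of Y). Then dim X ≤ dim Y + r. -/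
theorem result {S : Scheme.{u}} {X Y : AlgSp.Space S} (f : X ⟶ Y)
    (hY : AlgSp.IsLocNoethSp Y.obj) (hXi : AlgSp.IsIntegralSp X.obj) (hYi : AlgSp.IsIntegralSp Y.obj)
    (hd : AlgSp.IsDominantMor f.hom) (hft : AlgSp.LocP @LocallyOfFiniteType f.hom)
    (x : AlgSp.Points X.obj) (hx : IsGenericPoint x (Set.univ : Set (AlgSp.Points X.obj))) (r : ℕ)
    (hr : AlgSp.HasAtMor (fun _ _ h u => Dual3.resTrdeg h u = (r : Cardinal.{u})) f.hom x) :
    AlgSp.dim X.obj ≤ AlgSp.dim Y.obj + ((r : ℕ∞) : WithBot ℕ∞) := by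
  refine Groth.L23.DimLe.dim_le hY hft (r : ℕ∞) fun ξ hξ s hs => ?_
  obtain ⟨T, hT, hg⟩ := (Groth.L23.Pt.hasAt_zero_iff X.property hXi.2.1 ξ).2 hξ
  haveI := hXi.2.2
  rw [irreducibleComponents_eq_singleton, Set.mem_singleton_iff] at hT
  haveI := Groth.L23.Pt.t0Space_of_isDecent X.property hXi.2.1
  obtain rfl : ξ = x := (hT ▸ hg).eq hx
  obtain ⟨U, V, a, b, g, u, ha, hb, w, rfl, hu⟩ := hr
  rw [Groth.L23.Trdeg.hasAtMor_resTrdeg_iff (· = s) ha hb w u] at hs
  rw [← hs, hu, Cardinal.toENat_nat]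

end Groth.Agent.S10459
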