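import Groth.Statements.S1046
import Groth.Agent.L10.GammaZ.Termwise
import Groth.Agent.L29.DCoh.Gen.Support
import Groth.Agent.L00.RPlusUnit
import Groth.Agent.L29.DCoh.RpushQCoh
import Groth.Agent.L29.DCoh.Gen.QCohTri

set_option autoImplicit false
set_option backward.defeqAttrib.useBackward true
set_option backward.isDefEq.respectTransparency false
set_option backward.isDefEq.respectTransparency.types false
set_option backward.defeqAttrib.useBackward true
set_option backward.isDefEq.respectTransparency false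
universe u
open CategoryTheory CategoryTheory.Limits AlgebraicGeometry
attribute [local instance] HasDerivedCategory.standard
open Perf

namespace Groth.Agent.S1046

/-- Let U ⊆ X be an open subscheme with quasi-compact inclusion and T = X ∖ U. Assuming O_X-modules have
enough injectives (true, not recorded), for every bounded below E ∈ D(O_X) with quasi-coherent
cohomology sheaves, the derived sections with support RΓ_T(E) (right derived functor of F ↦ ker(F →
j_*(F|_U))) has quasi-coherent cohomology sheaves, all supported on T. -/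
theorem result (X : Scheme.{u}) (U : X.Opens) [QuasiCompact U.ι] [EnoughInjectives X.Modules]
    (E : DerivedCategory.Plus X.Modules) (hE : DCoh.IsQCohD E.obj) :
    DCoh.IsQCohD ((DCoh.RgammaZPlus U.ι).obj E).obj ∧
    ∀ i : ℤ, CohB1.support (DCoh.HD ((DCoh.RgammaZPlus U.ι).obj E).obj i) ⊆ (U : Set X)ᶜ := by
  haveI := Groth.L29.DC.RpushQC.hasRpush U.ι
  haveI : (DerivedCategory.Plus.Qh (C := X.Modules)).EssSurj :=
    Localization.essSurj DerivedCategory.Plus.Qh (HomotopyCategory.Plus.quasiIso X.Modules)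
  let P := DerivedCategory.Plus.Qh.objPreimage E
  let K₁ := (HomotopyCategory.Plus.quotient X.Modules).objPreimage P
  have eE : DerivedCategory.Plus.Qh.obj ((HomotopyCategory.Plus.quotient X.Modules).obj K₁) ≅ E :=
    DerivedCategory.Plus.Qh.mapIso ((HomotopyCategory.Plus.quotient X.Modules).objObjPreimageIso P) ≪≫
      DerivedCategory.Plus.Qh.objObjPreimageIso E
  obtain ⟨K', m, hm⟩ := K₁
  obtain ⟨L, i, h1, h2, h3⟩ := CochainComplex.Plus.modelCategoryQuillen.exists_quasiIso_injective K' m
  let K₀ : CochainComplex.Plus X.Modules := ⟨K', m, hm⟩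
  let L₀ : CochainComplex.Plus X.Modules := ⟨L, m, inferInstance⟩
  let i' : K₀ ⟶ L₀ := ObjectProperty.homMk i
  have hqi : QuasiIso i'.hom := inferInstanceAs (QuasiIso i)
  haveI : L.IsKInjective := CochainComplex.isKInjective_of_injective L m
  let F := DCoh.gammaZ U.ι
  have hLu : IsIso (F.rightDerivedFunctorPlusUnit.app ((HomotopyCategory.Plus.quotient X.Modules).obj L₀)) :=
    (Groth.L00.RPlusUnit.unit_isIso_iff F (𝟙 L₀) (fun n => inferInstanceAs (Injective (L.X n)))).2 (by
      rw [ObjectProperty.FullSubcategory.id_hom, CategoryTheory.Functor.map_id]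
      infer_instance)
  have hi : IsIso (DerivedCategory.Plus.Qh.map ((HomotopyCategory.Plus.quotient X.Modules).map i')) :=
    (Groth.L00.RPlusUnit.isIso_plusQ_iff i').2 hqi
  let eM : ((DCoh.RgammaZPlus U.ι).obj E).obj ≅ DerivedCategory.Q.obj ((Groth.L10.GammaZ.gCx U.ι).obj L) :=
    DerivedCategory.Plus.ι.mapIso ((DCoh.RgammaZPlus U.ι).mapIso eE.symm ≪≫
      F.rightDerivedFunctorPlus.mapIso (@asIso _ _ _ _ _ hi) ≪≫ (@asIso _ _ _ _ _ hLu).symm)
  let eL : E.obj ≅ DerivedCategory.Q.obj L :=
    DerivedCategory.Plus.ι.mapIso (eE.symm ≪≫ @asIso _ _ _ _ _ hi)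
  have hL : DCoh.IsQCohD (DerivedCategory.Q.obj L) := Groth.L29.DC.isQCohD_of_iso eL hE
  haveI := Groth.L29.DC.RpushRes.isKInjective_res U.ι L
  obtain ⟨p⟩ := Groth.L29.DC.ProjFormulaD.nonempty_Rpush_kinj U.ι
    (((Scheme.Modules.restrictFunctor U.ι).mapHomologicalComplex (ComplexShape.up ℤ)).obj L)
  let hS := Groth.L10.GammaZ.shortExact U.ι L fun n => inferInstance
  have hT := DerivedCategory.triangleOfSES_distinguished hS
  have h3 : DCoh.IsQCohD (DerivedCategory.Q.obj (Groth.L10.GammaZ.sc U.ι L).X₃) :=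
    Groth.L29.DC.isQCohD_of_iso p (Groth.L29.DC.RpushQC.isQCohD_Rpush U.ι _
      (Groth.L29.DC.isQCohD_of_iso ((Scheme.Modules.restrictFunctor U.ι).mapDerivedCategoryFactors.app L)
        (Groth.L29.DC.isQCohD_restrictD U.ι hL)))
  refine ⟨Groth.L29.DC.isQCohD_of_iso eM.symm (Groth.L29.DC.Gen.isQCohD_third _ (Pretriangulated.inv_rot_of_distTriang _ (Pretriangulated.inv_rot_of_distTriang _ hT)) (Groth.L29.DC.Gen.isQCohD_shift hL (-1)) (Groth.L29.DC.Gen.isQCohD_shift h3 (-1))), ?_⟩
  intro i
  have hz : IsZero ((DCoh.restrictD U.ι).obj ((DCoh.RgammaZPlus U.ι).obj E).obj) := by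
    refine IsZero.of_iso ?_ ((DCoh.restrictD U.ι).mapIso eM ≪≫
      (Scheme.Modules.restrictFunctor U.ι).mapDerivedCategoryFactors.app _)
    exact Groth.L10.GammaZ.isZero_res_gCx U.ι L
  have := (Groth.L29.DC.Gen.isZero_restrictD_iff U.ι _).1 hz i
  rwa [Scheme.Opens.range_ι] at this

end Groth.Agent.S1046
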