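import Groth.Statements.S10460
import Groth.Agent.S10459
import Groth.Agent.L23.DimDecent
-- import your own Groth.Agent.* helpers here

set_option autoImplicit false
set_option linter.style.haveILetI false
universe u
open CategoryTheory CategoryTheory.Limits AlgebraicGeometry Topology TopologicalSpace
open AlgSp

namespace Groth.Agent.S10460

section Lower

attribute [local instance] specializationOrder

/-- chains of specializations lift along closed maps -/
theorem lift_series {A B : Type*} [TopologicalSpace A] [TopologicalSpace B] [T0Space A] [T0Space B]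
    (φ : A → B) (hc : IsClosedMap φ) :
    ∀ (p : LTSeries Bᵒᵈ) (a : Aᵒᵈ), φ (OrderDual.ofDual a) = OrderDual.ofDual p.head →
      ∃ q : LTSeries Aᵒᵈ, q.head = a ∧ q.length = p.length ∧
        φ (OrderDual.ofDual q.last) = OrderDual.ofDual p.last := by
  intro p
  induction p using RelSeries.inductionOn' with
  | singleton b =>
    intro a ha
    exact ⟨RelSeries.singleton _ a, rfl, rfl, ha⟩
  | snoc p b hp ih =>
    intro a ha
    obtain ⟨q, hq0, hq1, hq2⟩ := ih a (by simpa using ha)
    have hb : φ (OrderDual.ofDual q.last) ⤳ OrderDual.ofDual b := by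
      rw [hq2]; exact le_of_lt (α := Bᵒᵈ) hp
    obtain ⟨a', ha', hfa'⟩ := hc.specializingMap hb
    refine ⟨RelSeries.snoc q (OrderDual.toDual a') (lt_of_le_of_ne (show q.last ≤ OrderDual.toDual a' from ha') ?_),
      by simp [hq0], by simp [hq1], by simpa using hfa'⟩
    intro he
    exact (ne_of_lt (α := Bᵒᵈ) hp) (OrderDual.ofDual.injective (by rw [← hfa', ← hq2, he]; rfl))

theorem krullDim_dual_points (A : Type*) [TopologicalSpace A] [T0Space A] [QuasiSober A] :
    topologicalKrullDim A = Order.krullDim Aᵒᵈ := by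
  unfold topologicalKrullDim
  rw [Order.krullDim_eq_of_orderIso (irreducibleSetEquivPoints (α := A)), Order.krullDim_orderDual]

theorem series_of_dim {Z A : Type*} [TopologicalSpace Z] [T0Space Z] [QuasiSober Z] [TopologicalSpace A] [T0Space A]
    (ψ : Z → A) (hψ : Continuous ψ) (hs : ∀ z z', z ⤳ z' → ψ z = ψ z' → z = z') (n : ℕ)
    (hn : (n : WithBot ℕ∞) ≤ topologicalKrullDim Z) :
    ∃ (s : LTSeries Aᵒᵈ) (z : Z), s.length = n ∧ OrderDual.ofDual s.last = ψ z := by
  rw [krullDim_dual_points] at hn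
  obtain ⟨l, hl⟩ := Order.le_krullDim_iff.1 hn
  have hm : StrictMono fun z : Zᵒᵈ => OrderDual.toDual (ψ (OrderDual.ofDual z)) := fun z z' hz =>
    lt_of_le_of_ne ((show OrderDual.ofDual z ⤳ OrderDual.ofDual z' from hz.le).map hψ) fun e =>
      hz.ne (OrderDual.ofDual.injective (hs _ _ hz.le (congrArg OrderDual.ofDual e)))
  exact ⟨l.map _ hm, OrderDual.ofDual l.last, hl, by rw [LTSeries.last_map]; rfl⟩

theorem dim_ge {S : Scheme.{u}} {X Y : AlgSp.Space S} (f : X ⟶ Y)
    (hXi : AlgSp.IsIntegralSp X.obj) (hYi : AlgSp.IsIntegralSp Y.obj)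
    (hd : AlgSp.IsDominantMor f.hom) (hp : AlgSp.IsProperMor f.hom)
    (x : AlgSp.Points X.obj) (hx : IsGenericPoint x (Set.univ : Set (AlgSp.Points X.obj))) (r : ℕ)
    (hr : AlgSp.HasAtMor (fun _ _ h u => Dual3.resTrdeg h u = (r : Cardinal.{u})) f.hom x) :
    AlgSp.dim Y.obj + ((r : ℕ∞) : WithBot ℕ∞) ≤ AlgSp.dim X.obj := by
  have := Groth.L23.Pt.t0Space_of_isDecent X.property hXi.2.1
  have := Groth.L23.Pt.t0Space_of_isDecent Y.property hYi.2.1
  have := Groth.L23.Pt.quasiSober_of_isDecent X.property hXi.2.1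
  have := Groth.L23.Pt.quasiSober_of_isDecent Y.property hYi.2.1
  have := hYi.2.2
  rw [← Groth.L23.Pt.topologicalKrullDim_points X.property hXi.2.1,
    ← Groth.L23.Pt.topologicalKrullDim_points Y.property hYi.2.1]
  let φ : Points X.obj → Points Y.obj := Points.map f.hom
  have hc : IsClosedMap φ := hp.2.2 Y.property (𝟙 _) (𝟙 _) f.hom (IsPullback.of_horiz_isIso ⟨by simp⟩)
  have hη : ∀ y, φ x ⤳ y := fun y => by
    rw [specializes_iff_mem_closure]
    have h1 : Set.range φ ⊆ closure {φ x} := by
      rintro _ ⟨z, rfl⟩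
      exact specializes_iff_mem_closure.1 ((hx.specializes (Set.mem_univ z)).map (Points.continuous_map _))
    exact closure_minimal h1 isClosed_closure (hd y)
  obtain ⟨U, V, a, b, h, u, ha, hb, w, rfl, hu⟩ := hr
  have : LocallyOfFiniteType h.left := hp.2.1.1 a b h ha hb w
  obtain ⟨n, hfd, htr⟩ := Groth.L07.DimToolkit.exists_fdim_rtrdeg h.left u
  obtain rfl : r = n := by exact_mod_cast hu.symm.trans htr
  obtain ⟨c, hcu⟩ := Groth.L07.Equidim.exists_fiber_point h.left u
  rw [← hcu, Groth.L07.Equidim.fdim_fiberι] at hfd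
  have : QuasiSober ↥(closure ({c} : Set (h.left.fiber (h.left u)))) :=
    (isClosed_closure.isClosedEmbedding_subtypeVal).quasiSober
  -- the fibre chain pushed into the points of `X`
  let ψ : ↥(closure ({c} : Set (h.left.fiber (h.left u)))) → Points X.obj :=
    fun z => Points.ofPt a (h.left.fiberι (h.left u) z.1)
  have hψc : Continuous ψ :=
    (Points.continuous_ofPt a).comp ((h.left.fiberι (h.left u)).continuous.comp continuous_subtype_val)
  obtain ⟨s, z₀, hsl, hsz⟩ := series_of_dim ψ hψc (fun z z' h1 e => by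
    apply Subtype.ext
    apply (h.left.fiberι (h.left u)).isEmbedding.injective
    exact Groth.L23.Pt.ofPt_strict X.property hXi.2.1 ha _ _
      (h1.map ((h.left.fiberι (h.left u)).continuous.comp continuous_subtype_val)) e) r hfd.ge
  have hψη : ∀ z, φ (ψ z) = φ (Points.ofPt a u) := fun z => by
    have key : ∀ v : U.left, φ (Points.ofPt a v) = Points.ofPt b (h.left v) := fun v => by
      change Points.map f.hom (Points.ofPt a v) = _
      rw [Points.map_ofPt, w, ← Points.map_ofPt ((yon S).map h) b v,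
        ← Points.ofScheme_toScheme V (Points.ofPt ((yon S).map h) v), Points.toScheme_ofPt,
        ← Points.ofPt_eq_map_ofScheme]
    rw [key, key, Groth.L07.Equidim.apply_fiberι]
  refine Groth.L19.DimTrdeg.add_le_of_forall r ?_ fun m hm => ?_
  · rw [krullDim_dual_points]
    have : Nonempty (Points Y.obj)ᵒᵈ := ⟨OrderDual.toDual (φ (Points.ofPt a u))⟩
    exact fun e => by simpa [e] using Order.krullDim_nonneg (α := (Points Y.obj)ᵒᵈ)
  rw [krullDim_dual_points] at hm ⊢
  obtain ⟨p, hpl⟩ := Order.le_krullDim_iff.1 hm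
  obtain ⟨p', hp', hph⟩ : ∃ p' : LTSeries (Points Y.obj)ᵒᵈ, m ≤ p'.length ∧
      p'.head = OrderDual.toDual (φ (Points.ofPt a u)) := by
    by_cases h : p.head = OrderDual.toDual (φ (Points.ofPt a u))
    · exact ⟨p, hpl.ge, h⟩
    · refine ⟨RelSeries.cons p (OrderDual.toDual (φ (Points.ofPt a u))) (lt_of_le_of_ne ?_ (Ne.symm h)), ?_, by simp⟩
      · exact hη _
      · simp [hpl]
  obtain ⟨q, hq0, hq1, -⟩ := lift_series φ hc p' s.last (by
    rw [hph, hsz]
    exact hψη z₀)
  refine le_trans ?_ (Order.LTSeries.length_le_krullDim (RelSeries.smash s q hq0.symm))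
  have : m + r ≤ (RelSeries.smash s q hq0.symm).length := by
    simp [hq1, hsl]; omega
  exact WithBot.coe_le_coe.2 (ENat.coe_le_coe.2 this)

end Lower

/-- Let f : X ⟶ Y be a proper dominant morphism between integral algebraic spaces over a scheme S, with
Y locally Noetherian, and let r be the transcendence degree of the generic point of X over the
generic point of Y. Then dim X = dim Y + r. -/
theorem result {S : Scheme.{u}} {X Y : AlgSp.Space S} (f : X ⟶ Y)
    (hY : AlgSp.IsLocNoethSp Y.obj) (hXi : AlgSp.IsIntegralSp X.obj) (hYi : AlgSp.IsIntegralSp Y.obj)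
    (hd : AlgSp.IsDominantMor f.hom) (hp : AlgSp.IsProperMor f.hom)
    (x : AlgSp.Points X.obj) (hx : IsGenericPoint x (Set.univ : Set (AlgSp.Points X.obj))) (r : ℕ)
    (hr : AlgSp.HasAtMor (fun _ _ h u => Dual3.resTrdeg h u = (r : Cardinal.{u})) f.hom x) :
    AlgSp.dim X.obj = AlgSp.dim Y.obj + ((r : ℕ∞) : WithBot ℕ∞) := by
  exact le_antisymm (Groth.Agent.S10459.result f hY hXi hYi hd hp.2.1.1 x hx r hr)
    (dim_ge f hXi hYi hd hp x hx r hr)

end Groth.Agent.S10460
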