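import Groth.Statements.S10461
import Groth.Agent.L23.FieldDescent

set_option autoImplicit false
set_option backward.isDefEq.respectTransparency.types false
set_option linter.style.haveILetI false
universe u
open CategoryTheory CategoryTheory.Limits AlgebraicGeometry Topology TopologicalSpace
open AlgSp

namespace Groth.Agent.S10461

/-- Let k be a field, X an algebraic space over k and k'/k a purely inseparable field extension. If
X_{k'} is a scheme, then X is a scheme. -/
theorem result (k : Type u) [Field k] (X : AlgSp.Space (Spec (CommRingCat.of k)))
    (k' : Type u) [Field k'] [Algebra k k'] [IsPurelyInseparable k k']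
    (h : (X.obj ⨯ (AlgSp.yon (Spec (CommRingCat.of k))).obj (Over.mk (Spec.map (CommRingCat.ofHom (algebraMap k k'))))).obj.IsRepresentable) : X.obj.obj.IsRepresentable := by
  exact Groth.L23.FieldDesc.isRepresentable_of_purelyInseparable X h


end Groth.Agent.S10461
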