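import Groth.Statements.S10464
import Groth.Agent.L23.PurelyTranscendental

set_option autoImplicit false
set_option backward.isDefEq.respectTransparency.types false
set_option linter.style.haveILetI false
universe u
open CategoryTheory CategoryTheory.Limits AlgebraicGeometry Topology TopologicalSpace
open AlgSp

namespace Groth.Agent.S10464

/-- Let k be a field and X a quasi-separated algebraic space over k. If X_K is a scheme for a purely
transcendental extension K of k (here K is the fraction field of a polynomial ring over k in any set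
of variables; every purely transcendental extension is k-isomorphic to one of these), then X is a
scheme. -/
theorem result (k : Type u) [Field k] (X : AlgSp.Space (Spec (CommRingCat.of k)))
    (hqs : AlgSp.IsQuasiSeparatedSp X.obj) (ι : Type u)
    (h : (X.obj ⨯ (AlgSp.yon (Spec (CommRingCat.of k))).obj (Over.mk (Spec.map (CommRingCat.ofHom (algebraMap k (FractionRing (MvPolynomial ι k))))))).obj.IsRepresentable) :
    X.obj.obj.IsRepresentable := by
  classical
  let K := FractionRing (MvPolynomial ι k)
  have hall : ∀ x : Points X.obj, Groth.L23.SL.SchemePt x := by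
    intro x
    obtain ⟨W, j, hj, hWqc, hWqs, w, hw⟩ := Groth.L23.FieldLim.exists_qcqs_nhd X hqs x
    have sq : IsPullback (Limits.prod.fst : W.obj ⨯ Groth.L23.GConn.ext (k := k) K ⟶ _)
        (prod.map j.hom (𝟙 _)) j.hom (Limits.prod.fst : X.obj ⨯ Groth.L23.GConn.ext (k := k) K ⟶ _) := by
      refine IsPullback.mk' (by rw [prod.map_fst]) (fun _ l l' h1 h2 => prod.hom_ext h1 ?_) fun T a b e => ?_
      · simpa using congrArg (· ≫ prod.snd) h2
      · exact ⟨prod.lift a (b ≫ prod.snd), prod.lift_fst _ _,
          prod.hom_ext (by rw [Category.assoc, prod.map_fst, prod.lift_fst_assoc, e])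
            (by rw [Category.assoc, prod.map_snd, Category.comp_id, prod.lift_snd])⟩
    have hWK : (W.obj ⨯ Groth.L23.GConn.ext (k := k) K).obj.IsRepresentable :=
      Groth.L23.FieldLim.isRepresentable_of_representable (Groth.L23.repWith_of_isPullback sq hj).1 h
    obtain ⟨s, hs⟩ := Groth.L23.FieldLim.exists_fg_isRepresentable W hWqc hWqs hWK
    obtain ⟨f, hf, ⟨ψ⟩⟩ := Groth.L23.PureTr.exists_hom_away s
    subst hw
    exact (Groth.L23.PureTr.schemePt_of_away hf W
      (Groth.L23.FieldLim.isRepresentable_prod_of_hom W.obj (Groth.L23.GConn.specMor ψ) hs) w).map hj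
  obtain ⟨X', j, hj, hrep, hjr⟩ := Groth.L23.SL.exists_locus X.property
  have := Groth.L23.isIso_of_openImmersion_surjective hj fun x => hjr.ge (hall x)
  obtain ⟨T', ⟨e'⟩⟩ := Groth.L23.isRepresentable_iff_exists_iso.1 hrep
  exact Groth.L23.isRepresentable_iff_exists_iso.2 ⟨T', ⟨e' ≪≫ asIso j⟩⟩


end Groth.Agent.S10464
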