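import Groth.Statements.S10465
import Groth.Agent.L23.GeomConn

set_option autoImplicit false
set_option backward.isDefEq.respectTransparency.types false
set_option linter.style.haveILetI false
universe u
open CategoryTheory CategoryTheory.Limits AlgebraicGeometry Topology TopologicalSpace
open AlgSp

namespace Groth.Agent.S10465

/-- For a field extension k'/k and an algebraic space X over k, geometric connectedness of X over k is
equivalent to geometric connectedness of its base change X_{k'} over k' (the base changes of X_{k'}
to extensions K of k' being the base changes X_K of X, geometric connectedness of X_{k'} over k'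
reads: |X_K| is connected for every field K over k'). -/
theorem result (k : Type u) [Field k] (X : AlgSp.Space (Spec (CommRingCat.of k))) (k' : Type u) [Field k'] [Algebra k k'] :
    (∀ (K : Type u) [Field K] [Algebra k K], ConnectedSpace (AlgSp.Points (X.obj ⨯ (AlgSp.yon (Spec (CommRingCat.of k))).obj (Over.mk (Spec.map (CommRingCat.ofHom (algebraMap k K))))))) ↔
      ∀ (K : Type u) [Field K] [Algebra k K] [Algebra k' K] [IsScalarTower k k' K],
        ConnectedSpace (AlgSp.Points (X.obj ⨯ (AlgSp.yon (Spec (CommRingCat.of k))).obj (Over.mk (Spec.map (CommRingCat.ofHom (algebraMap k K)))))) := by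
  exact Groth.L23.GConn.conn_iff_ext X.obj k'

end Groth.Agent.S10465
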