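import Groth.Prelude.Def_AlgSp2
import Groth.Prelude.Def_FDesc
import Mathlib.Algebra.CharP.Defs
import Mathlib.FieldTheory.PurelyInseparable.Basic
import Groth.Agent.L02.SpRed.OverField2

set_option autoImplicit false
namespace AlgSp
end AlgSp
universe u
open CategoryTheory CategoryTheory.Limits AlgebraicGeometry Topology TopologicalSpace
open AlgSp

namespace Groth.Agent.S10478

/-- (3) ⇒ (2): let k be a field of characteristic p > 0 and X an algebraic space over k. If X_{k'} is
reduced whenever k' is a finite purely inseparable extension of k, then X_K is reduced for every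
field extension K of k. -/
theorem result (k : Type u) [Field k] (p : ℕ) [Fact p.Prime]
    [CharP k p] (X : AlgSp.Space (Spec (CommRingCat.of k)))
    (h : ∀ (k' : Type u) [Field k'] [Algebra k k'], Module.Finite k k' → IsPurelyInseparable k k' →
      AlgSp.EtaleLocally (fun U => IsReduced U) (X.obj ⨯ (AlgSp.yon (Spec (CommRingCat.of k))).obj (Over.mk (Spec.map (CommRingCat.ofHom (algebraMap k k'))))))
    (K : Type u) [Field K] [Algebra k K] : AlgSp.EtaleLocally (fun U => IsReduced U) (X.obj ⨯ (AlgSp.yon (Spec (CommRingCat.of k))).obj (Over.mk (Spec.map (CommRingCat.ofHom (algebraMap k K))))) := by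
  refine (L02.SpRed.forall_gRAt_iff_reduced X.property).1 (fun x => ?_) K
  obtain ⟨U, a, ha, has⟩ := X.property.atlas
  obtain ⟨u, rfl⟩ := Groth.L23.surjective_ofPt has x
  exact (L02.SpRed.gRAt_iff ha u).2 (L02.SpRed.isGeomReducedAt_of_finite_pi U.hom
    (fun k' _ _ h₁ h₂ => L02.SpRed.isReduced_bc_chart X.property ha has k' (h k' h₁ h₂)) u)

end Groth.Agent.S10478
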