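import Groth.Prelude.Def_AlgSp2
import Groth.Prelude.Def_FDesc
import Groth.Agent.L02.SpRed.OverField

set_option autoImplicit false
namespace AlgSp
end AlgSp
universe u
open CategoryTheory CategoryTheory.Limits AlgebraicGeometry Topology TopologicalSpace
open AlgSp

namespace Groth.Agent.S10479

/-- Let k be a field, X an algebraic space over k, K/k a field extension, x a point of X and x' a point
of X_K lying over x. Then X is geometrically reduced at x (over k) if and only if X_K is
geometrically reduced at x' (over K). -/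
theorem result (k : Type u) [Field k] (X : AlgSp.Space (Spec (CommRingCat.of k))) (K : Type u) [Field K] [Algebra k K]
    (x : AlgSp.Points X.obj) (x' : AlgSp.Points (X.obj ⨯ (AlgSp.yon (Spec (CommRingCat.of k))).obj (Over.mk (Spec.map (CommRingCat.ofHom (algebraMap k K))))))
    (hx' : AlgSp.Points.map (Limits.prod.fst : (X.obj ⨯ (AlgSp.yon (Spec (CommRingCat.of k))).obj (Over.mk (Spec.map (CommRingCat.ofHom (algebraMap k K))))) ⟶ X.obj) x' = x) :
    (∃ (U : Over (Spec (CommRingCat.of k))) (a : (AlgSp.yon (Spec (CommRingCat.of k))).obj U ⟶ X.obj) (u : ↥U.left),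
      AlgSp.RepWith @Etale a ∧ AlgSp.Points.ofPt a u = x ∧ FBase.IsGeomReducedAt U.hom u) ↔
      ∃ (U' : Over (Spec (CommRingCat.of k))) (a' : (AlgSp.yon (Spec (CommRingCat.of k))).obj U' ⟶ (X.obj ⨯ (AlgSp.yon (Spec (CommRingCat.of k))).obj (Over.mk (Spec.map (CommRingCat.ofHom (algebraMap k K))))))
        (q : U' ⟶ Over.mk (Spec.map (CommRingCat.ofHom (algebraMap k K)))) (u' : ↥U'.left),
        AlgSp.RepWith @Etale a' ∧ a' ≫ Limits.prod.snd = (AlgSp.yon (Spec (CommRingCat.of k))).map q ∧
          AlgSp.Points.ofPt a' u' = x' ∧ FBase.IsGeomReducedAt q.left u' := by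
  exact L02.SpRed.gRAt_bc_iff K X.property x x' hx'

end Groth.Agent.S10479
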