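import Groth.Statements.S1048
import Groth.Agent.L17.DerQC.AffDiagEquiv
import Groth.Agent.L17.DerQC.AffDiag

set_option autoImplicit false
universe u
open CategoryTheory CategoryTheory.Limits AlgebraicGeometry
attribute [local instance] HasDerivedCategory.standard
open Perf

namespace Groth.Agent.S1048

/-- Let the scheme X be quasi-compact with affine diagonal (intersections of affine opens are affine).
Granting that quasi-coherent modules contain zero and are closed under kernels, cokernels and finite
products in all O_X-modules, with exact inclusion (true facts, carried as instance hypotheses; they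
make QCoh(O_X) an abelian category), the induced functor D(QCoh(O_X)) ⥤ D(O_X) is full and faithful,
and an object of D(O_X) lies in its essential image if and only if its cohomology sheaves are
quasi-coherent. -/
theorem result (X : Scheme.{u}) [CompactSpace ↥X]
    (hdiag : ∀ U V : X.Opens, IsAffineOpen U → IsAffineOpen V → IsAffineOpen (U ⊓ V))
    [ObjectProperty.ContainsZero (fun M : X.Modules => Coh.IsQCoh M)] [ObjectProperty.IsClosedUnderKernels (fun M : X.Modules => Coh.IsQCoh M)]
    [ObjectProperty.IsClosedUnderCokernels (fun M : X.Modules => Coh.IsQCoh M)] [ObjectProperty.IsClosedUnderFiniteProducts (fun M : X.Modules => Coh.IsQCoh M)]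
    [PreservesFiniteLimits (ObjectProperty.ι (fun M : X.Modules => Coh.IsQCoh M))] [PreservesFiniteColimits (ObjectProperty.ι (fun M : X.Modules => Coh.IsQCoh M))] :
    (ObjectProperty.ι (fun M : X.Modules => Coh.IsQCoh M)).mapDerivedCategory.Full ∧ (ObjectProperty.ι (fun M : X.Modules => Coh.IsQCoh M)).mapDerivedCategory.Faithful ∧
    ∀ K : DCoh.D X, DCoh.IsQCohD K ↔ ∃ M, Nonempty ((ObjectProperty.ι (fun M : X.Modules => Coh.IsQCoh M)).mapDerivedCategory.obj M ≅ K) := by
  haveI : QuasiSeparatedSpace X :=
    quasiSeparatedSpace_iff_forall_affineOpens.2 fun V W => (hdiag V.1 W.1 V.2 W.2).isCompact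
  exact Groth.L17.DerQC.affine_diagonal (X := X) fun U hU => by
    haveI : IsAffine U := hU
    exact Groth.L17.DerQC.isAffineHom_of_isAffine hdiag U.ι

end Groth.Agent.S1048
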