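import Groth.Prelude.Def_AlgSp2
import Groth.Prelude.Def_FDesc
import Groth.Prelude.Def_AlgSp4
import Groth.Agent.L02.SpRed.OverField

set_option autoImplicit false
namespace AlgSp
end AlgSp
universe u
open CategoryTheory CategoryTheory.Limits AlgebraicGeometry Topology TopologicalSpace
open AlgSp

namespace Groth.Agent.S10480

/-- Let k be a field and f : X ⟶ Y a surjective etale morphism of algebraic spaces over k. Then X is
geometrically reduced over k if and only if Y is geometrically reduced over k. -/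
theorem result (k : Type u) [Field k] {X Y : AlgSp.Space (Spec (CommRingCat.of k))} (f : X ⟶ Y)
    (he : AlgSp.IsEtaleMor f.hom) (hs : AlgSp.IsSurjectiveMor f.hom) :
    (∀ x : AlgSp.Points X.obj, (∃ (U : Over (Spec (CommRingCat.of k))) (a : (AlgSp.yon (Spec (CommRingCat.of k))).obj U ⟶ X.obj) (u : ↥U.left),
      AlgSp.RepWith @Etale a ∧ AlgSp.Points.ofPt a u = x ∧ FBase.IsGeomReducedAt U.hom u)) ↔
      ∀ y : AlgSp.Points Y.obj, (∃ (U : Over (Spec (CommRingCat.of k))) (a : (AlgSp.yon (Spec (CommRingCat.of k))).obj U ⟶ Y.obj) (u : ↥U.left),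
      AlgSp.RepWith @Etale a ∧ AlgSp.Points.ofPt a u = y ∧ FBase.IsGeomReducedAt U.hom u) := by
  constructor
  · intro H y
    obtain ⟨x, rfl⟩ := hs y
    exact (L02.SpRed.gRAt_map_iff X.property he x).1 (H x)
  · intro H x
    exact (L02.SpRed.gRAt_map_iff X.property he x).2 (H _)

end Groth.Agent.S10480
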