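import Groth.Prelude.Def_AlgSp2
import Groth.Prelude.Def_FDesc
import Groth.Prelude.Def_AlgSpDec
import Groth.Agent.L02.SpRed.OverField

set_option autoImplicit false
namespace AlgSp
end AlgSp
universe u
open CategoryTheory CategoryTheory.Limits AlgebraicGeometry Topology TopologicalSpace
open AlgSp

namespace Groth.Agent.S10481

/-- Let k be a field, f : X ⟶ Y a morphism of algebraic spaces over k and x a point of X at which f is
etale. Then X is geometrically reduced at x if and only if Y is geometrically reduced at the image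
of x. -/
theorem result (k : Type u) [Field k] {X Y : AlgSp.Space (Spec (CommRingCat.of k))} (f : X ⟶ Y)
    (x : AlgSp.Points X.obj)
    (he : AlgSp.HasAtMor (fun U _ h u => ∃ W : U.Opens, u ∈ W ∧ Etale (W.ι ≫ h)) f.hom x) :
    (∃ (U : Over (Spec (CommRingCat.of k))) (a : (AlgSp.yon (Spec (CommRingCat.of k))).obj U ⟶ X.obj) (u : ↥U.left),
      AlgSp.RepWith @Etale a ∧ AlgSp.Points.ofPt a u = x ∧ FBase.IsGeomReducedAt U.hom u) ↔ (∃ (U : Over (Spec (CommRingCat.of k))) (a : (AlgSp.yon (Spec (CommRingCat.of k))).obj U ⟶ Y.obj) (u : ↥U.left),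
      AlgSp.RepWith @Etale a ∧ AlgSp.Points.ofPt a u = (AlgSp.Points.map f.hom x) ∧ FBase.IsGeomReducedAt U.hom u) := by
  exact L02.SpRed.gRAt_hasAtMor he

end Groth.Agent.S10481
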