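import Groth.Prelude.Def_AlgSp2
import Groth.Prelude.Def_AlgSp3
import Mathlib.RingTheory.RegularLocalRing.Defs
import Mathlib.AlgebraicGeometry.Morphisms.Smooth
import Groth.Agent.L02.SpRed.OverField2
import Groth.Agent.L07.SyntKoszul

set_option autoImplicit false
namespace AlgSp
end AlgSp
universe u
open CategoryTheory CategoryTheory.Limits AlgebraicGeometry Topology TopologicalSpace
open AlgSp

namespace Groth.Agent.S10489

/-- Let k be a field and X an algebraic space which is smooth over k. Then X is regular as an algebraic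
space. -/
theorem result (k : Type u) [Field k] (X : AlgSp.Space (Spec (CommRingCat.of k))) (p : X.obj ⟶ (AlgSp.yon (Spec (CommRingCat.of k))).obj (Over.mk (𝟙 _))) (hp : AlgSp.LocP @Smooth p) :
    AlgSp.EtaleLocally (fun U => IsLocallyNoetherian U ∧ ∀ u : ↥U, IsRegularLocalRing ↥(U.presheaf.stalk u)) X.obj := by
  obtain ⟨U, a, ha, has⟩ := X.property.atlas
  obtain ⟨h, hh⟩ := (AlgSp.yon _).map_surjective (a ≫ p)
  haveI hs : Smooth h.left := hp a (𝟙 _) h ha (Groth.L23.repWith_of_isIso _) (by rw [Category.comp_id, hh])
  have he : h.left = U.hom := (Category.comp_id _).symm.trans (Over.w h)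
  haveI : Smooth U.hom := by rw [← he]; exact hs
  haveI : IsLocallyNoetherian U.left := LocallyOfFiniteType.isLocallyNoetherian U.hom
  refine ⟨U, a, ha, has, inferInstance, fun u => ?_⟩
  exact Groth.L07.SyntKoszul.isRegularLocalRing_of_smooth U.hom u

end Groth.Agent.S10489
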