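import Groth.Statements.S10490
import Groth.Agent.L23.Basic
import Groth.Agent.L23.QFPoints
import Groth.Agent.L21.Smooth.SepPoints

set_option autoImplicit false
set_option backward.isDefEq.respectTransparency.types false
set_option linter.style.haveILetI false
universe u
open CategoryTheory CategoryTheory.Limits AlgebraicGeometry Topology TopologicalSpace
open AlgSp

namespace Groth.Agent.S10490

/-- Let k be a field and X an algebraic space smooth over k. Then the points of X which are images of
morphisms Spec k' ⟶ X over k with k' a finite separable extension of k form a dense subset of |X|. -/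
theorem result (k : Type u) [Field k] (X : AlgSp.Space (Spec (CommRingCat.of k))) (p : X.obj ⟶ (AlgSp.yon (Spec (CommRingCat.of k))).obj (Over.mk (𝟙 _))) (hp : AlgSp.LocP @Smooth p) :
    Dense {x : AlgSp.Points X.obj | ∃ (k' : Type u) (_ : Field k') (_ : Algebra k k'),
      Module.Finite k k' ∧ Algebra.IsSeparable k k' ∧
        ∃ v : X.obj.obj.obj (Opposite.op (Over.mk (Spec.map (CommRingCat.ofHom (algebraMap k k'))))),
          AlgSp.Points.mk ⟨k', Spec.map (CommRingCat.ofHom (algebraMap k k')), v⟩ = x} := by
  classical
  obtain ⟨U, a, ha, has⟩ := X.property.atlas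
  obtain ⟨h, hh⟩ := (AlgSp.yon (Spec (CommRingCat.of k))).map_surjective (a ≫ p)
  let φ : U.left ⟶ Spec (CommRingCat.of k) := h.left
  haveI hsm : Smooth φ := hp a (𝟙 _) h ha (Groth.L23.repWith_of_isIso _) (by rw [hh, Category.comp_id])
  letI : U.left.Over (Spec (CommRingCat.of k)) := ⟨φ⟩
  haveI : Smooth (U.left ↘ Spec (CommRingCat.of k)) := hsm
  letI := fun z : U.left => Curv2.resAlgebra k U.left z
  have hd := Groth.L21.SepPoints.dense_separable_points (k := k) U.left
  have hc : Continuous (fun u : U.left => AlgSp.Points.ofPt a u) :=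
    (AlgSp.Points.continuous_map a).comp (AlgSp.Points.schemeHomeo U).continuous
  refine ((Groth.L23.surjective_ofPt has).denseRange.dense_image hc hd).mono ?_
  rintro _ ⟨u, ⟨-, hfin, hsep⟩, rfl⟩
  have hstr : Spec.map (CommRingCat.ofHom (algebraMap k (U.left.residueField u))) =
      U.left.fromSpecResidueField u ≫ U.hom := by
    show Spec.map (CommRingCat.ofHom (Curv2.resMap k U.left u)) = _
    rw [Groth.L22.FibreDim.SpecMap_resMap]
    congr 1
    exact (Category.comp_id _).symm.trans (Over.w h)
  let e : (Over.mk (Spec.map (CommRingCat.ofHom (algebraMap k (U.left.residueField u)))) : Over (Spec (CommRingCat.of k))) ⟶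
      Over.mk (U.left.fromSpecResidueField u ≫ U.hom) := Over.homMk (𝟙 _) ((Category.id_comp _).trans hstr.symm)
  refine ⟨U.left.residueField u, inferInstance, inferInstance, hfin, hsep,
    X.obj.obj.map e.op (AlgSp.FieldPt.ofPt a u).val, AlgSp.Points.sound ?_⟩
  exact ⟨U.left.residueField u, inferInstance, _, 𝟙 _, e, by rw [op_id, CategoryTheory.Functor.map_id]; rfl⟩

end Groth.Agent.S10490
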