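import Groth.Statements.S10491
import Groth.Agent.L23.QsTop2
import Groth.Agent.L23.Decent3

set_option autoImplicit false
set_option backward.isDefEq.respectTransparency.types false
universe u
open CategoryTheory CategoryTheory.Limits AlgebraicGeometry Topology TopologicalSpace
open AlgSp

namespace Groth.Agent.S10491

/-- Let X be an algebraic space over a scheme S which is locally Noetherian, and T ⊂ |X| a closed
subset. Then every point of |X| has a neighbourhood meeting only finitely many irreducible
components of T. -/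
theorem result {S : Scheme.{u}} (X : AlgSp.Space S)
    (hX : AlgSp.IsLocNoethSp X.obj) (T : Set (AlgSp.Points X.obj)) (hT : IsClosed T) :
    LocallyFinite (fun Z : ↥(irreducibleComponents ↥T) => ((↑) : ↥T → AlgSp.Points X.obj) '' (Z : Set ↥T)) := by
  intro x
  obtain ⟨W, a, hW, ha, w, hw⟩ := Groth.L23.exists_affine_etale_nhd X.property x
  have := hW
  have := Groth.L23.Pt.isLocallyNoetherian_of_chart X.property hX ha
  have := Groth.L23.Qs.noetherianSpace_range a
  let O : Set (AlgSp.Points X.obj) := Set.range (AlgSp.Points.ofPt a)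
  have hO : IsOpen O := (Groth.L23.isOpenMap_ofPt ha).isOpen_range
  refine ⟨O, hO.mem_nhds ⟨w, hw⟩, ?_⟩
  let j : {t : ↥T // (t : AlgSp.Points X.obj) ∈ O} → ↥T := Subtype.val
  have hj : Topology.IsOpenEmbedding j :=
    (hO.preimage continuous_subtype_val).isOpenEmbedding_subtypeVal
  have : TopologicalSpace.NoetherianSpace {t : ↥T // (t : AlgSp.Points X.obj) ∈ O} :=
    (Topology.IsEmbedding.isInducing
      (show Topology.IsEmbedding (fun t : {t : ↥T // (t : AlgSp.Points X.obj) ∈ O} => (⟨t.1.1, t.2⟩ : ↥O)) from
        Topology.IsEmbedding.of_comp (by fun_prop) continuous_subtype_val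
          (show Topology.IsEmbedding ((Subtype.val : ↥T → AlgSp.Points X.obj) ∘
              (Subtype.val : {t : ↥T // (t : AlgSp.Points X.obj) ∈ O} → ↥T)) from
            Topology.IsEmbedding.subtypeVal.comp Topology.IsEmbedding.subtypeVal))).noetherianSpace
  have hfin := TopologicalSpace.NoetherianSpace.finite_irreducibleComponents
    (α := {t : ↥T // (t : AlgSp.Points X.obj) ∈ O})
  refine (hfin.preimage (f := fun Z : ↥(irreducibleComponents ↥T) => j ⁻¹' Z.1) ?_).subset ?_
  · intro Z hZ Z' hZ' e
    refine Subtype.ext ?_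
    have hne : ∀ V : ↥(irreducibleComponents ↥T), j ⁻¹' V.1 ∈ irreducibleComponents _ → (j ⁻¹' V.1).Nonempty :=
      fun V hV => hV.1.1
    rw [← closure_image_preimage_of_isPreirreducible j hj.isOpenMap Z.1 (hne Z hZ) Z.2.1.2
        (isClosed_of_mem_irreducibleComponents _ Z.2),
      ← closure_image_preimage_of_isPreirreducible j hj.isOpenMap Z'.1 (hne Z' hZ') Z'.2.1.2
        (isClosed_of_mem_irreducibleComponents _ Z'.2)]
    exact congrArg (fun s => closure (j '' s)) e
  · rintro Z ⟨_, ⟨t, ht, rfl⟩, htO⟩
    exact preimage_mem_irreducibleComponents Z.2 hj ⟨t, ht, ⟨t, htO⟩, rfl⟩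

end Groth.Agent.S10491
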