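import Groth.Statements.S10493
import Groth.Agent.L23.PurelyTranscendental
import Groth.Agent.L23.Jacobson
import Mathlib.RingTheory.Artinian.Module
import Mathlib.RingTheory.TensorProduct.Finite

set_option autoImplicit false
set_option backward.isDefEq.respectTransparency.types false
set_option linter.style.haveILetI false
universe u
open CategoryTheory CategoryTheory.Limits AlgebraicGeometry Topology TopologicalSpace
open AlgSp TensorProduct Topology

namespace Groth.Agent.S10493


theorem finite_spectrum {k A kbar : Type u} [Field k] [CommRing A] [Algebra k A] [Module.Finite k A] [Field kbar]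
    [Algebra k kbar] : Finite (PrimeSpectrum (A ⊗[k] kbar)) := by
  letI : Algebra kbar (A ⊗[k] kbar) := Algebra.TensorProduct.rightAlgebra
  haveI : Module.Finite kbar (A ⊗[k] kbar) := Module.Finite.equiv (Algebra.TensorProduct.commRight k kbar A).toLinearEquiv
  haveI : IsArtinianRing (A ⊗[k] kbar) := IsArtinianRing.of_finite kbar _
  infer_instance

theorem exists_section {k A kbar : Type u} [Field k] [CommRing A] [Algebra k A] [Module.Finite k A] [Field kbar]
    [Algebra k kbar] [IsAlgClosed kbar] (w : PrimeSpectrum (A ⊗[k] kbar)) :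
    ∃ χ : A ⊗[k] kbar →ₐ[k] kbar, χ.comp Algebra.TensorProduct.includeRight = AlgHom.id k kbar ∧
      RingHom.ker χ = w.asIdeal := by
  letI : Algebra kbar (A ⊗[k] kbar) := Algebra.TensorProduct.rightAlgebra
  haveI : Module.Finite kbar (A ⊗[k] kbar) := Module.Finite.equiv (Algebra.TensorProduct.commRight k kbar A).toLinearEquiv
  haveI : IsArtinianRing (A ⊗[k] kbar) := IsArtinianRing.of_finite kbar _
  haveI : w.asIdeal.IsMaximal := IsArtinianRing.isMaximal_of_isPrime w.asIdeal
  letI := Ideal.Quotient.field w.asIdeal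
  let f : A ⊗[k] kbar →+* (A ⊗[k] kbar) ⧸ w.asIdeal := Ideal.Quotient.mk _
  have hb : Function.Bijective (f.comp (Algebra.TensorProduct.includeRight : kbar →ₐ[k] A ⊗[k] kbar).toRingHom) :=
    IsAlgClosed.ringHom_bijective_of_isIntegral _ fun x => by
      obtain ⟨y, rfl⟩ := Ideal.Quotient.mk_surjective x
      exact ((Algebra.IsIntegral.isIntegral (R := kbar) y).map (Ideal.Quotient.mkₐ kbar w.asIdeal))
  let e : kbar ≃ₐ[k] (A ⊗[k] kbar) ⧸ w.asIdeal :=
    AlgEquiv.ofBijective ((Ideal.Quotient.mkₐ k w.asIdeal).comp Algebra.TensorProduct.includeRight) hb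
  refine ⟨e.symm.toAlgHom.comp (Ideal.Quotient.mkₐ k w.asIdeal), AlgHom.ext fun x => e.symm_apply_apply x, ?_⟩
  ext y
  rw [RingHom.mem_ker, ← Ideal.Quotient.eq_zero_iff_mem]
  exact map_eq_zero_iff _ e.symm.injective

theorem exists_finite_residue {k : Type u} [Field k] {U : Scheme.{u}} (g : U ⟶ Spec (CommRingCat.of k))
    [LocallyOfFiniteType g] {u : U} (hu : IsClosed ({u} : Set U)) :
    ∃ φ : CommRingCat.of k ⟶ U.residueField u, Spec.map φ = U.fromSpecResidueField u ≫ g ∧ φ.hom.Finite := by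
  haveI := isClosed_singleton_iff_isClosedImmersion.mp hu
  obtain ⟨φ, hφ⟩ := Spec.map_surjective (U.fromSpecResidueField u ≫ g)
  refine ⟨φ, hφ, ?_⟩
  have h : LocallyOfFiniteType (Spec.map φ) := by rw [hφ]; infer_instance
  have hft := (HasRingHomProperty.Spec_iff (P := @LocallyOfFiniteType)).1 h
  letI := φ.hom.toAlgebra
  haveI : Algebra.FiniteType k (U.residueField u) := hft
  exact finite_of_finite_type_of_isJacobsonRing k (U.residueField u)

open Groth.L23.GConn in
theorem schemePt_closed {k : Type u} [Field k] (X : AlgSp.Space (Spec (CommRingCat.of k)))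
    (kbar : Type u) [Field kbar] [Algebra k kbar] [IsAlgClosure k kbar]
    {U : Over (Spec (CommRingCat.of k))} {a : (yon _).obj U ⟶ X.obj} (u : U.left) (hu : IsClosed ({u} : Set U.left))
    [LocallyOfFiniteType U.hom]
    {T : Over (Spec (CommRingCat.of k))} (e : (yon _).obj T ≅ X.obj ⨯ ext (k := k) kbar)
    (q : T ⟶ Over.mk (Spec.map (CommRingCat.ofHom (algebraMap k kbar))))
    (hq : (yon _).map q = e.hom ≫ Limits.prod.snd)
    (h3 : ∀ s : Finset ↥T.left,
      (∀ t ∈ s, ∃ σ : Spec (CommRingCat.of kbar) ⟶ T.left, σ ≫ q.left = 𝟙 _ ∧ σ (IsLocalRing.closedPoint kbar) = t) →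
        ∃ W : T.left.Opens, IsAffineOpen W ∧ ∀ t ∈ s, t ∈ W) :
    Groth.L23.SL.SchemePt (Points.ofPt a u) := by
  classical
  haveI : IsAlgClosed kbar := IsAlgClosure.isAlgClosed k
  haveI : Algebra.IsAlgebraic k kbar := IsAlgClosure.isAlgebraic
  obtain ⟨φ, hφ, hfin⟩ := exists_finite_residue U.hom hu
  letI : Algebra k (U.left.residueField u) := φ.hom.toAlgebra
  haveI : Module.Finite k (U.left.residueField u) := hfin
  let κ : Type u := U.left.residueField u
  let ι : specA (k := k) κ ⟶ U := Over.homMk (U.left.fromSpecResidueField u) hφ.symm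
  let aL : (yon _).obj (specA (k := k) κ) ⟶ X.obj := (yon _).map ι ≫ a
  have haL : ∀ r, Points.map aL r = Points.ofPt a u := by
    intro r
    obtain ⟨z, rfl⟩ := (Points.schemeHomeo _).surjective r
    show Points.map aL (Points.ofScheme _ z) = _
    rw [← Points.ofPt_eq_map_ofScheme, Groth.L23.ofPt_comp]
    congr 1
    exact Set.mem_singleton_iff.1 (U.left.range_fromSpecResidueField u ▸ Set.mem_range_self _)
  obtain ⟨m, hm⟩ := (yon _).map_surjective (Groth.L23.PureTr.chartA aL kbar ≫ e.inv)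
  haveI := finite_spectrum (k := k) (A := κ) (kbar := kbar)
  haveI : Fintype (PrimeSpectrum (κ ⊗[k] kbar)) := Fintype.ofFinite _
  let P : PrimeSpectrum (κ ⊗[k] kbar) → T.left := fun z => m.left z
  obtain ⟨W, hW, hsW⟩ := h3 (Finset.univ.image P) (by
    intro t ht
    obtain ⟨z, -, rfl⟩ := Finset.mem_image.1 ht
    obtain ⟨χ, hχ, hker⟩ := exists_section (k := k) (A := κ) z
    refine ⟨Spec.map (CommRingCat.ofHom χ.toRingHom) ≫ m.left, ?_, ?_⟩
    · have h1 : (m ≫ q) = specMor Algebra.TensorProduct.includeRight := (yon _).map_injective (by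
        rw [Functor.map_comp, hm, hq, Category.assoc, e.inv_hom_id_assoc, Groth.L23.PureTr.chartA, prod.lift_snd])
      rw [Category.assoc]
      refine (congrArg (fun s => Spec.map (CommRingCat.ofHom χ.toRingHom) ≫ s)
        (congrArg (fun s => Over.Hom.left s) h1)).trans ?_
      show Spec.map _ ≫ Spec.map _ = 𝟙 _
      rw [← Spec.map_comp, ← CommRingCat.ofHom_comp, ← Spec.map_id]
      exact congrArg (fun r => Spec.map (CommRingCat.ofHom r)) (congrArg AlgHom.toRingHom hχ)
    · show m.left _ = m.left z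
      congr 1
      refine PrimeSpectrum.ext ?_
      show Ideal.comap χ.toRingHom (IsLocalRing.closedPoint kbar).asIdeal = z.asIdeal
      rw [← hker]
      ext y
      rw [Ideal.mem_comap, RingHom.mem_ker]
      show χ y ∈ IsLocalRing.maximalIdeal kbar ↔ _
      rw [IsLocalRing.maximalIdeal_eq_bot (R := kbar), Ideal.mem_bot])
  let U' : Over (Spec (CommRingCat.of k)) := Over.mk (W.ι ≫ T.hom)
  haveI : IsAffine U'.left := hW
  let ιW : U' ⟶ T := Over.homMk W.ι rfl
  refine Groth.L23.PureTr.schemePt_of_affine_fibre (k' := kbar) X ((yon _).map ιW ≫ e.hom)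
    (Groth.L23.repWith_comp (Groth.L23.repWith_map (show IsOpenImmersion W.ι from inferInstance))
      (Groth.L23.repWith_of_isIso _)) fun z hz => ?_
  obtain ⟨c, -, rfl⟩ := Groth.L23.exists_of_isPullback (Groth.L23.PureTr.isPullback_chartA aL kbar)
    (Points.schemeHomeo _ (⊥ : PrimeSpectrum κ)) z ((haL _).trans hz.symm)
  obtain ⟨w, rfl⟩ := (Points.schemeHomeo _).surjective c
  refine ⟨Points.schemeHomeo U' (⟨P w, hsW _ (Finset.mem_image_of_mem P (Finset.mem_univ _))⟩ : W), ?_⟩
  have h2 : Groth.L23.PureTr.chartA aL kbar = (yon _).map m ≫ e.hom := by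
    rw [hm, Category.assoc, e.inv_hom_id, Category.comp_id]
  rw [h2, Points.map_comp, Points.map_comp]
  refine congrArg (Points.map e.hom) ?_
  rw [Points.map_yon_map_eq, Points.map_yon_map_eq]
  simp only [Function.comp_apply, Homeomorph.symm_apply_apply]
  rfl

/-- Let k be a field with algebraic closure k̄ and X an algebraic space over k which is decent and
locally of finite type over k, such that X_{k̄} is a scheme in which every finite set of k̄-rational
points is contained in an affine open. Then X is a scheme. -/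
theorem result (k : Type u) [Field k] (X : AlgSp.Space (Spec (CommRingCat.of k)))
    (hdec : AlgSp.IsDecent X.obj) (p : X.obj ⟶ (AlgSp.yon (Spec (CommRingCat.of k))).obj (Over.mk (𝟙 _))) (hp : AlgSp.LocP @LocallyOfFiniteType p)
    (kbar : Type u) [Field kbar] [Algebra k kbar] [IsAlgClosure k kbar]
    (T : Over (Spec (CommRingCat.of k))) (e : (AlgSp.yon (Spec (CommRingCat.of k))).obj T ≅ (X.obj ⨯ (AlgSp.yon (Spec (CommRingCat.of k))).obj (Over.mk (Spec.map (CommRingCat.ofHom (algebraMap k kbar))))))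
    (q : T ⟶ Over.mk (Spec.map (CommRingCat.ofHom (algebraMap k kbar))))
    (hq : (AlgSp.yon (Spec (CommRingCat.of k))).map q = e.hom ≫ Limits.prod.snd)
    (h3 : ∀ s : Finset ↥T.left,
      (∀ t ∈ s, ∃ σ : Spec (CommRingCat.of kbar) ⟶ T.left, σ ≫ q.left = 𝟙 _ ∧ σ (IsLocalRing.closedPoint kbar) = t) →
        ∃ W : T.left.Opens, IsAffineOpen W ∧ ∀ t ∈ s, t ∈ W) :
    X.obj.obj.IsRepresentable := by
  let S₀ := Spec (CommRingCat.of k)
  have hid : RepWith @Etale (𝟙 ((AlgSp.yon S₀).obj (Over.mk (𝟙 S₀)))) := Groth.L23.repWith_of_isIso _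
  have hlft : ∀ (U : Over S₀) (a : (AlgSp.yon S₀).obj U ⟶ X.obj), RepWith @Etale a → LocallyOfFiniteType U.hom := by
    intro U a ha
    obtain ⟨h, hh⟩ := (AlgSp.yon S₀).map_surjective (a ≫ p)
    have hl := hp a (𝟙 _) h ha hid (by rw [Category.comp_id, hh])
    have hw : h.left ≫ (Over.mk (𝟙 S₀)).hom = U.hom := Over.w h
    rw [← hw]
    show LocallyOfFiniteType (h.left ≫ 𝟙 S₀)
    exact (Category.comp_id h.left).symm ▸ hl
  have hJ : EtaleLocally (fun U => JacobsonSpace ↥U) X.obj := by
    obtain ⟨U, a, ha, has⟩ := X.property.atlas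
    have := hlft U a ha
    exact ⟨U, a, ha, has, LocallyOfFiniteType.jacobsonSpace U.hom⟩
  haveI := (Groth.L23.Jac.jacobson_iff X.property hdec).1 hJ
  have hall : ∀ x : Points X.obj, Groth.L23.SL.SchemePt x := by
    by_contra hne
    push Not at hne
    obtain ⟨x, hx, hxc⟩ := nonempty_inter_closedPoints (Z := {x : Points X.obj | Groth.L23.SL.SchemePt x}ᶜ) hne
      Groth.L23.SL.isOpen_schemePt.isClosed_compl.isLocallyClosed
    obtain ⟨U, a, u, ha, rfl, hu⟩ := (Groth.L23.Jac.hasAt_closed_iff X.property hdec hJ x).2 hxc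
    have := hlft U a ha
    exact hx (schemePt_closed X kbar u hu e q hq h3)
  obtain ⟨X', j, hj, hrep, hjr⟩ := Groth.L23.SL.exists_locus X.property
  have := Groth.L23.isIso_of_openImmersion_surjective hj fun x => hjr.ge (hall x)
  obtain ⟨T', ⟨e'⟩⟩ := Groth.L23.isRepresentable_iff_exists_iso.1 hrep
  exact Groth.L23.isRepresentable_iff_exists_iso.2 ⟨T', ⟨e' ≪≫ asIso j⟩⟩


end Groth.Agent.S10493
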