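import Groth.Statements.S10496
import Groth.Agent.L23.IntegralSub

set_option autoImplicit false
universe u
open CategoryTheory CategoryTheory.Limits AlgebraicGeometry Topology TopologicalSpace
open AlgSp

namespace Groth.Agent.S10496

/-- Let X be a decent algebraic space over a scheme S. For every irreducible closed subset T of |X|
there is an integral closed subspace Z of X with |Z| = T. -/
theorem result {S : Scheme.{u}} (X : AlgSp.Space S)
    (hX : AlgSp.IsDecent X.obj) (T : Set (AlgSp.Points X.obj)) (hT : IsClosed T) (hTi : IsIrreducible T) :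
    ∃ (Z : AlgSp.Space S) (i : Z ⟶ X), AlgSp.RepWith @IsClosedImmersion i.hom ∧ AlgSp.IsIntegralSp Z.obj ∧
      Set.range (AlgSp.Points.map i.hom) = T := by
  obtain ⟨Z, hZ, i, hi, hint, hr⟩ := Groth.L23.exists_integral_subspace X.property hX hT hTi
  exact ⟨⟨Z, hZ⟩, ObjectProperty.homMk i, hi, hint, hr⟩

end Groth.Agent.S10496
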