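import Groth.Prelude.Def_AlgSpDec
import Groth.Prelude.Def_FDesc
import Groth.Agent.L02.SpRed.OverField2
import Groth.Agent.L23.Decent2

set_option autoImplicit false
namespace AlgSp
end AlgSp
universe u
open CategoryTheory CategoryTheory.Limits AlgebraicGeometry Topology TopologicalSpace
open AlgSp

namespace Groth.Agent.S10497

/-- Let k be a field and X a decent algebraic space over k. Then all base changes X_K to field
extensions K of k are integral exactly when X is geometrically reduced over k and every |X_K| is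
irreducible. -/
theorem result (k : Type u) [Field k] (X : AlgSp.Space (Spec (CommRingCat.of k))) (hX : AlgSp.IsDecent X.obj) :
    (∀ (K : Type u) [Field K] [Algebra k K], AlgSp.IsIntegralSp (X.obj ⨯ (AlgSp.yon (Spec (CommRingCat.of k))).obj (Over.mk (Spec.map (CommRingCat.ofHom (algebraMap k K)))))) ↔
      (∀ x : AlgSp.Points X.obj, (∃ (U : Over (Spec (CommRingCat.of k))) (a : (AlgSp.yon (Spec (CommRingCat.of k))).obj U ⟶ X.obj) (u : ↥U.left),
      AlgSp.RepWith @Etale a ∧ AlgSp.Points.ofPt a u = x ∧ FBase.IsGeomReducedAt U.hom u)) ∧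
        ∀ (K : Type u) [Field K] [Algebra k K], IrreducibleSpace (AlgSp.Points (X.obj ⨯ (AlgSp.yon (Spec (CommRingCat.of k))).obj (Over.mk (Spec.map (CommRingCat.ofHom (algebraMap k K)))))) := by
  refine Iff.trans ⟨fun H => ⟨fun K _ _ => (H K).1, fun K _ _ => (H K).2.2⟩, fun H K _ _ => ⟨H.1 K, ?_, H.2 K⟩⟩
    (and_congr_left' (L02.SpRed.forall_gRAt_iff_reduced X.property).symm)
  exact Groth.L23.Pt.isDecent_of_isPullback (AlgSp.IsAlgSpace.yon_obj _)
    (IsPullback.of_isLimit_binaryFan_of_isTerminal (prodIsProd X.obj ((AlgSp.yon _).obj (L02.SpRed.Kobj K)))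
      (IsTerminal.isTerminalObj (AlgSp.yon _) _ Over.mkIdTerminal)) hX (Groth.L23.Pt.isDecent_yon _)

end Groth.Agent.S10497
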