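import Groth.Statements.S10498
import Groth.Agent.L05.HensTensor.TensorBij
import Groth.Agent.L20.WeaklyEtale

set_option autoImplicit false
universe u
open TensorProduct
open Hensel

namespace Groth.Agent.S10498

/-- (1) ⇔ (2): let k be a field, A a local k-algebra and R a strict henselization of A. Then A is
geometrically reduced over k (K ⊗_k A reduced for every field extension K of k) if and only if R is
geometrically reduced over k. -/
theorem result (k : Type u) [Field k]
    (A : Type u) [CommRing A] [IsLocalRing A] [Algebra k A]
    (R : Type u) [CommRing R] [IsLocalRing R] [Algebra A R] [IsLocalHom (algebraMap A R)]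
    [Hensel.IsStrictHenselization A R] [Algebra k R] [IsScalarTower k A R] :
    (∀ (K : Type u) [Field K] [Algebra k K], IsReduced (TensorProduct k K A)) ↔
      ∀ (K : Type u) [Field K] [Algebra k K], IsReduced (TensorProduct k K R) := by
  haveI : Algebra.WeaklyEtale A R :=
    Groth.L27.IndEtale.weaklyEtale _ _ (Groth.L05.Henselization.isIndEtale_of_isStrictHenselization A R)
  haveI : Module.FaithfullyFlat A R := Module.FaithfullyFlat.of_flat_of_isLocalHom
  refine ⟨fun h K _ _ => ?_, fun h K _ _ => ?_⟩
  · haveI := h K
    haveI : IsReduced (TensorProduct k A K) :=
      isReduced_of_injective (Algebra.TensorProduct.comm k A K) (Algebra.TensorProduct.comm k A K).injective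
    let f := (Algebra.TensorProduct.map (IsScalarTower.toAlgHom k A R) (AlgHom.id k K)).toRingHom
    letI := f.toAlgebra
    haveI : Algebra.WeaklyEtale (TensorProduct k A K) (TensorProduct k R K) :=
      Groth.L05.HensTensor.wEh_map_left (A := k) (B := A) (B' := R) (C := K)
    haveI := Groth.L20.isReduced_of_weaklyEtale (TensorProduct k A K) (TensorProduct k R K)
    exact isReduced_of_injective (Algebra.TensorProduct.comm k K R) (Algebra.TensorProduct.comm k K R).injective
  · haveI := h K
    exact isReduced_of_injective (Algebra.TensorProduct.map (AlgHom.id k K) (IsScalarTower.toAlgHom k A R))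
      (Module.Flat.lTensor_preserves_injective_linearMap
        (IsScalarTower.toAlgHom k A R).toLinearMap (FaithfulSMul.algebraMap_injective A R))

end Groth.Agent.S10498
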