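import Groth.Statements.S10499
import Groth.Agent.L23.CodimOne
import Groth.Agent.S10650

set_option autoImplicit false
universe u
open CategoryTheory CategoryTheory.Limits AlgebraicGeometry Topology TopologicalSpace
open AlgSp

namespace Groth.Agent.S10499

/-- Let f : X ⟶ Y be a proper morphism of algebraic spaces over a scheme S with Y locally Noetherian,
and let y be a point of Y of codimension at most 1. If the points of |X| where f is quasi-finite
form a dense subset, then there is an open subspace Y' of Y containing y such that the base change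
of f to Y' is finite. -/
theorem result {S : Scheme.{u}} {X Y : AlgSp.Space S} (f : X ⟶ Y)
    (hf : AlgSp.IsProperMor f.hom) (hY : AlgSp.IsLocNoethSp Y.obj) (y : AlgSp.Points Y.obj)
    (hy : AlgSp.HasAt (fun U u => ringKrullDim ↥(U.presheaf.stalk u) ≤ 1) Y.obj y)
    (h : Dense {x : AlgSp.Points X.obj | AlgSp.HasAtMor (fun U _ h u => ∃ W : U.Opens, u ∈ W ∧ LocallyQuasiFinite (W.ι ≫ h) ∧ LocallyOfFiniteType (W.ι ≫ h)) f.hom x}) :
    ∃ (Y' : AlgSp.Space S) (j : Y' ⟶ Y), AlgSp.RepWith @IsOpenImmersion j.hom ∧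
      y ∈ Set.range (AlgSp.Points.map j.hom) ∧
      ∀ (P : AlgSp.Space S) (fst : P ⟶ Y') (snd : P ⟶ X), IsPullback fst.hom snd.hom j.hom f.hom →
        AlgSp.IsFiniteMor fst.hom := by
  have hft := hf.2.1.1
  obtain ⟨V, j, hj, hyj, H⟩ := Groth.Agent.S10650.result f y hf
    (Groth.L23.CodimOne.hasAtMor_qf hft hY y hy (fun ξ hξ _ => Groth.L23.CodimOne.resTrdeg_zero_of_qf (Groth.L23.CodimOne.qf_of_dense hft hY h ξ hξ)))
  exact ⟨V, j, hj, hyj, fun P fst snd sq => H P snd fst sq.flip⟩

end Groth.Agent.S10499
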