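import Groth.Statements.S10512
import Groth.Agent.L23.SpacesTopLift

set_option autoImplicit false
set_option backward.isDefEq.respectTransparency.types false
universe u
open CategoryTheory CategoryTheory.Limits AlgebraicGeometry
open AlgSp

namespace Groth.Agent.S10512

/-- For a morphism `f : Y ⟶ X` of algebraic spaces over `S`, the functor from the small etale site of
`Y` (scheme objects) to the big etale site `(Spaces/X)_{etale}` sending `h_U ⟶ Y` to `h_U ⟶ Y ⟶ X`
is cocontinuous; for `f = 𝟙` this is the cocontinuity of the inclusion of the small etale site of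
`X` into its big etale site. (Stated for the small etale site with scheme objects, which defines the
same topos as the one with algebraic-space objects.) -/
theorem result {S : Scheme.{u}} {X Y : AlgSp.Space S} (f : Y ⟶ X) :
    (AlgSp.EtOver.toEtSpOver Y ⋙ ObjectProperty.ι (fun E : Over Y => AlgSp.IsEtaleMor E.hom.hom) ⋙
        Over.map f).IsCocontinuous (AlgSp.etTop Y.obj) (AlgSp.spacesTopOver AlgSp.IsEtaleMor X) := by
  constructor
  intro E R hR
  rw [GrothendieckTopology.mem_over_iff] at hR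
  obtain ⟨κ, Tk, c, he, hs, hm⟩ := Groth.L23.exists_etale_refinement hR E.obj.left (𝟙 _)
  let Z' : κ → AlgSp.EtOver Y.obj := fun k => EtOver.mk ((AlgSp.yon S).map (c k) ≫ E.obj.hom)
    ((repWith_isMultiplicative (S := S) @Etale).comp_mem _ _
      ((repWith_yon_map_iff _ _).2 (he k)) E.property)
  let g' : ∀ k, Z' k ⟶ E := fun k => EtOver.homMk (c k) rfl
  refine GrothendieckTopology.superset_covering _ ?_ (ofArrows_mem_etTop Z' g' hs)
  rw [Sieve.generate_le_iff, Presieve.ofArrows_le_iff]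
  intro k
  let F := EtOver.toEtSpOver Y ⋙ ObjectProperty.ι (fun E : Over Y => AlgSp.IsEtaleMor E.hom.hom) ⋙
    Over.map f
  let a : (AlgSp.ofScheme S).obj (Tk k) ⟶ (AlgSp.ofScheme S).obj E.obj.left :=
    ObjectProperty.homMk ((AlgSp.yon S).map (c k) ≫ 𝟙 _)
  have h1 : R (Over.homMk a : Over.mk (a ≫ (F.obj E).hom) ⟶ F.obj E) :=
    (Sieve.overEquiv_iff (Y := F.obj E) R a).1 (hm k)
  show R (F.map (g' k))
  let j : F.obj (Z' k) ⟶ Over.mk (a ≫ (F.obj E).hom) := Over.homMk (𝟙 _) (by
    ext : 1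
    show 𝟙 _ ≫ ((AlgSp.yon S).map (c k) ≫ 𝟙 _) ≫ E.obj.hom ≫ f.hom =
      ((AlgSp.yon S).map (c k) ≫ E.obj.hom) ≫ f.hom
    simp)
  have e : j ≫ (Over.homMk a : Over.mk (a ≫ (F.obj E).hom) ⟶ F.obj E) = F.map (g' k) := by
    ext : 1
    ext : 1
    show 𝟙 _ ≫ ((AlgSp.yon S).map (c k) ≫ 𝟙 _) = (AlgSp.yon S).map (c k)
    simp
  rw [← e]
  exact R.downward_closed h1 j

end Groth.Agent.S10512
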