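import Groth.Statements.S10513
import Groth.Agent.L23.SpacesTopLift

set_option autoImplicit false
set_option backward.isDefEq.respectTransparency.types false
universe u
open CategoryTheory CategoryTheory.Limits AlgebraicGeometry
open AlgSp

namespace Groth.Agent.S10513

/-- For a morphism `f : Y ⟶ X` of algebraic spaces over `S`, the functor from the small etale site of
`Y` (scheme objects) to the big etale site `(Spaces/X)_{etale}` sending `h_U ⟶ Y` to `h_U ⟶ Y ⟶ X`
is continuous (precomposition with it carries sheaves of types to sheaves); for `f = 𝟙` this is the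
continuity of the inclusion of the small etale site of `X` into its big etale site. (Stated for the
small etale site with scheme objects, which defines the same topos as the one with algebraic-space
objects.) -/
theorem result {S : Scheme.{u}} {X Y : AlgSp.Space S} (f : Y ⟶ X) :
    (AlgSp.EtOver.toEtSpOver Y ⋙ ObjectProperty.ι (fun E : Over Y => AlgSp.IsEtaleMor E.hom.hom) ⋙
        Over.map f).IsContinuous (AlgSp.etTop Y.obj) (AlgSp.spacesTopOver AlgSp.IsEtaleMor X) := by
  let F := EtOver.toEtSpOver Y ⋙ ObjectProperty.ι (fun E : Over Y => AlgSp.IsEtaleMor E.hom.hom) ⋙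
    Over.map f
  refine Functor.isContinuous_of_coverPreserving (F := F) ⟨?_⟩ ⟨fun {E R} hR => ?_⟩
  · intro ℱ E T x hx E₁ E₂ W f₁ f₂ g₁ g₂ hg₁ hg₂ e
    have sq := (IsPullback.of_hasPullback g₁.hom.left g₂.hom.left).map (AlgSp.yon S)
    have ew : f₁.left.hom ≫ (AlgSp.yon S).map g₁.hom.left =
        f₂.left.hom ≫ (AlgSp.yon S).map g₂.hom.left := congrArg (fun m => m.left.hom) e
    obtain ⟨l, hl₁, hl₂⟩ := sq.exists_lift _ _ ew
    let L : W.left ⟶ (AlgSp.ofScheme S).obj (EtOver.pullbackObj g₁ g₂).obj.left := ObjectProperty.homMk l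
    let L' : W ⟶ F.obj (EtOver.pullbackObj g₁ g₂) := Over.homMk L (by
      ext : 1
      show l ≫ ((AlgSp.yon S).map (pullback.fst g₁.hom.left g₂.hom.left) ≫ E₁.obj.hom) ≫ f.hom = W.hom.hom
      rw [Category.assoc, ← Category.assoc, hl₁]
      exact congrArg (fun m => m.hom) (Over.w f₁))
    have h₁ : L' ≫ F.map (EtOver.pullbackFst g₁ g₂) = f₁ := by
      ext : 1
      ext : 1
      exact hl₁
    have h₂ : L' ≫ F.map (EtOver.pullbackSnd g₁ g₂) = f₂ := by
      ext : 1
      ext : 1
      exact hl₂
    conv_lhs => rw [← h₁]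
    conv_rhs => rw [← h₂]
    rw [op_comp, op_comp, Functor.map_comp, Functor.map_comp, types_comp_apply, types_comp_apply]
    exact congrArg (ℱ.obj.map L'.op) (hx _ _ hg₁ hg₂ (EtOver.pullback_condition g₁ g₂))
  · obtain ⟨P, hP, hle⟩ := Precoverage.mem_toGrothendieck_iff_of_isStableUnderComposition.1 hR
    obtain ⟨ι, Z, g, rfl⟩ := P.exists_eq_ofArrows
    rw [GrothendieckTopology.mem_over_iff]
    refine GrothendieckTopology.superset_covering _ ?_ (Precoverage.generate_mem_toGrothendieck
      (J := AlgSp.spacesPre S AlgSp.IsEtaleMor) (R := Presieve.ofArrows (fun i => (F.obj (Z i)).left)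
        (fun i => (F.map (g i)).left)) ⟨?_, ?_⟩)
    · rw [Sieve.generate_le_iff, Presieve.ofArrows_le_iff]
      intro i
      exact Sieve.image_mem_functorPushforward (Over.forget X) _
        (Sieve.image_mem_functorPushforward F _ (hle _ _ ⟨i⟩))
    · rintro W v ⟨i⟩
      exact (isEtaleMor_yon_map_iff _).2 (EtOver.etale_left (g i))
    · intro p
      obtain ⟨z, rfl⟩ := (Points.schemeEquiv E.obj.left).surjective p
      obtain ⟨i, w, hw⟩ := (ofArrows_mem_etPre_iff Z g).1 hP z
      exact ⟨_, _, ⟨i⟩, Points.schemeHomeo _ w, (Points.map_yon_map_apply (g i).hom.left w).trans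
        (congrArg _ hw)⟩

end Groth.Agent.S10513
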