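import Groth.Statements.S10517
import Groth.Agent.L23.LocP
import Groth.Agent.L28.Ph.Cover

set_option autoImplicit false
universe u
open CategoryTheory CategoryTheory.Limits AlgebraicGeometry
open AlgSp

namespace Groth.Agent.S10517

/-- If `{X_i ⟶ X}` is a ph covering of the algebraic space `X` by algebraic spaces and each `X_i` has a
ph covering `{X_ij ⟶ X_i}` by algebraic spaces, then the composites `X_ij ⟶ X_i ⟶ X`, indexed by the
pairs `(i, j)`, form a ph covering of `X`. -/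
theorem result {S : Scheme.{u}} (X : AlgSp.Space S) {ι : Type u}
    (Xi : ι → AlgSp.Space S) (g : ∀ i, Xi i ⟶ X) (κ : ι → Type u) (Xij : ∀ i, κ i → AlgSp.Space S)
    (gij : ∀ i j, Xij i j ⟶ Xi i)
    (h : AlgSp.IsPhCover (fun i => (Xi i).obj) (fun i => (g i).hom))
    (hij : ∀ i, AlgSp.IsPhCover (fun j => (Xij i j).obj) (fun j => (gij i j).hom)) :
    AlgSp.IsPhCover (fun r : Σ i, κ i => (Xij r.1 r.2).obj) (fun r => (gij r.1 r.2 ≫ g r.1).hom) := by
  refine ⟨fun r => Groth.L23.locP_comp Groth.L23.etLocal_lft (Xij r.1 r.2).property (Xi r.1).property X.property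
    ((hij r.1).1 r.2) (h.1 r.1), fun Z hZ k => ?_⟩
  obtain ⟨F, hF, hj⟩ := h.2 Z hZ k
  choose i l hl using hj
  choose G hG hGj using fun j => (hij (i j)).2 (Over.mk (F.f j ≫ Z.hom)) (hF.isAffine_obj j) (l j)
  obtain ⟨F', hF', ⟨φ⟩⟩ := Groth.L28.Ph.exists_isStandardPh_bind hF (F := G) hG
  refine ⟨F', hF', fun a => ?_⟩
  have aux : ∀ (b : Σ j, (G j).I₀) (m : F'.X a ⟶ (G b.1).X b.2),
      m ≫ (G b.1).f b.2 ≫ F.f b.1 = F'.f a →
      ∃ (r : Σ i, κ i) (l' : (AlgSp.yon S).obj (Over.mk (F'.f a ≫ Z.hom)) ⟶ (Xij r.1 r.2).obj),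
        l' ≫ (gij r.1 r.2 ≫ g r.1).hom =
          (AlgSp.yon S).map (Over.homMk (F'.f a) rfl : Over.mk (F'.f a ≫ Z.hom) ⟶ Z) ≫ k := by
    rintro ⟨j, q⟩ m hm
    obtain ⟨c, l'', hl''⟩ := hGj j q
    let M : Over.mk (F'.f a ≫ Z.hom) ⟶ Over.mk ((G j).f q ≫ F.f j ≫ Z.hom) :=
      Over.homMk m (by
        show m ≫ (G j).f q ≫ F.f j ≫ Z.hom = F'.f a ≫ Z.hom
        rw [← hm]
        simp only [Category.assoc])
    refine ⟨⟨i j, c⟩, (AlgSp.yon S).map M ≫ l'', ?_⟩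
    show ((AlgSp.yon S).map M ≫ l'') ≫ (gij (i j) c).hom ≫ (g (i j)).hom = _
    rw [Category.assoc, reassoc_of% hl'', hl j, ← Category.assoc, ← Category.assoc, ← Functor.map_comp,
      ← Functor.map_comp]
    refine congrArg (· ≫ k) (congrArg (AlgSp.yon S).map (Over.OverMorphism.ext ?_))
    exact (Category.assoc _ _ _).trans hm
  obtain ⟨r, l', hl'⟩ := aux (φ.s₀ a) (φ.h₀ a) (φ.w₀ a)
  exact ⟨r, l', hl'⟩

end Groth.Agent.S10517
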