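import Groth.Statements.S10534
import Groth.Agent.L23.FpqcAffine

set_option autoImplicit false
set_option backward.isDefEq.respectTransparency.types false
universe u
open CategoryTheory CategoryTheory.Limits AlgebraicGeometry
open AlgSp

namespace Groth.Agent.S10534

/-- The property of morphisms of algebraic spaces over S given by f is a closed immersion (representable
by closed immersions of schemes) is fpqc local on the base: for an fpqc covering of an algebraic
space Y by algebraic spaces Y_i, a morphism f : X ⟶ Y of algebraic spaces and cartesian squares X_i
= Y_i ×_Y X, f has the property if and only if every X_i ⟶ Y_i has it. -/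
theorem result (S : Scheme.{u}) :
    AlgSp.IsLocalOnBase (AlgSp.IsFpqcCover (S := S)) (AlgSp.RepWith @IsClosedImmersion) := Groth.L23.isLocalOnBase_fpqc_closedImmersion

end Groth.Agent.S10534
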