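import Groth.Statements.S10547
import Groth.Agent.L23.FppfImmersion

set_option autoImplicit false
set_option backward.isDefEq.respectTransparency.types false
universe u
open CategoryTheory CategoryTheory.Limits AlgebraicGeometry
open AlgSp

namespace Groth.Agent.S10547

/-- The property of morphisms of algebraic spaces over S given by immersions (representable by
immersions of schemes) is fppf local on the base: for an fppf covering of an algebraic space Y by
algebraic spaces Y_i (each Y_i ⟶ Y flat and locally of finite presentation, jointly surjective on
points), a morphism f : X ⟶ Y of algebraic spaces and cartesian squares X_i = Y_i ×_Y X, f is an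
immersion if and only if every X_i ⟶ Y_i is. -/
theorem result (S : Scheme.{u}) :
    AlgSp.IsLocalOnBase (AlgSp.IsFppfCover (S := S)) (AlgSp.RepWith @IsImmersion) := Groth.L23.isLocalOnBase_fppf_immersion

end Groth.Agent.S10547
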