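import Groth.Statements.S10557
import Groth.Agent.L09.SurjDesc.Main

set_option autoImplicit false
universe u
open CategoryTheory CategoryTheory.Limits AlgebraicGeometry
open AlgSp

set_option backward.isDefEq.respectTransparency false
set_option backward.isDefEq.respectTransparency.types false

namespace Groth.Agent.S10557

/-- Let g : X ⟶ Y and h : Y ⟶ Z be morphisms of algebraic spaces over S with g a surjection of fppf
sheaves (locally surjective for the fppf topology). For P one of flat, locally of finite type,
locally of finite presentation (checked on etale charts): if the composite X ⟶ Z has P then h has P. -/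
theorem result {S : Scheme.{u}} {X Y Z : AlgSp.Space S} (g : X ⟶ Y) (h : Y ⟶ Z)
    (hg : Sheaf.IsLocallySurjective g.hom) :
    (AlgSp.LocP @Flat (g ≫ h).hom → AlgSp.LocP @Flat h.hom) ∧
    (AlgSp.LocP @LocallyOfFiniteType (g ≫ h).hom → AlgSp.LocP @LocallyOfFiniteType h.hom) ∧
    (AlgSp.LocP @LocallyOfFinitePresentation (g ≫ h).hom →
      AlgSp.LocP @LocallyOfFinitePresentation h.hom) := by
  have : Epi g.hom := (Sheaf.isLocallySurjective_iff_epi' _ g.hom).1 hg
  refine ⟨fun hgh => ?_, fun hgh => ?_, fun hgh => ?_⟩
  · exact Groth.L09.SurjDesc.locP_of_epi Groth.L23.etLocal_flat (fun _ h _ => h)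
      (fun π s hs m h => by have := h; exact Groth.L09.SurjDesc.flat_of_section π s hs m)
      (fun χ k h1 _ h3 h => by have := h1; have := h3; exact Groth.L24.LocQ.flat_of_comp_surjective χ k h)
      X.property Y.property Z.property hgh
  · exact Groth.L09.SurjDesc.locP_of_epi Groth.L23.etLocal_lft (fun _ _ h => by have := h; infer_instance)
      (fun π s hs m h => by have := h; exact Groth.L09.SurjDesc.lft_of_section π s hs m)
      (fun χ k h1 h2 h3 h => by have := h1; have := h2; have := h3; exact Groth.L24.Alg.locallyOfFiniteType_of_fppf_comp χ k h)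
      X.property Y.property Z.property hgh
  · exact Groth.L09.SurjDesc.locP_of_epi Groth.L23.etLocal_lfp (fun _ _ h => h)
      (fun π s hs m h => by have := h; exact Groth.L09.SurjDesc.lfp_of_section π s hs m)
      (fun χ k h1 h2 h3 h => by have := h1; have := h2; have := h3; exact Groth.L24.Alg.locallyOfFinitePresentation_of_fppf_comp χ k h)
      X.property Y.property Z.property hgh

end Groth.Agent.S10557
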