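import Groth.Statements.S10569
import Groth.Agent.L23.EtSmLocal

set_option autoImplicit false
set_option backward.isDefEq.respectTransparency.types false
universe u
open CategoryTheory CategoryTheory.Limits AlgebraicGeometry
open AlgSp AlgSp.IsEtaleSmoothLocalST

namespace Groth.Agent.S10569

/-- For a property P of morphisms of algebraic spaces over S that is etale-smooth local on
source-and-target and a morphism f : X ⟶ Y of algebraic spaces, each of the following is equivalent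
to P f: (c) for some smooth b : V ⟶ Y, cartesian square W = X ×_Y V and etale e : U ⟶ W with U ⟶ W ⟶
X surjective, the composite U ⟶ W ⟶ V has P; (d) for every smooth b : V ⟶ Y, cartesian square W = X
×_Y V and etale e : U ⟶ W, the composite U ⟶ W ⟶ V has P; (e) for some smooth covering of Y by
algebraic spaces Y_i every base change Y_i ×_Y X ⟶ Y_i has P; (f) for some etale covering of X by
algebraic spaces X_i every composite X_i ⟶ Y has P. (Condition (b) of the published list is the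
defining locality condition, and its condition (g) combines (e) and (f); they are not repeated
here.) -/
theorem result {S : Scheme.{u}} {P : MorphismProperty (AlgSp.Sp S)}
    (hP : AlgSp.IsEtaleSmoothLocalST P) {X Y : AlgSp.Space S} (f : X ⟶ Y) :
    (P f.hom ↔ ∃ (U V W : AlgSp.Space S) (b : V ⟶ Y) (p : W ⟶ X) (q : W ⟶ V) (e : U ⟶ W),
      AlgSp.LocP @Smooth b.hom ∧ IsPullback p.hom q.hom f.hom b.hom ∧ AlgSp.IsEtaleMor e.hom ∧
      AlgSp.IsSurjectiveMor (e ≫ p).hom ∧ P (e ≫ q).hom) ∧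
    (P f.hom ↔ ∀ (U V W : AlgSp.Space S) (b : V ⟶ Y) (p : W ⟶ X) (q : W ⟶ V) (e : U ⟶ W),
      AlgSp.LocP @Smooth b.hom → IsPullback p.hom q.hom f.hom b.hom → AlgSp.IsEtaleMor e.hom → P (e ≫ q).hom) ∧
    (P f.hom ↔ ∃ (ι : Type u) (Yi Xi : ι → AlgSp.Space S) (g : ∀ i, Yi i ⟶ Y) (p : ∀ i, Xi i ⟶ Yi i)
      (q : ∀ i, Xi i ⟶ X), AlgSp.IsSmCover (fun i => (Yi i).obj) (fun i => (g i).hom) ∧
      (∀ i, IsPullback (q i).hom (p i).hom f.hom (g i).hom) ∧ ∀ i, P (p i).hom) ∧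
    (P f.hom ↔ ∃ (ι : Type u) (Xi : ι → AlgSp.Space S) (g : ∀ i, Xi i ⟶ X),
      AlgSp.IsEtCover (fun i => (Xi i).obj) (fun i => (g i).hom) ∧ ∀ i, P (g i ≫ f).hom) := by
  have hi : ∀ Z : AlgSp.Space S, AlgSp.LocP @Smooth (𝟙 Z.obj) := fun Z =>
    Groth.L24.LocQ.locP_smooth_of_isIso (𝟙 Z.obj)
  have he : ∀ Z : AlgSp.Space S, AlgSp.IsEtaleMor (𝟙 Z.obj) := fun Z =>
    Groth.L23.isEtaleMor_of_isIso Z.property Z.property _
  have hs : IsPullback (𝟙 X.obj) f.hom f.hom (𝟙 Y.obj) := IsPullback.of_horiz_isIso ⟨by simp⟩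
  refine ⟨⟨fun hf => ⟨X, Y, X, 𝟙 Y, 𝟙 X, f, 𝟙 X, hi Y, hs, he X, fun x => ⟨x, ?_⟩, by simpa using hf⟩, ?_⟩,
    ⟨?_, fun H => ?_⟩,
    ⟨fun hf => ⟨PUnit, fun _ => Y, fun _ => X, fun _ => 𝟙 Y, fun _ => f, fun _ => 𝟙 X,
      ⟨fun _ => hi Y, fun x => ⟨⟨⟩, x, AlgSp.Points.map_id x⟩⟩, fun _ => hs, fun _ => hf⟩, ?_⟩,
    ⟨fun hf => ⟨PUnit, fun _ => X, fun _ => 𝟙 X,
      ⟨fun _ => he X, fun x => ⟨⟨⟩, x, AlgSp.Points.map_id x⟩⟩, fun _ => by simpa using hf⟩, ?_⟩⟩
  · simp
  · rintro ⟨U, V, W, b, p, q, e, hb, sq, hee, hse, hq⟩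
    refine (hP.locality X.property Y.property f.hom).2 fun x => ?_
    obtain ⟨v, hv⟩ := hse x
    exact ⟨V.obj, W.obj, U.obj, b.hom, p.hom, q.hom, e.hom, v, V.property, W.property, U.property, hb, sq, hee,
      hv, hq⟩
  · intro hf U V W b p q e hb sq hee
    exact hP.precomp U.property W.property V.property _ _ hee
      (hP.baseChange X.property Y.property W.property V.property f.hom b.hom q.hom p.hom sq hb hf)
  · simpa using H X Y X (𝟙 Y) (𝟙 X) f (𝟙 X) (hi Y) hs (he X)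
  · rintro ⟨ι, Yi, Xi, g, p, q, hg, sq, H⟩
    exact (Groth.L23.etSmST_localOnBase hP (fun i => (Yi i).obj) (fun i => (g i).hom) Y.property
      (fun i => (Yi i).property) hg f.hom X.property (fun i => (Xi i).obj) (fun i => (p i).hom)
      (fun i => (q i).hom) (fun i => (Xi i).property) sq).2 H
  · rintro ⟨ι, Xi, g, hg, H⟩
    exact (Groth.L23.etSmST_localOnSource hP (fun i => (Xi i).obj) (fun i => (g i).hom) X.property
      (fun i => (Xi i).property) hg f.hom Y.property).2 H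

end Groth.Agent.S10569
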