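import Groth.Statements.S1057
import Groth.Agent.L29.DCoh.PCDescent
import Mathlib.AlgebraicGeometry.Morphisms.Flat
import Mathlib.AlgebraicGeometry.Morphisms.UniversallyOpen

set_option autoImplicit false
set_option backward.isDefEq.respectTransparency false
universe u
open CategoryTheory CategoryTheory.Limits AlgebraicGeometry Opposite
attribute [local instance] HasDerivedCategory.standard
open Perf

namespace Groth.Agent.S1057

/-- For a covering by a single flat, surjective, quasi-compact morphism f : X' ⟶ X: assuming Lf^*
exists, an object E of D(O_X) with quasi-coherent cohomology sheaves is m-pseudo-coherent if and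
only if Lf^*E is m-pseudo-coherent. -/
theorem result {X' X : Scheme.{u}} (f : X' ⟶ X) [Flat f] [Surjective f] [QuasiCompact f] [DCoh.HasLpull f] (E : DCoh.D X) (hE : DCoh.IsQCohD E) (m : ℤ) :
    DCoh.IsPseudoCoherentD m E ↔ DCoh.IsPseudoCoherentD m ((DCoh.Lpull f).obj E) := by
  exact ⟨fun h => Groth.L29.DC.isPseudoCoherentD_Lpull f h,
    fun h => Groth.L29.DC.PCDesc.pc_descends f (AlgebraicGeometry.Flat.isQuotientMap_of_surjective f) h⟩

end Groth.Agent.S1057
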