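import Groth.Statements.S10571
import Groth.Agent.L23.FpqcCriterion

set_option autoImplicit false
set_option backward.isDefEq.respectTransparency.types false
universe u
open CategoryTheory CategoryTheory.Limits AlgebraicGeometry
open AlgSp

namespace Groth.Agent.S10571

/-- Suppose a property P of morphisms between algebraic spaces over S satisfies: (1) if finitely many
morphisms X_i ⟶ Y_i have P then so does the induced morphism ∐ X_i ⟶ ∐ Y_i, (2) f : X ⟶ Y has P
exactly when, for each affine scheme Z and each h_Z ⟶ Y, the base change h_Z ×_Y X ⟶ h_Z has P, and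
(3) for every surjective flat morphism of affine schemes Z' ⟶ Z over S and every f : X ⟶ h_Z, if the
base change h_{Z'} ×_{h_Z} X ⟶ h_{Z'} has P then f has P. Under these hypotheses, P is local on the
base for the fpqc topology. (The published statement asks (1) only for two morphisms; its proof
applies (1) to a disjoint union indexed by a finite set that may be empty, and with (1) for two
morphisms only the property that holds for no morphism satisfies all three hypotheses without being
fpqc local on the base, as the empty covering of the empty algebraic space shows. This row asks (1)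
for all finite families, the empty one included.) -/
theorem result {S : Scheme.{u}} (P : MorphismProperty (AlgSp.Sp S))
    (h1 : ∀ ⦃ι : Type u⦄ [Finite ι] (Xi Yi : ι → AlgSp.Sp S) (fi : ∀ i, Xi i ⟶ Yi i)
      (cX : Cofan Xi) (cY : Cofan Yi) (hcX : IsColimit cX) (hcY : IsColimit cY) (m : cX.pt ⟶ cY.pt),
      (∀ i, AlgSp.IsAlgSpace (Xi i)) → (∀ i, AlgSp.IsAlgSpace (Yi i)) →
      AlgSp.IsAlgSpace cX.pt → AlgSp.IsAlgSpace cY.pt →
      (∀ i, cX.inj i ≫ m = fi i ≫ cY.inj i) → (∀ i, P (fi i)) → P m)
    (h2 : ∀ ⦃X Y : AlgSp.Sp S⦄, AlgSp.IsAlgSpace X → AlgSp.IsAlgSpace Y → ∀ (f : X ⟶ Y),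
      P f ↔ ∀ (Z : Over S), IsAffine Z.left → ∀ (g : (AlgSp.yon S).obj Z ⟶ Y) (W : AlgSp.Sp S)
        (fst : W ⟶ X) (snd : W ⟶ (AlgSp.yon S).obj Z), AlgSp.IsAlgSpace W → IsPullback fst snd f g → P snd)
    (h3 : ∀ ⦃Z Z' : Over S⦄ (c : Z' ⟶ Z), IsAffine Z.left → IsAffine Z'.left → Surjective c.left → Flat c.left →
      ∀ ⦃X X' : AlgSp.Sp S⦄ (f : X ⟶ (AlgSp.yon S).obj Z) (fst : X' ⟶ X) (f' : X' ⟶ (AlgSp.yon S).obj Z'),
        AlgSp.IsAlgSpace X → AlgSp.IsAlgSpace X' → IsPullback fst f' f ((AlgSp.yon S).map c) → P f' → P f) :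
    AlgSp.IsLocalOnBase (AlgSp.IsFpqcCover (S := S)) P := Groth.L23.isLocalOnBase_fpqc_of_criterion P h1 h2 h3

end Groth.Agent.S10571
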