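import Groth.Statements.S10578
import Groth.Agent.L23.FtCriterion
import Groth.Agent.L23.FpSections
import Groth.Agent.L23.LocP
import Groth.Agent.L23.AffineMor
import Mathlib.RingTheory.Finiteness.ModuleFinitePresentation

set_option autoImplicit false
universe u
open CategoryTheory CategoryTheory.Limits AlgebraicGeometry
open AlgSp

set_option backward.isDefEq.respectTransparency false
set_option backward.isDefEq.respectTransparency.types false
set_option linter.style.haveILetI false

namespace Groth.Agent.S10578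

/-- Let f : X ⟶ Y be a morphism of algebraic spaces over S which is finite and of finite presentation,
and F a quasi-coherent O_X-module (on the small etale site). Then F is of finite presentation
exactly when its direct image f_*F is of finite presentation as an O_Y-module. (Representability of
f, implied by finiteness, is carried as an explicit hypothesis because the direct image functor is
defined for representable morphisms.) -/
theorem result {S : Scheme.{u}} {X Y : AlgSp.Space S} (f : X ⟶ Y)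
    (hrep : AlgSp.Representable f.hom) (hfin : AlgSp.IsFiniteMor f.hom) (hfp : AlgSp.IsFinitePresentationMor f.hom)
    (F : AlgSp.ModEt X.obj) [F.IsQuasicoherent] :
    F.IsFinitePresentation ↔ ((AlgSp.pushModEt hrep).obj F).IsFinitePresentation := by
  have hF := Groth.L23.isFiniteMor_iff.1 hfin
  have hfa := Groth.L23.repWith_isAffineHom_of_isAffineMor (f := f.hom) (fun Z hZ g => by
      obtain ⟨W, i, fst, sq, hW, -⟩ := hfin hZ g
      exact ⟨W, i, fst, sq, hW⟩)
  have hlfp : AlgSp.RepWith @LocallyOfFinitePresentation f.hom :=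
    Groth.L23.repWith_of_locP Groth.L23.etLocal_lfp Y.property hrep hfp.1
  haveI := Groth.L23.PushAff.isQuasicoherent_push hrep F hfa
  have hA : ∀ (E : AlgSp.EtOver Y.obj) [IsAffine E.obj.left.left],
      (IsAffine (AlgSp.EtOver.bcObj hrep E).obj.left.left) ∧ (Groth.L09.ModEt.πbc hrep E).Finite ∧
        (Groth.L09.ModEt.πbc hrep E).FinitePresentation := by
    intro E _
    haveI := Groth.L09.ModEt.isAffine_bcObj hrep hfa E
    haveI : IsFinite (AlgSp.EtOver.bcπ hrep E).left := Groth.L23.repWith_snd hF E.obj.hom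
    haveI : LocallyOfFinitePresentation (AlgSp.EtOver.bcπ hrep E).left := Groth.L23.repWith_snd hlfp E.obj.hom
    exact ⟨inferInstance, ((HasAffineProperty.iff_of_isAffine (P := @IsFinite)).1 ‹_›).2,
      (HasRingHomProperty.iff_of_isAffine (P := @LocallyOfFinitePresentation)).1 ‹_›⟩
  constructor
  · intro hM
    refine Groth.L23.FP.isFinitePresentation_of_cover _ fun E e => ?_
    obtain ⟨_, ⟨(B : E.obj.left.left.Opens), hB, rfl⟩, heB, -⟩ :=
      E.obj.left.left.isBasis_affineOpens.exists_subset_of_mem_open (Set.mem_univ e) isOpen_univ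
    refine ⟨Groth.L09.ModEt.openObj E B, hB, Groth.L09.ModEt.openι E B, ⟨⟨e, heB⟩, rfl⟩, ?_⟩
    haveI : IsAffine (Groth.L09.ModEt.openObj E B).obj.left.left := hB
    obtain ⟨hV, hfinite, hfpres⟩ := hA (Groth.L09.ModEt.openObj E B)
    letI := (Groth.L09.ModEt.πbc hrep (Groth.L09.ModEt.openObj E B)).toAlgebra
    letI : Module (Groth.L09.ModEt.Γ₀ (Groth.L09.ModEt.openObj E B))
        (AlgSp.sectModEt F (AlgSp.EtOver.bcObj hrep (Groth.L09.ModEt.openObj E B))) :=
      Groth.L09.ModEt.secModule ((AlgSp.pushModEt hrep).obj F) (Groth.L09.ModEt.openObj E B)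
    haveI : IsScalarTower (Groth.L09.ModEt.Γ₀ (Groth.L09.ModEt.openObj E B))
        (Groth.L09.ModEt.Γ₀ (AlgSp.EtOver.bcObj hrep (Groth.L09.ModEt.openObj E B)))
        (AlgSp.sectModEt F (AlgSp.EtOver.bcObj hrep (Groth.L09.ModEt.openObj E B))) :=
      ⟨fun a b m => mul_smul (Groth.L09.ModEt.πbc hrep _ a) b m⟩
    haveI : Module.Finite (Groth.L09.ModEt.Γ₀ (Groth.L09.ModEt.openObj E B))
        (Groth.L09.ModEt.Γ₀ (AlgSp.EtOver.bcObj hrep (Groth.L09.ModEt.openObj E B))) :=
      RingHom.finite_algebraMap.1 hfinite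
    haveI : Algebra.FinitePresentation (Groth.L09.ModEt.Γ₀ (Groth.L09.ModEt.openObj E B))
        (Groth.L09.ModEt.Γ₀ (AlgSp.EtOver.bcObj hrep (Groth.L09.ModEt.openObj E B))) :=
      RingHom.finitePresentation_algebraMap.1 hfpres
    haveI := Module.FinitePresentation.of_finite_of_finitePresentation
      (R := Groth.L09.ModEt.Γ₀ (Groth.L09.ModEt.openObj E B))
      (S := Groth.L09.ModEt.Γ₀ (AlgSp.EtOver.bcObj hrep (Groth.L09.ModEt.openObj E B)))
    haveI := Groth.L23.FP.finitePresentation_sectModEt F (AlgSp.EtOver.bcObj hrep (Groth.L09.ModEt.openObj E B))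
    exact Module.FinitePresentation.trans (Groth.L09.ModEt.Γ₀ (Groth.L09.ModEt.openObj E B))
      (AlgSp.sectModEt F (AlgSp.EtOver.bcObj hrep (Groth.L09.ModEt.openObj E B)))
      (Groth.L09.ModEt.Γ₀ (AlgSp.EtOver.bcObj hrep (Groth.L09.ModEt.openObj E B)))
  · intro hP
    refine Groth.L23.FP.isFinitePresentation_of_cover F fun E₀ e => ?_
    obtain ⟨E, hE, W, hW, g₁, g₂, he⟩ := Groth.L23.FP.exists_common_bcObj Y.property hrep hfa E₀ e
    obtain ⟨hV, hfinite, -⟩ := hA E
    letI := (Groth.L09.ModEt.πbc hrep E).toAlgebra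
    letI : Module (Groth.L09.ModEt.Γ₀ E) (AlgSp.sectModEt F (AlgSp.EtOver.bcObj hrep E)) :=
      Groth.L09.ModEt.secModule ((AlgSp.pushModEt hrep).obj F) E
    haveI : IsScalarTower (Groth.L09.ModEt.Γ₀ E) (Groth.L09.ModEt.Γ₀ (AlgSp.EtOver.bcObj hrep E))
        (AlgSp.sectModEt F (AlgSp.EtOver.bcObj hrep E)) :=
      ⟨fun a b m => mul_smul (Groth.L09.ModEt.πbc hrep E a) b m⟩
    haveI : Module.Finite (Groth.L09.ModEt.Γ₀ E) (Groth.L09.ModEt.Γ₀ (AlgSp.EtOver.bcObj hrep E)) :=
      RingHom.finite_algebraMap.1 hfinite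
    haveI : Module.FinitePresentation (Groth.L09.ModEt.Γ₀ E) (AlgSp.sectModEt F (AlgSp.EtOver.bcObj hrep E)) :=
      Groth.L23.FP.finitePresentation_sectModEt ((AlgSp.pushModEt hrep).obj F) E
    haveI := Groth.L23.FP.finitePresentation_of_restrictScalars (Groth.L09.ModEt.Γ₀ E)
      (Groth.L09.ModEt.Γ₀ (AlgSp.EtOver.bcObj hrep E)) (AlgSp.sectModEt F (AlgSp.EtOver.bcObj hrep E))
    exact ⟨W, hW, g₁, he, Groth.L23.FP.finitePresentation_of_bc F g₂ (Groth.L09.ModEt.bc_of_isQuasicoherent F g₂)⟩

end Groth.Agent.S10578
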