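import Groth.Statements.S10579
import Groth.Agent.L23.BranchScheme
import Groth.Agent.L23.LocP
import Groth.Agent.L21.GorensteinBaseChangeFG

set_option autoImplicit false
set_option backward.isDefEq.respectTransparency.types false
universe u
open CategoryTheory CategoryTheory.Limits AlgebraicGeometry
open AlgSp

namespace Groth.Agent.S10579

/-- Let f : X ⟶ Y be a morphism of algebraic spaces over S and x ∈ |X|. If X is geometrically unibranch
at x and f is flat at x, then Y is geometrically unibranch at the image point f(x). Here an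
algebraic space is geometrically unibranch at a point when for every etale chart from a scheme U and
every point u of U over it the local ring of U at u is geometrically unibranch. -/
theorem result {S : Scheme.{u}} {X Y : AlgSp.Space S} (f : X ⟶ Y) (x : AlgSp.Points X.obj)
    (hf : AlgSp.IsFlatAtMor f.hom x)
    (hX : ∀ (U : Over S) (a : (AlgSp.yon S).obj U ⟶ X.obj) (v : ↥U.left), AlgSp.RepWith @Etale a →
      AlgSp.Points.ofPt a v = x → CAlg2.IsGeomUnibranch ↥(U.left.presheaf.stalk v))
    (V : Over S) (b : (AlgSp.yon S).obj V ⟶ Y.obj) (w : ↥V.left) (hb : AlgSp.RepWith @Etale b)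
    (hw : AlgSp.Points.ofPt b w = AlgSp.Points.map f.hom x) :
    CAlg2.IsGeomUnibranch ↥(V.left.presheaf.stalk w) := by
  have sq := IsPullback.of_hasPullback f.hom b
  obtain ⟨U, c, hc, hcs⟩ :=
    (Groth.L23.isAlgSpace_of_isPullback Y.property.diag X.property (IsAlgSpace.yon_obj V) sq).atlas
  obtain ⟨z, hz, hz'⟩ := Groth.L23.exists_of_isPullback sq x (Points.ofScheme V w) (by
    rw [← hw, Points.ofPt_eq_map_ofScheme])
  obtain ⟨u, rfl⟩ := Groth.L23.surjective_ofPt hcs z
  obtain ⟨h, hh⟩ := (AlgSp.yon S).map_surjective (c ≫ pullback.snd f.hom b)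
  have ha : AlgSp.RepWith @Etale (c ≫ pullback.fst f.hom b) :=
    Groth.L23.repWith_comp hc (Groth.L23.repWith_of_isPullback sq.flip hb)
  have hau : Points.ofPt (c ≫ pullback.fst f.hom b) u = x := by
    rw [← Points.map_ofPt]; exact hz
  have hhu : h.left u = w := by
    rw [← Points.toScheme_ofPt h u, hh, ← Points.map_ofPt, hz', Points.toScheme_ofScheme]
  subst hhu
  have hflat : (h.left.stalkMap u).hom.Flat :=
    hf (c ≫ pullback.fst f.hom b) b h u ha hb (by rw [hh, Category.assoc, pullback.condition, Category.assoc]) hau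
  obtain ⟨h1, h2⟩ := Groth.L23.Branch.etale_nbhd_facts V.left (h.left u)
  rw [← Groth.L23.Branch.numGeomBranches_eq_one_iff]
  refine le_antisymm (ENat.forall_natCast_le_iff_le.1 fun m hm => ?_) (le_trans ?_ (h1 V.left (𝟙 V.left) (h.left u) inferInstance rfl))
  swap
  · exact Set.one_le_encard_iff_nonempty.2
      ⟨irreducibleComponent (h.left u), irreducibleComponent_mem_irreducibleComponents _, mem_irreducibleComponent⟩
  obtain ⟨V', g, v', hg, hgv, hle⟩ := h2 m hm
  obtain ⟨u', hu₁, hu₂⟩ := Scheme.Pullback.exists_preimage_pullback (f := h.left) (g := g) u v' hgv.symm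
  have hU := (Groth.L23.Branch.numGeomBranches_eq_one_iff _).2 (hX U (c ≫ pullback.fst f.hom b) u ha hau)
  have hg1 : Etale (pullback.fst h.left g) := inferInstance
  have hP := ((Groth.L23.Branch.etale_nbhd_facts U.left u).1 _ (pullback.fst h.left g) u' hg1 hu₁).trans_eq hU
  rw [Groth.L23.Branch.encard_components] at hle hP
  have hflat' : ((pullback.snd h.left g).stalkMap u').hom.Flat :=
    Groth.L21.GorensteinBaseChange.flat_stalkMap_of_isPullback (IsPullback.of_hasPullback h.left g) u' (hu₁.symm ▸ hflat)
  subst hu₂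
  letI := ((pullback.snd h.left g).stalkMap u').hom.toAlgebra
  haveI : IsLocalHom (algebraMap ↥(V'.presheaf.stalk ((pullback.snd h.left g) u')) ↥((pullback h.left g).presheaf.stalk u')) :=
    inferInstanceAs (IsLocalHom ((pullback.snd h.left g).stalkMap u').hom)
  haveI : Module.Flat ↥(V'.presheaf.stalk ((pullback.snd h.left g) u')) ↥((pullback h.left g).presheaf.stalk u') := hflat'
  exact hle.trans ((Groth.L23.Branch.encard_minimalPrimes_le_of_flat _ _).trans hP)

end Groth.Agent.S10579
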