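import Groth.Statements.S10585
import Groth.Agent.L23.UHPushProps
import Groth.Agent.S10046
import Groth.Agent.L23.ChevGen.UnivHomeo

set_option autoImplicit false
set_option backward.isDefEq.respectTransparency.types false
universe u
open CategoryTheory CategoryTheory.Limits AlgebraicGeometry
open AlgSp

namespace Groth.Agent.S10585

open Groth.L23

/-- Take a representable morphism f : X ⟶ Y of algebraic spaces over S that is integral, universally
injective and surjective. Then the base change functor from the small etale site of Y (schemes etale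
over Y) to the small etale site of X is an equivalence of categories, and a scheme etale over Y is
affine if and only if its base change to X is affine. (An integral morphism is representable; the
representability hypothesis is carried to name the base change functor.) -/
theorem result {S : Scheme.{u}} {X Y : AlgSp.Space S}
    (f : X ⟶ Y) (hf : AlgSp.Representable f.hom) (h1 : AlgSp.IsIntegralMor f.hom)
    (h2 : AlgSp.IsUnivInjectiveMor f.hom) (h3 : AlgSp.IsSurjectiveMor f.hom) :
    (AlgSp.EtOver.bc hf).IsEquivalence ∧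
    ∀ E : AlgSp.EtOver Y.obj, IsAffine E.obj.left.left ↔ IsAffine ((AlgSp.EtOver.bc hf).obj E).obj.left.left := by
  have hint : RepWith @IsIntegralHom f.hom := isIntegralMor_iff.1 h1
  have hinj : RepWith @UniversallyInjective f.hom := (repWith_universallyInjective_iff hf).2 h2
  have hsu : RepWith @Surjective f.hom := repWith_surjective_of_map hf h3
  have hu : RepWith FlatMor.IsUnivHomeo f.hom :=
    repWith_mono (fun φ h => Groth.L23.ChevGen.isUnivHomeo_of_integral φ h.1.1 h.1.2 h.2)
      (repWith_inf_iff.2 ⟨repWith_inf_iff.2 ⟨hint, hinj⟩, hsu⟩)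
  have hbπ : ∀ E : EtOver Y.obj, FlatMor.IsUnivHomeo (EtOver.bcπ hf E).left := fun E =>
    repWith_prop hu (EtOver.isPullback_bcObj hf E)
  have hfull : ∀ {E E' : EtOver Y.obj} (m : (EtOver.bc hf).obj E ⟶ (EtOver.bc hf).obj E'),
      ∃! l : E.obj.left ⟶ E'.obj.left, (yon S).map l ≫ E'.obj.hom = E.obj.hom ∧
        EtOver.bcπ hf E ≫ l = m.hom.left ≫ EtOver.bcπ hf E' := fun {E E'} m =>
    existsUnique_lift_uh E'.property _ (hbπ E) E.obj.hom _ (by
      refine (congr_arg (· ≫ E'.obj.hom) ((yon S).map_comp _ _)).trans ((Category.assoc _ _ _).trans ?_)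
      refine (congr_arg ((yon S).map m.hom.left ≫ ·) (EtOver.isPullback_bcObj hf E').w.symm).trans ?_
      refine (Category.assoc _ _ _).symm.trans ?_
      exact (congr_arg (· ≫ f.hom) (EtOver.w m)).trans (EtOver.isPullback_bcObj hf E).w)
  have : (EtOver.bc hf).Faithful := ⟨fun {E E'} g g' h => EtOver.hom_ext _ _
    ((hfull ((EtOver.bc hf).map g)).unique ⟨EtOver.w g, (EtOver.bcMap_snd hf g).symm⟩
      ⟨EtOver.w g', ((congr_arg (fun m : (EtOver.bc hf).obj E ⟶ (EtOver.bc hf).obj E' =>
        m.hom.left ≫ EtOver.bcπ hf E') h).trans (EtOver.bcMap_snd hf g')).symm⟩)⟩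
  have : (EtOver.bc hf).Full := ⟨fun {E E'} m => by
    obtain ⟨l, ⟨hl, hl'⟩, -⟩ := hfull m
    refine ⟨EtOver.homMk l hl, EtOver.hom_ext _ _ (hf.hom_ext ?_ ?_)⟩
    · exact (EtOver.map_bcMap_fst hf _).trans (EtOver.w m).symm
    · exact (EtOver.bcMap_snd hf _).trans hl'⟩
  have : (EtOver.bc hf).EssSurj := ⟨fun V => by
    obtain ⟨u, hsq⟩ := UHPush.exists_isPullback_proj hu V.property
    have hp := UHPush.repWith_etale_proj hu V.property
    have hGsp := UHPush.isAlgSpace_push Y.property hu V.property
    have hui : RepWith @IsIntegralHom u := repWith_of_isPullback hsq hint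
    have hub : Function.Bijective (Points.map u) :=
      ⟨injective_map_of_repWith (repWith_of_isPullback hsq hinj),
        surjective_map_of_repWith (repWith_of_isPullback hsq hsu)⟩
    obtain ⟨G, ⟨θ₀⟩⟩ := isRepresentable_iff_exists_iso.1 ((Groth.Agent.S10046.result S
      (X := ⟨_, IsAlgSpace.yon_obj V.obj.left⟩) (Y := ⟨_, hGsp⟩) (ObjectProperty.homMk u)
      (isIntegralMor_iff.2 hui) hub).1 (isRepresentable_iff_exists_iso.2 ⟨_, ⟨Iso.refl _⟩⟩))
    let θ := θ₀.hom
    haveI : IsIso θ := inferInstanceAs (IsIso θ₀.hom)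
    let E : EtOver Y.obj := EtOver.mk (θ ≫ UHPush.proj f.hom V.obj.hom)
      (MorphismProperty.RespectsIso.precomp (RepWith @Etale) θ _ hp)
    have sq : IsPullback V.obj.hom (u ≫ inv θ) f.hom E.obj.hom :=
      hsq.of_iso (Iso.refl _) (Iso.refl _) (asIso θ).symm (Iso.refl _) (by simp) (by simp) (by simp)
        (by simp [E])
    let e := (EtOver.isPullback_bcObj hf E).isoIsPullback _ _ sq
    let e' : ((EtOver.bc hf).obj E).obj.left ≅ V.obj.left := (yon S).preimageIso e
    refine ⟨E, ⟨(ObjectProperty.fullyFaithfulι _).preimageIso (CostructuredArrow.isoMk e' ?_)⟩⟩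
    show (yon S).map e'.hom ≫ V.obj.hom = _
    rw [show (yon S).map e'.hom = e.hom from (yon S).map_preimage _]
    exact IsPullback.isoIsPullback_hom_fst _ _ _ _⟩
  refine ⟨{ }, fun E => ⟨fun hE => ?_, fun hE => ?_⟩⟩
  · haveI := hE
    have hI : IsIntegralHom (EtOver.bcπ hf E).left := repWith_prop hint (EtOver.isPullback_bcObj hf E)
    exact @isAffine_of_isAffineHom _ _ (EtOver.bcπ hf E).left (@IsIntegralHom.toIsAffineHom _ _ _ hI) hE
  · haveI : IsAffine (EtOver.bcObj hf E).obj.left.left := hE
    have hI : IsIntegralHom (EtOver.bcπ hf E).left := repWith_prop hint (EtOver.isPullback_bcObj hf E)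
    haveI : UniversallyClosed (EtOver.bcπ hf E).left := ((IsIntegralHom.iff_universallyClosed_and_isAffineHom).1 hI).1
    haveI : Surjective (EtOver.bcπ hf E).left := repWith_prop hsu (EtOver.isPullback_bcObj hf E)
    exact Groth.Agent.S0593.result _ _ (EtOver.bcπ hf E).left

end Groth.Agent.S10585
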