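import Groth.Statements.S10586
import Groth.Agent.L23.UHPushProps
import Groth.Agent.L23.ThickScheme
import Groth.Agent.L23.ThickTop

set_option autoImplicit false
set_option backward.isDefEq.respectTransparency.types false
universe u
open CategoryTheory CategoryTheory.Limits AlgebraicGeometry
open AlgSp

namespace Groth.Agent.S10586

open Groth.L23

/-- Let i : X ⟶ X' be a thickening of algebraic spaces over S (representable, every base change to a
scheme a surjective closed immersion). Then base change along i is an equivalence from the small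
etale site of X' (schemes etale over X') to the small etale site of X. -/
theorem result {S : Scheme.{u}} {X X' : AlgSp.Space S} (i : X ⟶ X')
    (hi : AlgSp.IsThickMor i.hom) :
    (AlgSp.EtOver.bc hi.1).IsEquivalence := by
  have hu : RepWith FlatMor.IsUnivHomeo i.hom := repWith_mono (fun φ h => isUnivHomeo_of_thickening φ h) hi
  have hbπ : ∀ E : EtOver X'.obj, FlatMor.IsUnivHomeo (EtOver.bcπ hi.1 E).left := fun E =>
    repWith_prop hu (EtOver.isPullback_bcObj hi.1 E)
  have hfull : ∀ {E E' : EtOver X'.obj} (m : (EtOver.bc hi.1).obj E ⟶ (EtOver.bc hi.1).obj E'),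
      ∃! l : E.obj.left ⟶ E'.obj.left, (yon S).map l ≫ E'.obj.hom = E.obj.hom ∧
        EtOver.bcπ hi.1 E ≫ l = m.hom.left ≫ EtOver.bcπ hi.1 E' := fun {E E'} m =>
    existsUnique_lift_uh E'.property _ (hbπ E) E.obj.hom _ (by
      refine (congr_arg (· ≫ E'.obj.hom) ((yon S).map_comp _ _)).trans ((Category.assoc _ _ _).trans ?_)
      refine (congr_arg ((yon S).map m.hom.left ≫ ·) (EtOver.isPullback_bcObj hi.1 E').w.symm).trans ?_
      refine (Category.assoc _ _ _).symm.trans ?_
      exact (congr_arg (· ≫ i.hom) (EtOver.w m)).trans (EtOver.isPullback_bcObj hi.1 E).w)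
  have : (EtOver.bc hi.1).Faithful := ⟨fun {E E'} g g' h => EtOver.hom_ext _ _
    ((hfull ((EtOver.bc hi.1).map g)).unique ⟨EtOver.w g, (EtOver.bcMap_snd hi.1 g).symm⟩
      ⟨EtOver.w g', ((congr_arg (fun m : (EtOver.bc hi.1).obj E ⟶ (EtOver.bc hi.1).obj E' =>
        m.hom.left ≫ EtOver.bcπ hi.1 E') h).trans (EtOver.bcMap_snd hi.1 g')).symm⟩)⟩
  have : (EtOver.bc hi.1).Full := ⟨fun {E E'} m => by
    obtain ⟨l, ⟨hl, hl'⟩, -⟩ := hfull m
    refine ⟨EtOver.homMk l hl, EtOver.hom_ext _ _ (hi.1.hom_ext ?_ ?_)⟩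
    · exact (EtOver.map_bcMap_fst hi.1 _).trans (EtOver.w m).symm
    · exact (EtOver.bcMap_snd hi.1 _).trans hl'⟩
  have : (EtOver.bc hi.1).EssSurj := ⟨fun V => by
    obtain ⟨u, hsq⟩ := UHPush.exists_isPullback_proj hu V.property
    have hp := UHPush.repWith_etale_proj hu V.property
    obtain ⟨G, θ, hθ⟩ := exists_scheme_of_thickening (UHPush.isAlgSpace_push X'.property hu V.property)
      (repWith_of_isPullback hsq hi)
    let E : EtOver X'.obj := EtOver.mk (θ ≫ UHPush.proj i.hom V.obj.hom)
      (MorphismProperty.RespectsIso.precomp (RepWith @Etale) θ _ hp)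
    have sq : IsPullback V.obj.hom (u ≫ inv θ) i.hom E.obj.hom :=
      hsq.of_iso (Iso.refl _) (Iso.refl _) (asIso θ).symm (Iso.refl _) (by simp) (by simp) (by simp)
        (by simp [E])
    let e := (EtOver.isPullback_bcObj hi.1 E).isoIsPullback _ _ sq
    let e' : ((EtOver.bc hi.1).obj E).obj.left ≅ V.obj.left := (yon S).preimageIso e
    refine ⟨E, ⟨(ObjectProperty.fullyFaithfulι _).preimageIso (CostructuredArrow.isoMk e' ?_)⟩⟩
    show (yon S).map e'.hom ≫ V.obj.hom = _
    rw [show (yon S).map e'.hom = e.hom from (yon S).map_preimage _]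
    exact IsPullback.isoIsPullback_hom_fst _ _ _ _⟩
  exact { }

end Groth.Agent.S10586
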