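import Groth.Statements.S10591
import Groth.Agent.L23.ThickLocal

set_option autoImplicit false
set_option backward.isDefEq.respectTransparency.types false
universe u
open CategoryTheory CategoryTheory.Limits AlgebraicGeometry
open AlgSp

namespace Groth.Agent.S10591

/-- Consider a morphism (f, f') from the thickening X ⊂ X' to the thickening Y ⊂ Y' of algebraic spaces
over S, meaning: i : X ⟶ X' and j : Y ⟶ Y' are thickenings (representable, every base change to a
scheme a surjective closed immersion) and i ≫ f' = f ≫ j. Assume moreover that the square is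
cartesian (X = Y ×_{Y'} X') and that i is a finite order thickening (for one n, on every affine
etale scheme chart of X' the (n+1)-st power of the ideal of the base change of X vanishes). Then f
is locally of finite type of relative dimension d, resp. locally of finite type, resp. locally
quasi-finite, resp. unramified, if and only if f' is (relative dimension d at a point: some chart
diagram through the point has fibre of local dimension d there) (all in the etale-local sense,
locally quasi-finite and unramified including locally of finite type). -/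
theorem result {S : Scheme.{u}} {X X' Y Y' : AlgSp.Space S} (i : X ⟶ X') (j : Y ⟶ Y')
    (f : X ⟶ Y) (f' : X' ⟶ Y')
    (hi : AlgSp.IsThickMor i.hom)
    (hj : AlgSp.IsThickMor j.hom) (w : i ≫ f' = f ≫ j)
    (hcart : IsPullback i.hom f.hom f'.hom j.hom)
    (hfo : AlgSp.IsFinThickMor i.hom) (d : ℕ) :
    ((AlgSp.LocP @LocallyOfFiniteType f.hom ∧
        ∀ x, AlgSp.HasAtMor (fun _ _ h u => FlatMor.fibreDimAt h u = (d : WithBot ℕ∞)) f.hom x) ↔
      (AlgSp.LocP @LocallyOfFiniteType f'.hom ∧
        ∀ x', AlgSp.HasAtMor (fun _ _ h u => FlatMor.fibreDimAt h u = (d : WithBot ℕ∞)) f'.hom x')) ∧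
    (AlgSp.LocP @LocallyOfFiniteType f.hom ↔ AlgSp.LocP @LocallyOfFiniteType f'.hom) ∧
    (AlgSp.LocP (@LocallyQuasiFinite ⊓ @LocallyOfFiniteType) f.hom ↔
      AlgSp.LocP (@LocallyQuasiFinite ⊓ @LocallyOfFiniteType) f'.hom) ∧
    (AlgSp.LocP (@LocallyOfFiniteType ⊓ @FormallyUnramified) f.hom ↔
      AlgSp.LocP (@LocallyOfFiniteType ⊓ @FormallyUnramified) f'.hom) := by
  obtain ⟨D⟩ := Groth.L23.nonempty_deformChart_of_cart X'.property Y'.property hcart hj
  have h := Groth.L23.lft_thick_iff X'.property Y'.property hcart hj hfo
  exact ⟨D.relDim_iff hj h d, h, D.lqf_iff hj h, D.unramified_iff hj h⟩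

end Groth.Agent.S10591
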