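import Groth.Statements.S10592
import Groth.Agent.L23.ThickLocal
import Groth.Agent.L23.ThickGlobal
import Groth.Agent.L23.ThickSep
import Groth.Agent.L23.ThickTop

set_option autoImplicit false
set_option backward.isDefEq.respectTransparency.types false
universe u
open CategoryTheory CategoryTheory.Limits AlgebraicGeometry
open AlgSp

namespace Groth.Agent.S10592

/-- Consider a morphism (f, f') from the thickening X ⊂ X' to the thickening Y ⊂ Y' of algebraic spaces
over S, meaning: i : X ⟶ X' and j : Y ⟶ Y' are thickenings (representable, every base change to a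
scheme a surjective closed immersion) and i ≫ f' = f ≫ j. Assume moreover that the square is
cartesian (X = Y ×_{Y'} X') and that i is a finite order thickening (for one n, on every affine
etale scheme chart of X' the (n+1)-st power of the ideal of the base change of X vanishes). Then f
is a closed immersion, resp. proper, resp. finite, resp. an immersion, if and only if f' is
(immersions of algebraic spaces being the representable ones). -/
theorem result {S : Scheme.{u}} {X X' Y Y' : AlgSp.Space S} (i : X ⟶ X') (j : Y ⟶ Y')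
    (f : X ⟶ Y) (f' : X' ⟶ Y')
    (hi : AlgSp.IsThickMor i.hom)
    (hj : AlgSp.IsThickMor j.hom) (w : i ≫ f' = f ≫ j)
    (hcart : IsPullback i.hom f.hom f'.hom j.hom)
    (hfo : AlgSp.IsFinThickMor i.hom) :
    (AlgSp.RepWith @IsClosedImmersion f.hom ↔ AlgSp.RepWith @IsClosedImmersion f'.hom) ∧
    (AlgSp.IsProperMor f.hom ↔ AlgSp.IsProperMor f'.hom) ∧
    (AlgSp.IsFiniteMor f.hom ↔ AlgSp.IsFiniteMor f'.hom) ∧
    (AlgSp.RepWith @IsImmersion f.hom ↔ AlgSp.RepWith @IsImmersion f'.hom) := by
  have w' : i.hom ≫ f'.hom = f.hom ≫ j.hom := congrArg (·.hom) w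
  have hX' := X'.property
  have hY' := Y'.property
  have h := Groth.L23.lft_thick_iff hX' hY' hcart hj hfo
  refine ⟨⟨fun hf => Groth.L23.repWith_isClosedImmersion_thick hX' hY' hcart hj
      (h.1 (Groth.L23.locP_of_repWith Groth.L23.etLocal_lft (Groth.L23.repWith_mono (fun g (_ : IsClosedImmersion g) => show LocallyOfFiniteType g from inferInstance) hf))) hf,
      fun hf => Groth.L23.repWith_of_isPullback hcart hf⟩, ?_, ?_,
    ⟨fun hf => Groth.L23.repWith_isImmersion_thick hX' hY' hcart hj
      (h.1 (Groth.L23.locP_of_repWith Groth.L23.etLocal_lft (Groth.L23.repWith_mono (fun g (_ : IsImmersion g) => show LocallyOfFiniteType g from inferInstance) hf))) hf,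
      fun hf => Groth.L23.repWith_of_isPullback hcart hf⟩⟩
  · have h₁ := (Groth.L23.separatedMor_thick_iff hX' hY' hi hj w').1
    have h₂ := Groth.L23.qcMor_thick_iff hX' hY' hi hj w'
    have h₃ : IsUnivClosedMor f.hom ↔ IsUnivClosedMor f'.hom :=
      Groth.L23.thick_univSp_iff hX' hY' hi hj w' IsClosedMor
        (fun n m s₀ s hn hm e => (Groth.L23.topo_iff n m s₀ s hn hm e).2.1)
    exact ⟨fun hf => ⟨h₁.1 hf.1, ⟨h.1 hf.2.1.1, h₂.1 hf.2.1.2⟩, h₃.1 hf.2.2⟩,
      fun hf => ⟨h₁.2 hf.1, ⟨h.2 hf.2.1.1, h₂.2 hf.2.1.2⟩, h₃.2 hf.2.2⟩⟩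
  · rw [Groth.L23.isFiniteMor_iff, Groth.L23.isFiniteMor_iff]
    exact ⟨fun hf => Groth.L23.repWith_isFinite_thick hX' hY' hcart hj
      (h.1 (Groth.L23.locP_of_repWith Groth.L23.etLocal_lft (Groth.L23.repWith_mono (fun g (_ : IsFinite g) => show LocallyOfFiniteType g from inferInstance) hf))) hf,
      fun hf => Groth.L23.repWith_of_isPullback hcart hf⟩

end Groth.Agent.S10592
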