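import Groth.Statements.S10594
import Groth.Agent.L23.ThickGlobal

set_option autoImplicit false
set_option backward.isDefEq.respectTransparency.types false
universe u
open CategoryTheory CategoryTheory.Limits AlgebraicGeometry
open AlgSp

namespace Groth.Agent.S10594

/-- Consider a morphism (f, f') from the thickening X ⊂ X' to the thickening Y ⊂ Y' of algebraic spaces
over S, meaning: i : X ⟶ X' and j : Y ⟶ Y' are thickenings (representable, every base change to a
scheme a surjective closed immersion) and i ≫ f' = f ≫ j. Assume moreover that the square is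
cartesian (X = Y ×_{Y'} X') and that f and f' are locally of finite type. Then f is finite, resp. a
closed immersion, resp. an immersion, resp. proper, if and only if f' is (immersions of algebraic
spaces being the representable ones). -/
theorem result {S : Scheme.{u}} {X X' Y Y' : AlgSp.Space S} (i : X ⟶ X') (j : Y ⟶ Y')
    (f : X ⟶ Y) (f' : X' ⟶ Y')
    (hi : AlgSp.IsThickMor i.hom)
    (hj : AlgSp.IsThickMor j.hom) (w : i ≫ f' = f ≫ j)
    (hcart : IsPullback i.hom f.hom f'.hom j.hom)
    (hft : AlgSp.LocP @LocallyOfFiniteType f.hom) (hft' : AlgSp.LocP @LocallyOfFiniteType f'.hom) :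
    (AlgSp.IsFiniteMor f.hom ↔ AlgSp.IsFiniteMor f'.hom) ∧
    (AlgSp.RepWith @IsClosedImmersion f.hom ↔ AlgSp.RepWith @IsClosedImmersion f'.hom) ∧
    (AlgSp.RepWith @IsImmersion f.hom ↔ AlgSp.RepWith @IsImmersion f'.hom) ∧
    (AlgSp.IsProperMor f.hom ↔ AlgSp.IsProperMor f'.hom) := by
  have w' : i.hom ≫ f'.hom = f.hom ≫ j.hom := congrArg (·.hom) w
  have hX' := X'.property
  have hY' := Y'.property
  refine ⟨?_, ⟨Groth.L23.repWith_isClosedImmersion_thick hX' hY' hcart hj hft', fun h => Groth.L23.repWith_of_isPullback hcart h⟩,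
    ⟨Groth.L23.repWith_isImmersion_thick hX' hY' hcart hj hft', fun h => Groth.L23.repWith_of_isPullback hcart h⟩, ?_⟩
  · rw [Groth.L23.isFiniteMor_iff, Groth.L23.isFiniteMor_iff]
    exact ⟨Groth.L23.repWith_isFinite_thick hX' hY' hcart hj hft', fun h => Groth.L23.repWith_of_isPullback hcart h⟩
  · have h₁ := (Groth.L23.separatedMor_thick_iff hX' hY' hi hj w').1
    have h₂ := Groth.L23.qcMor_thick_iff hX' hY' hi hj w'
    have h₃ : IsUnivClosedMor f.hom ↔ IsUnivClosedMor f'.hom :=
      Groth.L23.thick_univSp_iff hX' hY' hi hj w' IsClosedMor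
        (fun n m s₀ s hn hm e => (Groth.L23.topo_iff n m s₀ s hn hm e).2.1)
    exact ⟨fun h => ⟨h₁.1 h.1, ⟨hft', h₂.1 h.2.1.2⟩, h₃.1 h.2.2⟩,
      fun h => ⟨h₁.2 h.1, ⟨hft, h₂.2 h.2.1.2⟩, h₃.2 h.2.2⟩⟩

end Groth.Agent.S10594
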