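import Groth.Statements.S1060
import Groth.Agent.L29.DCoh.FibreLocal

set_option autoImplicit false
set_option backward.isDefEq.respectTransparency false
universe u
open CategoryTheory CategoryTheory.Limits AlgebraicGeometry Opposite
attribute [local instance] HasDerivedCategory.standard
open Perf

namespace Groth.Agent.S1060

/-- Let E ∈ D(O_X) be pseudo-coherent (m-pseudo-coherent for all m). Assuming the derived pullbacks to
the points Spec κ(x) ⟶ X exist, for each i the function x ↦ βᵢ(x) = dim_{κ(x)} Hⁱ(E ⊗^L κ(x)) is
upper semicontinuous: the set where βᵢ < n is open for every n. -/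
theorem result (X : Scheme.{u}) [∀ x : X, DCoh.HasLpull (X.fromSpecResidueField x)]
    (E : DCoh.D X) (hE : ∀ m : ℤ, DCoh.IsPseudoCoherentD m E) (i : ℤ) (n : ℕ) :
    IsOpen {x : X | PerfD.betti E x i < n} := by
  exact Groth.L29.DC.Fib.isOpen_betti_lt E i (hE _) n

end Groth.Agent.S1060
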