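import Groth.Statements.S10600
import Groth.Agent.L23.DeformIso

set_option autoImplicit false
set_option backward.isDefEq.respectTransparency.types false
universe u
open CategoryTheory CategoryTheory.Limits AlgebraicGeometry
open AlgSp

namespace Groth.Agent.S10600

/-- Let iB : B ⟶ B' be a thickening of algebraic spaces over S (representable, every base change to a
scheme a surjective closed immersion), f' : X' ⟶ Y' a morphism of algebraic spaces over B' (via g' :
Y' ⟶ B') with Y' locally of finite type over B' and X' flat and locally of finite presentation over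
B', and f : X ⟶ Y, g : Y ⟶ B its base change to B (both squares to iB cartesian, iX ≫ f' = f ≫ iY).
Then f is an isomorphism, resp. an open immersion, resp. a monomorphism, resp. finite locally free,
resp. finite locally free of degree d, if and only if f' is. -/
theorem result {S : Scheme.{u}} {X X' Y Y' B B' : AlgSp.Space S} (iX : X ⟶ X') (iY : Y ⟶ Y') (iB : B ⟶ B')
    (f : X ⟶ Y) (f' : X' ⟶ Y') (g : Y ⟶ B) (g' : Y' ⟶ B')
    (hcX : IsPullback iX.hom (f ≫ g).hom (f' ≫ g').hom iB.hom) (hcY : IsPullback iY.hom g.hom g'.hom iB.hom)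
    (w : iX ≫ f' = f ≫ iY)
    (hB : AlgSp.IsThickMor iB.hom)
    (hg' : AlgSp.LocP @LocallyOfFiniteType g'.hom)
    (hflat : AlgSp.LocP @Flat (f' ≫ g').hom) (hfp : AlgSp.LocP @LocallyOfFinitePresentation (f' ≫ g').hom) :
    (IsIso f.hom ↔ IsIso f'.hom) ∧
    (AlgSp.RepWith @IsOpenImmersion f.hom ↔ AlgSp.RepWith @IsOpenImmersion f'.hom) ∧
    (Mono f.hom ↔ Mono f'.hom) ∧
    (AlgSp.IsFinLocFreeMor f.hom ↔ AlgSp.IsFinLocFreeMor f'.hom) ∧
    (∀ d : ℕ, AlgSp.IsFinLocFreeOfDegMor d f.hom ↔ AlgSp.IsFinLocFreeOfDegMor d f'.hom) := by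
  have w' : iX.hom ≫ f'.hom = f.hom ≫ iY.hom := congrArg (·.hom) w
  have hc : IsPullback iX.hom f.hom f'.hom iY.hom := IsPullback.of_bot hcX w' hcY
  have hth : IsThickMor iB.hom := hB
  have hiY : IsThickMor iY.hom := Groth.L23.repWith_of_isPullback hcY.flip hth
  obtain ⟨c₁, c₂, c₃, c₄, c₅⟩ := Groth.L23.deform_converse hc
  have het : LocP @Etale f.hom → LocP @Etale f'.hom :=
    fun h => Groth.L23.etale_of_deform_space_fp X'.property Y'.property B'.property hcX hcY w' hB hflat hfp hg' h
  have hflc : IsFinLocFreeMor f.hom → IsFinLocFreeMor f'.hom ∧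
      ∀ d, IsFinLocFreeOfDegMor d f.hom → IsFinLocFreeOfDegMor d f'.hom := by
    intro h
    have hfl : LocP @Flat f.hom := Groth.L23.locP_of_repWith Groth.L23.etLocal_flat
      (Groth.L23.repWith_mono (fun φ (hφ : Mor2.IsFinLocFree φ) => hφ.2.1) h)
    obtain ⟨h₁, h₂⟩ := Groth.L23.flat_lfp_of_deform_space_fp X'.property Y'.property B'.property hcX hcY w' hB hflat hfp hg' hfl
    exact Groth.L23.finLocFree_deform X'.property Y'.property hc hiY h₁ h₂ h
  refine ⟨⟨fun _ => Groth.L23.isIso_deform X'.property Y'.property hc hiY het, c₁⟩,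
    ⟨Groth.L23.repWith_isOpenImmersion_deform X'.property Y'.property hc hiY het, c₂⟩,
    ⟨fun _ => Groth.L23.mono_of_deform_space_fp X'.property Y'.property B'.property hcX hcY w' hB hflat hfp hg', c₃⟩,
    ⟨fun h => (hflc h).1, c₄⟩, fun d => ⟨fun h => (hflc (Groth.L23.repWith_mono (fun φ hφ => hφ.1) h)).2 d h, c₅ d⟩⟩

end Groth.Agent.S10600
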