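import Groth.Statements.S1417
import Groth.Agent.L20.SmoothAt.Global

set_option autoImplicit false
universe u
open FlatMor

set_option backward.isDefEq.respectTransparency.types false
set_option linter.style.haveILetI false

namespace Groth.Agent.S1417

open AlgebraicGeometry CategoryTheory Limits in
/-- Let S be locally Noetherian and f : X → S locally of finite type. Then f is smooth if and only if
for every small extension B' → B of Artinian local rings (a surjection whose kernel is generated by
one element annihilated by the maximal ideal), every morphism Spec B → X and every morphism Spec B'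
→ S locally of finite type making the square commute, there is a lift Spec B' → X. -/
theorem result {X S : Scheme.{u}} (f : X ⟶ S) [IsLocallyNoetherian S] [LocallyOfFiniteType f] :
    Smooth f ↔ ∀ (B B' : Type u) [CommRing B] [CommRing B'] [IsArtinianRing B] [IsArtinianRing B'] [IsLocalRing B] [IsLocalRing B']
      (φ : B' →+* B) (ε : B'), Function.Surjective φ → RingHom.ker φ = Ideal.span {ε} → (∀ m ∈ IsLocalRing.maximalIdeal B', ε * m = 0) →
      ∀ (α : Spec (CommRingCat.of B) ⟶ X) (β : Spec (CommRingCat.of B') ⟶ S), LocallyOfFiniteType β →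
        Spec.map (CommRingCat.ofHom φ) ≫ β = α ≫ f →
        ∃ γ : Spec (CommRingCat.of B') ⟶ X, Spec.map (CommRingCat.ofHom φ) ≫ γ = α ∧ γ ≫ f = β := by
  haveI := Groth.L23.lfp_of_lft_locallyNoetherian f
  constructor
  · intro hs B B' _ _ _ _ _ _ φ ε hφ hker hε α β _ w
    have hεm : ε ∈ IsLocalRing.maximalIdeal B' := by
      by_contra h
      have hu : IsUnit ε := IsLocalRing.notMem_maximalIdeal.1 h
      refine one_ne_zero (α := B) ?_
      have : (1 : B') ∈ RingHom.ker φ := by
        rw [hker, Ideal.span_singleton_eq_top.2 hu]; trivial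
      rwa [RingHom.mem_ker, map_one] at this
    refine Groth.L20.SmoothAt.exists_lift_of_mem_smoothLocus f
      (by rw [Scheme.Hom.smoothLocus_eq_top f]; trivial) φ hφ ⟨2, ?_⟩ α β rfl w
    rw [hker, Ideal.span_singleton_pow, pow_two, hε ε hεm, Ideal.span_singleton_eq_bot.2 rfl,
      Ideal.zero_eq_bot]
  · intro H
    refine Groth.L20.SmoothAt.smooth_of_closedPoints f fun V hV U hU e p hp => ?_
    have hx : hU.fromSpec p ∈ U := by
      show hU.fromSpec p ∈ (U : Set X)
      rw [← hU.range_fromSpec]; exact ⟨p, rfl⟩
    have hq : hU.primeIdealOf ⟨hU.fromSpec p, hx⟩ = p :=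
      hU.fromSpec.isOpenEmbedding.injective (hU.fromSpec_primeIdealOf _)
    refine Groth.L20.SmoothAt.mem_smoothLocus_of_small f hV hU e hx ?_
    intro B' B _ _ _ _ _ _ π hπ ht g ψ hc hg hfin _
    obtain ⟨t, ht, htm⟩ := ht
    haveI : LocallyOfFiniteType (Spec.map (CommRingCat.ofHom ψ)) :=
      (HasRingHomProperty.Spec_iff (P := @LocallyOfFiniteType)).2 (hfin (by rw [hq]; exact hp))
    exact H B B' π t hπ ht (fun m hm => (mul_comm t m).trans (htm m hm)) _ _ inferInstance
      (Groth.L20.SmoothAt.specMap_square f hU hV e π hc)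

end Groth.Agent.S1417
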