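import Groth.Statements.S10604
import Groth.Agent.L23.SpaceFibre

set_option autoImplicit false
set_option backward.isDefEq.respectTransparency.types false
universe u
open CategoryTheory CategoryTheory.Limits AlgebraicGeometry
open AlgSp

namespace Groth.Agent.S10604

/-- Let f : X ⟶ Y and h : Y ⟶ Z be morphisms of algebraic spaces over S with X, Y and Z locally
Noetherian. Assume X is flat over Z and for every field K and every z : Spec K ⟶ Z the base change
X_z ⟶ Y_z of f is flat (fibres taken as pullback squares of fppf sheaves). Then f is flat; if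
moreover f is surjective, then h is flat. -/
theorem result {S : Scheme.{u}} {X Y Z : AlgSp.Space S} (f : X ⟶ Y) (h : Y ⟶ Z)
    (hX : AlgSp.IsLocNoethSp X.obj) (hYn : AlgSp.IsLocNoethSp Y.obj) (hZ : AlgSp.IsLocNoethSp Z.obj)
    (hfl : AlgSp.LocP @Flat (f ≫ h).hom)
    (hfib : ∀ (K : Type u) [Field K] (sK : Spec (CommRingCat.of K) ⟶ S)
      (z : (AlgSp.yon S).obj (Over.mk sK) ⟶ Z.obj) (Xz Yz : AlgSp.Sp S)
      (pX : Xz ⟶ X.obj) (qX : Xz ⟶ (AlgSp.yon S).obj (Over.mk sK))
      (pY : Yz ⟶ Y.obj) (qY : Yz ⟶ (AlgSp.yon S).obj (Over.mk sK)) (fz : Xz ⟶ Yz),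
      IsPullback pX qX (f ≫ h).hom z → IsPullback pY qY h.hom z → fz ≫ pY = pX ≫ f.hom → fz ≫ qY = qX →
      AlgSp.LocP @Flat fz) :
    AlgSp.LocP @Flat f.hom ∧ (AlgSp.IsSurjectiveMor f.hom → AlgSp.LocP @Flat h.hom) := Groth.L23.flat_of_flat_fibres_locNoeth Z.property hX hYn hfl hfib

end Groth.Agent.S10604
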