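import Groth.Statements.S10606
import Groth.Agent.L23.MonoIso

set_option autoImplicit false
set_option backward.isDefEq.respectTransparency.types false
universe u
open CategoryTheory CategoryTheory.Limits AlgebraicGeometry
open AlgSp

namespace Groth.Agent.S10606
open Groth.L23

/-- Let f : X ⟶ Y be a monomorphism of algebraic spaces over S that is quasi-compact, and suppose that
for every T ⟶ Y the map from the structure sheaf of T to the direct image of the structure sheaf of
X ×_Y T is injective. Then f must be an isomorphism. The injectivity is spelled out on sections: for
every scheme T over S, every T ⟶ Y, every pullback square with corner P = X ×_Y T and every global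
function s on T, if the pullback of s along every morphism from a scheme to P vanishes, then s = 0
(this is injectivity on global sections over every scheme etale over every base, which is the
sheaf-level injectivity). -/
theorem result {S : Scheme.{u}} {X Y : AlgSp.Space S} (f : X ⟶ Y)
    (hqc : AlgSp.IsQuasiCompactMor f.hom) [Mono f.hom]
    (hinj : ∀ (T : Over S) (g : (AlgSp.yon S).obj T ⟶ Y.obj) (P : AlgSp.Sp S) (fst : P ⟶ X.obj)
      (snd : P ⟶ (AlgSp.yon S).obj T), IsPullback fst snd f.hom g →
      ∀ s : Γ(T.left, ⊤),
        (∀ (W : Over S) (a : (AlgSp.yon S).obj W ⟶ P) (c : W ⟶ T),
          a ≫ snd = (AlgSp.yon S).map c → c.left.appTop s = 0) → s = 0) :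
    IsIso f.hom := by
  have : IsIso f.hom := isIso_of_mono_sectionsInjective X.property Y.property f.hom hqc hinj
  exact this

end Groth.Agent.S10606
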