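import Groth.Statements.S10608
import Groth.Agent.L20.SmoothAt.Space

set_option autoImplicit false
universe u
open CategoryTheory CategoryTheory.Limits AlgebraicGeometry
open AlgSp

set_option backward.isDefEq.respectTransparency.types false
set_option linter.style.haveILetI false

namespace Groth.Agent.S10608

/-- Take a morphism f : X ⟶ Y of algebraic spaces over S that is locally of finite type, with Y locally
Noetherian, and let x be a point of X. The following are equivalent: (1) f is smooth at x (in some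
chart diagram through x the chart morphism is smooth on an open neighbourhood); (2) for every
surjection π : B' → B of local rings with kernel of square zero, every structure map Spec B' ⟶ S,
every α : Spec B ⟶ X sending the closed point to x and every β : Spec B' ⟶ Y with α ≫ f = Spec(π) ≫
β there is γ : Spec B' ⟶ X with Spec(π) ≫ γ = α and γ ≫ f = β; (3) the same for π ranging over
surjections of Artinian local rings with kernel principal and killed by the maximal ideal. Stated as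
(1) ↔ (2) and (1) ↔ (3). -/
theorem result {S : Scheme.{u}} {X Y : AlgSp.Space S} (f : X ⟶ Y)
    (hY : AlgSp.IsLocNoethSp Y.obj) (hft : AlgSp.LocP @LocallyOfFiniteType f.hom) (x : AlgSp.Points X.obj) :
    (AlgSp.HasAtMor (fun U _ h u => ∃ W : U.Opens, u ∈ W ∧ Smooth (W.ι ≫ h)) f.hom x ↔
      ∀ (B' B : Type u) [CommRing B'] [CommRing B] [IsLocalRing B'] [IsLocalRing B] (π : B' →+* B),
        Function.Surjective π → RingHom.ker π ^ 2 = ⊥ →
        ∀ (s : Spec (CommRingCat.of B') ⟶ S)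
          (α : (AlgSp.yon S).obj (Over.mk (Spec.map (CommRingCat.ofHom π) ≫ s)) ⟶ X.obj)
          (β : (AlgSp.yon S).obj (Over.mk s) ⟶ Y.obj),
          AlgSp.Points.ofPt α (IsLocalRing.closedPoint B) = x →
          α ≫ f.hom = (AlgSp.yon S).map
            (Over.homMk (Spec.map (CommRingCat.ofHom π)) :
              Over.mk (Spec.map (CommRingCat.ofHom π) ≫ s) ⟶ Over.mk s) ≫ β →
          ∃ γ : (AlgSp.yon S).obj (Over.mk s) ⟶ X.obj,
            (AlgSp.yon S).map (Over.homMk (Spec.map (CommRingCat.ofHom π)) :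
              Over.mk (Spec.map (CommRingCat.ofHom π) ≫ s) ⟶ Over.mk s) ≫ γ = α ∧ γ ≫ f.hom = β) ∧
    (AlgSp.HasAtMor (fun U _ h u => ∃ W : U.Opens, u ∈ W ∧ Smooth (W.ι ≫ h)) f.hom x ↔
      ∀ (B' B : Type u) [CommRing B'] [CommRing B] [IsLocalRing B'] [IsLocalRing B]
        [IsArtinianRing B'] [IsArtinianRing B] (π : B' →+* B), Function.Surjective π →
        (∃ t : B', RingHom.ker π = Ideal.span {t} ∧ ∀ a ∈ IsLocalRing.maximalIdeal B', a * t = 0) →
        ∀ (s : Spec (CommRingCat.of B') ⟶ S)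
          (α : (AlgSp.yon S).obj (Over.mk (Spec.map (CommRingCat.ofHom π) ≫ s)) ⟶ X.obj)
          (β : (AlgSp.yon S).obj (Over.mk s) ⟶ Y.obj),
          AlgSp.Points.ofPt α (IsLocalRing.closedPoint B) = x →
          α ≫ f.hom = (AlgSp.yon S).map
            (Over.homMk (Spec.map (CommRingCat.ofHom π)) :
              Over.mk (Spec.map (CommRingCat.ofHom π) ≫ s) ⟶ Over.mk s) ≫ β →
          ∃ γ : (AlgSp.yon S).obj (Over.mk s) ⟶ X.obj,
            (AlgSp.yon S).map (Over.homMk (Spec.map (CommRingCat.ofHom π)) :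
              Over.mk (Spec.map (CommRingCat.ofHom π) ≫ s) ⟶ Over.mk s) ≫ γ = α ∧ γ ≫ f.hom = β) := by
  have h12 : AlgSp.HasAtMor (fun U _ h u => ∃ W : U.Opens, u ∈ W ∧ Smooth (W.ι ≫ h)) f.hom x →
      ∀ (B' B : Type u) [CommRing B'] [CommRing B] [IsLocalRing B'] [IsLocalRing B] (π : B' →+* B),
        Function.Surjective π → RingHom.ker π ^ 2 = ⊥ →
        ∀ (s : Spec (CommRingCat.of B') ⟶ S)
          (α : (AlgSp.yon S).obj (Over.mk (Spec.map (CommRingCat.ofHom π) ≫ s)) ⟶ X.obj)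
          (β : (AlgSp.yon S).obj (Over.mk s) ⟶ Y.obj),
          AlgSp.Points.ofPt α (IsLocalRing.closedPoint B) = x →
          α ≫ f.hom = (AlgSp.yon S).map
            (Over.homMk (Spec.map (CommRingCat.ofHom π)) :
              Over.mk (Spec.map (CommRingCat.ofHom π) ≫ s) ⟶ Over.mk s) ≫ β →
          ∃ γ : (AlgSp.yon S).obj (Over.mk s) ⟶ X.obj,
            (AlgSp.yon S).map (Over.homMk (Spec.map (CommRingCat.ofHom π)) :
              Over.mk (Spec.map (CommRingCat.ofHom π) ≫ s) ⟶ Over.mk s) ≫ γ = α ∧ γ ≫ f.hom = β := by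
    rintro ⟨U, V, a, b, h, u, ha, hb, wc, hu, W, huW, hW⟩ B' B _ _ _ _ π hπ hsq s α β hα w
    let iW : Over.mk (W.ι ≫ U.hom) ⟶ U := Over.homMk W.ι rfl
    have ha' : RepWith @Etale ((yon S).map iW ≫ a) :=
      (repWith_isMultiplicative (S := S) @Etale).comp_mem _ _
        ((repWith_yon_map_iff _ _).2 (inferInstanceAs (Etale W.ι))) ha
    refine Groth.L20.SmoothAt.exists_lift_of_smooth_chart ha' hb (h := iW ≫ h) ?_ hW π hπ hsq s α β
      ⟨(⟨u, huW⟩ : W), ?_⟩ w
    · rw [Category.assoc, wc, Functor.map_comp, Category.assoc]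
    · rw [Groth.L23.ofPt_comp, hα]
      exact hu
  have h31 : (∀ (B' B : Type u) [CommRing B'] [CommRing B] [IsLocalRing B'] [IsLocalRing B]
        [IsArtinianRing B'] [IsArtinianRing B] (π : B' →+* B), Function.Surjective π →
        (∃ t : B', RingHom.ker π = Ideal.span {t} ∧ ∀ a ∈ IsLocalRing.maximalIdeal B', a * t = 0) →
        ∀ (s : Spec (CommRingCat.of B') ⟶ S)
          (α : (AlgSp.yon S).obj (Over.mk (Spec.map (CommRingCat.ofHom π) ≫ s)) ⟶ X.obj)
          (β : (AlgSp.yon S).obj (Over.mk s) ⟶ Y.obj),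
          AlgSp.Points.ofPt α (IsLocalRing.closedPoint B) = x →
          α ≫ f.hom = (AlgSp.yon S).map
            (Over.homMk (Spec.map (CommRingCat.ofHom π)) :
              Over.mk (Spec.map (CommRingCat.ofHom π) ≫ s) ⟶ Over.mk s) ≫ β →
          ∃ γ : (AlgSp.yon S).obj (Over.mk s) ⟶ X.obj,
            (AlgSp.yon S).map (Over.homMk (Spec.map (CommRingCat.ofHom π)) :
              Over.mk (Spec.map (CommRingCat.ofHom π) ≫ s) ⟶ Over.mk s) ≫ γ = α ∧ γ ≫ f.hom = β) →
      AlgSp.HasAtMor (fun U _ h u => ∃ W : U.Opens, u ∈ W ∧ Smooth (W.ι ≫ h)) f.hom x := by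
    intro H
    obtain ⟨V, b, hb, hbs, hN⟩ := hY
    obtain ⟨U, a, h, ha, wc, has⟩ := Groth.L23.exists_chart_over X.property Y.property f.hom hb
    obtain ⟨u, hu⟩ := Groth.L23.surjective_ofPt (has hbs) x
    refine ⟨U, V, a, b, h, u, ha, hb, wc, hu, ?_⟩
    haveI := hft a b h ha hb wc
    haveI := Groth.L23.lfp_of_lft_locallyNoetherian h.left
    refine (Groth.L20.SmoothAt.mem_smoothLocus_iff_exists h.left u).1 ?_
    obtain ⟨_, ⟨V₀, hV₀, rfl⟩, hxV, -⟩ :=
      V.left.isBasis_affineOpens.exists_subset_of_mem_open (Set.mem_univ (h.left u)) isOpen_univ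
    obtain ⟨_, ⟨U₀, hU₀, rfl⟩, hxU, e⟩ := U.left.isBasis_affineOpens.exists_subset_of_mem_open
      (show u ∈ h.left ⁻¹ᵁ V₀ from hxV) (h.left ⁻¹ᵁ V₀).isOpen
    refine Groth.L20.SmoothAt.mem_smoothLocus_of_small h.left hV₀ hU₀ e hxU ?_
    intro B' B _ _ _ _ _ _ π hπ ht g ψ hc hg _ _
    refine Groth.L20.SmoothAt.exists_schemeLift ha hb wc π hπ (fun y hy => ⟨2, ?_⟩) _ _
      (Groth.L20.SmoothAt.specMap_square h.left hU₀ hV₀ e π hc) ?_
    · exact (Submodule.mem_bot B').1
        (Groth.L20.SmoothAt.ker_sq_of_small π ht ▸ Ideal.pow_mem_pow hy 2)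
    · intro α β hα hβ w'
      refine H B' B π hπ ht _ α β ?_ w'
      have hw : (Spec.map (CommRingCat.ofHom g) ≫ hU₀.fromSpec) ≫ U.hom =
          Spec.map (CommRingCat.ofHom π) ≫
            (Spec.map (CommRingCat.ofHom ψ) ≫ hV₀.fromSpec) ≫ V.hom := by
        rw [← Over.w h, ← Category.assoc, ← Groth.L20.SmoothAt.specMap_square h.left hU₀ hV₀ e π hc]
        simp only [Category.assoc]
      rw [hα hw, Groth.L23.ofPt_comp, ← hu]
      congr 1
      exact (Groth.L20.SmoothAt.specMap_fromSpec_closedPoint_iff hU₀ hxU g).2 hg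
  exact ⟨⟨h12, fun H => h31 fun B' B _ _ _ _ _ _ π hπ ht =>
      H B' B π hπ (Groth.L20.SmoothAt.ker_sq_of_small π ht)⟩,
    ⟨fun h B' B _ _ _ _ _ _ π hπ ht => h12 h B' B π hπ (Groth.L20.SmoothAt.ker_sq_of_small π ht),
      h31⟩⟩

end Groth.Agent.S10608
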