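import Groth.Statements.S10613
import Groth.Agent.L09.Where.Mono
import Groth.Agent.L23.InfCharts

set_option autoImplicit false
universe u
open CategoryTheory CategoryTheory.Limits AlgebraicGeometry
open AlgSp

set_option backward.isDefEq.respectTransparency false
set_option backward.isDefEq.respectTransparency.types false

namespace Groth.Agent.S10613

/-- For a morphism f : X ⟶ Y of algebraic spaces over S, these four conditions on f are equivalent: (a)
unramified plus monomorphism; (b) unramified plus universally injective; (c) a monomorphism that is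
locally of finite type; (d) universally injective, locally of finite type and formally unramified
(lifting sense). In that case f is representable by schemes, separated and locally quasi-finite.
(Unramified is the etale-local condition locally of finite type and formally unramified on charts;
monomorphisms are taken in fppf sheaves.) -/
theorem result {S : Scheme.{u}} {X Y : AlgSp.Space S} (f : X ⟶ Y) :
    ((AlgSp.LocP (@LocallyOfFiniteType ⊓ @FormallyUnramified) f.hom ∧ Mono f.hom) ↔
      (AlgSp.LocP (@LocallyOfFiniteType ⊓ @FormallyUnramified) f.hom ∧ AlgSp.IsUnivInjectiveMor f.hom)) ∧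
    ((AlgSp.LocP (@LocallyOfFiniteType ⊓ @FormallyUnramified) f.hom ∧ Mono f.hom) ↔
      (AlgSp.LocP @LocallyOfFiniteType f.hom ∧ Mono f.hom)) ∧
    ((AlgSp.LocP (@LocallyOfFiniteType ⊓ @FormallyUnramified) f.hom ∧ Mono f.hom) ↔
      (AlgSp.IsUnivInjectiveMor f.hom ∧ AlgSp.LocP @LocallyOfFiniteType f.hom ∧ AlgSp.IsFormallyUnramifiedMor f.hom)) ∧
    (AlgSp.LocP @LocallyOfFiniteType f.hom ∧ Mono f.hom →
      AlgSp.Representable f.hom ∧ AlgSp.IsSeparatedMor f.hom ∧
        AlgSp.LocP (@LocallyQuasiFinite ⊓ @LocallyOfFiniteType) f.hom) := by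
  have hX := X.property
  have hY := Y.property
  have hFU : ∀ (h : AlgSp.LocP @LocallyOfFiniteType f.hom), AlgSp.IsFormallyUnramifiedMor f.hom →
      AlgSp.LocP (@LocallyOfFiniteType ⊓ @FormallyUnramified) f.hom := fun h hu =>
    Groth.L09.Where.locP_inf_iff.2 ⟨h, Groth.L23.locP_formallyUnramified hu⟩
  have h1 := Groth.L09.Where.unramified_mono_iff (f := f.hom) hX hY
  refine ⟨h1, ⟨fun ⟨h, hm⟩ => ⟨(Groth.L09.Where.locP_inf_iff.1 h).1, hm⟩, fun ⟨h, hm⟩ => ⟨by
      have := hm
      exact Groth.L09.Where.unramified_of_lft_mono hX hY h, hm⟩⟩,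
    h1.trans ⟨fun ⟨h, hi⟩ => ⟨hi, (Groth.L09.Where.locP_inf_iff.1 h).1,
        (Groth.L23.formallyUnramified_iff_locP hX hY).2 (Groth.L09.Where.locP_inf_iff.1 h).2⟩,
      fun ⟨hi, h, hu⟩ => ⟨hFU h hu, hi⟩⟩, ?_⟩
  rintro ⟨h, hm⟩
  have := hm
  exact ⟨Groth.L09.Where.representable_of_lft_mono hX hY h, Groth.L09.Where.isSeparatedMor_of_mono,
    Groth.L09.Where.lqf_of_unramified (Groth.L09.Where.unramified_of_lft_mono hX hY h)⟩

end Groth.Agent.S10613
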