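import Groth.Statements.S10614
import Groth.Agent.L09.Where.Mono
import Groth.Agent.L23.InfCharts

set_option autoImplicit false
universe u
open CategoryTheory CategoryTheory.Limits AlgebraicGeometry
open AlgSp

set_option backward.isDefEq.respectTransparency false
set_option backward.isDefEq.respectTransparency.types false

namespace Groth.Agent.S10614

/-- For a morphism f : X ⟶ Y of algebraic spaces over S, being a closed immersion (representable by
closed immersions) is equivalent to each of: (a) universally closed plus unramified plus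
monomorphism; (b) universally closed plus unramified plus universally injective; (c) a universally
closed monomorphism that is locally of finite type; (d) universally closed, universally injective,
locally of finite type and formally unramified (lifting sense). (Unramified is the etale-local
condition locally of finite type and formally unramified on charts; monomorphisms are taken in fppf
sheaves.) -/
theorem result {S : Scheme.{u}} {X Y : AlgSp.Space S} (f : X ⟶ Y) :
    (AlgSp.RepWith @IsClosedImmersion f.hom ↔
      (AlgSp.IsUnivClosedMor f.hom ∧ AlgSp.LocP (@LocallyOfFiniteType ⊓ @FormallyUnramified) f.hom ∧ Mono f.hom)) ∧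
    (AlgSp.RepWith @IsClosedImmersion f.hom ↔
      (AlgSp.IsUnivClosedMor f.hom ∧ AlgSp.LocP (@LocallyOfFiniteType ⊓ @FormallyUnramified) f.hom ∧ AlgSp.IsUnivInjectiveMor f.hom)) ∧
    (AlgSp.RepWith @IsClosedImmersion f.hom ↔
      (AlgSp.IsUnivClosedMor f.hom ∧ AlgSp.LocP @LocallyOfFiniteType f.hom ∧ Mono f.hom)) ∧
    (AlgSp.RepWith @IsClosedImmersion f.hom ↔
      (AlgSp.IsUnivClosedMor f.hom ∧ AlgSp.IsUnivInjectiveMor f.hom ∧ AlgSp.LocP @LocallyOfFiniteType f.hom ∧
        AlgSp.IsFormallyUnramifiedMor f.hom)) := by
  have hX := X.property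
  have hY := Y.property
  have h0 := Groth.L09.Where.closedImmersion_iff (f := f.hom) hX hY
  have h1 := Groth.L09.Where.unramified_mono_iff (f := f.hom) hX hY
  have h2 := h0.trans (and_congr_right fun _ => h1)
  refine ⟨h0, h2, h0.trans (and_congr_right fun _ => ⟨fun ⟨h, hm⟩ => ⟨(Groth.L09.Where.locP_inf_iff.1 h).1, hm⟩,
    fun ⟨h, hm⟩ => ⟨by
      have := hm
      exact Groth.L09.Where.unramified_of_lft_mono hX hY h, hm⟩⟩), h2.trans (and_congr_right fun _ => ?_)⟩
  exact ⟨fun ⟨h, hi⟩ => ⟨hi, (Groth.L09.Where.locP_inf_iff.1 h).1,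
      (Groth.L23.formallyUnramified_iff_locP hX hY).2 (Groth.L09.Where.locP_inf_iff.1 h).2⟩,
    fun ⟨hi, h, hu⟩ => ⟨Groth.L09.Where.locP_inf_iff.2 ⟨h, Groth.L23.locP_formallyUnramified hu⟩, hi⟩⟩

end Groth.Agent.S10614
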