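import Groth.Statements.S10615
import Groth.Agent.L23.SmoothLiftSpace

set_option autoImplicit false
set_option backward.isDefEq.respectTransparency.types false
universe u
open CategoryTheory CategoryTheory.Limits AlgebraicGeometry
open AlgSp

namespace Groth.Agent.S10615

/-- Take a smooth morphism f : X ⟶ Y of algebraic spaces over S, let i : T ⟶ T' be a thickening of
algebraic spaces (representable, every base change to a scheme a surjective closed immersion) and
let a : T ⟶ X, b : T' ⟶ Y satisfy a ≫ f = i ≫ b. Then there is an etale covering of T' on whose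
members the dotted arrow exists: for every point t' of T' there are a scheme V, a representable
etale e : V ⟶ T' whose image contains t', and ℓ : V ⟶ X with ℓ ≫ f = e ≫ b whose restriction to T
×_{T'} V (any pullback square) is the restriction of a. -/
theorem result {S : Scheme.{u}} {X Y T T' : AlgSp.Space S} (f : X ⟶ Y)
    (hf : AlgSp.LocP @Smooth f.hom) (i : T ⟶ T')
    (hi : AlgSp.IsThickMor i.hom)
    (a : T ⟶ X) (b : T' ⟶ Y) (w : a ≫ f = i ≫ b) (t' : AlgSp.Points T'.obj) :
    ∃ (V : Over S) (e : (AlgSp.yon S).obj V ⟶ T'.obj) (ℓ : (AlgSp.yon S).obj V ⟶ X.obj),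
      AlgSp.RepWith @Etale e ∧ t' ∈ Set.range (AlgSp.Points.ofPt e) ∧ ℓ ≫ f.hom = e ≫ b.hom ∧
      ∀ (P : AlgSp.Sp S) (p₁ : P ⟶ T.obj) (p₂ : P ⟶ (AlgSp.yon S).obj V),
        IsPullback p₁ p₂ i.hom e → p₂ ≫ ℓ = p₁ ≫ a.hom := by
  obtain ⟨V, e, ℓ, he, ht, hℓ, hP⟩ := Groth.L23.exists_lift_of_smooth X.property Y.property T'.property hf hi a.hom b.hom (congrArg (·.hom) w) t'
  exact ⟨V, e, ℓ, he, ht, hℓ, hP⟩

end Groth.Agent.S10615
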