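import Groth.Statements.S10616
import Groth.Agent.L23.InfEtale
import Groth.Agent.S1488
import Mathlib.AlgebraicGeometry.Morphisms.FormallyUnramified

set_option autoImplicit false
universe u
open CategoryTheory CategoryTheory.Limits AlgebraicGeometry
open AlgSp

set_option backward.isDefEq.respectTransparency.types false
set_option linter.style.haveILetI false

namespace Groth.Agent.S10616

/-- Let a : F ⟶ G be a morphism of fppf sheaves on (Sch/S). If a is representable and smooth, then a is
formally smooth; if a is representable and etale, then a is formally etale; if a is representable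
and unramified, then a is formally unramified (lifting conditions against square-zero thickenings of
affine schemes). (The published statement is for transformations of arbitrary presheaves of sets on
(Sch/S)_fppf; this row takes fppf sheaves, the case of algebraic spaces.) -/
theorem result {S : Scheme.{u}} {F G : AlgSp.Sp S} (a : F ⟶ G) :
    (AlgSp.RepWith @Smooth a → AlgSp.IsFormallySmoothMor a) ∧
    (AlgSp.RepWith @Etale a → AlgSp.IsFormallyEtaleMor a) ∧
    (AlgSp.RepWith (@LocallyOfFiniteType ⊓ @FormallyUnramified) a → AlgSp.IsFormallyUnramifiedMor a) := by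
  refine ⟨fun ha sq => ?_, fun ha => Groth.L23.formallyEtale_of_repWith ha,
    fun ha sq l l' h₁ h₂ h₃ h₄ => ?_⟩
  · have sE := ha.1.isPullback sq.bot
    have hπ : Smooth (ha.1.snd sq.bot).left := ha.2 sq.bot _ _ sE
    let σ := ha.1.lift (g := sq.bot) sq.top sq.j sq.comm
    have hfs : MoreMor.IsFormallySmoothHom (ha.1.snd sq.bot).left :=
      ((Groth.Agent.S1488.result _).1 hπ).2
    have hσ : σ.left ≫ (ha.1.snd sq.bot).left = sq.j.left :=
      congr($(ha.1.lift_snd (g := sq.bot) sq.top sq.j sq.comm).left)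
    obtain ⟨τ, hτ₁, hτ₂⟩ := hfs sq.A sq.I sq.sq_zero σ.left (𝟙 _) (by rw [Category.comp_id, hσ]; rfl)
    let τ' : sq.ptT' ⟶ ha.1.pullback sq.bot := Over.homMk τ (by
      rw [← Over.w (ha.1.snd sq.bot), ← Category.assoc, hτ₂]; exact Category.id_comp _)
    have e₁ : τ' ≫ ha.1.snd sq.bot = 𝟙 sq.ptT' := Over.OverMorphism.ext hτ₂
    have e₂ : sq.j ≫ τ' = σ := Over.OverMorphism.ext hτ₁
    refine ⟨(yon S).map τ' ≫ ha.1.fst sq.bot, ?_, ?_⟩
    · rw [← Functor.map_comp_assoc, e₂]; exact ha.1.lift_fst sq.top sq.j sq.comm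
    · rw [Category.assoc, sE.w, ← Functor.map_comp_assoc, e₁, (yon S).map_id, Category.id_comp]
  · have sE := ha.1.isPullback sq.bot
    obtain ⟨_, hπ⟩ := ha.2 sq.bot _ _ sE
    haveI : FormallyUnramified (ha.1.snd sq.bot).left := hπ
    let μ := ha.1.lift (g := sq.bot) l (𝟙 sq.ptT') (by rw [h₂, (yon S).map_id, Category.id_comp])
    let μ' := ha.1.lift (g := sq.bot) l' (𝟙 sq.ptT') (by rw [h₄, (yon S).map_id, Category.id_comp])
    have hμ₁ : μ ≫ ha.1.snd sq.bot = 𝟙 sq.ptT' := ha.1.lift_snd _ _ _
    have hμ₁' : μ' ≫ ha.1.snd sq.bot = 𝟙 sq.ptT' := ha.1.lift_snd _ _ _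
    have hμ₂ : (yon S).map μ ≫ ha.1.fst sq.bot = l := ha.1.lift_fst _ _ _
    have hμ₂' : (yon S).map μ' ≫ ha.1.fst sq.bot = l' := ha.1.lift_fst _ _ _
    have e : sq.j ≫ μ = sq.j ≫ μ' := by
      refine ha.1.hom_ext ?_ ?_
      · rw [Functor.map_comp, Category.assoc, hμ₂, h₁, Functor.map_comp, Category.assoc, hμ₂', h₃]
      · rw [Category.assoc, hμ₁, Category.assoc, hμ₁']
    obtain ⟨⟨_, _⟩, _⟩ := sq.firstOrder
    have : μ = μ' := Over.OverMorphism.ext (FormallyUnramified.hom_ext sq.j.left
      (Groth.L23.isNilpotent_ker_of_firstOrder sq.firstOrder) (ha.1.snd sq.bot).left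
      congr($(e).left) ((congr($(hμ₁).left)).trans congr($(hμ₁').left).symm))
    rw [← hμ₂, this, hμ₂']

end Groth.Agent.S10616
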