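import Groth.Statements.S10626
import Groth.Agent.L23.FlatUnram

set_option autoImplicit false
set_option backward.isDefEq.respectTransparency.types false
universe u
open CategoryTheory CategoryTheory.Limits AlgebraicGeometry
open AlgSp

namespace Groth.Agent.S10626

/-- An unramified and flat morphism of algebraic spaces over S is formally etale (lifting sense). -/
theorem result {S : Scheme.{u}} {X Y : AlgSp.Space S} (f : X ⟶ Y)
    (h1 : AlgSp.LocP (@LocallyOfFiniteType ⊓ @FormallyUnramified) f.hom) (h2 : AlgSp.LocP @Flat f.hom) :
    AlgSp.IsFormallyEtaleMor f.hom := (Groth.L23.formallyEtale_iff_locP X.property Y.property).2 fun U V a b k ha hb w => by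
  obtain ⟨hlft, hu⟩ := h1 a b k ha hb w
  have : Flat k.left := h2 a b k ha hb w
  exact @Groth.L23.formallyEtaleHom_of_flat_unramified _ _ k.left hlft hu this

end Groth.Agent.S10626
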