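import Groth.Statements.S10627
import Groth.Agent.L23.InfEtaleRing

set_option autoImplicit false
set_option backward.isDefEq.respectTransparency.types false
universe u
open CategoryTheory CategoryTheory.Limits AlgebraicGeometry
open AlgSp

namespace Groth.Agent.S10627

/-- A morphism f : X ⟶ Y of algebraic spaces over S is etale if and only if it is locally of finite
presentation and formally etale (lifting sense). -/
theorem result {S : Scheme.{u}} {X Y : AlgSp.Space S} (f : X ⟶ Y) :
    AlgSp.IsEtaleMor f.hom ↔ AlgSp.LocP @LocallyOfFinitePresentation f.hom ∧ AlgSp.IsFormallyEtaleMor f.hom := by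
  have hX := X.property
  have hY := Y.property
  refine ⟨fun h => ⟨fun U V a b k ha hb w => ?_, Groth.L23.isFormallyEtaleMor_of_isEtaleMor hX hY h⟩,
    fun h => (Groth.L23.isEtaleMor_iff_locP hX hY _).2 fun U V a b k ha hb w => ?_⟩
  · have : Etale k.left := (Groth.L23.isEtaleMor_iff_locP hX hY _).1 h a b k ha hb w
    infer_instance
  · have : LocallyOfFinitePresentation k.left := h.1 a b k ha hb w
    exact Groth.L23.etale_of_lfp_of_formallyEtaleHom k.left (Groth.L23.locP_formallyEtaleHom h.2 a b k ha hb w)

end Groth.Agent.S10627
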