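import Groth.Statements.S10630
import Groth.Agent.L09.UnivThick.Basic

set_option autoImplicit false
universe u
open CategoryTheory CategoryTheory.Limits AlgebraicGeometry
open AlgSp

set_option backward.isDefEq.respectTransparency false
set_option backward.isDefEq.respectTransparency.types false

namespace Groth.Agent.S10630

/-- (1) ⇔ (3): let h : Z ⟶ X be a morphism of algebraic spaces over S and let i : Z ⟶ Z', h' : Z' ⟶ X be
a first order thickening of Z over X (i ≫ h' = h). Then (i, h') is a universal first order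
thickening of Z over X if and only if for every first order thickening j : T ⟶ T' of schemes over S
with T' affine, every a : T ⟶ Z and b : T' ⟶ X with j ≫ b = a ≫ h, there is exactly one a' : T' ⟶ Z'
with j ≫ a' = a ≫ i and a' ≫ h' = b. -/
theorem result {S : Scheme.{u}} {Z Z' X : AlgSp.Space S} (h : Z ⟶ X) (i : Z ⟶ Z')
    (h' : Z' ⟶ X) (hi : AlgSp.IsFOThickMor i.hom) (w : i ≫ h' = h) :
    AlgSp.IsUnivFOThick h.hom i.hom h'.hom ↔
      ∀ (T T' : Over S) (j : T ⟶ T'), IsAffine T'.left → AlgSp.IsFOThickMor ((AlgSp.yon S).map j) →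
        ∀ (a : (AlgSp.yon S).obj T ⟶ Z.obj) (b : (AlgSp.yon S).obj T' ⟶ X.obj),
          (AlgSp.yon S).map j ≫ b = a ≫ h.hom →
          ∃! a' : (AlgSp.yon S).obj T' ⟶ Z'.obj, (AlgSp.yon S).map j ≫ a' = a ≫ i.hom ∧ a' ≫ h'.hom = b := by
  have w' : i.hom ≫ h'.hom = h.hom := congr(($w).hom)
  exact ⟨Groth.L09.UnivThick.univAff_of_isUnivFOThick,
    fun H => Groth.L09.UnivThick.isUnivFOThick_of_univAff hi w' H⟩

end Groth.Agent.S10630
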