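import Groth.Statements.S10634
import Groth.Agent.L09.UnivThick.Exists

set_option autoImplicit false
universe u
open CategoryTheory CategoryTheory.Limits AlgebraicGeometry
open AlgSp

set_option backward.isDefEq.respectTransparency false
set_option backward.isDefEq.respectTransparency.types false

namespace Groth.Agent.S10634

/-- For a formally unramified morphism h : Z ⟶ X of algebraic spaces over S, some universal first order
thickening of Z over X exists: an algebraic space Z' with i : Z ⟶ Z' and h' : Z' ⟶ X, i a first
order thickening, i ≫ h' = h, universal among first order thickenings of algebraic spaces over X. -/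
theorem result {S : Scheme.{u}} {Z X : AlgSp.Space S} (h : Z ⟶ X)
    (hh : AlgSp.IsFormallyUnramifiedMor h.hom) :
    ∃ (Z' : AlgSp.Space S) (i : Z ⟶ Z') (h' : Z' ⟶ X), AlgSp.IsUnivFOThick h.hom i.hom h'.hom := by
  obtain ⟨Z', hZ', i, h', H⟩ := Groth.L09.UnivThick.exists_isUnivFOThick Z.property X.property hh
  exact ⟨⟨Z', hZ'⟩, ObjectProperty.homMk i, ObjectProperty.homMk h', H⟩

end Groth.Agent.S10634
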