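import Groth.Statements.S10641
import Groth.Agent.L09.Where.Inj

set_option autoImplicit false
universe u
open CategoryTheory CategoryTheory.Limits AlgebraicGeometry
open AlgSp

set_option backward.isDefEq.respectTransparency false
set_option backward.isDefEq.respectTransparency.types false

namespace Groth.Agent.S10641

/-- For morphisms f : X ⟶ Y, p : X ⟶ Z and q : Y ⟶ Z of algebraic spaces over S with f ≫ q = p, where p
is universally closed and locally of finite type and q is separated, there is an open subspace W of
Z with the following property: a morphism of algebraic spaces g : Z' ⟶ Z factors through W exactly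
when the base change X' ⟶ Y' of f along g is a closed immersion (representable, and a closed
immersion on every represented pullback). Here the base change of f along g is any f' : X' ⟶ Y'
obtained from pullback squares Y' = Y ×_Z Z' and X' = X ×_Y Y' of algebraic spaces over S, and W ⊂ Z
is given as a representable open immersion w : W ⟶ Z. -/
theorem result {S : Scheme.{u}} {X Y Z : AlgSp.Space S}
    (f : X ⟶ Y) (p : X ⟶ Z) (q : Y ⟶ Z) (hc : f ≫ q = p)
    (hp1 : AlgSp.LocP @LocallyOfFiniteType p.hom) (hp2 : AlgSp.IsUnivClosedMor p.hom)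
    (hq : AlgSp.IsSeparatedMor q.hom) :
    ∃ (W : AlgSp.Space S) (w : W ⟶ Z), AlgSp.RepWith @IsOpenImmersion w.hom ∧
      ∀ (Z' : AlgSp.Space S) (g : Z' ⟶ Z),
        (∃ k : Z' ⟶ W, k ≫ w = g) ↔
          ∀ (Y' : AlgSp.Space S) (gY : Y' ⟶ Y) (q' : Y' ⟶ Z'),
            IsPullback gY.hom q'.hom q.hom g.hom →
            ∀ (X' : AlgSp.Space S) (gX : X' ⟶ X) (f' : X' ⟶ Y'),
              IsPullback gX.hom f'.hom f.hom gY.hom →
                AlgSp.RepWith @IsClosedImmersion f'.hom := by
  obtain ⟨B, hB, key⟩ := Groth.L09.Where.exists_where_closedImmersion f p q hc hp1 hp2 hq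
  obtain ⟨W, w, hw, hW⟩ := Groth.L09.Where.exists_avoid Z B hB
  refine ⟨W, w, hw, fun Z' g => (hW Z' g).trans ⟨fun h Y' gY q' hY X' gX f' hX =>
    (key Z' Y' X' g gY q' hY gX f' hX).1 h, fun H => ?_⟩⟩
  obtain ⟨Y', gY, q', X', gX, f', hY, hX⟩ := Groth.L09.Where.exists_squares f q g
  exact (key Z' Y' X' g gY q' hY gX f' hX).2 (H Y' gY q' hY X' gX f' hX)

end Groth.Agent.S10641
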