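import Groth.Statements.S10643
import Groth.Agent.L09.Where.Flat

set_option autoImplicit false
universe u
open CategoryTheory CategoryTheory.Limits AlgebraicGeometry
open AlgSp

set_option backward.isDefEq.respectTransparency false
set_option backward.isDefEq.respectTransparency.types false

namespace Groth.Agent.S10643

/-- For morphisms f : X ⟶ Y, p : X ⟶ Z and q : Y ⟶ Z of algebraic spaces over S with f ≫ q = p, where p
is flat, closed and locally of finite presentation and q is closed and locally of finite type, there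
is an open subspace W of Z with the following property: a morphism of algebraic spaces g : Z' ⟶ Z
factors through W exactly when the base change X' ⟶ Y' of f along g is flat and surjective (on
points). Here the base change of f along g is any f' : X' ⟶ Y' obtained from pullback squares Y' = Y
×_Z Z' and X' = X ×_Y Y' of algebraic spaces over S, and W ⊂ Z is given as a representable open
immersion w : W ⟶ Z. -/
theorem result {S : Scheme.{u}} {X Y Z : AlgSp.Space S}
    (f : X ⟶ Y) (p : X ⟶ Z) (q : Y ⟶ Z) (hc : f ≫ q = p)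
    (hp1 : AlgSp.LocP @LocallyOfFinitePresentation p.hom) (hp2 : AlgSp.LocP @Flat p.hom)
    (hp3 : AlgSp.IsClosedMor p.hom) (hq1 : AlgSp.LocP @LocallyOfFiniteType q.hom)
    (hq2 : AlgSp.IsClosedMor q.hom) :
    ∃ (W : AlgSp.Space S) (w : W ⟶ Z), AlgSp.RepWith @IsOpenImmersion w.hom ∧
      ∀ (Z' : AlgSp.Space S) (g : Z' ⟶ Z),
        (∃ k : Z' ⟶ W, k ≫ w = g) ↔
          ∀ (Y' : AlgSp.Space S) (gY : Y' ⟶ Y) (q' : Y' ⟶ Z'),
            IsPullback gY.hom q'.hom q.hom g.hom →
            ∀ (X' : AlgSp.Space S) (gX : X' ⟶ X) (f' : X' ⟶ Y'),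
              IsPullback gX.hom f'.hom f.hom gY.hom →
                (AlgSp.IsSurjectiveMor f'.hom ∧ AlgSp.LocP @Flat f'.hom) := by
  obtain ⟨B, hB, hBdef, key⟩ := Groth.L09.Where.exists_where_flat f p q hc hp1 hp2 hp3 hq1
  have e : p.hom = f.hom ≫ q.hom := (congrArg (fun φ => φ.hom) hc).symm
  let O := AlgSp.Points.map f.hom '' {x | AlgSp.IsFlatAtMor f.hom x}
  have hO : IsOpen O := Groth.L09.Where.isOpen_image_flatLocus X.property Y.property Z.property (e ▸ hp1) hq1
  obtain ⟨W, w, hw, hW⟩ := Groth.L09.Where.exists_avoid Z (B ∪ AlgSp.Points.map q.hom '' Oᶜ)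
    (hB.union (hq2 _ hO.isClosed_compl))
  refine ⟨W, w, hw, fun Z' g => (hW Z' g).trans ⟨fun h Y' gY q' hY X' gX f' hX => ?_, fun H => ?_⟩⟩
  · refine ⟨fun y' => ?_, (key Z' Y' X' g gY q' hY gX f' hX).1 fun z' hz => h z' (Or.inl hz)⟩
    have : AlgSp.Points.map gY.hom y' ∈ O := by
      by_contra hy
      refine h (AlgSp.Points.map q'.hom y') (Or.inr ⟨_, hy, ?_⟩)
      rw [← AlgSp.Points.map_comp, ← AlgSp.Points.map_comp, hY.w]
    obtain ⟨x, -, hx⟩ := this
    obtain ⟨x', -, hx'⟩ := Groth.L23.exists_of_isPullback hX x y' hx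
    exact ⟨x', hx'⟩
  · obtain ⟨Y', gY, q', X', gX, f', hY, hX⟩ := Groth.L09.Where.exists_squares f q g
    obtain ⟨hs, hfl⟩ := H Y' gY q' hY X' gX f' hX
    have hB' := (key Z' Y' X' g gY q' hY gX f' hX).2 hfl
    rintro z' (hz | ⟨y, hy, hyz⟩)
    · exact hB' z' hz
    · obtain ⟨y', hy₁, hy₂⟩ := Groth.L23.exists_of_isPullback hY y z' hyz
      obtain ⟨x', hx'⟩ := hs y'
      refine hy ⟨AlgSp.Points.map gX.hom x', ?_, ?_⟩
      · exact (Groth.L23.isFlatAtMor_baseChange_iff X.property Y.property Z.property (e ▸ hp1) (e ▸ hp2) hq1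
          Z'.property hY hX x').1 ((Groth.L09.Where.locP_flat_iff X'.property Y'.property).1 hfl x')
      · rw [← AlgSp.Points.map_comp, hX.w, AlgSp.Points.map_comp, hx', hy₁]

end Groth.Agent.S10643
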