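import Groth.Statements.S10644
import Groth.Agent.L09.Where.Inj

set_option autoImplicit false
universe u
open CategoryTheory CategoryTheory.Limits AlgebraicGeometry
open AlgSp

set_option backward.isDefEq.respectTransparency false
set_option backward.isDefEq.respectTransparency.types false

namespace Groth.Agent.S10644

/-- For morphisms f : X ⟶ Y, p : X ⟶ Z and q : Y ⟶ Z of algebraic spaces over S with f ≫ q = p, where p
is flat, universally closed and locally of finite presentation and q is closed, separated and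
locally of finite type, there is an open subspace W of Z with the following property: a morphism of
algebraic spaces g : Z' ⟶ Z factors through W exactly when the base change X' ⟶ Y' of f along g is
an isomorphism. Here the base change of f along g is any f' : X' ⟶ Y' obtained from pullback squares
Y' = Y ×_Z Z' and X' = X ×_Y Y' of algebraic spaces over S, and W ⊂ Z is given as a representable
open immersion w : W ⟶ Z. -/
theorem result {S : Scheme.{u}} {X Y Z : AlgSp.Space S}
    (f : X ⟶ Y) (p : X ⟶ Z) (q : Y ⟶ Z) (hc : f ≫ q = p)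
    (hp1 : AlgSp.LocP @LocallyOfFinitePresentation p.hom) (hp2 : AlgSp.LocP @Flat p.hom)
    (hp3 : AlgSp.IsUnivClosedMor p.hom) (hq1 : AlgSp.LocP @LocallyOfFiniteType q.hom)
    (hq2 : AlgSp.IsClosedMor q.hom) (hq3 : AlgSp.IsSeparatedMor q.hom) :
    ∃ (W : AlgSp.Space S) (w : W ⟶ Z), AlgSp.RepWith @IsOpenImmersion w.hom ∧
      ∀ (Z' : AlgSp.Space S) (g : Z' ⟶ Z),
        (∃ k : Z' ⟶ W, k ≫ w = g) ↔
          ∀ (Y' : AlgSp.Space S) (gY : Y' ⟶ Y) (q' : Y' ⟶ Z'),
            IsPullback gY.hom q'.hom q.hom g.hom →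
            ∀ (X' : AlgSp.Space S) (gX : X' ⟶ X) (f' : X' ⟶ Y'),
              IsPullback gX.hom f'.hom f.hom gY.hom →
                IsIso f'.hom := by
  have hpc : AlgSp.IsClosedMor p.hom := Groth.L09.Where.isClosedMor_of_univClosed Z.property hp3
  have hlft : AlgSp.LocP @LocallyOfFiniteType p.hom :=
    Groth.L23.locP_mono (Q := @LocallyOfFiniteType) (fun φ (_ : LocallyOfFinitePresentation φ) => inferInstance) hp1
  obtain ⟨B₁, hB₁, key₁⟩ := Groth.L09.Where.exists_where_closedImmersion f p q hc hlft hp3 hq3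
  obtain ⟨B₂, hB₂, -, key₂⟩ := Groth.L09.Where.exists_where_flat f p q hc hp1 hp2 hpc hq1
  have e : p.hom = f.hom ≫ q.hom := (congrArg (fun φ => φ.hom) hc).symm
  let O := AlgSp.Points.map f.hom '' {x | AlgSp.IsFlatAtMor f.hom x}
  have hO : IsOpen O := Groth.L09.Where.isOpen_image_flatLocus X.property Y.property Z.property (e ▸ hp1) hq1
  obtain ⟨W, w, hw, hW⟩ := Groth.L09.Where.exists_avoid Z (B₁ ∪ B₂ ∪ AlgSp.Points.map q.hom '' Oᶜ)
    ((hB₁.union hB₂).union (hq2 _ hO.isClosed_compl))
  refine ⟨W, w, hw, fun Z' g => (hW Z' g).trans ⟨fun h Y' gY q' hY X' gX f' hX => ?_, fun H => ?_⟩⟩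
  · refine Groth.L09.Where.isIso_of_closedImmersion_flat_surjective Y'.property
      ((key₁ Z' Y' X' g gY q' hY gX f' hX).1 fun z' hz => h z' (Or.inl (Or.inl hz)))
      ((key₂ Z' Y' X' g gY q' hY gX f' hX).1 fun z' hz => h z' (Or.inl (Or.inr hz))) fun y' => ?_
    have : AlgSp.Points.map gY.hom y' ∈ O := by
      by_contra hy
      refine h (AlgSp.Points.map q'.hom y') (Or.inr ⟨_, hy, ?_⟩)
      rw [← AlgSp.Points.map_comp, ← AlgSp.Points.map_comp, hY.w]
    obtain ⟨x, -, hx⟩ := this
    obtain ⟨x', -, hx'⟩ := Groth.L23.exists_of_isPullback hX x y' hx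
    exact ⟨x', hx'⟩
  · obtain ⟨Y', gY, q', X', gX, f', hY, hX⟩ := Groth.L09.Where.exists_squares f q g
    have := H Y' gY q' hY X' gX f' hX
    have hfl : AlgSp.LocP @Flat f'.hom :=
      Groth.L23.locP_of_repWith Groth.L23.etLocal_flat (Groth.L23.repWith_of_isIso f'.hom)
    have hci : AlgSp.RepWith @IsClosedImmersion f'.hom := Groth.L24.St.repWith_isClosedImmersion_of_isIso _
    rintro z' ((hz | hz) | ⟨y, hy, hyz⟩)
    · exact (key₁ Z' Y' X' g gY q' hY gX f' hX).2 hci z' hz
    · exact (key₂ Z' Y' X' g gY q' hY gX f' hX).2 hfl z' hz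
    · obtain ⟨y', hy₁, -⟩ := Groth.L23.exists_of_isPullback hY y z' hyz
      refine hy ⟨AlgSp.Points.map gX.hom (AlgSp.Points.map (inv f'.hom) y'), ?_, ?_⟩
      · exact (Groth.L23.isFlatAtMor_baseChange_iff X.property Y.property Z.property (e ▸ hp1) (e ▸ hp2) hq1
          Z'.property hY hX _).1 ((Groth.L09.Where.locP_flat_iff X'.property Y'.property).1 hfl _)
      · rw [← AlgSp.Points.map_comp, hX.w, ← AlgSp.Points.map_comp, IsIso.inv_hom_id_assoc, hy₁]

end Groth.Agent.S10644
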