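import Groth.Statements.S10645
import Groth.Agent.L09.LciMor.Near

set_option autoImplicit false
universe u
open CategoryTheory CategoryTheory.Limits AlgebraicGeometry
open AlgSp

set_option backward.isDefEq.respectTransparency false
set_option backward.isDefEq.respectTransparency.types false

namespace Groth.Agent.S10645

/-- For morphisms f : X ⟶ Y, p : X ⟶ Z and q : Y ⟶ Z of algebraic spaces over S with f ≫ q = p, where p
is flat, closed and locally of finite presentation and q is flat and also locally of finite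
presentation, there is an open subspace W of Z with the following property: a morphism of algebraic
spaces g : Z' ⟶ Z factors through W exactly when the base change X' ⟶ Y' of f along g is a local
complete intersection (Koszul) morphism, i.e. Koszul at every point etale locally on source and
target. Here the base change of f along g is any f' : X' ⟶ Y' obtained from pullback squares Y' = Y
×_Z Z' and X' = X ×_Y Y' of algebraic spaces over S, and W ⊂ Z is given as a representable open
immersion w : W ⟶ Z. -/
theorem result {S : Scheme.{u}} {X Y Z : AlgSp.Space S}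
    (f : X ⟶ Y) (p : X ⟶ Z) (q : Y ⟶ Z) (hc : f ≫ q = p)
    (hp1 : AlgSp.LocP @Flat p.hom) (hp2 : AlgSp.LocP @LocallyOfFinitePresentation p.hom)
    (hp3 : AlgSp.IsClosedMor p.hom) (hq1 : AlgSp.LocP @Flat q.hom)
    (hq2 : AlgSp.LocP @LocallyOfFinitePresentation q.hom) :
    ∃ (W : AlgSp.Space S) (w : W ⟶ Z), AlgSp.RepWith @IsOpenImmersion w.hom ∧
      ∀ (Z' : AlgSp.Space S) (g : Z' ⟶ Z),
        (∃ k : Z' ⟶ W, k ≫ w = g) ↔
          ∀ (Y' : AlgSp.Space S) (gY : Y' ⟶ Y) (q' : Y' ⟶ Z'),
            IsPullback gY.hom q'.hom q.hom g.hom →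
            ∀ (X' : AlgSp.Space S) (gX : X' ⟶ X) (f' : X' ⟶ Y'),
              IsPullback gX.hom f'.hom f.hom gY.hom →
                AlgSp.IsLCIMor f'.hom := by
  have e : p.hom = f.hom ≫ q.hom := (congrArg (fun φ => φ.hom) hc).symm
  rw [e] at hp1 hp2
  let B : Set (AlgSp.Points X.obj) := {x | AlgSp.LocPNear AlgSp.lci f.hom x}ᶜ
  let W₀ : TopologicalSpace.Opens (AlgSp.Points Z.obj) :=
    ⟨(AlgSp.Points.map p.hom '' B)ᶜ,
      (hp3 B Groth.L09.LciMor.isOpen_locPNear.isClosed_compl).isOpen_compl⟩
  let W : AlgSp.Space S := ⟨Groth.L23.openSub W₀, Groth.L23.isAlgSpace_openSub W₀ Z.property⟩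
  let w : W ⟶ Z := ObjectProperty.homMk (Groth.L23.openSubι W₀)
  refine ⟨W, w, Groth.L23.repWith_openSubι W₀, fun Z' g => ⟨?_, fun H => ?_⟩⟩
  · rintro ⟨k, hk⟩ Y' gY q' hY X' gX f' hX
    refine Groth.L09.LciMor.isLCIMor_of_locPNear X'.property fun x' => ?_
    rw [Groth.L09.LciMor.locPNear_baseChange_iff X.property Y.property Z.property Z'.property X'.property
      hp1 hp2 hq1 hq2 hY hX x']
    by_contra hx
    have h1 : AlgSp.Points.map p.hom (AlgSp.Points.map gX.hom x') ∈ (W₀ : Set (AlgSp.Points Z.obj)) := by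
      rw [← Groth.L23.range_openSubι]
      refine ⟨AlgSp.Points.map k.hom (AlgSp.Points.map (f'.hom ≫ q'.hom) x'), ?_⟩
      rw [← AlgSp.Points.map_comp k.hom, show k.hom ≫ Groth.L23.openSubι W₀ = g.hom from
        congrArg (fun φ => φ.hom) hk, ← AlgSp.Points.map_comp, e, ← AlgSp.Points.map_comp]
      exact congrArg (fun φ => AlgSp.Points.map φ x') (hX.paste_vert hY).w.symm
    exact h1 ⟨_, hx, rfl⟩
  · have hs : Set.range (AlgSp.Points.map g.hom) ⊆ Set.range (AlgSp.Points.map (Groth.L23.openSubι W₀)) := by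
      rw [Groth.L23.range_openSubι]
      rintro _ ⟨z', rfl⟩ ⟨x, hx, hxz⟩
      rw [e] at hxz
      let Y' : AlgSp.Space S := ⟨pullback q.hom g.hom, Groth.L23.isAlgSpace_of_isPullback Z.property.diag
        Y.property Z'.property (IsPullback.of_hasPullback _ _)⟩
      let gY : Y' ⟶ Y := ObjectProperty.homMk (pullback.fst q.hom g.hom)
      let q' : Y' ⟶ Z' := ObjectProperty.homMk (pullback.snd q.hom g.hom)
      let X' : AlgSp.Space S := ⟨pullback f.hom gY.hom, Groth.L23.isAlgSpace_of_isPullback Y.property.diag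
        X.property Y'.property (IsPullback.of_hasPullback _ _)⟩
      let gX : X' ⟶ X := ObjectProperty.homMk (pullback.fst f.hom gY.hom)
      let f' : X' ⟶ Y' := ObjectProperty.homMk (pullback.snd f.hom gY.hom)
      have hY : IsPullback gY.hom q'.hom q.hom g.hom := IsPullback.of_hasPullback _ _
      have hX : IsPullback gX.hom f'.hom f.hom gY.hom := IsPullback.of_hasPullback _ _
      obtain ⟨x', hx', -⟩ := Groth.L23.exists_of_isPullback (hX.paste_vert hY) x z' hxz
      apply hx
      rw [← hx']
      exact (Groth.L09.LciMor.locPNear_baseChange_iff X.property Y.property Z.property Z'.property X'.property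
        hp1 hp2 hq1 hq2 hY hX x').1
        (Groth.L09.LciMor.locPNear_of_isLCIMor X'.property Y'.property (H Y' gY q' hY X' gX f' hX) x')
    obtain ⟨k, hk⟩ := (Groth.L23.exists_factor_iff (Groth.L23.repWith_openSubι W₀) g.hom).2 hs
    exact ⟨ObjectProperty.homMk k, ObjectProperty.hom_ext _ hk⟩

end Groth.Agent.S10645
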