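import Groth.Statements.S10653
import Groth.Agent.L23.RelDim
import Groth.Agent.L23.Univ
import Groth.Agent.S10311
import Groth.Agent.S1240

set_option autoImplicit false
universe u
open CategoryTheory CategoryTheory.Limits AlgebraicGeometry
open AlgSp

namespace Groth.Agent.S10653

/-- For a flat morphism f : X ⟶ Y of algebraic spaces over S which is locally of finite type, and an
open subspace j : V ⟶ Y with |V| dense in |Y| such that the base change X ×_Y V ⟶ V has relative
dimension at most d (at every point some etale chart diagram has top arrow with local fibre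
dimension at most d): if either j is quasi-compact or f is locally of finite presentation, then f
has relative dimension at most d at every point of |X|. -/
theorem result {S : Scheme.{u}} {X Y V : AlgSp.Space S} (f : X ⟶ Y) (j : V ⟶ Y) (d : ℕ)
    (hf1 : AlgSp.LocP @Flat f.hom) (hf2 : AlgSp.LocP @LocallyOfFiniteType f.hom)
    (hj1 : AlgSp.RepWith @IsOpenImmersion j.hom) (hj2 : Dense (Set.range (AlgSp.Points.map j.hom)))
    (P : AlgSp.Space S) (fst : P ⟶ X) (snd : P ⟶ V) (hP : IsPullback fst.hom snd.hom f.hom j.hom)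
    (hV : ∀ x, AlgSp.HasAtMor (fun _ _ h u => FlatMor.fibreDimAt h u ≤ (d : WithBot ℕ∞)) snd.hom x)
    (h : AlgSp.LocP @LocallyOfFinitePresentation f.hom ∨ AlgSp.IsQuasiCompactMor j.hom) :
    ∀ x, AlgSp.HasAtMor (fun _ _ h u => FlatMor.fibreDimAt h u ≤ (d : WithBot ℕ∞)) f.hom x := by
  obtain ⟨U, V₀, a, b, g, ha, has, hb, -, w⟩ := Groth.L23.exists_chart X.property Y.property f.hom
  haveI : LocallyOfFiniteType g.left := hf2 a b g ha hb w
  haveI : Flat g.left := hf1 a b g ha hb w
  obtain ⟨T, q, t, sq⟩ : ∃ (T : Over S) (q : (AlgSp.yon S).obj T ⟶ V.obj) (t : T ⟶ V₀),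
      IsPullback q ((AlgSp.yon S).map t) j.hom b := ⟨_, _, _, hj1.1.isPullback b⟩
  haveI : IsOpenImmersion t.left := hj1.property _ q t sq
  intro x
  obtain ⟨u, rfl⟩ := Groth.L23.surjective_ofPt has x
  refine (Groth.L23.hasAtMor_fibreDim_iff (· ≤ (d : WithBot ℕ∞)) ha hb w u).2 ?_
  let O : V₀.left.Opens := t.left.opensRange
  have hO : (O : Set V₀.left) = AlgSp.Points.ofPt b ⁻¹' Set.range (AlgSp.Points.map j.hom) := by
    ext v
    constructor
    · rintro ⟨z, rfl⟩
      refine ⟨AlgSp.Points.ofPt q z, ?_⟩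
      rw [AlgSp.Points.map_ofPt, sq.w, Groth.L23.ofPt_comp]
    · rintro ⟨z, hz⟩
      obtain ⟨t', -, ht'⟩ := Groth.L23.exists_of_isPullback sq z (AlgSp.Points.ofScheme V₀ v)
        (by rw [← AlgSp.Points.ofPt_eq_map_ofScheme]; exact hz)
      obtain ⟨z', rfl⟩ : ∃ z', AlgSp.Points.ofScheme T z' = t' := (AlgSp.Points.schemeEquiv T).surjective t'
      rw [← AlgSp.Points.ofPt_eq_map_ofScheme, Groth.L23.ofPt_map] at ht'
      exact ⟨z', (AlgSp.Points.schemeEquiv V₀).injective ht'⟩
  refine Groth.Agent.S1240.result g.left O (hO ▸ hj2.preimage (Groth.L23.isOpenMap_ofPt hb)) d (fun v hv => ?_) ?_ u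
  · have hv' : g.left v ∈ (O : Set V₀.left) := hv
    rw [hO] at hv'
    obtain ⟨z, hz⟩ := hv'
    obtain ⟨p, hp, -⟩ := Groth.L23.exists_of_isPullback hP (AlgSp.Points.ofPt a v) z
      (by rw [AlgSp.Points.map_ofPt, w, Groth.L23.ofPt_comp, hz])
    obtain ⟨U', V', a', b', g', u', ha', hb', w', rfl, H⟩ := hV p
    have h₁ := Groth.Agent.S10311.result f j fst snd hP hf2 _ _
      (show AlgSp.HasAtMor _ f.hom (AlgSp.Points.map fst.hom (AlgSp.Points.ofPt a' u')) from
        ⟨U, V₀, a, b, g, v, ha, hb, w, hp.symm, rfl⟩)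
    rw [Groth.L23.hasAtMor_fibreDim_iff (· = FlatMor.fibreDimAt g.left v) ha' hb' w' u'] at h₁
    exact h₁ ▸ H
  · rcases h with h | h
    · exact Or.inl (h a b g ha hb w)
    · refine Or.inr fun K hK hKo => ?_
      haveI : QuasiCompact t.left := (Groth.L23.repWith_quasiCompact_of_isQuasiCompactMor hj1.1 h).property _ q t sq
      have := (t.left.isSpectralMap.2 hKo hK).image t.left.continuous
      rwa [Set.image_preimage_eq_inter_range, Set.inter_comm] at this

end Groth.Agent.S10653
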