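import Groth.Statements.S10654
import Groth.Agent.L23.FiniteMor
import Groth.Agent.S10653
import Groth.Agent.S10310
import Groth.Agent.L07.DimToolkit

set_option autoImplicit false
universe u
open CategoryTheory CategoryTheory.Limits AlgebraicGeometry
open AlgSp

namespace Groth.Agent.S10654

/-- For a flat proper morphism f : X ⟶ Y of algebraic spaces over S and an open subspace j : V ⟶ Y with
|V| dense in |Y| such that the base change X ×_Y V ⟶ V is finite: f is finite over all of Y,
provided either j is quasi-compact or f is locally of finite presentation. -/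
theorem result {S : Scheme.{u}} {X Y V : AlgSp.Space S} (f : X ⟶ Y) (j : V ⟶ Y)
    (hf1 : AlgSp.LocP @Flat f.hom) (hf2 : AlgSp.IsProperMor f.hom)
    (hj1 : AlgSp.RepWith @IsOpenImmersion j.hom) (hj2 : Dense (Set.range (AlgSp.Points.map j.hom)))
    (P : AlgSp.Space S) (fst : P ⟶ X) (snd : P ⟶ V) (hP : IsPullback fst.hom snd.hom f.hom j.hom)
    (hV : AlgSp.IsFiniteMor snd.hom)
    (h : AlgSp.LocP @LocallyOfFinitePresentation f.hom ∨ AlgSp.IsQuasiCompactMor j.hom) :
    AlgSp.IsFiniteMor f.hom := by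
  refine Groth.L23.FinMor.isFiniteMor_of_univClosed_sep_lqf X.property Y.property hf2.2.2 hf2.1
    ((Groth.Agent.S10310.result f hf2.2.1.1).2 ?_)
  have hP0 := (Groth.Agent.S10310.result snd (fun _ _ a b g ha hb w => (Groth.L23.FinMor.lqf_of_isFiniteMor hV a b g ha hb w).2)).1
    (Groth.L23.FinMor.lqf_of_isFiniteMor hV)
  have h0 := Groth.Agent.S10653.result f j 0 hf1 hf2.2.1.1 hj1 hj2 P fst snd hP (fun x => by
    obtain ⟨U, V', a, b, g, u, ha, hb, w, e, H⟩ := hP0 x
    exact ⟨U, V', a, b, g, u, ha, hb, w, e, H.le⟩) h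
  intro x
  obtain ⟨U, V', a, b, g, u, ha, hb, w, e, H⟩ := h0 x
  haveI : LocallyOfFiniteType g.left := hf2.2.1.1 a b g ha hb w
  refine ⟨U, V', a, b, g, u, ha, hb, w, e, le_antisymm (by exact_mod_cast H) ?_⟩
  obtain ⟨p, q, -, -, hpq⟩ := Groth.L07.DimToolkit.exists_fibreDimAt g.left u
  rw [hpq]
  exact Nat.cast_nonneg _

end Groth.Agent.S10654
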