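import Groth.Statements.S9972
import Groth.Agent.L23.AlgSpace

set_option autoImplicit false
universe u
open CategoryTheory CategoryTheory.Limits AlgebraicGeometry
open AlgSp

namespace Groth.Agent.S9972

/-- Two morphisms to an algebraic space separated over B that agree on an open subspace whose scheme
theoretic closure is everything are equal. -/
theorem result {S : Scheme.{u}} {U X Y B : AlgSp.Space S} (q : Y ⟶ B)
    (hq : AlgSp.IsSeparatedMor q.hom) (f g : X ⟶ Y) (hfg : f ≫ q = g ≫ q) (j : U ⟶ X)
    (hj : AlgSp.RepWith @IsOpenImmersion j.hom) (hcl : AlgSp.IsSchImage j.hom (𝟙 X.obj)) (heq : j ≫ f = j ≫ g) :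
    f = g := by
  have hw : f.hom ≫ q.hom = g.hom ≫ q.hom := congrArg InducedCategory.Hom.hom hfg
  let d := pullback.lift f.hom g.hom hw
  have sq := IsPullback.of_hasPullback (pullback.diagonal q.hom) d
  have hi : AlgSp.RepWith @IsClosedImmersion (pullback.snd (pullback.diagonal q.hom) d) :=
    Groth.L23.repWith_of_isPullback sq hq
  have hj' : j.hom ≫ d = (j.hom ≫ f.hom) ≫ pullback.diagonal q.hom := by
    apply pullback.hom_ext
    · simp [d, pullback.lift_fst]
    · have := congrArg InducedCategory.Hom.hom heq
      simp only [d, Category.assoc, pullback.lift_snd, pullback.diagonal, Category.comp_id]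
      exact this.symm
  obtain ⟨k, hk⟩ := hcl.2.2 (pullback.snd (pullback.diagonal q.hom) d)
    (Groth.L23.isAlgSpace_of_representable_to X.property hi.1) hi
    ⟨sq.lift (j.hom ≫ f.hom) j.hom hj'.symm, sq.lift_snd _ _ _⟩
  have e₁ : pullback.snd (pullback.diagonal q.hom) d ≫ f.hom =
      pullback.snd (pullback.diagonal q.hom) d ≫ g.hom := by
    have h := sq.w
    have h1 := congrArg (· ≫ pullback.fst _ _) h
    have h2 := congrArg (· ≫ pullback.snd _ _) h
    simp [d, pullback.lift_fst, pullback.lift_snd, pullback.diagonal] at h1 h2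
    exact h1.symm.trans h2
  apply ObjectProperty.hom_ext
  have h := congrArg (k ≫ ·) e₁
  change k ≫ _ = k ≫ _ at h
  rw [← Category.assoc, ← Category.assoc, hk] at h
  simpa using h

end Groth.Agent.S9972
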