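import Groth.Statements.S10655
import Groth.Agent.L23.DenseLfp
import Groth.Agent.L23.EtaleMono
import Groth.Agent.S9973
import Groth.Agent.S9969
import Groth.Agent.S9972

set_option autoImplicit false
set_option backward.isDefEq.respectTransparency.types false
set_option linter.style.haveILetI false
universe u
open CategoryTheory CategoryTheory.Limits AlgebraicGeometry
open AlgSp

namespace Groth.Agent.S10655

/-- For a separated flat morphism f : X ⟶ Y of algebraic spaces over S which is locally of finite type,
and an open subspace j : V ⟶ Y which is quasi-compact and scheme theoretically dense (on some etale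
surjective scheme chart its inverse image is a schematically dense open): if the base change X ×_Y V
⟶ V is an isomorphism then f is a representable open immersion. -/
theorem result {S : Scheme.{u}} {X Y V : AlgSp.Space S} (f : X ⟶ Y) (j : V ⟶ Y)
    (hf1 : AlgSp.IsSeparatedMor f.hom) (hf2 : AlgSp.LocP @LocallyOfFiniteType f.hom) (hf3 : AlgSp.LocP @Flat f.hom)
    (hj1 : AlgSp.IsQuasiCompactMor j.hom) (hj2 : AlgSp.IsSchDense j.hom)
    (P : AlgSp.Space S) (fst : P ⟶ X) (snd : P ⟶ V) (hP : IsPullback fst.hom snd.hom f.hom j.hom)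
    (hV : IsIso snd.hom) :
    AlgSp.RepWith @IsOpenImmersion f.hom := by
  have hX := X.property
  have hY := Y.property
  have hlfp := Groth.L23.DenseLfp.locP_lfp_of_dense hf2 hf3 hj1 hj2 hP
    (Groth.L23.locP_of_repWith Groth.L23.etLocal_lfp
      (haveI : IsIso snd.hom := hV
      haveI : MorphismProperty.ContainsIdentities (@LocallyOfFinitePresentation : MorphismProperty Scheme.{u}) :=
        ⟨fun _ => inferInstance⟩
      Groth.L23.repWith_of_isIso snd.hom))
  -- the two projections agree
  have : IsIso snd.hom := hV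
  let sqR := IsPullback.of_hasPullback f.hom f.hom
  let R : AlgSp.Space S := ⟨pullback f.hom f.hom, Groth.L23.isAlgSpace_of_isPullback hY.diag hX hX sqR⟩
  let g : R ⟶ Y := InducedCategory.homMk (pullback.fst f.hom f.hom ≫ f.hom)
  have hg : AlgSp.LocP @Flat g.hom := Groth.L23.locP_comp Groth.L23.etLocal_flat R.property hX hY
    (Groth.L23.locP_of_isPullback Groth.L23.etLocal_flat hX hY hX sqR.flip hf3) hf3
  let sqV := IsPullback.of_hasPullback j.hom g.hom
  let V' : AlgSp.Space S := ⟨pullback j.hom g.hom, Groth.L23.isAlgSpace_of_isPullback hY.diag V.property R.property sqV⟩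
  let jX : V' ⟶ R := InducedCategory.homMk (pullback.snd j.hom g.hom)
  let fV : V' ⟶ V := InducedCategory.homMk (pullback.fst j.hom g.hom)
  have hd : AlgSp.IsSchDense jX.hom := Groth.Agent.S9973.result g hg j hj2 hj1 fV jX sqV
  have hcl := (Groth.Agent.S9969.result jX hd.1 (Groth.L23.qcMor_of_isPullback sqV hj1)).1 hd
  let p₁ : R ⟶ X := InducedCategory.homMk (pullback.fst f.hom f.hom)
  let p₂ : R ⟶ X := InducedCategory.homMk (pullback.snd f.hom f.hom)
  have heq : jX ≫ p₁ = jX ≫ p₂ := by
    apply InducedCategory.hom_ext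
    show pullback.snd j.hom g.hom ≫ pullback.fst f.hom f.hom = pullback.snd j.hom g.hom ≫ pullback.snd f.hom f.hom
    have key : ∀ q : pullback f.hom f.hom ⟶ X.obj, q ≫ f.hom = g.hom →
        pullback.snd j.hom g.hom ≫ q = pullback.fst j.hom g.hom ≫ inv snd.hom ≫ fst.hom := by
      intro q hq
      obtain ⟨l, hl₁, hl₂⟩ := hP.exists_lift (pullback.snd j.hom g.hom ≫ q) (pullback.fst j.hom g.hom)
        (by rw [Category.assoc, hq]; exact pullback.condition.symm)
      rw [← hl₁, ← hl₂, Category.assoc, IsIso.hom_inv_id_assoc]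
    rw [key _ rfl, key _ pullback.condition.symm]
  have h12 : p₁ = p₂ := Groth.Agent.S9972.result f hf1 p₁ p₂ (InducedCategory.hom_ext pullback.condition) jX hd.1 hcl heq
  have h12' : pullback.fst f.hom f.hom = pullback.snd f.hom f.hom := congrArg InducedCategory.Hom.hom h12
  have : Mono f.hom := ⟨fun {T} u v e => by
    rw [← pullback.lift_fst (f := f.hom) (g := f.hom) u v e, h12', pullback.lift_snd]⟩
  have : IsIso (pullback.diagonal f.hom) := (pullback.isIso_diagonal_iff f.hom).2 inferInstance
  have hu := Groth.L23.unramified_of_repWith_isOpenImmersion_diagonal hX hY (f := f.hom) hf2 (Groth.L23.repWith_of_isIso _)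
  refine Groth.L23.repWith_isOpenImmersion_of_etale_mono hX hY f.hom ?_
  intro U T a b h ha hb w
  have := hlfp a b h ha hb w
  have := hf3 a b h ha hb w
  obtain ⟨-, h₂⟩ := hu a b h ha hb w
  have := h₂
  exact Etale.of_formallyUnramified_of_flat h.left

end Groth.Agent.S10655
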