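import Groth.Statements.S10656
import Groth.Agent.L23.Chow.SpaceSurj
import Groth.Agent.L18.PBundle.FTProj

set_option autoImplicit false
set_option linter.style.haveILetI false
set_option backward.isDefEq.respectTransparency false
set_option backward.isDefEq.respectTransparency.types false
universe u
open CategoryTheory CategoryTheory.Limits AlgebraicGeometry
open AlgSp
open Groth.L23

namespace Groth.Agent.S10656

/-- (a variant of Chow's lemma) for an algebraic space Y over S which is quasi-compact and
quasi-separated and a separated morphism f : X ⟶ Y of finite type, there are an algebraic space X',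
a proper surjective morphism X' ⟶ X, a representable open immersion X' ⟶ X̄' and a proper
representable morphism X̄' ⟶ Y forming a commutative diagram over Y. (The published statement asks Y
to be quasi-separated in the absolute sense and puts no condition on S; this row assumes S
quasi-separated and Y quasi-separated over S, which together imply it.) -/
theorem result {S : Scheme.{u}} [QuasiSeparatedSpace ↥S] {X Y : AlgSp.Space S} (f : X ⟶ Y)
    (hY1 : AlgSp.IsQuasiCompactSp Y.obj) (hY2 : AlgSp.IsQuasiSeparatedSp Y.obj)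
    (hf1 : AlgSp.IsSeparatedMor f.hom) (hf2 : AlgSp.IsFiniteTypeMor f.hom) :
    ∃ (X' Xb : AlgSp.Space S) (a : X' ⟶ X) (b : X' ⟶ Xb) (c : Xb ⟶ Y), b ≫ c = a ≫ f ∧
      AlgSp.IsProperMor a.hom ∧ AlgSp.IsSurjectiveMor a.hom ∧ AlgSp.RepWith @IsOpenImmersion b.hom ∧
        AlgSp.IsProperMor c.hom ∧ AlgSp.Representable c.hom := by
  obtain ⟨U, v, hU, hv, hvs⟩ := Qs.exists_affine_atlas Y.property hY1
  obtain ⟨T, ν, hν, hνs, -⟩ := IntCover.exists_scheme_finite Y hY1 hY2 v hv hvs
  have hνf : RepWith @IsFinite ν := isFiniteMor_iff.1 hν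
  have hνa : RepWith @IsAffineHom ν := repWith_mono (fun φ (_ : IsFinite φ) => inferInstanceAs (IsAffineHom φ)) hνf
  have hT := IsAlgSpace.yon_obj T
  haveI : CompactSpace T.left :=
    compactSpace_of_isQuasiCompactSp (Groth.L09.SpLimit.qcSp_of_affine Y.property hY1 hνa)
  haveI : QuasiSeparatedSpace T.left :=
    DimZero.quasiSeparatedSpace_of_iso (Groth.L09.SpLimit.qsSp_of_affine hY2 hνa) hT T (𝟙 _)
  have sq := IsPullback.of_hasPullback f.hom ν
  have hP := isAlgSpace_of_isPullback Y.property.diag X.property hT sq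
  obtain ⟨W, g, n, w, q, hg, hgs, hw, hq, hqc, hqw⟩ := Chow.exists_projective_modification hP
    (separated_of_isPullback sq hf1)
    ⟨locP_of_isPullback etLocal_lft X.property Y.property hT sq hf2.1, qcMor_of_isPullback sq hf2.2⟩
  haveI := hq
  haveI := hqc
  haveI : IsOpenImmersion q.toImage := Groth.L18.PBundle.isOpenImmersion_toImage q
  let Wb : Over S := Over.mk (q.imageι ≫ CohB1.ProjSpaceOver.toBase n T.left ≫ T.hom)
  let cb : Wb ⟶ T := Over.homMk (q.imageι ≫ CohB1.ProjSpaceOver.toBase n T.left) (Category.assoc _ _ _)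
  let jb : W ⟶ Wb := Over.homMk q.toImage (by
    show q.toImage ≫ q.imageι ≫ CohB1.ProjSpaceOver.toBase n T.left ≫ T.hom = W.hom
    rw [Scheme.Hom.toImage_imageι_assoc, reassoc_of% hqw]
    exact Over.w w)
  have hjc : jb ≫ cb = w := Over.OverMorphism.ext (by
    show q.toImage ≫ q.imageι ≫ CohB1.ProjSpaceOver.toBase n T.left = w.left
    rw [Scheme.Hom.toImage_imageι_assoc, hqw])
  have hfst : IsProperMor (pullback.fst f.hom ν) := isProperMor_of_repWith
    (repWith_mono (fun φ (_ : IsFinite φ) => inferInstanceAs (IsProper φ)) (repWith_of_isPullback sq.flip hνf))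
  refine ⟨⟨_, IsAlgSpace.yon_obj W⟩, ⟨_, IsAlgSpace.yon_obj Wb⟩, ObjectProperty.homMk (g ≫ pullback.fst f.hom ν),
    ObjectProperty.homMk ((yon S).map jb), ObjectProperty.homMk ((yon S).map cb ≫ ν), ObjectProperty.hom_ext _ ?_,
    isProperMor_comp (IsAlgSpace.yon_obj W) hP X.property hg hfst, ?_, repWith_map (g := jb) (inferInstanceAs (IsOpenImmersion q.toImage)),
    isProperMor_comp (IsAlgSpace.yon_obj Wb) hT Y.property (isProperMor_of_repWith ((repWith_yon_map_iff _ _).2
      (inferInstanceAs (IsProper (q.imageι ≫ CohB1.ProjSpaceOver.toBase n T.left)))))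
      (isProperMor_of_repWith (repWith_mono (fun φ (_ : IsFinite φ) => inferInstanceAs (IsProper φ)) hνf)),
    Y.property.representable_from_yon _⟩
  · show (yon S).map jb ≫ (yon S).map cb ≫ ν = (g ≫ pullback.fst f.hom ν) ≫ f.hom
    rw [← Functor.map_comp_assoc, hjc, hw, Category.assoc, Category.assoc, pullback.condition]
  · show Function.Surjective (Points.map (g ≫ pullback.fst f.hom ν))
    intro x
    obtain ⟨y, rfl⟩ := surjective_snd_of_isPullback sq.flip hνs x
    obtain ⟨z, hz⟩ := hgs y
    exact ⟨z, by rw [Points.map_comp, hz]⟩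

end Groth.Agent.S10656
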