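import Groth.Statements.S10657
import Groth.Agent.L23.Chow.ProjBase

set_option linter.style.haveILetI false
set_option backward.isDefEq.respectTransparency false
set_option backward.isDefEq.respectTransparency.types false

set_option autoImplicit false
universe u
open CategoryTheory CategoryTheory.Limits AlgebraicGeometry
open AlgSp
open Groth.L23

namespace Groth.Agent.S10657

/-- (a variant of Chow's lemma) for a separated morphism f : X ⟶ Y of finite type between algebraic
spaces over S with Y quasi-compact and separated, there are, for some n, an algebraic space X', a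
proper surjective morphism a : X' ⟶ X and a representable immersion of X' into projective n-space
over Y (the product of h applied to projective n-space over S with Y, in fppf sheaves) compatible
with the projections to Y. (The published statement asks Y to be separated in the absolute sense and
puts no condition on S; this row assumes S separated and Y separated over S, which together imply
it.) -/
theorem result {S : Scheme.{u}} [S.IsSeparated] {X Y : AlgSp.Space S} (f : X ⟶ Y)
    (hY1 : AlgSp.IsQuasiCompactSp Y.obj) (hY2 : AlgSp.IsSeparatedSp Y.obj)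
    (hf1 : AlgSp.IsSeparatedMor f.hom) (hf2 : AlgSp.IsFiniteTypeMor f.hom) :
    ∃ (n : ℕ) (X' : AlgSp.Space S) (a : X' ⟶ X)
      (b : X'.obj ⟶ (AlgSp.yon S).obj (Over.mk (CohB1.ProjSpaceOver.toBase n S)) ⨯ Y.obj),
      b ≫ prod.snd = (a ≫ f).hom ∧
        AlgSp.IsProperMor a.hom ∧ AlgSp.IsSurjectiveMor a.hom ∧ AlgSp.RepWith @IsImmersion b := by
  obtain ⟨T, ν, k, σ, hν, hνs, hσ, hσi, hTc, hTqs⟩ := Chow.exists_immersed_cover Y.property hY1 hY2
  haveI := hTc
  haveI := hTqs
  have hT := IsAlgSpace.yon_obj T
  have sq := IsPullback.of_hasPullback f.hom ν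
  have hP := isAlgSpace_of_isPullback Y.property.diag X.property hT sq
  obtain ⟨W, g, n, w, q, hg, hgs, hw, hq, -, hqw⟩ := Chow.exists_projective_modification hP
    (separated_of_isPullback sq hf1)
    ⟨locP_of_isPullback etLocal_lft X.property Y.property hT sq hf2.1, qcMor_of_isPullback sq hf2.2⟩
  haveI := hq
  obtain ⟨m, θ, hθ⟩ := Chow.exists_segre_map S n k
  let P₂ : Over S := Over.mk (CohB1.ProjSpaceOver.toBase n T.left ≫ T.hom)
  let pj : P₂ ⟶ T := Over.homMk (CohB1.ProjSpaceOver.toBase n T.left) rfl
  let pm : P₂ ⟶ Chow.PS n S := Over.homMk (Groth.L16.ProjSpace.overMap n T.hom)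
    (Groth.L16.ProjSpace.isPullback_overMap n T.hom).w
  let qq : W ⟶ P₂ := Over.homMk q (by
    show q ≫ CohB1.ProjSpaceOver.toBase n T.left ≫ T.hom = W.hom
    rw [reassoc_of% hqw]
    exact Over.w w)
  haveI := Chow.isIso_prodLift_yon (a := pm) (b := pj) (Groth.L16.ProjSpace.isPullback_overMap n T.hom)
  have hqq : qq ≫ pj = w := Over.OverMorphism.ext hqw
  let s₁ := (yon S).map qq ≫ prod.lift ((yon S).map pm) ((yon S).map pj)
  have hs₁ : RepWith @IsImmersion s₁ :=
    repWith_comp (repWith_map (g := qq) (inferInstanceAs (IsImmersion q))) (repWith_of_isIso _)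
  let s₂ := prod.map (𝟙 ((yon S).obj (Chow.PS n S))) σ
  have hs₂ : RepWith @IsImmersion s₂ := repWith_of_isPullback (Chow.isPullback_map_snd _ σ) hσi
  let s₃ := (prod.associator ((yon S).obj (Chow.PS n S)) ((yon S).obj (Chow.PS k S)) Y.obj).inv ≫ prod.map θ (𝟙 Y.obj)
  have hs₃ : RepWith @IsImmersion s₃ :=
    repWith_comp (repWith_of_isIso _) (repWith_of_isPullback (Chow.isPullback_map_fst _ θ) hθ)
  refine ⟨m, ⟨_, IsAlgSpace.yon_obj W⟩, ObjectProperty.homMk (g ≫ pullback.fst f.hom ν), s₁ ≫ s₂ ≫ s₃, ?_,
    isProperMor_comp (IsAlgSpace.yon_obj W) hP X.property hg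
      (isProperMor_of_isPullback hT Y.property X.property sq.flip hν), ?_,
    repWith_comp hs₁ (repWith_comp hs₂ hs₃)⟩
  · show (s₁ ≫ s₂ ≫ s₃) ≫ prod.snd = (g ≫ pullback.fst f.hom ν) ≫ f.hom
    simp only [s₁, s₂, s₃, Category.assoc, prod.associator_inv, prod.map_snd, prod.map_snd_assoc, prod.lift_snd,
      prod.lift_snd_assoc, Category.comp_id, hσ, pullback.condition]
    rw [← Functor.map_comp_assoc, hqq, hw, Category.assoc]
  · show Function.Surjective (Points.map (g ≫ pullback.fst f.hom ν))
    intro x
    obtain ⟨y, rfl⟩ := surjective_snd_of_isPullback sq.flip hνs x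
    obtain ⟨z, hz⟩ := hgs y
    exact ⟨z, by rw [Points.map_comp, hz]⟩

end Groth.Agent.S10657
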