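import Groth.Statements.S10658
import Groth.Agent.L23.Chow.SplitOff

set_option linter.style.haveILetI false
set_option backward.isDefEq.respectTransparency false
set_option backward.isDefEq.respectTransparency.types false

set_option autoImplicit false
universe u
open CategoryTheory CategoryTheory.Limits AlgebraicGeometry
open AlgSp
open Groth.L23

namespace Groth.Agent.S10658

/-- For a henselian pair (A, I), an algebraic space X which is separated and of finite type over Spec A
(structure morphism s to the terminal sheaf h_{Spec A}), X₀ = X ×_{Spec A} Spec (A/I) with inclusion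
i₀ : X₀ ⟶ X, and Y ⊂ X₀ an open and closed subspace which is proper over Spec (A/I), there is an
open and closed subspace W ⊂ X, proper over Spec A, whose base change to Spec (A/I) is Y: Y is the
pullback of W along i₀. -/
theorem result (A : Type u) [CommRing A] (I : Ideal A) [HenselianRing A I]
    {X X0 Y : AlgSp.Space (Spec (CommRingCat.of A))}
    (s : X.obj ⟶ (AlgSp.yon (Spec (CommRingCat.of A))).obj (Over.mk (𝟙 _)))
    (hs1 : AlgSp.IsSeparatedMor s) (hs2 : AlgSp.IsFiniteTypeMor s)
    (i0 : X0 ⟶ X)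
    (s0 : X0.obj ⟶ (AlgSp.yon (Spec (CommRingCat.of A))).obj
      (Over.mk (Spec.map (CommRingCat.ofHom (Ideal.Quotient.mk I)))))
    (hX0 : IsPullback i0.hom s0 s ((AlgSp.yon (Spec (CommRingCat.of A))).map
      (Over.homMk (Spec.map (CommRingCat.ofHom (Ideal.Quotient.mk I))) (Category.comp_id _) :
        Over.mk (Spec.map (CommRingCat.ofHom (Ideal.Quotient.mk I))) ⟶ Over.mk (𝟙 _))))
    (jY : Y ⟶ X0) (hY1 : AlgSp.RepWith @IsOpenImmersion jY.hom) (hY2 : AlgSp.RepWith @IsClosedImmersion jY.hom)
    (hY3 : AlgSp.IsProperMor (jY.hom ≫ s0)) :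
    ∃ (W : AlgSp.Space (Spec (CommRingCat.of A))) (w : W ⟶ X) (k : Y ⟶ W),
      AlgSp.RepWith @IsOpenImmersion w.hom ∧ AlgSp.RepWith @IsClosedImmersion w.hom ∧
        AlgSp.IsProperMor (w.hom ≫ s) ∧ IsPullback k.hom jY.hom w.hom i0.hom := by
  obtain ⟨O, V, h, hOc, hr, hp, hpre⟩ := Chow.exists_clopen_points I X.property X0.property Y.property s hs1 hs2
    i0.hom s0 hX0 jY.hom hY1 hY2 hY3
  have hj := repWith_openSubι (X := X.obj) O
  haveI := mono_of_repWith_openImmersion hj
  haveI := mono_of_repWith_openImmersion hY1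
  have hW := isAlgSpace_openSub O X.property
  have hjc := Chow.closedImmersion_openSubι O hOc
  obtain ⟨h', hh'⟩ := (exists_factor_iff hj h).2 (by rw [range_openSubι, hr])
  have hh's : Function.Surjective (Points.map h') := fun y => by
    have hy : Points.map (openSubι O) y ∈ Set.range (Points.map h) := by
      rw [hr, ← range_openSubι (X := X.obj) O]
      exact ⟨y, rfl⟩
    obtain ⟨v, hv⟩ := hy
    refine ⟨v, (isEmbedding_map_of_immersion X.property
      (repWith_mono (fun φ (_ : IsOpenImmersion φ) => inferInstanceAs (IsImmersion φ)) hj)).1.injective ?_⟩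
    rw [← hv, ← hh', Points.map_comp]
  have hwp : IsProperMor (openSubι O) :=
    isProperMor_of_repWith (repWith_mono (fun φ (_ : IsClosedImmersion φ) => inferInstanceAs (IsProper φ)) hjc)
  have hone := IsAlgSpace.yon_obj (Over.mk (𝟙 (Spec (CommRingCat.of A))))
  have hwsp : IsProperMor (openSubι O ≫ s) := ⟨separated_comp hwp.1 hs1,
    ⟨locP_comp etLocal_lft hW X.property hone hwp.2.1.1 hs2.1, qcMor_comp X.property hone hwp.2.1.2 hs2.2⟩,
    univClosed_of_surjective_comp (f := h') (by rw [reassoc_of% hh']; exact hp.2.2) hh's⟩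
  obtain ⟨k, hk⟩ := (exists_factor_iff hj (jY.hom ≫ i0.hom)).2 (by
    rw [range_openSubι]
    rintro x ⟨y, rfl⟩
    rw [Points.map_comp]
    have : Points.map jY.hom y ∈ Points.map i0.hom ⁻¹' (O : Set (Points X.obj)) := by
      rw [hpre]; exact ⟨y, rfl⟩
    exact this)
  refine ⟨⟨_, hW⟩, ObjectProperty.homMk (openSubι O), ObjectProperty.homMk k, hj, hjc, hwsp,
    IsPullback.mk' hk (fun T l l' _ h₂ => (cancel_mono jY.hom).1 h₂) (fun T a b w => ?_)⟩
  obtain ⟨l, hl⟩ := (exists_factor_iff hY1 b).2 (by
    rintro x ⟨y, rfl⟩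
    rw [← hpre]
    show Points.map i0.hom (Points.map b y) ∈ (O : Set (Points X.obj))
    rw [← range_openSubι (X := X.obj) O, ← Points.map_comp]
    refine ⟨Points.map a y, ?_⟩
    rw [← Points.map_comp]
    exact congrArg (fun f => Points.map f y) w)
  exact ⟨l, (cancel_mono (openSubι O)).1 (by
    show (l ≫ k) ≫ openSubι O = a ≫ openSubι O
    rw [Category.assoc, hk, reassoc_of% hl]
    exact w.symm), hl⟩

end Groth.Agent.S10658
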