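import Groth.Statements.S10659
import Groth.Agent.L23.LocP

set_option autoImplicit false
universe u
open CategoryTheory CategoryTheory.Limits AlgebraicGeometry
open AlgSp

set_option backward.isDefEq.respectTransparency false
set_option backward.isDefEq.respectTransparency.types false

namespace Groth.Agent.S10659

/-- For a property P of morphisms of schemes that is etale local on the target (local for the etale
precoverage) and a representable morphism f : X ⟶ Y of algebraic spaces over S: if for one scheme V
with a representable etale surjective b : h_V ⟶ Y and one pullback square of f along b with corner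
h_W the projection W ⟶ V has P, then f has P etale locally on the target in the representable sense,
i.e. every such projection along every etale h_V ⟶ Y has P. (The published statement also asserts
the converse direction and that, for X and Y representable, the condition is equivalent to f having
P; this row states only that one surjective etale chart suffices.) -/
theorem result {S : Scheme.{u}} (P : MorphismProperty Scheme.{u}) [P.IsLocalAtTarget Scheme.etalePrecoverage]
    {X Y : AlgSp.Space S} (f : X ⟶ Y) (hf : AlgSp.Representable f.hom)
    {V W : Over S} (b : (AlgSp.yon S).obj V ⟶ Y.obj) (hb1 : AlgSp.RepWith @Etale b) (hb2 : AlgSp.RepWith @Surjective b)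
    (fst : (AlgSp.yon S).obj W ⟶ X.obj) (snd : W ⟶ V)
    (sq : IsPullback fst ((AlgSp.yon S).map snd) f.hom b) (hP : P snd.left) :
    AlgSp.RepLocT P f.hom := by
  refine ⟨hf, fun V' W' b' fst' snd' hb' sq' => ?_⟩
  obtain ⟨T, p, q, sqT⟩ := Groth.L23.exists_isPullback_of_representable hb1.1 b'
  have hp : Etale p.left := Groth.L23.repWith_prop hb' sqT.flip
  have hq : Etale q.left := Groth.L23.repWith_prop hb1 sqT
  have hqs : Surjective q.left := Groth.L23.repWith_prop hb2 sqT
  have hcover : ∀ {A B : Scheme.{u}} (φ : A ⟶ B), Etale φ →
      Presieve.ofArrows (fun i : Option PUnit.{u + 1} => i.elim B fun _ => A)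
        (fun i => match i with | none => 𝟙 B | some _ => φ) ∈ Scheme.etalePrecoverage B := fun {A B} φ hφ =>
    (Scheme.ofArrows_mem_precoverage_iff _).2 ⟨fun x => ⟨none, x, rfl⟩, fun i => match i with
      | none => inferInstanceAs (Etale (𝟙 B))
      | some _ => hφ⟩
  have h1 : P (pullback.snd snd.left p.left) :=
    MorphismProperty.IsLocalAtTarget.pullbackSnd (hcover p.left hp) (Presieve.ofArrows.mk (some PUnit.unit)) hP
  have e : IsPullback (pullback.fst snd p) (pullback.snd snd p) snd p := IsPullback.of_hasPullback snd p
  have e' : IsPullback (pullback.fst snd' q) (pullback.snd snd' q) snd' q := IsPullback.of_hasPullback snd' q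
  have sA := (e.map (AlgSp.yon S)).paste_horiz sq
  have sB := (e'.map (AlgSp.yon S)).paste_horiz sq'
  rw [sqT.w] at sA
  let θ := sA.isoIsPullback _ _ sB
  obtain ⟨i, hi⟩ := (AlgSp.yon S).map_surjective θ.hom
  have : IsIso i := by
    have : IsIso ((AlgSp.yon S).map i) := hi ▸ inferInstance
    exact isIso_of_reflects_iso i (AlgSp.yon S)
  have hi₂ : i ≫ pullback.snd snd' q = pullback.snd snd p := (AlgSp.yon S).map_injective (by
    rw [(AlgSp.yon S).map_comp, hi]
    exact IsPullback.isoIsPullback_hom_snd _ _ _ _)
  have : P.RespectsIso := inferInstance
  have h2 : P (pullback.snd snd p).left := by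
    have h := (e.map (Over.forget S)).isoPullback_hom_snd
    change _ = (pullback.snd snd p).left at h
    rw [← h, P.cancel_left_of_respectsIso]
    exact h1
  have h3 : P (pullback.snd snd' q).left := by
    rw [← hi₂, Over.comp_left, P.cancel_left_of_respectsIso] at h2
    exact h2
  have hR : Presieve.singleton q.left ∈ Scheme.etalePrecoverage V'.left :=
    (Scheme.singleton_mem_precoverage_iff (P := @Etale) q.left).2 ⟨hqs.surj, hq⟩
  refine MorphismProperty.IsLocalAtTarget.of_forall_pullbackSnd hR fun {U g} _ hg => ?_
  cases hg
  have := (e'.map (Over.forget S)).isoPullback_hom_snd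
  change _ = (pullback.snd snd' q).left at this
  rw [← this, P.cancel_left_of_respectsIso] at h3
  exact h3

end Groth.Agent.S10659
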