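import Groth.Statements.S10662
import Groth.Agent.L23.RegImmEt
import Groth.Agent.L23.NormProps
-- import your own Groth.Agent.* helpers here

set_option autoImplicit false
universe u
open CategoryTheory CategoryTheory.Limits AlgebraicGeometry
open AlgSp

set_option backward.isDefEq.respectTransparency.types false
set_option linter.style.haveILetI false

namespace Groth.Agent.S10662

open Groth.L23

/-- Let k be one of the kinds Koszul-regular, H_1-regular, quasi-regular; let i : Z ⟶ X be a regular
immersion of algebraic spaces over S of kind k and g : X' ⟶ X a flat morphism of algebraic spaces.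
Then the base change Z ×_X X' ⟶ X' (any pullback square of algebraic spaces) is a regular immersion
of kind k. -/
theorem result {S : Scheme.{u}} (k : RegImm.Kind) (hk : k = RegImm.Kind.koszul ∨ k = RegImm.Kind.h1 ∨ k = RegImm.Kind.quasi)
    {Z X X' : AlgSp.Space S} (i : Z ⟶ X) (g : X' ⟶ X)
    (hi : AlgSp.IsRegImmMor k i.hom) (hg : AlgSp.LocP @Flat g.hom)
    (P : AlgSp.Space S) (fst : P ⟶ Z) (i' : P ⟶ X') (sq : IsPullback fst.hom i'.hom i.hom g.hom) :
    AlgSp.IsRegImmMor k i'.hom := by
  refine ⟨(MorphismProperty.of_isPullback (P := AlgSp.Representable) sq hi.1), fun V W b fst snd hb sqW => ?_⟩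
  obtain ⟨U, p, hp, hps⟩ := X.property.atlas
  obtain ⟨c, hc⟩ := (AlgSp.yon S).map_surjective (hp.1.fst (b ≫ g.hom))
  have sqU := hp.1.isPullback (b ≫ g.hom)
  rw [← hc] at sqU
  have het : Etale (hp.1.snd (b ≫ g.hom)).left := hp.2 (b ≫ g.hom) _ _ (hp.1.isPullback (b ≫ g.hom))
  have hsu : Surjective (hp.1.snd (b ≫ g.hom)).left := hps.2 (b ≫ g.hom) _ _ (hp.1.isPullback (b ≫ g.hom))
  haveI := het
  haveI := hsu
  haveI : Flat c.left := hg _ p c (repWith_comp (repWith_map het) hb) hp (by rw [Category.assoc]; exact sqU.w.symm)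
  have sq₀ := hi.1.isPullback p
  have hreg : RegImm.IsRegularImmersion k (hi.1.snd p).left := hi.2 p _ _ hp sq₀
  have sP := IsPullback.of_hasPullback (hi.1.snd p) c
  have big : IsPullback ((AlgSp.yon S).map (pullback.fst (hi.1.snd p) c) ≫ hi.1.fst p)
      ((AlgSp.yon S).map (pullback.snd (hi.1.snd p) c)) i.hom
      ((AlgSp.yon S).map (hp.1.snd (b ≫ g.hom)) ≫ b ≫ g.hom) := by
    rw [← sqU.w]
    exact (sP.map (AlgSp.yon S)).paste_horiz sq₀
  have bigW := sqW.paste_horiz sq
  obtain ⟨k', hk₁, hk₂⟩ := bigW.exists_lift ((AlgSp.yon S).map (pullback.fst (hi.1.snd p) c) ≫ hi.1.fst p)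
    ((AlgSp.yon S).map (pullback.snd (hi.1.snd p) c) ≫ (AlgSp.yon S).map (hp.1.snd (b ≫ g.hom)))
    (by rw [Category.assoc]; exact big.w)
  obtain ⟨k'', rfl⟩ := (AlgSp.yon S).map_surjective k'
  rw [← hk₁] at big
  have small := IsPullback.of_right big hk₂ bigW
  have hS := (IsPullback.of_map (AlgSp.yon S) ((AlgSp.yon S).map_injective (by simpa using small.w)) small).map
    (Over.forget S)
  have hregP := Groth.L03.RegImmFlat.isRegularImmersion_baseChange k (hi.1.snd p).left c.left _ _
    (sP.map (Over.forget S)) hreg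
  have hregV : RegImm.IsRegularImmersion k (pullback.snd snd.left (hp.1.snd (b ≫ g.hom)).left) :=
    Groth.L03.RegImmFlat.isRegularImmersion_baseChange k (pullback.snd (hi.1.snd p) c).left (𝟙 _) _
      hS.isoPullback.inv (IsPullback.of_horiz_isIso ⟨by rw [Category.comp_id]; exact hS.isoPullback_inv_snd⟩) hregP
  haveI := descendsAlong_isImmersion_fppf.{u}
  haveI : IsImmersion snd.left := MorphismProperty.of_isPullback_of_descendsAlong
    (Q := @Surjective ⊓ @Flat ⊓ @LocallyOfFinitePresentation)
    (IsPullback.of_hasPullback snd.left (hp.1.snd (b ≫ g.hom)).left).flip ⟨⟨hsu, inferInstance⟩, inferInstance⟩ hregV.1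
  exact RegImmEt.descendOpen snd.left (hp.1.snd (b ≫ g.hom)).left
    (hp.1.snd (b ≫ g.hom)).left.isOpenMap k (by rcases hk with rfl | rfl | rfl <;> simp) hregV

end Groth.Agent.S10662
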