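import Groth.Statements.S10664
import Groth.Agent.L09.LciMor.Basic
import Groth.Agent.L23.EtSmLocal
import Groth.Agent.S8656

set_option autoImplicit false
universe u
open CategoryTheory CategoryTheory.Limits AlgebraicGeometry
open AlgSp

set_option backward.isDefEq.respectTransparency false
set_option backward.isDefEq.respectTransparency.types false

namespace Groth.Agent.S10664

/-- For a local complete intersection (Koszul) morphism f : X ⟶ Y of algebraic spaces over S, a smooth g
: P ⟶ Y, an etale e : U ⟶ X and a representable immersion i : U ⟶ P with i ≫ g = e ≫ f, the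
immersion i is Koszul-regular as an immersion of algebraic spaces. -/
theorem result {S : Scheme.{u}} {X Y P U : AlgSp.Space S} (f : X ⟶ Y) (g : P ⟶ Y) (e : U ⟶ X) (i : U ⟶ P)
    (hc : i ≫ g = e ≫ f) (hf : AlgSp.IsLCIMor f.hom) (hg : AlgSp.LocP @Smooth g.hom)
    (he : AlgSp.IsEtaleMor e.hom) (hi : AlgSp.RepWith @IsImmersion i.hom) :
    AlgSp.IsRegImmMor RegImm.Kind.koszul i.hom := by
  refine ⟨hi.1, fun V W b fst snd hb sq => ?_⟩
  have hE := Groth.L23.etLocal_etale.{u}
  have hV : AlgSp.IsAlgSpace ((AlgSp.yon S).obj V) := AlgSp.IsAlgSpace.yon_obj V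
  have hW : AlgSp.IsAlgSpace ((AlgSp.yon S).obj W) := AlgSp.IsAlgSpace.yon_obj W
  have hsm : ∀ {A B : AlgSp.Sp S} {φ : A ⟶ B}, AlgSp.RepWith @Etale φ → AlgSp.LocP @Smooth φ :=
    fun h => Groth.L24.LocQ.locP_etale_smooth h
  have he' : AlgSp.IsLCIMor e.hom := Groth.L09.LciMor.locP_lci_of_smooth
    (Groth.L23.locP_smooth_of_isEtaleMor U.property X.property he)
  have hfst : AlgSp.IsLCIMor fst := Groth.L09.LciMor.locP_lci_of_smooth
    (hsm (Groth.L23.repWith_of_isPullback sq.flip hb))
  have h1 : AlgSp.IsLCIMor (fst ≫ e.hom ≫ f.hom) :=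
    Groth.L09.LciMor.locP_lci_comp hW U.property Y.property hfst
      (Groth.L09.LciMor.locP_lci_comp U.property X.property Y.property he' hf)
  have w : ((AlgSp.yon S).map snd) ≫ b ≫ g.hom = fst ≫ e.hom ≫ f.hom := by
    rw [← Category.assoc, ← sq.w, Category.assoc, show i.hom ≫ g.hom = e.hom ≫ f.hom from
      congrArg (fun φ => φ.hom) hc]
  have h2 : AlgSp.LocP @Smooth (b ≫ g.hom) :=
    Groth.L23.locP_comp Groth.L23.etLocal_smooth hV P.property Y.property (hsm hb) hg
  have h3 : AlgSp.lci snd.left := AlgSp.locP_yon_map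
    (Groth.L09.LciMor.locP_lci_cancel hW hV Y.property (w.symm ▸ h1) h2)
  have : IsImmersion snd.left := hi.2 b fst snd sq
  exact Groth.Agent.S8656.result snd.left h3 (𝟙 _) snd.left (Category.comp_id _)

end Groth.Agent.S10664
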