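import Groth.Statements.S10665
import Groth.Agent.L09.LciMor.Basic

set_option autoImplicit false
universe u
open CategoryTheory CategoryTheory.Limits AlgebraicGeometry
open AlgSp

set_option backward.isDefEq.respectTransparency false
set_option backward.isDefEq.respectTransparency.types false

namespace Groth.Agent.S10665

/-- A Koszul-regular immersion between algebraic spaces over S (representable, Koszul-regular immersion
on every etale scheme chart of the target) is a local complete intersection morphism (Koszul at
every point, etale locally on source and target). -/
theorem result {S : Scheme.{u}} {X Y : AlgSp.Space S} (i : X ⟶ Y) (hi : AlgSp.IsRegImmMor RegImm.Kind.koszul i.hom) :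
    AlgSp.IsLCIMor i.hom := by
  obtain ⟨V, b, hb, hbs⟩ := Y.property.atlas
  have sq := hi.1.isPullback b
  refine Groth.L09.LciMor.locP_lci_of_chart (h := hi.1.snd b) (Groth.L23.repWith_of_isPullback sq.flip hb)
    (Groth.L23.repWith_of_isPullback sq.flip hbs) hb sq.w ?_
  exact fun x => Groth.L07.RegImmAt.isKoszulAt_of_regularImmersion (hi.1.snd b).left _ (Or.inr rfl)
    (hi.2 b _ _ hb sq) x

end Groth.Agent.S10665
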