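import Groth.Statements.S10669
import Groth.Agent.L23.DVRReduced

set_option autoImplicit false
set_option backward.isDefEq.respectTransparency.types false
set_option linter.style.haveILetI false
universe u
open CategoryTheory CategoryTheory.Limits AlgebraicGeometry
open AlgSp

namespace Groth.Agent.S10669

/-- For a discrete valuation ring R with residue field κ and fraction field K and an algebraic space X
over Spec R whose structure morphism s (to the terminal sheaf h_{Spec R}) is flat and proper: if the
special fibre X ×_{Spec R} Spec κ is reduced (some etale surjective scheme chart is reduced), then X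
is reduced and so is the generic fibre X ×_{Spec R} Spec K. -/
theorem result (R : Type u) [CommRing R] [IsDomain R] [IsDiscreteValuationRing R]
    {X : AlgSp.Space (Spec (CommRingCat.of R))}
    (s : X.obj ⟶ (AlgSp.yon (Spec (CommRingCat.of R))).obj (Over.mk (𝟙 _)))
    (hs1 : AlgSp.IsProperMor s) (hs2 : AlgSp.LocP @Flat s)
    (h0 : ∀ (X0 : AlgSp.Sp (Spec (CommRingCat.of R))) (fst : X0 ⟶ X.obj)
      (snd : X0 ⟶ (AlgSp.yon (Spec (CommRingCat.of R))).obj
        (Over.mk (Spec.map (CommRingCat.ofHom (IsLocalRing.residue R))))),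
      IsPullback fst snd s ((AlgSp.yon (Spec (CommRingCat.of R))).map
        (Over.homMk (Spec.map (CommRingCat.ofHom (IsLocalRing.residue R))) (Category.comp_id _) :
          Over.mk (Spec.map (CommRingCat.ofHom (IsLocalRing.residue R))) ⟶ Over.mk (𝟙 _))) →
      AlgSp.EtaleLocally (fun U => IsReduced U) X0) :
    AlgSp.EtaleLocally (fun U => IsReduced U) X.obj ∧
      ∀ (Xη : AlgSp.Sp (Spec (CommRingCat.of R))) (fst : Xη ⟶ X.obj)
        (snd : Xη ⟶ (AlgSp.yon (Spec (CommRingCat.of R))).obj
          (Over.mk (Spec.map (CommRingCat.ofHom (algebraMap R (FractionRing R)))))),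
        IsPullback fst snd s ((AlgSp.yon (Spec (CommRingCat.of R))).map
          (Over.homMk (Spec.map (CommRingCat.ofHom (algebraMap R (FractionRing R)))) (Category.comp_id _) :
            Over.mk (Spec.map (CommRingCat.ofHom (algebraMap R (FractionRing R)))) ⟶ Over.mk (𝟙 _))) →
        AlgSp.EtaleLocally (fun U => IsReduced U) Xη := by
  let one : Over (Spec (CommRingCat.of R)) := Over.mk (𝟙 _)
  let res : Over.mk (Spec.map (CommRingCat.ofHom (IsLocalRing.residue R))) ⟶ one :=
    Over.homMk (Spec.map (CommRingCat.ofHom (IsLocalRing.residue R))) (Category.comp_id _)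
  obtain ⟨U, a, ha, has, hU⟩ := Groth.L23.DVRRed.reduced_of_special X.property s hs1 hs2
    (IsPullback.of_hasPullback s ((AlgSp.yon _).map res))
    (h0 _ _ _ (IsPullback.of_hasPullback s ((AlgSp.yon _).map res)))
  refine ⟨⟨U, a, ha, has, hU⟩, fun Xη fst snd sq => ?_⟩
  have := hU
  let gen : Over.mk (Spec.map (CommRingCat.ofHom (algebraMap R (FractionRing R)))) ⟶ one :=
    Over.homMk (Spec.map (CommRingCat.ofHom (algebraMap R (FractionRing R)))) (Category.comp_id _)
  let t : U ⟶ one := Over.homMk U.hom (Category.comp_id _)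
  let Uη : Over (Spec (CommRingCat.of R)) :=
    Over.mk (pullback.fst U.hom (Spec.map (CommRingCat.ofHom (algebraMap R (FractionRing R)))) ≫ U.hom)
  let q₁ : Uη ⟶ U := Over.homMk (pullback.fst _ _) rfl
  let q₂ : Uη ⟶ Over.mk (Spec.map (CommRingCat.ofHom (algebraMap R (FractionRing R)))) :=
    Over.homMk (pullback.snd _ _) pullback.condition.symm
  have hQ : IsPullback q₁ q₂ t gen :=
    IsPullback.of_map (Over.forget _) (Over.OverMorphism.ext pullback.condition) (IsPullback.of_hasPullback _ _)
  obtain ⟨k, hk⟩ := (AlgSp.yon _).map_surjective (a ≫ s)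
  have hkt : a ≫ s = (AlgSp.yon _).map t := by
    rw [← hk]; exact congrArg _ (Over.OverMorphism.ext ((Category.comp_id _).symm.trans (Over.w k)))
  let c : (AlgSp.yon _).obj Uη ⟶ Xη := sq.lift ((AlgSp.yon _).map q₁ ≫ a) ((AlgSp.yon _).map q₂) (by
    rw [Category.assoc, hkt, ← Functor.map_comp, ← Functor.map_comp, hQ.w])
  have top : IsPullback ((AlgSp.yon _).map q₁) c a fst := by
    refine (IsPullback.of_right ?_ (sq.lift_fst _ _ _) sq.flip).flip
    rw [sq.lift_snd, hkt]
    exact (hQ.map (AlgSp.yon _)).flip
  have : IsOpenImmersion (pullback.fst U.hom (Spec.map (CommRingCat.ofHom (algebraMap R (FractionRing R))))) :=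
    MorphismProperty.pullback_fst _ _ Groth.L23.DVRRed.isOpenImmersion_generic
  exact ⟨Uη, c, Groth.L23.repWith_of_isPullback top ha, Groth.L23.repWith_of_isPullback top has,
    isReduced_of_isOpenImmersion (pullback.fst U.hom (Spec.map (CommRingCat.ofHom (algebraMap R (FractionRing R)))))⟩

end Groth.Agent.S10669
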