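import Groth.Statements.S10670
import Groth.Agent.L23.GeomConn

set_option autoImplicit false
set_option backward.isDefEq.respectTransparency.types false
set_option linter.style.haveILetI false
universe u
open CategoryTheory CategoryTheory.Limits AlgebraicGeometry
open AlgSp

namespace Groth.Agent.S10670

theorem card_eq {S : Scheme.{u}} {Z Y : AlgSp.Space S} (φ : Z ⟶ Y) {K L : Type u} [Field K] [Field L] {σ : Spec (CommRingCat.of K) ⟶ S}
    {σK : Spec (CommRingCat.of L) ⟶ S} [IsSepClosed K] (m : (Over.mk σK : Over S) ⟶ Over.mk σ) (x : (yon S).obj (Over.mk σ) ⟶ Y.obj)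
    {F : Sp S} {a : F ⟶ Z.obj} {b : F ⟶ (yon S).obj (Over.mk σ)} (h : IsPullback a b φ.hom x) :
    ENat.card (_root_.ConnectedComponents (Points (pullback φ.hom ((yon S).map m ≫ x)))) =
      ENat.card (_root_.ConnectedComponents (Points F)) := by
  have hF : IsAlgSpace F :=
    Groth.L23.isAlgSpace_of_isPullback Y.property.diag Z.property (IsAlgSpace.yon_obj _) h
  let P := pullback φ.hom ((yon S).map m ≫ x)
  let l : P ⟶ F := h.lift (pullback.fst _ _) (pullback.snd _ _ ≫ (yon S).map m)
    (by rw [Category.assoc]; exact pullback.condition)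
  have sq : IsPullback l (pullback.snd φ.hom ((yon S).map m ≫ x)) b ((yon S).map m) :=
    IsPullback.of_right (by rw [h.lift_fst]; exact IsPullback.of_hasPullback _ _) (h.lift_snd _ _ _) h
  exact ENat.card_congr (Equiv.ofBijective _ (Groth.L23.GConn.bijective_components hF sq.flip
    (Groth.L23.Gpd.isUnivOpenMor_field (IsAlgSpace.yon_obj _) σ (Iso.refl _) _)
    fun q => Groth.L23.GConn.connected_fibre ((yon S).map m) (q.toHom ≫ b)))

/-- For morphisms f : X ⟶ Y and g : Y' ⟶ Y between algebraic spaces over S, f' : X' ⟶ Y' the base change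
of f along g, an algebraically closed field point k' of Y' and an algebraically closed field point k
of Y whose class in |Y| is the image of the class of k', the fibres X'_{k'} and X_k (pullbacks in
fppf sheaves) have the same number of connected components of their spaces of points, counted in ℕ∞.
With g the identity this says the number of geometric connected components of the fibre over a point
of |Y| is well defined. -/
theorem result {S : Scheme.{u}} {X Y X' Y' : AlgSp.Space S} (f : X ⟶ Y) (g : Y' ⟶ Y) (gX : X' ⟶ X) (f' : X' ⟶ Y')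
    (hsq : IsPullback gX.hom f'.hom f.hom g.hom)
    (k' : AlgSp.FieldPt Y'.obj) (hk' : k'.IsGeometric) (k : AlgSp.FieldPt Y.obj) (hk : k.IsGeometric)
    (hkk : AlgSp.Points.mk k = AlgSp.Points.map g.hom (AlgSp.Points.mk k'))
    (Xk' : AlgSp.Sp S) (a' : Xk' ⟶ X'.obj) (b' : Xk' ⟶ (AlgSp.yon S).obj k'.pt) (h' : IsPullback a' b' f'.hom k'.toHom)
    (Xk : AlgSp.Sp S) (a : Xk ⟶ X.obj) (b : Xk ⟶ (AlgSp.yon S).obj k.pt) (h : IsPullback a b f.hom k.toHom) :
    ENat.card (_root_.ConnectedComponents (AlgSp.Points Xk')) = ENat.card (_root_.ConnectedComponents (AlgSp.Points Xk)) := by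
  have hkk' : FieldPt.Rel k (k'.map g.hom) := Points.mk_eq_mk_iff.1 (by rw [hkk]; rfl)
  obtain ⟨Ω, _, w, φ₁, φ₂, hrel⟩ := hkk'
  have he : (yon S).map φ₁ ≫ k.toHom = (yon S).map φ₂ ≫ (k'.toHom ≫ g.hom) := by
    refine Eq.trans ?_ (congrArg (fun t => (yon S).map φ₂ ≫ t) (FieldPt.toHom_map g.hom k'))
    apply (J S).uliftYonedaEquiv.injective
    erw [← GrothendieckTopology.uliftYonedaEquiv_naturality, ← GrothendieckTopology.uliftYonedaEquiv_naturality]
    rw [FieldPt.uliftYonedaEquiv_toHom, FieldPt.uliftYonedaEquiv_toHom]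
    exact hrel
  have : IsAlgClosed k.K := hk
  have : IsAlgClosed k'.K := hk'
  have sq' : IsPullback (a' ≫ gX.hom) b' f.hom (k'.toHom ≫ g.hom) := h'.paste_horiz hsq
  rw [← card_eq (Z := X) (Y := Y) f φ₁ k.toHom h,
    ← card_eq (Z := X) (Y := Y) f (K := k'.K) (σ := k'.str) φ₂
      (k'.toHom ≫ g.hom) sq']
  exact congrArg (fun m => ENat.card (_root_.ConnectedComponents (Points (pullback f.hom m)))) he.symm


end Groth.Agent.S10670
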