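import Groth.Statements.S10676
import Groth.Agent.L23.QFMulti
import Groth.Agent.S10389

set_option autoImplicit false
set_option backward.isDefEq.respectTransparency.types false
universe u
open CategoryTheory CategoryTheory.Limits AlgebraicGeometry
open AlgSp

namespace Groth.Agent.S10676

/-- For a separated morphism f : X ⟶ Y of algebraic spaces over S which is locally of finite type, a
point y of |Y| and a finite set xs of points of |X| mapping to y at each of which f is quasi-finite
(some etale chart diagram through the point has top arrow locally quasi-finite and locally of finite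
type on an open neighbourhood), assuming moreover that f is quasi-compact or Y is decent: there are
an etale morphism of algebraic spaces a : U ⟶ Y and a point u of |U| over y such that for the base
change P = U ×_Y X there is an open and closed subspace V ⊂ P, finite over U, such that every point
of |V| over u maps into xs and no point of |P| outside |V| lying over u maps into xs. -/
theorem result {S : Scheme.{u}} {X Y : AlgSp.Space S} (f : X ⟶ Y) (y : AlgSp.Points Y.obj)
    (xs : Finset (AlgSp.Points X.obj)) (hxs : ∀ x ∈ xs, AlgSp.Points.map f.hom x = y)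
    (hf1 : AlgSp.LocP @LocallyOfFiniteType f.hom) (hf2 : AlgSp.IsSeparatedMor f.hom)
    (hf3 : ∀ x ∈ xs, AlgSp.HasAtMor (fun U _ h u => ∃ W : U.Opens, u ∈ W ∧ LocallyQuasiFinite (W.ι ≫ h) ∧ LocallyOfFiniteType (W.ι ≫ h)) f.hom x)
    (hf4 : AlgSp.IsQuasiCompactMor f.hom ∨ AlgSp.IsDecent Y.obj) :
    ∃ (U : AlgSp.Space S) (a : U ⟶ Y) (u : AlgSp.Points U.obj), AlgSp.IsEtaleMor a.hom ∧ AlgSp.Points.map a.hom u = y ∧
      ∀ (P : AlgSp.Space S) (prX : P ⟶ X) (prU : P ⟶ U), IsPullback prX.hom prU.hom f.hom a.hom →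
        ∃ (V : AlgSp.Space S) (jV : V ⟶ P), AlgSp.RepWith @IsOpenImmersion jV.hom ∧ AlgSp.RepWith @IsClosedImmersion jV.hom ∧
          AlgSp.IsFiniteMor (jV ≫ prU).hom ∧
          (∀ v : AlgSp.Points V.obj, AlgSp.Points.map (jV ≫ prU).hom v = u → AlgSp.Points.map (jV ≫ prX).hom v ∈ xs) ∧
          ∀ w : AlgSp.Points P.obj, w ∉ Set.range (AlgSp.Points.map jV.hom) → AlgSp.Points.map prU.hom w = u →
            AlgSp.Points.map prX.hom w ∉ xs := by
  obtain ⟨V₀, b, hV₀, hb, ⟨v, rfl⟩⟩ := Groth.L23.exists_affine_etale_nhd Y.property y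
  let Ω := AlgebraicClosure (V₀.left.residueField v)
  let vbar : Spec (CommRingCat.of Ω) ⟶ V₀.left :=
    Spec.map (CommRingCat.ofHom (algebraMap (V₀.left.residueField v) Ω)) ≫ V₀.left.fromSpecResidueField v
  have hvbar : ∀ s, vbar s = v := fun s => by
    show (Spec.map _ ≫ V₀.left.fromSpecResidueField v) s = v
    rw [Scheme.Hom.comp_apply]
    exact Scheme.fromSpecResidueField_apply _ _
  let w := vbar ≫ V₀.hom
  let t : ↥(Spec (CommRingCat.of Ω)) := IsLocalRing.closedPoint Ω
  let vb : Over.mk w ⟶ V₀ := Over.homMk vbar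
  let yb := (AlgSp.yon S).map vb ≫ b
  have hyb : AlgSp.Points.map yb (AlgSp.Points.ofScheme (Over.mk w) t) = AlgSp.Points.ofPt b v := by
    rw [← AlgSp.Points.ofPt_eq_map_ofScheme, Groth.L23.ofPt_comp]
    exact congr_arg _ (hvbar t)
  have hK := AlgSp.IsAlgSpace.yon_obj (Over.mk w)
  have syb := IsPullback.of_hasPullback f.hom yb
  have hsub : ∀ s : AlgSp.Points ((AlgSp.yon S).obj (Over.mk w)), s = AlgSp.Points.ofScheme (Over.mk w) t := fun s => by
    obtain ⟨s, rfl⟩ := (AlgSp.Points.schemeEquiv (Over.mk w)).surjective s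
    exact congr_arg (AlgSp.Points.schemeEquiv (Over.mk w)) (Subsingleton.elim (α := PrimeSpectrum Ω) s t)
  have hfin : {ξ | AlgSp.Points.map (pullback.fst f.hom yb) ξ ∈ (xs : Set (AlgSp.Points X.obj))}.Finite := by
    rcases hf4 with hqc | hdec
    · refine (Groth.L23.QFL.finite_qf_over hK (f := pullback.snd f.hom yb)
        (Groth.L23.locP_of_isPullback Groth.L23.etLocal_lft X.property Y.property hK syb hf1)
        (fun A A' hA hqc' g' fst snd sq => hqc hA hqc' _ _ snd (sq.paste_horiz syb))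
        (AlgSp.Points.ofScheme (Over.mk w) t)).subset fun ξ hξ => ⟨hsub _, ?_⟩
      exact Groth.L23.QFL.hasAtMor_of_isPullback hK syb (hf3 _ (Finset.mem_coe.1 hξ))
    · obtain ⟨p, hp, hmono, -⟩ := hdec (AlgSp.Points.ofPt b v)
      refine (xs.finite_toSet.biUnion (t := fun x => {ξ | AlgSp.Points.map (pullback.fst f.hom yb) ξ = x}) fun x hx => ?_).subset
        fun ξ hξ => Set.mem_biUnion hξ rfl
      refine (Groth.Agent.S10389.result (X := ⟨_, hK⟩) (Y := Y) (Z := X)
        (W := ⟨pullback f.hom yb, Groth.L23.isAlgSpace_of_isPullback Y.property.diag X.property hK syb⟩)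
        (ObjectProperty.homMk yb) f (ObjectProperty.homMk (pullback.snd f.hom yb))
        (ObjectProperty.homMk (pullback.fst f.hom yb)) syb.flip (AlgSp.Points.ofScheme (Over.mk w) t) x
        (hyb.trans (hxs x hx).symm) ⟨p, hp.trans (hxs x hx).symm, hmono⟩ (hf3 x hx)).subset fun ξ hξ => ⟨hsub _, hξ⟩
  obtain ⟨U, aU, u, haU, hu, H⟩ := Groth.L23.QFL.exists_split_multi X.property Y.property hf2 hf1
    (xs : Set (AlgSp.Points X.obj)) (fun x hx => hf3 x hx) yb b hb vb rfl hfin
  refine ⟨⟨_, AlgSp.IsAlgSpace.yon_obj U⟩, ObjectProperty.homMk aU, AlgSp.Points.ofScheme U u,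
    (Groth.L23.isEtaleMor_iff_locP (AlgSp.IsAlgSpace.yon_obj U) Y.property aU).2
      (Groth.L23.locP_of_repWith Groth.L23.etLocal_etale haU), ?_, fun P prX prU sP => ?_⟩
  · show AlgSp.Points.map aU (AlgSp.Points.ofScheme U u) = _
    rw [← AlgSp.Points.ofPt_eq_map_ofScheme, hu, AlgSp.Points.ofPt_eq_map_ofScheme yb]
    exact hyb
  · obtain ⟨W, hc, hfi, h₁, h₂⟩ := H P.obj prX.hom prU.hom sP
    exact ⟨⟨Groth.L23.openSub W, Groth.L23.isAlgSpace_openSub W P.property⟩,
      ObjectProperty.homMk (Groth.L23.openSubι W), Groth.L23.repWith_openSubι W, hc, hfi,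
      fun v hv => Finset.mem_coe.1 (h₁ v hv), fun p hp hpu hpx => h₂ p hp hpu (Finset.mem_coe.2 hpx)⟩


end Groth.Agent.S10676
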