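import Groth.Statements.S10677
import Groth.Agent.L23.QFSplit
import Groth.Agent.L23.MorCalc
import Groth.Agent.L23.AffineMor

set_option autoImplicit false
set_option backward.isDefEq.respectTransparency.types false
universe u
open CategoryTheory CategoryTheory.Limits AlgebraicGeometry
open AlgSp

namespace Groth.Agent.S10677

/-- For a separated morphism f : X ⟶ Y of algebraic spaces over S which is locally of finite type and a
point x of |X| with image y at which f is quasi-finite (some etale chart diagram through x has top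
arrow locally quasi-finite and locally of finite type on an open neighbourhood), there are an etale
morphism a : U ⟶ Y and a point u of |U| over y such that for the base change P = U ×_Y X there is an
open and closed subspace V ⊂ P, finite over U, containing a point mapping to x in |X| and to u in
|U|. -/
theorem result {S : Scheme.{u}} {X Y : AlgSp.Space S} (f : X ⟶ Y) (x : AlgSp.Points X.obj)
    (hf1 : AlgSp.LocP @LocallyOfFiniteType f.hom) (hf2 : AlgSp.IsSeparatedMor f.hom)
    (hf3 : AlgSp.HasAtMor (fun U _ h u => ∃ W : U.Opens, u ∈ W ∧ LocallyQuasiFinite (W.ι ≫ h) ∧ LocallyOfFiniteType (W.ι ≫ h)) f.hom x) :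
    ∃ (U : AlgSp.Space S) (a : U ⟶ Y) (u : AlgSp.Points U.obj), AlgSp.IsEtaleMor a.hom ∧
      AlgSp.Points.map a.hom u = AlgSp.Points.map f.hom x ∧
      ∀ (P : AlgSp.Space S) (prX : P ⟶ X) (prU : P ⟶ U), IsPullback prX.hom prU.hom f.hom a.hom →
        ∃ (V : AlgSp.Space S) (jV : V ⟶ P), AlgSp.RepWith @IsOpenImmersion jV.hom ∧ AlgSp.RepWith @IsClosedImmersion jV.hom ∧
          AlgSp.IsFiniteMor (jV ≫ prU).hom ∧
          ∃ v : AlgSp.Points V.obj, AlgSp.Points.map (jV ≫ prX).hom v = x ∧ AlgSp.Points.map (jV ≫ prU).hom v = u := by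
  obtain ⟨T, a, U₁, fT, z, ha, -, -, hfT, H⟩ := Groth.L23.QFL.exists_split_one X.property Y.property hf2 hf3
  let UT : AlgSp.Space S := ⟨_, AlgSp.IsAlgSpace.yon_obj T⟩
  have hae : AlgSp.IsEtaleMor a := (Groth.L23.isEtaleMor_iff_locP UT.property Y.property a).2
    (Groth.L23.locP_of_repWith Groth.L23.etLocal_etale ha)
  obtain ⟨jV₀, -, -, h₃, h₄⟩ := H _ _ _ (IsPullback.of_hasPullback f.hom a)
  refine ⟨UT, ObjectProperty.homMk a, AlgSp.Points.ofScheme T (fT.left z), hae, ?_, fun P prX prU sP => ?_⟩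
  · show AlgSp.Points.map a _ = _
    conv_rhs => rw [← h₄, AlgSp.Points.map_ofPt, Category.assoc, pullback.condition, ← Category.assoc, h₃,
      Groth.L23.ofPt_comp]
    rw [← AlgSp.Points.ofPt_eq_map_ofScheme]
  · obtain ⟨jV, k₁, k₂, k₃, k₄⟩ := H P.obj prX.hom prU.hom sP
    refine ⟨⟨_, AlgSp.IsAlgSpace.yon_obj U₁⟩, ObjectProperty.homMk jV, k₁, k₂, ?_, AlgSp.Points.ofScheme U₁ z, ?_, ?_⟩
    · show AlgSp.IsFiniteMor (jV ≫ prU.hom)
      rw [k₃]
      exact Groth.L23.isFiniteMor_iff.2 (Groth.L23.repWith_map hfT)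
    · show AlgSp.Points.map (jV ≫ prX.hom) _ = x
      rw [← AlgSp.Points.ofPt_eq_map_ofScheme, k₄]
    · show AlgSp.Points.map (jV ≫ prU.hom) _ = _
      rw [k₃, ← AlgSp.Points.ofPt_eq_map_ofScheme, Groth.L23.ofPt_map]


end Groth.Agent.S10677
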