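import Groth.Statements.S1068
import Groth.Agent.Lead.SplitH0
import Groth.Agent.L00.TorAmp

set_option linter.style.haveILetI false
set_option backward.isDefEq.respectTransparency false
set_option backward.isDefEq.respectTransparency.types false
set_option backward.defeqAttrib.useBackward true
set_option maxHeartbeats 800000


set_option autoImplicit false
universe u
open CategoryTheory CategoryTheory.Limits AlgebraicGeometry Opposite
attribute [local instance] HasDerivedCategory.standard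
open Perf

namespace Groth.Agent.S1068

/-- Let f : X ⟶ S be proper, flat and of finite presentation, with global functions on every fibre X_s
reduced to κ(s) (pullback along X_s ⟶ Spec κ(s) is an isomorphism on global sections). Then every
point s of S has an open neighbourhood V over which, writing f_V : f⁻¹V ⟶ V and assuming Rf_{V,*}
exists and binary direct sums in D(O_V) are available, Rf_{V,*}O_{f⁻¹V} ≅ O_V ⊕ P for some perfect P
∈ D(O_V) of tor amplitude in [1, b] for some b. -/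
theorem result {X S : Scheme.{u}} (f : X ⟶ S) [IsProper f] [Flat f]
    [LocallyOfFinitePresentation f] (h : ∀ s : S, IsIso (f.fiberToSpecResidueField s).appTop) (s : S) :
    ∃ V : S.Opens, s ∈ V ∧ ∀ [DCoh.HasRpush (f ∣_ V)] [∀ A B : DCoh.D (V : Scheme.{u}), HasBinaryBiproduct A B],
      ∃ (P : DCoh.D (V : Scheme.{u})) (b : ℤ), DCoh.IsPerfect P ∧ DCoh.HasTorAmplitudeIn 1 b P ∧
        Nonempty ((DCoh.Rpush (f ∣_ V)).obj (DCoh.inD (f ⁻¹ᵁ V : Scheme.{u}) (Coh.structureModule (f ⁻¹ᵁ V : Scheme.{u}))) ≅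
          DCoh.inD (V : Scheme.{u}) (Coh.structureModule (V : Scheme.{u})) ⊞ P) := by
  obtain ⟨_, ⟨V, hV, rfl⟩, hsV, -⟩ := S.isBasis_affineOpens.exists_subset_of_mem_open (Set.mem_univ s) isOpen_univ
  refine ⟨V, hsV, ?_⟩
  intro _ _
  let g₀ := f ∣_ V
  let g := g₀ ≫ hV.isoSpec.hom
  haveI : IsProper g₀ := IsZariskiLocalAtTarget.restrict ‹IsProper f› V
  haveI : Flat g₀ := IsZariskiLocalAtTarget.restrict ‹Flat f› V
  haveI : LocallyOfFinitePresentation g₀ := IsZariskiLocalAtTarget.restrict ‹LocallyOfFinitePresentation f› V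
  haveI := Groth.L29.DC.RpushQC.hasRpush g
  have hsq : IsPullback (f ⁻¹ᵁ V).ι g f hV.fromSpec :=
    IsPullback.of_iso (isPullback_morphismRestrict f V).flip (Iso.refl _) (Iso.refl _) hV.isoSpec (Iso.refl _)
      (by simp) (by simp [g, g₀]) (by simp) (by simp)
  have hq : ∀ {Z' T : Scheme.{u}} (g' : Z' ⟶ (f ⁻¹ᵁ V : Scheme.{u})) (q' : Z' ⟶ T) (k : T ⟶ Spec Γ(S, V)),
      IsPullback g' q' g k → ∀ U, IsIso (q'.app U) := fun g' q' k hk U =>
    Groth.L20.DescLocus.isIso_app_universally f (fun y W => by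
      haveI := h y
      exact Groth.L20.DescLocus.isIso_app_of_appTop (k := S.residueField y) (f.fiberToSpecResidueField y)
        (ConcreteCategory.bijective_of_isIso _) W) (g' ≫ (f ⁻¹ᵁ V).ι) q' (k ≫ hV.fromSpec) (hk.paste_horiz hsq) U
  obtain ⟨C, b, hC, hamp, ⟨e⟩⟩ := Groth.Lead.SplitH0.exists_split g hq
  let R' := DCoh.restrictD hV.isoSpec.hom
  obtain ⟨eV⟩ := Groth.L29.DC.RpushRes.nonempty_iso g hV.isoSpec.hom (𝟙 _) g₀
    (by rw [Scheme.Hom.opensRange_of_isIso, Scheme.Hom.opensRange_of_isIso]; exact le_top) (by simp [g])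
  let eO : ∀ {A B : Scheme.{u}} (k : A ⟶ B) [IsOpenImmersion k],
      (DCoh.restrictD k).obj (DCoh.inD B (Coh.structureModule B)) ≅ DCoh.inD A (Coh.structureModule A) := fun k _ =>
    ((Scheme.Modules.restrictFunctor k).mapDerivedCategorySingleFunctor 0).app _ ≪≫
      (DerivedCategory.singleFunctor _ 0).mapIso (Scheme.Modules.restrictUnitIso k)
  haveI : PreservesBinaryBiproducts R' := preservesBinaryBiproducts_of_preservesBiproducts R'
  obtain ⟨E, hEv, hEf, ⟨eE⟩⟩ := Groth.Lead.AmpRpush.flatAmp_res hV.isoSpec.hom hamp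
  exact ⟨R'.obj C, b, Groth.L29.DC.EvalMain.isPerfect_restrictD hV.isoSpec.hom hC,
    Groth.L00.TorAmp.torAmp_of_flatAmp hEv hEf eE,
    ⟨(DCoh.Rpush g₀).mapIso (eO (𝟙 _)).symm ≪≫ (eV.app _).symm ≪≫ R'.mapIso e ≪≫
      R'.mapBiprod _ C ≪≫ biprod.mapIso (eO _) (Iso.refl _)⟩⟩

end Groth.Agent.S1068
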