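import Groth.Statements.S10680
import Groth.Agent.L23.SpaceFibreDim

set_option autoImplicit false
universe u
open CategoryTheory CategoryTheory.Limits AlgebraicGeometry
open AlgSp

namespace Groth.Agent.S10680

/-- For a proper morphism f : X ⟶ Y between algebraic spaces over S the fibre dimension function on |Y|
is upper semi-continuous: for every d the set of y such that every fibre X_k over y (k a field point
in the class of y, X_k any pullback in fppf sheaves) has dimension less than d is open. -/
theorem result {S : Scheme.{u}} {X Y : AlgSp.Space S} (f : X ⟶ Y) (hf : AlgSp.IsProperMor f.hom) (d : WithBot ℕ∞) :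
    IsOpen {y : AlgSp.Points Y.obj | ∀ (k : AlgSp.FieldPt Y.obj), AlgSp.Points.mk k = y →
      ∀ (Xk : AlgSp.Sp S) (fst : Xk ⟶ X.obj) (snd : Xk ⟶ (AlgSp.yon S).obj k.pt),
        IsPullback fst snd f.hom k.toHom → AlgSp.dim Xk < d} := by
  exact Groth.L23.SpDim.isOpen_fibre_dim_lt X.property Y.property hf.2.1
    (hf.2.2 Y.property (𝟙 _) (𝟙 _) f.hom (IsPullback.of_horiz_isIso ⟨by simp⟩)) d

end Groth.Agent.S10680
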