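import Groth.Statements.S10681
import Groth.Agent.L23.GeomFibreConn
import Groth.Agent.L23.QFMulti
import Groth.Agent.L20.RG.Point
import Mathlib.FieldTheory.IsSepClosed

set_option autoImplicit false
set_option backward.isDefEq.respectTransparency.types false
set_option linter.style.haveILetI false
universe u
open CategoryTheory CategoryTheory.Limits AlgebraicGeometry
open AlgSp

namespace Groth.Agent.S10681

theorem connected_of_factor {S : Scheme.{u}} {X Y : AlgSp.Space S} (f : X ⟶ Y) {L K : Type u} [Field L] [Field K]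
    {σL : Spec (CommRingCat.of L) ⟶ S} {σK : Spec (CommRingCat.of K) ⟶ S}
    (m : (Over.mk σK : Over S) ⟶ Over.mk σL) (x : (yon S).obj (Over.mk σL) ⟶ Y.obj)
    {P Q : Sp S} {a : P ⟶ X.obj} {b : P ⟶ (yon S).obj (Over.mk σK)} {y : (yon S).obj (Over.mk σK) ⟶ Y.obj}
    (hy : (yon S).map m ≫ x = y) (h : IsPullback a b f.hom y)
    {c : Q ⟶ X.obj} {d : Q ⟶ (yon S).obj (Over.mk σL)} (h' : IsPullback c d f.hom x)
    (hP : ConnectedSpace (Points P)) : ConnectedSpace (Points Q) := by
  subst hy
  let l : P ⟶ Q := h'.lift a (b ≫ (yon S).map m) (by rw [Category.assoc]; exact h.w)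
  have sq : IsPullback b l ((yon S).map m) d :=
    (IsPullback.of_right (by rw [h'.lift_fst]; exact h) (h'.lift_snd _ _ _) h').flip
  refine Groth.L23.GConn.connectedSpace_of_surjective (Points.continuous_map l)
    (Groth.L23.surjective_snd_of_isPullback sq fun z => ?_)
  obtain ⟨z, rfl⟩ := (Points.schemeHomeo _).surjective z
  refine ⟨Points.schemeHomeo _ (⊥ : PrimeSpectrum K), ?_⟩
  rw [Points.map_yon_map_eq]
  have : Subsingleton (PrimeSpectrum L) := inferInstance
  simp only [Function.comp_apply, Homeomorph.symm_apply_apply]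
  exact congrArg _ (this.elim _ _)

theorem isPullback_reindex {C : Type*} [Category C] {P A B B' D : C} {p : P ⟶ A} {q : P ⟶ B} {f : A ⟶ D}
    {g : B ⟶ D} (e : B ≅ B') {g' : B' ⟶ D} (h : IsPullback p q f g) (hg : e.hom ≫ g' = g) :
    IsPullback p (q ≫ e.hom) f g' :=
  IsPullback.of_iso h (Iso.refl _) (Iso.refl _) e (Iso.refl _) (by simp) (by simp) (by simp) (by simp [hg])

/-- For a morphism f : X ⟶ Y between algebraic spaces over S and a geometric point ȳ of Y (an
algebraically closed field point), the geometric fibre X_ȳ (pullback in fppf sheaves) has connected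
space of points if and only if for every scheme V with a representable etale a : h_V ⟶ Y and every
point v of V through which ȳ factors, the fibre of X ×_Y V ⟶ V over v (pullback along the residue
field point of v) has connected space of points. -/
theorem result {S : Scheme.{u}} {X Y : AlgSp.Space S} (f : X ⟶ Y) (yb : AlgSp.FieldPt Y.obj) (hyb : yb.IsGeometric)
    (Xyb : AlgSp.Sp S) (fst : Xyb ⟶ X.obj) (snd : Xyb ⟶ (AlgSp.yon S).obj yb.pt) (h : IsPullback fst snd f.hom yb.toHom) :
    ConnectedSpace (AlgSp.Points Xyb) ↔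
      ∀ (V : Over S) (a : (AlgSp.yon S).obj V ⟶ Y.obj), AlgSp.RepWith @Etale a →
        ∀ (v : ↥V.left) (c : yb.pt ⟶ V), (AlgSp.yon S).map c ≫ a = yb.toHom → c.left (IsLocalRing.closedPoint yb.K) = v →
          ∀ (Xv : AlgSp.Sp S) (fst' : Xv ⟶ X.obj)
            (snd' : Xv ⟶ (AlgSp.yon S).obj (Over.mk (V.left.fromSpecResidueField v ≫ V.hom))),
            IsPullback fst' snd' f.hom ((AlgSp.yon S).map (Over.homMk (V.left.fromSpecResidueField v) rfl :
              Over.mk (V.left.fromSpecResidueField v ≫ V.hom) ⟶ V) ≫ a) →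
            ConnectedSpace (AlgSp.Points Xv) := by
  constructor
  · intro hc V a _ v c hc₁ hc₂ Xv fst' snd' h'
    subst hc₂
    let φ := V.left.descResidueField (Scheme.stalkClosedPointTo c.left)
    let m : (Over.mk yb.str : Over S) ⟶
        Over.mk (V.left.fromSpecResidueField (c.left (IsLocalRing.closedPoint yb.K)) ≫ V.hom) :=
      Over.homMk (Spec.map φ) (by
        show Spec.map φ ≫ V.left.fromSpecResidueField _ ≫ V.hom = yb.str
        rw [← Category.assoc, Scheme.descResidueField_stalkClosedPointTo_fromSpecResidueField]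
        exact Over.w c)
    refine connected_of_factor f m _ (y := yb.toHom) ?_ h h' hc
    refine ((Functor.map_comp_assoc _ _ _ _).symm.trans
      (congrArg (fun t => (yon S).map t ≫ a) (Over.OverMorphism.ext ?_))).trans hc₁
    exact Scheme.descResidueField_stalkClosedPointTo_fromSpecResidueField _ _ _
  · intro hall
    have : IsAlgClosed yb.K := hyb
    obtain ⟨W₀, a₀, hW₀, ha₀, hy₀⟩ := Groth.L23.exists_affine_etale_nhd Y.property (Points.mk yb)
    obtain ⟨u, hu⟩ := hy₀
    obtain ⟨c₀, hc₀, -⟩ := Groth.L23.QFL.exists_lift_algClosed ha₀ yb.toHom u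
      (IsLocalRing.closedPoint yb.K) (by rw [Points.ofPt_toHom]; exact hu.symm)
    let A₀ := Γ(W₀.left, ⊤)
    let w₀ : Spec (CommRingCat.of A₀) ⟶ S := W₀.left.isoSpec.inv ≫ W₀.hom
    let e : (Over.mk w₀ : Over S) ≅ W₀ := Over.isoMk W₀.left.isoSpec.symm rfl
    let a₁ : (yon S).obj (Over.mk w₀) ⟶ Y.obj := (yon S).map e.hom ≫ a₀
    have ha₁ : RepWith @Etale a₁ := Groth.L23.repWith_comp (Groth.L23.repWith_of_isIso _) ha₀
    obtain ⟨χ₀, hχ₀⟩ := Spec.map_surjective (c₀ ≫ e.inv).left
    letI : Algebra A₀ yb.K := χ₀.hom.toAlgebra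
    let p : Ideal A₀ := RingHom.ker (algebraMap A₀ yb.K)
    haveI : p.IsPrime := RingHom.ker_isPrime _
    letI : Algebra p.ResidueField yb.K :=
      (Ideal.ResidueField.lift p (algebraMap A₀ yb.K) le_rfl
        (fun r hr => isUnit_iff_ne_zero.2 hr)).toAlgebra
    haveI : IsScalarTower A₀ p.ResidueField yb.K :=
      IsScalarTower.of_algebraMap_eq fun r => (Ideal.ResidueField.lift_algebraMap ..).symm
    let K := separableClosure p.ResidueField yb.K
    haveI : IsSepClosure p.ResidueField K := separableClosure.isSepClosure _ _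
    haveI : IsSepClosed K := IsSepClosure.sep_closed p.ResidueField
    let π := Groth.L23.GFC.str w₀ yb.K
    have hπ : (yon S).map (Over.homMk (𝟙 _) (by
          rw [Category.id_comp]
          show Spec.map (CommRingCat.ofHom (algebraMap A₀ yb.K)) ≫ w₀ = yb.str
          have hw := Over.w (c₀ ≫ e.inv)
          rw [← hχ₀] at hw
          exact hw) : yb.pt ⟶ Groth.L23.GFC.spA w₀ yb.K) ≫
        (yon S).map π ≫ a₁ = yb.toHom := by
      rw [← hc₀, ← Functor.map_comp_assoc, ← Category.assoc, ← Functor.map_comp]
      refine congrArg (fun t => (yon S).map t ≫ a₀) ?_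
      rw [← Iso.eq_comp_inv]
      refine Over.OverMorphism.ext ?_
      show 𝟙 _ ≫ Spec.map _ = (c₀ ≫ e.inv).left
      rw [Category.id_comp, ← hχ₀]
      rfl
    let Z := pullback f.hom a₁
    have hZ : IsAlgSpace Z :=
      Groth.L23.isAlgSpace_of_isPullback Y.property.diag X.property (IsAlgSpace.yon_obj _)
        (IsPullback.of_hasPullback f.hom a₁)
    let b : Z ⟶ (yon S).obj (Over.mk w₀) := pullback.snd _ _
    let j : K →ₐ[A₀] yb.K := K.val.restrictScalars A₀
    have hK : ConnectedSpace (Points (Groth.L23.GFC.bc b K)) := by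
      refine Groth.L23.GFC.connectedSpace_bc b hZ K fun s => ?_
      let t : Fin s.card → K := fun i => (s.equivFin.symm i).1
      obtain ⟨T, _, _, _, χ, g, hg⟩ := Groth.L20.RG.exists_etale_lift p t
      let V : Over S := Groth.L23.GFC.spA w₀ T
      let aV : (yon S).obj V ⟶ Y.obj := (yon S).map (Groth.L23.GFC.str w₀ T) ≫ a₁
      have haV : RepWith @Etale aV := Groth.L23.repWith_comp
        (Groth.L23.repWith_map (show Etale (Spec.map (CommRingCat.ofHom (algebraMap A₀ T))) from
          (HasRingHomProperty.Spec_iff (P := @Etale)).2 (RingHom.etale_algebraMap.2 inferInstance))) ha₁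
      let cK : Spec (CommRingCat.of K) ⟶ V.left := Spec.map (CommRingCat.ofHom χ.toRingHom)
      let v : V.left := cK (IsLocalRing.closedPoint K)
      let φ : V.left.residueField v ⟶ CommRingCat.of K := V.left.descResidueField (Scheme.stalkClosedPointTo cK)
      obtain ⟨ψ, hψ⟩ := Spec.map_surjective (V.left.fromSpecResidueField v)
      have hφ : Spec.map φ ≫ V.left.fromSpecResidueField v = cK :=
        Scheme.descResidueField_stalkClosedPointTo_fromSpecResidueField _ _ _
      have hψφ : ψ ≫ φ = CommRingCat.ofHom χ.toRingHom := by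
        apply Spec.map_injective
        rw [Spec.map_comp, hψ]
        exact hφ
      letI : Algebra A₀ (V.left.residueField v) := (ψ.hom.comp (algebraMap A₀ T)).toAlgebra
      have hcomm : ∀ r, φ.hom (algebraMap A₀ (V.left.residueField v) r) = algebraMap A₀ K r := by
        intro r
        show φ.hom (ψ.hom (algebraMap A₀ T r)) = _
        rw [← χ.commutes r]
        exact congrArg (fun F : CommRingCat.of T ⟶ CommRingCat.of K => F.hom (algebraMap A₀ T r)) hψφ
      let jL : V.left.residueField v →ₐ[A₀] K :=
        { φ.hom with commutes' := hcomm }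
      refine ⟨V.left.residueField v, inferInstance, inferInstance, jL, ?_, ?_, ?_⟩
      · intro x
        let i : p.ResidueField →+* V.left.residueField v := Ideal.ResidueField.lift p (algebraMap A₀ _)
          (fun r hr => by
            refine jL.toRingHom.injective ?_
            show jL (algebraMap A₀ _ r) = jL 0
            rw [jL.commutes, map_zero]
            exact Subtype.ext hr)
          (fun r hr => isUnit_iff_ne_zero.2 fun h0 => hr (by
            have := congrArg jL h0
            rw [jL.commutes, map_zero] at this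
            exact congrArg Subtype.val this))
        have hi : jL.toRingHom.comp i = algebraMap p.ResidueField K :=
          Ideal.ResidueField.ringHom_ext (RingHom.ext fun r => by
            show jL (i (algebraMap A₀ p.ResidueField r)) = _
            rw [Ideal.ResidueField.lift_algebraMap, jL.commutes, IsScalarTower.algebraMap_apply A₀ p.ResidueField K]
            rfl)
        exact RingHom.IsIntegralElem.of_comp (f := i) (g := jL.toRingHom)
          (by rw [hi]; exact Algebra.IsIntegral.isIntegral x)
      · intro x hx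
        refine ⟨ψ.hom (g (s.equivFin ⟨x, hx⟩)), ?_⟩
        show φ.hom _ = x
        have h1 := congrArg (fun F : CommRingCat.of T ⟶ CommRingCat.of K => F.hom (g (s.equivFin ⟨x, hx⟩))) hψφ
        refine h1.trans ((hg _).trans ?_)
        show (s.equivFin.symm (s.equivFin ⟨x, hx⟩)).1 = x
        rw [Equiv.symm_apply_apply]
      · let c : yb.pt ⟶ V := Over.homMk (Spec.map (CommRingCat.ofHom (algebraMap K yb.K)) ≫ cK) (by
          show (Spec.map _ ≫ Spec.map _) ≫ Spec.map _ ≫ w₀ = yb.str
          rw [← Category.assoc, ← Spec.map_comp, ← Spec.map_comp]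
          have hw := Over.w (c₀ ≫ e.inv)
          rw [← hχ₀] at hw
          refine Eq.trans (congrArg (fun t => Spec.map t ≫ w₀) (CommRingCat.hom_ext (RingHom.ext fun r => ?_))) hw
          show algebraMap K yb.K (χ (algebraMap A₀ T r)) = _
          rw [χ.commutes]
          exact j.commutes r)
        have hf : Spec.map (CommRingCat.ofHom (ψ.hom.comp (algebraMap A₀ T))) =
            V.left.fromSpecResidueField v ≫ Spec.map (CommRingCat.ofHom (algebraMap A₀ T)) := by
          rw [← hψ, ← Spec.map_comp]
          rfl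
        let e' : Groth.L23.GFC.spA w₀ (V.left.residueField v) ≅ Over.mk (V.left.fromSpecResidueField v ≫ V.hom) :=
          Over.isoMk (Iso.refl _) ((Category.id_comp _).trans
            ((congrArg (fun t => t ≫ w₀) hf).trans (Category.assoc _ _ _)).symm)
        refine hall V aV haV v c ?_ ?_ _ (pullback.fst b _ ≫ pullback.fst f.hom a₁)
          (pullback.snd b _ ≫ (yon S).map e'.hom) ?_
        · rw [← hc₀, ← Functor.map_comp_assoc, ← Functor.map_comp_assoc]
          refine congrArg (fun t => (yon S).map t ≫ a₀) ?_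
          rw [← Iso.eq_comp_inv]
          refine Over.OverMorphism.ext ?_
          show (Spec.map _ ≫ Spec.map _) ≫ Spec.map _ = (c₀ ≫ e.inv).left
          rw [← hχ₀, ← Spec.map_comp, ← Spec.map_comp]
          refine congrArg Spec.map (CommRingCat.hom_ext (RingHom.ext fun r => ?_))
          show algebraMap K yb.K (χ (algebraMap A₀ T r)) = _
          rw [χ.commutes]
          exact j.commutes r
        · show cK (Spec.map (CommRingCat.ofHom (algebraMap K yb.K)) (IsLocalRing.closedPoint yb.K)) = v
          exact congrArg cK (Subsingleton.elim (α := PrimeSpectrum K) _ _)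
        · refine isPullback_reindex ((yon S).mapIso e')
            ((IsPullback.of_hasPullback b _).paste_horiz (IsPullback.of_hasPullback f.hom a₁)) ?_
          show (yon S).map e'.hom ≫ (yon S).map _ ≫ (yon S).map (Groth.L23.GFC.str w₀ T) ≫ a₁ = _
          rw [← Functor.map_comp_assoc, ← Functor.map_comp_assoc]
          refine congrArg (fun t => (yon S).map t ≫ a₁) (Over.OverMorphism.ext ?_)
          exact ((congrArg (fun t => t ≫ _) (Category.id_comp _)).trans hf.symm)
    have hbcK : IsAlgSpace (Groth.L23.GFC.bc b K) :=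
      Groth.L23.isAlgSpace_of_isPullback (IsAlgSpace.yon_obj _).diag hZ (IsAlgSpace.yon_obj _)
        (IsPullback.of_hasPullback _ _)
    have hbk : ConnectedSpace (Points (Groth.L23.GFC.bc b yb.K)) :=
      Groth.L23.GConn.connectedSpace_of_bijective (hf := Points.continuous_map (Groth.L23.GFC.trans b j))
        (Groth.L23.GConn.bijective_components hbcK (Groth.L23.GFC.isPullback_trans b j)
          (Groth.L23.Gpd.isUnivOpenMor_field (IsAlgSpace.yon_obj _) _ (Iso.refl _) _)
          fun q => Groth.L23.GConn.connected_fibre _ (q.toHom ≫ pullback.snd b _))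
    refine connected_of_factor f (Over.homMk (𝟙 _) ?_ : Groth.L23.GFC.spA w₀ yb.K ⟶ yb.pt) yb.toHom
      ?_ ((IsPullback.of_hasPullback b _).paste_horiz (IsPullback.of_hasPullback f.hom a₁)) h hbk
    · rw [Category.id_comp]
      show yb.str = Spec.map (CommRingCat.ofHom (algebraMap A₀ yb.K)) ≫ w₀
      have hw := Over.w (c₀ ≫ e.inv)
      rw [← hχ₀] at hw
      exact hw.symm
    · rw [← hπ, ← Functor.map_comp_assoc, ← Functor.map_comp_assoc]
      refine congrArg (fun t => (yon S).map t ≫ a₁) (Over.OverMorphism.ext ?_)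
      show 𝟙 _ ≫ 𝟙 _ ≫ Spec.map _ = Spec.map _
      rw [Category.id_comp, Category.id_comp]


end Groth.Agent.S10681
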