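import Groth.Statements.S10685
import Groth.Agent.L23.GeomConnLsc.LocConst

set_option autoImplicit false
universe u
open CategoryTheory CategoryTheory.Limits AlgebraicGeometry
open AlgSp

namespace Groth.Agent.S10685

/-- For a proper flat morphism f : X ⟶ Y between algebraic spaces over S which is of finite presentation
and all of whose fibres are geometrically reduced (the fibre of f at y being geometrically reduced
means: for every field point k of Y in the class of y and every field homomorphism k ⟶ k', the base
change X_{k'} (pullback in fppf sheaves) is reduced (some etale surjective scheme chart is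
reduced)), the function on |Y| counting the connected components of geometric fibres is locally
constant: for each d the set of y all of whose geometric fibres (X_k for an algebraically closed
field point k in the class of y) have exactly d connected components, counted in ℕ∞, is open. -/
theorem result {S : Scheme.{u}} {X Y : AlgSp.Space S} (f : X ⟶ Y)
    (hf1 : AlgSp.IsProperMor f.hom) (hf2 : AlgSp.LocP @Flat f.hom) (hf3 : AlgSp.IsFinitePresentationMor f.hom)
    (hred : ∀ y : AlgSp.Points Y.obj, ∀ (k : AlgSp.FieldPt Y.obj), AlgSp.Points.mk k = y →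
        ∀ (k' : Type u) [Field k'] (φ : k.K →+* k') (Xk' : AlgSp.Sp S) (a : Xk' ⟶ X.obj)
          (b : Xk' ⟶ (AlgSp.yon S).obj (Over.mk (Spec.map (CommRingCat.ofHom φ) ≫ k.str))),
          IsPullback a b f.hom ((AlgSp.yon S).map (Over.homMk (Spec.map (CommRingCat.ofHom φ)) rfl :
            Over.mk (Spec.map (CommRingCat.ofHom φ) ≫ k.str) ⟶ k.pt) ≫ k.toHom) →
          AlgSp.EtaleLocally (fun U => IsReduced U) Xk') (d : ℕ∞) :
    IsOpen {y : AlgSp.Points Y.obj | ∀ (k : AlgSp.FieldPt Y.obj), AlgSp.Points.mk k = y → k.IsGeometric →
        ∀ (Xk : AlgSp.Sp S) (a : Xk ⟶ X.obj) (b : Xk ⟶ (AlgSp.yon S).obj k.pt), IsPullback a b f.hom k.toHom →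
          ENat.card (_root_.ConnectedComponents (AlgSp.Points Xk)) = d} := by
  exact Groth.L23.GeomConnLsc.isOpen_card_eq f hf1 hf2 hf3 hred d

end Groth.Agent.S10685
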