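import Groth.Statements.S10689
import Groth.Agent.L21.GorOpen.Space

set_option autoImplicit false
universe u
open CategoryTheory CategoryTheory.Limits AlgebraicGeometry
open AlgSp

namespace Groth.Agent.S10689

/-- For a flat morphism f : X ⟶ Y between algebraic spaces over S which is locally of finite
presentation, the set W of points of |X| at which f is Gorenstein (in every etale chart diagram
through the point the top arrow is flat there with Gorenstein local ring of its fibre) is open in
|X|, and for any morphism of algebraic spaces g : Y' ⟶ Y with base change f' : X' ⟶ Y' and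
projection g' : X' ⟶ X the corresponding set for f' is the inverse image of W under |g'|. -/
theorem result {S : Scheme.{u}} {X Y : AlgSp.Space S} (f : X ⟶ Y)
    (hf1 : AlgSp.LocP @Flat f.hom) (hf2 : AlgSp.LocP @LocallyOfFinitePresentation f.hom) :
    IsOpen {x : AlgSp.Points X.obj | AlgSp.LocPAt (fun h u => Dual3.IsGorensteinAt h u) f.hom x} ∧
      ∀ (X' Y' : AlgSp.Space S) (g : Y' ⟶ Y) (g' : X' ⟶ X) (f' : X' ⟶ Y'), IsPullback g'.hom f'.hom f.hom g.hom →
        {x' : AlgSp.Points X'.obj | AlgSp.LocPAt (fun h u => Dual3.IsGorensteinAt h u) f'.hom x'} =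
          AlgSp.Points.map g'.hom ⁻¹' {x : AlgSp.Points X.obj | AlgSp.LocPAt (fun h u => Dual3.IsGorensteinAt h u) f.hom x} := by
  refine ⟨Groth.L21.GorOpen.isOpen_locPAt_gorenstein X.property Y.property hf1 hf2, ?_⟩
  intro X' Y' g g' f' hsq
  ext x'
  exact Groth.L21.GorOpen.locPAt_gorenstein_iff_baseChange X.property Y.property Y'.property hf1 hf2 hsq x'

end Groth.Agent.S10689
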