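import Groth.Statements.S10691
import Groth.Agent.L21.GorensteinSpace

set_option autoImplicit false
universe u
open CategoryTheory CategoryTheory.Limits AlgebraicGeometry
open AlgSp

namespace Groth.Agent.S10691

/-- For locally Noetherian algebraic spaces X, Y over S and a flat morphism f : X ⟶ Y, with X Gorenstein
(some etale surjective scheme chart is a Gorenstein scheme): f is Gorenstein at every point of |X|,
and for every point x of |X| the etale local ring of Y at a geometric point over f(x), presented as
a strict henselization R of the local ring of an etale scheme chart V of Y at a point v over f(x),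
is a Gorenstein local ring. Here f is Gorenstein at x when in every etale chart diagram through x
the top arrow is Gorenstein at the point over x (flat there, with Gorenstein local ring of its
fibre), and the fibres of a morphism are locally Noetherian when every fibre over a field point
(pullback in fppf sheaves) is a locally Noetherian algebraic space. -/
theorem result {S : Scheme.{u}} {X Y : AlgSp.Space S} (f : X ⟶ Y) (hf : AlgSp.LocP @Flat f.hom)
    (hX1 : AlgSp.IsLocNoethSp X.obj) (hY1 : AlgSp.IsLocNoethSp Y.obj)
    (hX2 : AlgSp.EtaleLocally Dual3.IsGorenstein X.obj) :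
    (∀ x : AlgSp.Points X.obj, AlgSp.LocPAt (fun h u => Dual3.IsGorensteinAt h u) f.hom x) ∧
      ∀ (x : AlgSp.Points X.obj) (V : Over S) (b : (AlgSp.yon S).obj V ⟶ Y.obj), AlgSp.RepWith @Etale b →
        ∀ (v : ↥V.left), AlgSp.Points.ofPt b v = AlgSp.Points.map f.hom x →
          ∀ (R : Type u) [CommRing R] [IsLocalRing R] [Algebra ↥(V.left.presheaf.stalk v) R]
            [IsLocalHom (algebraMap ↥(V.left.presheaf.stalk v) R)]
            [Hensel.IsStrictHenselization ↥(V.left.presheaf.stalk v) R],
            LocCoh.IsGorensteinLocalRing R := by
  obtain ⟨h1, h2⟩ := Groth.L21.GorensteinSpace.locPAt_gorenstein_of_flat Y.property f.hom hf hX2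
  refine ⟨h1, fun x V b hb v hv R _ _ _ _ _ => ?_⟩
  haveI := h2 x V b hb v hv
  exact Groth.L21.GorensteinSpace.isGorensteinLocalRing_strictHenselization (V.left.presheaf.stalk v) R

end Groth.Agent.S10691
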