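import Groth.Statements.S10692
import Groth.Agent.L23.FibreDimLSC

set_option autoImplicit false
universe u
open CategoryTheory CategoryTheory.Limits AlgebraicGeometry
open AlgSp

namespace Groth.Agent.S10692

theorem eq_iff_bot (r : WithBot ℕ∞) : r = ((0 : ℕ) : WithBot ℕ∞) ↔ ⊥ < r ∧ r < ((0 + 1 : ℕ) : WithBot ℕ∞) := by
  induction r with
  | bot => simp
  | coe r =>
    induction r with
    | top => exact iff_of_false (fun h => ENat.top_ne_natCast _ (WithBot.coe_injective h)) (fun h => absurd (WithBot.coe_lt_coe.1 h.2) not_top_lt)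
    | coe r => norm_cast; simp

theorem eq_iff_succ (m : ℕ) (r : WithBot ℕ∞) : r = ((m + 1 : ℕ) : WithBot ℕ∞) ↔
    (m : WithBot ℕ∞) < r ∧ r < ((m + 1 + 1 : ℕ) : WithBot ℕ∞) := by
  induction r with
  | bot => exact iff_of_false (fun h => WithBot.natCast_ne_bot _ h.symm) (fun h => not_lt_bot h.1)
  | coe r =>
    induction r with
    | top => exact iff_of_false (fun h => ENat.top_ne_natCast _ (WithBot.coe_injective h)) (fun h => absurd (WithBot.coe_lt_coe.1 h.2) not_top_lt)
    | coe r =>
      constructor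
      · intro h
        have : r = m + 1 := by exact_mod_cast h
        exact ⟨by exact_mod_cast (show m < r by omega), by exact_mod_cast (show r < m + 1 + 1 by omega)⟩
      · rintro ⟨h1, h2⟩
        have h1' : m < r := by exact_mod_cast h1
        have h2' : r < m + 1 + 1 := by exact_mod_cast h2
        exact_mod_cast (show r = m + 1 by omega)


/-- For a proper flat morphism f : X ⟶ Y between algebraic spaces over S which is of finite
presentation, the fibre dimension function on |Y| is locally constant: for every d the set of y such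
that every fibre X_k over y (k a field point in the class of y, X_k any pullback in fppf sheaves)
has dimension exactly d is open. -/
theorem result {S : Scheme.{u}} {X Y : AlgSp.Space S} (f : X ⟶ Y) (hf1 : AlgSp.IsProperMor f.hom)
    (hf2 : AlgSp.LocP @Flat f.hom) (hf3 : AlgSp.IsFinitePresentationMor f.hom) (d : WithBot ℕ∞) :
    IsOpen {y : AlgSp.Points Y.obj | ∀ (k : AlgSp.FieldPt Y.obj), AlgSp.Points.mk k = y →
      ∀ (Xk : AlgSp.Sp S) (fst : Xk ⟶ X.obj) (snd : Xk ⟶ (AlgSp.yon S).obj k.pt),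
        IsPullback fst snd f.hom k.toHom → AlgSp.dim Xk = d} := by
  have hc : IsClosedMap (AlgSp.Points.map f.hom) := fun N hN =>
    hf1.2.2 Y.property (𝟙 _) (𝟙 _) f.hom (IsPullback.of_id_fst) N hN
  have hlt := Groth.L23.SpDim.isOpen_fibre_dim_lt X.property Y.property hf1.2.1 hc
  have hgt : ∀ c : WithBot ℕ∞, IsOpen {y : AlgSp.Points Y.obj | ∀ (k : AlgSp.FieldPt Y.obj), AlgSp.Points.mk k = y →
      ∀ (Xk : AlgSp.Sp S) (fst : Xk ⟶ X.obj) (snd : Xk ⟶ (AlgSp.yon S).obj k.pt),
        IsPullback fst snd f.hom k.toHom → c < AlgSp.dim Xk} := fun c => by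
    rw [Groth.L23.FibLSC.setOf_lt_dim_eq X.property Y.property hf1.2.1.1 c]
    exact Groth.L23.FibLSC.isOpen_image_lt X.property Y.property hf2 hf3.1 c
  have key : ∀ (c c' : WithBot ℕ∞), (∀ r : WithBot ℕ∞, r = d ↔ c < r ∧ r < c') →
      IsOpen {y : AlgSp.Points Y.obj | ∀ (k : AlgSp.FieldPt Y.obj), AlgSp.Points.mk k = y →
        ∀ (Xk : AlgSp.Sp S) (fst : Xk ⟶ X.obj) (snd : Xk ⟶ (AlgSp.yon S).obj k.pt),
          IsPullback fst snd f.hom k.toHom → AlgSp.dim Xk = d} := fun c c' hr => by
    convert (hgt c).inter (hlt c') using 1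
    ext y
    exact ⟨fun h => ⟨fun k hk Xk a b sq => ((hr _).1 (h k hk Xk a b sq)).1, fun k hk Xk a b sq => ((hr _).1 (h k hk Xk a b sq)).2⟩,
      fun h k hk Xk a b sq => (hr _).2 ⟨h.1 k hk Xk a b sq, h.2 k hk Xk a b sq⟩⟩
  obtain rfl | rfl | ⟨n, rfl⟩ : d = ⊥ ∨ d = ⊤ ∨ ∃ n : ℕ, d = (n : WithBot ℕ∞) := by
    cases d with
    | bot => exact Or.inl rfl
    | coe d =>
      cases d with
      | top => exact Or.inr (Or.inl rfl)
      | coe n => exact Or.inr (Or.inr ⟨n, rfl⟩)
  · convert hlt (0 : ℕ) using 1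
    ext y
    refine ⟨fun h k hk Xk a b sq => (h k hk Xk a b sq) ▸ WithBot.bot_lt_coe _, fun h k hk Xk a b sq => ?_⟩
    have h1 := h k hk Xk a b sq
    revert h1
    generalize AlgSp.dim Xk = r
    intro h1
    induction r with
    | bot => rfl
    | coe r => exact absurd h1 (not_lt_of_ge (WithBot.coe_le_coe.2 bot_le))
  · convert isOpen_empty
    refine Set.eq_empty_of_forall_notMem fun y hy => ?_
    obtain ⟨k, hk⟩ := AlgSp.Points.mk_surjective y
    obtain ⟨n, hn⟩ := Groth.L23.SpDim.exists_nat_dim_fibre_le X.property Y.property hf1.2.1 hk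
      (IsPullback.of_hasPullback f.hom k.toHom)
    exact not_lt_of_ge ((hy k hk _ _ _ (IsPullback.of_hasPullback f.hom k.toHom)).symm.trans_le hn)
      (WithBot.coe_lt_coe.2 (ENat.natCast_lt_top n))
  · cases n with
    | zero => exact key _ _ eq_iff_bot
    | succ m => exact key _ _ (eq_iff_succ m)

end Groth.Agent.S10692
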