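import Groth.Statements.S10693
import Groth.Agent.L23.GorSH

set_option autoImplicit false
set_option backward.isDefEq.respectTransparency.types false
set_option linter.style.haveILetI false
universe u
open CategoryTheory CategoryTheory.Limits AlgebraicGeometry
open AlgSp

namespace Groth.Agent.S10693

/-- (pointwise part) for a morphism f : X ⟶ Y between algebraic spaces over S with locally Noetherian
fibres and a point x of |X|, take an etale chart diagram through x: schemes U, V over S with
representable etale a : h_U ⟶ X, b : h_V ⟶ Y, a morphism h : U ⟶ V over S with a ≫ f = h_h ≫ b, and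
a point u of U over x; let R be a strict henselization of the local ring of U at u, R' one of the
local ring of V at h u, and φ : R' ⟶ R a local homomorphism compatible with the map of local rings
induced by h (these present the etale local rings of Y and X at compatible geometric points). Then f
is Gorenstein at x if and only if φ is flat and R / m_{R'} R is a Gorenstein local ring. Here f is
Gorenstein at x when in every etale chart diagram through x the top arrow is Gorenstein at the point
over x (flat there, with Gorenstein local ring of its fibre), and the fibres of a morphism are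
locally Noetherian when every fibre over a field point (pullback in fppf sheaves) is a locally
Noetherian algebraic space. -/
theorem result {S : Scheme.{u}} {X Y : AlgSp.Space S} (f : X ⟶ Y)
    (hf : ∀ (k : AlgSp.FieldPt Y.obj) (Xk : AlgSp.Sp S) (a : Xk ⟶ X.obj) (b : Xk ⟶ (AlgSp.yon S).obj k.pt),
        IsPullback a b f.hom k.toHom → AlgSp.IsLocNoethSp Xk)
    (x : AlgSp.Points X.obj) {U V : Over S} (a : (AlgSp.yon S).obj U ⟶ X.obj) (b : (AlgSp.yon S).obj V ⟶ Y.obj)
    (h : U ⟶ V) (ha : AlgSp.RepWith @Etale a) (hb : AlgSp.RepWith @Etale b) (hc : a ≫ f.hom = (AlgSp.yon S).map h ≫ b)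
    (u : ↥U.left) (hu : AlgSp.Points.ofPt a u = x)
    (R : Type u) [CommRing R] [IsLocalRing R] [Algebra ↥(U.left.presheaf.stalk u) R]
    [IsLocalHom (algebraMap ↥(U.left.presheaf.stalk u) R)] [Hensel.IsStrictHenselization ↥(U.left.presheaf.stalk u) R]
    (R' : Type u) [CommRing R'] [IsLocalRing R'] [Algebra ↥(V.left.presheaf.stalk (h.left u)) R']
    [IsLocalHom (algebraMap ↥(V.left.presheaf.stalk (h.left u)) R')]
    [Hensel.IsStrictHenselization ↥(V.left.presheaf.stalk (h.left u)) R']
    (φ : R' →+* R) [IsLocalHom φ]
    (hφ : φ.comp (algebraMap ↥(V.left.presheaf.stalk (h.left u)) R') =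
      (algebraMap ↥(U.left.presheaf.stalk u) R).comp (h.left.stalkMap u).hom) :
    AlgSp.LocPAt (fun h u => Dual3.IsGorensteinAt h u) f.hom x ↔
      φ.Flat ∧ LocCoh.IsGorensteinLocalRing (R ⧸ (IsLocalRing.maximalIdeal R').map φ) := by
  subst hu
  haveI := Groth.L21.GorensteinSpace.isLocallyNoetherian_chartFiber hf ha hb hc (h.left u)
  letI := (h.left.stalkMap u).hom.toAlgebra
  haveI : IsLocalHom (algebraMap (V.left.presheaf.stalk (h.left u)) (U.left.presheaf.stalk u)) :=
    inferInstanceAs (IsLocalHom (h.left.stalkMap u).hom)
  haveI := Groth.L21.GorensteinScheme.isNoetherianRing_fibRing h.left u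
  rw [Groth.L21.GorensteinSpace.locPAt_gorenstein_ofPt_iff ha hb hc u,
    ← Groth.L23.GorSH.flat_gorenstein_iff R R' φ hφ]
  exact and_congr Iff.rfl (Groth.L21.GorensteinScheme.gorenstein_fibre_iff h.left u).symm

end Groth.Agent.S10693
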