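import Groth.Statements.S10695
import Groth.Agent.L09.ElemSq.Pushout

set_option autoImplicit false
universe u
open CategoryTheory CategoryTheory.Limits AlgebraicGeometry
open AlgSp

set_option backward.isDefEq.respectTransparency false
set_option backward.isDefEq.respectTransparency.types false

namespace Groth.Agent.S10695

/-- Suppose `(U ⊂ W, f : V → W)`, a square of algebraic spaces over `S`, is elementary distinguished
(`j` an open immersion, `f` etale and an isomorphism over the reduced closed complement of `U`) and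
let `P` with its two projections be a fibre product `U ×_W V`. Then `W` is the pushout of `U` and
`V` along `P` among algebraic spaces over `S`. -/
theorem result {S : Scheme.{u}} {U V W P : AlgSp.Space S} (j : U ⟶ W) (f : V ⟶ W)
    (hsq : AlgSp.IsElemDistSq j.hom f.hom) (p : P ⟶ U) (q : P ⟶ V)
    (hP : IsPullback p.hom q.hom j.hom f.hom) : IsPushout p q j f := by
  have key : ∀ (Z : AlgSp.Space S) (a : U ⟶ Z) (b : V ⟶ Z), p ≫ a = q ≫ b →
      ∃ h : W ⟶ Z, j ≫ h = a ∧ f ≫ h = b ∧ ∀ h', j ≫ h' = a → f ≫ h' = b → h' = h := by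
    intro Z a b e
    obtain ⟨h, h1, h2, h3⟩ := Groth.L09.ElemSq.exists_desc U.property V.property W.property hsq hP a.hom b.hom
      (congrArg (fun φ : P ⟶ Z => φ.hom) e)
    exact ⟨ObjectProperty.homMk h, ObjectProperty.hom_ext _ h1, ObjectProperty.hom_ext _ h2,
      fun h' ha hb => ObjectProperty.hom_ext _ (h3 h'.hom (congrArg (fun φ : U ⟶ Z => φ.hom) ha)
        (congrArg (fun φ : V ⟶ Z => φ.hom) hb))⟩
  refine IsPushout.of_isColimit' ⟨ObjectProperty.hom_ext _ hP.w⟩
    (PushoutCocone.isColimitAux' _ fun s => ?_)
  refine ⟨(key s.pt s.inl s.inr s.condition).choose, (key s.pt s.inl s.inr s.condition).choose_spec.1,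
    (key s.pt s.inl s.inr s.condition).choose_spec.2.1, fun {m} ha hb => ?_⟩
  exact (key s.pt s.inl s.inr s.condition).choose_spec.2.2 m ha hb

end Groth.Agent.S10695
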