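import Groth.Statements.S10696
import Groth.Agent.L09.ElemSq.Glue.Space

set_option autoImplicit false
universe u
open CategoryTheory CategoryTheory.Limits AlgebraicGeometry
open AlgSp

set_option backward.isDefEq.respectTransparency false
set_option backward.isDefEq.respectTransparency.types false

namespace Groth.Agent.S10696

/-- Let `U`, `V` be algebraic spaces over `S`, `V' ⊂ V` an open subspace and `f' : V' → U` a separated
etale morphism. Then there are an algebraic space `W` and morphisms `j : U → W`, `f : V → W` making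
the square on `V' → V`, `f'`, `f`, `j` a pushout in the category of algebraic spaces over `S`, with
`(U ⊂ W, f : V → W)` an elementary distinguished square whose cartesian corner is `V'` (the square
is also a fibre product square). (The published statement does not assert that the square is
cartesian; this row does, as the construction gives it.) -/
theorem result {S : Scheme.{u}} {U V V' : AlgSp.Space S} (jV : V' ⟶ V)
    (hjV : AlgSp.RepWith @IsOpenImmersion jV.hom) (f' : V' ⟶ U) (hsep : AlgSp.IsSeparatedMor f'.hom)
    (het : AlgSp.IsEtaleMor f'.hom) :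
    ∃ (W : AlgSp.Space S) (j : U ⟶ W) (f : V ⟶ W), IsPushout jV f' f j ∧
      IsPullback jV.hom f'.hom f.hom j.hom ∧ AlgSp.IsElemDistSq j.hom f.hom := by
  haveI := Groth.L23.mono_of_repWith_openImmersion hjV
  obtain ⟨W, j, f, _, hpo, hpb, hL⟩ := Groth.L09.ElemSq.Glue.exists_pushout jV.hom f'.hom
  obtain ⟨hW, hsq⟩ := Groth.L09.ElemSq.Glue.space_facts U.property V.property V'.property hjV het hpo hpb hL
  let W' : AlgSp.Space S := ⟨W, hW⟩
  refine ⟨W', ObjectProperty.homMk j, ObjectProperty.homMk f, ?_, hpb, hsq⟩
  refine IsPushout.of_isColimit' ⟨ObjectProperty.hom_ext _ hpo.w⟩ (PushoutCocone.isColimitAux' _ fun s => ?_)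
  have hs : jV.hom ≫ s.inl.hom = f'.hom ≫ s.inr.hom := congrArg (fun φ : V' ⟶ s.pt => φ.hom) s.condition
  refine ⟨ObjectProperty.homMk (hpo.desc s.inl.hom s.inr.hom hs), ObjectProperty.hom_ext _ (hpo.inl_desc _ _ _),
    ObjectProperty.hom_ext _ (hpo.inr_desc _ _ _), fun {m} ha hb => ObjectProperty.hom_ext _ (hpo.hom_ext ?_ ?_)⟩
  · exact (congrArg (fun φ : V ⟶ s.pt => φ.hom) ha).trans (hpo.inl_desc _ _ _).symm
  · exact (congrArg (fun φ : U ⟶ s.pt => φ.hom) hb).trans (hpo.inr_desc _ _ _).symm

end Groth.Agent.S10696
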