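import Groth.Statements.S1070
import Groth.Agent.Lead.PCProj
set_option linter.style.haveILetI false
set_option backward.isDefEq.respectTransparency false


set_option autoImplicit false
universe u
open CategoryTheory CategoryTheory.Limits AlgebraicGeometry Opposite
attribute [local instance] HasDerivedCategory.standard
open Perf

namespace Groth.Agent.S1070

/-- Let A be a ring, X = P^n_A with structure morphism π : X ⟶ Spec A, and K ∈ D(O_X) with
quasi-coherent cohomology sheaves. Assuming Rπ_* and the derived functors - ⊗^L O_X(d) exist, K is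
pseudo-coherent (m-pseudo-coherent for all m) if and only if Rπ_*(K ⊗^L O_X(d)) is pseudo-coherent
on Spec A for each d = 0, 1, …, n. (The source states (5) with RΓ(X, -) in D(A); on the affine
scheme Spec A the two formulations correspond under D(A) ≃ D_QCoh(Spec A).) -/
theorem result (n : ℕ) (A : Type u) [CommRing A]
    [DCoh.HasRpush (CohB1.ProjSpace.toSpec n A)] [∀ d : ℤ, DCoh.HasLTensorMod (Twist.twistProjSpace n A d)]
    (K : DCoh.D (CohB1.ProjSpace n A)) (hK : DCoh.IsQCohD K) :
    (∀ m : ℤ, DCoh.IsPseudoCoherentD m K) ↔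
      ∀ d : ℕ, d ≤ n → ∀ m : ℤ, DCoh.IsPseudoCoherentD m
        ((DCoh.Rpush (CohB1.ProjSpace.toSpec n A)).obj ((DCoh.LTensorMod (Twist.twistProjSpace n A (d : ℤ))).obj K)) := by
  have e : ∀ d : ℕ, Nonempty ((DCoh.Rpush (CohB1.ProjSpace.toSpec n A)).obj
      ((DCoh.LTensorMod (Twist.twistProjSpace n A (d : ℤ))).obj K) ≅ (Groth.Lead.PCProj.NF n A d).obj K) := fun d =>
    ⟨(DCoh.Rpush (CohB1.ProjSpace.toSpec n A)).mapIso
      ((Groth.Lead.TwistEquiv.ltIso (Twist.twistProjSpace n A (d : ℤ)) (Groth.Lead.PCProj.hfl n A d)).app K)⟩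
  constructor
  · intro h d hd m
    obtain ⟨i⟩ := e d
    exact Groth.L29.DC.isPseudoCoherentD_of_iso i.symm
      (Groth.L29.BC.pc_Rpush _ (fun m' => Groth.Lead.PCProj.pc_Tw d h m') m)
  · intro h
    exact Groth.Lead.PCProj.pc_of_twists K hK fun d hd m => by
      obtain ⟨i⟩ := e d
      exact Groth.L29.DC.isPseudoCoherentD_of_iso i (h d hd m)


end Groth.Agent.S1070
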