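import Groth.Statements.S10702
import Groth.Agent.L23.Epi
import Groth.Agent.L23.Points
import Groth.Agent.L23.LocP

set_option autoImplicit false
set_option backward.isDefEq.respectTransparency.types false
universe u
open CategoryTheory CategoryTheory.Limits AlgebraicGeometry
open AlgSp

namespace Groth.Agent.S10702

/-- Consider a commutative diagram of algebraic spaces over `S` with top row `A → C → E`, bottom row `B
→ D → F` and vertical maps `A → B`, `C → D`, `E → F`. If the left square and the outer rectangle are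
cartesian and `B → D` is surjective etale, then the right square is cartesian. -/
theorem result {S : Scheme.{u}} {A B C D E F : AlgSp.Space S} (ac : A ⟶ C) (ab : A ⟶ B)
    (cd : C ⟶ D) (bd : B ⟶ D) (ce : C ⟶ E) (df : D ⟶ F) (ef : E ⟶ F)
    (hl : IsPullback ac.hom ab.hom cd.hom bd.hom) (hcomm : cd ≫ df = ce ≫ ef)
    (hout : IsPullback (ac ≫ ce).hom ab.hom ef.hom (bd ≫ df).hom) (hsurj : AlgSp.IsSurjectiveMor bd.hom)
    (het : AlgSp.IsEtaleMor bd.hom) : IsPullback ce.hom cd.hom ef.hom df.hom := by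
  have w : ce.hom ≫ ef.hom = cd.hom ≫ df.hom := (congrArg (fun φ => φ.hom) hcomm).symm
  obtain ⟨V, c, hc, hcs⟩ := B.property.atlas
  have hp : AlgSp.RepWith @Etale (c ≫ bd.hom) := het c hc
  have hps : AlgSp.RepWith @Surjective (c ≫ bd.hom) := Groth.L23.repWith_surjective_of_map hp.1 fun y => by
    obtain ⟨y', rfl⟩ := hsurj y
    obtain ⟨z, rfl⟩ := Groth.L23.surjective_map_of_repWith hcs y'
    exact ⟨z, AlgSp.Points.map_comp _ _ _⟩
  have sqP := IsPullback.of_hasPullback ef.hom df.hom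
  let u : C.obj ⟶ pullback ef.hom df.hom := pullback.lift ce.hom cd.hom w
  have hu₁ : u ≫ pullback.fst ef.hom df.hom = ce.hom := pullback.lift_fst _ _ _
  have hu₂ : u ≫ pullback.snd ef.hom df.hom = cd.hom := pullback.lift_snd _ _ _
  have : Mono u := Groth.L23.mono_of_yon fun T a b e => by
    have e₁ : a ≫ ce.hom = b ≫ ce.hom := by rw [← hu₁, reassoc_of% e]
    have e₂ : a ≫ cd.hom = b ≫ cd.hom := by rw [← hu₂, reassoc_of% e]
    have sqT := hp.1.isPullback (a ≫ cd.hom)
    have := Groth.L23.epi_of_repWith _ (Groth.L23.repWith_of_isPullback sqT hp)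
      (Groth.L23.repWith_of_isPullback sqT hps)
    rw [← cancel_epi ((AlgSp.yon S).map (hp.1.snd (a ≫ cd.hom)))]
    obtain ⟨la, hla₁, hla₂⟩ := hl.exists_lift ((AlgSp.yon S).map (hp.1.snd (a ≫ cd.hom)) ≫ a)
      (hp.1.fst (a ≫ cd.hom) ≫ c) (by simp only [Category.assoc, sqT.w])
    obtain ⟨lb, hlb₁, hlb₂⟩ := hl.exists_lift ((AlgSp.yon S).map (hp.1.snd (a ≫ cd.hom)) ≫ b)
      (hp.1.fst (a ≫ cd.hom) ≫ c) (by simp only [Category.assoc, sqT.w, e₂])
    have : la = lb := by
      refine hout.hom_ext ?_ (hla₂.trans hlb₂.symm)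
      show la ≫ ac.hom ≫ ce.hom = lb ≫ ac.hom ≫ ce.hom
      rw [reassoc_of% hla₁, reassoc_of% hlb₁, e₁]
    rw [← hla₁, ← hlb₁, this]
  have sqQ := IsPullback.of_hasPullback (pullback.snd ef.hom df.hom) (c ≫ bd.hom)
  have := Groth.L23.epi_of_repWith _ (Groth.L23.repWith_of_isPullback sqQ.flip hp)
    (Groth.L23.repWith_of_isPullback sqQ.flip hps)
  obtain ⟨l, hl₁, hl₂⟩ := hout.exists_lift
    (pullback.fst (pullback.snd ef.hom df.hom) (c ≫ bd.hom) ≫ pullback.fst ef.hom df.hom)
    (pullback.snd (pullback.snd ef.hom df.hom) (c ≫ bd.hom) ≫ c) (by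
      show _ = _ ≫ bd.hom ≫ df.hom
      simp only [Category.assoc, pullback.condition]
      rw [pullback.condition_assoc, Category.assoc])
  have hfac : (l ≫ ac.hom) ≫ u = pullback.fst (pullback.snd ef.hom df.hom) (c ≫ bd.hom) := by
    refine sqP.hom_ext ?_ ?_
    · rw [Category.assoc, hu₁, Category.assoc]; exact hl₁
    · rw [Category.assoc, hu₂, Category.assoc, hl.w, reassoc_of% hl₂, pullback.condition]
  have : Epi u := by
    have : Epi ((l ≫ ac.hom) ≫ u) := by rw [hfac]; infer_instance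
    exact epi_of_epi (l ≫ ac.hom) u
  have : IsIso u := isIso_of_mono_of_epi u
  exact sqP.of_iso (asIso u).symm (Iso.refl _) (Iso.refl _) (Iso.refl _)
    (by simp [← hu₁]) (by simp [← hu₂]) (by simp) (by simp)

end Groth.Agent.S10702
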