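import Groth.Statements.S10705
import Groth.Agent.L23.FpqcGlue
import Groth.Agent.S10532

set_option autoImplicit false
set_option backward.isDefEq.respectTransparency.types false
set_option linter.style.haveILetI false
universe u
open CategoryTheory CategoryTheory.Limits AlgebraicGeometry
open AlgSp

namespace Groth.Agent.S10705

/-- Let `f : Y → X` be a quasi-compact quasi-separated morphism of algebraic spaces over `S`, `i : Z →
X` a closed immersion of finite presentation such that `f⁻¹Z → Z` is an isomorphism and `f` is flat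
at every point of `|f⁻¹Z|`, and let `U ⊂ X` be the open subspace complementary to `Z`. Let `a : X₁ →
X₂` be a morphism of algebraic spaces over `X`. If the base change of `a` to `U` and the base change
of `a` to `Y` are isomorphisms, then `a` is an isomorphism: the formal glueing functor reflects
isomorphisms. -/
theorem result {S : Scheme.{u}} {X Y Z FZ U : AlgSp.Space S} (f : Y ⟶ X)
    (hqc : AlgSp.IsQuasiCompactMor f.hom) (hqs : AlgSp.IsQuasiSeparatedMor f.hom) (i : Z ⟶ X)
    (hi : AlgSp.RepWith @IsClosedImmersion i.hom) (hifp : AlgSp.LocP @LocallyOfFinitePresentation i.hom)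
    (iY : FZ ⟶ Y) (fZ : FZ ⟶ Z) (hFZ : IsPullback iY.hom fZ.hom f.hom i.hom) [IsIso fZ]
    (hflat : ∀ y ∈ Set.range (AlgSp.Points.map iY.hom), AlgSp.IsFlatAtMor f.hom y) (j : U ⟶ X)
    (hj : AlgSp.RepWith @IsOpenImmersion j.hom)
    (hU : Set.range (AlgSp.Points.map j.hom) = (Set.range (AlgSp.Points.map i.hom))ᶜ)
    {X₁ X₂ QU QU₁ QY QY₁ : AlgSp.Space S} (p₂ : X₂ ⟶ X) (a : X₁ ⟶ X₂)
    (qU : QU ⟶ X₂) (rU : QU ⟶ U) (hQU : IsPullback qU.hom rU.hom p₂.hom j.hom) (aU : QU₁ ⟶ QU)
    (bU : QU₁ ⟶ X₁) (hQU₁ : IsPullback bU.hom aU.hom a.hom qU.hom) [IsIso aU] (qY : QY ⟶ X₂) (rY : QY ⟶ Y)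
    (hQY : IsPullback qY.hom rY.hom p₂.hom f.hom) (aY : QY₁ ⟶ QY) (bY : QY₁ ⟶ X₁)
    (hQY₁ : IsPullback bY.hom aY.hom a.hom qY.hom) [IsIso aY] : IsIso a := by
  obtain ⟨ι, W, w, hW, hcov, hfac⟩ := Groth.L23.FpqcGlue.exists_cover X.property Y.property U.property hqc
    hi hifp hFZ hflat hj hU
  have hW' : ∀ k, AlgSp.IsAlgSpace (pullback p₂.hom (w k)) := fun k =>
    Groth.L24.St.isAlgSpace_pullback X₂.property (hW k) X.property _ _
  have hcov' := Groth.L23.isFpqcCover_of_isPullback X.property X₂.property hW (a := p₂.hom)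
    (fun k => IsPullback.of_hasPullback p₂.hom (w k)) hcov
  have key : ∀ k, IsIso (pullback.snd a.hom (pullback.fst p₂.hom (w k))) := fun k => by
    have sq := IsPullback.of_hasPullback a.hom (pullback.fst p₂.hom (w k))
    rcases hfac k with ⟨l, hl⟩ | ⟨l, hl⟩
    · let φ := hQU.lift (pullback.fst p₂.hom (w k)) (pullback.snd _ _ ≫ l) (by
        rw [Category.assoc, hl, pullback.condition])
      have hφ : pullback.fst p₂.hom (w k) = φ ≫ qU.hom := (hQU.lift_fst _ _ _).symm
      let ψ := hQU₁.lift (pullback.fst a.hom (pullback.fst p₂.hom (w k))) (pullback.snd _ _ ≫ φ) (by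
        rw [Category.assoc, ← hφ, pullback.condition])
      have sq' : IsPullback ψ (pullback.snd _ _) aU.hom φ := IsPullback.of_right (by
        rw [← hφ, hQU₁.lift_fst]; exact sq) (hQU₁.lift_snd _ _ _) hQU₁
      have : IsIso aU.hom := inferInstanceAs (IsIso ((ObjectProperty.ι _).map aU))
      exact MorphismProperty.of_isPullback (P := MorphismProperty.isomorphisms _) sq' this
    · let φ := hQY.lift (pullback.fst p₂.hom (w k)) (pullback.snd _ _ ≫ l) (by
        rw [Category.assoc, hl, pullback.condition])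
      have hφ : pullback.fst p₂.hom (w k) = φ ≫ qY.hom := (hQY.lift_fst _ _ _).symm
      let ψ := hQY₁.lift (pullback.fst a.hom (pullback.fst p₂.hom (w k))) (pullback.snd _ _ ≫ φ) (by
        rw [Category.assoc, ← hφ, pullback.condition])
      have sq' : IsPullback ψ (pullback.snd _ _) aY.hom φ := IsPullback.of_right (by
        rw [← hφ, hQY₁.lift_fst]; exact sq) (hQY₁.lift_snd _ _ _) hQY₁
      have : IsIso aY.hom := inferInstanceAs (IsIso ((ObjectProperty.ι _).map aY))
      exact MorphismProperty.of_isPullback (P := MorphismProperty.isomorphisms _) sq' this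
  have h := (Groth.Agent.S10532.result S (fun k => pullback p₂.hom (w k)) (fun k => pullback.fst _ _) X₂.property
    hW' hcov' a.hom X₁.property (fun k => pullback a.hom (pullback.fst p₂.hom (w k)))
    (fun k => pullback.snd _ _) (fun k => pullback.fst _ _)
    (fun k => Groth.L24.St.isAlgSpace_pullback X₁.property (hW' k) X₂.property _ _)
    (fun k => IsPullback.of_hasPullback _ _)).2 key
  have : IsIso ((ObjectProperty.ι _).map a) := h
  exact isIso_of_reflects_iso a (ObjectProperty.ι _)

end Groth.Agent.S10705
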