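import Groth.Statements.S10706
import Groth.Agent.L23.GlueableEtale
import Groth.Agent.L23.Points
import Groth.Agent.L23.Basic

set_option autoImplicit false
set_option backward.isDefEq.respectTransparency.types false
set_option linter.style.haveILetI false
universe u
open CategoryTheory CategoryTheory.Limits AlgebraicGeometry TensorProduct
open AlgSp

namespace Groth.Agent.S10706

/-- Let `(R → R', f)` be a glueing pair and `Y` an algebraic space over `Spec R`. The following are
equivalent: (1) there is an etale covering of `Y` by affine schemes `Spec A_k` with every `A_k`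
glueable as an `R`-module; (2) for every affine scheme `Spec A` etale over `Y`, the `R`-module `A`
is glueable. -/
theorem result (R : Type u) [CommRing R] (R' : Type u) [CommRing R'] [Algebra R R']
    (f : R) (hRR' : EtGlue.IsGlueingPair R R' f) (Y : AlgSp.Space (Spec (CommRingCat.of R))) :
    (∃ (ι : Type u) (A : ι → Type u) (_ : ∀ k, CommRing (A k)) (_ : ∀ k, Algebra R (A k))
        (g : ∀ k, (AlgSp.yon (Spec (CommRingCat.of R))).obj (Over.mk (Spec.map (CommRingCat.ofHom (algebraMap R (A k)))) : Over (Spec (CommRingCat.of R))) ⟶ Y.obj),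
        (∀ k, AlgSp.RepWith @Etale (g k)) ∧ (∀ y : AlgSp.Points Y.obj, ∃ k, y ∈ Set.range (AlgSp.Points.map (g k))) ∧
          ∀ k, EtGlue.IsGlueable R R' f (A k)) ↔
      (∀ (A : Type u) [CommRing A] [Algebra R A]
      (g : (AlgSp.yon (Spec (CommRingCat.of R))).obj (Over.mk (Spec.map (CommRingCat.ofHom (algebraMap R A))) : Over (Spec (CommRingCat.of R))) ⟶ Y.obj),
      AlgSp.RepWith @Etale g → EtGlue.IsGlueable R R' f A) := by
  constructor
  · rintro ⟨ι, A, _, _, g, hg, hcov, hglue⟩ C _ _ c hc
    exact (Groth.L05.Glue.isGlueable_iff_injTors hRR' C).2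
      (Groth.L23.Glueable.injTors_of_charts Y.property A g hg hcov
        (fun k => (Groth.L05.Glue.isGlueable_iff_injTors hRR' (A k)).1 (hglue k)) c hc)
  · intro H
    obtain ⟨U, a, hae, has⟩ := Y.property.atlas
    have hV : ∀ x : ↥U.left, ∃ O : U.left.Opens, IsAffineOpen O ∧ x ∈ O := fun x => by
      obtain ⟨_, ⟨O, hO, rfl⟩, hx, -⟩ :=
        U.left.isBasis_affineOpens.exists_subset_of_mem_open (Set.mem_univ x) isOpen_univ
      exact ⟨O, hO, hx⟩
    choose O hO hx using hV
    let φ : ∀ x, CommRingCat.of R ⟶ Γ(U.left, O x) := fun x => Spec.preimage ((hO x).fromSpec ≫ U.hom)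
    letI : ∀ x, Algebra R Γ(U.left, O x) := fun x => (φ x).hom.toAlgebra
    let j : ∀ x, (Over.mk (Spec.map (CommRingCat.ofHom (algebraMap R Γ(U.left, O x)))) :
        Over (Spec (CommRingCat.of R))) ⟶ U := fun x => Over.homMk (hO x).fromSpec (by
      show (hO x).fromSpec ≫ U.hom = Spec.map (φ x)
      rw [Spec.map_preimage])
    have hj : ∀ x, AlgSp.RepWith @Etale ((AlgSp.yon _).map (j x)) := fun x =>
      (AlgSp.repWith_yon_map_iff _ _).2 (show Etale (hO x).fromSpec from inferInstance)
    refine ⟨↥U.left, fun x => Γ(U.left, O x), inferInstance, inferInstance,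
      fun x => (AlgSp.yon _).map (j x) ≫ a, fun x => Groth.L23.repWith_comp (hj x) hae, fun y => ?_,
      fun x => H _ _ (Groth.L23.repWith_comp (hj x) hae)⟩
    obtain ⟨u, rfl⟩ := Groth.L23.surjective_ofPt has y
    have hu : u ∈ Set.range (hO u).fromSpec := by
      rw [(hO u).range_fromSpec]; exact hx u
    obtain ⟨q, hq⟩ := hu
    refine ⟨u, AlgSp.Points.ofScheme _ q, ?_⟩
    rw [← AlgSp.Points.ofPt_eq_map_ofScheme]
    rw [AlgSp.Points.ofPt_eq_map_ofScheme, AlgSp.Points.ofPt_eq_map_ofScheme, AlgSp.Points.map_comp]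
    congr 1
    apply (AlgSp.Points.schemeEquiv U).symm.injective
    show AlgSp.Points.toScheme U (AlgSp.Points.map ((AlgSp.yon _).map (j u)) (AlgSp.Points.ofScheme (Over.mk (Spec.map (CommRingCat.ofHom (algebraMap R Γ(U.left, O u))))) q)) =
      AlgSp.Points.toScheme U (AlgSp.Points.ofScheme U u)
    rw [← AlgSp.Points.ofPt_eq_map_ofScheme, AlgSp.Points.toScheme_ofPt, AlgSp.Points.toScheme_ofScheme]
    exact hq

end Groth.Agent.S10706
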