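import Groth.Statements.S10713
import Groth.Agent.L23.PushoutChart

set_option autoImplicit false
set_option backward.isDefEq.respectTransparency.types false
set_option linter.style.haveILetI false
universe u
open CategoryTheory CategoryTheory.Limits AlgebraicGeometry
open AlgSp

namespace Groth.Agent.S10713

/-- Let `t : X → X'` be a thickening and `f : X → Y` an affine morphism of algebraic spaces over `S`,
`Y' = Y ⨿_X X'` their pushout, `V → Y` and `U' → X'` algebraic spaces over `Y` and `X'` with a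
common base change `U` to `X` (so `U = V ×_Y X = U' ×_{X'} X`), `V' = V ⨿_U U'` the pushout in
algebraic spaces and `V' → Y'` the induced morphism. Then `V' → Y'` being flat and locally of finite
presentation is equivalent to both `V → Y` and `U' → X'` having these two properties. -/
theorem result {S : Scheme.{u}} {X X' Y Y' U U' V V' : AlgSp.Space S}
    (t : X ⟶ X') (ht : AlgSp.IsThickMor t.hom) (f : X ⟶ Y) (hf : AlgSp.IsAffineMor f.hom) (f' : X' ⟶ Y')
    (t' : Y ⟶ Y') (hY' : IsPushout t f f' t') (v : V ⟶ Y) (u' : U' ⟶ X') (uV : U ⟶ V) (uU' : U ⟶ U')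
    (uX : U ⟶ X) (hUV : IsPullback uV.hom uX.hom v.hom f.hom) (hUU' : IsPullback uU'.hom uX.hom u'.hom t.hom)
    (iV : V ⟶ V') (iU' : U' ⟶ V') (hV' : IsPushout uV uU' iV iU') (v' : V' ⟶ Y')
    (hv'₁ : iV ≫ v' = v ≫ t') (hv'₂ : iU' ≫ v' = u' ≫ f') :
    (AlgSp.LocP @Flat v'.hom ∧ AlgSp.LocP @LocallyOfFinitePresentation v'.hom) ↔
      (AlgSp.LocP @Flat v.hom ∧ AlgSp.LocP @LocallyOfFinitePresentation v.hom) ∧
        (AlgSp.LocP @Flat u'.hom ∧ AlgSp.LocP @LocallyOfFinitePresentation u'.hom) := by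
  obtain ⟨cA, c, ⟨d⟩⟩ := Groth.L23.PushoutSpace.exists_relChart ht hf hY' hUV hUU' hV' hv'₁ hv'₂
  refine ⟨fun h => ⟨⟨(d.locP_sides Groth.L23.etLocal_flat h.1).1, (d.locP_sides Groth.L23.etLocal_lfp h.2).1⟩,
    (d.locP_sides Groth.L23.etLocal_flat h.1).2, (d.locP_sides Groth.L23.etLocal_lfp h.2).2⟩, fun h => ?_⟩
  obtain ⟨a', a₁, a₂⟩ := d.locP_iff Groth.L23.etLocal_flat
  obtain ⟨b', b₁, b₂⟩ := d.locP_iff Groth.L23.etLocal_lfp
  exact ⟨a'.2 (d.flat_α (a₁.1 h.1.1) (a₂.1 h.2.1)),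
    b'.2 (d.lfp_α (a₁.1 h.1.1) (b₁.1 h.1.2) (a₂.1 h.2.1) (b₂.1 h.2.2))⟩

end Groth.Agent.S10713
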