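import Groth.Statements.S10719
import Groth.Agent.L23.ColimitFpqc

set_option autoImplicit false
set_option backward.isDefEq.respectTransparency.types false
set_option linter.style.haveILetI false
universe w v u
open CategoryTheory CategoryTheory.Limits AlgebraicGeometry
open AlgSp

namespace Groth.Agent.S10719

/-- Let `B` be an algebraic space over `S`, `D : I ⥤ Over B` a diagram of algebraic spaces over `B` with
a cocone `c`, and `{U_a → c.pt}` an fpqc covering (by algebraic spaces over `B`). If (1) for every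
`a`, every cocone of cartesian squares `D_i ×_{c.pt} U_a → U_a` is a colimit in algebraic spaces
over `B`, and (2) the same holds for every fibre product `U_a ×_{c.pt} U_b`, then `c` is a colimit
in algebraic spaces over `B`. -/
theorem result {S : Scheme.{u}} {B : AlgSp.Space S} {I : Type v} [Category.{w} I] (D : I ⥤ Over B)
    (c : Cocone D) {κ : Type u} (Ua : κ → Over B) (ua : ∀ a, Ua a ⟶ c.pt)
    (hcov : AlgSp.IsFpqcCover (fun a => (Ua a).left.obj) (fun a => (ua a).left.hom))
    (h₁ : ∀ (a : κ) (Da : I ⥤ Over B) (α : Da ⟶ D) (ι : Da ⟶ (Functor.const I).obj (Ua a)),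
      (∀ i, IsPullback (ι.app i).left.hom (α.app i).left.hom (ua a).left.hom (c.ι.app i).left.hom) →
        Nonempty (IsColimit (Cocone.mk (Ua a) ι)))
    (h₂ : ∀ (a b : κ) (Uab : Over B) (pa : Uab ⟶ Ua a) (pb : Uab ⟶ Ua b),
      IsPullback pa.left.hom pb.left.hom (ua a).left.hom (ua b).left.hom →
      ∀ (Dab : I ⥤ Over B) (α : Dab ⟶ D) (ι : Dab ⟶ (Functor.const I).obj Uab),
        (∀ i, IsPullback (ι.app i).left.hom (α.app i).left.hom (pa ≫ ua a).left.hom (c.ι.app i).left.hom) →
          Nonempty (IsColimit (Cocone.mk Uab ι))) :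
    Nonempty (IsColimit c) := by
  exact Groth.L23.ColimitFpqc.nonempty_isColimit c Ua ua hcov
    (fun a => h₁ a _ (Groth.L23.ColimitFpqc.pbNat c (ua a)) (Groth.L23.ColimitFpqc.pbCocone c (ua a))
      (Groth.L23.ColimitFpqc.pb_isPullback c (ua a)))
    (fun a b => h₂ a b _ (Groth.L23.ColimitFpqc.pbFst (ua a) (ua b)) (Groth.L23.ColimitFpqc.pbSnd (ua a) (ua b))
      (IsPullback.of_hasPullback _ _) _ (Groth.L23.ColimitFpqc.pbNat c _) (Groth.L23.ColimitFpqc.pbCocone c _)
      (Groth.L23.ColimitFpqc.pb_isPullback c _))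

end Groth.Agent.S10719
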