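import Groth.Statements.S1072
import Groth.Agent.L00.LocAbelian
-- import your own Groth.Agent.* helpers here

set_option autoImplicit false
universe v v' u u'
open CategoryTheory CategoryTheory.Limits
open CohDer

namespace Groth.Agent.S1072

/-- Let A be an abelian category, W a class of morphisms admitting both left and right calculus of
fractions, and L : A ⥤ D a localization functor for W. Then D admits the structure of an abelian
category and L is exact (preserves finite limits and finite colimits). -/
theorem result {A : Type u} [Category.{v} A] [Abelian A]
    (W : MorphismProperty A) [W.HasLeftCalculusOfFractions] [W.HasRightCalculusOfFractions]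
    {D : Type u'} [Category.{v'} D] (L : A ⥤ D) [L.IsLocalization W] :
    Nonempty (Abelian D) ∧ PreservesFiniteLimits L ∧ PreservesFiniteColimits L := by
  let p : Preadditive D := Localization.preadditive L W
  have : L.Additive := Localization.functor_additive L W
  exact Groth.L00.LocAbelian.main W L

end Groth.Agent.S1072
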