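import Groth.Statements.S10720
import Groth.Agent.L23.GlueHom

set_option autoImplicit false
set_option backward.isDefEq.respectTransparency.types false
set_option linter.style.haveILetI false
universe u
open CategoryTheory CategoryTheory.Limits AlgebraicGeometry
open AlgSp

namespace Groth.Agent.S10720

/-- Let `f : Y → X` be a quasi-compact quasi-separated morphism of algebraic spaces over `S`, `i : Z →
X` a closed immersion of finite presentation such that `f⁻¹Z → Z` is an isomorphism and `f` is flat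
at every point of `|f⁻¹Z|`, and let `U ⊂ X` be the open subspace complementary to `Z`, with `V = U
×_X Y`. Let `X'₁`, `X'₂` be algebraic spaces over `X` with `X'₂ → X` separated. Then every morphism
between their images in the glueing category — morphisms of the base changes to `U`, to `V` and to
`Y`, over `U`, `V`, `Y` and compatible with the restriction maps — is induced by a unique morphism
`X'₁ → X'₂` over `X`. -/
theorem result {S : Scheme.{u}} {X Y Z FZ U : AlgSp.Space S} (f : Y ⟶ X)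
    (hqc : AlgSp.IsQuasiCompactMor f.hom) (hqs : AlgSp.IsQuasiSeparatedMor f.hom) (i : Z ⟶ X)
    (hi : AlgSp.RepWith @IsClosedImmersion i.hom) (hifp : AlgSp.LocP @LocallyOfFinitePresentation i.hom)
    (iY : FZ ⟶ Y) (fZ : FZ ⟶ Z) (hFZ : IsPullback iY.hom fZ.hom f.hom i.hom) [IsIso fZ]
    (hflat : ∀ y ∈ Set.range (AlgSp.Points.map iY.hom), AlgSp.IsFlatAtMor f.hom y) (j : U ⟶ X)
    (hj : AlgSp.RepWith @IsOpenImmersion j.hom)
    (hU : Set.range (AlgSp.Points.map j.hom) = (Set.range (AlgSp.Points.map i.hom))ᶜ)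
    {X₁ X₂ A₁U A₂U A₁Y A₂Y A₁V A₂V : AlgSp.Space S} (p₁ : X₁ ⟶ X) (p₂ : X₂ ⟶ X)
    (hp₂ : AlgSp.IsSeparatedMor p₂.hom)
    (a₁U : A₁U ⟶ X₁) (r₁U : A₁U ⟶ U) (h₁U : IsPullback a₁U.hom r₁U.hom p₁.hom j.hom)
    (a₂U : A₂U ⟶ X₂) (r₂U : A₂U ⟶ U) (h₂U : IsPullback a₂U.hom r₂U.hom p₂.hom j.hom)
    (a₁Y : A₁Y ⟶ X₁) (r₁Y : A₁Y ⟶ Y) (h₁Y : IsPullback a₁Y.hom r₁Y.hom p₁.hom f.hom)
    (a₂Y : A₂Y ⟶ X₂) (r₂Y : A₂Y ⟶ Y) (h₂Y : IsPullback a₂Y.hom r₂Y.hom p₂.hom f.hom)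
    (m₁U : A₁V ⟶ A₁U) (m₁Y : A₁V ⟶ A₁Y) (h₁V : IsPullback m₁U.hom m₁Y.hom a₁U.hom a₁Y.hom)
    (m₂U : A₂V ⟶ A₂U) (m₂Y : A₂V ⟶ A₂Y) (h₂V : IsPullback m₂U.hom m₂Y.hom a₂U.hom a₂Y.hom)
    (bU : A₁U ⟶ A₂U) (hbU : bU ≫ r₂U = r₁U) (bY : A₁Y ⟶ A₂Y) (hbY : bY ≫ r₂Y = r₁Y)
    (bV : A₁V ⟶ A₂V) (hbV₁ : bV ≫ m₂U = m₁U ≫ bU) (hbV₂ : bV ≫ m₂Y = m₁Y ≫ bY) :
    ∃! a : X₁ ⟶ X₂, a ≫ p₂ = p₁ ∧ a₁U ≫ a = bU ≫ a₂U ∧ a₁Y ≫ a = bY ≫ a₂Y := by
  have hh : ∀ {A B C : AlgSp.Space S} {p : A ⟶ B} {q : B ⟶ C} {r : A ⟶ C}, p ≫ q = r → p.hom ≫ q.hom = r.hom :=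
    fun h => congrArg (fun k => k.hom) h
  have : IsIso fZ.hom := inferInstanceAs (IsIso ((ObjectProperty.ι _).map fZ))
  obtain ⟨κ, W, w, l, hl, hfl, hfw, -, hcov⟩ := Groth.L23.FpqcGlue.exists_cover' X.property Y.property U.property
    hqc hi hifp hFZ hflat hj hU
  obtain ⟨a, ⟨h1, h2, h3⟩, hu⟩ := Groth.L23.GlueHom.existsUnique_glue X.property Y.property X₂.property hi hifp hFZ
    hj hU hp₂ h₁U h₁Y h₂Y.w h₁V h₂V.w (hh hbY)
    (congrArg (fun k => k.hom) hbV₁) (congrArg (fun k => k.hom) hbV₂) X₁.property U.property A₁Y.property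
    h₂U.w (hh hbU) W w l hl hfl hfw hcov
  exact ⟨⟨a⟩, ⟨ObjectProperty.hom_ext _ h1, ObjectProperty.hom_ext _ h2, ObjectProperty.hom_ext _ h3⟩,
    fun a' ⟨e1, e2, e3⟩ => ObjectProperty.hom_ext _ (hu a'.hom
      ⟨congrArg (fun k => k.hom) e1, congrArg (fun k => k.hom) e2, congrArg (fun k => k.hom) e3⟩)⟩

end Groth.Agent.S10720
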