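import Groth.Statements.S10726
import Groth.Agent.L23.GluePairGlobal

set_option autoImplicit false
set_option backward.isDefEq.respectTransparency.types false
set_option linter.style.haveILetI false
universe u
open CategoryTheory CategoryTheory.Limits AlgebraicGeometry TensorProduct
open AlgSp

namespace Groth.Agent.S10726

/-- Let `(R → R', f)` be a glueing pair, `X = Spec R`, `U = Spec R_f`, `X' = Spec R'`, `U' = U ×_X X'`,
and let `Y`, `Z` be algebraic spaces over `X`, glueable for `(R → R', f)`, with `Z` having affine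
diagonal over `X`. Then morphisms `a : U ×_X Y → U ×_X Z` over `U` and `b : X' ×_X Y → X' ×_X Z`
over `X'` that induce the same morphism over `U'` are induced by a unique morphism `Y → Z` over `X`.
(The published statement asks both spaces to have affine diagonal over `X`; this row asks it only of
`Z`, which is all the argument uses.) -/
theorem result (R : Type u) [CommRing R] (R' : Type u) [CommRing R'] [Algebra R R']
    (f : R) (hRR' : EtGlue.IsGlueingPair R R' f) {Y Z YU ZU YX ZX YU' ZU' : AlgSp.Space (Spec (CommRingCat.of R))}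
    (hY : (∀ (A : Type u) [CommRing A] [Algebra R A]
      (g : (AlgSp.yon (Spec (CommRingCat.of R))).obj (Over.mk (Spec.map (CommRingCat.ofHom (algebraMap R A))) : Over (Spec (CommRingCat.of R))) ⟶ Y.obj),
      AlgSp.RepWith @Etale g → EtGlue.IsGlueable R R' f A))
    (hZ : (∀ (A : Type u) [CommRing A] [Algebra R A]
      (g : (AlgSp.yon (Spec (CommRingCat.of R))).obj (Over.mk (Spec.map (CommRingCat.ofHom (algebraMap R A))) : Over (Spec (CommRingCat.of R))) ⟶ Z.obj),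
      AlgSp.RepWith @Etale g → EtGlue.IsGlueable R R' f A))
    (hZd : AlgSp.IsAffineMor (Limits.diag Z.obj)) (πY : Y.obj ⟶ (AlgSp.yon (Spec (CommRingCat.of R))).obj (Over.mk (𝟙 _)))
    (πZ : Z.obj ⟶ (AlgSp.yon (Spec (CommRingCat.of R))).obj (Over.mk (𝟙 _)))
    (inU : (Over.mk (Spec.map (CommRingCat.ofHom (algebraMap R (Localization.Away f)))) : Over (Spec (CommRingCat.of R))) ⟶ Over.mk (𝟙 _))
    (inX : (Over.mk (Spec.map (CommRingCat.ofHom (algebraMap R R'))) : Over (Spec (CommRingCat.of R))) ⟶ Over.mk (𝟙 _))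
    (uY : YU ⟶ Y) (sY : YU.obj ⟶ (AlgSp.yon (Spec (CommRingCat.of R))).obj (Over.mk (Spec.map (CommRingCat.ofHom (algebraMap R (Localization.Away f)))) : Over (Spec (CommRingCat.of R))))
    (hYU : IsPullback uY.hom sY πY ((AlgSp.yon (Spec (CommRingCat.of R))).map inU))
    (uZ : ZU ⟶ Z) (sZ : ZU.obj ⟶ (AlgSp.yon (Spec (CommRingCat.of R))).obj (Over.mk (Spec.map (CommRingCat.ofHom (algebraMap R (Localization.Away f)))) : Over (Spec (CommRingCat.of R))))
    (hZU : IsPullback uZ.hom sZ πZ ((AlgSp.yon (Spec (CommRingCat.of R))).map inU))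
    (xY : YX ⟶ Y) (rY : YX.obj ⟶ (AlgSp.yon (Spec (CommRingCat.of R))).obj (Over.mk (Spec.map (CommRingCat.ofHom (algebraMap R R'))) : Over (Spec (CommRingCat.of R))))
    (hYX : IsPullback xY.hom rY πY ((AlgSp.yon (Spec (CommRingCat.of R))).map inX))
    (xZ : ZX ⟶ Z) (rZ : ZX.obj ⟶ (AlgSp.yon (Spec (CommRingCat.of R))).obj (Over.mk (Spec.map (CommRingCat.ofHom (algebraMap R R'))) : Over (Spec (CommRingCat.of R))))
    (hZX : IsPullback xZ.hom rZ πZ ((AlgSp.yon (Spec (CommRingCat.of R))).map inX))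
    (mY₁ : YU' ⟶ YU) (mY₂ : YU' ⟶ YX) (hYU' : IsPullback mY₁.hom mY₂.hom uY.hom xY.hom)
    (mZ₁ : ZU' ⟶ ZU) (mZ₂ : ZU' ⟶ ZX) (hZU' : IsPullback mZ₁.hom mZ₂.hom uZ.hom xZ.hom)
    (a : YU ⟶ ZU) (ha : a.hom ≫ sZ = sY) (b : YX ⟶ ZX) (hb : b.hom ≫ rZ = rY) (c : YU' ⟶ ZU')
    (hc₁ : c ≫ mZ₁ = mY₁ ≫ a) (hc₂ : c ≫ mZ₂ = mY₂ ≫ b) :
    ∃! φ : Y ⟶ Z, uY ≫ φ = a ≫ uZ ∧ xY ≫ φ = b ≫ xZ := by
  obtain ⟨φ, ⟨h₁, h₂⟩, hu⟩ := Groth.L23.GluePair.existsUnique_glued_hom (aU := a.hom ≫ uZ.hom) (bX := b.hom ≫ xZ.hom)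
    hRR' Y.property Z.property hY hZd hYU hYX (fun P l₁ l₂ e => by
      obtain ⟨n, rfl, rfl⟩ := hYU'.exists_lift l₁ l₂ e
      have e₁ := congrArg InducedCategory.Hom.hom hc₁
      have e₂ := congrArg InducedCategory.Hom.hom hc₂
      have e₁' : c.hom ≫ mZ₁.hom = mY₁.hom ≫ a.hom := e₁
      have e₂' : c.hom ≫ mZ₂.hom = mY₂.hom ≫ b.hom := e₂
      simp only [Category.assoc]
      rw [← Category.assoc mY₁.hom, ← e₁', ← Category.assoc mY₂.hom, ← e₂', Category.assoc, Category.assoc, hZU'.w])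
  refine ⟨InducedCategory.homMk φ, ⟨InducedCategory.hom_ext h₁, InducedCategory.hom_ext h₂⟩, fun φ' h => ?_⟩
  exact InducedCategory.hom_ext (hu φ'.hom ⟨congrArg InducedCategory.Hom.hom h.1, congrArg InducedCategory.Hom.hom h.2⟩)

end Groth.Agent.S10726
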