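import Groth.Statements.S10730
import Groth.Agent.L23.EtColimit

set_option autoImplicit false
set_option backward.isDefEq.respectTransparency.types false
set_option linter.style.haveILetI false
universe w v u
open CategoryTheory CategoryTheory.Limits AlgebraicGeometry
open AlgSp

namespace Groth.Agent.S10730

/-- Let `B` be an algebraic space over `S`, `D : I ⥤ Over B` a diagram of algebraic spaces over `B` and
`c` a cocone. Assume (1) the base change functor from algebraic spaces etale over `c.pt` to systems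
of algebraic spaces etale over the `D_i` with cartesian transition squares is an equivalence: every
such system is the base change of some etale `U → c.pt`, and every morphism between the base-change
systems of two etale `U, U' → c.pt` comes from a unique morphism `U → U'` over `c.pt`; and (2) for
every affine scheme `B'` etale over `B`, affine scheme `Z` over `B'`, affine scheme `U` etale over
`c.pt ×_B B'` and cocone of morphisms `U ×_{c.pt} D_i → Z` over `B'`, there is a unique `U → Z` over
`B'` inducing it. Then `c` is a colimit in algebraic spaces over `B`. -/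
theorem result {S : Scheme.{u}} {B : AlgSp.Space S} {I : Type v} [Category.{w} I]
    (D : I ⥤ Over B) (c : Cocone D)
    (h₁ : ∀ (D' : I ⥤ Over B) (α : D' ⟶ D),
      (∀ ⦃i j : I⦄ (g : i ⟶ j), IsPullback (D'.map g).left.hom (α.app i).left.hom (α.app j).left.hom (D.map g).left.hom) →
      (∀ i, AlgSp.IsEtaleMor (α.app i).left.hom) →
        ∃ (c' : Cocone D') (a : c'.pt ⟶ c.pt), AlgSp.IsEtaleMor a.left.hom ∧
          ∀ i, IsPullback (c'.ι.app i).left.hom (α.app i).left.hom a.left.hom (c.ι.app i).left.hom)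
    (h₁' : ∀ (U U' : Over B) (u : U ⟶ c.pt) (u' : U' ⟶ c.pt), AlgSp.IsEtaleMor u.left.hom → AlgSp.IsEtaleMor u'.left.hom →
      ∀ (DU DU' : I ⥤ Over B) (αU : DU ⟶ D) (αU' : DU' ⟶ D) (ιU : DU ⟶ (Functor.const I).obj U)
        (ιU' : DU' ⟶ (Functor.const I).obj U'),
        (∀ i, IsPullback (ιU.app i).left.hom (αU.app i).left.hom u.left.hom (c.ι.app i).left.hom) →
        (∀ i, IsPullback (ιU'.app i).left.hom (αU'.app i).left.hom u'.left.hom (c.ι.app i).left.hom) →
        ∀ (β : DU ⟶ DU'), β ≫ αU' = αU →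
          ∃! m : U ⟶ U', m ≫ u' = u ∧ ∀ i, ιU.app i ≫ m = β.app i ≫ ιU'.app i)
    (h₂ : ∀ (B' Zs Us : Over S) (b : (AlgSp.yon S).obj B' ⟶ B.obj) (z : Zs ⟶ B') {XB : AlgSp.Space S}
      (x₁ : XB ⟶ c.pt.left) (x₂ : XB.obj ⟶ (AlgSp.yon S).obj B') (uu : (AlgSp.yon S).obj Us ⟶ XB.obj)
      (DU : I ⥤ AlgSp.Space S) (αU : DU ⟶ D ⋙ Over.forget B)
      (ιU : DU ⟶ (Functor.const I).obj ((AlgSp.ofScheme S).obj Us))
      (φ : DU ⟶ (Functor.const I).obj ((AlgSp.ofScheme S).obj Zs)),
      IsAffine B'.left → IsAffine Zs.left → IsAffine Us.left → AlgSp.RepWith @Etale b →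
      IsPullback x₁.hom x₂ c.pt.hom.hom b → AlgSp.RepWith @Etale uu →
      (∀ i, IsPullback (ιU.app i).hom (αU.app i).hom (uu ≫ x₁.hom) (c.ι.app i).left.hom) →
      (∀ i, (φ.app i).hom ≫ (AlgSp.yon S).map z = (ιU.app i).hom ≫ uu ≫ x₂) →
        ∃! fz : Us ⟶ Zs, (AlgSp.yon S).map fz ≫ (AlgSp.yon S).map z = uu ≫ x₂ ∧
          ∀ i, (ιU.app i).hom ≫ (AlgSp.yon S).map fz = (φ.app i).hom) :
    Nonempty (IsColimit c) := by
  exact Groth.L23.EtColim.nonempty_isColimit h₁' h₂ h₁

end Groth.Agent.S10730
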