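import Groth.Statements.S10731
import Groth.Agent.L09.EtAlt.Chart

set_option autoImplicit false
universe u
open CategoryTheory CategoryTheory.Limits AlgebraicGeometry Opposite
open AlgSp

set_option backward.isDefEq.respectTransparency false
set_option backward.isDefEq.respectTransparency.types false

namespace Groth.Agent.S10731

/-- Let X be a quasi-compact algebraic space, separated over a separated base scheme S, let U be an
affine scheme with a surjective etale morphism f : h_U ⟶ X (representable etale and representable
surjective), and let d be a natural number such that every geometric point of X has at most d lifts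
to U. Then H^q(X, M) = 0 for every quasi-coherent O_X-module M on the small etale site of X and
every q ≥ d. (The published statement bounds the fibres of the induced map on sets of points; this
row bounds the geometric fibres, the form the argument uses — the two bounds agree at points with
separably closed residue field, and the geometric bound implies the bound on points. Separatedness
of X is taken relative to S together with S separated, which gives the absolute notion.) -/
theorem result {S : Scheme.{u}} [S.IsSeparated] (X : AlgSp.Space S)
    (hqc : AlgSp.IsQuasiCompactSp X.obj) (hsep : AlgSp.IsSeparatedSp X.obj)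
    {U : Over S} (hU : IsAffine U.left) (f : (AlgSp.yon S).obj U ⟶ X.obj)
    (hf : AlgSp.RepWith @Etale f) (hfs : AlgSp.RepWith @Surjective f) (d : ℕ)
    (hd : ∀ x : AlgSp.FieldPt X.obj, x.IsGeometric →
      ENat.card ((AlgSp.FieldPt.liftsTo x).obj (AlgSp.EtOver.mk f hf)) ≤ d)
    (M : AlgSp.ModEt X.obj) [M.IsQuasicoherent] (q : ℕ) (hq : d ≤ q) :
    Subsingleton (AlgSp.HModEt X.obj M q) := by
  haveI : IsAffine (EtOver.mk f hf).obj.left.left := hU
  exact Groth.L09.EtAlt.subsingleton_hModEt_of_chart hsep (EtOver.mk f hf) hfs d hd M q hq

end Groth.Agent.S10731
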