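import Groth.Statements.S10733
import Groth.Agent.L23.Chow.SpaceSurj

set_option autoImplicit false
set_option linter.style.haveILetI false
set_option backward.isDefEq.respectTransparency false
set_option backward.isDefEq.respectTransparency.types false
universe u
open CategoryTheory CategoryTheory.Limits AlgebraicGeometry Opposite
open AlgSp
open Groth.L23

namespace Groth.Agent.S10733

/-- Let S be an affine scheme and X an algebraic space over S whose structure morphism p to h_S (S over
itself by the identity) is separated and of finite type. Then there are a scheme X' over S whose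
structure morphism X' ⟶ S is H-quasi-projective (a quasi-compact immersion into some projective
space over S) and a proper surjective morphism h_{X'} ⟶ X. -/
theorem result {S : Scheme.{u}} [IsAffine S] (X : AlgSp.Space S)
    (p : X.obj ⟶ (AlgSp.yon S).obj (Over.mk (𝟙 S)))
    (hsep : AlgSp.IsSeparatedMor p) (hft : AlgSp.IsFiniteTypeMor p) :
    ∃ (T : Over S) (g : (AlgSp.yon S).obj T ⟶ X.obj),
      RelProj.IsHQuasiProjective T.hom ∧ AlgSp.IsProperMor g ∧ AlgSp.IsSurjectiveMor g := by
  haveI : IsAffine (Over.mk (𝟙 S) : Over S).left := inferInstanceAs (IsAffine S)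
  haveI : QuasiSeparatedSpace S := inferInstance
  obtain ⟨W, g, n, w, q, hg, hgs, -, hq, hqc, hqw⟩ :=
    Chow.exists_projective_modification X.property (T := Over.mk (𝟙 S)) hsep hft
  refine ⟨W, g, ⟨n, q, hq, hqc, hqw.trans ?_⟩, hg, hgs⟩
  exact ((Category.comp_id w.left).symm.trans (Over.w w))

end Groth.Agent.S10733
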