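import Groth.Statements.S10738
import Groth.Agent.L23.PushEtEpi
import Mathlib.Algebra.Category.Grp.AB
import Mathlib.Algebra.Homology.ShortComplex.ExactFunctor
import Groth.Agent.L23.AffineMor

set_option autoImplicit false
set_option backward.isDefEq.respectTransparency.types false
universe u
open CategoryTheory CategoryTheory.Limits AlgebraicGeometry Opposite
open AlgSp

namespace Groth.Agent.S10738
open Groth.L23 Groth.L23.PushEt

/-- Let f : X ⟶ Y be an integral (for instance finite) morphism of algebraic spaces over S; such a
morphism is representable, and the representability is carried as a hypothesis. Then f_* on abelian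
sheaves on the small etale sites is an exact functor (it preserves finite colimits, finite limits
being automatic) and R^p f_* F = 0 for every abelian sheaf F on X_et and every p > 0. -/
theorem result {S : Scheme.{u}} {X Y : AlgSp.Space S} (f : X ⟶ Y)
    (hf : AlgSp.Representable f.hom) (hint : AlgSp.IsIntegralMor f.hom) :
    PreservesFiniteColimits (AlgSp.pushEt hf AddCommGrpCat.{u + 1}) ∧
      ∀ (p : ℕ), 0 < p → ∀ F : AlgSp.AbEt X.obj, IsZero ((AlgSp.RpushEt hf p).obj F) := by
  have hi : AlgSp.RepWith @IsIntegralHom f.hom := isIntegralMor_iff.1 hint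
  haveI : PreservesLimitsOfSize.{0, 0} (AlgSp.pushEt hf AddCommGrpCat.{u + 1}) :=
    (AlgSp.pullPushAdjEt hf AddCommGrpCat.{u + 1}).rightAdjoint_preservesLimits
  haveI : PreservesFiniteLimits (AlgSp.pushEt hf AddCommGrpCat.{u + 1}) :=
    PreservesLimitsOfSize.preservesFiniteLimits _
  haveI : (AlgSp.pushEt hf AddCommGrpCat.{u + 1}).PreservesEpimorphisms := ⟨fun φ _ => by
    haveI : Sheaf.IsLocallySurjective φ := (Sheaf.isLocallySurjective_iff_epi' (φ := φ)).2 inferInstance
    exact (Sheaf.isLocallySurjective_iff_epi' (φ := (AlgSp.pushEt hf AddCommGrpCat.{u + 1}).map φ)).1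
      (isLocallySurjective_pushEt hf hi φ)⟩
  haveI : PreservesLimitsOfShape WalkingParallelPair (AlgSp.pushEt hf AddCommGrpCat.{u + 1}) :=
    PreservesFiniteLimits.preservesFiniteLimits _
  haveI : (AlgSp.pushEt hf AddCommGrpCat.{u + 1}).PreservesHomology :=
    Functor.preservesHomology_of_preservesEpis_and_kernels _
  exact ⟨Functor.preservesFiniteColimits_of_preservesHomology _,
    fun p hp F => isZero_rightDerived_of_epi _ F p hp⟩

end Groth.Agent.S10738
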