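import Groth.Statements.S10739
import Groth.Agent.L09.EtCoh.Push
import Groth.Agent.L09.EtCoh.Qcoh

set_option autoImplicit false
universe u
open CategoryTheory CategoryTheory.Limits AlgebraicGeometry Opposite
open AlgSp

set_option backward.isDefEq.respectTransparency false
set_option backward.isDefEq.respectTransparency.types false

namespace Groth.Agent.S10739

/-- Let f : X ⟶ Y be an affine morphism of algebraic spaces over S; such a morphism is representable,
and the representability is carried as a hypothesis. Then for every quasi-coherent O_X-module M on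
the small etale site of X and every i > 0, the higher direct image R^i f_* of the abelian sheaf
underlying M is zero. -/
theorem result {S : Scheme.{u}} {X Y : AlgSp.Space S} (f : X ⟶ Y)
    (hf : AlgSp.Representable f.hom) (haff : AlgSp.IsAffineMor f.hom) (M : AlgSp.ModEt X.obj) [M.IsQuasicoherent]
    (i : ℕ) (hi : 0 < i) :
    IsZero ((AlgSp.RpushEt hf i).obj ((AlgSp.toAbEt X.obj).obj M)) := by
  obtain ⟨m, rfl⟩ := Nat.exists_eq_succ_of_ne_zero hi.ne'
  exact Groth.L09.EtCoh.isZero_rpush hf (Groth.L23.isAffineMor_iff.1 haff) m _
    (Groth.L09.EtCoh.cok_of_isQuasicoherent M)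

end Groth.Agent.S10739
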