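import Groth.Statements.S10740
import Groth.Agent.L09.EtMV.Dim

set_option autoImplicit false
universe u
open CategoryTheory CategoryTheory.Limits AlgebraicGeometry Opposite
open AlgSp

set_option backward.isDefEq.respectTransparency false
set_option backward.isDefEq.respectTransparency.types false

namespace Groth.Agent.S10740

/-- Let X be a quasi-compact algebraic space, quasi-separated over a quasi-separated base scheme S, with
dim X ≤ d for a natural number d, and let M be a quasi-coherent O_X-module on the small etale site
of X. Then H^q(X, M) = 0 for every q > d. (The companion statements on surjectivity of restriction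
to a quasi-compact open subspace in degree d and on cohomology with supports are not included.) -/
theorem result {S : Scheme.{u}} [QuasiSeparatedSpace ↥S] (X : AlgSp.Space S)
    (hqc : AlgSp.IsQuasiCompactSp X.obj) (hqs : AlgSp.IsQuasiSeparatedSp X.obj) (d : ℕ)
    (hdim : AlgSp.dim X.obj ≤ (d : WithBot ℕ∞)) (M : AlgSp.ModEt X.obj) [M.IsQuasicoherent]
    (q : ℕ) (hq : d < q) :
    Subsingleton (AlgSp.HModEt X.obj M q) := by
  exact Groth.L09.EtMV.subsingleton_hEt_of_dim X.property hqc hqs hdim _
    (Groth.L09.EtCoh.cok_of_isQuasicoherent M) q hq

end Groth.Agent.S10740
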