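import Groth.Statements.S10742
import Groth.Agent.L23.QcohClosure

set_option autoImplicit false
universe u
open CategoryTheory CategoryTheory.Limits AlgebraicGeometry Opposite
open AlgSp

set_option backward.isDefEq.respectTransparency false
set_option backward.isDefEq.respectTransparency.types false
set_option linter.style.haveILetI false

namespace Groth.Agent.S10742

/-- Let X be a locally Noetherian algebraic space over S and φ : M ⟶ N a morphism of coherent
O_X-modules on the small etale site of X (coherent meaning of finite presentation, X being locally
Noetherian). Then the kernel and the cokernel of φ are coherent. -/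
theorem result {S : Scheme.{u}} (X : AlgSp.Space S)
    (hX : AlgSp.IsLocNoethSp X.obj) {M N : AlgSp.ModEt X.obj} [M.IsFinitePresentation] [N.IsFinitePresentation]
    (φ : M ⟶ N) :
    (kernel φ).IsFinitePresentation ∧ (cokernel φ).IsFinitePresentation := by
  haveI := Groth.L23.QcClosure.isQuasicoherent_kernel φ
  haveI := Groth.L23.QcClosure.isQuasicoherent_cokernel φ
  refine ⟨Groth.L23.FP.isFinitePresentation_of_finite hX _ fun E _ => ?_, ?_⟩
  · letI := Groth.L09.ModEt.secModule M E
    letI := Groth.L09.ModEt.secModule (kernel φ) E
    haveI := Groth.L09.ModEt.finite_sectModEt M E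
    haveI := Groth.L23.FP.isNoetherianRing_Γ₀ hX E
    exact Module.Finite.of_injective (Groth.L23.CohNbhd.app₀ (kernel.ι φ) E)
      (Groth.L23.FP.injective_app₀ (kernel.ι φ) E)
  · haveI := Groth.L23.FP.isFiniteType_of_epi (cokernel.π φ)
    exact Groth.L23.FP.isFinitePresentation_of_finite hX _ fun E _ => Groth.L09.ModEt.finite_sectModEt _ E

end Groth.Agent.S10742
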