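import Groth.Statements.S10743
import Groth.Agent.L23.FpNoeth
import Groth.Agent.L09.ModEt.Ext
import Mathlib.RingTheory.Finiteness.Finsupp

set_option autoImplicit false
universe u
open CategoryTheory CategoryTheory.Limits AlgebraicGeometry Opposite
open AlgSp

set_option backward.isDefEq.respectTransparency false
set_option backward.isDefEq.respectTransparency.types false
set_option linter.style.haveILetI false

namespace Groth.Agent.S10743

/-- Let X be a locally Noetherian algebraic space over S and 0 ⟶ M₁ ⟶ M₂ ⟶ M₃ ⟶ 0 a short exact sequence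
of O_X-modules on the small etale site of X with M₁ and M₃ coherent (of finite presentation, X being
locally Noetherian). Then M₂ is coherent. -/
theorem result {S : Scheme.{u}} (X : AlgSp.Space S)
    (hX : AlgSp.IsLocNoethSp X.obj) (T : ShortComplex (AlgSp.ModEt X.obj)) (hT : T.ShortExact)
    [T.X₁.IsFinitePresentation] [T.X₃.IsFinitePresentation] :
    T.X₂.IsFinitePresentation := by
  haveI := Groth.L09.ModEt.isQuasicoherent_middle hT inferInstance inferInstance
  refine Groth.L23.FP.isFinitePresentation_of_finite hX T.X₂ fun E _ => ?_
  letI := Groth.L09.ModEt.secModule T.X₁ E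
  letI := Groth.L09.ModEt.secModule T.X₂ E
  letI := Groth.L09.ModEt.secModule T.X₃ E
  haveI := Groth.L09.ModEt.finite_sectModEt T.X₁ E
  haveI := Groth.L09.ModEt.finite_sectModEt T.X₃ E
  exact Module.Finite.of_exact (Groth.L09.ModEt.exact_sapp hT.exact hT.mono_f E).2
    (Groth.L09.ModEt.surjective_sapp hT E)

end Groth.Agent.S10743
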