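import Groth.Statements.S10745
import Groth.Agent.L23.FpNoeth

set_option autoImplicit false
universe u
open CategoryTheory CategoryTheory.Limits AlgebraicGeometry Opposite
open AlgSp

set_option backward.isDefEq.respectTransparency false
set_option backward.isDefEq.respectTransparency.types false
set_option linter.style.haveILetI false

namespace Groth.Agent.S10745

/-- Let X be a locally Noetherian algebraic space over S, M a coherent O_X-module on the small etale
site of X (of finite presentation, X being locally Noetherian) and M ⟶ Q an epimorphism with Q
quasi-coherent. Then Q is coherent. -/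
theorem result {S : Scheme.{u}} (X : AlgSp.Space S)
    (hX : AlgSp.IsLocNoethSp X.obj) {M Q : AlgSp.ModEt X.obj} [M.IsFinitePresentation] (π : M ⟶ Q) [Epi π]
    [Q.IsQuasicoherent] :
    Q.IsFinitePresentation := by
  haveI := Groth.L23.FP.isFiniteType_of_epi π
  exact Groth.L23.FP.isFinitePresentation_of_finite hX Q fun E _ => Groth.L09.ModEt.finite_sectModEt Q E

end Groth.Agent.S10745
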