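import Groth.Statements.S10747
import Groth.Agent.L23.CohNbhd
import Mathlib.Algebra.Category.ModuleCat.Sheaf.Limits
import Mathlib.RingTheory.Noetherian.Basic
-- import your own Groth.Agent.* helpers here

set_option autoImplicit false
universe u
open CategoryTheory CategoryTheory.Limits AlgebraicGeometry Opposite
open AlgSp

set_option backward.isDefEq.respectTransparency false
set_option backward.isDefEq.respectTransparency.types false
set_option linter.style.haveILetI false

namespace Groth.Agent.S10747

open Groth.L23 Groth.L23.CohNbhd Groth.L09.ModEt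

/-- A monomorphism of modules is injective on sections. -/
theorem injective_app₀ {S : Scheme.{u}} {X : AlgSp.Sp S} {G F : AlgSp.ModEt X} (φ : G ⟶ F) [Mono φ]
    (E : AlgSp.EtOver X) : Function.Injective (app₀ φ E) :=
  fun _ _ hab => (ModuleCat.mono_iff_injective (φ.val.app (Opposite.op E))).1
    ((SheafOfModules.evaluation (AlgSp.OEtRing X) (Opposite.op E)).map_mono φ) hab

/-- A morphism of modules bijective on all sections is invertible. -/
theorem isIso_of_bijective {S : Scheme.{u}} {X : AlgSp.Sp S} {G F : AlgSp.ModEt X} (φ : G ⟶ F)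
    (h : ∀ E, Function.Bijective (app₀ φ E)) : IsIso φ := by
  haveI : ∀ E, IsIso (φ.val.app E) := fun E => (ConcreteCategory.isIso_iff_bijective _).2 (h E.unop)
  haveI : IsIso ((SheafOfModules.forget _).map φ) :=
    ⟨(PresheafOfModules.isoMk (fun E => asIso (φ.val.app E)) (fun _ _ f => φ.val.naturality f)).inv,
      (PresheafOfModules.isoMk (fun E => asIso (φ.val.app E)) (fun _ _ f => φ.val.naturality f)).hom_inv_id,
      (PresheafOfModules.isoMk (fun E => asIso (φ.val.app E)) (fun _ _ f => φ.val.naturality f)).inv_hom_id⟩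
  exact isIso_of_reflects_iso φ (SheafOfModules.forget _)

/-- Let X be a Noetherian algebraic space over S (quasi-compact, quasi-separated, locally Noetherian)
and M a coherent O_X-module on the small etale site of X (of finite presentation, X being locally
Noetherian). Then every increasing sequence N₁ ≤ N₂ ≤ … of subobjects of M whose underlying modules
are quasi-coherent is eventually constant. -/
theorem result {S : Scheme.{u}} (X : AlgSp.Space S)
    (hqc : AlgSp.IsQuasiCompactSp X.obj) (hqs : AlgSp.IsQuasiSeparatedSp X.obj) (hN : AlgSp.IsLocNoethSp X.obj)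
    (M : AlgSp.ModEt X.obj) [M.IsFinitePresentation] (N : ℕ →o Subobject M)
    (hq : ∀ n, (Subobject.underlying.obj (N n)).IsQuasicoherent) :
    ∃ n, ∀ m, n ≤ m → N m = N n := by
  obtain ⟨U, p, hUa, hp, hps⟩ := Qs.exists_affine_atlas X.property hqc
  let E : AlgSp.EtOver X.obj := AlgSp.EtOver.mk p hp
  haveI : IsAffine E.obj.left.left := hUa
  haveI : IsLocallyNoetherian E.obj.left.left := Pt.isLocallyNoetherian_of_chart X.property hN E.property
  haveI : IsNoetherianRing (Γ₀ E) := IsLocallyNoetherian.component_noetherian ⟨⊤, isAffineOpen_top _⟩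
  letI : Module (Γ₀ E) (AlgSp.sectModEt M E) := secModule M E
  haveI := finite_sectModEt M E
  haveI : IsNoetherian (Γ₀ E) (AlgSp.sectModEt M E) := isNoetherian_of_isNoetherianRing_of_finite _ _
  haveI := hq
  letI : ∀ k, Module (Γ₀ E) (AlgSp.sectModEt (Subobject.underlying.obj (N k)) E) := fun k => secModule _ E
  let r : ℕ →o Submodule (Γ₀ E) (AlgSp.sectModEt M E) :=
    { toFun := fun n => LinearMap.range (app₀ (N n).arrow E)
      monotone' := fun a b hab => by
        rintro _ ⟨y, rfl⟩
        refine ⟨app₀ (Subobject.ofLE _ _ (N.monotone hab)) E y, ?_⟩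
        conv_rhs => rw [← Subobject.ofLE_arrow (N.monotone hab)]
        rfl }
  obtain ⟨n, hn⟩ := monotone_stabilizes_iff_noetherian.2 (inferInstance : IsNoetherian (Γ₀ E) (AlgSp.sectModEt M E)) r
  refine ⟨n, fun m hm => le_antisymm ?_ (N.monotone hm)⟩
  let θ := Subobject.ofLE _ _ (N.monotone hm)
  have hθ : ∀ y, app₀ (N m).arrow E (app₀ θ E y) = app₀ (N n).arrow E y := fun y => by
    conv_rhs => rw [← Subobject.ofLE_arrow (N.monotone hm)]
    rfl
  have hb : Function.Bijective (app₀ θ E) := by
    refine ⟨fun a b hab => injective_app₀ (N n).arrow E ?_, fun y => ?_⟩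
    · rw [← hθ, ← hθ, hab]
    · have hy : app₀ (N m).arrow E y ∈ r n := by rw [hn m hm]; exact LinearMap.mem_range_self _ y
      obtain ⟨z, hz⟩ := LinearMap.mem_range.1 hy
      exact ⟨z, injective_app₀ (N m).arrow E ((hθ z).trans hz)⟩
  haveI : IsIso θ := isIso_of_bijective θ fun E' =>
    bijective_over_image θ hb.1 hb.2 E' fun x _ => surjective_ofPt hps x
  exact Subobject.le_of_comm (inv θ) (by rw [IsIso.inv_comp_eq]; exact (Subobject.ofLE_arrow _).symm)

end Groth.Agent.S10747
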