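import Groth.Statements.S10748
import Groth.Agent.L23.CohUnion
import Mathlib.CategoryTheory.Abelian.GrothendieckCategory.Subobject

set_option autoImplicit false
universe u
open CategoryTheory CategoryTheory.Limits AlgebraicGeometry Opposite
open AlgSp

set_option backward.isDefEq.respectTransparency false
set_option backward.isDefEq.respectTransparency.types false
set_option linter.style.haveILetI false

namespace Groth.Agent.S10748

/-- Let X be a Noetherian algebraic space (quasi-compact, quasi-separated, locally Noetherian) over a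
quasi-separated scheme S and M a quasi-coherent O_X-module on the small etale site of X. Then M is
the union, as a filtered colimit, of those of its submodules that are coherent: the full subcategory
of monomorphisms N ⟶ M with N of finite presentation is filtered, and the cocone on their sources
with vertex M given by the inclusions is a colimit. -/
theorem result {S : Scheme.{u}} [QuasiSeparatedSpace ↥S]
    (X : AlgSp.Space S) (hqc : AlgSp.IsQuasiCompactSp X.obj) (hqs : AlgSp.IsQuasiSeparatedSp X.obj)
    (hN : AlgSp.IsLocNoethSp X.obj) (M : AlgSp.ModEt X.obj) [M.IsQuasicoherent] :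
    IsFiltered (ObjectProperty.FullSubcategory
        (fun N : MonoOver M => SheafOfModules.IsFinitePresentation N.obj.left)) ∧
      Nonempty (IsColimit ((Over.forgetCocone M).whisker
        (ObjectProperty.ι (fun N : MonoOver M => SheafOfModules.IsFinitePresentation N.obj.left) ⋙
          MonoOver.forget M))) := by
  haveI := Groth.L23.ModEtGroth.isGrothendieckAbelian (X := X.obj)
  let P : ObjectProperty (MonoOver M) := fun N => SheafOfModules.IsFinitePresentation N.obj.left
  haveI : WellPowered.{u + 1} (AlgSp.ModEt X.obj) := IsGrothendieckAbelian.wellPowered.{u + 1} (AlgSp.ModEt X.obj)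
  haveI : HasWidePullbacks.{u + 1} (AlgSp.ModEt X.obj) := fun J => inferInstance
  haveI : EssentiallySmall.{u + 1} (MonoOver M) := essentiallySmall_monoOver M
  haveI : LocallySmall.{u + 1} (AlgSp.ModEt X.obj) := IsGrothendieckAbelian.locallySmall
  haveI : HasCoproducts.{u + 1} (AlgSp.ModEt X.obj) := fun J => inferInstance
  letI : CompleteLattice (Subobject M) := Subobject.instCompleteLattice.{u + 1}
  haveI thin : ∀ A B : P.FullSubcategory, Subsingleton (A ⟶ B) := fun A B =>
    ⟨fun f g => ObjectProperty.hom_ext _ (Subsingleton.elim _ _)⟩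
  haveI : Nonempty P.FullSubcategory := by
    obtain ⟨N, a, ha, hN'⟩ := Groth.L23.CohUnion.exists_coherent X hN M
    exact ⟨⟨MonoOver.mk a, hN'⟩⟩
  haveI : IsFilteredOrEmpty P.FullSubcategory :=
    { cocone_objs := fun A B => by
        haveI : SheafOfModules.IsFinitePresentation (R := AlgSp.OEtRing X.obj) A.obj.obj.left := A.property
        haveI : SheafOfModules.IsFinitePresentation (R := AlgSp.OEtRing X.obj) B.obj.obj.left := B.property
        obtain ⟨N, a, f₁, f₂, ha, hN', h₁, h₂⟩ :=
          Groth.L23.CohUnion.exists_coherent_sup X hN A.obj.obj.hom B.obj.obj.hom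
        exact ⟨⟨MonoOver.mk a, hN'⟩, ObjectProperty.homMk (MonoOver.homMk f₁ h₁),
          ObjectProperty.homMk (MonoOver.homMk f₂ h₂), trivial⟩
      cocone_maps := fun A B f g => ⟨B, 𝟙 B, Subsingleton.elim _ _⟩ }
  refine ⟨{ }, ?_⟩
  haveI : EssentiallySmall.{u + 1} P.FullSubcategory := essentiallySmall_of_fully_faithful P.ι
  let e := equivSmallModel.{u + 1} P.FullSubcategory
  haveI : IsFiltered P.FullSubcategory := { }
  haveI : IsFiltered (SmallModel.{u + 1} P.FullSubcategory) := IsFiltered.of_equivalence e
  let F : SmallModel.{u + 1} P.FullSubcategory ⥤ MonoOver M := e.inverse ⋙ P.ι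
  let c : Cocone (F ⋙ MonoOver.forget M) :=
    { pt := Over.mk (𝟙 M)
      ι := { app := fun j => Over.homMk (F.obj j).obj.hom (Category.comp_id _)
             naturality := fun i j f => Over.OverMorphism.ext (by
               show (F.map f).hom.left ≫ (F.obj j).obj.hom = (F.obj i).obj.hom ≫ 𝟙 M
               rw [Category.comp_id]; exact MonoOver.w (F.map f)) } }
  haveI : Mono c.pt.hom := show Mono (𝟙 M) from inferInstance
  have htop : Subobject.mk c.pt.hom = ⨆ j, Subobject.mk (F.obj j).obj.hom := by
    refine le_antisymm ?_ (iSup_le fun j => ?_)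
    · rw [le_iSup_iff]
      intro s hs
      have hq : cokernel.π s.arrow = 0 := by
        refine Groth.L23.CohUnion.eq_zero_of_coherent X hqc hqs hN M _ fun N a ha hN' => ?_
        let A : P.FullSubcategory := ⟨MonoOver.mk a, hN'⟩
        obtain ⟨j, ⟨i⟩⟩ : ∃ j, Nonempty (P.ι.obj A ≅ F.obj j) :=
          ⟨e.functor.obj A, ⟨P.ι.mapIso (e.unitIso.app A)⟩⟩
        have h := hs j
        rw [← Subobject.mk_eq_mk_of_comm a (F.obj j).obj.hom ((MonoOver.forget M ⋙ Over.forget M).mapIso i)
          (MonoOver.w i.hom)] at h
        rw [← Subobject.mk_arrow s] at h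
        rw [← Subobject.ofMkLEMk_comp h, Category.assoc, cokernel.condition, comp_zero]
      haveI : Epi s.arrow := Abelian.epi_of_cokernel_π_eq_zero _ hq
      haveI : IsIso s.arrow := isIso_of_mono_of_epi _
      rw [Subobject.eq_top_of_isIso_arrow s]
      exact le_top
    · exact Subobject.mk_le_mk_of_comm (F.obj j).obj.hom (Category.comp_id _)
  have hc := IsGrothendieckAbelian.isColimitMapCoconeOfSubobjectMkEqISup F c htop
  refine ⟨IsColimit.ofWhiskerEquivalence e.symm ?_⟩
  exact hc.ofIsoColimit (Cocone.ext (Iso.refl _) fun j => Category.comp_id _)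

end Groth.Agent.S10748
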