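import Groth.Statements.S1075
import Groth.Agent.L10.HomotopyProd
import Groth.Agent.L00.RPlusUnit

set_option autoImplicit false
set_option backward.defeqAttrib.useBackward true
set_option backward.isDefEq.respectTransparency false
universe w v u
open CategoryTheory CategoryTheory.Limits
open CohDer

namespace Groth.Agent.S1075

/-- In D(A), for A abelian with enough injectives and countable products, every sequence of
bounded-below objects has a product, so derived limits of such sequences exist. -/
theorem result {A : Type u} [Category.{v} A] [Abelian A] [HasDerivedCategory.{w} A]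
    [HasLimitsOfShape (Discrete ℕ) A] [EnoughInjectives A]
    (K : ℕ → DerivedCategory A) (hK : ∀ n, ∃ a : ℤ, (K n).IsGE a) : HasProduct K := by
  have h : ∀ n, ∃ (I : CochainComplex A ℤ) (_ : I.IsKInjective),
      Nonempty (DerivedCategory.Qh.obj ((HomotopyCategory.quotient A (ComplexShape.up ℤ)).obj I) ≅ K n) := fun n => by
    obtain ⟨a, ha⟩ := hK n
    obtain ⟨M, hM, ⟨e⟩⟩ := DerivedCategory.exists_iso_Q_obj_of_isGE (K n) a
    obtain ⟨L, i, h1, h2, h3⟩ := CochainComplex.Plus.modelCategoryQuillen.exists_quasiIso_injective M a
    exact ⟨L, CochainComplex.isKInjective_of_injective L a, ⟨(DerivedCategory.quotientCompQhIso A).app L ≪≫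
      (asIso (DerivedCategory.Q.map i)).symm ≪≫ e.symm⟩⟩
  choose I hI he using h
  let e := fun n => (he n).some
  have hb := fun Y => Groth.L10.DerivedProd.hom_to_product_bijective I Y
  refine HasLimit.mk ⟨Fan.mk _ fun i => DerivedCategory.Qh.map ((HomotopyCategory.quotient A (ComplexShape.up ℤ)).map (Pi.π I i)) ≫ (e i).hom,
    mkFanLimit _ (fun s => ((hb s.pt).surjective fun i => s.proj i ≫ (e i).inv).choose) ?_ ?_⟩
  · intro s i
    have := congrFun ((hb s.pt).surjective fun i => s.proj i ≫ (e i).inv).choose_spec i
    simp only [fan_mk_proj, ← Category.assoc]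
    rw [this, Category.assoc, Iso.inv_hom_id, Category.comp_id]
  · intro s m hm
    refine (hb s.pt).injective (funext fun i => ?_)
    rw [congrFun ((hb s.pt).surjective fun i => s.proj i ≫ (e i).inv).choose_spec i, ← hm i]
    simp

end Groth.Agent.S1075
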