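import Groth.Statements.S10750
import Groth.Agent.S10650
import Groth.Agent.S10423
import Groth.Agent.L23.FibreConditions

set_option autoImplicit false
universe u
open CategoryTheory CategoryTheory.Limits AlgebraicGeometry Opposite
open AlgSp

namespace Groth.Agent.S10750

/-- Take a proper morphism f : X ⟶ Y of algebraic spaces over S whose target Y is locally Noetherian,
and let y be a geometric point of Y such that the fibre X_y (a pullback of f along the corresponding
morphism from the spectrum of the algebraically closed field) has finitely many points. Then there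
is an open subspace V of Y containing the image of y such that the base change X ×_Y V ⟶ V is
finite. -/
theorem result {S : Scheme.{u}} {X Y : AlgSp.Space S}
    (f : X ⟶ Y) (hY : AlgSp.IsLocNoethSp Y.obj) (hf : AlgSp.IsProperMor f.hom) (y : AlgSp.FieldPt Y.obj)
    (hy : y.IsGeometric) (Xy : AlgSp.Sp S) (fst : Xy ⟶ X.obj) (snd : Xy ⟶ (AlgSp.yon S).obj y.pt)
    (hsq : IsPullback fst snd f.hom y.toHom) (hfin : Finite (AlgSp.Points Xy)) :
    ∃ (V : AlgSp.Space S) (j : V ⟶ Y), AlgSp.RepWith @IsOpenImmersion j.hom ∧
      AlgSp.Points.mk y ∈ Set.range (AlgSp.Points.map j.hom) ∧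
        ∀ (P : AlgSp.Space S) (fst' : P ⟶ X) (snd' : P ⟶ V), IsPullback fst'.hom snd'.hom f.hom j.hom →
          AlgSp.IsFiniteMor snd'.hom := by
  have hlft : LocP @LocallyOfFiniteType f.hom := hf.2.1.1
  let X₀ : AlgSp.Space S := ⟨Xy, Groth.L23.isAlgSpace_of_isPullback Y.property.diag X.property (IsAlgSpace.yon_obj _) hsq⟩
  have hqs : AlgSp.IsQuasiSeparatedMor f.hom :=
    Groth.L23.repWith_mono (fun φ (_ : IsClosedImmersion φ) => inferInstanceAs (QuasiCompact φ)) hf.1
  have hdec : IsDecent X₀.obj := (Groth.Agent.S10423.result f).2 hqs y.toHom fst snd hsq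
  have hl : LocP @LocallyOfFiniteType snd :=
    Groth.L23.FibCond.lft_snd (X := X) (Y := Y) (Xk := X₀) hlft hsq
  haveI : Finite (Points X₀.obj) := hfin
  have hdisc : DiscreteTopology (Points X₀.obj) :=
    Groth.L23.DimPt.discrete_of_finite X₀.property hl hdec
  refine Groth.Agent.S10650.result f (Points.mk y) hf fun x hx => ?_
  exact (Groth.L23.FibCond.discrete_iff_qf (X := X) (Y := Y) (Xk := X₀) hlft hsq).1 hdisc x hx

end Groth.Agent.S10750
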