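import Groth.Statements.S10753
import Groth.Agent.L09.EtCoh.Compare
import Groth.Agent.L09.EtCoh.Qcoh
import Groth.Agent.L09.ModEt.PushQcoh

set_option autoImplicit false
universe u
open CategoryTheory CategoryTheory.Limits AlgebraicGeometry Opposite
open AlgSp

set_option backward.isDefEq.respectTransparency false
set_option backward.isDefEq.respectTransparency.types false

namespace Groth.Agent.S10753

/-- Let X be a quasi-compact algebraic space, quasi-separated over a quasi-separated base scheme S, such
that H^1(X, M) = 0 for every quasi-coherent O_X-module M on the small etale site of X, and let f :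
X' ⟶ X be an affine morphism of algebraic spaces. Then H^1(X', M') = 0 for every quasi-coherent
O_{X'}-module M'. (The companion statement about base change along a ring map out of the ring of
global functions of X is not included.) -/
theorem result {S : Scheme.{u}} [QuasiSeparatedSpace ↥S]
    {X' X : AlgSp.Space S} (hqc : AlgSp.IsQuasiCompactSp X.obj) (hqs : AlgSp.IsQuasiSeparatedSp X.obj)
    (h1 : ∀ M : AlgSp.ModEt X.obj, M.IsQuasicoherent → Subsingleton (AlgSp.HModEt X.obj M 1))
    (f : X' ⟶ X) (haff : AlgSp.IsAffineMor f.hom)
    (M' : AlgSp.ModEt X'.obj) [M'.IsQuasicoherent] :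
    Subsingleton (AlgSp.HModEt X'.obj M' 1) := by
  have hfa := Groth.L23.isAffineMor_iff.1 haff
  have hf : Representable f.hom := hfa.1
  haveI hq : ((pushModEt hf).obj M').IsQuasicoherent := by
    refine Groth.L09.ModEt.isQuasicoherent_of_bc_affine _ fun E E' _ _ g => ?_
    haveI := Groth.L09.ModEt.isAffine_bcObj hf hfa E
    exact Groth.L09.ModEt.bc_push hf M' g
  obtain ⟨e⟩ := Groth.L09.EtCoh.nonempty_hEt_push hf X.property hfa
    ((AlgSp.toAbEt X'.obj).obj M') (Groth.L09.EtCoh.cok_of_isQuasicoherent M') 1
  exact @Equiv.subsingleton _ _ e.toEquiv (h1 _ hq)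

end Groth.Agent.S10753
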