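import Groth.Statements.S10755
import Groth.Agent.L23.CohSupport

set_option autoImplicit false
universe u
open CategoryTheory CategoryTheory.Limits AlgebraicGeometry Opposite
open AlgSp

set_option backward.isDefEq.respectTransparency false
set_option backward.isDefEq.respectTransparency.types false
set_option linter.style.haveILetI false

namespace Groth.Agent.S10755

set_option maxHeartbeats 1600000 in
/-- Let X be a Noetherian algebraic space over S (quasi-compact, quasi-separated, locally Noetherian), M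
a coherent O_X-module on the small etale site of X (of finite presentation, X being locally
Noetherian), I a quasi-coherent sheaf of ideals on X and i : Z ⟶ X the closed subspace cut out by I.
Then I^n M = 0 for some n ≥ 0 (on every affine object U of the site the ideal I^n(U) annihilates
every section of M over U) if and only if the support of M is contained in |Z| set-theoretically
(the stalk of M at every geometric point of X whose image in |X| is not in |Z| vanishes). -/
theorem result {S : Scheme.{u}} (X : AlgSp.Space S)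
    (hqc : AlgSp.IsQuasiCompactSp X.obj) (hqs : AlgSp.IsQuasiSeparatedSp X.obj) (hN : AlgSp.IsLocNoethSp X.obj)
    (M : AlgSp.ModEt X.obj) [M.IsFinitePresentation] (I : AlgSp.IdealEt X.obj) (hI : I.IsQCoh)
    {Z : AlgSp.Space S} (i : Z ⟶ X) (hZ : AlgSp.IsCutOutBy I i.hom) :
    (∃ n : ℕ, ∀ (E : AlgSp.EtOver X.obj) (hE : IsAffine E.obj.left.left) (s : AlgSp.sectModEt M E),
        (I ^ n).ideal E hE ≤ AlgSp.annSect s) ↔
      ∀ x : AlgSp.FieldPt X.obj, x.IsGeometric → AlgSp.Points.mk x ∉ Set.range (AlgSp.Points.map i.hom) →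
        IsZero (AlgSp.stalkEt x ((AlgSp.toAbEt X.obj).obj M)) := by
  classical
  letI : ∀ E : AlgSp.EtOver X.obj, Module (Groth.L09.ModEt.Γ₀ E) (AlgSp.sectModEt M E) :=
    Groth.L09.ModEt.secModule M
  constructor
  · rintro ⟨n, hn⟩ p hp hpZ
    by_contra hne
    obtain ⟨U, σ, l, hl⟩ := (Groth.L23.Supp.not_isZero_stalk_iff _ p hp).1 hne
    set z := l.1.left (IsLocalRing.closedPoint p.K) with hz
    obtain ⟨_, ⟨(B : U.obj.left.left.Opens), hB, rfl⟩, hzB, -⟩ :=
      U.obj.left.left.isBasis_affineOpens.exists_subset_of_mem_open (Set.mem_univ z) isOpen_univ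
    let V := Groth.L09.ModEt.openObj U B
    haveI hV : IsAffine V.obj.left.left := hB
    let v : V.obj.left.left := ⟨z, hzB⟩
    have hvZ : AlgSp.Points.ofPt V.obj.hom v ∉ Set.range (AlgSp.Points.map i.hom) := by
      rw [← AlgSp.EtOver.w (Groth.L09.ModEt.openι U B), Groth.L23.ofPt_comp]
      show AlgSp.Points.ofPt U.obj.hom z ∉ _
      rw [hz, ← Groth.L23.Supp.mk_eq_ofPt_lift p l]
      exact hpZ
    rw [Groth.L23.CohSupp.ofPt_mem_range_iff hZ V v] at hvZ
    obtain ⟨a, haI, hav⟩ := Set.not_subset.1 hvZ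
    let D := Groth.L09.ModEt.openObj V (V.obj.left.left.basicOpen a)
    haveI hD : IsAffine D.obj.left.left := (isAffineOpen_top V.obj.left.left).basicOpen a
    let f : D ⟶ U := Groth.L09.ModEt.openι V (V.obj.left.left.basicOpen a) ≫ Groth.L09.ModEt.openι U B
    have hu : IsUnit (Groth.L09.ModEt.pb (Groth.L09.ModEt.openι V (V.obj.left.left.basicOpen a)) (a ^ n)) := by
      rw [map_pow]
      refine IsUnit.pow n ?_
      show IsUnit ((V.obj.left.left.basicOpen a).ι.appTop.hom a)
      exact Groth.L23.CohSupp.isUnit_appTop_basicOpen a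
    have h0 : Groth.L09.ModEt.res M f σ = 0 := by
      rw [Groth.L09.ModEt.res_comp]
      have hk : (a ^ n) • Groth.L09.ModEt.res M (Groth.L09.ModEt.openι U B) σ = 0 :=
        hn V hV _ (Ideal.pow_mem_pow haI n)
      have := congrArg (Groth.L09.ModEt.res M (Groth.L09.ModEt.openι V (V.obj.left.left.basicOpen a))) hk
      rw [Groth.L09.ModEt.res_smul, map_zero] at this
      exact hu.smul_eq_zero.1 this
    have hva : v ∈ V.obj.left.left.basicOpen a := Groth.L23.CohSupp.mem_basicOpen hav
    exact hl ((Groth.L23.Supp.zero_iff _ σ f).1 h0 ⟨v, hva⟩)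
  · intro h
    obtain ⟨U₀, p₀, hUa, hp₀, hps⟩ := Groth.L23.Qs.exists_affine_atlas X.property hqc
    let E : AlgSp.EtOver X.obj := AlgSp.EtOver.mk p₀ hp₀
    haveI hE : IsAffine E.obj.left.left := hUa
    haveI : IsLocallyNoetherian E.obj.left.left := Groth.L23.Pt.isLocallyNoetherian_of_chart X.property hN E.property
    haveI : IsNoetherianRing (Groth.L09.ModEt.Γ₀ E) := IsLocallyNoetherian.component_noetherian ⟨⊤, isAffineOpen_top _⟩
    haveI := Groth.L09.ModEt.finite_sectModEt M E
    obtain ⟨T, hT⟩ := Module.Finite.fg_top (R := Groth.L09.ModEt.Γ₀ E) (M := AlgSp.sectModEt M E)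
    have hrad : ∀ s : AlgSp.sectModEt M E, I.ideal E hE ≤ (AlgSp.annSect s).radical := by
      intro s
      rw [Ideal.radical_eq_sInf]
      refine le_sInf fun P ⟨hsP, hP⟩ => ?_
      haveI := hP
      obtain ⟨w, hw⟩ := Groth.L09.ModEt.exists_primeAtPt _ P
      by_contra hIP
      rw [← hw, ← Groth.L23.CohSupp.ofPt_mem_range_iff hZ E w] at hIP
      obtain ⟨p, hp, l, hlw, hmk⟩ := Groth.L23.Supp.exists_geom_over E w
      have hz := h p hp (by rw [hmk]; exact hIP)
      have hw' : w ∈ Groth.L23.Supp.zeroLocus ((AlgSp.toAbEt X.obj).obj M) (U := E) s := by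
        by_contra hw'
        exact (Groth.L23.Supp.not_isZero_stalk_iff _ p hp).2 ⟨E, s, l, hlw.symm ▸ hw'⟩ hz
      obtain ⟨_, ⟨(B : E.obj.left.left.Opens), hB, rfl⟩, hwB, hBs⟩ :=
        E.obj.left.left.isBasis_affineOpens.exists_subset_of_mem_open hw'
          (Groth.L23.Supp.zeroLocus ((AlgSp.toAbEt X.obj).obj M) (U := E) s).isOpen
      haveI : IsAffine (Groth.L09.ModEt.openObj E B).obj.left.left := hB
      have h0 : Groth.L09.ModEt.res M (Groth.L09.ModEt.openι E B) s = 0 :=
        (Groth.L23.Supp.zero_iff ((AlgSp.toAbEt X.obj).obj M) (U := E) s (Groth.L09.ModEt.openι E B)).2 fun v => hBs v.2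
      exact Groth.L23.CohSupp.not_annSect_le M (Groth.L09.ModEt.openι E B) h0 ⟨w, hwB⟩
        (hsP.trans hw.ge)
    choose k hk using fun s => Ideal.exists_pow_le_of_le_radical_of_fg (hrad s) (IsNoetherian.noetherian _)
    refine ⟨T.sup k, fun E' hE' s => ?_⟩
    intro a ha
    rw [AlgSp.mem_annSect_iff]
    have hsurj := Groth.L23.surjective_ofPt hps
    choose u hu using fun e : ↥E'.obj.left.left => hsurj (AlgSp.Points.ofPt E'.obj.hom e)
    choose W hW g₁ g₂ w hw₁ hw₂ using fun e => Groth.L09.ModEt.exists_common (X := X.obj) (E₁ := E') (E₂ := E) e (u e) (hu e).symm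
    refine Groth.L09.ModEt.eq_of_cover M (V := W) (c := g₁) (fun e => ⟨e, w e, hw₁ e⟩) fun e => ?_
    haveI := hW e
    haveI := hE'
    rw [map_zero]
    show Groth.L09.ModEt.res M (g₁ e) (a • s) = 0
    rw [Groth.L09.ModEt.res_smul]
    have hIW : (I ^ T.sup k).ideal (W e) (hW e) ≤
        Ideal.map (Groth.L09.ModEt.pb (g₂ e)) ((I ^ T.sup k).ideal E hE) := by
      show I.ideal (W e) (hW e) ^ T.sup k ≤ Ideal.map _ (I.ideal E hE ^ T.sup k)
      rw [Ideal.map_pow]
      exact Ideal.pow_right_mono (hI (g₂ e) hE (hW e)) _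
    have ha' := hIW ((I ^ T.sup k).map_le (g₁ e) hE' (hW e) (Ideal.mem_map_of_mem _ ha))
    have hgen : ∀ (y : AlgSp.sectModEt M (W e)) (b : Groth.L09.ModEt.Γ₀ (W e)),
        b ∈ Ideal.map (Groth.L09.ModEt.pb (g₂ e)) ((I ^ T.sup k).ideal E hE) → b • y = 0 := by
      intro y b hb
      letI := (Groth.L09.ModEt.pb (g₂ e)).toAlgebra
      obtain ⟨x, rfl⟩ := (Groth.L09.ModEt.bc_of_isQuasicoherent M (g₂ e)).2 y
      induction x using TensorProduct.induction_on with
      | zero => rw [map_zero, smul_zero]
      | add x y hx hy => rw [map_add, smul_add, hx, hy, add_zero]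
      | tmul r m =>
        rw [Groth.L09.ModEt.θ_tmul, smul_comm]
        suffices hm : b • Groth.L09.ModEt.res M (g₂ e) m = 0 by rw [hm, smul_zero]
        clear ha'
        induction hb using Submodule.span_induction with
        | zero => rw [zero_smul]
        | add x y _ _ hx hy => rw [add_smul, hx, hy, add_zero]
        | smul c x _ hx => rw [smul_eq_mul, mul_smul, hx, smul_zero]
        | mem c hc =>
          obtain ⟨c, hc, rfl⟩ := hc
          rw [← Groth.L09.ModEt.res_smul]
          suffices hm : c • m = 0 by rw [hm, map_zero]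
          have hmT : m ∈ Submodule.span (Groth.L09.ModEt.Γ₀ E) (T : Set (AlgSp.sectModEt M E)) :=
            hT ▸ Submodule.mem_top
          induction hmT using Submodule.span_induction with
          | zero => rw [smul_zero]
          | add x y _ _ hx hy => rw [smul_add, hx, hy, add_zero]
          | smul c' x _ hx => rw [smul_comm, hx, smul_zero]
          | mem t ht => exact hk t (Ideal.pow_le_pow_right (Finset.le_sup ht) hc)
    exact hgen _ _ ha'

end Groth.Agent.S10755
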