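import Groth.Statements.S10758
import Groth.Agent.L23.CohNbhd
-- import your own Groth.Agent.* helpers here

set_option autoImplicit false
universe u
open CategoryTheory CategoryTheory.Limits AlgebraicGeometry Opposite
open AlgSp

set_option backward.isDefEq.respectTransparency false
set_option backward.isDefEq.respectTransparency.types false
set_option linter.style.haveILetI false

namespace Groth.Agent.S10758

open Groth.L23.CohNbhd

/-- Let X be a locally Noetherian algebraic space over S, φ : G ⟶ F a morphism of coherent O_X-modules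
on the small etale site of X (of finite presentation, X being locally Noetherian) and x̄ a geometric
point of X. If the map φ_x̄ on stalks at x̄ (of the underlying abelian sheaves) is bijective, then
there is an open subspace X' ⊂ X containing the image of x̄ such that φ|_{X'} is an isomorphism: φ
is bijective on sections over every scheme etale over X whose image in |X| lies in |X'|. -/
theorem result {S : Scheme.{u}} (X : AlgSp.Space S)
    (hX : AlgSp.IsLocNoethSp X.obj) {G F : AlgSp.ModEt X.obj} [G.IsFinitePresentation] [F.IsFinitePresentation]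
    (φ : G ⟶ F) (xbar : AlgSp.FieldPt X.obj) (hx : xbar.IsGeometric)
    (hbij : IsIso ((AlgSp.stalkEtFunctor AddCommGrpCat.{u + 1} xbar).map ((AlgSp.toAbEt X.obj).map φ))) :
    ∃ (X' : AlgSp.Space S) (j : X' ⟶ X), AlgSp.RepWith @IsOpenImmersion j.hom ∧
      AlgSp.Points.mk xbar ∈ Set.range (AlgSp.Points.map j.hom) ∧
        ∀ E : AlgSp.EtOver X.obj, Set.range (AlgSp.Points.ofPt E.obj.hom) ⊆ Set.range (AlgSp.Points.map j.hom) →
          IsIso (φ.val.app (op E)) := by
  obtain ⟨V, hV, hxV, hi⟩ := exists_injective φ hX xbar hx inferInstance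
  obtain ⟨V', hV', hxV', hs⟩ := exists_surjective φ xbar hx inferInstance
  haveI := hV
  haveI := hV'
  obtain ⟨v, hv⟩ := hxV
  obtain ⟨v', hv'⟩ := hxV'
  obtain ⟨W, hW, g₁, g₂, w, hw₁, hw₂⟩ := Groth.L09.ModEt.exists_common v v' (hv.trans hv'.symm)
  haveI := hW
  obtain ⟨X', j, hj, hr⟩ := exists_openSub W
  refine ⟨X', j, hj, hr ▸ ⟨w, by rw [← AlgSp.EtOver.w g₁, Groth.L23.ofPt_comp, hw₁, hv]⟩, fun E hE => ?_⟩
  refine (ConcreteCategory.isIso_iff_bijective _).2 (bijective_over_image φ ?_ ?_ E (hr ▸ hE))
  · exact injective_over_image φ hi W (by rintro _ ⟨p, rfl⟩; exact ⟨g₁.hom.left.left p, by rw [← Groth.L23.ofPt_comp, AlgSp.EtOver.w g₁]⟩)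
  · exact surjective_of_map φ g₂ Set.univ Submodule.span_univ (fun t _ => by
      obtain ⟨t', rfl⟩ := hs t
      exact ⟨Groth.L09.ModEt.res G g₂ t', app₀_res φ g₂ t'⟩)

end Groth.Agent.S10758
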