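import Groth.Statements.S10759
import Groth.Agent.L23.SuppSplit

set_option autoImplicit false
universe u
open CategoryTheory CategoryTheory.Limits AlgebraicGeometry Opposite
open AlgSp

set_option backward.isDefEq.respectTransparency false
set_option backward.isDefEq.respectTransparency.types false
set_option linter.style.haveILetI false

namespace Groth.Agent.S10759

set_option maxHeartbeats 1600000 in
/-- Let X be a Noetherian algebraic space over S (quasi-compact, quasi-separated, locally Noetherian)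
and F a coherent O_X-module on the small etale site of X (of finite presentation, X being locally
Noetherian) with Supp(F) = Z ∪ Z' for closed subsets Z, Z' of |X| (the support being the set of
points over which the stalk of F at a geometric point is nonzero). Then there is a short exact
sequence 0 ⟶ G' ⟶ F ⟶ G ⟶ 0 of coherent modules with Supp(G') ⊂ Z' and Supp(G) ⊂ Z: a monomorphism
G' ⟶ F with G' and its cokernel coherent, the stalks of G' vanishing at geometric points outside Z'
and those of the cokernel vanishing at geometric points outside Z. -/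
theorem result {S : Scheme.{u}} (X : AlgSp.Space S)
    (hqc : AlgSp.IsQuasiCompactSp X.obj) (hqs : AlgSp.IsQuasiSeparatedSp X.obj) (hN : AlgSp.IsLocNoethSp X.obj)
    (F : AlgSp.ModEt X.obj) [F.IsFinitePresentation] (Z Z' : Set (AlgSp.Points X.obj)) (hZ : IsClosed Z)
    (hZ' : IsClosed Z')
    (hsupp : ∀ x : AlgSp.FieldPt X.obj, x.IsGeometric →
      (AlgSp.Points.mk x ∈ Z ∪ Z' ↔ ¬ IsZero (AlgSp.stalkEt x ((AlgSp.toAbEt X.obj).obj F)))) :
    ∃ (G' : AlgSp.ModEt X.obj) (a : G' ⟶ F), Mono a ∧ G'.IsFinitePresentation ∧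
      (cokernel a).IsFinitePresentation ∧
        (∀ x : AlgSp.FieldPt X.obj, x.IsGeometric → AlgSp.Points.mk x ∉ Z' →
          IsZero (AlgSp.stalkEt x ((AlgSp.toAbEt X.obj).obj G'))) ∧
        (∀ x : AlgSp.FieldPt X.obj, x.IsGeometric → AlgSp.Points.mk x ∉ Z →
          IsZero (AlgSp.stalkEt x ((AlgSp.toAbEt X.obj).obj (cokernel a)))) := by
  classical
  let A := Groth.L23.CohSupp.suppSub F hN hZ'
  letI : ∀ E : AlgSp.EtOver X.obj, Module (Groth.L09.ModEt.Γ₀ E) (AlgSp.sectModEt F E) :=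
    Groth.L09.ModEt.secModule F
  letI : ∀ E : AlgSp.EtOver X.obj, Module (Groth.L09.ModEt.Γ₀ E) (AlgSp.sectModEt A.mod E) :=
    Groth.L09.ModEt.secModule A.mod
  haveI := A.isQuasicoherent
  have hinj := fun E => Groth.L23.FP.injective_app₀ A.ι E
  haveI : A.mod.IsFinitePresentation := Groth.L23.FP.isFinitePresentation_of_finite hN _ fun E _ => by
    haveI := Groth.L09.ModEt.finite_sectModEt F E
    haveI := Groth.L23.FP.isNoetherianRing_Γ₀ hN E
    exact Module.Finite.of_injective (Groth.L23.CohNbhd.app₀ A.ι E) (hinj E)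
  haveI := Groth.L23.QcClosure.isQuasicoherent_cokernel A.ι
  haveI := Groth.L23.FP.isFiniteType_of_epi (cokernel.π A.ι)
  refine ⟨A.mod, A.ι, inferInstance, inferInstance,
    Groth.L23.FP.isFinitePresentation_of_finite hN _ fun E _ => Groth.L09.ModEt.finite_sectModEt _ E,
    fun p hp hpZ => ?_, fun p hp hpZ => ?_⟩
  · by_contra hne
    obtain ⟨U, σ, l, hl⟩ := (Groth.L23.Supp.not_isZero_stalk_iff _ p hp).1 hne
    set z := l.1.left (IsLocalRing.closedPoint p.K) with hz
    obtain ⟨_, ⟨(B : U.obj.left.left.Opens), hB, rfl⟩, hzB, -⟩ :=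
      U.obj.left.left.isBasis_affineOpens.exists_subset_of_mem_open (Set.mem_univ z) isOpen_univ
    let V := Groth.L09.ModEt.openObj U B
    haveI hV : IsAffine V.obj.left.left := hB
    let τ : AlgSp.sectModEt A.mod V := Groth.L09.ModEt.res A.mod (Groth.L09.ModEt.openι U B) σ
    have hmem : (A.ι.val.app (op V)).hom τ ∈ Set.range (A.ι.val.app (op V)).hom := ⟨τ, rfl⟩
    rw [Groth.L23.SubQcoh.AffSub.range_ι A V] at hmem
    have hvT : AlgSp.Points.ofPt V.obj.hom ⟨z, hzB⟩ ∉ Z' := by
      rw [← AlgSp.EtOver.w (Groth.L09.ModEt.openι U B), Groth.L23.ofPt_comp]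
      show AlgSp.Points.ofPt U.obj.hom z ∉ _
      rw [hz, ← Groth.L23.Supp.mk_eq_ofPt_lift p l]
      exact hpZ
    have hann : ¬ AlgSp.annSect τ ≤ AlgSp.primeAtPt V.obj.left.left ⟨z, hzB⟩ := fun hle =>
      (show Groth.L23.CohSupp.SuppIn F Z' (Groth.L23.CohNbhd.app₀ A.ι V τ) from hmem) ⟨z, hzB⟩ hvT
        (le_trans (fun a ha => show a • τ = 0 from hinj V (by
          rw [map_zero, map_smul]
          exact ha)) hle)
    have h1 := Groth.L23.CohSupp.mem_zeroLocus_of_not_le A.mod hann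
    obtain ⟨_, ⟨(C : V.obj.left.left.Opens), hC, rfl⟩, hzC, hCs⟩ :=
      V.obj.left.left.isBasis_affineOpens.exists_subset_of_mem_open h1
        (Groth.L23.Supp.zeroLocus ((AlgSp.toAbEt X.obj).obj A.mod) (U := V) τ).isOpen
    have h0 : Groth.L09.ModEt.res A.mod (Groth.L09.ModEt.openι V C) τ = 0 :=
      (Groth.L23.Supp.zero_iff ((AlgSp.toAbEt X.obj).obj A.mod) (U := V) τ (Groth.L09.ModEt.openι V C)).2
        fun x => hCs x.2
    rw [← Groth.L09.ModEt.res_comp] at h0
    exact hl ((Groth.L23.Supp.zero_iff ((AlgSp.toAbEt X.obj).obj A.mod) (U := U) σ _).1 h0 ⟨⟨z, hzB⟩, hzC⟩)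
  · by_contra hne
    obtain ⟨U, τ, l, hl⟩ := (Groth.L23.Supp.not_isZero_stalk_iff _ p hp).1 hne
    set z := l.1.left (IsLocalRing.closedPoint p.K) with hz
    obtain ⟨W, hW, g, ⟨w, hw⟩, y, hy⟩ := Groth.L23.EpiLoc.exists_local_lift (cokernel.π A.ι) (E := U) τ z
    haveI := hW
    have hwO : AlgSp.Points.ofPt W.obj.hom w ∉ Z := by
      rw [← AlgSp.EtOver.w g, Groth.L23.ofPt_comp]
      show AlgSp.Points.ofPt U.obj.hom (g.hom.left.left w) ∉ _
      rw [hw, hz, ← Groth.L23.Supp.mk_eq_ofPt_lift p l]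
      exact hpZ
    obtain ⟨_, ⟨(B : W.obj.left.left.Opens), hB, rfl⟩, hwB, hBZ⟩ :=
      W.obj.left.left.isBasis_affineOpens.exists_subset_of_mem_open
        (show w ∈ (AlgSp.Points.ofPt W.obj.hom ⁻¹' Z)ᶜ from hwO)
        (hZ.preimage (AlgSp.Points.continuous_ofPt W.obj.hom)).isOpen_compl
    let V := Groth.L09.ModEt.openObj W B
    haveI hV : IsAffine V.obj.left.left := hB
    let yV : AlgSp.sectModEt F V := Groth.L09.ModEt.res F (Groth.L09.ModEt.openι W B) y
    have hsup : Groth.L23.CohSupp.SuppIn F Z' yV := by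
      intro v hv
      refine Groth.L23.CohSupp.not_le_of_mem_zeroLocus F ?_
      by_contra hv'
      obtain ⟨q, hq, m, hm, hmk⟩ := Groth.L23.Supp.exists_geom_over V v
      have hne' := (Groth.L23.Supp.not_isZero_stalk_iff ((AlgSp.toAbEt X.obj).obj F) q hq).2
        ⟨V, yV, m, hm.symm ▸ hv'⟩
      have hmem := (hsupp q hq).2 hne'
      rw [hmk] at hmem
      refine hmem.elim (fun h => hBZ v.2 ?_) hv
      rw [← AlgSp.EtOver.w (Groth.L09.ModEt.openι W B), Groth.L23.ofPt_comp] at h
      exact h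
    have hmem : yV ∈ Set.range (A.ι.val.app (op V)).hom := by
      rw [Groth.L23.SubQcoh.AffSub.range_ι A V]
      exact hsup
    obtain ⟨x, hx⟩ := hmem
    have h0 : Groth.L09.ModEt.res (cokernel A.ι) (Groth.L09.ModEt.openι W B ≫ g) τ = 0 := by
      rw [Groth.L09.ModEt.res_comp, ← hy, ← Groth.L23.CohNbhd.app₀_res]
      show Groth.L23.CohNbhd.app₀ (cokernel.π A.ι) V yV = 0
      rw [← hx]
      exact Groth.L23.QcClosure.app₀_of_eq_zero _ (cokernel.condition A.ι) V x
    exact hl (by
      have := (Groth.L23.Supp.zero_iff ((AlgSp.toAbEt X.obj).obj (cokernel A.ι)) (U := U) τ _).1 h0 ⟨w, hwB⟩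
      rw [hz] at hw
      show l.1.left (IsLocalRing.closedPoint p.K) ∈ _
      rw [← hw]
      exact this)

end Groth.Agent.S10759
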