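import Groth.Statements.S10768
import Groth.Agent.L09.Filtration.Induction

set_option autoImplicit false
universe u
open CategoryTheory CategoryTheory.Limits AlgebraicGeometry
open AlgSp

set_option backward.isDefEq.respectTransparency false
set_option backward.isDefEq.respectTransparency.types false

namespace Groth.Agent.S10768

/-- Let X be a quasi-compact and quasi-separated algebraic space over S, W ⊂ X a quasi-compact open
subspace, and P a property of open subspaces of X (pairs of an algebraic space and a representable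
open immersion into X). Assume (1) W has property P, and (2) given any elementary distinguished
square (W₁ ⊂ W₂, V ⟶ W₂) where W₁ ⊂ W₂ are quasi-compact open subspaces of X containing W and V is
affine, P for W₁ implies P for W₂. Then P holds for X (with its identity). Quasi-separatedness is
relative to S with S quasi-separated. -/
theorem result {S : Scheme.{u}} [QuasiSeparatedSpace ↥S] (X : AlgSp.Space S)
    (hXc : AlgSp.IsQuasiCompactSp X.obj) (hXs : AlgSp.IsQuasiSeparatedSp X.obj)
    (P : ∀ U : AlgSp.Space S, (U ⟶ X) → Prop)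
    (W : AlgSp.Space S) (jW : W ⟶ X) (hjW : AlgSp.RepWith @IsOpenImmersion jW.hom)
    (hWc : AlgSp.IsQuasiCompactSp W.obj) (h1 : P W jW)
    (h2 : ∀ (W₁ W₂ V : AlgSp.Space S) (j₁ : W₁ ⟶ X) (j₂ : W₂ ⟶ X) (k : W₁ ⟶ W₂) (m : W ⟶ W₁) (f : V ⟶ W₂),
      AlgSp.RepWith @IsOpenImmersion j₁.hom → AlgSp.RepWith @IsOpenImmersion j₂.hom →
      k ≫ j₂ = j₁ → m ≫ j₁ = jW →
      AlgSp.IsQuasiCompactSp W₁.obj → AlgSp.IsQuasiCompactSp W₂.obj →
      (∃ T : Over S, IsAffine T.left ∧ Nonempty ((AlgSp.yon S).obj T ≅ V.obj)) →
      AlgSp.IsElemDistSq k.hom f.hom → P W₁ j₁ → P W₂ j₂) :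
    P X (𝟙 X) := by
  exact Groth.L09.Filtration.openSubspace_induction X hXc hXs P W jW hjW hWc h1 h2

end Groth.Agent.S10768
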