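import Groth.Statements.S10769
import Groth.Agent.L23.CoprodQcoh

set_option autoImplicit false
universe u
open CategoryTheory CategoryTheory.Limits AlgebraicGeometry
attribute [local instance] HasDerivedCategory.standard
open AlgSp

set_option backward.isDefEq.respectTransparency false
set_option backward.isDefEq.respectTransparency.types false
set_option linter.style.haveILetI false

namespace Groth.Agent.S10769

/-- Let X be an algebraic space over S and E_i a family of objects of D(O_X) (modules on the small etale
site) with quasi-coherent cohomology sheaves. Granted that the direct sum of the E_i exists in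
D(O_X) (it does), the direct sum again has quasi-coherent cohomology sheaves; thus D_QCoh(O_X) has
direct sums and they agree with those of D(O_X). -/
theorem result {S : Scheme.{u}} (X : AlgSp.Space S) {ι : Type (u + 1)}
    (E : ι → AlgSp.DModEt X.obj) [HasCoproduct E]
    (hE : ∀ i, DCoh.IsQCohDMod (AlgSp.OEtRing X.obj) (E i)) :
    DCoh.IsQCohDMod (AlgSp.OEtRing X.obj) (∐ E) := by
  exact Groth.L23.Coprod.isQCohDMod_sigmaObj E hE

end Groth.Agent.S10769
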