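import Groth.Statements.S1077
import Groth.Agent.L00.SubobjLattice
-- import your own Groth.Agent.* helpers here

set_option autoImplicit false
universe v u
open CategoryTheory CategoryTheory.Limits
open CohDer

namespace Groth.Agent.S1077

/-- An object X of an abelian category is Artinian and Noetherian if and only if there is a finite chain
of subobjects ⊥ = F₀ ≤ F₁ ≤ … ≤ Fₙ = ⊤ of X whose successive quotients Fᵢ₊₁/Fᵢ are simple. -/
theorem result {A : Type u} [Category.{v} A] [Abelian A] (X : A) :
    (IsArtinianObject X ∧ IsNoetherianObject X) ↔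
      ∃ (n : ℕ) (F : Fin (n + 1) → Subobject X) (hF : Monotone F), F 0 = ⊥ ∧ F (Fin.last n) = ⊤ ∧
        ∀ i : Fin n, Simple (cokernel (Subobject.ofLE (F (Fin.castSucc i)) (F (Fin.succ i)) (hF (Fin.castSucc_lt_succ (i := i)).le))) := by
  constructor
  · rintro ⟨_, _⟩
    obtain ⟨n, F, hF, h0, hn, hc⟩ := Groth.L00.SubobjLattice.exists_series_of_wellFounded (X := X)
    exact ⟨n, F, hF, h0, hn, fun i => (Groth.L00.SubobjLattice.covBy_iff_simple (hF (Fin.castSucc_lt_succ (i := i)).le)).1 (hc i)⟩
  · rintro ⟨n, F, hF, h0, hn, hs⟩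
    have key : ∀ i : Fin (n + 1), IsArtinianObject (F i : A) ∧ IsNoetherianObject (F i : A) := by
      intro i
      induction i using Fin.induction with
      | zero =>
        rw [h0]
        have hz : IsZero ((⊥ : Subobject X) : A) := (Limits.isZero_zero A).of_iso Subobject.botCoeIsoZero
        exact ⟨isArtinianObject_of_isZero hz, isNoetherianObject_of_isZero hz⟩
      | succ i ih =>
        obtain ⟨_, _⟩ := ih
        let le := hF (Fin.castSucc_lt_succ (i := i)).le
        haveI := hs i
        haveI : IsSimpleOrder (Subobject (cokernel (Subobject.ofLE (F (Fin.castSucc i)) (F (Fin.succ i)) le))) :=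
          (simple_iff_subobject_isSimpleOrder _).1 (hs i)
        haveI : Finite (Subobject (cokernel (Subobject.ofLE (F (Fin.castSucc i)) (F (Fin.succ i)) le))) :=
          Finite.of_surjective (fun b : Bool => if b then ⊤ else ⊥) fun T =>
            (eq_bot_or_eq_top T).elim (fun e => ⟨false, e.symm⟩) fun e => ⟨true, e.symm⟩
        haveI : IsArtinianObject (cokernel (Subobject.ofLE (F (Fin.castSucc i)) (F (Fin.succ i)) le)) :=
          isArtinianObject.is_of_prop (Finite.to_wellFoundedLT)
        haveI : IsNoetherianObject (cokernel (Subobject.ofLE (F (Fin.castSucc i)) (F (Fin.succ i)) le)) :=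
          isNoetherianObject.is_of_prop (Finite.to_wellFoundedGT)
        exact ⟨Groth.L28.Elt.artinian_of_exact (Subobject.ofLE _ _ le) (cokernel.π _) fun y hy => (Groth.L28.Elt.cokernel_π_eq_zero_iff _ _).1 hy,
          Groth.L28.Elt.noetherian_of_exact (Subobject.ofLE _ _ le) (cokernel.π _) fun y hy => (Groth.L28.Elt.cokernel_π_eq_zero_iff _ _).1 hy⟩
    obtain ⟨_, _⟩ := key (Fin.last n)
    have hT : IsIso (F (Fin.last n)).arrow := by rw [hn]; infer_instance
    exact ⟨isArtinianObject_of_mono (inv (F (Fin.last n)).arrow), isNoetherianObject_of_mono (inv (F (Fin.last n)).arrow)⟩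

end Groth.Agent.S1077
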