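import Groth.Statements.S10770
import Groth.Agent.L23.SpRlim

set_option autoImplicit false
universe u
open CategoryTheory CategoryTheory.Limits AlgebraicGeometry
attribute [local instance] HasDerivedCategory.standard
open AlgSp

set_option backward.isDefEq.respectTransparency false
set_option backward.isDefEq.respectTransparency.types false
set_option linter.style.haveILetI false

namespace Groth.Agent.S10770

/-- Let X be an algebraic space over S and E an object of D(O_X) (modules on the small etale site) with
quasi-coherent cohomology sheaves. Then the canonical map from E to the derived limit of its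
truncations τ_{≥ -n}E is an isomorphism; concretely (granted the countable product of the
truncations exists in D(O_X), which holds): the map E ⟶ ∏ τ_{≥-n}E with components the truncation
morphisms, followed by identity minus transition, extends to a distinguished triangle E ⟶ ∏ τ_{≥-n}E
⟶ ∏ τ_{≥-n}E ⟶ E[1]. -/
theorem result {S : Scheme.{u}} (X : AlgSp.Space S) (E : AlgSp.DModEt X.obj)
    (hE : DCoh.IsQCohDMod (AlgSp.OEtRing X.obj) E)
    [HasProduct (fun n : ℕ => ((DerivedCategory.TStructure.t : CategoryTheory.Triangulated.TStructure (AlgSp.DModEt X.obj)).truncGE (-(n : ℤ))).obj E)] :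
    ∃ c : (∏ᶜ fun n : ℕ => ((DerivedCategory.TStructure.t : CategoryTheory.Triangulated.TStructure (AlgSp.DModEt X.obj)).truncGE (-(n : ℤ))).obj E) ⟶ E⟦(1 : ℤ)⟧,
      CategoryTheory.Pretriangulated.Triangle.mk
        (Pi.lift fun n : ℕ => ((DerivedCategory.TStructure.t : CategoryTheory.Triangulated.TStructure (AlgSp.DModEt X.obj)).truncGEπ (-(n : ℤ))).app E)
        (Pi.lift fun n : ℕ => Pi.π (fun n : ℕ => ((DerivedCategory.TStructure.t : CategoryTheory.Triangulated.TStructure (AlgSp.DModEt X.obj)).truncGE (-(n : ℤ))).obj E) n -
          Pi.π (fun n : ℕ => ((DerivedCategory.TStructure.t : CategoryTheory.Triangulated.TStructure (AlgSp.DModEt X.obj)).truncGE (-(n : ℤ))).obj E) (n + 1) ≫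
            ((DerivedCategory.TStructure.t : CategoryTheory.Triangulated.TStructure (AlgSp.DModEt X.obj)).natTransTruncGEOfLE (-((n + 1 : ℕ) : ℤ)) (-(n : ℤ)) (Int.neg_le_neg (Int.ofNat_le.mpr (Nat.le_succ n)))).app E)
        c ∈ CategoryTheory.Pretriangulated.distinguishedTriangles := by
  exact Groth.L23.SpRlim.isRlimVia hE

end Groth.Agent.S10770
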