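import Groth.Statements.S10771
import Groth.Agent.L23.SliceQcoh

set_option autoImplicit false
universe u
open CategoryTheory CategoryTheory.Limits AlgebraicGeometry
attribute [local instance] HasDerivedCategory.standard
open AlgSp
set_option backward.isDefEq.respectTransparency false
set_option backward.isDefEq.respectTransparency.types false

set_option backward.isDefEq.respectTransparency false
set_option backward.isDefEq.respectTransparency.types false
set_option linter.style.haveILetI false

namespace Groth.Agent.S10771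

/-- Let X be an algebraic space over S and E an m-pseudo-coherent object of D(O_X) (modules on the small
etale site). Then H^i(E) is a quasi-coherent O_X-module for every i > m. In particular a
pseudo-coherent object has quasi-coherent cohomology sheaves. -/
theorem result {S : Scheme.{u}} (X : AlgSp.Space S) (m : ℤ)
    (E : AlgSp.DModEt X.obj) (hE : AlgSp.IsPseudoCoherentEtD m E) (i : ℤ) (hi : m < i) :
    (DCoh.HDMod (AlgSp.OEtRing X.obj) E i).IsQuasicoherent := by
  refine Groth.L23.Slice.isQuasicoherent_of_slices _ fun Z z => ?_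
  obtain ⟨ι, V, g, hcov, hP⟩ := hE Z
  obtain ⟨j, hj⟩ := (AlgSp.ofArrows_mem_etPre_iff V g).1 hcov z
  refine ⟨V j, g j, hj, ?_⟩
  obtain ⟨K, α, hK, hiso, -⟩ := hP j
  haveI := hiso i hi
  let Ψ := Groth.L23.Slice.Ψ (V j)
  obtain ⟨e₁⟩ := Groth.L10.WSerreLib.homology_map_iso (resModEt (V j)) E i
  let e₂ : K.homology i ≅ (resModEt (V j)).obj (DCoh.HDMod (OEtRing X.obj) E i) :=
    ((DerivedCategory.homologyFunctorFactors (ModEtOn (V j)) i).app K).symm ≪≫
      asIso ((DerivedCategory.homologyFunctor (ModEtOn (V j)) i).map α) ≪≫ e₁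
  let e₃ := (K.sc i).mapHomologyIso Ψ
  refine (SheafOfModules.isQuasicoherent (OEtRing (Groth.L23.Slice.Y (V j)))).prop_of_iso
    (show ((Ψ.mapHomologicalComplex (ComplexShape.up ℤ)).obj K).homology i ≅ _ from e₃ ≪≫ Ψ.mapIso e₂) ?_
  exact Groth.L23.Slice.isQuasicoherent_homology ((Ψ.mapHomologicalComplex (ComplexShape.up ℤ)).obj K)
    (fun q => Groth.L23.Slice.isQuasicoherent_Ψ_summand (V j) (hK.2 q)) i

end Groth.Agent.S10771
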