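import Groth.Statements.S10779
import Groth.Agent.L09.SpPerf.Bounded

set_option autoImplicit false
universe u
open CategoryTheory CategoryTheory.Limits AlgebraicGeometry
attribute [local instance] HasDerivedCategory.standard
open AlgSp

namespace Groth.Agent.S10779

/-- Let X be a quasi-compact and quasi-separated algebraic space over S, P a perfect object of D(O_X)
(modules on the small etale site), E an object of D_QCoh(O_X) and a ∈ ℤ. Then the morphisms P[-i] ⟶
E vanish for all sufficiently negative i if and only if the morphisms P[-i] ⟶ τ_{≤ a}E vanish for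
all sufficiently negative i. Quasi-separatedness is relative to S with S quasi-separated. -/
theorem result {S : Scheme.{u}} [QuasiSeparatedSpace ↥S] (X : AlgSp.Space S)
    (hXc : AlgSp.IsQuasiCompactSp X.obj) (hXs : AlgSp.IsQuasiSeparatedSp X.obj)
    (P : AlgSp.DModEt X.obj) (hP : AlgSp.IsPerfectEtD P)
    (E : AlgSp.DModEt X.obj) (hE : DCoh.IsQCohDMod (AlgSp.OEtRing X.obj) E) (a : ℤ) :
    (∃ N : ℤ, ∀ i : ℤ, i ≤ N → ∀ φ : P⟦-i⟧ ⟶ E, φ = 0) ↔
      (∃ N : ℤ, ∀ i : ℤ, i ≤ N → ∀ φ : P⟦-i⟧ ⟶ ((DerivedCategory.TStructure.t : CategoryTheory.Triangulated.TStructure (AlgSp.DModEt X.obj)).truncLE a).obj E, φ = 0) := by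
  obtain ⟨b, hb⟩ := Groth.L09.SpPerf.exists_isLE_of_perfect X hXc hXs hP
  let t : CategoryTheory.Triangulated.TStructure (AlgSp.DModEt X.obj) := DerivedCategory.TStructure.t
  haveI : t.IsLE P b := hb
  let T := (t.triangleLEGE a (a + 1) rfl).obj E
  have hT : T ∈ distTriang (AlgSp.DModEt X.obj) := t.triangleLEGE_distinguished a (a + 1) rfl E
  haveI : t.IsGE T.obj₃ (a + 1) := inferInstanceAs (t.IsGE ((t.truncGE (a + 1)).obj E) (a + 1))
  haveI : t.IsGE (T.obj₃⟦(-1 : ℤ)⟧) (a + 2) := t.isGE_shift _ (a + 1) (-1) (a + 2)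
  constructor
  · rintro ⟨N, hN⟩
    refine ⟨min N (a - b), fun i hi φ => ?_⟩
    haveI : t.IsLE (P⟦-i⟧) (b + i) := t.isLE_shift P b (-i) (b + i)
    have h0 : φ ≫ T.mor₁ = 0 := hN i (hi.trans (min_le_left _ _)) _
    obtain ⟨g, hg⟩ := Pretriangulated.Triangle.coyoneda_exact₂ T.invRotate
      (Pretriangulated.inv_rot_of_distTriang _ hT) φ h0
    haveI : t.IsGE T.invRotate.obj₁ (a + 2) := inferInstanceAs (t.IsGE (T.obj₃⟦(-1 : ℤ)⟧) (a + 2))
    have hg0 : g = 0 :=
      t.zero _ (b + i) (a + 2) (by have := hi.trans (min_le_right _ _); omega)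
    exact hg.trans ((congrArg (fun z => z ≫ T.invRotate.mor₁) hg0).trans Limits.zero_comp)
  · rintro ⟨N, hN⟩
    refine ⟨min N (a - b), fun i hi φ => ?_⟩
    haveI : t.IsLE (P⟦-i⟧) (b + i) := t.isLE_shift P b (-i) (b + i)
    have h0 : (φ : P⟦-i⟧ ⟶ T.obj₂) ≫ T.mor₂ = 0 :=
      t.zero _ (b + i) (a + 1) (by have := hi.trans (min_le_right _ _); omega)
    obtain ⟨g, hg⟩ := Pretriangulated.Triangle.coyoneda_exact₂ T hT φ h0
    exact hg.trans ((congrArg (fun z => z ≫ T.mor₁) (hN i (hi.trans (min_le_left _ _)) g)).trans Limits.zero_comp)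

end Groth.Agent.S10779
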