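import Groth.Statements.S10784
import Groth.Agent.L23.SpRlim
import Groth.Agent.L23.RDerTrunc

set_option autoImplicit false
universe u
open CategoryTheory CategoryTheory.Limits AlgebraicGeometry
attribute [local instance] HasDerivedCategory.standard
open AlgSp

set_option backward.isDefEq.respectTransparency false
set_option backward.isDefEq.respectTransparency.types false
set_option linter.style.haveILetI false

namespace Groth.Agent.S10784

/-- Let X be an algebraic space over S, F : Mod(O_X) ⥤ Ab (modules on the small etale site) a left exact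
additive functor commuting with countable direct products, and N ≥ 0 an integer with R^pF(G) = 0 for
every p ≥ N and every quasi-coherent module G (right derived functors computed with injective
resolutions). Assume the total right derived functor RF : D(O_X) ⥤ D(Ab) exists. Let E be in
D_QCoh(O_X) and a, b integers. If H^i(E) = 0 for all i < a, then H^i(RF(E)) = 0 for all i < a; and
if H^i(E) = 0 for all i > b, then H^i(RF(E)) = 0 for all i > b + N - 1. (Either bound may be absent:
the two implications are stated separately, so E need not be bounded on the other side.) -/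
theorem result {S : Scheme.{u}} (X : AlgSp.Space S)
    (F : AlgSp.ModEt X.obj ⥤ AddCommGrpCat.{u + 1}) [F.Additive] [PreservesFiniteLimits F]
    [PreservesLimitsOfShape (Discrete ℕ) F] [EnoughInjectives (AlgSp.ModEt X.obj)] (N : ℕ)
    (hF : ∀ G : AlgSp.ModEt X.obj, G.IsQuasicoherent → ∀ p : ℕ, N ≤ p → IsZero ((F.rightDerived p).obj G))
    [(F.mapHomotopyCategory (ComplexShape.up ℤ) ⋙ DerivedCategory.Qh).HasRightDerivedFunctor
      (HomotopyCategory.quasiIso (AlgSp.ModEt X.obj) (ComplexShape.up ℤ))]
    (E : AlgSp.DModEt X.obj) (hE : DCoh.IsQCohDMod (AlgSp.OEtRing X.obj) E) (a b : ℤ) :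
    ((∀ i : ℤ, i < a → IsZero (DCoh.HDMod (AlgSp.OEtRing X.obj) E i)) →
      ∀ i : ℤ, i < a → IsZero ((DerivedCategory.homologyFunctor AddCommGrpCat.{u + 1} i).obj (((F.mapHomotopyCategory (ComplexShape.up ℤ) ⋙ DerivedCategory.Qh).totalRightDerived DerivedCategory.Qh (HomotopyCategory.quasiIso (AlgSp.ModEt X.obj) (ComplexShape.up ℤ))).obj E))) ∧
    ((∀ i : ℤ, b < i → IsZero (DCoh.HDMod (AlgSp.OEtRing X.obj) E i)) →
      ∀ i : ℤ, b + N - 1 < i → IsZero ((DerivedCategory.homologyFunctor AddCommGrpCat.{u + 1} i).obj (((F.mapHomotopyCategory (ComplexShape.up ℤ) ⋙ DerivedCategory.Qh).totalRightDerived DerivedCategory.Qh (HomotopyCategory.quasiIso (AlgSp.ModEt X.obj) (ComplexShape.up ℤ))).obj E))) := by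
  haveI := Groth.L23.SpRlim.enoughKInj (X := X.obj)
  haveI : HasInjectiveResolutions (AlgSp.ModEt X.obj) := inferInstance
  let α := (F.mapHomotopyCategory (ComplexShape.up ℤ) ⋙ DerivedCategory.Qh).totalRightDerivedUnit DerivedCategory.Qh
      (HomotopyCategory.quasiIso (AlgSp.ModEt X.obj) (ComplexShape.up ℤ))
  refine ⟨fun h i hi => ?_, fun h i hi => ?_⟩
  · haveI : E.IsGE a := (DerivedCategory.isGE_iff E a).2 h
    haveI := Groth.L10.RDerBound.isGE_obj (F := F) α E a
    exact DerivedCategory.isZero_of_isGE _ a i hi
  · haveI := Groth.L23.RDerTrunc.isIso_H_map_π_int F α E (Groth.L23.SpRlim.locBounded hE) ((N : ℤ) - 1)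
      (fun a p hp => hF _ (hE a) p (by omega)) (b + 1) i (by omega)
    refine IsZero.of_iso ?_ (asIso ((DerivedCategory.homologyFunctor AddCommGrpCat.{u + 1} i).map
      (((F.mapHomotopyCategory (ComplexShape.up ℤ) ⋙ DerivedCategory.Qh).totalRightDerived DerivedCategory.Qh
        (HomotopyCategory.quasiIso (AlgSp.ModEt X.obj) (ComplexShape.up ℤ))).map
        (((DerivedCategory.TStructure.t : CategoryTheory.Triangulated.TStructure (AlgSp.DModEt X.obj)).truncGEπ (b + 1)).app E))))
    have hge : (((DerivedCategory.TStructure.t : CategoryTheory.Triangulated.TStructure (AlgSp.DModEt X.obj)).truncGE (b + 1)).obj E).IsGE (i + 1) := by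
      rw [DerivedCategory.isGE_iff]
      intro k _
      by_cases hk : b + 1 ≤ k
      · haveI := Groth.L10.isIso_H_π (b + 1) k hk E
        exact (h k (by omega)).of_iso (asIso ((DerivedCategory.homologyFunctor (AlgSp.ModEt X.obj) k).map (((DerivedCategory.TStructure.t : CategoryTheory.Triangulated.TStructure (AlgSp.DModEt X.obj)).truncGEπ (b + 1)).app E))).symm
      · exact Groth.L10.isZero_H_GE (b + 1) k (by omega) E
    haveI := hge
    haveI := Groth.L10.RDerBound.isGE_obj (F := F) α (((DerivedCategory.TStructure.t : CategoryTheory.Triangulated.TStructure (AlgSp.DModEt X.obj)).truncGE (b + 1)).obj E) (i + 1)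
    exact DerivedCategory.isZero_of_isGE _ (i + 1) i (by omega)

end Groth.Agent.S10784
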