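import Groth.Statements.S10786
import Groth.Agent.L09.EtCoh.OnSite
import Groth.Agent.L09.EtCoh.LimCok

set_option autoImplicit false
universe u
open CategoryTheory CategoryTheory.Limits AlgebraicGeometry
attribute [local instance] HasDerivedCategory.standard
open AlgSp

set_option backward.isDefEq.respectTransparency false
set_option backward.isDefEq.respectTransparency.types false

namespace Groth.Agent.S10786

/-- Part (3): for the inverse system of cohomology sheaves: let X be an algebraic space over S and (M_n,
t_n : M_{n+1} ⟶ M_n) an inverse system of quasi-coherent O_X-modules (on the small etale site) whose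
transition maps are epimorphisms. Then H^p(U, lim M_n) = 0 for every p > 0 and every affine object U
of the small etale site. (The published statement asks this only for affine open subspaces U of X;
this row asks it for every affine object U of the small etale site.) -/
theorem result {S : Scheme.{u}} (X : AlgSp.Space S)
    (M : ℕ → AlgSp.ModEt X.obj) (t : ∀ n, M (n + 1) ⟶ M n) (hM : ∀ n, (M n).IsQuasicoherent)
    (ht : ∀ n, Epi (t n)) (U : AlgSp.EtOver X.obj) (hU : IsAffine U.obj.left.left) (p : ℤ) (hp : 0 < p) :
    Subsingleton (AlgSp.HEtDOn U (DCoh.inDMod (AlgSp.OEtRing X.obj) (limit (Functor.ofOpSequence t))) p) := by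
  obtain ⟨n, rfl⟩ : ∃ n : ℕ, p = ((n + 1 : ℕ) : ℤ) := ⟨(p - 1).toNat, by omega⟩
  haveI : HasExt.{u + 2} (ModEtOn U) := HasExt.standard _
  haveI := Groth.L09.EtCoh.subsingleton_ext_on.{u + 2} U hU (limit (Functor.ofOpSequence t))
    (Groth.L09.EtCoh.cok_limit M t hM ht) n
  let e := (shiftFunctor (DCoh.DMod (OEtOn U)) ((n + 1 : ℕ) : ℤ)).mapIso
    (((resModEt U).mapDerivedCategorySingleFunctor 0).app (limit (Functor.ofOpSequence t)))
  exact ((Iso.homToEquiv e).trans Abelian.Ext.homEquiv.{u + 2}.symm).subsingleton

end Groth.Agent.S10786
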