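import Groth.Statements.S10787
import Groth.Agent.L04.InjNoeth
import Groth.Agent.L04.InjLocal
import Mathlib.CategoryTheory.Limits.Types.Filtered
import Mathlib.Algebra.Category.ModuleCat.FilteredColimits
import Mathlib.RingTheory.HopkinsLevitzki
import Mathlib.RingTheory.Localization.AtPrime.Basic

set_option autoImplicit false
universe u
open CategoryTheory CategoryTheory.Limits
open CAlg

namespace Groth.Agent.S10787

open Groth.L04 InjHull

section Helpers

variable {A : Type u} [CommRing A] {E : Type u} [AddCommGroup E] [Module A E]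

/-- The `p`-saturation of the submodule generated by `G`. -/
def sat (p : Ideal A) [p.IsPrime] (G : Set E) : Submodule A E where
  carrier := {y | ∃ s ∉ p, s • y ∈ Submodule.span A G}
  add_mem' := by
    rintro a b ⟨s, hs, ha⟩ ⟨t, ht, hb⟩
    refine ⟨s * t, fun h => (‹p.IsPrime›.mem_or_mem h).elim hs ht, ?_⟩
    rw [smul_add, mul_comm s t, mul_smul, mul_comm t s, mul_smul s t b]
    exact Submodule.add_mem _ (Submodule.smul_mem _ _ ha) (Submodule.smul_mem _ _ hb)
  zero_mem' := ⟨1, fun h => ‹p.IsPrime›.ne_top ((Ideal.eq_top_iff_one p).mpr h), by simp⟩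
  smul_mem' := by
    rintro a y ⟨s, hs, hy⟩
    exact ⟨s, hs, by rw [smul_comm]; exact Submodule.smul_mem _ _ hy⟩

lemma subset_sat (p : Ideal A) [p.IsPrime] (G : Set E) : G ⊆ sat p G := fun x hx =>
  ⟨1, fun h => ‹p.IsPrime›.ne_top ((Ideal.eq_top_iff_one p).mpr h), by
    rw [one_smul]; exact Submodule.subset_span hx⟩

lemma sat_mono (p : Ideal A) [p.IsPrime] {G G' : Set E} (h : G ⊆ G') : sat p G ≤ sat p G' :=
  fun _ ⟨s, hs, hy⟩ => ⟨s, hs, Submodule.span_mono h hy⟩

lemma sat_empty (p : Ideal A) [p.IsPrime] (hbij : ∀ s ∉ p, Function.Bijective fun x : E => s • x) :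
    sat p (∅ : Set E) = ⊥ := by
  rw [eq_bot_iff]
  rintro y ⟨s, hs, hy⟩
  rw [Submodule.span_empty, Submodule.mem_bot] at hy
  exact (Submodule.mem_bot A).mpr ((hbij s hs).1 (by simpa using hy))

variable [IsNoetherianRing A]

lemma isArtinianRing_quotient_maximal_pow (R : Type u) [CommRing R] [IsLocalRing R] [IsNoetherianRing R]
    (n : ℕ) : IsArtinianRing (R ⧸ IsLocalRing.maximalIdeal R ^ n) := by
  rw [isArtinianRing_iff_krullDimLE_zero]
  refine Ring.KrullDimLE.mk₀ fun I hI => ?_
  have h : IsLocalRing.maximalIdeal R ≤ I.comap (Ideal.Quotient.mk _) := by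
    refine Ideal.IsPrime.le_of_pow_le (n := n) fun x hx => ?_
    rw [Ideal.mem_comap, Ideal.Quotient.eq_zero_iff_mem.mpr hx]
    exact I.zero_mem
  have hmax : (I.comap (Ideal.Quotient.mk (IsLocalRing.maximalIdeal R ^ n))).IsMaximal :=
    (IsLocalRing.maximalIdeal.isMaximal R).eq_of_le (Ideal.IsPrime.ne_top inferInstance) h ▸
      IsLocalRing.maximalIdeal.isMaximal R
  rw [← Ideal.map_comap_of_surjective _ Ideal.Quotient.mk_surjective I]
  exact Ideal.IsMaximal.map_of_surjective_of_ker_le Ideal.Quotient.mk_surjective
    (by rw [RingHom.ker_eq_comap_bot]; exact Ideal.comap_mono bot_le)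

/-- The saturation of a finite set is finite over an Artinian algebra. -/
lemma exists_artinian (p : Ideal A) [p.IsPrime]
    (hbij : ∀ s ∉ p, Function.Bijective fun x : E => s • x)
    (htors : LocCoh.IsPowerTorsion p E) (G : Finset E) :
    ∃ (B : Type u) (_ : CommRing B) (_ : Algebra A B) (_ : IsArtinianRing B)
      (_ : Module B (sat p (G : Set E))) (_ : IsScalarTower A B (sat p (G : Set E))),
      Module.Finite B (sat p (G : Set E)) := by
  classical
  haveI : IsLocalizedModule p.primeCompl (LinearMap.id : E →ₗ[A] E) := by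
    constructor
    · intro s
      rw [Module.End.isUnit_iff]
      exact hbij s s.2
    · intro y
      exact ⟨⟨y, 1⟩, by simp⟩
    · intro x y h
      exact ⟨1, by simpa using h⟩
  let Ap := Localization.AtPrime p
  letI : Module Ap E := IsLocalizedModule.module p.primeCompl (LinearMap.id : E →ₗ[A] E)
  haveI : IsScalarTower A Ap E :=
    IsLocalizedModule.isScalarTower_module p.primeCompl (LinearMap.id : E →ₗ[A] E)
  set N' : Submodule Ap E := Submodule.span Ap (G : Set E) with hN'
  have hinv : ∀ (s : p.primeCompl) (y : E), (s : A) • (IsLocalization.mk' Ap 1 s) • y = y := fun s y => by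
    rw [← algebraMap_smul Ap (s : A), smul_smul, mul_comm, IsLocalization.mk'_spec, map_one, one_smul]
  have hN : ∀ y, y ∈ sat p (G : Set E) ↔ y ∈ N' := by
    intro y
    constructor
    · rintro ⟨s, hs, hy⟩
      have h1 : s • y ∈ N' := Submodule.span_le_restrictScalars A Ap _ hy
      have h2 := N'.smul_mem (IsLocalization.mk' Ap 1 (⟨s, hs⟩ : p.primeCompl)) h1
      rwa [smul_comm, hinv ⟨s, hs⟩] at h2
    · intro hy
      induction hy using Submodule.span_induction with
      | mem x hx => exact subset_sat p _ hx
      | zero => exact Submodule.zero_mem _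
      | add x y _ _ hx hy => exact Submodule.add_mem _ hx hy
      | smul c x _ hx =>
        obtain ⟨⟨a, s⟩, hc⟩ := IsLocalization.surj p.primeCompl c
        obtain ⟨t, ht, hx'⟩ := hx
        refine ⟨(s : A) * t, fun h => (‹p.IsPrime›.mem_or_mem h).elim s.2 ht, ?_⟩
        have : (s : A) • c • x = a • x := by
          rw [← algebraMap_smul Ap (s : A), smul_smul, mul_comm, hc, algebraMap_smul]
        rw [mul_comm, mul_smul, this, smul_comm]
        exact Submodule.smul_mem _ _ hx'
  obtain ⟨n, hn⟩ : ∃ n : ℕ, ∀ x ∈ G, ∀ a ∈ p ^ n, a • x = 0 := by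
    choose f hf using htors
    exact ⟨G.sup f, fun x hx a ha => hf x a (Ideal.pow_le_pow_right (Finset.le_sup hx) ha)⟩
  set m := IsLocalRing.maximalIdeal Ap with hm
  have hkill : Module.IsTorsionBySet Ap N' ((m ^ n : Ideal Ap) : Set Ap) := by
    rintro ⟨y, hy⟩ ⟨c, hc⟩
    apply Subtype.ext
    show c • y = 0
    rw [hm, ← Localization.AtPrime.map_eq_maximalIdeal, ← Ideal.map_pow, SetLike.mem_coe] at hc
    induction hy using Submodule.span_induction with
    | mem x hx =>
      induction hc using Submodule.span_induction with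
      | mem c hc =>
        obtain ⟨a, ha, rfl⟩ := hc
        rw [algebraMap_smul]
        exact hn x hx a ha
      | zero => exact zero_smul _ _
      | add a b _ _ ha hb => rw [add_smul, ha, hb, add_zero]
      | smul d a _ ha => rw [smul_eq_mul, mul_smul, ha, smul_zero]
    | zero => exact smul_zero _
    | add x y _ _ hx hy => rw [smul_add, hx, hy, add_zero]
    | smul d x _ hx => rw [smul_comm, hx, smul_zero]
  let B := Ap ⧸ m ^ n
  letI : Module B N' := hkill.module
  haveI : IsScalarTower Ap B N' := hkill.isScalarTower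
  haveI : IsScalarTower A B N' := IsScalarTower.of_algebraMap_smul fun a y => by
    rw [IsScalarTower.algebraMap_apply A Ap B, algebraMap_smul, algebraMap_smul]
  haveI : IsArtinianRing B := isArtinianRing_quotient_maximal_pow Ap n
  haveI : Module.Finite Ap N' :=
    (Module.Finite.iff_fg).mpr (Submodule.fg_span G.finite_toSet)
  haveI : Module.Finite B N' := Module.Finite.of_restrictScalars_finite Ap B N'
  let e : sat p (G : Set E) ≃ₗ[A] N' :=
    { toFun := fun y => ⟨y, (hN _).mp y.2⟩
      invFun := fun y => ⟨y, (hN _).mpr y.2⟩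
      map_add' := fun _ _ => rfl
      map_smul' := fun _ _ => rfl
      left_inv := fun _ => rfl
      right_inv := fun _ => rfl }
  letI : Module B (sat p (G : Set E)) := e.toAddEquiv.module B
  haveI : IsScalarTower A B (sat p (G : Set E)) := e.isScalarTower B
  let eB : N' ≃ₗ[B] sat p (G : Set E) :=
    { e.symm.toAddEquiv with
      map_smul' := fun b y => by
        show e.symm (b • y) = e.symm (b • e (e.symm y))
        rw [LinearEquiv.apply_symm_apply] }
  exact ⟨B, inferInstance, inferInstance, inferInstance, inferInstance, inferInstance,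
    Module.Finite.equiv eB⟩

/-- Being finite over an Artinian algebra. -/
def HasArt (A : Type u) [CommRing A] (M : Type u) [AddCommGroup M] [Module A M] : Prop :=
  ∃ (B : Type u) (_ : CommRing B) (_ : Algebra A B) (_ : IsArtinianRing B)
    (_ : Module B M) (_ : IsScalarTower A B M), Module.Finite B M

omit [IsNoetherianRing A] in
lemma HasArt.of_equiv {M M' : Type u} [AddCommGroup M] [Module A M] [AddCommGroup M'] [Module A M']
    (e : M' ≃ₗ[A] M) (h : HasArt A M) : HasArt A M' := by
  obtain ⟨B, _, _, hart, _, _, hfin⟩ := h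
  letI : Module B M' := e.toAddEquiv.module B
  haveI : IsScalarTower A B M' := e.isScalarTower B
  let eB : M ≃ₗ[B] M' :=
    { e.symm.toAddEquiv with
      map_smul' := fun b y => by
        show e.symm (b • y) = e.symm (b • e (e.symm y))
        rw [LinearEquiv.apply_symm_apply] }
  exact ⟨B, inferInstance, inferInstance, hart, inferInstance, inferInstance, Module.Finite.equiv eB⟩

omit [IsNoetherianRing A] in
lemma HasArt.pi {T : Type u} [Fintype T] {M : T → Type u} [∀ i, AddCommGroup (M i)] [∀ i, Module A (M i)]
    (h : ∀ i, HasArt A (M i)) : HasArt A ((i : T) → M i) := by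
  classical
  unfold HasArt at h
  choose B hB hBA hBart hBmod hBtow hBfin using h
  letI : ∀ i, CommRing (B i) := hB
  letI : ∀ i, Algebra A (B i) := hBA
  haveI : ∀ i, IsArtinianRing (B i) := hBart
  letI : ∀ i, Module (B i) (M i) := hBmod
  haveI : ∀ i, IsScalarTower A (B i) (M i) := hBtow
  haveI : IsScalarTower A ((i : T) → B i) ((i : T) → M i) := IsScalarTower.of_algebraMap_smul fun a x => by
    funext i
    show algebraMap A (B i) a • x i = a • x i
    rw [algebraMap_smul]
  have hfinP : Module.Finite ((i : T) → B i) ((i : T) → M i) := by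
    choose gens hgens using fun i : T => (hBfin i).fg_top
    refine ⟨⟨Finset.univ.biUnion fun i : T => (gens i).image fun y => (Pi.single i y : (i : T) → M i), ?_⟩⟩
    rw [eq_top_iff]
    intro x _
    rw [← Finset.univ_sum_single x]
    refine Submodule.sum_mem _ fun i _ => ?_
    have hxi : x i ∈ Submodule.span (B i) (gens i : Set _) := (hgens i) ▸ Submodule.mem_top
    generalize x i = y at hxi ⊢
    induction hxi using Submodule.span_induction with
    | mem y hy =>
      refine Submodule.subset_span (Finset.mem_coe.mpr (Finset.mem_biUnion.mpr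
        ⟨i, Finset.mem_univ _, Finset.mem_image.mpr ⟨y, hy, rfl⟩⟩))
    | zero => rw [Pi.single_zero]; exact Submodule.zero_mem _
    | add a b _ _ ha hb => rw [Pi.single_add]; exact Submodule.add_mem _ ha hb
    | smul r a _ ha =>
      have h := Submodule.smul_mem _ (Pi.single i r : (i : T) → B i) ha
      convert h using 1
      funext j
      show (Pi.single i (r • a) : (i : T) → M i) j =
        (Pi.single i r : (i : T) → B i) j • (Pi.single i a : (i : T) → M i) j
      by_cases hj : j = i
      · subst hj; simp
      · simp [Pi.single_eq_of_ne hj]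
  exact ⟨(i : T) → B i, inferInstance, inferInstance, inferInstance, inferInstance, inferInstance, hfinP⟩

omit [IsNoetherianRing A] in
lemma HasArt.iSup {T : Type u} [Fintype T] {W : T → Submodule A E} (hind : iSupIndep W)
    (h : ∀ i, HasArt A (W i)) : HasArt A (⨆ i, W i : Submodule A E) := by
  classical
  let φ : ((i : T) → W i) →ₗ[A] E := ∑ i : T, (W i).subtype ∘ₗ LinearMap.proj i
  have hφ : ∀ x, φ x = ∑ i : T, (x i : E) := fun x => by
    simp [φ]
  have hinj : Function.Injective φ := by
    rw [injective_iff_map_eq_zero]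
    intro x hx
    rw [hφ] at hx
    funext i
    refine Subtype.ext (Submodule.disjoint_def.mp (hind i) _ (x i).2 ?_)
    rw [← Finset.add_sum_erase _ _ (Finset.mem_univ i)] at hx
    rw [eq_neg_of_add_eq_zero_left hx]
    refine Submodule.neg_mem _ (Submodule.sum_mem _ fun j hj => ?_)
    exact Submodule.mem_iSup_of_mem j (Submodule.mem_iSup_of_mem (Finset.ne_of_mem_erase hj) (x j).2)
  have hrange : LinearMap.range φ = ⨆ i, W i := by
    refine le_antisymm ?_ (iSup_le fun i y hy => ?_)
    · rintro _ ⟨x, rfl⟩
      rw [hφ]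
      exact Submodule.sum_mem _ fun i _ => Submodule.mem_iSup_of_mem i (x i).2
    · refine ⟨Pi.single i ⟨y, hy⟩, ?_⟩
      rw [hφ, Finset.sum_eq_single i (fun j _ hj => by rw [Pi.single_eq_of_ne hj]; rfl)
        (by simp), Pi.single_eq_same]
  exact HasArt.of_equiv ((LinearEquiv.ofInjective φ hinj).trans (LinearEquiv.ofEq _ _ hrange)).symm
    (HasArt.pi h)

end Helpers

open CategoryTheory CategoryTheory.Limits InjHull

/-- A directed union of submodules is a filtered colimit. -/
lemma exists_union {A : Type u} [CommRing A] {J : Type u} [AddCommGroup J] [Module A J]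
    {α : Type u} [DecidableEq α] (N : Finset α → Submodule A J) (hmono : Monotone N)
    (hcover : ∀ x : J, ∃ F, x ∈ N F) (h : ∀ F, HasArt A (N F)) :
    ∃ (ι : Type u) (_ : SmallCategory ι) (_ : IsFiltered ι) (D : ι ⥤ ModuleCat.{u} A)
      (c : Cocone D) (_ : IsColimit c), Nonempty (c.pt ≅ ModuleCat.of A J) ∧
      ∀ i : ι, ∃ (B : Type u) (_ : CommRing B) (_ : Algebra A B) (_ : IsArtinianRing B)
        (_ : Module B (D.obj i)) (_ : IsScalarTower A B (D.obj i)), Module.Finite B (D.obj i) := by
  let D : Finset α ⥤ ModuleCat.{u} A :=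
    { obj := fun F => ModuleCat.of A (N F)
      map := fun {F F'} h => ModuleCat.ofHom (Submodule.inclusion (hmono (leOfHom h)))
      map_id := fun F => by ext x; rfl
      map_comp := fun f g => by ext x; rfl }
  let c : Cocone D :=
    { pt := ModuleCat.of A J
      ι := { app := fun F => ModuleCat.ofHom (N F).subtype
             naturality := fun F F' h => by ext x; rfl } }
  have hcol : IsColimit c := by
    apply isColimitOfReflects (forget (ModuleCat.{u} A))
    refine Types.FilteredColimit.isColimitOf' _ _ ?_ ?_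
    · intro x
      obtain ⟨F, hF⟩ := hcover x
      exact ⟨F, ⟨x, hF⟩, rfl⟩
    · intro F a b hab
      exact ⟨F, 𝟙 F, by rw [show a = b from Subtype.ext hab]⟩
  exact ⟨Finset α, inferInstance, inferInstance, D, c, hcol, ⟨Iso.refl _⟩, fun F => h F⟩

/-- Let A be a Noetherian ring and J an injective A-module (an injective object of QCoh of the affine
scheme Spec A, through the equivalence with A-modules). Then J is a filtered colimit of A-modules
each of which is a finite module over some Artinian A-algebra B, the A-module structure being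
restricted from B; these are the modules underlying pushforwards to Spec A of coherent sheaves on
spectra of Artinian rings. -/
theorem result (A : Type u) [CommRing A] [IsNoetherianRing A]
    (J : Type u) [AddCommGroup J] [Module A J] [Module.Injective A J] :
    ∃ (ι : Type u) (_ : SmallCategory ι) (_ : IsFiltered ι) (D : ι ⥤ ModuleCat.{u} A)
      (c : Cocone D) (_ : IsColimit c), Nonempty (c.pt ≅ ModuleCat.of A J) ∧
      ∀ i : ι, ∃ (B : Type u) (_ : CommRing B) (_ : Algebra A B) (_ : IsArtinianRing B)
        (_ : Module B (D.obj i)) (_ : IsScalarTower A B (D.obj i)), Module.Finite B (D.obj i) := by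
  classical
  obtain ⟨S, hint, hS⟩ := exists_isInternal_indecomposable (R := A) (I := J) inferInstance
  have hp : ∀ i : S, ∃ (p : Ideal A) (_ : p.IsPrime),
      (∀ s ∉ p, Function.Bijective fun x : (i : Submodule A J) => s • x) ∧
        LocCoh.IsPowerTorsion p (i : Submodule A J) := by
    intro i
    haveI := (hS i i.2).1.1
    obtain ⟨p, hp, f, hf⟩ := exists_quotient_prime_embedding (R := A) (E := (i : Submodule A J))
    have hull : IsInjectiveHull f :=
      ⟨isEssentialInj_of_indecomposable (hS i i.2).1 (hS i i.2).2 hf, (hS i i.2).2⟩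
    exact ⟨p, hp, fun s hs => smul_bijective_of_isInjectiveHull_quotient p hull hs,
      mem_torsion_of_isInjectiveHull hull (isPowerTorsion_quotient_self p)⟩
  choose p hpP hbij htors using hp
  let gi : Finset (Σ i : S, (i : Submodule A J)) → ∀ i : S, Set (i : Submodule A J) := fun F i =>
    {x | (⟨i, x⟩ : Σ i : S, (i : Submodule A J)) ∈ F}
  let N : Finset (Σ i : S, (i : Submodule A J)) → Submodule A J := fun F =>
    ⨆ i : S, (sat (p i) (gi F i)).map (i : Submodule A J).subtype
  refine exists_union N (fun F F' h =>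
    iSup_mono fun i => Submodule.map_mono (sat_mono (p i) fun x hx => h hx)) ?_ ?_
  · intro x
    have hx : x ∈ (⨆ i : S, (i : Submodule A J)) := by
      rw [hint.submodule_iSup_eq_top]; trivial
    induction hx using Submodule.iSup_induction' with
    | mem i x hx =>
      exact ⟨{(⟨i, ⟨x, hx⟩⟩ : Σ i : S, (i : Submodule A J))}, Submodule.mem_iSup_of_mem i
        ⟨⟨x, hx⟩, subset_sat _ _ (Finset.mem_singleton_self _), rfl⟩⟩
    | zero => exact ⟨∅, Submodule.zero_mem _⟩
    | add x y _ _ hx hy =>
      obtain ⟨F, ha⟩ := hx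
      obtain ⟨F', hb⟩ := hy
      have hm : ∀ {F F'}, F ⊆ F' → N F ≤ N F' := fun h =>
        iSup_mono fun i => Submodule.map_mono (sat_mono (p i) fun x hx => h hx)
      exact ⟨F ∪ F', Submodule.add_mem _ (hm Finset.subset_union_left ha) (hm Finset.subset_union_right hb)⟩
  intro F
  let T : Finset S := F.image Sigma.fst
  let G : ∀ i : S, Finset (i : Submodule A J) := fun i =>
    F.preimage (fun x => (⟨i, x⟩ : Σ i : S, (i : Submodule A J)))
      (fun a _ b _ h => eq_of_heq (Sigma.mk.inj_iff.mp h).2)
  have hG : ∀ i : S, (G i : Set (i : Submodule A J)) = gi F i := fun i => by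
    ext x; exact Finset.mem_preimage
  have hN : N F = ⨆ i : T, (sat (p i.1) (gi F i.1)).map (i.1 : Submodule A J).subtype := by
    refine le_antisymm (iSup_le fun i => ?_) (iSup_le fun i => le_iSup_of_le i.1 le_rfl)
    by_cases hi : i ∈ T
    · exact le_iSup_of_le (⟨i, hi⟩ : T) le_rfl
    · have : gi F i = ∅ := Set.eq_empty_iff_forall_notMem.mpr fun z hz =>
        hi (Finset.mem_image.mpr ⟨_, hz, rfl⟩)
      rw [this, sat_empty (p i) (hbij i), Submodule.map_bot]
      exact bot_le
  rw [hN]
  refine HasArt.iSup ?_ fun i => ?_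
  · exact (hint.submodule_iSupIndep.comp Subtype.val_injective).mono fun i => Submodule.map_subtype_le _ _
  · refine HasArt.of_equiv (Submodule.equivMapOfInjective _ (Submodule.injective_subtype _) _).symm ?_
    rw [← hG]
    exact exists_artinian (p i.1) (hbij i.1) (htors i.1) (G i.1)


end Groth.Agent.S10787
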