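import Groth.Statements.S10788
import Groth.Agent.L23.MVSeq

set_option autoImplicit false
universe u
open CategoryTheory CategoryTheory.Limits AlgebraicGeometry
attribute [local instance] HasDerivedCategory.standard
open AlgSp

set_option backward.isDefEq.respectTransparency false
set_option backward.isDefEq.respectTransparency.types false
set_option linter.style.haveILetI false

namespace Groth.Agent.S10788

/-- Part (1): for squares whose two parts are schemes: let X be an algebraic space over S and let U, V
be objects of the small etale site of X (schemes with representable etale structure maps to X) such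
that (U ⊂ X, V ⟶ X) is an elementary distinguished square; write U ×_X V for their product in the
site. Then for every O_X-module F the sequence 0 ⟶ F ⟶ j_{U,*}F|_U ⊕ j_{V,*}F|_V ⟶ j_{U ×_X
V,*}F|_{U ×_X V} ⟶ 0 is short exact, where the first map is given by the two adjunction units and
the second by the restriction along U ×_X V ⟶ U minus the restriction along U ×_X V ⟶ V. Only
squares whose open part and etale part are both schemes are covered. -/
theorem result {S : Scheme.{u}} (X : AlgSp.Space S)
    (U V : AlgSp.EtOver X.obj) (hsq : AlgSp.IsElemDistSq U.obj.hom V.obj.hom) (F : AlgSp.ModEt X.obj) :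
    ∃ h : biprod.lift ((AlgSp.resPushAdjEt U).unit.app F) ((AlgSp.resPushAdjEt V).unit.app F) ≫
        biprod.desc ((AlgSp.pushResNatTrans (AlgSp.EtOver.prodFst U V)).app F)
          (-((AlgSp.pushResNatTrans (AlgSp.EtOver.prodSnd U V)).app F)) = 0,
      (ShortComplex.mk _ _ h).ShortExact := by
  exact Groth.L23.MV.shortExact_of_square F hsq

end Groth.Agent.S10788
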