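import Groth.Statements.S10789
import Groth.Agent.L23.MVShriek

set_option autoImplicit false
universe u
open CategoryTheory CategoryTheory.Limits AlgebraicGeometry
attribute [local instance] HasDerivedCategory.standard
open AlgSp

set_option backward.isDefEq.respectTransparency false
set_option backward.isDefEq.respectTransparency.types false
set_option linter.style.haveILetI false

namespace Groth.Agent.S10789

/-- Part (1): for squares whose two parts are schemes: let X be an algebraic space over S and let U, V
be objects of the small etale site of X (schemes with representable etale structure maps to X) such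
that (U ⊂ X, V ⟶ X) is an elementary distinguished square; write U ×_X V for their product in the
site. Granting that restriction of O_X-modules to each of U, V and U ×_X V has a left adjoint j_!
(extension by zero, which exists), for every O_X-module F the sequence 0 ⟶ j_{U ×_X V,!}F|_{U ×_X V}
⟶ j_{U,!}F|_U ⊕ j_{V,!}F|_V ⟶ F ⟶ 0 is short exact, where the second map is given by the two
adjunction counits and the first by the extension map along U ×_X V ⟶ U and minus the extension map
along U ×_X V ⟶ V. Only squares whose open part and etale part are both schemes are covered. -/
theorem result {S : Scheme.{u}} (X : AlgSp.Space S)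
    (U V : AlgSp.EtOver X.obj) (hsq : AlgSp.IsElemDistSq U.obj.hom V.obj.hom)
    [(AlgSp.resModEt U).IsRightAdjoint] [(AlgSp.resModEt V).IsRightAdjoint]
    [(AlgSp.resModEt (AlgSp.EtOver.prodObj U V)).IsRightAdjoint] (F : AlgSp.ModEt X.obj) :
    ∃ h : biprod.lift ((AlgSp.shriekResNatTrans (AlgSp.EtOver.prodFst U V)).app F)
          (-((AlgSp.shriekResNatTrans (AlgSp.EtOver.prodSnd U V)).app F)) ≫
        biprod.desc ((Adjunction.ofIsRightAdjoint (AlgSp.resModEt U)).counit.app F)
          ((Adjunction.ofIsRightAdjoint (AlgSp.resModEt V)).counit.app F) = 0,
      (ShortComplex.mk _ _ h).ShortExact := by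
  exact Groth.L23.MV.shortExact_shriek_of_square hsq F

end Groth.Agent.S10789
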