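import Groth.Statements.S10791
import Groth.Agent.L23.EffCartierSub

set_option autoImplicit false
universe u
open CategoryTheory CategoryTheory.Limits AlgebraicGeometry Topology TopologicalSpace
open AlgSp

namespace Groth.Agent.S10791

/-- (2) ⇔ (3): let X be an algebraic space over a scheme S and D ⟶ X a closed subspace (a morphism
representable by closed immersions). Then D is an effective Cartier divisor in the one-chart sense
(for some scheme V and some representable etale surjective h_V ⟶ X the inverse image of D in V is
the closed subscheme of a quasi-coherent ideal sheaf that is locally generated by one
nonzerodivisor) if and only if for every scheme U, every representable etale h_U ⟶ X and every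
quasi-coherent ideal sheaf I on U whose closed subscheme is the inverse image of D in U (a pullback
square), I is locally on affine opens generated by one nonzerodivisor. (The characterisation through
the invertible ideal sheaf of D and the pointed affine form are not part of this row.) -/
theorem result {S : Scheme.{u}} (X D : AlgSp.Space S) (i : D ⟶ X)
    (hi : AlgSp.RepWith @IsClosedImmersion i.hom) :
    AlgSp.IsEffCartierSub i.hom ↔
      ∀ (U : Over S) (φ : (AlgSp.yon S).obj U ⟶ X.obj), AlgSp.RepWith @Etale φ →
        ∀ (I : U.left.IdealSheafData)
          (fst : (AlgSp.yon S).obj (Over.mk (I.subschemeι ≫ U.hom)) ⟶ D.obj),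
          IsPullback fst ((AlgSp.yon S).map (Over.homMk I.subschemeι rfl : Over.mk (I.subschemeι ≫ U.hom) ⟶ U)) i.hom φ →
            BlowUp.IsEffCartierIdeal I := by
  exact Groth.L23.EffCart.isEffCartierSub_iff_forall X.property hi

end Groth.Agent.S10791
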