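import Groth.Statements.S10796
import Groth.Agent.L23.EffCartierSub
import Groth.Agent.L09.ModEt.WeakAss

set_option autoImplicit false
universe u
open CategoryTheory CategoryTheory.Limits AlgebraicGeometry Topology TopologicalSpace
open AlgSp

set_option backward.isDefEq.respectTransparency false
set_option backward.isDefEq.respectTransparency.types false

namespace Groth.Agent.S10796

/-- For algebraic spaces X and Y over a scheme S, a morphism f : X ⟶ Y and an effective Cartier divisor
D ⟶ Y (one-chart sense), assume that no weakly associated point of X (weakly associated point of the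
structure sheaf O_X on the small etale site of X) is mapped into |D|. Then the inverse image of D
under f is an effective Cartier divisor on X: for every pullback square of D ⟶ Y along f, the
projection to X is an effective Cartier divisor (one-chart sense). -/
theorem result {S : Scheme.{u}} (X Y D P : AlgSp.Space S) (f : X ⟶ Y)
    (i : D ⟶ Y) (hD : AlgSp.IsEffCartierSub i.hom) [(AlgSp.unitModEt X.obj).IsQuasicoherent]
    (h : ∀ x ∈ AlgSp.WeakAssEt (AlgSp.unitModEt X.obj),
      AlgSp.Points.map f.hom x ∉ Set.range (AlgSp.Points.map i.hom))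
    (fst : P ⟶ D) (snd : P ⟶ X) (hP : IsPullback fst.hom snd.hom i.hom f.hom) :
    AlgSp.IsEffCartierSub snd.hom := by
  obtain ⟨U, p, hp, hps⟩ := Y.property.atlas
  obtain ⟨T, a, k, ha, hw, has⟩ := Groth.L23.exists_chart_over X.property Y.property f.hom hp
  have hsnd : RepWith @IsClosedImmersion snd.hom := Groth.L23.repWith_of_isPullback hP hD.1
  refine Groth.L23.EffCart.isEffCartierSub_of_ker hsnd ha (has hps) ?_
  rw [← Groth.L23.CutOut.ker_snd_eq hD.1.1 ((hsnd.1.isPullback a).paste_horiz hP),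
    ← Groth.L23.comap_ker_snd hD.1 k hw.symm]
  haveI : IsClosedImmersion (hD.1.1.snd p).left := Groth.L23.repWith_snd hD.1 p
  intro t
  obtain ⟨U₀, htU, g, -, hK, -⟩ := Groth.L22.Ideals.exists_generator (Groth.L23.EffCart.isEffCartier_ker hD hp)
    (k.left t)
  obtain ⟨_, ⟨(V : T.left.Opens), hV, rfl⟩, htV, hVU⟩ := T.left.isBasis_affineOpens.exists_subset_of_mem_open
    (a := t) (show t ∈ k.left ⁻¹ᵁ U₀.1 from htU) (k.left ⁻¹ᵁ U₀.1).2
  have hJ : ((hD.1.1.snd p).left.ker.comap k.left).ideal ⟨V, hV⟩ =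
      Ideal.span {k.left.appLE U₀.1 V hVU g} := by
    rw [Groth.L22.Ideals.comap_ideal k.left _ U₀ ⟨V, hV⟩ hVU, hK, Ideal.map_span, Set.image_singleton]
  refine ⟨⟨V, hV⟩, htV, k.left.appLE U₀.1 V hVU g, mem_nonZeroDivisors_iff_right.2 fun y hy => ?_, hJ⟩
  by_contra hy0
  let E := Groth.L09.ModEt.openObj (EtOver.mk a ha) V
  haveI : IsAffine E.obj.left.left := hV
  let e : Γ(T.left, V) ≃+* Γ(E.obj.left.left, ⊤) := V.topIso.symm.commRingCatIsoToRingEquiv
  let m : sectModEt (unitModEt X.obj) E := (ULift.up (e y) : ULift Γ(E.obj.left.left, ⊤))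
  have hm : m ≠ 0 := fun h0 => hy0 (e.map_eq_zero_iff.1 (congrArg ULift.down h0))
  obtain ⟨u, hu, hle⟩ := Groth.L09.ModEt.exists_isWeakAssOn_of_ne_zero (M := unitModEt X.obj) hm
  have hg : e (k.left.appLE U₀.1 V hVU g) ∈ annSect m := by
    refine (mem_annSect_iff _ _).2 ?_
    have : e (k.left.appLE U₀.1 V hVU g) * e y = 0 := by rw [← map_mul, mul_comm, hy, map_zero]
    exact ULift.ext _ _ this
  have hnot : (V.ι u : T.left) ∉ T.left.basicOpen (k.left.appLE U₀.1 V hVU g) := fun h3 => by
    have h1 : u ∈ E.obj.left.left.basicOpen (e (k.left.appLE U₀.1 V hVU g)) := by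
      rw [← Scheme.Opens.ι_image_basicOpen_topIso_inv] at h3
      obtain ⟨u', hu', he'⟩ := h3
      exact V.ι.isOpenEmbedding.injective he' ▸ hu'
    rw [← Scheme.toSpecΓ_preimage_basicOpen] at h1
    exact h1 (hle hg)
  refine h _ ⟨E, inferInstance, u, rfl, hu⟩ ?_
  let v : T.left := (V.ι u : T.left)
  have hv : k.left v ∈ (hD.1.1.snd p).left.ker.support := by
    have : v ∈ ((hD.1.1.snd p).left.ker.comap k.left).support := by
      have h2 : v ∈ T.left.zeroLocus (U := V) (Ideal.span {k.left.appLE U₀.1 V hVU g} : Set Γ(T.left, V)) ∩ V := by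
        refine ⟨?_, u.2⟩
        rw [Scheme.zeroLocus_span, Scheme.zeroLocus_singleton]
        exact hnot
      rw [← hJ, ← Scheme.IdealSheafData.coe_support_inter] at h2
      exact h2.1
    rwa [Scheme.IdealSheafData.support_comap] at this
  obtain ⟨z, hz⟩ : k.left v ∈ Set.range (hD.1.1.snd p).left := by
    rw [← (hD.1.1.snd p).left.isClosedEmbedding.isClosed_range.closure_eq, ← Scheme.Hom.support_ker]
    exact hv
  refine ⟨Points.ofPt (hD.1.1.fst p) z, ?_⟩
  rw [Groth.L23.map_ofPt_of_isPullback (hD.1.1.isPullback p), hz, ← Groth.L23.ofPt_comp, ← hw,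
    ← Points.map_ofPt]
  exact congrArg (Points.map f.hom)
    (Groth.L23.ofPt_comp (Over.homMk V.ι rfl : Over.mk (V.ι ≫ T.hom) ⟶ T) a u).symm

end Groth.Agent.S10796
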