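import Groth.Statements.S10800
import Groth.Agent.L23.RegCompl

set_option autoImplicit false
universe u
open CategoryTheory CategoryTheory.Limits AlgebraicGeometry Topology TopologicalSpace
open AlgSp

namespace Groth.Agent.S10800

/-- Let S be a separated scheme and X an algebraic space over S which is Noetherian, separated and
regular: X is quasi-compact, quasi-separated and separated over S, and some etale surjective chart
of X is a locally Noetherian scheme whose local rings are regular. Let T be an affine scheme with a
representable open immersion h_T ⟶ X whose image is dense in |X| (a dense affine open subspace U).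
Then there is an effective Cartier divisor D ⟶ X (one-chart sense) with |D| = |X| ∖ |U|. (The
published statement asks X to be separated in the absolute sense; this row asks X separated over a
separated base scheme S, which implies it. Separatedness over S alone does not suffice: over the
affine plane with doubled origin as S, with X = S and U one of the two affine planes, the complement
is a point of codimension 2.) -/
theorem result {S : Scheme.{u}} [S.IsSeparated] (X : AlgSp.Space S)
    (hreg : AlgSp.EtaleLocally (fun U => IsLocallyNoetherian U ∧ ∀ u : ↥U, IsRegularLocalRing ↥(U.presheaf.stalk u)) X.obj)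
    (hqc : AlgSp.IsQuasiCompactSp X.obj) (hqs : AlgSp.IsQuasiSeparatedSp X.obj) (hsep : AlgSp.IsSeparatedSp X.obj)
    (T : Over S) [IsAffine T.left] (j : (AlgSp.yon S).obj T ⟶ X.obj) (hj : AlgSp.RepWith @IsOpenImmersion j)
    (hdense : Dense (Set.range (AlgSp.Points.ofPt j))) :
    ∃ (D : AlgSp.Space S) (i : D ⟶ X), AlgSp.IsEffCartierSub i.hom ∧
      Set.range (AlgSp.Points.map i.hom) = (Set.range (AlgSp.Points.ofPt j))ᶜ := by
  exact Groth.L23.RegCompl.exists_isEffCartierSub_compl X hreg hqc hsep T j hj hdense

end Groth.Agent.S10800
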