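import Groth.Statements.S10807
import Groth.Agent.L23.BlowUpSp

set_option autoImplicit false
universe u
open CategoryTheory CategoryTheory.Limits AlgebraicGeometry Topology TopologicalSpace
open AlgSp

namespace Groth.Agent.S10807

/-- Let X be an algebraic space over a scheme S and Z ⟶ X a closed subspace of finite presentation (its
ideal is of finite type), and let b : X' ⟶ X be the blowing up of X in Z, characterised by its
universal property: the inverse image of Z under b is an effective Cartier divisor (one-chart sense)
and every morphism from an algebraic space to X under which the inverse image of Z is an effective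
Cartier divisor factors uniquely through b. Then b is a proper morphism. -/
theorem result {S : Scheme.{u}} (X X' Z : AlgSp.Space S)
    (i : Z ⟶ X) (hi : AlgSp.RepWith (@IsClosedImmersion ⊓ @LocallyOfFinitePresentation) i.hom)
    (b : X' ⟶ X) (hb : AlgSp.IsBlowUpSp b.hom i.hom) :
    AlgSp.IsProperMor b.hom :=
  Groth.L23.BlowUpSp.isProperMor_blowUp X.property X'.property hi hb

end Groth.Agent.S10807
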