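import Groth.Statements.S10809
import Groth.Agent.L09.ModEt.WeakAss

set_option autoImplicit false
universe u
open CategoryTheory CategoryTheory.Limits AlgebraicGeometry Topology TopologicalSpace
open AlgSp

set_option backward.isDefEq.respectTransparency false
set_option backward.isDefEq.respectTransparency.types false

namespace Groth.Agent.S10809

/-- (1) ⇔ (2): let X be an algebraic space over a scheme S, F a quasi-coherent O_X-module on the small
etale site of X and x a point of |X|. Then x is a weakly associated point of F (for SOME affine
scheme U etale over X and some point u of U over x, u is weakly associated to F restricted to U: the
prime ideal of u is minimal over the annihilator of some section of F over U) if and only if for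
EVERY affine scheme U etale over X and every point u of U over x, u is weakly associated to F
restricted to U. (The third equivalent condition, through the stalk at a geometric point, is not
part of this row; the every-chart side is stated for affine charts, to which the general case
reduces by passing to an affine open neighbourhood.) -/
theorem result {S : Scheme.{u}} (X : AlgSp.Space S)
    (M : AlgSp.ModEt X.obj) [M.IsQuasicoherent] (x : AlgSp.Points X.obj) :
    x ∈ AlgSp.WeakAssEt M ↔
      ∀ (E : AlgSp.EtOver X.obj) [IsAffine E.obj.left.left] (u : ↥E.obj.left.left),
        AlgSp.Points.ofPt E.obj.hom u = x → AlgSp.IsWeakAssOn M E u := by
  exact Groth.L09.ModEt.mem_weakAssEt_iff M X.property x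

end Groth.Agent.S10809
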