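import Groth.Statements.S10813
import Groth.Agent.L23.EffCartierMul

set_option autoImplicit false
universe u
open CategoryTheory CategoryTheory.Limits AlgebraicGeometry Topology TopologicalSpace
open AlgSp

namespace Groth.Agent.S10813

/-- Let X be an algebraic space over a scheme S, let Z ⟶ X and Y ⟶ X be closed subspaces cut out by
quasi-coherent sheaves of ideals I and J, and let D ⟶ X be the closed subspace which the product I·J
cuts out. If D is an effective Cartier divisor (one-chart sense), then so are Z and Y, and D is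
their sum. -/
theorem result {S : Scheme.{u}} (X Z Y D : AlgSp.Space S)
    (iZ : Z ⟶ X) (iY : Y ⟶ X) (iD : D ⟶ X) (I J : AlgSp.IdealEt X.obj) (hI : I.IsQCoh) (hJ : J.IsQCoh)
    (hZ : AlgSp.IsCutOutBy I iZ.hom) (hY : AlgSp.IsCutOutBy J iY.hom) (hD : AlgSp.IsCutOutBy (I * J) iD.hom)
    (hDc : AlgSp.IsEffCartierSub iD.hom) :
    AlgSp.IsEffCartierSub iZ.hom ∧ AlgSp.IsEffCartierSub iY.hom := by
  exact Groth.L23.EffCart.isEffCartierSub_of_mul X.property hZ hY hD hDc

end Groth.Agent.S10813
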