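import Groth.Statements.S10815
import Groth.Agent.L09.ModEt.Push

set_option autoImplicit false
universe u
open CategoryTheory CategoryTheory.Limits AlgebraicGeometry Topology TopologicalSpace
open AlgSp

set_option backward.isDefEq.respectTransparency false
set_option backward.isDefEq.respectTransparency.types false

namespace Groth.Agent.S10815

/-- Let f : X ⟶ Y be a finite morphism of algebraic spaces over a scheme S (representable; the
representability is carried as a separate hypothesis) and F a quasi-coherent O_X-module on the small
etale site of X, with f_*F quasi-coherent. Then WeakAss(f_*F) = f(WeakAss(F)) as subsets of |Y|. -/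
theorem result {S : Scheme.{u}} (X Y : AlgSp.Space S) (f : X ⟶ Y)
    (hf : AlgSp.Representable f.hom) (hfin : AlgSp.IsFiniteMor f.hom)
    (M : AlgSp.ModEt X.obj) [M.IsQuasicoherent] [((AlgSp.pushModEt hf).obj M).IsQuasicoherent] :
    AlgSp.WeakAssEt ((AlgSp.pushModEt hf).obj M) = AlgSp.Points.map f.hom '' AlgSp.WeakAssEt M := by
  have hf' := Groth.L23.isFiniteMor_iff.1 hfin
  have haff : AlgSp.RepWith @IsAffineHom f.hom :=
    Groth.L23.repWith_mono (fun φ (_ : IsFinite φ) => inferInstanceAs (IsAffineHom φ)) hf'
  exact Set.Subset.antisymm (Groth.L09.ModEt.weakAss_push_subset hf M haff)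
    (Groth.L09.ModEt.image_weakAss_subset hf M Y.property haff
      fun E _ _ w h => Groth.L09.ModEt.isWeakAssOn_push_of_finite hf M hf' E w h)

end Groth.Agent.S10815
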