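import Groth.Statements.S10817
import Groth.Agent.L09.ModEt.WeakAssMore

set_option autoImplicit false
universe u
open CategoryTheory CategoryTheory.Limits AlgebraicGeometry Topology TopologicalSpace
open AlgSp

set_option backward.isDefEq.respectTransparency false
set_option backward.isDefEq.respectTransparency.types false

namespace Groth.Agent.S10817

/-- Let X be an algebraic space over a scheme S and F a quasi-coherent O_X-module on the small etale
site of X. If U ⟶ X is an etale morphism from a scheme (an object of the small etale site) whose
image in |X| contains all weakly associated points of F, then the restriction map Γ(X, F) ⟶ Γ(U, F)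
is injective; here Γ(X, F) is the type of compatible families of sections of F over all objects of
the site, and the map is evaluation at U. -/
theorem result {S : Scheme.{u}} (X : AlgSp.Space S)
    (M : AlgSp.ModEt X.obj) [M.IsQuasicoherent] (E : AlgSp.EtOver X.obj)
    (hE : AlgSp.WeakAssEt M ⊆ Set.range (AlgSp.Points.ofPt E.obj.hom)) :
    Function.Injective (fun s : M.sections => PresheafOfModules.sections.eval s (Opposite.op E)) := by
  exact Groth.L09.ModEt.injective_eval M E hE

end Groth.Agent.S10817
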