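
import Groth.Statements.S10820
import Groth.Agent.L22.ProjInter

set_option autoImplicit false
universe u
open AlgebraicGeometry Topology TopologicalSpace
open Variety

namespace Groth.Agent.S10820

/-- For a field k, n ≥ 2 and a nonzero homogeneous polynomial f of degree d ≥ 1 in n + 1 variables, the
hypersurface V_+(f) in projective n-space over k (as a subspace of Proj of the polynomial ring
graded by degree) is connected and nonempty. -/
theorem result (k : Type u) [Field k] (n d : ℕ) (hn : 2 ≤ n)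
    (f : MvPolynomial (Fin (n + 1)) k) (hf : f.IsHomogeneous d) (hd : 0 < d) (hf0 : f ≠ 0) :
    IsConnected (ProjectiveSpectrum.zeroLocus (CohB1.polyGrading n k)
      ({f} : Set (MvPolynomial (Fin (n + 1)) k))) := by
  have hhom : (Ideal.span {f}).IsHomogeneous (CohB1.polyGrading n k) :=
    Groth.L22.ProjDict.isHomogeneous_span_singleton hf
  have hne : Ideal.span {f} ≠ ⊤ :=
    ne_top_of_le_ne_top (Groth.L22.ProjDict.vertex_isMaximal (k := k) (n := n)).ne_top
      ((Ideal.span_singleton_le_iff_mem _).2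
        (Groth.L22.ProjDict.mem_vertex_of_isHomogeneous hf hd))
  -- every minimal prime is a point of dimension `n - 1`
  have hpt : ∀ R ∈ (Ideal.span {f}).minimalPrimes,
      ∃ x : Groth.L22.ProjDict.Pt k n, x.asHomogeneousIdeal.toIdeal = R ∧
        topologicalKrullDim (closure ({x} : Set (Groth.L22.ProjDict.Pt k n))) =
          ((n - 1 : ℕ) : WithBot ℕ∞) := by
    intro R hR
    haveI := hR.1.1
    have hR' : R ∈ ((⊥ : Ideal (MvPolynomial (Fin (n + 1)) k)) ⊔ Ideal.span {f}).minimalPrimes := by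
      rwa [bot_sup_eq]
    have hdim := Groth.L22.ProjDict.dim_eq_of_mem_minimalPrimes (P := ⊥) (by simpa using hf0) hR'
    obtain ⟨r, -, -, -, hr, -⟩ :=
      Groth.L22.AffineDim.exists_normalization k (MvPolynomial (Fin (n + 1)) k ⧸ R)
    rw [hr, Groth.L22.ProjDict.dim_bot] at hdim
    have hrn : r = n := by
      have : r + 1 = n + 1 := by exact_mod_cast hdim
      omega
    let x : Groth.L22.ProjDict.Pt k n := Groth.L22.ProjDict.mkPt R hR.1.1
      (Groth.L22.ProjDict.isHomogeneous_of_mem_minimalPrimes hhom hR)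
      (by rw [hr]; exact_mod_cast (show 1 ≤ r by omega))
    obtain ⟨c, hc, hcd⟩ := Groth.L22.ProjDict.exists_dim_closure x
    have : r = c + 1 := by exact_mod_cast hr.symm.trans hcd
    exact ⟨x, rfl, by rw [hc]; exact_mod_cast (show c = n - 1 by omega)⟩
  refine ⟨?_, isPreconnected_of_forall_pair fun y₁ hy₁ y₂ hy₂ => ?_⟩
  · obtain ⟨R, hR⟩ := Ideal.nonempty_minimalPrimes hne
    obtain ⟨x, hx, -⟩ := hpt R hR
    exact ⟨x, Groth.L22.ProjDict.mem_zeroLocus_iff.2 (hx ▸ hR.1.2)⟩
  · obtain ⟨R₁, hR₁, hle₁⟩ :=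
      Ideal.exists_minimalPrimes_le (Groth.L22.ProjDict.mem_zeroLocus_iff.1 hy₁)
    obtain ⟨R₂, hR₂, hle₂⟩ :=
      Ideal.exists_minimalPrimes_le (Groth.L22.ProjDict.mem_zeroLocus_iff.1 hy₂)
    obtain ⟨x₁, hx₁, hd₁⟩ := hpt R₁ hR₁
    obtain ⟨x₂, hx₂, hd₂⟩ := hpt R₂ hR₂
    obtain ⟨z, -, hz₁, hz₂, -, -⟩ := Groth.L22.ProjDict.exists_inter x₁ x₂ hd₁ hd₂ (by omega)
    refine ⟨closure {x₁} ∪ closure {x₂}, Set.union_subset ?_ ?_,
      Or.inl (Groth.L22.ProjDict.mem_closure_iff.2 (hx₁ ▸ hle₁)),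
      Or.inr (Groth.L22.ProjDict.mem_closure_iff.2 (hx₂ ▸ hle₂)),
      IsPreconnected.union z hz₁ hz₂ isIrreducible_singleton.closure.isPreirreducible.isPreconnected
        isIrreducible_singleton.closure.isPreirreducible.isPreconnected⟩
    · exact closure_minimal (Set.singleton_subset_iff.2
        (Groth.L22.ProjDict.mem_zeroLocus_iff.2 (hx₁ ▸ hR₁.1.2)))
        (ProjectiveSpectrum.isClosed_zeroLocus _ _)
    · exact closure_minimal (Set.singleton_subset_iff.2
        (Groth.L22.ProjDict.mem_zeroLocus_iff.2 (hx₂ ▸ hR₂.1.2)))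
        (ProjectiveSpectrum.isClosed_zeroLocus _ _)

end Groth.Agent.S10820
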