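
import Groth.Statements.S10821
import Groth.Agent.L22.ProjInter

set_option autoImplicit false
universe u
open AlgebraicGeometry Topology TopologicalSpace
open Variety

namespace Groth.Agent.S10821

theorem exists_prime_factor_mem {R : Type*} [CommRing R] [IsDomain R] [UniqueFactorizationMonoid R]
    {P : Ideal R} (hP : P.IsPrime) {g : R} (hg : g ≠ 0) (hgP : g ∈ P) :
    ∃ h, Irreducible h ∧ h ∣ g ∧ h ∈ P := by
  obtain ⟨u, hu⟩ := UniqueFactorizationMonoid.factors_prod hg
  have hprod : (UniqueFactorizationMonoid.factors g).prod ∈ P := by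
    have : (UniqueFactorizationMonoid.factors g).prod * u ∈ P := by rw [hu]; exact hgP
    exact (hP.mul_mem_iff_mem_or_mem.1 this).resolve_right
      fun h => hP.ne_top (Ideal.eq_top_of_isUnit_mem _ h u.isUnit)
  obtain ⟨h, hmem, hhP⟩ := hP.multiset_prod_mem_iff_exists_mem _ |>.1 hprod
  refine ⟨h, UniqueFactorizationMonoid.irreducible_of_factor h hmem, ?_, hhP⟩
  exact (Multiset.dvd_prod hmem).trans ⟨u, hu.symm⟩

/-- For a field k and an irreducible closed subset Z of projective n-space over k, Z has codimension 1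
(the longest chain of irreducible closed subsets strictly above Z has length 1) if and only if Z is
the zero set V_+(f) of an irreducible homogeneous polynomial f in n + 1 variables. -/
theorem result (k : Type u) [Field k] (n : ℕ)
    (Z : TopologicalSpace.IrreducibleCloseds (ProjectiveSpectrum (CohB1.polyGrading n k))) :
    Order.coheight Z = 1 ↔
      ∃ (d : ℕ) (f : MvPolynomial (Fin (n + 1)) k), f.IsHomogeneous d ∧ Irreducible f ∧
        (Z : Set (ProjectiveSpectrum (CohB1.polyGrading n k))) =
          ProjectiveSpectrum.zeroLocus (CohB1.polyGrading n k) ({f} : Set (MvPolynomial (Fin (n + 1)) k)) := by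
  set S := MvPolynomial (Fin (n + 1)) k
  obtain ⟨z, hz, hzmem⟩ := Groth.L22.ProjDict.exists_generic Z.isClosed Z.isIrreducible
  set P := z.asHomogeneousIdeal.toIdeal with hP
  let top : TopologicalSpace.IrreducibleCloseds (ProjectiveSpectrum (CohB1.polyGrading n k)) :=
    ⟨Set.univ, Groth.L22.ProjDict.closure_genPt (k := k) (n := n) ▸
      isIrreducible_singleton.closure, isClosed_univ⟩
  have htop : ∀ W, W ≤ top := fun W y _ => Set.mem_univ y
  constructor
  · intro h1
    have hZne : ¬ IsMax Z := Order.coheight_ne_zero.1 (by rw [h1]; exact one_ne_zero)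
    have hP0 : P ≠ ⊥ := fun h0 => hZne fun W hW y _ => (hzmem y).2 (h0 ▸ bot_le)
    obtain ⟨g, hgP, hg0, d, hgd⟩ : ∃ g ∈ P, g ≠ 0 ∧ ∃ d, g.IsHomogeneous d := by
      obtain ⟨p, hp, hp0⟩ := Submodule.exists_mem_ne_zero_of_ne_bot hP0
      by_contra hne
      push Not at hne
      refine hp0 ?_
      rw [← MvPolynomial.sum_homogeneousComponent p]
      refine Finset.sum_eq_zero fun i _ => ?_
      by_contra hi
      exact hne _ (MvPolynomial.homogeneousComponent_mem_of_mem z.asHomogeneousIdeal.isHomogeneous hp i)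
        hi i (MvPolynomial.homogeneousComponent_isHomogeneous i p)
    have hhom : (Ideal.span {g}).IsHomogeneous (CohB1.polyGrading n k) :=
      Groth.L22.ProjDict.isHomogeneous_span_singleton hgd
    obtain ⟨Q, hQ, hQP⟩ :=
      Ideal.exists_minimalPrimes_le ((Ideal.span_singleton_le_iff_mem P).2 hgP)
    let q : ProjectiveSpectrum (CohB1.polyGrading n k) :=
      ⟨⟨Q, Groth.L22.ProjDict.isHomogeneous_of_mem_minimalPrimes hhom hQ⟩, hQ.1.1,
        fun h => z.not_irrelevant_le (h.trans hQP)⟩
    let W : TopologicalSpace.IrreducibleCloseds (ProjectiveSpectrum (CohB1.polyGrading n k)) :=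
      ⟨closure {q}, isIrreducible_singleton.closure, isClosed_closure⟩
    have hZW : Z ≤ W := fun y hy =>
      Groth.L22.ProjDict.mem_closure_iff.2 (hQP.trans ((hzmem y).1 hy))
    have hWtop : W < top := lt_of_le_of_ne (htop W) fun e => by
      have : Groth.L22.ProjDict.genPt k n ∈ W := e ▸ Set.mem_univ _
      have hQ0 : Q ≤ ⊥ := Groth.L22.ProjDict.mem_closure_iff.1 this
      exact hg0 ((Submodule.mem_bot S).1 (hQ0 (hQ.1.2 (Ideal.mem_span_singleton_self g))))
    have hZeq : Z = W := hZW.eq_or_lt.resolve_right fun hlt => by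
      have h2 : (2 : ℕ∞) ≤ Order.coheight Z :=
        le_trans (by rw [← one_add_one_eq_two]) <| le_trans
          (add_le_add (le_trans (by simp) (Order.coheight_add_one_le hWtop)) le_rfl)
          (Order.coheight_add_one_le hlt)
      rw [h1] at h2
      exact absurd h2 (by decide)
    have hPQ : P = Q := by
      refine le_antisymm ?_ hQP
      exact (hzmem q).1 (show q ∈ (Z : Set _) from hZeq ▸ subset_closure rfl)
    obtain ⟨f, hf, hfg, hfQ⟩ := exists_prime_factor_mem hQ.1.1 hg0
      (hQ.1.2 (Ideal.mem_span_singleton_self g))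
    haveI : (Ideal.span {f}).IsPrime := (Ideal.span_singleton_prime hf.ne_zero).2 hf.prime
    have hQf : Q = Ideal.span {f} :=
      le_antisymm (hQ.2 ⟨inferInstance, Ideal.span_singleton_le_span_singleton.2 hfg⟩
        ((Ideal.span_singleton_le_iff_mem _).2 hfQ)) ((Ideal.span_singleton_le_iff_mem _).2 hfQ)
    refine ⟨f.totalDegree, f, Groth.L22.ProjDict.isHomogeneous_of_span_singleton hf.ne_zero
      (hQf ▸ hPQ ▸ z.asHomogeneousIdeal.isHomogeneous), hf, ?_⟩
    ext y
    rw [Groth.L22.ProjDict.mem_zeroLocus_iff, hzmem, hPQ, hQf]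
  · rintro ⟨d, f, hf, hirr, hZf⟩
    haveI : (Ideal.span {f}).IsPrime := (Ideal.span_singleton_prime hirr.ne_zero).2 hirr.prime
    have hzf : Ideal.span {f} ≤ P := Groth.L22.ProjDict.mem_zeroLocus_iff.1
      (hZf ▸ (show z ∈ (Z : Set _) from hz ▸ subset_closure rfl))
    have hn : 0 < n := by
      rcases Nat.eq_zero_or_pos n with rfl | hn
      · exfalso
        obtain ⟨e, -, hed⟩ := Groth.L22.ProjDict.exists_dim_closure z
        have h1 := Groth.L22.ProjDict.dim_bot (k := k) (n := 0)
        have h2 := Groth.L22.ProjDict.dim_lt (P := (⊥ : Ideal S)) (Q := P)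
          (lt_of_lt_of_le (bot_lt_iff_ne_bot.2 (by simpa using hirr.ne_zero)) hzf)
        rw [hed, h1] at h2
        have : e + 1 + 1 ≤ 1 := by exact_mod_cast h2
        omega
      · exact hn
    obtain ⟨q, hq, hqd⟩ := Groth.L22.ProjDict.exists_pt_of_irreducible hn hf hirr
    have hqZ : q ∈ (Z : Set _) := by
      rw [hZf, Groth.L22.ProjDict.mem_zeroLocus_iff, hq]
    have hPq : P = Ideal.span {f} := le_antisymm (hq ▸ (hzmem q).1 hqZ) hzf
    have hlt : Z < top := lt_of_le_of_ne (htop Z) fun e => by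
      have : Groth.L22.ProjDict.genPt k n ∈ (Z : Set _) := e ▸ trivial
      have h0 : P ≤ ⊥ := (hzmem _).1 this
      rw [hPq] at h0
      exact hirr.ne_zero ((Submodule.mem_bot S).1 (h0 (Ideal.mem_span_singleton_self f)))
    refine le_antisymm ?_ (le_trans (by simp) (Order.coheight_add_one_le hlt))
    refine Order.coheight_le_coe_iff (n := 1).2 fun W hW => ?_
    obtain ⟨w, hw, hwmem⟩ := Groth.L22.ProjDict.exists_generic W.isClosed W.isIrreducible
    have hzW : z ∈ (W : Set _) := hW.le (show z ∈ (Z : Set _) from hz ▸ subset_closure rfl)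
    have hwP : w.asHomogeneousIdeal.toIdeal < P := lt_of_le_of_ne ((hwmem z).1 hzW) fun e =>
      hW.not_ge fun y hy => (hzmem y).2 (e.symm ▸ (hwmem y).1 hy)
    have hw0 : w.asHomogeneousIdeal.toIdeal = ⊥ := by
      by_contra hne
      have h1 := Groth.L22.ProjDict.dim_lt hwP
      have h2 := Groth.L22.ProjDict.dim_lt (P := (⊥ : Ideal S)) (bot_lt_iff_ne_bot.2 hne)
      obtain ⟨e, -, hed⟩ := Groth.L22.ProjDict.exists_dim_closure w
      rw [hPq, hqd, hed] at h1
      rw [Groth.L22.ProjDict.dim_bot, hed] at h2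
      have h1' : n + 1 ≤ e + 1 := by exact_mod_cast h1
      have h2' : e + 1 + 1 ≤ n + 1 := by exact_mod_cast h2
      omega
    have hmax : IsMax W := fun V _ y _ => (hwmem y).2 (hw0 ▸ bot_le)
    rw [Order.coheight_eq_zero.2 hmax]
    exact one_pos

end Groth.Agent.S10821
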