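
import Groth.Statements.S10822
import Groth.Agent.L22.ProjInter

set_option autoImplicit false
universe u
open AlgebraicGeometry Topology TopologicalSpace
open Variety

namespace Groth.Agent.S10822

/-- Let k be a field, X an irreducible closed subset of projective n-space over k of positive dimension,
and f a homogeneous polynomial in n + 1 variables whose zero set V_+(f) is nonempty and does not
contain X. Then X meets V_+(f), and every irreducible component C of X ∩ V_+(f) has dim C + 1 = dim
X, i.e. codimension 1 in X (all maximal chains of irreducible closed subsets of X have length dim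
X). -/
theorem result (k : Type u) [Field k] (n d : ℕ)
    (X : Set (ProjectiveSpectrum (CohB1.polyGrading n k))) (hXc : IsClosed X) (hXi : IsIrreducible X)
    (hXd : 0 < topologicalKrullDim ↥X)
    (f : MvPolynomial (Fin (n + 1)) k) (hf : f.IsHomogeneous d)
    (hV : (ProjectiveSpectrum.zeroLocus (CohB1.polyGrading n k)
      ({f} : Set (MvPolynomial (Fin (n + 1)) k))).Nonempty)
    (hX : ¬ X ⊆ ProjectiveSpectrum.zeroLocus (CohB1.polyGrading n k)
      ({f} : Set (MvPolynomial (Fin (n + 1)) k))) :
    (X ∩ ProjectiveSpectrum.zeroLocus (CohB1.polyGrading n k)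
        ({f} : Set (MvPolynomial (Fin (n + 1)) k))).Nonempty ∧
      ∀ C ∈ irreducibleComponents ↥(X ∩ ProjectiveSpectrum.zeroLocus (CohB1.polyGrading n k)
          ({f} : Set (MvPolynomial (Fin (n + 1)) k))),
        topologicalKrullDim ↥C + 1 = topologicalKrullDim ↥X := by
  obtain ⟨x, hx, hxmem⟩ := Groth.L22.ProjDict.exists_generic hXc hXi
  obtain ⟨e, he, hed⟩ := Groth.L22.ProjDict.exists_dim_closure x
  have hXe : topologicalKrullDim ↥X = (e : WithBot ℕ∞) := by rw [hx]; exact he
  have he1 : 1 ≤ e := by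
    rw [hXe] at hXd
    exact_mod_cast hXd
  set P := x.asHomogeneousIdeal.toIdeal with hP
  have hfP : f ∉ P := fun h => hX fun y hy => by
    rw [Groth.L22.ProjDict.mem_zeroLocus_iff, Ideal.span_le, Set.singleton_subset_iff]
    exact (hxmem y).1 hy h
  have hfv : f ∈ Groth.L22.ProjDict.vertex k n := by
    obtain ⟨y, hy⟩ := hV
    rw [Groth.L22.ProjDict.mem_zeroLocus_iff, Ideal.span_le, Set.singleton_subset_iff] at hy
    exact Groth.L22.ProjDict.le_vertex y.asHomogeneousIdeal.isHomogeneous y.isPrime.ne_top hy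
  have hhom : (P ⊔ Ideal.span {f}).IsHomogeneous (CohB1.polyGrading n k) :=
    x.asHomogeneousIdeal.isHomogeneous.sup (Groth.L22.ProjDict.isHomogeneous_span_singleton hf)
  have hne : P ⊔ Ideal.span {f} ≠ ⊤ :=
    ne_top_of_le_ne_top (Groth.L22.ProjDict.vertex_isMaximal (k := k) (n := n)).ne_top
      (sup_le (Groth.L22.ProjDict.le_vertex x.asHomogeneousIdeal.isHomogeneous x.isPrime.ne_top)
        ((Ideal.span_singleton_le_iff_mem _).2 hfv))
  have hmem : ∀ y, y ∈ X ∩ ProjectiveSpectrum.zeroLocus (CohB1.polyGrading n k)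
      ({f} : Set (MvPolynomial (Fin (n + 1)) k)) ↔
      P ⊔ Ideal.span {f} ≤ y.asHomogeneousIdeal.toIdeal := fun y => by
    rw [Set.mem_inter_iff, sup_le_iff, hxmem y, Groth.L22.ProjDict.mem_zeroLocus_iff]
  refine ⟨?_, fun C hC => ?_⟩
  · obtain ⟨R, hR⟩ := Ideal.nonempty_minimalPrimes hne
    have hd := Groth.L22.ProjDict.dim_eq_of_mem_minimalPrimes (P := P) hfP hR
    obtain ⟨r, -, -, -, hr, -⟩ := by
      haveI := hR.1.1
      exact Groth.L22.AffineDim.exists_normalization k (MvPolynomial (Fin (n + 1)) k ⧸ R)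
    have hr1 : 1 ≤ r := by
      rw [hr, hed] at hd
      have : r + 1 = e + 1 := by exact_mod_cast hd
      omega
    exact ⟨Groth.L22.ProjDict.mkPt R hR.1.1
      (Groth.L22.ProjDict.isHomogeneous_of_mem_minimalPrimes hhom hR)
      (by rw [hr]; exact_mod_cast hr1), (hmem _).2 hR.1.2⟩
  · obtain ⟨y, -, hy, hCd⟩ := Groth.L22.ProjDict.component_minimalPrimes hhom hmem hC
    rw [hCd, hXe]
    exact Groth.L22.ProjDict.component_hypersurface hfP hy hed

end Groth.Agent.S10822
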