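import Groth.Statements.S10824
import Groth.Agent.L03.PlanePoints
import Mathlib.LinearAlgebra.Dimension.RankNullity
import Mathlib.LinearAlgebra.Isomorphisms
import Mathlib.Data.Nat.Choose.Basic
import Mathlib.RingTheory.Polynomial.UniqueFactorization
import Mathlib.Tactic.Ring
import Mathlib.Tactic.Linarith
import Mathlib.Tactic.LinearCombination

set_option autoImplicit false
universe u
open Variety

namespace Groth.Agent.S10824

/-- Let k be a field, S the polynomial ring in three variables over k with degree-d part S_d, and f, g
nonzero homogeneous polynomials of positive degrees n and m with no common non-unit factor. Then for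
every d ≥ n + m the degree-d part of S/(f, g), namely S_d modulo its intersection with the ideal (f,
g), has dimension n·m over k. -/
theorem result (k : Type u) [Field k] (n m d : ℕ)
    (f g : MvPolynomial (Fin 3) k) (hf : f.IsHomogeneous n) (hg : g.IsHomogeneous m)
    (hn : 0 < n) (hm : 0 < m) (hf0 : f ≠ 0) (hg0 : g ≠ 0) (hfg : IsRelPrime f g) (hd : n + m ≤ d) :
    Module.finrank k
        (↥(MvPolynomial.homogeneousSubmodule (Fin 3) k d) ⧸
          Submodule.comap (MvPolynomial.homogeneousSubmodule (Fin 3) k d).subtype
            ((Ideal.span ({f, g} : Set (MvPolynomial (Fin 3) k))).restrictScalars k)) = n * m := by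
  classical
  let H : ℕ → Submodule k (MvPolynomial (Fin 3) k) := fun j => MvPolynomial.homogeneousSubmodule (Fin 3) k j
  have hfr : ∀ j, Module.Finite k (H j) ∧ Module.finrank k (H j) = Nat.choose (j + 2) 2 := fun j =>
    Groth.L03.PlanePoints.finrank_homogeneous (F := k) 2 j
  haveI : ∀ j, Module.Finite k (H j) := fun j => (hfr j).1
  -- components of a product with a homogeneous factor
  have hcomp : ∀ (i j : ℕ) (p a : MvPolynomial (Fin 3) k), p.IsHomogeneous i →
      MvPolynomial.homogeneousComponent (i + j) (p * a) = p * MvPolynomial.homogeneousComponent j a := by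
    intro i j p a hp
    conv_lhs => rw [← MvPolynomial.sum_homogeneousComponent a]
    rw [Finset.mul_sum, map_sum]
    have : ∀ t, MvPolynomial.homogeneousComponent (i + j) (p * MvPolynomial.homogeneousComponent t a) =
        if j = t then p * MvPolynomial.homogeneousComponent t a else 0 := fun t => by
      rw [MvPolynomial.homogeneousComponent_of_mem
        ((hp.mul (MvPolynomial.homogeneousComponent_isHomogeneous t a)) :
          p * MvPolynomial.homogeneousComponent t a ∈ MvPolynomial.homogeneousSubmodule (Fin 3) k (i + t))]
      simp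
    rw [Finset.sum_congr rfl fun t _ => this t, Finset.sum_ite_eq]
    split_ifs with h
    · rfl
    · rw [MvPolynomial.homogeneousComponent_eq_zero j a (by simpa [Nat.lt_add_one_iff] using h), mul_zero]
  obtain ⟨e, rfl⟩ : ∃ e, d = e + n + m := ⟨d - n - m, by omega⟩
  let L : (H (e + m) × H (e + n)) →ₗ[k] H (e + n + m) :=
    LinearMap.codRestrict _
      ((LinearMap.mulLeft k f ∘ₗ (H (e + m)).subtype).coprod (LinearMap.mulLeft k g ∘ₗ (H (e + n)).subtype))
      (fun x => by
        refine add_mem ?_ ?_
        · have := hf.mul (x.1.2 : (x.1 : MvPolynomial (Fin 3) k).IsHomogeneous (e + m))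
          rw [show n + (e + m) = e + n + m by omega] at this
          exact this
        · have := hg.mul (x.2.2 : (x.2 : MvPolynomial (Fin 3) k).IsHomogeneous (e + n))
          rw [show m + (e + n) = e + n + m by omega] at this
          exact this)
  have hrange : LinearMap.range L = Submodule.comap (H (e + n + m)).subtype
      ((Ideal.span ({f, g} : Set (MvPolynomial (Fin 3) k))).restrictScalars k) := by
    refine le_antisymm ?_ fun x hx => ?_
    · rintro _ ⟨x, rfl⟩
      exact Ideal.mem_span_pair.2 ⟨x.1, x.2, by simp [L, mul_comm]⟩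
    · obtain ⟨a, b, hab⟩ := Ideal.mem_span_pair.1 hx
      refine ⟨⟨⟨MvPolynomial.homogeneousComponent (e + m) a, MvPolynomial.homogeneousComponent_mem _ _⟩,
        ⟨MvPolynomial.homogeneousComponent (e + n) b, MvPolynomial.homogeneousComponent_mem _ _⟩⟩, Subtype.ext ?_⟩
      change f * MvPolynomial.homogeneousComponent (e + m) a + g * MvPolynomial.homogeneousComponent (e + n) b =
        (x : MvPolynomial (Fin 3) k)
      rw [← hcomp n (e + m) f a hf, ← hcomp m (e + n) g b hg, show n + (e + m) = e + n + m by omega,
        show m + (e + n) = e + n + m by omega, ← map_add, show f * a + g * b = a * f + b * g by ring, hab]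
      exact MvPolynomial.homogeneousComponent_eq_self x.2
  let K : H e →ₗ[k] (H (e + m) × H (e + n)) :=
    (LinearMap.codRestrict _ (LinearMap.mulLeft k g ∘ₗ (H e).subtype) fun c => by
        have := hg.mul (c.2 : (c : MvPolynomial (Fin 3) k).IsHomogeneous e)
        rw [Nat.add_comm m e] at this
        exact this).prod
    (LinearMap.codRestrict _ (LinearMap.mulLeft k (-f) ∘ₗ (H e).subtype) fun c => by
        have := hf.mul (c.2 : (c : MvPolynomial (Fin 3) k).IsHomogeneous e)
        rw [Nat.add_comm n e] at this
        change -f * (c : MvPolynomial (Fin 3) k) ∈ H (e + n)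
        rw [neg_mul]
        exact (H (e + n)).neg_mem this)
  have hKinj : Function.Injective K := fun c c' h => by
    have := congrArg (fun z => ((z.1 : H (e + m)) : MvPolynomial (Fin 3) k)) h
    exact Subtype.ext (mul_left_cancel₀ hg0 this)
  have hKker : LinearMap.range K = LinearMap.ker L := by
    refine le_antisymm ?_ fun x hx => ?_
    · rintro _ ⟨c, rfl⟩
      refine LinearMap.mem_ker.2 (Subtype.ext ?_)
      simp [L, K]
      ring
    · have h0 : f * (x.1 : MvPolynomial (Fin 3) k) + g * x.2 = 0 := congrArg Subtype.val (LinearMap.mem_ker.1 hx)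
      have hdvd : g ∣ f * (x.1 : MvPolynomial (Fin 3) k) := ⟨-x.2, by linear_combination h0⟩
      obtain ⟨c, hc⟩ := hfg.symm.dvd_of_dvd_mul_left hdvd
      have hceq : g * MvPolynomial.homogeneousComponent e c = x.1 := by
        rw [← hcomp m e g c hg, ← hc, Nat.add_comm m e]
        exact MvPolynomial.homogeneousComponent_eq_self x.1.2
      refine ⟨⟨MvPolynomial.homogeneousComponent e c, MvPolynomial.homogeneousComponent_mem _ _⟩, ?_⟩
      refine Prod.ext (Subtype.ext hceq) (Subtype.ext (mul_left_cancel₀ hg0 ?_))
      change g * (-f * MvPolynomial.homogeneousComponent e c) = g * x.2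
      linear_combination (-f) * hceq - h0
  have h1 := L.finrank_range_add_finrank_ker
  rw [← hKker, LinearMap.finrank_range_of_inj hKinj, Module.finrank_prod, (hfr (e + m)).2, (hfr (e + n)).2,
    (hfr e).2, hrange] at h1
  have h2 := Submodule.finrank_quotient_add_finrank (Submodule.comap (H (e + n + m)).subtype
      ((Ideal.span ({f, g} : Set (MvPolynomial (Fin 3) k))).restrictScalars k))
  rw [(hfr (e + n + m)).2] at h2
  have hc2 : ∀ t, 2 * Nat.choose (t + 2) 2 = (t + 2) * (t + 1) := fun t => by
    rw [Nat.choose_two_right, Nat.mul_div_cancel' (Nat.even_mul_pred_self (t + 2)).two_dvd]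
    rfl
  have e1 := hc2 e
  have e2 := hc2 (e + m)
  have e3 := hc2 (e + n)
  have e4 := hc2 (e + n + m)
  linarith

end Groth.Agent.S10824
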