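import Groth.Statements.S10825
import Groth.Agent.L22.AffineDim
import Mathlib.RingTheory.Spectrum.Prime.Topology
import Mathlib.RingTheory.Norm.Transitivity
import Mathlib.FieldTheory.Minpoly.IsIntegrallyClosed
import Mathlib.RingTheory.Ideal.GoingUp
import Mathlib.Topology.KrullDimension
import Mathlib.LinearAlgebra.FreeModule.Norm

set_option autoImplicit false
universe u
open Topology
open CAlg

namespace Groth.Agent.S10825

/-- Let A → B be an injective integral homomorphism of integral domains with fraction fields K and L, L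
a finite extension of K, and A integrally closed. For b in B the norm N_{L/K}(b) lies in A; if a
denotes this element of A, then the image of the closed set V(b) of Spec B under Spec B → Spec A is
exactly V(a), and V(b) and V(a) have the same dimension. -/
theorem result
    (A B K L : Type u) [CommRing A] [IsDomain A] [CommRing B] [IsDomain B] [Algebra A B]
    [Field K] [Field L] [Algebra A K] [IsFractionRing A K] [Algebra B L] [IsFractionRing B L]
    [Algebra A L] [Algebra K L] [IsScalarTower A B L] [IsScalarTower A K L]
    [FiniteDimensional K L] [Algebra.IsIntegral A B] [IsIntegrallyClosed A]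
    (hinj : Function.Injective (algebraMap A B))
    (b : B) (a : A) (ha : algebraMap A K a = Algebra.norm K (algebraMap B L b)) :
    PrimeSpectrum.comap (algebraMap A B) '' PrimeSpectrum.zeroLocus ({b} : Set B) =
        PrimeSpectrum.zeroLocus ({a} : Set A) ∧
      topologicalKrullDim ↥(PrimeSpectrum.zeroLocus ({b} : Set B)) =
        topologicalKrullDim ↥(PrimeSpectrum.zeroLocus ({a} : Set A)) := by
  classical
  have hbint : IsIntegral A b := Algebra.IsIntegral.isIntegral b
  let f := minpoly A b
  let x := algebraMap B L b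
  haveI : FaithfulSMul A L := (faithfulSMul_iff_algebraMap_injective _ _).mpr (by
    rw [IsScalarTower.algebraMap_eq A B L]; exact (IsFractionRing.injective B L).comp hinj)
  haveI : Module.IsTorsionFree A B := Module.isTorsionFree_iff_algebraMap_injective.mpr hinj
  have hxint : IsIntegral K x := (hbint.algebraMap (B := L)).tower_top
  have hmp : minpoly K x = f.map (algebraMap A K) := minpoly.isIntegrallyClosed_eq_field_fractions K L hbint
  let m := Module.finrank (IntermediateField.adjoin K {x}) L
  have hm : 0 < m := Module.finrank_pos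
  have hnorm : a = ((-1) ^ f.natDegree * f.coeff 0) ^ m := by
    refine IsFractionRing.injective A K ?_
    rw [ha, Algebra.norm_eq_norm_adjoin K x, ← IntermediateField.adjoin.powerBasis_gen hxint,
      Algebra.PowerBasis.norm_gen_eq_coeff_zero_minpoly, IntermediateField.adjoin.powerBasis_dim,
      IntermediateField.adjoin.powerBasis_gen, IntermediateField.minpoly_gen, hmp,
      (minpoly.monic hbint).natDegree_map, Polynomial.coeff_map]
    simp [m, f]
  have hfb : Polynomial.aeval b f = 0 := minpoly.aeval A b
  have hc0 : ∀ P : Ideal B, P.IsPrime → b ∈ P → algebraMap A B (f.coeff 0) ∈ P := by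
    intro P hP hb
    have h := hfb
    rw [← f.divX_mul_X_add, map_add, map_mul, Polynomial.aeval_X, Polynomial.aeval_C] at h
    rw [eq_neg_of_add_eq_zero_right h]
    exact neg_mem (Ideal.mul_mem_left _ _ hb)
  have himg : PrimeSpectrum.comap (algebraMap A B) '' PrimeSpectrum.zeroLocus ({b} : Set B) =
      PrimeSpectrum.zeroLocus ({a} : Set A) := by
    refine Set.Subset.antisymm ?_ ?_
    · rintro _ ⟨P, hP, rfl⟩
      rw [PrimeSpectrum.mem_zeroLocus, Set.singleton_subset_iff] at hP ⊢
      show algebraMap A B a ∈ P.asIdeal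
      rw [hnorm, map_pow, map_mul]
      exact Ideal.pow_mem_of_mem _ (Ideal.mul_mem_left _ _ (hc0 _ P.2 hP)) m hm
    · intro p hp
      rw [PrimeSpectrum.mem_zeroLocus, Set.singleton_subset_iff] at hp
      haveI := p.2
      have hc : f.coeff 0 ∈ p.asIdeal := by
        rw [hnorm] at hp
        rcases p.2.mem_or_mem (p.2.mem_of_pow_mem m hp) with h | h
        · exact absurd (Ideal.eq_top_of_isUnit_mem _ h ((isUnit_neg_one).pow _)) p.2.ne_top
        · exact h
      let S := Algebra.adjoin A ({b} : Set B)
      let π : Polynomial A →ₐ[A] S := Polynomial.aeval ⟨b, Algebra.self_mem_adjoin_singleton A b⟩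
      have hπv : ∀ g, ((π g : S) : B) = Polynomial.aeval b g := fun g => by
        show S.val (π g) = _
        rw [← AlgHom.comp_apply, ← Polynomial.aeval_algHom]; rfl
      have hπs : Function.Surjective π := fun s => by
        have hs : (s : B) ∈ (Polynomial.aeval b : Polynomial A →ₐ[A] B).range :=
          (Algebra.adjoin_singleton_eq_range_aeval A b).le s.2
        obtain ⟨g, hg⟩ := hs
        exact ⟨g, Subtype.ext ((hπv g).trans hg)⟩
      let χ : Polynomial A →+* A ⧸ p.asIdeal := (Ideal.Quotient.mk p.asIdeal).comp Polynomial.constantCoeff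
      have hker : RingHom.ker π.toRingHom ≤ RingHom.ker χ := by
        intro g hg
        have hg' : Polynomial.aeval b g = 0 := by rw [← hπv, show π g = 0 from hg]; rfl
        obtain ⟨q, rfl⟩ := minpoly.isIntegrallyClosed_dvd hbint hg'
        show Ideal.Quotient.mk p.asIdeal ((f * q).coeff 0) = 0
        rw [Polynomial.mul_coeff_zero, Ideal.Quotient.eq_zero_iff_mem]
        exact Ideal.mul_mem_right _ _ hc
      let χ' : S →+* A ⧸ p.asIdeal := RingHom.liftOfSurjective π.toRingHom hπs ⟨χ, hker⟩
      have hχ' : ∀ g, χ' (π g) = χ g := fun g =>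
        RingHom.congr_fun (RingHom.liftOfSurjective_comp π.toRingHom hπs ⟨χ, hker⟩) g
      haveI : Algebra.IsIntegral S B := Algebra.IsIntegral.tower_top (R := A)
      haveI : (RingHom.ker χ').IsPrime := RingHom.ker_isPrime χ'
      obtain ⟨P, -, hPp, hPc⟩ := Ideal.exists_ideal_over_prime_of_isIntegral (RingHom.ker χ') (⊥ : Ideal B)
        (fun s hs => by
          have h0 : (s : B) = 0 := hs
          have hs0 : s = 0 := Subtype.ext h0
          rw [hs0]; exact zero_mem _)
      refine ⟨⟨P, hPp⟩, ?_, ?_⟩
      · rw [PrimeSpectrum.mem_zeroLocus, Set.singleton_subset_iff]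
        have h1 : π Polynomial.X ∈ P.comap (algebraMap S B) := by
          rw [hPc, RingHom.mem_ker, hχ']; simp [χ]
        have h2 : ((π Polynomial.X : S) : B) ∈ P := h1
        rwa [hπv, Polynomial.aeval_X] at h2
      · refine PrimeSpectrum.ext (Ideal.ext fun z => ?_)
        show algebraMap A B z ∈ P ↔ z ∈ p.asIdeal
        have h1 : π (Polynomial.C z) ∈ P.comap (algebraMap S B) ↔ z ∈ p.asIdeal := by
          rw [hPc, RingHom.mem_ker, hχ']
          simp [χ, Ideal.Quotient.eq_zero_iff_mem]
        rw [← h1]
        show _ ↔ ((π (Polynomial.C z) : S) : B) ∈ P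
        rw [hπv, Polynomial.aeval_C]
  refine ⟨himg, ?_⟩
  have hdimV : ∀ (R : Type u) [CommRing R] (I : Ideal R),
      topologicalKrullDim (PrimeSpectrum.zeroLocus (I : Set R)) = ringKrullDim (R ⧸ I) := by
    intro R _ I
    have hemb := PrimeSpectrum.isClosedEmbedding_comap_of_surjective (R := R) (R ⧸ I) (Ideal.Quotient.mk I) Ideal.Quotient.mk_surjective
    have hr : Set.range (PrimeSpectrum.comap (Ideal.Quotient.mk I)) = PrimeSpectrum.zeroLocus (I : Set R) := by
      rw [range_comap_of_surjective _ _ Ideal.Quotient.mk_surjective, Ideal.mk_ker]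
    rw [← hr, ← IsHomeomorph.topologicalKrullDim_eq _ hemb.isEmbedding.toHomeomorph.isHomeomorph,
      PrimeSpectrum.topologicalKrullDim_eq_ringKrullDim]
  let I : Ideal B := Ideal.span {b}
  let J : Ideal A := I.comap (algebraMap A B)
  have hJ : PrimeSpectrum.zeroLocus (J : Set A) = PrimeSpectrum.zeroLocus ({a} : Set A) := by
    rw [← himg, ← PrimeSpectrum.zeroLocus_span ({b} : Set B)]
    refine Set.Subset.antisymm (fun p hp => ?_) ?_
    · haveI := p.2
      obtain ⟨P, hP1, hP2, hP3⟩ := Ideal.exists_ideal_over_prime_of_isIntegral p.asIdeal I hp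
      exact ⟨⟨P, hP2⟩, hP1, PrimeSpectrum.ext hP3⟩
    · rintro _ ⟨P, hP, rfl⟩
      exact fun z hz => hP hz
  rw [← hJ, ← PrimeSpectrum.zeroLocus_span ({b} : Set B), hdimV, hdimV]
  exact Groth.L22.AffineDim.ringKrullDim_eq_of_isIntegral Ideal.algebraMap_quotient_injective

end Groth.Agent.S10825
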