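import Groth.Statements.S10828
import Groth.Agent.L22.FibreDim
import Groth.Agent.L07.SyntOverField
-- import your own Groth.Agent.* helpers here

set_option autoImplicit false
universe u
open CategoryTheory AlgebraicGeometry
open Variety

namespace Groth.Agent.S10828

/-- Let k be a field, K an algebraic closure of k with its group G of k-automorphisms, and X a k-scheme
locally of finite type. The map sending a K-valued point of X over k to its image point identifies
the closed points of X with the G-orbits in X(K): a point is closed if and only if it is the image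
of some K-valued point, and two K-valued points have the same image if and only if one is obtained
from the other by composing with Spec of a k-automorphism of K. -/
theorem result (k K : Type u) [Field k] [Field K]
    [Algebra k K] [IsAlgClosure k K] {X : Scheme.{u}} (f : X ⟶ Spec (CommRingCat.of k))
    [LocallyOfFiniteType f] :
    (∀ x : X, IsClosed ({x} : Set X) ↔
        ∃ p : Spec (CommRingCat.of K) ⟶ X, p ≫ f = Spec.map (CommRingCat.ofHom (algebraMap k K)) ∧
          p.base (IsLocalRing.closedPoint K) = x) ∧
      ∀ p q : Spec (CommRingCat.of K) ⟶ X,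
        p ≫ f = Spec.map (CommRingCat.ofHom (algebraMap k K)) →
        q ≫ f = Spec.map (CommRingCat.ofHom (algebraMap k K)) →
          (p.base (IsLocalRing.closedPoint K) = q.base (IsLocalRing.closedPoint K) ↔
            ∃ σ : K ≃ₐ[k] K, q = Spec.map (CommRingCat.ofHom σ.toRingHom) ≫ p) := by
  classical
  letI : X.Over (Spec (CommRingCat.of k)) := ⟨f⟩
  haveI : JacobsonSpace X := LocallyOfFiniteType.jacobsonSpace f
  haveI := IsAlgClosure.isAlgClosed k (K := K)
  haveI : Algebra.IsAlgebraic k K := IsAlgClosure.isAlgebraic
  haveI : Normal k K := IsAlgClosure.normal k K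
  -- a `K`-point over `k` is a point with a `k`-embedding of its residue field
  have hpt : ∀ (x : X) (e : X.residueField x ⟶ CommRingCat.of K),
      (Spec.map e ≫ X.fromSpecResidueField x) ≫ f = Spec.map (CommRingCat.ofHom (algebraMap k K)) ↔
        e.hom.comp (Curv2.resMap k X x) = algebraMap k K := fun x e => by
    have h0 : (Spec.map e ≫ X.fromSpecResidueField x) ≫ f =
        Spec.map (CommRingCat.ofHom (Curv2.resMap k X x) ≫ e) := by
      rw [Spec.map_comp, Category.assoc, Groth.L22.FibreDim.SpecMap_resMap]
      rfl
    rw [h0, Spec.map_inj]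
    exact ⟨fun h => congrArg CommRingCat.Hom.hom h, fun h => CommRingCat.hom_ext h⟩
  have hclosed : ∀ x : X, IsClosed ({x} : Set X) ↔
      (letI := Curv2.resAlgebra k X x; Algebra.IsAlgebraic k (X.residueField x)) := fun x => by
    letI := Curv2.resAlgebra k X x
    have hcomp : X.fromSpecResidueField x ≫ f = Spec.map (CommRingCat.ofHom (Curv2.resMap k X x)) :=
      (Groth.L22.FibreDim.SpecMap_resMap k X x).symm
    rw [isClosed_singleton_iff_locallyOfFiniteType]
    constructor
    · intro h
      have h1 : LocallyOfFiniteType (Spec.map (CommRingCat.ofHom (Curv2.resMap k X x))) := by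
        rw [← hcomp]; infer_instance
      rw [HasRingHomProperty.Spec_iff (P := @LocallyOfFiniteType)] at h1
      haveI : Algebra.FiniteType k (X.residueField x) := RingHom.finiteType_algebraMap.1 h1
      haveI := finite_of_finite_type_of_isJacobsonRing k (X.residueField x)
      exact Algebra.IsAlgebraic.of_finite k _
    · intro h
      haveI : Algebra.EssFiniteType k (X.residueField x) := by
        letI : Algebra k (X.presheaf.stalk x) := (Groth.L07.SyntOverField.toStalk f x).hom.toAlgebra
        haveI := Groth.L07.SyntOverField.essFiniteType_stalk f x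
        have e : (IsLocalRing.residue (X.presheaf.stalk x)).comp (algebraMap k (X.presheaf.stalk x)) =
            Curv2.resMap k X x := by
          show (IsLocalRing.residue (X.presheaf.stalk x)).comp (Groth.L07.SyntOverField.toStalk f x).hom = _
          rw [Groth.L07.SyntOverField.toStalk_eq f x ⊤ trivial]
          simp only [Scheme.Hom.appLE, Category.assoc, TopCat.Presheaf.germ_res]
          rfl
        let φ : X.presheaf.stalk x →ₐ[k] X.residueField x :=
          { IsLocalRing.residue (X.presheaf.stalk x) with commutes' := fun c => RingHom.congr_fun e c }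
        exact Algebra.EssFiniteType.of_surjective φ IsLocalRing.residue_surjective
      haveI := Algebra.finite_of_essFiniteType_of_isAlgebraic (F := k) (E := X.residueField x)
      have h1 : (Curv2.resMap k X x).FiniteType :=
        RingHom.finiteType_algebraMap.2 (inferInstance : Algebra.FiniteType k (X.residueField x))
      have h2 : LocallyOfFiniteType (X.fromSpecResidueField x ≫ f) := by
        rw [hcomp, HasRingHomProperty.Spec_iff (P := @LocallyOfFiniteType)]
        exact h1
      exact locallyOfFiniteType_of_comp _ f
  have hsig : ∀ p : Spec (CommRingCat.of K) ⟶ X, ∃ e : X.residueField (p (IsLocalRing.closedPoint K)) ⟶ CommRingCat.of K,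
      p = Spec.map e ≫ X.fromSpecResidueField (p (IsLocalRing.closedPoint K)) := fun p =>
    ⟨_, (Scheme.descResidueField_stalkClosedPointTo_fromSpecResidueField K X p).symm⟩
  refine ⟨fun x => ⟨fun hx => ?_, ?_⟩, fun p q hp hq => ⟨fun hpq => ?_, ?_⟩⟩
  · letI := Curv2.resAlgebra k X x
    haveI := (hclosed x).1 hx
    let e : X.residueField x →ₐ[k] K := IsAlgClosed.lift
    refine ⟨Spec.map (CommRingCat.ofHom e.toRingHom) ≫ X.fromSpecResidueField x,
      (hpt x (CommRingCat.ofHom e.toRingHom)).2 (RingHom.ext e.commutes), ?_⟩
    show X.fromSpecResidueField x (Spec.map (CommRingCat.ofHom e.toRingHom) (IsLocalRing.closedPoint K)) = x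
    exact Scheme.fromSpecResidueField_apply _ _
  · rintro ⟨p, hp, rfl⟩
    obtain ⟨e, he⟩ := hsig p
    rw [he] at hp
    have he' := (hpt _ e).1 hp
    refine (hclosed _).2 ?_
    letI := Curv2.resAlgebra k X (p (IsLocalRing.closedPoint K))
    let φ : X.residueField (p (IsLocalRing.closedPoint K)) →ₐ[k] K :=
      { e.hom with commutes' := fun c => RingHom.congr_fun he' c }
    exact Algebra.IsAlgebraic.of_injective φ φ.toRingHom.injective
  · obtain ⟨e₁, he₁⟩ := hsig p
    obtain ⟨e₂, he₂⟩ := hsig q
    replace hpq : p (IsLocalRing.closedPoint K) = q (IsLocalRing.closedPoint K) := hpq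
    let c := X.residueFieldCongr hpq.symm
    have he₂' : q = Spec.map (c.inv ≫ e₂) ≫ X.fromSpecResidueField (p (IsLocalRing.closedPoint K)) := by
      conv_lhs => rw [he₂]
      rw [Spec.map_comp, Category.assoc]
      congr 1
      rw [← Scheme.residueFieldCongr_fromSpecResidueField (X := X) hpq.symm, ← Category.assoc, ← Spec.map_comp]
      simp [c]
    generalize hd : c.inv ≫ e₂ = d at he₂'
    clear hd c
    clear hpq
    generalize hx : p (IsLocalRing.closedPoint K) = x at e₁ he₁ d he₂'
    subst he₁ he₂'
    letI := Curv2.resAlgebra k X x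
    let φ₁ : X.residueField x →ₐ[k] K := { e₁.hom with commutes' := fun t => RingHom.congr_fun ((hpt x e₁).1 hp) t }
    let φ₂ : X.residueField x →ₐ[k] K := { d.hom with commutes' := fun t => RingHom.congr_fun ((hpt x d).1 hq) t }
    let χ : φ₁.fieldRange ≃ₐ[k] φ₂.fieldRange :=
      (AlgEquiv.ofInjectiveField φ₁).symm.trans (AlgEquiv.ofInjectiveField φ₂)
    refine ⟨χ.liftNormal K, ?_⟩
    rw [← Category.assoc, ← Spec.map_comp]
    congr 2
    ext a
    show φ₂ a = χ.liftNormal K (φ₁ a)
    have h1 := χ.liftNormal_commutes K (AlgEquiv.ofInjectiveField φ₁ a)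
    have h2 : χ (AlgEquiv.ofInjectiveField φ₁ a) = AlgEquiv.ofInjectiveField φ₂ a :=
      congrArg (AlgEquiv.ofInjectiveField φ₂) ((AlgEquiv.ofInjectiveField φ₁).symm_apply_apply a)
    rw [h2] at h1
    exact h1.symm
  · rintro ⟨σ, rfl⟩
    show p (IsLocalRing.closedPoint K) = p (Spec.map (CommRingCat.ofHom σ.toRingHom) (IsLocalRing.closedPoint K))
    congr 1
    exact Subsingleton.elim (α := PrimeSpectrum K) _ _


end Groth.Agent.S10828
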