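
import Groth.Statements.S10829
import Groth.Agent.L22.ProjInter

set_option autoImplicit false
universe u
open AlgebraicGeometry
open Variety

namespace Groth.Agent.S10829

/-- For a field k and a natural number n, projective n-space over k (Proj of the polynomial ring in n +
1 variables graded by degree) has Krull dimension n as a topological space. (The published statement
also gives affine n-space dimension n; that half is the Krull dimension of a polynomial ring and is
not restated here.) -/
theorem result (k : Type u) [Field k] (n : ℕ) :
    topologicalKrullDim ↥(CohB1.ProjSpace n k) = (n : WithBot ℕ∞) := by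
  have h := Groth.L22.ProjDict.closure_genPt (k := k) (n := n)
  obtain ⟨e, he, hd⟩ := Groth.L22.ProjDict.exists_dim_closure (Groth.L22.ProjDict.genPt k n)
  rw [h, (Homeomorph.Set.univ _).isHomeomorph.topologicalKrullDim_eq] at he
  have h0 : ((e + 1 : ℕ) : WithBot ℕ∞) = ((n + 1 : ℕ) : WithBot ℕ∞) :=
    hd.symm.trans Groth.L22.ProjDict.dim_bot
  have : e = n := by
    have : e + 1 = n + 1 := by exact_mod_cast h0
    omega

  subst this
  delta CohB1.ProjSpace
  exact he

end Groth.Agent.S10829
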