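import Groth.Statements.S10830
import Groth.Agent.L06.Dim

set_option autoImplicit false
universe u
open Topology TopologicalSpace
open TopDim

namespace Groth.Agent.S10830

/-- In an irreducible topological space X of finite Krull dimension, every proper closed subset Y has
strictly smaller Krull dimension than X. -/
theorem result (X : Type u) [TopologicalSpace X]
    [IrreducibleSpace X] (hfin : topologicalKrullDim X ≠ ⊤) (Y : Set X) (hY : IsClosed Y) (hYX : Y ≠ Set.univ) :
    topologicalKrullDim ↥Y < topologicalKrullDim X := by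
  rcases isEmpty_or_nonempty Y with hY0 | hY0
  · rw [Groth.L06.Dim.eq_bot]
    exact lt_of_lt_of_le (WithBot.bot_lt_coe (0 : ℕ∞)) Groth.L06.Dim.nonneg
  refine lt_of_le_of_ne (topologicalKrullDim_subspace_le X Y) fun e => hfin ?_
  refine top_le_iff.mp (le_of_forall_lt fun a ha => ?_)
  suffices h : ∀ n : ℕ, (n : WithBot ℕ∞) ≤ topologicalKrullDim X by
    induction a with
    | bot => exact lt_of_lt_of_le (WithBot.bot_lt_coe ((0 : ℕ) : ℕ∞)) (h 0)
    | coe a =>
      obtain ⟨n, rfl⟩ := ENat.ne_top_iff_exists.mp (show a ≠ ⊤ by rintro rfl; exact lt_irrefl _ ha)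
      exact lt_of_lt_of_le (by exact_mod_cast n.lt_succ_self) (h (n + 1))
  intro n
  induction n with
  | zero => exact_mod_cast Groth.L06.Dim.nonneg
  | succ n ih =>
    rw [← e] at ih
    obtain ⟨p, hp⟩ := Order.le_krullDim_iff.mp ih
    let m : IrreducibleCloseds Y → IrreducibleCloseds X := IrreducibleCloseds.map Subtype.val continuous_subtype_val
    let q := p.map m (IrreducibleCloseds.map_strictMono_of_isInducing IsInducing.subtypeVal)
    let top : IrreducibleCloseds X := ⟨Set.univ, IrreducibleSpace.isIrreducible_univ X, isClosed_univ⟩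
    have hlt : q.last < top := by
      refine lt_of_le_of_ne (fun x _ => Set.mem_univ x) fun h => hYX ?_
      refine Set.univ_subset_iff.mp ?_
      have : (q.last : Set X) ⊆ Y := closure_minimal (Subtype.coe_image_subset _ _) hY
      rw [h] at this
      exact this
    exact Order.le_krullDim_iff.mpr ⟨q.snoc top hlt, by simp [q, hp]⟩

end Groth.Agent.S10830
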