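
import Groth.Statements.S10832
import Groth.Agent.L22.DimZero

set_option autoImplicit false
universe u
open CategoryTheory AlgebraicGeometry Topology
open Variety

namespace Groth.Agent.S10832

/-- For a nonempty scheme X of finite type over a field k the following are equivalent: X has Krull
dimension 0; X is affine with ring of global sections finite over k and equal to the product of all
its local rings via the germ maps; the underlying space of X is discrete; the underlying space of X
is finite. -/
theorem result (k : Type u) [Field k] {X : Scheme.{u}} [Nonempty X]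
    (f : X ⟶ Spec (CommRingCat.of k)) [LocallyOfFiniteType f] [QuasiCompact f] :
    [topologicalKrullDim ↥X = 0,
      IsAffine X ∧ f.appTop.hom.Finite ∧
        Function.Bijective (fun s : Γ(X, ⊤) => fun x : X => X.presheaf.germ ⊤ x trivial s),
      DiscreteTopology ↥X,
      Finite ↥X].TFAE := by
  haveI := Groth.L22.DimZero.isNoetherian k f
  haveI : JacobsonSpace ↥X := LocallyOfFiniteType.jacobsonSpace f
  have hdisc : DiscreteTopology ↥X → topologicalKrullDim ↥X = 0 := fun _ =>
    le_antisymm (topologicalKrullDim_zero_of_discreteTopology _) Groth.L06.Dim.nonneg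
  tfae_have 3 → 1 := hdisc
  tfae_have 4 → 3 := fun hf => JacobsonSpace.discreteTopology (Set.toFinite _)
  tfae_have 3 → 4 := fun _ => finite_of_compact_of_discrete
  tfae_have 1 → 3 := fun h => by
    haveI := Groth.L22.DimZero.isArtinianScheme_of_dim_le_zero k f h.le
    exact IsLocallyArtinian.discreteTopology
  tfae_have 3 → 2 := fun hd => by
    haveI := Groth.L22.DimZero.isArtinianScheme_of_dim_le_zero k f (hdisc hd).le
    obtain ⟨ha, hfin⟩ := Groth.L22.DimZero.isFinite_of_isArtinian k f
    haveI := hfin
    refine ⟨ha, Scheme.Hom.finite_appTop f, fun s t h => ?_, fun v => ?_⟩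
    · exact TopCat.Presheaf.section_ext X.sheaf ⊤ s t fun x _ => congrFun h x
    · have hs : ∀ x : X, ∃ s : Γ(X, (⟨{x}, isOpen_discrete _⟩ : X.Opens)),
          X.presheaf.germ _ x rfl s = v x := fun x => by
        obtain ⟨W, hW, s, hs⟩ := TopCat.Presheaf.exists_germ_eq _ (v x)
        exact ⟨X.presheaf.map (homOfLE (show (⟨{x}, isOpen_discrete _⟩ : X.Opens) ≤ W from
          fun y hy => (Set.mem_singleton_iff.1 hy) ▸ hW)).op s,
          by rw [TopCat.Presheaf.germ_res_apply, hs]⟩
      choose s hs using hs
      obtain ⟨g, hg, -⟩ := X.sheaf.existsUnique_gluing'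
        (fun x : X => (⟨{x}, isOpen_discrete _⟩ : X.Opens)) ⊤ (fun x => homOfLE le_top)
        (fun x _ => TopologicalSpace.Opens.mem_iSup.2 ⟨x, rfl⟩) s (fun x y => by
          refine TopCat.Presheaf.section_ext X.sheaf _ _ _ fun z hz => ?_
          obtain ⟨h1, h2⟩ := hz
          have e1 : z = x := h1
          have e2 : z = y := h2
          subst e1; subst e2
          rfl)
      refine ⟨g, funext fun x => ?_⟩
      rw [← hs x, ← hg x]
      exact (TopCat.Presheaf.germ_res_apply X.presheaf (homOfLE le_top) x rfl g).symm
  tfae_have 2 → 3 := fun h => by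
    obtain ⟨ha, hfin, -⟩ := h
    haveI := ha
    letI := f.appTop.hom.toAlgebra
    haveI : Module.Finite Γ(Spec (CommRingCat.of k), ⊤) Γ(X, ⊤) := hfin
    haveI : IsArtinianRing Γ(Spec (CommRingCat.of k), ⊤) :=
      (Scheme.ΓSpecIso (CommRingCat.of k)).commRingCatIsoToRingEquiv.symm.surjective.isArtinianRing
    haveI : IsArtinianRing Γ(X, ⊤) := IsArtinianRing.of_finite Γ(Spec (CommRingCat.of k), ⊤) _
    haveI : DiscreteTopology ↥(Spec Γ(X, ⊤)) :=
      inferInstanceAs (DiscreteTopology (PrimeSpectrum Γ(X, ⊤)))
    exact X.isoSpec.hom.homeomorph.symm.discreteTopology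
  tfae_finish

end Groth.Agent.S10832
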