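
import Groth.Statements.S10833
import Groth.Agent.L22.AffineDim

set_option autoImplicit false
universe u
open Variety

namespace Groth.Agent.S10833

/-- Let k be a field and A a k-algebra of finite type that is an integral domain. Then every chain of
prime ideals of A admitting no refinement — it starts at the zero ideal, ends at a maximal ideal,
and no prime ideal lies strictly between two consecutive members — has length equal to the Krull
dimension of A. -/
theorem result (k A : Type u) [Field k] [CommRing A]
    [IsDomain A] [Algebra k A] [Algebra.FiniteType k A] (c : LTSeries (PrimeSpectrum A))
    (h0 : c.head.asIdeal = ⊥) (hmax : c.last.asIdeal.IsMaximal)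
    (hsat : ∀ i : Fin c.length, c i.castSucc ⋖ c i.succ) :
    (c.length : WithBot ℕ∞) = ringKrullDim A := by
  exact Groth.L22.AffineDim.length_eq_ringKrullDim k c.length A c.toFun h0 hmax hsat

end Groth.Agent.S10833
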