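import Groth.Statements.S10834
import Groth.Agent.S0601
import Groth.Agent.L06.NormalAscent
import Groth.Agent.L07.SyntCM
import Groth.Agent.L04.CMLoc

set_option autoImplicit false
universe u
open CAlg

namespace Groth.Agent.S10834

lemma isCM_atPrime_hypersurface {A : Type u} [CommRing A] [IsNoetherianRing A]
    (hreg : ∀ (p : Ideal A) (_ : p.IsPrime), IsRegularLocalRing (Localization.AtPrime p)) (f : A)
    (p : Ideal (A ⧸ Ideal.span ({f} : Set A))) [p.IsPrime] :
    LocCoh.IsCohenMacaulayLocalRing (Localization.AtPrime p) := by
  classical
  let I : Ideal A := Ideal.span {f}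
  let P : Ideal A := p.comap (Ideal.Quotient.mk I)
  haveI : P.IsPrime := Ideal.IsPrime.comap _
  haveI := hreg P inferInstance
  have hM : Algebra.algebraMapSubmonoid (A ⧸ I) P.primeCompl = p.primeCompl := by
    ext x
    constructor
    · rintro ⟨a, ha, rfl⟩
      exact ha
    · intro hx
      obtain ⟨a, rfl⟩ := Ideal.Quotient.mk_surjective x
      exact ⟨a, hx, rfl⟩
  haveI : IsLocalization p.primeCompl (Localization.AtPrime P ⧸ I.map (algebraMap A (Localization.AtPrime P))) :=
    hM ▸ (inferInstance : IsLocalization (Algebra.algebraMapSubmonoid (A ⧸ I) P.primeCompl)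
      (Localization.AtPrime P ⧸ I.map (algebraMap A (Localization.AtPrime P))))
  let f' := algebraMap A (Localization.AtPrime P) f
  have hmap : I.map (algebraMap A (Localization.AtPrime P)) = Ideal.span {f'} := by
    rw [Ideal.map_span, Set.image_singleton]
  let e : (Localization.AtPrime P ⧸ Ideal.span {f'}) ≃+* Localization.AtPrime p :=
    (Ideal.quotEquivOfEq hmap.symm).trans (IsLocalization.algEquiv p.primeCompl _ _).toRingEquiv
  refine Groth.L07.Synt.isCM_ringEquiv e ?_
  haveI : Nontrivial (Localization.AtPrime P ⧸ Ideal.span {f'}) := e.toEquiv.nontrivial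
  haveI := Groth.L01.isDomain_of_regular (Localization.AtPrime P)
  by_cases hf0 : f' = 0
  · exact Groth.L07.Synt.isCM_ringEquiv
      ((RingEquiv.quotientBot _).symm.trans (Ideal.quotEquivOfEq (by rw [hf0, Ideal.span_singleton_eq_bot.mpr rfl])))
      (Groth.L04.isCohenMacaulayLocalRing_of_regular _)
  · have hseq : RingTheory.Sequence.IsRegular (Localization.AtPrime P) [f'] := by
      refine ⟨(RingTheory.Sequence.isWeaklyRegular_singleton_iff _ _).mpr
        (isSMulRegular_iff_right_eq_zero_of_smul.mpr fun c hc => (mul_eq_zero.mp hc).resolve_left hf0), ?_⟩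
      rw [Ideal.ofList_singleton, smul_eq_mul, Ideal.mul_top]
      exact fun h => Ideal.Quotient.nontrivial_iff.mp inferInstance h.symm
    exact Groth.L07.Synt.isCM_ringEquiv (Ideal.quotEquivOfEq (Ideal.ofList_singleton f'))
      (Groth.L07.Synt.isCM_quotient_regular _ hseq)



/-- Let A be a Noetherian ring whose localizations at all prime ideals are regular local rings, and f an
element of A generating a prime ideal, so that A/(f) is an integral domain (an integral hypersurface
in the regular affine scheme Spec A). Then A/(f) is normal (integrally closed in its fraction field)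
if and only if it is regular in codimension 1, i.e. its localization at every prime at which the
local ring has dimension 1 is a regular local ring. -/
theorem result (A : Type u) [CommRing A]
    [IsNoetherianRing A] (hreg : ∀ (p : Ideal A) (_ : p.IsPrime), IsRegularLocalRing (Localization.AtPrime p))
    (f : A) (hf : (Ideal.span ({f} : Set A)).IsPrime) :
    IsIntegrallyClosed (A ⧸ Ideal.span ({f} : Set A)) ↔
      ∀ q : PrimeSpectrum (A ⧸ Ideal.span ({f} : Set A)),
        ringKrullDim (Localization.AtPrime q.asIdeal) = 1 →
          IsRegularLocalRing (Localization.AtPrime q.asIdeal) := by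
  classical
  haveI := hf
  constructor
  · intro hB q hq
    haveI := isIntegrallyClosed_of_isLocalization (Localization.AtPrime q.asIdeal) q.asIdeal.primeCompl
      q.asIdeal.primeCompl_le_nonZeroDivisors
    exact Groth.L06.NormalAscent.regular_of_normal_dim_le_one hq.le
  · intro hR1
    have h := (Groth.Agent.S0601.result (A ⧸ Ideal.span ({f} : Set A))).mpr ⟨fun p _ hp => ?_, fun p _ => ?_⟩
    · exact IsIntegrallyClosed.of_localization_maximal fun p _ hmax => (h p).2
    · have hdim := IsLocalization.AtPrime.ringKrullDim_eq_height p (Localization.AtPrime p)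
      rcases eq_or_lt_of_le hp with h1 | h1
      · exact hR1 ⟨p, inferInstance⟩ (by rw [hdim, h1]; rfl)
      · have h0 : p.height = 0 := ENat.lt_one_iff_eq_zero.mp (by exact_mod_cast h1)
        haveI : Ring.KrullDimLE 0 (Localization.AtPrime p) := Ring.krullDimLE_iff.mpr (by rw [hdim, h0]; rfl)
        have hF : IsField (Localization.AtPrime p) := Ring.KrullDimLE.isField_of_isDomain
        letI := hF.toField
        infer_instance
    · haveI hcm := isCM_atPrime_hypersurface hreg f p
      obtain ⟨hd, hs⟩ := Groth.Agent.S0601.depth_supportDim_localized p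
      rw [hd, hs, ← hcm.supportDim_eq_depth, Module.supportDim_self_eq_ringKrullDim,
        IsLocalization.AtPrime.ringKrullDim_eq_height p (Localization.AtPrime p)]
      exact min_le_right _ _


end Groth.Agent.S10834
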