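import Groth.Statements.S10835
import Groth.Agent.L22.Birat.Spread
import Groth.Agent.L22.Birat.Primitive
import Groth.Agent.L07.FieldStalk
import Groth.Agent.L07.SyntOverField
-- import your own Groth.Agent.* helpers here

set_option autoImplicit false
universe u
open CategoryTheory AlgebraicGeometry
attribute [local instance] Curv2.stalkAlgebra
open Variety

namespace Groth.Agent.S10835

/-- Let k be a field and X an integral scheme of finite type over k whose function field admits a
transcendence basis s_1, …, s_d over k over which it is separable algebraic (this holds whenever the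
function field is a separable extension of k in the sense of field theory, e.g. for k perfect, and
then d = dim X). Then some nonempty open subscheme of X is isomorphic, over k, to a nonempty open
subscheme of Spec k[T_1, …, T_d][T]/(g) for a monic polynomial g over k[T_1, …, T_d] which is
irreducible and separable over the fraction field k(T_1, …, T_d). -/
theorem result (k : Type u) [Field k]
    (X : Scheme.{u}) [X.Over (Spec (CommRingCat.of k))] [IsIntegral X]
    [LocallyOfFiniteType (X ↘ Spec (CommRingCat.of k))] [QuasiCompact (X ↘ Spec (CommRingCat.of k))]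
    (d : ℕ) (s : Fin d → X.presheaf.stalk (genericPoint X)) (hs : IsTranscendenceBasis k s)
    (hsep : Algebra.IsSeparable ↥(IntermediateField.adjoin k (Set.range s)) (X.presheaf.stalk (genericPoint X))) :
    ∃ (g : Polynomial (MvPolynomial (Fin d) k)), g.Monic ∧
      Irreducible (g.map (algebraMap (MvPolynomial (Fin d) k) (FractionRing (MvPolynomial (Fin d) k)))) ∧
      (g.map (algebraMap (MvPolynomial (Fin d) k) (FractionRing (MvPolynomial (Fin d) k)))).Separable ∧
      ∃ (U : X.Opens) (V : (Spec (CommRingCat.of (AdjoinRoot g))).Opens) (e : (U : Scheme.{u}) ≅ (V : Scheme.{u})),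
        (U : Set X).Nonempty ∧ (V : Set (Spec (CommRingCat.of (AdjoinRoot g)))).Nonempty ∧
        e.hom ≫ V.ι ≫ Spec.map (CommRingCat.ofHom (algebraMap k (AdjoinRoot g))) =
          U.ι ≫ (X ↘ Spec (CommRingCat.of k)) := by
  classical
  let η := genericPoint X
  let L := X.functionField
  letI akL : Algebra k L := Curv2.stalkAlgebra k X η
  haveI : Algebra.EssFiniteType k L := by
    have e : (Groth.L07.SyntOverField.toStalk (X ↘ Spec (CommRingCat.of k)) η).hom = Curv2.stalkMap k X η := by
      rw [Groth.L07.SyntOverField.toStalk_eq _ η ⊤ trivial]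
      simp only [Scheme.Hom.appLE, Category.assoc, TopCat.Presheaf.germ_res]
      rfl
    have h := Groth.L07.SyntOverField.essFiniteType_stalk (X ↘ Spec (CommRingCat.of k)) η
    rw [e] at h
    exact h
  obtain ⟨g, hgm, hgi, hgs, hdom, φ, hφ⟩ := Groth.L22.Birat.exists_hypersurface k L d s hs hsep
  refine ⟨g, hgm, hgi, hgs, ?_⟩
  haveI := hdom
  let R := CommRingCat.of (AdjoinRoot g)
  haveI : IsDomain R := hdom
  letI aRL : Algebra R L := φ.toRingHom.toAlgebra
  haveI : IsFractionRing R L := hφ
  haveI : AlgebraicGeometry.IsIntegral (Spec R) := inferInstance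
  letI : Algebra R (Spec R).functionField := (StructureSheaf.toStalk R (genericPoint (Spec R))).hom.toAlgebra
  haveI : IsFractionRing R (Spec R).functionField := functionField_isFractionRing_of_affine R
  let eA : L ≃ₐ[R] (Spec R).functionField := IsLocalization.algEquiv (nonZeroDivisors R) _ _
  let e : L ≅ (Spec R).functionField := eA.toRingEquiv.toCommRingCatIso
  let sY : Spec R ⟶ Spec (CommRingCat.of k) := Spec.map (CommRingCat.ofHom (algebraMap k (AdjoinRoot g)))
  haveI : LocallyOfFiniteType sY := by
    haveI : Module.Finite (MvPolynomial (Fin d) k) (AdjoinRoot g) := hgm.finite_adjoinRoot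
    haveI : Algebra.FiniteType (MvPolynomial (Fin d) k) (AdjoinRoot g) := inferInstance
    haveI : Algebra.FiniteType k (AdjoinRoot g) := Algebra.FiniteType.trans (S := MvPolynomial (Fin d) k) inferInstance inferInstance
    rw [HasRingHomProperty.Spec_iff (P := @LocallyOfFiniteType)]
    exact RingHom.finiteType_algebraMap.2 inferInstance
  have hc : ∀ c : k, e.inv.hom (StructureSheaf.toStalk R (genericPoint (Spec R)) (algebraMap k (AdjoinRoot g) c)) =
      Curv2.stalkMap k X η c := fun c => by
    show eA.symm (algebraMap R (Spec R).functionField (algebraMap k (AdjoinRoot g) c)) = _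
    rw [AlgEquiv.commutes]
    exact φ.commutes c
  have h : Spec.map e.inv ≫ (Spec R).fromSpecStalk (genericPoint (Spec R)) ≫ sY =
      X.fromSpecStalk η ≫ (X ↘ Spec (CommRingCat.of k)) := by
    rw [← Groth.L07.FieldStalk.SpecMap_stalkMap, Spec.fromSpecStalk_eq']
    refine ((congrArg (Spec.map e.inv ≫ ·) (Spec.map_comp _ _).symm).trans (Spec.map_comp _ _).symm).trans ?_
    congr 1
    ext c
    exact hc c
  obtain ⟨U, V, i, hU, hV, hi⟩ := Groth.L22.Birat.exists_iso_opens (X ↘ Spec (CommRingCat.of k)) sY e h
  exact ⟨U, V, i, ⟨_, hU⟩, ⟨_, hV⟩, hi⟩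


end Groth.Agent.S10835
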