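import Groth.Statements.S10836
import Mathlib.RingTheory.Localization.Free
import Mathlib.RingTheory.LocalRing.Module
import Mathlib.RingTheory.Spectrum.Prime.FreeLocus

set_option autoImplicit false
set_option linter.style.haveILetI false
universe u
open Coh

namespace Groth.Agent.S10836

/-- Let A be a commutative ring, M a finitely generated projective A-module whose rank at every prime is
r, and Z a finite set of prime ideals of A. Then there is an element s of A outside every prime of Z
such that the localized module M_s has a basis of r elements over A_s. (The published statement is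
for a finite locally free module of constant rank r on a scheme and a finite set of points inside an
affine open Spec A, and produces a basic open D(s) containing the points on which the module is free
of rank r; its argument begins by replacing the scheme with Spec A, and this row states that case.) -/
theorem result (A : Type u) [CommRing A]
    (M : Type u) [AddCommGroup M] [Module A M] [Module.Finite A M] [Module.Projective A M] (r : ℕ)
    (hr : ∀ p : PrimeSpectrum A, Module.rankAtStalk M p = r)
    (Z : Set (PrimeSpectrum A)) (hZ : Z.Finite) :
    ∃ s : A, (∀ p ∈ Z, s ∉ p.asIdeal) ∧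
      Nonempty (Module.Basis (Fin r) (Localization.Away s) (LocalizedModule (Submonoid.powers s) M)) := by
  classical
  haveI : Module.FinitePresentation A M := Module.finitePresentation_of_projective _ _
  let S : Submonoid A := ⨅ p ∈ Z, p.asIdeal.primeCompl
  have hS : ∀ a, a ∈ S ↔ ∀ p ∈ Z, a ∉ p.asIdeal := fun a => by
    simp only [S, Submonoid.mem_iInf]; rfl
  let B := Localization S
  have hfin : Finite (MaximalSpectrum B) := by
    rcases subsingleton_or_nontrivial B with hB | hB
    · haveI : IsEmpty (MaximalSpectrum B) := ⟨fun m => m.isMaximal.ne_top (Subsingleton.elim _ _)⟩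
      infer_instance
    have key : ∀ m : MaximalSpectrum B, ∃ p ∈ Z, p.asIdeal = m.asIdeal.comap (algebraMap A B) := by
      intro m
      haveI := m.isMaximal
      let P := m.asIdeal.comap (algebraMap A B)
      have hdis : Disjoint (S : Set A) (P : Set A) :=
        ((IsLocalization.isPrime_iff_isPrime_disjoint S B m.asIdeal).1 m.isMaximal.isPrime).2
      have hsub : (P : Set A) ⊆ ⋃ q ∈ (↑hZ.toFinset : Set (PrimeSpectrum A)), (q.asIdeal : Set A) := by
        intro a ha
        by_contra hc
        refine Set.disjoint_left.1 hdis ((hS a).2 fun q hq hqa => hc ?_) ha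
        exact Set.mem_biUnion (by simpa using hq) hqa
      obtain ⟨q0, -, -⟩ := Set.mem_iUnion₂.1 (hsub P.zero_mem)
      obtain ⟨q, hq, hPq⟩ := (Ideal.subset_union_prime (s := hZ.toFinset) (f := fun q => q.asIdeal)
        q0 q0 fun q _ _ _ => q.2).1 hsub
      have hqd : Disjoint (S : Set A) (q.asIdeal : Set A) :=
        Set.disjoint_left.2 fun a ha => (hS a).1 ha q (hZ.mem_toFinset.1 hq)
      refine ⟨q, hZ.mem_toFinset.1 hq, ?_⟩
      have hp' := IsLocalization.isPrime_of_isPrime_disjoint S B q.asIdeal q.2 hqd
      have hle : m.asIdeal ≤ q.asIdeal.map (algebraMap A B) := by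
        rw [← IsLocalization.map_comap S B m.asIdeal]; exact Ideal.map_mono hPq
      rw [m.isMaximal.eq_of_le hp'.ne_top hle]
      exact (IsLocalization.under_map_of_isPrime_disjoint S B q.2 hqd).symm
    haveI := hZ.to_subtype
    choose q hqZ hq using key
    refine Finite.of_injective (fun m => (⟨q m, hqZ m⟩ : Z)) fun a b h => ?_
    have : a.asIdeal.comap (algebraMap A B) = b.asIdeal.comap (algebraMap A B) := by
      rw [← hq a, ← hq b, show q a = q b from congrArg Subtype.val h]
    ext1
    exact (IsLocalization.map_comap S B a.asIdeal).symm.trans
      ((congrArg (Ideal.map (algebraMap A B)) this).trans (IsLocalization.map_comap S B b.asIdeal))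
  let f := TensorProduct.mk A B M 1
  haveI : IsLocalizedModule S f := inferInstance
  obtain ⟨b⟩ := Module.nonempty_basis_of_flat_of_finrank_eq B (TensorProduct A B M) r fun P => by
    haveI := P.isMaximal
    let := Ideal.Quotient.field P.asIdeal
    have h := Module.rankAtStalk_baseChange (R := B) (M := TensorProduct A B M) (S := B ⧸ P.asIdeal) ⟨⊥, Ideal.isPrime_bot⟩
    rw [Module.rankAtStalk_eq_finrank_of_free, Module.rankAtStalk_baseChange, hr] at h
    simpa using h
  obtain ⟨s, hs, b', -⟩ := Module.FinitePresentation.exists_basis_localizedModule_powers S f B b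
  exact ⟨s, (hS s).1 hs, ⟨b'⟩⟩

end Groth.Agent.S10836
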