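
import Groth.Statements.S10839
import Groth.Agent.L22.TopDim
import Mathlib.AlgebraicGeometry.Morphisms.ClosedImmersion

set_option autoImplicit false
universe u
open CategoryTheory AlgebraicGeometry Topology
open Variety

namespace Groth.Agent.S10839

/-- A closed immersion i : Y → X into an integral scheme X with dim X = dim Y < ∞ is an isomorphism. -/
theorem result {X Y : Scheme.{u}} (i : Y ⟶ X)
    [IsClosedImmersion i] [IsIntegral X] (hfin : topologicalKrullDim ↥X ≠ ⊤)
    (hdim : topologicalKrullDim ↥X = topologicalKrullDim ↥Y) : IsIso i := by
  have hsurj : Function.Surjective i.base := by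
    by_contra hns
    have hr : Set.range i.base ≠ Set.univ := fun h => hns (Set.range_eq_univ.1 h)
    refine Groth.L22.topologicalKrullDim_subspace_ne i.isClosedEmbedding.isClosed_range hr hfin ?_
    rw [hdim]
    exact (i.isClosedEmbedding.isEmbedding.toHomeomorph.isHomeomorph.topologicalKrullDim_eq _).symm
  haveI : Surjective i := ⟨hsurj⟩
  exact isIso_of_isClosedImmersion_of_surjective i

end Groth.Agent.S10839
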