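
import Groth.Statements.S10840
import Groth.Agent.L22.ProjInter

set_option autoImplicit false
universe u
open AlgebraicGeometry Topology
open Variety

namespace Groth.Agent.S10840

theorem exists_prime_factor_mem {R : Type*} [CommRing R] [IsDomain R] [UniqueFactorizationMonoid R]
    {P : Ideal R} (hP : P.IsPrime) {g : R} (hg : g ≠ 0) (hgP : g ∈ P) :
    ∃ h, Irreducible h ∧ h ∣ g ∧ h ∈ P := by
  obtain ⟨u, hu⟩ := UniqueFactorizationMonoid.factors_prod hg
  have hprod : (UniqueFactorizationMonoid.factors g).prod ∈ P := by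
    have : (UniqueFactorizationMonoid.factors g).prod * u ∈ P := by rw [hu]; exact hgP
    exact (hP.mul_mem_iff_mem_or_mem.1 this).resolve_right
      fun h => hP.ne_top (Ideal.eq_top_of_isUnit_mem _ h u.isUnit)
  obtain ⟨h, hmem, hhP⟩ := hP.multiset_prod_mem_iff_exists_mem _ |>.1 hprod
  refine ⟨h, UniqueFactorizationMonoid.irreducible_of_factor h hmem, ?_, hhP⟩
  exact (Multiset.dvd_prod hmem).trans ⟨u, hu.symm⟩

theorem one_le_of_pos : ∀ {D : WithBot ℕ∞}, 0 < D → ((1 : ℕ) : WithBot ℕ∞) ≤ D
  | ⊥, h => absurd h (by simp)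
  | (D : ℕ∞), h => by
    have h' : (0 : ℕ∞) < D := WithBot.coe_lt_coe.1 h
    exact WithBot.coe_le_coe.2 (Order.one_le_iff_pos.2 h')

/-- For a field k and nonzero homogeneous polynomials f, g of positive degrees in three variables, the
common zero set V_+(f, g) in the projective plane over k is zero-dimensional as a topological
subspace exactly when f and g are coprime, i.e. their only common divisors are the non-zero
constants. -/
theorem result (k : Type u) [Field k] (n m : ℕ)
    (f g : MvPolynomial (Fin 3) k) (hf : f.IsHomogeneous n) (hg : g.IsHomogeneous m)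
    (hn : 0 < n) (hm : 0 < m) (hf0 : f ≠ 0) (hg0 : g ≠ 0) :
    topologicalKrullDim ↥(ProjectiveSpectrum.zeroLocus (CohB1.polyGrading 2 k)
        ({f, g} : Set (MvPolynomial (Fin 3) k))) = 0 ↔ IsRelPrime f g := by
  have hhom : (Ideal.span ({f, g} : Set (MvPolynomial (Fin 3) k))).IsHomogeneous (CohB1.polyGrading 2 k) :=
    Ideal.homogeneous_span _ _ (by
      intro x hx
      rcases hx with hx | hx
      · exact ⟨n, (MvPolynomial.mem_homogeneousSubmodule _ _).2 (hx ▸ hf)⟩
      · exact ⟨m, (MvPolynomial.mem_homogeneousSubmodule _ _).2 (Set.mem_singleton_iff.1 hx ▸ hg)⟩)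
  have hVc := ProjectiveSpectrum.isClosed_zeroLocus (CohB1.polyGrading 2 k) ({f, g} : Set (MvPolynomial (Fin 3) k))
  constructor
  · intro hdim
    refine WfDvdMonoid.isRelPrime_of_no_irreducible_factors (fun h => hf0 h.1) fun h hirr hhf hhg => ?_
    haveI hhp : (Ideal.span {h}).IsPrime := (Ideal.span_singleton_prime hirr.ne_zero).2 hirr.prime
    have hle : Ideal.span ({f, g} : Set (MvPolynomial (Fin 3) k)) ≤ Ideal.span {h} := Ideal.span_le.2 (by
      intro x hx
      rcases hx with hx | hx
      · exact Ideal.mem_span_singleton.2 (hx ▸ hhf)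
      · exact Ideal.mem_span_singleton.2 (Set.mem_singleton_iff.1 hx ▸ hhg))
    obtain ⟨R, hR, hRh⟩ := Ideal.exists_minimalPrimes_le hle
    haveI := hR.1.1
    have hfR : f ∈ R := hR.1.2 (Ideal.subset_span (Or.inl rfl))
    have hRhom := Groth.L22.ProjDict.isHomogeneous_of_mem_minimalPrimes hhom hR
    have hmem : Ideal.span {h} ∈ ((⊥ : Ideal (MvPolynomial (Fin 3) k)) ⊔ Ideal.span {h}).minimalPrimes := by
      rw [bot_sup_eq, Ideal.minimalPrimes_eq_subsingleton_self]; exact Set.mem_singleton _
    have hdh := Groth.L22.ProjDict.dim_eq_of_mem_minimalPrimes (P := (⊥ : Ideal (MvPolynomial (Fin 3) k)))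
      (by simpa using hirr.ne_zero) hmem
    obtain ⟨a, -, -, -, ha, -⟩ := Groth.L22.AffineDim.exists_normalization k ((MvPolynomial (Fin 3) k) ⧸ Ideal.span {h})
    rw [Groth.L22.ProjDict.dim_bot, ha] at hdh
    have ha2 : a = 2 := by
      have : a + 1 = 2 + 1 := by exact_mod_cast hdh
      omega
    have hReq : R = Ideal.span {h} := hRh.eq_or_lt.resolve_right fun hlt => by
      have h1 := Groth.L22.ProjDict.dim_lt hlt
      have h2 := Groth.L22.ProjDict.dim_lt (P := (⊥ : Ideal (MvPolynomial (Fin 3) k)))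
        (bot_lt_iff_ne_bot.2 (fun e => hf0 (by simpa [e] using hfR)) : (⊥ : Ideal (MvPolynomial (Fin 3) k)) < R)
      obtain ⟨c, -, -, -, hc, -⟩ := Groth.L22.AffineDim.exists_normalization k ((MvPolynomial (Fin 3) k) ⧸ R)
      rw [hc, ha] at h1
      rw [hc, Groth.L22.ProjDict.dim_bot] at h2
      have h1' : a + 1 ≤ c := by exact_mod_cast h1
      have h2' : c + 1 ≤ 3 := by exact_mod_cast h2
      omega
    let x : Groth.L22.ProjDict.Pt k 2 := Groth.L22.ProjDict.mkPt R hR.1.1 hRhom
      (by rw [hReq, ha]; exact_mod_cast (show 1 ≤ a by omega))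
    obtain ⟨e, he, hed⟩ := Groth.L22.ProjDict.exists_dim_closure x
    have : a = e + 1 := by
      have h1 : ringKrullDim ((MvPolynomial (Fin 3) k) ⧸ R) = ((e + 1 : ℕ) : WithBot ℕ∞) := hed
      rw [hReq, ha] at h1
      exact_mod_cast h1
    have h2 := Groth.L22.ProjDict.dim_closure_mono hVc
      (show x ∈ _ from Groth.L22.ProjDict.mem_zeroLocus_iff.2 hR.1.2)
    rw [hdim, he] at h2
    have h3 : e ≤ 0 := by exact_mod_cast h2
    omega
  · intro hrel
    refine le_antisymm ?_ ?_
    · by_contra hne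
      push Not at hne
      have h1 : ((1 : ℕ) : WithBot ℕ∞) ≤ topologicalKrullDim
          (ProjectiveSpectrum.zeroLocus (CohB1.polyGrading 2 k) ({f, g} : Set (MvPolynomial (Fin 3) k))) :=
        one_le_of_pos hne
      obtain ⟨y, hy, hy1⟩ := Groth.L22.ProjDict.exists_mem_dim_le hVc h1
      obtain ⟨e, he, hed⟩ := Groth.L22.ProjDict.exists_dim_closure y
      have he1 : 1 ≤ e := by exact_mod_cast hy1.trans_eq he
      rw [Groth.L22.ProjDict.mem_zeroLocus_iff, Ideal.span_le, Set.insert_subset_iff,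
        Set.singleton_subset_iff] at hy
      obtain ⟨h, hirr, hhf, hhy⟩ := exists_prime_factor_mem y.isPrime hf0 hy.1
      haveI : (Ideal.span {h}).IsPrime := (Ideal.span_singleton_prime hirr.ne_zero).2 hirr.prime
      rcases ((Ideal.span_singleton_le_iff_mem _).2 hhy).eq_or_lt with heq | hlt
      · refine hirr.not_isUnit (hrel hhf ?_)
        rw [← Ideal.mem_span_singleton, heq]
        exact hy.2
      · have h2 := Groth.L22.ProjDict.dim_lt hlt
        have h3 := Groth.L22.ProjDict.dim_lt (P := (⊥ : Ideal (MvPolynomial (Fin 3) k)))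
          (bot_lt_iff_ne_bot.2 (by simpa using hirr.ne_zero) : (⊥ : Ideal (MvPolynomial (Fin 3) k)) < Ideal.span {h})
        obtain ⟨a, -, -, -, ha, -⟩ :=
          Groth.L22.AffineDim.exists_normalization k ((MvPolynomial (Fin 3) k) ⧸ Ideal.span {h})
        rw [hed, ha] at h2
        rw [Groth.L22.ProjDict.dim_bot, ha] at h3
        have h2' : e + 1 + 1 ≤ a := by exact_mod_cast h2
        have h3' : a + 1 ≤ 3 := by exact_mod_cast h3
        omega
    · have hne : Ideal.span ({f, g} : Set (MvPolynomial (Fin 3) k)) ≠ ⊤ :=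
        ne_top_of_le_ne_top (Groth.L22.ProjDict.vertex_isMaximal (k := k) (n := 2)).ne_top
          (Ideal.span_le.2 (by
            intro x hx
            rcases hx with hx | hx
            · exact hx ▸ Groth.L22.ProjDict.mem_vertex_of_isHomogeneous hf hn
            · exact Set.mem_singleton_iff.1 hx ▸ Groth.L22.ProjDict.mem_vertex_of_isHomogeneous hg hm))
      obtain ⟨R, hR⟩ := Ideal.nonempty_minimalPrimes hne
      haveI := hR.1.1
      have hR' : R ∈ ((⊥ : Ideal (MvPolynomial (Fin 3) k)) ⊔ Ideal.span (Set.range ![f, g])).minimalPrimes := by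
        rwa [bot_sup_eq, Matrix.range_cons, Matrix.range_cons, Matrix.range_empty, Set.union_empty,
          Set.singleton_union]
      have h1 := Groth.L22.ProjDict.dim_le_of_mem_minimalPrimes (P := (⊥ : Ideal (MvPolynomial (Fin 3) k))) ![f, g] hR'
      obtain ⟨c, -, -, -, hc, -⟩ := Groth.L22.AffineDim.exists_normalization k ((MvPolynomial (Fin 3) k) ⧸ R)
      rw [Groth.L22.ProjDict.dim_bot, hc] at h1
      have h1' : 3 ≤ c + 2 := by exact_mod_cast h1
      haveI : Nonempty (ProjectiveSpectrum.zeroLocus (CohB1.polyGrading 2 k) ({f, g} : Set (MvPolynomial (Fin 3) k))) :=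
        ⟨⟨Groth.L22.ProjDict.mkPt R hR.1.1
          (Groth.L22.ProjDict.isHomogeneous_of_mem_minimalPrimes hhom hR)
          (by rw [hc]; exact_mod_cast (show 1 ≤ c by omega)),
          Groth.L22.ProjDict.mem_zeroLocus_iff.2 hR.1.2⟩⟩
      exact Groth.L06.Dim.nonneg

end Groth.Agent.S10840
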