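
import Groth.Statements.S10841
import Groth.Agent.L22.SchemeDim

set_option autoImplicit false
universe u
open CategoryTheory AlgebraicGeometry Topology
open Variety

namespace Groth.Agent.S10841

/-- Let k be a field, X an irreducible scheme of finite type over k, and f : Y → X a morphism over k
from a scheme Y of finite type over k whose image contains the generic point of X. Then dim Y ≥ dim
X. -/
theorem result (k : Type u) [Field k] {X Y : Scheme.{u}}
    (p : X ⟶ Spec (CommRingCat.of k)) (q : Y ⟶ Spec (CommRingCat.of k))
    [LocallyOfFiniteType p] [QuasiCompact p] [LocallyOfFiniteType q] [QuasiCompact q]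
    [IrreducibleSpace ↥X] (f : Y ⟶ X) (hf : f ≫ p = q)
    (hη : genericPoint ↥X ∈ Set.range f.base) :
    topologicalKrullDim ↥X ≤ topologicalKrullDim ↥Y := by
  letI : X.Over (Spec (CommRingCat.of k)) := ⟨p⟩
  letI : Y.Over (Spec (CommRingCat.of k)) := ⟨q⟩
  haveI : LocallyOfFiniteType (X ↘ Spec (CommRingCat.of k)) := ‹LocallyOfFiniteType p›
  haveI : LocallyOfFiniteType (Y ↘ Spec (CommRingCat.of k)) := ‹LocallyOfFiniteType q›
  obtain ⟨y, hy⟩ := hη
  obtain ⟨n, hn, htrn, -⟩ := Groth.L22.SchemeDim.exists_dim_eq_trdeg k X
  obtain ⟨m, hm, htrm⟩ := Groth.L22.SchemeDim.exists_dim_closure_eq_trdeg k Y y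
  rw [hn]
  refine le_trans ?_ ((hm.symm.le).trans (topologicalKrullDim_subspace_le Y _))
  rw [← hy] at htrn
  letI : Algebra k (X.residueField (f y)) := Curv2.resAlgebra k X (f y)
  letI : Algebra k (Y.residueField y) := Curv2.resAlgebra k Y y
  letI : Algebra (X.residueField (f y)) (Y.residueField y) := (f.residueFieldMap y).hom.toAlgebra
  haveI : IsScalarTower k (X.residueField (f y)) (Y.residueField y) := by
    refine IsScalarTower.of_algebraMap_eq fun c => ?_
    change Y.residue y (Y.presheaf.germ ⊤ y trivial (Coh.toGlobal q c)) =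
      f.residueFieldMap y (X.residue (f y) (X.presheaf.germ ⊤ (f y) trivial (Coh.toGlobal p c)))
    change _ = f.residueFieldMap y (X.evaluation ⊤ (f y) trivial (Coh.toGlobal p c))
    rw [Scheme.evaluation_naturality_apply]
    subst hf
    rfl
  haveI : FaithfulSMul k (X.residueField (f y)) :=
    (faithfulSMul_iff_algebraMap_injective _ _).2 (algebraMap k (X.residueField (f y))).injective
  haveI : FaithfulSMul (X.residueField (f y)) (Y.residueField y) :=
    (faithfulSMul_iff_algebraMap_injective _ _).2
      (algebraMap (X.residueField (f y)) (Y.residueField y)).injective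
  have h := trdeg_add_eq k (X.residueField (f y)) (A := Y.residueField y)
  rw [htrm] at h
  have hle : Algebra.trdeg k (X.residueField (f y)) ≤ (m : Cardinal) := h ▸ self_le_add_right _ _
  have : n ≤ m := by
    rw [htrn] at hle
    exact_mod_cast hle
  exact_mod_cast this

end Groth.Agent.S10841
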