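
import Groth.Statements.S10842
import Mathlib.AlgebraicGeometry.AffineScheme
import Mathlib.RingTheory.Localization.LocalizationLocalization
import Mathlib.RingTheory.IntegralClosure.IntegrallyClosed

set_option autoImplicit false
universe u
open CategoryTheory AlgebraicGeometry
open Variety

namespace Groth.Agent.S10842

/-- A quasi-compact scheme whose local rings at all closed points are integrally closed domains is
normal, i.e. all of its local rings are integrally closed domains. -/
theorem result (X : Scheme.{u}) [CompactSpace ↥X]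
    (h : ∀ x : X, IsClosed ({x} : Set X) →
      IsDomain (X.presheaf.stalk x) ∧ IsIntegrallyClosed (X.presheaf.stalk x)) :
    Pi1.IsNormalScheme X := by
  intro x
  obtain ⟨y, hy, hyc⟩ := (isClosed_closure (s := ({x} : Set X))).exists_closed_singleton
    ⟨x, subset_closure rfl⟩
  have hxy : x ⤳ y := specializes_iff_mem_closure.2 hy
  obtain ⟨_, ⟨U, hU, rfl⟩, hyU, -⟩ :=
    X.isBasis_affineOpens.exists_subset_of_mem_open (Set.mem_univ y) isOpen_univ
  have hxU : x ∈ U := hxy.mem_open U.2 hyU
  letI : Algebra Γ(X, U) (X.presheaf.stalk y) := TopCat.Presheaf.algebra_section_stalk X.presheaf ⟨y, hyU⟩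
  letI : Algebra Γ(X, U) (X.presheaf.stalk x) := TopCat.Presheaf.algebra_section_stalk X.presheaf ⟨x, hxU⟩
  haveI := hU.isLocalization_stalk ⟨y, hyU⟩
  haveI := hU.isLocalization_stalk ⟨x, hxU⟩
  letI : Algebra (X.presheaf.stalk y) (X.presheaf.stalk x) :=
    (X.presheaf.stalkSpecializes hxy).hom.toAlgebra
  haveI : IsScalarTower Γ(X, U) (X.presheaf.stalk y) (X.presheaf.stalk x) :=
    IsScalarTower.of_algebraMap_eq fun s =>
      (TopCat.Presheaf.germ_stalkSpecializes_apply X.presheaf hyU hxy s).symm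
  have hle : (hU.primeIdealOf ⟨y, hyU⟩).asIdeal.primeCompl ≤
      (hU.primeIdealOf ⟨x, hxU⟩).asIdeal.primeCompl := by
    intro s hs
    have h1 : IsUnit (algebraMap Γ(X, U) (X.presheaf.stalk y) s) :=
      IsLocalization.map_units (X.presheaf.stalk y) ⟨s, hs⟩
    have h2 := h1.map (algebraMap (X.presheaf.stalk y) (X.presheaf.stalk x))
    rw [← IsScalarTower.algebraMap_apply] at h2
    intro hmem
    exact (IsLocalization.AtPrime.isUnit_to_map_iff (X.presheaf.stalk x)
      (hU.primeIdealOf ⟨x, hxU⟩).asIdeal s).1 h2 hmem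
  obtain ⟨hd, hn⟩ := h y hyc
  set M := Submonoid.map (algebraMap Γ(X, U) (X.presheaf.stalk y)).toMonoidHom
    (hU.primeIdealOf ⟨x, hxU⟩).asIdeal.primeCompl
  haveI : IsLocalization M (X.presheaf.stalk x) :=
    IsLocalization.isLocalization_of_submonoid_le _ _
      (hU.primeIdealOf ⟨y, hyU⟩).asIdeal.primeCompl _ hle
  have hM : M ≤ nonZeroDivisors (X.presheaf.stalk y) := by
    rintro _ ⟨s, hs, rfl⟩
    refine mem_nonZeroDivisors_of_ne_zero fun h0 => ?_
    have h1 : IsUnit (algebraMap Γ(X, U) (X.presheaf.stalk x) s) :=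
      IsLocalization.map_units (X.presheaf.stalk x)
        (⟨s, hs⟩ : (hU.primeIdealOf ⟨x, hxU⟩).asIdeal.primeCompl)
    rw [IsScalarTower.algebraMap_apply Γ(X, U) (X.presheaf.stalk y) (X.presheaf.stalk x)] at h1
    change algebraMap Γ(X, U) (X.presheaf.stalk y) s = 0 at h0
    rw [h0, map_zero] at h1
    exact not_isUnit_zero h1
  exact ⟨IsLocalization.isDomain_of_le_nonZeroDivisors _ hM,
    isIntegrallyClosed_of_isLocalization _ M hM⟩

end Groth.Agent.S10842
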