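import Groth.Statements.S10844
import Groth.Agent.L21.Mod.Stalks
import Groth.Agent.L00.LocalData
import Groth.Agent.L16.Devissage
import Groth.Agent.L16.CohSupport
import Groth.Agent.L19.SupportPullback
-- import your own Groth.Agent.* helpers here

set_option autoImplicit false
universe u
open RepF

open AlgebraicGeometry CategoryTheory CategoryTheory.Limits

namespace Groth.Agent.S10844

open AlgebraicGeometry CategoryTheory in
/-- For a scheme S and a homomorphism v : E → F of quasi-coherent O_S-modules with F of finite type,
there is an open subscheme U of S such that a morphism of schemes f : T → S factors through U (its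
image lies in U) if and only if the pulled-back homomorphism f^*v : f^*E → f^*F is an epimorphism. -/
theorem result {S : Scheme.{u}} {E F : S.Modules}
    [Coh.IsQCoh E] [Coh.IsQCoh F] (hF : CohB1.IsFT F) (v : E ⟶ F) :
    ∃ U : S.Opens, ∀ (T : Scheme.{u}) (f : T ⟶ S),
      Set.range f.base ⊆ (U : Set S) ↔ Epi ((Scheme.Modules.pullback f).map v) := by
  haveI : Coh.IsQCoh (cokernel v) := Groth.L16.Devissage.isQCoh_cokernel v
  have hQ : CohB1.IsFT (cokernel v) := Groth.L00.Local.isFT_of_generators _ fun x => by
    obtain ⟨W, σ, hx, hσ⟩ := Groth.L00.Local.exists_generators_of_isFT F hF x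
    haveI : PreservesColimitsOfSize.{u, u} (Scheme.Modules.restrictFunctor W.ι) :=
      (Scheme.Modules.restrictAdjunction W.ι).leftAdjoint_preservesColimits
    haveI : (Scheme.Modules.restrictFunctor W.ι).IsLeftAdjoint :=
      (Scheme.Modules.restrictAdjunction W.ι).isLeftAdjoint
    haveI : Epi ((Scheme.Modules.restrictFunctor W.ι).map (cokernel.π v)) :=
      (Scheme.Modules.restrictFunctor W.ι).map_epi _
    exact ⟨W, @SheafOfModules.GeneratingSections.ofEpi _ _ _ _ _ _ (F.restrict W.ι) ((cokernel v).restrict W.ι) σ ((Scheme.Modules.restrictFunctor W.ι).map (cokernel.π v)) this, hx, hσ⟩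
  refine ⟨⟨(CohB1.support (cokernel v))ᶜ, (Groth.L16.CohSupport.isClosed_support _ hQ).isOpen_compl⟩,
    fun T f => ?_⟩
  haveI : PreservesColimitsOfSize.{0, 0} (Scheme.Modules.pullback f) :=
    (Scheme.Modules.pullbackPushforwardAdjunction f).leftAdjoint_preservesColimits
  haveI : (Scheme.Modules.pullback f).IsLeftAdjoint :=
    (Scheme.Modules.pullbackPushforwardAdjunction f).isLeftAdjoint
  let e := PreservesCokernel.iso (Scheme.Modules.pullback f) v
  have hz : Epi ((Scheme.Modules.pullback f).map v) ↔
      IsZero ((Scheme.Modules.pullback f).obj (cokernel v)) :=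
    ⟨fun _ => IsZero.of_iso (isZero_cokernel_of_epi _) e,
      fun h => Preadditive.epi_of_isZero_cokernel _ (IsZero.of_iso h e.symm)⟩
  rw [hz, Groth.L21.Mod.isZero_iff_support_eq_empty, Groth.L19.SupportPullback.support_pullback f _ hQ,
    Set.preimage_eq_empty_iff]
  exact Set.subset_compl_iff_disjoint_right.trans disjoint_comm

end Groth.Agent.S10844
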