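import Groth.Statements.S10845
import Groth.Agent.L02.Quot.ZeroHom
import Groth.Agent.L18.Grass.MapEpi

set_option autoImplicit false
universe u
open RepF

set_option backward.isDefEq.respectTransparency false
set_option backward.isDefEq.respectTransparency.types false

namespace Groth.Agent.S10845

open CategoryTheory CategoryTheory.Limits AlgebraicGeometry TopologicalSpace
open Groth.L02.Quot.ZeroHom

variable {T : Scheme.{u}}

/-- The zero locus of a morphism into a finite locally free module. -/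
theorem exists_zeroLocus' {M G : T.Modules} [Coh.IsQCoh M] (hG : FlatMod.IsFinLocFree G) (a : M ⟶ G) :
    ∃ (W : Scheme.{u}) (c : W ⟶ T), IsClosedImmersion c ∧ ∀ {U : Scheme.{u}} (g : U ⟶ T),
      (Scheme.Modules.pullback g).map a = 0 ↔ ∃ h, h ≫ c = g := by
  let κ := {V : T.Opens // IsAffineOpen V ∧ ∃ r, Nonempty (G.restrict (Scheme.Opens.ι (X := T) V) ≅ FlatMod.freeMod (↑V) r)}
  have hV : ∀ x : (Over.mk (𝟙 T)).left, ∃ i : κ, x ∈ i.1 := by
    intro x
    obtain ⟨U', r, hx, ⟨e⟩⟩ := hG x
    obtain ⟨_, ⟨V, hV, rfl⟩, hxV, hVU⟩ :=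
      T.isBasis_affineOpens.exists_subset_of_mem_open (show (x : T) ∈ U' from hx) U'.2
    obtain ⟨b⟩ := Groth.L20.DescLocus.nonempty_free_pullback e (T.homOfLE hVU) (T.homOfLE_ι _)
    exact ⟨⟨V, hV, r, ⟨(Scheme.Modules.restrictFunctorIsoPullback (Scheme.Opens.ι (X := T) V)).app G ≪≫ b⟩⟩, hxV⟩
  obtain ⟨W, i, hi, hW⟩ := Groth.L11.Magnet.exists_closed_of_openCover (S := T) (X := Over.mk (𝟙 T))
    (fun i : κ => (i.1 : T.Opens)) hV (fun U x => (Scheme.Modules.pullback x.left).map a = 0)
    (fun k x h => by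
      show (Scheme.Modules.pullback (k.left ≫ x.left)).map a = 0
      rw [map_comp_eq_zero_iff, h, Functor.map_zero])
    (fun T' k hf _ hk x h => by
      haveI := hf
      exact eq_zero_of_flat_cover (fun i => (k i).left) hk _ fun i => (map_comp_eq_zero_iff _ _ a).1 (h i))
    (fun ⟨V, hV, r, ⟨e⟩⟩ => by
      haveI : IsAffine (Scheme.Opens.toScheme (X := T) V) := hV
      let eG := ((Scheme.Modules.restrictFunctorIsoPullback (Scheme.Opens.ι (X := T) V)).app G).symm ≪≫ e
      let a' := (Scheme.Modules.pullback (Scheme.Opens.ι (X := T) V)).map a ≫ eG.hom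
      haveI : Coh.IsQCoh ((Scheme.Modules.pullback (Scheme.Opens.ι (X := T) V)).obj M) :=
        Groth.L16.AffineBC.isQCoh_pullback _ M
      obtain ⟨Z, iZ, hiZ, hI⟩ := Groth.L18.MapEpi.exists_zeroLocus a'
      haveI := hiZ
      refine ⟨Over.mk (iZ ≫ (Scheme.Opens.ι (X := T) V) ≫ 𝟙 T), Over.homMk iZ rfl,
        inferInstanceAs (IsClosedImmersion iZ), fun U v => ?_⟩
      show (Scheme.Modules.pullback (v.left ≫ (Scheme.Opens.ι (X := T) V))).map a = 0 ↔ _
      rw [map_comp_eq_zero_iff]
      have hiff : (Scheme.Modules.pullback v.left).map ((Scheme.Modules.pullback (Scheme.Opens.ι (X := T) V)).map a) = 0 ↔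
          (Scheme.Modules.pullback v.left).map a' = 0 := by
        simp only [a', Functor.map_comp]
        exact ⟨fun h => by rw [h, zero_comp],
          fun h => (cancel_mono ((Scheme.Modules.pullback v.left).map eG.hom)).1 (by rw [h, zero_comp])⟩
      rw [hiff, hI]
      constructor
      · rintro ⟨h, hh⟩
        refine ⟨Over.homMk h ?_, Over.OverMorphism.ext hh⟩
        show h ≫ iZ ≫ (Scheme.Opens.ι (X := T) V) ≫ 𝟙 T = U.hom
        rw [← Category.assoc, hh]
        exact Over.w v
      · rintro ⟨w, hw⟩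
        exact ⟨w.left, congr($(hw).left)⟩)
  refine ⟨W.left, i.left, hi, fun {U} g => ?_⟩
  refine (hW (Over.mk g) (Over.homMk g (Category.comp_id g))).trans ⟨fun ⟨w, hw⟩ => ⟨w.left, congr($(hw).left)⟩, ?_⟩
  rintro ⟨h, hh⟩
  refine ⟨Over.homMk h ?_, Over.OverMorphism.ext hh⟩
  have hw : i.left ≫ 𝟙 T = W.hom := Over.w i
  show h ≫ W.hom = g
  rw [← hw]
  exact ((congrArg (h ≫ ·) (Category.comp_id i.left))).trans hh


open AlgebraicGeometry CategoryTheory in
/-- For a scheme S and a homomorphism v : E → F of quasi-coherent O_S-modules with F finite locally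
free, there is a quasi-coherent ideal sheaf on S whose closed subscheme Z has the property that a
morphism of schemes f : T → S factors through the inclusion Z → S if and only if the pulled-back
homomorphism f^*v : f^*E → f^*F is zero. -/
theorem result {S : Scheme.{u}} {E F : S.Modules}
    [Coh.IsQCoh E] [Coh.IsQCoh F] (hF : FlatMod.IsFinLocFree F) (v : E ⟶ F) :
    ∃ I : S.IdealSheafData, ∀ (T : Scheme.{u}) (f : T ⟶ S),
      (∃ g : T ⟶ I.subscheme, g ≫ I.subschemeι = f) ↔ (Scheme.Modules.pullback f).map v = 0 := by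
  obtain ⟨W, c, hc, hW⟩ := exists_zeroLocus' hF v
  haveI := hc
  refine ⟨c.ker, fun T f => ?_⟩
  rw [hW, Groth.L02.SchDom.exists_factor_iff_ker_le, Groth.L02.SchDom.exists_factor_iff_ker_le,
    Scheme.IdealSheafData.ker_subschemeι]

end Groth.Agent.S10845
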