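
import Groth.Statements.S10851
import Groth.Agent.L22.Mero
import Mathlib.RingTheory.KrullDimension.Zero

set_option autoImplicit false
universe u
open Mero

namespace Groth.Agent.S10851

open AlgebraicGeometry in
/-- Let X be a locally Noetherian scheme and D a divisor on X (a global section of K_X^×/O_X^×). Then
the support of D has codimension at least 1 in X: for every point z at which the germ of D is
non-trivial, the local ring O_{X,z} has Krull dimension at least 1. -/
theorem result {X : Scheme.{u}} [IsLocallyNoetherian X]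
    (D : Mero.Divisor X) (z : X) (hz : z ∈ Mero.supp D) :
    (1 : WithBot ℕ∞) ≤ ringKrullDim (X.presheaf.stalk z) := by
  by_contra hlt
  have h0 : ringKrullDim (X.presheaf.stalk z) < 1 := not_le.1 hlt
  haveI : Ring.KrullDimLE 0 (X.presheaf.stalk z) := by
    rw [Ring.krullDimLE_iff]
    have hbot : ringKrullDim (X.presheaf.stalk z) ≠ ⊥ := fun h => by
      have := ringKrullDim_nonneg_of_nontrivial (R := X.presheaf.stalk z)
      rw [h] at this
      exact absurd this (by simp)
    obtain ⟨n, hn⟩ := WithBot.ne_bot_iff_exists.1 hbot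
    rw [← hn] at h0 ⊢
    have h1 : n < 1 := WithBot.coe_lt_coe.1 h0
    rw [ENat.lt_one_iff_eq_zero.1 h1]
    simp
  apply hz
  obtain ⟨g, hg⟩ := QuotientGroup.mk_surjective (D.1 z)
  rw [← hg]
  refine (QuotientGroup.eq_one_iff g).2 ?_
  have hunit : ∀ s : Mero.regStalk X z, IsUnit (s : X.presheaf.stalk z) := by
    intro s
    by_contra hns
    have hnil : IsNilpotent (s : X.presheaf.stalk z) :=
      Ring.KrullDimLE.isNilpotent_iff_mem_nonunits.2 hns
    obtain ⟨n, hn⟩ := hnil
    have := pow_mem (Mero.regStalk_le_nonZeroDivisors z s.2) n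
    rw [hn] at this
    exact zero_notMem_nonZeroDivisors this
  let e := IsLocalization.atUnits (X.presheaf.stalk z) (Mero.regStalk X z)
    (S := Mero.KStalk X z) (fun s hs => hunit ⟨s, hs⟩)
  refine ⟨Units.map e.symm.toRingEquiv.toRingHom.toMonoidHom g, Units.ext ?_⟩
  exact e.apply_symm_apply (g : Mero.KStalk X z)

end Groth.Agent.S10851
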