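import Groth.Statements.S10854
-- import your own Groth.Agent.* helpers here
import Groth.Agent.L19.SpreadLfp
import Groth.Agent.L16.RatMapExt

set_option autoImplicit false
universe u
open FinCond

namespace Groth.Agent.S10854

open AlgebraicGeometry CategoryTheory in
/-- Let S be a scheme and X, Y two S-schemes locally of finite presentation over S. Let x be a point of
X and y a point of Y over the same point of S, and let φ : O_{Y,y} → O_{X,x} be an isomorphism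
compatible with the two homomorphisms from the local ring of S. Then there exist open neighbourhoods
U of x and V of y and an S-isomorphism f : U → V whose composite with Spec O_{X,x} → U and V → Y
equals Spec φ followed by Spec O_{Y,y} → Y. (The published statement assumes the finiteness
conditions only at the points x and y; this row assumes them everywhere.) -/
theorem result
    {X Y S : Scheme.{u}} (sX : X ⟶ S) (sY : Y ⟶ S)
    [LocallyOfFinitePresentation sX] [LocallyOfFinitePresentation sY]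
    {x : X} {y : Y} (e : sX x = sY y)
    (φ : Y.presheaf.stalk y ⟶ X.presheaf.stalk x) [IsIso φ]
    (h : sY.stalkMap y ≫ φ =
      S.presheaf.stalkSpecializes (Inseparable.of_eq e).specializes ≫ sX.stalkMap x) :
    ∃ (U : X.Opens) (hxU : x ∈ U) (V : Y.Opens) (f : U.toScheme ⟶ V.toScheme), IsIso f ∧
      Spec.map φ ≫ Y.fromSpecStalk y = U.fromSpecStalkOfMem x hxU ≫ f ≫ V.ι ∧
        f ≫ V.ι ≫ sY = U.ι ≫ sX := by
  classical
  have hφ : (Spec.map φ ≫ Y.fromSpecStalk y) ≫ sY = X.fromSpecStalk x ≫ sX := by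
    rw [Category.assoc, ← Scheme.SpecMap_stalkMap_fromSpecStalk sY, ← Spec.map_comp_assoc, h, Spec.map_comp_assoc,
      Scheme.SpecMap_stalkSpecializes_fromSpecStalk, Scheme.SpecMap_stalkMap_fromSpecStalk]
  have hψ : (Spec.map (inv φ) ≫ X.fromSpecStalk x) ≫ sX = Y.fromSpecStalk y ≫ sY := by
    rw [Category.assoc, ← hφ, ← Category.assoc, ← Category.assoc, ← Spec.map_comp, IsIso.hom_inv_id,
      Spec.map_id, Category.id_comp]
  obtain ⟨U, hxU, f, hf, hfs⟩ := Groth.L19.SpreadLfp.spread_out' sX sY _ hφ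
  obtain ⟨V, hyV, g, hg, hgs⟩ := Groth.L19.SpreadLfp.spread_out' sY sX _ hψ
  have hfx : f ⟨x, hxU⟩ = y := by
    have h1 := congrArg (fun m : Spec (X.presheaf.stalk x) ⟶ Y => m (IsLocalRing.closedPoint _)) hf
    simp only [Scheme.Hom.comp_apply] at h1
    rw [show (Spec.map φ) (IsLocalRing.closedPoint (X.presheaf.stalk x)) = IsLocalRing.closedPoint _ from
      IsLocalRing.comap_closedPoint φ.hom, Scheme.fromSpecStalk_closedPoint] at h1
    rw [h1]
    congr 1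
    apply U.ι.isOpenEmbedding.injective
    rw [← Scheme.Hom.comp_apply, Scheme.Opens.fromSpecStalkOfMem_ι, Scheme.fromSpecStalk_closedPoint]
    rfl
  -- one side
  have side : ∀ {X Y : Scheme.{u}} (sX : X ⟶ S) (sY : Y ⟶ S) [LocallyOfFiniteType sX] {U : X.Opens} {V : Y.Opens}
      (f : U.toScheme ⟶ Y) (g : V.toScheme ⟶ X) {x : X} (hxU : x ∈ U) (hfx : f ⟨x, hxU⟩ ∈ V),
      f ≫ sY = U.ι ≫ sX → g ≫ sX = V.ι ≫ sY →
      (∀ (W : X.Opens) (hW : x ∈ W) (a : W.toScheme ⟶ V.toScheme) (hle : W ≤ U), a ≫ V.ι = X.homOfLE hle ≫ f →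
        W.fromSpecStalkOfMem x hW ≫ a ≫ g = X.fromSpecStalk x) →
      ∃ (W : X.Opens) (_ : x ∈ W) (a : W.toScheme ⟶ V.toScheme) (hle : W ≤ U),
        a ≫ V.ι = X.homOfLE hle ≫ f ∧ a ≫ g = W.ι := by
    intro X Y sX sY _ U V f g x hxU hfx hfs hgs hst
    let W₀ : X.Opens := U.ι ''ᵁ (f ⁻¹ᵁ V)
    have hW₀ : W₀ ≤ U := (Scheme.Hom.image_le_opensRange _ _).trans_eq (Scheme.Opens.opensRange_ι U)
    have hxW₀ : x ∈ W₀ := ⟨⟨x, hxU⟩, hfx, rfl⟩
    let a₀ : W₀.toScheme ⟶ V.toScheme := IsOpenImmersion.lift V.ι (X.homOfLE hW₀ ≫ f) (by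
      rintro _ ⟨w, rfl⟩
      rw [Scheme.Opens.range_ι]
      obtain ⟨v, hv, hve⟩ := w.2
      rw [Scheme.Hom.comp_apply, show X.homOfLE hW₀ w = v from
        U.ι.isOpenEmbedding.injective ((by rw [← Scheme.Hom.comp_apply, Scheme.homOfLE_ι]; exact hve.symm))]
      exact hv)
    have ha₀ : a₀ ≫ V.ι = X.homOfLE hW₀ ≫ f := IsOpenImmersion.lift_fac _ _ _
    have hs₀ : (a₀ ≫ g) ≫ sX = W₀.ι ≫ sX := by
      rw [Category.assoc, hgs, reassoc_of% ha₀, hfs, ← Category.assoc, Scheme.homOfLE_ι]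
    obtain ⟨W', hW', heq⟩ := Groth.L16.spread_out_unique_of_locallyOfFiniteType (W₀.ι ≫ sX) sX (a₀ ≫ g) W₀.ι
      hs₀ rfl ⟨x, hxW₀⟩ (by
        have h1 := hst W₀ hxW₀ a₀ hW₀ ha₀
        rw [← Scheme.Opens.fromSpecStalkOfMem_ι W₀ x hxW₀] at h1
        simp only [Scheme.Opens.fromSpecStalkOfMem, Category.assoc] at h1
        exact (cancel_epi (Spec.map (inv (W₀.ι.stalkMap ⟨x, hxW₀⟩)))).1 h1)
    let W : X.Opens := W₀.ι ''ᵁ W'
    have hW : W ≤ W₀ := (Scheme.Hom.image_le_opensRange _ _).trans_eq (Scheme.Opens.opensRange_ι W₀)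
    refine ⟨W, ⟨⟨x, hxW₀⟩, hW', rfl⟩, X.homOfLE hW ≫ a₀, hW.trans hW₀, ?_, ?_⟩
    · rw [Category.assoc, ha₀, ← Category.assoc, Scheme.homOfLE_homOfLE]
    · let c : W.toScheme ⟶ W'.toScheme := IsOpenImmersion.lift W'.ι (X.homOfLE hW) (by
        rintro _ ⟨w, rfl⟩
        rw [Scheme.Opens.range_ι]
        obtain ⟨v, hv, hve⟩ := w.2
        rw [show X.homOfLE hW w = v from
          W₀.ι.isOpenEmbedding.injective ((by rw [← Scheme.Hom.comp_apply, Scheme.homOfLE_ι]; exact hve.symm))]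
        exact hv)
      have hc : c ≫ W'.ι = X.homOfLE hW := IsOpenImmersion.lift_fac _ _ _
      rw [Category.assoc, ← hc, Category.assoc, heq, reassoc_of% hc, Scheme.homOfLE_ι]
  have hgy : g ⟨y, hyV⟩ = x := by
    have h1 := congrArg (fun m : Spec (Y.presheaf.stalk y) ⟶ X => m (IsLocalRing.closedPoint _)) hg
    simp only [Scheme.Hom.comp_apply] at h1
    rw [show (Spec.map (inv φ)) (IsLocalRing.closedPoint (Y.presheaf.stalk y)) = IsLocalRing.closedPoint _ from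
      IsLocalRing.comap_closedPoint (inv φ).hom, Scheme.fromSpecStalk_closedPoint] at h1
    rw [h1]
    congr 1
    apply V.ι.isOpenEmbedding.injective
    rw [← Scheme.Hom.comp_apply, Scheme.Opens.fromSpecStalkOfMem_ι, Scheme.fromSpecStalk_closedPoint]
    rfl
  obtain ⟨U₁, hx₁, a, hU₁, ha, hag⟩ := side sX sY f g hxU (hfx.symm ▸ hyV) hfs hgs (fun W hW a hle ha => by
    have h1 : W.fromSpecStalkOfMem x hW ≫ a = Spec.map φ ≫ V.fromSpecStalkOfMem y hyV := by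
      rw [← cancel_mono V.ι, Category.assoc, Category.assoc, ha, Scheme.Opens.fromSpecStalkOfMem_ι, hf,
        ← Category.assoc]
      congr 1
      rw [← cancel_mono U.ι, Category.assoc, Scheme.homOfLE_ι, Scheme.Opens.fromSpecStalkOfMem_ι,
        Scheme.Opens.fromSpecStalkOfMem_ι]
    rw [reassoc_of% h1, ← hg, ← Category.assoc, ← Spec.map_comp, IsIso.inv_hom_id, Spec.map_id, Category.id_comp])
  obtain ⟨V₁, hy₁, b, hV₁, hb, hbf⟩ := side sY sX g f hyV (hgy.symm ▸ hxU) hgs hfs (fun W hW b hle hb => by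
    have h1 : W.fromSpecStalkOfMem y hW ≫ b = Spec.map (inv φ) ≫ U.fromSpecStalkOfMem x hxU := by
      rw [← cancel_mono U.ι, Category.assoc, Category.assoc, hb, Scheme.Opens.fromSpecStalkOfMem_ι, hg,
        ← Category.assoc]
      congr 1
      rw [← cancel_mono V.ι, Category.assoc, Scheme.homOfLE_ι, Scheme.Opens.fromSpecStalkOfMem_ι,
        Scheme.Opens.fromSpecStalkOfMem_ι]
    rw [reassoc_of% h1, ← hf, ← Category.assoc, ← Spec.map_comp, IsIso.hom_inv_id, Spec.map_id, Category.id_comp])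
  -- shrink both sides
  let U₂ : X.Opens := U₁.ι ''ᵁ ((a ≫ V.ι) ⁻¹ᵁ V₁)
  let V₂ : Y.Opens := V₁.ι ''ᵁ ((b ≫ U.ι) ⁻¹ᵁ U₂)
  have hU₂ : U₂ ≤ U₁ := (Scheme.Hom.image_le_opensRange _ _).trans_eq (Scheme.Opens.opensRange_ι U₁)
  have hV₂ : V₂ ≤ V₁ := (Scheme.Hom.image_le_opensRange _ _).trans_eq (Scheme.Opens.opensRange_ι V₁)
  let F₂ : U₂.toScheme ⟶ Y := X.homOfLE (hU₂.trans hU₁) ≫ f
  let G₂ : V₂.toScheme ⟶ X := Y.homOfLE (hV₂.trans hV₁) ≫ g
  have hG : ∀ v : V₂.toScheme, G₂ v ∈ U₂ := fun v => by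
    obtain ⟨w, hw, hwe⟩ := v.2
    show G₂ v ∈ U₂
    have h1 : Y.homOfLE hV₂ v = w := V₁.ι.isOpenEmbedding.injective
      (by rw [← Scheme.Hom.comp_apply, Scheme.homOfLE_ι]; exact hwe.symm)
    have h2 : G₂ = Y.homOfLE hV₂ ≫ b ≫ U.ι := by
      rw [hb, ← Category.assoc, Scheme.homOfLE_homOfLE]
    rw [h2, Scheme.Hom.comp_apply, h1]
    exact hw
  have hF : ∀ u : U₂.toScheme, F₂ u ∈ V₂ := fun u => by
    obtain ⟨w, hw, hwe⟩ := u.2
    have h1 : X.homOfLE hU₂ u = w := U₁.ι.isOpenEmbedding.injective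
      (by rw [← Scheme.Hom.comp_apply, Scheme.homOfLE_ι]; exact hwe.symm)
    have h2 : F₂ = X.homOfLE hU₂ ≫ a ≫ V.ι := by
      rw [ha, ← Category.assoc, Scheme.homOfLE_homOfLE]
    have hv₁ : F₂ u ∈ V₁ := by
      rw [h2, Scheme.Hom.comp_apply, h1]; exact hw
    refine ⟨⟨F₂ u, hv₁⟩, ?_, rfl⟩
    show (b ≫ U.ι) ⟨F₂ u, hv₁⟩ ∈ U₂
    have h3 : (b ≫ U.ι) ⟨F₂ u, hv₁⟩ = g ⟨F₂ u, hV₁ hv₁⟩ := by
      rw [hb, Scheme.Hom.comp_apply]
      congr 1
      apply V.ι.isOpenEmbedding.injective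
      rw [← Scheme.Hom.comp_apply, Scheme.homOfLE_ι]
      rfl
    have h4 : g ⟨F₂ u, hV₁ hv₁⟩ = u.1 := by
      have h5 : (⟨F₂ u, hV₁ hv₁⟩ : V.toScheme) = a w := by
        apply V.ι.isOpenEmbedding.injective
        show F₂ u = _
        rw [h2, Scheme.Hom.comp_apply, h1, Scheme.Hom.comp_apply]
      rw [h5, ← Scheme.Hom.comp_apply, hag]
      exact hwe
    rw [h3, h4]
    exact u.2
  let F : U₂.toScheme ⟶ V₂.toScheme := IsOpenImmersion.lift V₂.ι F₂ (by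
    rintro _ ⟨u, rfl⟩; rw [Scheme.Opens.range_ι]; exact hF u)
  let G : V₂.toScheme ⟶ U₂.toScheme := IsOpenImmersion.lift U₂.ι G₂ (by
    rintro _ ⟨v, rfl⟩; rw [Scheme.Opens.range_ι]; exact hG v)
  have hFι : F ≫ V₂.ι = F₂ := IsOpenImmersion.lift_fac _ _ _
  have hGι : G ≫ U₂.ι = G₂ := IsOpenImmersion.lift_fac _ _ _
  have hFG : F ≫ G = 𝟙 _ := by
    have h1 : F ≫ Y.homOfLE (hV₂.trans hV₁) = X.homOfLE hU₂ ≫ a := by
      rw [← cancel_mono V.ι, Category.assoc, Scheme.homOfLE_ι, hFι, Category.assoc, ha, ← Category.assoc,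
        Scheme.homOfLE_homOfLE]
    rw [← cancel_mono U₂.ι, Category.assoc, hGι, Category.id_comp]
    show F ≫ Y.homOfLE (hV₂.trans hV₁) ≫ g = _
    rw [reassoc_of% h1, hag, Scheme.homOfLE_ι]
  have hGF : G ≫ F = 𝟙 _ := by
    have h1 : G ≫ X.homOfLE (hU₂.trans hU₁) = Y.homOfLE hV₂ ≫ b := by
      rw [← cancel_mono U.ι, Category.assoc, Scheme.homOfLE_ι, hGι, Category.assoc, hb, ← Category.assoc,
        Scheme.homOfLE_homOfLE]
    rw [← cancel_mono V₂.ι, Category.assoc, hFι, Category.id_comp]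
    show G ≫ X.homOfLE (hU₂.trans hU₁) ≫ f = _
    rw [reassoc_of% h1, hbf, Scheme.homOfLE_ι]
  have hx₂ : x ∈ U₂ := by
    refine ⟨⟨x, hx₁⟩, ?_, rfl⟩
    show (a ≫ V.ι) ⟨x, hx₁⟩ ∈ V₁
    rw [ha, Scheme.Hom.comp_apply]
    have : X.homOfLE hU₁ ⟨x, hx₁⟩ = (⟨x, hxU⟩ : U.toScheme) := by
      apply U.ι.isOpenEmbedding.injective
      rw [← Scheme.Hom.comp_apply, Scheme.homOfLE_ι]
      rfl
    rw [this, hfx]
    exact hy₁
  refine ⟨U₂, hx₂, V₂, F, ⟨G, hFG, hGF⟩, ?_, ?_⟩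
  · rw [hFι, hf, ← Category.assoc]
    congr 1
    rw [← cancel_mono U.ι, Category.assoc, Scheme.homOfLE_ι, Scheme.Opens.fromSpecStalkOfMem_ι,
      Scheme.Opens.fromSpecStalkOfMem_ι]
  · rw [reassoc_of% hFι]
    show (X.homOfLE (hU₂.trans hU₁) ≫ f) ≫ sY = _
    rw [Category.assoc, hfs, ← Category.assoc, Scheme.homOfLE_ι]

end Groth.Agent.S10854
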