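import Groth.Statements.S10856
import Groth.Agent.L22.Mero

set_option autoImplicit false
set_option backward.isDefEq.respectTransparency false
universe u
open Mero

namespace Groth.Agent.S10856

open AlgebraicGeometry CategoryTheory TopologicalSpace in
/-- Let X be a scheme and f a global section of the sheaf of meromorphic functions K_X. The domain of
definition of f, i.e. the set of points x whose value f_x ∈ K_{X,x} lies in the image of the local
ring O_{X,x}, is the underlying set of an open subscheme D of X, and D is schematically dense in X: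
for every open subset V of X the restriction map from sections of O_X over V to sections over V ∩ D
is injective. -/
theorem result {X : Scheme.{u}} (f : Γ(Mero.kmod X, ⊤)) :
    ∃ D : X.Opens,
      (D : Set X) = {x | f.1 ⟨x, Opens.mem_top x⟩ ∈ (algebraMap (X.presheaf.stalk x) (Mero.KStalk X x)).range} ∧
        ∀ V : X.Opens, Function.Injective (X.presheaf.map (homOfLE (inf_le_left : V ⊓ D ≤ V)).op) := by
  classical
  let S : Set X := {x | f.1 ⟨x, Opens.mem_top x⟩ ∈ (algebraMap (X.presheaf.stalk x) (Mero.KStalk X x)).range}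
  have hopen : IsOpen S := by
    refine isOpen_iff_forall_mem_open.2 fun x hx => ?_
    obtain ⟨W, hxW, i, m, b, w⟩ := f.2 ⟨x, trivial⟩
    obtain ⟨c, hc⟩ := hx
    obtain ⟨W', hxW', a, rfl⟩ := TopCat.Presheaf.exists_germ_eq X.presheaf c
    have h2 := hc.trans (w ⟨x, hxW⟩)
    rw [Groth.L22.Mero.algebraMap_eq_mk, Groth.L22.Mero.mk_eq_mk_iff, Submonoid.coe_one, mul_one] at h2
    have hm : x ∈ W ⊓ W' := ⟨hxW, hxW'⟩
    have h1 : X.presheaf.germ (W ⊓ W') x hm (X.presheaf.map (homOfLE inf_le_left).op m) =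
        X.presheaf.germ (W ⊓ W') x hm (X.presheaf.map (homOfLE inf_le_right).op a *
          X.presheaf.map (homOfLE inf_le_left).op b.1) := by
      rw [map_mul, TopCat.Presheaf.germ_res_apply, TopCat.Presheaf.germ_res_apply, TopCat.Presheaf.germ_res_apply]
      exact h2.symm
    obtain ⟨W'', hx'', i₁, i₂, he⟩ := X.presheaf.germ_eq x hm hm _ _ h1
    refine ⟨W'', fun z hz => ?_, W''.2, hx''⟩
    have hz2 : z ∈ W ⊓ W' := i₁.le hz
    refine ⟨X.presheaf.germ W' z hz2.2 a, ?_⟩
    show _ = f.1 ⟨z, trivial⟩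
    refine Eq.trans ?_ (w ⟨z, hz2.1⟩).symm
    rw [Groth.L22.Mero.algebraMap_eq_mk, Groth.L22.Mero.mk_eq_mk_iff, Submonoid.coe_one, mul_one]
    have h4 := congrArg (X.presheaf.germ W'' z hz) he
    rw [map_mul, map_mul] at h4
    simp only [TopCat.Presheaf.germ_res_apply, TopCat.Presheaf.germ_res_apply'] at h4 ⊢
    exact h4.symm
  refine ⟨⟨S, hopen⟩, rfl, fun V s t hst => ?_⟩
  refine TopCat.Presheaf.section_ext X.sheaf _ _ _ fun x hxV => ?_
  obtain ⟨W, hxW, i, m, b, w⟩ := f.2 ⟨x, trivial⟩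
  obtain ⟨U, hU, hxU, hUle⟩ := exists_isAffineOpen_mem_and_subset (x := x) (U := V ⊓ W) ⟨hxV, hxW⟩
  have hUW : U ≤ W := fun z hz => (hUle hz).2
  have hUV : U ≤ V := fun z hz => (hUle hz).1
  have h0 : X.presheaf.map (homOfLE hUV).op (s - t) = 0 := by
    refine Groth.L22.Mero.eq_zero_of_germ_eq_zero hU (Mero.regSub_res (homOfLE hUW) b.2) _ fun z hz hu => ?_
    rw [TopCat.Presheaf.germ_res_apply] at hu
    rw [TopCat.Presheaf.germ_res_apply, map_sub, sub_eq_zero]
    have hzS : z ∈ S := by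
      refine ⟨X.presheaf.germ W z (hUW hz) m * ↑hu.unit⁻¹, ?_⟩
      show _ = f.1 ⟨z, trivial⟩
      refine Eq.trans ?_ (w ⟨z, hUW hz⟩).symm
      rw [Groth.L22.Mero.algebraMap_eq_mk, Groth.L22.Mero.mk_eq_mk_iff, Submonoid.coe_one, mul_one, mul_assoc,
        IsUnit.val_inv_mul, mul_one]
    have hzD : z ∈ V ⊓ (⟨S, hopen⟩ : X.Opens) := ⟨hUV hz, hzS⟩
    have h5 := congrArg (X.presheaf.germ (V ⊓ (⟨S, hopen⟩ : X.Opens)) z hzD) hst
    rwa [TopCat.Presheaf.germ_res_apply, TopCat.Presheaf.germ_res_apply] at h5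
  have h6 := congrArg (X.presheaf.germ U x hxU) h0
  rw [TopCat.Presheaf.germ_res_apply, map_sub, map_zero, sub_eq_zero] at h6
  exact h6

end Groth.Agent.S10856
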