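import Groth.Statements.S10857
-- import your own Groth.Agent.* helpers here
import Groth.Prelude.Def_Algz2
import Groth.Agent.L21.Mod.Stalks
import Groth.Agent.L20.ModStalk
import Mathlib.Topology.Sheaves.Skyscraper

set_option autoImplicit false
set_option linter.style.haveILetI false
universe u
open QCohSup

namespace Groth.Agent.S10857

open AlgebraicGeometry CategoryTheory CategoryTheory.Limits Groth.L21.Mod in
open Groth.L18.Frame (rs ro) in
open Groth.L20.ModStalk (germ_rs germ_smul) in
/-- Take a quasi-compact scheme X, a finite-type quasi-coherent O_X-module F, and G a quasi-coherent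
O_X-module which is the colimit of a filtered diagram of quasi-coherent O_X-modules G_j. A
homomorphism u : G → F is an epimorphism if and only if there is an index j₀ such that for every
index j admitting a map from j₀ the composite G_j → G → F is an epimorphism. -/
theorem result {X : Scheme.{u}} [CompactSpace X]
    {J : Type u} [SmallCategory J] [IsFiltered J] (D : J ⥤ X.Modules) [∀ j, Coh.IsQCoh (D.obj j)]
    (c : Cocone D) (hc : IsColimit c) [Coh.IsQCoh c.pt]
    (F : X.Modules) [Coh.IsQCoh F] (hF : CohB1.IsFT F) (u : c.pt ⟶ F) :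
    Epi u ↔ ∃ j₀ : J, ∀ j : J, Nonempty (j₀ ⟶ j) → Epi (c.ι.app j ≫ u) := by
  classical
  refine ⟨fun hu => ?_, fun ⟨j, hj⟩ => ?_⟩
  swap
  · haveI := hj j ⟨𝟙 j⟩
    exact epi_of_epi (c.ι.app j) u
  have near : ∀ x : X, ∃ (W : X.Opens) (j : J), x ∈ W ∧ ∀ y ∈ W, ∀ z : F.presheaf.stalk y,
      ∃ w, Algz.stalkMapₗ (c.ι.app j ≫ u) y w = z := by
    intro x
    obtain ⟨_, ⟨V, hV, rfl⟩, hxV, -⟩ :=
      X.isBasis_affineOpens.exists_subset_of_mem_open (Set.mem_univ x) isOpen_univ
    haveI := Groth.L20.ModStalk.finite_sections F ⟨inferInstance, hF⟩ hV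
    obtain ⟨n, t, ht⟩ := Module.Finite.exists_fin (R := Γ(X, V)) (M := Γ(F, V))
    have hsur := (epi_iff_stalk_surjective u).1 hu x
    haveI : PreservesColimitsOfShape J (stalkF X x) := by
      haveI : PreservesColimitsOfShape J (toAbSh X) := preservesColimitsOfSize_toAbSh.preservesColimitsOfShape
      haveI : PreservesColimitsOfShape J (TopCat.Sheaf.forget AddCommGrpCat.{u} X.toTopCat ⋙
          TopCat.Presheaf.stalkFunctor AddCommGrpCat.{u} x) :=
        (stalkSkyscraperSheafAdjunction (C := AddCommGrpCat.{u}) x).leftAdjoint_preservesColimits.preservesColimitsOfShape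
      exact preservesColimitsOfShape_of_natIso (stalkFIso x)
    have hlift : ∀ q : Fin n, ∃ (j : J) (v : (D.obj j).presheaf.stalk x),
        (stalkF X x).map (c.ι.app j ≫ u) v = F.presheaf.germ V x hxV (t q) := fun q => by
      obtain ⟨w, hw⟩ := hsur (F.presheaf.germ V x hxV (t q))
      obtain ⟨j, v, hv⟩ := Concrete.isColimit_exists_rep _ (isColimitOfPreserves (stalkF X x) hc) w
      refine ⟨j, v, ?_⟩
      rw [Functor.map_comp, ← hw]
      exact congrArg _ hv
    choose jq vq hvq using hlift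
    obtain ⟨j, hj⟩ := IsFiltered.sup_objs_exists (Finset.univ.image jq)
    have hlift' : ∀ q : Fin n, ∃ (W : X.Opens) (_ : x ∈ W) (hWV : W ≤ V) (s : Γ(D.obj j, W)),
        (c.ι.app j ≫ u).app W s = rs F hWV (t q) := fun q => by
      have g : jq q ⟶ j := (hj (Finset.mem_image_of_mem _ (Finset.mem_univ q))).some
      have hv : (stalkF X x).map (c.ι.app j ≫ u) ((stalkF X x).map (D.map g) (vq q)) =
          F.presheaf.germ V x hxV (t q) := by
        rw [← ConcreteCategory.comp_apply, ← Functor.map_comp, ← Category.assoc, c.w]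
        exact hvq q
      obtain ⟨W₁, hx₁, s, hs⟩ := TopCat.Presheaf.exists_germ_eq (D.obj j).presheaf
        ((stalkF X x).map (D.map g) (vq q))
      rw [← hs, stalkF_map_germ] at hv
      obtain ⟨W, hxW, i₁, i₂, hW⟩ := TopCat.Presheaf.germ_eq F.presheaf x hx₁ hxV _ _ hv
      refine ⟨W, hxW, i₂.le, rs (D.obj j) i₁.le s, ?_⟩
      refine Eq.trans ?_ hW
      exact congrArg (fun m => m s) ((c.ι.app j ≫ u).mapPresheaf.naturality i₁.op)
    choose W hxW hWV s hs using hlift'
    refine ⟨V ⊓ Finset.univ.inf W, j, ?_, fun y hy z => ?_⟩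
    · refine ⟨hxV, ?_⟩
      simpa [TopologicalSpace.Opens.coe_finset_inf] using hxW
    let R := LinearMap.range (Algz.stalkMapₗ (c.ι.app j ≫ u) y)
    have hyW : ∀ q, y ∈ W q := fun q => (Finset.inf_le (f := W) (Finset.mem_univ q)) hy.2
    have hgen : ∀ a : Γ(F, V), F.presheaf.germ V y hy.1 a ∈ R := fun a => by
      have ha : a ∈ Submodule.span Γ(X, V) (Set.range t) := ht ▸ Submodule.mem_top
      induction ha using Submodule.span_induction with
      | mem a ha =>
        obtain ⟨q, rfl⟩ := ha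
        refine ⟨(D.obj j).presheaf.germ (W q) y (hyW q) (s q), ?_⟩
        rw [← germ_rs F (hWV q) (hyW q), ← hs q]
        exact stalkF_map_germ (c.ι.app j ≫ u) (W q) y (hyW q) (s q)
      | zero => rw [map_zero]; exact zero_mem _
      | add a b _ _ ha hb => rw [map_add]; exact add_mem ha hb
      | smul r a _ ha => rw [germ_smul]; exact R.smul_mem _ ha
    letI := Groth.L20.ModStalk.stalkModule F hy.1
    haveI := Groth.L20.ModStalk.isLocalizedModule_germ F hV hy.1
    obtain ⟨⟨a, d⟩, had⟩ := IsLocalizedModule.surj (hV.primeIdealOf ⟨y, hy.1⟩).asIdeal.primeCompl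
      (Groth.L20.ModStalk.germₗ F hy.1) z
    letI := X.presheaf.algebra_section_stalk ⟨y, hy.1⟩
    haveI := hV.isLocalization_stalk ⟨y, hy.1⟩
    obtain ⟨w, hw⟩ := (show IsUnit (X.presheaf.germ V y hy.1 (d : Γ(X, V))) from
      IsLocalization.map_units (X.presheaf.stalk y) d).exists_left_inv
    have had' : X.presheaf.germ V y hy.1 (d : Γ(X, V)) • z = F.presheaf.germ V y hy.1 a := had
    have hz : z ∈ R := by
      rw [← one_smul (X.presheaf.stalk y) z, ← hw, mul_smul, had']
      exact R.smul_mem _ (hgen a)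
    exact hz
  choose W jx hxW hWsur using near
  obtain ⟨T, hT⟩ := isCompact_univ.elim_finite_subcover (fun x => (W x : Set X)) (fun x => (W x).2)
    (fun x _ => Set.mem_iUnion.2 ⟨x, hxW x⟩)
  obtain ⟨j₀, hj₀⟩ := IsFiltered.sup_objs_exists (T.image jx)
  refine ⟨j₀, fun j ⟨g⟩ => (epi_iff_stalk_surjective _).2 fun y z => ?_⟩
  obtain ⟨x, hx, hy⟩ := Set.mem_iUnion₂.1 (hT (Set.mem_univ y))
  obtain ⟨w, hw⟩ := hWsur x y hy z
  let g' : jx x ⟶ j := (hj₀ (Finset.mem_image_of_mem _ hx)).some ≫ g
  refine ⟨(stalkF X y).map (D.map g') w, ?_⟩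
  rw [← ConcreteCategory.comp_apply, ← Functor.map_comp, ← Category.assoc, c.w]
  exact hw

end Groth.Agent.S10857
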