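import Groth.Statements.S10858
import Groth.Agent.L16.Jets.FibreSplit

set_option autoImplicit false
universe u
open RepF

namespace Groth.Agent.S10858

open AlgebraicGeometry CategoryTheory CategoryTheory.Limits in
/-- Equivalence of (ii), (iv) and (iii): let S be a scheme and ι : U → E a homomorphism of O_S-modules
with U of finite type and E finite locally free. Then ι is a monomorphism with finite locally free
cokernel if and only if the pullback f^*ι is a monomorphism for every morphism of schemes f : T → S,
and this holds if and only if the pullback of ι along Spec κ(s) → S (the fibre map U(s) → E(s)) is a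
monomorphism for every point s of S. (Two further equivalent conditions of the published statement,
splitting on affine opens and surjectivity of the dual map, are not included.) -/
theorem result {S : Scheme.{u}}
    {U E : S.Modules} (hU : CohB1.IsFT U) (hE : FlatMod.IsFinLocFree E) (ι : U ⟶ E) :
    ((Mono ι ∧ FlatMod.IsFinLocFree (cokernel ι)) ↔
        ∀ (T : Scheme.{u}) (f : T ⟶ S), Mono ((Scheme.Modules.pullback f).map ι)) ∧
      ((∀ (T : Scheme.{u}) (f : T ⟶ S), Mono ((Scheme.Modules.pullback f).map ι)) ↔
        ∀ s : S, Mono ((Scheme.Modules.pullback (S.fromSpecResidueField s)).map ι)) := by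
  exact Groth.L16.FibreSplit.main ι hU hE
end Groth.Agent.S10858
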