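import Groth.Agent.L18.Grass.ClosedImm
import Groth.Statements.S10859
-- import your own Groth.Agent.* helpers here

set_option autoImplicit false
universe u
open Grass

namespace Groth.Agent.S10859

open AlgebraicGeometry CategoryTheory in
/-- Let R be a commutative ring, v : M₁ → M₂ a surjective homomorphism of R-modules and k a natural
number. Suppose X₁ and X₂ are schemes over Spec R representing the Grassmannian functors of rank-k
locally free quotients of M₁ and of M₂ (bijections e₁, e₂ between Spec R-morphisms Spec A → X_i and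
submodules of A ⊗_R M_i with finite projective quotient of constant rank k, compatible with base
change along R-algebra maps). Then there is a Spec R-morphism c : X₂ → X₁ which on A-valued points
sends a submodule N of A ⊗_R M₂ to its preimage under A ⊗ v, and every such c is a closed immersion.
(The published statement is for a surjection of quasi-coherent modules over an arbitrary base
scheme, where the two Grassmannians are known to be schemes; this row takes the base affine and the
two representing schemes as hypotheses, with no finiteness condition on the modules.) -/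
theorem result (R : Type u) [CommRing R]
    (M₁ M₂ : Type u) [AddCommGroup M₁] [Module R M₁]
    [AddCommGroup M₂] [Module R M₂]
    (v : M₁ →ₗ[R] M₂) (hv : Function.Surjective v) (k : ℕ)
    (X₁ X₂ : Over (Spec (CommRingCat.of R)))
    (e₁ : ∀ A : CommAlgCat.{u} R,
      (Over.mk (Spec.map (CommRingCat.ofHom (algebraMap R A))) ⟶ X₁) ≃
        (Module.Grassmannian.functor (R := R) (M := M₁) k).obj A)
    (he₁ : ∀ (A B : CommAlgCat.{u} R) (φ : A ⟶ B)
      (g : Over.mk (Spec.map (CommRingCat.ofHom (algebraMap R A))) ⟶ X₁)
      (g' : Over.mk (Spec.map (CommRingCat.ofHom (algebraMap R B))) ⟶ X₁),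
      g'.left = Spec.map (CommRingCat.ofHom φ.hom.toRingHom) ≫ g.left →
        e₁ B g' = (Module.Grassmannian.functor (R := R) (M := M₁) k).map φ (e₁ A g))
    (e₂ : ∀ A : CommAlgCat.{u} R,
      (Over.mk (Spec.map (CommRingCat.ofHom (algebraMap R A))) ⟶ X₂) ≃
        (Module.Grassmannian.functor (R := R) (M := M₂) k).obj A)
    (he₂ : ∀ (A B : CommAlgCat.{u} R) (φ : A ⟶ B)
      (g : Over.mk (Spec.map (CommRingCat.ofHom (algebraMap R A))) ⟶ X₂)
      (g' : Over.mk (Spec.map (CommRingCat.ofHom (algebraMap R B))) ⟶ X₂),
      g'.left = Spec.map (CommRingCat.ofHom φ.hom.toRingHom) ≫ g.left →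
        e₂ B g' = (Module.Grassmannian.functor (R := R) (M := M₂) k).map φ (e₂ A g)) :
    (∃ c : X₂ ⟶ X₁, ∀ (A : CommAlgCat.{u} R)
        (g : Over.mk (Spec.map (CommRingCat.ofHom (algebraMap R A))) ⟶ X₂),
        (e₁ A (g ≫ c)).toSubmodule = (e₂ A g).toSubmodule.comap (v.baseChange A)) ∧
      ∀ c : X₂ ⟶ X₁, (∀ (A : CommAlgCat.{u} R)
        (g : Over.mk (Spec.map (CommRingCat.ofHom (algebraMap R A))) ⟶ X₂),
        (e₁ A (g ≫ c)).toSubmodule = (e₂ A g).toSubmodule.comap (v.baseChange A)) →
        IsClosedImmersion c.left := by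
  exact ⟨Groth.L18.GrassClosed.exists_comap_hom hv e₁ he₁ e₂ he₂,
    fun c hc => Groth.L18.GrassClosed.isClosedImmersion hv e₁ he₁ e₂ he₂ c hc⟩

end Groth.Agent.S10859
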