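import Groth.Statements.S10863
import Mathlib.FieldTheory.SeparableDegree
import Mathlib.RingTheory.Artinian.Module
import Mathlib.RingTheory.LocalRing.ResidueField.Ideal
import Mathlib.FieldTheory.IsAlgClosed.AlgebraicClosure

set_option autoImplicit false
set_option linter.style.haveILetI false
universe u
open CAlg

namespace Groth.Agent.S10863

open TensorProduct in
/-- Let k be a field, A a finite-dimensional local k-algebra with residue field κ, and k' a field
extension of k. Then the separable degree of κ over k equals the sum over the maximal ideals m' of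
k' ⊗_k A (the points of the base-changed finite scheme lying over the given point) of the separable
degrees over k' of their residue fields. -/
theorem result (k A k' : Type u) [Field k] [CommRing A] [Algebra k A]
    [Module.Finite k A] [IsLocalRing A] [Field k'] [Algebra k k'] :
    Field.finSepDegree k (IsLocalRing.ResidueField A) =
      ∑ᶠ m : MaximalSpectrum (k' ⊗[k] A),
        Field.finSepDegree k' (IsLocalRing.ResidueField (Localization.AtPrime m.asIdeal)) := by
  classical
  let K := AlgebraicClosure k'
  let T := k' ⊗[k] A
  haveI : IsArtinianRing A := isArtinian_of_tower k inferInstance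
  haveI : IsArtinianRing T := isArtinian_of_tower k' inferInstance
  haveI : Finite (MaximalSpectrum T) := inferInstance
  letI := Fintype.ofFinite (MaximalSpectrum T)
  haveI : Module.Finite k (IsLocalRing.ResidueField A) :=
    Module.Finite.of_surjective (IsScalarTower.toAlgHom k A (IsLocalRing.ResidueField A)).toLinearMap IsLocalRing.residue_surjective
  have hker : ∀ f : A →ₐ[k] K, IsLocalRing.maximalIdeal A ≤ RingHom.ker f.toRingHom := fun f => by
    haveI := RingHom.ker_isPrime f.toRingHom
    rw [← IsLocalRing.eq_maximalIdeal (IsArtinianRing.isMaximal_of_isPrime (RingHom.ker f.toRingHom))]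
  let e1 : (IsLocalRing.ResidueField A →ₐ[k] K) ≃ (A →ₐ[k] K) :=
    Equiv.ofBijective (fun g => g.comp (IsScalarTower.toAlgHom k A (IsLocalRing.ResidueField A)))
      ⟨fun a b h => AlgHom.ext fun x => by
        obtain ⟨x, rfl⟩ := IsLocalRing.residue_surjective x
        exact AlgHom.congr_fun h x,
       fun f => ⟨Ideal.Quotient.liftₐ (IsLocalRing.maximalIdeal A) f fun a ha => hker f ha, AlgHom.ext fun a => rfl⟩⟩
  let e2 : (A →ₐ[k] K) ≃ (T →ₐ[k'] K) :=
    Equiv.ofBijective (fun f => Algebra.TensorProduct.lift (Algebra.ofId k' K) f fun _ _ => Commute.all _ _)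
      ⟨fun a b h => AlgHom.ext fun x => by simpa using AlgHom.congr_fun h (1 ⊗ₜ x),
       fun g => ⟨(g.restrictScalars k).comp Algebra.TensorProduct.includeRight, by
        refine Algebra.TensorProduct.ext (AlgHom.ext fun c => ?_) (AlgHom.ext fun a => by simp; rfl)
        simp only [AlgHom.comp_apply, Algebra.TensorProduct.includeLeft_apply, Algebra.TensorProduct.lift_tmul, map_one, mul_one]
        exact (g.commutes c).symm⟩⟩
  let Rm : MaximalSpectrum T → Type u := fun m => IsLocalRing.ResidueField (Localization.AtPrime m.asIdeal)
  have hsurj : ∀ m : MaximalSpectrum T, Function.Surjective (algebraMap T (Rm m)) := fun m =>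
    (m.asIdeal.bijective_algebraMap_quotient_residueField.2.comp Ideal.Quotient.mk_surjective :)
  have hk : ∀ m : MaximalSpectrum T, RingHom.ker (algebraMap T (Rm m)) = m.asIdeal := fun m =>
    Ideal.ker_algebraMap_residueField m.asIdeal
  let e3 : (Σ m : MaximalSpectrum T, (Rm m →ₐ[k'] K)) ≃ (T →ₐ[k'] K) :=
    Equiv.ofBijective (fun p => p.2.comp (IsScalarTower.toAlgHom k' T (Rm p.1)))
      ⟨fun ⟨m, a⟩ ⟨m', b⟩ h => by
        have hm : m = m' := by
          apply MaximalSpectrum.ext
          rw [← hk m, ← hk m']
          ext t
          simp only [RingHom.mem_ker]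
          have := AlgHom.congr_fun h t
          simp only [AlgHom.comp_apply, IsScalarTower.coe_toAlgHom'] at this
          rw [← map_eq_zero a.toRingHom, ← map_eq_zero b.toRingHom]
          exact Iff.of_eq (congrArg (· = 0) this)
        subst hm
        refine Sigma.ext rfl (heq_of_eq (AlgHom.ext fun x => ?_))
        obtain ⟨x, rfl⟩ := hsurj m x
        exact AlgHom.congr_fun h x,
       fun f => by
        haveI := RingHom.ker_isPrime f.toRingHom
        let m : MaximalSpectrum T := ⟨RingHom.ker f.toRingHom, IsArtinianRing.isMaximal_of_isPrime _⟩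
        let e := AlgEquiv.ofBijective (IsScalarTower.toAlgHom k' (T ⧸ m.asIdeal) (Rm m))
          m.asIdeal.bijective_algebraMap_quotient_residueField
        refine ⟨⟨m, (Ideal.Quotient.liftₐ m.asIdeal f fun a ha => ha).comp e.symm.toAlgHom⟩, AlgHom.ext fun t => ?_⟩
        show Ideal.Quotient.liftₐ m.asIdeal f (fun a ha => ha) (e.symm (algebraMap T (Rm m) t)) = f t
        rw [show algebraMap T (Rm m) t = e (Ideal.Quotient.mk _ t) from
          IsScalarTower.algebraMap_apply T (T ⧸ m.asIdeal) (Rm m) t, AlgEquiv.symm_apply_apply]
        rfl⟩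
  haveI : ∀ m, Finite (Rm m →ₐ[k'] K) := fun m => by
    haveI : Module.Finite k' (Rm m) := Module.Finite.of_surjective (IsScalarTower.toAlgHom k' T (Rm m)).toLinearMap (hsurj m)
    infer_instance
  rw [Field.finSepDegree_eq_of_isAlgClosed k _ K, Nat.card_congr ((e1.trans e2).trans e3.symm), Nat.card_sigma,
    finsum_eq_sum_of_fintype]
  refine Finset.sum_congr rfl fun m _ => ?_
  haveI : Module.Finite k' (Rm m) := Module.Finite.of_surjective (IsScalarTower.toAlgHom k' T (Rm m)).toLinearMap (hsurj m)
  exact (Field.finSepDegree_eq_of_isAlgClosed k' _ K).symm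

end Groth.Agent.S10863
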