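import Groth.Statements.S10864
import Groth.Agent.L22.LinProj
-- import your own Groth.Agent.* helpers here

set_option autoImplicit false
universe u
open Variety

namespace Groth.Agent.S10864

open CategoryTheory AlgebraicGeometry in
/-- Let k be an infinite field and X a closed subscheme of projective n-space over k, of dimension d
(topological Krull dimension, a natural number). Then there is a finite surjective morphism X →
P^d_k over k. -/
theorem result (k : Type u) [Field k] [Infinite k] (X : Scheme.{u})
    (n : ℕ) (ι : X ⟶ CohB1.ProjSpace n k) [IsClosedImmersion ι] (d : ℕ) (hd : topologicalKrullDim X = d) :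
    ∃ π : X ⟶ CohB1.ProjSpace d k, π ≫ CohB1.ProjSpace.toSpec d k = ι ≫ CohB1.ProjSpace.toSpec n k ∧
      IsFinite π ∧ Surjective π := by
  exact Groth.L22.LinProj.exists_finite_surjective ι d hd

end Groth.Agent.S10864
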