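import Groth.Statements.S10865
import Groth.Agent.L17.DevissageGen

set_option autoImplicit false
universe u
open Coherent

namespace Groth.Agent.S10865

open CategoryTheory CategoryTheory.Limits AlgebraicGeometry in
/-- Let X be a nonempty Noetherian scheme and K an isomorphism-closed class of O_X-modules such that (a)
in a short exact sequence of coherent modules, if the middle and right terms lie in K so does the
left one, and if the two outer terms lie in K so does the middle one; (b) if a coherent F has some
d-fold direct sum (d ≥ 1) in K then F lies in K. If for every integral closed subscheme i : Z → X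
there is a coherent O_Z-module with nonzero stalk at the generic point whose direct image under i
lies in K, then every coherent O_X-module lies in K. (For the empty scheme the hypotheses hold for
the empty class, so X is taken nonempty here.) -/
theorem result (X : Scheme.{u}) [IsNoetherian X] [Nonempty X]
    (K : ObjectProperty X.Modules) [K.IsClosedUnderIsomorphisms]
    (ha : ∀ S : ShortComplex X.Modules, S.ShortExact → Coh.IsCoh S.X₁ → Coh.IsCoh S.X₂ → Coh.IsCoh S.X₃ →
      (K S.X₂ → K S.X₃ → K S.X₁) ∧ (K S.X₁ → K S.X₃ → K S.X₂))
    (hb : ∀ (F : X.Modules) (d : ℕ), 1 ≤ d → Coh.IsCoh F → K (∐ fun _ : Fin d => F) → K F)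
    (hgen : ∀ (Z : Scheme.{u}) (i : Z ⟶ X) [IsClosedImmersion i] [IsIntegral Z],
      ∃ H : Z.Modules, Coh.IsCoh H ∧ Nontrivial (H.presheaf.stalk (genericPoint Z)) ∧
        K ((Scheme.Modules.pushforward i).obj H))
    (F : X.Modules) (hF : Coh.IsCoh F) : K F := by
  exact Groth.L17.DevissageGen.devissage_class K (fun M N ⟨e⟩ h => K.prop_of_iso e h) ha hb hgen F hF
end Groth.Agent.S10865
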