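import Groth.Statements.S10866
import Groth.Agent.L17.DevissagePush

set_option autoImplicit false
universe u
open Coherent

namespace Groth.Agent.S10866

open CategoryTheory AlgebraicGeometry in
/-- Let f : X → Y be a morphism of Noetherian schemes such that for every integral closed subscheme i :
Z → X there is a coherent O_Z-module with nonzero stalk at the generic point of Z whose direct image
under i followed by f is coherent on Y. Then the direct image f_*F of every coherent O_X-module F is
coherent. -/
theorem result {X Y : Scheme.{u}} [IsNoetherian X] [IsNoetherian Y]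
    (f : X ⟶ Y)
    (hgen : ∀ (Z : Scheme.{u}) (i : Z ⟶ X) [IsClosedImmersion i] [IsIntegral Z],
      ∃ H : Z.Modules, Coh.IsCoh H ∧ Nontrivial (H.presheaf.stalk (genericPoint Z)) ∧
        Coh.IsCoh ((Scheme.Modules.pushforward (i ≫ f)).obj H))
    (F : X.Modules) (hF : Coh.IsCoh F) : Coh.IsCoh ((Scheme.Modules.pushforward f).obj F) := by
  exact Groth.L17.DevissagePush.isCoh_pushforward f hgen F hF
end Groth.Agent.S10866
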