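import Groth.Statements.S10867
import Groth.Agent.L19.ClosedImmNhd
import Mathlib.AlgebraicGeometry.AlgClosed.Basic

set_option autoImplicit false
set_option backward.isDefEq.respectTransparency.types false
set_option backward.isDefEq.respectTransparency false
set_option linter.style.haveILetI false
universe u
open Mor

namespace Groth.Agent.S10867

open CategoryTheory AlgebraicGeometry in
/-- In the case of an algebraically closed base field k and K = k: let X, Y be k-schemes of finite type
and f : X → Y a proper k-morphism which is injective on closed points and such that for every closed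
point x of X the ideal generated by the image of the maximal ideal of the local ring at f(x),
together with the square of the maximal ideal at x, is the whole maximal ideal at x (the cotangent
map is surjective, i.e. the tangent map at x is injective). Then f is a closed immersion. (The
published statement allows any field k and tests points and tangent spaces with values in an
algebraically closed extension K of k; this row is the case K = k.) -/
theorem result (k : Type u) [Field k] [IsAlgClosed k]
    {X Y : Scheme.{u}} (f : X ⟶ Y) (q : Y ⟶ Spec (CommRingCat.of k)) [LocallyOfFiniteType q] [QuasiCompact q]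
    [LocallyOfFiniteType (f ≫ q)] [IsProper f]
    (hinj : Set.InjOn f.base {x : X | IsClosed ({x} : Set X)})
    (hT : ∀ x : X, IsClosed ({x} : Set X) →
      Ideal.map (f.stalkMap x).hom (IsLocalRing.maximalIdeal (Y.presheaf.stalk (f.base x))) ⊔
        IsLocalRing.maximalIdeal (X.presheaf.stalk x) ^ 2 = IsLocalRing.maximalIdeal (X.presheaf.stalk x)) :
    IsClosedImmersion f := by
  haveI hJX : JacobsonSpace X := LocallyOfFiniteType.jacobsonSpace (f ≫ q)
  haveI hJY : JacobsonSpace Y := LocallyOfFiniteType.jacobsonSpace q
  haveI : IsLocallyNoetherian X := LocallyOfFiniteType.isLocallyNoetherian (f ≫ q)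
  have hloc : ∀ y : Y, IsClosed ({y} : Set Y) → ∃ V : Y.Opens, y ∈ V ∧ IsClosedImmersion (f ∣_ V) := by
    intro y hy
    have hZ : IsClosed (f ⁻¹' {y}) := hy.preimage f.continuous
    have hsub : (f ⁻¹' {y}).Subsingleton := by
      intro a ha b hb
      have hcl : ∀ c ∈ f ⁻¹' {y}, IsClosed ({c} : Set X) := by
        by_contra hcon
        push Not at hcon
        obtain ⟨c, hc, hcc⟩ := hcon
        obtain ⟨x₀, hx₀, hx₀c⟩ := nonempty_inter_closedPoints (Z := f ⁻¹' {y}) ⟨c, hc⟩ hZ.isLocallyClosed
        have hss : (f ⁻¹' {y}) ∩ closedPoints X = {x₀} :=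
          Set.eq_singleton_iff_unique_mem.mpr ⟨⟨hx₀, hx₀c⟩, fun z hz => hinj hz.2 hx₀c (hz.1.trans hx₀.symm)⟩
        have h1 := JacobsonSpace.closure_inter_closedPoints_eq_closure (X := X) hZ.isLocallyClosed
        rw [hss, hZ.closure_eq, (show IsClosed ({x₀} : Set X) from hx₀c).closure_eq] at h1
        have : c = x₀ := by rw [← Set.mem_singleton_iff, h1]; exact hc
        exact hcc (this ▸ hx₀c)
      exact hinj (hcl a ha) (hcl b hb) ((show f a = y from ha).trans (show y = f b from hb.symm))
    refine Groth.L19.ClosedImmNhd.exists_nhd_isClosedImmersion f y hsub ?_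
    rintro x rfl a
    have hxc : IsClosed ({x} : Set X) := by
      convert hZ
      exact (hsub.eq_singleton_of_mem rfl).symm
    have hIeq : IsLocalRing.maximalIdeal (X.presheaf.stalk x) ≤
        (IsLocalRing.maximalIdeal (Y.presheaf.stalk (f x))).map (f.stalkMap x).hom := by
      refine Submodule.le_of_le_smul_of_le_jacobson_bot
        (IsNoetherian.noetherian (IsLocalRing.maximalIdeal (X.presheaf.stalk x)))
        (le_of_eq (IsLocalRing.jacobson_eq_maximalIdeal ⊥ bot_ne_top).symm) ?_
      rw [smul_eq_mul, ← pow_two, hT x hxc]
    have hres : Function.Surjective (f.residueFieldMap x) := by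
      have he := AlgebraicGeometry.SpecMap_residueFieldIsoBase_inv (f ≫ q) x hxc
      let c : CommRingCat.of k ⟶ Y.residueField (f x) :=
        Spec.preimage (Y.fromSpecResidueField (f x) ≫ q)
      have hc : c ≫ f.residueFieldMap x = (residueFieldIsoBase (f ≫ q) x hxc).inv := by
        apply Spec.map_injective
        rw [he, Spec.map_comp, Spec.map_preimage, Scheme.Hom.SpecMap_residueFieldMap_fromSpecResidueField_assoc]
      have h2 := (ConcreteCategory.bijective_of_isIso (residueFieldIsoBase (f ≫ q) x hxc).inv).2
      rw [← hc] at h2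
      intro z
      obtain ⟨w, hw⟩ := h2 z
      exact ⟨c w, hw⟩
    obtain ⟨β, hβ⟩ := hres (X.residue x a)
    obtain ⟨b, rfl⟩ := Y.residue_surjective (f x) β
    refine ⟨b, hIeq ?_⟩
    rw [← IsLocalRing.residue_eq_zero_iff]
    show X.residue x (a - f.stalkMap x b) = 0
    rw [map_sub, sub_eq_zero, ← hβ]
    exact ConcreteCategory.congr_hom (Scheme.residue_residueFieldMap f x) b
  choose V hyV hV using hloc
  let W : Y.Opens := ⨆ y : {y : Y // IsClosed ({y} : Set Y)}, V y.1 y.2
  have hW : W = ⊤ := by
    by_contra hne
    obtain ⟨z, hz, hzc⟩ := nonempty_inter_closedPoints (Z := (W : Set Y)ᶜ) (by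
      rw [Set.nonempty_compl]
      exact fun h => hne (TopologicalSpace.Opens.ext h)) W.isOpen.isClosed_compl.isLocallyClosed
    exact hz (TopologicalSpace.Opens.mem_iSup.mpr ⟨⟨z, hzc⟩, hyV z hzc⟩)
  exact IsZariskiLocalAtTarget.of_iSup_eq_top (P := @IsClosedImmersion) _ hW fun y => hV y.1 y.2

end Groth.Agent.S10867
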