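import Groth.Statements.S10868
import Mathlib.AlgebraicGeometry.ZariskisMainTheorem
import Mathlib.AlgebraicGeometry.QuasiAffine

set_option autoImplicit false
set_option backward.isDefEq.respectTransparency.types false
set_option backward.isDefEq.respectTransparency false
set_option linter.style.haveILetI false
universe u
open Mor

namespace Groth.Agent.S10868

open CategoryTheory AlgebraicGeometry in
/-- f : X → Y is a finite morphism exactly when it is proper and quasi-affine (quasi-compact, with the
inverse image of every affine open subscheme of Y a quasi-affine scheme). -/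
theorem result {X Y : Scheme.{u}} (f : X ⟶ Y) :
    IsFinite f ↔ IsProper f ∧ Mor2.IsQuasiAffine f := by
  constructor
  · intro _
    refine ⟨inferInstance, inferInstance, fun V hV => ?_⟩
    haveI : IsAffine (f ⁻¹ᵁ V : X.Opens).toScheme := hV.preimage f
    infer_instance
  · rintro ⟨hp, hqc, hqa⟩
    haveI := hp
    have haff : IsAffineHom f := ⟨fun V hV => by
      haveI : IsAffine (V : Y.Opens).toScheme := hV
      haveI : Scheme.IsQuasiAffine (f ⁻¹ᵁ V : X.Opens).toScheme := hqa V hV
      let U := (f ⁻¹ᵁ V : X.Opens).toScheme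
      let g : U ⟶ V.toScheme := f ∣_ V
      haveI : IsProper g := IsZariskiLocalAtTarget.restrict hp V
      have hnat : U.toSpecΓ ≫ Spec.map g.appTop ≫ V.toScheme.isoSpec.inv = g := by
        rw [← Scheme.toSpecΓ_naturality_assoc, ← Scheme.isoSpec_hom, Iso.hom_inv_id, Category.comp_id]
      haveI : IsProper (U.toSpecΓ ≫ Spec.map g.appTop ≫ V.toScheme.isoSpec.inv) := by
        rw [hnat]; infer_instance
      haveI : IsProper U.toSpecΓ := IsProper.of_comp U.toSpecΓ (Spec.map g.appTop ≫ V.toScheme.isoSpec.inv)
      haveI : Surjective U.toSpecΓ := ⟨Set.range_eq_univ.mp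
        (U.toSpecΓ.denseRange.closure_range ▸ U.toSpecΓ.isClosedMap.isClosed_range.closure_eq.symm)⟩
      haveI : IsIso U.toSpecΓ :=
        (isIso_iff_isOpenImmersion_and_surjective _).mpr ⟨inferInstance, inferInstance⟩
      exact IsAffine.of_isIso U.toSpecΓ⟩
    exact (IsFinite.iff_isProper_and_isAffineHom).mpr ⟨hp, haff⟩

end Groth.Agent.S10868
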