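import Groth.Statements.S10869
import Groth.Agent.L13.PairBlow.Local
import Groth.Agent.L13.PointBlow.Base
import Groth.Agent.L19.LimMod.Generated
import Groth.Agent.L16.QcqsPush

set_option autoImplicit false
universe u
open Coh

set_option backward.isDefEq.respectTransparency.types false
namespace Groth.Agent.S10869

open CategoryTheory AlgebraicGeometry in
/-- For f : X → S quasi-compact and quasi-separated and F a quasi-coherent O_X-module, the counit
f^*f_*F → F is an epimorphism iff F is a quotient of f^*G for some quasi-coherent O_S-module G, iff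
the restriction of F to the inverse image of every affine open of S is globally generated. -/
theorem result {X S : Scheme.{u}} (f : X ⟶ S) [QuasiCompact f] [QuasiSeparated f]
    (F : X.Modules) (hF : Coh.IsQCoh F) :
    (Epi ((Scheme.Modules.pullbackPushforwardAdjunction f).counit.app F) ↔
      ∃ G : S.Modules, Coh.IsQCoh G ∧ ∃ φ : (Scheme.Modules.pullback f).obj G ⟶ F, Epi φ) ∧
    (Epi ((Scheme.Modules.pullbackPushforwardAdjunction f).counit.app F) ↔
      ∀ U : S.Opens, IsAffineOpen U → Curv2.IsGloballyGenerated (F.restrict (f ⁻¹ᵁ U).ι)) := by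
  haveI : Coh.IsQCoh F := hF
  let ε := (Scheme.Modules.pullbackPushforwardAdjunction f).counit.app F
  refine ⟨⟨fun h => ?_, fun ⟨G, hG, φ, hφ⟩ => ?_⟩, ⟨fun h U hU => ?_, fun h => ?_⟩⟩
  · exact ⟨_, Groth.L16.QcqsPush.isQCoh_push F f, ε, h⟩
  · haveI := hφ
    exact Groth.L19.LimMod.epi_counit_of_epi f φ
  · haveI : Coh.IsQCoh ((Scheme.Modules.pushforward f).obj F) := Groth.L16.QcqsPush.isQCoh_push F f
    haveI := h
    let j := Groth.L13.PointBlow.preι f ⟨U, hU⟩
    have h1 := Groth.L13.PointBlow.gg_restrict_pullback f ⟨U, hU⟩ ((Scheme.Modules.pushforward f).obj F)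
    haveI : Epi ((Scheme.Modules.restrictFunctor j).map ε) :=
      (Scheme.Modules.restrictFunctor j).preservesEpimorphisms_of_adjunction
        (Scheme.Modules.restrictAdjunction j) |>.preserves ε
    have h2 : Curv2.IsGloballyGenerated (F.restrict j) :=
      Groth.L13.PointBlow.gg_of_epi ((Scheme.Modules.restrictFunctor j).map ε) h1
    let e := IsOpenImmersion.isoOfRangeEq j (f ⁻¹ᵁ U).ι (by
      have h3 := congrArg (fun V : X.Opens => (V : Set X))
        ((Groth.L13.PointBlow.opensRange_preι f ⟨U, hU⟩).trans (f ⁻¹ᵁ U).opensRange_ι.symm)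
      exact h3)
    refine Groth.L18.Ample.isGloballyGenerated_of_iso ?_ (Groth.L13.PointBlow.gg_pullback e.inv h2)
    exact (Scheme.Modules.pullback e.inv).mapIso ((Scheme.Modules.restrictFunctorIsoPullback j).app F) ≪≫
      (Scheme.Modules.pullbackComp e.inv j).app F ≪≫
      (Scheme.Modules.pullbackCongr (IsOpenImmersion.isoOfRangeEq_inv_fac _ _ _)).app F ≪≫
      ((Scheme.Modules.restrictFunctorIsoPullback (f ⁻¹ᵁ U).ι).app F).symm
  · refine Groth.L13.PairBlow.epi_counit_of_cover F fun x => ?_
    obtain ⟨_, ⟨U, hU, rfl⟩, hxU, -⟩ :=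
      S.isBasis_affineOpens.exists_subset_of_mem_open (Set.mem_univ (f x)) isOpen_univ
    exact ⟨_, (f ⁻¹ᵁ U).ι, inferInstance, U, by rw [Scheme.Opens.opensRange_ι]; exact hxU,
      (f ⁻¹ᵁ U).opensRange_ι, h U hU⟩

end Groth.Agent.S10869
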