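import Groth.Statements.S10872
import Groth.Agent.L24.SB.Forms

set_option autoImplicit false
set_option backward.isDefEq.respectTransparency.types false
universe u
open CategoryTheory AlgebraicGeometry
open Variety

namespace Groth.Agent.S10872

/-- A Brauer–Severi scheme X over a field k (some base change X_K to a field extension K of k is
K-isomorphic to a projective space P^n_K) is smooth over k, geometrically integral over k, and
projective over k, i.e. admits a closed immersion into some P^N_k compatible with the structure
morphisms. -/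
theorem result (k : Type u) [Field k] {X : Scheme.{u}}
    (p : X ⟶ Spec (CommRingCat.of k)) (hX : W4bk4gw11416.IsBrauerSeveri p) :
    Smooth p ∧ GeometricallyIntegral p ∧
      ∃ (N : ℕ) (i : X ⟶ CohB1.ProjSpace N k), IsClosedImmersion i ∧ i ≫ CohB1.ProjSpace.toSpec N k = p := by
  obtain ⟨K, _, _, n, b, hb⟩ := hX
  obtain ⟨L, _, _, eL, d, M, hd, hM, hMt⟩ := Groth.L24.SB.exists_positive_line p (K := K) (n := n) ⟨b, hb⟩
  haveI := Groth.L24.SB.isProper_of_splitting p eL
  obtain ⟨N, ρ, -, hρ, hρp, -⟩ := Groth.L24.SB.exists_embedding p eL M hM hd hMt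
  exact ⟨Groth.L24.SB.smooth_of_splitting p eL, Groth.L24.SB.geometricallyIntegral_of_splitting p eL,
    N, ρ, hρ, hρp⟩

end Groth.Agent.S10872
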