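import Groth.Statements.S10873
import Groth.Agent.L24.SB.RatPoint

set_option autoImplicit false
set_option backward.isDefEq.respectTransparency.types false
universe u
open CategoryTheory AlgebraicGeometry
open Variety

namespace Groth.Agent.S10873

/-- A Brauer–Severi scheme X over a field k which has a k-rational point is k-isomorphic to a projective
space P^n_k. (The converse direction of the printed equivalence, that P^n_k has a rational point, is
not stated here.) -/
theorem result (k : Type u) [Field k] {X : Scheme.{u}}
    (p : X ⟶ Spec (CommRingCat.of k)) (hX : W4bk4gw11416.IsBrauerSeveri p)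
    (s : Spec (CommRingCat.of k) ⟶ X) (hs : s ≫ p = 𝟙 (Spec (CommRingCat.of k))) :
    ∃ n : ℕ, W4bk4gw11416.IsProjSpaceOver p n := by
  obtain ⟨K, _, _, n, b, hb⟩ := hX
  obtain ⟨e⟩ := Groth.L24.SB.nonempty_splitting_of_point p s hs (K := K) (n := n) ⟨b, hb⟩
  haveI : IsIso (Spec.map (CommRingCat.ofHom (algebraMap k k))) := by
    rw [Algebra.algebraMap_self, CommRingCat.ofHom_id, Spec.map_id]
    infer_instance
  have hid : Spec.map (CommRingCat.ofHom (algebraMap k k)) = 𝟙 _ := by
    rw [Algebra.algebraMap_self, CommRingCat.ofHom_id, Spec.map_id]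
  haveI : IsIso (BrSev.proj p k) :=
    inferInstanceAs (IsIso (Limits.pullback.fst p (Spec.map (CommRingCat.ofHom (algebraMap k k)))))
  refine ⟨n, (asIso (BrSev.proj p k)).symm ≪≫ e.iso, ?_⟩
  rw [Iso.trans_hom, Iso.symm_hom, Category.assoc, e.comm, asIso_inv, IsIso.inv_comp_eq]
  exact ((congrArg (fun x => BrSev.bcTo p k ≫ x) hid).trans (Category.comp_id _)).symm.trans (Limits.pullback.condition).symm

end Groth.Agent.S10873
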