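import Groth.Statements.S10875
import Groth.Agent.L06.ProjEmbed.Main

set_option autoImplicit false
set_option maxSynthPendingDepth 3
set_option linter.style.haveILetI false
universe u
open CategoryTheory AlgebraicGeometry
open Variety

namespace Groth.Agent.S10875

/-- Over an infinite field k, a smooth projective k-scheme X of dimension d admits a closed immersion
into projective (2d+1)-space over k, compatible with the structure morphisms to Spec k. -/
theorem result (k : Type u) [Field k] [Infinite k]
    {X : Scheme.{u}} (p : X ⟶ Spec (CommRingCat.of k)) [Smooth p]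
    (hproj : ∃ (N : ℕ) (i : X ⟶ CohB1.ProjSpace N k), IsClosedImmersion i ∧ i ≫ CohB1.ProjSpace.toSpec N k = p)
    (d : ℕ) (hd : topologicalKrullDim X = d) :
    ∃ i : X ⟶ CohB1.ProjSpace (2 * d + 1) k,
      IsClosedImmersion i ∧ i ≫ CohB1.ProjSpace.toSpec (2 * d + 1) k = p := by
  obtain ⟨N, ι, hι, hp⟩ := hproj
  haveI := hι
  exact Groth.L06.ProjEmbed.exists_closedImmersion p ι hp d hd

end Groth.Agent.S10875
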