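import Groth.Statements.S12419
import Groth.Agent.L01.NilDescent
import Mathlib.RingTheory.Jacobson.Ideal
import Mathlib.RingTheory.LocalRing.RingHom.Basic

set_option autoImplicit false
universe u
open TensorProduct
open CAlg

namespace Groth.Agent.S12419

/-- Let A → B be a local homomorphism of Noetherian local rings, m the maximal ideal of A, and φ : A →
A' a ring homomorphism to a semi-local Noetherian ring A' with Jacobson radical r', such that
φ⁻¹(r') = m and such that every power m^n contains φ⁻¹(r'^N) for some N. Then B is flat over A if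
and only if A' ⊗_A B is flat over A'. (Given φ⁻¹(r') = m, the condition on powers says that the
m-adic topology of A is induced by the r'-adic topology of A', equivalently that the induced
homomorphism of adic completions is injective, which is how the published statement phrases this
hypothesis.) -/
theorem result (A B A' : Type u) [CommRing A] [CommRing B]
    [CommRing A'] [IsNoetherianRing A] [IsLocalRing A] [IsNoetherianRing B] [IsLocalRing B]
    [Algebra A B] [IsLocalHom (algebraMap A B)] [IsNoetherianRing A'] [Finite (MaximalSpectrum A')]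
    [Algebra A A']
    (hrad : (Ideal.jacobson (⊥ : Ideal A')).comap (algebraMap A A') = IsLocalRing.maximalIdeal A)
    (htop : ∀ n : ℕ, ∃ N : ℕ,
      ((Ideal.jacobson (⊥ : Ideal A')) ^ N).comap (algebraMap A A') ≤ (IsLocalRing.maximalIdeal A) ^ n) :
    Module.Flat A B ↔ Module.Flat A' (A' ⊗[A] B) := by
  classical
  constructor
  · intro h
    infer_instance
  · intro h
    set m := IsLocalRing.maximalIdeal A with hm
    refine Groth.L01.NilDescent.flat_of_flat_quotient_pow m ?_ fun n hn => ?_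
    · rw [IsLocalRing.jacobson_eq_maximalIdeal ⊥ bot_ne_top, Ideal.map_le_iff_le_comap]
      intro a ha
      exact map_nonunit (algebraMap A B) a ha
    obtain ⟨N, hN⟩ := htop n
    set r := (⊥ : Ideal A').jacobson with hr
    let 𝔞 : Ideal A := (r ^ N).comap (algebraMap A A')
    have hne : 𝔞 ≤ m := hN.trans (Ideal.pow_le_self hn.ne')
    have hmN : m ^ N ≤ 𝔞 := by
      rw [← Ideal.map_le_iff_le_comap, Ideal.map_pow]
      exact Ideal.pow_right_mono (Ideal.map_le_iff_le_comap.mpr hrad.ge) N
    letI : Algebra (A ⧸ 𝔞) (A' ⧸ r ^ N) := (Ideal.quotientMap (r ^ N) (algebraMap A A') le_rfl).toAlgebra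
    haveI : IsScalarTower A (A ⧸ 𝔞) (A' ⧸ r ^ N) := IsScalarTower.of_algebraMap_eq fun a => rfl
    haveI hmax : (m.map (Ideal.Quotient.mk 𝔞)).IsMaximal :=
      Ideal.IsMaximal.map_of_surjective_of_ker_le Ideal.Quotient.mk_surjective (by rw [Ideal.mk_ker]; exact hne)
    have hnil : IsNilpotent (m.map (Ideal.Quotient.mk 𝔞)) :=
      ⟨N, by rw [← Ideal.map_pow, Submodule.zero_eq_bot, Ideal.map_eq_bot_iff_le_ker, Ideal.mk_ker]; exact hmN⟩
    haveI : Module.Flat (A' ⧸ r ^ N) ((A' ⧸ r ^ N) ⊗[A ⧸ 𝔞] ((A ⧸ 𝔞) ⊗[A] B)) :=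
      Module.Flat.of_linearEquiv
        ((TensorProduct.AlgebraTensorModule.cancelBaseChange A (A ⧸ 𝔞) (A' ⧸ r ^ N) (A' ⧸ r ^ N) B).trans
          (TensorProduct.AlgebraTensorModule.cancelBaseChange A A' (A' ⧸ r ^ N) (A' ⧸ r ^ N) B).symm)
    haveI : Module.Free (A ⧸ 𝔞) ((A ⧸ 𝔞) ⊗[A] B) :=
      Groth.L01.NilDescent.free_of_flat_baseChange _ hnil (A' ⧸ r ^ N) Ideal.quotientMap_injective _
    letI : Algebra (A ⧸ 𝔞) (A ⧸ m ^ n) := (Ideal.Quotient.factor hN).toAlgebra
    haveI : IsScalarTower A (A ⧸ 𝔞) (A ⧸ m ^ n) := IsScalarTower.of_algebraMap_eq fun a => rfl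
    exact Module.Flat.of_linearEquiv
      (TensorProduct.AlgebraTensorModule.cancelBaseChange A (A ⧸ 𝔞) (A ⧸ m ^ n) (A ⧸ m ^ n) B).symm

end Groth.Agent.S12419
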