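import Groth.Statements.S10876
import Groth.Agent.S12419
import Mathlib.RingTheory.Artinian.Module
import Mathlib.RingTheory.Ideal.GoingUp

set_option autoImplicit false
universe u
open TensorProduct
open CAlg

namespace Groth.Agent.S10876

/-- Descent of flatness along finite injective maps: let A → B be a local homomorphism of Noetherian
local rings and A → A' an injective ring homomorphism making A' a finite A-module. Then B is A-flat
if and only if the base change A' ⊗_A B is A'-flat. -/
theorem result (A B A' : Type u) [CommRing A] [CommRing B]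
    [CommRing A'] [IsNoetherianRing A] [IsLocalRing A] [IsNoetherianRing B] [IsLocalRing B]
    [Algebra A B] [IsLocalHom (algebraMap A B)] [Algebra A A'] [Module.Finite A A']
    (hinj : Function.Injective (algebraMap A A')) :
    Module.Flat A B ↔ Module.Flat A' (A' ⊗[A] B) := by
  classical
  haveI : IsNoetherianRing A' := isNoetherian_of_tower A inferInstance
  haveI : Nontrivial A' := hinj.nontrivial
  set m := IsLocalRing.maximalIdeal A with hm
  have hcomap : ∀ P : Ideal A', P.IsMaximal → P.comap (algebraMap A A') = m := fun P hP =>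
    IsLocalRing.eq_maximalIdeal (Ideal.isMaximal_comap_of_isIntegral_of_isMaximal P)
  have hle : ∀ P : MaximalSpectrum A', m.map (algebraMap A A') ≤ P.asIdeal := fun P =>
    Ideal.map_le_iff_le_comap.mpr (hcomap _ P.isMaximal).ge
  haveI : IsArtinianRing (A' ⧸ m.map (algebraMap A A')) := by
    letI := Ideal.Quotient.field m
    haveI : Module.Finite (A ⧸ m) (A' ⧸ m.map (algebraMap A A')) := Module.Finite.of_restrictScalars_finite A _ _
    exact IsArtinianRing.of_finite (A ⧸ m) _
  haveI : Finite (MaximalSpectrum A') := by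
    let F : MaximalSpectrum A' → MaximalSpectrum (A' ⧸ m.map (algebraMap A A')) := fun P =>
      haveI := P.isMaximal
      ⟨P.asIdeal.map (Ideal.Quotient.mk _),
        Ideal.IsMaximal.map_of_surjective_of_ker_le Ideal.Quotient.mk_surjective (by rw [Ideal.mk_ker]; exact hle P)⟩
    refine Finite.of_injective F fun P Q h => ?_
    have h' := congrArg (fun X => X.asIdeal.comap (Ideal.Quotient.mk (m.map (algebraMap A A')))) h
    simp only [F, Ideal.comap_map_of_surjective' _ Ideal.Quotient.mk_surjective, Ideal.mk_ker] at h'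
    rw [sup_eq_left.mpr (hle P), sup_eq_left.mpr (hle Q)] at h'
    exact MaximalSpectrum.ext h'
  have hmr : m.map (algebraMap A A') ≤ (⊥ : Ideal A').jacobson :=
    le_sInf fun P hP => hle ⟨P, hP.2⟩
  have hrad : (Ideal.jacobson (⊥ : Ideal A')).comap (algebraMap A A') = m := by
    refine le_antisymm (IsLocalRing.le_maximalIdeal ?_) (Ideal.map_le_iff_le_comap.mp hmr)
    rw [Ne, Ideal.comap_eq_top_iff, Ideal.jacobson_eq_top_iff]
    exact bot_ne_top
  refine Groth.Agent.S12419.result A B A' hrad fun n => ?_
  obtain ⟨k, hk⟩ : ∃ k, (⊥ : Ideal A').jacobson ^ k ≤ m.map (algebraMap A A') := by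
    obtain ⟨k, hk⟩ := IsArtinianRing.isNilpotent_jacobson_bot (R := A' ⧸ m.map (algebraMap A A'))
    refine ⟨k, ?_⟩
    rw [← Ideal.mk_ker (I := m.map (algebraMap A A')), ← Ideal.map_eq_bot_iff_le_ker, Ideal.map_pow, eq_bot_iff]
    refine (Ideal.pow_right_mono (?_ : _ ≤ (⊥ : Ideal (A' ⧸ m.map (algebraMap A A'))).jacobson) k).trans_eq hk
    refine le_sInf fun Q hQ => Ideal.map_le_iff_le_comap.mpr (sInf_le ⟨bot_le, ?_⟩)
    haveI := hQ.2
    exact Ideal.comap_isMaximal_of_surjective _ Ideal.Quotient.mk_surjective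
  obtain ⟨c, hc⟩ := m.exists_pow_inf_eq_pow_smul (LinearMap.range (Algebra.linearMap A A'))
  refine ⟨k * (n + c), fun a ha => ?_⟩
  have h1 : algebraMap A A' a ∈ m ^ (n + c) • (⊤ : Submodule A A') ⊓ LinearMap.range (Algebra.linearMap A A') := by
    refine ⟨?_, ⟨a, rfl⟩⟩
    rw [SetLike.mem_coe, Ideal.smul_top_eq_map, Submodule.restrictScalars_mem, Ideal.map_pow]
    exact Ideal.pow_right_mono hk (n + c) (pow_mul (⊥ : Ideal A').jacobson k (n + c) ▸ ha)
  rw [hc _ (Nat.le_add_left c n), Nat.add_sub_cancel] at h1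
  have h2 : algebraMap A A' a ∈ Submodule.map (Algebra.linearMap A A') (m ^ n • ⊤) := by
    rw [Submodule.map_smul'', Submodule.map_top]
    exact Submodule.smul_mono le_rfl inf_le_right h1
  obtain ⟨b, hb, hba⟩ := h2
  rw [smul_eq_mul, Ideal.mul_top] at hb
  rwa [← hinj hba]

end Groth.Agent.S10876
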