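import Groth.Prelude
import Mathlib.AlgebraicGeometry.Morphisms.UniversallyOpen
import Mathlib.AlgebraicGeometry.Morphisms.Separated
import Mathlib.AlgebraicGeometry.Morphisms.Flat
import Mathlib.AlgebraicGeometry.FunctionField
import Mathlib.RingTheory.Flat.FaithfullyFlat.Algebra

set_option autoImplicit false
universe u
open CategoryTheory AlgebraicGeometry
open FlatMor

namespace Groth.Agent.S10879

variable {X' X : Scheme.{u}}

/-- A surjective morphism maps the generic point to the generic point. -/
theorem map_genericPoint [IrreducibleSpace X'] [IrreducibleSpace X] (f : X' ⟶ X) [Surjective f] :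
    f (genericPoint X') = genericPoint X := by
  obtain ⟨z, hz⟩ := f.surjective (genericPoint X)
  have h1 : f (genericPoint X') ⤳ genericPoint X := by
    rw [← hz]
    exact ((genericPoint_spec X').specializes trivial).map f.continuous
  exact (h1.antisymm ((genericPoint_spec X).specializes trivial)).eq

theorem stalkSpecializes_injective [IsIntegral X] {y z : X} (h : z ⤳ y) :
    Function.Injective (X.presheaf.stalkSpecializes h) := by
  have hz : genericPoint X ⤳ z := (genericPoint_spec X).specializes trivial
  have h3 : Function.Injective (algebraMap (X.presheaf.stalk y) X.functionField) :=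
    IsFractionRing.injective _ _
  rw [RingHom.algebraMap_toAlgebra,
    ← X.presheaf.stalkSpecializes_comp hz h, CommRingCat.hom_comp, RingHom.coe_comp] at h3
  exact h3.of_comp

/-- The stalk maps are bijective. -/
theorem stalkMap_bijective [IsIntegral X'] [IsIntegral X] (f : X' ⟶ X) [Surjective f] [Flat f]
    (hK : IsIso (f.stalkMap (genericPoint X'))) (x : X') :
    Function.Bijective (f.stalkMap x) := by
  have hη : genericPoint X' ⤳ x := (genericPoint_spec X').specializes trivial
  let η := genericPoint X'
  have key : ∀ a, (X'.presheaf.stalkSpecializes hη) (f.stalkMap x a) =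
      f.stalkMap η (X.presheaf.stalkSpecializes (f.base.hom.map_specializes hη) a) :=
    fun a => (f.stalkSpecializes_stalkMap_apply η x hη a).symm
  have hbij : Function.Bijective (f.stalkMap η) :=
    ConcreteCategory.bijective_of_isIso (f.stalkMap η)
  have hinj : Function.Injective (f.stalkMap x) := by
    intro a b hab
    have := congrArg (X'.presheaf.stalkSpecializes hη) hab
    rw [key, key] at this
    exact stalkSpecializes_injective _ (hbij.1 this)
  refine ⟨hinj, fun s => ?_⟩
  obtain ⟨k, hk⟩ := hbij.2 (X'.presheaf.stalkSpecializes hη s)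
  -- `k` as an element of the function field of `X`
  have hgen : genericPoint X ⤳ f η := (genericPoint_spec X).specializes trivial
  obtain ⟨a, b, hb, hab⟩ := IsFractionRing.div_surjective (A := X.presheaf.stalk (f x))
    (X.presheaf.stalkSpecializes hgen k : X.functionField)
  have hb0 : b ≠ 0 := nonZeroDivisors.ne_zero hb
  have hbK : algebraMap (X.presheaf.stalk (f x)) X.functionField b ≠ 0 :=
    fun h0 => hb0 (IsFractionRing.injective _ _ (by rw [h0, map_zero]))
  have hk' : k * X.presheaf.stalkSpecializes (f.base.hom.map_specializes hη) b =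
      X.presheaf.stalkSpecializes (f.base.hom.map_specializes hη) a := by
    apply stalkSpecializes_injective hgen
    rw [map_mul, ← ConcreteCategory.comp_apply, ← ConcreteCategory.comp_apply,
      TopCat.Presheaf.stalkSpecializes_comp]
    have := hab
    rw [eq_comm, eq_div_iff hbK] at this
    exact this
  have hs : s * f.stalkMap x b = f.stalkMap x a := by
    apply stalkSpecializes_injective hη
    rw [map_mul, key, key, ← hk, ← map_mul, hk']
  -- faithful flatness
  algebraize [(f.stalkMap x).hom]
  have : Module.Flat (X.presheaf.stalk (f x)) (X'.presheaf.stalk x) := Flat.stalkMap f x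
  have : IsLocalHom (algebraMap (X.presheaf.stalk (f x)) (X'.presheaf.stalk x)) :=
    inferInstanceAs (IsLocalHom (f.stalkMap x).hom)
  have : Module.FaithfullyFlat (X.presheaf.stalk (f x)) (X'.presheaf.stalk x) :=
    Module.FaithfullyFlat.of_flat_of_isLocalHom
  have ha : a ∈ ((Ideal.span {b}).map (algebraMap (X.presheaf.stalk (f x))
      (X'.presheaf.stalk x))).comap (algebraMap _ _) := by
    rw [Ideal.mem_comap, Ideal.map_span, Set.image_singleton, Ideal.mem_span_singleton']
    exact ⟨s, hs⟩
  rw [Ideal.comap_map_eq_self_of_faithfullyFlat, Ideal.mem_span_singleton'] at ha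
  obtain ⟨r, hr⟩ := ha
  refine ⟨r, ?_⟩
  have hfb : f.stalkMap x b ≠ 0 := fun h0 => hb0 (hinj (by rw [h0, map_zero]))
  apply mul_right_cancel₀ hfb
  rw [← map_mul, hr, hs]

/-- The morphisms from the local schemes of `X` into `X'` given by the points of a fibre. -/
theorem exists_lift [IsIntegral X'] [IsIntegral X] (f : X' ⟶ X)
    (hbij : ∀ x, Function.Bijective (f.stalkMap x)) (x : X') {y : X} (hx : f x = y)
    (hy : f (genericPoint X') ⤳ y) :
    ∃ g : Spec (X.presheaf.stalk y) ⟶ X', g (IsLocalRing.closedPoint _) = x ∧
      g ≫ f = X.fromSpecStalk y ∧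
      Spec.map (X.presheaf.stalkSpecializes hy ≫ f.stalkMap (genericPoint X')) ≫ g =
        X'.fromSpecStalk (genericPoint X') := by
  subst hx
  have : IsIso (f.stalkMap x) := (ConcreteCategory.isIso_iff_bijective _).mpr (hbij x)
  have hη : genericPoint X' ⤳ x := (genericPoint_spec X').specializes trivial
  refine ⟨Spec.map (inv (f.stalkMap x)) ≫ X'.fromSpecStalk x, ?_, ?_, ?_⟩
  · rw [Scheme.Hom.comp_apply]
    have : (Spec.map (inv (f.stalkMap x))) (IsLocalRing.closedPoint (X.presheaf.stalk (f x))) =
        IsLocalRing.closedPoint _ := IsLocalRing.comap_closedPoint (inv (f.stalkMap x)).hom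
    rw [this, Scheme.fromSpecStalk_closedPoint]
  · rw [Category.assoc, ← Scheme.SpecMap_stalkMap_fromSpecStalk, ← Spec.map_comp_assoc,
      IsIso.hom_inv_id, Spec.map_id, Category.id_comp]
  · rw [f.stalkSpecializes_stalkMap _ _ hη, ← Spec.map_comp_assoc]
    simp

theorem injective_of_stalkMap [IsIntegral X'] [IsIntegral X] (f : X' ⟶ X) [IsSeparated f]
    [Surjective f] (hbij : ∀ x, Function.Bijective (f.stalkMap x)) : Function.Injective f := by
  intro x x' hxx
  have hy : f (genericPoint X') ⤳ f x' :=
    f.base.hom.map_specializes ((genericPoint_spec X').specializes trivial)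
  obtain ⟨g, hg, hgf, hgι⟩ := exists_lift f hbij x hxx hy
  obtain ⟨g', hg', hgf', hgι'⟩ := exists_lift f hbij x' rfl hy
  let φ := X.presheaf.stalkSpecializes hy ≫ f.stalkMap (genericPoint X')
  have hφ : Function.Injective φ := by
    simp only [φ, CommRingCat.hom_comp, RingHom.coe_comp]
    exact (hbij _).1.comp (stalkSpecializes_injective hy)
  have : IsDominant (Spec.map φ) := by
    constructor
    refine (PrimeSpectrum.denseRange_comap_iff_ker_le_nilRadical _).mpr ?_
    rw [(RingHom.injective_iff_ker_eq_bot φ.hom).mp hφ]
    exact bot_le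
  have : IsReduced (Spec (X.presheaf.stalk (f x'))) := inferInstance
  have e : g = g' := ext_of_isDominant_of_isSeparated f (hgf.trans hgf'.symm) (Spec.map φ)
    (hgι.trans hgι'.symm)
  subst e; exact hg.symm.trans hg'

/-- Take integral schemes X' and X and a separated surjective morphism f : X' → X which is birational in
the sense that the induced map of function fields (the stalk map of f at the generic point of X') is
an isomorphism, and suppose f is affine (e.g. a normalization) or locally of finite presentation
(e.g. a blow-up of a Noetherian integral scheme). Then f is flat exactly when it is an isomorphism. -/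
theorem result {X' X : Scheme.{u}} [IsIntegral X'] [IsIntegral X]
    (f : X' ⟶ X) [Surjective f] [IsSeparated f] (hK : IsIso (f.stalkMap (genericPoint X')))
    (h : IsAffineHom f ∨ LocallyOfFinitePresentation f) :
    Flat f ↔ IsIso f := by
  refine ⟨fun _ => ?_, fun _ => inferInstance⟩
  have hbij := stalkMap_bijective f hK
  have hb : Function.Bijective f := ⟨injective_of_stalkMap f hbij, f.surjective⟩
  have hhomeo : IsHomeomorph f := by
    rcases h with h | h
    · have hq := Flat.isQuotientMap_of_surjective f
      refine ⟨f.continuous, fun U hU => ?_, hb⟩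
      rw [← hq.isOpen_preimage, Set.preimage_image_eq _ hb.1]
      exact hU
    · exact ⟨f.continuous, f.isOpenMap, hb⟩
  rw [isIso_iff_isIso_stalkMap]
  exact ⟨(TopCat.isIso_iff_isHomeomorph f.base).mpr hhomeo,
    fun x => (ConcreteCategory.isIso_iff_bijective _).mpr (hbij x)⟩

end Groth.Agent.S10879
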