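import Groth.Statements.S10880
import Mathlib.AlgebraicGeometry.Morphisms.Flat
import Mathlib.AlgebraicGeometry.Morphisms.ClosedImmersion
import Mathlib.AlgebraicGeometry.ResidueField
import Mathlib.RingTheory.Filtration
import Mathlib.RingTheory.Flat.TorsionFree
import Mathlib.RingTheory.TensorProduct.Quotient
import Mathlib.RingTheory.Ideal.MinimalPrime.Noetherian
import Mathlib.RingTheory.DiscreteValuationRing.Basic
import Mathlib.AlgebraicGeometry.FunctionField
set_option backward.isDefEq.respectTransparency false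


set_option autoImplicit false
universe u
open CategoryTheory CategoryTheory.Limits AlgebraicGeometry
open FlatMor

namespace Groth.Agent.S10880

theorem eq_zero_of_mul_eq_zero {A : Type u} [CommRing A] [IsNoetherianRing A] (t : A)
    [IsReduced (A ⧸ Ideal.span {t})] (hmin : ∀ P ∈ minimalPrimes A, t ∉ P) {z : A} (hz : t * z = 0) : z = 0 := by
  classical
  have hrad : (Ideal.span {t}).IsRadical := (Ideal.isRadical_iff_quotient_reduced _).2 inferInstance
  have step : ∀ (n : ℕ) (w : A), t ^ (n + 1) * w = 0 → w ∈ Ideal.span {t} := by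
    intro n w hw
    rw [← hrad.radical, ← Ideal.sInf_minimalPrimes, Submodule.mem_sInf]
    intro (Q : Ideal A) hQ
    haveI hQp : Q.IsPrime := hQ.1.1
    have htQ : t ∈ Q := hQ.1.2 (Ideal.mem_span_singleton_self t)
    let B := Localization.AtPrime Q
    let t' : B := algebraMap A B t
    have hmax : IsLocalRing.maximalIdeal B = Ideal.span {t'} := by
      refine le_antisymm ?_ ((Ideal.span_singleton_le_iff_mem _).2
        ((IsLocalization.AtPrime.to_map_mem_maximal_iff B Q t).2 htQ))
      have hprime : ∀ P' : Ideal B, P'.IsPrime → Ideal.span {t'} ≤ P' → IsLocalRing.maximalIdeal B ≤ P' := by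
        intro P' hP' hle
        haveI := hP'
        have h1 : P'.comap (algebraMap A B) ≤ Q := fun a ha =>
          (IsLocalization.AtPrime.to_map_mem_maximal_iff B Q a).1 (IsLocalRing.le_maximalIdeal hP'.ne_top ha)
        have h2 : Q ≤ P'.comap (algebraMap A B) := hQ.2 ⟨inferInstance, (Ideal.span_singleton_le_iff_mem _).2
          (hle (Ideal.mem_span_singleton_self t'))⟩ h1
        rw [← IsLocalization.AtPrime.map_eq_maximalIdeal Q B]
        exact Ideal.map_le_iff_le_comap.2 h2
      rw [← IsLocalization.AtPrime.map_eq_maximalIdeal Q B, Ideal.map_le_iff_le_comap]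
      intro y hy
      have hy' : algebraMap A B y ∈ (Ideal.span {t'}).radical := by
        rw [Ideal.radical_eq_sInf, Submodule.mem_sInf]
        intro P' hP'
        exact hprime P' hP'.2 hP'.1 ((IsLocalization.AtPrime.to_map_mem_maximal_iff B Q y).2 hy)
      obtain ⟨k, hk⟩ := hy'
      rw [← Set.image_singleton, ← Ideal.map_span, ← map_pow,
        IsLocalization.mem_map_algebraMap_iff Q.primeCompl] at hk
      obtain ⟨⟨⟨a, ha⟩, s⟩, hs⟩ := hk
      rw [← map_mul, IsLocalization.eq_iff_exists Q.primeCompl] at hs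
      obtain ⟨c, hc⟩ := hs
      have hcs : ((c : A) * (s : A)) * y ∈ Ideal.span {t} := by
        refine hrad ⟨k + 1, ?_⟩
        have : ((c : A) * (s : A) * y) ^ (k + 1) = ((c : A) * (s : A)) ^ k * y * ((c : A) * (y ^ k * (s : A))) := by
          ring
        rw [this, hc]
        exact Ideal.mul_mem_left _ _ (Ideal.mul_mem_left _ _ ha)
      obtain ⟨d, hd⟩ := Ideal.mem_span_singleton'.1 hcs
      rw [Ideal.mem_comap, Ideal.mem_span_singleton']
      refine ⟨algebraMap A B d * IsLocalization.mk' B 1 (c * s), ?_⟩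
      rw [mul_comm (algebraMap A B d), mul_assoc, ← map_mul, hd, map_mul, ← mul_assoc,
        show IsLocalization.mk' B (1 : A) (c * s) * algebraMap A B ((c : A) * (s : A)) = algebraMap A B 1 from
          IsLocalization.mk'_spec B 1 (c * s), map_one, one_mul]
    have hnil : ∀ k : ℕ, t' ^ k ≠ 0 := by
      intro k hk
      rw [← map_pow, IsLocalization.map_eq_zero_iff Q.primeCompl] at hk
      obtain ⟨s, hs⟩ := hk
      obtain ⟨P, hP, hPQ⟩ := Ideal.exists_minimalPrimes_le (show (⊥ : Ideal A) ≤ Q from bot_le)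
      haveI : P.IsPrime := hP.1.1
      rcases Ideal.IsPrime.mem_or_mem ‹_› (show (s : A) * t ^ k ∈ P by rw [hs]; exact P.zero_mem) with h | h
      · exact s.2 (hPQ h)
      · exact hmin P hP (Ideal.IsPrime.mem_of_pow_mem ‹_› k h)
    have hw' : t' ^ (n + 1) * algebraMap A B w = 0 := by rw [← map_pow, ← map_mul, hw, map_zero]
    have hall : ∀ k : ℕ, algebraMap A B w ∈ IsLocalRing.maximalIdeal B ^ k := by
      intro k
      induction k with
      | zero => simp
      | succ k ih =>
        rw [hmax, Ideal.span_singleton_pow] at ih ⊢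
        obtain ⟨u, hu⟩ := Ideal.mem_span_singleton'.1 ih
        have hu' : u ∈ IsLocalRing.maximalIdeal B := by
          intro hunit
          refine hnil (n + 1 + k) ((hunit.mul_left_eq_zero).1 ?_)
          rw [pow_add, mul_assoc, mul_comm (t' ^ k) u, hu, hw']
        rw [hmax] at hu'
        obtain ⟨v, hv⟩ := Ideal.mem_span_singleton'.1 hu'
        exact Ideal.mem_span_singleton'.2 ⟨v, by rw [← hu, ← hv, pow_succ]; ring⟩
    have h0 : algebraMap A B w = 0 := by
      have h1 : algebraMap A B w ∈ ⨅ k : ℕ, IsLocalRing.maximalIdeal B ^ k := (Submodule.mem_iInf _).2 hall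
      rwa [Ideal.iInf_pow_eq_bot_of_isLocalRing _ (IsLocalRing.maximalIdeal.isMaximal B).ne_top,
        Submodule.mem_bot] at h1
    obtain ⟨s, hs⟩ := (IsLocalization.map_eq_zero_iff Q.primeCompl B w).1 h0
    exact (hQp.mem_or_mem (show (s : A) * w ∈ Q by rw [hs]; exact Q.zero_mem)).resolve_left s.2
  have hall : ∀ k : ℕ, z ∈ Ideal.span {t} ^ k := by
    intro k
    induction k with
    | zero => simp
    | succ k ih =>
      rw [Ideal.span_singleton_pow] at ih ⊢
      obtain ⟨w, hw⟩ := Ideal.mem_span_singleton'.1 ih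
      obtain ⟨v, hv⟩ := Ideal.mem_span_singleton'.1 (step k w (by rw [← hz, ← hw]; ring))
      exact Ideal.mem_span_singleton'.2 ⟨v, by rw [← hw, ← hv, pow_succ]; ring⟩
  obtain ⟨⟨r, hr⟩, hrz⟩ := ((Ideal.span {t}).mem_iInf_smul_pow_eq_bot_iff z).1
    ((Submodule.mem_iInf _).2 fun k => by rw [smul_eq_mul, Ideal.mul_top]; exact hall k)
  obtain ⟨a, rfl⟩ := Ideal.mem_span_singleton'.1 hr
  rw [← hrz, smul_eq_mul, mul_assoc, hz, mul_zero]

/-- Let R be a discrete valuation ring and X a locally Noetherian scheme over Spec R whose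
scheme-theoretic special fibre is reduced and such that every maximal point of the special fibre
lies in the closure of the generic fibre, i.e. the generic fibre is dense in X. Then X is flat over
R. -/
theorem result (R : Type u) [CommRing R] [IsDomain R]
    [IsDiscreteValuationRing R] {X : Scheme.{u}} (f : X ⟶ Spec (CommRingCat.of R)) [IsLocallyNoetherian X]
    (hred : IsReduced (f.fiber (IsLocalRing.closedPoint R)))
    (hdense : Dense (f.base ⁻¹' {genericPoint (Spec (CommRingCat.of R))})) : Flat f := by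
  classical
  let m := IsLocalRing.maximalIdeal R
  letI : Field (R ⧸ m) := Ideal.Quotient.field m
  let c : Spec (CommRingCat.of (R ⧸ m)) ⟶ Spec (CommRingCat.of R) :=
    Spec.map (CommRingCat.ofHom (algebraMap R (R ⧸ m)))
  haveI : IsClosedImmersion c := IsClosedImmersion.spec_of_surjective _ Ideal.Quotient.mk_surjective
  have hc : c.base (IsLocalRing.closedPoint (R ⧸ m)) = IsLocalRing.closedPoint R := PrimeSpectrum.ext (by
    show (IsLocalRing.maximalIdeal (R ⧸ m)).comap (algebraMap R (R ⧸ m)) = m
    rw [IsLocalRing.isField_iff_maximalIdeal_eq.1 (Field.toIsField (R ⧸ m))]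
    exact Ideal.mk_ker)
  obtain ⟨u, hu⟩ : ∃ u : Spec (CommRingCat.of (R ⧸ m)) ⟶
      Spec ((Spec (CommRingCat.of R)).residueField (IsLocalRing.closedPoint R)),
      u ≫ (Spec (CommRingCat.of R)).fromSpecResidueField (IsLocalRing.closedPoint R) = c := by
    rw [← hc]
    exact ⟨_, Scheme.descResidueField_stalkClosedPointTo_fromSpecResidueField (R ⧸ m) _ c⟩
  haveI : IsClosedImmersion (u ≫ (Spec (CommRingCat.of R)).fromSpecResidueField (IsLocalRing.closedPoint R)) := by
    rw [hu]; infer_instance
  haveI : IsClosedImmersion u :=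
    IsClosedImmersion.of_comp u ((Spec (CommRingCat.of R)).fromSpecResidueField (IsLocalRing.closedPoint R))
  haveI : Surjective u := ⟨fun y => ⟨IsLocalRing.closedPoint (R ⧸ m),
    Subsingleton.elim _ _⟩⟩
  haveI : IsIso u := isIso_of_isClosedImmersion_of_surjective u
  have hsq : IsPullback (pullback.fst f c) (pullback.snd f c ≫ u) f
      ((Spec (CommRingCat.of R)).fromSpecResidueField (IsLocalRing.closedPoint R)) :=
    (IsPullback.of_hasPullback f c).of_iso (Iso.refl _) (Iso.refl _) (asIso u) (Iso.refl _)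
      (by simp) (by simp) (by simp) (by simp [hu])
  haveI : IsReduced (pullback f ((Spec (CommRingCat.of R)).fromSpecResidueField (IsLocalRing.closedPoint R))) := hred
  haveI : IsReduced (pullback f c) := isReduced_of_isOpenImmersion hsq.isoPullback.hom
  obtain ⟨π, hπ⟩ := IsDiscreteValuationRing.exists_irreducible R
  refine IsZariskiLocalAtSource.of_openCover (P := @Flat) X.affineCover ?_
  intro i
  let j := X.affineCover.f i
  let A := Γ(X.affineCover.X i, ⊤)
  haveI : IsLocallyNoetherian (X.affineCover.X i) := isLocallyNoetherian_of_isOpenImmersion j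
  haveI : IsNoetherianRing A := IsLocallyNoetherian.component_noetherian ⟨⊤, isAffineOpen_top _⟩
  let g : Spec A ⟶ X := (X.affineCover.X i).isoSpec.inv ≫ j
  obtain ⟨φ, hφ⟩ : ∃ φ : CommRingCat.of R ⟶ A, Spec.map φ = g ≫ f := ⟨_, Spec.map_preimage _⟩
  suffices hflat : φ.hom.Flat by
    have h1 : Flat (g ≫ f) := by rw [← hφ]; exact (HasRingHomProperty.Spec_iff (P := @Flat)).2 hflat
    show Flat (j ≫ f)
    have h2 : j ≫ f = (X.affineCover.X i).isoSpec.hom ≫ g ≫ f := by simp [g]
    rw [h2]
    infer_instance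
  letI : Algebra R A := φ.hom.toAlgebra
  show Module.Flat R A
  rw [Module.Flat.flat_iff_torsion_eq_bot_of_isBezout, eq_bot_iff]
  rintro z ⟨⟨a, ha⟩, haz⟩
  obtain ⟨n, v, hv⟩ := IsDiscreteValuationRing.eq_unit_mul_pow_irreducible (nonZeroDivisors.ne_zero ha) hπ
  have haz' : φ.hom a * z = 0 := haz
  let t : A := φ.hom π
  have htz : t ^ n * z = 0 := by
    rw [hv, map_mul, map_pow, mul_assoc] at haz'
    exact ((v.isUnit.map φ.hom).mul_right_eq_zero).1 haz'
  -- the special fibre of the chart is reduced
  haveI : IsReduced (pullback (g ≫ f) c) :=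
    isReduced_of_isOpenImmersion (pullback.map (g ≫ f) c f c g (𝟙 _) (𝟙 _) (by simp) (by simp))
  haveI : IsReduced (pullback (Spec.map (CommRingCat.ofHom (algebraMap R A))) c) := by
    rw [show Spec.map (CommRingCat.ofHom (algebraMap R A)) = g ≫ f from hφ]; infer_instance
  haveI : IsReduced (Spec (CommRingCat.of (TensorProduct R A (R ⧸ m)))) :=
    isReduced_of_isOpenImmersion (pullbackSpecIso R A (R ⧸ m)).inv
  haveI : _root_.IsReduced (TensorProduct R A (R ⧸ m)) :=
    isReduced_of_injective (Scheme.ΓSpecIso (CommRingCat.of (TensorProduct R A (R ⧸ m)))).inv.hom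
      (Scheme.ΓSpecIso (CommRingCat.of (TensorProduct R A (R ⧸ m)))).symm.commRingCatIsoToRingEquiv.injective
  haveI : _root_.IsReduced (A ⧸ Ideal.span {t}) := by
    have he : m.map (algebraMap R A) = Ideal.span {t} := by
      show Ideal.map _ (IsLocalRing.maximalIdeal R) = _
      rw [hπ.maximalIdeal_eq, Ideal.map_span, Set.image_singleton]; rfl
    rw [← he]
    exact isReduced_of_injective _ (Algebra.TensorProduct.quotIdealMapEquivTensorQuot A m).injective
  have hmin : ∀ P ∈ minimalPrimes A, t ∉ P := by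
    intro P hP htP
    haveI : P.IsPrime := hP.1.1
    obtain ⟨s, hsP, hs⟩ : ∃ s : A, s ∉ P ∧ ∀ P' ∈ minimalPrimes A, P' ≠ P → s ∈ P' := by
      let S := (minimalPrimes.finite_of_isNoetherianRing A).toFinset.erase P
      have hnle : ¬ S.inf id ≤ P := by
        intro hle
        obtain ⟨P', hP', hle'⟩ := (Ideal.IsPrime.inf_le' inferInstance).1 hle
        rw [Finset.mem_erase, Set.Finite.mem_toFinset] at hP'
        exact hP'.1 (le_antisymm hle' (hP.2 hP'.2.1 hle'))
      obtain ⟨s, hs, hsP⟩ := SetLike.not_le_iff_exists.1 hnle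
      exact ⟨s, hsP, fun P' hP' hne => Finset.inf_le (f := id)
        (Finset.mem_erase.2 ⟨hne, (Set.Finite.mem_toFinset _).2 hP'⟩) hs⟩
    have hopen : IsOpen (g.base '' (PrimeSpectrum.basicOpen s : Set (PrimeSpectrum A))) :=
      g.isOpenEmbedding.isOpenMap _ (PrimeSpectrum.basicOpen s).isOpen
    obtain ⟨x, hxη, ⟨q, hq, rfl⟩⟩ := hdense.exists_mem_open hopen
      ⟨_, ⟨⟨P, inferInstance⟩, hsP, rfl⟩⟩
    have hq' : (Spec.map φ).base q = genericPoint (Spec (CommRingCat.of R)) := by rw [hφ]; exact hxη
    rw [genericPoint_eq_bot_of_affine] at hq'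
    have hcq : Ideal.comap φ.hom q.asIdeal = ⊥ := congrArg PrimeSpectrum.asIdeal hq'
    obtain ⟨P', hP', hle⟩ := Ideal.exists_minimalPrimes_le (show (⊥ : Ideal A) ≤ q.asIdeal from bot_le)
    by_cases h : P' = P
    · have : π ∈ Ideal.comap φ.hom q.asIdeal := hle (h ▸ htP)
      rw [hcq] at this
      exact hπ.ne_zero this
    · exact hq (hle (hs P' hP' h))
  rw [Submodule.mem_bot]
  revert htz
  clear hv haz'
  induction n with
  | zero => intro h; simpa using h
  | succ n ih => intro h; exact ih (eq_zero_of_mul_eq_zero t hmin (by rw [← mul_assoc, ← pow_succ']; exact h))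

end Groth.Agent.S10880
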