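import Groth.Statements.S10881
import Groth.Agent.L03.MiracleQF
import Groth.Agent.L03.RegularNormal
import Groth.Agent.L04.CMLoc
import Groth.Agent.L01.Regular
import Mathlib.RingTheory.IntegralClosure.GoingDown
import Mathlib.AlgebraicGeometry.Morphisms.Finite
import Mathlib.AlgebraicGeometry.Morphisms.Flat

set_option autoImplicit false
universe u
open CategoryTheory AlgebraicGeometry
open FlatMor

set_option backward.isDefEq.respectTransparency.types false
namespace Groth.L20.FiniteRegFlat

open AlgebraicGeometry CategoryTheory IsLocalRing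

theorem height_le_height_under {A B : Type u} [CommRing A] [CommRing B] [Algebra A B]
    [Algebra.IsIntegral A B] (q : Ideal B) [q.IsPrime] : q.height ≤ (q.under A).height := by
  let Q : PrimeSpectrum B := ⟨q, inferInstance⟩
  have hs : StrictMono (PrimeSpectrum.comap (algebraMap A B)) := fun P P' h =>
    show P.asIdeal.comap (algebraMap A B) < P'.asIdeal.comap (algebraMap A B) from Ideal.IsIntegral.comap_lt_comap h
  calc q.height = Order.height Q := PrimeSpectrum.height_eq_orderHeight Q
    _ ≤ Order.height (PrimeSpectrum.comap (algebraMap A B) Q) := Order.height_le_height_apply_of_strictMono _ hs Q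
    _ = (q.under A).height := (PrimeSpectrum.height_eq_orderHeight _).symm

theorem height_map_mk_le {B : Type u} [CommRing B] (J q : Ideal B) [q.IsPrime] (h : J ≤ q) :
    (q.map (Ideal.Quotient.mk J)).height ≤ q.height := by
  haveI : (q.map (Ideal.Quotient.mk J)).IsPrime :=
    Ideal.map_isPrime_of_surjective Ideal.Quotient.mk_surjective (by rwa [Ideal.mk_ker])
  let Q : PrimeSpectrum (B ⧸ J) := ⟨_, this⟩
  have e : PrimeSpectrum.comap (Ideal.Quotient.mk J) Q = ⟨q, inferInstance⟩ := PrimeSpectrum.ext (by
    show (q.map (Ideal.Quotient.mk J)).comap _ = q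
    rw [Ideal.comap_map_of_surjective _ Ideal.Quotient.mk_surjective, ← RingHom.ker_eq_comap_bot, Ideal.mk_ker,
      sup_eq_left.mpr h])
  calc _ = Order.height Q := PrimeSpectrum.height_eq_orderHeight Q
    _ ≤ Order.height (PrimeSpectrum.comap (Ideal.Quotient.mk J) Q) :=
      Order.height_le_height_apply_of_strictMono _ (RingHom.strictMono_comap_of_surjective Ideal.Quotient.mk_surjective) Q
    _ = q.height := by rw [e, ← PrimeSpectrum.height_eq_orderHeight]

set_option maxHeartbeats 400000 in
theorem flat_local {A B : Type u} [CommRing A] [CommRing B] [Algebra A B] [Module.Finite A B]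
    [IsNoetherianRing A] (p : Ideal A) [p.IsPrime] (q : Ideal B) [q.IsPrime] [q.LiesOver p]
    [IsRegularLocalRing (Localization.AtPrime p)] [IsRegularLocalRing (Localization.AtPrime q)]
    (q₀ : Ideal B) [q₀.IsPrime] (hle : q₀ ≤ q) (hmin : q₀.under A ∈ minimalPrimes A) :
    Module.Flat A (Localization.AtPrime q) := by
  haveI : IsNoetherianRing B := IsNoetherianRing.of_finite A B
  refine (Groth.L03.MiracleQF.flat_iff_local p q).2 ⟨Groth.L04.isCohenMacaulayLocalRing_of_regular _, ?_⟩
  rw [IsLocalization.AtPrime.ringKrullDim_eq_height q, IsLocalization.AtPrime.ringKrullDim_eq_height p]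
  refine congrArg _ (le_antisymm ?_ ?_)
  · rw [Ideal.over_def q p]
    exact height_le_height_under q
  -- going down over the normal domain `A_p`
  let A' := Localization.AtPrime p
  haveI : IsDomain A' := Groth.L01.isDomain_of_regular A'
  haveI : IsIntegrallyClosed A' := Groth.L03.RegularNormal.isIntegrallyClosed A'
  let S₀ := B ⧸ q₀
  let q' := q.map (Ideal.Quotient.mk q₀)
  haveI : q'.IsPrime := Ideal.map_isPrime_of_surjective Ideal.Quotient.mk_surjective (by rwa [Ideal.mk_ker])
  have hq' : q'.under A = p := by
    rw [Ideal.over_def q p]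
    show (q.map (Ideal.Quotient.mk q₀)).comap ((Ideal.Quotient.mk q₀).comp (algebraMap A B)) = _
    rw [← Ideal.comap_comap, Ideal.comap_map_of_surjective _ Ideal.Quotient.mk_surjective,
      ← RingHom.ker_eq_comap_bot, Ideal.mk_ker, sup_eq_left.mpr hle]
  let M := Algebra.algebraMapSubmonoid S₀ p.primeCompl
  have hdisj : Disjoint (M : Set S₀) (q' : Set S₀) := Set.disjoint_left.mpr fun s hs hsq => by
    obtain ⟨a, ha, rfl⟩ := hs
    exact ha (hq'.le hsq)
  have hM : M ≤ nonZeroDivisors S₀ := fun s hs => mem_nonZeroDivisors_of_ne_zero fun h0 =>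
    Set.disjoint_left.mp hdisj hs (h0 ▸ zero_mem q')
  let S' := Localization M
  haveI : IsDomain S' := IsLocalization.isDomain_localization hM
  letI : Algebra A' S' := localizationAlgebra p.primeCompl S₀
  haveI : IsScalarTower A A' S' := IsScalarTower.of_algebraMap_eq fun a =>
    (IsScalarTower.algebraMap_apply A S₀ S' a).trans (IsLocalization.map_eq (show p.primeCompl ≤ M.comap (algebraMap A S₀) from Submonoid.le_comap_map _) a).symm
  haveI : Module.Finite A' S' := Module.Finite.of_isLocalization A S₀ p.primeCompl
  haveI : IsNoetherianRing S' := IsLocalization.isNoetherianRing M S' inferInstance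
  haveI : FaithfulSMul A' S' := (faithfulSMul_iff_algebraMap_injective A' S').2 (by
    rw [RingHom.injective_iff_ker_eq_bot]
    have hk : ((RingHom.ker (algebraMap A' S')).under A) ≤ q₀.under A := fun a ha => by
      have h1 : algebraMap A S' a = 0 := by
        rw [IsScalarTower.algebraMap_apply A A' S']; exact ha
      rw [IsScalarTower.algebraMap_apply A S₀ S'] at h1
      show algebraMap A B a ∈ q₀
      exact Ideal.Quotient.eq_zero_iff_mem.mp ((IsLocalization.injective S' hM) (h1.trans (map_zero _).symm))
    have hq0 : q₀.under A ≤ p := by rw [Ideal.over_def q p]; exact Ideal.comap_mono hle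
    haveI := hmin.1.1
    haveI : (RingHom.ker (algebraMap A' S')).IsPrime := RingHom.ker_isPrime _
    have e : (RingHom.ker (algebraMap A' S')).under A = (⊥ : Ideal A').under A :=
      le_antisymm (hk.trans (hmin.2 ⟨Ideal.IsPrime.under A (⊥ : Ideal A'), bot_le⟩
        ((Ideal.comap_mono bot_le).trans hk))) (Ideal.comap_mono bot_le)
    have := congrArg (Ideal.map (algebraMap A A')) e
    rwa [IsLocalization.map_under p.primeCompl A', IsLocalization.map_under p.primeCompl A'] at this)
  haveI : Algebra.IsIntegral A' S' := inferInstance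
  haveI : Algebra.HasGoingDown A' S' := inferInstance
  let Q := q'.map (algebraMap S₀ S')
  haveI : Q.IsPrime := IsLocalization.isPrime_of_isPrime_disjoint M S' q' inferInstance hdisj
  have hQ : Q.under S₀ = q' := IsLocalization.comap_map_of_isPrime_disjoint M S' inferInstance hdisj
  haveI : Q.LiesOver (maximalIdeal A') := ⟨by
    have h1 : (Q.under A').under A = p := by
      rw [Ideal.under_under, ← Ideal.under_under (B := S₀), hQ, hq']
    rw [← IsLocalization.map_under p.primeCompl A' (Q.under A'), h1, Localization.AtPrime.map_eq_maximalIdeal]⟩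
  have h := Ideal.height_eq_height_add_of_liesOver_of_hasGoingDown (maximalIdeal A') Q
  calc p.height = (maximalIdeal A').height := by
        rw [← IsLocalization.height_under p.primeCompl (maximalIdeal A'), Localization.AtPrime.under_maximalIdeal]
    _ ≤ Q.height := h ▸ le_self_add
    _ = q'.height := by rw [← IsLocalization.height_under M Q, hQ]
    _ ≤ q.height := height_map_mk_le q₀ q hle

theorem main {X Y : Scheme.{u}} (f : X ⟶ Y) [IsFinite f] [IsLocallyNoetherian Y]
    (hX : ∀ x : X, IsRegularLocalRing (X.presheaf.stalk x))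
    (hY : ∀ y : Y, IsRegularLocalRing (Y.presheaf.stalk y))
    (hdom : ∀ Z ∈ irreducibleComponents (X : Type u), closure (f.base '' Z) ∈ irreducibleComponents (Y : Type u)) :
    Flat f := by
  rw [Flat.iff_flat_stalkMap]
  intro x
  obtain ⟨_, ⟨V, hV, rfl⟩, hxV, -⟩ :=
    Y.isBasis_affineOpens.exists_subset_of_mem_open (Set.mem_univ (f x)) isOpen_univ
  replace hV : IsAffineOpen V := hV
  have hU : IsAffineOpen (f ⁻¹ᵁ V) := hV.preimage f
  let U := f ⁻¹ᵁ V
  have hx : x ∈ U := hxV
  let φ := f.appLE V U le_rfl
  let := φ.hom.toAlgebra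
  haveI : IsNoetherianRing Γ(Y, V) := IsLocallyNoetherian.component_noetherian ⟨V, hV⟩
  haveI : Module.Finite Γ(Y, V) Γ(X, U) := by
    rw [← RingHom.finite_algebraMap]
    show φ.hom.Finite
    rw [show φ = f.app V from f.app_eq_appLE.symm]
    exact IsFinite.finite_app f V hV
  let p := (hV.primeIdealOf ⟨f x, hxV⟩).asIdeal
  let q := (hU.primeIdealOf ⟨x, hx⟩).asIdeal
  haveI : q.LiesOver p :=
    ⟨congr($(IsAffineOpen.comap_primeIdealOf_appLE V hV U hU le_rfl hx).1).symm⟩
  letI := Localization.AtPrime.algebraOfLiesOver p q
  -- regularity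
  haveI : IsRegularLocalRing (Localization.AtPrime p) := by
    letI := TopCat.Presheaf.algebra_section_stalk Y.presheaf ⟨f x, hxV⟩
    haveI := hV.isLocalization_stalk ⟨f x, hxV⟩
    haveI := hY (f x)
    exact IsRegularLocalRing.of_ringEquiv
      (IsLocalization.algEquiv p.primeCompl (Y.presheaf.stalk (f x)) (Localization.AtPrime p)).toRingEquiv
  haveI : IsRegularLocalRing (Localization.AtPrime q) := by
    letI := TopCat.Presheaf.algebra_section_stalk X.presheaf ⟨x, hx⟩
    haveI := hU.isLocalization_stalk ⟨x, hx⟩
    haveI := hX x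
    exact IsRegularLocalRing.of_ringEquiv
      (IsLocalization.algEquiv q.primeCompl (X.presheaf.stalk x) (Localization.AtPrime q)).toRingEquiv
  -- generic point of a component through x
  let Z := irreducibleComponent x
  have hZ : Z ∈ irreducibleComponents (X : Type u) := irreducibleComponent_mem_irreducibleComponents x
  let ξ := hZ.1.genericPoint
  have hξ : IsGenericPoint ξ Z := hZ.1.isGenericPoint_genericPoint isClosed_irreducibleComponent
  have hξx : ξ ⤳ x := hξ.specializes mem_irreducibleComponent
  have hξU : ξ ∈ U := hξx.mem_open U.2 hx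
  have hfξ : IsGenericPoint (f ξ) (closure (f '' Z)) := hξ.image f.continuous
  let q₀ := hU.primeIdealOf ⟨ξ, hξU⟩
  have hle : q₀.asIdeal ≤ q := by
    refine (PrimeSpectrum.le_iff_specializes q₀ (hU.primeIdealOf ⟨x, hx⟩)).mpr ?_
    exact hU.fromSpec.isOpenEmbedding.isInducing.specializes_iff.mp
      (by rwa [hU.fromSpec_primeIdealOf, hU.fromSpec_primeIdealOf])
  have hmin : q₀.asIdeal.under Γ(Y, V) ∈ minimalPrimes Γ(Y, V) := by
    have e0 : q₀.asIdeal.under Γ(Y, V) = (hV.primeIdealOf ⟨f ξ, hξU⟩).asIdeal :=
      congr($(IsAffineOpen.comap_primeIdealOf_appLE V hV U hU le_rfl hξU).1)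
    rw [e0]
    refine ⟨⟨(hV.primeIdealOf ⟨f ξ, hξU⟩).2, bot_le⟩, fun P hP hPle => ?_⟩
    let P' : Spec Γ(Y, V) := (⟨P, hP.1⟩ : PrimeSpectrum Γ(Y, V))
    have h1 : P' ⤳ hV.primeIdealOf ⟨f ξ, hξU⟩ := (PrimeSpectrum.le_iff_specializes _ _).mp hPle
    have h2 : hV.fromSpec P' ⤳ f ξ := by
      have := h1.map hV.fromSpec.continuous
      rwa [hV.fromSpec_primeIdealOf] at this
    have h3 : closure {hV.fromSpec P'} = closure (f '' Z) := by
      refine le_antisymm ((hdom Z hZ).2 isIrreducible_singleton.closure ?_) ?_ <;>
        · rw [← hfξ.def]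
          exact h2.closure_subset
    have h4 : hV.fromSpec P' = f ξ := (show IsGenericPoint _ _ from h3).eq hfξ
    replace h4 := h4.trans (hV.fromSpec_primeIdealOf ⟨f ξ, hξU⟩).symm
    exact (congrArg PrimeSpectrum.asIdeal (hV.fromSpec.isOpenEmbedding.injective h4)).ge
  haveI : Module.Flat Γ(Y, V) (Localization.AtPrime q) := flat_local p q q₀.asIdeal hle hmin
  refine (RingHom.Flat.respectsIso.arrow_mk_iso_iff
    (IsAffineOpen.arrowStalkMapIso f V hV U hU le_rfl hx)).mpr ?_
  show RingHom.Flat (algebraMap (Localization.AtPrime p) (Localization.AtPrime q))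
  rw [RingHom.flat_algebraMap_iff]
  exact (Module.flat_iff_of_isLocalization (Localization.AtPrime p) p.primeCompl _).2 inferInstance

end Groth.L20.FiniteRegFlat
namespace Groth.Agent.S10881

/-- A finite morphism f : X → Y between regular schemes (locally Noetherian with regular local rings)
under which each irreducible component of X dominates some irreducible component of Y is flat, hence
finite locally free. (The published statement asks only that f be dominant; for X the disjoint union
of the affine line and a point, mapped to the affine line Y by the identity and the inclusion of a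
closed point, f is finite and dominant between regular schemes but not flat, and the published
argument uses injectivity of the local ring maps, which holds exactly under the component-wise
dominance assumed here.) -/
theorem result {X Y : Scheme.{u}} (f : X ⟶ Y) [IsFinite f]
    [IsLocallyNoetherian X] [IsLocallyNoetherian Y]
    (hX : ∀ x : X, IsRegularLocalRing (X.presheaf.stalk x))
    (hY : ∀ y : Y, IsRegularLocalRing (Y.presheaf.stalk y))
    (hdom : ∀ Z ∈ irreducibleComponents (X : Type u), closure (f.base '' Z) ∈ irreducibleComponents (Y : Type u)) :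
    Flat f := by
  exact Groth.L20.FiniteRegFlat.main f hX hY hdom


end Groth.Agent.S10881
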