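import Groth.Statements.S10882
import Groth.Agent.L00.EquidimFlat
import Groth.Agent.L12.RegLift
import Groth.Agent.L04.RegularPd
import Groth.Agent.L13.Wild.Kunz
import Groth.Agent.L18.FiberStalk

set_option autoImplicit false
universe u
open CategoryTheory AlgebraicGeometry
open FlatMor

set_option backward.isDefEq.respectTransparency.types false
theorem mem_irreducibleComponents_image {α β : Type*} [TopologicalSpace α] [TopologicalSpace β]
    (h : α ≃ₜ β) (Z : Set α) (hZ : Z ∈ irreducibleComponents α) : h '' Z ∈ irreducibleComponents β := by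
  rw [Homeomorph.image_eq_preimage_symm]
  exact preimage_mem_irreducibleComponents hZ h.symm.isOpenEmbedding
    (by rw [h.symm.surjective.range_eq, Set.inter_univ]; exact hZ.1.nonempty)namespace Groth.Agent.S10882

/-- Let X and Y be schemes locally of finite type over a field k and f : X → Y a k-morphism, with Y
regular (all local rings regular), X Cohen–Macaulay (all local rings Cohen–Macaulay), X
equidimensional of dimension e, Y equidimensional of dimension d ≤ e, and all fibres of f
equidimensional of dimension e − d (every irreducible component of every fibre has dimension e − d).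
Then f is flat. -/
theorem result (k : Type u) [Field k] {X Y : Scheme.{u}}
    (q : Y ⟶ Spec (CommRingCat.of k)) [LocallyOfFiniteType q] (f : X ⟶ Y) [LocallyOfFiniteType (f ≫ q)]
    (hY : ∀ y : Y, IsRegularLocalRing (Y.presheaf.stalk y))
    (hX : ∀ x : X, LocCoh.IsCohenMacaulayLocalRing (X.presheaf.stalk x))
    (e d : ℕ) (hde : d ≤ e)
    (hXe : ∀ Z ∈ irreducibleComponents (X : Type u), topologicalKrullDim Z = e)
    (hYd : ∀ Z ∈ irreducibleComponents (Y : Type u), topologicalKrullDim Z = d)
    (hfib : ∀ y : Y, ∀ Z ∈ irreducibleComponents (f.base ⁻¹' {y}), topologicalKrullDim Z = (e - d : ℕ)) :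
    Flat f := by
  haveI : LocallyOfFiniteType f := locallyOfFiniteType_of_comp f q
  haveI : IsLocallyNoetherian Y := LocallyOfFiniteType.isLocallyNoetherian q
  haveI : IsLocallyNoetherian X := LocallyOfFiniteType.isLocallyNoetherian f
  suffices H : ∀ (y : Y) (z : f.fiber y), (f.stalkMap (f.fiberι y z)).hom.Flat by
    refine (Flat.iff_flat_stalkMap f).2 fun x => ?_
    have := H (f x) (f.asFiber x)
    rwa [f.fiberι_asFiber] at this
  intro y z
  obtain ⟨hsurj, hker⟩ := Groth.L18.stalkMap_fiberι f y z
  have hy := Groth.L07.Equidim.apply_fiberι f y z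
  have hfd := Groth.L07.Equidim.fdim_fiberι f y z
  generalize (f.fiberι y).stalkMap z = σ at hsurj hker
  generalize f.fiberι y z = x at σ hsurj hker hy hfd ⊢
  subst hy
  obtain ⟨a, b, ha, hb, hab⟩ := Groth.L00.EquidimFlat.point_data' k (f ≫ q) _ hXe x
  obtain ⟨p, r, hp, hr, hpr⟩ := Groth.L00.EquidimFlat.point_data' k q _ hYd (f x)
  obtain ⟨m, hm, hmt⟩ := Groth.L07.DimToolkit.exists_fdim_rtrdeg f x
  rw [Groth.L22.Cyc.rtrdeg_comp, hp, hmt] at ha
  have ha' : p + m = a := by exact_mod_cast ha
  have hab' : e = a + b := by exact_mod_cast hab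
  have hpr' : d = p + r := by exact_mod_cast hpr
  -- the fibre
  have hF : ∀ Z ∈ irreducibleComponents (f.fiber (f x) : Type u),
      topologicalKrullDim Z = ((e - d : ℕ) : WithBot ℕ∞) := by
    intro Z hZ
    let h := f.fiberHomeo (f x)
    have hZ' : h '' Z ∈ irreducibleComponents (f.base ⁻¹' {f x} : Set X) :=
      mem_irreducibleComponents_image h Z hZ
    rw [← hfib (f x) _ hZ']
    exact (h.image Z).isHomeomorph.topologicalKrullDim_eq
  haveI : LocallyOfFiniteType (f.fiberToSpecResidueField (f x)) :=
    MorphismProperty.pullback_snd _ _ inferInstance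
  obtain ⟨a', c, ha'', hc, hac⟩ :=
    Groth.L00.EquidimFlat.point_data' (Y.residueField (f x)) (f.fiberToSpecResidueField (f x)) _ hF z
  obtain ⟨n, hn, hnt⟩ := Groth.L07.DimToolkit.exists_fdim_rtrdeg (f.fiberToSpecResidueField (f x)) z
  rw [Groth.L00.EquidimFlat.fdim_qX (Y.residueField (f x)) (f.fiberToSpecResidueField (f x)) z,
    ← hfd, hm] at hn
  rw [ha''] at hnt
  have hmn : m = n := by exact_mod_cast hn
  have ha'n : a' = n := by exact_mod_cast hnt
  have hac' : e - d = a' + c := by exact_mod_cast hac
  rw [← ringKrullDim_eq_of_ringEquiv (RingHom.quotientKerEquivOfSurjective hsurj), hker] at hc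
  -- commutative algebra
  haveI := hY (f x)
  haveI := hX x
  obtain ⟨rs, hrs, hreg, hgen⟩ := Groth.L04.exists_regular_generators hr
  refine Groth.L13.Wild.Kunz.flat_of_map_isWeaklyRegular _ _ (f.stalkMap x).hom rs hgen
    hreg.toIsWeaklyRegular (Groth.L12.RegLift.isWeaklyRegular_of_dim _ ?_ ?_)
  · intro s hs
    obtain ⟨t, ht, rfl⟩ := List.mem_map.1 hs
    have ht' : t ∈ IsLocalRing.maximalIdeal (Y.presheaf.stalk (f x)) := hgen ▸ Ideal.subset_span ht
    exact map_nonunit (f.stalkMap x).hom t ht'
  · rw [List.length_map, hrs, ← Ideal.map_ofList, hgen, hc, hb]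
    exact_mod_cast (show c + r = b by omega)

end Groth.Agent.S10882
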