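
import Groth.Statements.S10885
import Groth.Agent.L22.FibreDim

set_option autoImplicit false
universe u
open CategoryTheory AlgebraicGeometry
open Variety

namespace Groth.Agent.S10885

/-- Let Y be a scheme of finite type over a field k, r ≥ 0, and f : X → Y a morphism of finite type
whose fibre over every maximal point of Y has dimension at least r. Then dim X ≥ r + dim Y. -/
theorem result (k : Type u) [Field k] {X Y : Scheme.{u}}
    (q : Y ⟶ Spec (CommRingCat.of k)) [LocallyOfFiniteType q] [QuasiCompact q]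
    (f : X ⟶ Y) [LocallyOfFiniteType f] [QuasiCompact f] (r : ℕ)
    (hfib : ∀ η : Y, (∀ y : Y, y ⤳ η → y = η) → (r : WithBot ℕ∞) ≤ topologicalKrullDim (f.base ⁻¹' {η})) :
    (r : WithBot ℕ∞) + topologicalKrullDim Y ≤ topologicalKrullDim X := by
  letI : Y.Over (Spec (CommRingCat.of k)) := ⟨q⟩
  letI : X.Over (Spec (CommRingCat.of k)) := ⟨f ≫ q⟩
  haveI : LocallyOfFiniteType (Y ↘ Spec (CommRingCat.of k)) := ‹LocallyOfFiniteType q›
  refine Groth.L22.FibreDim.natCast_add_le_of_forall fun n hn => ?_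
  obtain ⟨y, hy⟩ := Groth.L22.FibreDim.exists_le_dim_closure (T := Y) hn
  obtain ⟨η, hηy, hη⟩ := Groth.L22.FibreDim.exists_maximal_specializes y
  haveI : QuasiSober (f.base ⁻¹' {η} : Set X) :=
    (f.fiberHomeo η).symm.isClosedEmbedding.quasiSober
  obtain ⟨x, hx⟩ := Groth.L22.FibreDim.exists_le_dim_closure
    (T := (f.base ⁻¹' {η} : Set X)) (hfib η hη)
  obtain ⟨a, b, ha, hb, hab⟩ := Groth.L22.FibreDim.exists_dim_closure_add k f rfl x.1
  have hfx : f x.1 = η := x.2
  rw [Groth.L22.FibreDim.subtype_dim_closure] at hx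
  rw [hfx] at hb ha
  have hrb : r ≤ b := by exact_mod_cast hx.trans_eq hb
  have hna : n ≤ a := by
    have := (hy.trans (Groth.L22.SchemeDim.topologicalKrullDim_mono
      (closure_minimal (Set.singleton_subset_iff.2 hηy.mem_closure) isClosed_closure))).trans_eq ha
    exact_mod_cast this
  calc ((r + n : ℕ) : WithBot ℕ∞) ≤ ((a + b : ℕ) : WithBot ℕ∞) := by
        exact_mod_cast (by omega : r + n ≤ a + b)
    _ = _ := hab.symm
    _ ≤ topologicalKrullDim X := topologicalKrullDim_subspace_le X _

end Groth.Agent.S10885
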