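
import Groth.Statements.S10884
import Groth.Agent.L22.DimZero
import Groth.Agent.S10885

set_option autoImplicit false
universe u
open CategoryTheory AlgebraicGeometry
open Variety

namespace Groth.Agent.S10884

/-- Let Y be a scheme of finite type over a field k and f : X → Y a dominant morphism of finite type all
of whose non-empty fibres have dimension r. Then dim X = r + dim Y. -/
theorem result (k : Type u) [Field k] {X Y : Scheme.{u}}
    (q : Y ⟶ Spec (CommRingCat.of k)) [LocallyOfFiniteType q] [QuasiCompact q]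
    (f : X ⟶ Y) [LocallyOfFiniteType f] [QuasiCompact f] (hdom : DenseRange f.base) (r : ℕ)
    (hfib : ∀ y : Y, (f.base ⁻¹' {y}).Nonempty → topologicalKrullDim (f.base ⁻¹' {y}) = r) :
    topologicalKrullDim X = (r : WithBot ℕ∞) + topologicalKrullDim Y := by
  letI : Y.Over (Spec (CommRingCat.of k)) := ⟨q⟩
  letI : X.Over (Spec (CommRingCat.of k)) := ⟨f ≫ q⟩
  haveI : LocallyOfFiniteType (Y ↘ Spec (CommRingCat.of k)) := ‹LocallyOfFiniteType q›
  haveI := Groth.L22.DimZero.isNoetherian k (f ≫ q)
  refine le_antisymm ?_ (Groth.Agent.S10885.result k q f r fun η hη => (hfib η ?_).ge)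
  · rw [Groth.L22.FibreDim.topologicalKrullDim_eq_iSup_closure (T := X)]
    refine iSup_le fun x => ?_
    obtain ⟨a, b, ha, hb, hab⟩ := Groth.L22.FibreDim.exists_dim_closure_add k f rfl x
    have hbr : b ≤ r := by
      have := (Groth.L22.SchemeDim.topologicalKrullDim_mono
        (Set.inter_subset_right : closure ({x} : Set X) ∩ f ⁻¹' {f x} ⊆ _)).trans_eq
        (hfib (f x) ⟨x, rfl⟩)
      rw [hb] at this
      exact_mod_cast this
    rw [hab]
    calc ((a + b : ℕ) : WithBot ℕ∞) ≤ ((r + a : ℕ) : WithBot ℕ∞) := by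
          exact_mod_cast (by omega : a + b ≤ r + a)
      _ = (r : WithBot ℕ∞) + (a : WithBot ℕ∞) := by norm_cast
      _ ≤ _ := by
          rw [← ha]
          gcongr
          exact topologicalKrullDim_subspace_le Y _
  · obtain ⟨x, hx⟩ := Groth.L22.FibreDim.exists_map_eq_of_maximal f hdom hη
    exact ⟨x, hx⟩

end Groth.Agent.S10884
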