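import Groth.Statements.S10886
import Groth.Agent.L21.CurveTop

set_option autoImplicit false
universe u
open CategoryTheory AlgebraicGeometry
open Curves

namespace Groth.Agent.S10886

/-- In an irreducible Noetherian scheme of dimension one every constructible subset is either a finite
set of closed points or the complement of such a set; in particular it is open or closed. -/
theorem result {X : Scheme.{u}} [IsNoetherian X]
    [IrreducibleSpace X] (hX : topologicalKrullDim X = 1) (s : Set X) (hs : Topology.IsConstructible s) :
    (s.Finite ∧ (∀ x ∈ s, IsClosed ({x} : Set X))) ∨ (sᶜ.Finite ∧ ∀ x ∈ sᶜ, IsClosed ({x} : Set X)) := by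
  exact Groth.L21.CurveTop.finite_or_cofinite_of_isConstructible hX.le hs

end Groth.Agent.S10886
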