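import Groth.Statements.S10887
import Groth.Agent.L13.ModFibre
import Mathlib.RingTheory.RegularLocalRing.Defs
import Mathlib.RingTheory.DiscreteValuationRing.TFAE
import Mathlib.RingTheory.Flat.TorsionFree
import Mathlib.AlgebraicGeometry.Morphisms.Flat


set_option autoImplicit false
universe u
open CategoryTheory AlgebraicGeometry
open FlatMor

namespace Groth.Agent.S10887

/-- (i) ⇔ (iii): let Y be a Dedekind scheme — an integral Noetherian scheme of dimension at most one all
of whose local rings are regular — and f : X → Y a morphism of schemes with X reduced. Then f is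
flat if and only if every irreducible component of X dominates Y. (Without reducedness only the
forward implication holds.) -/
theorem result {X Y : Scheme.{u}} [IsIntegral Y]
    [IsNoetherian Y] (hreg : ∀ y : Y, IsRegularLocalRing (Y.presheaf.stalk y)) (hdim : topologicalKrullDim Y ≤ 1)
    (f : X ⟶ Y) [IsReduced X] :
    Flat f ↔ ∀ Z ∈ irreducibleComponents (X : Type u), Dense (f.base '' Z) := by
  constructor
  · intro hflat Z hZ
    have hz := hZ.1.isGenericPoint_genericPoint (isClosed_of_mem_irreducibleComponents Z hZ)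
    set ζ := hZ.1.genericPoint
    obtain ⟨x', hx', hfx'⟩ := Flat.generalizingMap f (genericPoint_specializes (α := Y) (f.base ζ))
    have hle : Z ⊆ closure {x'} := by
      rw [← hz.def]; exact closure_minimal (Set.singleton_subset_iff.2 hx'.mem_closure) isClosed_closure
    have heq : closure {x'} ⊆ Z := hZ.2 isIrreducible_singleton.closure hle
    have hmem : x' ∈ Z := heq (subset_closure rfl)
    refine Dense.mono (Set.singleton_subset_iff.2 ⟨x', hmem, hfx'⟩) ?_
    exact dense_iff_closure_eq.2 (genericPoint_closure Y)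
  · intro H
    rw [Flat.iff_flat_stalkMap]
    intro x
    haveI : IsRegularLocalRing (Y.presheaf.stalk (f.base x)) := hreg _
    have hcot : Module.finrank (IsLocalRing.ResidueField (Y.presheaf.stalk (f.base x)))
        (IsLocalRing.CotangentSpace (Y.presheaf.stalk (f.base x))) ≤ 1 := by
      have h1 : (Module.finrank (IsLocalRing.ResidueField (Y.presheaf.stalk (f.base x)))
          (IsLocalRing.CotangentSpace (Y.presheaf.stalk (f.base x))) : WithBot ℕ∞) ≤ 1 := by
        rw [(IsRegularLocalRing.iff_finrank_cotangentSpace _).1 (hreg _)]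
        exact (Groth.L13.ModFibre.ringKrullDim_stalk_le_topologicalKrullDim _).trans hdim
      exact_mod_cast h1
    haveI : IsPrincipalIdealRing (Y.presheaf.stalk (f.base x)) :=
      ((tfae_of_isNoetherianRing_of_isLocalRing_of_isDomain (Y.presheaf.stalk (f.base x))).out 5 0).1 hcot
    let φ : Y.presheaf.stalk (f.base x) →+* X.presheaf.stalk x := (f.stalkMap x).hom
    letI : Algebra (Y.presheaf.stalk (f.base x)) (X.presheaf.stalk x) := φ.toAlgebra
    show Module.Flat (Y.presheaf.stalk (f.base x)) (X.presheaf.stalk x)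
    rw [Module.Flat.flat_iff_torsion_eq_bot_of_isBezout, eq_bot_iff]
    intro z hz
    obtain ⟨⟨a, ha⟩, haz⟩ := hz
    have haz' : φ a * z = 0 := haz
    have ha0 : a ≠ 0 := nonZeroDivisors.ne_zero ha
    rw [Submodule.mem_bot]
    have hnil : z ∈ nilradical (X.presheaf.stalk x) := by
      rw [nilradical_eq_sInf, Submodule.mem_sInf]
      intro P₀ hP₀
      haveI : Ideal.IsPrime P₀ := hP₀
      obtain ⟨P, hP, hPP₀⟩ := Ideal.exists_minimalPrimes_le (show (⊥ : Ideal (X.presheaf.stalk x)) ≤ P₀ from bot_le)
      haveI : Ideal.IsPrime P := hP.1.1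
      refine hPP₀ ?_
      refine (Ideal.IsPrime.mem_or_mem ‹_› (show φ a * z ∈ P by rw [haz']; exact P.zero_mem)).resolve_left ?_
      intro haP
      let ζ := (X.fromSpecStalk x).base ⟨P, ‹_›⟩
      obtain ⟨Z, hZ, hζZ⟩ : ∃ Z ∈ irreducibleComponents ↥X, ζ ∈ Z :=
        ⟨_, irreducibleComponent_mem_irreducibleComponents ζ, mem_irreducibleComponent⟩
      have hg := hZ.1.isGenericPoint_genericPoint (isClosed_of_mem_irreducibleComponents Z hZ)
      have hspec : hZ.1.genericPoint ⤳ ζ := hg.specializes hζZ
      have hζx : ζ ⤳ x := by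
        have : ζ ∈ Set.range (X.fromSpecStalk x).base := ⟨_, rfl⟩
        rwa [Scheme.range_fromSpecStalk] at this
      obtain ⟨q, hq⟩ : hZ.1.genericPoint ∈ Set.range (X.fromSpecStalk x).base := by
        rw [Scheme.range_fromSpecStalk]
        exact hspec.trans hζx
      have hqP : q ⤳ (⟨P, ‹_›⟩ : PrimeSpectrum (X.presheaf.stalk x)) :=
        (X.fromSpecStalk x).isEmbedding.isInducing.specializes_iff.1 (by rw [hq]; exact hspec)
      have hle : q.asIdeal ≤ P := (PrimeSpectrum.le_iff_specializes (q : PrimeSpectrum (X.presheaf.stalk x)) ⟨P, ‹_›⟩).2 hqP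
      have hPq : P = q.asIdeal := le_antisymm (hP.2 ⟨q.isPrime, bot_le⟩ hle) hle
      have hζ : ζ = hZ.1.genericPoint := by
        rw [← hq]
        exact congrArg (X.fromSpecStalk x).base (PrimeSpectrum.ext hPq)
      have hfζ : f.base ζ = genericPoint Y := by
        have hsub : f.base '' Z ⊆ closure {f.base ζ} := by
          rintro _ ⟨w, hw, rfl⟩
          rw [hζ]
          exact ((hg.specializes hw).map f.continuous).mem_closure
        refine IsGenericPoint.eq (S := (Set.univ : Set Y)) ?_ (genericPoint_spec Y)
        exact Set.univ_subset_iff.1 ((H Z hZ).closure_eq ▸ closure_minimal hsub isClosed_closure)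
      let p : PrimeSpectrum (Y.presheaf.stalk (f.base x)) := PrimeSpectrum.comap φ ⟨P, ‹_›⟩
      have hp : (Y.fromSpecStalk (f.base x)).base p = genericPoint Y := by
        rw [← hfζ]
        exact congrArg (fun (g : Spec (X.presheaf.stalk x) ⟶ Y) => g.base ⟨P, ‹_›⟩)
          (Scheme.SpecMap_stalkMap_fromSpecStalk f (x := x))
      let o : PrimeSpectrum (Y.presheaf.stalk (f.base x)) := ⟨⊥, Ideal.isPrime_bot⟩
      have ho : (Y.fromSpecStalk (f.base x)).base o = genericPoint Y := by
        have h1 : o ⤳ p := (PrimeSpectrum.le_iff_specializes _ _).1 bot_le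
        exact ((h1.map (Y.fromSpecStalk (f.base x)).continuous).trans (hp ▸ specializes_rfl)).antisymm
          (genericPoint_specializes _) |>.eq
      have hop : p = o := (Y.fromSpecStalk (f.base x)).isEmbedding.injective (hp.trans ho.symm)
      have : a ∈ p.asIdeal := haP
      rw [hop] at this
      exact ha0 this
    rw [nilradical_eq_zero] at hnil
    exact hnil

end Groth.Agent.S10887
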