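import Groth.Statements.S10889
import Groth.Agent.S4969
import Groth.Agent.L06.FibreDimLocConst
import Groth.Agent.L06.Dim
import Groth.Agent.L16.EtaleFibre.Epi
import Groth.Agent.L15.Ref.Divisor
import Groth.Agent.L29.LocFree
import Mathlib.AlgebraicGeometry.Morphisms.QuasiFinite
import Mathlib.AlgebraicGeometry.Artinian
import Mathlib.AlgebraicGeometry.ZariskisMainTheorem

set_option autoImplicit false
universe u
open CategoryTheory AlgebraicGeometry
open FlatMor

set_option backward.isDefEq.respectTransparency.types false
namespace Groth.Agent.S10889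

/-- Let f : X → Y be proper, flat and of finite presentation, and let V be the set of points of Y whose
fibre is (non-empty and) zero-dimensional. Then V is a clopen subset of Y, and over every open
subset of V the restriction of f is finite, hence finite locally free. -/
theorem result {X Y : Scheme.{u}} (f : X ⟶ Y) [IsProper f] [Flat f]
    [LocallyOfFinitePresentation f] :
    IsClopen {y : Y | topologicalKrullDim (f.base ⁻¹' {y}) = 0} ∧
      ∀ U : Y.Opens, (U : Set Y) ⊆ {y : Y | topologicalKrullDim (f.base ⁻¹' {y}) = 0} → IsFinite (f ∣_ U) := by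
  have hlc := Groth.Agent.S4969.result f (Coh.structureModule X) Groth.L16.EtaleFibre.isFP_structure
    (Groth.L16.EtaleFibre.isFlatOver_structure f)
  have hall : ∀ (y : Y) (z : ↥(f.fiber y)),
      Nontrivial (((Scheme.Modules.pullback (f.fiberι y)).obj (Coh.structureModule X)).presheaf.stalk z) := fun y z => by
    haveI : Nontrivial ((Coh.structureModule (f.fiber y)).presheaf.stalk z) :=
      (Groth.L15.Ref.strE z).toEquiv.symm.nontrivial
    exact @Equiv.nontrivial _ _ ((Scheme.Modules.toPresheaf _ ⋙ TopCat.Presheaf.stalkFunctor _ z).mapIso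
      (Groth.L29.LocFree.pullbackUnitIso (f.fiberι y))).addCommGroupIsoToAddEquiv.toEquiv this
  have hdim : ∀ y : Y, topologicalKrullDim ↥{z : ↥(f.fiber y) |
      Nontrivial (((Scheme.Modules.pullback (f.fiberι y)).obj (Coh.structureModule X)).presheaf.stalk z)} =
      topologicalKrullDim (f.base ⁻¹' {y}) := fun y => by
    rw [← Groth.L06.FibreDimLocConst.dim_fiber f y, show {z : ↥(f.fiber y) | Nontrivial (((Scheme.Modules.pullback (f.fiberι y)).obj (Coh.structureModule X)).presheaf.stalk z)} =
      Set.univ from Set.eq_univ_of_forall (hall y)]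
    exact IsHomeomorph.topologicalKrullDim_eq _ (Homeomorph.Set.univ _).isHomeomorph
  simp only [hdim] at hlc
  refine ⟨hlc.isClopen_fiber 0, fun U hU => ?_⟩
  haveI : IsProper (f ∣_ U) := MorphismProperty.of_isPullback (isPullback_morphismRestrict f U).flip ‹_›
  haveI : LocallyQuasiFinite (f ∣_ U) := by
    refine LocallyQuasiFinite.of_finite_preimage_singleton _ fun y => ?_
    haveI : LocallyOfFiniteType (f.fiberToSpecResidueField y.1) := MorphismProperty.pullback_snd _ _ inferInstance
    haveI : QuasiCompact (f.fiberToSpecResidueField y.1) := MorphismProperty.pullback_snd _ _ inferInstance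
    haveI : IsLocallyNoetherian (f.fiber y.1) := LocallyOfFiniteType.isLocallyNoetherian (f.fiberToSpecResidueField y.1)
    haveI : CompactSpace (f.fiber y.1) := QuasiCompact.compactSpace_of_compactSpace (f.fiberToSpecResidueField y.1)
    haveI : IsNoetherian (f.fiber y.1) := ⟨⟩
    have h0 : topologicalKrullDim ↥(f.fiber y.1) ≤ 0 :=
      ((Groth.L06.FibreDimLocConst.dim_fiber f y.1).trans (hU y.2)).le
    haveI : Finite ↥(f.fiber y.1) := (Groth.L06.Dim.discreteTopology_of_dim_le_zero h0).1
    have hfin : (f.base ⁻¹' {y.1}).Finite := by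
      rw [← f.range_fiberι y.1]; exact Set.finite_range _
    refine (hfin.preimage (f ⁻¹ᵁ U).ι.isOpenEmbedding.injective.injOn).subset fun x hx => ?_
    have h1 : (f ∣_ U) x = y := hx
    show f ((f ⁻¹ᵁ U).ι x) = y.1
    rw [← Scheme.Hom.comp_apply, ← morphismRestrict_ι, Scheme.Hom.comp_apply, h1]
    rfl
  exact IsFinite.of_isProper_of_locallyQuasiFinite _

end Groth.Agent.S10889
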