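import Groth.Statements.S10890
import Groth.Agent.L02.CAlg.BE.Pivot
import Mathlib.RingTheory.LocalRing.Module
import Mathlib.LinearAlgebra.FreeModule.Finite.Basic

set_option autoImplicit false
universe u
open CAlgX

namespace Groth.Agent.S10890

/-- (i) ⇔ (ii): let R be a local ring, A an n × m matrix over R regarded as a linear map R^m → R^n, and
1 ≤ r ≤ n. Then the image of A is a direct summand of R^n of rank r if and only if every (r+1) ×
(r+1) minor of A is zero and the r × r minors of A generate the unit ideal. (The printed statement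
is over an arbitrary ring with 'direct summand of rank r'; its proof localises at once, and this row
states the local case, where a direct summand of R^n is free and its rank is its finrank.) -/
theorem result (R : Type u) [CommRing R] [IsLocalRing R] (n m r : ℕ)
    (hr : 1 ≤ r) (hrn : r ≤ n) (A : Matrix (Fin n) (Fin m) R) :
    (∃ N' : Submodule R (Fin n → R), IsCompl (LinearMap.range (Matrix.mulVecLin A)) N' ∧
        Module.finrank R (LinearMap.range (Matrix.mulVecLin A)) = r) ↔
      (CAlgX.minorIdeal A (r + 1) = ⊥ ∧ CAlgX.minorIdeal A r = ⊤) := by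
  classical
  constructor
  · rintro ⟨N', hc, hrk⟩
    set N := LinearMap.range (Matrix.mulVecLin A)
    have : Module.Projective R N :=
      Module.Projective.of_split N.subtype (N.projectionOnto N' hc) (LinearMap.ext fun x => Submodule.projectionOnto_apply_left hc x)
    have : Module.Finite R N := Module.Finite.range _
    have : Module.Free R N := Module.free_of_flat_of_isLocalRing
    let b : N ≃ₗ[R] (Fin r → R) := ((Module.finBasis R N).reindex (finCongr hrk)).equivFun
    let U : Matrix (Fin n) (Fin r) R := LinearMap.toMatrix' (N.subtype ∘ₗ b.symm.toLinearMap)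
    let V : Matrix (Fin r) (Fin m) R := LinearMap.toMatrix' (b.toLinearMap ∘ₗ (Matrix.mulVecLin A).rangeRestrict)
    have hA : A = U * V := by
      rw [← LinearMap.toMatrix'_comp]
      conv_lhs => rw [← LinearMap.toMatrix'_toLin' A]
      congr 1
      ext x
      simp [N]
    let W : Matrix (Fin r) (Fin n) R := LinearMap.toMatrix' (b.toLinearMap ∘ₗ N.projectionOnto N' hc)
    obtain ⟨s, hs⟩ := Module.projective_lifting_property (Matrix.mulVecLin A).rangeRestrict b.symm.toLinearMap
      (LinearMap.surjective_rangeRestrict _)
    have hWU : W * U = 1 := by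
      rw [← LinearMap.toMatrix'_comp, ← LinearMap.toMatrix'_id]
      congr 1
      ext x
      simp
    have hVZ : V * LinearMap.toMatrix' s = 1 := by
      rw [← LinearMap.toMatrix'_comp, ← LinearMap.toMatrix'_id, LinearMap.comp_assoc, hs]
      congr 1
      ext x
      simp
    refine ⟨?_, ?_⟩
    · rw [CAlgX.minorIdeal, Ideal.span_eq_bot]
      rintro _ ⟨⟨f, g⟩, rfl⟩
      show (A.submatrix f g).det = 0
      rw [hA, Matrix.submatrix_mul U V f id g Function.bijective_id]
      let U' : Matrix (Fin (r + 1)) (Fin (r + 1)) R :=
        Matrix.of fun x y => Fin.snoc (α := fun _ => R) ((U.submatrix f id) x) 0 y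
      let V' : Matrix (Fin (r + 1)) (Fin (r + 1)) R :=
        Matrix.of (Fin.snoc (α := fun _ => Fin (r + 1) → R) (V.submatrix id g) 0)
      have : U.submatrix f id * V.submatrix id g = U' * V' := by
        ext x y
        simp [U', V', Matrix.mul_apply, Fin.sum_univ_castSucc]
      rw [this, Matrix.det_mul, Matrix.det_eq_zero_of_column_eq_zero (Fin.last r)
        (fun x => by simp [U']), zero_mul]
    · let κ := IsLocalRing.residue R
      have h1 : (W.map κ) * (A.map κ) * ((LinearMap.toMatrix' s).map κ) = 1 := by
        rw [← Matrix.map_mul, ← Matrix.map_mul, hA, ← Matrix.mul_assoc W, hWU, Matrix.one_mul, hVZ,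
          Matrix.map_one _ (map_zero κ) (map_one κ)]
      have hr' : (A.map κ).rank = r := by
        refine le_antisymm ?_ ?_
        · rw [hA, Matrix.map_mul]
          exact (Matrix.rank_mul_le_right _ _).trans (Matrix.rank_le_card_height _ |>.trans_eq (Fintype.card_fin r))
        · calc r = ((W.map κ) * (A.map κ) * ((LinearMap.toMatrix' s).map κ)).rank := by
                rw [h1, Matrix.rank_one, Fintype.card_fin]
            _ ≤ (A.map κ).rank := (Matrix.rank_mul_le_left _ _).trans (Matrix.rank_mul_le_right _ _)
      obtain ⟨f, g, hfg⟩ := L02.CAlg.BE.exists_minor_ne_zero (A.map κ) hr'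
      refine Ideal.eq_top_of_isUnit_mem _ (Ideal.subset_span ⟨(f, g), rfl⟩) ?_
      rw [← IsLocalRing.residue_ne_zero_iff_isUnit, RingHom.map_det]
      exact hfg
  · rintro ⟨h2, h1⟩
    obtain ⟨f, g, hdet, hAGA⟩ := L02.CAlg.BE.piv_of_minors h1 h2
    set G := L02.CAlg.BE.ginv A f g
    let P : (Fin n → R) →ₗ[R] (Fin n → R) := Matrix.mulVecLin (A * G)
    have hP : LinearMap.range P = LinearMap.range (Matrix.mulVecLin A) := by
      refine le_antisymm ?_ ?_
      · show LinearMap.range (Matrix.mulVecLin (A * G)) ≤ _
        rw [Matrix.mulVecLin_mul]; exact LinearMap.range_comp_le_range _ _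
      · conv_lhs => rw [← hAGA]
        rw [Matrix.mulVecLin_mul (A * G) A]; exact LinearMap.range_comp_le_range _ _
    have hidem : P ∘ₗ P = P := by
      show Matrix.mulVecLin (A * G) ∘ₗ Matrix.mulVecLin (A * G) = Matrix.mulVecLin (A * G)
      rw [← Matrix.mulVecLin_mul, ← Matrix.mul_assoc, hAGA]
    refine ⟨LinearMap.ker P, ?_, ?_⟩
    · rw [← hP]
      exact LinearMap.IsIdempotentElem.isCompl hidem
    · let U := A.submatrix id g
      have hU : Function.Injective (Matrix.mulVecLin U) := by
        intro x y hxy
        have h : (A.submatrix f g).mulVec x = (A.submatrix f g).mulVec y := by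
          ext i
          exact congrFun hxy (f i)
        have h' := congrArg (fun v => (A.submatrix f g)⁻¹.mulVec v) h
        simpa only [Matrix.mulVec_mulVec, Matrix.nonsing_inv_mul _ hdet, Matrix.one_mulVec] using h'
      have hr' : LinearMap.range (Matrix.mulVecLin U) = LinearMap.range (Matrix.mulVecLin A) := by
        refine le_antisymm ?_ ?_
        · have : U = A * (1 : Matrix (Fin m) (Fin m) R).submatrix id g := by
            ext i j; simp [U, Matrix.mul_apply, Matrix.one_apply]
          rw [this, Matrix.mulVecLin_mul]; exact LinearMap.range_comp_le_range _ _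
        · conv_lhs => rw [← hAGA]
          rw [L02.CAlg.BE.mul_ginv_mul, Matrix.mul_assoc, Matrix.mulVecLin_mul]
          exact LinearMap.range_comp_le_range _ _
      rw [← hr', LinearMap.finrank_range_of_inj hU, Module.finrank_fin_fun]

end Groth.Agent.S10890
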