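import Groth.Statements.S10891
import Mathlib.Algebra.MvPolynomial.CommRing
import Mathlib.RingTheory.RootsOfUnity.PrimitiveRoots
import Mathlib.Algebra.MvPolynomial.Eval
import Mathlib.RingTheory.Adjoin.Basic
import Mathlib.Data.Fin.VecNotation

set_option autoImplicit false
universe u
open CAlg

namespace Groth.Agent.S10891

/-- Let k be a field containing a primitive r-th root of unity ζ and 0 < a < r. The cyclic group of r-th
roots of unity acts on k[X, Y] through the generator X ↦ ζ⁻¹ X, Y ↦ ζ^(−a) Y, and the ring of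
invariants of this action is generated as a k-algebra by the monomials X^i Y^j with 0 ≤ i, j ≤ r,
(i, j) ≠ (r, r) and i + a·j ≡ 0 (mod r). (The printed statement writes n for the order of the group,
which the surrounding section calls r.) -/
theorem result (k : Type u) [Field k] (r a : ℕ) (ha : 0 < a) (har : a < r)
    (ζ : k) (hζ : IsPrimitiveRoot ζ r) (p : MvPolynomial (Fin 2) k) :
    MvPolynomial.aeval (fun i : Fin 2 => if i = 0 then MvPolynomial.C ζ⁻¹ * MvPolynomial.X 0
        else MvPolynomial.C (ζ⁻¹ ^ a) * (MvPolynomial.X 1 : MvPolynomial (Fin 2) k)) p = p ↔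
      p ∈ Algebra.adjoin k {q : MvPolynomial (Fin 2) k | ∃ i j : ℕ, i ≤ r ∧ j ≤ r ∧ ¬ (i = r ∧ j = r) ∧
        r ∣ i + a * j ∧ q = MvPolynomial.X 0 ^ i * MvPolynomial.X 1 ^ j} := by
  classical
  set f : Fin 2 → MvPolynomial (Fin 2) k := fun i : Fin 2 => if i = 0 then MvPolynomial.C ζ⁻¹ * MvPolynomial.X 0
        else MvPolynomial.C (ζ⁻¹ ^ a) * (MvPolynomial.X 1 : MvPolynomial (Fin 2) k) with hf
  set S : Subalgebra k (MvPolynomial (Fin 2) k) := Algebra.adjoin k {q : MvPolynomial (Fin 2) k | ∃ i j : ℕ, i ≤ r ∧ j ≤ r ∧ ¬ (i = r ∧ j = r) ∧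
        r ∣ i + a * j ∧ q = MvPolynomial.X 0 ^ i * MvPolynomial.X 1 ^ j} with hS
  have hr : 0 < r := by omega
  have hXmon : ∀ i j : ℕ, r ∣ i + a * j →
      (MvPolynomial.X 0 : MvPolynomial (Fin 2) k) ^ i * MvPolynomial.X 1 ^ j ∈ S := by
    intro i j
    induction h : i + j using Nat.strong_induction_on generalizing i j with
    | _ N ih =>
    intro hdvd
    by_cases hi : r ≤ i
    · obtain ⟨i', rfl⟩ := Nat.exists_eq_add_of_le hi
      rw [pow_add, mul_assoc]
      refine Subalgebra.mul_mem _ (Algebra.subset_adjoin ⟨r, 0, le_rfl, Nat.zero_le _, by omega,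
        by simp, by simp⟩) (ih _ (by omega) i' j rfl ?_)
      rwa [add_assoc, Nat.dvd_add_right dvd_rfl] at hdvd
    · by_cases hj : r ≤ j
      · obtain ⟨j', rfl⟩ := Nat.exists_eq_add_of_le hj
        rw [pow_add, mul_left_comm]
        refine Subalgebra.mul_mem _ (Algebra.subset_adjoin ⟨0, r, Nat.zero_le _, le_rfl, by omega,
          by simp, by simp⟩) (ih _ (by omega) i j' rfl ?_)
        rwa [mul_add, add_left_comm, Nat.dvd_add_right (dvd_mul_left r a)] at hdvd
      · exact Algebra.subset_adjoin ⟨i, j, by omega, by omega, by omega, hdvd, rfl⟩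
  have hmon : ∀ (m : Fin 2 →₀ ℕ) (c : k), MvPolynomial.monomial m c =
      MvPolynomial.C c * (MvPolynomial.X 0 ^ m 0 * MvPolynomial.X 1 ^ m 1) := by
    intro m c
    rw [MvPolynomial.monomial_eq, Finsupp.prod_fintype _ _ (fun i => pow_zero _), Fin.prod_univ_two]
  have hact : ∀ (i j : ℕ), MvPolynomial.aeval f
      ((MvPolynomial.X 0 : MvPolynomial (Fin 2) k) ^ i * MvPolynomial.X 1 ^ j) =
      MvPolynomial.C (ζ⁻¹ ^ (i + a * j)) *
        (MvPolynomial.X 0 ^ i * MvPolynomial.X 1 ^ j) := by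
    intro i j
    rw [map_mul, map_pow, map_pow, MvPolynomial.aeval_X, MvPolynomial.aeval_X]
    have h0 : f 0 = MvPolynomial.C ζ⁻¹ * MvPolynomial.X 0 := by simp [hf]
    have h1 : f 1 = MvPolynomial.C (ζ⁻¹ ^ a) * MvPolynomial.X 1 := by simp [hf]
    rw [h0, h1, mul_pow, mul_pow, ← map_pow, ← map_pow, ← pow_mul, pow_add, map_mul]
    ring
  have hcoeff : ∀ (p : MvPolynomial (Fin 2) k) (m : Fin 2 →₀ ℕ),
      (MvPolynomial.aeval f p).coeff m = ζ⁻¹ ^ (m 0 + a * m 1) * p.coeff m := by
    intro p m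
    induction p using MvPolynomial.induction_on' with
    | monomial u c =>
      rw [hmon u c, map_mul, hact, MvPolynomial.aeval_C, MvPolynomial.algebraMap_eq,
        ← mul_assoc, ← map_mul, MvPolynomial.coeff_C_mul, MvPolynomial.coeff_C_mul]
      by_cases hu : u = m
      · subst hu; ring
      · have hz : MvPolynomial.coeff m ((MvPolynomial.X 0 : MvPolynomial (Fin 2) k) ^ u 0 *
            MvPolynomial.X 1 ^ u 1) = 0 := by
          have := hmon u 1
          rw [MvPolynomial.C_1, one_mul] at this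
          rw [← this, MvPolynomial.coeff_monomial, if_neg hu]
        rw [hz]; ring
    | add p q hp hq => rw [map_add, MvPolynomial.coeff_add, MvPolynomial.coeff_add, hp, hq]; ring
  constructor
  · intro hp
    rw [← MvPolynomial.support_sum_monomial_coeff p]
    refine Subalgebra.sum_mem _ fun m hm => ?_
    rw [hmon]
    refine Subalgebra.mul_mem _ (Subalgebra.algebraMap_mem _ _) (hXmon _ _ ?_)
    have h1 := hcoeff p m
    rw [hp] at h1
    have hc : p.coeff m ≠ 0 := MvPolynomial.mem_support_iff.mp hm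
    have h2 : ζ⁻¹ ^ (m 0 + a * m 1) = 1 := by
      exact (mul_eq_right₀ hc).mp h1.symm
    rw [inv_pow, inv_eq_one] at h2
    exact (hζ.pow_eq_one_iff_dvd _).mp h2
  · intro hp
    have hle : S ≤ AlgHom.equalizer (MvPolynomial.aeval f) (AlgHom.id k _) := by
      refine Algebra.adjoin_le ?_
      rintro q ⟨i, j, -, -, -, hdvd, rfl⟩
      show MvPolynomial.aeval f _ = _
      rw [hact, inv_pow, (hζ.pow_eq_one_iff_dvd _).mpr hdvd, inv_one, map_one, one_mul]
      rfl
    exact hle hp


end Groth.Agent.S10891
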