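import Groth.Statements.S10893
import Groth.Agent.L21.Mero.AbsCurve

set_option autoImplicit false
set_option backward.isDefEq.respectTransparency false
universe u
open CategoryTheory AlgebraicGeometry
open Curves

namespace Groth.Agent.S10893

/-- Let C be an absolute curve (Noetherian, local rings at closed points one-dimensional) none of whose
points is open, and U ⊆ C an open dense subset. Then there is an effective divisor D on C with
support contained in U and meeting every irreducible component of C. -/
theorem result {C : Scheme.{u}} [IsNoetherian C]
    (hC : ∀ x : C, IsClosed ({x} : Set C) → ringKrullDim (C.presheaf.stalk x) = 1)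
    (hpt : ∀ x : C, ¬ IsOpen ({x} : Set C)) (U : C.Opens) (hU : Dense (U : Set C)) :
    ∃ D : Mero.Divisor C, Mero.IsEffective D ∧ Mero.supp D ⊆ (U : Set C) ∧
      ∀ Z ∈ irreducibleComponents (C : Type u), (Mero.supp D ∩ Z).Nonempty := by
  exact Groth.L21.Mero.exists_effective_meeting_components hC hpt U hU

end Groth.Agent.S10893
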