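import Groth.Statements.S10894
import Groth.Agent.L21.Mero.AbsCurve

set_option autoImplicit false
set_option backward.isDefEq.respectTransparency false
universe u
open CategoryTheory AlgebraicGeometry
open Curves

namespace Groth.Agent.S10894

/-- On an absolute curve C (Noetherian, local rings at closed points one-dimensional) every divisor D is
a difference of two effective divisors each supported inside the support of D (divisors are written
multiplicatively, so the difference is D₁ · D₂⁻¹). -/
theorem result {C : Scheme.{u}} [IsNoetherian C]
    (hC : ∀ x : C, IsClosed ({x} : Set C) → ringKrullDim (C.presheaf.stalk x) = 1) (D : Mero.Divisor C) :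
    ∃ D₁ D₂ : Mero.Divisor C, Mero.IsEffective D₁ ∧ Mero.IsEffective D₂ ∧ D = D₁ * D₂⁻¹ ∧
      Mero.supp D₁ ⊆ Mero.supp D ∧ Mero.supp D₂ ⊆ Mero.supp D := by
  exact Groth.L21.Mero.exists_effective_div_effective hC D

end Groth.Agent.S10894
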