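import Groth.Statements.S10895
import Mathlib.AlgebraicGeometry.Morphisms.ClosedImmersion
import Mathlib.AlgebraicGeometry.Morphisms.FinitePresentation
import Mathlib.RingTheory.Flat.FaithfullyFlat.Basic
import Mathlib.RingTheory.Flat.FaithfullyFlat.Algebra

set_option autoImplicit false
universe u
open CategoryTheory AlgebraicGeometry
open FlatMor

namespace Groth.Agent.S10895
open CategoryTheory CategoryTheory.Limits AlgebraicGeometry TopologicalSpace.Opens


/-- A closed immersion of finite presentation which is flat at a point x is an isomorphism over some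
open neighbourhood of the image of x. -/
theorem result {X Y : Scheme.{u}} (f : X ⟶ Y) [IsClosedImmersion f]
    [LocallyOfFinitePresentation f] (x : X) (hflat : (f.stalkMap x).hom.Flat) :
    ∃ V : Y.Opens, f.base x ∈ V ∧ IsIso (f ∣_ V) := by
  obtain ⟨(V : Y.Opens), hV, hyV, -⟩ :=
    TopologicalSpace.Opens.isBasis_iff_nbhd.mp Y.isBasis_affineOpens (TopologicalSpace.Opens.mem_top (f.base x))
  have hU : IsAffineOpen (f ⁻¹ᵁ V) := hV.preimage f
  have hfp : (f.app V).hom.FinitePresentation := by
    have h := f.finitePresentation_appLE hV hU le_rfl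
    rwa [Scheme.Hom.app_eq_appLE]
  have hsurj : Function.Surjective (f.app V) := f.app_surjective V hV
  have hfg : (RingHom.ker (f.app V).hom).FG := by
    algebraize [(f.app V).hom]
    exact Algebra.FinitePresentation.ker_fG_of_surjective (Algebra.ofId Γ(Y, V) Γ(X, f ⁻¹ᵁ V)) hsurj
  obtain ⟨n, a, ha⟩ := Submodule.fg_iff_exists_fin_generating_family.mp hfg
  have hinj : Function.Injective (f.stalkMap x).hom := by
    algebraize [(f.stalkMap x).hom]
    have : Module.FaithfullyFlat (Y.presheaf.stalk (f x)) (X.presheaf.stalk x) :=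
      @Module.FaithfullyFlat.of_flat_of_isLocalHom _ _ _ _ _ _ _ (hflat : _) (by
        rw [RingHom.algebraMap_toAlgebra]; infer_instance)
    exact FaithfulSMul.algebraMap_injective _ _
  have hex : ∀ i, ∃ (W : Y.Opens) (hW : W ≤ V), f.base x ∈ W ∧
      Y.presheaf.map (homOfLE hW).op (a i) = 0 := by
    intro i
    have hai : f.app V (a i) = 0 := by
      have : a i ∈ RingHom.ker (f.app V).hom := ha ▸ Submodule.subset_span ⟨i, rfl⟩
      exact this
    have h0 : Y.presheaf.germ V (f x) hyV (a i) = 0 := by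
      apply hinj
      rw [map_zero]
      exact (f.germ_stalkMap_apply V x hyV (a i)).trans (by rw [hai, map_zero])
    obtain ⟨W, hxW, iWV, iWV', hW⟩ := Y.presheaf.germ_eq (f x) hyV hyV (a i) 0 (by rw [h0, map_zero])
    rw [map_zero] at hW
    exact ⟨W, leOfHom iWV, hxW, hW⟩
  choose W hW hxW ha0 using hex
  let O : Y.Opens := ⟨⋂ i, (W i : Set Y), isOpen_iInter_of_finite fun i => (W i).2⟩
  obtain ⟨g, hgle, hxg⟩ := hV.exists_basicOpen_le (V := O) ⟨f.base x, Set.mem_iInter.mpr hxW⟩ hyV
  refine ⟨Y.basicOpen g, hxg, ?_⟩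
  have hD : IsAffineOpen (Y.basicOpen g) := hV.basicOpen g
  have hker : f.ker.ideal (Y.affineBasicOpen (U := ⟨V, hV⟩) g) = ⊥ := by
    refine (f.ker.map_ideal_basicOpen ⟨V, hV⟩ g).symm.trans ((Ideal.map_eq_bot_iff_le_ker _).mpr ?_)
    rw [Scheme.Hom.ker_apply, ← ha, Submodule.span_le]
    rintro _ ⟨i, rfl⟩
    have hle : Y.basicOpen g ≤ W i := fun z hz => Set.mem_iInter.mp (hgle hz) i
    change Y.presheaf.map (homOfLE (Y.basicOpen_le g)).op (a i) = 0
    rw [show (homOfLE (Y.basicOpen_le g)).op = (homOfLE (hW i)).op ≫ (homOfLE hle).op from rfl,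
      Functor.map_comp, CommRingCat.comp_apply, ha0 i, map_zero]
  rw [Scheme.Hom.ker_apply, ← RingHom.injective_iff_ker_eq_bot] at hker
  have : IsAffine (Y.basicOpen g) := hD
  apply IsClosedImmersion.isIso_of_injective_of_isAffine
  rw [morphismRestrict_appTop]
  have hr : ∀ (O : Y.Opens), O = Y.basicOpen g → Function.Injective (f.app O) := by
    rintro _ rfl; exact hker
  exact ((ConcreteCategory.bijective_of_isIso (X.presheaf.map (eqToHom _).op)).1.comp
    (hr _ (Scheme.Opens.ι_image_top _)))

end Groth.Agent.S10895
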