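
import Groth.Statements.S10898
import Mathlib.RingTheory.Ideal.Height
import Mathlib.RingTheory.Polynomial.Basic

set_option autoImplicit false
universe u
open Polynomial
open WDiv

namespace Groth.Agent.S10898

/-- Let A be a Noetherian integral domain and P a prime ideal of height 1 of the polynomial ring A[X].
Then either P meets A in 0 only, or its contraction p = P ∩ A is a prime of height 1 of A and P is
the extension p·A[X]. (The published lemma also assumes A regular in codimension 1; that hypothesis
is not used for this assertion.) -/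
theorem result (A : Type u) [CommRing A] [IsDomain A]
    [IsNoetherianRing A] (P : Ideal A[X]) [P.IsPrime] (hP : P.height = 1) :
    P.comap (C : A →+* A[X]) = ⊥ ∨
      ((P.comap (C : A →+* A[X])).height = 1 ∧ P = (P.comap (C : A →+* A[X])).map C) := by
  set p := P.comap (C : A →+* A[X]) with hp
  rcases eq_or_ne p ⊥ with h | h
  · exact Or.inl h
  right
  have hmap : ∀ q : Ideal A, q.IsPrime → q ≠ ⊥ → q ≤ p → q.map C = P := by
    intro q hq hq0 hqp
    haveI := hq
    haveI : (q.map (C : A →+* A[X])).IsPrime := Ideal.isPrime_map_C_of_isPrime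
    have hle : q.map C ≤ P := Ideal.map_le_iff_le_comap.2 hqp
    have hne : q.map (C : A →+* A[X]) ≠ ⊥ := by
      rwa [Ne, Ideal.map_eq_bot_iff_of_injective Polynomial.C_injective]
    by_contra hcon
    have h1 : (q.map (C : A →+* A[X])).height < ((1 : ℕ) : ℕ∞) :=
      (Ideal.height_le_iff.1 (hP.le.trans_eq Nat.cast_one.symm)) _ inferInstance
        (lt_of_le_of_ne hle hcon)
    rw [Nat.cast_one, ENat.lt_one_iff_eq_zero, Ideal.height_eq_zero_iff_eq_bot] at h1
    exact hne h1
  have hPeq : P = p.map C := (hmap p inferInstance h le_rfl).symm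
  refine ⟨le_antisymm ?_ ?_, hPeq⟩
  · rw [← Nat.cast_one, Ideal.height_le_iff]
    intro q hq hqp
    rw [Nat.cast_one, ENat.lt_one_iff_eq_zero, Ideal.height_eq_zero_iff_eq_bot]
    by_contra hq0
    apply hqp.ne
    have e := congrArg (fun I : Ideal A[X] => I.comap (C : A →+* A[X])) ((hmap q hq hq0 hqp.le).trans hPeq)
    ext x
    have hc : ∀ I : Ideal A, x ∈ (I.map (C : A →+* A[X])).comap C ↔ x ∈ I := fun I => by
      rw [Ideal.mem_comap, Ideal.mem_map_C_iff]
      refine ⟨fun h => by simpa using h 0, fun h n => ?_⟩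
      rw [Polynomial.coeff_C]; split <;> simp [h]
    rw [← hc q, ← hc p]
    exact Iff.of_eq (congrArg (fun I : Ideal A => x ∈ I) e)
  · rw [Order.one_le_iff_pos, pos_iff_ne_zero, Ne, Ideal.height_eq_zero_iff_eq_bot]
    exact h

end Groth.Agent.S10898
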