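
import Groth.Statements.S10899
import Groth.Agent.S10898
import Mathlib.RingTheory.DiscreteValuationRing.TFAE
import Mathlib.RingTheory.KrullDimension.Field
import Mathlib.Tactic.LinearCombination

set_option autoImplicit false
universe u
open Polynomial
open WDiv

namespace Groth.Agent.S10899

/-- Let A be a Noetherian integral domain which is regular in codimension 1, i.e. whose localization at
every prime ideal of height 1 is a discrete valuation ring. Then the polynomial ring A[X] is regular
in codimension 1 as well: its localization at every prime ideal of height 1 is a discrete valuation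
ring. -/
theorem result (A : Type u) [CommRing A]
    [IsDomain A] [IsNoetherianRing A]
    (hR1 : ∀ (p : Ideal A) [p.IsPrime], p.height = 1 → IsDiscreteValuationRing (Localization.AtPrime p))
    (P : Ideal A[X]) [P.IsPrime] (hP : P.height = 1) :
    IsDiscreteValuationRing (Localization.AtPrime P) := by
  classical
  haveI hdom : IsDomain (Localization.AtPrime P) :=
    IsLocalization.isDomain_localization P.primeCompl_le_nonZeroDivisors
  haveI : IsNoetherianRing (Localization.AtPrime P) :=
    IsLocalization.isNoetherianRing P.primeCompl _ inferInstance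
  have hPbot : P ≠ ⊥ := Ideal.ne_bot_of_height_eq_one hP
  -- one element generating `P` up to factors outside `P`
  obtain ⟨g, hgP, hg⟩ : ∃ g ∈ P, ∀ h ∈ P, ∃ s, s ∉ P ∧ g ∣ s * h := by
    rcases Groth.Agent.S10898.result A P hP with h0 | ⟨hh, hPeq⟩
    · -- horizontal: a polynomial of least degree in `P`
      have hdom' : ∃ n, ∃ g ∈ P, g ≠ 0 ∧ g.natDegree = n := by
        obtain ⟨g, hg, hg0⟩ := Submodule.exists_mem_ne_zero_of_ne_bot hPbot
        exact ⟨_, g, hg, hg0, rfl⟩
      obtain ⟨g, hg, hg0, hgd⟩ := Nat.find_spec hdom'
      have hCP : ∀ a : A, a ≠ 0 → C a ∉ P := fun a ha h => ha (by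
        have : a ∈ P.comap (C : A →+* A[X]) := h
        rwa [h0, Ideal.mem_bot] at this)
      refine ⟨g, hg, fun h hh => ?_⟩
      induction h using Polynomial.degree_lt_wf.induction with
      | h h ih =>
        by_cases hsmall : h.degree < g.degree
        · have : h = 0 := by
            by_contra hne
            have h1 : Nat.find hdom' ≤ h.natDegree :=
              Nat.find_min' hdom' ⟨h, hh, hne, rfl⟩
            have h2 := Polynomial.natDegree_lt_natDegree hne hsmall
            omega
          exact ⟨1, fun h => (inferInstance : P.IsPrime).ne_top ((P.eq_top_iff_one).2 h), by simp [this]⟩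
        · have hle : g.degree ≤ h.degree := not_lt.1 hsmall
          have hne : h ≠ 0 := by
            rintro rfl
            simp [hg0] at hle
          set k := h.natDegree - g.natDegree with hk
          set h' := C g.leadingCoeff * h - C h.leadingCoeff * X ^ k * g with hh'
          have hmem : h' ∈ P := P.sub_mem (P.mul_mem_left _ hh) (P.mul_mem_left _ hg)
          have hlc : g.leadingCoeff ≠ 0 := leadingCoeff_ne_zero.2 hg0
          have hnd : g.natDegree ≤ h.natDegree :=
            Polynomial.natDegree_le_natDegree hle
          have hdeg1 : (C g.leadingCoeff * h).degree = h.degree := Polynomial.degree_C_mul hlc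
          have hdeg2 : (C h.leadingCoeff * X ^ k * g).degree = h.degree := by
            rw [Polynomial.degree_mul, Polynomial.degree_C_mul_X_pow _ (leadingCoeff_ne_zero.2 hne),
              Polynomial.degree_eq_natDegree hg0, Polynomial.degree_eq_natDegree hne, ← Nat.cast_add]
            congr 1; omega
          have hlt : h'.degree < h.degree := by
            refine lt_of_lt_of_eq (Polynomial.degree_sub_lt (hdeg1.trans hdeg2.symm) ?_ ?_) hdeg1
            · exact mul_ne_zero (by simpa using hlc) hne
            · simp only [Polynomial.leadingCoeff_mul, Polynomial.leadingCoeff_C,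
                Polynomial.leadingCoeff_X_pow, mul_one]
              ring
          obtain ⟨s, hs, hdvd⟩ := ih h' hlt hmem
          refine ⟨s * C g.leadingCoeff, fun hm => ?_, ?_⟩
          · rcases (inferInstance : P.IsPrime).mem_or_mem hm with hm | hm
            · exact hs hm
            · exact hCP _ hlc hm
          · have : s * C g.leadingCoeff * h = s * h' + s * (C h.leadingCoeff * X ^ k) * g := by
              rw [hh']; ring
            rw [this]
            exact dvd_add hdvd (dvd_mul_left _ _)
    · -- vertical
      set p := P.comap (C : A →+* A[X]) with hp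
      haveI := hR1 p hh
      obtain ⟨ϖ, hϖ⟩ := IsDiscreteValuationRing.exists_irreducible (Localization.AtPrime p)
      obtain ⟨⟨a, t⟩, rfl⟩ := IsLocalization.mk'_surjective p.primeCompl ϖ
      have ha : a ∈ p := by
        have := hϖ.maximalIdeal_eq ▸ Ideal.mem_span_singleton_self
          (IsLocalization.mk' (Localization.AtPrime p) a t)
        exact (IsLocalization.AtPrime.mk'_mem_maximal_iff (Localization.AtPrime p) p a t).1 this
      have key : ∀ x ∈ p, ∃ s, s ∉ p ∧ a ∣ s * x := by
        intro x hx
        have hxm : algebraMap A (Localization.AtPrime p) x ∈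
            IsLocalRing.maximalIdeal (Localization.AtPrime p) :=
          (IsLocalization.AtPrime.to_map_mem_maximal_iff _ p x).2 hx
        rw [hϖ.maximalIdeal_eq, Ideal.mem_span_singleton'] at hxm
        obtain ⟨y, hy⟩ := hxm
        obtain ⟨⟨b, u⟩, rfl⟩ := IsLocalization.mk'_surjective p.primeCompl y
        rw [← IsLocalization.mk'_mul, IsLocalization.mk'_eq_iff_eq_mul, ← map_mul,
          IsLocalization.eq_iff_exists p.primeCompl] at hy
        obtain ⟨c, hc⟩ := hy
        refine ⟨(c * (u * t) : p.primeCompl), (c * (u * t) : p.primeCompl).2, ⟨c * b, ?_⟩⟩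
        push_cast
        push_cast at hc
        linear_combination -hc
      refine ⟨C a, ha, fun h hh' => ?_⟩
      rw [hPeq] at hh'
      induction hh' using Submodule.span_induction with
      | mem y hy =>
        obtain ⟨x, hx, rfl⟩ := hy
        obtain ⟨s, hs, hd⟩ := key x hx
        exact ⟨C s, hs, by rw [← map_mul]; exact map_dvd C hd⟩
      | zero =>
        exact ⟨1, fun h => (inferInstance : P.IsPrime).ne_top ((P.eq_top_iff_one).2 h), by simp⟩
      | add y z _ _ hy hz =>
        obtain ⟨s, hs, hd⟩ := hy
        obtain ⟨s', hs', hd'⟩ := hz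
        refine ⟨s * s', fun h => ((inferInstance : P.IsPrime).mem_or_mem h).elim hs hs', ?_⟩
        rw [show s * s' * (y + z) = (s * y) * s' + (s' * z) * s by ring]
        exact dvd_add (hd.mul_right _) (hd'.mul_right _)
      | smul r y _ hy =>
        obtain ⟨s, hs, hd⟩ := hy
        exact ⟨s, hs, by rw [smul_eq_mul, mul_left_comm]; exact hd.mul_left _⟩
  have hprinc : (IsLocalRing.maximalIdeal (Localization.AtPrime P)).IsPrincipal := by
    refine ⟨⟨algebraMap A[X] _ g, le_antisymm ?_ ?_⟩⟩
    · intro z hz
      obtain ⟨⟨h, u⟩, rfl⟩ := IsLocalization.mk'_surjective P.primeCompl z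
      replace hz : h ∈ P := (IsLocalization.AtPrime.mk'_mem_maximal_iff (Localization.AtPrime P) P h u).1 hz
      obtain ⟨s, hs, q, hq⟩ := hg h hz
      refine Ideal.mem_span_singleton'.2
        ⟨IsLocalization.mk' _ q (u * ⟨s, hs⟩ : P.primeCompl), ?_⟩
      rw [mul_comm, IsLocalization.mul_mk'_eq_mk'_of_mul, IsLocalization.mk'_eq_iff_eq]
      congr 1
      simp only [Submonoid.coe_mul]
      linear_combination (-(u : A[X])) * hq
    · rw [Submodule.span_le, Set.singleton_subset_iff]
      exact (IsLocalization.AtPrime.to_map_mem_maximal_iff _ P g).2 hgP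
  have hne : ¬ IsField (Localization.AtPrime P) := by
    intro hf
    have h1 := IsLocalization.AtPrime.ringKrullDim_eq_height P (Localization.AtPrime P)
    rw [ringKrullDim_eq_zero_of_isField hf, hP] at h1
    exact zero_ne_one (WithBot.coe_inj.1 h1)
  exact ((IsDiscreteValuationRing.TFAE (Localization.AtPrime P) hne).out 0 4).2 hprinc

end Groth.Agent.S10899
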