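import Groth.Statements.S1090
import Groth.Agent.L10.Fil.Homotopy

set_option autoImplicit false
universe v u
open CategoryTheory CategoryTheory.Limits Opposite
open FilD

namespace Groth.Agent.S1090

/-- Let A be an abelian category with enough injectives, f : X ⟶ Y a morphism of finite filtered
objects, and X[0] ⟶ I, Y[0] ⟶ J filtered quasi-isomorphisms into complexes of filtered injective
objects vanishing in negative degrees. Then there is a morphism of complexes I ⟶ J making the
evident square with f[0] commute. -/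
theorem result {A : Type u} [Category.{v} A] [Abelian A] [EnoughInjectives A] {X Y : FilD.FilF A} (f : X ⟶ Y)
    (I : CochainComplex (FilD.FilF A) ℤ) [I.IsStrictlyGE 0] (hI : ∀ n, FilD.IsFilteredInjective (I.X n))
    (a : (CochainComplex.singleFunctor (FilD.FilF A) 0).obj X ⟶ I) (ha : FilD.IsFilteredQuasiIso a)
    (J : CochainComplex (FilD.FilF A) ℤ) [J.IsStrictlyGE 0] (hJ : ∀ n, FilD.IsFilteredInjective (J.X n))
    (b : (CochainComplex.singleFunctor (FilD.FilF A) 0).obj Y ⟶ J) (hb : FilD.IsFilteredQuasiIso b) :
    ∃ φ : I ⟶ J, a ≫ φ = (CochainComplex.singleFunctor (FilD.FilF A) 0).map f ≫ b := by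
  obtain ⟨β, hβ⟩ := (Groth.L10.Fil.precomp_bijective J 0 hJ a ha).2
    ((HomotopyCategory.quotient (FilD.FilF A) (ComplexShape.up ℤ)).map ((CochainComplex.singleFunctor (FilD.FilF A) 0).map f ≫ b))
  obtain ⟨φ, rfl⟩ := (HomotopyCategory.quotient (FilD.FilF A) (ComplexShape.up ℤ)).map_surjective β
  dsimp only at hβ
  rw [← Functor.map_comp] at hβ
  refine ⟨φ, ?_⟩
  let h := HomotopyCategory.homotopyOfEq _ _ hβ
  have hz : ∀ i j, h.hom i j = 0 := fun i j => by
    by_cases hij : j + 1 = i
    · by_cases hi : i = 0
      · exact (CochainComplex.isZero_of_isStrictlyGE J 0 j (by omega)).eq_of_tgt _ _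
      · exact (HomologicalComplex.isZero_single_obj_X (ComplexShape.up ℤ) 0 X i hi).eq_of_src _ _
    · exact h.zero i j (fun e => hij e)
  ext i : 1
  have := h.comm i
  simp [dNext, prevD, hz] at this
  simpa using this

end Groth.Agent.S1090
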