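import Groth.Statements.S10903
import Groth.Agent.L04.CMLoc
import Groth.Agent.L06.CMSequences
import Mathlib.RingTheory.RegularLocalRing.Polynomial
import Mathlib.RingTheory.Ideal.Height
import Mathlib.RingTheory.MvPolynomial.Ideal
import Groth.Agent.L19.SquarePres

set_option autoImplicit false
universe u
open CInt

namespace Groth.Agent.S10903

variable {_unused : Unit}
open IsLocalRing RingTheory.Sequence

/-- Ideals of height equal to the number of generators in a CM local ring are unmixed. -/
theorem local_unmixed {R : Type u} [CommRing R] [IsLocalRing R] [IsNoetherianRing R] [LocCoh.IsCohenMacaulayLocalRing R]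
    (l : List R) (hl : ∀ x ∈ l, x ∈ maximalIdeal R) (hh : (l.length : ℕ∞) ≤ (Ideal.ofList l).height)
    (hm : maximalIdeal R ∈ associatedPrimes R (R ⧸ Ideal.ofList l)) : (maximalIdeal R).height ≤ l.length := by
  have hne : Ideal.ofList l ≠ ⊤ := ne_top_of_le_ne_top (maximalIdeal.isMaximal R).ne_top (Ideal.span_le.mpr hl)
  have hCM : LocCoh.IsCohenMacaulayModule R R := LocCoh.IsCohenMacaulayLocalRing.supportDim_eq_depth
  let e : (R ⧸ (Ideal.ofList l • (⊤ : Submodule R R))) ≃ₗ[R] R ⧸ Ideal.ofList l :=
    Submodule.quotEquivOfEq _ _ (by rw [smul_eq_mul, Ideal.mul_top])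
  have h1 := Groth.L04.supportDim_eq_add_idealDepth hne hCM
  rw [(Groth.L04.isCohenMacaulayRing_iff_height.1 (Groth.L04.isCohenMacaulayRing_of_local R)) _ hne] at h1
  have h2 := Groth.L06.CMSequences.le_supportDim_add (A := R) R l hl
  have h3 : Module.supportDim R (R ⧸ (Ideal.ofList l • (⊤ : Submodule R R))) + l.length = Module.supportDim R R := by
    refine le_antisymm ?_ h2
    rw [h1, ← WithBot.coe_natCast]
    exact add_le_add le_rfl (WithBot.coe_le_coe.mpr hh)
  have hreg := Groth.L06.CMSequences.regular_of_dim l R hCM hl h3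
  have hq := Groth.L04.isCohenMacaulayModule_quotient_ofList hCM hreg hl
  have hm' : maximalIdeal R ∈ associatedPrimes R (R ⧸ (Ideal.ofList l • (⊤ : Submodule R R))) := by
    rw [LinearEquiv.AssociatedPrimes.eq e]; exact hm
  rw [← Groth.L04.ringKrullDim_quotient_eq_supportDim_of_isCM hq hm',
    ringKrullDim_eq_zero_of_isField (Ideal.Quotient.field (maximalIdeal R)).toIsField, zero_add,
    Module.supportDim_self_eq_ringKrullDim, ← IsLocalRing.maximalIdeal_height_eq_ringKrullDim] at h3
  exact (WithBot.coe_le_coe.mp (h3.ge.trans_eq (WithBot.coe_natCast _).symm))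

open CInt in

/-- Let k be a field, S = k[x_0, …, x_n], and f_1, …, f_r with r ≤ n homogeneous polynomials of positive
degrees whose ideal J = (f_1, …, f_r) has height r — the subscheme of P^n_k cut out by the
hypersurfaces f_i = 0 has codimension r, an ideal-theoretic complete intersection. Then J is
saturated with respect to the irrelevant ideal (x_0, …, x_n): an element g of S such that, for each
i, x_i^m g ∈ J for some m, already lies in J. Hence J is the full homogeneous ideal of that
subscheme (a global complete intersection). -/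
theorem result (k : Type u) [Field k] (n r : ℕ)
    (hr : r ≤ n) (f : Fin r → MvPolynomial (Fin (n + 1)) k) (d : Fin r → ℕ)
    (hf : ∀ i, (f i).IsHomogeneous (d i)) (hd : ∀ i, 0 < d i)
    (hJ : (Ideal.span (Set.range f)).height = r) (g : MvPolynomial (Fin (n + 1)) k)
    (hg : ∀ i : Fin (n + 1), ∃ m : ℕ, MvPolynomial.X i ^ m * g ∈ Ideal.span (Set.range f)) :
    g ∈ Ideal.span (Set.range f) := by
  classical
  let S := MvPolynomial (Fin (n + 1)) k
  generalize hJdef : (Ideal.span (Set.range f) : Ideal (MvPolynomial (Fin (n + 1)) k)) = J at hg hJ ⊢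
  by_contra hgJ
  have hg0 : (Submodule.Quotient.mk g : S ⧸ J) ≠ 0 := fun h => hgJ ((Submodule.Quotient.mk_eq_zero J).mp h)
  obtain ⟨p, hp, hgp⟩ := exists_le_isAssociatedPrime_of_isNoetherianRing S _ hg0
  have hpp : p.IsPrime := hp.isPrime
  have hX : ∀ i, MvPolynomial.X i ∈ p := fun i => by
    obtain ⟨m, hm⟩ := hg i
    refine hpp.mem_of_pow_mem m (hgp ?_)
    rw [Submodule.mem_colon_singleton, Submodule.mem_bot, ← Submodule.Quotient.mk_smul, Submodule.Quotient.mk_eq_zero]
    exact hm
  obtain ⟨_, x, hx⟩ := isAssociatedPrime_iff.mp hp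
  obtain ⟨x, rfl⟩ := Submodule.Quotient.mk_surjective J x
  have hxp : ∀ a, a ∈ p ↔ a * x ∈ J := fun a => by
    rw [hx, Submodule.mem_colon_singleton, Submodule.mem_bot, ← Submodule.Quotient.mk_smul, Submodule.Quotient.mk_eq_zero]
    rfl
  have hJp : J ≤ p := fun a ha => (hxp a).mpr (J.mul_mem_right _ ha)
  -- localise at p
  let R := Localization.AtPrime p
  haveI : IsRegularLocalRing R := IsRegularRing.isRegularLocalRing_localization p
  haveI := Groth.L04.isCohenMacaulayLocalRing_of_regular R
  set l : List R := (List.ofFn f).map (algebraMap S R)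
  have hlJ : Ideal.ofList l = J.map (algebraMap S R) := by
    rw [← hJdef, Ideal.map_span, Ideal.ofList]
    congr 1
    ext y
    simp [l]
  have hlm : ∀ y ∈ l, y ∈ maximalIdeal R := fun y hy => by
    obtain ⟨z, hz, rfl⟩ := List.mem_map.1 hy
    obtain ⟨i, rfl⟩ := List.mem_ofFn.1 hz
    exact (IsLocalization.AtPrime.to_map_mem_maximal_iff R p _).2 (hJp (hJdef ▸ Ideal.subset_span ⟨i, rfl⟩))
  have hlen : l.length = r := by simp [l]
  have hh : (l.length : ℕ∞) ≤ (Ideal.ofList l).height := by
    rw [hlJ, hlen, ← hJ, (J.map (algebraMap S R)).height_eq_inf_minimalPrimes]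
    refine le_iInf₂ fun Q hQ => ?_
    have hQp : Q.IsPrime := hQ.1.1
    have h1 : J ≤ Q.comap (algebraMap S R) := Ideal.map_le_iff_le_comap.1 hQ.1.2
    refine (Ideal.height_mono h1).trans_eq ?_
    show (Ideal.under S Q).height = _
    rw [IsLocalization.height_under p.primeCompl]
  have hm : maximalIdeal R ∈ associatedPrimes R (R ⧸ Ideal.ofList l) := by
    refine isAssociatedPrime_iff.mpr ⟨inferInstance, Ideal.Quotient.mk _ (algebraMap S R x), ?_⟩
    refine le_antisymm ?_ (IsLocalRing.le_maximalIdeal ?_)
    · rw [← Localization.AtPrime.map_eq_maximalIdeal, Ideal.map_le_iff_le_comap]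
      intro a ha
      rw [Ideal.mem_comap, Submodule.mem_colon_singleton, Submodule.mem_bot]
      show Ideal.Quotient.mk _ (algebraMap S R a * algebraMap S R x) = 0
      rw [Ideal.Quotient.eq_zero_iff_mem, ← map_mul, hlJ]
      exact Ideal.mem_map_of_mem _ ((hxp a).mp ha)
    · intro htop
      have h1 : (1 : R) ∈ (⊤ : Ideal R) := trivial
      rw [← htop, Submodule.mem_colon_singleton, Submodule.mem_bot, one_smul, Ideal.Quotient.eq_zero_iff_mem, hlJ,
        IsLocalization.algebraMap_mem_map_algebraMap_iff p.primeCompl] at h1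
      obtain ⟨s, hs, hsx⟩ := h1
      exact hs ((hxp s).mpr hsx)
  have h1 := local_unmixed l hlm hh hm
  rw [hlen, ← IsLocalization.height_under p.primeCompl (maximalIdeal R),
    IsLocalization.AtPrime.under_maximalIdeal R p] at h1
  -- p contains the irrelevant ideal
  have h2 : ((n + 1 : ℕ) : ℕ∞) ≤ p.height := by
    let I : Ideal S := RingHom.ker (MvPolynomial.constantCoeff : MvPolynomial (Fin (n + 1)) k →+* k)
    have hIp : I ≤ p := by
      intro q hq
      have hq' : q ∈ Ideal.span (MvPolynomial.X '' (Set.univ : Set (Fin (n + 1)))) := by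
        rw [MvPolynomial.mem_ideal_span_X_image]
        intro m hm
        by_contra! hcon
        have hm0 : m = 0 := Finsupp.ext fun i => hcon i trivial
        rw [hm0, MvPolynomial.mem_support_iff] at hm
        exact hm hq
      exact Ideal.span_le.mpr (Set.image_subset_iff.mpr fun i _ => hX i) hq'
    refine le_trans ?_ (Ideal.height_mono hIp)
    haveI hImax : I.IsMaximal := RingHom.ker_isMaximal_of_surjective _ fun c => ⟨MvPolynomial.C c, MvPolynomial.constantCoeff_C _ c⟩
    rw [Groth.L19.SquarePres.height_maximal I]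
  have h3 : n + 1 ≤ r := by exact_mod_cast h2.trans h1
  omega

end Groth.Agent.S10903
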