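import Groth.Agent.L18.AssocDegree
import Groth.Agent.L18.HilbDiff
import Groth.Statements.S10905
-- import your own Groth.Agent.* helpers here

set_option autoImplicit false
universe u
open Polynomial
open ProjDeg

namespace Groth.Agent.S10905

/-- Let k be a field, R = k[X_0, …, X_n] graded by degree, I a homogeneous prime ideal whose Hilbert
polynomial P (a rational polynomial with P(m) = dim_k R_m − dim_k (I ∩ R_m) for all large m) has
degree ≥ 1, so that Y = V(I) is a projective variety of dimension ≥ 1; let f ∉ I be homogeneous of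
degree d ≥ 1, I' = I + (f), and p_1, …, p_r the minimal prime ideals over I' (listed without
repetition), with Hilbert polynomials Q_i. Define the degree of V(J) as (degree of its Hilbert
polynomial)! times the leading coefficient, and the intersection multiplicity of I and (f) at p_i as
the length of (R/I')_{p_i} over R_{p_i}. Then d · deg Y = Σ_i deg V(p_i) · i(I, (f); p_i). (The
published statement has no dimension hypothesis; for Y a single point the only minimal prime over I'
is the irrelevant ideal, whose Hilbert polynomial is 0, so the right side vanishes while the left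
side does not.) -/
theorem result (k : Type u) [Field k] (n : ℕ)
    (I : Ideal (MvPolynomial (Fin (n + 1)) k)) (hIh : I.IsHomogeneous (CohB1.polyGrading n k)) [I.IsPrime]
    (f : MvPolynomial (Fin (n + 1)) k) (d : ℕ) (hd : 0 < d) (hf : f.IsHomogeneous d) (hfI : f ∉ I)
    (P : ℚ[X])
    (hP : ∃ m₀ : ℕ, ∀ m : ℕ, m₀ ≤ m → P.eval (m : ℚ) =
      (Module.finrank k ↥(CohB1.polyGrading n k m) : ℚ) -
        Module.finrank k ↥(Submodule.restrictScalars k I ⊓ CohB1.polyGrading n k m))
    (hdim : 1 ≤ P.natDegree)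
    (r : ℕ) (p : Fin r → Ideal (MvPolynomial (Fin (n + 1)) k)) [hp : ∀ i, (p i).IsPrime] (hpinj : Function.Injective p)
    (hpmin : ∀ q : Ideal (MvPolynomial (Fin (n + 1)) k), q ∈ (I ⊔ Ideal.span {f}).minimalPrimes ↔ ∃ i, q = p i)
    (Qp : Fin r → ℚ[X])
    (hQp : ∀ i, ∃ m₀ : ℕ, ∀ m : ℕ, m₀ ≤ m → (Qp i).eval (m : ℚ) =
      (Module.finrank k ↥(CohB1.polyGrading n k m) : ℚ) -
        Module.finrank k ↥(Submodule.restrictScalars k (p i) ⊓ CohB1.polyGrading n k m)) :
    (d : ℚ) * ((P.natDegree.factorial : ℚ) * P.leadingCoeff) =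
      ∑ i : Fin r, ((Qp i).natDegree.factorial : ℚ) * (Qp i).leadingCoeff *
        (Module.length (Localization.AtPrime (p i))
          (LocalizedModule (p i).primeCompl (MvPolynomial (Fin (n + 1)) k ⧸ (I ⊔ Ideal.span {f})))).toNat := by
  classical
  obtain ⟨a, ha⟩ := hP
  choose b hb using hQp
  have hP0 : P ≠ 0 := fun h => by simp [h] at hdim
  have hI' : (I ⊔ Ideal.span {f}).IsHomogeneous (CohB1.polyGrading n k) :=
    hIh.sup (Ideal.homogeneous_span _ _ (by rintro _ rfl; exact ⟨d, hf⟩))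
  have hhom : ∀ i, (p i).IsHomogeneous (CohB1.polyGrading n k) := fun i =>
    Groth.L22.ProjDict.isHomogeneous_of_mem_minimalPrimes hI' ((hpmin _).2 ⟨i, rfl⟩)
  have hPhf : ∀ m : ℕ, a ≤ m → P.eval (m : ℚ) = (Groth.L15.HilbGrowth.hf I m : ℕ) := fun m hm =>
    Groth.L18.HilbDiff.eval_eq_hf (ha m hm)
  have hreg : ∀ y, f * y ∈ I → y ∈ I := fun y hy => (Ideal.IsPrime.mem_or_mem inferInstance hy).resolve_left hfI
  let Q : ℚ[X] := P - Polynomial.taylor (-(d : ℚ)) P
  have hQhf : ∀ m : ℕ, a + d ≤ m → Q.eval (m : ℚ) = (Groth.L15.HilbGrowth.hf (I ⊔ Ideal.span {f}) m : ℕ) := by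
    intro m hm
    obtain ⟨m, rfl⟩ : ∃ j, m = j + d := ⟨m - d, by omega⟩
    rw [Polynomial.eval_sub, Polynomial.taylor_eval, hPhf (m + d) (by omega),
      show ((m + d : ℕ) : ℚ) + -(d : ℚ) = (m : ℚ) by push_cast; ring, hPhf m (by omega),
      ← Groth.L18.HilbDiff.hf_sup_span hIh hf hreg m]
    push_cast
    ring
  obtain ⟨hQd, hQl⟩ := Groth.L18.HilbDiff.diff_natDegree_leadingCoeff P (d : ℚ)
    (by exact_mod_cast hd.ne') hdim
  change Q.natDegree + 1 = P.natDegree at hQd
  change Q.leadingCoeff = _ at hQl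
  have hdimI : ringKrullDim (MvPolynomial (Fin (n + 1)) k ⧸ I) = ((P.natDegree + 1 : ℕ) : WithBot ℕ∞) := by
    rw [Groth.Agent.S10907.result k n I hIh P hP0 ⟨a, ha⟩]
    push_cast
    rfl
  have hQp : ∀ i, (Qp i).natDegree = Q.natDegree := fun i => by
    have hdp := Groth.L18.AssocDegree.dim_component hfI ((hpmin _).2 ⟨i, rfl⟩) hdimI
    have hne : Qp i ≠ 0 := fun h0 => by
      have h1 := Groth.L18.HilbDiff.eval_eq_hf (hb i (b i) le_rfl)
      rw [h0, Polynomial.eval_zero, eq_comm, Nat.cast_eq_zero] at h1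
      have h2 := Groth.L18.AssocDegree.one_le_hf_of_dim (hhom i) (by
        rw [hdp]
        exact_mod_cast (show P.natDegree ≠ 0 by omega)) (b i)
      omega
    have h3 := Groth.Agent.S10907.result k n (p i) (hhom i) (Qp i) hne ⟨b i, hb i⟩
    rw [hdp] at h3
    have h4 : P.natDegree = (Qp i).natDegree + 1 := by exact_mod_cast h3
    omega
  obtain ⟨-, hsum⟩ := Groth.L18.AssocDegree.degree_eq_sum hI' (P := Q)
    ⟨a + d, hQhf⟩ r p hpinj hpmin hhom Qp fun i => ⟨b i, fun m hm => Groth.L18.HilbDiff.eval_eq_hf (hb i m hm)⟩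
  calc (d : ℚ) * ((P.natDegree.factorial : ℚ) * P.leadingCoeff)
      = (Q.natDegree.factorial : ℚ) * Q.coeff Q.natDegree := by
        rw [Polynomial.coeff_natDegree, hQl, ← hQd, Nat.factorial_succ]
        push_cast
        ring
    _ = _ := by
        rw [hsum, Finset.mul_sum]
        refine Finset.sum_congr rfl fun i _ => ?_
        rw [← mul_assoc, Polynomial.leadingCoeff, hQp i]

end Groth.Agent.S10905
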