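import Groth.Agent.L18.TwistGlobal
import Groth.Statements.S10908
-- import your own Groth.Agent.* helpers here

set_option autoImplicit false
universe u
open ProjDeg

namespace Groth.Agent.S10908

/-- Let S be a Noetherian graded integral domain, graded by the natural numbers as an algebra over a
ring R, generated by its degree-one part over S_0 (S_1 S_i = S_{i+1}) with S_1 ≠ 0, and integrally
closed in its field of fractions (so that X = Proj S is projectively normal). Then for every d ≥ 0
the canonical map from S_d to the global sections of the twisting sheaf O_X(d), sending a to the
section a/1, is bijective. (The underlying lemma: every global section of O_X(d) is an element of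
the homogeneous fraction ring integral over S.) (The published corollary takes the degree-zero part
to be a finitely generated algebra over a field; this row assumes only that the ring is Noetherian,
which is all the argument uses.) -/
theorem result {R A : Type u} [CommRing R] [CommRing A] [IsDomain A]
    [IsNoetherianRing A] [Algebra R A] (𝒜 : ℕ → Submodule R A) [GradedAlgebra 𝒜]
    (hgen : ∀ i : ℕ, 𝒜 1 * 𝒜 i = 𝒜 (i + 1)) (h1 : 𝒜 1 ≠ ⊥) (hint : IsIntegrallyClosed A) (d : ℕ) :
    Function.Bijective (fun a : ↥(𝒜 d) => Twist.globalOf 𝒜 a) := by
  exact Groth.L18.TwistGlobal.bijective_globalOf 𝒜 hgen h1 hint d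

end Groth.Agent.S10908
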