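import Groth.Statements.S10911
import Groth.Agent.L22.Div.OrdRestrict
-- import your own Groth.Agent.* helpers here

set_option autoImplicit false
universe u
open CategoryTheory CategoryTheory.Limits AlgebraicGeometry TopologicalSpace
open WDiv

namespace Groth.Agent.S10911

/-- Let X be an integral Noetherian separated scheme which is regular in codimension 1 (local rings at
points of coheight 1 are discrete valuation rings), z a point of coheight 1 (generic point of a
prime divisor Z), and U the open subscheme complementary to the closure of z. Let D be a Weil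
divisor on X, an integer-valued function on its points with finite support inside the points of
coheight 1. If the restriction of D to U is the divisor of a nonzero rational function on U, then D
differs from an integer multiple of Z by a principal divisor on X: there are an integer m and a
nonzero rational function f on X with ord_z(f) = D(z) − m and ord_x(f) = D(x) for every other point
x of coheight 1. In other words, the sequence ℤ → Cl X → Cl(X − Z), whose first map sends m to the
class of m·Z and whose second map is restriction, is exact at Cl X. -/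
theorem result (X : Scheme.{u}) [IsIntegral X]
    [IsNoetherian X] [X.IsSeparated]
    (hR1 : ∀ x : ↥X, Order.coheight x = 1 → IsDiscreteValuationRing ↑(X.presheaf.stalk x))
    (z : ↥X) (hz : Order.coheight z = 1) (U : X.Opens) (hU : (U : Set ↥X) = (closure {z})ᶜ)
    [Nonempty U]
    (D : ↥X → ℤ) (hD : ∀ x, Order.coheight x ≠ 1 → D x = 0) (hfin : {x | D x ≠ 0}.Finite)
    (g : ↑(U : Scheme.{u}).functionField) (hg : g ≠ 0)
    (h : ∀ u : ↥(U : Scheme.{u}), Order.coheight u = 1 → Scheme.ord g u = D u.1) :
    ∃ (m : ℤ) (f : ↑X.functionField), f ≠ 0 ∧ Scheme.ord f z = D z - m ∧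
      ∀ x : ↥X, x ≠ z → Order.coheight x = 1 → Scheme.ord f x = D x := by
  obtain ⟨f, rfl⟩ := (Groth.L22.Div.OrdRestrict.ffMap_bijective U.ι).2 g
  have hf : f ≠ 0 := fun h0 => hg (by rw [h0, map_zero])
  refine ⟨D z - Scheme.ord f z, f, hf, by ring, fun x hxz hx => ?_⟩
  have hmem : x ∈ U := by
    show x ∈ (U : Set ↥X)
    rw [hU]
    intro hcl
    have hlt : x < z := lt_iff_le_not_ge.2 ⟨show x ≤ z from specializes_iff_mem_closure.2 hcl,
      fun (h' : x ⤳ z) => hxz ((h'.antisymm (specializes_iff_mem_closure.2 hcl)).eq)⟩
    have h2 := Order.coheight_add_one_le hlt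
    rw [hx, hz] at h2
    exact absurd h2 (by norm_num)
  let u' : ↥(U : Scheme.{u}) := ⟨x, hmem⟩
  have hu : Order.coheight u' = 1 :=
    (Groth.L22.Div.OrdRestrict.coheight_eq U.ι ⟨x, hmem⟩).symm.trans hx
  exact (Groth.L22.Div.OrdRestrict.ord_ffMap U.ι f hf hu).symm.trans (h _ hu)

end Groth.Agent.S10911
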