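import Groth.Statements.S10912
import Groth.Agent.L22.Div.OrdRestrict
-- import your own Groth.Agent.* helpers here

set_option autoImplicit false
universe u
open CategoryTheory CategoryTheory.Limits AlgebraicGeometry TopologicalSpace
open WDiv

namespace Groth.Agent.S10912

/-- Let X be an integral Noetherian separated scheme which is regular in codimension 1, and U a nonempty
open subscheme whose complement has codimension at least 2: every point not in U has coheight ≥ 2 in
the specialization order. Then restriction identifies the divisor class groups of X and U;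
concretely, since all points of coheight 1 lie in U, a Weil divisor D on X (integer-valued function
with finite support inside the coheight-1 points) is the divisor of a nonzero rational function on X
if and only if its restriction to U is the divisor of a nonzero rational function on U. -/
theorem result (X : Scheme.{u}) [IsIntegral X]
    [IsNoetherian X] [X.IsSeparated]
    (hR1 : ∀ x : ↥X, Order.coheight x = 1 → IsDiscreteValuationRing ↑(X.presheaf.stalk x))
    (U : X.Opens) [Nonempty U] (hcod : ∀ x : ↥X, x ∉ U → 2 ≤ Order.coheight x)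
    (D : ↥X → ℤ) (hD : ∀ x, Order.coheight x ≠ 1 → D x = 0) (hfin : {x | D x ≠ 0}.Finite) :
    (∃ f : ↑X.functionField, f ≠ 0 ∧ ∀ x : ↥X, Order.coheight x = 1 → Scheme.ord f x = D x) ↔
      ∃ g : ↑(U : Scheme.{u}).functionField, g ≠ 0 ∧
        ∀ u : ↥(U : Scheme.{u}), Order.coheight u = 1 → Scheme.ord g u = D u.1 := by
  have hmem : ∀ x : ↥X, Order.coheight x = 1 → x ∈ U := fun x hx => by
    by_contra h
    have h2 := hcod x h
    rw [hx] at h2
    exact absurd h2 (by norm_num)
  constructor
  · rintro ⟨f, hf, hfD⟩
    refine ⟨(Groth.L22.Div.OrdRestrict.ffMap U.ι).hom f, fun h0 => hf ?_, fun u hu => ?_⟩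
    · exact (Groth.L22.Div.OrdRestrict.ffMap_bijective U.ι).1 (h0.trans (map_zero _).symm)
    · rw [Groth.L22.Div.OrdRestrict.ord_ffMap U.ι f hf hu]
      exact hfD _ ((Groth.L22.Div.OrdRestrict.coheight_eq U.ι u).trans hu)
  · rintro ⟨g, hg, hgD⟩
    obtain ⟨f, rfl⟩ := (Groth.L22.Div.OrdRestrict.ffMap_bijective U.ι).2 g
    have hf : f ≠ 0 := fun h0 => hg (by rw [h0, map_zero])
    refine ⟨f, hf, fun x hx => ?_⟩
    let u' : ↥(U : Scheme.{u}) := ⟨x, hmem x hx⟩
    have hu : Order.coheight u' = 1 :=
      (Groth.L22.Div.OrdRestrict.coheight_eq U.ι ⟨x, hmem x hx⟩).symm.trans hx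
    exact (Groth.L22.Div.OrdRestrict.ord_ffMap U.ι f hf hu).symm.trans (hgD _ hu)

end Groth.Agent.S10912
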