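import Groth.Agent.L22.FibreIrr
import Groth.Statements.S10914
-- import your own Groth.Agent.* helpers here

set_option autoImplicit false
universe u
open CategoryTheory CategoryTheory.Limits AlgebraicGeometry TopologicalSpace
open ProjDeg

namespace Groth.Agent.S10914

/-- Let k be a field, X and Y reduced schemes proper over k and f : X → Y a k-morphism with (i) f
surjective, (ii) every fibre X_y over a closed point y irreducible, (iii) all these fibres of the
same dimension m, and (iv) Y irreducible. Then X is irreducible and dim X = dim Y + m. (The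
published statement takes X, Y projective over k and f projective; its proof uses only that f is a
closed map and upper semicontinuity of fibre dimension, i.e. properness.) -/
theorem result (k : Type u) [Field k] {X Y : Scheme.{u}}
    (pX : X ⟶ Spec (CommRingCat.of k)) (pY : Y ⟶ Spec (CommRingCat.of k)) [IsProper pX] [IsProper pY]
    [IsReduced X] [IsReduced Y] (f : X ⟶ Y) (hf : f ≫ pY = pX) (hsurj : Function.Surjective f)
    [IrreducibleSpace ↥Y] (m : ℕ)
    (hirr : ∀ y : ↥Y, IsClosed ({y} : Set ↥Y) → IrreducibleSpace ↥(f.fiber y))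
    (hdim : ∀ y : ↥Y, IsClosed ({y} : Set ↥Y) → topologicalKrullDim ↥(f.fiber y) = m) :
    IrreducibleSpace ↥X ∧ topologicalKrullDim ↥X = topologicalKrullDim ↥Y + m := by
  letI : X.Over (Spec (CommRingCat.of k)) := ⟨pX⟩
  letI : Y.Over (Spec (CommRingCat.of k)) := ⟨pY⟩
  haveI : LocallyOfFiniteType (X ↘ Spec (CommRingCat.of k)) := (inferInstance : LocallyOfFiniteType pX)
  haveI : LocallyOfFiniteType (Y ↘ Spec (CommRingCat.of k)) := (inferInstance : LocallyOfFiniteType pY)
  haveI : IsProper (f ≫ pY) := hf ▸ inferInstance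
  haveI : IsProper f := IsProper.of_comp f pY
  haveI : IsLocallyNoetherian X := LocallyOfFiniteType.isLocallyNoetherian pX
  haveI : CompactSpace X := QuasiCompact.compactSpace_of_compactSpace pX
  haveI : IsNoetherian X := { }
  haveI : CompactSpace Y := QuasiCompact.compactSpace_of_compactSpace pY
  have hf' : f ≫ (Y ↘ Spec (CommRingCat.of k)) = (X ↘ Spec (CommRingCat.of k)) := hf
  have hirr' : ∀ y : Y, IsClosed ({y} : Set Y) → IsIrreducible (f ⁻¹' {y}) := fun y hy => by
    haveI := hirr y hy
    rw [← f.range_fiberι y, ← Set.image_univ]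
    exact (IrreducibleSpace.isIrreducible_univ _).image _ (f.fiberι y).continuous.continuousOn
  have hdim' : ∀ y : Y, IsClosed ({y} : Set Y) → topologicalKrullDim (f ⁻¹' {y} : Set X) = (m : WithBot ℕ∞) :=
    fun y hy => by rw [← (f.fiberHomeo y).isHomeomorph.topologicalKrullDim_eq, hdim y hy]
  obtain ⟨ξ, ⟨hξ, hfξ⟩, -⟩ := Groth.L22.FibreIrr.existsUnique_dominant k f hf' m hirr' hdim'
  have hall : ∀ y : Y, y ∈ f '' closure ({ξ} : Set X) := fun y => by
    have hc : IsClosed (f '' closure ({ξ} : Set X)) := f.isClosedMap _ isClosed_closure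
    exact hc.closure_subset_iff.2 (Set.singleton_subset_iff.2 ⟨ξ, subset_closure rfl, hfξ⟩)
      ((genericPoint_spec Y).def.ge trivial)
  haveI : JacobsonSpace X := LocallyOfFiniteType.jacobsonSpace pX
  have huniv : closure ({ξ} : Set X) = Set.univ := by
    refine Set.eq_univ_of_univ_subset ?_
    rw [← closure_closedPoints, isClosed_closure.closure_subset_iff]
    intro x hx
    have hy := Groth.L22.FibreIrr.isClosed_map k f hf' (mem_closedPoints_iff.1 hx)
    obtain ⟨z, hz, hfz⟩ := hall (f x)
    exact (Groth.L22.FibreIrr.component k f hf' m hirr' hdim' hξ).1 (f x) hy ⟨z, hfz, hz⟩ rfl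
  have hirrX : IrreducibleSpace X := by
    haveI : Nonempty X := ⟨ξ⟩
    haveI : PreirreducibleSpace X := ⟨by rw [← huniv]; exact isPreirreducible_singleton.closure⟩
    exact ⟨inferInstance⟩
  refine ⟨hirrX, ?_⟩
  have h := Groth.L22.FibreIrr.dim_eq k f hf' m hirr' hdim' hξ hfξ
  rw [huniv, (Homeomorph.Set.univ X).isHomeomorph.topologicalKrullDim_eq] at h
  rw [h, add_comm]

end Groth.Agent.S10914
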