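import Groth.Statements.S10915
import Mathlib.RingTheory.GradedAlgebra.Radical
import Mathlib.RingTheory.MvPolynomial.Homogeneous
import Mathlib.RingTheory.MvPolynomial.Ideal
import Mathlib.RingTheory.KrullDimension.NonZeroDivisors
import Mathlib.RingTheory.Ideal.MinimalPrime.Noetherian
import Mathlib.Algebra.Module.Submodule.Union
import Mathlib.FieldTheory.IsAlgClosed.Basic
-- import your own Groth.Agent.* helpers here

set_option autoImplicit false
universe u
open ProjDeg

namespace Groth.Agent.S10915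

variable {k : Type u} [Field k] {n : ℕ}

theorem le_span_X {P : Ideal (MvPolynomial (Fin (n + 1)) k)} (hP : P.IsHomogeneous (CohB1.polyGrading n k))
    (hne : P ≠ ⊤) : P ≤ Ideal.span (Set.range MvPolynomial.X) := by
  intro f hf
  rw [← Set.image_univ, MvPolynomial.mem_ideal_span_X_image]
  intro m hm
  by_contra hne'
  have hm0 : m = 0 := Finsupp.ext fun i => by
    by_contra hi
    exact hne' ⟨i, Set.mem_univ i, hi⟩
  refine hne (Ideal.eq_top_of_isUnit_mem P (x := MvPolynomial.C (MvPolynomial.coeff m f)) ?_ ?_)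
  · have h0 := hP 0 hf
    have e : MvPolynomial.C (MvPolynomial.coeff m f) =
        ((DirectSum.decompose (CohB1.polyGrading n k) f 0 : CohB1.polyGrading n k 0) : MvPolynomial (Fin (n + 1)) k) := by
      rw [show ((DirectSum.decompose (CohB1.polyGrading n k) f 0 : CohB1.polyGrading n k 0) : MvPolynomial (Fin (n + 1)) k) =
        MvPolynomial.homogeneousComponent 0 f from MvPolynomial.decomposition.decompose'_apply f 0,
        MvPolynomial.homogeneousComponent_zero, hm0]
    rw [e]; exact h0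
  · exact (IsUnit.mk0 _ (MvPolynomial.mem_support_iff.mp hm)).map MvPolynomial.C

theorem span_X_isMaximal : (Ideal.span (Set.range (MvPolynomial.X : Fin (n + 1) → MvPolynomial (Fin (n + 1)) k))).IsMaximal := by
  have e : Ideal.span (Set.range MvPolynomial.X) =
      RingHom.ker (MvPolynomial.constantCoeff : MvPolynomial (Fin (n + 1)) k →+* k) := by
    refine le_antisymm (Ideal.span_le.2 ?_) fun f hf => ?_
    · rintro _ ⟨i, rfl⟩
      simp
    · rw [← Set.image_univ, MvPolynomial.mem_ideal_span_X_image]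
      intro m hm
      by_contra hne'
      have hm0 : m = 0 := Finsupp.ext fun i => by
        by_contra hi
        exact hne' ⟨i, Set.mem_univ i, hi⟩
      rw [RingHom.mem_ker, MvPolynomial.constantCoeff_eq] at hf
      exact MvPolynomial.mem_support_iff.mp hm (hm0 ▸ hf)
  rw [e]
  exact RingHom.ker_isMaximal_of_surjective _ fun c => ⟨MvPolynomial.C c, by simp⟩

theorem isHomogeneous_minimal {J P : Ideal (MvPolynomial (Fin (n + 1)) k)}
    (hJ : J.IsHomogeneous (CohB1.polyGrading n k)) (hP : P ∈ J.minimalPrimes) :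
    P.IsHomogeneous (CohB1.polyGrading n k) := by
  have h1 : J ≤ (P.homogeneousCore (CohB1.polyGrading n k)).toIdeal :=
    hJ.toIdeal_homogeneousCore_eq_self.symm.le.trans (Ideal.homogeneousCore_mono _ hP.1.2)
  have h2 := hP.2 ⟨hP.1.1.homogeneousCore, h1⟩ (Ideal.toIdeal_homogeneousCore_le _ P)
  have h3 : (P.homogeneousCore (CohB1.polyGrading n k)).toIdeal = P :=
    le_antisymm (Ideal.toIdeal_homogeneousCore_le _ P) h2
  rw [← h3]
  exact (P.homogeneousCore _).isHomogeneous

/-- A linear form cutting down the dimension of a homogeneous ideal. -/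
theorem exists_linear [Infinite k] {J : Ideal (MvPolynomial (Fin (n + 1)) k)}
    (hJ : J.IsHomogeneous (CohB1.polyGrading n k)) :
    ∃ h : MvPolynomial (Fin (n + 1)) k, h.IsHomogeneous 1 ∧ ∀ d : ℕ,
      ringKrullDim (MvPolynomial (Fin (n + 1)) k ⧸ J) ≤ ((d + 1 : ℕ) : WithBot ℕ∞) →
        ringKrullDim (MvPolynomial (Fin (n + 1)) k ⧸ J ⊔ Ideal.span {h}) ≤ (d : WithBot ℕ∞) := by
  let L := Fintype.linearCombination k (MvPolynomial.X : Fin (n + 1) → MvPolynomial (Fin (n + 1)) k)
  let ι := {P // P ∈ J.minimalPrimes ∧ ¬ Ideal.span (Set.range MvPolynomial.X) ≤ P}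
  haveI := (Ideal.finite_minimalPrimes_of_isNoetherianRing (MvPolynomial (Fin (n + 1)) k) J).to_subtype
  haveI : Finite ι := Finite.of_injective (fun P : ι => (⟨P.1, P.2.1⟩ : J.minimalPrimes))
    (fun a b h => Subtype.ext (congrArg Subtype.val h :))
  let p : ι → Submodule k (Fin (n + 1) → k) := fun P => (P.1.restrictScalars k).comap L
  obtain ⟨c, hc⟩ := Submodule.exists_forall_notMem_of_forall_ne_top p fun P h => P.2.2 (Ideal.span_le.2 (by
    rintro _ ⟨i, rfl⟩
    have h1 : L (Pi.single i 1) ∈ P.1 := h.ge (Submodule.mem_top : Pi.single i (1 : k) ∈ (⊤ : Submodule k (Fin (n + 1) → k)))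
    simpa [L, Fintype.linearCombination_apply_single] using h1))
  refine ⟨L c, ?_, fun d hd => ?_⟩
  · rw [show L c = ∑ i, c i • MvPolynomial.X i from Fintype.linearCombination_apply k _ c]
    refine MvPolynomial.IsHomogeneous.sum _ _ _ fun i _ => ?_
    rw [MvPolynomial.smul_eq_C_mul]
    exact MvPolynomial.IsHomogeneous.C_mul (MvPolynomial.isHomogeneous_X k i) _
  rw [ringKrullDim_quotient] at hd ⊢
  refine iSup_le fun l => ?_
  have h0 : J ⊔ Ideal.span {L c} ≤ l.head.1.asIdeal := l.head.2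
  haveI := l.head.1.2
  obtain ⟨P, hP, hPle⟩ := Ideal.exists_minimalPrimes_le (le_sup_left.trans h0)
  by_cases hEq : P = l.head.1.asIdeal
  · have hall : Ideal.span (Set.range MvPolynomial.X) ≤ P := by
      by_contra hno
      exact hc ⟨P, hP, hno⟩ (hEq ▸ h0 (Submodule.mem_sup_right (Ideal.mem_span_singleton_self _)) : L c ∈ P)
    have hmax : P.IsMaximal := by
      rw [← le_antisymm hall (le_span_X (isHomogeneous_minimal hJ hP) hP.1.1.ne_top)]
      exact span_X_isMaximal
    have hlen : l.length = 0 := by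
      by_contra hne
      have hlt : l 0 < l ⟨1, by omega⟩ := l.strictMono (by simp [Fin.lt_def])
      have hlt' : l.head.1.asIdeal < (l ⟨1, by omega⟩).1.asIdeal := hlt
      rw [← hEq] at hlt'
      exact (l ⟨1, by omega⟩).1.2.ne_top (hmax.1.2 _ hlt')
    rw [hlen]
    exact_mod_cast Nat.zero_le d
  · let emb : PrimeSpectrum.zeroLocus ((J ⊔ Ideal.span {L c} : Ideal _) : Set (MvPolynomial (Fin (n + 1)) k)) →
        PrimeSpectrum.zeroLocus (J : Set (MvPolynomial (Fin (n + 1)) k)) :=
      fun x => ⟨x.1, fun a ha => x.2 (le_sup_left (b := Ideal.span {L c}) ha)⟩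
    let l' := (l.map emb (fun a b h => h)).cons ⟨⟨P, hP.1.1⟩, hP.1.2⟩ (lt_of_le_of_ne hPle fun e => hEq e)
    have h1 : ((l'.length : ℕ) : WithBot ℕ∞) ≤ ((d + 1 : ℕ) : WithBot ℕ∞) := (Order.LTSeries.length_le_krullDim l').trans hd
    have h2 : l'.length = l.length + 1 := by simp [l']
    rw [h2] at h1
    have h3 : l.length + 1 ≤ d + 1 := by exact_mod_cast h1
    exact_mod_cast Nat.le_of_succ_le_succ h3

/-- Let k be an algebraically closed field, R = k[X_0, …, X_n] graded by degree, and I a homogeneous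
prime ideal with dim R/I = r + 1, so that X = V_+(I) ⊆ P^n_k is a projective variety of dimension r.
Then there are r + 1 linear forms h_1, …, h_{r+1} (homogeneous of degree 1) whose common zero set in
P^n_k does not meet X, i.e. the ideal I + (h_1, …, h_{r+1}) contains some power of the irrelevant
ideal (X_0, …, X_n). (The published statement says that a generic linear subspace of dimension n − r
− 1 misses X; this row asserts only that one such subspace, cut out by r + 1 linear forms, exists.) -/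
theorem result (k : Type u) [Field k] [IsAlgClosed k]
    (n r : ℕ) (I : Ideal (MvPolynomial (Fin (n + 1)) k)) (hIh : I.IsHomogeneous (CohB1.polyGrading n k)) [I.IsPrime]
    (hdim : ringKrullDim (MvPolynomial (Fin (n + 1)) k ⧸ I) = (r : WithBot ℕ∞) + 1) :
    ∃ h : Fin (r + 1) → MvPolynomial (Fin (n + 1)) k, (∀ i, (h i).IsHomogeneous 1) ∧
      ∃ N : ℕ, (Ideal.span (Set.range (MvPolynomial.X : Fin (n + 1) → MvPolynomial (Fin (n + 1)) k))) ^ N ≤
        I ⊔ Ideal.span (Set.range h) := by
  haveI : Infinite k := IsAlgClosed.instInfinite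
  suffices H : ∀ j, j ≤ r + 1 → ∃ h : Fin j → MvPolynomial (Fin (n + 1)) k, (∀ i, (h i).IsHomogeneous 1) ∧
      ringKrullDim (MvPolynomial (Fin (n + 1)) k ⧸ I ⊔ Ideal.span (Set.range h)) ≤ ((r + 1 - j : ℕ) : WithBot ℕ∞) by
    obtain ⟨h, hh, hd⟩ := H (r + 1) le_rfl
    refine ⟨h, hh, ?_⟩
    set J := I ⊔ Ideal.span (Set.range h)
    have hJ : J.IsHomogeneous (CohB1.polyGrading n k) := hIh.sup
      (Ideal.homogeneous_span _ _ (by rintro _ ⟨i, rfl⟩; exact ⟨1, hh i⟩))
    refine Ideal.exists_pow_le_of_le_radical_of_fg ?_ (IsNoetherian.noetherian _)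
    rw [Ideal.radical_eq_sInf]
    refine le_sInf fun Q hQ => ?_
    haveI := hQ.2
    obtain ⟨P, hP, hPle⟩ := Ideal.exists_minimalPrimes_le hQ.1
    by_contra hno
    have hlt : P < Ideal.span (Set.range MvPolynomial.X) :=
      lt_of_le_of_ne (le_span_X (isHomogeneous_minimal hJ hP) hP.1.1.ne_top) fun e => hno (e ▸ hPle)
    let x₀ : PrimeSpectrum.zeroLocus (J : Set (MvPolynomial (Fin (n + 1)) k)) := ⟨⟨P, hP.1.1⟩, hP.1.2⟩
    let x₁ : PrimeSpectrum.zeroLocus (J : Set (MvPolynomial (Fin (n + 1)) k)) :=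
      ⟨⟨_, span_X_isMaximal.isPrime⟩, fun a ha => hlt.le (hP.1.2 ha)⟩
    let l₁ : LTSeries (PrimeSpectrum.zeroLocus (J : Set (MvPolynomial (Fin (n + 1)) k))) := RelSeries.singleton _ x₁
    let l : LTSeries _ := l₁.cons x₀ (show x₀ < x₁ from hlt)
    rw [ringKrullDim_quotient] at hd
    have h1 := (Order.LTSeries.length_le_krullDim l).trans hd
    have h2 : l.length = 1 := by simp [l, l₁]
    rw [h2, Nat.sub_self] at h1
    exact absurd (show (1 : ℕ) ≤ 0 by exact_mod_cast h1) (by omega)
  intro j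
  induction j with
  | zero =>
    intro _
    refine ⟨Fin.elim0, fun i => i.elim0, ?_⟩
    rw [Set.range_eq_empty, Ideal.span_empty, sup_bot_eq, hdim, Nat.sub_zero]
    push_cast
    rfl
  | succ j ih =>
    intro hj
    obtain ⟨h, hh, hd⟩ := ih (by omega)
    obtain ⟨g, hg, hg'⟩ := exists_linear (J := I ⊔ Ideal.span (Set.range h)) (hIh.sup
      (Ideal.homogeneous_span _ _ (by rintro _ ⟨i, rfl⟩; exact ⟨1, hh i⟩)))
    refine ⟨Fin.cons g h, Fin.cases hg hh, ?_⟩
    have e : r + 1 - j = (r + 1 - (j + 1)) + 1 := by omega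
    rw [e] at hd
    rw [Fin.range_cons, Ideal.span_insert, ← sup_assoc, sup_right_comm]
    exact hg' _ hd

end Groth.Agent.S10915
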