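import Groth.Statements.S10918
import Groth.Agent.L04.CMBasic
import Groth.Agent.L04.RegularPd
import Groth.Agent.L01.Serre
import Groth.Agent.L01.NormalDomain
import Groth.Agent.L12.GrCI.Graded
import Groth.Agent.L12.RegLift
import Groth.Agent.L12.CotTCI
import Groth.Agent.L22.AffineDim
import Mathlib.RingTheory.RegularLocalRing.Polynomial
import Mathlib.RingTheory.Localization.LocalizationLocalization
import Mathlib.RingTheory.LocalProperties.IntegrallyClosed

set_option autoImplicit false
universe u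
open CInt IsLocalRing
open scoped Pointwise

namespace Groth.Agent.S10918

/-- A Noetherian local ring of depth at least two, normal off the closed point, is a normal domain. -/
theorem normal_of_punctured {A : Type u} [CommRing A] [IsLocalRing A] [IsNoetherianRing A]
    (hdep : 2 ≤ LocCoh.depth A A) {b : A} (hbm : b ∈ maximalIdeal A) (hb : ∀ c, b * c = 0 → c = 0)
    (H : ∀ (P : Ideal A) [P.IsPrime], P ≠ maximalIdeal A →
      IsDomain (Localization.AtPrime P) ∧ IsIntegrallyClosed (Localization.AtPrime P)) :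
    IsDomain A ∧ IsIntegrallyClosed A := by
  haveI : IsReduced A := by
    refine isReduced_iff A |>.mpr fun x hx => ?_
    by_contra hx0
    let I : Ideal A := LinearMap.ker (LinearMap.toSpanSingleton A A x)
    have hI : ∀ c, c ∈ I ↔ c * x = 0 := fun c => by simp [I]
    have hle : maximalIdeal A ≤ I.radical := by
      rw [Ideal.radical_eq_sInf]
      refine le_sInf fun P ⟨hIP, hP⟩ => ?_
      haveI := hP
      by_contra hne
      have hne' : P ≠ maximalIdeal A := fun h => hne h.ge
      haveI := (H P hne').1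
      have h0 : algebraMap A (Localization.AtPrime P) x = 0 :=
        (hx.map (algebraMap A (Localization.AtPrime P))).eq_zero
      obtain ⟨⟨u, hu⟩, hux⟩ := (IsLocalization.map_eq_zero_iff P.primeCompl _ x).mp h0
      exact hu (hIP ((hI u).mpr hux))
    obtain ⟨N, hN⟩ := hle hbm
    have hp : ∀ m c, b ^ m * c = 0 → c = 0 := fun m => by
      induction m with
      | zero => intro c hc; simpa using hc
      | succ m ih => intro c hc; exact hb c (ih _ (by rwa [pow_succ, mul_assoc] at hc))
    exact hx0 (hp N x ((hI _).mp hN))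
  refine Groth.L01.Serre.isDomain_and_isIntegrallyClosed fun P _ => ?_
  by_cases hP : P = maximalIdeal A
  · subst hP
    let e : A ≃+* Localization.AtPrime (maximalIdeal A) :=
      (IsLocalization.atUnits A (maximalIdeal A).primeCompl (S := Localization.AtPrime (maximalIdeal A))
        (fun x hx => notMem_maximalIdeal.mp hx)).toRingEquiv
    exact Or.inr fun hbad => Groth.L01.Serre.not_bad_of_two_le_depth hdep
      (Groth.L01.Serre.bad_of_ringEquiv e.symm hbad)
  obtain ⟨hdom, hic⟩ := H P hP
  haveI : IsNoetherianRing (Localization.AtPrime P) :=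
    IsLocalization.isNoetherianRing P.primeCompl _ inferInstance
  by_cases hdim : ringKrullDim (Localization.AtPrime P) ≤ 1
  · refine Or.inl ⟨?_, hdim⟩
    haveI : IsPrincipalIdealRing (Localization.AtPrime P) := by
      haveI : Ring.KrullDimLE 1 (Localization.AtPrime P) := Ring.krullDimLE_iff.mpr hdim
      have h3 : IsIntegrallyClosed (Localization.AtPrime P) ∧ ∀ Q : Ideal (Localization.AtPrime P),
          Q ≠ ⊥ → Q.IsPrime → Q = maximalIdeal (Localization.AtPrime P) :=
        ⟨hic, fun Q hQ hQp => by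
          haveI := hQp
          exact IsLocalRing.eq_maximalIdeal (hQp.isMaximal_of_ne_bot hQ)⟩
      exact ((tfae_of_isNoetherianRing_of_isLocalRing_of_isDomain (Localization.AtPrime P)).out 3 0).mp h3
    infer_instance
  refine Or.inr ?_
  rintro ⟨s, a, hs, ha, hm⟩
  have hs0 : s ≠ 0 := fun h => one_ne_zero (hs 1 (by rw [h, zero_mul]))
  have hass : maximalIdeal (Localization.AtPrime P) ∈
      associatedPrimes (Localization.AtPrime P) (Localization.AtPrime P ⧸ Ideal.span {s}) := by
    refine isAssociatedPrime_iff.mpr ⟨inferInstance, Ideal.Quotient.mk _ a, ?_⟩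
    ext t
    rw [Submodule.mem_colon_singleton, Submodule.mem_bot,
      show t • Ideal.Quotient.mk (Ideal.span {s}) a = Ideal.Quotient.mk (Ideal.span {s}) (t * a) from rfl,
      Ideal.Quotient.eq_zero_iff_mem]
    refine ⟨hm t, fun h => ?_⟩
    by_contra ht
    exact ha ((Ideal.unit_mul_mem_iff_mem _ (notMem_maximalIdeal.mp ht)).mp h)
  have h1 := Groth.L01.height_eq_one_of_mem_associatedPrimes hs0 hass
  apply hdim
  rw [← IsLocalRing.maximalIdeal_height_eq_ringKrullDim, h1]
  exact le_of_eq rfl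

theorem exists_two_regular {R : Type u} [CommRing R] [LocCoh.IsCohenMacaulayLocalRing R]
    (xs : List R) (hxs : ∀ x ∈ xs, x ∈ maximalIdeal R)
    (hh : (Ideal.ofList xs).height = xs.length) {n : ℕ} (hn : xs.length + 2 ≤ n)
    (hdim : (n : WithBot ℕ∞) ≤ ringKrullDim R) :
    ∃ b ∈ maximalIdeal R, ∃ y ∈ maximalIdeal R,
      (∀ c, b * c ∈ Ideal.ofList xs → c ∈ Ideal.ofList xs) ∧
      ∀ c, y * c ∈ Ideal.ofList xs ⊔ Ideal.span {b} → c ∈ Ideal.ofList xs ⊔ Ideal.span {b} := by
  haveI := (inferInstance : IsLocalRing R).toNontrivial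
  set I := Ideal.ofList xs with hIdef
  have hI : I ≠ ⊤ :=
    ne_top_of_le_ne_top (maximalIdeal.isMaximal R).ne_top (Ideal.span_le.2 hxs)
  have h1 := Groth.L04.supportDim_eq_add_idealDepth (M := R) hI
    (LocCoh.IsCohenMacaulayLocalRing.supportDim_eq_depth (R := R))
  rw [(Groth.L04.isCohenMacaulayRing_iff_height.1 (Groth.L04.isCohenMacaulayRing_of_local R)) I hI,
    Module.supportDim_self_eq_ringKrullDim,
    Module.supportDim_eq_of_equiv (Submodule.quotEquivOfEq _ I (by rw [smul_eq_mul, Ideal.mul_top])),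
    Module.supportDim_quotient_eq_ringKrullDim, hh] at h1
  have hw := Groth.L12.RegLift.isWeaklyRegular_of_dim xs hxs h1.symm
  have hCM := Groth.L04.isCohenMacaulayModule_quotient_ofList (M := R)
    (LocCoh.IsCohenMacaulayLocalRing.supportDim_eq_depth (R := R)) hw hxs
  unfold LocCoh.IsCohenMacaulayModule at hCM
  rw [Module.supportDim_eq_of_equiv (Submodule.quotEquivOfEq _ I (by rw [smul_eq_mul, Ideal.mul_top])),
    Module.supportDim_quotient_eq_ringKrullDim] at hCM
  rw [hCM, ← hIdef] at h1
  have hdepth : (2 : ℕ∞) ≤ LocCoh.depth R (R ⧸ (I • (⊤ : Submodule R R))) := by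
    rw [h1] at hdim
    by_contra hlt
    have : LocCoh.depth R (R ⧸ (I • (⊤ : Submodule R R))) ≤ 1 := Order.le_of_lt_succ (not_le.mp hlt)
    have h3 : (n : WithBot ℕ∞) ≤ ((1 + xs.length : ℕ) : WithBot ℕ∞) := by
      refine hdim.trans ?_
      push_cast
      gcongr
      exact WithBot.coe_le_one.mpr this
    exact absurd (Nat.cast_le.mp h3) (by omega)
  unfold LocCoh.depth LocCoh.idealDepth at hdepth
  split_ifs at hdepth with htop
  · exfalso
    haveI : Nontrivial (R ⧸ (I • (⊤ : Submodule R R))) :=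
      Submodule.Quotient.nontrivial_iff.2 (by rwa [smul_eq_mul, Ideal.mul_top])
    exact Groth.L04.smul_top_ne_top_of_nontrivial (maximalIdeal.isMaximal R).ne_top htop
  obtain ⟨rs, hrs, hmem, hlen⟩ : ∃ rs : List R,
      RingTheory.Sequence.IsWeaklyRegular (R ⧸ (I • (⊤ : Submodule R R))) rs ∧
      (∀ r ∈ rs, r ∈ maximalIdeal R) ∧ 2 ≤ rs.length := by
    by_contra! hcon
    have h2 := hdepth.trans (iSup₂_le (a := (1 : ℕ∞)) fun rs hrs => by
      exact_mod_cast Nat.lt_succ_iff.mp (hcon rs hrs.1 hrs.2))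
    exact absurd h2 (by decide)
  rcases rs with _ | ⟨b, _ | ⟨y, rs⟩⟩
  · simp at hlen
  · simp at hlen
  simp only [RingTheory.Sequence.isWeaklyRegular_cons_iff] at hrs
  obtain ⟨hb, hy, -⟩ := hrs
  rw [List.forall_mem_cons, List.forall_mem_cons] at hmem
  have hmk : ∀ z : R, Submodule.Quotient.mk (p := I • (⊤ : Submodule R R)) z = 0 ↔ z ∈ I := fun z => by
    rw [Submodule.Quotient.mk_eq_zero, smul_eq_mul, Ideal.mul_top]
  refine ⟨b, hmem.1, y, hmem.2.1, fun c hc => (hmk c).mp (hb.right_eq_zero_of_smul ?_), fun c hc => ?_⟩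
  · rw [← Submodule.Quotient.mk_smul, smul_eq_mul, hmk]
    exact hc
  have key : ∀ z : R, Submodule.Quotient.mk (p := b • (⊤ : Submodule R (R ⧸ (I • (⊤ : Submodule R R)))))
      (Submodule.Quotient.mk z) = 0 ↔ z ∈ I ⊔ Ideal.span {b} := fun z => by
    rw [Submodule.Quotient.mk_eq_zero, Submodule.mem_smul_pointwise_iff_exists]
    constructor
    · rintro ⟨w, -, hw⟩
      obtain ⟨w, rfl⟩ := Submodule.Quotient.mk_surjective _ w
      rw [← Submodule.Quotient.mk_smul, ← sub_eq_zero, ← Submodule.Quotient.mk_sub, hmk, smul_eq_mul] at hw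
      have : z = -(b * w - z) + b * w := by ring
      rw [this]
      exact add_mem (neg_mem (Ideal.mem_sup_left hw))
        (Ideal.mem_sup_right (Ideal.mem_span_singleton'.mpr ⟨w, mul_comm w b⟩))
    · intro hz
      obtain ⟨i, hi, j, hj, rfl⟩ := Submodule.mem_sup.mp hz
      obtain ⟨w, rfl⟩ := Ideal.mem_span_singleton'.mp hj
      refine ⟨Submodule.Quotient.mk w, Submodule.mem_top, ?_⟩
      rw [Submodule.Quotient.mk_add, (hmk i).mpr hi, zero_add, ← Submodule.Quotient.mk_smul, smul_eq_mul]
      congr 1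
      exact mul_comm _ _
  refine (key c).mp (hy.right_eq_zero_of_smul ?_)
  rw [← Submodule.Quotient.mk_smul, ← Submodule.Quotient.mk_smul, smul_eq_mul, key]
  exact hc

theorem punctured_of_base {T : Type u} [CommRing T] {A : Type u} [CommRing A] [IsLocalRing A]
    [Algebra T A] (m : Ideal T) [m.IsMaximal] [IsLocalization.AtPrime A m]
    (H : ∀ (Q : Ideal T) [Q.IsPrime], ¬ m ≤ Q →
      IsDomain (Localization.AtPrime Q) ∧ IsIntegrallyClosed (Localization.AtPrime Q))
    (P : Ideal A) [P.IsPrime] (hP : P ≠ maximalIdeal A) :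
    IsDomain (Localization.AtPrime P) ∧ IsIntegrallyClosed (Localization.AtPrime P) := by
  haveI hQ : (P.under T).IsPrime := Ideal.IsPrime.under _ P
  have hnm : ¬ m ≤ P.under T := fun hle => hP <| by
    have hQm : m = P.under T := Ideal.IsMaximal.eq_of_le ‹_› hQ.ne_top hle
    rw [← IsLocalization.map_under m.primeCompl (S := A) P, ← IsLocalization.AtPrime.map_eq_maximalIdeal m A,
      ← hQm]
  obtain ⟨h1, h2⟩ := H (P.under T) hnm
  haveI : IsLocalization.AtPrime (Localization.AtPrime P) (P.under T) :=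
    IsLocalization.isLocalization_isLocalization_atPrime_isLocalization m.primeCompl
      (Localization.AtPrime P) P
  let e := (IsLocalization.algEquiv (P.under T).primeCompl (Localization.AtPrime (P.under T))
    (Localization.AtPrime P)).toRingEquiv
  exact ⟨e.symm.toMulEquiv.isDomain _, IsIntegrallyClosed.of_equiv e⟩

open MvPolynomial in
/-- Let k be a field, S = k[x_0, …, x_n], and f_1, …, f_r with r < n homogeneous polynomials of positive
degrees whose ideal J has height r, so that Y = V_+(J) ⊆ P^n_k is a global complete intersection of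
dimension n − r ≥ 1 with homogeneous coordinate ring S' = S/J. Suppose Y is normal, expressed on the
affine cone: for every prime ideal Q of S' not containing all the classes of the x_i (every point of
the cone Spec S' other than the vertex), the localization S'_Q is an integrally closed domain. Then
S' is an integrally closed domain, i.e. Y is projectively normal. -/
theorem result
    (k : Type u) [Field k] (n r : ℕ) (hr : r < n) (f : Fin r → MvPolynomial (Fin (n + 1)) k) (d : Fin r → ℕ)
    (hf : ∀ i, (f i).IsHomogeneous (d i)) (hd : ∀ i, 0 < d i)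
    (hJ : (Ideal.span (Set.range f)).height = r)
    (hnorm : ∀ (Q : Ideal (MvPolynomial (Fin (n + 1)) k ⧸ Ideal.span (Set.range f))) [Q.IsPrime],
      (∃ i, Ideal.Quotient.mk (Ideal.span (Set.range f)) (MvPolynomial.X i) ∉ Q) →
        IsDomain (Localization.AtPrime Q) ∧ IsIntegrallyClosed (Localization.AtPrime Q)) :
    IsDomain (MvPolynomial (Fin (n + 1)) k ⧸ Ideal.span (Set.range f)) ∧
      IsIntegrallyClosed (MvPolynomial (Fin (n + 1)) k ⧸ Ideal.span (Set.range f)) := by
  set J := Ideal.span (Set.range f) with hJdef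
  set M : Ideal (MvPolynomial (Fin (n + 1)) k) := RingHom.ker constantCoeff with hMdef
  haveI hMmax : M.IsMaximal := RingHom.ker_isMaximal_of_surjective _ fun c => ⟨C c, constantCoeff_C _ c⟩
  have hMspan : ∀ {Q : Ideal (MvPolynomial (Fin (n + 1)) k)}, (∀ i, X i ∈ Q) → M ≤ Q := fun {Q} hQ z hz => by
    have : z ∈ MvPolynomial.idealOfVars (Fin (n + 1)) k := by
      rw [← pow_one (MvPolynomial.idealOfVars _ _), mem_pow_idealOfVars_iff]
      intro x hx
      rcases Nat.eq_zero_or_pos x.degree with h | h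
      · obtain rfl : x = 0 := (Finsupp.degree_eq_zero_iff x).mp h
        exact absurd hz (mem_support_iff.mp hx)
      · exact h
    exact Ideal.span_le.mpr (Set.range_subset_iff.mpr hQ) this
  have hJM : J ≤ M := Ideal.span_le.mpr (Set.range_subset_iff.mpr fun i => by
    change constantCoeff (f i) = 0
    exact (hf i).coeff_eq_zero (by simp; exact (hd i).ne))
  have hhom : Groth.L12.GrCI.Homog (fun _ => 1) J :=
    Groth.L12.GrCI.homog_span (by rintro _ ⟨i, rfl⟩; exact ⟨d i, hf i⟩)
  have hdesc : ∀ s z, s ∉ M → s * z ∈ J → z ∈ J := fun s z hs h => by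
    refine Groth.L12.GrCI.mem_of_mul_mem (fun _ => Nat.one_pos) hhom (fun w hw => ?_) h
    have := J.mul_mem_left (C (constantCoeff s)⁻¹) hw
    rwa [← mul_assoc, ← C_mul, inv_mul_cancel₀ (show constantCoeff s ≠ 0 from hs), C_1, one_mul] at this
  -- the regular local ring at the vertex
  let R := Localization.AtPrime M
  haveI : LocCoh.IsCohenMacaulayLocalRing R := Groth.L12.CotTLib.cm_of_regular R
  have hmap : ∀ g ∈ M, algebraMap _ R g ∈ maximalIdeal R := fun g hg =>
    (IsLocalization.AtPrime.to_map_mem_maximal_iff R M g).mpr hg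
  let xs : List R := List.ofFn fun i => algebraMap _ R (f i)
  have hxs : ∀ x ∈ xs, x ∈ maximalIdeal R := fun x hx => by
    obtain ⟨i, rfl⟩ := List.mem_ofFn.mp hx
    exact hmap _ (hJM (Ideal.subset_span ⟨i, rfl⟩))
  have hIJ : Ideal.ofList xs = J.map (algebraMap _ R) := by
    rw [hJdef, Ideal.map_span, Ideal.ofList]
    congr 1
    ext x
    simp [xs, List.mem_ofFn, eq_comm]
  have hlen : xs.length = r := List.length_ofFn
  have hh : (Ideal.ofList xs).height = xs.length := by
    refine le_antisymm ?_ ?_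
    · refine (Ideal.height_le_spanFinrank _ (ne_top_of_le_ne_top (maximalIdeal.isMaximal R).ne_top
        (Ideal.span_le.2 hxs))).trans ?_
      classical
      have h0 : Submodule.spanFinrank (Ideal.span (↑xs.toFinset : Set R)) ≤ xs.length :=
        (Submodule.spanFinrank_span_le_ncard_of_finite xs.toFinset.finite_toSet).trans
        ((Set.ncard_coe_finset xs.toFinset).le.trans xs.toFinset_card_le)
      rw [List.coe_toFinset] at h0
      exact Nat.cast_le.mpr h0
    · rw [hlen, ← hJ, hIJ]
      conv_rhs => rw [Ideal.height_eq_inf_minimalPrimes]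
      refine le_iInf₂ fun P hP => ?_
      haveI := hP.isPrime
      rw [← IsLocalization.height_under M.primeCompl P]
      exact Ideal.height_mono (Ideal.map_le_iff_le_comap.mp hP.1.2)
  have hdimR : ((n + 1 : ℕ) : WithBot ℕ∞) ≤ ringKrullDim R := by
    rw [IsLocalization.AtPrime.ringKrullDim_eq_height M R,
      Groth.L22.AffineDim.height_of_isMaximal k _ M]
    rw [MvPolynomial.ringKrullDim_of_isNoetherianRing, ringKrullDim_eq_zero_of_field]
    simp
  obtain ⟨b, hb, y, hy, hb1, hy1⟩ := exists_two_regular xs hxs hh (n := n + 1) (by omega) hdimR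
  obtain ⟨b₀, ⟨u, hu⟩, rfl⟩ := IsLocalization.exists_mk'_eq M.primeCompl b
  obtain ⟨y₀, ⟨v, hv⟩, rfl⟩ := IsLocalization.exists_mk'_eq M.primeCompl y
  replace hb : b₀ ∈ M := (IsLocalization.AtPrime.mk'_mem_maximal_iff R M b₀ ⟨u, hu⟩).mp hb
  replace hy : y₀ ∈ M := (IsLocalization.AtPrime.mk'_mem_maximal_iff R M y₀ ⟨v, hv⟩).mp hy
  have hspanb : Ideal.span {IsLocalization.mk' R b₀ (⟨u, hu⟩ : M.primeCompl)} =
      (Ideal.span {b₀}).map (algebraMap _ R) := by
    rw [Ideal.map_span, Set.image_singleton]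
    rw [Ideal.span_singleton_eq_span_singleton]
    exact ⟨(IsLocalization.map_units R (⟨u, hu⟩ : M.primeCompl)).unit, IsLocalization.mk'_spec R b₀ _⟩
  have hbS : ∀ c, b₀ * c ∈ J → c ∈ J := fun c hc => by
    have h1 := hb1 (algebraMap _ R c) (by
      rw [hIJ, ← IsLocalization.mk'_one (M := M.primeCompl) R c, ← IsLocalization.mk'_mul,
        IsLocalization.mk'_mem_map_algebraMap_iff]
      exact ⟨1, one_mem _, by simpa using hc⟩)
    rw [hIJ, IsLocalization.algebraMap_mem_map_algebraMap_iff M.primeCompl] at h1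
    obtain ⟨s, hs, hsc⟩ := h1
    exact hdesc s c hs hsc
  have hyS : ∀ c, y₀ * c ∈ J ⊔ Ideal.span {b₀} → ∃ s ∉ M, s * c ∈ J ⊔ Ideal.span {b₀} := fun c hc => by
    have h1 := hy1 (algebraMap _ R c) (by
      rw [hspanb, hIJ, ← Ideal.map_sup, ← IsLocalization.mk'_one (M := M.primeCompl) R c,
        ← IsLocalization.mk'_mul, IsLocalization.mk'_mem_map_algebraMap_iff]
      exact ⟨1, one_mem _, by simpa using hc⟩)
    rw [hspanb, hIJ, ← Ideal.map_sup, IsLocalization.algebraMap_mem_map_algebraMap_iff M.primeCompl] at h1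
    exact h1
  -- the localization of `S'` at the vertex
  let π := Ideal.Quotient.mk J
  let m : Ideal (MvPolynomial (Fin (n + 1)) k ⧸ J) := M.map π
  have hcomap : m.comap π = M := by
    rw [Ideal.comap_map_of_surjective _ Ideal.Quotient.mk_surjective, sup_eq_left,
      ← RingHom.ker_eq_comap_bot, Ideal.mk_ker]
    exact hJM
  haveI hm : m.IsMaximal := Ideal.IsMaximal.map_of_surjective_of_ker_le Ideal.Quotient.mk_surjective
    (by rw [Ideal.mk_ker]; exact hJM)
  have hmem : ∀ g, π g ∈ m ↔ g ∈ M := fun g => by rw [← Ideal.mem_comap, hcomap]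
  let A := Localization.AtPrime m
  haveI : IsNoetherianRing A := IsLocalization.isNoetherianRing m.primeCompl A inferInstance
  have hinj : Function.Injective (algebraMap (MvPolynomial (Fin (n + 1)) k ⧸ J) A) := by
    rw [injective_iff_map_eq_zero]
    intro z hz
    obtain ⟨⟨s, hs⟩, hsz⟩ := (IsLocalization.map_eq_zero_iff m.primeCompl A z).mp hz
    obtain ⟨s, rfl⟩ := Ideal.Quotient.mk_surjective s
    obtain ⟨z, rfl⟩ := Ideal.Quotient.mk_surjective z
    rw [← map_mul, Ideal.Quotient.eq_zero_iff_mem] at hsz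
    exact Ideal.Quotient.eq_zero_iff_mem.mpr (hdesc s z (fun h => hs ((hmem s).mpr h)) hsz)
  have hbA : ∀ c : A, algebraMap _ A (π b₀) * c = 0 → c = 0 := by
    intro c hc
    obtain ⟨c₀, ⟨s, hs⟩, rfl⟩ := IsLocalization.exists_mk'_eq m.primeCompl c
    rw [IsLocalization.mul_mk'_eq_mk'_of_mul, IsLocalization.mk'_eq_zero_iff] at hc
    obtain ⟨⟨t, ht⟩, htc⟩ := hc
    obtain ⟨t, rfl⟩ := Ideal.Quotient.mk_surjective t
    obtain ⟨c₀, rfl⟩ := Ideal.Quotient.mk_surjective c₀
    rw [← map_mul, ← map_mul, Ideal.Quotient.eq_zero_iff_mem] at htc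
    rw [IsLocalization.mk'_eq_zero_iff]
    refine ⟨1, ?_⟩
    rw [Submonoid.coe_one, one_mul, Ideal.Quotient.eq_zero_iff_mem]
    exact hbS c₀ (hdesc t _ (fun h => ht ((hmem t).mpr h)) htc)
  have hyA : ∀ c : A, algebraMap _ A (π y₀) * c ∈ Ideal.span {algebraMap _ A (π b₀)} →
      c ∈ Ideal.span {algebraMap _ A (π b₀)} := by
    intro c hc
    obtain ⟨c₀, ⟨s, hs⟩, rfl⟩ := IsLocalization.exists_mk'_eq m.primeCompl c
    rw [← Set.image_singleton, ← Ideal.map_span] at hc ⊢
    rw [IsLocalization.mul_mk'_eq_mk'_of_mul, IsLocalization.mk'_mem_map_algebraMap_iff] at hc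
    rw [IsLocalization.mk'_mem_map_algebraMap_iff]
    obtain ⟨t, ht, htc⟩ := hc
    obtain ⟨t, rfl⟩ := Ideal.Quotient.mk_surjective t
    obtain ⟨c₀, rfl⟩ := Ideal.Quotient.mk_surjective c₀
    have hback : ∀ g, π g ∈ Ideal.span {π b₀} ↔ g ∈ J ⊔ Ideal.span {b₀} := fun g => by
      rw [← Set.image_singleton, ← Ideal.map_span, Ideal.mem_quotient_iff_mem_sup, sup_comm]
    rw [← map_mul, ← map_mul, hback, mul_left_comm] at htc
    obtain ⟨s', hs', hs''⟩ := hyS _ htc
    refine ⟨π (s' * t), fun h => ?_, ?_⟩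
    · rcases (Ideal.IsMaximal.isPrime hMmax).mem_or_mem ((hmem _).mp h) with h | h
      · exact hs' h
      · exact ht ((hmem t).mpr h)
    · rw [← map_mul, hback, mul_assoc]
      exact hs''
  have hbm : algebraMap _ A (π b₀) ∈ maximalIdeal A :=
    (IsLocalization.AtPrime.to_map_mem_maximal_iff A m _).mpr ((hmem _).mpr hb)
  have hym : algebraMap _ A (π y₀) ∈ maximalIdeal A :=
    (IsLocalization.AtPrime.to_map_mem_maximal_iff A m _).mpr ((hmem _).mpr hy)
  have hAP := punctured_of_base (A := A) m fun Q _ hQ => hnorm Q (by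
    by_contra! hall
    exact hQ (Ideal.map_le_iff_le_comap.mpr (hMspan hall)))
  have hA := normal_of_punctured (Groth.L01.Serre.two_le_depth hbm hym hbA hyA) hbm hbA hAP
  haveI := hA.1
  haveI hdom : IsDomain (MvPolynomial (Fin (n + 1)) k ⧸ J) := hinj.isDomain _
  refine ⟨hdom, IsIntegrallyClosed.of_localization_maximal fun Q _ hQ => ?_⟩
  by_cases hQm : Q = m
  · subst hQm
    exact hA.2
  · refine (hnorm Q ?_).2
    by_contra! hall
    apply hQm
    refine (hm.eq_of_le hQ.ne_top ?_).symm
    exact Ideal.map_le_iff_le_comap.mpr (hMspan hall)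

end Groth.Agent.S10918
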