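import Groth.Statements.S10921
import Groth.Agent.L14.Bertini.Proj

set_option autoImplicit false
universe u
open CategoryTheory CategoryTheory.Limits AlgebraicGeometry TopologicalSpace
open SmVar

namespace Groth.Agent.S10921

/-- Let k be an algebraically closed field and X ⊆ P^n_k a nonsingular projective variety, given as an
integral scheme X with a closed immersion ι into projective n-space all of whose local rings are
regular. For a linear form h = Σ a_i X_i let H be the hyperplane h = 0 and H ∩ X the
scheme-theoretic intersection. Then the hyperplanes H which do not contain X and for which H ∩ X is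
regular at each of its closed points form a set containing a nonempty Zariski-open subset of the
dual projective space: there is a nonzero polynomial g in the coefficients a_0, …, a_n such that
every h with g(a) ≠ 0 has these two properties. Regularity of H ∩ X at a closed point x of X lying
on H is expressed on the local ring: O_{X,x} modulo the image of the germ of h/X_j (any j with
X_j(x) ≠ 0) is a regular local ring. (The published statement asserts that the set of good
hyperplanes is itself open and dense and that H ∩ X is a regular subvariety; this row asserts
regularity of H ∩ X at its closed points for all hyperplanes outside a proper closed set, and not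
irreducibility, which fails for curves of degree ≥ 2.) -/
theorem result (k : Type u) [Field k] [IsAlgClosed k] (n : ℕ)
    (X : Scheme.{u}) [IsIntegral X] (ι : X ⟶ CohB1.ProjSpace n k) [IsClosedImmersion ι]
    (hreg : ∀ x : ↥X, IsRegularLocalRing ↑(X.presheaf.stalk x)) :
    ∃ g : MvPolynomial (Fin (n + 1)) k, g ≠ 0 ∧
      ∀ h : ↥(CohB1.polyGrading n k 1),
        MvPolynomial.eval (fun i => MvPolynomial.coeff (Finsupp.single i 1) (h : MvPolynomial (Fin (n + 1)) k)) g ≠ 0 →
          (∃ x : ↥X, (h : MvPolynomial (Fin (n + 1)) k) ∉ (ι.base x).asHomogeneousIdeal) ∧
          ∀ x : ↥X, IsClosed ({x} : Set ↥X) →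
            (h : MvPolynomial (Fin (n + 1)) k) ∈ (ι.base x).asHomogeneousIdeal →
            ∀ (j : Fin (n + 1))
              (hj : (MvPolynomial.X j : MvPolynomial (Fin (n + 1)) k) ∉ (ι.base x).asHomogeneousIdeal),
              IsRegularLocalRing (↑(X.presheaf.stalk x) ⧸ Ideal.span
                {(ι.stalkMap x).hom ((Proj.stalkIso' (CohB1.polyGrading n k) (ι.base x)).symm
                  (HomogeneousLocalization.mk
                    ⟨1, h, ⟨MvPolynomial.X j, MvPolynomial.isHomogeneous_X k j⟩, hj⟩))}) :=
  Groth.L14.Bertini.bertini ι hreg

end Groth.Agent.S10921
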