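import Groth.Statements.S10922
import Groth.Agent.L15.SmoothCI
import Groth.Agent.S10918
import Groth.Agent.L03.RegularNormal
import Mathlib.RingTheory.Ideal.KrullsHeightTheorem

set_option autoImplicit false
set_option linter.style.haveILetI false
universe u
open CInt Groth.L15.SmoothCI MvPolynomial

namespace Groth.Agent.S10922

theorem isPrime_of_regCharts {k : Type u} [Field k] {n s : ℕ} (hs : s < n)
    (f : Fin s → MvPolynomial (Fin (n + 1)) k) (d : Fin s → ℕ) (hd : ∀ i, 0 < d i)
    (hf : ∀ i, (f i).IsHomogeneous (d i)) (hreg : RegCharts (Ideal.span (Set.range f)))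
    (hh : (Ideal.span (Set.range f)).height = s) : (Ideal.span (Set.range f)).IsPrime := by
  have hhom := Groth.L12.GrCI.homog_span (w := fun _ : Fin (n + 1) => 1) (S := Set.range f)
    (by rintro _ ⟨i, rfl⟩; exact ⟨d i, hf i⟩)
  haveI := (Groth.Agent.S10918.result k n s hs f d hf hd hh fun Q _ hQ => by
    obtain ⟨j, hj⟩ := hQ
    haveI := hreg j
    haveI := regular_of_chart _ hhom j Q hj
    exact ⟨Groth.L01.isDomain_of_regular (Localization.AtPrime Q),
      Groth.L03.RegularNormal.isIntegrallyClosed (Localization.AtPrime Q)⟩).1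
  exact (Ideal.Quotient.isDomain_iff_prime _).mp inferInstance

/-- Let k be an algebraically closed field, n ≥ 1, r < n, and d_1, …, d_r positive integers. Then there
are homogeneous polynomials f_1, …, f_r in S = k[x_0, …, x_n] of degrees d_1, …, d_r such that each
hypersurface V(f_i) ⊆ P^n_k is nonsingular and Y = V(f_1, …, f_r) is a nonsingular irreducible
variety of codimension r, hence a global complete intersection of the V(f_i). Nonsingularity and
irreducibility are expressed on the affine cones: S/(f_i) and S/(f_1, …, f_r) have regular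
localizations at every prime not containing all the x_j (every point of the cone other than the
vertex), S/(f_1, …, f_r) is an integral domain, and the ideal (f_1, …, f_r) has height r. -/
theorem result (k : Type u) [Field k] [IsAlgClosed k]
    (n r : ℕ) (hr : r < n) (d : Fin r → ℕ) (hd : ∀ i, 0 < d i) :
    ∃ f : Fin r → MvPolynomial (Fin (n + 1)) k,
      (∀ i, (f i).IsHomogeneous (d i)) ∧
      (∀ (i : Fin r) (Q : Ideal (MvPolynomial (Fin (n + 1)) k ⧸ Ideal.span {f i})) [Q.IsPrime],
        (∃ j, Ideal.Quotient.mk (Ideal.span {f i}) (MvPolynomial.X j) ∉ Q) →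
          IsRegularLocalRing (Localization.AtPrime Q)) ∧
      IsDomain (MvPolynomial (Fin (n + 1)) k ⧸ Ideal.span (Set.range f)) ∧
      (Ideal.span (Set.range f)).height = r ∧
      ∀ (Q : Ideal (MvPolynomial (Fin (n + 1)) k ⧸ Ideal.span (Set.range f))) [Q.IsPrime],
        (∃ j, Ideal.Quotient.mk (Ideal.span (Set.range f)) (MvPolynomial.X j) ∉ Q) →
          IsRegularLocalRing (Localization.AtPrime Q) := by
  classical
  suffices H : ∀ s (hs : s ≤ r), ∃ f : Fin s → MvPolynomial (Fin (n + 1)) k,
      (∀ i, (f i).IsHomogeneous (d (i.castLE hs))) ∧ (∀ i, RegCharts (Ideal.span {f i})) ∧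
      RegCharts (Ideal.span (Set.range f)) ∧ (Ideal.span (Set.range f)).height = s by
    obtain ⟨f, hf, hreg1, hreg, hh⟩ := H r le_rfl
    have hf' : ∀ i, (f i).IsHomogeneous (d i) := hf
    haveI := isPrime_of_regCharts hr f d hd hf' hreg hh
    refine ⟨f, hf', fun i Q _ ⟨j, hj⟩ => ?_, Ideal.Quotient.isDomain _, hh, fun Q _ ⟨j, hj⟩ => ?_⟩
    · haveI := hreg1 i j
      exact regular_of_chart _ (Groth.L12.GrCI.homog_span (w := fun _ => 1)
        (by rintro _ rfl; exact ⟨d i, hf' i⟩)) j Q hj
    · haveI := hreg j
      exact regular_of_chart _ (Groth.L12.GrCI.homog_span (w := fun _ => 1)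
        (by rintro _ ⟨i, rfl⟩; exact ⟨d i, hf' i⟩)) j Q hj
  intro s
  induction s with
  | zero =>
    refine fun hs => ⟨Fin.elim0, fun i => i.elim0, fun i => i.elim0, ?_, ?_⟩
    · rw [Set.range_eq_empty, Ideal.span_empty]
      exact regCharts_bot
    · rw [Set.range_eq_empty, Ideal.span_empty, Ideal.height_bot, Nat.cast_zero]
  | succ s ih =>
    intro hs
    obtain ⟨f, hf, hreg1, hreg, hh⟩ := ih (Nat.le_of_succ_le hs)
    set J := Ideal.span (Set.range f) with hJdef
    set e := d (Fin.castLE hs (Fin.last s))
    have he : 0 < e := hd _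
    haveI hJp : J.IsPrime := isPrime_of_regCharts (by omega) f _ (fun i => hd _) hf hreg hh
    obtain ⟨j, hj⟩ : ∃ j, MvPolynomial.X j ∉ J := by
      by_contra! hall
      have hle : Ideal.span (Set.range (MvPolynomial.X : Fin (n + 1) → MvPolynomial (Fin (n + 1)) k)) ≤ J :=
        Ideal.span_le.mpr (Set.range_subset_iff.mpr hall)
      have hker : RingHom.ker (constantCoeff : MvPolynomial (Fin (n + 1)) k →+* k) ≤ J := fun z hz => by
        refine hle ?_
        rw [show Ideal.span (Set.range MvPolynomial.X) = MvPolynomial.idealOfVars (Fin (n + 1)) k from rfl,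
          ← pow_one (MvPolynomial.idealOfVars _ _), mem_pow_idealOfVars_iff]
        intro x hx
        rcases Nat.eq_zero_or_pos x.degree with h | h
        · obtain rfl : x = 0 := (Finsupp.degree_eq_zero_iff x).mp h
          exact absurd hz (mem_support_iff.mp hx)
        · exact h
      haveI : (RingHom.ker (constantCoeff : MvPolynomial (Fin (n + 1)) k →+* k)).IsMaximal :=
        RingHom.ker_isMaximal_of_surjective _ fun c => ⟨C c, constantCoeff_C _ c⟩
      have h1 := Groth.L22.AffineDim.height_of_isMaximal k _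
        (RingHom.ker (constantCoeff : MvPolynomial (Fin (n + 1)) k →+* k))
      rw [MvPolynomial.ringKrullDim_of_isNoetherianRing, ringKrullDim_eq_zero_of_field, zero_add,
        Nat.card_fin] at h1
      have h2 : (RingHom.ker (constantCoeff : MvPolynomial (Fin (n + 1)) k →+* k)).height ≤ (s : ℕ∞) :=
        hh ▸ Ideal.height_mono hker
      have h3 : ((n + 1 : ℕ) : WithBot ℕ∞) ≤ ((s : ℕ∞) : WithBot ℕ∞) := h1 ▸ WithBot.coe_le_coe.mpr h2
      have h4 : n + 1 ≤ s := by exact_mod_cast h3
      omega
    have hhom := Groth.L12.GrCI.homog_span (w := fun _ : Fin (n + 1) => 1) (S := Set.range f)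
      (by rintro _ ⟨i, rfl⟩; exact ⟨_, hf i⟩)
    obtain ⟨P1, hP10, hP1⟩ := exists_poly J hhom hreg e he
    haveI : (⊥ : Ideal (MvPolynomial (Fin (n + 1)) k)).IsPrime := Ideal.isPrime_bot
    obtain ⟨P2, hP20, hP2⟩ := exists_poly (k := k) (n := n) ⊥ Groth.L12.GrCI.homog_bot regCharts_bot e he
    obtain ⟨P3, hP30, hP3⟩ := exists_poly_notMem J hj e
    obtain ⟨c, hc⟩ : ∃ c, eval c (P1 * P2 * P3) ≠ 0 := by
      by_contra! hcon
      exact mul_ne_zero (mul_ne_zero hP10 hP20) hP30 (MvPolynomial.funext fun c => by rw [hcon c, map_zero])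
    rw [map_mul, map_mul] at hc
    obtain ⟨⟨h1, h2⟩, h3⟩ := (mul_ne_zero_iff.mp hc).imp_left mul_ne_zero_iff.mp
    have hspan : Ideal.span (Set.range (Fin.snoc f (form c) : Fin (s + 1) → _)) = J ⊔ Ideal.span {form c} := by
      rw [Fin.range_snoc, Ideal.span_insert, sup_comm, hJdef]
    refine ⟨Fin.snoc f (form c), fun i => ?_, fun i => ?_, ?_, ?_⟩
    · induction i using Fin.lastCases with
      | last => rw [Fin.snoc_last]; exact form_isHomogeneous c
      | cast i => rw [Fin.snoc_castSucc]; exact hf i
    · induction i using Fin.lastCases with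
      | last =>
        rw [Fin.snoc_last]
        have := hP2 c h2
        rwa [bot_sup_eq] at this
      | cast i => rw [Fin.snoc_castSucc]; exact hreg1 i
    · rw [hspan]; exact hP1 c h1
    · refine le_antisymm ?_ ?_
      · refine (Ideal.height_le_spanFinrank _ ?_).trans ?_
        · refine ne_top_of_le_ne_top (RingHom.ker_ne_top
            (constantCoeff : MvPolynomial (Fin (n + 1)) k →+* k)) (Ideal.span_le.mpr ?_)
          rintro _ ⟨i, rfl⟩
          have h0 : ∀ (g : MvPolynomial (Fin (n + 1)) k) (m : ℕ), 0 < m → g.IsHomogeneous m →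
              constantCoeff g = 0 := fun g m hm hg => hg.coeff_eq_zero (by simp; omega)
          induction i using Fin.lastCases with
          | last => rw [Fin.snoc_last]; exact h0 _ e he (form_isHomogeneous c)
          | cast i => rw [Fin.snoc_castSucc]; exact h0 _ _ (hd _) (hf i)
        · refine Nat.cast_le.mpr ((Submodule.spanFinrank_span_le_ncard_of_finite (Set.finite_range _)).trans ?_)
          rw [← Set.image_univ]
          exact (Set.ncard_image_le Set.finite_univ).trans (by simp)
      · rw [hspan]
        conv_rhs => rw [Ideal.height_eq_inf_minimalPrimes]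
        refine le_iInf₂ fun Q hQ => ?_
        haveI := hQ.isPrime
        have hlt : J < Q := lt_of_le_of_ne (le_sup_left.trans hQ.1.2) fun h =>
          hP3 c h3 (h ▸ hQ.1.2 (Ideal.mem_sup_right (Ideal.mem_span_singleton_self _)))
        have := Ideal.height_strict_mono_of_isPrime_of_isPrime hlt
        rw [hh] at this
        rw [Nat.cast_succ]
        exact Order.add_one_le_of_lt this

end Groth.Agent.S10922
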