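import Groth.Statements.S10925
import Groth.Agent.L08.Cube.SeesawH0
import Groth.Agent.L08.Cube.Semicont
import Groth.Agent.L16.ProjSpace.Basic
import Mathlib.RingTheory.Jacobson.Ring

set_option autoImplicit false
universe u
open CategoryTheory CategoryTheory.Limits AlgebraicGeometry
open PicF

namespace Groth.Agent.S10925

/-- Let k be an algebraically closed field, Y an integral scheme of finite type over k, f : X → Y flat
and projective (f = i ≫ pr for a closed immersion i : X → P^n_Y), such that every fibre X_y, y ∈ Y,
is integral, and let E be an invertible O_X-module whose pullback to every fibre X_y is isomorphic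
to the structure sheaf. Then L = f_*E is an invertible O_Y-module and the canonical map f^*f_*E → E
(the counit of f^* ⊣ f_*) is an isomorphism, so E ≅ f^*L. (Over a base field that is not
algebraically closed the conclusion fails already for the spectrum of a nontrivial finite field
extension mapping to the point; the base field is taken algebraically closed here, the standing
convention for varieties.) -/
theorem result (k : Type u) [Field k] [IsAlgClosed k]
    {X Y : Scheme.{u}} (g : Y ⟶ Spec (CommRingCat.of k)) [LocallyOfFiniteType g] [QuasiCompact g]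
    [IsIntegral Y] (n : ℕ) (i : X ⟶ CohB1.ProjSpaceOver n Y) [IsClosedImmersion i]
    (f : X ⟶ Y) (hf : f = i ≫ CohB1.ProjSpaceOver.toBase n Y) [Flat f]
    (hint : ∀ y : Y, IsIntegral (f.fiber y))
    (E : X.Modules) (hE : PicF.IsInvertible E)
    (htriv : ∀ y : Y, Nonempty ((Scheme.Modules.pullback (f.fiberι y)).obj E ≅ Coh.structureModule (f.fiber y))) :
    PicF.IsInvertible ((Scheme.Modules.pushforward f).obj E) ∧
      IsIso ((Scheme.Modules.pullbackPushforwardAdjunction f).counit.app E) := by
  haveI : IsProper f := by rw [hf]; infer_instance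
  haveI : IsLocallyNoetherian Y := LocallyOfFiniteType.isLocallyNoetherian g
  haveI : JacobsonSpace Y := LocallyOfFiniteType.jacobsonSpace g
  refine Groth.L08.Cube.seesaw_of_const f E hE (fun y => ?_) htriv
  let O := Coh.structureModule X
  have hO := Groth.L18.Ample.isInvertible_structureModule X
  haveI := Groth.L21.Extend.isQCoh_of_isInvertible hO
  have hfl : FlatMod.IsFlatOver f O :=
    Groth.L29.DC.RelTor.isFlatOver_of_isFlat f (Groth.L21.RR.isFlat_of_isInvertible hO)
  let θ : ∀ y : Y, CohIII.fiberMod f O y ≅ Coh.structureModule (f.fiber y) := fun y =>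
    Groth.L29.LocFree.pullbackUnitIso (f.fiberι y)
  -- at a closed point the residue field is algebraically closed, so the rank is one
  have hclosed : ∀ y : Y, IsClosed ({y} : Set Y) → CohIII.fiberRank f O 0 y = 1 := by
    intro y hy
    haveI := hint y
    haveI : IsClosedImmersion (Y.fromSpecResidueField y) := isClosed_singleton_iff_isClosedImmersion.mp hy
    let q : f.fiber y ⟶ Spec (CommRingCat.of (Y.residueField y)) := f.fiberToSpecResidueField y
    haveI : IsProper q :=
      MorphismProperty.of_isPullback (IsPullback.of_hasPullback f (Y.fromSpecResidueField y)) ‹IsProper f›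
    let φ := Spec.preimage (Y.fromSpecResidueField y ≫ g)
    letI : Algebra k (Y.residueField y) := φ.hom.toAlgebra
    haveI : Algebra.FiniteType k (Y.residueField y) := by
      refine RingHom.finiteType_algebraMap.1 ((HasRingHomProperty.Spec_iff (P := @LocallyOfFiniteType) (φ := φ)).1 ?_)
      rw [Spec.map_preimage]
      infer_instance
    haveI : Module.Finite k (Y.residueField y) := finite_of_finite_type_of_isJacobsonRing k _
    haveI : IsAlgClosed (Y.residueField y) := IsAlgClosed.of_ringEquiv k _
      (RingEquiv.ofBijective (algebraMap k (Y.residueField y)) IsAlgClosed.algebraMap_bijective_of_isIntegral)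
    letI := (AlgebraicGeometry.isField_of_universallyClosed (Y.residueField y) q).toField
    letI : Algebra (Y.residueField y) Γ(f.fiber y, ⊤) := (Coh.toGlobal q).toAlgebra
    haveI : Algebra.IsIntegral (Y.residueField y) Γ(f.fiber y, ⊤) :=
      ⟨(RingHom.Finite.to_isIntegral (RingHom.Finite.comp
        (AlgebraicGeometry.finite_appTop_of_universallyClosed (Y.residueField y) q)
        (RingHom.Finite.of_surjective _ (ConcreteCategory.bijective_of_isIso
          (Scheme.ΓSpecIso (CommRingCat.of (Y.residueField y))).inv).2)))⟩
    exact Groth.L08.Cube.finrank_HH_zero_of_iso q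
      (show Function.Bijective (algebraMap (Y.residueField y) Γ(f.fiber y, ⊤)) from
        IsAlgClosed.algebraMap_bijective_of_isIntegral) (θ y)
  have hfp := Groth.L18.Ample.isCoh_of_isInvertible hO
  have hle : CohIII.fiberRank f O 0 y < 2 := by
    by_contra hcon
    obtain ⟨z, hz, hzc⟩ := nonempty_inter_closedPoints (Z := {y : Y | ¬ CohIII.fiberRank f O 0 y < 2}) ⟨y, hcon⟩
      (Groth.L08.Cube.isClosed_not_fiberRank_lt f O hfp hfl 0 2).isLocallyClosed
    exact hz (by rw [hclosed z (mem_closedPoints_iff.1 hzc)]; norm_num)
  haveI := hint y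
  let q : f.fiber y ⟶ Spec (CommRingCat.of (Y.residueField y)) := f.fiberToSpecResidueField y
  obtain ⟨_, ⟨V, hV, rfl⟩, hyV, -⟩ :=
    Y.isBasis_affineOpens.exists_subset_of_mem_open (Set.mem_univ y) isOpen_univ
  obtain ⟨l⟩ := Groth.L17.BC.nonempty_local f hV O hfp hfl
  haveI := l.finite_fiberH y hyV 0
  haveI : Nontrivial (CohIII.fiberH f O y 0) := by
    haveI : Nonempty ((⊤ : (f.fiber y).Opens) : Scheme.{u}) := ⟨⟨Classical.arbitrary _, trivial⟩⟩
    haveI : Nontrivial ((Coh.toAb (Coh.structureModule (f.fiber y))).obj.obj (Opposite.op ⊤)) :=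
      inferInstanceAs (Nontrivial Γ(f.fiber y, ⊤))
    exact ((Groth.L17.BC.HHequiv (θ y) 0).toEquiv.trans
      (Sheaf.H.equiv₀ (Coh.toAb (Coh.structureModule (f.fiber y)))
        (IsTerminal.ofUniqueHom (fun U => homOfLE le_top) (fun _ _ => rfl))).toEquiv).nontrivial
  have h1 : CohIII.fiberRank f O 0 y = 1 := by
    have := Module.finrank_pos (R := Y.residueField y) (M := CohIII.fiberH f O y 0)
    show Module.finrank (Y.residueField y) (CohIII.fiberH f O y 0) = 1
    change Module.finrank (Y.residueField y) (CohIII.fiberH f O y 0) < 2 at hle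
    omega
  letI : Module (Y.residueField y) (Coh.HH (f.fiber y) (Coh.structureModule (f.fiber y)) 0) :=
    Module.compHom _ (Coh.toGlobal q)
  let E' : CohIII.fiberH f O y 0 ≃ₗ[Y.residueField y] Coh.HH (f.fiber y) (Coh.structureModule (f.fiber y)) 0 :=
    { (Groth.L17.BC.HHequiv (θ y) 0).toAddEquiv with
      map_smul' := fun a x => (Groth.L17.BC.HHequiv (θ y) 0).map_smul (Coh.toGlobal q a) x }
  exact (Groth.L08.Cube.bijective_toGlobal_of_finrank q (E'.finrank_eq.symm.trans h1)).2

end Groth.Agent.S10925
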