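import Groth.Prelude.Def_CohB1
import Groth.Prelude.Def_Coh
import Groth.Prelude.Def_Pic
import Mathlib.AlgebraicGeometry.Morphisms.ClosedImmersion
import Mathlib.AlgebraicGeometry.Morphisms.Flat
import Mathlib.AlgebraicGeometry.Morphisms.FiniteType
import Mathlib.AlgebraicGeometry.Fiber
import Mathlib.FieldTheory.IsAlgClosed.Basic
import Groth.Agent.S14419
import Groth.Agent.S2553
import Groth.Agent.L08.Cube.SliceFibre
import Groth.Agent.L08.Cube.Inverse
import Groth.Agent.L02.Quot.ProjQuot
import Groth.Agent.L18.GenLocus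
import Groth.Agent.L20.DescLocus.PicSep

set_option autoImplicit false
set_option linter.style.haveILetI false
namespace PicF
end PicF
universe u
open CategoryTheory CategoryTheory.Limits AlgebraicGeometry
open PicF

namespace Groth.Agent.S10926

/-- Let k be an algebraically closed field, Y an integral scheme of finite type over k, f : X → Y flat
and projective (f = i ≫ pr for a closed immersion i : X → P^n_Y) with every fibre X_y integral, and
L, M invertible O_X-modules whose pullbacks to each fibre X_y are isomorphic. Then there is an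
invertible O_Y-module E with L ≅ M ⊗ f^*E. -/
theorem result (k : Type u) [Field k] [IsAlgClosed k]
    {X Y : Scheme.{u}} (g : Y ⟶ Spec (CommRingCat.of k)) [LocallyOfFiniteType g] [QuasiCompact g]
    [IsIntegral Y] (n : ℕ) (i : X ⟶ CohB1.ProjSpaceOver n Y) [IsClosedImmersion i]
    (f : X ⟶ Y) (hf : f = i ≫ CohB1.ProjSpaceOver.toBase n Y) [Flat f]
    (hint : ∀ y : Y, IsIntegral (f.fiber y))
    (L M : X.Modules) (hL : PicF.IsInvertible L) (hM : PicF.IsInvertible M)
    (hLM : ∀ y : Y, Nonempty ((Scheme.Modules.pullback (f.fiberι y)).obj L ≅ (Scheme.Modules.pullback (f.fiberι y)).obj M)) :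
    ∃ E : Y.Modules, PicF.IsInvertible E ∧
      Nonempty (L ≅ CohB1.tensorMod M ((Scheme.Modules.pullback f).obj E)) := by
  subst hf
  let f := i ≫ CohB1.ProjSpaceOver.toBase n Y
  haveI : IsProper f := Groth.L02.Quot.isProper_comp_toBase i
  haveI : IsLocallyNoetherian Y := LocallyOfFiniteType.isLocallyNoetherian g
  haveI : IsLocallyNoetherian X := LocallyOfFiniteType.isLocallyNoetherian f
  haveI : LocallyOfFinitePresentation f := inferInstance
  haveI : JacobsonSpace Y := LocallyOfFiniteType.jacobsonSpace g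
  have htop : (⟨_, Groth.Agent.S2553.result f⟩ : Y.Opens) = ⊤ := by
    refine Groth.L08.Cube.eq_top_of_closedPoints _ fun y hy => ?_
    let e := (residueFieldIsoBase g y hy).commRingCatIsoToRingEquiv
    have hac : IsAlgClosed (Y.residueField y) := IsAlgClosed.of_ringEquiv k _ e.symm
    haveI := hint y
    exact @Groth.L08.Cube.geometricallyIntegral_of_isAlgClosed (Y.residueField y) _ hac _ (f.fiberToSpecResidueField y) _
  haveI : GeometricallyIntegral f := ⟨geometrically_iff_forall_fiberToSpecResidueField.2 fun y =>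
    ((htop.ge (Set.mem_univ y)) : GeometricallyIntegral (f.fiberToSpecResidueField y)).1⟩
  haveI : GeometricallyConnected f := Groth.L20.PicSep.geometricallyConnected f
  obtain ⟨M', hM', ⟨ε⟩⟩ := Groth.L08.Cube.exists_inverse hM
  have hLMi : PicF.IsInvertible (CohB1.tensorMod L M') := Groth.L18.GenLoc.isInvertible_tensor hL hM'
  have htriv : ∀ y : Y, Nonempty ((Scheme.Modules.pullback (f.fiberι y)).obj (CohB1.tensorMod L M') ≅
      Coh.structureModule (f.fiber y)) := fun y => by
    obtain ⟨e⟩ := hLM y
    exact ⟨(Groth.L29.DC.PullTensor.pullTensor (f.fiberι y) L M').symm ≪≫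
      Groth.L00.Tensor.tensorIso e (Iso.refl _) ≪≫ Groth.L29.DC.PullTensor.pullTensor (f.fiberι y) M M' ≪≫
      (Scheme.Modules.pullback (f.fiberι y)).mapIso ε ≪≫ Groth.L29.LocFree.pullbackUnitIso (f.fiberι y)⟩
  obtain ⟨hN, hiso⟩ := Groth.Agent.S14419.result f _ hLMi htriv
  haveI := hiso
  refine ⟨_, hN, ⟨?_⟩⟩
  exact (Groth.L00.Tensor.tensorUnitRight L).symm ≪≫ Groth.L00.Tensor.tensorIso (Iso.refl L)
      (ε.symm ≪≫ Groth.L00.Tensor.tensorComm M M') ≪≫ (Groth.L00.Tensor.tensorAssoc L M' M).symm ≪≫
    Groth.L00.Tensor.tensorComm _ M ≪≫ Groth.L00.Tensor.tensorIso (Iso.refl M)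
      (asIso ((Scheme.Modules.pullbackPushforwardAdjunction f).counit.app (CohB1.tensorMod L M'))).symm

end Groth.Agent.S10926
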