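import Groth.Statements.S10927
import Groth.Agent.L24.Kleiman.Smooth

set_option autoImplicit false
set_option backward.isDefEq.respectTransparency.types false
universe u
open CategoryTheory CategoryTheory.Limits MonoidalCategory CartesianMonoidalCategory MonObj GrpObj AlgebraicGeometry
open Variety

namespace Groth.Agent.S10927

/-- Let k be an algebraically closed field of characteristic zero, G a group variety over k (an
integral, separated k-group scheme of finite type) and X a homogeneous space for G: a k-variety
(integral, separated, of finite type over k) with an action of G such that G(k) acts transitively on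
X(k). Then for every k-point x of X the orbit map G → X, g ↦ g · x, is smooth. -/
theorem result (k : Type u) [Field k] [IsAlgClosed k] [CharZero k]
    (G X : Over (Spec (CommRingCat.of k))) [GrpObj G] (a : AlgGrp.Action G X)
    [IsIntegral G.left] [IsSeparated G.hom] [LocallyOfFiniteType G.hom] [QuasiCompact G.hom]
    [IsIntegral X.left] [IsSeparated X.hom] [LocallyOfFiniteType X.hom] [QuasiCompact X.hom]
    (htrans : ∀ x x' : 𝟙_ (Over (Spec (CommRingCat.of k))) ⟶ X,
      ∃ σ : 𝟙_ (Over (Spec (CommRingCat.of k))) ⟶ G, CartesianMonoidalCategory.lift σ x ≫ a.act = x')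
    (x : 𝟙_ (Over (Spec (CommRingCat.of k))) ⟶ X) :
    Smooth (a.orbitMap x).left := by
  haveI : IsIntegral (𝟙_ (Over (Spec (CommRingCat.of k)))).left := inferInstanceAs (IsIntegral (Spec (CommRingCat.of k)))
  haveI : Smooth (𝟙_ (Over (Spec (CommRingCat.of k)))).hom := inferInstanceAs (Smooth (𝟙 (Spec (CommRingCat.of k))))
  haveI : QuasiCompact (𝟙_ (Over (Spec (CommRingCat.of k)))).hom := inferInstanceAs (QuasiCompact (𝟙 (Spec (CommRingCat.of k))))
  have hs := Groth.L24.Kleiman.smooth_evalMap a htrans x
  have e : (ρ_ G).inv ≫ Groth.L24.Kleiman.evalMap a x = a.orbitMap x := by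
    have h1 : (ρ_ G).inv ≫ (G ◁ x) = CartesianMonoidalCategory.lift (𝟙 G) (CartesianMonoidalCategory.toUnit G ≫ x) := by
      apply CartesianMonoidalCategory.hom_ext <;> simp
    simp only [Groth.L24.Kleiman.evalMap, AlgGrp.Action.orbitMap, ← h1, Category.assoc]
  rw [← e, Over.comp_left]
  infer_instance

end Groth.Agent.S10927
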