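import Groth.Statements.S10929
import Groth.Agent.L16.GenSmooth.Basic

set_option autoImplicit false
universe u
open CategoryTheory CategoryTheory.Limits AlgebraicGeometry
open Variety

namespace Groth.Agent.S10929

/-- Let k be an algebraically closed field of characteristic zero, X and Y integral schemes of finite
type over k and f : X → Y a dominant k-morphism. Then there is a nonempty open subscheme U of X such
that f restricted to U is a smooth morphism U → Y. -/
theorem result (k : Type u) [Field k] [IsAlgClosed k] [CharZero k]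
    {X Y : Scheme.{u}} (qX : X ⟶ Spec (CommRingCat.of k)) (qY : Y ⟶ Spec (CommRingCat.of k))
    [LocallyOfFiniteType qX] [QuasiCompact qX] [LocallyOfFiniteType qY] [QuasiCompact qY]
    [IsIntegral X] [IsIntegral Y] (f : X ⟶ Y) (hf : f ≫ qY = qX) (hdom : DenseRange f.base) :
    ∃ U : X.Opens, (U : Set ↥X).Nonempty ∧ Smooth (U.ι ≫ f) := by
  haveI : LocallyOfFinitePresentation qX := inferInstance
  let U₀ : X.Opens := qX.smoothLocus
  have hne : (U₀ : Set X).Nonempty := qX.dense_smoothLocus_of_perfectField.nonempty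
  haveI : IsLocallyNoetherian X := LocallyOfFiniteType.isLocallyNoetherian qX
  haveI : CompactSpace X := HasAffineProperty.iff_of_isAffine.mp ‹QuasiCompact qX›
  haveI : AlgebraicGeometry.IsNoetherian X := {}
  haveI : Nonempty U₀.toScheme := ⟨⟨hne.some, hne.some_mem⟩⟩
  haveI : Smooth (U₀.ι ≫ qX) := by
    rw [← Scheme.Hom.smoothLocus_eq_top_iff, ← Scheme.Hom.preimage_smoothLocus_eq]
    exact U₀.ι_preimage_self
  haveI : CompactSpace U₀.toScheme := isCompact_iff_compactSpace.mp (TopologicalSpace.NoetherianSpace.isCompact _)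
  haveI : QuasiCompact (U₀.ι ≫ qX) := HasAffineProperty.iff_of_isAffine.mpr ‹CompactSpace U₀.toScheme›
  haveI : IsDominant f := ⟨hdom⟩
  haveI : IsDominant U₀.ι := ⟨by
    rw [DenseRange, Scheme.Opens.range_ι]; exact U₀.2.dense hne⟩
  haveI : IsDominant (U₀.ι ≫ f) := inferInstance
  obtain ⟨V, hV, hsm⟩ := Groth.L16.GenSmooth.exists_smooth_restrict (U₀.ι ≫ qX) qY (U₀.ι ≫ f)
    (by rw [Category.assoc, hf])
  let W := (U₀.ι ≫ f) ⁻¹ᵁ V
  refine ⟨U₀.ι ''ᵁ W, ?_, ?_⟩
  · obtain ⟨w, hw⟩ := (IsDominant.denseRange (f := U₀.ι ≫ f)).exists_mem_open V.2 hV.nonempty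
    exact ⟨U₀.ι w, ⟨w, hw, rfl⟩⟩
  · have : (U₀.ι ''ᵁ W).ι ≫ f = (U₀.ι.isoImage W).inv ≫ ((U₀.ι ≫ f) ∣_ V) ≫ V.ι := by
      rw [morphismRestrict_ι, Scheme.Hom.isoImage_inv_ι_assoc]
    rw [this]; infer_instance
end Groth.Agent.S10929
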