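import Groth.Statements.S10930
import Groth.Agent.L16.GenSmooth.Basic

set_option autoImplicit false
universe u
open CategoryTheory CategoryTheory.Limits AlgebraicGeometry
open Variety

namespace Groth.Agent.S10930

/-- Let k be an algebraically closed field of characteristic zero, X and Y varieties over k (integral,
separated and of finite type over k) with X nonsingular, i.e. smooth over k, and f : X → Y a
k-morphism. Then there is a nonempty open subscheme V of Y such that the restriction f⁻¹(V) → V of f
is smooth. -/
theorem result (k : Type u) [Field k] [IsAlgClosed k] [CharZero k]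
    {X Y : Scheme.{u}} (qX : X ⟶ Spec (CommRingCat.of k)) (qY : Y ⟶ Spec (CommRingCat.of k))
    [LocallyOfFiniteType qX] [QuasiCompact qX] [IsSeparated qX] [Smooth qX]
    [LocallyOfFiniteType qY] [QuasiCompact qY] [IsSeparated qY]
    [IsIntegral X] [IsIntegral Y] (f : X ⟶ Y) (hf : f ≫ qY = qX) :
    ∃ V : Y.Opens, (V : Set ↥Y).Nonempty ∧ Smooth (f ∣_ V) := by
  by_cases hd : DenseRange f.base
  · haveI : IsDominant f := ⟨hd⟩
    obtain ⟨V, hV, hsm⟩ := Groth.L16.GenSmooth.exists_smooth_restrict qX qY f hf
    exact ⟨V, hV.nonempty, hsm⟩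
  · let V : Y.Opens := ⟨(closure (Set.range f.base))ᶜ, isClosed_closure.isOpen_compl⟩
    have hV : (V : Set Y).Nonempty := by
      rw [Set.nonempty_iff_ne_empty]
      intro h
      exact hd (dense_iff_closure_eq.2 (Set.compl_empty_iff.1 h))
    refine ⟨V, hV, ?_⟩
    haveI : IsEmpty (f ⁻¹ᵁ V).toScheme := ⟨fun x => x.2 (subset_closure ⟨x.1, rfl⟩)⟩
    infer_instance
end Groth.Agent.S10930
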