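import Groth.Statements.S10931
import Groth.Agent.L22.Adjunction.TwistedSymm
import Groth.Agent.L16.ProjSpace.Basic
-- import your own Groth.Agent.* helpers here

set_option autoImplicit false
universe u
open CategoryTheory CategoryTheory.Limits AlgebraicGeometry
open ProjDual

namespace Groth.Agent.S10931

/-- Let k be a field, p ≤ r and q ≤ r natural numbers, P = P^r_k with structure map to Spec k, Ω =
Ω^1_{P/k} (the conormal sheaf of the diagonal), L an O_P-module which is a p-th exterior power of Ω
and L' one which is an (r − p)-th exterior power of Ω, and d an integer; write M(d) = M ⊗ O_P(d).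
Then H^q(P, L(d)) = H^q(P^r, Ω^p(d)) and H^{r−q}(P, L'(−d)) = H^{r−q}(P^r, Ω^{r−p}(−d)) have the
same dimension over k. (The published statement asserts an isomorphism between these two cohomology
groups, obtained from Serre duality; this row records the equality of dimensions.) -/
theorem result (k : Type u) [Field k] (r p q : ℕ)
    (hp : p ≤ r) (hq : q ≤ r) (L L' : (CohB1.ProjSpace r k).Modules)
    (hL : ExtPow.IsExtPow p (Omega.sheaf (CohB1.ProjSpace.toSpec r k)) L)
    (hL' : ExtPow.IsExtPow (r - p) (Omega.sheaf (CohB1.ProjSpace.toSpec r k)) L') (d : ℤ) :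
    Module.finrank k (Coh.HH (CohB1.ProjSpace r k) (CohB1.tensorMod L (Twist.twistProjSpace r k d)) q) =
      Module.finrank k (Coh.HH (CohB1.ProjSpace r k)
        (CohB1.tensorMod L' (Twist.twistProjSpace r k (-d))) (r - q)) := by
  letI : (CohB1.ProjSpace r k).Over (Spec (CommRingCat.of k)) := ⟨CohB1.ProjSpace.toSpec r k⟩
  haveI : SmoothOfRelativeDimension r (CohB1.ProjSpace r k ↘ Spec (CommRingCat.of k)) :=
    (inferInstance : SmoothOfRelativeDimension r (CohB1.ProjSpace.toSpec r k))
  obtain ⟨e1⟩ := Groth.L22.Reg.nonempty_O_add (n := r) (R := k) (show d + -d = 0 by ring)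
  obtain ⟨e0⟩ := Groth.L22.Reg.nonempty_O_zero r k
  exact Groth.L22.Adjunction.finrank_symm_twist k r (CohB1.ProjSpace r k) (𝟙 _) (Category.id_comp _)
    p q hp hq L L' _ _ hL hL' (Groth.L16.ProjTwist.isInvertible_twistProjSpace r k d) (e1 ≪≫ e0)

end Groth.Agent.S10931
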