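import Groth.Statements.S10933
import Groth.Agent.L01.AusBuch

set_option autoImplicit false
universe u
open CategoryTheory
open CAlg

namespace Groth.Agent.S10933

/-- Let A be a (Noetherian) regular local ring, M a finitely generated A-module and d a natural number.
Then the projective dimension of M equals d if and only if Ext^j_A(M, A) = 0 for every j > d and
Ext^d_A(M, A) ≠ 0. (Projective dimension valued in WithBot ℕ∞, the zero module having projective
dimension ⊥.) -/
theorem result (A : Type u) [CommRing A] [IsRegularLocalRing A]
    (M : Type u) [AddCommGroup M] [Module A M] [Module.Finite A M] (d : ℕ) :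
    projectiveDimension (ModuleCat.of A M) = (d : WithBot ℕ∞) ↔
      ((∀ j : ℕ, d < j → Subsingleton (Abelian.Ext (ModuleCat.of A M) (ModuleCat.of A A) j)) ∧
        Nontrivial (Abelian.Ext (ModuleCat.of A M) (ModuleCat.of A A) d)) := by
  constructor
  · intro he
    haveI := (projectiveDimension_le_iff (ModuleCat.of A M) d).1 he.le
    exact ⟨fun j hj => HasProjectiveDimensionLT.subsingleton _ (d + 1) j hj _,
      Groth.L01.AusBuch.nontrivial_ext_self he⟩
  · rintro ⟨hgt, hd⟩
    obtain ⟨n, hn⟩ := Groth.L01.exists_dim_eq_nat (R := A)
    have hpd := Groth.L04.hasProjectiveDimensionLE_of_regularLocal hn (ModuleCat.of A M)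
    haveI : HasProjectiveDimensionLT (ModuleCat.of A M) (n + (d + 1)) :=
      haveI := hpd
      hasProjectiveDimensionLT_of_ge _ (n + 1) _ (by omega)
    have h1 : HasProjectiveDimensionLT (ModuleCat.of A M) (d + 1) :=
      Groth.L01.AusBuch.hasProjectiveDimensionLT_of_ext_vanish (M := ModuleCat.of A M) n inferInstance
        fun i hi => hgt i hi
    refine le_antisymm ((projectiveDimension_le_iff _ d).2 h1) (not_lt.1 fun hlt => ?_)
    haveI := projectiveDimension_lt_iff.1 hlt
    exact not_subsingleton _ (HasProjectiveDimensionLT.subsingleton (ModuleCat.of A M) d d le_rfl (ModuleCat.of A A))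

end Groth.Agent.S10933
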