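import Groth.Statements.S10934
import Groth.Agent.L22.PDual.CMVanish
-- import your own Groth.Agent.* helpers here

set_option autoImplicit false
universe u
open CategoryTheory CategoryTheory.Limits AlgebraicGeometry
open ProjDual

namespace Groth.Agent.S10934

/-- (a)⇔(b): let k be a field, i : X → P^N_k a closed immersion with X of dimension n, and write F(−q) =
F ⊗ i^*O(−q). Then X is an equidimensional Cohen–Macaulay scheme of dimension n — the local ring of
X at every closed point is Cohen–Macaulay of Krull dimension n — if and only if for every finite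
locally free O_X-module F (vector bundle) there is q₀ such that H^j(X, F(−q)) = 0 for all j < n and
all q ≥ q₀. -/
theorem result (k : Type u) [Field k] (N n : ℕ)
    {X : Scheme.{u}} (i : X ⟶ CohB1.ProjSpace N k) [IsClosedImmersion i] (hn : topologicalKrullDim ↥X = n) :
    (∀ x : X, IsClosed ({x} : Set ↥X) →
        LocCoh.IsCohenMacaulayLocalRing (X.presheaf.stalk x) ∧ ringKrullDim (X.presheaf.stalk x) = n) ↔
      ∀ F : X.Modules, FlatMod.IsFinLocFree F → ∃ q₀ : ℕ, ∀ q : ℕ, q₀ ≤ q → ∀ j : ℕ, j < n →
        Subsingleton (Coh.HH X (CohB1.tensorMod F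
          ((Scheme.Modules.pullback i).obj (Twist.twistProjSpace N k (-(q : ℤ))))) j) := by
  exact Groth.L22.PDual.cm_iff_vanish i n hn

end Groth.Agent.S10934
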