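import Groth.Statements.S10935
import Groth.Agent.L13.ModFibre
import Groth.Agent.L19.Ass.Basic
import Groth.Agent.L19.ConormalAffine
import Mathlib.RingTheory.RegularLocalRing.Defs
import Mathlib.RingTheory.DiscreteValuationRing.TFAE
import Mathlib.RingTheory.Flat.TorsionFree
import Mathlib.RingTheory.Ideal.AssociatedPrime.Localization
import Mathlib.AlgebraicGeometry.Morphisms.Flat


set_option autoImplicit false
universe u
open CategoryTheory CategoryTheory.Limits AlgebraicGeometry
open FlatMor

namespace Groth.Agent.S10935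

theorem isPIR {Y : Scheme.{u}} [IsIntegral Y] (hreg : ∀ y : Y, IsRegularLocalRing (Y.presheaf.stalk y))
    (hdim : topologicalKrullDim ↥Y ≤ 1) (y : Y) : IsPrincipalIdealRing (Y.presheaf.stalk y) := by
  haveI := hreg y
  refine ((tfae_of_isNoetherianRing_of_isLocalRing_of_isDomain (Y.presheaf.stalk y)).out 5 0).1 ?_
  have h1 : (Module.finrank (IsLocalRing.ResidueField (Y.presheaf.stalk y))
      (IsLocalRing.CotangentSpace (Y.presheaf.stalk y)) : WithBot ℕ∞) ≤ 1 := by
    rw [(IsRegularLocalRing.iff_finrank_cotangentSpace _).1 (hreg y)]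
    exact (Groth.L13.ModFibre.ringKrullDim_stalk_le_topologicalKrullDim _).trans hdim
  exact_mod_cast h1

/-- Let Y be an integral, regular (every local ring a regular local ring), one-dimensional scheme with
generic point η, X a Noetherian scheme and f : X → Y a morphism. Then f is flat if and only if every
associated point x of X — a point such that the maximal ideal of O_{X,x} is an associated prime of
O_{X,x} — satisfies f(x) = η. -/
theorem result {X Y : Scheme.{u}} (f : X ⟶ Y)
    [IsIntegral Y] (hreg : ∀ y : Y, IsRegularLocalRing (Y.presheaf.stalk y))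
    (hY : topologicalKrullDim ↥Y = 1) [IsNoetherian X] :
    Flat f ↔ ∀ x : X, Curv2.IsAssPoint (Coh.structureModule X) x → f.base x = genericPoint ↥Y := by
  have hbot : ∀ y : Y, (Y.fromSpecStalk y).base ⟨⊥, Ideal.isPrime_bot⟩ = genericPoint ↥Y := fun y => by
    obtain ⟨q, hq⟩ : genericPoint ↥Y ∈ Set.range (Y.fromSpecStalk y).base := by
      rw [Scheme.range_fromSpecStalk]
      exact genericPoint_specializes y
    rw [← hq]
    have h : (q : PrimeSpectrum (Y.presheaf.stalk y)) ⤳ ⟨⊥, Ideal.isPrime_bot⟩ :=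
      (Y.fromSpecStalk y).isEmbedding.isInducing.specializes_iff.1 (by rw [hq]; exact genericPoint_specializes _)
    refine congrArg (Y.fromSpecStalk y).base (PrimeSpectrum.ext ?_)
    have h' : q.asIdeal ≤ (⊥ : Ideal (Y.presheaf.stalk y)) :=
      (PrimeSpectrum.le_iff_specializes (q : PrimeSpectrum (Y.presheaf.stalk y)) ⟨⊥, Ideal.isPrime_bot⟩).2 h
    exact (le_bot_iff.1 h').symm
  haveI : Coh.IsQCoh (Coh.structureModule X) :=
    Groth.L19.Conormal.isQCoh_structureModule X
  constructor
  · intro hflat x hx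
    haveI := isPIR hreg hY.le (f.base x)
    letI : Algebra (Y.presheaf.stalk (f.base x)) (X.presheaf.stalk x) := (f.stalkMap x).hom.toAlgebra
    haveI : Module.Flat (Y.presheaf.stalk (f.base x)) (X.presheaf.stalk x) :=
      (Flat.iff_flat_stalkMap f).1 hflat x
    obtain ⟨_, ⟨V, hV, rfl⟩, hxV, -⟩ :=
      X.isBasis_affineOpens.exists_subset_of_mem_open (Set.mem_univ x) isOpen_univ
    replace hV : IsAffineOpen V := hV
    haveI : IsNoetherianRing Γ(X, V) := IsLocallyNoetherian.component_noetherian ⟨V, hV⟩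
    letI := X.presheaf.algebra_section_stalk ⟨x, hxV⟩
    haveI := hV.isLocalization_stalk ⟨x, hxV⟩
    haveI : IsLocalizedModule (hV.primeIdealOf ⟨x, hxV⟩).asIdeal.primeCompl
        (Algebra.linearMap Γ(X, V) (X.presheaf.stalk x)) :=
      (isLocalizedModule_iff_isLocalization' _ _).2 inferInstance
    have hA : (hV.primeIdealOf ⟨x, hxV⟩).asIdeal ∈ associatedPrimes Γ(X, V) Γ(X, V) :=
      Groth.L19.Ass.mem_associatedPrimes_of_fg (Coh.structureModule X) hV hxV (IsNoetherian.noetherian _) hx
    have hmax : IsLocalRing.maximalIdeal (X.presheaf.stalk x) ∈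
        associatedPrimes (X.presheaf.stalk x) (X.presheaf.stalk x) := by
      apply Module.associatedPrimes.mem_associatedPrimes_of_comap_mem_associatedPrimes_of_isLocalizedModule
        (hV.primeIdealOf ⟨x, hxV⟩).asIdeal.primeCompl (Algebra.linearMap Γ(X, V) (X.presheaf.stalk x))
      rw [show (IsLocalRing.maximalIdeal (X.presheaf.stalk x)).comap (algebraMap Γ(X, V) (X.presheaf.stalk x)) =
        (hV.primeIdealOf ⟨x, hxV⟩).asIdeal from
        IsLocalization.AtPrime.under_maximalIdeal (X.presheaf.stalk x) (hV.primeIdealOf ⟨x, hxV⟩).asIdeal]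
      exact hA
    obtain ⟨hp, z, hz⟩ := isAssociatedPrime_iff.1 hmax
    have hz0 : z ≠ 0 := by
      rintro rfl
      exact hp.ne_top (hz.trans ((Ideal.eq_top_iff_one _).2 (Submodule.mem_colon_singleton.2 (by simp))))
    have hm : IsLocalRing.maximalIdeal (Y.presheaf.stalk (f.base x)) = ⊥ := by
      rw [eq_bot_iff]
      intro a ha
      by_contra hne
      have h1 : (f.stalkMap x).hom a * z = 0 := by
        have h2 : (f.stalkMap x).hom a ∈ IsLocalRing.maximalIdeal (X.presheaf.stalk x) :=
          fun hu => ha ((f.toLRSHom.prop x).map_nonunit a hu)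
        rw [hz, Submodule.mem_colon_singleton, Submodule.mem_bot] at h2
        exact h2
      have h3 := (Module.Flat.flat_iff_torsion_eq_bot_of_isBezout (R := Y.presheaf.stalk (f.base x))
        (M := X.presheaf.stalk x)).1 inferInstance
      have h4 : z ∈ Submodule.torsion (Y.presheaf.stalk (f.base x)) (X.presheaf.stalk x) :=
        ⟨⟨a, mem_nonZeroDivisors_of_ne_zero hne⟩, h1⟩
      rw [h3, Submodule.mem_bot] at h4
      exact hz0 h4
    rw [← hbot (f.base x)]
    conv_lhs => rw [← Scheme.fromSpecStalk_closedPoint (x := f.base x) (X := Y)]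
    exact congrArg (Y.fromSpecStalk (f.base x)).base (PrimeSpectrum.ext hm)
  · intro H
    rw [Flat.iff_flat_stalkMap]
    intro x
    haveI := isPIR hreg hY.le (f.base x)
    let φ : Y.presheaf.stalk (f.base x) →+* X.presheaf.stalk x := (f.stalkMap x).hom
    letI : Algebra (Y.presheaf.stalk (f.base x)) (X.presheaf.stalk x) := φ.toAlgebra
    show Module.Flat (Y.presheaf.stalk (f.base x)) (X.presheaf.stalk x)
    rw [Module.Flat.flat_iff_torsion_eq_bot_of_isBezout, eq_bot_iff]
    intro z hz
    obtain ⟨⟨a, ha⟩, haz⟩ := hz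
    have haz' : φ a * z = 0 := haz
    have ha0 : a ≠ 0 := nonZeroDivisors.ne_zero ha
    rw [Submodule.mem_bot]
    by_contra hz0
    obtain ⟨P, hP, hle⟩ := exists_le_isAssociatedPrime_of_isNoetherianRing (X.presheaf.stalk x) z hz0
    have haP : φ a ∈ P := hle (Submodule.mem_colon_singleton.2 (by rw [Submodule.mem_bot]; exact haz'))
    haveI := hP.isPrime
    obtain ⟨_, ⟨V, hV, rfl⟩, hxV, -⟩ :=
      X.isBasis_affineOpens.exists_subset_of_mem_open (Set.mem_univ x) isOpen_univ
    replace hV : IsAffineOpen V := hV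
    haveI : IsNoetherianRing Γ(X, V) := IsLocallyNoetherian.component_noetherian ⟨V, hV⟩
    letI := X.presheaf.algebra_section_stalk ⟨x, hxV⟩
    haveI := hV.isLocalization_stalk ⟨x, hxV⟩
    haveI : IsLocalizedModule (hV.primeIdealOf ⟨x, hxV⟩).asIdeal.primeCompl
        (Algebra.linearMap Γ(X, V) (X.presheaf.stalk x)) :=
      (isLocalizedModule_iff_isLocalization' _ _).2 inferInstance
    have hpA : P.comap (algebraMap Γ(X, V) (X.presheaf.stalk x)) ∈ associatedPrimes Γ(X, V) Γ(X, V) :=
      Module.associatedPrimes.comap_mem_associatedPrimes_of_mem_associatedPrimes_of_isLocalizedModule_of_fg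
        (hV.primeIdealOf ⟨x, hxV⟩).asIdeal.primeCompl (Algebra.linearMap Γ(X, V) (X.presheaf.stalk x)) P hP
        (IsNoetherian.noetherian _)
    have hass := Groth.L19.Ass.fromSpec_mem_ass (Coh.structureModule X) hV
      (p := P.comap (algebraMap Γ(X, V) (X.presheaf.stalk x))) hpA
    have hfζ := H _ hass
    have hp : (Y.fromSpecStalk (f.base x)).base (PrimeSpectrum.comap φ ⟨P, hP.isPrime⟩) = genericPoint ↥Y := by
      refine Eq.trans ?_ hfζ
      refine (congrArg (fun (g : Spec (X.presheaf.stalk x) ⟶ Y) => g.base ⟨P, hP.isPrime⟩)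
        (Scheme.SpecMap_stalkMap_fromSpecStalk f (x := x))).trans ?_
      rw [← hV.fromSpecStalk_eq_fromSpecStalk hxV]
      rfl
    have hop : PrimeSpectrum.comap φ ⟨P, hP.isPrime⟩ = ⟨⊥, Ideal.isPrime_bot⟩ :=
      (Y.fromSpecStalk (f.base x)).isEmbedding.injective (hp.trans (hbot _).symm)
    have h5 : a ∈ (PrimeSpectrum.comap φ ⟨P, hP.isPrime⟩).asIdeal := haP
    rw [hop] at h5
    exact ha0 h5

end Groth.Agent.S10935
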