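import Groth.Statements.S10936
import Groth.Agent.L22.CotSmooth.Scheme
import Groth.Agent.L05.SmoothCrit.LocalModelScheme
-- import your own Groth.Agent.* helpers here

set_option autoImplicit false
universe u
open CategoryTheory CategoryTheory.Limits AlgebraicGeometry
open Variety

namespace Groth.Agent.S10936

/-- (a)⇔(c): let k be an algebraically closed field, X and Y nonsingular varieties over k (integral,
separated, of finite type and smooth over k) with dim Y = dY and dim X = dY + n, and f : X → Y a
k-morphism. Then f is smooth of relative dimension n if and only if for every closed point x of X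
the tangent map T_x f : T_x X → T_{f(x)} Y is surjective — equivalently, the cotangent map
m_{f(x)}/m_{f(x)}^2 → m_x/m_x^2 of the local rings is injective. -/
theorem result (k : Type u) [Field k] [IsAlgClosed k]
    {X Y : Scheme.{u}} (qX : X ⟶ Spec (CommRingCat.of k)) (qY : Y ⟶ Spec (CommRingCat.of k))
    [IsIntegral X] [IsSeparated qX] [LocallyOfFiniteType qX] [QuasiCompact qX] [Smooth qX]
    [IsIntegral Y] [IsSeparated qY] [LocallyOfFiniteType qY] [QuasiCompact qY] [Smooth qY]
    (f : X ⟶ Y) (hf : f ≫ qY = qX) (n dY : ℕ) (hY : topologicalKrullDim ↥Y = dY)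
    (hX : topologicalKrullDim ↥X = ((dY + n : ℕ) : WithBot ℕ∞)) :
    SmoothOfRelativeDimension n f ↔
      ∀ x : X, IsClosed ({x} : Set ↥X) → Function.Injective (FixPt.cotangentMapAt f x (f.base x) rfl) := by
  letI : X.Over (Spec (CommRingCat.of k)) := ⟨qX⟩
  letI : Y.Over (Spec (CommRingCat.of k)) := ⟨qY⟩
  haveI : LocallyOfFiniteType (X ↘ Spec (CommRingCat.of k)) := inferInstanceAs (LocallyOfFiniteType qX)
  haveI : IsLocallyNoetherian Y := LocallyOfFiniteType.isLocallyNoetherian qY
  haveI : LocallyOfFiniteType f := by
    haveI : LocallyOfFiniteType (f ≫ qY) := by rw [hf]; infer_instance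
    exact locallyOfFiniteType_of_comp f qY
  haveI : LocallyOfFinitePresentation f := Groth.L05.SmoothCrit.lfp_of_noetherian f
  have key : ∀ x : X, IsClosed ({x} : Set X) →
      (x ∈ f.smoothLocus ↔ Function.Injective (FixPt.cotangentMapAt f x (f.base x) rfl)) := by
    intro x hx
    rw [Scheme.Hom.mem_smoothLocus]
    let O := X.presheaf.stalk x
    let B := Y.presheaf.stalk (f x)
    letI aO : Algebra k O := (Groth.L07.SyntOverField.toStalk qX x).hom.toAlgebra
    letI aB : Algebra k B := (Groth.L07.SyntOverField.toStalk qY (f x)).hom.toAlgebra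
    letI aBO : Algebra B O := (f.stalkMap x).hom.toAlgebra
    haveI : Algebra.EssFiniteType k O := Groth.L07.SyntOverField.essFiniteType_stalk qX x
    haveI : Algebra.EssFiniteType k B := Groth.L07.SyntOverField.essFiniteType_stalk qY (f x)
    haveI : Algebra.FormallySmooth k O := Groth.L22.CotSmooth.formallySmooth_toStalk qX x
    haveI : IsLocalHom (algebraMap B O) := inferInstanceAs (IsLocalHom (f.stalkMap x).hom)
    have hsX : (Groth.L07.SyntOverField.toStalk qX x).hom = Curv2.stalkMap k X x := by
      rw [Groth.L07.SyntOverField.toStalk_eq qX x ⊤ trivial]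
      simp only [Scheme.Hom.appLE, Category.assoc, TopCat.Presheaf.germ_res]
      rfl
    have hsY : (Groth.L07.SyntOverField.toStalk qY (f x)).hom = Curv2.stalkMap k Y (f x) := by
      rw [Groth.L07.SyntOverField.toStalk_eq qY (f x) ⊤ trivial]
      simp only [Scheme.Hom.appLE, Category.assoc, TopCat.Presheaf.germ_res]
      rfl
    haveI : IsScalarTower k B O := IsScalarTower.of_algebraMap_eq' <| by
      show (Groth.L07.SyntOverField.toStalk qX x).hom =
        (f.stalkMap x).hom.comp (Groth.L07.SyntOverField.toStalk qY (f x)).hom
      rw [hsX, hsY]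
      have h1 : CommRingCat.ofHom (Curv2.stalkMap k Y (f x)) ≫ f.stalkMap x =
          CommRingCat.ofHom (Curv2.stalkMap k X x) := by
        apply Spec.map_injective
        rw [Spec.map_comp, Groth.L07.FieldStalk.SpecMap_stalkMap, Groth.L07.FieldStalk.SpecMap_stalkMap,
          Scheme.SpecMap_stalkMap_fromSpecStalk_assoc]
        show _ ≫ f ≫ qY = _ ≫ qX
        rw [hf]
      exact (congrArg CommRingCat.Hom.hom h1).symm
    have hO : Function.Bijective (algebraMap k (IsLocalRing.ResidueField O)) := by
      have h : Function.Bijective (Curv2.resMap k X x) := by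
        letI := Curv2.resAlgebra k X x
        haveI := Groth.L21.Disc.finite_residueField_of_isClosed k hx
        exact IsAlgClosed.algebraMap_bijective_of_isIntegral (k := k) (K := X.residueField x)
      have e : algebraMap k (IsLocalRing.ResidueField O) = Curv2.resMap k X x :=
        congrArg (fun φ => (IsLocalRing.residue O).comp φ) hsX
      rw [e]; exact h
    have hB : Function.Bijective (algebraMap k (IsLocalRing.ResidueField B)) := by
      refine ⟨(algebraMap k (IsLocalRing.ResidueField B)).injective, fun z => ?_⟩
      obtain ⟨t, ht⟩ := hO.2 (IsLocalRing.ResidueField.map (algebraMap B O) z)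
      refine ⟨t, (IsLocalRing.ResidueField.map (algebraMap B O)).injective ?_⟩
      rw [← ht]
      show IsLocalRing.residue O (algebraMap B O (algebraMap k B t)) = IsLocalRing.residue O (algebraMap k O t)
      rw [← IsScalarTower.algebraMap_apply k B O]
    have hid : FixPt.stalkMapAt f x (f x) rfl = (f.stalkMap x).hom := by
      simp [FixPt.stalkMapAt, TopCat.Presheaf.stalkCongr]
    refine Groth.L22.CotSmooth.formallySmooth_iff (k := k) (B := B) (O := O) hB hO _ fun b hb hb' => ?_
    rw [FixPt.cotangentMapAt, Ideal.mapCotangent_toCotangent]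
    congr 1
    exact Subtype.ext (RingHom.congr_fun hid b)
  constructor
  · intro h x hx
    haveI := h
    haveI : Smooth f := SmoothOfRelativeDimension.smooth n f
    exact (key x hx).1 (f.smoothLocus_eq_top.ge (Set.mem_univ x))
  · intro h
    haveI : JacobsonSpace X := LocallyOfFiniteType.jacobsonSpace qX
    have htop : f.smoothLocus = ⊤ := by
      by_contra hne
      obtain ⟨x, hx, hxc⟩ := nonempty_inter_closedPoints (Z := (f.smoothLocus : Set X)ᶜ)
        (Set.nonempty_compl.2 fun hu => hne (TopologicalSpace.Opens.ext hu))
        f.smoothLocus.2.isClosed_compl.isLocallyClosed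
      exact hx ((key x hxc).2 (h x hxc))
    haveI : Smooth f := Scheme.Hom.smoothLocus_eq_top_iff.1 htop
    exact Groth.L22.CotSmooth.smoothOfRelativeDimension_of_smooth qX qY f hf n dY hY hX


end Groth.Agent.S10936
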