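import Groth.Statements.S10937
import Groth.Agent.L05.ConormalRank.SmoothRank
-- import your own Groth.Agent.* helpers here

set_option autoImplicit false
universe u
open CategoryTheory CategoryTheory.Limits AlgebraicGeometry
open Variety

namespace Groth.Agent.S10937

/-- (a)⇔(b): let k be an algebraically closed field, X and Y nonsingular varieties over k (integral,
separated, of finite type and smooth over k) with dim Y = dY and dim X = dY + n, and f : X → Y a
k-morphism. Then f is smooth of relative dimension n if and only if Ω_{X/Y} (the conormal sheaf of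
the diagonal of f) is locally free of rank n. -/
theorem result (k : Type u) [Field k] [IsAlgClosed k]
    {X Y : Scheme.{u}} (qX : X ⟶ Spec (CommRingCat.of k)) (qY : Y ⟶ Spec (CommRingCat.of k))
    [IsIntegral X] [IsSeparated qX] [LocallyOfFiniteType qX] [QuasiCompact qX] [Smooth qX]
    [IsIntegral Y] [IsSeparated qY] [LocallyOfFiniteType qY] [QuasiCompact qY] [Smooth qY]
    (f : X ⟶ Y) (hf : f ≫ qY = qX) (n dY : ℕ) (hY : topologicalKrullDim ↥Y = dY)
    (hX : topologicalKrullDim ↥X = ((dY + n : ℕ) : WithBot ℕ∞)) :
    SmoothOfRelativeDimension n f ↔ FlatMod.IsFinLocFreeOfRank n (Omega.sheaf f) := by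
  subst hf
  haveI : IsLocallyNoetherian Y := LocallyOfFiniteType.isLocallyNoetherian qY
  haveI : LocallyOfFiniteType f := locallyOfFiniteType_of_comp f qY
  haveI : LocallyOfFinitePresentation f := Groth.L05.SmoothCrit.lfp_of_noetherian f
  haveI : IsSeparated f := IsSeparated.of_comp f qY
  have hd : _root_.OmegaSh.IsUniversal (_root_.OmegaSh.dOmega f) := Groth.L19.OmegaSh.isUniversal_dOmega
  constructor
  · intro h x
    haveI := h
    haveI : Smooth f := SmoothOfRelativeDimension.smooth n f
    obtain ⟨U, m, hxU, hi, hm⟩ := Groth.L05.OmegaRank.exists_free_of_mem_smoothLocus hd x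
      (f.smoothLocus_eq_top.ge (Set.mem_univ x))
    rw [Groth.L20.SmoothDim.main n f x] at hm
    obtain rfl : n = m := by exact_mod_cast hm
    exact ⟨U, hxU, hi⟩
  · intro hr
    have hY' : _root_.OmegaSh.IsUniversal (_root_.OmegaSh.dOmega qY) := Groth.L19.OmegaSh.isUniversal_dOmega
    have hX' : _root_.OmegaSh.IsUniversal (_root_.OmegaSh.dOmega (f ≫ qY)) := Groth.L19.OmegaSh.isUniversal_dOmega
    exact Groth.L05.ConormalRank.smoothOfRelativeDimension_of_rank f qY (f ≫ qY) rfl hY'
      ((Groth.L05.OmegaRank.finLocFreeOfRank_iff_regular qY hY hY').mpr fun y => Groth.L21.Smooth.regular_stalk qY y)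
      hX' ((Groth.L05.OmegaRank.finLocFreeOfRank_iff_regular (f ≫ qY) hX hX').mpr
        fun x => Groth.L21.Smooth.regular_stalk (f ≫ qY) x) hd hr

end Groth.Agent.S10937
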