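import Groth.Statements.S10938
import Groth.Agent.L22.Sard.Image
-- import your own Groth.Agent.* helpers here

set_option autoImplicit false
universe u
open CategoryTheory CategoryTheory.Limits AlgebraicGeometry
open Variety

namespace Groth.Agent.S10938

/-- Let k be an algebraically closed field of characteristic zero, X and Y schemes of finite type over
k, f : X → Y a k-morphism and r a natural number. Let X_r be the set of closed points x of X such
that the tangent map T_x f : T_x X → T_{f(x)} Y has rank at most r — equivalently, the image of the
cotangent map m_{f(x)}/m_{f(x)}^2 → m_x/m_x^2 is contained in the span of at most r vectors over the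
residue field. Then the closure of f(X_r) in Y has (topological Krull) dimension at most r. -/
theorem result (k : Type u) [Field k] [IsAlgClosed k] [CharZero k]
    {X Y : Scheme.{u}} (qX : X ⟶ Spec (CommRingCat.of k)) (qY : Y ⟶ Spec (CommRingCat.of k))
    [LocallyOfFiniteType qX] [QuasiCompact qX] [LocallyOfFiniteType qY] [QuasiCompact qY]
    (f : X ⟶ Y) (hf : f ≫ qY = qX) (r : ℕ) :
    topologicalKrullDim ↥(closure (f.base '' {x : ↥X | IsClosed ({x} : Set ↥X) ∧
      ∃ S : Finset (IsLocalRing.CotangentSpace (X.presheaf.stalk x)), S.card ≤ r ∧
        (LinearMap.range (FixPt.cotangentMapAt f x (f.base x) rfl) : Set (IsLocalRing.CotangentSpace (X.presheaf.stalk x))) ⊆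
          (Submodule.span (IsLocalRing.ResidueField (X.presheaf.stalk x))
            (S : Set (IsLocalRing.CotangentSpace (X.presheaf.stalk x))) : Set (IsLocalRing.CotangentSpace (X.presheaf.stalk x)))})) ≤ r := by
  exact Groth.L22.Sard.dim_closure_image_le k qX qY f hf r


end Groth.Agent.S10938
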