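import Groth.Statements.S1094
import Groth.Agent.L29.BC.RelPerfPush

set_option autoImplicit false
set_option backward.isDefEq.respectTransparency false
universe u
open CategoryTheory CategoryTheory.Limits AlgebraicGeometry Opposite
attribute [local instance] HasDerivedCategory.standard
open Perf

namespace Groth.Agent.S1094

/-- Let f : X ⟶ S be flat, proper and of finite presentation and E ∈ D(O_X) perfect relative to S, i.e.
pseudo-coherent and locally on X of finite tor dimension as a complex of f⁻¹O_S-modules (represented
locally by bounded complexes of S-flat O_X-modules). Assuming Rf_* exists, Rf_*E is a perfect object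
of D(O_S). (The source adds compatibility with base change.) -/
theorem result {X S : Scheme.{u}} (f : X ⟶ S) [Flat f] [IsProper f] [LocallyOfFinitePresentation f]
    [DCoh.HasRpush f] (E : DCoh.D X) (hpc : ∀ m : ℤ, DCoh.IsPseudoCoherentD m E) (htor : DCoh.LocHasFiniteRelTorDim f E) :
    DCoh.IsPerfect ((DCoh.Rpush f).obj E) := by
  exact Groth.L29.BC.isPerfect_Rpush' f hpc htor

end Groth.Agent.S1094
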