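import Groth.Statements.S10940
import Groth.Agent.L22.HypCover
-- import your own Groth.Agent.* helpers here

set_option autoImplicit false
universe u
open CategoryTheory CategoryTheory.Limits AlgebraicGeometry
open Variety

namespace Groth.Agent.S10940

/-- Let k be a field and X a quasi-projective variety over k of dimension r: an integral scheme with an
immersion j : X → P^n_k. Then X admits a cover by r + 1 affine open subschemes. (Consequently the
cohomology of every quasi-coherent O_X-module vanishes above degree r; that consequence is the
general vanishing above the number of affines in a cover and is not restated here. The published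
statement is for varieties over an algebraically closed field; the argument, r + 1 hypersurfaces
through the boundary of the closure of X, works over any field, so k is an arbitrary field here.) -/
theorem result (k : Type u) [Field k] (n r : ℕ)
    {X : Scheme.{u}} (j : X ⟶ CohB1.ProjSpace n k) [IsImmersion j] [IsIntegral X]
    (hX : topologicalKrullDim ↥X = r) :
    ∃ U : Fin (r + 1) → X.Opens, (∀ i, IsAffineOpen (U i)) ∧ ⨆ i, U i = ⊤ := by
  classical
  have hlc : IsLocallyClosed (Set.range j.base) := j.isLocallyClosed_range
  let Y : Set (CohB1.ProjSpace n k) := closure (Set.range j.base) \ Set.range j.base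
  have hY : IsClosed Y := by
    have h := (isLocallyClosed_iff_isOpen_coborder.1 hlc).isClosed_compl
    rwa [coborder, compl_compl] at h
  obtain ⟨h, hd, hYh, hcov⟩ := Groth.L22.HypCover.exists_cover hY (r + 1) (closure (Set.range j.base))
    isClosed_closure fun x hx hxY => by
      have hxr : x ∈ Set.range j.base := not_not.1 fun hn => hxY ⟨hx, hn⟩
      obtain ⟨z, rfl⟩ := hxr
      haveI : QuasiSober X := inferInstance
      have hsub : closure ({j.base z} : Set (CohB1.ProjSpace n k)) ⊆ closure (Set.range j.base) :=
        closure_mono (Set.singleton_subset_iff.2 ⟨z, rfl⟩)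
      refine lt_of_le_of_lt (le_trans (Topology.IsEmbedding.inclusion hsub).isInducing.topologicalKrullDim_le
        (le_of_eq (Groth.L22.HypCover.dim_closure_range n j hX))) ?_
      exact_mod_cast Nat.lt_succ_self r
  refine ⟨fun i => j ⁻¹ᵁ Groth.L22.HypCover.Dh (h i), fun i => ?_, top_le_iff.1 fun z _ => ?_⟩
  · obtain ⟨d, hd0, hh⟩ := hd i
    let D := Groth.L22.HypCover.Dh (h i)
    have hD : IsAffineOpen D := Proj.isAffineOpen_basicOpen (CohB1.polyGrading n k) (h i) hh hd0
    haveI : IsClosedImmersion (j ∣_ D) := by
      refine IsClosedImmersion.of_isPreimmersion _ ?_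
      have : Set.range (j ∣_ D).base = D.ι.base ⁻¹' closure (Set.range j.base) := by
        ext ⟨w, hw⟩
        constructor
        · rintro ⟨z, hz⟩
          refine subset_closure ⟨(j ⁻¹ᵁ D).ι.base z, ?_⟩
          exact (morphismRestrict_base_coe j D z).symm.trans (congrArg Subtype.val hz)
        · intro hwc
          obtain ⟨z, hz⟩ : w ∈ Set.range j.base := not_not.1 fun hn => hYh i ⟨hwc, hn⟩ hw
          exact ⟨⟨z, show j.base z ∈ D from hz.symm ▸ hw⟩, Subtype.ext ((morphismRestrict_base_coe j D _).trans hz)⟩
      rw [this]
      exact isClosed_closure.preimage D.ι.continuous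
    haveI : IsAffine D.toScheme := hD
    exact (isAffine_of_isAffineHom (j ∣_ D) :)
  · obtain ⟨i, hi⟩ := Set.mem_iUnion.1 (hcov ⟨subset_closure ⟨z, rfl⟩, fun hz => hz.2 ⟨z, rfl⟩⟩)
    exact TopologicalSpace.Opens.mem_iSup.2 ⟨i, hi⟩

end Groth.Agent.S10940
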