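import Groth.Statements.S10942
import Groth.Agent.L29.DCoh.ExtZero
import Groth.Agent.L29.DCoh.TensorPerfect
import Groth.Agent.L00.KFlatBasic
import Groth.Agent.L16.ProjSpace.Twist
set_option linter.style.haveILetI false
set_option backward.isDefEq.respectTransparency false
set_option backward.isDefEq.respectTransparency.types false

set_option autoImplicit false
universe u
open CategoryTheory CategoryTheory.Limits AlgebraicGeometry Opposite
open Coherent

namespace Groth.Agent.S10942

/-- Let X be a scheme, F an O_X-module for which the internal Hom functor Hom(F, -) exists (as the right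
adjoint of F ⊗ -; always true) and I an injective object of the category of O_X-modules. Then the
O_X-module Hom(F, I) is flasque: for all opens U ⊆ V of X the restriction map Hom(F, I)(V) → Hom(F,
I)(U) is surjective. -/
theorem result (X : Scheme.{u}) (F I : X.Modules)
    [DCoh.HasSheafHom F] (hI : Injective I) (U V : X.Opens) (hUV : U ≤ V) :
    Function.Surjective (((DCoh.sheafHom F).obj I).val.map (homOfLE hUV).op).hom := by
  suffices key : ∀ s : Γ((DCoh.sheafHom F).obj I, U),
      ∃ t : Γ((DCoh.sheafHom F).obj I, ⊤), ((DCoh.sheafHom F).obj I).presheaf.map (homOfLE le_top).op t = s by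
    intro s
    obtain ⟨t, ht⟩ := key s
    refine ⟨((DCoh.sheafHom F).obj I).presheaf.map (homOfLE (le_top : V ≤ ⊤)).op t, ?_⟩
    refine Eq.trans ?_ ht
    exact (ConcreteCategory.congr_hom (((DCoh.sheafHom F).obj I).presheaf.map_comp (homOfLE le_top).op (homOfLE hUV).op) t).symm
  intro s
  let G := (DCoh.sheafHom F).obj I
  let adj := CxOX.extZeroAdj U.ι
  let r := DCoh.sheafHomAdj F
  let e : (Coh.structureModule X).restrict U.ι ≅ Coh.structureModule (U : Scheme.{u}) :=
    Scheme.Modules.restrictUnitIso U.ι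
  let c : CxOX.extZeroUnit U.ι ⟶ Coh.structureModule X := (adj.homEquiv _ _).symm e.inv
  haveI : IsIso ((Groth.L29.DC.ExtZero.res U.ι).map c) := by
    have h : adj.unit.app _ ≫ (Groth.L29.DC.ExtZero.res U.ι).map c = e.inv :=
      (adj.homEquiv_unit (f := c)).symm.trans ((adj.homEquiv _ _).apply_symm_apply _)
    haveI : IsIso adj.unit := Groth.L29.DC.ExtZero.isIso_unit U.ι
    exact (isIso_comp_left_iff (adj.unit.app _) _).1 (h ▸ inferInstance)
  let m := Groth.L00.Tensor.tensorMap (𝟙 F) c
  haveI : IsIso ((Groth.L29.DC.ExtZero.res U.ι).map m) := by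
    have h := Groth.L29.DC.tensorRestrict_natural U.ι (𝟙 F) c
    haveI : IsIso (Groth.L00.Tensor.tensorMap ((Scheme.Modules.restrictFunctor U.ι).map (𝟙 F))
        ((Scheme.Modules.restrictFunctor U.ι).map c)) := by
      have := (Groth.L00.Tensor.tensorIso (Iso.refl ((Scheme.Modules.restrictFunctor U.ι).obj F))
        (asIso ((Scheme.Modules.restrictFunctor U.ι).map c))).isIso_hom
      rw [CategoryTheory.Functor.map_id]
      exact this
    exact (isIso_comp_left_iff (Groth.L00.Tensor.tensorRestrict U.ι _ _).hom _).1 (h ▸ inferInstance)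
  haveI : Mono m := Preadditive.mono_of_isZero_kernel m <| Groth.L29.DC.ExtZero.isZero_of U.ι _
    ((isZero_kernel_of_mono ((Groth.L29.DC.ExtZero.res U.ι).map m)).of_iso
      (PreservesKernel.iso (Groth.L29.DC.ExtZero.res U.ι) m))
    fun x hx => by
      refine IsZero.of_mono ((Groth.L00.Stk.F X x).map (kernel.ι m)) ?_
      refine IsZero.of_iso ?_ (Groth.L00.Stk.τ x F (CxOX.extZeroUnit U.ι)).symm
      haveI : Subsingleton (Groth.L00.StalkTensor.St (Groth.L00.Tensor.pre (CxOX.extZeroUnit U.ι)) x) :=
        ModuleCat.subsingleton_of_isZero (Groth.L29.DC.ExtZero.isZero_stalk U.ι hx _)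
      haveI : Subsingleton (TensorProduct (Groth.L00.StalkTensor.Ox X x)
          (Groth.L00.StalkTensor.St (Groth.L00.Tensor.pre F) x)
          (Groth.L00.StalkTensor.St (Groth.L00.Tensor.pre (CxOX.extZeroUnit U.ι)) x)) := by
        refine subsingleton_of_forall_eq 0 fun z => ?_
        induction z with
        | zero => rfl
        | tmul a b => rw [Subsingleton.elim b 0, TensorProduct.tmul_zero]
        | add a b ha hb => rw [ha, hb, add_zero]
      exact ModuleCat.isZero_of_subsingleton _
  have hm : ((DCoh.tensorBi (X := X)).obj F).map c = m := by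
    refine congrArg (Groth.L00.Tensor.shf X).map ?_
    rw [CategoryTheory.Functor.map_id]
    exact (MonoidalCategory.id_tensorHom _ _).symm
  haveI : Mono (((DCoh.tensorBi (X := X)).obj F).map c) := by rw [hm]; assumption
  let s' : Γ(G, U.ι ''ᵁ ⊤) := G.presheaf.map (homOfLE U.ι_image_top.le).op s
  let φ : CxOX.extZeroUnit U.ι ⟶ G := (adj.homEquiv _ G).symm (Groth.L16.homOfSection (G.restrict U.ι) s')
  haveI := hI
  let b := Injective.factorThru ((r.homEquiv _ _).symm φ) (((DCoh.tensorBi (X := X)).obj F).map c)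
  let ψ : Coh.structureModule X ⟶ G := r.homEquiv _ _ b
  have h1 : c ≫ ψ = φ := by
    rw [← Adjunction.homEquiv_naturality_left, Injective.comp_factorThru, Equiv.apply_symm_apply]
  have h2 : e.inv ≫ (Groth.L29.DC.ExtZero.res U.ι).map ψ = Groth.L16.homOfSection (G.restrict U.ι) s' := by
    have := congrArg (adj.homEquiv _ G) h1
    rw [Adjunction.homEquiv_naturality_right, Equiv.apply_symm_apply, Equiv.apply_symm_apply] at this
    exact this
  refine ⟨ψ.app ⊤ (1 : Γ(X, ⊤)), ?_⟩
  have h3 : ψ.app (U.ι ''ᵁ ⊤) (1 : Γ(X, U.ι ''ᵁ ⊤)) = s' := by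
    have h := congrArg (fun k : Coh.structureModule (U : Scheme.{u}) ⟶ G.restrict U.ι =>
      k.app ⊤ (1 : Γ((U : Scheme.{u}), ⊤))) h2
    have e1 : (Groth.L16.homOfSection (G.restrict U.ι) s').app ⊤ (1 : Γ((U : Scheme.{u}), ⊤)) = s' := by
      rw [Groth.L16.homOfSection_app, one_smul]
      exact congrArg (fun f => (ConcreteCategory.hom f) s') ((G.restrict U.ι).presheaf.map_id _)
    have e2 : e.inv.app ⊤ (@OfNat.ofNat Γ((U : Scheme.{u}), ⊤) 1 _) = @OfNat.ofNat Γ(X, U.ι ''ᵁ ⊤) 1 _ := map_one (U.ι.appIso ⊤).inv.hom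
    exact (congrArg (ψ.app (U.ι ''ᵁ ⊤)) e2.symm).trans (h.trans e1)
  have hinj : Function.Injective (G.presheaf.map (homOfLE U.ι_image_top.le).op) := by
    intro a b hab
    have := congrArg (G.presheaf.map (homOfLE U.ι_image_top.ge).op) hab
    rw [← ConcreteCategory.comp_apply, ← ConcreteCategory.comp_apply, ← Functor.map_comp] at this
    exact ((congrArg (fun f => (ConcreteCategory.hom f) a) (G.presheaf.map_id _)).symm.trans this).trans
      (congrArg (fun f => (ConcreteCategory.hom f) b) (G.presheaf.map_id _))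
  apply hinj
  have hn := ConcreteCategory.congr_hom (ψ.mapPresheaf.naturality (homOfLE (le_top : U.ι ''ᵁ ⊤ ≤ ⊤)).op) (1 : Γ(X, ⊤))
  refine Eq.trans (ConcreteCategory.congr_hom
    (G.presheaf.map_comp (homOfLE le_top).op (homOfLE U.ι_image_top.le).op) (ψ.app ⊤ (1 : Γ(X, ⊤)))).symm ?_
  refine Eq.trans hn.symm ?_
  exact (congrArg (ψ.app (U.ι ''ᵁ ⊤)) (map_one (X.presheaf.map (homOfLE le_top).op).hom)).trans h3

end Groth.Agent.S10942
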