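import Groth.Statements.S10944
import Groth.Agent.L20.FlatGeneric

set_option autoImplicit false
universe u
open CategoryTheory AlgebraicGeometry
open FlatMor

namespace Groth.Agent.S10944

/-- Let f : X → Y be a flat morphism of Noetherian schemes and Y' an irreducible component of Y. Then
f⁻¹(Y') is the union of the irreducible components Z of X with f(Z) ⊆ Y'. -/
theorem result {X Y : Scheme.{u}}
    [IsNoetherian X] [IsNoetherian Y] (f : X ⟶ Y) [Flat f]
    (Y' : Set ↥Y) (hY' : Y' ∈ irreducibleComponents ↥Y) :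
    f.base ⁻¹' Y' = ⋃₀ {Z : Set ↥X | Z ∈ irreducibleComponents ↥X ∧ f.base '' Z ⊆ Y'} := by
  ext x
  simp only [Set.mem_preimage, Set.mem_sUnion, Set.mem_setOf_eq]
  constructor
  · intro hx
    let η := genericPoints.ofComponent ⟨Y', hY'⟩
    have hη := genericPoints.isGenericPoint_ofComponent (⟨Y', hY'⟩ : irreducibleComponents Y)
    obtain ⟨x₁, hx₁, he⟩ := Flat.generalizingMap f (hη.specializes hx)
    obtain ⟨ξ, hξ, hξx⟩ := Groth.L20.exists_genericPoint_specializes x₁
    have hfξ : f ξ ⤳ η.1 := he ▸ hξx.map f.continuous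
    have heq : f ξ = η.1 := (Groth.L20.mem_genericPoints_iff _).mp η.2 _ hfξ
    refine ⟨closure {ξ}, ⟨hξ, ?_⟩, (hξx.trans hx₁).mem_closure⟩
    rintro _ ⟨z, hz, rfl⟩
    refine (hη.specializes_iff_mem).mp ?_
    rw [← heq]
    exact ((specializes_iff_mem_closure).mpr hz).map f.continuous
  · rintro ⟨Z, ⟨-, hZ⟩, hx⟩
    exact hZ ⟨x, hx, rfl⟩

end Groth.Agent.S10944
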