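import Groth.Statements.S1095
import Groth.Agent.L29.DCoh.Gen.KoszulRange

set_option autoImplicit false
set_option backward.isDefEq.respectTransparency false
universe u
open CategoryTheory CategoryTheory.Limits AlgebraicGeometry Opposite
attribute [local instance] HasDerivedCategory.standard
open Perf

namespace Groth.Agent.S1095

/-- Let A be a ring, f₁, …, f_r ∈ A, X = Spec A, j : U ⟶ X the inclusion of the complement of V(f₁, …,
f_r), K the object of D(O_X) attached to the Koszul complex on f₁, …, f_r (in degrees −r, …, 0), E ∈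
D(O_X) with quasi-coherent cohomology sheaves and a ∈ ℤ. The restriction j^* and Rj_* are assumed to
exist, with an adjunction j^* ⊣ Rj_* given as data whose unit is the canonical map E ⟶ Rj_*(E|_U).
Then: if every morphism K[−n] ⟶ E with n ≤ a vanishes, τ_{≤a−1} of the unit at E is an isomorphism;
and if τ_{≤a−1} of the unit at E is an isomorphism, every morphism K[−n] ⟶ E with n ≤ a − 1
vanishes. (The published statement has τ_{≤a} in both clauses. With that index the first implication
is false, e.g. for A = ℤ, r = 1, f₁ = 2, E = O_X, a = 0: every K[−n] ⟶ E with n ≤ 0 vanishes, but H⁰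
of the unit is ℤ ⟶ ℤ[1/2]; the index a − 1 used here is the correct one. The second clause thereby
becomes slightly stronger than published (same conclusion from the weaker hypothesis at index a −
1); both clauses as stated here are sharp.) -/
theorem result (A : Type u) [CommRing A] (fs : List A) [PreservesFiniteLimits (tilde.functor (CommRingCat.of A))]
    [PreservesFiniteLimits (Scheme.Modules.restrictFunctor (LocCoh.puncturedOpen A (Ideal.span {a | a ∈ fs})).ι)] [DCoh.HasRpush (LocCoh.puncturedOpen A (Ideal.span {a | a ∈ fs})).ι]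
    (adj : DCoh.restrictD (LocCoh.puncturedOpen A (Ideal.span {a | a ∈ fs})).ι ⊣ DCoh.Rpush (LocCoh.puncturedOpen A (Ideal.span {a | a ∈ fs})).ι)
    (E : DCoh.D (Spec (CommRingCat.of A))) (hE : DCoh.IsQCohD E) (a : ℤ) :
    ((∀ n : ℤ, n ≤ a → ∀ φ : ((DCoh.tildeD (CommRingCat.of A)).obj (DerivedCategory.Q.obj (Koszul.koszul A fs)))⟦-n⟧ ⟶ E, φ = 0) →
      IsIso (((DerivedCategory.TStructure.t : CategoryTheory.Triangulated.TStructure (DCoh.D (Spec (CommRingCat.of A)))).truncLE (a - 1)).map (adj.unit.app E))) ∧
    (IsIso (((DerivedCategory.TStructure.t : CategoryTheory.Triangulated.TStructure (DCoh.D (Spec (CommRingCat.of A)))).truncLE (a - 1)).map (adj.unit.app E)) →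
      ∀ n : ℤ, n ≤ a - 1 → ∀ φ : ((DCoh.tildeD (CommRingCat.of A)).obj (DerivedCategory.Q.obj (Koszul.koszul A fs)))⟦-n⟧ ⟶ E, φ = 0) := by
  obtain ⟨E₀, L₀, F₀, p, g, d, hT, hF, hL, hK, hH⟩ := Groth.L29.DC.Gen.exists_model fs adj hE
  rw [Groth.L29.DC.Gen.isIso_truncLE_map_iff]
  refine ⟨fun h i hi => (hH i).2 ?_, fun h n hn => (hK n).2 ?_⟩
  · exact Groth.L29.DC.Gen.isIso_of_orth g hT fs hL hF (fun n => n ≤ a) (fun n hn => (hK n).1 (h n hn)) i
      (by omega) (by omega)
  · exact Groth.L29.DC.Gen.orth_of_isIso_le g hT fs hL (a - 1) (fun i hi => (hH i).1 (h i hi)) n hn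

end Groth.Agent.S1095
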