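import Groth.Statements.S10953
import Mathlib.AlgebraicGeometry.Morphisms.Immersion
import Mathlib.AlgebraicGeometry.Morphisms.Separated
-- import your own Groth.Agent.* helpers here

set_option autoImplicit false
universe u
open RedSep

namespace Groth.Agent.S10953

open AlgebraicGeometry CategoryTheory in
/-- For a morphism of schemes f : X → S to an affine scheme S such that any two points of X with the
same image in S lie in one common affine open subset of X, the morphism f is separated. -/
theorem result {X S : Scheme.{u}} [IsAffine S] (f : X ⟶ S)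
    (h : ∀ x y : X, f x = f y → ∃ U : X.Opens, IsAffineOpen U ∧ x ∈ U ∧ y ∈ U) :
    IsSeparated f := by
  refine ⟨IsClosedImmersion.of_isPreimmersion _ ?_⟩
  rw [← isOpen_compl_iff, isOpen_iff_forall_mem_open]
  intro z hz
  obtain ⟨U, hU, hx, hy⟩ := h (Limits.pullback.fst f f z) (Limits.pullback.snd f f z) (by
    rw [← Scheme.Hom.comp_apply, Limits.pullback.condition, Scheme.Hom.comp_apply])
  haveI : IsAffine (U : Scheme.{u}) := hU
  let e := Limits.pullback.map (U.ι ≫ f) (U.ι ≫ f) f f U.ι U.ι (𝟙 S) (by simp) (by simp)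
  haveI : IsOpenImmersion e := inferInstance
  obtain ⟨w, hw⟩ : z ∈ Set.range e := by
    rw [Scheme.Pullback.range_map]
    exact ⟨by simpa using hx, by simpa using hy⟩
  have hd : Limits.pullback.diagonal (U.ι ≫ f) ≫ e = U.ι ≫ Limits.pullback.diagonal f := by
    apply Limits.pullback.hom_ext <;> simp only [e, Category.assoc, Limits.pullback.diagonal_fst, Limits.pullback.diagonal_snd, Category.comp_id, Limits.pullback.lift_fst, Limits.pullback.lift_snd, Limits.pullback.map] <;> simp
  have hc : IsClosed (Set.range (Limits.pullback.diagonal (U.ι ≫ f))) :=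
    (Limits.pullback.diagonal (U.ι ≫ f)).isClosedEmbedding.isClosed_range
  refine ⟨e '' (Set.range (Limits.pullback.diagonal (U.ι ≫ f)))ᶜ, ?_,
    e.isOpenEmbedding.isOpenMap _ hc.isOpen_compl, w, ?_, hw⟩
  · rintro _ ⟨v, hv, rfl⟩ ⟨x, hx⟩
    have hxU : x ∈ U := by
      have := congrArg (Limits.pullback.fst f f) hx
      rw [← Scheme.Hom.comp_apply, Limits.pullback.diagonal_fst, ← Scheme.Hom.comp_apply,
        Limits.pullback.lift_fst, Scheme.Hom.comp_apply] at this
      change x = _ at this
      rw [this]
      exact ((Limits.pullback.fst (U.ι ≫ f) (U.ι ≫ f)) v).2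
    exact hv ⟨⟨x, hxU⟩, e.isOpenEmbedding.injective (by
      rw [← Scheme.Hom.comp_apply, hd, Scheme.Hom.comp_apply]; exact hx)⟩
  · rintro ⟨x, rfl⟩
    exact hz ⟨U.ι x, by rw [← Scheme.Hom.comp_apply, ← hd, Scheme.Hom.comp_apply, hw]⟩

end Groth.Agent.S10953
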