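import Groth.Statements.S10954
import Groth.Agent.L17.SerreCriterion

set_option autoImplicit false
universe u
open Coherent

namespace Groth.Agent.S10954

open AlgebraicGeometry CategoryTheory CategoryTheory.Limits Opposite in
/-- Let X be a quasi-compact scheme such that, for every short exact sequence 0 → F' → F → F'' → 0 of
quasi-coherent O_X-modules whose first term F' admits a monomorphism into a finite direct sum of
copies of O_X, taking global sections gives a surjection F(X) → F''(X). Then X is affine. (The
published statement is an equivalence of three conditions on a quasi-compact scheme; this row states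
the implication from exactness of global sections on such sequences to affineness.) -/
theorem result (X : Scheme.{u}) [CompactSpace X]
    (h : ∀ (S : ShortComplex X.Modules) (n : ℕ)
      (j : S.X₁ ⟶ ∏ᶜ (fun _ : Fin n => Coh.structureModule X)),
      S.ShortExact → Mono j → Coh.IsQCoh S.X₁ → Coh.IsQCoh S.X₂ → Coh.IsQCoh S.X₃ →
        Function.Surjective (S.g.val.app (op ⊤)).hom) :
    IsAffine X := by
  haveI := Groth.L19.Conormal.isQCoh_structureModule X
  refine Groth.L17.Serre.isAffine_of_surjective (fun T i hi => ?_) (fun n φ hφ => ?_)
  · haveI := hi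
    haveI := Groth.L19.Conormal.isQCoh_structureModule T
    haveI : Coh.IsQCoh ((Coh.push i).obj (Coh.structureModule T)) := Groth.L16.QcqsPush.isQCoh_push _ i
    haveI : Epi (Groth.L17.Serre.toPushUnit i) := Groth.L17.Serre.epi_of_locally_surjective _ fun U x hx t => by
      obtain ⟨_, ⟨V, hV, rfl⟩, hxV, hVU⟩ :=
        X.isBasis_affineOpens.exists_subset_of_mem_open (show x ∈ (U : Set X) from hx) U.2
      obtain ⟨s, hs⟩ := i.app_surjective V hV
        ((show Γ(T, i ⁻¹ᵁ V) from ((Coh.push i).obj (Coh.structureModule T)).presheaf.map (homOfLE hVU).op t))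
      exact ⟨V, hVU, hxV, s, hs⟩
    let S : ShortComplex X.Modules := ShortComplex.mk (kernel.ι (Groth.L17.Serre.toPushUnit i))
      (Groth.L17.Serre.toPushUnit i) (kernel.condition _)
    have hS : S.ShortExact := { exact := ShortComplex.exact_kernel _ }
    exact fun y => h S 1 (kernel.ι (Groth.L17.Serre.toPushUnit i) ≫ Pi.lift fun _ => 𝟙 _) hS
      (haveI : Mono (Pi.lift fun _ : Fin 1 => 𝟙 (Coh.structureModule X)) :=
        ⟨fun a b hab => by simpa using congrArg (· ≫ Pi.π _ 0) hab⟩
       mono_comp _ _)
      (Groth.L20.Strat.isQCoh_kernel _) inferInstance inferInstance y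
  · haveI := hφ
    haveI := Groth.L17.Serre.isQCoh_pi (X := X) n
    let S : ShortComplex X.Modules := ShortComplex.mk (kernel.ι φ) φ (kernel.condition _)
    have hS : S.ShortExact := { exact := ShortComplex.exact_kernel _ }
    exact h S n (kernel.ι φ) hS inferInstance (Groth.L20.Strat.isQCoh_kernel _) inferInstance inferInstance

end Groth.Agent.S10954
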