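import Groth.Statements.S10955
import Groth.Agent.L05.Kaehler.Tower
import Mathlib.RingTheory.RingHom.EssFiniteType
import Mathlib.RingTheory.Etale.Basic
import Mathlib.RingTheory.Kaehler.Basic

set_option autoImplicit false
universe u
open scoped TensorProduct
open Unram

namespace Groth.Agent.S10955

/-- Let A → B → C be ring homomorphisms with B and C finitely presented over A, let q be a prime ideal
of C and p its inverse image in B, and assume that C is smooth over A at q and that B is smooth over
A at p. Then C is smooth over B at q if and only if the map obtained from the canonical map C ⊗_B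
Ω_{B/A} → Ω_{C/A} by tensoring over C with the residue field k(q) is injective. -/
theorem result (A B C : Type u) [CommRing A] [CommRing B]
    [CommRing C] [Algebra A B] [Algebra B C] [Algebra A C] [IsScalarTower A B C]
    [Algebra.FinitePresentation A B] [Algebra.FinitePresentation A C] (q : Ideal C) [q.IsPrime]
    (hC : Algebra.IsSmoothAt A q) (hB : Algebra.IsSmoothAt A (q.under B)) :
    Algebra.IsSmoothAt B q ↔
      Function.Injective ((KaehlerDifferential.mapBaseChange A B C).lTensor q.ResidueField) := by
  let Cq := Localization.AtPrime q
  let K := q.ResidueField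
  haveI : Algebra.FormallySmooth A Cq := hC
  haveI : Algebra.FormallyEtale C Cq := Algebra.FormallyEtale.of_isLocalization q.primeCompl
  haveI : Algebra.EssFiniteType C Cq := Algebra.EssFiniteType.of_isLocalization Cq q.primeCompl
  haveI : Algebra.EssFiniteType A Cq := Algebra.EssFiniteType.comp A C Cq
  haveI : Module.Finite Cq (Cq ⊗[B] KaehlerDifferential A B) := Module.Finite.base_change B Cq _
  haveI : Module.Free Cq (KaehlerDifferential A Cq) := Module.free_of_flat_of_isLocalRing
  let eM : K ⊗[C] (C ⊗[B] KaehlerDifferential A B) ≃ₗ[K] K ⊗[Cq] (Cq ⊗[B] KaehlerDifferential A B) :=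
    TensorProduct.AlgebraTensorModule.cancelBaseChange B C K K (KaehlerDifferential A B) ≪≫ₗ
      (TensorProduct.AlgebraTensorModule.cancelBaseChange B Cq K K (KaehlerDifferential A B)).symm
  let eN : K ⊗[C] KaehlerDifferential A C ≃ₗ[K] K ⊗[Cq] KaehlerDifferential A Cq :=
    (TensorProduct.AlgebraTensorModule.cancelBaseChange C Cq K K (KaehlerDifferential A C)).symm ≪≫ₗ
      TensorProduct.AlgebraTensorModule.congr (LinearEquiv.refl K K)
        (KaehlerDifferential.tensorKaehlerEquivOfFormallyEtale A C Cq)
  have hsq : ∀ z, eN ((KaehlerDifferential.mapBaseChange A B C).lTensor K z) =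
      (KaehlerDifferential.mapBaseChange A B Cq).lTensor K (eM z) := by
    intro z
    induction z with
    | zero => simp
    | add a b ha hb => simp [ha, hb]
    | tmul k t =>
      induction t with
      | zero => simp
      | add a b ha hb => simp only [TensorProduct.tmul_add, map_add, ha, hb]
      | tmul c w =>
        simp only [eM, eN, LinearEquiv.trans_apply, LinearMap.lTensor_tmul,
          TensorProduct.AlgebraTensorModule.cancelBaseChange_tmul,
          TensorProduct.AlgebraTensorModule.cancelBaseChange_symm_tmul,
          TensorProduct.AlgebraTensorModule.congr_tmul, LinearEquiv.refl_apply,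
          KaehlerDifferential.mapBaseChange_tmul, one_smul,
          KaehlerDifferential.tensorKaehlerEquivOfFormallyEtale_apply]
        rw [map_smul, ← algebraMap_smul Cq c (KaehlerDifferential.map A A C Cq _), TensorProduct.tmul_smul,
          algebraMap_smul, ← TensorProduct.smul_tmul']
        congr 1
        congr 1
        have hw : w ∈ Submodule.span B (Set.range (KaehlerDifferential.D A B)) := by
          rw [KaehlerDifferential.span_range_derivation]; trivial
        induction hw using Submodule.span_induction with
        | mem x hx =>
          obtain ⟨b, rfl⟩ := hx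
          simp only [KaehlerDifferential.map_D]
          rw [← IsScalarTower.algebraMap_apply]
        | zero => simp
        | add x y _ _ hx hy => simp only [map_add, hx, hy]
        | smul r x _ hx => simp only [map_smul, LinearMap.map_smul_of_tower, hx]
  show Algebra.FormallySmooth B Cq ↔ _
  rw [Groth.L05.Kaehler.formallySmooth_iff_exists_retraction A B Cq,
    IsLocalRing.split_injective_iff_lTensor_residueField_injective]
  have hfun : ⇑((KaehlerDifferential.mapBaseChange A B Cq).lTensor K) ∘ ⇑eM =
      ⇑eN ∘ ⇑((KaehlerDifferential.mapBaseChange A B C).lTensor K) := funext fun z => (hsq z).symm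
  rw [← EquivLike.injective_comp eM, ← EquivLike.comp_injective _ eN]
  exact Iff.of_eq (congrArg Function.Injective hfun)

end Groth.Agent.S10955
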