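import Groth.Statements.S10956
import Mathlib.RingTheory.Kaehler.TensorProduct

set_option autoImplicit false
set_option linter.style.haveILetI false
universe u
open scoped TensorProduct
open CAlg

namespace Groth.Agent.S10956

/-- Let R be a commutative ring, A and B commutative R-algebras and T = A ⊗_R B, an A-algebra through
the left factor. There is a T-linear map r from Ω_{T/R} to T ⊗_A Ω_{A/R} sending d(a ⊗ b) to (1 ⊗ b)
⊗ da for all a in A and b in B, and together with the canonical map Ω_{T/R} → Ω_{T/A} it identifies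
Ω_{T/R} with the product (T ⊗_A Ω_{A/R}) × Ω_{T/A}. (The published statement is the isomorphism of
(Ω_{A/R} ⊗_R B) ⊕ (A ⊗_R Ω_{B/R}) with Ω_{T/R} matching the exterior differentials; it is stated
here through the canonical identifications T ⊗_A Ω_{A/R} = Ω_{A/R} ⊗_R B and Ω_{T/A} = A ⊗_R
Ω_{B/R}.) -/
theorem result (R A B : Type u) [CommRing R] [CommRing A] [CommRing B]
    [Algebra R A] [Algebra R B] :
    ∃ r : Ω[(A ⊗[R] B)⁄R] →ₗ[A ⊗[R] B] ((A ⊗[R] B) ⊗[A] Ω[A⁄R]),
      (∀ (a : A) (b : B), r (KaehlerDifferential.D R (A ⊗[R] B) (a ⊗ₜ[R] b)) =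
          ((1 : A) ⊗ₜ[R] b) ⊗ₜ[A] KaehlerDifferential.D R A a) ∧
        Function.Bijective (fun ω : Ω[(A ⊗[R] B)⁄R] =>
          (r ω, KaehlerDifferential.map R A (A ⊗[R] B) (A ⊗[R] B) ω)) := by
  letI : Algebra B (A ⊗[R] B) := Algebra.TensorProduct.rightAlgebra
  let r : Ω[(A ⊗[R] B)⁄R] →ₗ[A ⊗[R] B] ((A ⊗[R] B) ⊗[A] Ω[A⁄R]) :=
    (KaehlerDifferential.tensorKaehlerEquiv R B A (A ⊗[R] B)).symm.toLinearMap ∘ₗ
      KaehlerDifferential.map R B (A ⊗[R] B) (A ⊗[R] B)
  have hr : ∀ (a : A) (b : B), r (KaehlerDifferential.D R (A ⊗[R] B) (a ⊗ₜ[R] b)) =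
      ((1 : A) ⊗ₜ[R] b) ⊗ₜ[A] KaehlerDifferential.D R A a := by
    intro a b
    show (KaehlerDifferential.tensorKaehlerEquiv R B A (A ⊗[R] B)).symm
      (KaehlerDifferential.map R B (A ⊗[R] B) (A ⊗[R] B) _) = _
    rw [KaehlerDifferential.map_D]
    simp only [Algebra.algebraMap_self, RingHom.id_apply]
    rw [KaehlerDifferential.tensorKaehlerEquiv_symm_D_tmul']
    rfl
  refine ⟨r, hr, ?_⟩
  have hri : ∀ x, r (KaehlerDifferential.mapBaseChange R A (A ⊗[R] B) x) = x := by
    have : r ∘ₗ KaehlerDifferential.mapBaseChange R A (A ⊗[R] B) = LinearMap.id := by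
      apply LinearMap.ext
      intro x
      induction x with
      | zero => simp
      | add x y hx hy => simp only [map_add, hx, hy]
      | tmul t w =>
        simp only [LinearMap.coe_comp, Function.comp_apply, LinearMap.id_coe, id_eq,
          KaehlerDifferential.mapBaseChange_tmul, map_smul]
        have hw : w ∈ Submodule.span A (Set.range (KaehlerDifferential.D R A)) := by
          rw [KaehlerDifferential.span_range_derivation]; trivial
        induction hw using Submodule.span_induction with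
        | mem w hw =>
          obtain ⟨a, rfl⟩ := hw
          rw [KaehlerDifferential.map_D, Algebra.TensorProduct.algebraMap_apply,
            Algebra.algebraMap_self, RingHom.id_apply, hr, TensorProduct.smul_tmul', smul_eq_mul,
            ← Algebra.TensorProduct.one_def, mul_one]
        | zero => simp
        | add u v _ _ hu hv => simp only [map_add, smul_add, TensorProduct.tmul_add, hu, hv]
        | smul c u _ hu =>
          rw [map_smul, LinearMap.map_smul_of_tower, smul_comm, hu, TensorProduct.tmul_smul]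
    exact fun x => DFunLike.congr_fun this x
  constructor
  · intro ω₁ ω₂ h
    simp only [Prod.mk.injEq] at h
    obtain ⟨h1, h2⟩ := h
    have h3 : KaehlerDifferential.map R A (A ⊗[R] B) (A ⊗[R] B) (ω₁ - ω₂) = 0 := by
      rw [map_sub, h2, sub_self]
    obtain ⟨x, hx⟩ := (KaehlerDifferential.exact_mapBaseChange_map R A (A ⊗[R] B) _).mp h3
    have h4 : x = 0 := by
      have := hri x
      rw [hx, map_sub, h1, sub_self] at this
      exact this.symm
    rw [h4, map_zero] at hx
    exact sub_eq_zero.mp hx.symm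
  · rintro ⟨x, y⟩
    obtain ⟨ω, hω⟩ := KaehlerDifferential.map_surjective R A (A ⊗[R] B) y
    refine ⟨ω + KaehlerDifferential.mapBaseChange R A (A ⊗[R] B) (x - r ω), ?_⟩
    have hz : KaehlerDifferential.map R A (A ⊗[R] B) (A ⊗[R] B)
        (KaehlerDifferential.mapBaseChange R A (A ⊗[R] B) (x - r ω)) = 0 :=
      (KaehlerDifferential.exact_mapBaseChange_map R A (A ⊗[R] B) _).mpr ⟨_, rfl⟩
    show (r _, _) = _
    rw [map_add, map_add, hri, hω, hz, add_zero, add_sub_cancel]


end Groth.Agent.S10956
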