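import Groth.Statements.S10957
import Groth.Agent.L01.NormalDomain

set_option autoImplicit false
universe u
open CAlg

namespace Groth.Agent.S10957

/-- Let A be a Noetherian local integral domain that is normal (integrally closed in its field of
fractions). If there is a nonzero element a of A such that the maximal ideal of A is an associated
prime of the A-module A/(a), then A is a discrete valuation ring. (The other conditions listed in
the published result — normal of dimension one, maximal ideal nonzero principal, regular of
dimension one — are the library's standard characterisations; this row records the criterion through
an associated prime.) -/
theorem result
    (A : Type u) [CommRing A] [IsDomain A] [IsNoetherianRing A] [IsLocalRing A] [IsIntegrallyClosed A]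
    (a : A) (ha : a ≠ 0)
    (hass : IsLocalRing.maximalIdeal A ∈ associatedPrimes A (A ⧸ Ideal.span ({a} : Set A))) :
    IsDiscreteValuationRing A := Groth.L01.isDVR_of_maximalIdeal_mem_associatedPrimes ha hass

end Groth.Agent.S10957
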