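import Groth.Statements.S10959
import Groth.Agent.L26.AV.Rigidity

set_option autoImplicit false
universe u
open CategoryTheory MonoidalCategory CartesianMonoidalCategory MonObj GrpObj AlgebraicGeometry
open AbVar

namespace Groth.Agent.S10959

set_option backward.isDefEq.respectTransparency.types false

/-- Let K be an algebraically closed field and A an abelian variety over K (a group scheme over Spec K
with proper smooth structure morphism and irreducible underlying space). Let Z be a closed subset of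
A which is not all of A, and z a K-valued point of A. Then there is a K-valued point x of A such
that the point underlying z lies neither in the translate of Z by x nor in the translate of Z by the
inverse of x; here the translation by x is the morphism A → A given on points by a ↦ a·x, the
product of the identity and the constant map x in the group of morphisms into A. (The published
statement takes Z to be the support of an effective divisor; this row allows any closed subset other
than A.) -/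
theorem result
    (K : Type u) [Field K] [IsAlgClosed K] (A : Over (Spec (CommRingCat.of K)))
    [GrpObj A] [IsProper A.hom] [Smooth A.hom] [IrreducibleSpace A.left]
    (Z : Set A.left) (hZ : IsClosed Z) (hZne : Z ≠ Set.univ)
    (z : 𝟙_ (Over (Spec (CommRingCat.of K))) ⟶ A) :
    ∃ x : 𝟙_ (Over (Spec (CommRingCat.of K))) ⟶ A,
      Disjoint (Set.range z.left.base)
        ((𝟙 A * (toUnit A ≫ x)).left.base '' Z ∪ (𝟙 A * (toUnit A ≫ x)⁻¹).left.base '' Z) := by
  let t : (𝟙_ (Over (Spec (CommRingCat.of K))) ⟶ A) → (A ⟶ A) := fun x => 𝟙 A * (toUnit A ≫ x)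
  -- the two shifted maps
  let α : A ⟶ A := (toUnit A ≫ z) * (𝟙 A)⁻¹
  let β : A ⟶ A := (toUnit A ≫ z) * 𝟙 A
  have hα : Function.Surjective α.left.base := by
    have h : α ≫ ((𝟙 A)⁻¹ * (toUnit A ≫ z)) = 𝟙 A := by
      have h1 : α ≫ (toUnit A ≫ z) = toUnit A ≫ z := by
        rw [← Category.assoc, toUnit_unique (α ≫ toUnit A) (toUnit A)]
      rw [MonObj.comp_mul, GrpObj.comp_inv, Category.comp_id, h1]
      simp [α]
    have h' : ((𝟙 A)⁻¹ * (toUnit A ≫ z)) ≫ α = 𝟙 A := by
      have h1 : ((𝟙 A)⁻¹ * (toUnit A ≫ z)) ≫ (toUnit A ≫ z) = toUnit A ≫ z := by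
        rw [← Category.assoc, toUnit_unique (_ ≫ toUnit A) (toUnit A)]
      rw [MonObj.comp_mul, GrpObj.comp_inv, Category.comp_id, h1]
      simp
    exact fun a => ⟨((𝟙 A)⁻¹ * (toUnit A ≫ z)).left a, congrArg (fun f : A ⟶ A => f.left a) h'⟩
  have hβ : Function.Surjective β.left.base := by
    have h' : ((toUnit A ≫ z)⁻¹ * 𝟙 A) ≫ β = 𝟙 A := by
      have h1 : ((toUnit A ≫ z)⁻¹ * 𝟙 A) ≫ (toUnit A ≫ z) = toUnit A ≫ z := by
        rw [← Category.assoc, toUnit_unique (_ ≫ toUnit A) (toUnit A)]
      rw [MonObj.comp_mul, Category.comp_id, h1]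
      simp
    exact fun a => ⟨((toUnit A ≫ z)⁻¹ * 𝟙 A).left a, congrArg (fun f : A ⟶ A => f.left a) h'⟩
  obtain ⟨w, hw⟩ := (Set.ne_univ_iff_exists_notMem Z).1 hZne
  have h1 : (α.left.base ⁻¹' Zᶜ).Nonempty := let ⟨a, ha⟩ := hα w; ⟨a, by rw [Set.mem_preimage, ha]; exact hw⟩
  have h2 : (β.left.base ⁻¹' Zᶜ).Nonempty := let ⟨a, ha⟩ := hβ w; ⟨a, by rw [Set.mem_preimage, ha]; exact hw⟩
  have o1 : IsOpen (α.left.base ⁻¹' Zᶜ) := hZ.isOpen_compl.preimage α.left.continuous
  have o2 : IsOpen (β.left.base ⁻¹' Zᶜ) := hZ.isOpen_compl.preimage β.left.continuous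
  haveI : JacobsonSpace A.left := LocallyOfFiniteType.jacobsonSpace A.hom
  obtain ⟨v, ⟨hv1, hv2⟩, hv⟩ := nonempty_inter_closedPoints
    (nonempty_preirreducible_inter o1 o2 h1 h2) (o1.inter o2).isLocallyClosed
  let x : 𝟙_ (Over (Spec (CommRingCat.of K))) ⟶ A :=
    Over.homMk (pointOfClosedPoint A.hom v hv) (pointOfClosedPoint_comp _ _ hv)
  have hxv : ∀ s, x.left.base s = v := fun s => pointOfClosedPoint_apply _ _ hv _
  refine ⟨x, Set.disjoint_left.2 ?_⟩
  rintro _ ⟨s, rfl⟩ (⟨p, hp, hpz⟩ | ⟨p, hp, hpz⟩)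
  · apply hv1
    have key : (𝟙 A * (toUnit A ≫ x)) ≫ (𝟙 A * (toUnit A ≫ x)⁻¹) = 𝟙 A := by
      have h1 : (𝟙 A * (toUnit A ≫ x)) ≫ (toUnit A ≫ x) = toUnit A ≫ x := by
        rw [← Category.assoc, toUnit_unique (_ ≫ toUnit A) (toUnit A)]
      rw [MonObj.comp_mul, GrpObj.comp_inv, Category.comp_id, h1, mul_inv_cancel_right]
    have e1 : z ≫ (𝟙 A * (toUnit A ≫ x)⁻¹) = x ≫ α := by
      have hz : z ≫ (toUnit A ≫ x) = x := by
        rw [← Category.assoc, toUnit_unique (z ≫ toUnit A) (𝟙 _), Category.id_comp]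
      have hx : x ≫ (toUnit A ≫ z) = z := by
        rw [← Category.assoc, toUnit_unique (x ≫ toUnit A) (𝟙 _), Category.id_comp]
      simp only [α, MonObj.comp_mul, GrpObj.comp_inv, Category.comp_id, hz, hx]
    have hpv : α.left.base v = p := by
      have h4 := congrArg (fun f : 𝟙_ (Over (Spec (CommRingCat.of K))) ⟶ A => f.left s) e1
      simp only [Over.comp_left, Scheme.Hom.comp_apply] at h4
      rw [show x.left s = v from hxv s] at h4
      show α.left v = p
      rw [← h4, show z.left s = (𝟙 A * (toUnit A ≫ x)).left p from hpz.symm]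
      exact congrArg (fun f : A ⟶ A => f.left p) key
    exact hpv ▸ hp
  · apply hv2
    have key : (𝟙 A * (toUnit A ≫ x)⁻¹) ≫ (𝟙 A * (toUnit A ≫ x)) = 𝟙 A := by
      have h1 : (𝟙 A * (toUnit A ≫ x)⁻¹) ≫ (toUnit A ≫ x) = toUnit A ≫ x := by
        rw [← Category.assoc, toUnit_unique (_ ≫ toUnit A) (toUnit A)]
      rw [MonObj.comp_mul, Category.comp_id, h1, inv_mul_cancel_right]
    have e1 : z ≫ (𝟙 A * (toUnit A ≫ x)) = x ≫ β := by
      have hz : z ≫ (toUnit A ≫ x) = x := by
        rw [← Category.assoc, toUnit_unique (z ≫ toUnit A) (𝟙 _), Category.id_comp]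
      have hx : x ≫ (toUnit A ≫ z) = z := by
        rw [← Category.assoc, toUnit_unique (x ≫ toUnit A) (𝟙 _), Category.id_comp]
      simp only [β, MonObj.comp_mul, Category.comp_id, hz, hx]
    have hpv : β.left.base v = p := by
      have h4 := congrArg (fun f : 𝟙_ (Over (Spec (CommRingCat.of K))) ⟶ A => f.left s) e1
      simp only [Over.comp_left, Scheme.Hom.comp_apply] at h4
      rw [show x.left s = v from hxv s] at h4
      show β.left v = p
      rw [← h4, show z.left s = (𝟙 A * (toUnit A ≫ x)⁻¹).left p from hpz.symm]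
      exact congrArg (fun f : A ⟶ A => f.left p) key
    exact hpv ▸ hp

end Groth.Agent.S10959
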