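import Groth.Statements.S10963
import Groth.Agent.L22.PicGlue.Cocycle

set_option autoImplicit false
universe u
open CategoryTheory AlgebraicGeometry TopologicalSpace Opposite
open PicF

set_option backward.isDefEq.respectTransparency.types false
namespace Groth.Agent.S10963

/-- Let X be a scheme, (U_i)_{i ∈ ι} an open cover of X and, for all i, j, a unit η_ij of the ring of
functions on U_i ∩ U_j, such that on every triple intersection U_i ∩ U_j ∩ U_k the cocycle identity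
η_ik = η_ij · η_jk holds. Then there exist an invertible O_X-module L and sections s_i of L over U_i
such that each s_i generates L over U_i — for every open V ⊆ U_i the map r ↦ r · s_i|_V from
functions on V to sections of L over V is bijective — and s_i|_{U_i ∩ U_j} = η_ij · s_j|_{U_i ∩ U_j}
for all i, j. (This is the surjectivity of the map from invertible modules trivialised by the cover
to Čech 1-cohomology classes of the cover with values in the sheaf of units.) -/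
theorem result (X : Scheme.{u}) {ι : Type u} (U : ι → X.Opens)
    (hU : iSup U = ⊤) (η : ∀ i j : ι, (Γ(X, U i ⊓ U j))ˣ)
    (hη : ∀ i j k : ι,
      X.presheaf.map (homOfLE (inf_le_inf_right (U k) inf_le_left : U i ⊓ U j ⊓ U k ≤ U i ⊓ U k)).op
          (η i k : Γ(X, U i ⊓ U k)) =
        X.presheaf.map (homOfLE (inf_le_left : U i ⊓ U j ⊓ U k ≤ U i ⊓ U j)).op (η i j : Γ(X, U i ⊓ U j)) *
          X.presheaf.map (homOfLE (inf_le_inf_right (U k) inf_le_right : U i ⊓ U j ⊓ U k ≤ U j ⊓ U k)).op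
            (η j k : Γ(X, U j ⊓ U k))) :
    ∃ (L : X.Modules) (s : ∀ i : ι, Γ(L, U i)),
      PicF.IsInvertible L ∧
      (∀ (i : ι) (V : X.Opens) (h : V ≤ U i),
        Function.Bijective (fun r : Γ(X, V) => r • L.presheaf.map (homOfLE h).op (s i))) ∧
      ∀ i j : ι, L.presheaf.map (homOfLE (inf_le_left : U i ⊓ U j ≤ U i)).op (s i) =
        (η i j : Γ(X, U i ⊓ U j)) • L.presheaf.map (homOfLE (inf_le_right : U i ⊓ U j ≤ U j)).op (s j) := by
  have hres : ∀ (i j k : ι), Groth.L21.Extend.rO X (inf_le_left : U i ⊓ U j ⊓ U k ≤ _) ((η i j)⁻¹ : Γ(X, U i ⊓ U j)ˣ).1 *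
      Groth.L21.Extend.rO X (inf_le_inf_right (U k) inf_le_right : U i ⊓ U j ⊓ U k ≤ U j ⊓ U k) ((η j k)⁻¹ : Γ(X, U j ⊓ U k)ˣ).1 =
      Groth.L21.Extend.rO X (inf_le_inf_right (U k) inf_le_left : U i ⊓ U j ⊓ U k ≤ U i ⊓ U k) ((η i k)⁻¹ : Γ(X, U i ⊓ U k)ˣ).1 := by
    intro i j k
    have h := hη i j k
    have e : ∀ {V V' : X.Opens} (h : V ≤ V') (u : Γ(X, V')ˣ),
        ((Units.map (X.presheaf.map (homOfLE h).op).hom.toMonoidHom u)⁻¹ : Γ(X, V)ˣ).1 =
          Groth.L21.Extend.rO X h (u⁻¹ : Γ(X, V')ˣ).1 := fun h u => rfl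
    rw [← e, ← e, ← e, ← Units.val_mul, ← mul_inv, Units.val_inj, inv_inj]
    exact Units.ext h.symm
  have hone : ∀ i, ((η i i)⁻¹ : Γ(X, U i ⊓ U i)ˣ).1 = 1 := by
    intro i
    have h := hres i i i
    let r := (X.presheaf.map (homOfLE (inf_le_left : U i ⊓ U i ⊓ U i ≤ U i ⊓ U i)).op).hom
    have h1 : r ((η i i)⁻¹ : Γ(X, U i ⊓ U i)ˣ).1 * r ((η i i)⁻¹ : Γ(X, U i ⊓ U i)ˣ).1 =
        r ((η i i)⁻¹ : Γ(X, U i ⊓ U i)ˣ).1 := h
    have h2 : r ((η i i)⁻¹ : Γ(X, U i ⊓ U i)ˣ).1 = 1 :=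
      (((η i i)⁻¹).isUnit.map r).mul_left_cancel (h1.trans (mul_one _).symm)
    have hle : U i ⊓ U i ≤ U i ⊓ U i ⊓ U i := le_inf le_rfl inf_le_left
    have h3 := congrArg (X.presheaf.map (homOfLE hle).op).hom h2
    rw [map_one] at h3
    rw [← h3]
    exact ((Groth.L21.Extend.rO_rO (X := X) hle inf_le_left _).trans (Groth.L22.PicGlue.rO_self _ _)).symm
  let C : Groth.L22.PicGlue.Cocycle X := ⟨ι, U, fun i j => ((η i j)⁻¹ : Γ(X, U i ⊓ U j)ˣ).1, hone, hres⟩
  refine ⟨Groth.L22.PicGlue.glueMod C, fun i => Groth.L22.PicGlue.gen C i,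
    Groth.L22.PicGlue.isInvertible_glueMod C (fun x => Opens.mem_iSup.1 (hU ▸ (show x ∈ (⊤ : X.Opens) from trivial))),
    fun i V h => Groth.L22.PicGlue.isGen_gen C i V h, fun i j => ?_⟩
  have h := Groth.L22.PicGlue.gen_trans C i j
  change _ = (η i j : Γ(X, U i ⊓ U j)) • Groth.L21.Extend.rs (Groth.L22.PicGlue.glueMod C)
    (inf_le_right : U i ⊓ U j ≤ U j) (Groth.L22.PicGlue.gen C j)
  rw [h, smul_smul]
  show _ = ((η i j : Γ(X, U i ⊓ U j)) * ((η i j)⁻¹ : Γ(X, U i ⊓ U j)ˣ).1) • _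
  rw [Units.mul_inv, one_smul]


end Groth.Agent.S10963
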