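import Groth.Prelude.Def_Pic
import Mathlib.AlgebraicGeometry.Modules.Sheaf
import Groth.Agent.L22.PicGlue.GensIso

set_option autoImplicit false
set_option linter.style.haveILetI false
namespace PicF
end PicF
universe u
open CategoryTheory AlgebraicGeometry TopologicalSpace Opposite
open PicF

namespace Groth.Agent.S10964

/-- Let X be a scheme with an open cover (U_i)_{i ∈ ι}. Let L and L' be O_X-modules with sections s_i of
L and s'_i of L' over U_i that generate there (for every open V ⊆ U_i, r ↦ r · s_i|_V is a bijection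
from functions on V onto sections of L over V, and likewise for s'_i), and let η_ij, η'_ij be the
functions on U_i ∩ U_j with s_i = η_ij · s_j and s'_i = η'_ij · s'_j there. Then L and L' are
isomorphic as O_X-modules if and only if there is a family of units u_i of the rings of functions on
the U_i with η'_ij · u_i|_{U_i ∩ U_j} = u_j|_{U_i ∩ U_j} · η_ij for all i, j. (So two invertible
modules trivialised by the cover are isomorphic exactly when their transition cocycles define the
same Čech cohomology class.) -/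
theorem result (X : Scheme.{u}) {ι : Type u} (U : ι → X.Opens)
    (hU : iSup U = ⊤) (L L' : X.Modules) (s : ∀ i : ι, Γ(L, U i)) (s' : ∀ i : ι, Γ(L', U i))
    (hs : ∀ (i : ι) (V : X.Opens) (h : V ≤ U i),
        Function.Bijective (fun r : Γ(X, V) => r • L.presheaf.map (homOfLE h).op (s i)))
    (hs' : ∀ (i : ι) (V : X.Opens) (h : V ≤ U i),
        Function.Bijective (fun r : Γ(X, V) => r • L'.presheaf.map (homOfLE h).op (s' i)))
    (η η' : ∀ i j : ι, Γ(X, U i ⊓ U j))
    (hη : ∀ i j : ι, L.presheaf.map (homOfLE (inf_le_left : U i ⊓ U j ≤ U i)).op (s i) =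
        η i j • L.presheaf.map (homOfLE (inf_le_right : U i ⊓ U j ≤ U j)).op (s j))
    (hη' : ∀ i j : ι, L'.presheaf.map (homOfLE (inf_le_left : U i ⊓ U j ≤ U i)).op (s' i) =
        η' i j • L'.presheaf.map (homOfLE (inf_le_right : U i ⊓ U j ≤ U j)).op (s' j)) :
    Nonempty (L ≅ L') ↔ ∃ u : ∀ i : ι, (Γ(X, U i))ˣ, ∀ i j : ι,
      η' i j * X.presheaf.map (homOfLE (inf_le_left : U i ⊓ U j ≤ U i)).op (u i : Γ(X, U i)) =
        X.presheaf.map (homOfLE (inf_le_right : U i ⊓ U j ≤ U j)).op (u j : Γ(X, U j)) * η i j := by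
  open Groth.L21.Extend in
  classical
  have hcov : ∀ x : X, ∃ i, x ∈ U i := fun x =>
    TopologicalSpace.Opens.mem_iSup.1 (hU ▸ (show x ∈ (⊤ : X.Opens) from trivial))
  have hgen : ∀ i, IsGen L (U i) (s i) := fun i V h => hs i V h
  have hgen' : ∀ i, IsGen L' (U i) (s' i) := fun i V h => hs' i V h
  have hl : ∀ i j, rs L (inf_le_left : U i ⊓ U j ≤ U i) (s i) = η i j • rs L (inf_le_right : U i ⊓ U j ≤ U j) (s j) := hη
  have hl' : ∀ i j, rs L' (inf_le_left : U i ⊓ U j ≤ U i) (s' i) = η' i j • rs L' (inf_le_right : U i ⊓ U j ≤ U j) (s' j) := hη'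
  constructor
  · rintro ⟨φ⟩
    have hap : ∀ {V W : X.Opens} (h : V ≤ W) (x : Γ(L, W)), φ.hom.app V (rs L h x) = rs L' h (φ.hom.app W x) :=
      fun h x => congr($(φ.hom.mapPresheaf.naturality (homOfLE h).op) x)
    have hu : ∀ i, ∃ a : Γ(X, U i), IsUnit a ∧ φ.hom.app (U i) (s i) = a • s' i := by
      intro i
      obtain ⟨a, ha⟩ := (hgen' i (U i) le_rfl).2 (φ.hom.app (U i) (s i))
      obtain ⟨b, hb⟩ := (hgen i (U i) le_rfl).2 (φ.inv.app (U i) (s' i))
      simp only [rs_self] at ha hb
      refine ⟨a, isUnit_iff_exists_inv.2 ⟨b, ?_⟩, ha.symm⟩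
      apply (hgen' i (U i) le_rfl).1
      simp only [rs_self, one_smul]
      rw [mul_comm, mul_smul, ha, ← φ.hom.app_smul, hb]
      exact congr($(φ.inv_hom_id).app (U i) (s' i))
    choose a hau ha using hu
    refine ⟨fun i => (hau i).unit, fun i j => ?_⟩
    simp only [IsUnit.unit_spec]
    apply (hgen' j (U i ⊓ U j) inf_le_right).1
    have h1 := congrArg (fun z => φ.hom.app (U i ⊓ U j) z) (hl i j)
    simp only [hap, Scheme.Modules.Hom.app_smul, ha, rs_smul, hl' i j, smul_smul] at h1
    show (η' i j * rO X _ (a i)) • _ = (rO X _ (a j) * η i j) • _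
    rw [mul_comm (η' i j), mul_comm (rO X _ (a j))]
    exact h1
  · rintro ⟨v, hv⟩
    let t : ∀ i, Γ(L', U i) := fun i => (v i : Γ(X, U i)) • s' i
    have ht : ∀ i, IsGen L' (U i) (t i) := by
      intro i V h
      have e : (fun r : Γ(X, V) => r • rs L' h (t i)) =
          (fun r => r • rs L' h (s' i)) ∘ (fun r => r * rO X h (v i : Γ(X, U i))) := by
        funext r
        simp only [Function.comp_apply, t, rs_smul, smul_smul]
      show Function.Bijective fun r : Γ(X, V) => r • rs L' h (t i)
      rw [e]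
      exact (hgen' i V h).comp (((v i).isUnit.map (X.presheaf.map (homOfLE h).op).hom).unit.mulRight).bijective
    refine Groth.L22.PicGlue.nonempty_iso_of_gens U hgen ht hcov fun i j W hi hj c hc => ?_
    have hW : W ≤ U i ⊓ U j := le_inf hi hj
    have h1 := congrArg (rs L hW) (hl i j)
    rw [rs_smul, rs_rs, rs_rs] at h1
    have h2 : c * rO X hW (η i j) = 1 := by
      apply (hgen j W hj).1
      simp only [mul_smul, one_smul]
      rw [← h1]; exact hc
    have h3 := congrArg (rs L' hW) (hl' i j)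
    rw [rs_smul, rs_rs, rs_rs] at h3
    have h4 : rO X hW (η' i j) * rO X hi (v i : Γ(X, U i)) = rO X hj (v j : Γ(X, U j)) * rO X hW (η i j) := by
      have h5 := congrArg (rO X hW) (hv i j)
      rw [Groth.L22.PicGlue.rO_mul, Groth.L22.PicGlue.rO_mul] at h5
      change rO X hW (η' i j) * rO X hW (rO X inf_le_left (v i : Γ(X, U i))) =
        rO X hW (rO X inf_le_right (v j : Γ(X, U j))) * rO X hW (η i j) at h5
      rwa [rO_rO, rO_rO] at h5
    simp only [t, rs_smul]
    rw [h3, smul_smul, smul_smul, mul_assoc, mul_comm (rO X hi _), h4,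
      mul_comm (rO X hj _), ← mul_assoc, h2, one_mul]

end Groth.Agent.S10964
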