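import Groth.Statements.S10967
import Groth.Agent.L00.LimQuasiAffine
import Groth.Agent.L19.QADescent

set_option autoImplicit false
set_option backward.isDefEq.respectTransparency.types false
set_option backward.isDefEq.respectTransparency false
set_option linter.style.haveILetI false
universe u
open CategoryTheory AlgebraicGeometry TopologicalSpace
open MoreMor

namespace Groth.Agent.S10967

/-- Quasi-affine over an affine base: call a morphism f : X → Y quasi-affine when Y has a cover by
affine opens V_i whose preimages f⁻¹(V_i) are quasi-affine schemes (quasi-compact open subschemes of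
affine schemes; equivalently quasi-compact with X → Spec Γ(X, O_X) an immersion). If Y is affine and
f is quasi-affine in this sense, then X is a quasi-affine scheme. -/
theorem result {X Y : Scheme.{u}} [IsAffine Y]
    (f : X ⟶ Y) {ι : Type u} (V : ι → Y.Opens) (hV : iSup V = ⊤) (hVa : ∀ i, IsAffineOpen (V i))
    (hq : ∀ i, Scheme.IsQuasiAffine (↑(f ⁻¹ᵁ V i) : Scheme.{u})) :
    X.IsQuasiAffine := by
  have h : Groth.L00.LimQuasiAffine.qaff f := by
    refine IsZariskiLocalAtTarget.of_iSup_eq_top V hV fun i => ?_
    haveI : IsAffine (V i : Scheme.{u}) := hVa i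
    haveI := hq i
    exact Groth.L19.QADescent.isQuasiAffine_of_source (f ∣_ V i)
  haveI : CompactSpace X := by
    haveI : QuasiCompact f := h.1
    exact QuasiCompact.compactSpace_of_compactSpace f
  haveI : Scheme.IsQuasiAffine ((⊤ : X.Opens) : Scheme.{u}) := h.2 ⊤ (isAffineOpen_top Y)
  exact Scheme.IsQuasiAffine.of_isImmersion (Scheme.topIso X).inv

end Groth.Agent.S10967
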