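import Groth.Statements.S10969
import Groth.Agent.L26.FF.RR

set_option autoImplicit false
open FunFld

namespace Groth.Agent.S10969

open Groth.Agent.FF WithZero

/-- For `x` transcendental over `k` in a function field of one variable `K/k`, the degree of the divisor
of zeros of `x` equals `[K : k(x)]`. -/
theorem result (k K : Type*) [Field k] [Field K] [Algebra k K]
    (hK : FunFld.IsFunctionField k K) (x : K) (hx : Transcendental k x) :
    (∑ P ∈ (FunFld.div k x).support with 0 < FunFld.div k x P,
        FunFld.div k x P * (P.deg : ℤ)) =
      Module.finrank (IntermediateField.adjoin k ({x} : Set K)) K := by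
  classical
  have hx0 : x ≠ 0 := fun h => hx (h ▸ isAlgebraic_zero)
  have htr' : Transcendental k x⁻¹ := fun h => hx (by simpa using h.inv)
  rw [← finrank_adjoin_congr (adjoin_inv_eq (k := k) (x := x)), ← deg_poles hK.1 htr',
    deg_eq_sum (Finset.Subset.refl _)]
  refine (Finset.sum_congr ?_ fun P hP => ?_)
  · ext P
    simp [poles_apply hK.1, div_apply hK.1, ord_inv]
    omega
  · rw [Finsupp.mem_support_iff, poles_apply hK.1, ord_inv, neg_neg] at hP
    rw [poles_apply hK.1, div_apply hK.1, ord_inv, neg_neg, max_eq_left (by omega)]

end Groth.Agent.S10969
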