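import Groth.Statements.S1097
import Groth.Agent.L29.DCoh.Gen.Main

set_option autoImplicit false
set_option backward.isDefEq.respectTransparency false
universe u
open CategoryTheory CategoryTheory.Limits AlgebraicGeometry Opposite
attribute [local instance] HasDerivedCategory.standard
open Perf

namespace Groth.Agent.S1097

/-- Let X be an affine scheme, U ⊆ X a quasi-compact open (restriction to U assumed exact), E a perfect
object and E' an object with quasi-coherent cohomology sheaves of D(O_X). For every morphism α :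
E|_U ⟶ E'|_U there are a perfect object E₁ of D(O_X) and morphisms β : E₁ ⟶ E, γ : E₁ ⟶ E' such that
β|_U is an isomorphism and β|_U ≫ α = γ|_U. -/
theorem result (X : Scheme.{u}) [IsAffine X] (U : X.Opens) (hU : IsCompact (U : Set X))
    [PreservesFiniteLimits (Scheme.Modules.restrictFunctor U.ι)] (E E' : DCoh.D X) (hE : DCoh.IsPerfect E) (hE' : DCoh.IsQCohD E')
    (α : (DCoh.restrictD U.ι).obj E ⟶ (DCoh.restrictD U.ι).obj E') :
    ∃ (E₁ : DCoh.D X) (β : E₁ ⟶ E) (γ : E₁ ⟶ E'), DCoh.IsPerfect E₁ ∧ IsIso ((DCoh.restrictD U.ι).map β) ∧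
      (DCoh.restrictD U.ι).map β ≫ α = (DCoh.restrictD U.ι).map γ := by
  let R : CommRingCat.{u} := Γ(X, ⊤)
  haveI := Groth.L18.TildeF.tilde_preservesFiniteLimits (R := R)
  haveI : CompactSpace (U : Scheme.{u}) := isCompact_iff_compactSpace.1 hU
  let s : X ⟶ Spec R := X.isoSpec.hom
  let k : (U : Scheme.{u}) ⟶ Spec R := U.ι ≫ s
  haveI := Groth.L29.DC.RpushQC.hasRpush s
  let r := DCoh.restrictD s
  have hs : Function.Surjective s := s.surjective
  haveI := Groth.L29.DC.Gen.isIso_unit_of_surjective s hs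
  let ad := Groth.L29.DC.Cpt.restrictRpushAdj s
  haveI : r.Full := ad.fullyFaithfulLOfIsIsoUnit.full
  haveI : r.Faithful := ad.fullyFaithfulLOfIsIsoUnit.faithful
  obtain ⟨K, ⟨e⟩⟩ := (Groth.L29.DC.TildeD.isQCohD_iff _).1 (Groth.L29.DC.RpushQC.isQCohD_Rpush s E
    (Groth.L29.DC.PCQCoh.isQCohD_of_perfect hE))
  obtain ⟨K', ⟨e'⟩⟩ := (Groth.L29.DC.TildeD.isQCohD_iff _).1 (Groth.L29.DC.RpushQC.isQCohD_Rpush s E' hE')
  let eE : r.obj ((DCoh.tildeD R).obj K) ≅ E := r.mapIso e ≪≫ asIso (ad.counit.app E)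
  let eE' : r.obj ((DCoh.tildeD R).obj K') ≅ E' := r.mapIso e' ≪≫ asIso (ad.counit.app E')
  have hK : DRing.IsPerfect R K := Groth.L29.DC.TildeAlg.perfect_of_tilde (by
    refine Groth.L29.DC.Gen.isPerfect_of_cover fun x => ?_
    obtain ⟨y, rfl⟩ := hs x
    haveI : IsIso s := inferInstanceAs (IsIso X.isoSpec.hom)
    refine ⟨⊤, trivial, ?_⟩
    let t : ((⊤ : (Spec R).Opens) : Scheme.{u}) ⟶ X := (⊤ : (Spec R).Opens).ι ≫ CategoryTheory.inv s
    exact Groth.L29.DC.isPerfect_of_iso ((DCoh.restrictD t).mapIso eE.symm ≪≫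
      (Groth.L29.DC.resTransD s t (⊤ : (Spec R).Opens).ι (by simp [t])).app _)
      (Groth.L29.DC.Gen.isPerfect_restrictD t hE))
  let c := Groth.L29.DC.resTransD s U.ι k rfl
  obtain ⟨G, β, γ, hG, hβ, hγ⟩ := Groth.L29.DC.Gen.exists_roof_tres k hK
    ((c.app _).inv ≫ (DCoh.restrictD U.ι).map eE.hom ≫ α ≫ (DCoh.restrictD U.ι).map eE'.inv ≫ (c.app _).hom)
  refine ⟨r.obj ((DCoh.tildeD R).obj G), r.map ((DCoh.tildeD R).map β) ≫ eE.hom,
    r.map ((DCoh.tildeD R).map γ) ≫ eE'.hom,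
    Groth.L29.DC.Gen.isPerfect_restrictD s (Groth.L29.DC.TildeAlg.perfect_tilde hG), ?_, ?_⟩
  · haveI : IsIso ((DCoh.restrictD U.ι).map (r.map ((DCoh.tildeD R).map β))) :=
      (NatIso.isIso_map_iff c _).2 hβ
    rw [Functor.map_comp]
    infer_instance
  · rw [Functor.map_comp, Functor.map_comp]
    have h1 : (DCoh.restrictD U.ι).map (r.map ((DCoh.tildeD R).map β)) =
        c.hom.app _ ≫ (Groth.L29.DC.Gen.tres k).map β ≫ c.inv.app _ := (NatIso.naturality_2 c _).symm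
    have h2 : (DCoh.restrictD U.ι).map (r.map ((DCoh.tildeD R).map γ)) =
        c.hom.app _ ≫ (Groth.L29.DC.Gen.tres k).map γ ≫ c.inv.app _ := (NatIso.naturality_2 c _).symm
    rw [h1, h2, ← hγ.1]
    simp only [Category.assoc, Iso.app_inv, Iso.app_hom]
    erw [Iso.hom_inv_id_app_assoc]
    rw [← Functor.map_comp, eE'.inv_hom_id]
    simp

end Groth.Agent.S1097
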