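import Groth.Statements.S10972
import Groth.Agent.L26.FF.RR

set_option autoImplicit false
open FunFld

namespace Groth.Agent.S10972

open Groth.Agent.FF WithZero

/-- A nonconstant element of a function field of one variable has at least one zero and at least one
pole. -/
theorem result (k K : Type*) [Field k] [Field K] [Algebra k K]
    (hK : FunFld.IsFunctionField k K) (x : K) (hx : x ∉ Set.range (algebraMap k K)) :
    (∃ P : FunFld.Place k K, 0 < P.ord x) ∧ ∃ Q : FunFld.Place k K, Q.ord x < 0 := by
  have htr := transcendental_of_not_const hK hx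
  have hx0 : x ≠ 0 := fun h => htr (h ▸ isAlgebraic_zero)
  obtain ⟨P, hP⟩ := exists_zero hK.1 htr
  obtain ⟨Q, hQ⟩ := exists_pole hK.1 htr
  refine ⟨⟨P, (val_lt_one_iff P hx0).1 hP⟩, Q, ?_⟩
  rw [val_eq_exp Q hx0, one_lt_exp'] at hQ
  omega

end Groth.Agent.S10972
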