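import Groth.Statements.S10981
import Groth.Agent.L26.FF.IntClosure

set_option autoImplicit false
open FunFld

namespace Groth.Agent.S10981

open Groth.Agent.FF in
/-- Finiteness, once `k` acts on `K'`. -/
lemma finite_aux {k K K' : Type*} [Field k] [Field K] [Field K'] [Algebra k K] [Algebra K K']
    [Algebra k K'] [IsScalarTower k K K'] [FiniteDimensional K K']
    (hK : FunFld.IsFunctionField k K) (P : FunFld.Place k K) [Algebra P.O K']
    [IsScalarTower P.O K K'] : Module.Finite P.O (integralClosure P.O K') := by
  obtain ⟨z, hz, -, hspan⟩ := exists_integral_basis (K' := K') hK P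
  let w : Fin (Module.finrank K K') → integralClosure P.O K' :=
    fun i => ⟨z i, (isIntegral_iff hK.1 P _).2 (hz i)⟩
  refine Module.Finite.of_surjective (Fintype.linearCombination P.O w) fun r => ?_
  obtain ⟨c, hc, hrc⟩ := hspan r ((isIntegral_iff hK.1 P _).1 r.2)
  refine ⟨fun i => ⟨c i, hc i⟩, Subtype.ext ?_⟩
  rw [Fintype.linearCombination_apply, AddSubmonoidClass.coe_finsetSum, hrc]
  exact Finset.sum_congr rfl fun i _ => (IsScalarTower.algebraMap_smul K (⟨c i, hc i⟩ : P.O) (z i)).symm

/-- Let `P` be a place of a function field of one variable `K/k` and let `K'` be a field of finite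
degree over `K`, separable or not; then `O_P` has a module-finite integral closure in `K'`. -/
theorem result (k K : Type*) [Field k] [Field K] [Algebra k K]
    (hK : FunFld.IsFunctionField k K) (P : FunFld.Place k K) (K' : Type*) [Field K'] [Algebra K K']
    [FiniteDimensional K K'] [Algebra P.O K'] [IsScalarTower P.O K K'] :
    Module.Finite P.O (integralClosure P.O K') := by
  letI : Algebra k K' := ((algebraMap K K').comp (algebraMap k K)).toAlgebra
  haveI : IsScalarTower k K K' := IsScalarTower.of_algebraMap_eq' rfl
  exact finite_aux hK P

end Groth.Agent.S10981
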