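import Groth.Statements.S10990
import Groth.Agent.L26.FF.RR

set_option autoImplicit false
open FunFld

namespace Groth.Agent.S10990

open Groth.Agent.FF WithZero

/-- `ℓ(D) = deg D + 1 - g + ℓ(C - D)` for every divisor `D` of a function field of one variable of genus
`g` with canonical divisor `C`. -/
theorem result (k K : Type*) [Field k] [Field K] [Algebra k K]
    (hK : FunFld.IsFunctionField k K) (C : FunFld.Divisor k K) (hC : FunFld.IsCanonical k K C) (D : FunFld.Divisor k K) :
    (FunFld.ell D : ℤ) = D.deg + 1 - FunFld.genus k K + FunFld.ell (C - D) := by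
  exact Groth.Agent.FF.riemann_roch hK hC D

end Groth.Agent.S10990
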