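import Groth.Statements.S10991
import Groth.Agent.L26.FF.RR

set_option autoImplicit false
open FunFld

namespace Groth.Agent.S10991

open Groth.Agent.FF WithZero

/-- For a Weil differential `ω` with divisor `C`, every element of `W(D)` is `xω` for a unique `x ∈ L(C
- D)` (together with the fact that `xω` vanishes on `A(D)+K` for `x ∈ L(C - D)`, multiplication by
`ω` is a bijection `L(C - D) → W(D)`). -/
theorem result (k K : Type*) [Field k] [Field K] [Algebra k K]
    (hK : FunFld.IsFunctionField k K) (h : ∀ (x : K), ∀ a ∈ FunFld.adele k K, x • a ∈ FunFld.adele k K)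
    (ω : Module.Dual k (FunFld.adele k K)) (C : FunFld.Divisor k K) (hω : FunFld.IsDivOf ω C)
    (D : FunFld.Divisor k K) (ω' : Module.Dual k (FunFld.adele k K)) (hω' : ω' ∈ FunFld.WD D) :
    ∃! x : K, x ∈ FunFld.L (C - D) ∧ FunFld.mulW x (h x) ω = ω' := by
  have h0 : ω ≠ 0 := fun h0' => by
    obtain ⟨E, hE, hdeg⟩ := exists_ge_deg hK C (C.deg + 1)
    have h1 := deg_mono ((hω E).1 (by rw [h0']; exact zero_mem _))
    omega
  obtain ⟨x, hx, hx'⟩ := mulW_L_onto hK h0 hω D hω'
  refine ⟨x, ⟨hx, hx'⟩, fun y hy => ?_⟩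
  have h2 : mulWLin hK ω (y - x) = 0 := by
    rw [map_sub, hx', show mulWLin hK ω y = ω' from hy.2, sub_self]
  exact sub_eq_zero.1 (mulWLin_eq_zero hK h0 h2)

end Groth.Agent.S10991
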