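import Groth.Statements.S10992
import Groth.Agent.L26.FF.RR

set_option autoImplicit false
open FunFld

namespace Groth.Agent.S10992

open Groth.Agent.FF WithZero

/-- A divisor `C` of a function field of one variable of genus `g` is canonical iff `ℓ(C) = g` and `deg
C = 2g - 2`. -/
theorem result (k K : Type*) [Field k] [Field K] [Algebra k K]
    (hK : FunFld.IsFunctionField k K) (C : FunFld.Divisor k K) :
    FunFld.IsCanonical k K C ↔ (FunFld.ell C = FunFld.genus k K ∧ C.deg = 2 * FunFld.genus k K - 2) := by
  exact isCanonical_iff hK C

end Groth.Agent.S10992
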