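import Groth.Statements.S10994
import Groth.Agent.L26.FF.Clifford

set_option autoImplicit false
open FunFld

namespace Groth.Agent.S10994

open Groth.Agent.FF WithZero

/-- A function field of one variable has genus `0` and a place of degree `1` iff it is a rational
function field `k(x)`. -/
theorem result (k K : Type*) [Field k] [Field K] [Algebra k K]
    (hK : FunFld.IsFunctionField k K) :
    (FunFld.genus k K = 0 ∧ ∃ P : FunFld.Place k K, P.deg = 1) ↔
      ∃ x : K, IntermediateField.adjoin k ({x} : Set K) = ⊤ := by
  constructor
  · rintro ⟨hg, P, hP⟩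
    obtain ⟨t, h1, h2⟩ := exists_coord hK hg hP
    exact ⟨t, (adjoin_eq_top_of_simple_pole hK hP h1 h2).2⟩
  · rintro ⟨x, hx⟩
    refine ⟨genus_eq_zero_of_adjoin_eq_top hK hx, ?_⟩
    have htr : Transcendental k x := by
      refine transcendental_of_not_const hK ?_
      rintro ⟨c, rfl⟩
      obtain ⟨y, hy⟩ := exists_transcendental hK
      have hy' : y ∈ IntermediateField.adjoin k ({algebraMap k K c} : Set K) := hx ▸ IntermediateField.mem_top
      rw [IntermediateField.adjoin_simple_eq_bot_iff.2 (IntermediateField.algebraMap_mem ⊥ c),
        IntermediateField.mem_bot] at hy'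
      exact not_const_of_transcendental hy hy'
    have h := deg_poles hK.1 htr
    rw [IntermediateField.finrank_eq_one_iff_eq_top.2 hx] at h
    obtain ⟨P, hP, -⟩ := exists_single_of_deg_one hK (poles_nonneg (k := k) x) (by simpa using h)
    exact ⟨P, hP⟩

end Groth.Agent.S10994
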