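import Groth.Statements.S10995
import Groth.Agent.L26.FF.Clifford

set_option autoImplicit false
open FunFld

namespace Groth.Agent.S10995

open Groth.Agent.FF WithZero

/-- A function field of one variable has an element with pole divisor of degree `1` iff it is a rational
function field. -/
theorem result (k K : Type*) [Field k] [Field K] [Algebra k K]
    (hK : FunFld.IsFunctionField k K) :
    (∃ (x : K) (P : FunFld.Place k K), P.deg = 1 ∧ P.ord x = -1 ∧
        ∀ Q : FunFld.Place k K, Q ≠ P → 0 ≤ Q.ord x) ↔
      ∃ x : K, IntermediateField.adjoin k ({x} : Set K) = ⊤ := by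
  constructor
  · rintro ⟨x, P, hP, h1, h2⟩
    exact ⟨x, (adjoin_eq_top_of_simple_pole hK hP h1 h2).2⟩
  · rintro ⟨x, hx⟩
    have hg := genus_eq_zero_of_adjoin_eq_top hK hx
    have htr : Transcendental k x := by
      refine transcendental_of_not_const hK ?_
      rintro ⟨c, rfl⟩
      obtain ⟨y, hy⟩ := exists_transcendental hK
      have hy' : y ∈ IntermediateField.adjoin k ({algebraMap k K c} : Set K) := hx ▸ IntermediateField.mem_top
      rw [IntermediateField.adjoin_simple_eq_bot_iff.2 (IntermediateField.algebraMap_mem ⊥ c),
        IntermediateField.mem_bot] at hy'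
      exact not_const_of_transcendental hy hy'
    have h := deg_poles hK.1 htr
    rw [IntermediateField.finrank_eq_one_iff_eq_top.2 hx] at h
    obtain ⟨P, hP, hE⟩ := exists_single_of_deg_one hK (poles_nonneg (k := k) x) (by simpa using h)
    refine ⟨x, P, hP, ?_, fun Q hQ => ?_⟩
    · have := DFunLike.congr_fun hE P
      rw [poles_apply hK.1, Finsupp.single_eq_same] at this
      omega
    · have := DFunLike.congr_fun hE Q
      rw [poles_apply hK.1, Finsupp.single_eq_of_ne hQ] at this
      omega

end Groth.Agent.S10995
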