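import Groth.Statements.S10998
import Groth.Agent.L26.FF.GenusOne
import Mathlib.FieldTheory.Relrank

set_option autoImplicit false
open FunFld

namespace Groth.Agent.S10998

open Groth.Agent.FF WithZero

/-- A genus-one function field with a place `P₀` of degree one is `k(x, y)` with `x ∈ L(2P₀)`, `y ∈
L(3P₀)` of pole orders `2` and `3`, and `y² + f(x) y + g(x) = 0` for polynomials `f` of degree `≤ 1`
and `g` of degree `3`. -/
theorem result (k K : Type*) [Field k] [Field K] [Algebra k K]
    (hK : FunFld.IsFunctionField k K) (hg : FunFld.genus k K = 1) (P₀ : FunFld.Place k K) (hP : P₀.deg = 1) :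
    ∃ x y : K, x ∈ FunFld.L (Finsupp.single P₀ 2) ∧ y ∈ FunFld.L (Finsupp.single P₀ 3) ∧
      P₀.ord x = -2 ∧ P₀.ord y = -3 ∧
      IntermediateField.adjoin k ({x, y} : Set K) = ⊤ ∧
      ∃ f g : Polynomial k, f.natDegree ≤ 1 ∧ g.natDegree = 3 ∧
        y ^ 2 + Polynomial.aeval x f * y + Polynomial.aeval x g = 0 := by
  classical
  obtain ⟨x, hx, hx0, hx2⟩ := exists_exact_pole hK hg hP 2 le_rfl
  obtain ⟨y, hy, hy0, hy3⟩ := exists_exact_pole hK hg hP 3 (by norm_num)
  push_cast at hx hx2 hy hy3
  refine ⟨x, y, hx, hy, hx2, hy3, ?_, ?_⟩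
  · have hdeg : ∀ {z : K} {n : ℕ}, z ∈ FunFld.L (Finsupp.single P₀ (n : ℤ)) → P₀.ord z = -(n : ℤ) → 0 < n →
        Transcendental k z ∧ Module.finrank (IntermediateField.adjoin k ({z} : Set K)) K = n := by
      intro z n hz hzn hn
      have hz0 : z ≠ 0 := fun h => by rw [h, ord_zero] at hzn; omega
      have htr : Transcendental k z := transcendental_of_not_const hK (by
        rintro ⟨c, rfl⟩; rw [ord_const] at hzn; omega)
      refine ⟨htr, ?_⟩
      have hp : poles k z = Finsupp.single P₀ (n : ℤ) := Finsupp.ext fun R => by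
        rw [poles_apply hK.1, Finsupp.single_apply]
        split_ifs with h
        · subst h; omega
        · have := (mem_L_iff_ord hz0).1 hz R
          rw [Finsupp.single_eq_of_ne (Ne.symm h)] at this
          omega
      have := deg_poles hK.1 htr
      rw [hp, deg_single, hP] at this
      omega
    obtain ⟨-, h2⟩ := hdeg (n := 2) hx hx2 (by norm_num)
    obtain ⟨-, h3⟩ := hdeg (n := 3) hy hy3 (by norm_num)
    have hA : IntermediateField.adjoin k ({x} : Set K) ≤ IntermediateField.adjoin k ({x, y} : Set K) :=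
      IntermediateField.adjoin.mono k _ _ (by simp)
    have hB : IntermediateField.adjoin k ({y} : Set K) ≤ IntermediateField.adjoin k ({x, y} : Set K) :=
      IntermediateField.adjoin.mono k _ _ (by simp)
    have d2 : Module.finrank (IntermediateField.adjoin k ({x, y} : Set K)) K ∣ 2 :=
      ⟨_, (mul_comm _ _).trans ((IntermediateField.relfinrank_mul_finrank_top hA).trans h2) |>.symm⟩
    have d3 : Module.finrank (IntermediateField.adjoin k ({x, y} : Set K)) K ∣ 3 :=
      ⟨_, (mul_comm _ _).trans ((IntermediateField.relfinrank_mul_finrank_top hB).trans h3) |>.symm⟩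
    have := Nat.dvd_gcd d2 d3
    exact IntermediateField.finrank_eq_one_iff_eq_top.1 (Nat.dvd_one.1 (by simpa using this))
  · have hb := basis_two_three hK hg hP hx hx2 hy hy3 6 (by norm_num)
    have hy2 : y ^ 2 ∈ FunFld.L (Finsupp.single P₀ ((6 : ℕ) : ℤ)) := by
      have := mem_L_mul hK hy hy
      rw [← Finsupp.single_add] at this
      rw [pow_two]; exact this
    rw [← hb.2, Submodule.mem_span_range_iff_exists_fun, ] at hy2
    obtain ⟨c, hc⟩ := hy2
    rw [Fintype.sum_sum_type] at hc
    have hc' : c (Sum.inl 0) • (1 : K) + c (Sum.inl 1) • x + c (Sum.inl 2) • x ^ 2 + c (Sum.inl 3) • x ^ 3 +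
        (c (Sum.inr 0) • y + c (Sum.inr 1) • (x * y)) = y ^ 2 := by
      rw [← hc]
      show _ = ∑ i : Fin 4, c (Sum.inl i) • x ^ (i : ℕ) + ∑ i : Fin 2, c (Sum.inr i) • (x ^ (i : ℕ) * y)
      rw [Fin.sum_univ_four, Fin.sum_univ_two]
      simp
    have h3 : c (Sum.inl 3) ≠ 0 := fun h3 => by
      have hmem : y ^ 2 ∈ FunFld.L (Finsupp.single P₀ ((5 : ℕ) : ℤ)) := by
        rw [← (basis_two_three hK hg hP hx hx2 hy hy3 5 (by norm_num)).2,
          Submodule.mem_span_range_iff_exists_fun]
        refine ⟨Sum.elim (fun i : Fin 3 => c (Sum.inl i.castSucc)) (fun i : Fin 2 => c (Sum.inr i)), ?_⟩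
        rw [Fintype.sum_sum_type, ← hc', h3, zero_smul, add_zero]
        show ∑ i : Fin 3, c (Sum.inl i.castSucc) • x ^ (i : ℕ) + ∑ i : Fin 2, c (Sum.inr i) • (x ^ (i : ℕ) * y) = _
        rw [Fin.sum_univ_three, Fin.sum_univ_two]
        simp
      have := (mem_L_iff_ord (pow_ne_zero 2 hy0)).1 hmem P₀
      rw [Finsupp.single_eq_same, Groth.Agent.FF.ord_pow P₀ hy0, hy3] at this
      norm_num at this
    refine ⟨-(Polynomial.C (c (Sum.inr 1)) * Polynomial.X + Polynomial.C (c (Sum.inr 0))),
      -(Polynomial.C (c (Sum.inl 3)) * Polynomial.X ^ 3 + Polynomial.C (c (Sum.inl 2)) * Polynomial.X ^ 2 +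
        Polynomial.C (c (Sum.inl 1)) * Polynomial.X + Polynomial.C (c (Sum.inl 0))),
      by rw [Polynomial.natDegree_neg]; exact Polynomial.natDegree_linear_le,
      by rw [Polynomial.natDegree_neg]; exact Polynomial.natDegree_cubic h3, ?_⟩
    rw [← hc']
    simp only [map_neg, map_add, map_mul, map_pow, Polynomial.aeval_X, Polynomial.aeval_C, Algebra.smul_def]
    ring

end Groth.Agent.S10998
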