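import Groth.Statements.S10999
import Groth.Agent.L26.FF.Clifford

set_option autoImplicit false
open FunFld

namespace Groth.Agent.S10999

open Groth.Agent.FF WithZero

/-- In a genus-one function field with a place `P₀` of degree one, `P ↦ P - P₀` is a bijection from the
places of degree one onto the divisor classes of degree zero. The geometric description of the group
law is not stated. -/
theorem result (k K : Type*) [Field k] [Field K] [Algebra k K]
    (hK : FunFld.IsFunctionField k K) (hg : FunFld.genus k K = 1) (P₀ : FunFld.Place k K) (hP : P₀.deg = 1)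
    (D : FunFld.Divisor k K) (hD : D.deg = 0) :
    ∃! P : FunFld.Place k K, P.deg = 1 ∧
      ∃ x : K, x ≠ 0 ∧ D = Finsupp.single P 1 - Finsupp.single P₀ 1 + FunFld.div k x := by
  classical
  have hdeg : (D + Finsupp.single P₀ 1).deg = 1 := by rw [deg_add, hD, deg_single, hP]; norm_num
  have hell : (ell (D + Finsupp.single P₀ 1) : ℤ) = 1 := by
    rw [ell_eq_of_deg_ge hK (by rw [hdeg, hg]; norm_num), hdeg, hg]; norm_num
  obtain ⟨z, hz, hz0⟩ := exists_ne_zero_of_ell_pos (D := D + Finsupp.single P₀ 1) (by omega)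
  obtain ⟨P, hP1, hE⟩ := exists_single_of_deg_one hK ((mem_L_iff_div hK.1 hz0).1 hz)
    (by rw [deg_add, deg_div hK.1, hdeg]; norm_num)
  refine ⟨P, ⟨hP1, z⁻¹, inv_ne_zero hz0, ?_⟩, ?_⟩
  · rw [div_inv hK.1, ← hE]; abel
  · rintro P' ⟨hP1', x, hx, hx'⟩
    by_contra hne
    have h' : Finsupp.single P' 1 - Finsupp.single P 1 = FunFld.div k (z⁻¹ * x⁻¹) := by
      rw [div_mul hK.1 (inv_ne_zero hz0) (inv_ne_zero hx), div_inv hK.1, div_inv hK.1, ← hE, hx']; abel
    have h1 : P.ord (z⁻¹ * x⁻¹) = -1 := by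
      rw [← div_apply hK.1, ← h', Finsupp.sub_apply, Finsupp.single_eq_same,
        Finsupp.single_eq_of_ne (Ne.symm hne)]; norm_num
    have h2 : ∀ Q, Q ≠ P → 0 ≤ Q.ord (z⁻¹ * x⁻¹) := fun Q hQ => by
      rw [← div_apply hK.1, ← h', Finsupp.sub_apply, Finsupp.single_eq_of_ne hQ, sub_zero,
        Finsupp.single_apply]
      split_ifs <;> norm_num
    have := genus_eq_zero_of_adjoin_eq_top hK (adjoin_eq_top_of_simple_pole hK hP1 h1 h2).2
    omega

end Groth.Agent.S10999
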