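import Groth.Statements.S11000
import Mathlib.RingTheory.Polynomial.GaussLemma
import Mathlib.FieldTheory.PrimitiveElement
import Mathlib.RingTheory.TensorProduct.Free
import Mathlib.Algebra.Field.Equiv

set_option autoImplicit false
universe u v
open FunFld

namespace Groth.Agent.S11000

/-- Over a perfect ground field every function field of one variable is geometric (`k' ⊗_k K` is a field
for all finite `k'/k`). -/
theorem result (k : Type u) (K : Type v) [Field k] [Field K] [Algebra k K] [PerfectField k]
    (hK : FunFld.IsFunctionField k K) : FunFld.IsGeometric k K := by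
  classical
  intro k' _ _ hfin
  open TensorProduct Polynomial in
  obtain ⟨γ, hγ⟩ := Field.exists_primitive_element k k'
  set f := minpoly k γ with hf
  have hfm : f.Monic := minpoly.monic (Algebra.IsIntegral.isIntegral γ)
  have hfi : Irreducible f := minpoly.irreducible (Algebra.IsIntegral.isIntegral γ)
  set fK := f.map (algebraMap k K) with hfK
  have hpos : 0 < fK.natDegree := by rw [hfK, Polynomial.natDegree_map]; exact hfi.natDegree_pos
  have hirr : Irreducible fK := by
    refine ⟨fun h => hpos.ne' (Polynomial.natDegree_eq_zero_of_isUnit h), fun a b hab => ?_⟩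
    have ha0 : a ≠ 0 := fun h => (hfm.map (algebraMap k K)).ne_zero (by rw [← hfK, hab, h, zero_mul])
    have hdvd : a * Polynomial.C a.leadingCoeff⁻¹ ∣ fK :=
      ⟨b * Polynomial.C a.leadingCoeff, by
        rw [mul_mul_mul_comm, ← hab, ← Polynomial.C_mul, inv_mul_cancel₀ (Polynomial.leadingCoeff_ne_zero.2 ha0),
          Polynomial.C_1, mul_one]⟩
    obtain ⟨a0, ha0'⟩ := integralClosure.mem_lifts_of_monic_of_dvd_map K hfm
      (Polynomial.monic_mul_leadingCoeff_inv ha0) hdvd
    have hc : ∀ c : integralClosure k K, ∃ d : k, algebraMap k K d = c :=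
      fun c => hK.2 c.1 c.2.isAlgebraic
    obtain ⟨a1, ha1⟩ : a * Polynomial.C a.leadingCoeff⁻¹ ∈ Polynomial.lifts (algebraMap k K) := by
      rw [Polynomial.lifts_iff_coeff_lifts]
      intro i
      rw [← ha0', Polynomial.coe_mapRingHom, Polynomial.coeff_map]
      exact hc (a0.coeff i)
    rw [Polynomial.coe_mapRingHom] at ha1
    have hd1 : a1 ∣ f := (Polynomial.map_dvd_map' (algebraMap k K)).1 (ha1.symm ▸ hdvd)
    have hdeg : a1.natDegree = a.natDegree := by
      rw [← Polynomial.natDegree_map (algebraMap k K) (p := a1), ha1, Polynomial.natDegree_mul_C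
        (inv_ne_zero (Polynomial.leadingCoeff_ne_zero.2 ha0))]
    obtain ⟨c, hc⟩ := hd1
    have hb0 : b ≠ 0 := fun h => (hfm.map (algebraMap k K)).ne_zero (by rw [← hfK, hab, h, mul_zero])
    rcases hfi.isUnit_or_isUnit hc with h | h
    · left
      have := Polynomial.natDegree_eq_zero_of_isUnit h
      exact Polynomial.isUnit_iff_degree_eq_zero.2 (by rw [Polynomial.degree_eq_natDegree ha0]; exact_mod_cast hdeg ▸ this)
    · right
      have h2 := Polynomial.natDegree_eq_zero_of_isUnit h
      have hc0 : c ≠ 0 := h.ne_zero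
      have ha10 : a1 ≠ 0 := fun e => hfm.ne_zero (by rw [hc, e, zero_mul])
      have h3 : f.natDegree = a1.natDegree := by rw [hc, Polynomial.natDegree_mul ha10 hc0, h2, add_zero]
      have h4 : fK.natDegree = a.natDegree + b.natDegree := by rw [hab, Polynomial.natDegree_mul ha0 hb0]
      rw [hfK, Polynomial.natDegree_map] at h4
      exact Polynomial.isUnit_iff_degree_eq_zero.2 (by rw [Polynomial.degree_eq_natDegree hb0]; exact_mod_cast (show b.natDegree = 0 by omega))
  haveI := Fact.mk hirr
  have hroot : Polynomial.aeval (AdjoinRoot.root fK) f = 0 := by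
    rw [← Polynomial.aeval_map_algebraMap K]
    exact AdjoinRoot.aeval_eq fK ▸ AdjoinRoot.mk_self
  let pb : PowerBasis k k' := (IntermediateField.adjoin.powerBasis (Algebra.IsIntegral.isIntegral (R := k) γ)).map
    ((IntermediateField.equivOfEq hγ).trans IntermediateField.topEquiv)
  have hgen : pb.gen = γ := rfl
  let g : k' →ₐ[k] AdjoinRoot fK := pb.lift (AdjoinRoot.root fK) (by rw [hgen, ← hf]; exact hroot)
  let Ψ : TensorProduct k K k' →ₐ[K] AdjoinRoot fK :=
    Algebra.TensorProduct.lift (Algebra.ofId K (AdjoinRoot fK)) g fun _ _ => Commute.all _ _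
  have hsurj : Function.Surjective Ψ := by
    intro z
    have hz : z ∈ Algebra.adjoin K ({AdjoinRoot.root fK} : Set (AdjoinRoot fK)) :=
      AdjoinRoot.adjoinRoot_eq_top (f := fK) ▸ Algebra.mem_top
    obtain ⟨p, hp⟩ := Algebra.adjoin_singleton_eq_range_aeval K (AdjoinRoot.root fK) ▸ hz
    refine ⟨Polynomial.aeval (1 ⊗ₜ[k] γ : TensorProduct k K k') p, ?_⟩
    rw [← Polynomial.aeval_algHom_apply]
    have : Ψ (1 ⊗ₜ[k] γ) = AdjoinRoot.root fK := by
      simp only [Ψ, Algebra.TensorProduct.lift_tmul, map_one, one_mul]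
      rw [← hgen]
      exact pb.lift_gen _ _
    rw [this]
    exact hp
  have hrank : Module.finrank K (TensorProduct k K k') = Module.finrank K (AdjoinRoot fK) := by
    rw [Module.finrank_baseChange, (AdjoinRoot.powerBasis hirr.ne_zero).finrank, AdjoinRoot.powerBasis_dim,
      hfK, Polynomial.natDegree_map, pb.finrank]
    rfl
  haveI : Module.Finite K (AdjoinRoot fK) := (AdjoinRoot.powerBasis hirr.ne_zero).finite
  have hinj : Function.Injective Ψ :=
    (LinearMap.injective_iff_surjective_of_finrank_eq_finrank hrank (f := Ψ.toLinearMap)).2 hsurj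
  exact MulEquiv.isField (Field.toIsField (AdjoinRoot fK))
    (((Algebra.TensorProduct.comm k k' K).toMulEquiv).trans (AlgEquiv.ofBijective Ψ ⟨hinj, hsurj⟩).toMulEquiv)

end Groth.Agent.S11000
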