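import Groth.Statements.S11005
import Groth.Agent.L26.FF.Ext
import Mathlib.RingTheory.Flat.Basic
import Mathlib.RingTheory.TensorProduct.Finite
import Mathlib.RingTheory.IntegralClosure.Algebra.Basic

set_option autoImplicit false
universe u v
open FunFld

namespace Groth.Agent.S11005

open Groth.Agent.FF

/-- An intermediate field `K₀` of a geometric function field of one variable `K/k` that is
transcendental over `k` is again a geometric function field of one variable over `k`. -/
theorem result (k : Type u) (K : Type v) [Field k] [Field K] [Algebra k K]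
    (hK : FunFld.IsFunctionField k K) (hg : FunFld.IsGeometric k K) (K₀ : IntermediateField k K)
    (h₀ : ∃ x ∈ K₀, Transcendental k x) : FunFld.IsFunctionField k K₀ ∧ FunFld.IsGeometric k K₀ := by
  obtain ⟨x, hx₀, hx⟩ := h₀
  let xF : K₀ := ⟨x, hx₀⟩
  have hxF : Transcendental k xF := fun h => hx (h.algebraMap (A := K))
  have := finite_over_adjoin hK.1 (show Transcendental k (algebraMap K₀ K xF) from hx)
  have hpos : 0 < Module.finrank (IntermediateField.adjoin k ({xF} : Set K₀)) K₀ * Module.finrank K₀ K := by
    rw [← finrank_adjoin_map (k := k) (K := K₀) (K' := K) xF]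
    exact Module.finrank_pos
  refine ⟨⟨⟨xF, hxF, Module.finite_of_finrank_pos (Nat.pos_of_mul_pos_right hpos)⟩, fun y hy => ?_⟩, ?_⟩
  · obtain ⟨c, hc⟩ := hK.2 (y : K) (hy.algebraMap (A := K))
    exact ⟨c, Subtype.ext hc⟩
  intro k' _ _ hfin
  let f : TensorProduct k k' K₀ →ₐ[k] TensorProduct k k' K :=
    Algebra.TensorProduct.map (AlgHom.id k k') K₀.val
  have hf : Function.Injective f :=
    Module.Flat.lTensor_preserves_injective_linearMap (R := k) (M := k') K₀.val.toLinearMap
      Subtype.val_injective
  have hbig := (hg k' hfin).isDomain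
  have : IsDomain (TensorProduct k k' K₀) := hf.isDomain f.toRingHom
  let e : TensorProduct k k' K₀ ≃ₐ[k] TensorProduct k K₀ k' := Algebra.TensorProduct.comm k k' K₀
  have : IsDomain (TensorProduct k K₀ k') := e.symm.toRingEquiv.toMulEquiv.isDomain
  have : Module.Finite K₀ (TensorProduct k K₀ k') := inferInstance
  have h2 : IsField (TensorProduct k K₀ k') :=
    isField_of_isIntegral_of_isField' (R := K₀) (S := TensorProduct k K₀ k') (Field.toIsField K₀)
  exact e.toMulEquiv.isField h2

end Groth.Agent.S11005
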