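import Groth.Statements.S11006
import Groth.Agent.L26.FF.Ext
import Mathlib.LinearAlgebra.TensorProduct.Tower
import Mathlib.RingTheory.TensorProduct.Maps

set_option autoImplicit false
universe u v
open FunFld

namespace Groth.Agent.S11006

open scoped TensorProduct

/-- For `K/k` a geometric function field of one variable and `k'/k` finite, the field `K' = k' ⊗_k K` is
a geometric function field of one variable over `k'`: some element of `K'` is transcendental over
`k'` with `K'` of finite degree over the subfield it generates over `k'`, `k'` is algebraically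
closed in `K'`, and `K'` stays a field after tensoring over `k'` with any finite field extension of
`k'`. -/
theorem result (k k' : Type u) (K K' : Type v) [Field k] [Field k'] [Field K] [Field K']
    [Algebra k k'] [FiniteDimensional k k'] [Algebra k K] [Algebra K K'] [Algebra k' K'] [Algebra k K']
    [IsScalarTower k k' K'] [IsScalarTower k K K']
    (h : Function.Bijective (Algebra.TensorProduct.productMap
      (IsScalarTower.toAlgHom k k' K') (IsScalarTower.toAlgHom k K K')))
    (hK : FunFld.IsFunctionField k K) (hg : FunFld.IsGeometric k K) :
    FunFld.IsFunctionField k' K' ∧ FunFld.IsGeometric k' K' := by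
  classical
  let ψ : k' ⊗[k] K →ₐ[k'] K' :=
    { (Algebra.TensorProduct.productMap (IsScalarTower.toAlgHom k k' K') (IsScalarTower.toAlgHom k K K')).toRingHom with
      commutes' := fun c => by
        show Algebra.TensorProduct.productMap _ _ (c ⊗ₜ[k] (1 : K)) = _
        rw [Algebra.TensorProduct.productMap_apply_tmul, map_one, mul_one]
        rfl }
  let e : k' ⊗[k] K ≃ₐ[k'] K' := AlgEquiv.ofBijective ψ h
  have hgeo : FunFld.IsGeometric k' K' := by
    intro k'' _ _ hfin
    let : Algebra k k'' := ((algebraMap k' k'').comp (algebraMap k k')).toAlgebra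
    have : IsScalarTower k k' k'' := IsScalarTower.of_algebraMap_eq fun _ => rfl
    have : FiniteDimensional k k'' := FiniteDimensional.trans k k' k''
    exact MulEquiv.isField (hg k'' this)
      (((Algebra.TensorProduct.congr (AlgEquiv.refl : k'' ≃ₐ[k'] k'') e.symm).toMulEquiv).trans
        (Algebra.TensorProduct.cancelBaseChange k k' k'' k'' K).toMulEquiv)
  have hKK : FiniteDimensional K K' := by
    let b := Module.finBasis k k'
    refine Module.Finite.of_fg_top ⟨Finset.univ.image fun i => algebraMap k' K' (b i), ?_⟩
    rw [eq_top_iff]
    rintro z -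
    obtain ⟨w, rfl⟩ := h.2 z
    induction w using TensorProduct.induction_on with
    | zero => rw [map_zero]; exact zero_mem _
    | tmul a x =>
      rw [Algebra.TensorProduct.productMap_apply_tmul, mul_comm]
      show algebraMap K K' x * algebraMap k' K' a ∈ _
      rw [← b.sum_repr a, map_sum, Finset.mul_sum]
      refine Submodule.sum_mem _ fun i _ => ?_
      rw [Algebra.smul_def, map_mul, ← IsScalarTower.algebraMap_apply k k' K', IsScalarTower.algebraMap_apply k K K',
        ← mul_assoc, ← map_mul, ← Algebra.smul_def]
      exact Submodule.smul_mem _ _ (Submodule.subset_span (Finset.mem_image_of_mem _ (Finset.mem_univ i)))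
    | add a c ha hc => rw [map_add]; exact add_mem ha hc
  refine ⟨⟨?_, ?_⟩, hgeo⟩
  · obtain ⟨x, hx, hfin⟩ := Groth.Agent.FF.isFF_ext (K' := K') (Groth.Agent.FF.IsFF.of_isFunctionField hK)
    refine ⟨x, fun halg => hx ?_, ?_⟩
    · have : Algebra.IsAlgebraic k k' := Algebra.IsAlgebraic.of_finite k k'
      exact halg.restrictScalars k
    · have hle : IntermediateField.adjoin k ({x} : Set K') ≤ (IntermediateField.adjoin k' ({x} : Set K')).restrictScalars k :=
        IntermediateField.adjoin_le_iff.2 (IntermediateField.subset_adjoin k' _)
      let : Algebra (IntermediateField.adjoin k ({x} : Set K')) (IntermediateField.adjoin k' ({x} : Set K')) :=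
        (IntermediateField.inclusion hle).toRingHom.toAlgebra
      have : IsScalarTower (IntermediateField.adjoin k ({x} : Set K')) (IntermediateField.adjoin k' ({x} : Set K')) K' :=
        IsScalarTower.of_algebraMap_eq fun _ => rfl
      exact FiniteDimensional.right (IntermediateField.adjoin k ({x} : Set K')) _ K'
  · intro y hy
    by_contra hnot
    let k₀ := (IntermediateField.adjoin k' ({y} : Set K'))
    have hfin : FiniteDimensional k' k₀ := IntermediateField.adjoin.finiteDimensional hy.isIntegral
    -- transport `k₀` to the universe of `k'`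
    let B := Module.finBasis k' k₀
    let f := minpoly k' y
    have hf : Irreducible f := minpoly.irreducible hy.isIntegral
    have := Fact.mk hf
    let L := AdjoinRoot f
    have hfinL : FiniteDimensional k' L := (AdjoinRoot.powerBasis hf.ne_zero).finite
    have hfld : IsField (L ⊗[k'] K') := hgeo L hfinL
    let g : L →ₐ[k'] K' := AdjoinRoot.liftAlgHom f (Algebra.ofId k' K') y (minpoly.aeval k' y)
    let m : L ⊗[k'] K' →ₐ[k'] K' := Algebra.TensorProduct.productMap g (AlgHom.id k' K')
    have hgroot : g (AdjoinRoot.root f) = y := AdjoinRoot.liftAlgHom_root _ _ _ _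
    have heq : (AdjoinRoot.root f) ⊗ₜ[k'] (1 : K') = (1 : L) ⊗ₜ[k'] y := by
      let := hfld.toField
      exact m.toRingHom.injective (by simp [m, hgroot])
    have hroot : AdjoinRoot.root f ∉ Submodule.span k' ({(1 : L)} : Set L) := by
      rw [Submodule.mem_span_singleton]
      rintro ⟨c, hc⟩
      refine hnot ⟨c, ?_⟩
      rw [← hgroot, ← hc, map_smul, map_one, Algebra.algebraMap_eq_smul_one]
    obtain ⟨φ, hφy, hφ1⟩ := Submodule.exists_dual_map_eq_bot_of_notMem hroot inferInstance
    have h10 : φ 1 = 0 := by
      have := Submodule.mem_map_of_mem (f := φ) (Submodule.mem_span_singleton_self (1 : L))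
      rw [hφ1] at this
      exact (Submodule.mem_bot k').1 this
    have := congrArg (fun u => TensorProduct.lid k' K' (LinearMap.rTensor K' φ u)) heq
    simp only [LinearMap.rTensor_tmul, TensorProduct.lid_tmul, h10, zero_smul] at this
    exact hφy ((smul_eq_zero.1 this).resolve_right one_ne_zero)

end Groth.Agent.S11006
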