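import Groth.Statements.S1101
import Groth.Agent.Lead.FibreAssemble

set_option linter.style.haveILetI false
set_option backward.isDefEq.respectTransparency false
set_option backward.isDefEq.respectTransparency.types false
set_option backward.defeqAttrib.useBackward true


set_option autoImplicit false
universe u
open CategoryTheory CategoryTheory.Limits AlgebraicGeometry Opposite
attribute [local instance] HasDerivedCategory.standard
open Perf

namespace Groth.Agent.S1101

/-- Let f : X ⟶ S be flat and locally of finite presentation and E a pseudo-coherent object of D(O_X).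
Assume restrictions to opens are exact and the derived pullbacks to the fibres X_s exist. Then E is
S-perfect (locally of finite tor dimension over S in the flat-representative form) if and only if E
is locally bounded below on X and, for every s ∈ S, the derived pullback of E to the fibre X_s is
locally bounded below on X_s. -/
theorem result {X S : Scheme.{u}} (f : X ⟶ S) [Flat f] [LocallyOfFinitePresentation f]
    [∀ (Y : Scheme.{u}) (V : Y.Opens), PreservesFiniteLimits (Scheme.Modules.restrictFunctor V.ι)]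
    [∀ s : S, DCoh.HasLpull (f.fiberι s)]
    (E : DCoh.D X) (hE : ∀ m : ℤ, DCoh.IsPseudoCoherentD m E) :
    DCoh.LocHasFiniteRelTorDim f E ↔
      ((∀ x : X, ∃ (V : X.Opens) (a : ℤ), x ∈ V ∧ ((DCoh.restrictD V.ι).obj E).IsGE a) ∧
       ∀ (s : S) (y : ↥(f.fiber s)), ∃ (W : (f.fiber s).Opens) (a : ℤ), y ∈ W ∧
         ((DCoh.restrictD W.ι).obj ((DCoh.Lpull (f.fiberι s)).obj E)).IsGE a) := by

  obtain ⟨G, ⟨e⟩⟩ : ∃ G, Nonempty (DCoh.toD X G ≅ E) :=
    ⟨DerivedCategory.Q.objPreimage E, ⟨DerivedCategory.Q.objObjPreimageIso E⟩⟩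
  have hG : ∀ m, DCoh.IsPseudoCoherentD m (DCoh.toD X G) := fun m =>
    Groth.L29.DC.isPseudoCoherentD_of_iso e.symm (hE m)
  refine (Groth.Lead.RelTorStalk.locRel_iff f E G e).trans ⟨fun h => ⟨fun x => ?_, fun s y => ?_⟩, fun h => ?_⟩
  · obtain ⟨V, a, b, hx, hV⟩ := h x
    refine ⟨V, a, hx, Groth.Lead.FibreAssemble.isGE_of_stalk_zero V.ι E fun i hi y => ?_⟩
    letI : Algebra (S.presheaf.stalk (f (V.ι y))) (X.presheaf.stalk (V.ι y)) := (f.stalkMap (V.ι y)).hom.toAlgebra
    exact (Groth.Lead.SmoothAmp.isZero_homology_of_amp_res (A := S.presheaf.stalk (f (V.ι y)))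
      (Groth.Lead.SmoothStalk.stk (V.ι y) G) (hV _ y.2) i (Or.inl hi)).of_iso
      ((Groth.L00.Stk.F X (V.ι y)).mapIso ((DerivedCategory.homologyFunctor _ i).mapIso e.symm) ≪≫
        Groth.L29.DC.PerfDesc.stkQIso G i (V.ι y))
  · obtain ⟨V, a, b, hx, hV⟩ := h (f.fiberι s y)
    refine ⟨f.fiberι s ⁻¹ᵁ V, a, hx, Groth.Lead.FibreAssemble.isGE_of_stalk_zero _ _ fun i hi w => ?_⟩
    exact ((Groth.Lead.FibreBounded.fib_fiber_iff f s _ G a).2
      (Groth.Lead.FibreBounded.fib_of_amp f G _ a b (hV _ w.2)) i hi).of_iso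
      ((Groth.L00.Stk.F _ _).mapIso ((DerivedCategory.homologyFunctor _ i).mapIso
        ((DCoh.Lpull (f.fiberι s)).mapIso e.symm)))
  · refine Groth.Lead.FibreAssemble.locFinite_of_fib f G hG (fun x => ?_) fun x => ?_
    · obtain ⟨V, a, hx, hV⟩ := h.1 x
      haveI := hV
      exact ⟨V, a, hx, (DerivedCategory.TStructure.t.isGE_of_iso ((DCoh.restrictD V.ι).mapIso e.symm) a)⟩
    · obtain ⟨W, a, hy, hW⟩ := h.2 (f x) (f.asFiber x)
      refine ⟨a, ?_⟩
      have hfib := (Groth.Lead.FibreBounded.fib_fiber_iff f (f x) (f.asFiber x) G a).1 fun i hi =>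
        (Groth.Lead.FibreAssemble.stalk_zero_of_isGE W.ι _ hW i hi ⟨_, hy⟩).of_iso
          ((Groth.L00.Stk.F _ _).mapIso ((DerivedCategory.homologyFunctor _ i).mapIso
            ((DCoh.Lpull (f.fiberι (f x))).mapIso e)))
      rwa [f.fiberι_asFiber] at hfib

end Groth.Agent.S1101
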