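import Groth.Statements.S11010
import Groth.Agent.L26.FF.GeomSep
import Groth.Agent.L26.Res.Sep

set_option autoImplicit false
universe u v
open FunFld

namespace Groth.Agent.S11010

open Groth.Agent.FF Groth.Agent.Res
open IntermediateField

/-- A finite separable extension `K'/k'` of a geometric function field of one variable `K/k` (with `k'`
the constant field of `K'`) is again geometric. (The published statement has no separability
hypothesis on `K'/K`; for `k = 𝔽_p(s,t)`, `K = k(x)` and `K' = K(y)` with `y^p = s x^p + t`, the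
field `k` is algebraically closed in `K'` yet `k(s^{1/p}, t^{1/p}) ⊗_k K'` has nonzero nilpotents,
so `K'/K` is taken separable here.) -/
theorem result (k k' : Type u) (K K' : Type v) [Field k] [Field k'] [Field K] [Field K']
    [Algebra k k'] [Algebra k K] [Algebra K K'] [Algebra k' K'] [Algebra k K']
    [IsScalarTower k k' K'] [IsScalarTower k K K'] [FiniteDimensional K K'] [Algebra.IsSeparable K K']
    (hK : FunFld.IsFunctionField k K) (hg : FunFld.IsGeometric k K)
    (hK' : FunFld.IsFunctionField k' K') : FunFld.IsGeometric k' K' := by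
  obtain ⟨x, hx, hsep⟩ := exists_separating hK hg
  let x' : K' := algebraMap K K' x
  have hsK : Algebra.IsSeparable k⟮x⟯ K' := Algebra.IsSeparable.trans k⟮x⟯ K K'
  let φ : k⟮x⟯ →+* k'⟮x'⟯ := (algebraMap k⟮x⟯ K').codRestrict k'⟮x'⟯ fun a => by
    have h1 : (k⟮x⟯).map (IsScalarTower.toAlgHom k K K') ≤ (k'⟮x'⟯).restrictScalars k := by
      rw [adjoin_map, Set.image_singleton, adjoin_simple_le_iff]
      exact mem_adjoin_simple_self k' x'
    exact h1 ⟨a, a.2, rfl⟩
  let : Algebra k⟮x⟯ k'⟮x'⟯ := φ.toAlgebra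
  have : IsScalarTower k⟮x⟯ k'⟮x'⟯ K' := IsScalarTower.of_algebraMap_eq fun _ => rfl
  have : Algebra.IsSeparable k'⟮x'⟯ K' := Algebra.isSeparable_tower_top_of_isSeparable k⟮x⟯ k'⟮x'⟯ K'
  refine isGeometric_of_separating hK' (x := x') fun halg => ?_
  obtain ⟨z, hz, -⟩ := hK'.1
  have : Algebra.IsAlgebraic k' k'⟮x'⟯ := IntermediateField.isAlgebraic_adjoin_simple halg.isIntegral
  have : Algebra.IsAlgebraic k'⟮x'⟯ K' := Algebra.IsSeparable.isAlgebraic _ _
  exact hz ((Algebra.IsAlgebraic.trans k' k'⟮x'⟯ K').isAlgebraic z)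

end Groth.Agent.S11010
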