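import Groth.Statements.S11011
import Groth.Agent.L26.FF.ASChar2
import Mathlib.FieldTheory.PurelyInseparable.PerfectClosure

set_option autoImplicit false
universe u v
open FunFld

namespace Groth.Agent.S11011

open Groth.Agent.FF

/-- For a place `P` of a geometric function field of one variable `K/k` and a finite extension `k'/k`
with either `k'/k` or `F_P/k` purely inseparable, `P` has exactly one place of `k' ⊗_k K` above it. -/
theorem result (k k' : Type u) (K K' : Type v) [Field k] [Field k'] [Field K] [Field K']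
    [Algebra k k'] [FiniteDimensional k k'] [Algebra k K] [Algebra K K'] [Algebra k' K'] [Algebra k K']
    [IsScalarTower k k' K'] [IsScalarTower k K K']
    (h : Function.Bijective (Algebra.TensorProduct.productMap
      (IsScalarTower.toAlgHom k k' K') (IsScalarTower.toAlgHom k K K')))
    (hK : FunFld.IsFunctionField k K) (hg : FunFld.IsGeometric k K) (P : FunFld.Place k K)
    (hpi : IsPurelyInseparable k k' ∨ IsPurelyInseparable k (IsLocalRing.ResidueField P.O)) :
    ∃! Q : FunFld.Place k K', FunFld.IsOver Q P := by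
  classical
  -- `K'` is finite over `K`
  have hmem_span : ∀ z : K', z ∈ Submodule.span K (Set.range (algebraMap k' K')) := by
    intro z
    obtain ⟨w, rfl⟩ := h.2 z
    induction w using TensorProduct.induction_on with
    | zero => rw [map_zero]; exact zero_mem _
    | tmul a x =>
      rw [Algebra.TensorProduct.productMap_apply_tmul, mul_comm]
      show algebraMap K K' x * algebraMap k' K' a ∈ _
      rw [← Algebra.smul_def]
      exact Submodule.smul_mem _ _ (Submodule.subset_span ⟨a, rfl⟩)
    | add a c ha hc => rw [map_add]; exact add_mem ha hc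
  have hfin : FiniteDimensional K K' := by
    let b := Module.finBasis k k'
    refine Module.Finite.of_fg_top ⟨Finset.univ.image fun i => algebraMap k' K' (b i), top_le_iff.1 fun z _ => ?_⟩
    refine Submodule.span_le.2 ?_ (hmem_span z)
    rintro _ ⟨a, rfl⟩
    rw [← b.sum_repr a, map_sum]
    refine Submodule.sum_mem _ fun i _ => ?_
    rw [Algebra.smul_def, map_mul, ← IsScalarTower.algebraMap_apply k k' K', IsScalarTower.algebraMap_apply k K K',
      ← Algebra.smul_def]
    exact Submodule.smul_mem _ _ (Submodule.subset_span (Finset.mem_image_of_mem _ (Finset.mem_univ i)))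
  obtain ⟨Q₀, e₀, he₀⟩ := AS2.exists_over (K := K') hK P
  refine ⟨Q₀, ⟨e₀, he₀⟩, fun Q hQ => ?_⟩
  obtain ⟨q, hq⟩ := ExpChar.exists k
  have : ExpChar K q := expChar_of_injective_algebraMap (algebraMap k K).injective q
  have : ExpChar K' q := expChar_of_injective_algebraMap (algebraMap k K').injective q
  have : ExpChar k' q := expChar_of_injective_algebraMap (algebraMap k k').injective q
  have hqpos : 0 < q := expChar_pos k q
  -- the value of a power decides the place
  suffices key : ∀ z : K', ∃ (n : ℕ) (good : Prop), ∀ R : FunFld.Place k K', FunFld.IsOver R P →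
      (R.1 (z ^ q ^ n) ≤ 1 ↔ good) by
    refine eq_of_le fun z hz => ?_
    obtain ⟨n, good, hn⟩ := key z
    have h1 : Q.1 (z ^ q ^ n) ≤ 1 := by rw [map_pow]; exact pow_le_one₀ zero_le hz
    have h2 := (hn Q₀ ⟨e₀, he₀⟩).2 ((hn Q hQ).1 h1)
    rw [map_pow] at h2
    exact (pow_le_one_iff (pow_pos hqpos n).ne').1 h2
  -- reduction of powers to a separable subfield
  intro z
  rcases hpi with hpi | hpi
  · obtain ⟨m, hm⟩ : ∃ m : ℕ, ∀ a : k', a ^ q ^ m ∈ (algebraMap k k').range := by
      let b := Module.finBasis k k'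
      choose m hm using fun i => IsPurelyInseparable.pow_mem k q (b i)
      refine ⟨Finset.univ.sup m, fun a => ?_⟩
      rw [← b.sum_repr a, sum_pow_char_pow]
      refine Subring.sum_mem _ fun i _ => ?_
      rw [Algebra.smul_def, mul_pow]
      refine Subring.mul_mem _ (Subring.pow_mem _ (RingHom.mem_range_self _ _) _) ?_
      obtain ⟨r, hr⟩ := Nat.exists_eq_add_of_le (Finset.le_sup (f := m) (Finset.mem_univ i))
      rw [hr, pow_add, pow_mul]
      exact Subring.pow_mem _ (hm i) _
    have hz := hmem_span z
    obtain ⟨w, hw⟩ : ∃ w : K, z ^ q ^ m = algebraMap K K' w := by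
      refine Submodule.span_induction (p := fun z _ => ∃ w : K, z ^ q ^ m = algebraMap K K' w) ?_ ?_ ?_ ?_ hz
      · rintro _ ⟨a, rfl⟩
        obtain ⟨c, hc⟩ := hm a
        exact ⟨algebraMap k K c, by rw [← map_pow, ← hc, ← IsScalarTower.algebraMap_apply, ← IsScalarTower.algebraMap_apply]⟩
      · exact ⟨0, by rw [map_zero, zero_pow (pow_pos hqpos m).ne']⟩
      · rintro u v _ _ ⟨a, ha⟩ ⟨c, hc⟩
        exact ⟨a + c, by rw [add_pow_expChar_pow, ha, hc, map_add]⟩
      · rintro r u _ ⟨a, ha⟩
        exact ⟨r ^ q ^ m * a, by rw [Algebra.smul_def, mul_pow, ha, map_mul, map_pow]⟩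
    exact ⟨m, P.1 w ≤ 1, fun R ⟨e, he⟩ => by rw [hw]; exact he.le_one_iff w⟩
  · let ks := separableClosure k k'
    obtain ⟨m, hm⟩ : ∃ m : ℕ, ∀ a : k', a ^ q ^ m ∈ (algebraMap ks k').range := by
      have : ExpChar ks q := expChar_of_injective_algebraMap (algebraMap k ks).injective q
      have : IsPurelyInseparable ks k' := separableClosure.isPurelyInseparable k k'
      let b := Module.finBasis k k'
      choose m hm using fun i => IsPurelyInseparable.pow_mem ks q (b i)
      refine ⟨Finset.univ.sup m, fun a => ?_⟩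
      rw [← b.sum_repr a, sum_pow_char_pow]
      refine Subring.sum_mem _ fun i _ => ?_
      rw [Algebra.smul_def, mul_pow, IsScalarTower.algebraMap_apply k ks k']
      refine Subring.mul_mem _ (Subring.pow_mem _ (RingHom.mem_range_self _ _) _) ?_
      obtain ⟨r, hr⟩ := Nat.exists_eq_add_of_le (Finset.le_sup (f := m) (Finset.mem_univ i))
      rw [hr, pow_add, pow_mul]
      exact Subring.pow_mem _ (hm i) _
    let bs := Module.finBasis k ks
    let β : Fin (Module.finrank k ks) → K' := fun j => algebraMap k' K' (bs j : k')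
    have hw : z ^ q ^ m ∈ Submodule.span K (Set.range β) := by
      refine Submodule.span_induction (p := fun z _ => z ^ q ^ m ∈ Submodule.span K (Set.range β)) ?_ ?_ ?_ ?_ (hmem_span z)
      · rintro _ ⟨a, rfl⟩
        obtain ⟨c, hc⟩ := hm a
        rw [← map_pow, ← hc, ← bs.sum_repr c, map_sum, map_sum]
        refine Submodule.sum_mem _ fun j _ => ?_
        rw [show algebraMap ks k' (bs.repr c j • bs j) = algebraMap k k' (bs.repr c j) * (bs j : k') from
          Algebra.smul_def (bs.repr c j) ((bs j : k')), map_mul,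
          ← IsScalarTower.algebraMap_apply k k' K', IsScalarTower.algebraMap_apply k K K', ← Algebra.smul_def]
        exact Submodule.smul_mem _ _ (Submodule.subset_span ⟨j, rfl⟩)
      · rw [zero_pow (pow_pos hqpos m).ne']; exact zero_mem _
      · intro u v _ _ ha hc
        rw [add_pow_expChar_pow]; exact add_mem ha hc
      · intro r u _ ha
        rw [Algebra.smul_def, mul_pow, ← map_pow, ← Algebra.smul_def]; exact Submodule.smul_mem _ _ ha
    obtain ⟨x, hx⟩ := Submodule.mem_span_range_iff_exists_fun K |>.1 hw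
    refine ⟨m, ∀ j, P.1 (x j) ≤ 1, fun R ⟨e, he⟩ => ?_⟩
    rw [← hx]
    have hβ : ∀ j, R.1 (β j) ≤ 1 := fun j => by
      rcases eq_or_ne ((bs j : k')) 0 with h0 | h0
      · simp [β, h0]
      obtain ⟨p, hp1, hp2⟩ : ∃ p : Polynomial k, p.Monic ∧ Polynomial.aeval (β j) p = 0 :=
        ⟨minpoly k (bs j : k'), minpoly.monic (.of_finite k _), by
          show Polynomial.aeval (algebraMap k' K' (bs j : k')) _ = 0
          rw [Polynomial.aeval_algebraMap_apply, minpoly.aeval, map_zero]⟩
      have hne : β j ≠ 0 := (_root_.map_ne_zero _).2 h0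
      exact (val_le_one_iff R hne).2 (ord_algebraic ⟨p, hp1.ne_zero, hp2⟩ R).ge
    have hsum_le : ∀ y : Fin (Module.finrank k ks) → K, (∀ j, P.1 (y j) ≤ 1) → R.1 (∑ j, y j • β j) ≤ 1 := fun y hy =>
      R.1.map_sum_le fun j _ => by
        rw [Algebra.smul_def, map_mul]
        exact Left.mul_le_one ((he.le_one_iff _).2 (hy j)) (hβ j)
    refine ⟨fun hle => ?_, fun hall => hsum_le x hall⟩
    by_contra hnot
    push Not at hnot
    obtain ⟨i₀, hi₀⟩ := hnot
    obtain ⟨i, -, hi⟩ := Finset.exists_max_image Finset.univ (fun j => P.1 (x j)) ⟨i₀, Finset.mem_univ _⟩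
    have hxi : 1 < P.1 (x i) := hi₀.trans_le (hi i₀ (Finset.mem_univ _))
    have hxi0 : x i ≠ 0 := fun h0 => by rw [h0, map_zero] at hxi; exact not_lt.2 zero_le hxi
    let y : Fin (Module.finrank k ks) → K := fun j => x j / x i
    have hy : ∀ j, P.1 (y j) ≤ 1 := fun j => by
      rw [map_div₀]; exact div_le_one_of_le₀ (hi j (Finset.mem_univ _)) zero_le
    -- residues of the coefficients become constants after a power
    have : IsPurelyInseparable k (IsLocalRing.ResidueField P.O) := hpi
    choose ny hny using fun j => IsPurelyInseparable.pow_mem k q (resMap P ⟨y j, hy j⟩)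
    set N := Finset.univ.sup ny with hN
    have hconst : ∀ j, ∃ a : k, P.1 (y j ^ q ^ N - algebraMap k K a) < 1 ∧ (j = i → a = 1) := fun j => by
      by_cases hj : j = i
      · exact ⟨1, by simp [y, hj, div_self hxi0], fun _ => rfl⟩
      obtain ⟨c, hc⟩ := hny j
      obtain ⟨r, hr⟩ := Nat.exists_eq_add_of_le (Finset.le_sup (f := ny) (Finset.mem_univ j))
      refine ⟨c ^ q ^ r, ?_, fun h' => absurd h' hj⟩
      let Y : P.O := ⟨y j, hy j⟩
      have h0 : resMap P (Y ^ q ^ N - algebraMap k P.O (c ^ q ^ r)) = 0 := by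
        rw [map_sub, map_pow, AlgHom.commutes, hN, hr, pow_add, pow_mul, ← hc, map_pow, sub_self]
      exact (residue_eq_zero P _).1 h0
    choose a ha ha1 using hconst
    -- the leading combination is a unit
    let β' : Fin (Module.finrank k ks) → ks := fun j => bs j ^ q ^ N
    have hli : LinearIndependent k β' := bs.linearIndependent.map_pow_expChar_pow_of_isSeparable q N
    let c : ks := ∑ j, a j • β' j
    have hc0 : c ≠ 0 := fun h0 => by
      have := Fintype.linearIndependent_iff.1 hli a h0 i
      rw [ha1 i rfl] at this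
      exact one_ne_zero this
    have hcK : algebraMap k' K' (c : k') = ∑ j, algebraMap K K' (algebraMap k K (a j)) * β j ^ q ^ N := by
      simp only [c, AddSubmonoidClass.coe_finsetSum, map_sum]
      refine Finset.sum_congr rfl fun j _ => ?_
      rw [show ((a j • β' j : ks) : k') = algebraMap k k' (a j) * (bs j : k') ^ q ^ N from
        Algebra.smul_def (a j) ((bs j : k') ^ q ^ N), map_mul, map_pow, ← IsScalarTower.algebraMap_apply,
        ← IsScalarTower.algebraMap_apply]
    have hc1 : R.1 (algebraMap k' K' (c : k')) = 1 := by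
      have hne : algebraMap k' K' (c : k') ≠ 0 := (_root_.map_ne_zero _).2 fun h0 => hc0 (Subtype.ext h0)
      refine (val_eq_one_iff R hne).2 (ord_algebraic ?_ R)
      exact ((Algebra.IsAlgebraic.isAlgebraic (R := k) (c : k')).algebraMap)
    have hsum : R.1 ((∑ j, y j • β j) ^ q ^ N - algebraMap k' K' (c : k')) < 1 := by
      rw [sum_pow_char_pow, hcK, ← Finset.sum_sub_distrib]
      refine R.1.map_sum_lt one_ne_zero fun j _ => ?_
      rw [Algebra.smul_def, mul_pow, ← sub_mul, ← map_pow, ← map_sub, map_mul, map_pow R.1]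
      exact (mul_le_of_le_one_right' (pow_le_one₀ zero_le (hβ j))).trans_lt ((he.lt_one_iff _).2 (ha j))
    have hunit : R.1 (∑ j, y j • β j) = 1 := by
      have h1 := R.1.map_add_eq_of_lt_left (x := algebraMap k' K' (c : k')) (hsum.trans_eq hc1.symm)
      rw [add_sub_cancel, hc1, map_pow] at h1
      exact (pow_eq_one_iff_of_nonneg zero_le (pow_pos hqpos N).ne').1 h1
    have hscale : ∑ j, x j • β j = algebraMap K K' (x i) * ∑ j, y j • β j := by
      rw [Finset.mul_sum]
      refine Finset.sum_congr rfl fun j _ => ?_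
      rw [Algebra.smul_def, Algebra.smul_def, ← mul_assoc, ← map_mul, mul_div_cancel₀ _ hxi0]
    rw [hscale, map_mul, hunit, mul_one, he.le_one_iff] at hle
    exact not_lt.2 hle hxi

end Groth.Agent.S11011
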