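import Groth.Statements.S11012
import Groth.Agent.L26.FF.AlmostUnramified
import Mathlib.RingTheory.Discriminant
import Mathlib.RingTheory.Adjoin.PowerBasis

set_option autoImplicit false
universe u v
open FunFld

namespace Groth.Agent.S11012

/-- Under a finite separable constant extension `k'/k` of a geometric function field of one variable,
the integral closure of `O_P` in `k' ⊗_k K` is `k' ⊗_k O_P` and every place above `P` has
ramification index `1`. -/
theorem result (k k' : Type u) (K K' : Type v) [Field k] [Field k'] [Field K] [Field K']
    [Algebra k k'] [FiniteDimensional k k'] [Algebra k K] [Algebra K K'] [Algebra k' K'] [Algebra k K']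
    [IsScalarTower k k' K'] [IsScalarTower k K K']
    (h : Function.Bijective (Algebra.TensorProduct.productMap
      (IsScalarTower.toAlgHom k k' K') (IsScalarTower.toAlgHom k K K')))
    (hK : FunFld.IsFunctionField k K) (hg : FunFld.IsGeometric k K) [Algebra.IsSeparable k k']
    (P : FunFld.Place k K) [Algebra P.O K'] [IsScalarTower P.O K K']
    (Q : FunFld.Place k K') (hQ : FunFld.IsOver Q P) :
    (integralClosure P.O K').toSubring =
      (Algebra.adjoin P.O (Set.range (algebraMap k' K'))).toSubring ∧
    FunFld.IsOverWith Q P 1 := by
  classical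
  open Groth.Agent.FF in
  obtain ⟨α, hα⟩ := Field.exists_primitive_element k k'
  set θ : K' := algebraMap k' K' α with hθdef
  have hαint : IsIntegral k α := Algebra.IsIntegral.isIntegral α
  have hk' : ∀ c : k', algebraMap k' K' c ∈ Algebra.adjoin k ({θ} : Set K') := by
    intro c
    have hc : c ∈ (IntermediateField.adjoin k {α}).toSubalgebra := hα ▸ IntermediateField.mem_top
    rw [IntermediateField.adjoin_simple_toSubalgebra_of_isAlgebraic hαint.isAlgebraic] at hc
    have := (Subalgebra.mem_map (f := IsScalarTower.toAlgHom k k' K')).2 ⟨c, hc, rfl⟩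
    rwa [AlgHom.map_adjoin_singleton] at this
  have hθint : IsIntegral k θ := hαint.algebraMap
  have htop : Algebra.adjoin K ({θ} : Set K') = ⊤ := by
    refine Algebra.eq_top_iff.2 fun z => ?_
    obtain ⟨w, rfl⟩ := h.2 z
    induction w using TensorProduct.induction_on with
    | zero => simp
    | tmul a b =>
      rw [Algebra.TensorProduct.productMap_apply_tmul]
      refine mul_mem ?_ (Subalgebra.algebraMap_mem _ b)
      have hle : Algebra.adjoin k ({θ} : Set K') ≤ (Algebra.adjoin K ({θ} : Set K')).restrictScalars k :=
        Algebra.adjoin_le Algebra.subset_adjoin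
      exact hle (hk' a)
    | add a b ha hb => rw [map_add]; exact add_mem ha hb
  have hθK : IsIntegral K θ := hθint.tower_top
  let B : PowerBasis K K' := PowerBasis.ofAdjoinEqTop hθK htop
  have hBgen : B.gen = θ := PowerBasis.ofAdjoinEqTop_gen hθK htop
  have := B.finite
  have hkk : Algebra.IsSeparable k k' := inferInstance
  have hsepθ : IsSeparable k θ := (Algebra.IsSeparable.isSeparable k α).map (f := IsScalarTower.toAlgHom k k' K') (algebraMap k' K').injective
  have hsep : Algebra.IsSeparable K K' := by
    have h1 : IntermediateField.adjoin K ({θ} : Set K') = ⊤ := by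
      apply IntermediateField.toSubalgebra_injective
      rw [IntermediateField.adjoin_simple_toSubalgebra_of_isAlgebraic hθK.isAlgebraic, htop]
      rfl
    have h2 := (IntermediateField.isSeparable_adjoin_simple_iff_isSeparable (F := K) (E := K')).2 (hsepθ.tower_top K)
    rw [h1] at h2
    exact AlgEquiv.Algebra.isSeparable IntermediateField.topEquiv
  have hkO : ∀ c : k, algebraMap k K c ∈ P.O := P.2.1
  have halgO : ∀ z : K', IsIntegral k z → IsIntegral P.O z := by
    intro z hz
    obtain ⟨p, hp, hp'⟩ := hz
    refine ⟨p.map ((algebraMap k K).codRestrict P.O.toSubring hkO), hp.map _, ?_⟩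
    rw [Polynomial.eval₂_map, show (algebraMap P.O K').comp ((algebraMap k K).codRestrict P.O.toSubring hkO) = algebraMap k K' from
      RingHom.ext fun c => by
        rw [RingHom.comp_apply, IsScalarTower.algebraMap_apply P.O K K']
        exact (IsScalarTower.algebraMap_apply k K K' c).symm]
    exact hp'
  constructor
  · apply le_antisymm
    · intro z hz
      have hd := Algebra.discr_mul_isIntegral_mem_adjoin (R := P.O) K (B := B) (z := z)
        (hBgen ▸ halgO θ hθint) hz
      have hdk : IsIntegral k (Algebra.discr K B.basis) := Algebra.discr_isIntegral K fun i => by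
        rw [B.coe_basis, hBgen]; exact hθint.pow _
      obtain ⟨d, hd'⟩ := hK.2 _ hdk.isAlgebraic
      have hd0 : d ≠ 0 := fun h0 => Algebra.discr_not_zero_of_basis K B.basis (by rw [← hd', h0, map_zero])
      have hmem := mul_mem (Subalgebra.algebraMap_mem (Algebra.adjoin P.O ({B.gen} : Set K'))
        (⟨algebraMap k K d⁻¹, hkO _⟩ : P.O)) hd
      rw [IsScalarTower.algebraMap_apply P.O K K', Algebra.smul_def, ← mul_assoc, ← map_mul, ← hd',
        show ((algebraMap P.O K) ⟨algebraMap k K d⁻¹, hkO _⟩) = algebraMap k K d⁻¹ from rfl, ← map_mul,
        inv_mul_cancel₀ hd0, map_one, map_one, one_mul, hBgen] at hmem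
      exact (Algebra.adjoin_mono (R := P.O) (Set.singleton_subset_iff.2 (Set.mem_range_self α))) hmem
    · intro z hz
      have hle : Algebra.adjoin P.O (Set.range (algebraMap k' K')) ≤ integralClosure P.O K' := by
        refine Algebra.adjoin_le ?_
        rintro _ ⟨c, rfl⟩
        exact halgO _ (Algebra.IsIntegral.isIntegral c).algebraMap
      exact hle hz
  · open Groth.Agent.FF in
    obtain ⟨e, he⟩ := hQ
    have hE : e = 1 := by
      set f := minpoly k α
      let ψ : k →+* P.O := (algebraMap k K).codRestrict P.O.toSubring hkO
      have hev : ∀ g : Polynomial k, (g.map ψ).eval₂ ((algebraMap K K').comp P.O.subtype) θ = algebraMap k' K' (Polynomial.aeval α g) := by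
        intro g
        rw [Polynomial.eval₂_map, ← Polynomial.aeval_algebraMap_apply]
        show Polynomial.eval₂ _ θ g = Polynomial.eval₂ _ θ g
        congr 1
        ext c
        exact (IsScalarTower.algebraMap_apply k K K' c).symm
      refine ram_eq_one_of_monic_separable_residue he (θ := θ) ?_ (f.map ψ) ((minpoly.monic hαint).map _)
        (by rw [hev, minpoly.aeval, map_zero]) ?_
      · apply IntermediateField.toSubalgebra_injective
        rw [IntermediateField.adjoin_simple_toSubalgebra_of_isAlgebraic hθK.isAlgebraic, htop]
        rfl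
      · rw [Polynomial.derivative_map, hev]
        set w := algebraMap k' K' (Polynomial.aeval α f.derivative)
        have hw0 : w ≠ 0 := (_root_.map_ne_zero _).2
          ((Algebra.IsSeparable.isSeparable k α).aeval_derivative_ne_zero (minpoly.aeval k α))
        have hwalg : IsAlgebraic k w := ((Algebra.IsIntegral.isIntegral _).algebraMap).isAlgebraic
        rcases lt_trichotomy (Q.1 w) 1 with hlt | heq | hgt
        · exact absurd hwalg (transcendental_of_val_lt_one Q hw0 hlt)
        · exact heq
        · exact absurd hwalg.inv (transcendental_of_val_lt_one Q (inv_ne_zero hw0)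
            (by rw [map_inv₀]; exact inv_lt_one_of_one_lt₀ hgt))
    exact hE ▸ he

end Groth.Agent.S11012
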