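import Groth.Statements.S11014
import Groth.Agent.L26.FF.HyperGenus

set_option autoImplicit false
open FunFld

namespace Groth.Agent.S11014

open scoped IntermediateField
theorem exists_ratFuncAlg {k K : Type*} [Field k] [Field K] [Algebra k K] {x : K} (hx : Transcendental k x) :
    ∃ (i : Algebra (RatFunc k) K), IsScalarTower k (RatFunc k) K ∧
      ∀ p : Polynomial k, algebraMap (RatFunc k) K (algebraMap (Polynomial k) (RatFunc k) p) = Polynomial.aeval x p := by
  have hinj : Function.Injective (Polynomial.aeval x : Polynomial k →ₐ[k] K) := transcendental_iff_injective.1 hx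
  let ρ := RatFunc.liftAlgHom (Polynomial.aeval x : Polynomial k →ₐ[k] K)
    (fun p hp => mem_nonZeroDivisors_of_ne_zero ((map_ne_zero_iff _ hinj).2 (nonZeroDivisors.ne_zero hp)))
  let : Algebra (RatFunc k) K := ρ.toAlgebra
  refine ⟨‹_›, IsScalarTower.of_algebraMap_eq fun c => (ρ.commutes c).symm, fun p => ?_⟩
  show ρ (algebraMap _ _ p) = _
  simpa using RatFunc.liftAlgHom_apply_div' (Polynomial.aeval x : Polynomial k →ₐ[k] K) _ p 1

/-- For `char k ≠ 2` and `K = k(x, y)` with `y² = f(x)`, `f` squarefree of degree `d ≥ 1`, the genus is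
`(d - 2)/2` for `d` even and `(d - 1)/2` for `d` odd. -/
theorem result (k K : Type*) [Field k] [Field K] [Algebra k K]
    (hK : FunFld.IsFunctionField k K) (h2 : ringChar k ≠ 2) (x y : K) (hx : Transcendental k x)
    (hxy : IntermediateField.adjoin k ({x, y} : Set K) = ⊤)
    (f : Polynomial k) (hf : Squarefree f) (hd : 1 ≤ f.natDegree)
    (heq : y ^ 2 = Polynomial.aeval x f) :
    FunFld.genus k K = (f.natDegree - 1) / 2 := by
  obtain ⟨i, hT, hι⟩ := exists_ratFuncAlg hx
  have hX : algebraMap (RatFunc k) K (RatFunc.X : RatFunc k) = x := by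
    rw [← RatFunc.algebraMap_X, hι, Polynomial.aeval_X]
  have heq' : y ^ 2 = algebraMap (RatFunc k) K (algebraMap (Polynomial k) (RatFunc k) f) := by rw [hι, heq]
  have hyr : y ∉ Set.range (algebraMap (RatFunc k) K) := by
    rintro ⟨r, hr⟩
    exact Groth.Agent.FF.not_sq hf hd r ((algebraMap (RatFunc k) K).injective (by rw [map_pow, hr, heq']))
  have htop : IntermediateField.adjoin (RatFunc k) ({y} : Set K) = ⊤ := by
    refine eq_top_iff.2 fun z _ => ?_
    have hle : IntermediateField.adjoin k ({x, y} : Set K) ≤
        (IntermediateField.adjoin (RatFunc k) ({y} : Set K)).restrictScalars k := by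
      rw [IntermediateField.adjoin_le_iff]
      rintro w (rfl | rfl)
      · rw [← hX]; exact (IntermediateField.adjoin (RatFunc k) ({y} : Set K)).algebraMap_mem _
      · exact IntermediateField.mem_adjoin_simple_self (RatFunc k) w
    rw [hxy] at hle
    exact hle (IntermediateField.mem_top (x := z))
  have hmin : minpoly (RatFunc k) y = Polynomial.X ^ 2 - Polynomial.C (algebraMap (Polynomial k) (RatFunc k) f) :=
    (minpoly.eq_of_irreducible_of_monic (X_pow_sub_C_irreducible_of_prime Nat.prime_two (Groth.Agent.FF.not_sq hf hd))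
      (by simp [heq']) (Polynomial.monic_X_pow_sub_C _ two_ne_zero)).symm
  have hint : IsIntegral (RatFunc k) y := IsIntegral.of_pow two_pos (heq' ▸ isIntegral_algebraMap)
  have hdeg : Module.finrank (RatFunc k) K = 2 := by
    rw [← IntermediateField.finrank_top', ← htop, IntermediateField.adjoin.finrank hint, hmin,
      Polynomial.natDegree_X_pow_sub_C]
  exact Groth.Agent.FF.genus_hyperelliptic h2 hdeg hf hd heq'

end Groth.Agent.S11014
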