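import Groth.Statements.S11016
import Groth.Agent.L26.FF.Clifford

set_option autoImplicit false
open FunFld

namespace Groth.Agent.S11016

open Groth.Agent.FF WithZero

/-- `L(D) ≠ 0` iff there is an effective divisor linearly equivalent to `D`. -/
theorem result (k K : Type*) [Field k] [Field K] [Algebra k K]
    (hK : FunFld.IsFunctionField k K) (D : FunFld.Divisor k K) :
    FunFld.L D ≠ ⊥ ↔ ∃ x : K, x ≠ 0 ∧ 0 ≤ D + FunFld.div k x := by
  rw [Submodule.ne_bot_iff]
  constructor
  · rintro ⟨x, hx, hx0⟩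
    exact ⟨x, hx0, by rw [add_comm]; exact (mem_L_iff_div hK.1 hx0).1 hx⟩
  · rintro ⟨x, hx0, hx⟩
    exact ⟨x, (mem_L_iff_div hK.1 hx0).2 (by rw [add_comm]; exact hx), hx0⟩

end Groth.Agent.S11016
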