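import Groth.Statements.S11017
import Groth.Agent.L26.FF.Clifford

set_option autoImplicit false
open FunFld

namespace Groth.Agent.S11017

open Groth.Agent.FF WithZero

/-- For a Weil differential `ω` with divisor `C`, `ord_P [ω] ≥ e` iff `ω` kills every repartition
concentrated at `P` with `P`-component of order at least `-e`. -/
theorem result (k K : Type*) [Field k] [Field K] [Algebra k K] (ω : Module.Dual k (FunFld.adele k K)) (C : FunFld.Divisor k K) (hω : FunFld.IsDivOf ω C)
    (P : FunFld.Place k K) (e : ℤ) :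
    e ≤ C P ↔ ∀ (a : FunFld.Place k K → K) (ha : a ∈ FunFld.adele k K),
      (∀ Q, Q ≠ P → a Q = 0) → P.1 (a P) ≤ WithZero.exp e → ω ⟨a, ha⟩ = 0 := by
  classical
  have hC := (mem_WD (ω := ω)).1 ((hω C).2 le_rfl)
  constructor
  · intro he a ha h0 hP
    refine hC ⟨a, ha⟩ (Submodule.mem_sup_left (mem_AD.2 fun Q => ?_))
    by_cases hQ : Q = P
    · subst hQ; exact hP.trans (exp_le_exp.2 he)
    · show Q.1 (a Q) ≤ _
      rw [h0 Q hQ, map_zero]; exact zero_le
  · intro h
    by_contra hlt
    push Not at hlt
    let E : FunFld.Divisor k K := C + Finsupp.single P (e - C P)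
    have hEP : E P = e := by simp [E]
    have hE : ω ∈ FunFld.WD E := by
      refine mem_WD.2 fun a ha => ?_
      obtain ⟨b, hb, c, hc, hbc⟩ := Submodule.mem_sup.1 ha
      let b1 : FunFld.Place k K → K := fun Q => if Q = P then b Q else 0
      have hb1 : b1 ∈ FunFld.adele k K := AD_le_adele E (mem_AD.2 fun Q => by
        simp only [b1]; split_ifs
        · exact hb Q
        · simp)
      have hrest : (a : FunFld.Place k K → K) - b1 ∈ FunFld.AD C ⊔ KR k K := by
        refine Submodule.mem_sup.2 ⟨b - b1, mem_AD.2 fun Q => ?_, c, hc, by rw [← hbc]; abel⟩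
        simp only [Pi.sub_apply, b1]
        split_ifs with hQ
        · simp
        · simpa [E, Finsupp.single_eq_of_ne hQ] using hb Q
      have h1 := h b1 hb1 (fun Q hQ => if_neg hQ) (by simpa [b1, hEP] using hb P)
      have h2 := hC (a - ⟨b1, hb1⟩) hrest
      rwa [map_sub, h1, sub_zero] at h2
    have := (hω E).1 hE P
    rw [hEP] at this
    omega

end Groth.Agent.S11017
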