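import Groth.Statements.S11019
import Groth.Agent.L26.FF.Hyperelliptic

set_option autoImplicit false
open FunFld

namespace Groth.Agent.S11019

/-- For `char k ≠ 2` and `K = k(x, y)` with `x` transcendental and `y² = f(x)`, `f` squarefree of degree
`≥ 1`: the field `k` is algebraically closed in `K` (whatever in `K` is algebraic over `k` lies in
`k`), and `K/k` is a function field of one variable. -/
theorem result (k K : Type*) [Field k] [Field K] [Algebra k K] (h2 : ringChar k ≠ 2) (x y : K) (hx : Transcendental k x)
    (hxy : IntermediateField.adjoin k ({x, y} : Set K) = ⊤)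
    (f : Polynomial k) (hf : Squarefree f) (hd : 1 ≤ f.natDegree)
    (heq : y ^ 2 = Polynomial.aeval x f) : FunFld.IsFunctionField k K := by
  obtain ⟨iA, iT, hX⟩ : ∃ (_ : Algebra (RatFunc k) K) (_ : IsScalarTower k (RatFunc k) K),
      algebraMap (RatFunc k) K RatFunc.X = x := by
    let φ : RatFunc k →ₐ[k] K := (IntermediateField.val _).comp (RatFunc.algEquivOfTranscendental x hx).toAlgHom
    refine ⟨φ.toRingHom.toAlgebra, ?_, ?_⟩
    · let := φ.toRingHom.toAlgebra
      exact IsScalarTower.of_algebraMap_eq fun c => (φ.commutes c).symm
    · exact RatFunc.algEquivOfTranscendental_X x hx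
  have hev : Polynomial.aeval x f = algebraMap (RatFunc k) K (algebraMap (Polynomial k) (RatFunc k) f) := by
    rw [← hX, Polynomial.aeval_algebraMap_apply, ← RatFunc.algebraMap_X, Polynomial.aeval_algebraMap_apply,
      Polynomial.aeval_X_left_apply]
  refine Groth.Agent.FF.isFunctionField_sqrt h2 (y := y) ?_ hf hd (heq.trans hev)
  rw [eq_top_iff]
  intro z _
  have hle : IntermediateField.adjoin k ({x, y} : Set K) ≤
      (IntermediateField.adjoin (RatFunc k) ({y} : Set K)).restrictScalars k := by
    rw [IntermediateField.adjoin_le_iff]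
    rintro w (rfl | rfl)
    · rw [SetLike.mem_coe, IntermediateField.mem_restrictScalars, ← hX]
      exact (IntermediateField.mem_toSubalgebra _ _).1
        ((IntermediateField.adjoin (RatFunc k) ({y} : Set K)).toSubalgebra.algebraMap_mem RatFunc.X)
    · rw [SetLike.mem_coe, IntermediateField.mem_restrictScalars]
      exact IntermediateField.subset_adjoin (RatFunc k) _ (Set.mem_singleton w)
  exact hle (hxy ▸ IntermediateField.mem_top)

end Groth.Agent.S11019
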