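import Groth.Statements.S11026
import Groth.Agent.L26.Res.Sep

set_option autoImplicit false
universe u v
open FunFld

namespace Groth.Agent.S11026

/-- A weakly separable finite extension `K'/k'` of a geometric function field `K/k` (the map `Ω_{K/k} →
Ω_{K'/k'}` injective) is separable over the compositum `k'K`. -/
theorem result (k k' : Type u) (K K' : Type v) [Field k] [Field k'] [Field K] [Field K']
    [Algebra k k'] [Algebra k K] [Algebra K K'] [Algebra k' K'] [Algebra k K']
    [IsScalarTower k k' K'] [IsScalarTower k K K'] [FiniteDimensional K K']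
    (hK : FunFld.IsFunctionField k K) (hg : FunFld.IsGeometric k K)
    (hK' : FunFld.IsFunctionField k' K') (hg' : FunFld.IsGeometric k' K')
    (hw : Function.Injective (KaehlerDifferential.map k k' K K')) :
    Algebra.IsSeparable (IntermediateField.adjoin K (Set.range (algebraMap k' K'))) K' := by
  classical
  open Groth.Agent.FF Groth.Agent.Res in
  obtain ⟨x, hx, hxs⟩ := exists_separating hK hg
  have hdx : KaehlerDifferential.D k' K' (algebraMap K K' x) ≠ 0 := fun h0 => by
    refine Groth.Agent.Res.D_ne_zero hK hx (hw ?_)
    rw [KaehlerDifferential.map_D, h0, map_zero]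
  set L := IntermediateField.adjoin K (Set.range (algebraMap k' K'))
  let : Algebra k' L := ((algebraMap k' K').codRestrict L.toSubalgebra.toSubring
    fun c => IntermediateField.subset_adjoin K _ ⟨c, rfl⟩).toAlgebra
  have : IsScalarTower k' L K' := IsScalarTower.of_algebraMap_eq fun _ => rfl
  have := Groth.Agent.Res.essFiniteType (k := k') (K := K') hK'.1
  have : Algebra.EssFiniteType L K' := Algebra.EssFiniteType.of_comp k' L K'
  have : Algebra.FormallyUnramified L K' := by
    refine ⟨subsingleton_of_forall_eq 0 fun ω => ?_⟩
    obtain ⟨w, rfl⟩ := KaehlerDifferential.map_surjective k' L K' ω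
    obtain ⟨c, rfl⟩ := exists_smul_eq_of_finrank_eq_one (Groth.Agent.Res.finrank_omega hK' hg') hdx w
    rw [map_smul, KaehlerDifferential.map_D, Algebra.algebraMap_self_apply]
    exact (congrArg (c • ·) ((KaehlerDifferential.D L K').map_algebraMap
      ⟨algebraMap K K' x, L.algebraMap_mem x⟩)).trans (smul_zero c)
  exact Algebra.FormallyUnramified.isSeparable L K'

end Groth.Agent.S11026
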