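import Groth.Statements.S11028
import Groth.Agent.L26.FF.ASChar2

set_option autoImplicit false
open FunFld

namespace Groth.Agent.S11028

open Groth.Agent.FF

/-- For `k` perfect of characteristic `2` and `K = k(x, y)` with `y² + y = f(x)`, all poles of `f` of
odd order `2d_i - 1` at places `p_i` of `k(x)`, the genus of `K` is `-1 + ∑ d_i deg p_i`. -/
theorem result (k K : Type*) [Field k] [Field K] [PerfectField k] (h2 : ringChar k = 2) [Algebra k K]
    [Algebra (RatFunc k) K] [IsScalarTower k (RatFunc k) K] (hK : FunFld.IsFunctionField k K)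
    (hdeg : Module.finrank (RatFunc k) K = 2) (y : K) (hy : y ∉ Set.range (algebraMap (RatFunc k) K))
    (f : RatFunc k) (heq : y ^ 2 + y = algebraMap (RatFunc k) K f)
    (hodd : ∀ P : FunFld.Place k (RatFunc k), FunFld.div k f P < 0 → Odd (FunFld.div k f P)) :
    (FunFld.genus k K : ℤ) = -1 + ∑ P ∈ (FunFld.div k f).support with FunFld.div k f P < 0,
      (1 - FunFld.div k f P) / 2 * (P.deg : ℤ) := by
  classical
  have : CharP k 2 := h2 ▸ ringChar.charP k
  have : CharP K 2 := charP_of_injective_algebraMap (algebraMap k K).injective 2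
  have hR : FunFld.IsFunctionField k (RatFunc k) := isFunctionField_ratFunc
  set D := FunFld.div k f with hD
  have hDa : ∀ p, D p = p.ord f := fun p => div_apply hR.1 f p
  let E : FunFld.Divisor k (RatFunc k) := D.mapRange (fun n => if n < 0 then (1 - n) / 2 else 0) rfl
  have hE : ∀ p, E p = if p.ord f < 0 then (1 - p.ord f) / 2 else 0 := fun p => by
    simp [E, Finsupp.mapRange_apply, hDa]
  rw [AS2.genus_eq hR hK hdeg hy heq (fun p hp => hDa p ▸ hodd p ((hDa p).symm ▸ hp)) hE,
    genus_eq_zero_of_adjoin_eq_top hR RatFunc.adjoin_X, deg_eq_sum (s := D.support.filter fun p => D p < 0)]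
  · rw [Nat.cast_zero, mul_zero, zero_add, sub_eq_add_neg, add_comm]
    refine congrArg _ (Finset.sum_congr rfl fun p hp => ?_)
    rw [Finset.mem_filter] at hp
    rw [hE, if_pos (hDa p ▸ hp.2), hDa]
  · intro p hp
    rw [Finsupp.mem_support_iff, hE] at hp
    rw [Finset.mem_filter, Finsupp.mem_support_iff, hDa]
    split_ifs at hp with h
    · exact ⟨by omega, h⟩
    · exact absurd rfl hp

end Groth.Agent.S11028
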