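import Groth.Statements.S11029
import Groth.Agent.L26.FF.Inertia
import Mathlib.FieldTheory.AlgebraicClosure

set_option autoImplicit false
open FunFld

namespace Groth.Agent.S11029

open scoped Pointwise

/-- For an intermediate field `E` of a finite Galois extension `K'/K` of a geometric function field of
one variable and a place `Q` of `K'`, `e(Q ∩ E | Q ∩ K) = 1` iff `E` lies in the inertia field `K₁`
of `Q`. (Residue field of `Q` assumed separable over `k`; the total ramification of `K'/K₁` is not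
stated.) -/
theorem result (k K K' : Type*) [Field k] [Field K] [Field K'] [Algebra k K] [Algebra K K'] [Algebra k K']
    [IsScalarTower k K K'] [FiniteDimensional K K'] (hK : FunFld.IsFunctionField k K) (hg : FunFld.IsGeometric k K) [IsGalois K K'] (Q : FunFld.Place k K') [Algebra.IsSeparable k (IsLocalRing.ResidueField Q.O)]
    (E : IntermediateField K K') :
    Set.range (Q.1.comap (algebraMap E K')) = Set.range (Q.1.comap (algebraMap K K')) ↔
      E ≤ IntermediateField.fixedField
        (((Q.O).inertiaSubgroup K).map ((Q.O).decompositionSubgroup K).subtype) := by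
  classical
  open Groth.Agent.FF in
  have hFF : Groth.Agent.FF.IsFF k E := Groth.Agent.FF.isFF_ext (K := K) hK.1
  let c := algebraicClosure k E
  have : IsScalarTower c E K' := IsScalarTower.of_algebraMap_eq fun _ => rfl
  have : IsScalarTower k E K' := IsScalarTower.of_algebraMap_eq fun x => rfl
  have hFc : FunFld.IsFunctionField c E := by
    refine ⟨?_, fun y hy => ?_⟩
    · obtain ⟨x, hx, hfin⟩ := hFF
      refine ⟨x, fun h => hx (h.restrictScalars k), ?_⟩
      have hle : IntermediateField.adjoin k ({x} : Set E) ≤ (IntermediateField.adjoin c ({x} : Set E)).restrictScalars k :=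
        IntermediateField.adjoin_le_iff.2 (IntermediateField.subset_adjoin c _)
      let : Algebra (IntermediateField.adjoin k ({x} : Set E)) (IntermediateField.adjoin c ({x} : Set E)) :=
        (IntermediateField.inclusion hle).toRingHom.toAlgebra
      have : IsScalarTower (IntermediateField.adjoin k ({x} : Set E)) (IntermediateField.adjoin c ({x} : Set E)) E :=
        IsScalarTower.of_algebraMap_eq fun _ => rfl
      exact FiniteDimensional.right (IntermediateField.adjoin k ({x} : Set E)) _ E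
    · exact ⟨⟨y, mem_algebraicClosure_iff.2 (hy.restrictScalars k)⟩, rfl⟩
  have hQc : ∀ a : c, Q.1 (algebraMap c K' a) ≤ 1 := fun a => by
    by_contra h
    have h1 : Q.1 (algebraMap c K' a)⁻¹ < 1 := by
      rw [map_inv₀]; exact inv_lt_one_of_one_lt₀ (not_le.1 h)
    have ha0 : algebraMap c K' a ≠ 0 := fun h0 => h (by rw [h0, map_zero]; exact zero_le)
    have halg : IsAlgebraic k (algebraMap c K' a) :=
      ((mem_algebraicClosure_iff.1 a.2).algebraMap (A := K'))
    exact Groth.Agent.FF.transcendental_of_val_lt_one Q (inv_ne_zero ha0) h1 halg.inv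
  let Q' : FunFld.Place c K' := ⟨Q.1, hQc, Q.2.2⟩
  obtain ⟨PE, e₂, he₂⟩ := Groth.Agent.FF.exists_below hFc.1 Q'
  obtain ⟨P, e, he⟩ := Groth.Agent.FF.exists_below hK.1 Q
  let : Algebra c (IsLocalRing.ResidueField Q.O) :=
    inferInstanceAs (Algebra c (IsLocalRing.ResidueField Q'.O))
  have : IsScalarTower k c (IsLocalRing.ResidueField Q.O) := IsScalarTower.of_algebraMap_eq fun x => by
    show IsLocalRing.residue _ _ = IsLocalRing.residue _ _
    congr 1
  have hsep : Algebra.IsSeparable c (IsLocalRing.ResidueField Q'.O) :=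
    (Algebra.isSeparable_tower_top_of_isSeparable k c (IsLocalRing.ResidueField Q.O) :)
  have hIK := Groth.Agent.FF.card_inertia hK he
  have hIE : Nat.card ((Q.O).inertiaSubgroup E) = e₂ := Groth.Agent.FF.card_inertia (K := E) (Q := Q') hFc he₂
  let r : (Q.O).decompositionSubgroup E → (Q.O).decompositionSubgroup K := fun g =>
    ⟨g.1.restrictScalars K, (g.2 : g.1 • Q.O = Q.O)⟩
  have hr : ∀ g, g ∈ (Q.O).inertiaSubgroup E → r g ∈ (Q.O).inertiaSubgroup K := fun g hg => by
    ext1 x
    obtain ⟨y, rfl⟩ := IsLocalRing.residue_surjective x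
    exact RingEquiv.congr_fun hg (IsLocalRing.residue _ y)
  let f : (Q.O).inertiaSubgroup E → (Q.O).inertiaSubgroup K := fun g => ⟨r g.1, hr _ g.2⟩
  have hf : Function.Injective f := fun g g' h => Subtype.ext (Subtype.ext (AlgEquiv.ext fun x =>
    (AlgEquiv.congr_fun (congrArg (fun t : (Q.O).inertiaSubgroup K => (t.1.1 : K' ≃ₐ[K] K')) h) x :)))
  have hE : e₂ = e ↔ Set.range (Q.1.comap (algebraMap E K')) = Set.range (Q.1.comap (algebraMap K K')) := by
    have r1 : ∀ v, v ∈ Set.range (Q.1.comap (algebraMap E K')) ↔ ∃ w, v = w ^ e₂ := fun v =>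
      ⟨fun ⟨x, hx⟩ => ⟨PE.1 x, hx.symm.trans (he₂ x)⟩, fun ⟨w, hw⟩ => by
        obtain ⟨x, rfl⟩ := PE.2.2 w; exact ⟨x, (he₂ x).trans hw.symm⟩⟩
    have r2 : ∀ v, v ∈ Set.range (Q.1.comap (algebraMap K K')) ↔ ∃ w, v = w ^ e := fun v =>
      ⟨fun ⟨x, hx⟩ => ⟨P.1 x, hx.symm.trans (he x)⟩, fun ⟨w, hw⟩ => by
        obtain ⟨x, rfl⟩ := P.2.2 w; exact ⟨x, (he x).trans hw.symm⟩⟩
    refine ⟨fun h => Set.ext fun v => by rw [r1, r2, h], fun h => ?_⟩
    have key : ∀ a b : ℕ, (∀ v, (∃ w : WithZero (Multiplicative ℤ), v = w ^ a) → ∃ w : WithZero (Multiplicative ℤ), v = w ^ b) → 0 < b → b ∣ a := by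
      intro a b hab hb
      obtain ⟨w, hw⟩ := hab _ ⟨WithZero.exp 1, rfl⟩
      have := congrArg WithZero.log hw
      simp only [WithZero.log_pow, WithZero.log_exp, nsmul_eq_mul, mul_one] at this
      exact Int.natCast_dvd_natCast.1 ⟨_, this⟩
    exact Nat.dvd_antisymm (key e e₂ (fun v hv => (r1 v).1 (h ▸ (r2 v).2 hv)) he₂.pos)
      (key e₂ e (fun v hv => (r2 v).1 (h ▸ (r1 v).2 hv)) he.pos)
  rw [← hE, ← hIE, ← hIK]
  constructor
  · intro h x hx
    rintro ⟨_, g, hg, rfl⟩
    obtain ⟨g', hg'⟩ := (hf.bijective_of_nat_card_le h.ge).2 ⟨g, hg⟩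
    have := congrArg (fun t : (Q.O).inertiaSubgroup K => (t.1.1 : K' ≃ₐ[K] K') x) hg'
    exact this.symm.trans (g'.1.1.commutes ⟨x, hx⟩)
  · intro h
    refine Nat.card_eq_of_bijective f ⟨hf, fun g => ?_⟩
    let gE : K' ≃ₐ[E] K' := { (g.1.1 : K' ≃ₐ[K] K') with commutes' := fun x => h x.2 ⟨_, _, g.2, rfl⟩ }
    refine ⟨⟨⟨gE, (g.1.2 : g.1.1 • Q.O = Q.O)⟩, ?_⟩, rfl⟩
    ext1 x
    obtain ⟨y, rfl⟩ := IsLocalRing.residue_surjective x
    exact RingEquiv.congr_fun g.2 (IsLocalRing.residue _ y)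

end Groth.Agent.S11029
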