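import Groth.Statements.S11031
import Groth.Agent.L26.FF.Clifford

set_option autoImplicit false
open FunFld

namespace Groth.Agent.S11031

open Groth.Agent.FF WithZero

/-- An effective divisor `D` of degree `< g` on a function field of one variable of genus `g` is
special: some nonzero Weil differential vanishes on `A(D) + K`. (The published statement is phrased
with differential forms `Ω_K(D)`, identified with `W_K(D)` by duality; the Weil-differential form is
stated.) -/
theorem result (k K : Type*) [Field k] [Field K] [Algebra k K]
    (hK : FunFld.IsFunctionField k K) (D : FunFld.Divisor k K) (hD : 0 ≤ D) (hdeg : D.deg < FunFld.genus k K) :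
    ∃ ω : Module.Dual k (FunFld.adele k K), ω ≠ 0 ∧ ω ∈ FunFld.WD D := by
  obtain ⟨hf, hd⟩ := Groth.Agent.FF.finrank_WD hK D
  have h1 : 0 < FunFld.ell D := by
    have := ell_mono hK.1 hD
    rw [ell_zero hK] at this
    omega
  rw [delta] at hd
  obtain ⟨ω, hω⟩ : ∃ ω : FunFld.WD D, ω ≠ 0 := by
    by_contra hc
    push Not at hc
    have : Subsingleton (FunFld.WD D) := ⟨fun a b => by rw [hc a, hc b]⟩
    rw [Module.finrank_zero_of_subsingleton] at hd
    omega
  exact ⟨ω, fun h => hω (Subtype.ext h), ω.2⟩

end Groth.Agent.S11031
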