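import Groth.Statements.S11043
import Mathlib.RingTheory.RootsOfUnity.Complex
import Mathlib.RingTheory.RootsOfUnity.PrimitiveRoots
import Mathlib.RingTheory.Polynomial.Cyclotomic.Roots

set_option autoImplicit false
open FunFld

namespace Groth.Agent.S11043

/-- For positive integers `n`, `d` with `e = gcd(n, d)`, in `ℂ[t]` one has `(1 - t^{nd/e})^e = ∏_{θⁿ =
1} (1 - (θ t)^d)`, the product over the complex `n`-th roots of unity. -/
theorem result (n d : ℕ) (hn : 0 < n) (hd : 0 < d) :
    ((1 : Polynomial ℂ) - Polynomial.X ^ (n * d / Nat.gcd n d)) ^ Nat.gcd n d =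
      ∏ θ ∈ Polynomial.nthRootsFinset n (1 : ℂ),
        (1 - Polynomial.C (θ ^ d) * Polynomial.X ^ d) := by
  classical
  obtain ⟨e, he⟩ : ∃ e, e = Nat.gcd n d := ⟨_, rfl⟩
  rw [← he]
  obtain ⟨n', hn'⟩ : e ∣ n := he ▸ Nat.gcd_dvd_left n d
  have hepos : 0 < e := he ▸ Nat.gcd_pos_of_pos_left d hn
  have hn'pos : 0 < n' := Nat.pos_of_mul_pos_left (hn' ▸ hn : 0 < e * n')
  have hnd : n * d / e = d * n' := by
    rw [hn', mul_assoc, Nat.mul_div_cancel_left _ hepos, mul_comm]
  rw [hnd]
  have hζ := Complex.isPrimitiveRoot_exp n hn.ne'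
  generalize Complex.exp (2 * Real.pi * Complex.I / n) = ζ at hζ
  have hnn : n / Nat.gcd n d = n' := by rw [← he, hn', Nat.mul_div_cancel_left _ hepos]
  have hω : IsPrimitiveRoot (ζ ^ d) n' := by
    have ho : orderOf ζ = n := hζ.eq_orderOf.symm
    have h1 : orderOf (ζ ^ d) = n' := by
      rw [orderOf_pow' _ hd.ne', ho]
      exact hnn
    exact h1 ▸ IsPrimitiveRoot.orderOf _
  -- both sides as products over exponents
  have hset : Polynomial.nthRootsFinset n (1 : ℂ) = (Finset.range n).image (ζ ^ ·) := by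
    have : NeZero n := ⟨hn.ne'⟩
    ext x
    simp only [Finset.mem_image, Finset.mem_range, Polynomial.mem_nthRootsFinset hn (1 : ℂ)]
    refine ⟨fun hx => hζ.eq_pow_of_pow_eq_one hx, ?_⟩
    rintro ⟨i, -, rfl⟩
    rw [← pow_mul, mul_comm, pow_mul, hζ.pow_eq_one, one_pow]
  rw [hset, Finset.prod_image (fun a ha b hb e => hζ.pow_inj (Finset.mem_range.1 ha)
    (Finset.mem_range.1 hb) e)]
  let g : ℕ → Polynomial ℂ := fun i => 1 - Polynomial.C ((ζ ^ d) ^ i) * Polynomial.X ^ d
  have hgi : ∀ i, (1 : Polynomial ℂ) - Polynomial.C ((ζ ^ i) ^ d) * Polynomial.X ^ d = g i := by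
    intro i; simp only [g, ← pow_mul, mul_comm]
  simp only [hgi]
  have hper : ∀ i, g (i + n') = g i := fun i => by
    simp only [g]; rw [pow_add, hω.pow_eq_one, mul_one]
  have hblock : ∀ k, ∏ i ∈ Finset.range (k * n'), g i = (∏ i ∈ Finset.range n', g i) ^ k := by
    intro k
    induction k with
    | zero => simp
    | succ k ih =>
      rw [Nat.succ_mul, add_comm, Finset.prod_range_add, pow_succ, ← ih, mul_comm]
      congr 1
      exact Finset.prod_congr rfl fun i _ => by rw [add_comm, hper]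
  rw [hn', hblock, pow_mul]
  congr 1
  have hωC : IsPrimitiveRoot (Polynomial.C (ζ ^ d)) n' :=
    hω.map_of_injective Polynomial.C_injective
  have key := hωC.pow_sub_pow_eq_prod_sub_mul (1 : Polynomial ℂ) (Polynomial.X ^ d) hn'pos
  rw [one_pow] at key
  rw [key]
  have hset' : Polynomial.nthRootsFinset n' (1 : Polynomial ℂ)
      = (Finset.range n').image (Polynomial.C (ζ ^ d) ^ ·) := by
    have : NeZero n' := ⟨hn'pos.ne'⟩
    ext x
    simp only [Finset.mem_image, Finset.mem_range, Polynomial.mem_nthRootsFinset hn'pos (1 : Polynomial ℂ)]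
    refine ⟨fun hx => hωC.eq_pow_of_pow_eq_one hx, ?_⟩
    rintro ⟨i, -, rfl⟩
    rw [← pow_mul, mul_comm, pow_mul, hωC.pow_eq_one, one_pow]
  rw [hset', Finset.prod_image (fun a ha b hb e => hωC.pow_inj (Finset.mem_range.1 ha)
    (Finset.mem_range.1 hb) e)]
  exact Finset.prod_congr rfl fun i _ => by simp only [g, map_pow]

end Groth.Agent.S11043
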