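import Groth.Statements.S11044
import Groth.Agent.L26.FF.Clifford

set_option autoImplicit false
open FunFld

namespace Groth.Agent.S11044

open Groth.Agent.FF WithZero

/-- Over an algebraically closed constant field, if the genus `g` is positive and `D` has degree at
least `2g` or is canonical, then `ℓ(D - P) < ℓ(D)` for every place `P`; that is, `D` is the divisor
of the projective map given by `L(D)`. -/
theorem result
    (k K : Type*) [Field k] [IsAlgClosed k] [Field K] [Algebra k K]
    (hK : FunFld.IsFunctionField k K) (hg : 0 < FunFld.genus k K)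
    (D : FunFld.Divisor k K)
    (hD : 2 * (FunFld.genus k K : ℤ) ≤ D.deg ∨ FunFld.IsCanonical k K D) (P : FunFld.Place k K) :
    FunFld.ell (D - Finsupp.single P 1) < FunFld.ell D := by
  have h1 : FunFld.Divisor.deg (Finsupp.single P (1 : ℤ)) = 1 := by
    rw [deg_single, deg_eq_one hK]; norm_num
  rcases hD with hD | hD
  · have e1 := ell_eq_of_deg_ge hK (D := D) (by omega)
    have e2 := ell_eq_of_deg_ge hK (D := D - Finsupp.single P 1) (by rw [deg_sub, h1]; omega)
    rw [deg_sub, h1] at e2
    omega
  · obtain ⟨e1, e2⟩ := ell_canonical hK hD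
    have e3 := Groth.Agent.FF.riemann_roch hK hD (D - Finsupp.single P 1)
    rw [sub_sub_cancel, deg_sub, h1] at e3
    have := ell_le_one_of_deg_le_one hK hg (D := Finsupp.single P 1) (le_of_eq h1)
    omega

end Groth.Agent.S11044
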