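import Groth.Statements.S11045
import Groth.Agent.L26.FF.Clifford

set_option autoImplicit false
open FunFld

namespace Groth.Agent.S11045

open Groth.Agent.FF WithZero

/-- Over an algebraically closed constant field, if `n ≥ 1` is a gap number at the place `P` (no
function has a pole of exact order `n` at `P` and no other pole, i.e. `L(nP) = L((n-1)P)`), then the
gap numbers at `P` make up at least half of the positive integers below `n`. -/
theorem result
    (k K : Type*) [Field k] [IsAlgClosed k] [Field K] [Algebra k K]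
    (hK : FunFld.IsFunctionField k K) (P : FunFld.Place k K) (n : ℕ) (hn : 1 ≤ n)
    (hgap : FunFld.L (Finsupp.single P (n : ℤ)) = FunFld.L (Finsupp.single P ((n : ℤ) - 1))) :
    n - 1 ≤ 2 * Set.ncard {m : ℕ | 1 ≤ m ∧ m < n ∧
      FunFld.L (Finsupp.single P (m : ℤ)) = FunFld.L (Finsupp.single P ((m : ℤ) - 1))} := by
  classical
  let S := (Finset.Icc 1 (n - 1)).filter fun m : ℕ =>
    FunFld.L (Finsupp.single P (m : ℤ)) = (FunFld.L (Finsupp.single P ((m : ℤ) - 1)) : Submodule k K)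
  have hset : {m : ℕ | 1 ≤ m ∧ m < n ∧
      FunFld.L (Finsupp.single P (m : ℤ)) = FunFld.L (Finsupp.single P ((m : ℤ) - 1))} = ↑S := by
    ext m
    simp only [Set.mem_ofPred_eq, S, Finset.coe_filter, Finset.mem_Icc]
    exact ⟨fun ⟨a, b, c⟩ => ⟨⟨a, by omega⟩, c⟩, fun ⟨⟨a, b⟩, c⟩ => ⟨a, by omega, c⟩⟩
  rw [hset, Set.ncard_coe_finset]
  have key : (Finset.Icc 1 (n - 1) \ S).image (fun m => n - m) ⊆ S := by
    intro j hj
    obtain ⟨m, hm, rfl⟩ := Finset.mem_image.1 hj
    simp only [S, Finset.mem_sdiff, Finset.mem_filter, Finset.mem_Icc, not_and] at hm ⊢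
    obtain ⟨⟨hm1, hmn⟩, hm2⟩ := hm
    refine ⟨⟨by omega, by omega⟩, ?_⟩
    rw [gap_iff hK P (by omega)]
    rintro ⟨z, hz, hz0, hzo⟩
    obtain ⟨y, hy, hy0, hyo⟩ := not_not.1 (fun h => hm2 ⟨hm1, hmn⟩ ((gap_iff hK P hm1).2 h))
    refine (gap_iff hK P hn).1 hgap ⟨y * z, ?_, mul_ne_zero hy0 hz0, ?_⟩
    · have := mem_L_mul hK hy hz
      rwa [← Finsupp.single_add, show (m : ℤ) + ((n - m : ℕ) : ℤ) = (n : ℤ) by omega] at this
    · rw [ord_mul P hy0 hz0, hyo, hzo]; omega
  have h1 := Finset.card_le_card key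
  rw [Finset.card_image_of_injOn, Finset.card_sdiff_of_subset (Finset.filter_subset _ _),
    Nat.card_Icc] at h1
  · have h2 : S.card ≤ (Finset.Icc 1 (n - 1)).card := Finset.card_filter_le _ _
    rw [Nat.card_Icc] at h2
    simp only [S] at h1 h2 ⊢
    omega
  · intro a ha b hb hab
    simp only [Finset.coe_sdiff, Finset.coe_Icc, Set.mem_diff, Set.mem_Icc] at ha hb hab
    omega

end Groth.Agent.S11045
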