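import Groth.Statements.S12618
import Groth.Agent.L26.FF.Weierstrass

set_option autoImplicit false
open FunFld

namespace Groth.Agent.S12618

open Groth.Agent.FF WithZero
open Groth.Agent.S11047 (autPlace)

/-- Over an algebraically closed constant field of characteristic `0` or greater than `2g - 2`, let `K`
have genus `g > 1` and let the Weierstrass points of `K` be the support of the Weierstrass divisor
`W(φ)` of the canonical map `φ` (a basis of `L(C)`, `C` canonical; the divisor of `ds` in `W` read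
through a family of Laurent expansions). Then either the number of Weierstrass points exceeds `2g +
2` and the automorphism group of `K/k` acts faithfully on them, or that number is exactly `2g + 2`
and the automorphisms fixing all of them are exactly those fixing some `x` with `[K : k(x)] = 2`. -/
theorem result
    (k K : Type*) [Field k] [IsAlgClosed k] [Field K] [Algebra k K]
    (hK : FunFld.IsFunctionField k K) (hg : 1 < FunFld.genus k K)
    (hchar : ringChar k = 0 ∨ 2 * FunFld.genus k K - 2 < ringChar k)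
    (C : FunFld.Divisor k K) (hC : FunFld.IsCanonical k K C)
    {n : ℕ} (φ : Fin (n + 1) → K) (hφ : LinearIndependent k φ)
    (hspan : Submodule.span k (Set.range φ) = FunFld.L C)
    (s : K) (H : K →ₐ[k] PowerSeries K) (hH : LocRes.IsHasseFamily s H)
    (J : Fin n → ℕ) (hJ : FunFld.IsOrders K (FunFld.hcol (AlgHom.id k K) H φ) J)
    (Φ : FunFld.Place k K → (K →ₐ[k] LaurentSeries k))
    (hΦ : ∀ P : FunFld.Place k K, LocRes.IsExpansionAt P.1 (Φ P)) :
    (2 * FunFld.genus k K + 2 < Set.ncard {P : FunFld.Place k K | FunFld.wDiv (AlgHom.id k K) H Φ s φ J P ≠ 0} ∧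
      ∀ σ : K ≃ₐ[k] K, (∀ P : FunFld.Place k K, FunFld.wDiv (AlgHom.id k K) H Φ s φ J P ≠ 0 →
        FunFld.IsFixedPt (σ : K →ₐ[k] K) P) → σ = AlgEquiv.refl) ∨
    (Set.ncard {P : FunFld.Place k K | FunFld.wDiv (AlgHom.id k K) H Φ s φ J P ≠ 0} = 2 * FunFld.genus k K + 2 ∧
      ∃ x : K, Module.finrank (IntermediateField.adjoin k ({x} : Set K)) K = 2 ∧
        ∀ σ : K ≃ₐ[k] K, (∀ P : FunFld.Place k K, FunFld.wDiv (AlgHom.id k K) H Φ s φ J P ≠ 0 →
          FunFld.IsFixedPt (σ : K →ₐ[k] K) P) ↔ σ x = x) := by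
  classical
  have hg0 : 0 < FunFld.genus k K := by omega
  have hW := canonical_wDiv hK hg0 hchar hC hφ hspan hH hJ hΦ
  obtain ⟨P₁⟩ := nonempty_place hK
  obtain ⟨hn, hJl⟩ := (hW P₁).1
  set g := FunFld.genus k K with hgdef
  set W := FunFld.wDiv (AlgHom.id k K) H Φ s φ J with hWdef
  have hfr : Module.finrank (AlgHom.id k K).fieldRange K = 1 := by
    rw [AlgHom.fieldRange_eq_top.2 Function.surjective_id]
    exact IntermediateField.finrank_top
  have hdeg : 2 * W.deg = 2 * ((g : ℤ) - 1) * g * (g + 1) := by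
    rw [hWdef, deg_wDiv hK hΦ hH, hfr, mapDiv_canonical hK hC hg0 hφ hspan, (ell_canonical hK hC).2]
    have h2 : ∀ m : ℕ, 2 * ∑ l : Fin m, (((l : ℕ) + 1 : ℕ) : ℤ) = (m : ℤ) * (m + 1) := fun m => by
      induction m with
      | zero => simp
      | succ m ih => rw [Fin.sum_univ_castSucc]; simp only [Fin.val_castSucc, Fin.val_last]; push_cast at ih ⊢; linarith
    simp only [hJl]
    rw [← hgdef, ← hn]
    have := h2 n
    push_cast at this ⊢
    linear_combination (2 * (n : ℤ)) * this
  have hmax : ∀ P, 2 * W P ≤ (g : ℤ) * (g - 1) ∧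
      (2 * W P = (g : ℤ) * (g - 1) → ∃ x : K, x ∈ FunFld.L (Finsupp.single P (2 : ℤ)) ∧ x ≠ 0 ∧ P.ord x = -2) := by
    intro P
    have h1 : 2 * W P = 2 * (∑ p ∈ gaps P, (p : ℤ)) - (g : ℤ) * (g + 1) := (hW P).2
    have h2 : (∑ p ∈ gaps P, (p : ℤ)) ≤ (g : ℤ) ^ 2 := by
      have h := gaps_sum_le hK P
      rw [← hgdef] at h
      rw [← Nat.cast_sum]
      exact_mod_cast h
    refine ⟨by nlinarith, fun h => gaps_sum_eq hK hg P ?_⟩
    have : (∑ p ∈ gaps P, (p : ℤ)) = (g : ℤ) ^ 2 := by nlinarith
    rw [← hgdef]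
    rw [← Nat.cast_sum] at this
    exact_mod_cast this
  have hset : {P : FunFld.Place k K | W P ≠ 0} = ↑W.support := Set.ext fun P => by simp
  rw [hset, Set.ncard_coe_finset]
  have hsum : ∑ P ∈ W.support, ((g : ℤ) * (g - 1) - 2 * W P) =
      (W.support.card : ℤ) * ((g : ℤ) * (g - 1)) - 2 * ((g : ℤ) - 1) * g * (g + 1) := by
    rw [Finset.sum_sub_distrib, Finset.sum_const, nsmul_eq_mul, ← Finset.mul_sum, ← hdeg,
      deg_eq_sum (Finset.Subset.refl W.support)]
    simp [deg_eq_one hK]
  have hnonneg : ∀ P ∈ W.support, (0 : ℤ) ≤ (g : ℤ) * (g - 1) - 2 * W P := fun P _ => by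
    have := (hmax P).1; omega
  have hg1 : (0 : ℤ) < (g : ℤ) * (g - 1) := mul_pos (by omega) (by omega)
  have hN : 2 * g + 2 ≤ W.support.card := by
    have := Finset.sum_nonneg hnonneg
    rw [hsum] at this
    have h2 : (2 * (g : ℤ) + 2) ≤ W.support.card := le_of_mul_le_mul_right (by nlinarith) hg1
    omega
  rcases hN.lt_or_eq with hlt | heq
  · refine Or.inl ⟨hlt, fun σ hσ => ?_⟩
    refine Groth.Agent.S11047.result k K hK σ ?_
    refine lt_of_lt_of_le (?_ : ((2 * g + 2 : ℕ) : ℕ∞) < (W.support : Set (FunFld.Place k K)).encard)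
      (Set.encard_le_encard fun P hP => hσ P (by simpa using hP))
    rw [Set.encard_coe_eq_coe_finsetCard]
    exact_mod_cast hlt
  refine Or.inr ⟨heq.symm, ?_⟩
  have hzero : ∀ P ∈ W.support, 2 * W P = (g : ℤ) * (g - 1) := fun P hP => by
    have h0 : ∑ Q ∈ W.support, ((g : ℤ) * (g - 1) - 2 * W Q) = 0 := by rw [hsum, ← heq]; push_cast; ring
    have := (Finset.sum_eq_zero_iff_of_nonneg hnonneg).1 h0 P hP
    omega
  obtain ⟨P₀, hP₀⟩ := Finset.card_pos.1 (show 0 < W.support.card by omega)
  obtain ⟨x, hx, hxne, hxo⟩ := (hmax P₀).2 (hzero P₀ hP₀)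
  have htr : Transcendental k x := transcendental_of_not_const hK (by
    rintro ⟨c, rfl⟩
    rw [ord_const] at hxo
    omega)
  have hxQ : ∀ Q, Q ≠ P₀ → 0 ≤ Q.ord x := fun Q hQ => by
    have := (mem_L_iff_ord hxne).1 hx Q
    rw [Finsupp.single_eq_of_ne hQ] at this
    omega
  have hpoles : Groth.Agent.FF.poles k x = Finsupp.single P₀ 2 := Finsupp.ext fun Q => by
    rw [poles_apply hK.1, Finsupp.single_apply]
    split_ifs with h
    · subst h; omega
    · have := hxQ Q (Ne.symm h); omega
  refine ⟨x, ?_, fun σ => ⟨fun hσ => ?_, fun hσx P hP => ?_⟩⟩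
  · have := deg_poles hK.1 htr
    rw [hpoles, deg_single, deg_eq_one hK] at this
    omega
  · have hfix : ∀ P ∈ W.support, autPlace σ P = P := fun P hP =>
      (isFixedPt_iff σ P).1 (hσ P (by simpa using hP))
    have hσx : σ x ∈ FunFld.L (Finsupp.single P₀ (2 : ℤ)) :=
      (mem_L_autPlace σ P₀ 2 x).1 (by rw [hfix P₀ hP₀]; exact hx)
    have hone : (1 : K) ∈ FunFld.L (Finsupp.single P₀ (2 : ℤ)) := (mem_L_iff_ord one_ne_zero).2 fun R => by
      rw [show R.ord (1 : K) = 0 from (val_eq_one_iff R one_ne_zero).1 (map_one _), Finsupp.single_apply]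
      split_ifs <;> omega
    have hli : LinearIndependent k ![(1 : K), x] := by
      rw [LinearIndependent.pair_iff]
      intro a b h
      have h1 := transcendental_iff.1 htr (Polynomial.C a + Polynomial.C b * Polynomial.X)
        (by simpa [Algebra.smul_def] using h)
      exact ⟨by simpa using congrArg (fun p => Polynomial.coeff p 0) h1,
        by simpa using congrArg (fun p => Polynomial.coeff p 1) h1⟩
    haveI := finite_L hK.1 (Finsupp.single P₀ (2 : ℤ))
    have hell : FunFld.ell (Finsupp.single P₀ (2 : ℤ) : FunFld.Divisor k K) ≤ 2 := by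
      have := clifford hK (D := Finsupp.single P₀ (2 : ℤ)) (by rw [deg_single, deg_eq_one hK]; norm_num)
        (by rw [deg_single, deg_eq_one hK, ← hgdef]; push_cast; omega)
      rw [deg_single, deg_eq_one hK] at this
      omega
    have hsp : Submodule.span k (Set.range ![(1 : K), x]) = FunFld.L (Finsupp.single P₀ (2 : ℤ)) := by
      refine Submodule.eq_of_le_of_finrank_le (Submodule.span_le.2 (Set.range_subset_iff.2 fun i => ?_)) ?_
      · fin_cases i
        · exact hone
        · exact hx
      · rw [finrank_span_eq_card hli, Fintype.card_fin]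
        exact hell
    obtain ⟨c, hc⟩ := (Submodule.mem_span_range_iff_exists_fun k).1 (hsp.symm ▸ hσx)
    simp only [Fin.sum_univ_two, Matrix.cons_val_zero, Matrix.cons_val_one, Algebra.smul_def, mul_one] at hc
    -- values
    have hval : ∀ P ∈ W.support, P ≠ P₀ → ∃ a : k, P.1 (x - algebraMap k K a) < 1 ∧ (c 1 - 1) * a + c 0 = 0 := by
      intro P hP hne
      have hle : P.1 x ≤ 1 := (val_le_one_iff P hxne).2 (hxQ P hne)
      obtain ⟨a, ha⟩ : ∃ a : k, P.1 (x - algebraMap k K a) < 1 :=
        ⟨valAt hK P ⟨x, hle⟩, val_sub_valAt_lt hK ⟨x, hle⟩⟩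
      refine ⟨a, ha, ?_⟩
      have h1 : P.1 (σ (x - algebraMap k K a)) < 1 := by
        have : P.1 (σ (x - algebraMap k K a)) = P.1 (x - algebraMap k K a) :=
          congrArg (fun R : FunFld.Place k K => R.1 (x - algebraMap k K a)) (hfix P hP)
        rwa [this]
      rw [map_sub, AlgEquiv.commutes, ← hc] at h1
      have h2 : P.1 (algebraMap k K ((c 1 - 1) * a + c 0)) < 1 := by
        rw [show algebraMap k K ((c 1 - 1) * a + c 0) =
          (algebraMap k K (c 0) + algebraMap k K (c 1) * x - algebraMap k K a) -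
            algebraMap k K (c 1) * (x - algebraMap k K a) by simp only [map_add, map_mul, map_sub, map_one]; ring]
        refine P.1.map_sub_lt h1 ?_
        rw [map_mul]
        exact lt_of_le_of_lt (mul_le_of_le_one_left' (P.2.1 _)) ha
      by_contra h0
      rw [val_const P h0] at h2
      exact lt_irrefl _ h2
    obtain ⟨P₁, hP₁, hP₁ne⟩ : ∃ P ∈ W.support, P ≠ P₀ := by
      have : 0 < (W.support.erase P₀).card := by rw [Finset.card_erase_of_mem hP₀]; omega
      obtain ⟨P, hP⟩ := Finset.card_pos.1 this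
      exact ⟨P, Finset.mem_of_mem_erase hP, Finset.ne_of_mem_erase hP⟩
    obtain ⟨a, ha, ha'⟩ := hval P₁ hP₁ hP₁ne
    obtain ⟨P₂, hP₂, hP₂ne, hP₂a⟩ : ∃ P ∈ W.support, P ≠ P₀ ∧ ¬ P.1 (x - algebraMap k K a) < 1 := by
      by_contra hall
      simp only [not_exists, not_and, not_not] at hall
      have hz : x - algebraMap k K a ≠ 0 := fun h => htr (sub_eq_zero.1 h ▸ isAlgebraic_algebraMap a)
      have hle : ∀ Q : FunFld.Place k K, (if Q ∈ W.support.erase P₀ then (1 : ℤ) else 0) ≤
          (FunFld.div k (x - algebraMap k K a) + Finsupp.single P₀ 2 : FunFld.Divisor k K) Q := by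
        intro Q
        rw [Finsupp.add_apply, div_apply hK.1]
        have hb : Q.1 (x - algebraMap k K a) ≤ exp (Finsupp.single P₀ (2 : ℤ) Q) := by
          refine Q.1.map_sub_le ((mem_L.1 hx) Q) ((Q.2.1 a).trans ?_)
          rw [← exp_zero, exp_le_exp, Finsupp.single_apply]
          split_ifs <;> omega
        rw [val_eq_exp Q hz, exp_le_exp] at hb
        split_ifs with h
        · have h1 := hall Q (Finset.mem_of_mem_erase h) (Finset.ne_of_mem_erase h)
          rw [val_lt_one_iff Q hz] at h1
          rw [Finsupp.single_eq_of_ne (Finset.ne_of_mem_erase h)]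
          omega
        · omega
      let E : FunFld.Divisor k K := ∑ Q ∈ W.support.erase P₀, Finsupp.single Q 1
      have hE : E ≤ FunFld.div k (x - algebraMap k K a) + Finsupp.single P₀ 2 := fun Q => by
        refine le_trans (le_of_eq ?_) (hle Q)
        simp only [E, Finsupp.finset_sum_apply, Finsupp.single_apply, Finset.sum_ite_eq']
      have h2 := deg_mono hE
      rw [deg_add, deg_div hK.1, deg_single, deg_eq_one hK,
        deg_eq_sum (D := E) (s := W.support.erase P₀) (fun Q hQ => by
          by_contra h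
          exact Finsupp.mem_support_iff.1 hQ (by
            simp only [E, Finsupp.finset_sum_apply, Finsupp.single_apply, Finset.sum_ite_eq', if_neg h])),
        Finset.sum_congr rfl (g := fun _ => (1 : ℤ)) (fun Q hQ => by
          simp only [E, Finsupp.finset_sum_apply, Finsupp.single_apply, Finset.sum_ite_eq', if_pos hQ,
            deg_eq_one hK, Nat.cast_one, mul_one]),
        Finset.sum_const, Finset.card_erase_of_mem hP₀, nsmul_eq_mul, mul_one] at h2
      omega
    obtain ⟨b, hb, hb'⟩ := hval P₂ hP₂ hP₂ne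
    have hab : a - b ≠ 0 := sub_ne_zero.2 fun h => hP₂a (h ▸ hb)
    have hc1 : c 1 = 1 := by
      have : (c 1 - 1) * (a - b) = 0 := by linear_combination ha' - hb'
      simpa [hab, sub_eq_zero] using this
    have hc0 : c 0 = 0 := by simpa [hc1] using ha'
    rw [← hc, hc0, hc1]
    simp
  · rw [isFixedPt_iff]
    obtain ⟨y, hy, hy0, hyo⟩ := (hmax P).2 (hzero P (by simpa using hP))
    have hfy : ∀ z ∈ IntermediateField.adjoin k ({x} : Set K), σ z = z := fun z hz => by
      induction hz using IntermediateField.adjoin_induction with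
      | mem a ha => rw [Set.mem_singleton_iff.1 ha]; exact hσx
      | algebraMap a => exact σ.commutes a
      | add a b _ _ ha hb => rw [map_add, ha, hb]
      | inv a _ ha => rw [map_inv₀, ha]
      | mul a b _ _ ha hb => rw [map_mul, ha, hb]
    have hσy := hfy y (pencil_unique hK hg hx hxo hy)
    by_contra hne
    have h1 : (autPlace σ P).1 y = P.1 y := congrArg P.1 hσy
    have h2 := (mem_L.1 hy) (autPlace σ P)
    rw [h1, Finsupp.single_eq_of_ne hne, val_eq_exp P hy0, hyo, exp_le_exp] at h2
    omega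

end Groth.Agent.S12618
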