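import Groth.Statements.S11048
import Groth.Agent.L26.FF.Weierstrass
import Groth.Agent.S12618

set_option autoImplicit false
open FunFld

namespace Groth.Agent.S11048

open Groth.Agent.FF WithZero
open Groth.Agent.S11047 (autPlace)

/-- Over an algebraically closed constant field of characteristic `0` or greater than `2g - 2`, a
function field of one variable of genus `g > 1` has only finitely many automorphisms over the
constants. -/
theorem result
    (k K : Type*) [Field k] [IsAlgClosed k] [Field K] [Algebra k K]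
    (hK : FunFld.IsFunctionField k K) (hg : 1 < FunFld.genus k K)
    (hp : ringChar k = 0 ∨ 2 * FunFld.genus k K - 2 < ringChar k) :
    Finite (K ≃ₐ[k] K) := by
  classical
  obtain ⟨s, H, hH⟩ := exists_hasse_family hK
  obtain ⟨C, hC⟩ := exists_isCanonical hK
  haveI := finite_L hK.1 C
  obtain ⟨n, hn⟩ : ∃ n, FunFld.ell C = n + 1 :=
    ⟨FunFld.genus k K - 1, by rw [(ell_canonical hK hC).1]; omega⟩
  let b := Module.finBasisOfFinrankEq k (FunFld.L C) hn
  set φ : Fin (n + 1) → K := fun i => (b i : K) with hφd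
  have hφ : LinearIndependent k φ := b.linearIndependent.map' (FunFld.L C).subtype (Submodule.ker_subtype _)
  have hspan : Submodule.span k (Set.range φ) = FunFld.L C := by
    rw [show φ = (FunFld.L C).subtype ∘ b from rfl, Set.range_comp, ← Submodule.map_span, b.span_eq,
      Submodule.map_subtype_top]
  obtain ⟨J, hJ⟩ := exists_orders hK hφ (AlgHom.id k K) hH
  obtain ⟨Φ, hΦ⟩ := exists_expansions hK hH
  have h18 := Groth.Agent.S12618.result k K hK hg hp C hC φ hφ hspan s H hH J hJ Φ hΦ
  have hW := canonical_wDiv hK (by omega) hp hC hφ hspan hH hJ hΦ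
  set W := FunFld.wDiv (AlgHom.id k K) H Φ s φ J with hWdef
  let S : Set (FunFld.Place k K) := {P | W P ≠ 0}
  haveI hSfin : Finite S := (W.support.finite_toSet.subset fun P hP => Finsupp.mem_support_iff.2 hP).to_subtype
  have hinv : ∀ (σ : K ≃ₐ[k] K) (P : S), autPlace σ P.1 ∈ S := fun σ P => by
    show W (autPlace σ P.1) ≠ 0
    have h1 : 2 * W (autPlace σ P.1) = 2 * W P.1 := by
      rw [(hW _).2, (hW _).2, gaps_autPlace]
    have : W P.1 ≠ 0 := P.2
    omega
  let f : (K ≃ₐ[k] K) → (S → S) := fun σ P => ⟨autPlace σ P.1, hinv σ P⟩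
  let Fx : Set (K ≃ₐ[k] K) := {τ | ∀ P, W P ≠ 0 → FunFld.IsFixedPt (τ : K →ₐ[k] K) P}
  have hFx : Fx.Finite := by
    rcases h18 with ⟨-, h⟩ | ⟨-, x, hx, h⟩
    · exact (Set.finite_singleton AlgEquiv.refl).subset fun τ hτ => h τ hτ
    · haveI : FiniteDimensional (IntermediateField.adjoin k ({x} : Set K)) K :=
        Module.finite_of_finrank_pos (by omega)
      have hfx : ∀ τ : Fx, ∀ a : IntermediateField.adjoin k ({x} : Set K), τ.1 (a : K) = a := by
        rintro ⟨τ, hτ⟩ ⟨a, ha⟩
        show τ a = a
        induction ha using IntermediateField.adjoin_induction with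
        | mem a ha => rw [Set.mem_singleton_iff.1 ha]; exact (h τ).1 hτ
        | algebraMap a => exact τ.commutes a
        | add a b _ _ ha hb => rw [map_add, ha, hb]
        | inv a _ ha => rw [map_inv₀, ha]
        | mul a b _ _ ha hb => rw [map_mul, ha, hb]
      let emb : Fx → (K →ₐ[IntermediateField.adjoin k ({x} : Set K)] K) := fun τ =>
        { (τ.1 : K →ₐ[k] K).toRingHom with commutes' := hfx τ }
      exact Set.finite_coe_iff.1 (Finite.of_injective emb fun τ τ' e =>
        Subtype.ext (AlgEquiv.ext fun z => AlgHom.congr_fun e z))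
  haveI : Finite Fx := hFx.to_subtype
  haveI : Nonempty (K ≃ₐ[k] K) := ⟨AlgEquiv.refl⟩
  have hmem : ∀ σ, (Function.invFun f (f σ)).symm.trans σ ∈ Fx := fun σ P hP => by
    rw [isFixedPt_iff, autPlace_trans]
    have e : autPlace (Function.invFun f (f σ)) P = autPlace σ P :=
      congrArg Subtype.val (congrFun (Function.invFun_eq (f := f) ⟨σ, rfl⟩) ⟨P, hP⟩)
    rw [← e, autPlace_symm']
  refine Finite.of_injective (fun σ => (f σ, (⟨_, hmem σ⟩ : Fx))) fun σ τ e => ?_
  simp only [Prod.mk.injEq, Subtype.mk.injEq] at e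
  have h2 := e.2
  rw [e.1] at h2
  refine AlgEquiv.ext fun z => ?_
  simpa using AlgEquiv.congr_fun h2 (Function.invFun f (f τ) z)

end Groth.Agent.S11048
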