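import Groth.Statements.S11049
import Mathlib.LinearAlgebra.Dimension.RankNullity
import Mathlib.LinearAlgebra.Dimension.DivisionRing
import Mathlib.LinearAlgebra.FiniteDimensional.Basic
import Mathlib.RingTheory.Ideal.Quotient.Operations
import Mathlib.LinearAlgebra.Isomorphisms

set_option autoImplicit false
open CAlg

namespace Groth.Agent.S11049

/-- For `k`-algebras `S ⊆ R` with `R` an integral domain and a nonzero `x ∈ S`, if `R/S` and `R/Rx` are
finite-dimensional over `k` then `dim_k R/Rx = dim_k S/Sx`. (The published statement allows `x = 0`;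
then `R` is a field finite over `k` and the two sides are `dim_k R` and `dim_k S`, which differ for
`S = k ⊊ R`; the published proof multiplies by `x` as an injection, so `x ≠ 0` is assumed here.) -/
theorem result
    (k R : Type*) [Field k] [CommRing R]
    [IsDomain R] [Algebra k R] (S : Subalgebra k R) (x : S) (hx : (x : R) ≠ 0)
    [Module.Finite k (R ⧸ Subalgebra.toSubmodule S)]
    [Module.Finite k (R ⧸ Ideal.span {(x : R)})] :
    Module.finrank k (R ⧸ Ideal.span {(x : R)}) = Module.finrank k (S ⧸ Ideal.span {x}) := by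
  classical
  let S' := Subalgebra.toSubmodule S
  let m : R →ₗ[k] R := LinearMap.mulLeft k (x : R)
  have hm : Function.Injective m := fun a b h => mul_left_cancel₀ hx h
  let xS := S'.map m
  have hxS : xS ≤ S' := by
    rintro _ ⟨s, hs, rfl⟩
    exact S.mul_mem x.2 hs
  let xR := (Ideal.span {(x : R)}).restrictScalars k
  have hxR : xR = LinearMap.range m := by
    ext z
    simp only [xR, Submodule.restrictScalars_mem, Ideal.mem_span_singleton', LinearMap.mem_range, m,
      LinearMap.mulLeft_apply]
    exact exists_congr fun a => by rw [mul_comm]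
  have hxSR : xS ≤ xR := hxR ▸ LinearMap.map_le_range
  let e1 : (R ⧸ S') ≃ₗ[k] (xR.map xS.mkQ : Submodule k (R ⧸ xS)) := by
    let f : (R ⧸ S') →ₗ[k] (R ⧸ xS) := Submodule.mapQ S' xS m (Submodule.le_comap_map m S')
    have hf : Function.Injective f := by
      rw [← LinearMap.ker_eq_bot, LinearMap.ker_eq_bot']
      intro a ha
      obtain ⟨a, rfl⟩ := Submodule.Quotient.mk_surjective _ a
      rw [Submodule.mapQ_apply, Submodule.Quotient.mk_eq_zero] at ha
      obtain ⟨s, hs, hsa⟩ := ha
      rw [Submodule.Quotient.mk_eq_zero, ← hm hsa]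
      exact hs
    refine (LinearEquiv.ofInjective f hf).trans (LinearEquiv.ofEq _ _ ?_)
    rw [hxR, Submodule.range_mapQ]
  have e2 : ((R ⧸ xS) ⧸ xR.map xS.mkQ) ≃ₗ[k] (R ⧸ xR) := Submodule.quotientQuotientEquivQuotient xS xR hxSR
  have e3 : ((R ⧸ xS) ⧸ S'.map xS.mkQ) ≃ₗ[k] (R ⧸ S') := Submodule.quotientQuotientEquivQuotient xS S' hxS
  haveI : Module.Finite k (R ⧸ xR) := Module.Finite.equiv (Submodule.Quotient.restrictScalarsEquiv k _).symm
  haveI : Module.Finite k (xR.map xS.mkQ : Submodule k (R ⧸ xS)) := Module.Finite.equiv e1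
  haveI : Module.Finite k ((R ⧸ xS) ⧸ xR.map xS.mkQ) := Module.Finite.equiv e2.symm
  haveI : Module.Finite k (R ⧸ xS) := Module.Finite.of_submodule_quotient (xR.map xS.mkQ)
  have h1 := Submodule.finrank_quotient_add_finrank (xR.map xS.mkQ)
  have h2 := Submodule.finrank_quotient_add_finrank (S'.map xS.mkQ)
  let g : S →ₗ[k] (R ⧸ xS) := xS.mkQ ∘ₗ S'.subtype
  have hg : LinearMap.ker g = (Ideal.span {x}).restrictScalars k := by
    ext s
    simp only [g, LinearMap.mem_ker, LinearMap.comp_apply, Submodule.mkQ_apply, Submodule.Quotient.mk_eq_zero,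
      Submodule.restrictScalars_mem, Ideal.mem_span_singleton', Submodule.subtype_apply]
    constructor
    · rintro ⟨t, ht, hts⟩
      exact ⟨⟨t, ht⟩, Subtype.ext ((mul_comm _ _).trans hts)⟩
    · rintro ⟨t, rfl⟩
      exact ⟨t, t.2, mul_comm _ _⟩
  have hgr : LinearMap.range g = S'.map xS.mkQ := by
    rw [LinearMap.range_comp, Submodule.range_subtype]
  have e4 : (S ⧸ (Ideal.span {x}).restrictScalars k) ≃ₗ[k] (S'.map xS.mkQ : Submodule k (R ⧸ xS)) :=
    ((Submodule.quotEquivOfEq _ _ hg.symm).trans g.quotKerEquivRange).trans (LinearEquiv.ofEq _ _ hgr)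
  rw [e2.finrank_eq, ← e1.finrank_eq, (Submodule.Quotient.restrictScalarsEquiv k (Ideal.span {(x : R)})).finrank_eq] at h1
  rw [e3.finrank_eq, ← e4.finrank_eq, (Submodule.Quotient.restrictScalarsEquiv k (Ideal.span {x})).finrank_eq] at h2
  omega

end Groth.Agent.S11049
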