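import Groth.Statements.S11050
import Groth.Agent.L26.FF.PBasis
import Groth.Agent.L26.FF.Diff
import Mathlib.GroupTheory.CosetCover

set_option autoImplicit false
open FunFld

namespace Groth.Agent.S11050

/-- Over an algebraically closed constant field, let `W` be a finite-dimensional subspace of the
function field `K` containing `1` and generating `K` over `k` (the span of an effective birational
projective map). Then `W` contains a separating variable `x`, and for each separating `x ∈ W` some
`y ∈ W` gives `K = k(x, y)`. -/
theorem result
    (k K : Type*) [Field k] [IsAlgClosed k] [Field K] [Algebra k K]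
    (hK : FunFld.IsFunctionField k K) (W : Submodule k K)
    [FiniteDimensional k W] (h1 : (1 : K) ∈ W)
    (hW : IntermediateField.adjoin k (W : Set K) = ⊤) :
    (∃ x ∈ W, Algebra.IsSeparable (IntermediateField.adjoin k ({x} : Set K)) K) ∧
    ∀ x ∈ W, Algebra.IsSeparable (IntermediateField.adjoin k ({x} : Set K)) K →
      ∃ y ∈ W, IntermediateField.adjoin k ({x, y} : Set K) = ⊤ := by
  classical
  open IntermediateField Groth.Agent.FF in
  have hg : FunFld.IsGeometric k K := Groth.Agent.FF.isGeometric_algClosed
  constructor
  · by_contra hc
    simp only [not_exists, not_and] at hc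
    have hD : ∀ x ∈ W, KaehlerDifferential.D k K x = 0 := fun x hx => by
      by_contra h0
      exact hc x hx ((Groth.Agent.FF.isSeparable_iff_D_ne_zero hK hg).2 h0)
    have hle : IntermediateField.adjoin k (W : Set K) ≤ Groth.Agent.FF.kerD k K :=
      IntermediateField.adjoin_le_iff.2 hD
    obtain ⟨s, hs, _⟩ := Groth.Agent.Res.exists_separating hK hg
    exact Groth.Agent.Res.D_ne_zero hK hs (hle (hW ▸ IntermediateField.mem_top))
  · intro x hx hsep
    set F := IntermediateField.adjoin k ({x} : Set K)
    have hxt : Transcendental k x := by
      intro halg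
      obtain ⟨c, hc⟩ := hK.2 x halg
      exact (Groth.Agent.FF.isSeparable_iff_D_ne_zero hK hg).1 hsep
        (by rw [← hc]; exact (KaehlerDifferential.D k K).map_algebraMap c)
    have : FiniteDimensional F K := Groth.Agent.FF.finite_over_adjoin hK.1 hxt
    have : Finite (IntermediateField F K) :=
      Field.finite_intermediateField_of_exists_primitive_element F K (Field.exists_primitive_element F K)
    by_contra hc
    simp only [not_exists, not_and] at hc
    let p : {E : IntermediateField F K // E ≠ ⊤} → Submodule k W := fun E =>
      Submodule.comap W.subtype ((E.1.restrictScalars k).toSubalgebra.toSubmodule)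
    have hcov : ⋃ E, (p E : Set W) = Set.univ := by
      refine Set.eq_univ_of_forall fun w => Set.mem_iUnion.2
        ⟨⟨IntermediateField.adjoin F ({(w : K)} : Set K), fun htop => hc w w.2 ?_⟩, ?_⟩
      · rw [← IntermediateField.adjoin_simple_adjoin_simple, htop, IntermediateField.restrictScalars_top]
      · exact IntermediateField.subset_adjoin F _ (Set.mem_singleton _)
    obtain ⟨⟨E, hE⟩, hEtop⟩ := Subspace.exists_eq_top_of_iUnion_eq_univ hcov
    refine hE (IntermediateField.restrictScalars_injective k ?_)
    rw [IntermediateField.restrictScalars_top, eq_top_iff, ← hW, IntermediateField.adjoin_le_iff]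
    intro w hw
    exact (hEtop ▸ Submodule.mem_top : (⟨w, hw⟩ : W) ∈ p ⟨E, hE⟩)

end Groth.Agent.S11050
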