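import Groth.Statements.S11051
import Groth.Agent.L26.FF.AlmostUnramified
import Groth.Agent.L26.FF.FundFF
import Groth.Agent.L26.FF.Approx
import Groth.Agent.L26.FF.Closed

set_option autoImplicit false
open FunFld

namespace Groth.Agent.S11051

open Groth.Agent.FF
open Polynomial IntermediateField

theorem isFF_intermediate {k K : Type*} [Field k] [Field K] [Algebra k K] (hK : IsFF k K) {x : K}
    (hx : Transcendental k x) (L : IntermediateField k K) (hxL : x ∈ L) :
    IsFF k L ∧ FiniteDimensional L K := by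
  let g : L := ⟨x, hxL⟩
  have h : Module.finrank k⟮algebraMap L K g⟯ K = Module.finrank k⟮g⟯ L * Module.finrank L K :=
    finrank_adjoin_map (K := L) (K' := K) g
  have := finite_over_adjoin hK hx
  have hpos : 0 < Module.finrank k⟮algebraMap L K g⟯ K := (Module.finrank_pos : 0 < Module.finrank k⟮x⟯ K)
  rw [h] at hpos
  have h1 := (pos_iff_ne_zero.1 hpos)
  rw [mul_ne_zero_iff] at h1
  exact ⟨⟨g, fun h0 => hx (h0.algebraMap (A := K)), Module.finite_of_finrank_pos (pos_iff_ne_zero.2 h1.1)⟩,
    Module.finite_of_finrank_pos (pos_iff_ne_zero.2 h1.2)⟩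

theorem dvd_ord_aeval {k K : Type*} [Field k] [Field K] [Algebra k K] (P : FunFld.Place k K) {x : K} {c : k}
    (hx : Transcendental k x) (hc : P.1 (x - algebraMap k K c) < 1) (g : k[X]) :
    P.ord (x - algebraMap k K c) ∣ P.ord (aeval x g) := by
  rcases eq_or_ne g 0 with rfl | hg
  · simp [FunFld.Place.ord]
  obtain ⟨h, hgh, hh⟩ := g.exists_eq_pow_rootMultiplicity_mul_and_not_dvd hg c
  obtain ⟨q, hq⟩ := X_sub_C_dvd_sub_C_eval (a := c) (p := h)
  have hh0 : h.eval c ≠ 0 := fun h0 => hh (dvd_iff_isRoot.2 h0)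
  have hx1 : P.1 x ≤ 1 := by
    rw [← sub_add_cancel x (algebraMap k K c)]
    refine P.1.map_add_le hc.le ?_
    rcases eq_or_ne c 0 with rfl | hc0
    · simp
    · exact (val_const P hc0).le
  have haev : ∀ r : k[X], P.1 (aeval x r) ≤ 1 := fun r => by
    rw [aeval_eq_sum_range]
    refine P.1.map_sum_le fun i _ => ?_
    rw [Algebra.smul_def, map_mul, map_pow]
    refine mul_le_one' ?_ (pow_le_one₀ zero_le hx1)
    rcases eq_or_ne (r.coeff i) 0 with h0 | h0
    · simp [h0]
    · exact (val_const P h0).le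
  have hx0 : x - algebraMap k K c ≠ 0 := fun h0 => hx (sub_eq_zero.1 h0 ▸ isAlgebraic_algebraMap c)
  have hu : P.1 (aeval x h) = 1 := by
    rw [show h = (h - C (h.eval c)) + C (h.eval c) by ring, map_add, hq, map_mul, map_sub, aeval_X, aeval_C,
      aeval_C, P.1.map_add_eq_of_lt_right, val_const P hh0]
    rw [map_mul, val_const P hh0]
    exact mul_lt_one_of_lt_of_le hc (haev q)
  have hu0 : aeval x h ≠ 0 := fun h0 => by simp [h0] at hu
  rw [hgh, map_mul, map_pow, map_sub, aeval_X, aeval_C, ord_mul P (pow_ne_zero _ hx0) hu0,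
    (val_eq_one_iff P hu0).1 hu, add_zero]
  generalize g.rootMultiplicity c = n
  induction n with
  | zero => simp [(val_eq_one_iff P one_ne_zero).1 (map_one P.1)]
  | succ n ih => rw [pow_succ, ord_mul P (pow_ne_zero n hx0) hx0]; exact dvd_add ih dvd_rfl

/-- Over an algebraically closed constant field, for every separating variable `x` of a function field
`K` of one variable (`K` separable over `k(x)`) there is `y` with `K = k(x, y)` such that the span
of `1, x, y` contains a local parameter at every place. (The published statement takes any `x`; this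
row takes `x` separating, which is what the published proof uses, since it works with the finitely
many places ramified over `k(x)`: for a constant `x` the conclusion fails for every `K`, and in
characteristic `p` it fails for `K = k(t)`, `x = t^p`, where every place is ramified over `k(x)` and
no element of the span has order one at the place at infinity or, if `y` is not a polynomial in `t`,
at a pole of `y`.) -/
theorem result
    (k K : Type*) [Field k] [IsAlgClosed k] [Field K] [Algebra k K]
    (hK : FunFld.IsFunctionField k K) (x : K)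
    (hsep : Algebra.IsSeparable (IntermediateField.adjoin k ({x} : Set K)) K) :
    ∃ y : K, IntermediateField.adjoin k ({x, y} : Set K) = ⊤ ∧
      ∀ P : FunFld.Place k K, ∃ f ∈ Submodule.span k ({1, x, y} : Set K),
        P.1 f = WithZero.exp (-1) := by
  classical
  obtain ⟨z, hz, -⟩ := id hK.1
  have hx : Transcendental k x := fun halg => by
    have : Algebra.IsAlgebraic k k⟮x⟯ := IntermediateField.isAlgebraic_adjoin_simple halg.isIntegral
    have : Algebra.IsAlgebraic k⟮x⟯ K := Algebra.IsSeparable.isAlgebraic _ _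
    exact hz ((Algebra.IsAlgebraic.trans k k⟮x⟯ K).isAlgebraic z)
  obtain ⟨hF0, hfin0⟩ := isFF_intermediate hK.1 hx k⟮x⟯ (mem_adjoin_simple_self k x)
  -- the places that need attention
  let S₀ : Set (FunFld.Place k K) :=
    {P | ¬ Function.Surjective (P.1.comap (algebraMap k⟮x⟯ K))} ∪ {P | P.ord x ≠ 0}
  have hS₀ : S₀.Finite := (finite_ramified hF0).union (finite_support_ord hK.1 x)
  let S := hS₀.toFinset
  have hunram : ∀ P, P ∉ S → ∃ c : k, P.1 (x - algebraMap k K c) = WithZero.exp (-1) := fun P hP => by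
    simp only [S, Set.Finite.mem_toFinset, S₀, Set.mem_union, not_or, Set.mem_setOf_eq, not_not] at hP
    have hx0 : x ≠ 0 := fun h => hx (h ▸ isAlgebraic_zero)
    have hx1 : P.1 x ≤ 1 := ((val_eq_one_iff P hx0).2 hP.2).le
    obtain ⟨c, hc⟩ := exists_value P (deg_eq_one hK P) hx1
    refine ⟨c, ?_⟩
    have hxc : x - algebraMap k K c ≠ 0 := fun h0 => hx (sub_eq_zero.1 h0 ▸ isAlgebraic_algebraMap c)
    have hpos := (val_lt_one_iff P hxc).1 hc
    obtain ⟨w, hw⟩ := hP.1 (WithZero.exp (-1))
    have hw' : P.1 (w : K) = WithZero.exp (-1) := hw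
    have hw0 : (w : K) ≠ 0 := fun h0 => WithZero.exp_ne_zero (a := (-1 : ℤ)) (by rw [← hw', h0, map_zero])
    obtain ⟨r, s, hrs⟩ := (IntermediateField.mem_adjoin_simple_iff k (w : K)).1 w.2
    have hword := ord_eq_of_val P hw'
    have hr0 : aeval x r ≠ 0 := fun h0 => hw0 (by rw [hrs, h0, zero_div])
    have hs0 : aeval x s ≠ 0 := fun h0 => hw0 (by rw [hrs, h0, div_zero])
    rw [hrs, div_eq_mul_inv, ord_mul P hr0 (inv_ne_zero hs0), ord_inv] at hword
    have hdvd : P.ord (x - algebraMap k K c) ∣ 1 := by
      have := dvd_sub (dvd_ord_aeval P hx hc r) (dvd_ord_aeval P hx hc s)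
      rw [show P.ord (aeval x r) - P.ord (aeval x s) = 1 by omega] at this
      exact this
    rw [val_eq_exp P hxc, Int.eq_one_of_dvd_one hpos.le hdvd]
  -- a fibre outside `S`
  obtain ⟨P₁, hP₁⟩ : ∃ P₁ : FunFld.Place k K, P₁ ∉ S := by
    have : Infinite (FunFld.Place k K) := by
      choose f hf using fun c : k => exists_zero hK.1 (x := x - algebraMap k K c)
        (fun halg => hx (by
          have := halg.add (isAlgebraic_algebraMap (A := K) c)
          rwa [sub_add_cancel] at this))
      refine Infinite.of_injective f fun a b hab => by_contra fun hne => ?_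
      have h1 := hf a
      have h2 := hf b
      rw [hab] at h1
      have h3 := (f b).1.map_sub_lt (g := 1) h2 h1
      rw [sub_sub_sub_cancel_left, ← map_sub, val_const _ (sub_ne_zero.2 hne)] at h3
      exact lt_irrefl _ h3
    exact Infinite.exists_notMem_finset S
  obtain ⟨c, hc⟩ := hunram P₁ hP₁
  have hxc : x - algebraMap k K c ≠ 0 := fun h0 => hx (sub_eq_zero.1 h0 ▸ isAlgebraic_algebraMap c)
  let F := (finite_support_ord hK.1 (x - algebraMap k K c)).toFinset
  let n : FunFld.Place k K → ℤ := fun P => if P = P₁ then 1 else if P ∈ S then -1 else 0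
  obtain ⟨y, hy⟩ := approx_val (insert P₁ (S ∪ F)) n
  have hyP : P₁.1 y = WithZero.exp 1 := by
    rw [hy P₁ (Finset.mem_insert_self _ _)]; simp [n]
  refine ⟨y, ?_, fun P => ?_⟩
  · let L := IntermediateField.adjoin k ({x, y} : Set K)
    have hxL : x ∈ L := subset_adjoin k _ (Set.mem_insert _ _)
    have hyL : y ∈ L := subset_adjoin k _ (Set.mem_insert_of_mem _ rfl)
    obtain ⟨hL, hLfin⟩ := isFF_intermediate hK.1 hx L hxL
    obtain ⟨q, e, he⟩ := exists_below hL P₁
    let xc : L := ⟨x, hxL⟩ - algebraMap k L c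
    have hqy : 1 < q.1 ⟨y, hyL⟩ := not_le.1 fun h => absurd ((he.le_one_iff _).2 h)
      (show ¬ P₁.1 y ≤ 1 by rw [hyP]; exact (one_lt_exp'.2 one_pos).not_ge)
    have hqx : q.1 xc < 1 := (he.lt_one_iff xc).1
      (show P₁.1 (x - algebraMap k K c) < 1 by rw [hc]; exact exp_lt_one'.2 (by omega))
    have huniq : (finite_over (K' := K) hL q).toFinset = {P₁} := by
      ext Q
      rw [Set.Finite.mem_toFinset, Finset.mem_singleton]
      refine ⟨fun h => ?_, fun h => h ▸ ⟨e, he⟩⟩
      obtain ⟨e', he'⟩ := h
      by_contra hne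
      have h1 : Q.1 (x - algebraMap k K c) < 1 := (he'.lt_one_iff xc).2 hqx
      have hQF : Q ∈ F := by
        simp only [F, Set.Finite.mem_toFinset]
        have := (val_lt_one_iff Q hxc).1 h1
        show Q.ord (x - algebraMap k K c) ≠ 0
        omega
      have h2 := hy Q (Finset.mem_insert_of_mem (Finset.mem_union_right _ hQF))
      have h3 : ¬ Q.1 y ≤ 1 := fun h => hqy.not_ge ((he'.le_one_iff ⟨y, hyL⟩).1 h)
      apply h3
      rw [h2, exp_le_one']
      simp only [n, if_neg hne]
      split_ifs <;> omega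
    have hsum := sum_ramIdx_ff (K' := K) hL q
    rw [huniq, Finset.sum_singleton, ramIdx_eq he, deg_eq_one hK P₁, mul_one] at hsum
    have he1 : e = 1 := by
      have hy0 : y ≠ 0 := fun h0 => WithZero.exp_ne_zero (a := (1 : ℤ)) (by rw [← hyP, h0, map_zero])
      have h1 : P₁.ord y = -1 := ord_eq_of_val P₁ hyP
      have h2 : P₁.ord y = (e : ℤ) * q.ord ⟨y, hyL⟩ := he.ord (⟨y, hyL⟩ : L)
      rcases Int.eq_one_or_neg_one_of_mul_eq_neg_one (h2.symm.trans h1) with h3 | h3 <;> omega
    rw [he1] at hsum
    have h4 : Module.finrank L K = 1 := Nat.eq_one_of_mul_eq_one_right hsum.symm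
    refine eq_top_iff.2 fun w _ => ?_
    obtain ⟨a, ha⟩ := ((finrank_eq_one_iff_of_nonzero' (1 : K) one_ne_zero).1 h4) w
    rw [← ha]
    show (a : K) * 1 ∈ L
    rw [mul_one]
    exact a.2
  · by_cases hP : P ∈ S
    · refine ⟨y, Submodule.subset_span (by simp), ?_⟩
      have hne : P ≠ P₁ := fun h => hP₁ (h ▸ hP)
      rw [hy P (Finset.mem_insert_of_mem (Finset.mem_union_left _ hP))]
      simp [n, hne, hP]
    · obtain ⟨d, hd⟩ := hunram P hP
      refine ⟨x - algebraMap k K d, Submodule.sub_mem _ (Submodule.subset_span (by simp)) ?_, hd⟩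
      rw [Algebra.algebraMap_eq_smul_one]
      exact Submodule.smul_mem _ _ (Submodule.subset_span (by simp))

end Groth.Agent.S11051
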