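import Groth.Statements.S12604
import Groth.Agent.L26.FF.DiffUse
import Groth.Agent.S12606

set_option autoImplicit false
open FunFld

namespace Groth.Agent.S12604

open Groth.Agent.FF

/-- Over an algebraically closed constant field, let `τ` be a `k`-endomorphism of the function field `K`
of genus `g`, of degree `deg τ = [K : τ(K)]`, and `φ = (φ₀, …, φₙ)` a projective map such that
`τ(φ)` is not a `K`-multiple of `φ`, with `τ`-orders `j₁, …, jₙ`. Then the number `N` of strong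
fixed points of `τ` (places whose maximal ideal `τ` maps into its square) is finite and `n N ≤ (n +
deg τ) deg φ + (2g - 2)(j₁ + ⋯ + jₙ)`, i.e. `N ≤ (1/n) deg W(φ, τ)`. -/
theorem result
    (k K : Type*) [Field k] [IsAlgClosed k] [Field K] [Algebra k K]
    (hK : FunFld.IsFunctionField k K) (τ : K →ₐ[k] K) {n : ℕ} (φ : Fin (n + 1) → K) (hφ : LinearIndependent k φ)
    (hτφ : ¬ ∃ y : K, ∀ i, τ (φ i) = y * φ i) (s : K) (H : K →ₐ[k] PowerSeries K) (hH : LocRes.IsHasseFamily s H)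
    (J : Fin n → ℕ) (hJ : FunFld.IsOrders K (FunFld.hcol τ H φ) J) :
    {P : FunFld.Place k K | FunFld.IsStrongFixedPt τ P}.Finite ∧
    (n : ℤ) * (Set.ncard {P : FunFld.Place k K | FunFld.IsStrongFixedPt τ P} : ℤ) ≤
      ((n : ℤ) + Module.finrank τ.fieldRange K) * (FunFld.mapDiv k φ).deg +
        (2 * (FunFld.genus k K : ℤ) - 2) * ∑ l, (J l : ℤ) := by
  classical
  have hn : 0 < n := by
    rcases Nat.eq_zero_or_pos n with rfl | h
    · refine absurd ⟨τ (φ 0) / φ 0, fun i => ?_⟩ hτφ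
      obtain rfl : i = 0 := Fin.ext (by omega)
      rw [div_mul_cancel₀ _ (hφ.ne_zero 0)]
    · exact h
  obtain ⟨Φ, hΦ⟩ := exists_expansions hK hH
  have hnn := wDiv_nonneg hK hΦ hφ hH hJ
  have hdeg := deg_wDiv (τ := τ) (φ := φ) (J := J) hK hΦ hH
  set W := FunFld.wDiv τ H Φ s φ J
  have key : ∀ P, FunFld.IsStrongFixedPt τ P → (n : ℤ) ≤ W P := by
    intro P hP
    obtain ⟨t, Ht, ht, hHt⟩ := exists_local hK hH P
    obtain ⟨y, hy, hyφ, heff, hnorm, hM, -⟩ := exists_normalised hK hφ P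
    have hφ0 : φ ≠ 0 := fun h => hφ.ne_zero 0 (congrFun h 0)
    obtain ⟨hJt, -⟩ := det_variable hK hH hHt hφ0 hJ
    obtain ⟨hJy, -⟩ := det_scale hHt hφ0 hJt hy
    obtain ⟨J', hJ'⟩ := exists_ordersAt hK ht hHt hyφ heff hnorm
    have hfix : FunFld.IsFixedPt τ P := fun z hz => (hP z hz).trans_lt (exp_lt_one'.2 (by norm_num))
    have hτφ' : ¬ ∃ z : K, ∀ i, τ ((y • φ) i) = z * (y • φ) i := by
      rintro ⟨z, hz⟩
      refine hτφ ⟨z * y / τ y, fun i => ?_⟩
      have := hz i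
      simp only [Pi.smul_apply, smul_eq_mul, map_mul] at this
      rw [div_mul_eq_mul_div, eq_div_iff ((map_ne_zero τ).2 hy), mul_comm, this]
      ring
    have h1 := Groth.Agent.S12606.result k K hK τ P hP hn (y • φ) hyφ heff hnorm hτφ' t ht Ht hHt J hJy J' hJ'
    have h0 := (adapted_basis hK hyφ heff hnorm ht hHt hJ').1 ⟨0, hn⟩
    have hdet := det_wrMat_ne_zero τ Ht (fun h => hyφ.ne_zero 0 (congrFun h 0)) hJy
    have h2 := (wr_at_fixed hK hfix hyφ heff hnorm ht hHt hJ' J).1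
    rw [val_le_exp_iff P hdet] at h2
    show (n : ℤ) ≤ FunFld.wDiv τ H Φ s φ J P
    rw [wDiv_apply hK hΦ hφ hH hJ ht hHt hy, hM, mapDiv_fixed_zero hK hfix hyφ.ne_zero heff hnorm]
    have h3 : (n : ℤ) ≤ ∑ l : Fin n, ((J' l : ℤ) - J l) := by
      calc (n : ℤ) = ∑ l : Fin n, (1 : ℤ) := by simp
        _ ≤ _ := Finset.sum_le_sum fun l _ => by have := h1 l; omega
    omega
  have hsub : {P : FunFld.Place k K | FunFld.IsStrongFixedPt τ P} ⊆ (W.support : Set _) := fun P hP => by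
    have := key P hP
    simp only [Finset.mem_coe, Finsupp.mem_support_iff]
    omega
  have hfin := W.support.finite_toSet.subset hsub
  refine ⟨hfin, ?_⟩
  rw [Set.ncard_eq_toFinset_card _ hfin, add_comm (n : ℤ) _, ← hdeg,
    deg_eq_sum (s := W.support) (Finset.Subset.refl _)]
  calc (n : ℤ) * (hfin.toFinset.card : ℤ) = ∑ P ∈ hfin.toFinset, (n : ℤ) := by
        simp [mul_comm]
    _ ≤ ∑ P ∈ hfin.toFinset, W P * (P.deg : ℤ) := Finset.sum_le_sum fun P hP => by
        rw [deg_eq_one hK P, Nat.cast_one, mul_one]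
        exact key P (hfin.mem_toFinset.1 hP)
    _ ≤ ∑ P ∈ W.support, W P * (P.deg : ℤ) :=
        Finset.sum_le_sum_of_subset_of_nonneg (Set.Finite.toFinset_subset.2 hsub)
          fun P _ _ => mul_nonneg (hnn P) (Int.natCast_nonneg _)

end Groth.Agent.S12604
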