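import Groth.Statements.S11053
import Groth.Agent.L26.FF.GapSum
import Groth.Agent.L26.FF.DiffUse
import Groth.Agent.S12604
import Groth.Agent.S12606

set_option autoImplicit false
open FunFld

namespace Groth.Agent.S11053

open Groth.Agent.FF WithZero

/-- Over an algebraically closed constant field, let `τ` be a `k`-embedding of the function field `K` of
genus `g` into itself, of degree `deg τ = [K : τ(K)]`. A place is a strong fixed point of `τ` when
`τ` maps its maximal ideal into the square of that ideal. For every integer `n > g` there are at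
most `1 + deg τ + (n + deg τ / n) g + 2g²(g-1)/n` strong fixed points. -/
theorem result
    (k K : Type*) [Field k] [IsAlgClosed k] [Field K] [Algebra k K]
    (hK : FunFld.IsFunctionField k K) (τ : K →ₐ[k] K) (n : ℕ)
    (hn : FunFld.genus k K < n) :
    {P : FunFld.Place k K | ∀ x : K, P.1 x < 1 → P.1 (τ x) ≤ WithZero.exp (-2)}.Finite ∧
    (Set.ncard {P : FunFld.Place k K | ∀ x : K, P.1 x < 1 → P.1 (τ x) ≤ WithZero.exp (-2)} : ℝ) ≤
      1 + Module.finrank τ.fieldRange K +
        (n + (Module.finrank τ.fieldRange K : ℝ) / n) * FunFld.genus k K +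
        2 * (FunFld.genus k K : ℝ) ^ 2 * (FunFld.genus k K - 1) / n := by
  classical
  have hset : {P : FunFld.Place k K | ∀ x : K, P.1 x < 1 → P.1 (τ x) ≤ WithZero.exp (-2)} =
      {P : FunFld.Place k K | FunFld.IsStrongFixedPt τ P} := rfl
  rw [hset]
  set g := FunFld.genus k K
  set q := Module.finrank τ.fieldRange K
  have hn0 : 0 < n := lt_of_le_of_lt (Nat.zero_le _) hn
  have hn' : (0 : ℝ) < n := by exact_mod_cast hn0
  rcases Set.eq_empty_or_nonempty {P : FunFld.Place k K | FunFld.IsStrongFixedPt τ P} with he | ⟨P, hP⟩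
  · rw [he]
    refine ⟨Set.finite_empty, ?_⟩
    rw [Set.ncard_empty, Nat.cast_zero]
    rcases Nat.eq_zero_or_pos g with hg | hg
    · rw [hg]; simp; positivity
    · have : (0 : ℝ) ≤ (g : ℝ) - 1 := by
        rw [sub_nonneg]; exact_mod_cast hg
      positivity
  have hP : FunFld.IsStrongFixedPt τ P := hP
  obtain ⟨m, rfl⟩ : ∃ m, m = n + g := ⟨_, rfl⟩
  set D : FunFld.Divisor k K := Finsupp.single P ((n + g : ℕ) : ℤ) with hD
  have hDd : D.deg = (n + g : ℕ) := by rw [hD, deg_single, deg_eq_one hK P, Nat.cast_one, mul_one]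
  have hell : FunFld.ell D = n + 1 := by
    have := ell_eq_of_deg_ge hK (D := D) (by rw [hDd]; omega)
    rw [hDd] at this
    omega
  haveI := finite_L hK.1 D
  let b := Module.finBasisOfFinrankEq k (FunFld.L D) hell
  set φ : Fin (n + 1) → K := fun i => (b i : K) with hφd
  have hφ : LinearIndependent k φ := b.linearIndependent.map' (FunFld.L D).subtype (Submodule.ker_subtype _)
  have hspan : Submodule.span k (Set.range φ) = FunFld.L D := by
    rw [show φ = (FunFld.L D).subtype ∘ b from rfl, Set.range_comp, ← Submodule.map_span, b.span_eq,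
      Submodule.map_subtype_top]
  have hone : (1 : K) ∈ FunFld.L D := (mem_L_iff_ord one_ne_zero).2 fun Q => by
    rw [show Q.ord (1 : K) = 0 from (val_eq_one_iff Q one_ne_zero).1 (map_one _), hD,
      Finsupp.single_apply]
    split_ifs <;> omega
  have hτφ : ¬ ∃ y : K, ∀ i, τ (φ i) = y * φ i := by
    rintro ⟨y, hy⟩
    have hall : ∀ z ∈ FunFld.L D, τ z = y * z := fun z hz => by
      rw [← hspan] at hz
      induction hz using Submodule.span_induction with
      | mem a ha => obtain ⟨i, rfl⟩ := ha; exact hy i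
      | zero => simp
      | add a b _ _ ha hb => rw [map_add, ha, hb, mul_add]
      | smul c a _ ha => rw [map_smul, ha, mul_smul_comm]
    have hy1 : y = 1 := by simpa using (hall 1 hone).symm
    obtain ⟨z, hz, hzP⟩ : ∃ z ∈ FunFld.L D, 1 < P.1 z := by
      by_contra hall'
      simp only [not_exists, not_and, not_lt] at hall'
      have hle : FunFld.L D ≤ FunFld.L (0 : FunFld.Divisor k K) := fun z hz => by
        rw [mem_L] at hz ⊢
        intro Q
        by_cases hQ : Q = P
        · subst hQ; simpa using hall' z hz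
        · simpa [hD, Finsupp.single_eq_of_ne hQ] using hz Q
      haveI := finite_L hK.1 (0 : FunFld.Divisor k K)
      have h1 : FunFld.ell D ≤ FunFld.ell (0 : FunFld.Divisor k K) := Submodule.finrank_mono hle
      rw [hell, ell_zero hK] at h1
      omega
    have hτz : τ z = z := by rw [hall z hz, hy1, one_mul]
    have hz0 : z ≠ 0 := fun h => by rw [h, map_zero] at hzP; exact not_lt_zero hzP
    obtain ⟨t, ht0, ht⟩ := exists_val_eq P (-1)
    have hfix : FunFld.IsFixedPt τ P := fun x hx => (hP x hx).trans_lt (exp_lt_one'.2 (by norm_num))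
    have hord : 0 < P.ord z⁻¹ := by
      rw [← val_lt_one_iff P (inv_ne_zero hz0), map_inv₀]
      exact inv_lt_one_of_one_lt₀ hzP
    have := fixed_pow hK hfix (e := 2) ht (by simpa using hP t (by rw [ht, exp_lt_one']; norm_num))
      (P.ord z⁻¹).toNat (z := z⁻¹) (by rw [val_eq_exp P (inv_ne_zero hz0), exp_le_exp]; omega)
    rw [map_inv₀ τ, hτz, val_eq_exp P (inv_ne_zero hz0), exp_le_exp] at this
    omega
  obtain ⟨s, H, hH⟩ := exists_hasse_family hK
  obtain ⟨J, hJ⟩ := exists_orders hK hφ τ hH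
  obtain ⟨hfin, hbound⟩ := Groth.Agent.S12604.result k K hK τ φ hφ hτφ s H hH J hJ
  refine ⟨hfin, ?_⟩
  set N := Set.ncard {P : FunFld.Place k K | FunFld.IsStrongFixedPt τ P}
  have hmap : (FunFld.mapDiv k φ).deg ≤ (n + g : ℕ) := by
    rw [← hDd]
    exact deg_mono ((mapDiv_le_iff hK.1 hφ.ne_zero).2 fun i => (b i).2)
  have hlow : ∀ l : Fin n, (l : ℕ) ≤ J l := by
    rintro ⟨i, hi⟩
    induction i with
    | zero => exact Nat.zero_le _
    | succ i ih => exact (Nat.succ_le_succ (ih (by omega))).trans (hJ.1 (show (⟨i, by omega⟩ : Fin n) < ⟨i + 1, hi⟩ from Nat.lt_succ_self i))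
  have hsum_low : (n : ℤ) * (n - 1) ≤ 2 * ∑ l, (J l : ℤ) := by
    have h1 : ∑ l : Fin n, (l : ℕ) ≤ ∑ l, J l := Finset.sum_le_sum fun l _ => hlow l
    rw [Fin.sum_univ_eq_sum_range (fun i => i) n] at h1
    have h2 := Finset.sum_range_id_mul_two n
    have h3 : n * (n - 1) ≤ 2 * ∑ l, J l := by omega
    have h4 : (n : ℤ) * ((n - 1 : ℕ) : ℤ) ≤ 2 * ((∑ l, J l : ℕ) : ℤ) := by exact_mod_cast h3
    rw [Nat.cast_sub (show 1 ≤ n by omega), Nat.cast_sum] at h4
    exact_mod_cast h4
  have hsum_high : 0 < g → 2 * ∑ l, (J l : ℤ) ≤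
      2 * n * (n + g : ℕ) - (n + g : ℕ) * ((n + g : ℕ) + 1) + 2 * (g : ℤ) ^ 2 + 2 * (n + g : ℕ) - 2 * n := by
    intro _
    obtain ⟨t, Ht, ht, hHt⟩ := exists_local hK hH P
    obtain ⟨y, hy, hyφ, heff, hnorm, -, -⟩ := exists_normalised hK hφ P
    have hφ0 : φ ≠ 0 := fun h => hφ.ne_zero 0 (congrFun h 0)
    obtain ⟨hJt, -⟩ := det_variable hK hH hHt hφ0 hJ
    obtain ⟨hJy, -⟩ := det_scale hHt hφ0 hJt hy
    obtain ⟨J', hJ'⟩ := exists_ordersAt hK ht hHt hyφ heff hnorm
    have hτφ' : ¬ ∃ z : K, ∀ i, τ ((y • φ) i) = z * (y • φ) i := by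
      rintro ⟨z, hz⟩
      refine hτφ ⟨z * y / τ y, fun i => ?_⟩
      have := hz i
      simp only [Pi.smul_apply, smul_eq_mul, map_mul] at this
      rw [div_mul_eq_mul_div, eq_div_iff ((map_ne_zero τ).2 hy), mul_comm, this]
      ring
    have h1 := Groth.Agent.S12606.result k K hK τ P hP hn0 (y • φ) hyφ heff hnorm hτφ' t ht Ht hHt J hJy J' hJ'
    obtain ⟨hpos, -, hiff⟩ := adapted_basis hK hyφ heff hnorm ht hHt hJ'
    have hspan' : Submodule.span k (Set.range (y • φ)) = (FunFld.L D).map (LinearMap.mulLeft k y) := by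
      rw [← hspan, Submodule.map_span, ← Set.range_comp]; rfl
    have hb := orders_sum_le hK P (m := n + g) (n := n) (by omega) rfl hy
      (by
        obtain ⟨a, ha, e⟩ := Submodule.mem_map.1 (hspan' ▸ heff)
        exact ⟨a, ha, e⟩) hJ'.1
      (fun l => by
        obtain ⟨f, hf, hfv⟩ := (hiff (J' l)).1 (Or.inr ⟨l, rfl⟩)
        obtain ⟨a, ha, rfl⟩ := Submodule.mem_map.1 (hspan' ▸ hf)
        exact ⟨a, ha, hfv⟩)
    have h2 : ∑ l, (J l : ℤ) ≤ ∑ l, ((J' l : ℤ) - 1) := Finset.sum_le_sum fun l _ => by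
      have := h1 l
      have := hpos ⟨0, hn0⟩
      omega
    rw [Finset.sum_sub_distrib] at h2
    simp only [Finset.sum_const, Finset.card_univ, Fintype.card_fin, nsmul_eq_mul, mul_one] at h2
    linarith
  change (n : ℤ) * (N : ℤ) ≤ ((n : ℤ) + q) * _ + (2 * (g : ℤ) - 2) * _ at hbound
  have key : (n : ℤ) * N ≤ n + n * q + (n ^ 2 + q) * g + 2 * (g : ℤ) ^ 2 * (g - 1) := by
    have hnq : (0 : ℤ) ≤ (n : ℤ) + q := by positivity
    have h1 := mul_le_mul_of_nonneg_left hmap hnq
    rcases Nat.eq_zero_or_pos g with hg | hg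
    · rw [hg] at hbound h1 ⊢
      push_cast at hbound h1 ⊢
      nlinarith [hbound, h1, hsum_low]
    · have h2 := hsum_high hg
      have hg1 : (0 : ℤ) ≤ (g : ℤ) - 1 := by omega
      have hg2 : (g : ℤ) ≤ (g : ℤ) ^ 2 := by exact_mod_cast Nat.le_self_pow two_ne_zero g
      push_cast at hbound h1 h2 ⊢
      nlinarith [hbound, h1, mul_le_mul_of_nonneg_left h2 hg1, mul_le_mul_of_nonneg_left hg2 hg1]
  have key' : (n : ℝ) * N ≤ n + n * q + (n ^ 2 + q) * g + 2 * (g : ℝ) ^ 2 * (g - 1) := by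
    have h := (Int.cast_le (R := ℝ)).2 key
    push_cast at h
    exact h
  calc (N : ℝ) = (n : ℝ) * N / n := by field_simp
    _ ≤ (n + n * q + (n ^ 2 + q) * g + 2 * (g : ℝ) ^ 2 * (g - 1)) / n :=
        div_le_div_of_nonneg_right key' hn'.le
    _ = _ := by field_simp

end Groth.Agent.S11053
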