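import Groth.Statements.S11057
import Groth.Agent.L26.FF.Criterion

set_option autoImplicit false
open FunFld

namespace Groth.Agent.S11057

open Groth.Agent.FF

/-- Over an algebraically closed constant field, if `K` has degree at least `3` over every subfield
`k(x)` generated by a nonconstant element, then the canonical map (given by a basis of `L(D)` for a
canonical divisor `D`) is an embedding, i.e. nonsingular at every place. Here a projective map is
nonsingular at a place when its local ring there (quotients of polynomials over `k` in the ratios
`φᵢ/φⱼ`, `φⱼ` of least order at the place, with denominator a unit there) is the whole valuation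
ring. -/
theorem result
    (k K : Type*) [Field k] [IsAlgClosed k] [Field K] [Algebra k K]
    (hK : FunFld.IsFunctionField k K)
    (h2 : ∀ x : K, Transcendental k x →
      2 < Module.finrank (IntermediateField.adjoin k ({x} : Set K)) K)
    (D : FunFld.Divisor k K) (hD : FunFld.IsCanonical k K D) {n : ℕ} (φ : Fin (n + 1) → K)
    (hφ : LinearIndependent k φ) (hspan : Submodule.span k (Set.range φ) = FunFld.L D)
    (P : FunFld.Place k K) : FunFld.IsNonsingularAt φ P := by
  classical
  have hd : ∀ P : FunFld.Place k K, (P.deg : ℤ) = 1 := fun P => by rw [deg_eq_one hK P, Nat.cast_one]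
  have e0 := (ell_canonical hK hD).1
  have d0 := (ell_canonical hK hD).2
  have small : ∀ E : FunFld.Divisor k K, 0 ≤ E → E.deg ≤ 2 → FunFld.ell E = 1 := fun E hE hdeg => by
    refine le_antisymm ?_ ((ell_zero hK).symm.trans_le (ell_mono hK.1 hE))
    by_contra hl
    push Not at hl
    have : FiniteDimensional k (FunFld.L E) := finite_L hK.1 E
    obtain ⟨z, hz, hzc⟩ : ∃ z ∈ FunFld.L E, z ∉ (1 : Submodule k K) := by
      by_contra hc
      push Not at hc
      have hle : FunFld.L E ≤ FunFld.L (0 : FunFld.Divisor k K) := by rw [L_zero hK]; exact hc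
      have := finite_L hK.1 (0 : FunFld.Divisor k K)
      have h3 : FunFld.ell E ≤ FunFld.ell (0 : FunFld.Divisor k K) := Submodule.finrank_mono hle
      rw [ell_zero hK] at h3
      omega
    have htr := transcendental_of_not_const hK
      (fun ⟨c, hc⟩ => hzc (Submodule.mem_one.2 ⟨c, hc⟩))
    have hle : poles k z ≤ E := fun Q => by
      have hz0 : z ≠ 0 := fun h => htr (h ▸ isAlgebraic_zero)
      rw [poles_apply hK.1]
      have := (mem_L_iff_ord hz0).1 hz Q
      have hEQ := hE Q
      rw [Finsupp.zero_apply] at hEQ
      omega
    have h4 := deg_nonneg (D := E - poles k z) (sub_nonneg.2 hle)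
    rw [deg_sub, deg_poles hK.1 htr] at h4
    have := h2 z htr
    omega
  have hsingle : ∀ R : FunFld.Place k K, (0 : FunFld.Divisor k K) ≤ Finsupp.single R 1 := fun R Q => by
    rw [Finsupp.zero_apply, Finsupp.single_apply]; split_ifs <;> omega
  have l1 : ∀ R : FunFld.Place k K, FunFld.ell (Finsupp.single R (1 : ℤ)) = 1 := fun R =>
    small _ (hsingle R) (by rw [deg_single, hd]; omega)
  refine nonsingular_of_ell hK hφ hspan (fun R => ?_) (fun R S => ?_) P
  · have h := riemann_roch hK hD (D - Finsupp.single R 1)
    rw [deg_sub, deg_single, hd, sub_sub_cancel, l1] at h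
    omega
  · have h := riemann_roch hK hD (D - Finsupp.single R 1 - Finsupp.single S 1)
    rw [deg_sub, deg_sub, deg_single, deg_single, hd, hd,
      show D - (D - Finsupp.single R (1 : ℤ) - Finsupp.single S 1) =
        Finsupp.single R 1 + Finsupp.single S 1 by abel,
      small _ (add_nonneg (hsingle R) (hsingle S))
        (by rw [deg_add, deg_single, deg_single, hd, hd]; omega)] at h
    omega

end Groth.Agent.S11057
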