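import Groth.Statements.S11058
import Groth.Agent.L26.FF.Embed

set_option autoImplicit false
open FunFld

namespace Groth.Agent.S11058

open Groth.Agent.FF WithZero

/-- Over an algebraically closed constant field, a birational projective map `φ = (φ₀, …, φₙ)` (the
ratios `φᵢ/φ₀` generate `K` over `k`) is nonsingular at all but finitely many places. Here a
projective map is nonsingular at a place when its local ring there (quotients of polynomials over
`k` in the ratios `φᵢ/φⱼ`, `φⱼ` of least order at the place, with denominator a unit there) is the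
whole valuation ring. -/
theorem result
    (k K : Type*) [Field k] [IsAlgClosed k] [Field K] [Algebra k K]
    (hK : FunFld.IsFunctionField k K) {n : ℕ} (hn : 1 ≤ n) (φ : Fin (n + 1) → K)
    (hφ : LinearIndependent k φ)
    (hbir : IntermediateField.adjoin k (Set.range fun i => φ i / φ 0) = ⊤) :
    {P : FunFld.Place k K | ¬ FunFld.IsNonsingularAt φ P}.Finite := by
  classical
  have hne := hφ.ne_zero
  have hE := bdry_ne_zero hK hφ (by simpa using Nat.succ_le_succ hn) 0
  obtain ⟨c, hcA, hc0, hc⟩ := exists_conductor hK hne 0 hE hbir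
  obtain ⟨Pinf, hinf⟩ : ∃ Q, bdry k φ 0 Q ≠ 0 := by
    by_contra h
    push Not at h
    exact hE (Finsupp.ext fun Q => by simpa using h Q)
  refine ((bdry k φ 0).support ∪ (FunFld.div k c).support).finite_toSet.subset fun P hP => ?_
  by_contra hmem
  simp only [Finset.coe_union, Set.mem_union, Finset.mem_coe, Finsupp.mem_support_iff, not_or,
    not_not, div_apply hK.1] at hmem
  refine hP fun z hz => ?_
  let S : Finset (FunFld.Place k K) :=
    (insert P (FunFld.div k z).support).filter fun Q => bdry k φ 0 Q = 0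
  have hinfS : Pinf ∉ S := fun h => hinf (Finset.mem_filter.1 h).2
  obtain ⟨b, hb, hb'⟩ := strong_approximation hK Pinf S hinfS (fun Q => if Q = P then 1 else 0)
    (fun Q => if Q = P then 1 else max (-Q.ord z) 0)
  have hPS : P ∈ S := Finset.mem_filter.2 ⟨Finset.mem_insert_self _ _, hmem.1⟩
  have hbP : P.1 b = 1 := by
    have := hb P hPS
    rw [if_pos rfl, if_pos rfl] at this
    have h2 := P.1.map_add_eq_of_lt_right (y := (1 : K)) (this.trans_lt (by
      rw [map_one, exp_lt_one']; omega))
    rwa [sub_add_cancel, map_one] at h2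
  have hB : ∀ Q, bdry k φ 0 Q = 0 → Q.1 b ≤ 1 ∧ Q.1 (b * z) ≤ 1 := fun Q hQ => by
    rcases eq_or_ne Q P with rfl | hQP
    · exact ⟨hbP.le, by rw [map_mul, hbP, one_mul]; exact hz⟩
    by_cases hQS : Q ∈ S
    · have := hb Q hQS
      rw [if_neg hQP, if_neg hQP, sub_zero] at this
      refine ⟨by rw [this, exp_le_one']; simp, ?_⟩
      rcases eq_or_ne z 0 with rfl | hz0
      · simp
      rw [map_mul, this, val_eq_exp Q hz0, ← exp_add, exp_le_one']
      omega
    · have h1 := hb' Q (fun h => hinf (h ▸ hQ)) hQS
      refine ⟨h1, ?_⟩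
      rw [map_mul]
      refine Left.mul_le_one h1 ?_
      rcases eq_or_ne z 0 with rfl | hz0
      · simp
      refine ((val_eq_one_iff Q hz0).2 ?_).le
      by_contra h
      exact hQS (Finset.mem_filter.2 ⟨Finset.mem_insert_of_mem
        (Finsupp.mem_support_iff.2 (by rw [div_apply hK.1]; exact h)), hQ⟩)
  refine ⟨0, hne 0, (bdry_eq_zero_iff hK.1 hne 0 P).1 hmem.1, c * (b * z),
    hc _ fun Q hQ => (hB Q hQ).2, c * b, hc _ fun Q hQ => (hB Q hQ).1, ?_, by ring⟩
  rw [map_mul, hbP, (val_eq_one_iff P hc0).2 hmem.2, mul_one]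

end Groth.Agent.S11058
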