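import Groth.Statements.S11060
import Groth.Agent.L26.FF.PlaneGenus

set_option autoImplicit false
open FunFld

namespace Groth.Agent.S11060

/-- Over an algebraically closed constant field, a function field of genus `g` with a nonsingular plane
model has `g` a triangular number. Here a projective map is nonsingular at a place when its local
ring there (quotients of polynomials over `k` in the ratios `φᵢ/φⱼ`, `φⱼ` of least order at the
place, with denominator a unit there) is the whole valuation ring. -/
theorem result
    (k K : Type*) [Field k] [IsAlgClosed k] [Field K] [Algebra k K]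
    (hK : FunFld.IsFunctionField k K)
    (h : ∃ x y : K, IntermediateField.adjoin k ({x, y} : Set K) = ⊤ ∧
      ∀ P : FunFld.Place k K, FunFld.IsNonsingularAt ![(1 : K), x, y] P) :
    ∃ m : ℕ, 2 * FunFld.genus k K = m * (m + 1) := by
  obtain ⟨x, y, hxy, hns⟩ := h
  obtain ⟨h1, -, h3⟩ := Groth.Agent.FF.plane_genus hK x y hxy
  have e := h3.2 hns
  refine ⟨((FunFld.mapDiv k ![(1 : K), x, y]).deg - 2).toNat, ?_⟩
  generalize (FunFld.mapDiv k ![(1 : K), x, y]).deg = d at h1 e ⊢
  rcases lt_or_ge d 2 with h | h
  · have hd : d = 1 := by omega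
    subst hd
    simp only [sub_self, zero_mul] at e
    rw [show ((1 : ℤ) - 2).toNat = 0 from rfl]
    omega
  · obtain ⟨m, hm⟩ : ∃ m : ℕ, d = m + 2 := ⟨(d - 2).toNat, by omega⟩
    subst hm
    rw [show ((m : ℤ) + 2 - 2).toNat = m by omega]
    have e2 : ((2 * FunFld.genus k K : ℕ) : ℤ) = ((m * (m + 1) : ℕ) : ℤ) := by
      push_cast; rw [e]; ring
    exact_mod_cast e2

end Groth.Agent.S11060
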