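import Groth.Statements.S11064
import Groth.Agent.L26.FF.Embed

set_option autoImplicit false
open FunFld

namespace Groth.Agent.S11064

open Groth.Agent.FF

/-- Over an algebraically closed constant field, a projective map `φ = (φ₀, …, φₙ)` that is nonsingular
at some place is birational, i.e. the ratios `φᵢ/φ₀` generate `K` over `k`. Here the local ring of a
projective map at a place consists of the quotients of polynomials over `k` in the ratios `φᵢ/φⱼ`,
`φⱼ` of least order at the place, with denominator a unit there; the map is nonsingular at the place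
when this ring is the whole valuation ring. -/
theorem result
    (k K : Type*) [Field k] [IsAlgClosed k] [Field K] [Algebra k K]
    (hK : FunFld.IsFunctionField k K) {n : ℕ} (φ : Fin (n + 1) → K)
    (h0 : φ 0 ≠ 0) (P : FunFld.Place k K) (h : FunFld.IsNonsingularAt φ P) :
    IntermediateField.adjoin k (Set.range fun i => φ i / φ 0) = ⊤ := by
  obtain ⟨j, hj⟩ := exists_minimal φ P
  rw [eq_top_iff]
  have hmem : ∀ z : K, P.1 z ≤ 1 → z ∈ IntermediateField.adjoin k (Set.range fun i => φ i / φ 0) := by
    intro z hz
    obtain ⟨j', hj'0, -, u, hu, w, hw, hw1, hzw⟩ := h z hz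
    have hle : Algebra.adjoin k (Set.range fun i => φ i / φ j') ≤
        (IntermediateField.adjoin k (Set.range fun i => φ i / φ 0)).toSubalgebra := by
      refine Algebra.adjoin_le ?_
      rintro _ ⟨i, rfl⟩
      show φ i / φ j' ∈ IntermediateField.adjoin k _
      rw [show φ i / φ j' = (φ i / φ 0) / (φ j' / φ 0) by field_simp]
      exact div_mem (IntermediateField.subset_adjoin _ _ ⟨i, rfl⟩)
        (IntermediateField.subset_adjoin _ _ ⟨j', rfl⟩)
    have hw0 : w ≠ 0 := fun h => by rw [h, map_zero] at hw1; exact zero_ne_one hw1
    rw [show z = u / w by rw [← hzw]; field_simp]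
    exact div_mem (hle hu) (hle hw)
  intro z _
  by_cases hz : P.1 z ≤ 1
  · exact hmem z hz
  · rw [← inv_inv z]
    exact inv_mem (hmem _ (by rw [map_inv₀]; exact (inv_lt_one_of_one_lt₀ (not_le.1 hz)).le))

end Groth.Agent.S11064
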