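import Groth.Statements.S11066
import Groth.Agent.L26.FF.Embed

set_option autoImplicit false
open FunFld

namespace Groth.Agent.S11066

open Groth.Agent.FF WithZero

/-- Over an algebraically closed constant field, for an effective projective map `φ` normalized at the
place `P` (`1` in the span of the entries, all entries integral at `P`), the local ring of `φ` at
`P` has an element of order one at `P` (a local parameter) exactly when the span of the entries has
one. The local ring consists of the quotients of polynomials over `k` in the ratios `φᵢ/φⱼ`, `φⱼ` of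
least order at `P`, with denominator a unit at `P`. -/
theorem result
    (k K : Type*) [Field k] [IsAlgClosed k] [Field K] [Algebra k K]
    (hK : FunFld.IsFunctionField k K) {n : ℕ} (φ : Fin (n + 1) → K)
    (P : FunFld.Place k K) (heff : (1 : K) ∈ Submodule.span k (Set.range φ))
    (hnorm : ∀ i, P.1 (φ i) ≤ 1) :
    (∃ t : K, FunFld.InLocRing φ P t ∧ P.1 t = WithZero.exp (-1)) ↔
      ∃ t ∈ Submodule.span k (Set.range φ), P.1 t = WithZero.exp (-1) := by
  obtain ⟨j, hj⟩ := exists_minimal φ P
  have hj1 : P.1 (φ j) = 1 := by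
    refine le_antisymm (hnorm j) ?_
    obtain ⟨c, hc⟩ := (Submodule.mem_span_range_iff_exists_fun k).1 heff
    calc (1 : WithZero (Multiplicative ℤ)) = P.1 (∑ i, c i • φ i) := by rw [hc, map_one]
      _ ≤ P.1 (φ j) := P.1.map_sum_le fun i _ => by
        rw [Algebra.smul_def, map_mul]
        exact (mul_le_of_le_one_left' (P.2.1 _)).trans (hj i)
  have hj0 : φ j ≠ 0 := fun h => by rw [h, map_zero] at hj1; exact zero_ne_one hj1
  have hspan : ∀ t, t ∈ Submodule.span k (Set.range (ratio φ j)) ↔
      t * φ j ∈ Submodule.span k (Set.range φ) := fun t => by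
    simp only [Submodule.mem_span_range_iff_exists_fun]
    refine exists_congr fun c => ?_
    rw [← mul_left_inj' hj0 (a := ∑ i, c i • ratio φ j i), Finset.sum_mul]
    simp only [ratio, smul_mul_assoc, div_mul_cancel₀ _ hj0]
  constructor
  · rintro ⟨t, ht, ht1⟩
    obtain ⟨s, hs, hs1⟩ := (uniformizer_iff_span hK hj0 hj).1 ⟨t, (inLocRing_iff hj0 hj).1 ht, ht1⟩
    exact ⟨s * φ j, (hspan s).1 hs, by rw [map_mul, hs1, hj1, mul_one]⟩
  · rintro ⟨t, ht, ht1⟩
    obtain ⟨s, hs, hs1⟩ := (uniformizer_iff_span hK hj0 hj).2 ⟨t / φ j,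
      (hspan _).2 (by rwa [div_mul_cancel₀ _ hj0]), by rw [map_div₀, ht1, hj1, div_one]⟩
    exact ⟨s, (inLocRing_iff hj0 hj).2 hs, hs1⟩

end Groth.Agent.S11066
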