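import Groth.Statements.S11067
import Groth.Agent.L26.FF.PlaneModel
import Mathlib.RingTheory.IntegralClosure.IsIntegralClosure.Basic

set_option autoImplicit false
open FunFld

namespace Groth.Agent.S11067

open Groth.Agent.FF WithZero Polynomial
variable {k K : Type*} [Field k] [Field K] [Algebra k K]

lemma isIntegral_of_forall (hK : IsFF k K) (u w : K)
    (hint : ∀ Q : FunFld.Place k K, Q.1 u ≤ 1 → Q.1 w ≤ 1) :
    IsIntegral (Algebra.adjoin k ({u} : Set K)) w := by
  by_contra hw
  set R := Algebra.adjoin k ({u} : Set K)
  let S : Subring K := (integralClosure R K).toSubring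
  have : IsIntegrallyClosedIn S K := inferInstanceAs (IsIntegrallyClosedIn (integralClosure R K) K)
  obtain ⟨V, hSV, hwV⟩ := S.exists_le_valuationSubring_of_isIntegrallyClosedIn (x := w) hw
  have hRV : ∀ a ∈ R, a ∈ V := fun a ha =>
    hSV (isIntegral_algebraMap : IsIntegral R (algebraMap R K ⟨a, ha⟩))
  have hw0 : w ≠ 0 := fun h0 => hwV (h0 ▸ zero_mem V)
  have hwi : w⁻¹ ∈ V.nonunits := V.mem_nonunits_iff_or.2 (Or.inr (by rwa [inv_inv]))
  obtain ⟨Q, hQ1, hQ2⟩ := exists_place_of_valuationSubring V
    (fun c => hRV _ (R.algebraMap_mem c)) hK ⟨w⁻¹, hwi, inv_ne_zero hw0⟩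
  have h1 := hQ2 _ hwi
  rw [map_inv₀] at h1
  exact absurd h1 (not_lt.2 ((one_le_inv₀ (zero_lt_iff.2 (val_ne_zero Q hw0))).2
    (hint Q (hQ1 u (hRV u (Algebra.subset_adjoin rfl))))))

/-- Over an algebraically closed constant field, for a plane curve with natural map `(1 : x : y)` (so `K
= k(x, y)`) and `y` integral over `k[x]`, the ring `k[x, y]` is the intersection of the rings
`O_P[y]` over the places `P` of `k(x)` at which `x` is integral. -/
theorem result
    (k K : Type*) [Field k] [IsAlgClosed k] [Field K] [Algebra k K]
    (hK : FunFld.IsFunctionField k K) (x y : K) (hx : Transcendental k x)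
    (hxy : IntermediateField.adjoin k ({x, y} : Set K) = ⊤)
    (hy : IsIntegral (Algebra.adjoin k ({x} : Set K)) y) :
    (Algebra.adjoin k ({x, y} : Set K) : Set K) =
      ⋂ (P : FunFld.Place k (IntermediateField.adjoin k ({x} : Set K)))
        (_ : P.1 ⟨x, IntermediateField.mem_adjoin_simple_self k x⟩ ≤ 1),
        (Subring.closure
          ((algebraMap (IntermediateField.adjoin k ({x} : Set K)) K '' (P.O : Set _)) ∪ {y}) :
          Set K) := by
  classical
  set F := IntermediateField.adjoin k ({x} : Set K) with hF
  set g : F := ⟨x, IntermediateField.mem_adjoin_simple_self k x⟩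
  set R := Algebra.adjoin k ({x} : Set K) with hR
  have hgtr : Transcendental k g := fun h => hx (h.algebraMap (A := K))
  have hfin : FiniteDimensional F K := finite_over_adjoin hK.1 hx
  have hFF : IsFF k F := by
    have := finite_over_adjoin hK.1 (show Transcendental k (algebraMap F K g) from hx)
    have hpos : 0 < Module.finrank (IntermediateField.adjoin k ({g} : Set F)) F * Module.finrank F K := by
      rw [← finrank_adjoin_map (k := k) (K := F) (K' := K) g]
      exact Module.finrank_pos
    exact ⟨g, hgtr, Module.finite_of_finrank_pos (Nat.pos_of_mul_pos_right hpos)⟩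
  have hRle : ∀ a ∈ R, ∀ (P : FunFld.Place k F), P.1 g ≤ 1 →
      ∃ a' : F, (a' : K) = a ∧ P.1 a' ≤ 1 := fun a ha P hP => by
    rw [hR, Algebra.adjoin_singleton_eq_range_aeval] at ha
    obtain ⟨q, rfl⟩ := ha
    refine ⟨aeval g q, (Polynomial.aeval_algHom_apply F.val g q).symm, ?_⟩
    induction q using Polynomial.induction_on' with
    | add a c ha hc => rw [map_add]; exact P.1.map_add_le ha hc
    | monomial n a =>
      rw [aeval_monomial, map_mul, map_pow]
      exact Left.mul_le_one (P.2.1 a) (pow_le_one' hP n)
  refine Set.Subset.antisymm ?_ ?_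
  · intro z hz
    simp only [Set.mem_iInter]
    intro P hP
    set C := Subring.closure (((algebraMap F K : F →+* K) '' (P.O : Set F)) ∪ {y})
    let T : Subalgebra k K :=
      { C.toSubsemiring with
        algebraMap_mem' := fun c =>
          Subring.subset_closure (Or.inl ⟨algebraMap k F c, P.2.1 c, rfl⟩) }
    have hle : Algebra.adjoin k ({x, y} : Set K) ≤ T := by
      refine Algebra.adjoin_le ?_
      rintro a (rfl | rfl)
      · exact Subring.subset_closure (Or.inl ⟨g, hP, rfl⟩)
      · exact Subring.subset_closure (Or.inr rfl)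
    exact hle hz
  · intro z hz
    simp only [Set.mem_iInter] at hz
    set q := minpoly R y
    set d := Module.finrank F K
    have hgen : IntermediateField.adjoin F ({y} : Set K) = ⊤ := by
      refine IntermediateField.restrictScalars_injective k ?_
      rw [IntermediateField.adjoin_adjoin_left, IntermediateField.restrictScalars_top, ← hxy]
      rfl
    haveI : IsIntegrallyClosed R := by
      have hr : R = (aeval x : k[X] →ₐ[k] K).range := Algebra.adjoin_singleton_eq_range_aeval k x
      let e : k[X] ≃ₐ[k] R :=
        (AlgEquiv.ofInjective (aeval x : k[X] →ₐ[k] K) (transcendental_iff_injective.1 hx)).trans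
          (Subalgebra.equivOfEq _ _ hr.symm)
      exact IsIntegrallyClosed.of_equiv e.toRingEquiv
    open scoped IntermediateField.algebraAdjoinAdjoin in
    have hdeg : q.natDegree = d := by
      have hq : minpoly F y = q.map (algebraMap R F) := minpoly.isIntegrallyClosed_eq_field_fractions' F hy
      rw [← (minpoly.monic hy).natDegree_map (algebraMap R F), ← hq,
        ← IntermediateField.adjoin.finrank (IsIntegral.of_finite _ y), hgen]
      exact IntermediateField.finrank_top'
    have hli : LinearIndependent F fun i : Fin d => y ^ (i : ℕ) := by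
      have h2 := linearIndependent_pow (K := F) y
      have e : (minpoly F y).natDegree = d := by
        rw [← IntermediateField.adjoin.finrank (IsIntegral.of_finite _ y), hgen]
        exact IntermediateField.finrank_top'
      rw [← e]; exact h2
    -- coordinates of `z`, integral at every finite place
    have hloc : ∀ P : FunFld.Place k F, P.1 g ≤ 1 → ∃ c : Fin d → F,
        (∀ i, P.1 (c i) ≤ 1) ∧ z = ∑ i, (c i : K) * y ^ (i : ℕ) := by
      intro P hP
      let O : Subring K := P.O.toSubring.map (algebraMap F K)
      have hOy : Subring.closure ((algebraMap F K '' (P.O : Set _)) ∪ {y}) ≤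
          (aeval y : O[X] →ₐ[O] K).range.toSubring := by
        rw [Subring.closure_le]
        rintro a (⟨b, hb, rfl⟩ | rfl)
        · exact ⟨Polynomial.C ⟨_, ⟨b, hb, rfl⟩⟩, aeval_C _ _⟩
        · exact ⟨Polynomial.X, aeval_X _⟩
      obtain ⟨p, hp⟩ := hOy (hz P hP)
      let ι : R →+* O := (Subalgebra.val R).toRingHom.codRestrict O (fun a => by
        obtain ⟨a', ha', hP'⟩ := hRle a a.2 P hP
        exact ⟨a', hP', ha'⟩)
      have hqm : (q.map ι).Monic := (minpoly.monic hy).map ι
      have hroot : aeval y (q.map ι) = 0 := by
        rw [Polynomial.aeval_def, Polynomial.eval₂_map]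
        exact minpoly.aeval R y
      have hdq : (q.map ι).natDegree = d := by rw [(minpoly.monic hy).natDegree_map, hdeg]
      have hlt : (p %ₘ q.map ι).natDegree < d := by
        refine (natDegree_modByMonic_lt _ hqm fun h1 => ?_).trans_eq hdq
        have := congrArg Polynomial.natDegree h1
        rw [hdq, natDegree_one] at this
        exact (Module.finrank_pos (R := F) (M := K)).ne' this
      have hval : ∀ i : Fin d, ∃ b : F, P.1 b ≤ 1 ∧ (b : K) = ((p %ₘ q.map ι).coeff i : O) := fun i =>
        ((p %ₘ q.map ι).coeff i).2
      choose b hb hbK using hval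
      refine ⟨b, hb, ?_⟩
      have hp' : aeval y p = z := hp
      rw [← hp', ← aeval_modByMonic_eq_self_of_root hroot (p := p), aeval_eq_sum_range' hlt,
        ← Fin.sum_univ_eq_sum_range]
      exact Finset.sum_congr rfl fun i _ => by rw [hbK i]; rfl
    obtain ⟨P0, hP0⟩ : ∃ P : FunFld.Place k F, P.1 g ≤ 1 := by
      obtain ⟨P, hP⟩ := exists_zero hFF hgtr
      exact ⟨P, hP.le⟩
    obtain ⟨c, -, hc⟩ := hloc P0 hP0
    have hmem : ∀ i, (c i : K) ∈ R := by
      intro i
      have hint : ∀ P : FunFld.Place k F, P.1 g ≤ 1 → P.1 (c i) ≤ 1 := fun P hP => by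
        obtain ⟨c', hc', hcz⟩ := hloc P hP
        have heq : c = c' := by
          funext l
          refine sub_eq_zero.1 (Fintype.linearIndependent_iff.1 hli (fun l => c l - c' l) ?_ l)
          simp only [sub_smul, Finset.sum_sub_distrib, sub_eq_zero]
          exact hc.symm.trans hcz
        exact heq ▸ hc' i
      have h1 : IsIntegral R (c i : K) := by
        obtain ⟨p, hpm, hp⟩ := isIntegral_of_forall hFF g (c i) hint
        let ι : Algebra.adjoin k ({g} : Set F) →+* R :=
          (F.val.toRingHom.comp (Subalgebra.val (Algebra.adjoin k ({g} : Set F))).toRingHom).codRestrict R (fun a => by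
            have ha : (a : F) ∈ Algebra.adjoin k ({g} : Set F) := a.2
            have : F.val (a : F) ∈ (Algebra.adjoin k ({g} : Set F)).map F.val := Subalgebra.mem_map.2 ⟨_, ha, rfl⟩
            rw [AlgHom.map_adjoin, Set.image_singleton] at this
            exact this)
        refine ⟨p.map ι, hpm.map ι, ?_⟩
        rw [Polynomial.eval₂_map]
        have := congrArg F.val hp
        rw [map_zero] at this
        refine Eq.trans ?_ this
        exact (Polynomial.hom_eval₂ p _ F.val.toRingHom (c i)).symm
      open scoped IntermediateField.algebraAdjoinAdjoin in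
      obtain ⟨a, ha⟩ : ∃ a : R, algebraMap R F a = c i :=
        IsIntegrallyClosed.isIntegral_iff.1 ((isIntegral_algebraMap_iff (algebraMap F K).injective).1 h1)
      rw [← ha]
      exact a.2
    rw [SetLike.mem_coe, hc]
    refine sum_mem fun i _ => mul_mem ?_ (pow_mem (Algebra.subset_adjoin (by simp)) _)
    exact Algebra.adjoin_mono (Set.singleton_subset_iff.2 (Set.mem_insert x _)) (hmem i)

end Groth.Agent.S11067
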