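import Groth.Statements.S11068
import Groth.Agent.L26.FF.Closed
import Mathlib.FieldTheory.Finite.Basic

set_option autoImplicit false
open FunFld

namespace Groth.Agent.S11068

open Groth.Agent.FF

/-- Over a finite constant field with `q` elements, let `K̄ = k̄ ⊗ K` be the constant-field extension to
an algebraic closure and `F` its Frobenius map (identity on `k̄`, `q`-th power on `K`). A place `Q`
of `K̄/k̄` satisfies `Q^F = Q` (the maximal ideal of `Q` is exactly the preimage of itself under
`F`) if and only if `Q` is defined over `k`, i.e. the place of `K` below `Q` has degree one. -/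
theorem result
    (k K kb Kb : Type*) [Field k] [Finite k] [Field K] [Algebra k K] [Field kb] [Algebra k kb]
    [IsAlgClosure k kb] [Field Kb] [Algebra K Kb] [Algebra kb Kb]
    (hK : FunFld.IsFunctionField k K)
    (hc : ∀ c : k, algebraMap K Kb (algebraMap k K c) = algebraMap kb Kb (algebraMap k kb c))
    (hgen : Algebra.adjoin K (Set.range (algebraMap kb Kb)) = ⊤)
    (F : Kb →+* Kb) (hF1 : ∀ c : kb, F (algebraMap kb Kb c) = algebraMap kb Kb c)
    (hF2 : ∀ x : K, F (algebraMap K Kb x) = algebraMap K Kb x ^ Nat.card k)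
    (Q : FunFld.Place kb Kb) :
    (∀ z : Kb, Q.1 (F z) < 1 ↔ Q.1 z < 1) ↔
      ∃ P : FunFld.Place k K, (∀ x : K, Q.1 (algebraMap K Kb x) ≤ 1 ↔ P.1 x ≤ 1) ∧ P.deg = 1 := by
  classical
  cases nonempty_fintype k
  rw [Nat.card_eq_fintype_card] at hF2
  set q := Fintype.card k with hqdef
  have hq : 1 < q := Fintype.one_lt_card
  let ι : K →+* Kb := algebraMap K Kb
  let B := Module.Basis.ofVectorSpace k kb
  -- every element is a combination of the constants of a basis with coefficients in `K`
  have hrep : ∀ z : Kb, ∃ l : _ →₀ K, z = ∑ i ∈ l.support, ι (l i) * algebraMap kb Kb (B i) := fun z => by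
    have h1 : z ∈ Submodule.span K (Set.range fun i => algebraMap kb Kb (B i)) := by
      have h2 : z ∈ Algebra.adjoin K (Set.range (algebraMap kb Kb)) := hgen ▸ Algebra.mem_top
      rw [← Subalgebra.mem_toSubmodule, Algebra.adjoin_eq_span] at h2
      refine Submodule.span_le.2 ?_ h2
      intro w hw
      have hw' : w ∈ (algebraMap kb Kb).range.toSubmonoid :=
        Submonoid.closure_le.2 (fun v hv => hv) hw
      obtain ⟨c, rfl⟩ := hw'
      simp only [SetLike.mem_coe]
      rw [← B.linearCombination_repr c, Finsupp.linearCombination_apply, Finsupp.sum, map_sum]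
      refine Submodule.sum_mem _ fun i _ => ?_
      rw [Algebra.smul_def, map_mul, ← hc, ← Algebra.smul_def]
      exact Submodule.smul_mem _ _ (Submodule.subset_span ⟨i, rfl⟩)
    obtain ⟨l, hl⟩ := Finsupp.mem_span_range_iff_exists_finsupp.1 h1
    exact ⟨l, by rw [← hl, Finsupp.sum]; simp only [Algebra.smul_def, ι]⟩
  have hQc : ∀ c : kb, Q.1 (algebraMap kb Kb c) ≤ 1 := Q.2.1
  have hQk : ∀ c : k, Q.1 (ι (algebraMap k K c)) ≤ 1 := fun c => by rw [show ι (algebraMap k K c) = _ from hc c]; exact hQc _
  constructor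
  · intro hQ
    let O : ValuationSubring K := Q.O.comap ι
    have hO : ∀ c : k, algebraMap k K c ∈ O := fun c => hQk c
    have hmemO : ∀ x : K, x ∈ O ↔ Q.1 (ι x) ≤ 1 := fun x => Iff.rfl
    have hnon : ∃ x ∈ O.nonunits, x ≠ 0 := by
      by_contra hcon
      push Not at hcon
      have hle : ∀ x : K, Q.1 (ι x) ≤ 1 := fun x => by
        by_contra hgt
        rw [not_le] at hgt
        have hx0 : x ≠ 0 := fun h => by simp [h] at hgt
        refine inv_ne_zero hx0 (hcon _ (O.mem_nonunits_iff_or.2 (Or.inr ?_)))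
        rw [inv_inv, hmemO]
        exact hgt.not_ge
      obtain ⟨z, hz⟩ := Q.2.2 (WithZero.exp 1)
      obtain ⟨l, rfl⟩ := hrep z
      refine (one_lt_exp'.2 one_pos).not_ge (hz ▸ Q.1.map_sum_le fun i _ => ?_)
      rw [map_mul]
      exact mul_le_one' (hle _) (hQc _)
    obtain ⟨P, hP1, hP2⟩ := exists_place_of_valuationSubring O hO hK.1 hnon
    have hiff : ∀ x : K, Q.1 (ι x) ≤ 1 ↔ P.1 x ≤ 1 := fun x => by
      refine ⟨fun h => hP1 x h, fun h => ?_⟩
      by_contra hn
      have hx0 : x ≠ 0 := fun h0 => hn (by simp [h0])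
      have := hP2 x⁻¹ (O.mem_nonunits_iff_or.2 (Or.inr (by rw [inv_inv]; exact hn)))
      rw [map_inv₀] at this
      exact h.not_gt ((inv_lt_one₀ (zero_lt_iff.2 ((Valuation.ne_zero_iff _).2 hx0))).1 this)
    have hiff' : ∀ x : K, Q.1 (ι x) < 1 ↔ P.1 x < 1 := fun x => by
      rcases eq_or_ne x 0 with rfl | hx
      · simp
      have h1 := hiff x⁻¹
      rw [map_inv₀, map_inv₀, map_inv₀, inv_le_one₀ (zero_lt_iff.2 ((Valuation.ne_zero_iff _).2 ((map_ne_zero ι).2 hx))),
        inv_le_one₀ (zero_lt_iff.2 ((Valuation.ne_zero_iff _).2 hx))] at h1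
      rw [← not_le, ← not_le, h1]
    refine ⟨P, hiff, le_antisymm ?_ (one_le_deg hK.1 P)⟩
    have : Module.Finite k (IsLocalRing.ResidueField P.O) := finite_residueField hK.1 P
    have hsurj : Function.Surjective (algebraMap k (IsLocalRing.ResidueField P.O)) := fun a => by
      obtain ⟨w, hw⟩ := IsLocalRing.residue_surjective (R := P.O) a
      have hai : IsIntegral k a := @IsIntegral.of_finite k _ _ _ _ this a
      let g := minpoly k a
      have hgw : P.1 (Polynomial.aeval (w : K) g) < 1 := by
        have h1 : resMap P (Polynomial.aeval w g) = 0 := by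
          rw [← Polynomial.aeval_algHom_apply, show resMap P w = a from hw, minpoly.aeval]
        have h2 := (residue_eq_zero P _).1 h1
        rwa [show ((Polynomial.aeval w g : P.O) : K) = Polynomial.aeval (w : K) g from
          (Polynomial.aeval_algHom_apply ({ P.O.subtype with commutes' := fun _ => rfl } : P.O →ₐ[k] K) w g).symm] at h2
      have := IsAlgClosure.isAlgClosed k (K := kb)
      have h3 : Q.1 (ι (Polynomial.aeval (w : K) g)) < 1 := (hiff' _).2 hgw
      rw [Polynomial.aeval_def, Polynomial.hom_eval₂, show ι.comp (algebraMap k K) = (algebraMap kb Kb).comp (algebraMap k kb) from RingHom.ext hc,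
        ← Polynomial.eval_map, ← Polynomial.map_map,
        (IsAlgClosed.splits (g.map (algebraMap k kb))).eq_prod_roots_of_monic ((minpoly.monic hai).map _)] at h3
      obtain ⟨c, -, hcw⟩ : ∃ c ∈ (g.map (algebraMap k kb)).roots, Q.1 (ι w - algebraMap kb Kb c) < 1 := by
        by_contra hno
        push Not at hno
        refine h3.not_ge ?_
        rw [Polynomial.map_multiset_prod, Multiset.map_map, Polynomial.eval_multiset_prod, Multiset.map_map, map_multiset_prod, Multiset.map_map]
        refine Multiset.one_le_prod_of_one_le fun b hb => ?_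
        obtain ⟨c, hc', rfl⟩ := Multiset.mem_map.1 hb
        simpa using hno c hc'
      have h4 := (hQ _).2 hcw
      rw [map_sub, hF1, show F (ι w) = ι w ^ q from hF2 w] at h4
      have hw1 : Q.1 (ι w) ≤ 1 := (hiff _).2 w.2
      have h5 : Q.1 (ι w ^ q - algebraMap kb Kb c ^ q) < 1 := by
        rw [← geom_sum₂_mul, map_mul]
        refine mul_lt_one_of_nonneg_of_lt_one_right ?_ zero_le hcw
        refine Q.1.map_sum_le fun i _ => ?_
        rw [map_mul, map_pow, map_pow]
        exact mul_le_one' (pow_le_one₀ zero_le hw1) (pow_le_one₀ zero_le (hQc c))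
      have h6 : Q.1 (algebraMap kb Kb (c ^ q - c)) < 1 := by
        rw [map_sub, map_pow, show algebraMap kb Kb c ^ q - algebraMap kb Kb c =
          (ι w ^ q - algebraMap kb Kb c) - (ι w ^ q - algebraMap kb Kb c ^ q) by ring]
        exact Q.1.map_sub_lt h4 h5
      have h7 : c ^ q = c := by
        by_contra hne
        rw [val_const Q (sub_ne_zero.2 hne)] at h6
        exact lt_irrefl _ h6
      obtain ⟨d, rfl⟩ : ∃ d : k, algebraMap k kb d = c := by
        have hroot : c ∈ ((Polynomial.X ^ q - Polynomial.X : Polynomial k).map (algebraMap k kb)).roots := by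
          rw [Polynomial.mem_roots (Polynomial.map_ne_zero (FiniteField.X_pow_card_sub_X_ne_zero k hq))]
          simp [h7, sub_eq_zero]
        have hs : (Polynomial.X ^ q - Polynomial.X : Polynomial k).roots = Finset.univ.val :=
          FiniteField.roots_X_pow_card_sub_X k
        have hcard : Multiset.card (Polynomial.X ^ q - Polynomial.X : Polynomial k).roots =
            (Polynomial.X ^ q - Polynomial.X : Polynomial k).natDegree := by
          rw [hs, FiniteField.X_pow_card_sub_X_natDegree_eq k hq]; rfl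
        rw [← Polynomial.roots_map_of_injective_of_card_eq_natDegree (algebraMap k kb).injective hcard, Multiset.mem_map] at hroot
        exact ⟨_, hroot.choose_spec.2⟩
      refine ⟨d, ?_⟩
      rw [← show resMap P w = a from hw, ← AlgHom.commutes (resMap P), eq_comm, ← sub_eq_zero, ← map_sub, residue_eq_zero]
      refine (hiff' _).1 ?_
      show Q.1 (ι ((w : K) - algebraMap k K d)) < 1
      rw [map_sub, show ι (algebraMap k K d) = _ from hc d]
      exact hcw
    have hle := LinearMap.finrank_le_finrank_of_surjective (f := Algebra.linearMap k (IsLocalRing.ResidueField P.O)) hsurj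
    rwa [Module.finrank_self] at hle
  · rintro ⟨P, hiff, hdeg⟩ z
    have hne : ∀ x : K, x ≠ 0 → Q.1 (ι x) ≠ 0 := fun x hx => (Valuation.ne_zero_iff _).2 ((map_ne_zero ι).2 hx)
    have hiff' : ∀ x : K, Q.1 (ι x) < 1 ↔ P.1 x < 1 := fun x => by
      rcases eq_or_ne x 0 with rfl | hx
      · simp
      have h1 := hiff x⁻¹
      rw [map_inv₀, map_inv₀, map_inv₀] at h1
      rw [inv_le_one₀ (zero_lt_iff.2 (hne x hx)), inv_le_one₀ (zero_lt_iff.2 ((Valuation.ne_zero_iff _).2 hx))] at h1
      rw [← not_le, ← not_le, h1]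
    -- the value of a combination
    have key : ∀ (s : Finset _) (a : _ → K) (i₀ : _), i₀ ∈ s → (∀ i ∈ s, P.1 (a i) ≤ P.1 (a i₀)) → a i₀ ≠ 0 →
        Q.1 (∑ i ∈ s, ι (a i) * algebraMap kb Kb (B i)) = Q.1 (ι (a i₀)) := fun s a i₀ hi₀ hmax ha0 => by
      choose! b hb using fun i (hi : i ∈ s) => exists_value P hdeg (z := a i / a i₀)
        (by rw [map_div₀]; exact div_le_one_of_le₀ (hmax i hi) zero_le)
      have hb0 : b i₀ ≠ 0 := fun h0 => by
        have h := hb i₀ hi₀
        rw [h0, map_zero, sub_zero, div_self ha0, map_one] at h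
        exact lt_irrefl _ h
      have hsum : ∑ i ∈ s, b i • B i ≠ 0 := fun h0 => hb0 (linearIndependent_iff'.1 B.linearIndependent s b h0 i₀ hi₀)
      have hlt : Q.1 (∑ i ∈ s, ι (a i / a i₀ - algebraMap k K (b i)) * algebraMap kb Kb (B i)) < 1 := by
        refine Q.1.map_sum_lt one_ne_zero fun i hi => ?_
        rw [map_mul]
        exact mul_lt_one_of_nonneg_of_lt_one_left zero_le ((hiff' _).2 (hb i hi)) (hQc _)
      have h1 : ∑ i ∈ s, ι (a i) * algebraMap kb Kb (B i) = ι (a i₀) *
          (∑ i ∈ s, ι (a i / a i₀ - algebraMap k K (b i)) * algebraMap kb Kb (B i) +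
            algebraMap kb Kb (∑ i ∈ s, b i • B i)) := by
        rw [map_sum, ← Finset.sum_add_distrib, Finset.mul_sum]
        refine Finset.sum_congr rfl fun i _ => ?_
        rw [map_sub, map_div₀, show ι (algebraMap k K (b i)) = _ from hc (b i), Algebra.smul_def, map_mul]
        field_simp [(map_ne_zero ι).2 ha0]
        ring
      rw [h1, map_mul, Q.1.map_add_eq_of_lt_right (by rwa [val_const Q hsum]), val_const Q hsum, mul_one]
    obtain ⟨l, rfl⟩ := hrep z
    rcases l.support.eq_empty_or_nonempty with he | hs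
    · simp [he]
    obtain ⟨i₀, hi₀, hmax⟩ := l.support.exists_max_image (fun i => P.1 (l i)) hs
    have ha0 := Finsupp.mem_support_iff.1 hi₀
    rw [map_sum, Finset.sum_congr rfl (g := fun i => ι (l i ^ q) * algebraMap kb Kb (B i)) (fun i _ => by
        rw [map_mul, hF1, show F (ι (l i)) = ι (l i) ^ q from hF2 _, map_pow]),
      key _ (fun i => l i ^ q) i₀ hi₀ (fun i hi => by
        rw [map_pow, map_pow]; exact pow_le_pow_left' (hmax i hi) q) (pow_ne_zero q ha0),
      key _ (fun i => l i) i₀ hi₀ hmax ha0, map_pow, map_pow, pow_lt_one_iff (by omega)]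

end Groth.Agent.S11068
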