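import Groth.Statements.S11069
import Groth.Agent.L26.FF.Ext

set_option autoImplicit false
open FunFld

namespace Groth.Agent.S11069

open Groth.Agent.FF WithZero

/-- Over an algebraically closed constant field, for function fields `K ⊇ K'` and a projective map `φ`
with entries in `K'`, the divisor of `φ` as a map of `K` is the conorm `N*_{K/K'}` of its divisor as
a map of `K'`. -/
theorem result
    (k K' K : Type*) [Field k] [IsAlgClosed k] [Field K'] [Field K] [Algebra k K'] [Algebra k K]
    [Algebra K' K] [IsScalarTower k K' K] [FiniteDimensional K' K]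
    (hK : FunFld.IsFunctionField k K) (hK' : FunFld.IsFunctionField k K') {n : ℕ}
    (φ : Fin (n + 1) → K') (hφ : LinearIndependent k φ) :
    FunFld.mapDiv k (fun i => algebraMap K' K (φ i)) = FunFld.conorm K (FunFld.mapDiv k φ) := by
  classical
  have hne : ∀ i, φ i ≠ 0 := fun i => hφ.ne_zero i
  have hsupp' : (Function.support fun P : FunFld.Place k K' =>
      -Finset.univ.inf' Finset.univ_nonempty (fun i => P.ord (φ i))).Finite := by
    refine (Set.finite_iUnion fun i => finite_support_ord hK'.1 (φ i)).subset fun P hP => ?_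
    obtain ⟨i, -, hi⟩ := Finset.exists_mem_eq_inf' Finset.univ_nonempty (fun i => P.ord (φ i))
    refine Set.mem_iUnion.2 ⟨i, fun h => hP ?_⟩
    simp only [hi]; simpa using h
  have hsupp : (Function.support fun Q : FunFld.Place k K =>
      -Finset.univ.inf' Finset.univ_nonempty (fun i => Q.ord (algebraMap K' K (φ i)))).Finite := by
    refine (Set.finite_iUnion fun i => finite_support_ord hK.1 (algebraMap K' K (φ i))).subset fun P hP => ?_
    obtain ⟨i, -, hi⟩ := Finset.exists_mem_eq_inf' Finset.univ_nonempty (fun i => P.ord (algebraMap K' K (φ i)))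
    refine Set.mem_iUnion.2 ⟨i, fun h => hP ?_⟩
    simp only [hi]; simpa using h
  refine Finsupp.ext fun Q => ?_
  obtain ⟨P, e, he⟩ := exists_below hK'.1 Q
  rw [conorm_apply hK'.1 _ he, FunFld.mapDiv, FunFld.mapDiv, dif_pos hsupp, dif_pos hsupp']
  show -Finset.univ.inf' Finset.univ_nonempty (fun i => Q.ord (algebraMap K' K (φ i))) =
    (e : ℤ) * -Finset.univ.inf' Finset.univ_nonempty (fun i => P.ord (φ i))
  obtain ⟨i, -, hi⟩ := Finset.exists_mem_eq_inf' Finset.univ_nonempty (fun i => P.ord (φ i))
  have : Finset.univ.inf' Finset.univ_nonempty (fun i => Q.ord (algebraMap K' K (φ i))) =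
      (e : ℤ) * Finset.univ.inf' Finset.univ_nonempty (fun i => P.ord (φ i)) := by
    refine le_antisymm ?_ (Finset.le_inf' _ _ fun j _ => ?_)
    · rw [hi, ← he.ord]
      exact Finset.inf'_le (f := fun i => Q.ord (algebraMap K' K (φ i))) (Finset.mem_univ i)
    · rw [he.ord]
      exact mul_le_mul_of_nonneg_left (Finset.inf'_le (f := fun i => P.ord (φ i)) (Finset.mem_univ j))
        (Int.natCast_nonneg _)
  rw [this]; ring

end Groth.Agent.S11069
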