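import Groth.Statements.S11070
import Groth.Agent.L26.FF.PlaneRelation
import Mathlib.Algebra.MvPolynomial.NoZeroDivisors
import Mathlib.Algebra.MvPolynomial.Nilpotent

set_option autoImplicit false
open FunFld

namespace Groth.Agent.S11070

open Groth.Agent.FF

/-- Over an algebraically closed constant field, a plane curve `V = V(f)` with natural map `(1 : x :
y)`, `K = k(x, y)`, has degree `deg V = deg f`: the degree of the divisor of the map `(1 : x : y)`
equals the total degree of the irreducible polynomial relation `f(x, y) = 0`. -/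
theorem result
    (k K : Type*) [Field k] [IsAlgClosed k] [Field K] [Algebra k K]
    (hK : FunFld.IsFunctionField k K) (x y : K)
    (hxy : IntermediateField.adjoin k ({x, y} : Set K) = ⊤) (f : MvPolynomial (Fin 2) k)
    (hf : Irreducible f) (hfxy : MvPolynomial.aeval ![x, y] f = 0) :
    (FunFld.mapDiv k ![(1 : K), x, y]).deg = f.totalDegree := by
  obtain ⟨f₀, hf₀, hev, hdeg, hdvd⟩ := plane_relation hK x y hxy
  rw [← hdeg]
  obtain ⟨q, hq⟩ := hdvd f hfxy
  rcases hf.isUnit_or_isUnit hq with h | h
  · exact absurd h hf₀.not_isUnit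
  · rw [hq, MvPolynomial.totalDegree_mul_of_isDomain hf₀.ne_zero h.ne_zero]
    simp [(MvPolynomial.isUnit_iff_totalDegree_of_isReduced.1 h).2]

end Groth.Agent.S11070
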