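import Groth.Statements.S11071
import Groth.Agent.L26.FF.Jacobian

set_option autoImplicit false
open FunFld

namespace Groth.Agent.S11071

/-- Over an algebraically closed constant field, let `φ = (φ₀, …, φₙ)`, `n ≥ 1`, be a birational
projective map, `f₁, …, f_r` homogeneous generators of its ideal of homogeneous relations (the ideal
of the image curve), and `P` a place at which all `φᵢ/φ₀` are integral, with image point `a`. Then
`φ` is nonsingular at `P` if and only if the matrix `(∂fᵢ/∂Xⱼ(a))`, `1 ≤ j ≤ n`, has rank `n - 1`
(entries read in the residue field of `P`). Here the local ring of `φ` at `P` consists of the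
quotients of polynomials over `k` in the ratios `φᵢ/φ₀` with denominator a unit at `P`; `φ` is
nonsingular at `P` when this ring is the whole valuation ring. -/
theorem result (k K : Type*) [Field k] [IsAlgClosed k] [Field K] [Algebra k K]
    (hK : FunFld.IsFunctionField k K) {n : ℕ} (hn : 1 ≤ n)
    (φ : Fin (n + 1) → K) (hφ : LinearIndependent k φ)
    (hbir : IntermediateField.adjoin k (Set.range fun i => φ i / φ 0) = ⊤)
    (P : FunFld.Place k K) (hP : ∀ i, P.1 (φ i) ≤ P.1 (φ 0)) {r : ℕ}
    (f : Fin r → MvPolynomial (Fin (n + 1)) k)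
    (hhom : ∀ i, (f i).IsHomogeneous (f i).totalDegree)
    (hgen : Ideal.span (Set.range f) =
      RingHom.ker (MvPolynomial.aeval fun i => Polynomial.C (φ i) * Polynomial.X))
    (M : Matrix (Fin r) (Fin n) P.O)
    (hM : ∀ i j, ((M i j : P.O) : K) =
      MvPolynomial.aeval (fun l => φ l / φ 0) (MvPolynomial.pderiv j.succ (f i))) :
    FunFld.IsNonsingularAt φ P ↔ (M.map (IsLocalRing.residue P.O)).rank = n - 1 := by
  exact Groth.Agent.FF.nonsingular_iff_jacobian_rank hK hn φ hφ hbir P hP f hhom hgen M hM

end Groth.Agent.S11071
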