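import Groth.Statements.S11073
import Groth.Agent.L26.FF.PlaneRelation
import Mathlib.Algebra.MvPolynomial.NoZeroDivisors

set_option autoImplicit false
open FunFld

namespace Groth.Agent.S11073

open Groth.Agent.FF

section
variable {k : Type*} [Field k]

/-- dehomogenisation -/
noncomputable def dh : MvPolynomial (Fin 3) k →ₐ[k] MvPolynomial (Fin 2) k :=
  MvPolynomial.aeval ![1, MvPolynomial.X 0, MvPolynomial.X 1]

theorem dh_monomial (s : Fin 3 →₀ ℕ) (c : k) :
    dh (MvPolynomial.monomial s c) = MvPolynomial.monomial (Finsupp.tail s) c := by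
  rw [dh, MvPolynomial.aeval_monomial, Finsupp.prod_fintype _ _ (fun i => pow_zero _), Fin.prod_univ_three,
    MvPolynomial.monomial_eq, Finsupp.prod_fintype _ _ (fun i => pow_zero _), Fin.prod_univ_two, MvPolynomial.algebraMap_eq]
  simp [Finsupp.tail_apply]

theorem weight_eq (s : Fin 3 →₀ ℕ) : Finsupp.weight (1 : Fin 3 → ℕ) s = s 0 + (s 1 + s 2) := by
  simp [Finsupp.weight_apply, Finsupp.sum_fintype, Fin.sum_univ_three, add_assoc]

theorem degree_eq (s : Fin 3 →₀ ℕ) : s.degree = s 0 + (s 1 + s 2) := by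
  rw [Finsupp.degree_eq_sum, Fin.sum_univ_three, add_assoc]

theorem dh_inj {P : MvPolynomial (Fin 3) k} {n : ℕ} (hP : P.IsHomogeneous n) (h : dh P = 0) : P = 0 := by
  classical
  ext s
  rw [MvPolynomial.coeff_zero]
  by_contra hs
  have h1 := congrArg (MvPolynomial.coeff (Finsupp.tail s)) h
  rw [P.as_sum, map_sum, MvPolynomial.coeff_sum, Finset.sum_eq_single_of_mem s (MvPolynomial.mem_support_iff.2 hs),
    dh_monomial, MvPolynomial.coeff_monomial, if_pos rfl, MvPolynomial.coeff_zero] at h1
  · exact hs h1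
  · intro t ht hne
    rw [dh_monomial, MvPolynomial.coeff_monomial, if_neg]
    intro h2
    refine hne (Finsupp.ext fun i => ?_)
    have d1 := hP (MvPolynomial.mem_support_iff.1 ht)
    have d2 := hP hs
    rw [weight_eq] at d1 d2
    have e1 : t 1 = s 1 := by simpa [Finsupp.tail_apply] using DFunLike.congr_fun h2 0
    have e2 : t 2 = s 2 := by simpa [Finsupp.tail_apply] using DFunLike.congr_fun h2 1
    fin_cases i
    · show t 0 = s 0; omega
    · exact e1
    · exact e2

theorem exists_homog (q : MvPolynomial (Fin 2) k) {m : ℕ} (hq : q.totalDegree ≤ m) :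
    ∃ Q : MvPolynomial (Fin 3) k, Q.IsHomogeneous m ∧ dh Q = q := by
  refine ⟨∑ μ ∈ q.support, MvPolynomial.monomial (Finsupp.cons (m - μ.degree) μ) (q.coeff μ),
    MvPolynomial.IsHomogeneous.sum _ _ _ fun μ hμ => MvPolynomial.isHomogeneous_monomial _ ?_, ?_⟩
  · have hle : μ.degree ≤ m := (MvPolynomial.le_totalDegree hμ).trans hq
    rw [degree_eq, show (Finsupp.cons (m - μ.degree) μ : Fin 3 →₀ ℕ) 0 = m - μ.degree from Finsupp.cons_zero _ _,
      show (Finsupp.cons (m - μ.degree) μ : Fin 3 →₀ ℕ) 1 = μ 0 from Finsupp.cons_succ 0 _ _,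
      show (Finsupp.cons (m - μ.degree) μ : Fin 3 →₀ ℕ) 2 = μ 1 from Finsupp.cons_succ 1 _ _]
    rw [Finsupp.degree_eq_sum, Fin.sum_univ_two] at hle ⊢
    omega
  · conv_rhs => rw [q.as_sum]
    rw [map_sum]
    exact Finset.sum_congr rfl fun μ _ => by rw [dh_monomial, Finsupp.tail_cons]

theorem totalDegree_dh_le {P : MvPolynomial (Fin 3) k} {n : ℕ} (hP : P.IsHomogeneous n) : (dh P).totalDegree ≤ n := by
  rw [P.as_sum, map_sum]
  refine (MvPolynomial.totalDegree_finsetSum _ _).trans (Finset.sup_le fun s hs => ?_)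
  rw [dh_monomial]
  refine (MvPolynomial.totalDegree_monomial_le _ _).trans ?_
  have d := hP (MvPolynomial.mem_support_iff.1 hs)
  rw [weight_eq] at d
  rw [Finsupp.sum_fintype _ _ (fun _ => rfl), Fin.sum_univ_two]
  simp only [Finsupp.tail_apply]
  show s 1 + s 2 ≤ n
  omega

end

/-- Over an algebraically closed constant field, the ideal of a projective plane curve — here the curve
with function field `K = k(x, y)`, whose ideal is the kernel of `X₀ ↦ T, X₁ ↦ xT, X₂ ↦ yT` into
`K[T]` — is principal, with an irreducible homogeneous generator. -/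
theorem result
    (k K : Type*) [Field k] [IsAlgClosed k] [Field K] [Algebra k K]
    (hK : FunFld.IsFunctionField k K) (x y : K)
    (hxy : IntermediateField.adjoin k ({x, y} : Set K) = ⊤) :
    ∃ f : MvPolynomial (Fin 3) k, Irreducible f ∧ f.IsHomogeneous f.totalDegree ∧
      RingHom.ker (MvPolynomial.aeval fun i => Polynomial.C (![(1 : K), x, y] i) * Polynomial.X) =
        Ideal.span {f} := by
  classical
  obtain ⟨f₀, hf₀, hev, -, hdvd⟩ := plane_relation hK x y hxy
  set e := f₀.totalDegree with he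
  obtain ⟨F, hFhom, hFdh⟩ := exists_homog f₀ (le_refl e)
  set θ := (MvPolynomial.aeval fun i => Polynomial.C (![(1 : K), x, y] i) * Polynomial.X :
    MvPolynomial (Fin 3) k →ₐ[k] Polynomial K) with hθ
  have hhom : ∀ {P : MvPolynomial (Fin 3) k} {n : ℕ}, P.IsHomogeneous n →
      θ P = Polynomial.C (MvPolynomial.aeval ![x, y] (dh P)) * Polynomial.X ^ n := by
    intro P n hP
    rw [P.as_sum, map_sum, map_sum, map_sum, map_sum, Finset.sum_mul]
    refine Finset.sum_congr rfl fun s hs => ?_
    have d := hP (MvPolynomial.mem_support_iff.1 hs)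
    rw [weight_eq] at d
    rw [dh_monomial, hθ, MvPolynomial.aeval_monomial, MvPolynomial.aeval_monomial,
      Finsupp.prod_fintype _ _ (fun i => pow_zero _), Fin.prod_univ_three,
      Finsupp.prod_fintype _ _ (fun i => pow_zero _), Fin.prod_univ_two]
    simp only [Finsupp.tail_apply, Matrix.cons_val_zero, Matrix.cons_val_one, Matrix.cons_val_two, Matrix.tail_cons,
      Matrix.head_cons, mul_pow, map_mul, map_pow, map_one, one_pow, one_mul, Polynomial.algebraMap_apply,
      Fin.succ_zero_eq_one, show (1 : Fin 2).succ = (2 : Fin 3) from rfl]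
    rw [← d, pow_add, pow_add]
    ring
  have hF0 : F ≠ 0 := fun h => hf₀.ne_zero (by rw [← hFdh, h, map_zero])
  have hFker : θ F = 0 := by rw [hhom hFhom, hFdh, hev, map_zero, zero_mul]
  have hker : RingHom.ker θ = Ideal.span {F} := by
    refine le_antisymm (fun P hP => ?_) ((Ideal.span_singleton_le_iff_mem _).2 hFker)
    rw [RingHom.mem_ker, ← MvPolynomial.sum_homogeneousComponent P, map_sum] at hP
    rw [← MvPolynomial.sum_homogeneousComponent P]
    refine Ideal.sum_mem _ fun n hn => Ideal.mem_span_singleton'.2 ?_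
    set Pn := MvPolynomial.homogeneousComponent n P with hPn
    have hPnh : Pn.IsHomogeneous n := MvPolynomial.homogeneousComponent_isHomogeneous n P
    have h1 := congrArg (fun z : Polynomial K => z.coeff n) hP
    simp only [Polynomial.finsetSum_coeff, Polynomial.coeff_zero] at h1
    rw [Finset.sum_congr rfl fun m _ => by
      rw [hhom (MvPolynomial.homogeneousComponent_isHomogeneous m P), Polynomial.coeff_C_mul_X_pow],
      Finset.sum_ite_eq, if_pos hn] at h1
    obtain ⟨q, hq⟩ := hdvd _ h1
    rcases eq_or_ne q 0 with hq0 | hq0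
    · refine ⟨0, ?_⟩
      rw [zero_mul, dh_inj hPnh (by rw [hq, hq0, mul_zero])]
    have hdeg := totalDegree_dh_le hPnh
    rw [hq, MvPolynomial.totalDegree_mul_of_isDomain hf₀.ne_zero hq0, ← he] at hdeg
    obtain ⟨Q, hQh, hQd⟩ := exists_homog q (show q.totalDegree ≤ n - e by omega)
    refine ⟨Q, ?_⟩
    have h2 : (Q * F).IsHomogeneous n := by
      have := hQh.mul hFhom
      rwa [show n - e + e = n by omega] at this
    refine sub_eq_zero.1 (dh_inj (h2.sub hPnh) ?_)
    rw [map_sub, map_mul, hQd, hFdh, hq, mul_comm, sub_self]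
  have : (RingHom.ker θ).IsPrime := RingHom.ker_isPrime _
  rw [hker, Ideal.span_singleton_prime hF0] at this
  exact ⟨F, this.irreducible, by rwa [hFhom.totalDegree hF0], hker⟩

end Groth.Agent.S11073
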