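import Groth.Statements.S11072
import Groth.Agent.S11073
import Groth.Agent.L26.FF.Embed
import Groth.Agent.L26.FF.LocRing
import Mathlib.RingTheory.MvPolynomial.EulerIdentity

set_option autoImplicit false
open FunFld

namespace Groth.Agent.S11072

open Groth.Agent.FF

section
open MvPolynomial
variable {k : Type*} [Field k]

theorem aeval_scale {σ R : Type*} [CommRing R] [Algebra k R] (v : σ → R) (T : R) {P : MvPolynomial σ k} {n : ℕ}
    (hP : P.IsHomogeneous n) : aeval (fun i => v i * T) P = aeval v P * T ^ n := by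
  rw [P.as_sum, map_sum, map_sum, Finset.sum_mul]
  refine Finset.sum_congr rfl fun s hs => ?_
  have d := hP (mem_support_iff.1 hs)
  rw [aeval_monomial, aeval_monomial, Finsupp.prod, Finsupp.prod, mul_assoc]
  congr 1
  rw [Finset.prod_congr rfl fun i _ => mul_pow (v i) T (s i), Finset.prod_mul_distrib, Finset.prod_pow_eq_pow_sum]
  congr 2
  simpa [Finsupp.weight_apply, Finsupp.sum] using d

theorem pderiv_dh (i : Fin 2) (P : MvPolynomial (Fin 3) k) :
    pderiv i (Groth.Agent.S11073.dh P) = Groth.Agent.S11073.dh (pderiv i.succ P) := by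
  simp only [Groth.Agent.S11073.dh]
  induction P using MvPolynomial.induction_on with
  | C a => simp [algebraMap_eq]
  | add a b ha hb => simp only [map_add, ha, hb]
  | mul_X a l ha =>
    simp only [map_mul, aeval_X, Derivation.leibniz, smul_eq_mul, map_add, ha]
    congr 2
    fin_cases l <;> fin_cases i <;> simp [pderiv_X, Pi.single_apply]

theorem taylor_one (c : Fin 2 → k) (g : MvPolynomial (Fin 2) k) :
    ∃ A B : MvPolynomial (Fin 2) k, g = C (eval c g) + (X 0 - C (c 0)) * A + (X 1 - C (c 1)) * B := by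
  induction g using MvPolynomial.induction_on with
  | C a => exact ⟨0, 0, by simp⟩
  | add a b ha hb =>
    obtain ⟨A, B, h⟩ := ha
    obtain ⟨A', B', h'⟩ := hb
    refine ⟨A + A', B + B', ?_⟩
    conv_lhs => rw [h, h']
    simp only [map_add]
    ring
  | mul_X a i ha =>
    obtain ⟨A, B, h⟩ := ha
    fin_cases i
    · refine ⟨A * X 0 + C (eval c a), B * X 0, ?_⟩
      conv_lhs => rw [h]
      simp only [Fin.zero_eta, map_mul, eval_X, map_add]
      ring
    · refine ⟨A * X 1, B * X 1 + C (eval c a), ?_⟩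
      conv_lhs => rw [h]
      simp only [Fin.mk_one, map_mul, eval_X, map_add]
      ring

variable {K : Type*} [Field K] [Algebra k K]

theorem val_aeval (hK : FunFld.IsFunctionField k K) (P : FunFld.Place k K) (c : Fin 2 → k) (v : Fin 2 → K)
    (hv : ∀ i, P.1 (v i - algebraMap k K (c i)) < 1) (g : MvPolynomial (Fin 2) k) :
    P.1 (aeval v g - algebraMap k K (eval c g)) < 1 ∧ P.1 (aeval v g) ≤ 1 := by
  induction g using MvPolynomial.induction_on with
  | C a => rw [aeval_C, eval_C, sub_self, map_zero]; exact ⟨zero_lt_one, P.2.1 a⟩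
  | add a b ha hb =>
    rw [map_add, map_add, map_add]
    refine ⟨?_, P.1.map_add_le ha.2 hb.2⟩
    rw [add_sub_add_comm]
    exact P.1.map_add_lt ha.1 hb.1
  | mul_X a i ha =>
    have hvi : P.1 (v i) ≤ 1 := by
      rw [show v i = (v i - algebraMap k K (c i)) + algebraMap k K (c i) by ring]
      exact P.1.map_add_le (hv i).le (P.2.1 _)
    rw [map_mul, map_mul, aeval_X, eval_X, map_mul]
    refine ⟨?_, by rw [map_mul]; exact Left.mul_le_one ha.2 hvi⟩
    rw [show aeval v a * v i - algebraMap k K (eval c a) * algebraMap k K (c i) =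
      (aeval v a - algebraMap k K (eval c a)) * v i + algebraMap k K (eval c a) * (v i - algebraMap k K (c i)) by ring]
    refine P.1.map_add_lt ?_ ?_
    · rw [map_mul]; exact (mul_le_of_le_one_right' hvi).trans_lt ha.1
    · rw [map_mul]; exact (mul_le_of_le_one_left' (P.2.1 _)).trans_lt (hv i)

end

/-- Over an algebraically closed constant field, a plane curve with defining irreducible homogeneous
polynomial `f` and birational natural map `φ = (φ₀ : φ₁ : φ₂)` is singular at the point `a = φ(P)`
(coordinates `(φᵢ/φⱼ)(P)` for an entry `φⱼ` of least order at `P`, read in the residue field) if and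
only if `∂f/∂Xᵢ(a) = 0` for `i = 0, 1, 2`. Here `φ` is nonsingular at `P` when its local ring there
(quotients of polynomials over `k` in the `φᵢ/φⱼ` with denominator a unit at `P`) is the whole
valuation ring. -/
theorem result (k K : Type*) [Field k] [IsAlgClosed k] [Field K] [Algebra k K]
    (hK : FunFld.IsFunctionField k K) (φ : Fin 3 → K)
    (hφ : LinearIndependent k φ)
    (hbir : IntermediateField.adjoin k (Set.range fun i => φ i / φ 0) = ⊤)
    (f : MvPolynomial (Fin 3) k) (hf : Irreducible f) (hhom : f.IsHomogeneous f.totalDegree)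
    (hfφ : MvPolynomial.aeval φ f = 0) (P : FunFld.Place k K) (j : Fin 3)
    (hj : ∀ i, P.1 (φ i) ≤ P.1 (φ j)) (a : Fin 3 → P.O) (ha : ∀ i, ((a i : P.O) : K) = φ i / φ j) :
    ¬ FunFld.IsNonsingularAt φ P ↔
      ∀ l : Fin 3, MvPolynomial.aeval (fun i => IsLocalRing.residue P.O (a i))
        (MvPolynomial.pderiv l f) = 0 := by
  classical
  open MvPolynomial WithZero in
  have hne : ∀ i, φ i ≠ 0 := fun i => hφ.ne_zero i
  set σ : Equiv.Perm (Fin 3) := Equiv.swap 0 j with hσ
  set x := ratio φ j (σ 1) with hx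
  set y := ratio φ j (σ 2) with hy
  have hσ0 : σ 0 = j := Equiv.swap_apply_left 0 j
  have hr : ∀ i, ratio φ j i = φ i / φ j := fun i => rfl
  have hv3 : ∀ i, ratio φ j (σ i) = (![(1 : K), x, y]) i := fun i => by
    fin_cases i
    · show ratio φ j (σ 0) = 1
      rw [hσ0, hr, div_self (hne j)]
    · rfl
    · rfl
  have hbirj := bir_congr hne (j := 0) hbir j
  have hrange : Set.range (ratio φ j) = {1, x, y} := by
    rw [← range_plane, show (![(1 : K), x, y] : Fin 3 → K) = ratio φ j ∘ σ from funext fun i => (hv3 i).symm,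
      Set.range_comp, σ.surjective.range_eq, Set.image_univ]
  have hxy : IntermediateField.adjoin k ({x, y} : Set K) = ⊤ := by
    rw [eq_top_iff, ← hbirj, hrange, IntermediateField.adjoin_le_iff]
    rintro z (rfl | rfl | rfl)
    exacts [one_mem _, IntermediateField.subset_adjoin _ _ (by simp), IntermediateField.subset_adjoin _ _ (by simp)]
  obtain ⟨F, hFirr, hFhom, hFker⟩ := Groth.Agent.S11073.result k K hK x y hxy
  set θ := (aeval fun i => Polynomial.C (![(1 : K), x, y] i) * Polynomial.X : MvPolynomial (Fin 3) k →ₐ[k] Polynomial K) with hθ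
  let dh := (Groth.Agent.S11073.dh (k := k))
  have hθhom : ∀ {G : MvPolynomial (Fin 3) k} {n : ℕ}, G.IsHomogeneous n →
      θ G = Polynomial.C (aeval ![(1 : K), x, y] G) * Polynomial.X ^ n := fun {G n} hG => by
    rw [hθ, aeval_scale _ _ hG, show (fun i => Polynomial.C (![(1 : K), x, y] i)) =
      fun i => (IsScalarTower.toAlgHom k K (Polynomial K)) (![(1 : K), x, y] i) from rfl, ← comp_aeval_apply]
    rfl
  set f' := rename σ.symm f with hf'
  have hf'irr : Irreducible f' := (MulEquiv.irreducible_iff (renameEquiv k σ.symm).toMulEquiv).2 hf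
  have hf'hom : f'.IsHomogeneous f.totalDegree := hhom.rename_isHomogeneous
  have hscale : aeval φ f = aeval (ratio φ j) f * φ j ^ f.totalDegree := by
    rw [← aeval_scale _ _ hhom]
    congr 2
    funext i
    rw [hr, div_mul_cancel₀ _ (hne j)]
  have hfr : aeval (ratio φ j) f = 0 :=
    (mul_eq_zero.1 (hscale.symm.trans hfφ)).resolve_right (pow_ne_zero _ (hne j))
  have hf'0 : θ f' = 0 := by
    rw [hθhom hf'hom, hf', aeval_rename, show ![(1 : K), x, y] ∘ ⇑σ.symm = ratio φ j from funext fun i => by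
      rw [Function.comp_apply, ← hv3, Equiv.apply_symm_apply], hfr, map_zero, zero_mul]
  have hspan : RingHom.ker θ = Ideal.span {f'} := by
    rw [hFker]
    have : f' ∈ Ideal.span {F} := hFker ▸ hf'0
    exact Ideal.span_singleton_eq_span_singleton.2
      (hFirr.associated_of_dvd hf'irr (Ideal.mem_span_singleton.1 this))
  set fa := dh f' with hfa
  have hdh : ∀ G, aeval ![x, y] (dh G) = aeval ![(1 : K), x, y] G := fun G => by
    simp only [dh, Groth.Agent.S11073.dh]
    rw [comp_aeval_apply]
    congr 2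
    funext i
    fin_cases i <;> simp
  have hkey : ∀ g : MvPolynomial (Fin 2) k, aeval ![x, y] g = 0 → fa ∣ g := fun g hg => by
    obtain ⟨G, hG, hGd⟩ := Groth.Agent.S11073.exists_homog g (le_refl g.totalDegree)
    have : G ∈ Ideal.span {f'} := hspan ▸ (show θ G = 0 by rw [hθhom hG, ← hdh, show dh G = g from hGd, hg, map_zero, zero_mul])
    rw [← hGd]
    exact map_dvd dh (Ideal.mem_span_singleton.1 this)
  -- the image point
  have hval : ∀ i, P.1 (ratio φ j i) ≤ 1 := fun i => aff_val_le (hne j) hj (Algebra.subset_adjoin ⟨i, rfl⟩)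
  choose c₀ hc₀ using fun i => exists_value P (deg_eq_one hK P) (hval i)
  set c : Fin 2 → k := ![c₀ (σ 1), c₀ (σ 2)] with hc
  have hcv : ∀ i, P.1 (![x, y] i - algebraMap k K (c i)) < 1 := fun i => by
    fin_cases i
    exacts [hc₀ _, hc₀ _]
  have hres : ∀ i, IsLocalRing.residue P.O (a i) = algebraMap k _ (c₀ i) := fun i => by
    refine sub_eq_zero.1 ?_
    show resMap P (a i) - algebraMap k _ (c₀ i) = 0
    rw [← (resMap P).commutes, ← map_sub]
    refine (residue_eq_zero P _).2 ?_
    show P.1 ((a i : K) - algebraMap k K (c₀ i)) < 1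
    rw [ha]; exact hc₀ i
  have hc0j : c₀ j = 1 := by
    by_contra h
    have h1 := hc₀ j
    rw [hr, div_self (hne j), ← map_one (algebraMap k K), ← map_sub, val_const P (sub_ne_zero.2 (Ne.symm h))] at h1
    exact lt_irrefl _ h1
  have hcc : c₀ ∘ σ = ![1, c 0, c 1] := funext fun i => by
    fin_cases i
    · show c₀ (σ 0) = 1; rw [hσ0, hc0j]
    · rfl
    · rfl
  have hpd : ∀ i : Fin 2, eval c (pderiv i fa) = eval c₀ (pderiv (σ i.succ) f) := fun i => by
    rw [hfa, show pderiv i (dh f') = dh (pderiv i.succ f') from pderiv_dh i f', hf',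
      show i.succ = σ.symm (σ i.succ) from (σ.symm_apply_apply _).symm, pderiv_rename σ.symm.injective,
      Equiv.symm_apply_apply]
    show eval c (aeval ![1, X 0, X 1] (rename σ.symm (pderiv (σ i.succ) f))) = _
    rw [aeval_rename, ← aeval_eq_eval, ← aeval_eq_eval, comp_aeval_apply]
    congr 2
    funext l
    obtain ⟨m, rfl⟩ := σ.surjective l
    rw [show c₀ (σ m) = (c₀ ∘ σ) m from rfl, hcc, Function.comp_apply, σ.symm_apply_apply]
    fin_cases m <;> simp
  have hfa0 : aeval ![x, y] fa = 0 := by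
    rw [hfa, hdh, hf', aeval_rename, show ![(1 : K), x, y] ∘ ⇑σ.symm = ratio φ j from funext fun i => by
      rw [Function.comp_apply, ← hv3, Equiv.apply_symm_apply], hfr]
  have hevz : ∀ g : MvPolynomial (Fin 2) k, eval c g = 0 ↔ P.1 (aeval ![x, y] g) < 1 := fun g => by
    obtain ⟨h1, -⟩ := val_aeval hK P c ![x, y] hcv g
    refine ⟨fun h => by rwa [h, map_zero, sub_zero] at h1, fun h => ?_⟩
    by_contra hne'
    have h2 := P.1.map_sub (aeval ![x, y] g) (aeval ![x, y] g - algebraMap k K (eval c g))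
    rw [sub_sub_cancel, val_const P hne'] at h2
    exact not_lt.2 h2 (max_lt h h1)
  have hpartial : (∀ l, aeval (fun i => IsLocalRing.residue P.O (a i)) (pderiv l f) = 0) ↔
      ∀ i : Fin 2, eval c (pderiv i fa) = 0 := by
    have e1 : ∀ g : MvPolynomial (Fin 3) k, aeval (fun i => IsLocalRing.residue P.O (a i)) g = 0 ↔ eval c₀ g = 0 := fun g => by
      rw [show (fun i => IsLocalRing.residue P.O (a i)) = fun i => (Algebra.ofId k (IsLocalRing.ResidueField P.O)) (c₀ i) from funext hres,
        ← comp_aeval_apply, ← aeval_eq_eval]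
      exact _root_.map_eq_zero _
    simp only [e1]
    refine ⟨fun h i => by rw [hpd]; exact h _, fun h l => ?_⟩
    obtain ⟨m, rfl⟩ := σ.surjective l
    induction m using Fin.cases with
    | succ i => rw [← hpd]; exact h i
    | zero =>
      have hf0 : eval c₀ f = 0 := by
        rw [← e1 f]
        have : aeval (fun i => IsLocalRing.residue P.O (a i)) f =
            resMap P (aeval a f) := (comp_aeval_apply a (resMap P) f).symm
        rw [this]
        haveI : IsScalarTower k P.O K := IsScalarTower.of_algebraMap_eq' rfl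
        have h0 : aeval a f = 0 := Subtype.ext (by
          show ((IsScalarTower.toAlgHom k P.O K) (aeval a f)) = 0
          rw [comp_aeval_apply, show (fun i => (IsScalarTower.toAlgHom k P.O K) (a i)) = ratio φ j from funext ha]
          exact hfr)
        rw [h0, map_zero]
      have he := congrArg (eval c₀) hhom.sum_X_mul_pderiv
      rw [map_sum, ← Equiv.sum_comp σ, Fin.sum_univ_succ, Finset.sum_eq_zero (s := (Finset.univ : Finset (Fin 2))) (fun i _ => by
        rw [map_mul, ← hpd, h i, mul_zero]), add_zero, nsmul_eq_mul, map_mul, map_mul, hf0, mul_zero, eval_X,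
        hσ0, hc0j, one_mul] at he
      rwa [hσ0]
  rw [hpartial]
  set A := aff k φ j with hA
  have hAval : A = (aeval ![x, y] : MvPolynomial (Fin 2) k →ₐ[k] K).range := by
    refine le_antisymm (Algebra.adjoin_le ?_) ?_
    · rw [hrange]
      rintro z (rfl | rfl | rfl)
      exacts [⟨1, map_one _⟩, ⟨X 0, by simp⟩, ⟨X 1, by simp⟩]
    · rintro z ⟨g, rfl⟩
      refine (Algebra.adjoin_le ?_ : Algebra.adjoin k (Set.range ![x, y]) ≤ A) ((Algebra.adjoin_range_eq_range_aeval k ![x, y]).symm ▸ ⟨g, rfl⟩)
      rintro _ ⟨i, rfl⟩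
      fin_cases i
      exacts [Algebra.subset_adjoin ⟨σ 1, rfl⟩, Algebra.subset_adjoin ⟨σ 2, rfl⟩]
  have hmemA : ∀ g, aeval ![x, y] g ∈ A := fun g => by rw [hAval]; exact ⟨g, rfl⟩
  have hvi : ∀ (i : Fin 2), P.1 (aeval ![x, y] (X i - C (c i))) < 1 := fun i => by
    rw [← hevz]; simp
  constructor
  · -- a nonzero partial gives a regular point
    intro hns
    by_contra hcon
    push Not at hcon
    obtain ⟨l, hl⟩ := hcon
    apply hns
    obtain ⟨A₁, A₂, hT⟩ := taylor_one c fa
    have hfc : eval c fa = 0 := by rw [hevz, hfa0, map_zero]; exact zero_lt_one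
    rw [hfc, map_zero, zero_add] at hT
    set Ai : Fin 2 → MvPolynomial (Fin 2) k := ![A₁, A₂] with hAi
    have hAl : eval c (Ai l) ≠ 0 := by
      have e : eval c (pderiv l fa) = eval c (Ai l) := by
        rw [hT, map_add, Derivation.leibniz, Derivation.leibniz]
        fin_cases l <;> simp [hAi, pderiv_X, Pi.single_apply]
      rwa [e] at hl
    obtain ⟨o, ho, hTo⟩ : ∃ o, o ≠ l ∧ fa = (X l - C (c l)) * Ai l + (X o - C (c o)) * Ai o := by
      fin_cases l
      · exact ⟨1, by decide, hT⟩
      · exact ⟨0, by decide, hT.trans (add_comm _ _)⟩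
    set t := aeval ![x, y] (X o - C (c o)) with ht
    set O := locAlg k φ j P with hO
    have hlt1 : P.1 (aeval ![x, y] (Ai l)) = 1 :=
      le_antisymm (val_aeval hK P c ![x, y] hcv (Ai l)).2 (not_lt.1 fun h => hAl ((hevz _).2 h))
    have hl0 : aeval ![x, y] (Ai l) ≠ 0 := fun h => by rw [h, map_zero] at hlt1; exact zero_ne_one hlt1
    -- the maximal ideal is generated by `t`
    have hstep : ∀ z ∈ O, P.1 z < 1 → ∃ z' ∈ O, z = t * z' := by
      rintro z ⟨u, hu, w, hw, hw1, hzw⟩ hz1
      rw [← hA, hAval] at hu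
      obtain ⟨g, rfl⟩ := hu
      change z * w = aeval ![x, y] g at hzw
      have hg : eval c g = 0 := by rw [hevz]; show P.1 (aeval ![x, y] g) < 1; rw [← hzw, map_mul, hw1, mul_one]; exact hz1
      obtain ⟨B₁, B₂, hg'⟩ := taylor_one c g
      rw [hg, map_zero, zero_add] at hg'
      set Bi : Fin 2 → MvPolynomial (Fin 2) k := ![B₁, B₂] with hBi
      have hgo : g = (X l - C (c l)) * Bi l + (X o - C (c o)) * Bi o := by
        fin_cases l <;> fin_cases o
        all_goals first | exact absurd rfl ho | exact hg' | exact hg'.trans (add_comm _ _)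
      have h0 := hfa0
      rw [hTo, map_add, map_mul, map_mul, ← ht] at h0
      have hw0 : w ≠ 0 := fun h => by rw [h, map_zero] at hw1; exact zero_ne_one hw1
      refine ⟨(aeval ![x, y] (Bi o) - aeval ![x, y] (Bi l) * (aeval ![x, y] (Ai o) / aeval ![x, y] (Ai l))) / w, ?_, ?_⟩
      · refine div_mem_locAlg (sub_mem (aff_le_locAlg φ j P (hmemA _)) (mul_mem (aff_le_locAlg φ j P (hmemA _))
          (div_mem_locAlg (aff_le_locAlg φ j P (hmemA _)) (aff_le_locAlg φ j P (hmemA _)) hlt1))) (aff_le_locAlg φ j P hw) hw1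
      · rw [hgo, map_add, map_mul, map_mul, ← ht] at hzw
        field_simp
        linear_combination (aeval ![x, y] (Ai l)) * hzw + (aeval ![x, y] (Bi l)) * h0
    have htlt : P.1 t < 1 := hvi o
    -- every nonzero element is a power of `t` times a unit
    have hpow : ∀ (n : ℕ) (z : K), z ∈ O → z ≠ 0 → P.ord z ≤ n → ∃ (m : ℕ) (u : K), u ∈ O ∧ P.1 u = 1 ∧ z = t ^ m * u := by
      intro n
      induction n with
      | zero =>
        intro z hz hz0 hn
        refine ⟨0, z, hz, ?_, by rw [pow_zero, one_mul]⟩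
        have h1 : P.1 z ≤ 1 := locAlg_val_le (hne j) hj hz
        refine (val_eq_one_iff P hz0).2 ?_
        have := (val_le_one_iff P hz0).1 h1
        push_cast at hn
        omega
      | succ n ih =>
        intro z hz hz0 hn
        rcases (locAlg_val_le (hne j) hj hz).lt_or_eq with h | h
        · obtain ⟨z', hz', rfl⟩ := hstep z hz h
          obtain ⟨ht0, hz'0⟩ := mul_ne_zero_iff.1 hz0
          rw [ord_mul P ht0 hz'0] at hn
          have := (val_lt_one_iff P ht0).1 htlt
          obtain ⟨m, u, hu, hu1, rfl⟩ := ih z' hz' hz'0 (by push_cast at hn; omega)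
          exact ⟨m + 1, u, hu, hu1, by ring⟩
        · exact ⟨0, z, hz, h, by rw [pow_zero, one_mul]⟩
    intro z hz
    refine (inLocRing_iff (hne j) hj).2 ?_
    rcases eq_or_ne z 0 with rfl | hz0
    · exact zero_mem _
    have hzmem : z ∈ IntermediateField.adjoin k (Set.range (ratio φ j)) := hbirj ▸ IntermediateField.mem_top
    rw [IntermediateField.mem_adjoin_iff_div] at hzmem
    obtain ⟨u, hu, w, hw, rfl⟩ := hzmem
    obtain ⟨hu0, hw0⟩ := div_ne_zero_iff.1 hz0
    have hu' : u ∈ O := aff_le_locAlg φ j P hu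
    have hw' : w ∈ O := aff_le_locAlg φ j P hw
    obtain ⟨m, e, he, he1, rfl⟩ := hpow _ u hu' hu0 (Int.self_le_toNat _)
    obtain ⟨m', e', he', he1', rfl⟩ := hpow _ w hw' hw0 (Int.self_le_toNat _)
    rcases eq_or_ne t 0 with ht0 | ht0
    · rcases eq_or_ne m 0 with rfl | hm
      · rcases eq_or_ne m' 0 with rfl | hm'
        · simp only [pow_zero, one_mul]; exact div_mem_locAlg he he' he1'
        · exact absurd (by rw [ht0, zero_pow hm', zero_mul]) hw0
      · exact absurd (by rw [ht0, zero_pow hm, zero_mul]) hu0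
    have hle : m' ≤ m := by
      by_contra hlt
      rw [not_le] at hlt
      have h1 : P.1 t ^ m ≤ P.1 t ^ m' := by
        rw [map_div₀, map_mul, map_mul, he1, he1', mul_one, mul_one, map_pow, map_pow,
          div_le_one₀ (pow_pos (zero_lt_iff.2 (val_ne_zero P ht0)) _)] at hz
        exact hz
      exact absurd h1 (not_le.2 (pow_lt_pow_right_of_lt_one₀ (zero_lt_iff.2 (val_ne_zero P ht0)) htlt hlt))
    obtain ⟨r, rfl⟩ := Nat.exists_eq_add_of_le hle
    rw [pow_add, show t ^ m' * t ^ r * e / (t ^ m' * e') = t ^ r * e / e' by field_simp]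
    exact div_mem_locAlg (mul_mem (pow_mem (aff_le_locAlg φ j P (hmemA _)) r) he) he' he1'
  · -- a regular point has a nonzero partial
    intro hzero hns
    have htex : ∃ t ∈ Submodule.span k (Set.range (ratio φ j)), P.1 t = exp (-1 : ℤ) := by
      refine (uniformizer_iff_span hK (hne j) hj).1 ?_
      obtain ⟨t, -, ht⟩ := exists_val_eq P (-1)
      exact ⟨t, (inLocRing_iff (hne j) hj).1 (hns t (by rw [ht, ← exp_zero, exp_le_exp]; norm_num)), ht⟩
    obtain ⟨t, ht, ht1⟩ := htex
    obtain ⟨i₀, hi₀⟩ : ∃ i : Fin 2, P.1 (aeval ![x, y] (X i - C (c i))) = exp (-1 : ℤ) := by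
      by_contra hcon
      push Not at hcon
      have hall : ∀ i, P.1 (aeval ![x, y] (X i - C (c i))) ≤ exp (-2 : ℤ) := fun i =>
        le_exp_sub_one (n := -1) (lt_of_le_of_ne (lt_one_le_exp (hvi i)) (hcon i))
      rw [hrange, show ({1, x, y} : Set K) = Set.range ![(1 : K), x, y] from (range_plane _ _).symm,
        Submodule.mem_span_range_iff_exists_fun k] at ht
      obtain ⟨d, hd⟩ := ht
      rw [Fin.sum_univ_three] at hd
      have e : t = algebraMap k K (d 0 + d 1 * c 0 + d 2 * c 1) + (algebraMap k K (d 1) * aeval ![x, y] (X 0 - C (c 0)) +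
          algebraMap k K (d 2) * aeval ![x, y] (X 1 - C (c 1))) := by
        rw [← hd]; simp [Algebra.smul_def]; ring
      have h2 : P.1 (algebraMap k K (d 1) * aeval ![x, y] (X 0 - C (c 0)) +
          algebraMap k K (d 2) * aeval ![x, y] (X 1 - C (c 1))) ≤ exp (-2 : ℤ) := by
        refine P.1.map_add_le ?_ ?_ <;> rw [map_mul]
        exacts [(mul_le_of_le_one_left' (P.2.1 _)).trans (hall 0), (mul_le_of_le_one_left' (P.2.1 _)).trans (hall 1)]
      rcases eq_or_ne (d 0 + d 1 * c 0 + d 2 * c 1) 0 with h0 | h0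
      · rw [e, h0, map_zero, zero_add] at ht1
        rw [ht1, exp_le_exp] at h2; omega
      · rw [e, P.1.map_add_eq_of_lt_left, val_const P h0] at ht1
        · exact absurd ht1.symm (by rw [exp_eq_one']; norm_num)
        · rw [val_const P h0]; exact h2.trans_lt (by rw [← exp_zero, exp_lt_exp]; norm_num)
    obtain ⟨o, ho⟩ : ∃ o, o ≠ i₀ := exists_ne i₀
    set t₀ := aeval ![x, y] (X i₀ - C (c i₀)) with ht₀
    have ht₀0 : t₀ ≠ 0 := fun h => by rw [h, map_zero] at hi₀; exact exp_ne_zero hi₀.symm
    set z := aeval ![x, y] (X o - C (c o)) / t₀ with hz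
    have hz1 : P.1 z ≤ 1 := by
      rw [hz, map_div₀, hi₀, div_le_one₀ exp_pos]
      exact lt_one_le_exp (hvi o)
    obtain ⟨u, hu, w, hw, hw1, hzw⟩ := (inLocRing_iff (hne j) hj).1 (hns z hz1)
    rw [← hA, hAval] at hu hw
    obtain ⟨U, rfl⟩ := hu
    obtain ⟨W, rfl⟩ := hw
    have hW : eval c W ≠ 0 := fun h => by
      have := (hevz W).1 h
      exact absurd hw1 this.ne
    set g := (X o - C (c o)) * W - (X i₀ - C (c i₀)) * U with hg
    have hg0 : aeval ![x, y] g = 0 := by
      change z * aeval ![x, y] W = aeval ![x, y] U at hzw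
      rw [hz, div_mul_eq_mul_div, div_eq_iff ht₀0] at hzw
      rw [hg, map_sub, map_mul, map_mul, ← ht₀, hzw]; ring
    obtain ⟨q, hq⟩ := hkey g hg0
    have e := congrArg (fun p => eval c (pderiv o p)) hq
    have hfc : eval c fa = 0 := by rw [hevz, hfa0, map_zero]; exact zero_lt_one
    simp only [Derivation.leibniz, smul_eq_mul, map_add, map_mul, hfc, hzero o, zero_mul, mul_zero, add_zero, hg,
      map_sub, eval_X, eval_C, pderiv_C, pderiv_X, sub_self, sub_zero, Pi.single_eq_same, map_one, zero_add,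
      Pi.single_eq_of_ne (Ne.symm ho), map_zero, mul_one, sub_zero] at e
    exact hW e

end Groth.Agent.S11072
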