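import Groth.Statements.S11074
import Groth.Agent.L26.FF.Closed
import Groth.Agent.L26.FF.Quot
import Mathlib.RingTheory.MvPolynomial.EulerIdentity

set_option autoImplicit false
open FunFld

namespace Groth.Agent.S11074

open MvPolynomial Groth.Agent.FF

lemma aeval_mul_left {k K : Type*} [CommRing k] [CommRing K] [Algebra k K] {n m : ℕ}
    {f : MvPolynomial (Fin n) k} (hf : f.IsHomogeneous m) (r : K) (g : Fin n → K) :
    aeval (fun i => r * g i) f = r ^ m * aeval g f := by
  rw [aeval_def, aeval_def, eval₂_eq', eval₂_eq', Finset.mul_sum]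
  refine Finset.sum_congr rfl fun d hd => ?_
  have hdm : ∑ i, d i = m := by
    have := hf (mem_support_iff.1 hd)
    rw [Finsupp.weight_apply, Finsupp.sum_fintype _ _ (fun i => by simp)] at this
    simpa using this
  simp only [mul_pow, Finset.prod_mul_distrib, Finset.prod_pow_eq_pow_sum, hdm]
  ring

lemma taylor {k K : Type*} [Field k] [Field K] [Algebra k K] (P : Place k K) {n : ℕ} (a : Fin n → K)
    (α : Fin n → k) (hα : ∀ i, P.1 (a i - algebraMap k K (α i)) ≤ WithZero.exp (-1))
    (p : MvPolynomial (Fin n) k) :
    P.1 (aeval a p - algebraMap k K (eval α p)) ≤ WithZero.exp (-1) ∧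
    P.1 (aeval a p - algebraMap k K (eval α p) -
      ∑ i, algebraMap k K (eval α (pderiv i p)) * (a i - algebraMap k K (α i))) ≤ WithZero.exp (-2) := by
  induction p using MvPolynomial.induction_on with
  | C c => simp
  | add p q hp hq =>
    refine ⟨?_, ?_⟩
    · rw [map_add, map_add, map_add, add_sub_add_comm]
      exact (P.1.map_add _ _).trans (max_le hp.1 hq.1)
    · simp only [map_add, add_mul, Finset.sum_add_distrib]
      rw [show ∀ A B C D E G : K, A + B - (C + D) - (E + G) = (A - C - E) + (B - D - G) from fun _ _ _ _ _ _ => by ring]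
      exact (P.1.map_add _ _).trans (max_le hp.2 hq.2)
  | mul_X p l hp =>
    have hc : ∀ c : k, P.1 (algebraMap k K c) ≤ 1 := P.2.1
    set R := aeval a p - algebraMap k K (eval α p) -
      ∑ i, algebraMap k K (eval α (pderiv i p)) * (a i - algebraMap k K (α i)) with hR
    set h := a l - algebraMap k K (α l) with hh
    set D := aeval a p - algebraMap k K (eval α p) with hD
    have e1 : aeval a (p * X l) - algebraMap k K (eval α (p * X l)) =
        D * algebraMap k K (α l) + (D + algebraMap k K (eval α p)) * h := by
      simp only [hD, hh, map_mul, aeval_X, eval_X]; ring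
    have hDle := hp.1
    refine ⟨?_, ?_⟩
    · rw [e1]
      refine (P.1.map_add _ _).trans (max_le ?_ ?_)
      · rw [map_mul]; exact (mul_le_mul' hDle (hc _)).trans (mul_one _).le
      · rw [map_mul]
        exact (mul_le_mul' ((P.1.map_add _ _).trans (max_le (hDle.trans (by
          rw [← WithZero.exp_zero, WithZero.exp_le_exp]; norm_num)) (hc _))) (hα l)).trans (one_mul _).le
    · have e2 : ∑ i, algebraMap k K (eval α (pderiv i (p * X l))) * (a i - algebraMap k K (α i)) =
          algebraMap k K (α l) * (∑ i, algebraMap k K (eval α (pderiv i p)) * (a i - algebraMap k K (α i))) +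
            algebraMap k K (eval α p) * h := by
        simp only [pderiv_mul, map_add, map_mul, eval_X, pderiv_X, add_mul, Finset.sum_add_distrib, Finset.mul_sum]
        congr 1
        · exact Finset.sum_congr rfl fun i _ => by ring
        · rw [Finset.sum_eq_single l (fun i _ hi => by simp [Pi.single_eq_of_ne (Ne.symm hi)]) (by simp)]
          simp [hh]
      have e3 : aeval a (p * X l) - algebraMap k K (eval α (p * X l)) -
          ∑ i, algebraMap k K (eval α (pderiv i (p * X l))) * (a i - algebraMap k K (α i)) =
          R * algebraMap k K (α l) + D * h := by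
        rw [e1, e2, hR, hD]; ring
      rw [e3]
      refine (P.1.map_add _ _).trans (max_le ?_ ?_)
      · rw [map_mul]; exact (mul_le_mul' hp.2 (hc _)).trans (mul_one _).le
      · rw [map_mul, show (-2 : ℤ) = -1 + -1 from rfl, WithZero.exp_add]
        exact mul_le_mul' hDle (hα l)

/-- Over an algebraically closed constant field, at a nonsingular point `a = φ(P)` of a plane curve
`V(f)` with birational natural map `φ = (φ₀ : φ₁ : φ₂)`, the tangent line is `(∂f/∂X₀(a) : ∂f/∂X₁(a)
: ∂f/∂X₂(a))`: the corresponding linear form, pulled back along `φ` normalized at `P`, vanishes to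
order at least `2` at `P` (the tangent line being the one line whose pullback vanishes to order `≥
2`). Nonsingular at `P` means that the local ring of `φ` at `P` (quotients of polynomials over `k`
in the `φᵢ/φⱼ`, `φⱼ` of least order at `P`, denominator a unit at `P`) is the whole valuation ring. -/
theorem result
    (k K : Type*) [Field k] [IsAlgClosed k] [Field K] [Algebra k K]
    (hK : FunFld.IsFunctionField k K) (φ : Fin 3 → K) (hφ : LinearIndependent k φ)
    (hbir : IntermediateField.adjoin k (Set.range fun i => φ i / φ 0) = ⊤)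
    (f : MvPolynomial (Fin 3) k) (hf : Irreducible f) (hhom : f.IsHomogeneous f.totalDegree)
    (hfφ : MvPolynomial.aeval φ f = 0) (P : FunFld.Place k K) (j : Fin 3)
    (hj : ∀ i, P.1 (φ i) ≤ P.1 (φ j)) (hns : FunFld.IsNonsingularAt φ P) (a : Fin 3 → P.O)
    (ha : ∀ i, ((a i : P.O) : K) = φ i / φ j) (c : Fin 3 → k)
    (hc : ∀ i, algebraMap k (IsLocalRing.ResidueField P.O) (c i) =
      MvPolynomial.aeval (fun l => IsLocalRing.residue P.O (a l)) (MvPolynomial.pderiv i f)) :
    P.1 (∑ i, c i • (φ i / φ j)) ≤ WithZero.exp (-2) := by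
  classical
  have hj0 : φ j ≠ 0 := fun h => by
    have := hj 0
    rw [h, map_zero, nonpos_iff_eq_zero, Valuation.zero_iff] at this
    exact hφ.ne_zero 0 this
  have hv : ∀ i, P.1 (φ i / φ j) ≤ 1 := fun i => by rw [map_div₀]; exact div_le_one_of_le₀ (hj i) zero_le
  choose α hα using fun i => exists_value P (deg_eq_one hK P) (hv i)
  set b : Fin 3 → K := fun i => φ i / φ j with hb
  have hα' : ∀ i, P.1 (b i - algebraMap k K (α i)) ≤ WithZero.exp (-1) := fun i => lt_one_le_exp (hα i)
  have hexp1 : (WithZero.exp (-1 : ℤ)) < 1 := by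
    rw [← WithZero.exp_zero, WithZero.exp_lt_exp]; norm_num
  have hconst : ∀ c : k, P.1 (algebraMap k K c) < 1 → c = 0 := fun c hc => by
    by_contra h
    exact hc.ne (val_const P h)
  have hfb : aeval b f = 0 := by
    rw [show b = fun i => (φ j)⁻¹ * φ i from funext fun i => div_eq_inv_mul _ _, aeval_mul_left hhom, hfφ, mul_zero]
  have hf0 : eval α f = 0 := by
    have := (taylor P b α hα' f).1
    rw [hfb, zero_sub, Valuation.map_neg] at this
    exact hconst _ (this.trans_lt hexp1)
  have hci : ∀ i, c i = eval α (pderiv i f) := fun i => by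
    have h1 : resMap P (aeval a (pderiv i f) - algebraMap k P.O (c i)) = 0 := by
      rw [map_sub, AlgHom.commutes, hc i,
        show resMap P (aeval a (pderiv i f)) = aeval (fun l => IsLocalRing.residue P.O (a l)) (pderiv i f) from
          comp_aeval_apply a (resMap P) _]
      exact sub_self _
    have h2 := (residue_eq_zero P _).1 h1
    have h3 : ((aeval a (pderiv i f) - algebraMap k P.O (c i) : P.O) : K) =
        aeval b (pderiv i f) - algebraMap k K (c i) := by
      rw [show aeval b (pderiv i f) = ((aeval a (pderiv i f) : P.O) : K) from ?_]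
      · rfl
      let ι : P.O →ₐ[k] K := { P.O.subtype with commutes' := fun _ => rfl }
      have : b = fun l => ι (a l) := funext fun l => (ha l).symm
      rw [this, ← comp_aeval_apply]
      rfl
    rw [h3] at h2
    have h4 := (taylor P b α hα' (pderiv i f)).1.trans_lt hexp1
    have h5 : P.1 (algebraMap k K (c i - eval α (pderiv i f))) < 1 := by
      rw [map_sub, show ∀ X Y Z : K, Y - Z = (X - Z) - (X - Y) from fun _ _ _ => (sub_sub_sub_cancel_left _ _ _).symm]
      exact P.1.map_sub_lt h4 h2
    exact sub_eq_zero.1 (hconst _ h5)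
  have euler : ∑ i, c i * α i = 0 := by
    have := congrArg (eval α) hhom.sum_X_mul_pderiv
    simp only [map_sum, map_mul, eval_X, nsmul_eq_mul, map_natCast, hf0, mul_zero] at this
    simp only [hci]
    rw [← this]
    exact Finset.sum_congr rfl fun i _ => mul_comm _ _
  have hmain := (taylor P b α hα' f).2
  rw [hfb, hf0, map_zero, sub_zero, zero_sub, Valuation.map_neg] at hmain
  refine le_of_eq_of_le (congrArg P.1 ?_) hmain
  simp only [← hci, Algebra.smul_def, mul_sub, Finset.sum_sub_distrib, ← map_mul, ← map_sum, euler, map_zero, sub_zero]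
  rfl

end Groth.Agent.S11074
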