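import Groth.Statements.S11075
import Groth.Agent.L26.FF.Embed

set_option autoImplicit false
open FunFld

namespace Groth.Agent.S11075

open Groth.Agent.FF WithZero
lemma aeval_mul_of_homogeneous {R A σ : Type*} [CommSemiring R] [CommSemiring A] [Algebra R A]
    {g : MvPolynomial σ R} {d : ℕ} (hg : g.IsHomogeneous d) (v : σ → A) (a : A) :
    MvPolynomial.aeval (fun i => a * v i) g = a ^ d * MvPolynomial.aeval v g := by
  conv_lhs => rw [g.as_sum]
  conv_rhs => rw [g.as_sum]
  simp only [map_sum, Finset.mul_sum, MvPolynomial.aeval_monomial]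
  refine Finset.sum_congr rfl fun m hm => ?_
  have hd : m.sum (fun _ e => e) = d := by
    have := hg (MvPolynomial.mem_support_iff.1 hm)
    simpa [Finsupp.weight_apply] using this
  rw [← hd]
  simp only [Finsupp.prod, Finsupp.sum, mul_pow, Finset.prod_mul_distrib, ← Finset.prod_pow_eq_pow_sum]
  ring

/-- Over an algebraically closed constant field, let `φ = (φ₀, …, φₙ)`, `n ≥ 1`, be a projective map
onto the curve `V`. (a) A homogeneous `g` not vanishing identically on `V` vanishes at the image
point of only finitely many places (so a closed set not containing `V` meets `V` in a finite set);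
(b) each fibre of `φ` is finite. Here `g` vanishes at `φ(P)` when `g(φ₀/φⱼ, …, φₙ/φⱼ)` lies in the
maximal ideal of `P` for an entry `φⱼ` of least order at `P`. Two places have the same image point
when some entry `φⱼ` has least order at both and each `φᵢ/φⱼ` is congruent to one constant modulo
both maximal ideals. -/
theorem result (k K : Type*) [Field k] [IsAlgClosed k] [Field K] [Algebra k K]
    (hK : FunFld.IsFunctionField k K) {n : ℕ} (hn : 1 ≤ n)
    (φ : Fin (n + 1) → K) (hφ : LinearIndependent k φ) :
    (∀ g : MvPolynomial (Fin (n + 1)) k, g.IsHomogeneous g.totalDegree →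
      MvPolynomial.aeval φ g ≠ 0 →
        {P : FunFld.Place k K | ∃ j, φ j ≠ 0 ∧ (∀ i, P.1 (φ i) ≤ P.1 (φ j)) ∧
          P.1 (MvPolynomial.aeval (fun i => φ i / φ j) g) < 1}.Finite) ∧
    ∀ P : FunFld.Place k K, {Q : FunFld.Place k K | FunFld.SameImage φ P Q}.Finite := by
  have hne := hφ.ne_zero
  constructor
  · intro g hhom hg
    refine ((FunFld.mapDiv k φ).support.finite_toSet.union
      (finite_support_ord hK.1 (MvPolynomial.aeval φ g))).subset ?_
    rintro P ⟨j, hj0, hj, hlt⟩
    by_contra hc
    simp only [Set.mem_union, Finset.mem_coe, Finsupp.mem_support_iff, Function.mem_support,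
      not_or, not_not] at hc
    have h1 : P.1 (φ j) = 1 := (val_eq_one_iff P hj0).2 (by
      rw [(minimal_iff hK.1 hne P j).1 hj, hc.1, neg_zero])
    have e : (fun i => φ i / φ j) = fun i => (φ j)⁻¹ * φ i := funext fun i => div_eq_inv_mul _ _
    rw [e, aeval_mul_of_homogeneous hhom, map_mul, map_pow, map_inv₀, h1, inv_one, one_pow, one_mul,
      (val_eq_one_iff P hg).2 hc.2] at hlt
    exact lt_irrefl _ hlt
  · intro P
    obtain ⟨j, hj⟩ := exists_minimal φ P
    obtain ⟨Q0, hQ0⟩ : ∃ Q0, bdry k φ j Q0 ≠ 0 := by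
      by_contra h
      push Not at h
      exact bdry_ne_zero hK hφ (by simpa using Nat.succ_le_succ hn) j (Finsupp.ext fun Q => by simpa using h Q)
    obtain ⟨i, hi⟩ := exists_ord_eq hK.1 φ Q0
    have hr : Q0.ord (φ i / φ j) < 0 := by
      rw [show φ i / φ j = ratio φ j i from rfl, ord_ratio hne, hi]
      have h1 := bdry_apply hK.1 φ j Q0
      have h2 := neg_mapDiv_le hK.1 φ Q0 j
      omega
    have htr : Transcendental k (φ i / φ j) := fun h => hr.ne (ord_algebraic h Q0)
    have hsub : ∀ Q, FunFld.SameImage φ P Q → ∃ c : k, P.1 (φ i / φ j - algebraMap k K c) < 1 ∧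
        Q.1 (φ i / φ j - algebraMap k K c) < 1 := fun Q hQ => ((sameImage_iff hK hne hj Q).1 hQ).2 i
    by_cases hempty : ∃ Q, FunFld.SameImage φ P Q
    · obtain ⟨Q1, hQ1⟩ := hempty
      obtain ⟨c, hc, -⟩ := hsub Q1 hQ1
      have htr' : Transcendental k (φ i / φ j - algebraMap k K c) := fun h =>
        htr (by simpa using h.add (isAlgebraic_algebraMap c))
      refine (finite_zeros hK.1 htr').subset fun Q hQ => ?_
      obtain ⟨d, hd, hd'⟩ := hsub Q hQ
      have : d = c := by
        by_contra h
        have h3 := P.1.map_sub_lt hd hc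
        rw [sub_sub_sub_cancel_left, ← map_sub, val_const P (sub_ne_zero.2 (Ne.symm h))] at h3
        exact lt_irrefl _ h3
      exact this ▸ hd'
    · exact Set.Finite.subset Set.finite_empty fun Q hQ => hempty ⟨Q, hQ⟩

end Groth.Agent.S11075
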