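import Groth.Statements.S11076
import Groth.Agent.L26.FF.Criterion

set_option autoImplicit false
open FunFld

namespace Groth.Agent.S11076

open Groth.Agent.FF WithZero

/-- Over an algebraically closed constant field, a projective curve (given by a birational projective
map `φ = (φ₀, …, φₙ)`, `n ≥ 1`) is nonsingular at the point `a = φ(P)` if and only if some
hyperplane `∑ cᵢ Xᵢ` has intersection multiplicity `1` with it at `a`: the sum over the places `Q`
of the fibre of `a` of `[φ](Q) + ord_Q(∑ cᵢ φᵢ)` is `1`. Nonsingular at `P` means that the local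
ring of `φ` at `P` (quotients of polynomials over `k` in the `φᵢ/φⱼ`, `φⱼ` of least order at `P`,
denominator a unit at `P`) is the whole valuation ring. Two places have the same image point when
some entry `φⱼ` has least order at both and each `φᵢ/φⱼ` is congruent to one constant modulo both
maximal ideals. -/
theorem result (k K : Type*) [Field k] [IsAlgClosed k] [Field K] [Algebra k K]
    (hK : FunFld.IsFunctionField k K) {n : ℕ} (hn : 1 ≤ n)
    (φ : Fin (n + 1) → K) (hφ : LinearIndependent k φ)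
    (hbir : IntermediateField.adjoin k (Set.range fun i => φ i / φ 0) = ⊤)
    (P : FunFld.Place k K) :
    FunFld.IsNonsingularAt φ P ↔ ∃ c : Fin (n + 1) → k, ∑ i, c i • φ i ≠ 0 ∧
      ∑ᶠ Q ∈ {Q : FunFld.Place k K | FunFld.SameImage φ P Q},
        ((FunFld.mapDiv k φ) Q + Q.ord (∑ i, c i • φ i)) = 1 := by
  classical
  have hne := hφ.ne_zero
  have hcard : 2 ≤ Fintype.card (Fin (n + 1)) := by simpa using Nat.succ_le_succ hn
  obtain ⟨j, hj⟩ := exists_minimal φ P
  have hfib : ∀ Q, FunFld.SameImage φ P Q ↔ bdry k φ j Q = 0 ∧ Agree φ j P Q := sameImage_iff hK hne hj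
  have hPfib : FunFld.SameImage φ P P := (hfib P).2 ⟨(bdry_eq_zero_iff hK.1 hne j P).2 hj, fun i => by
    obtain ⟨c, hc⟩ := exists_value P (deg_eq_one hK P)
      (aff_val_le (hne j) hj (Algebra.subset_adjoin (R := k) ⟨i, rfl⟩ : φ i / φ j ∈ aff k φ j))
    exact ⟨c, hc, hc⟩⟩
  -- multiplicities of hyperplanes on the fibre
  have key : ∀ c : Fin (n + 1) → k, ∑ i, c i • φ i ≠ 0 → ∀ Q, FunFld.SameImage φ P Q →
      (FunFld.mapDiv k φ) Q + Q.ord (∑ i, c i • φ i) = Q.ord ((∑ i, c i • φ i) / φ j) := by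
    intro c hc Q hQ
    have h1 := bdry_apply hK.1 φ j Q
    rw [((hfib Q).1 hQ).1] at h1
    rw [div_eq_mul_inv, ord_mul Q hc (inv_ne_zero (hne j)), ord_inv]
    omega
  have hrat : ∀ c : Fin (n + 1) → k, (∑ i, c i • φ i) / φ j = ∑ i, c i • ratio φ j i := fun c => by
    rw [Finset.sum_div]
    exact Finset.sum_congr rfl fun i _ => smul_div_assoc _ _ _
  constructor
  · intro hns
    obtain ⟨huniq, t, htW, ht⟩ := (crit_iff hK hne hj).1 (crit_of_nonsingular hK hne hj hns)
    obtain ⟨c, hc⟩ := (Submodule.mem_span_range_iff_exists_fun k).1 htW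
    rw [← hrat] at hc
    have ht0 : t ≠ 0 := fun h => by rw [h, map_zero] at ht; exact exp_ne_zero ht.symm
    have hc0 : ∑ i, c i • φ i ≠ 0 := fun h => ht0 (by rw [← hc, h, zero_div])
    have hset : {Q | FunFld.SameImage φ P Q} = {P} := by
      ext Q
      exact ⟨fun hQ => huniq Q ((hfib Q).1 hQ).1 ((hfib Q).1 hQ).2, fun h => h ▸ hPfib⟩
    refine ⟨c, hc0, ?_⟩
    rw [hset, finsum_mem_singleton, key c hc0 P hPfib, hc, ord_eq_of_val P ht]
    norm_num
  · rintro ⟨c, hc0, hsum⟩
    set t := (∑ i, c i • φ i) / φ j with ht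
    have ht0 : t ≠ 0 := div_ne_zero hc0 (hne j)
    have htW : t ∈ ratioSpan k φ j := by
      rw [ht, hrat]
      exact sum_mem fun i _ => Submodule.smul_mem _ _ (Submodule.subset_span ⟨i, rfl⟩)
    have hfin : {Q | FunFld.SameImage φ P Q}.Finite := by
      obtain ⟨Q0, hQ0⟩ : ∃ Q0, bdry k φ j Q0 ≠ 0 := by
        by_contra h
        push Not at h
        exact bdry_ne_zero hK hφ hcard j (Finsupp.ext fun Q => by simpa using h Q)
      obtain ⟨i, hi⟩ := exists_ord_eq hK.1 φ Q0
      have hr : Q0.ord (φ i / φ j) ≠ 0 := by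
        rw [show φ i / φ j = ratio φ j i from rfl, ord_ratio hne, hi]
        have h1 := bdry_apply hK.1 φ j Q0
        omega
      obtain ⟨d, hd, -⟩ := ((hfib P).1 hPfib).2 i
      have htr : Transcendental k (φ i / φ j - algebraMap k K d) := fun h =>
        hr (ord_algebraic (by simpa using h.add (isAlgebraic_algebraMap d)) Q0)
      refine (finite_zeros hK.1 htr).subset fun Q hQ => ?_
      obtain ⟨e, he, he'⟩ := ((hfib Q).1 hQ).2 i
      have hed : e = d := by
        by_contra h
        have h3 := P.1.map_sub_lt he hd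
        rw [sub_sub_sub_cancel_left, ← map_sub, val_const P (sub_ne_zero.2 (Ne.symm h))] at h3
        exact lt_irrefl _ h3
      exact hed ▸ he'
    have hsum' : ∑ Q ∈ hfin.toFinset, Q.ord t = 1 := by
      rw [← hsum, finsum_mem_eq_finite_toFinset_sum _ hfin]
      exact Finset.sum_congr rfl fun Q hQ => (key c hc0 Q (hfin.mem_toFinset.1 hQ)).symm
    have htA : t ∈ aff k φ j := (Submodule.span_le.2 Algebra.subset_adjoin :
      ratioSpan k φ j ≤ Subalgebra.toSubmodule (aff k φ j)) htW
    have htP : P.1 t < 1 := by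
      by_contra h
      have h1 : P.1 t = 1 := le_antisymm (aff_val_le (hne j) hj htA) (not_lt.1 h)
      rw [Finset.sum_eq_zero fun Q hQ => (val_eq_one_iff Q ht0).1
        (agree_val_eq ((hfib Q).1 (hfin.mem_toFinset.1 hQ)).2 htA h1)] at hsum'
      exact zero_ne_one hsum'
    have hpos : ∀ Q ∈ hfin.toFinset, 1 ≤ Q.ord t := fun Q hQ =>
      (val_lt_one_iff Q ht0).1 (agree_lt_one ((hfib Q).1 (hfin.mem_toFinset.1 hQ)).2 htA htP)
    have hP := hfin.mem_toFinset.2 hPfib
    have hone : P.ord t = 1 := by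
      have h1 := Finset.single_le_sum (f := fun Q => Q.ord t)
        (fun Q hQ => le_trans zero_le_one (hpos Q hQ)) hP
      have h2 := hpos P hP
      simp only [hsum'] at h1
      omega
    refine nonsingular_of_crit hK hne hj (bdry_ne_zero hK hφ hcard j)
      ((crit_iff hK hne hj).2 ⟨fun Q hQ hA => ?_, t, htW, by rw [val_eq_exp P ht0, hone]⟩)
    by_contra hQP
    have h1 := Finset.sum_le_sum_of_subset_of_nonneg (f := fun R => R.ord t)
      (s := {P, Q}) (t := hfin.toFinset)
      (Finset.insert_subset hP (Finset.singleton_subset_iff.2 (hfin.mem_toFinset.2 ((hfib Q).2 ⟨hQ, hA⟩))))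
      (fun R hR _ => le_trans zero_le_one (hpos R hR))
    rw [Finset.sum_pair (Ne.symm hQP), hsum'] at h1
    have := hpos Q (hfin.mem_toFinset.2 ((hfib Q).2 ⟨hQ, hA⟩))
    omega

end Groth.Agent.S11076
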