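import Groth.Statements.S11079
import Groth.Agent.S13298
-- import your own Groth.Agent.* helpers here

set_option autoImplicit false
universe u
open CAlg

namespace Groth.Agent.S11079

/-- Let L/K be a finite Galois extension of fields, n a natural number, and B a map from the Galois
group of L over K to the invertible n × n matrices over L such that B(σ) · σ(B(τ)) = B(στ) for all
σ, τ, where σ acts on matrices entrywise and στ is the automorphism applying τ first. Then there is
an invertible matrix A over L with B(σ) = A⁻¹ · σ(A) for every σ; that is, every 1-cocycle of the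
Galois group with values in GL_n(L) is a coboundary. -/
theorem result (K L : Type u) [Field K] [Field L]
    [Algebra K L] [FiniteDimensional K L] [IsGalois K L] (n : ℕ)
    (B : (L ≃ₐ[K] L) → GL (Fin n) L)
    (hB : ∀ σ τ : L ≃ₐ[K] L,
      (B σ : Matrix (Fin n) (Fin n) L) * (B τ : Matrix (Fin n) (Fin n) L).map σ = (B (σ * τ) : Matrix (Fin n) (Fin n) L)) :
    ∃ A : GL (Fin n) L, ∀ σ : L ≃ₐ[K] L,
      (B σ : Matrix (Fin n) (Fin n) L) = ((A⁻¹ : GL (Fin n) L) : Matrix (Fin n) (Fin n) L) * (A : Matrix (Fin n) (Fin n) L).map σ := by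
  letI := CSAGal.matrixAction (L ≃ₐ[K] L) L (Fin n)
  letI : MulDistribMulAction (L ≃ₐ[K] L) (GL (Fin n) L) := GpH1.unitsAction
  let b : GpH1.OneCocycle (L ≃ₐ[K] L) (GL (Fin n) L) := ⟨B, fun σ τ => Units.ext (hB σ τ).symm⟩
  have h := Groth.Agent.S13298.result K L n b.cl
  rw [GpH1.H1.pt, GpH1.OneCocycle.cl_eq_cl_iff] at h
  obtain ⟨A, hA⟩ := h
  refine ⟨A, fun σ => ?_⟩
  have := congrArg Units.val (hA σ)
  rw [show (GpH1.OneCocycle.trivial : GpH1.OneCocycle (L ≃ₐ[K] L) (GL (Fin n) L)) σ = 1 from rfl, mul_one] at this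
  exact this

end Groth.Agent.S11079
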