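import Groth.Statements.S11080
import Mathlib.RingTheory.DedekindDomain.AdicValuation
import Mathlib.RingTheory.Valuation.ValuationSubring

set_option autoImplicit false
universe u
open CAlg

namespace Groth.Agent.S11080

/-- Valuation rings over a curve: let A be a Dedekind domain with fraction field K. A valuation subring
O of K contains A and is different from K if and only if O is the valuation ring of the v-adic
valuation of K at some nonzero prime v of A (equivalently O is the local ring of A at a maximal
ideal, a discrete valuation ring). (The published statement takes A to be the coordinate ring of a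
nonsingular affine curve over an algebraically closed field, which is such a Dedekind domain; its
proof uses only that the local rings of A at nonzero primes are discrete valuation rings and that
nonzero primes are maximal.) -/
theorem result (A K : Type u) [CommRing A]
    [IsDedekindDomain A] [Field K] [Algebra A K] [IsFractionRing A K] (O : ValuationSubring K) :
    ((algebraMap A K).range ≤ O.toSubring ∧ O ≠ ⊤) ↔
      ∃ v : IsDedekindDomain.HeightOneSpectrum A, O = (v.valuation K).valuationSubring := by
  constructor
  · rintro ⟨hA, htop⟩
    let φ : A →+* O := (algebraMap A K).codRestrict O fun a => hA ⟨a, rfl⟩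
    let p : Ideal A := (IsLocalRing.maximalIdeal O).comap φ
    have hunit : ∀ s : A, s ∉ p → (algebraMap A K s)⁻¹ ∈ O := fun s hs => by
      obtain ⟨u, hu⟩ := (IsLocalRing.notMem_maximalIdeal.mp (fun h => hs h) : IsUnit (φ s))
      have h1 : algebraMap A K s * ((↑u⁻¹ : O) : K) = 1 := by
        have := congrArg Subtype.val (Units.mul_inv u)
        rwa [hu] at this
      rw [← eq_inv_of_mul_eq_one_right h1]
      exact (↑u⁻¹ : O).2
    have hp : p ≠ ⊥ := fun hbot => htop (eq_top_iff.mpr fun x _ => by
      obtain ⟨a, b, hb, rfl⟩ := IsFractionRing.div_surjective A x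
      rw [div_eq_mul_inv]
      exact mul_mem (hA ⟨a, rfl⟩) (hunit b (hbot ▸ fun h => nonZeroDivisors.ne_zero hb h)))
    let v : IsDedekindDomain.HeightOneSpectrum A := ⟨p, inferInstance, hp⟩
    refine ⟨v, ?_⟩
    rw [← IsDedekindDomain.HeightOneSpectrum.valuationSubringAtPrime_eq_valuationSubring]
    refine (ValuationSubring.eq_of_le_of_ne_top _ ?_ htop).symm
    rintro x ⟨a, s, hs, rfl⟩
    exact mul_mem (hA ⟨a, rfl⟩) (hunit s hs)
  · rintro ⟨v, rfl⟩
    refine ⟨?_, ?_⟩
    · rintro _ ⟨a, rfl⟩
      exact v.valuation_le_one a
    · simp only [ne_eq, Valuation.valuationSubring_eq_top_iff, not_not]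
      infer_instance

end Groth.Agent.S11080
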