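import Groth.Statements.S11081
import Groth.Agent.L21.Tame.Different
import Mathlib.RingTheory.Trace.Quotient
import Mathlib.RingTheory.DedekindDomain.Factorization
import Mathlib.RingTheory.Ideal.Norm.AbsNorm
import Mathlib.RingTheory.Ideal.Quotient.Operations

set_option autoImplicit false
universe u
attribute [local instance] FractionRing.liftAlgebra
open CAlg

namespace Groth.Agent.S11081

variable {_unused : Unit}

attribute [local instance] Ideal.Quotient.field

set_option maxHeartbeats 800000 in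
/-- The trace on `B / P ^ j` is `j` times the trace on `B / P`. -/
lemma trace_pow {A B : Type*} [CommRing A] [CommRing B] [IsDedekindDomain B] [Algebra A B] [Module.Finite A B]
    (p : Ideal A) [p.IsMaximal] (P : Ideal B) [P.IsMaximal] (hP : P ≠ ⊥) (h1 : p ≤ P.comap (algebraMap A B)) (x : B) :
    ∀ (j : ℕ) (h : p ≤ (P ^ j).comap (algebraMap A B)),
      (letI := Ideal.Quotient.algebraQuotientOfLEComap h
       Algebra.trace (A ⧸ p) (B ⧸ P ^ j) (Ideal.Quotient.mk _ x)) =
      j • (letI := Ideal.Quotient.algebraQuotientOfLEComap h1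
        Algebra.trace (A ⧸ p) (B ⧸ P) (Ideal.Quotient.mk _ x))
  | 0, h => by
    letI := Ideal.Quotient.algebraQuotientOfLEComap h
    haveI : Subsingleton (B ⧸ P ^ 0) :=
      Ideal.Quotient.subsingleton_iff.mpr (by rw [pow_zero, Ideal.one_eq_top])
    rw [Subsingleton.elim (Ideal.Quotient.mk (P ^ 0) x) 0, map_zero, zero_smul]
  | j + 1, h => by
    have hj : p ≤ (P ^ j).comap (algebraMap A B) :=
      h.trans (Ideal.comap_mono (Ideal.pow_le_pow_right j.le_succ))
    have ih := trace_pow p P hP h1 x j hj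
    obtain ⟨a, ha, ha'⟩ := P.exists_mem_pow_notMem_pow_succ hP (Ideal.IsMaximal.ne_top ‹_›) j
    letI := Ideal.Quotient.algebraQuotientOfLEComap h
    letI := Ideal.Quotient.algebraQuotientOfLEComap hj
    letI : Algebra (A ⧸ p) (B ⧸ P) := Ideal.Quotient.algebraQuotientOfLEComap h1
    haveI : IsScalarTower A (A ⧸ p) (B ⧸ P ^ (j + 1)) := .of_algebraMap_eq' rfl
    haveI : IsScalarTower A (A ⧸ p) (B ⧸ P ^ j) := .of_algebraMap_eq' rfl
    haveI : IsScalarTower A (A ⧸ p) (B ⧸ P) := .of_algebraMap_eq' rfl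
    haveI : Module.Finite (A ⧸ p) (B ⧸ P ^ (j + 1)) := Module.Finite.of_restrictScalars_finite A _ _
    let ι₀ : (B ⧸ P) →ₗ[B] B ⧸ P ^ (j + 1) :=
      Submodule.liftQ P (a • (Ideal.Quotient.mkₐ B (P ^ (j + 1))).toLinearMap)
        (fun b hb => by
          rw [LinearMap.mem_ker]
          show a • Ideal.Quotient.mk (P ^ (j + 1)) b = 0
          rw [Algebra.smul_def]
          show Ideal.Quotient.mk (P ^ (j + 1)) a * _ = 0
          rw [← map_mul, Ideal.Quotient.eq_zero_iff_mem, pow_succ P]
          exact Ideal.mul_mem_mul ha hb)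
    have hι₀ : ∀ b, ι₀ (Ideal.Quotient.mk _ b) = Ideal.Quotient.mk _ (a * b) := fun b => by
      show a • Ideal.Quotient.mk (P ^ (j + 1)) b = _
      rw [Algebra.smul_def, map_mul]
      rfl
    let π₀ : (B ⧸ P ^ (j + 1)) →ₗ[B] B ⧸ P ^ j := Submodule.factor (Ideal.pow_le_pow_right j.le_succ)
    let ι := (ι₀.restrictScalars A).extendScalarsOfSurjective
      (show Function.Surjective (algebraMap A (A ⧸ p)) from Ideal.Quotient.mk_surjective)
    let π := (π₀.restrictScalars A).extendScalarsOfSurjective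
      (show Function.Surjective (algebraMap A (A ⧸ p)) from Ideal.Quotient.mk_surjective)
    have hinj : Function.Injective ι := (injective_iff_map_eq_zero ι).mpr fun z hz => by
      obtain ⟨b, rfl⟩ := Ideal.Quotient.mk_surjective z
      exact Ideal.Quotient.eq_zero_iff_mem.mpr (Ideal.mem_prime_of_mul_mem_pow hP ha'
        (Ideal.Quotient.eq_zero_iff_mem.mp ((hι₀ b).symm.trans hz)))
    have hex : Function.Exact ι π := by
      intro z
      obtain ⟨b, rfl⟩ := Ideal.Quotient.mk_surjective z
      constructor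
      · intro hz
        obtain ⟨d, e, he, hde⟩ := Ideal.exists_mul_add_mem_pow_succ hP a b ha ha' (Ideal.Quotient.eq_zero_iff_mem.mp hz)
        refine ⟨Ideal.Quotient.mk _ d, (hι₀ d).trans ?_⟩
        rw [← hde, map_add, Ideal.Quotient.eq_zero_iff_mem.mpr he, add_zero]
      · rintro ⟨c, hc⟩
        obtain ⟨c, rfl⟩ := Ideal.Quotient.mk_surjective c
        rw [← hc]
        show π₀ (ι₀ (Ideal.Quotient.mk _ c)) = 0
        rw [hι₀]
        exact Ideal.Quotient.eq_zero_iff_mem.mpr (Ideal.mul_mem_right _ _ ha)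
    have hsur : Function.Surjective π := fun z => Submodule.factor_surjective (Ideal.pow_le_pow_right j.le_succ) z
    let fN : B ⧸ P →ₗ[A ⧸ p] B ⧸ P := LinearMap.mulLeft _ (Ideal.Quotient.mk P x)
    let fM : B ⧸ P ^ (j + 1) →ₗ[A ⧸ p] B ⧸ P ^ (j + 1) := LinearMap.mulLeft _ (Ideal.Quotient.mk (P ^ (j + 1)) x)
    let fP : B ⧸ P ^ j →ₗ[A ⧸ p] B ⧸ P ^ j := LinearMap.mulLeft _ (Ideal.Quotient.mk (P ^ j) x)
    have e1 : fM ∘ₗ ι = ι ∘ₗ fN := by
        apply LinearMap.ext; intro z
        obtain ⟨b, rfl⟩ := Ideal.Quotient.mk_surjective z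
        show Ideal.Quotient.mk _ x * ι₀ (Ideal.Quotient.mk _ b) = ι₀ (Ideal.Quotient.mk _ x * Ideal.Quotient.mk _ b)
        rw [← map_mul (Ideal.Quotient.mk P), hι₀, hι₀, ← map_mul, mul_left_comm]
    have e2 : π ∘ₗ fM = fP ∘ₗ π := by
        apply LinearMap.ext; intro z
        obtain ⟨b, rfl⟩ := Ideal.Quotient.mk_surjective z
        rfl
    have hmain := Groth.L21.Tame.trace_eq_add_of_exact (K := A ⧸ p) (N := B ⧸ P) (M := B ⧸ P ^ (j + 1)) (P := B ⧸ P ^ j) ι π hinj hsur hex fN fM fP e1 e2
    have l1 : fM = Algebra.lmul (A ⧸ p) _ (Ideal.Quotient.mk (P ^ (j + 1)) x) := LinearMap.ext fun _ => rfl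
    have l2 : fN = Algebra.lmul (A ⧸ p) _ (Ideal.Quotient.mk P x) := LinearMap.ext fun _ => rfl
    have l3 : fP = Algebra.lmul (A ⧸ p) _ (Ideal.Quotient.mk (P ^ j) x) := LinearMap.ext fun _ => rfl
    rw [l1, l2, l3] at hmain
    simp only [Algebra.trace_apply] at ih ⊢
    rw [hmain, ih, succ_nsmul, add_comm]

set_option maxHeartbeats 800000 in
/-- The trace modulo a product of powers of distinct maximal ideals. -/
lemma trace_prod {A B : Type*} [CommRing A] [CommRing B] [IsDedekindDomain B] [Algebra A B] [Module.Finite A B]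
    (p : Ideal A) [p.IsMaximal] {ι : Type*} [DecidableEq ι] (P : ι → Ideal B) (e : ι → ℕ) (hmax : ∀ i, (P i).IsMaximal)
    (hbot : ∀ i, P i ≠ ⊥) (hinj : Function.Injective P) (h1 : ∀ i, p ≤ (P i).comap (algebraMap A B)) (x : B)
    (s : Finset ι) (I : Ideal B) (hI : I = ∏ i ∈ s, P i ^ e i)
    (h : p ≤ I.comap (algebraMap A B)) :
      (letI := Ideal.Quotient.algebraQuotientOfLEComap h
       Algebra.trace (A ⧸ p) (B ⧸ I) (Ideal.Quotient.mk _ x)) =
      ∑ i ∈ s, e i • (letI := Ideal.Quotient.algebraQuotientOfLEComap (h1 i)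
        Algebra.trace (A ⧸ p) (B ⧸ P i) (Ideal.Quotient.mk _ x)) := by
  induction s using Finset.induction_on generalizing I with
  | empty =>
    letI := Ideal.Quotient.algebraQuotientOfLEComap h
    haveI : Subsingleton (B ⧸ I) :=
      Ideal.Quotient.subsingleton_iff.mpr (by rw [hI, Finset.prod_empty, Ideal.one_eq_top])
    rw [Subsingleton.elim (Ideal.Quotient.mk I x) 0, map_zero, Finset.sum_empty]
  | insert i t hit ih =>
    rw [Finset.prod_insert hit] at hI
    have hJ1 : p ≤ (P i ^ e i).comap (algebraMap A B) :=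
      h.trans (Ideal.comap_mono (hI ▸ Ideal.mul_le_left))
    have hJ2 : p ≤ (∏ j ∈ t, P j ^ e j).comap (algebraMap A B) :=
      h.trans (Ideal.comap_mono (hI ▸ Ideal.mul_le_right))
    haveI := hmax i
    have hco : IsCoprime (P i ^ e i) (∏ j ∈ t, P j ^ e j) := IsCoprime.prod_right fun j hj => by
      haveI := hmax j
      exact (Ideal.isCoprime_of_isMaximal (fun hij => hit (by rw [hinj hij]; exact hj))).pow
    letI := Ideal.Quotient.algebraQuotientOfLEComap h
    letI := Ideal.Quotient.algebraQuotientOfLEComap hJ1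
    letI := Ideal.Quotient.algebraQuotientOfLEComap hJ2
    haveI : IsScalarTower A (A ⧸ p) (B ⧸ P i ^ e i) := .of_algebraMap_eq' rfl
    haveI : IsScalarTower A (A ⧸ p) (B ⧸ ∏ j ∈ t, P j ^ e j) := .of_algebraMap_eq' rfl
    haveI : Module.Finite (A ⧸ p) (B ⧸ P i ^ e i) := Module.Finite.of_restrictScalars_finite A _ _
    haveI : Module.Finite (A ⧸ p) (B ⧸ ∏ j ∈ t, P j ^ e j) := Module.Finite.of_restrictScalars_finite A _ _
    let E : (B ⧸ I) ≃ₐ[A ⧸ p] ((B ⧸ P i ^ e i) × B ⧸ ∏ j ∈ t, P j ^ e j) :=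
      { __ := (Ideal.quotEquivOfEq hI).trans (Ideal.quotientMulEquivQuotientProd _ _ hco),
        commutes' := Quotient.ind fun _ ↦ rfl }
    rw [← Algebra.trace_eq_of_algEquiv E, Algebra.trace_prod_apply, Finset.sum_insert hit]
    congr 1
    · exact trace_pow p (P i) (hbot i) (h1 i) x (e i) hJ1
    · exact ih _ rfl hJ2


/-- Let A be a Dedekind domain, B a Dedekind domain which is a finitely generated torsion-free A-algebra
whose fraction field is separable over that of A (B is the integral closure of A in a finite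
separable extension), p a nonzero prime ideal of A and y an element of B. Then the class modulo p of
the trace of y from B to A is the sum over the primes Q of B lying over p of e(Q|p) times the trace,
from B/Q to A/p, of the class of y modulo Q. -/
theorem result (A B : Type u) [CommRing A] [CommRing B]
    [IsDedekindDomain A] [IsDedekindDomain B] [Algebra A B] [Module.Finite A B] [Module.IsTorsionFree A B]
    [Algebra.IsSeparable (FractionRing A) (FractionRing B)]
    (p : Ideal A) [p.IsMaximal] (hp : p ≠ ⊥) (y : B) :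
    Ideal.Quotient.mk p (Algebra.intTrace A B y) =
      ∑ᶠ Q : p.primesOver B,
        Q.1.ramificationIdx A •
          Algebra.trace (A ⧸ p) (B ⧸ Q.1) (Ideal.Quotient.mk Q.1 y) := by
  classical
  haveI : Algebra.IsIntegral A B := Algebra.IsIntegral.of_finite A B
  letI : Fintype (p.primesOver B) := (IsDedekindDomain.primesOver_finite p B).fintype
  rw [finsum_eq_sum_of_fintype, ← Algebra.trace_quotient_eq_of_isDedekindDomain]
  have hmap : p.map (algebraMap A B) = ∏ Q : p.primesOver B, Q.1 ^ Q.1.ramificationIdx A := by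
    rw [Ideal.map_algebraMap_eq_finsetProd_pow (S := A) (R := B) hp]
    exact Finset.prod_subtype _ (fun _ => Set.mem_toFinset) _
  have := trace_prod p (fun Q : p.primesOver B => Q.1) (fun Q : p.primesOver B => Q.1.ramificationIdx A)
    (fun Q => Ideal.IsMaximal.of_liesOver_isMaximal Q.1 p) (fun Q => Ideal.ne_bot_of_liesOver_of_ne_bot hp Q.1)
    Subtype.val_injective (fun Q => (Q.1.over_def p).le) y Finset.univ _ hmap Ideal.le_comap_map
  refine Eq.trans ?_ this
  rfl

end Groth.Agent.S11081
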