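import Groth.Statements.S11084
import Mathlib.NumberTheory.RatFunc.Ostrowski
import Mathlib.RingTheory.Valuation.ValuationSubring

set_option autoImplicit false
universe u
open CAlg

namespace Groth.Agent.S11084

/-- Let k be a field and O a valuation subring of the field of rational functions k(x). Then O contains
the constants k and is different from k(x) if and only if O is the valuation ring of the P-adic
valuation at a nonzero prime P of the polynomial ring k[x], or O is the valuation ring of the
valuation at infinity (given by the degree). (The published statement has k algebraically closed, so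
that these valuation rings correspond to the points of the projective line; the published proof does
not use that k is algebraically closed. The published statement also asserts that distinct points
give distinct valuation rings, which this row does not state, and counts k(x) itself among the
valuation rings containing k; this row excludes it.) -/
theorem result (k : Type u) [Field k] [DecidableEq (RatFunc k)]
    (O : ValuationSubring (RatFunc k)) :
    ((algebraMap k (RatFunc k)).range ≤ O.toSubring ∧ O ≠ ⊤) ↔
      ((∃ v : IsDedekindDomain.HeightOneSpectrum (Polynomial k), O = (v.valuation (RatFunc k)).valuationSubring) ∨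
        O = (RatFunc.inftyValuation k).valuationSubring) := by
  classical
  constructor
  · rintro ⟨hk, htop⟩
    let v := O.valuation
    haveI : v.IsTrivialOn k := ⟨fun a ha => by
      have h1 : v (algebraMap k (RatFunc k) a) ≤ 1 := (O.valuation_le_one_iff _).mpr (hk ⟨a, rfl⟩)
      have h2 : v (algebraMap k (RatFunc k) a⁻¹) ≤ 1 := (O.valuation_le_one_iff _).mpr (hk ⟨a⁻¹, rfl⟩)
      refine le_antisymm h1 ?_
      have h3 : v (algebraMap k (RatFunc k) a) * v (algebraMap k (RatFunc k) a⁻¹) = 1 := by
        rw [← map_mul, ← map_mul, mul_inv_cancel₀ ha, map_one, map_one]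
      calc (1 : _) = v (algebraMap k (RatFunc k) a) * v (algebraMap k (RatFunc k) a⁻¹) := h3.symm
        _ ≤ v (algebraMap k (RatFunc k) a) := mul_le_of_le_one_right' h2⟩
    haveI : v.IsNontrivial := by
      by_contra h
      exact htop (O.valuationSubring_valuation ▸ v.valuationSubring_eq_top_iff.mpr h)
    suffices (∃ w : IsDedekindDomain.HeightOneSpectrum (Polynomial k), v.IsEquiv (w.valuation (RatFunc k))) ∨ v.IsEquiv (RatFunc.inftyValuation k) by
      rw [← O.valuationSubring_valuation]
      rcases this with ⟨w, hw⟩ | hw
      · exact Or.inl ⟨w, (Valuation.isEquiv_iff_valuationSubring _ _).mp hw⟩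
      · exact Or.inr ((Valuation.isEquiv_iff_valuationSubring _ _).mp hw)
    rcases lt_or_ge 1 (v RatFunc.X) with hlt | hle
    · exact Or.inr (RatFunc.valuation_isEquiv_inftyValuation_of_one_lt_valuation_X hlt)
    refine Or.inl ⟨RatFunc.valuationIdeal hle, Valuation.isEquiv_iff_val_le_one.mpr fun {f} => ?_⟩
    rcases eq_or_ne f 0 with rfl | hf0
    · simp
    induction f using RatFunc.induction_on with
    | f p q hq0 =>
      have hp0 : p ≠ 0 := by simp_all
      set pi := RatFunc.uniformizingPolynomial hle with hpi_def
      have hpi0 : v (pi : RatFunc k) ≠ 0 := by simpa [pi] using RatFunc.uniformizingPolynomial_ne_zero hle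
      have hpi1 : v (pi : RatFunc k) < 1 := RatFunc.valuation_uniformizingPolynomial_lt_one hle
      simp only [map_div₀, IsDedekindDomain.HeightOneSpectrum.valuation_of_algebraMap,
        IsDedekindDomain.HeightOneSpectrum.intValuation_def, WithZero.exp_neg, if_neg hp0, if_neg hq0, div_inv_eq_mul]
      rw [RatFunc.valuation_eq_valuation_uniformizingPolynomial_pow_of_valuation_X_le_one hle hp0,
        RatFunc.valuation_eq_valuation_uniformizingPolynomial_pow_of_valuation_X_le_one hle hq0]
      simp_all [div_le_one₀, inv_mul_le_one₀]
      have h0 := zero_lt_iff.mpr (show v (algebraMap (Polynomial k) (RatFunc k) (RatFunc.uniformizingPolynomial hle)) ≠ 0 by simpa using hpi0)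
      rw [div_le_one₀ (pow_pos h0 _), pow_le_pow_iff_right_of_lt_one₀ h0 hpi1]
  · have hC : ∀ a : k, algebraMap k (RatFunc k) a = algebraMap (Polynomial k) (RatFunc k) (Polynomial.C a) := fun a =>
      IsScalarTower.algebraMap_apply k (Polynomial k) (RatFunc k) a
    rintro (⟨w, rfl⟩ | rfl)
    · refine ⟨?_, fun h => ?_⟩
      · rintro _ ⟨a, rfl⟩
        show w.valuation (RatFunc k) (algebraMap k (RatFunc k) a) ≤ 1
        rw [hC]
        exact w.valuation_le_one _
      · obtain ⟨π, hπ, hπ0⟩ := Submodule.exists_mem_ne_zero_of_ne_bot w.ne_bot
        have h1 : w.valuation (RatFunc k) (algebraMap _ _ π) < 1 := (w.valuation_lt_one_iff_mem π).mpr hπ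
        have h2 : (algebraMap (Polynomial k) (RatFunc k) π)⁻¹ ∈ (w.valuation (RatFunc k)).valuationSubring := h ▸ trivial
        rw [Valuation.mem_valuationSubring_iff, map_inv₀, inv_le_one₀ (zero_lt_iff.mpr (by simpa using hπ0))] at h2
        exact absurd h1 h2.not_gt
    · refine ⟨?_, fun h => ?_⟩
      · rintro _ ⟨a, rfl⟩
        show RatFunc.inftyValuation k (algebraMap k (RatFunc k) a) ≤ 1
        rcases eq_or_ne a 0 with rfl | ha
        · simp
        · exact (Valuation.IsTrivialOn.eq_one (v := RatFunc.inftyValuation k) a ha).le
      · have h2 : (RatFunc.X : RatFunc k) ∈ (RatFunc.inftyValuation k).valuationSubring := h ▸ trivial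
        rw [Valuation.mem_valuationSubring_iff, RatFunc.inftyValuation.X, ← WithZero.exp_zero, WithZero.exp_le_exp] at h2
        omega

end Groth.Agent.S11084
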