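import Groth.Statements.S11085
import Groth.Agent.L22.AffineDim
import Groth.Agent.L02.KrullAkizuki
import Mathlib.RingTheory.Valuation.ValuationSubring
import Mathlib.RingTheory.Valuation.ValuationRing
import Mathlib.FieldTheory.IntermediateField.Adjoin.Algebra
import Mathlib.RingTheory.DedekindDomain.Dvr
import Mathlib.RingTheory.EssentialFiniteness
import Mathlib.RingTheory.Unramified.Finite
import Mathlib.Tactic.LinearCombination
import Mathlib.Tactic.FieldSimp

set_option autoImplicit false
universe u
open CAlg

namespace Groth.Agent.S11085


open IntermediateField.algebraAdjoinAdjoin in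
private theorem finite_pole {k F : Type u} [Field k] [Field F] [Algebra k F]
    [Algebra.EssFiniteType k F] (htr : Algebra.trdeg k F = 1) {x : F} :
    {O : ValuationSubring F | (algebraMap k F).range ≤ O.toSubring ∧ x ∉ O}.Finite := by
  classical
  set y : F := x⁻¹ with hy
  by_cases hx : IsAlgebraic k x
  · convert Set.finite_empty
    ext O
    simp only [Set.mem_setOf_eq, Set.mem_empty_iff_false, iff_false, not_and, not_not]
    intro hk
    obtain ⟨p, hpm, hp⟩ := hx.isIntegral
    letI : Algebra k O := ((algebraMap k F).codRestrict O.toSubring fun c => hk ⟨c, rfl⟩).toAlgebra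
    haveI : IsScalarTower k O F := IsScalarTower.of_algebraMap_eq fun c => rfl
    have hint : IsIntegral O x := IsIntegral.tower_top (R := k) ⟨p, hpm, hp⟩
    obtain ⟨z, hz⟩ := IsIntegrallyClosed.isIntegral_iff.mp hint
    exact hz ▸ z.2
  have hy0 : y ≠ 0 := by
    intro h
    exact hx (by rw [inv_eq_zero.mp h]; exact isAlgebraic_zero)
  have hty : Transcendental k y := fun h => hx (by simpa [hy] using h.inv)
  have hind : AlgebraicIndependent k ![y] := by
    rw [algebraicIndependent_unique_type_iff]
    simpa using hty
  have hbasis : IsTranscendenceBasis k ![y] := by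
    apply hind.isTranscendenceBasis_of_lift_trdeg_le
    · rw [htr]; exact Cardinal.one_lt_aleph0
    · rw [htr]; simp
  let R := Algebra.adjoin k ({y} : Set F)
  haveI hR : IsPrincipalIdealRing R :=
    IsPrincipalIdealRing.of_surjective
      ((Polynomial.aeval (R := k) y).codRestrict R (fun p => by
        change Polynomial.aeval y p ∈ Algebra.adjoin k ({y} : Set F)
        rw [Algebra.adjoin_singleton_eq_range_aeval]; exact ⟨p, rfl⟩) : Polynomial k →ₐ[k] R).toRingHom
      (by
        rintro ⟨z, hz⟩
        have hz' := hz
        change z ∈ Algebra.adjoin k ({y} : Set F) at hz'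
        rw [Algebra.adjoin_singleton_eq_range_aeval] at hz'
        obtain ⟨p, hp⟩ := hz'
        exact ⟨p, Subtype.ext hp⟩)
  let K := IntermediateField.adjoin k ({y} : Set F)
  haveI : Algebra.IsAlgebraic K F := by
    have := hbasis.isAlgebraic_field
    rwa [Matrix.range_cons, Matrix.range_empty, Set.union_empty] at this
  haveI : Algebra.EssFiniteType K F := Algebra.EssFiniteType.of_comp k K F
  haveI : Algebra.IsIntegral K F := inferInstance
  haveI : FiniteDimensional K F := Algebra.finite_of_essFiniteType_of_isAlgebraic
  let B := integralClosure R F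
  obtain ⟨hD, -, -, -⟩ := Groth.L02.KrullAkizuki.main (A := R) (B := B) K F
  haveI := hD
  haveI : IsFractionRing B F := integralClosure.isFractionRing_of_finite_extension K F
  let y' : B := algebraMap R B ⟨y, Algebra.subset_adjoin rfl⟩
  have hy'0 : y' ≠ 0 := fun h => hy0 (congrArg Subtype.val h)
  set S := {O : ValuationSubring F | (algebraMap k F).range ≤ O.toSubring ∧ x ∉ O}
  have hB : ∀ O ∈ S, ∀ b : B, (b : F) ∈ O := by
    intro O hO b
    have hx' : y ∈ O := (O.mem_or_inv_mem x).resolve_left hO.2
    have hR' : ∀ r : R, (r : F) ∈ O := by
      rintro ⟨r, hr⟩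
      induction hr using Algebra.adjoin_induction with
      | mem z hz => exact (show z = y from hz) ▸ hx'
      | algebraMap c => exact hO.1 ⟨c, rfl⟩
      | add a b _ _ ha hb => exact O.add_mem _ _ ha hb
      | mul a b _ _ ha hb => exact O.mul_mem _ _ ha hb
    letI : Algebra R O := ((algebraMap R F).codRestrict O.toSubring fun r => hR' r).toAlgebra
    haveI : IsScalarTower R O F := IsScalarTower.of_algebraMap_eq fun r => rfl
    obtain ⟨z, hz⟩ := IsIntegrallyClosed.isIntegral_iff.mp (IsIntegral.tower_top (A := O) b.2)
    exact hz ▸ z.2
  let incl : ∀ O ∈ S, B →+* O := fun O hO =>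
    (algebraMap B F).codRestrict O.toSubring fun b => hB O hO b
  let P : S → Ideal B := fun O => (IsLocalRing.maximalIdeal O.1).comap (incl O.1 O.2)
  have hPp : ∀ O, (P O).IsPrime := fun O => Ideal.IsPrime.comap _
  have hmem : ∀ (O : S) (b : B), b ∈ P O ↔ (b : F) ∈ O.1.nonunits := by
    intro O b
    exact (ValuationSubring.coe_mem_nonunits_iff (a := incl O.1 O.2 b)).symm
  have hP : ∀ O : S, P O ∈ (Ideal.span {y'}).minimalPrimes := by
    intro O
    have hyP : y' ∈ P O := by
      rw [hmem, ValuationSubring.mem_nonunits_iff_or]
      right
      change (x⁻¹)⁻¹ ∉ O.1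
      rw [inv_inv]
      exact O.2.2
    refine ⟨⟨hPp O, (Ideal.span_singleton_le_iff_mem _).mpr hyP⟩, fun Q hQ hQP => ?_⟩
    haveI := hQ.1
    have hQ0 : Q ≠ ⊥ := fun h => hy'0 (by
      have := hQ.2 (Ideal.mem_span_singleton_self y')
      rwa [h, Ideal.mem_bot] at this)
    exact ((hQ.1.isMaximal hQ0).eq_of_le (hPp O).ne_top hQP).ge
  have hdet : ∀ (O : S) (z : F),
      z ∈ O.1 ↔ ∃ c s : B, s ∉ P O ∧ z * s = c := by
    intro O z
    haveI := hPp O
    constructor
    · intro hz
      obtain ⟨a, b, hb, rfl⟩ := IsFractionRing.div_surjective (A := B) z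
      have hb0 : (b : F) ≠ 0 := fun h => nonZeroDivisors.ne_zero hb (Subtype.ext h)
      by_cases ha : (a : F) = 0
      · exact ⟨0, 1, fun h => (hPp O).ne_top ((Ideal.eq_top_iff_one _).mpr h), by
          change (a : F) / (b : F) * ((1 : B) : F) = ((0 : B) : F)
          simp [ha]⟩
      have hP0 : P O ≠ ⊥ := fun h => hy'0 (by
        have := (hP O).1.2 (Ideal.mem_span_singleton_self y')
        rwa [h, Ideal.mem_bot] at this)
      haveI : IsDomain (Localization.AtPrime (P O)) :=
        IsLocalization.isDomain_localization (P O).primeCompl_le_nonZeroDivisors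
      haveI := IsLocalization.AtPrime.isDiscreteValuationRing_of_dedekind_domain B hP0
        (Localization.AtPrime (P O))
      haveI : ValuationRing (Localization.AtPrime (P O)) := inferInstance
      haveI : PreValuationRing (Localization.AtPrime (P O)) := ‹ValuationRing (Localization.AtPrime (P O))›.toPreValuationRing
      obtain ⟨q, hq⟩ | ⟨q, hq⟩ := ValuationRing.dvd_total
        (algebraMap B (Localization.AtPrime (P O)) b) (algebraMap B (Localization.AtPrime (P O)) a)
      · obtain ⟨c, s, hs⟩ := IsLocalization.exists_mk'_eq (P O).primeCompl q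
        rw [← hs, IsLocalization.mul_mk'_eq_mk'_of_mul, IsLocalization.eq_mk'_iff_mul_eq,
          ← map_mul] at hq
        have h1 := IsLocalization.injective (Localization.AtPrime (P O)) (P O).primeCompl_le_nonZeroDivisors hq
        refine ⟨c, s, s.2, ?_⟩
        have h2 : (a : F) * (s : B) = (b : F) * (c : F) := congrArg Subtype.val h1
        change (a : F) / (b : F) * (s : B) = (c : F)
        field_simp
        linear_combination h2
      · obtain ⟨c, s, hs⟩ := IsLocalization.exists_mk'_eq (P O).primeCompl q
        rw [← hs, IsLocalization.mul_mk'_eq_mk'_of_mul, IsLocalization.eq_mk'_iff_mul_eq,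
          ← map_mul] at hq
        have h1 := IsLocalization.injective (Localization.AtPrime (P O)) (P O).primeCompl_le_nonZeroDivisors hq
        have h2 : (b : F) * (s : B) = (a : F) * (c : F) := congrArg Subtype.val h1
        refine ⟨s, c, fun hc => ?_, ?_⟩
        · have h3 : (algebraMap B F a / algebraMap B F b)⁻¹ = (c : F) / (s : B) := by
            have hs0 : ((s : B) : F) ≠ 0 := fun h => s.2 (by
              rw [show (s : B) = 0 from Subtype.ext h]; exact zero_mem _)
            change ((a : F) / (b : F))⁻¹ = _
            field_simp
            linear_combination h2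
          have h4 : ((c : F) / (s : B)) ∈ O.1.nonunits := by
            rw [ValuationSubring.mem_nonunits_iff, map_div₀]
            have hc' := (hmem O c).mp hc
            rw [ValuationSubring.mem_nonunits_iff] at hc'
            have hs' : ¬ O.1.valuation ((s : B) : F) < 1 := fun h =>
              s.2 ((hmem O s).mpr ((ValuationSubring.mem_nonunits_iff _).mpr h))
            have hs'' : O.1.valuation ((s : B) : F) = 1 :=
              le_antisymm ((O.1.valuation_le_one_iff _).mpr (hB O.1 O.2 _)) (not_lt.mp hs')
            rwa [hs'', div_one]
          rw [← h3, ValuationSubring.mem_nonunits_iff_or] at h4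
          rcases h4 with h4 | h4
          · change ((a : F) / (b : F))⁻¹ = 0 at h4
            rw [inv_eq_zero, div_eq_zero_iff] at h4
            exact h4.elim ha hb0
          · rw [inv_inv] at h4
            exact h4 hz
        · change (a : F) / (b : F) * (c : F) = ((s : B) : F)
          field_simp
          linear_combination -h2
    · rintro ⟨c, s, hs, h⟩
      have hs' : ((s : F)) ∉ O.1.nonunits := fun h' => hs ((hmem O s).mpr h')
      rw [ValuationSubring.mem_nonunits_iff_or, not_or, not_not] at hs'
      have : z = (c : F) * (s : F)⁻¹ := by rw [← h, mul_assoc, mul_inv_cancel₀ hs'.1, mul_one]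
      rw [this]
      exact O.1.mul_mem _ _ (hB O.1 O.2 c) hs'.2
  have hinj : Function.Injective P := by
    intro O O' h
    apply Subtype.ext
    ext z
    rw [hdet O z, hdet O' z, h]
  haveI : Finite ((Ideal.span {y'}).minimalPrimes) :=
    (Ideal.finite_minimalPrimes_of_isNoetherianRing B _).to_subtype
  haveI : Finite S := Finite.of_injective (fun O => (⟨P O, hP O⟩ : (Ideal.span {y'}).minimalPrimes))
    fun O O' h => hinj (congrArg Subtype.val h)
  exact Set.toFinite S


/-- Let k be a field, A a finitely generated k-algebra which is an integral domain of Krull dimension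
one (the coordinate ring of an affine curve), and F its field of fractions. Then the set of
valuation subrings of F which contain k but do not contain A is finite. (The published statement
speaks of all valuation rings of F different from F and not containing A, over an algebraically
closed k; valuation rings not containing k must be excluded — for k an algebraic closure of a
rational function field in one variable t over a finite field and F = k(x), the t-adic valuation of
k has infinitely many extensions to F, none of whose rings contains A — and the published proof,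
through the valuation at infinity of k(x), treats valuation rings containing k; it does not use that
k is algebraically closed.) -/
theorem result (k A F : Type u) [Field k]
    [CommRing A] [IsDomain A] [Algebra k A] [Algebra.FiniteType k A] (hA : ringKrullDim A = 1)
    [Field F] [Algebra A F] [IsFractionRing A F] [Algebra k F] [IsScalarTower k A F] :
    {O : ValuationSubring F | (algebraMap k F).range ≤ O.toSubring ∧
        ¬ (algebraMap A F).range ≤ O.toSubring}.Finite := by
  classical
  have htr : Algebra.trdeg k F = 1 := by
    have h := Groth.L22.AffineDim.trdeg_fractionRing k A F (d := 1) (by exact_mod_cast hA)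
    exact_mod_cast h
  haveI : Algebra.EssFiniteType A F := Algebra.EssFiniteType.of_isLocalization F (nonZeroDivisors A)
  haveI : Algebra.EssFiniteType k F := Algebra.EssFiniteType.comp k A F
  obtain ⟨s, hs⟩ := (inferInstance : Algebra.FiniteType k A).out
  refine Set.Finite.subset
    (s.finite_toSet.biUnion fun t _ => finite_pole (k := k) htr (x := algebraMap A F t)) ?_
  rintro O ⟨hk, hA'⟩
  rw [Set.mem_iUnion₂]
  by_contra hne
  push Not at hne
  apply hA'
  rintro _ ⟨a, rfl⟩
  have ha : a ∈ Algebra.adjoin k (s : Set A) := hs ▸ Algebra.mem_top
  induction ha using Algebra.adjoin_induction with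
  | mem z hz =>
    by_contra h
    exact hne z hz ⟨hk, h⟩
  | algebraMap c =>
    rw [← IsScalarTower.algebraMap_apply]
    exact hk ⟨c, rfl⟩
  | add a b _ _ ha hb => rw [map_add]; exact O.add_mem _ _ ha hb
  | mul a b _ _ ha hb => rw [map_mul]; exact O.mul_mem _ _ ha hb

end Groth.Agent.S11085
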