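import Groth.Statements.S11086
import Groth.Agent.L01.DifferentLoc
import Mathlib.RingTheory.Localization.Finiteness
import Mathlib.RingTheory.IntegralClosure.IntegrallyClosed
import Mathlib.RingTheory.Localization.FractionRing

set_option autoImplicit false
universe u
attribute [local instance] FractionRing.liftAlgebra
open CAlg

namespace Groth.Agent.S11086

/-- Let A be a Dedekind domain, B a Dedekind domain which is a finitely generated torsion-free A-algebra
with fraction field separable over that of A (the integral closure of A in a finite separable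
extension), and S a submonoid of A consisting of non-zero-divisors. Let A_S and B_S be localizations
of A at S and of B at the image of S, with B_S an algebra over A_S compatibly with A and B (so A_S
is integrally closed and B_S is a Dedekind domain, torsion-free over A_S). Then the ideal of B_S
generated by the different of B over A is the different of B_S over A_S. -/
theorem result (A B : Type u) [CommRing A] [CommRing B]
    [IsDedekindDomain A] [IsDedekindDomain B] [Algebra A B] [Module.Finite A B] [Module.IsTorsionFree A B]
    [Algebra.IsSeparable (FractionRing A) (FractionRing B)]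
    (S : Submonoid A) (hS : S ≤ nonZeroDivisors A)
    (Aₛ Bₛ : Type u) [CommRing Aₛ] [CommRing Bₛ] [Algebra A Aₛ] [Algebra B Bₛ] [Algebra Aₛ Bₛ]
    [Algebra A Bₛ] [IsScalarTower A Aₛ Bₛ] [IsScalarTower A B Bₛ]
    [IsLocalization S Aₛ] [IsLocalization (Algebra.algebraMapSubmonoid B S) Bₛ]
    [IsDomain Aₛ] [IsIntegrallyClosed Aₛ] [IsDedekindDomain Bₛ] [Module.IsTorsionFree Aₛ Bₛ] :
    Ideal.map (algebraMap B Bₛ) (differentIdeal A B) = differentIdeal Aₛ Bₛ := by
  classical
  let K := FractionRing A
  let L := FractionRing B
  haveI : FaithfulSMul A B := inferInstance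
  letI := FractionRing.liftAlgebra A L
  haveI := FractionRing.isScalarTower_liftAlgebra A L
  haveI : FiniteDimensional K L := Module.Finite.of_isLocalization A B (nonZeroDivisors A)
  have hS' : Algebra.algebraMapSubmonoid B S ≤ nonZeroDivisors B := by
    rintro _ ⟨s, hs, rfl⟩
    exact mem_nonZeroDivisors_of_ne_zero ((map_ne_zero_iff _ (FaithfulSMul.algebraMap_injective A B)).2
      (nonZeroDivisors.ne_zero (hS hs)))
  letI : Algebra Aₛ K := (IsLocalization.lift (M := S) (g := algebraMap A K)
    fun s => IsLocalization.map_units K (⟨s.1, hS s.2⟩ : nonZeroDivisors A)).toAlgebra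
  haveI : IsScalarTower A Aₛ K := IsScalarTower.of_algebraMap_eq fun a => (IsLocalization.lift_eq _ a).symm
  letI : Algebra Bₛ L := (IsLocalization.lift (M := Algebra.algebraMapSubmonoid B S) (g := algebraMap B L)
    fun s => IsLocalization.map_units L (⟨s.1, hS' s.2⟩ : nonZeroDivisors B)).toAlgebra
  haveI : IsScalarTower B Bₛ L := IsScalarTower.of_algebraMap_eq fun a => (IsLocalization.lift_eq _ a).symm
  haveI : IsFractionRing Aₛ K := IsFractionRing.isFractionRing_of_isDomain_of_isLocalization S Aₛ K
  haveI : IsFractionRing Bₛ L :=
    IsFractionRing.isFractionRing_of_isDomain_of_isLocalization (Algebra.algebraMapSubmonoid B S) Bₛ L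
  letI : Algebra Aₛ L := ((algebraMap K L).comp (algebraMap Aₛ K)).toAlgebra
  haveI : IsScalarTower Aₛ K L := IsScalarTower.of_algebraMap_eq fun _ => rfl
  haveI : IsScalarTower Aₛ Bₛ L := IsScalarTower.of_algebraMap_eq' (IsLocalization.ringHom_ext S (RingHom.ext fun a => by
    simp only [RingHom.comp_apply]
    rw [← IsScalarTower.algebraMap_apply A Aₛ Bₛ, IsScalarTower.algebraMap_apply A B Bₛ,
      ← IsScalarTower.algebraMap_apply B Bₛ L, ← IsScalarTower.algebraMap_apply A B L]
    show algebraMap K L (algebraMap Aₛ K (algebraMap A Aₛ a)) = _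
    rw [← IsScalarTower.algebraMap_apply A Aₛ K, ← IsScalarTower.algebraMap_apply A K L]))
  haveI : Module.Finite Aₛ Bₛ := Module.Finite.of_isLocalization A B S
  haveI : IsIntegralClosure B A L := IsIntegralClosure.of_isIntegrallyClosed B A L
  haveI : IsIntegralClosure Bₛ Aₛ L := IsIntegralClosure.of_isIntegrallyClosed Bₛ Aₛ L
  exact L01.DifferentLoc.map_differentIdeal (K := K) (L := L) S


end Groth.Agent.S11086
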