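import Groth.Statements.S11087
import Groth.Agent.L05.Hensel.IntegralDomain
import Mathlib.RingTheory.AdicCompletion.Basic
import Mathlib.RingTheory.Henselian
import Mathlib.RingTheory.DiscreteValuationRing.Basic
import Mathlib.FieldTheory.Perfect
import Mathlib.Tactic.LinearCombination

set_option autoImplicit false
universe u
attribute [local instance] FractionRing.liftAlgebra
open CAlg

namespace Groth.Agent.S11087

/-- A domain finite over a complete discrete valuation ring is henselian local. -/
lemma henselian_of_finite (A B : Type u) [CommRing A] [IsDomain A] [IsDiscreteValuationRing A]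
    [IsAdicComplete (IsLocalRing.maximalIdeal A) A] [CommRing B] [IsDomain B] [Algebra A B] [Module.Finite A B] :
    HenselianLocalRing B := by
  have := IsAdicComplete.henselianRing A (IsLocalRing.maximalIdeal A)
  have : HenselianLocalRing A := Groth.L05.henselianLocalRing_of_henselianRing
  have := Groth.L05.isLocalRing_of_finite_domain (A := A) B
  exact Groth.L05.henselianLocalRing_of_finite (A := A) B


/-- Let A be a complete discrete valuation ring and K a perfect field contained in A such that K → A →
A/m is bijective. Let B be a Dedekind domain which is a finite torsion-free A-algebra with fraction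
field separable over that of A (the integral closure of A in a finite separable extension of its
fraction field). Then for every maximal ideal M of B and every b in B there is exactly one element c
of B which is algebraic over K and congruent to b modulo M; in other words the algebraic closure of
K in B is a subfield mapping isomorphically onto B/M. -/
theorem result (K A B : Type u) [Field K]
    [PerfectField K] [CommRing A] [IsDomain A] [IsDiscreteValuationRing A]
    [IsAdicComplete (IsLocalRing.maximalIdeal A) A]
    [Algebra K A] (hK : Function.Bijective ((IsLocalRing.residue A).comp (algebraMap K A)))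
    [CommRing B] [IsDedekindDomain B] [Algebra A B] [Module.Finite A B] [Module.IsTorsionFree A B]
    [Algebra.IsSeparable (FractionRing A) (FractionRing B)] [Algebra K B] [IsScalarTower K A B]
    (M : Ideal B) [M.IsMaximal] (b : B) :
    ∃! c : B, IsAlgebraic K c ∧ b - c ∈ M := by
  classical
  have := henselian_of_finite A B
  obtain rfl : M = IsLocalRing.maximalIdeal B := IsLocalRing.eq_maximalIdeal inferInstance
  set k' := IsLocalRing.ResidueField B
  let ρ : B →ₐ[K] k' := IsScalarTower.toAlgHom K B k'
  -- the residue class of `b` is integral over `K`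
  let κ : A →+* K := ((RingEquiv.ofBijective _ hK).symm : IsLocalRing.ResidueField A →+* K).comp (IsLocalRing.residue A)
  have hκ : ∀ a : A, algebraMap K k' (κ a) = algebraMap B k' (algebraMap A B a) := by
    intro a
    have hle : ∀ r ∈ IsLocalRing.maximalIdeal A, algebraMap A B r ∈ IsLocalRing.maximalIdeal B := fun r hr =>
      Ideal.mem_comap.mp ((IsLocalRing.eq_maximalIdeal (Ideal.isMaximal_comap_of_isIntegral_of_isMaximal (R := A) (IsLocalRing.maximalIdeal B))).symm ▸ hr)
    rw [IsScalarTower.algebraMap_apply K B k', IsScalarTower.algebraMap_apply K A B, eq_comm, ← sub_eq_zero, ← map_sub, ← map_sub]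
    refine (IsLocalRing.residue_eq_zero_iff _).mpr (hle _ ?_)
    rw [← IsLocalRing.residue_eq_zero_iff, map_sub, sub_eq_zero]
    exact ((RingEquiv.ofBijective _ hK).apply_symm_apply (IsLocalRing.residue A a)).symm
  have hbi : IsIntegral K (ρ b) := by
    obtain ⟨f, hf, h0⟩ := Algebra.IsIntegral.isIntegral (R := A) b
    refine ⟨f.map κ, hf.map κ, ?_⟩
    rw [Polynomial.eval₂_map, show (algebraMap K k').comp κ = (algebraMap B k').comp (algebraMap A B) from RingHom.ext hκ]
    show Polynomial.eval₂ _ (algebraMap B k' b) f = 0
    rw [← Polynomial.hom_eval₂, h0, map_zero]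
  set g := minpoly K (ρ b)
  have hgs : g.Separable := PerfectField.separable_of_irreducible (minpoly.irreducible hbi)
  have hmem : ∀ z : B, z ∈ IsLocalRing.maximalIdeal B ↔ ρ z = 0 := fun z => (IsLocalRing.residue_eq_zero_iff z).symm
  have hunit : ∀ z : B, ρ z ≠ 0 → IsUnit z := fun z hz => IsLocalRing.residue_ne_zero_iff_isUnit z |>.mp hz
  have hder : ρ (Polynomial.aeval b g.derivative) ≠ 0 := by
    rw [← Polynomial.aeval_algHom_apply]
    exact hgs.aeval_derivative_ne_zero (minpoly.aeval K (ρ b))
  obtain ⟨c, hc, hcb⟩ := HenselianLocalRing.is_henselian (g.map (algebraMap K B)) ((minpoly.monic hbi).map _) b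
    (by rw [hmem, Polynomial.eval_map_algebraMap, ← Polynomial.aeval_algHom_apply]; exact minpoly.aeval K (ρ b))
    (hunit _ (by rw [Polynomial.derivative_map, Polynomial.eval_map_algebraMap]; exact hder))
  have hcb' : ρ c = ρ b := by rw [← sub_eq_zero, ← map_sub, ← hmem]; exact hcb
  have hc0 : Polynomial.aeval c g = 0 := by rwa [Polynomial.IsRoot, Polynomial.eval_map_algebraMap] at hc
  refine ⟨c, ⟨⟨g, minpoly.ne_zero hbi, hc0⟩, by rw [hmem, map_sub, hcb', sub_self]⟩, ?_⟩
  rintro c' ⟨halg, hc'b⟩
  have hc'b' : ρ c' = ρ b := by rw [hmem, map_sub, sub_eq_zero] at hc'b; exact hc'b.symm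
  have hi : IsIntegral K c' := halg.isIntegral
  have hg' : g = minpoly K c' := (minpoly.eq_of_irreducible_of_monic (minpoly.irreducible hi)
    (by rw [← hc'b', Polynomial.aeval_algHom_apply, minpoly.aeval, map_zero]) (minpoly.monic hi)).symm
  have hc'0 : Polynomial.aeval c' g = 0 := by rw [hg']; exact minpoly.aeval K c'
  obtain ⟨z, hz⟩ := (g.map (algebraMap K B)).binomExpansion c (c' - c)
  rw [add_sub_cancel, Polynomial.eval_map_algebraMap, Polynomial.eval_map_algebraMap, Polynomial.derivative_map,
    Polynomial.eval_map_algebraMap, hc0, hc'0] at hz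
  have hu : IsUnit (Polynomial.aeval c g.derivative + z * (c' - c)) := hunit _ (by
    rw [map_add, map_mul, map_sub, hc'b', hcb', sub_self, mul_zero, add_zero, ← Polynomial.aeval_algHom_apply, hcb']
    rw [← Polynomial.aeval_algHom_apply] at hder
    exact hder)
  exact sub_eq_zero.mp (hu.mul_right_eq_zero.mp (by linear_combination -hz))

end Groth.Agent.S11087
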