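import Groth.Statements.S11088
import Groth.Agent.L05.Hensel.IntegralDomain
import Mathlib.RingTheory.Ideal.Norm.RelNorm
import Mathlib.RingTheory.DiscreteValuationRing.Basic
import Mathlib.RingTheory.Henselian
import Mathlib.RingTheory.Multiplicity
import Mathlib.RingTheory.RamificationInertia.Basic
import Mathlib.RingTheory.DedekindDomain.Factorization
import Mathlib.RingTheory.DedekindDomain.PID
import Mathlib.LinearAlgebra.FreeModule.PID
import Mathlib.RingTheory.UniqueFactorizationDomain.Multiplicity

set_option autoImplicit false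
universe u
attribute [local instance] FractionRing.liftAlgebra
open CAlg

namespace Groth.Agent.S11088

/-- Let A be a complete discrete valuation ring with maximal ideal m and B a Dedekind domain which is a
finite torsion-free A-algebra with fraction field separable over that of A (the integral closure of
A in a finite separable extension). Then for every maximal ideal M of B, with f the degree of B/M
over A/m, and every nonzero x in B, the multiplicity of m in the ideal generated by the norm of x
equals f times the multiplicity of M in the ideal generated by x: v(N(x)) = f · w(x). -/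
theorem result (A B : Type u) [CommRing A] [IsDomain A] [IsDiscreteValuationRing A]
    [IsAdicComplete (IsLocalRing.maximalIdeal A) A]
    [CommRing B] [IsDedekindDomain B] [Algebra A B] [Module.Finite A B] [Module.IsTorsionFree A B]
    [Algebra.IsSeparable (FractionRing A) (FractionRing B)]
    (M : Ideal B) [M.IsMaximal] (x : B) (hx : x ≠ 0) :
    emultiplicity (IsLocalRing.maximalIdeal A) (Ideal.span {Algebra.intNorm A B x}) =
      (M.inertiaDeg A : ℕ∞) * emultiplicity M (Ideal.span {x}) := by
  classical
  haveI : HenselianLocalRing A := Groth.L05.henselianLocalRing_of_henselianRing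
  haveI : IsLocalRing B := Groth.L05.isLocalRing_of_finite_domain (A := A) B
  haveI : Algebra.IsIntegral A B := Algebra.IsIntegral.of_finite A B
  haveI : Module.Free A B := Module.free_of_finite_type_torsion_free'
  set p := IsLocalRing.maximalIdeal A with hpdef
  have hp : p ≠ ⊥ := IsDiscreteValuationRing.not_a_field A
  haveI hlo : M.LiesOver p := ⟨(IsLocalRing.eq_maximalIdeal (Ideal.isMaximal_comap_of_isIntegral_of_isMaximal M)).symm⟩
  have hM : M ≠ ⊥ := Ideal.ne_bot_of_liesOver_of_ne_bot hp M
  -- `M` is the only prime over `p`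
  have hset : p.primesOver B = {M} := by
    ext Q
    refine ⟨fun ⟨hQ1, hQ2⟩ => ?_, fun h => h ▸ ⟨inferInstance, hlo⟩⟩
    haveI := hQ1; haveI := hQ2
    haveI := Ideal.IsMaximal.of_liesOver_isMaximal Q p
    exact (IsLocalRing.eq_maximalIdeal ‹Q.IsMaximal›).trans (IsLocalRing.eq_maximalIdeal ‹M.IsMaximal›).symm
  letI : Fintype (p.primesOver B) := (IsDedekindDomain.primesOver_finite p B).fintype
  letI : Unique (p.primesOver B) := ⟨⟨⟨M, hset ▸ rfl⟩⟩, fun Q => Subtype.ext (hset ▸ Q.2 : (Q.1 ∈ ({M} : Set (Ideal B))))⟩
  have hsum := Ideal.sum_ramification_inertia_eq_finrank p B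
  rw [Fintype.sum_unique] at hsum
  have hmap : p.map (algebraMap A B) = M ^ M.ramificationIdx A := by
    rw [Ideal.map_algebraMap_eq_finsetProd_pow (S := A) (R := B) hp,
      Finset.prod_subtype _ (p := fun Q => Q ∈ p.primesOver B) (fun _ => Set.mem_toFinset), Fintype.prod_unique]
    rfl
  have hpM : p.map (algebraMap A B) ≤ M := Ideal.map_le_iff_le_comap.mpr hlo.over.le
  have he : M.ramificationIdx A ≠ 0 := fun h0 => by
    rw [hmap, h0, pow_zero, Ideal.one_eq_top, top_le_iff] at hpM
    exact Ideal.IsMaximal.ne_top ‹M.IsMaximal› hpM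
  obtain ⟨s, hs⟩ := Ideal.exists_relNorm_eq_pow_of_isPrime M p
  have hse : s = M.inertiaDeg A := by
    have h := Ideal.relNorm_algebraMap (R := A) (S := B) p
    rw [hmap, map_pow, hs, ← pow_mul, ← hsum] at h
    have h' := (Ideal.pow_right_strictAnti p hp (IsLocalRing.maximalIdeal.isMaximal A).ne_top).injective h
    refine Nat.eq_of_mul_eq_mul_right (Nat.pos_of_ne_zero he) (h'.trans (mul_comm _ _))
  have hxne : Ideal.span {x} ≠ ⊥ := fun h => hx (Ideal.span_singleton_eq_bot.mp h)
  obtain ⟨w, hw⟩ : ∃ w, Ideal.span {x} = M ^ w := by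
    haveI : IsPrincipalIdealRing B := by infer_instance
    haveI : IsDiscreteValuationRing B :=
      { not_a_field' := fun h => hM ((IsLocalRing.eq_maximalIdeal ‹M.IsMaximal›).trans h) }
    obtain ⟨ϖ, hϖ⟩ := IsDiscreteValuationRing.exists_irreducible B
    obtain ⟨w, hw⟩ := IsDiscreteValuationRing.ideal_eq_span_pow_irreducible hxne hϖ
    exact ⟨w, by rw [hw, IsLocalRing.eq_maximalIdeal ‹M.IsMaximal›, (IsDiscreteValuationRing.irreducible_iff_uniformizer ϖ).mp hϖ, Ideal.span_singleton_pow]⟩
  rw [← Ideal.relNorm_singleton, hw, map_pow, hs, hse, ← pow_mul,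
    emultiplicity_pow_self hp (fun hu => (IsLocalRing.maximalIdeal.isMaximal A).ne_top (Ideal.isUnit_iff.mp hu)),
    emultiplicity_pow_self hM (fun hu => (Ideal.IsMaximal.ne_top ‹M.IsMaximal›) (Ideal.isUnit_iff.mp hu))]
  push_cast
  rfl

end Groth.Agent.S11088
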