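import Groth.Statements.S11089
import Groth.Agent.L05.Hensel.IntegralDomain
import Groth.Agent.L01.TameKummer
import Mathlib.RingTheory.RamificationInertia.Basic
import Mathlib.RingTheory.RamificationInertia.Ramification
import Mathlib.RingTheory.RamificationInertia.Inertia
import Mathlib.RingTheory.AdicCompletion.Basic
import Mathlib.RingTheory.DedekindDomain.PID
import Mathlib.FieldTheory.Minpoly.IsIntegrallyClosed
import Mathlib.RingTheory.Flat.Basic
import Mathlib.LinearAlgebra.FreeModule.PID
import Mathlib.Tactic.LinearCombination

set_option autoImplicit false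
universe u
attribute [local instance] FractionRing.liftAlgebra
open CAlg

namespace Groth.Agent.S11089

/-- A domain finite over a complete discrete valuation ring is henselian local. -/
lemma henselian_of_finite (A B : Type u) [CommRing A] [IsDomain A] [IsDiscreteValuationRing A]
    [IsAdicComplete (IsLocalRing.maximalIdeal A) A] [CommRing B] [IsDomain B] [Algebra A B] [Module.Finite A B] :
    HenselianLocalRing B := by
  have := IsAdicComplete.henselianRing A (IsLocalRing.maximalIdeal A)
  have : HenselianLocalRing A := Groth.L05.henselianLocalRing_of_henselianRing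
  have := Groth.L05.isLocalRing_of_finite_domain (A := A) B
  exact Groth.L05.henselianLocalRing_of_finite (A := A) B


/-- Let A be a complete discrete valuation ring containing a field K with K → A → A/m bijective, and B a
Dedekind domain which is a finite torsion-free A-algebra of rank m with fraction field separable
over that of A (the integral closure of A in a finite separable extension E of F = Frac A). If the
extension is totally ramified — the maximal ideal M of B has ramification index m — and m is a unit
in A, then some uniformizer u of B (an element of M not in M²) satisfies u^m ∈ A and generates E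
over F: its minimal polynomial over A has degree m. -/
theorem result (K A B : Type u) [Field K]
    [CommRing A] [IsDomain A] [IsDiscreteValuationRing A]
    [IsAdicComplete (IsLocalRing.maximalIdeal A) A]
    [Algebra K A] (hK : Function.Bijective ((IsLocalRing.residue A).comp (algebraMap K A)))
    [CommRing B] [IsDedekindDomain B] [Algebra A B] [Module.Finite A B] [Module.IsTorsionFree A B]
    [Algebra.IsSeparable (FractionRing A) (FractionRing B)]
    (M : Ideal B) [M.IsMaximal] (hram : M.ramificationIdx A = Module.finrank A B)
    (hm : IsUnit ((Module.finrank A B : ℕ) : A)) :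
    ∃ u : B, u ∈ M ∧ u ∉ M ^ 2 ∧ u ^ Module.finrank A B ∈ (algebraMap A B).range ∧
      (minpoly A u).natDegree = Module.finrank A B := by
  classical
  have := henselian_of_finite A B
  set m := Module.finrank A B with hmdef
  obtain rfl : M = IsLocalRing.maximalIdeal B := IsLocalRing.eq_maximalIdeal inferInstance
  set mA := IsLocalRing.maximalIdeal A with hmA
  set mB := IsLocalRing.maximalIdeal B with hmB
  have hinj : Function.Injective (algebraMap A B) := FaithfulSMul.algebraMap_injective A B
  have hover : mB.LiesOver mA :=
    ⟨(IsLocalRing.eq_maximalIdeal (Ideal.isMaximal_comap_of_isIntegral_of_isMaximal (R := A) mB)).symm⟩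
  have hne : mA ≠ ⊥ := IsDiscreteValuationRing.not_a_field A
  have hmap : mA.map (algebraMap A B) ≠ ⊥ := (Ideal.map_eq_bot_iff_of_injective hinj).not.mpr hne
  have hmB0 : mB ≠ ⊥ := ne_bot_of_le_ne_bot hmap (Ideal.map_le_iff_le_comap.mpr (Ideal.over_def mB mA).le)
  have : IsPrincipalIdealRing B := IsPrincipalIdealRing.of_finite_primes (by
    refine (Set.toFinite {⊥, mB}).subset fun P hP => ?_
    by_cases hP0 : P = ⊥
    · exact Or.inl hP0
    · exact Or.inr (IsLocalRing.eq_maximalIdeal (Ideal.IsPrime.isMaximal hP hP0)))
  have : IsDiscreteValuationRing B := { not_a_field' := hmB0 }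
  obtain ⟨π, hπ⟩ := IsDiscreteValuationRing.exists_irreducible B
  obtain ⟨t, ht⟩ := IsDiscreteValuationRing.exists_irreducible A
  obtain ⟨j, v, hv⟩ := IsDiscreteValuationRing.eq_unit_mul_pow_irreducible
    ((map_ne_zero_iff _ hinj).mpr ht.ne_zero) hπ
  have hmapeq : mA.map (algebraMap A B) = mB ^ j := by
    rw [hmA, ht.maximalIdeal_eq, Ideal.map_span, Set.image_singleton, hmB, hπ.maximalIdeal_eq, Ideal.span_singleton_pow,
      hv, Ideal.span_singleton_mul_left_unit v.isUnit]
  obtain rfl : j = m := by
    have h1 := Ideal.IsDedekindDomain.ramificationIdx_eq_multiplicity mA mB hmap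
    rw [hram, hmapeq, multiplicity_pow_self hmB0 (by rw [Ideal.isUnit_iff]; exact Ideal.IsMaximal.ne_top inferInstance)] at h1
    exact h1.symm
  -- the residue extension is trivial
  have hf : Module.finrank (A ⧸ mA) (B ⧸ mB) = 1 := by
    have huniq : ∀ q : mA.primesOver B, q.1 = mB := fun q => by
      have := q.2.1
      have := q.2.2
      exact IsLocalRing.eq_maximalIdeal (Ideal.IsMaximal.of_liesOver_isMaximal q.1 mA)
    letI : Unique (mA.primesOver B) := ⟨⟨⟨mB, inferInstance, hover⟩⟩, fun q => Subtype.ext (huniq q)⟩
    have h := Ideal.sum_ramification_inertia_eq_finrank mA B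
    rw [Fintype.sum_unique, huniq, hram, Ideal.inertiaDeg_eq_of_isMaximal mA mB] at h
    exact (mul_eq_left₀ (Module.finrank_pos (R := A) (M := B)).ne').mp h
  have hres : ∀ x : B, ∃ a : A, x - algebraMap A B a ∈ mB := fun x => by
    letI := Ideal.Quotient.field mA
    obtain ⟨c, hc⟩ := exists_smul_eq_of_finrank_eq_one hf (show (1 : B ⧸ mB) ≠ 0 from one_ne_zero) (Ideal.Quotient.mk mB x)
    obtain ⟨a, rfl⟩ := Ideal.Quotient.mk_surjective c
    refine ⟨a, ?_⟩
    rw [← Ideal.Quotient.eq_zero_iff_mem, map_sub, ← hc, Algebra.smul_def, mul_one, sub_eq_zero]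
    rfl
  obtain ⟨a, ha⟩ := hres v
  have hau : IsUnit a := by
    by_contra h
    have : algebraMap A B a ∈ mB := Ideal.mem_comap.mp ((Ideal.over_def mB mA).le h)
    have hvm : (v : B) ∈ mB := by simpa using mB.add_mem ha this
    exact hvm v.isUnit
  obtain ⟨a', rfl⟩ := hau
  set w : B := (v : B) * algebraMap A B (↑(a'⁻¹) : A) with hw
  have hmu : IsUnit (m : B) := by simpa using hm.map (algebraMap A B)
  obtain ⟨r, hr, hr1⟩ := HenselianLocalRing.is_henselian (Polynomial.X ^ m - Polynomial.C w)
    (Polynomial.monic_X_pow_sub_C w (Module.finrank_pos (R := A) (M := B)).ne') 1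
    (by
      simp only [Polynomial.eval_sub, Polynomial.eval_pow, Polynomial.eval_X, one_pow, Polynomial.eval_C]
      have := mB.mul_mem_right (algebraMap A B (↑(a'⁻¹) : A)) ha
      rw [sub_mul, ← map_mul, Units.mul_inv, map_one, ← neg_mem_iff, neg_sub] at this
      exact this)
    (by simpa [Polynomial.derivative_X_pow] using hmu)
  have hr' : r ^ m = w := by simpa [Polynomial.IsRoot, sub_eq_zero] using hr
  have hru : IsUnit r := by
    by_contra h
    have h1 := mB.sub_mem h hr1
    rw [sub_sub_cancel] at h1
    exact h1 isUnit_one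
  have hm0 : 0 < m := Module.finrank_pos (R := A) (M := B)
  set t' : A := t * ↑(a'⁻¹) with ht'
  have hu : (π * r) ^ m = algebraMap A B t' := by
    rw [mul_pow, hr', hw, ht', map_mul, hv]; ring
  refine ⟨π * r, mB.mul_mem_right r hπ.not_isUnit, fun h => ?_, ⟨t', hu.symm⟩, ?_⟩
  · rw [hmB, hπ.maximalIdeal_eq, Ideal.span_singleton_pow, Ideal.mem_span_singleton, sq, mul_dvd_mul_iff_left hπ.ne_zero] at h
    exact hπ.not_isUnit (isUnit_of_dvd_unit h hru)
  · have hirr : Irreducible ((Polynomial.X : Polynomial A) ^ m - Polynomial.C t') := by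
      refine (Polynomial.Monic.irreducible_iff_irreducible_map_fraction_map (K := FractionRing A) (Polynomial.monic_X_pow_sub_C t' hm0.ne')).mpr ?_
      rw [Polynomial.map_sub, Polynomial.map_pow, Polynomial.map_X, Polynomial.map_C]
      exact Groth.L01.TameKummer.X_pow_sub_irreducible A (show Irreducible t' from irreducible_mul_units (a'⁻¹) |>.mpr ht) hm0
    have hi : IsIntegral A (π * r) := Algebra.IsIntegral.isIntegral _
    have hdvd : minpoly A (π * r) ∣ Polynomial.X ^ m - Polynomial.C t' :=
      minpoly.isIntegrallyClosed_dvd hi (by simp [hu])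
    rw [Polynomial.natDegree_eq_of_degree_eq (Polynomial.degree_eq_degree_of_associated
      ((minpoly.irreducible hi).associated_of_dvd hirr hdvd)), Polynomial.natDegree_X_pow_sub_C]

end Groth.Agent.S11089
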