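import Groth.Statements.S11090
import Groth.Agent.L15.KerFlat.Basic
import Groth.Agent.L08.FlatHom
import Groth.Agent.L26.AV.SmoothField
import Groth.Agent.L26.AV.Hom
import Mathlib.AlgebraicGeometry.AlgClosed.Basic

set_option autoImplicit false
universe u
open CategoryTheory CategoryTheory.Limits MonoidalCategory CartesianMonoidalCategory MonObj GrpObj AlgebraicGeometry
open AbVar

namespace Groth.Agent.S11090

/-- Let k be an algebraically closed field and E, E′, E″ elliptic curves over k, i.e. group schemes over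
Spec k whose underlying schemes are proper, smooth, integral and one-dimensional. Let φ : E → E′ be
a homomorphism which is finite, surjective and étale (a separable isogeny) and ψ : E → E″ a
homomorphism such that every k-valued point of E sent to the unit by φ is sent to the unit by ψ.
Then there is a unique homomorphism ρ : E′ → E″ with ψ = ρ ∘ φ. (The published statement prints ψ as
a map from E″ to E and calls it an isogeny; its proof treats ψ as a map from E to E″, as here, and
this row allows any homomorphism ψ, the extra case of trivial ψ being immediate.) -/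
theorem result (k : Type u) [Field k] [IsAlgClosed k]
    (E E' E'' : Over (Spec (CommRingCat.of k)))
    [GrpObj E] [IsProper E.hom] [Smooth E.hom] [IsIntegral E.left] (hE : topologicalKrullDim E.left = 1)
    [GrpObj E'] [IsProper E'.hom] [Smooth E'.hom] [IsIntegral E'.left] (hE' : topologicalKrullDim E'.left = 1)
    [GrpObj E''] [IsProper E''.hom] [Smooth E''.hom] [IsIntegral E''.left] (hE'' : topologicalKrullDim E''.left = 1)
    (φ : E ⟶ E') [IsMonHom φ] [IsFinite φ.left] [Surjective φ.left] [Etale φ.left]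
    (ψ : E ⟶ E'') [IsMonHom ψ]
    (hker : ∀ P : 𝟙_ (Over (Spec (CommRingCat.of k))) ⟶ E, P ≫ φ = η[E'] → P ≫ ψ = η[E'']) :
    ∃! ρ : E' ⟶ E'', IsMonHom ρ ∧ φ ≫ ρ = ψ := by
  let N := pullback φ η[E']
  let i : N ⟶ E := pullback.fst φ η[E']
  have hN : IsPullback i (toUnit N) φ η[E'] := by
    rw [toUnit_unique (toUnit N) (pullback.snd φ η[E'])]
    exact IsPullback.of_hasPullback _ _
  have hNl := hN.map (Over.forget _)
  haveI : IsIso (𝟙_ (Over (Spec (CommRingCat.of k)))).hom := inferInstanceAs (IsIso (𝟙 _))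
  haveI : Etale N.hom := by
    rw [← Over.w (toUnit N)]
    exact (MorphismProperty.cancel_right_of_respectsIso @Etale _ (𝟙_ (Over (Spec (CommRingCat.of k)))).hom).2
      (MorphismProperty.of_isPullback hNl ‹Etale φ.left›)
  haveI : IsReduced N.left := Groth.Agent.AV.isReduced_of_smooth_field N.hom
  have hi : i ≫ ψ = 1 := by
    ext1
    haveI : LocallyOfFiniteType ((i ≫ ψ).left ≫ E''.hom) := (Over.w (i ≫ ψ)).symm ▸ inferInstance
    refine ext_of_apply_eq E''.hom Set.univ isOpen_univ.isLocallyClosed dense_univ (fun x _ hx => ?_)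
      ((Over.w (i ≫ ψ)).trans (Over.w (1 : N ⟶ E'')).symm)
    obtain ⟨⟨a, ha⟩, he⟩ := (pointEquivClosedPoint N.hom).surjective ⟨x, hx⟩
    let P : 𝟙_ (Over (Spec (CommRingCat.of k))) ⟶ N := Over.homMk a ha
    have h1 : (P ≫ i) ≫ φ = η[E'] := by
      rw [Category.assoc, hN.w, ← Category.assoc, toUnit_unique (P ≫ toUnit N) (𝟙 _), Category.id_comp]
    have h2 := hker (P ≫ i) h1
    have h3 : P ≫ i ≫ ψ = P ≫ (1 : N ⟶ E'') := by
      rw [← Category.assoc, h2, MonObj.comp_one, Hom.one_def, toUnit_unit, Category.id_comp]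
    have hx' : a (IsLocalRing.closedPoint k) = x := congrArg Subtype.val he
    rw [← hx']
    exact congrArg (fun m : 𝟙_ (Over (Spec (CommRingCat.of k))) ⟶ E'' => m.left (IsLocalRing.closedPoint k)) h3
  have hpair := (Groth.L15.KerFlat.isPullback_kernelPair hN)
  have hpairl : IsPullback (fst E N).left (fst E N * (snd E N ≫ i)).left φ.left φ.left :=
    hpair.map (Over.forget _)
  have hcond : fst E N ≫ ψ = (fst E N * (snd E N ≫ i)) ≫ ψ := by
    rw [MonObj.mul_comp, Category.assoc, hi, MonObj.comp_one, _root_.mul_one]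
  haveI : Flat φ.left := inferInstance
  haveI : QuasiCompact φ.left := inferInstance
  let r : E'.left ⟶ E''.left := EffectiveEpi.desc φ.left ψ.left fun {W} g₁ g₂ hg => by
    rw [← hpairl.lift_fst g₁ g₂ hg, Category.assoc]
    conv_rhs => rw [← hpairl.lift_snd g₁ g₂ hg, Category.assoc]
    exact congrArg (_ ≫ ·) (congrArg CommaMorphism.left hcond)
  have hr : φ.left ≫ r = ψ.left := EffectiveEpi.fac _ _ _
  have hrw : r ≫ E''.hom = E'.hom := by
    rw [← cancel_epi φ.left, reassoc_of% hr, Over.w ψ, Over.w φ]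
  let ρ : E' ⟶ E'' := Over.homMk r hrw
  have hρ : φ ≫ ρ = ψ := Over.OverMorphism.ext hr
  haveI : Epi φ := Over.epi_of_epi_left φ
  have h1 : η[E'] ≫ ρ = η[E''] := by
    rw [← IsMonHom.one_hom φ, Category.assoc, hρ, IsMonHom.one_hom]
  haveI : GeometricallyReduced E'.hom := Groth.Agent.AV.geometricallyReduced_of_smooth E'.hom
  haveI : GeometricallyIntegral E'.hom := Groth.Agent.AV.geometricallyIntegral_of_connected E'
  exact ⟨ρ, ⟨Groth.Agent.AV.isMonHom_of_one ρ h1, hρ⟩, fun ρ' hρ' => (cancel_epi φ).1 (hρ'.2.trans hρ.symm)⟩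

end Groth.Agent.S11090
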