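import Groth.Statements.S11091
import Groth.Agent.L05.Hensel.Product
import Mathlib.RingTheory.Henselian
import Mathlib.RingTheory.LocalRing.MaximalIdeal.Basic

set_option autoImplicit false
universe u
attribute [local instance] FractionRing.liftAlgebra
open CAlg

namespace Groth.Agent.S11091

/-- Let A be a complete discrete valuation ring and B a Dedekind domain which is a finite torsion-free
A-algebra whose fraction field is separable over that of A (the integral closure of A in a finite
separable extension E of the fraction field F). Then B has exactly one maximal ideal; equivalently,
since the discrete valuations of E extending a multiple of the valuation of F correspond to the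
nonzero primes of B, the valuation of F extends uniquely to E, and B is a complete discrete
valuation ring. -/
theorem result (A B : Type u) [CommRing A] [IsDomain A] [IsDiscreteValuationRing A]
    [IsAdicComplete (IsLocalRing.maximalIdeal A) A]
    [CommRing B] [IsDedekindDomain B] [Algebra A B] [Module.Finite A B] [Module.IsTorsionFree A B]
    [Algebra.IsSeparable (FractionRing A) (FractionRing B)] :
    ∃! M : Ideal B, M.IsMaximal := by
  haveI hh := IsAdicComplete.henselianRing A (IsLocalRing.maximalIdeal A)
  haveI : HenselianLocalRing A := ⟨fun f hf a₀ h1 h2 =>
    HenselianRing.is_henselian f hf a₀ h1 ((IsUnit.map _ h2))⟩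
  obtain ⟨ι, hι, e, he, hloc⟩ := Groth.L05.exists_idem_local_of_finite (A := A) B
  have hex : ∃ i, e i = 1 := by
    by_contra hne
    push Not at hne
    have : ∀ i, e i = 0 := fun i => ((IsIdempotentElem.iff_eq_zero_or_one).mp (he.idem i)).resolve_right (hne i)
    have h1 := he.complete
    simp only [this, Finset.sum_const_zero] at h1
    exact zero_ne_one h1
  obtain ⟨i, hi⟩ := hex
  haveI := hloc i
  have hb : Ideal.span ({1 - e i} : Set B) = ⊥ := by rw [hi, sub_self, Ideal.span_singleton_eq_bot]
  haveI : IsLocalRing B :=
    ((Ideal.quotEquivOfEq hb).trans (RingEquiv.quotientBot B)).isLocalRing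
  exact IsLocalRing.maximal_ideal_unique B


end Groth.Agent.S11091
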