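import Groth.Statements.S11092
import Groth.Agent.L01.SepKaehlerU
import Mathlib.FieldTheory.IsAlgClosed.Basic

set_option autoImplicit false
universe u v
open CAlg

namespace Groth.Agent.S11092

/-- Let k be an algebraically closed field, K a field finitely generated over k admitting a one-element
transcendence basis over k (a function field of dimension one), and L a finite extension field of K
with the compatible k-algebra structure. Then the K-linear map from the Kähler differentials of K
over k to those of L over k induced by the inclusion is either the zero map or injective, and it is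
injective if and only if L is separable over K. (The published statement takes K ⊆ L to be the
function fields of two elliptic curves related by a nonzero homomorphism; its proof uses only that
they are function fields of dimension one over k.) -/
theorem result (k : Type u) (K L : Type v)
    [Field k] [IsAlgClosed k] [Field K] [Field L] [Algebra k K] [Algebra k L] [Algebra K L]
    [IsScalarTower k K L] (hK : (⊤ : IntermediateField k K).FG)
    (hx : ∃ x : K, IsTranscendenceBasis k (fun _ : Unit => x)) [FiniteDimensional K L] :
    (KaehlerDifferential.map k k K L = 0 ∨ Function.Injective (KaehlerDifferential.map k k K L)) ∧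
      (Function.Injective (KaehlerDifferential.map k k K L) ↔ Algebra.IsSeparable K L) := by
  obtain ⟨x, hx⟩ := hx
  haveI : Algebra.EssFiniteType k K := IntermediateField.fg_top_iff.mp hK
  haveI : Algebra.EssFiniteType k L := Algebra.EssFiniteType.comp k K L
  have hx' : IsTranscendenceBasis k (fun _ : Fin 1 => x) :=
    (hx.comp_equiv (Equiv.equivPUnit.{1, 1} (Fin 1)))
  have hxL : IsTranscendenceBasis k (fun _ : Fin 1 => algebraMap K L x) := by
    haveI : Algebra.IsAlgebraic K L := Algebra.IsAlgebraic.of_finite K L
    exact hx'.algebraMap_comp
  have r1 : Module.finrank K Ω[K⁄k] = 1 := Module.finrank_eq_of_rank_eq (Groth.L01.SepKaehlerU.rank_kaehler_eq k K _ hx')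
  have r2 : Module.finrank L Ω[L⁄k] = 1 := Module.finrank_eq_of_rank_eq (Groth.L01.SepKaehlerU.rank_kaehler_eq k L _ hxL)
  set φ := KaehlerDifferential.map k k K L
  have hdich : φ = 0 ∨ Function.Injective φ := by
    by_cases h : φ = 0
    · exact Or.inl h
    · refine Or.inr fun a b hab => ?_
      obtain ⟨w, hw⟩ := DFunLike.ne_iff.mp h
      have hw0 : w ≠ 0 := fun h0 => hw (by rw [h0, map_zero, map_zero])
      obtain ⟨c, hc⟩ := (finrank_eq_one_iff_of_nonzero' w hw0).mp r1 (a - b)
      have h0 := congrArg φ hc
      rw [map_smul, map_sub, hab, sub_self] at h0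
      rcases smul_eq_zero.mp h0 with h0 | h0
      · rwa [h0, zero_smul, eq_comm, sub_eq_zero] at hc
      · exact absurd h0 hw
  refine ⟨hdich, fun hinj => ?_, fun hsep => ?_⟩
  · obtain ⟨w, hw⟩ : ∃ w : Ω[K⁄k], w ≠ 0 := by
      haveI : Nontrivial Ω[K⁄k] := Module.nontrivial_of_finrank_eq_succ r1
      exact exists_ne 0
    obtain ⟨a, ha⟩ : ∃ a : K, φ (KaehlerDifferential.D k K a) ≠ 0 := by
      by_contra hne
      push_neg at hne
      refine hw (hinj ?_)
      rw [map_zero]
      have hwm : w ∈ Submodule.span K (Set.range (KaehlerDifferential.D k K)) := by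
        rw [KaehlerDifferential.span_range_derivation]; trivial
      clear hw
      induction hwm using Submodule.span_induction with
      | mem z hz => obtain ⟨a, rfl⟩ := hz; exact hne a
      | zero => exact map_zero _
      | add a b _ _ ha hb => rw [map_add, ha, hb, add_zero]
      | smul a b _ hb => rw [map_smul, hb, smul_zero]
    rw [KaehlerDifferential.map_D] at ha
    haveI : Algebra.EssFiniteType K L := inferInstance
    haveI : Algebra.FormallyUnramified K L := ⟨Groth.L01.SepKaehlerU.subsingleton_kaehler_of_span
      (K := k) (E := K) (fun _ : Unit => algebraMap K L a) (fun _ => ⟨a, rfl⟩) (by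
        rw [eq_top_iff]
        rintro z -
        obtain ⟨c, hc⟩ := (finrank_eq_one_iff_of_nonzero' _ ha).mp r2 z
        rw [← hc]
        exact Submodule.smul_mem _ _ (Submodule.subset_span ⟨(), rfl⟩))⟩
    exact Algebra.FormallyUnramified.isSeparable K L
  · haveI := hsep
    haveI : Algebra.FormallyEtale K L := Algebra.FormallyEtale.of_isSeparable K L
    intro a b hab
    have h2 : (1 : L) ⊗ₜ[K] a = (1 : L) ⊗ₜ[K] b :=
      (KaehlerDifferential.tensorKaehlerEquivOfFormallyEtale k K L).injective (by
        rw [KaehlerDifferential.tensorKaehlerEquivOfFormallyEtale_apply,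
          KaehlerDifferential.tensorKaehlerEquivOfFormallyEtale_apply,
          KaehlerDifferential.mapBaseChange_tmul, KaehlerDifferential.mapBaseChange_tmul, hab])
    have hi := Module.Flat.rTensor_preserves_injective_linearMap (M := Ω[K⁄k]) (Algebra.linearMap K L)
      (algebraMap K L).injective
    have := hi (a₁ := (1 : K) ⊗ₜ a) (a₂ := (1 : K) ⊗ₜ b) (by simpa using h2)
    simpa using congrArg (TensorProduct.lid K _) this

end Groth.Agent.S11092
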