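import Groth.Statements.S11093
import Mathlib.RingTheory.RamificationInertia.Basic
import Mathlib.RingTheory.Henselian
import Mathlib.RingTheory.AdicCompletion.Completeness
import Mathlib.FieldTheory.Finite.Basic
import Mathlib.RingTheory.Trace.Basic
import Mathlib.LinearAlgebra.FreeModule.PID
import Mathlib.Tactic.LinearCombination

set_option autoImplicit false
universe u
attribute [local instance] FractionRing.liftAlgebra
open CAlg

set_option backward.isDefEq.respectTransparency.types false
open scoped Classical in
/-- Additive Hilbert 90 in prime degree. -/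
theorem exists_translate {F E : Type u} [Field F] [Field E] [Algebra F E] [FiniteDimensional F E]
    [IsGalois F E] (p : ℕ) [Fact p.Prime] [CharP E p] (hdeg : Module.finrank F E = p) :
    ∃ (σ : Gal(E/F)) (x : E), σ x = x + 1 ∧ ∀ τ : Gal(E/F), τ ∈ Subgroup.zpowers σ := by
  have hp := (Fact.out : p.Prime)
  have hcard : Nat.card Gal(E/F) = p := (IsGalois.card_aut_eq_finrank F E).trans hdeg
  haveI : Nontrivial Gal(E/F) := Finite.one_lt_card_iff_nontrivial.mp (hcard ▸ hp.one_lt)
  obtain ⟨σ, hσ⟩ := exists_ne (1 : Gal(E/F))
  have htop : ∀ τ : Gal(E/F), τ ∈ Subgroup.zpowers σ := fun τ => mem_zpowers_of_prime_card hcard hσ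
  have hord : orderOf σ = p := by
    rw [← Nat.card_zpowers, Nat.card_congr (Equiv.subtypeUnivEquiv htop), hcard]
  obtain ⟨θ, hθ⟩ : ∃ θ : E, Algebra.trace F E θ = 1 := by
    obtain ⟨θ, hθ⟩ : ∃ θ : E, Algebra.trace F E θ ≠ 0 := by
      by_contra! h
      refine one_ne_zero (α := E) ((traceForm_nondegenerate F E).1 1 fun y => ?_)
      rw [Algebra.traceForm_apply, h]
    refine ⟨(Algebra.trace F E θ)⁻¹ • θ, ?_⟩
    rw [map_smul, smul_eq_mul, inv_mul_cancel₀ hθ]
  have hsum : ∑ i ∈ Finset.range p, (σ ^ i) θ = 1 := by
    rw [← map_one (algebraMap F E), ← hθ, trace_eq_sum_automorphisms]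
    refine Finset.sum_bij (fun i _ => σ ^ i) (fun _ _ => Finset.mem_univ _) (fun a ha b hb h => ?_)
      (fun τ _ => ?_) (fun _ _ => rfl)
    · exact pow_injOn_Iio_orderOf (by simpa [hord] using ha) (by simpa [hord] using hb) h
    · obtain ⟨n, hn, rfl⟩ := Finset.mem_image.mp (mem_zpowers_iff_mem_range_orderOf.mp (htop τ))
      exact ⟨n, by simpa [hord] using hn, rfl⟩
  have hp0 : (p : E) = 0 := CharP.cast_eq_zero E p
  let g : ℕ → E := fun i => (i : E) * (σ ^ i) θ
  have hgp : g p = g 0 := by simp [g, hp0]
  have hshift : ∑ i ∈ Finset.range p, g (i + 1) = ∑ i ∈ Finset.range p, g i := by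
    have h1 := Finset.sum_range_succ g p
    rw [Finset.sum_range_succ' g p, hgp] at h1
    exact add_right_cancel h1
  have hs1 : ∑ i ∈ Finset.range p, (σ ^ (i + 1)) θ = 1 := by
    have h1 := Finset.sum_range_succ (fun i => (σ ^ i) θ) p
    rw [Finset.sum_range_succ' (fun i => (σ ^ i) θ) p, hsum,
      show (σ ^ p) θ = (σ ^ 0) θ by rw [← hord, pow_orderOf_eq_one, pow_zero]] at h1
    exact add_right_cancel h1
  refine ⟨σ, -∑ i ∈ Finset.range p, g i, ?_, htop⟩
  have h2 : σ (∑ i ∈ Finset.range p, g i) = ∑ i ∈ Finset.range p, g i - 1 := by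
    calc σ (∑ i ∈ Finset.range p, g i)
        = ∑ i ∈ Finset.range p, (g (i + 1) - (σ ^ (i + 1)) θ) := by
          rw [map_sum]
          refine Finset.sum_congr rfl fun i _ => ?_
          simp only [g, map_mul, map_natCast, Nat.cast_add, Nat.cast_one, pow_succ',
            AlgEquiv.mul_apply]
          ring
      _ = _ := by rw [Finset.sum_sub_distrib, hshift, hs1]
  rw [map_neg, h2]
  ring

/-- Roots of `Y ^ p - Y` are fixed by every automorphism. -/
theorem fixed_of_pow_eq {E : Type u} [Field E] (p : ℕ) [Fact p.Prime] [CharP E p] (σ : E →+* E)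
    {y : E} (hy : y ^ p = y) : σ y = y := by
  have h : y ∈ (⊥ : Subfield E) := (Subfield.mem_bot_iff_pow_eq_self E p).mpr hy
  exact (bot_le : (⊥ : Subfield E) ≤ RingHom.eqLocusField σ (RingHom.id E)) h

open IsLocalRing in
/-- Residue extensions are trivial at a totally ramified prime of degree at most the rank. -/
theorem exists_sub_mem {A B : Type u} [CommRing A] [IsDomain A] [CommRing B] [Algebra A B]
    [Module.Finite A B] [Module.Free A B] (M : Ideal B) [M.IsMaximal] (p : ℕ) (hp : 0 < p)
    (hrank : Module.finrank A B ≤ p) (hram : M.ramificationIdx A = p) (b : B) :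
    ∃ t : A, b - algebraMap A B t ∈ M := by
  classical
  let P := M.under A
  haveI : P.IsMaximal := Ideal.IsMaximal.under A M
  haveI : Finite (P.primesOver B) :=
    Algebra.QuasiFinite.finite_primesOver P
  letI := Fintype.ofFinite (P.primesOver B)
  have hsum := Ideal.sum_ramification_inertia_eq_finrank P B
  have hle : M.ramificationIdx A * M.inertiaDeg A ≤ Module.finrank A B := by
    rw [← hsum]
    exact Finset.single_le_sum (f := fun q : P.primesOver B => q.1.ramificationIdx A * q.1.inertiaDeg A)
      (fun _ _ => Nat.zero_le _) (Finset.mem_univ (⟨M, inferInstance, ⟨rfl⟩⟩ : P.primesOver B))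
  have hf : M.inertiaDeg A = 1 := by
    have h1 := M.inertiaDeg_pos A
    rw [hram] at hle
    have h2 : p * M.inertiaDeg A ≤ p * 1 := by omega
    have := Nat.le_of_mul_le_mul_left h2 hp
    omega
  letI := Localization.AtPrime.algebraOfLiesOver P M
  rw [Ideal.inertiaDeg_def] at hf
  obtain ⟨r, hr⟩ := (Module.Free.bijective_algebraMap_of_finrank_eq_one hf).2
    (algebraMap B M.ResidueField b)
  obtain ⟨t, rfl⟩ := P.bijective_algebraMap_quotient_residueField.2 r
  obtain ⟨t, rfl⟩ := Ideal.Quotient.mk_surjective t
  refine ⟨t, ?_⟩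
  rw [← Ideal.algebraMap_residueField_eq_zero, map_sub, ← hr, sub_eq_zero]
  rw [show algebraMap (A ⧸ P) P.ResidueField (Ideal.Quotient.mk P t) = algebraMap A P.ResidueField t from rfl,
    ← IsScalarTower.algebraMap_apply A P.ResidueField M.ResidueField,
    ← IsScalarTower.algebraMap_apply A B M.ResidueField]

open Polynomial in
/-- An Artin–Schreier equation with a root modulo the maximal ideal of power series has a root. -/
theorem exists_root {p : ℕ} [Fact p.Prime] {K : Type u} [Field K] [CharP K p] (a t : PowerSeries K)
    (h : t ^ p - t + a ∈ IsLocalRing.maximalIdeal (PowerSeries K)) :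
    ∃ z : PowerSeries K, z ^ p - z + a = 0 := by
  have hI : Ideal.span {(PowerSeries.X : PowerSeries K)} = IsLocalRing.maximalIdeal (PowerSeries K) :=
    PowerSeries.maximalIdeal_eq_span_X.symm
  haveI : CharP (PowerSeries K) p :=
    charP_of_injective_algebraMap (FaithfulSMul.algebraMap_injective K (PowerSeries K)) p
  let f : (PowerSeries K)[X] := X ^ p - X + C a
  have hp1 : (1 : WithBot ℕ) < p := by exact_mod_cast (Fact.out : p.Prime).one_lt
  have hmon : f.Monic := by
    have : (X ^ p - (X - C a) : (PowerSeries K)[X]).Monic :=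
      monic_X_pow_sub (by rw [degree_X_sub_C]; exact hp1)
    simpa [f, sub_add] using this
  obtain ⟨z, hz, -⟩ := HenselianRing.is_henselian (R := PowerSeries K)
    (I := Ideal.span {(PowerSeries.X : PowerSeries K)}) f hmon t (by simpa [f, hI] using h) (by
      refine (IsUnit.map _ ?_)
      have : (derivative f).eval t = -1 := by simp [f, Polynomial.derivative_X_pow, CharP.cast_eq_zero (PowerSeries K) p]
      rw [this]
      exact isUnit_one.neg)
  exact ⟨z, by simpa [f, IsRoot] using hz⟩
namespace Groth.Agent.S11093

/-- Second assertion: (Artin–Schreier normal form): let K be a perfect field of characteristic p > 0, A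
= K[[t]] the power series ring with fraction field F, and B a Dedekind domain which is a finite
torsion-free A-algebra whose fraction field E is Galois of degree p over F and totally ramified:
some maximal ideal of B has ramification index p over A. Then there are x in E generating E over F
and α in F with x^p − x + α = 0, where α = a / t^m for a power series a with nonzero constant term
and a positive integer m not divisible by p. -/
theorem result (p : ℕ) [Fact p.Prime] (K : Type u) [Field K]
    [CharP K p] [PerfectField K] (B : Type u) [CommRing B] [IsDedekindDomain B]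
    [Algebra (PowerSeries K) B] [Module.Finite (PowerSeries K) B] [Module.IsTorsionFree (PowerSeries K) B]
    [IsGalois (FractionRing (PowerSeries K)) (FractionRing B)]
    (hdeg : Module.finrank (FractionRing (PowerSeries K)) (FractionRing B) = p)
    (M : Ideal B) [M.IsMaximal] (hram : M.ramificationIdx (PowerSeries K) = p) :
    ∃ x : FractionRing B, ∃ m : ℕ, ∃ a : PowerSeries K,
      IntermediateField.adjoin (FractionRing (PowerSeries K)) {x} = ⊤ ∧ 0 < m ∧ ¬ p ∣ m ∧
      PowerSeries.constantCoeff a ≠ 0 ∧
      x ^ p - x + algebraMap (FractionRing (PowerSeries K)) (FractionRing B)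
        (algebraMap (PowerSeries K) (FractionRing (PowerSeries K)) a /
          algebraMap (PowerSeries K) (FractionRing (PowerSeries K)) (PowerSeries.X ^ m)) = 0 := by
  classical
  let A := PowerSeries K
  let F := FractionRing A
  let E := FractionRing B
  have hp := (Fact.out : p.Prime)
  haveI : CharP A p := charP_of_injective_algebraMap (FaithfulSMul.algebraMap_injective K A) p
  haveI : CharP F p := charP_of_injective_algebraMap (IsFractionRing.injective A F) p
  haveI : CharP E p := charP_of_injective_algebraMap (algebraMap F E).injective p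
  haveI : FiniteDimensional F E := FiniteDimensional.of_finrank_pos (by rw [hdeg]; exact hp.pos)
  obtain ⟨σ, x₀, hx₀, hgen⟩ := exists_translate p hdeg
  have hfix : ∀ y : E, σ y = y → ∃ c : F, algebraMap F E c = y := by
    intro y hy
    refine IntermediateField.mem_bot.mp ((IsGalois.mem_bot_iff_fixed y).mpr fun τ => ?_)
    obtain ⟨n, rfl⟩ := Subgroup.mem_zpowers_iff.mp (hgen τ)
    induction n with
    | zero => simp
    | succ n ih => rw [zpow_add_one, AlgEquiv.mul_apply, hy, ih]
    | pred n ih =>
      rw [zpow_sub_one, AlgEquiv.mul_apply, show σ⁻¹ y = y from (AlgEquiv.symm_apply_eq σ).mpr hy.symm, ih]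
  let T : F := algebraMap A F PowerSeries.X
  have hT : T ≠ 0 := fun h => PowerSeries.X_ne_zero (IsFractionRing.injective A F (h.trans (map_zero _).symm))
  let π : F →+* E := algebraMap F E
  -- the pole order can be reduced
  suffices main : ∀ (m : ℕ) (x : E) (a : A), σ x = x + 1 →
      x ^ p - x + π (algebraMap A F a / T ^ m) = 0 →
      ∃ x : E, ∃ m : ℕ, ∃ a : A, IntermediateField.adjoin F {x} = ⊤ ∧ 0 < m ∧ ¬ p ∣ m ∧
        PowerSeries.constantCoeff a ≠ 0 ∧
        x ^ p - x + π (algebraMap A F a / algebraMap A F (PowerSeries.X ^ m)) = 0 by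
    obtain ⟨c, hc⟩ := hfix (x₀ ^ p - x₀) (by
      rw [map_sub, map_pow, hx₀, add_pow_char, one_pow]
      ring)
    obtain ⟨b, d, hd, hbd⟩ := IsFractionRing.div_surjective (A := A) (-c)
    have hd0 : d ≠ 0 := nonZeroDivisors.ne_zero hd
    obtain ⟨n, u, hdu⟩ := IsDiscreteValuationRing.eq_unit_mul_pow_irreducible hd0 PowerSeries.X_irreducible
    refine main n x₀ (b * ↑u⁻¹) hx₀ ?_
    have hu : algebraMap A F (↑u⁻¹ : A) * algebraMap A F (u : A) = 1 := by
      rw [← map_mul, Units.inv_mul, map_one]
    have h1 : algebraMap A F (b * ↑u⁻¹) / T ^ n = -c := by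
      rw [← hbd, hdu, map_mul, map_mul, map_pow, mul_comm (algebraMap A F (u : A)), ← div_div,
        eq_div_iff (fun h => by rw [h, mul_zero] at hu; exact zero_ne_one hu)]
      rw [div_mul_eq_mul_div, mul_assoc, hu, mul_one]
    rw [h1, map_neg, hc, add_neg_cancel]
  intro m
  induction m using Nat.strong_induction_on with
  | _ m ih =>
  intro x a hx hxa
  rcases Nat.eq_zero_or_pos m with rfl | hm
  · -- no pole: the extension would be trivial
    exfalso
    rw [pow_zero, div_one, ← IsScalarTower.algebraMap_apply A F E] at hxa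
    have hint : IsIntegral A x := by
      refine ⟨Polynomial.X ^ p - (Polynomial.X - Polynomial.C a), Polynomial.monic_X_pow_sub ?_, ?_⟩
      · rw [Polynomial.degree_X_sub_C]; exact_mod_cast hp.one_lt
      · simp only [Polynomial.eval₂_sub, Polynomial.eval₂_pow, Polynomial.eval₂_X, Polynomial.eval₂_C]
        linear_combination hxa
    obtain ⟨b, hb⟩ := IsIntegrallyClosed.isIntegral_iff.mp (hint.tower_top (A := B))
    haveI : Module.Free A B := Module.free_of_finite_type_torsion_free'
    have hrank : Module.finrank A B ≤ p := by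
      let bb := Module.finBasis A B
      have h1 : LinearIndependent A fun i => (IsScalarTower.toAlgHom A B E) (bb i) :=
        bb.linearIndependent.map' (IsScalarTower.toAlgHom A B E).toLinearMap
          (LinearMap.ker_eq_bot.mpr (IsFractionRing.injective B E))
      have h2 := ((LinearIndependent.iff_fractionRing A F).mp h1).fintype_card_le_finrank
      rw [Fintype.card_fin] at h2
      exact h2.trans hdeg.le
    obtain ⟨t, ht⟩ := exists_sub_mem M p hp.pos hrank hram b
    have hB : b ^ p - b + algebraMap A B a = 0 := IsFractionRing.injective B E (by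
      rw [map_add, map_sub, map_pow, map_zero, hb, ← IsScalarTower.algebraMap_apply]
      exact hxa)
    haveI : CharP B p := charP_of_injective_algebraMap (FaithfulSMul.algebraMap_injective A B) p
    have hmem : t ^ p - t + a ∈ M.under A := by
      show algebraMap A B (t ^ p - t + a) ∈ M
      have : algebraMap A B (t ^ p - t + a) =
          (b - algebraMap A B t) - (b - algebraMap A B t) ^ p := by
        rw [sub_pow_char, map_add, map_sub, map_pow]
        linear_combination hB
      rw [this]
      exact M.sub_mem ht (Ideal.pow_mem_of_mem _ ht p hp.pos)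
    haveI : (M.under A).IsMaximal := Ideal.IsMaximal.under A M
    rw [IsLocalRing.eq_maximalIdeal (inferInstance : (M.under A).IsMaximal)] at hmem
    obtain ⟨z, hz⟩ := exists_root a t hmem
    have hz' := congrArg (algebraMap A E) hz
    rw [map_add, map_sub, map_pow, map_zero] at hz'
    have hy : (x - algebraMap A E z) ^ p = x - algebraMap A E z := by
      rw [sub_pow_char]
      linear_combination hxa - hz'
    have h3 := fixed_of_pow_eq p (σ : E →+* E) hy
    rw [map_sub, RingHom.coe_coe, hx, IsScalarTower.algebraMap_apply A F E, AlgEquiv.commutes] at h3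
    exact one_ne_zero (α := E) (by linear_combination h3)
  · by_cases ha : PowerSeries.constantCoeff a = 0
    · obtain ⟨a', rfl⟩ := PowerSeries.X_dvd_iff.mpr ha
      refine ih (m - 1) (by omega) x a' hx ?_
      rw [← hxa]
      congr 2
      obtain ⟨k, rfl⟩ : ∃ k, m = k + 1 := ⟨m - 1, by omega⟩
      rw [Nat.add_sub_cancel, map_mul, pow_succ', mul_div_mul_left _ _ hT]
    by_cases hpm : p ∣ m
    · obtain ⟨j, rfl⟩ := hpm
      haveI : PerfectRing K p := PerfectField.toPerfectRing p
      obtain ⟨c, hc⟩ := surjective_frobenius K p (PowerSeries.constantCoeff a)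
      rw [frobenius_def] at hc
      have hjle : j ≤ p * j := Nat.le_mul_of_pos_left j hp.pos
      have hj : 0 < j := Nat.pos_of_mul_pos_left hm
      have hlt : 0 < p * j - j := by
        have : 2 * j ≤ p * j := Nat.mul_le_mul_right j hp.two_le
        omega
      obtain ⟨a', ha'⟩ := PowerSeries.X_dvd_iff.mpr
        (show PowerSeries.constantCoeff
          (a - PowerSeries.C (c ^ p) + PowerSeries.C c * PowerSeries.X ^ (p * j - j) : A) = 0 by
          simp [hc, hlt.ne'])
      let cF : F := algebraMap A F (PowerSeries.C c)
      refine ih (p * j - 1) (by omega) (x + π (cF / T ^ j)) a' ?_ ?_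
      · rw [map_add, hx, show σ (π (cF / T ^ j)) = π (cF / T ^ j) from σ.commutes _]
        ring
      · have key : algebraMap A F a' / T ^ (p * j - 1) =
            algebraMap A F a / T ^ (p * j) - (cF / T ^ j) ^ p + cF / T ^ j := by
          have h1 := congrArg (algebraMap A F) ha'
          rw [map_add, map_sub, map_mul, map_mul, map_pow PowerSeries.C, map_pow, map_pow] at h1
          have e1 : T ^ (p * j) = T * T ^ (p * j - 1) := by
            rw [← pow_succ', Nat.sub_add_cancel hm]
          have e2 : T ^ (p * j) = T ^ (p * j - j) * T ^ j := by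
            rw [← pow_add, Nat.sub_add_cancel hjle]
          rw [div_pow, ← pow_mul, mul_comm j p, ← sub_div, eq_comm]
          calc (algebraMap A F a - cF ^ p) / T ^ (p * j) + cF / T ^ j
              = (algebraMap A F a - cF ^ p + cF * T ^ (p * j - j)) / T ^ (p * j) := by
                rw [add_div]
                congr 1
                rw [e2, mul_comm (T ^ (p * j - j)) (T ^ j),
                  mul_div_mul_right _ _ (pow_ne_zero _ hT)]
            _ = T * algebraMap A F a' / T ^ (p * j) := by rw [← h1]
            _ = _ := by rw [e1, mul_div_mul_left _ _ hT]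
        rw [key, map_add, map_sub, map_pow, add_pow_char]
        linear_combination hxa
    · refine ⟨x, m, a, ?_, hm, hpm, ha, by rw [map_pow]; exact hxa⟩
      haveI := IntermediateField.isSimpleOrder_of_finrank_prime F E (by rw [hdeg]; exact hp)
      refine (eq_bot_or_eq_top (IntermediateField.adjoin F {x})).resolve_left fun h => ?_
      obtain ⟨c, hc⟩ := IntermediateField.mem_bot.mp
        (h ▸ IntermediateField.mem_adjoin_simple_self F x : x ∈ (⊥ : IntermediateField F E))
      rw [← hc, AlgEquiv.commutes] at hx
      exact one_ne_zero (α := E) (by linear_combination -hx)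


end Groth.Agent.S11093
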