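import Groth.Statements.S11094
import Groth.Agent.L13.UnramDegree
import Groth.Agent.L26.Weil.Basic
import Mathlib.AlgebraicGeometry.AlgClosed.Basic

set_option autoImplicit false
universe u
open CategoryTheory CategoryTheory.Limits MonoidalCategory CartesianMonoidalCategory MonObj GrpObj AlgebraicGeometry
open AbVar

namespace Groth.Agent.S11094

open CategoryTheory CategoryTheory.Limits MonoidalCategory CartesianMonoidalCategory MonObj

/-- The map of function fields induced by a morphism preserving generic points. -/
noncomputable def ffMap {X Y : Scheme.{u}} [IsIntegral X] [IsIntegral Y] (f : X ⟶ Y)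
    (e : f (genericPoint X) = genericPoint Y) : Y.functionField →+* X.functionField :=
  (Y.presheaf.stalkSpecializes (specializes_of_eq e) ≫ f.stalkMap (genericPoint X)).hom

theorem spec_ffMap {X Y : Scheme.{u}} [IsIntegral X] [IsIntegral Y] (f : X ⟶ Y)
    (e : f (genericPoint X) = genericPoint Y) :
    Spec.map (CommRingCat.ofHom (ffMap f e)) ≫ Y.fromSpecStalk (genericPoint Y) =
      X.fromSpecStalk (genericPoint X) ≫ f := by
  show Spec.map (_ ≫ _) ≫ _ = _
  rw [Spec.map_comp, Category.assoc, Scheme.SpecMap_stalkSpecializes_fromSpecStalk,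
    Scheme.SpecMap_stalkMap_fromSpecStalk]

theorem eq_comp_ffMap {X Y : Scheme.{u}} [IsIntegral X] [IsIntegral Y] (g : X ⟶ X) (f : X ⟶ Y)
    (h : g ≫ f = f) (e : f (genericPoint X) = genericPoint Y)
    (eg : g (genericPoint X) = genericPoint X) (c : Y.functionField) :
    ffMap g eg (ffMap f e c) = ffMap f e c := by
  have h1 : CommRingCat.ofHom (ffMap f e) ≫ CommRingCat.ofHom (ffMap g eg) = CommRingCat.ofHom (ffMap f e) := by
    apply Spec.map_injective
    rw [← cancel_mono (Y.fromSpecStalk (genericPoint Y)), Spec.map_comp, Category.assoc, spec_ffMap,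
      ← Category.assoc, spec_ffMap, Category.assoc, h]
  exact congr($h1 c)

/-- Let k be an algebraically closed field, E and E′ elliptic curves over k — group schemes over Spec k
whose underlying schemes are proper, smooth, integral and one-dimensional — and φ : E → E′ a
homomorphism which is finite, surjective and étale (a separable isogeny), sending the generic point
of E to that of E′, so that the function field of E′ maps into the function field of E. Then the
function field of E is a Galois extension of that of E′, and the number of its automorphisms over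
the function field of E′ equals the number of k-valued points of E that φ sends to the unit of E′. -/
theorem result (k : Type u) [Field k] [IsAlgClosed k]
    (E E' : Over (Spec (CommRingCat.of k)))
    [GrpObj E] [IsProper E.hom] [Smooth E.hom] [IsIntegral E.left] (hE : topologicalKrullDim E.left = 1)
    [GrpObj E'] [IsProper E'.hom] [Smooth E'.hom] [IsIntegral E'.left] (hE' : topologicalKrullDim E'.left = 1)
    (φ : E ⟶ E') [IsMonHom φ] [IsFinite φ.left] [Surjective φ.left] [Etale φ.left]
    (e : φ.left (genericPoint E.left) = genericPoint E'.left) :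
    letI := ((E'.left.presheaf.stalkSpecializes (specializes_of_eq e) ≫
      φ.left.stalkMap (genericPoint E.left)).hom).toAlgebra
    IsGalois E'.left.functionField E.left.functionField ∧
      Nat.card (E.left.functionField ≃ₐ[E'.left.functionField] E.left.functionField) =
        Nat.card {P : 𝟙_ (Over (Spec (CommRingCat.of k))) ⟶ E // P ≫ φ = η[E']} := by
  set ψ : E'.left.functionField →+* E.left.functionField := ffMap φ.left e with hψdef
  letI alg : Algebra E'.left.functionField E.left.functionField := ψ.toAlgebra
  show @IsGalois E'.left.functionField _ E.left.functionField _ alg ∧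
    Nat.card (E.left.functionField ≃ₐ[E'.left.functionField] E.left.functionField) = _
  letI : E.left.Over (Spec (CommRingCat.of k)) := ⟨E.hom⟩
  letI : E'.left.Over (Spec (CommRingCat.of k)) := ⟨E'.hom⟩
  haveI : LocallyOfFiniteType (E.left ↘ Spec (CommRingCat.of k)) := inferInstanceAs (LocallyOfFiniteType E.hom)
  haveI : LocallyOfFiniteType (E'.left ↘ Spec (CommRingCat.of k)) := inferInstanceAs (LocallyOfFiniteType E'.hom)
  haveI : FormallyUnramified φ.left := inferInstance
  let q0 : Spec (CommRingCat.of k) ⟶ E'.left := η[E'].left
  have hq0 : q0 ≫ E'.hom = 𝟙 _ := Over.w η[E']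
  let p0 := q0 (IsLocalRing.closedPoint k)
  have hp0 : IsClosed ({p0} : Set E'.left) := by
    haveI : IsClosedImmersion q0 := by
      haveI : IsClosedImmersion (q0 ≫ E'.hom) := by rw [hq0]; infer_instance
      exact IsClosedImmersion.of_comp q0 E'.hom
    convert q0.isClosedEmbedding.isClosed_range
    refine (Set.Subset.antisymm ?_ ?_)
    · rintro _ rfl
      exact ⟨_, rfl⟩
    · rintro _ ⟨z, rfl⟩
      exact congrArg _ (Subsingleton.elim z _)
  have hdeg := Groth.L13.UnramDegree.natCard_fibre k (X := E'.left) (Y := E.left)
    (fun x => Groth.L26.Weil.regular_stalk E'.hom x) (fun x => Groth.L26.Weil.regular_stalk E.hom x)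
    φ.left (Over.w φ) e p0 hp0
  have hfin : Nat.card {q : E.left // φ.left q = p0} =
      Module.finrank E'.left.functionField E.left.functionField := by
    rw [hdeg, ← Groth.L13.UnramDegree.homDegree_eq φ.left e]
    rfl
  -- kernel points and the fibre
  let Ker := {P : 𝟙_ (Over (Spec (CommRingCat.of k))) ⟶ E // P ≫ φ = η[E']}
  have hclosed : ∀ P : 𝟙_ (Over (Spec (CommRingCat.of k))) ⟶ E, P.left ≫ E.hom = 𝟙 _ := fun P => Over.w P
  let toFib : Ker → {q : E.left // φ.left q = p0} := fun P =>
    ⟨P.1.left (IsLocalRing.closedPoint k),
      congrArg (fun m : 𝟙_ (Over (Spec (CommRingCat.of k))) ⟶ E' => m.left (IsLocalRing.closedPoint k)) P.2⟩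
  have hbij : Function.Bijective toFib := by
    refine ⟨fun P Q h => Subtype.ext (Over.OverMorphism.ext ?_), fun q => ?_⟩
    · exact ext_of_apply_closedPoint_eq E.hom (hclosed P.1) (hclosed Q.1) (congrArg Subtype.val h)
    · have hqc : IsClosed ({q.1} : Set E.left) := by
        have hfinite : (φ.left ⁻¹' {p0}).Finite := φ.left.finite_preimage_singleton p0
        have hdisc := φ.left.isDiscrete_preimage_singleton p0
        have hcl : IsClosed (φ.left ⁻¹' {p0}) := hp0.preimage φ.left.continuous
        haveI : DiscreteTopology (φ.left ⁻¹' {p0} : Set E.left) := isDiscrete_iff_discreteTopology.1 hdisc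
        have := (hcl.isClosedEmbedding_subtypeVal).isClosedMap _
          (isClosed_discrete ({⟨q.1, q.2⟩} : Set (φ.left ⁻¹' {p0} : Set E.left)))
        simpa using this
      obtain ⟨⟨a, ha⟩, he⟩ := (pointEquivClosedPoint E.hom).surjective ⟨q.1, hqc⟩
      have hax : a (IsLocalRing.closedPoint k) = q.1 := congrArg Subtype.val he
      let P : 𝟙_ (Over (Spec (CommRingCat.of k))) ⟶ E := Over.homMk a ha
      have hP : P ≫ φ = η[E'] := by
        ext1
        refine ext_of_apply_closedPoint_eq E'.hom ?_ hq0 ?_
        · exact Over.w (P ≫ φ)
        · show φ.left (a (IsLocalRing.closedPoint k)) = p0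
          rw [hax]; exact q.2
      exact ⟨⟨P, hP⟩, Subtype.ext hax⟩
  have hcard : Nat.card Ker = Module.finrank E'.left.functionField E.left.functionField := by
    rw [Nat.card_congr (Equiv.ofBijective toFib hbij), hfin]
  haveI : Finite Ker := by
    haveI : Finite {q : E.left // φ.left q = p0} := (φ.left.finite_preimage_singleton p0).to_subtype
    exact Finite.of_injective toFib hbij.1
  haveI : FiniteDimensional E'.left.functionField E.left.functionField := by
    refine Module.finite_of_finrank_pos ?_
    rw [← hcard]
    haveI : Nonempty Ker := ⟨⟨η[E], IsMonHom.one_hom φ⟩⟩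
    exact Nat.card_pos
  -- translations
  let τ : Ker → (E ⟶ E) := fun P => 𝟙 E * (toUnit E ≫ P.1)
  have hτφ : ∀ P : Ker, τ P ≫ φ = φ := fun P => by
    rw [MonObj.mul_comp, Category.id_comp, Category.assoc, P.2, ← Hom.one_def, _root_.mul_one]
  have hτiso : ∀ P : Ker, IsIso (τ P).left := fun P => by
    let σ : E ⟶ E := 𝟙 E * (toUnit E ≫ P.1⁻¹)
    have h1 : τ P ≫ σ = 𝟙 E := by
      rw [MonObj.comp_mul, Category.comp_id, ← Category.assoc, toUnit_unique (τ P ≫ toUnit E) (toUnit E),
        _root_.mul_assoc, ← MonObj.comp_mul, mul_inv_cancel, MonObj.comp_one, _root_.mul_one]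
    have h2 : σ ≫ τ P = 𝟙 E := by
      rw [MonObj.comp_mul, Category.comp_id, ← Category.assoc, toUnit_unique (σ ≫ toUnit E) (toUnit E),
        _root_.mul_assoc, ← MonObj.comp_mul, inv_mul_cancel, MonObj.comp_one, _root_.mul_one]
    exact ⟨σ.left, congrArg CommaMorphism.left h1, congrArg CommaMorphism.left h2⟩
  have hτgen : ∀ P : Ker, (τ P).left (genericPoint E.left) = genericPoint E.left := fun P => by
    haveI := hτiso P
    exact (((genericPoint_spec E.left).image (τ P).left.continuous).eq (by
      rw [Set.image_univ_of_surjective (τ P).left.surjective, closure_univ]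
      exact genericPoint_spec E.left))
  let g : Ker → (E.left.functionField ≃ₐ[E'.left.functionField] E.left.functionField) := fun P =>
    AlgEquiv.ofBijective
      { toRingHom := ffMap (τ P).left (hτgen P)
        commutes' := fun c => eq_comp_ffMap (τ P).left φ.left (congrArg CommaMorphism.left (hτφ P)) e (hτgen P) c }
      (AlgHom.bijective _)
  have hginj : Function.Injective g := fun P Q h => by
    have h1 : ffMap (τ P).left (hτgen P) = ffMap (τ Q).left (hτgen Q) :=
      RingHom.ext fun c => DFunLike.congr_fun h c
    haveI : IsDominant (E.left.fromSpecStalk (genericPoint E.left)) := ⟨by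
      rw [DenseRange, Scheme.range_fromSpecStalk]
      exact Dense.mono (fun y hy => (Set.mem_singleton_iff.1 hy) ▸ specializes_rfl)
        (dense_iff_closure_eq.2 (genericPoint_spec E.left))⟩
    have h2 : (τ P).left = (τ Q).left := by
      refine ext_of_isDominant_of_isSeparated E.hom ((Over.w (τ P)).trans (Over.w (τ Q)).symm)
        (E.left.fromSpecStalk (genericPoint E.left)) ?_
      rw [← spec_ffMap (τ P).left (hτgen P), ← spec_ffMap (τ Q).left (hτgen Q), h1]
    have h3 := congrArg (η[E] ≫ ·) (Over.OverMorphism.ext h2 : τ P = τ Q)
    simp only [τ, MonObj.comp_mul, Category.comp_id, ← Category.assoc, comp_toUnit, toUnit_unit,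
      Category.id_comp] at h3
    exact Subtype.ext (mul_left_cancel h3)
  have hle : Nat.card (E.left.functionField ≃ₐ[E'.left.functionField] E.left.functionField) ≤
      Module.finrank E'.left.functionField E.left.functionField := by
    refine le_trans ?_ (card_algHom_le_finrank E'.left.functionField E.left.functionField E.left.functionField)
    exact Nat.card_le_card_of_injective (fun a => a.toAlgHom) (fun a b h => AlgEquiv.ext fun x => DFunLike.congr_fun h x)
  have hge := Nat.card_le_card_of_injective g hginj
  have heq : Nat.card (E.left.functionField ≃ₐ[E'.left.functionField] E.left.functionField) =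
      Module.finrank E'.left.functionField E.left.functionField :=
    le_antisymm hle (hcard ▸ hge)
  exact ⟨IsGalois.of_card_aut_eq_finrank _ _ heq, heq.trans hcard.symm⟩

end Groth.Agent.S11094
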