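import Groth.Statements.S11095
import Mathlib.FieldTheory.PrimitiveElement
import Mathlib.FieldTheory.AlgebraicClosure
import Mathlib.FieldTheory.Perfect
import Mathlib.RingTheory.Polynomial.GaussLemma
import Mathlib.RingTheory.AdjoinRoot
import Mathlib.RingTheory.TensorProduct.Finite
import Mathlib.RingTheory.TensorProduct.Maps
import Mathlib.LinearAlgebra.Dimension.Constructions
import Mathlib.FieldTheory.IntermediateField.Adjoin.Basic
import Mathlib.RingTheory.Flat.Basic
import Mathlib.LinearAlgebra.FiniteDimensional.Lemmas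
import Mathlib.Algebra.Polynomial.Lifts
import Mathlib.RingTheory.Polynomial.Basic

set_option autoImplicit false
set_option linter.style.haveILetI false
universe u
open CAlg

namespace Groth.Agent.S11095

/-- Let K₀ be a perfect field, K an algebraic extension of K₀ and F₀ a field extension of K₀ such that
K₀ is algebraically closed in F₀. Then the K₀-algebra F₀ ⊗ K is a field; consequently F₀ and K,
embedded in it by x ↦ x ⊗ 1 and y ↦ 1 ⊗ y, are linearly disjoint over K₀. -/
theorem result (K₀ F₀ K : Type u)
    [Field K₀] [PerfectField K₀] [Field F₀] [Algebra K₀ F₀] [Field K] [Algebra K₀ K]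
    [Algebra.IsAlgebraic K₀ K] (h : algebraicClosure K₀ F₀ = ⊥) :
    IsField (TensorProduct K₀ F₀ K) := by
  classical
  haveI : Nontrivial (TensorProduct K₀ F₀ K) :=
    (Algebra.TensorProduct.includeLeft_injective (R := K₀) (S := K₀) (A := F₀) (B := K)
      (algebraMap K₀ K).injective).nontrivial
  -- simple extensions
  have key : ∀ (E : IntermediateField K₀ K), FiniteDimensional K₀ E →
      IsField (TensorProduct K₀ F₀ E) := by
    intro E hE
    obtain ⟨α, hα⟩ := Field.exists_primitive_element K₀ E
    have hint : IsIntegral K₀ α := IsIntegral.of_finite K₀ α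
    have hirr := minpoly.irreducible hint
    have hmon := minpoly.monic hint
    set g := minpoly K₀ α with hg
    have hirr' : Irreducible (g.map (algebraMap K₀ F₀)) := by
      rw [Polynomial.irreducible_of_monic (hmon.map _) (by
        intro hh
        have := congrArg Polynomial.natDegree hh
        rw [Polynomial.natDegree_map, Polynomial.natDegree_one] at this
        exact (minpoly.natDegree_pos hint).ne' this)]
      intro p q hp hq hpq
      show p = 1 ∨ q = 1
      have hlift : ∀ p : Polynomial F₀, p.Monic → p ∣ g.map (algebraMap K₀ F₀) →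
          ∃ p₀ : Polynomial K₀, p₀.map (algebraMap K₀ F₀) = p ∧ p₀.Monic := by
        intro p hp hd
        have h1 := integralClosure.mem_lifts_of_monic_of_dvd_map F₀ hmon hp hd
        have h2 : p ∈ Polynomial.lifts (algebraMap K₀ F₀) := by
          rw [Polynomial.lifts_iff_coeff_lifts] at h1 ⊢
          intro n
          obtain ⟨c, hc⟩ := h1 n
          have : (c : F₀) ∈ algebraicClosure K₀ F₀ := c.2
          rw [h, IntermediateField.mem_bot] at this
          rw [← hc]
          exact this
        obtain ⟨p₀, h3, -, h4⟩ := Polynomial.lifts_and_degree_eq_and_monic h2 hp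
        exact ⟨p₀, h3, h4⟩
      obtain ⟨p₀, hp₀, hp₀m⟩ := hlift p hp ⟨q, hpq.symm⟩
      obtain ⟨q₀, hq₀, hq₀m⟩ := hlift q hq ⟨p, by rw [mul_comm]; exact hpq.symm⟩
      have h5 : p₀ * q₀ = g := Polynomial.map_injective (algebraMap K₀ F₀) (RingHom.injective _)
        (by rw [Polynomial.map_mul, hp₀, hq₀, hpq])
      rcases hirr.isUnit_or_isUnit h5.symm with hu | hu
      · exact Or.inl (by rw [← hp₀, hp₀m.eq_one_of_isUnit hu, Polynomial.map_one])
      · exact Or.inr (by rw [← hq₀, hq₀m.eq_one_of_isUnit hu, Polynomial.map_one])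
    haveI : Fact (Irreducible (g.map (algebraMap K₀ F₀))) := ⟨hirr'⟩
    let pb : PowerBasis K₀ E :=
      (IntermediateField.adjoin.powerBasis hint).map
        ((IntermediateField.equivOfEq hα).trans IntermediateField.topEquiv)
    have hpbgen : pb.gen = α := by
      simp [pb, IntermediateField.adjoin.powerBasis]
    let φ : E →ₐ[K₀] AdjoinRoot (g.map (algebraMap K₀ F₀)) :=
      pb.lift (AdjoinRoot.root _) (by
        rw [hpbgen, ← hg, ← Polynomial.aeval_map_algebraMap F₀, AdjoinRoot.aeval_eq,
          AdjoinRoot.mk_self])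
    let Φ : TensorProduct K₀ F₀ E →ₐ[F₀] AdjoinRoot (g.map (algebraMap K₀ F₀)) :=
      Algebra.TensorProduct.lift (Algebra.ofId F₀ _) φ (fun _ _ => Commute.all _ _)
    have hsurj : Function.Surjective Φ := by
      rw [← AlgHom.range_eq_top, ← top_le_iff, ← AdjoinRoot.adjoinRoot_eq_top (f := g.map (algebraMap K₀ F₀))]
      refine Algebra.adjoin_le ?_
      rintro _ rfl
      refine ⟨(1 : F₀) ⊗ₜ[K₀] pb.gen, ?_⟩
      show Φ _ = _
      simp only [Φ, Algebra.TensorProduct.lift_tmul, map_one, one_mul]
      exact pb.lift_gen _ _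
    have hdim : Module.finrank F₀ (TensorProduct K₀ F₀ E) =
        Module.finrank F₀ (AdjoinRoot (g.map (algebraMap K₀ F₀))) := by
      rw [Module.finrank_baseChange, pb.finrank, (AdjoinRoot.powerBasis (hirr'.ne_zero)).finrank,
        AdjoinRoot.powerBasis_dim, Polynomial.natDegree_map, ← pb.natDegree_minpoly, hpbgen]
    haveI : FiniteDimensional F₀ (AdjoinRoot (g.map (algebraMap K₀ F₀))) :=
      (AdjoinRoot.powerBasis (hirr'.ne_zero)).finite
    have hinj : Function.Injective Φ :=
      (LinearMap.injective_iff_surjective_of_finrank_eq_finrank (f := Φ.toLinearMap) hdim).mpr hsurj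
    exact MulEquiv.isField (Field.toIsField _) (RingEquiv.ofBijective Φ ⟨hinj, hsurj⟩).toMulEquiv
  -- reduce to finite subextensions
  have hex : ∀ x : TensorProduct K₀ F₀ K, ∃ (E : IntermediateField K₀ K),
      FiniteDimensional K₀ E ∧ x ∈ (Algebra.TensorProduct.map (AlgHom.id K₀ F₀) E.val).range := by
    intro x
    induction x with
    | zero => exact ⟨⊥, inferInstance, zero_mem _⟩
    | tmul a b =>
      refine ⟨IntermediateField.adjoin K₀ {b}, IntermediateField.adjoin.finiteDimensional
        (Algebra.IsIntegral.isIntegral b), a ⊗ₜ ⟨b, IntermediateField.mem_adjoin_simple_self K₀ b⟩, ?_⟩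
      simp
    | add x y hx hy =>
      obtain ⟨E₁, h₁, x', rfl⟩ := hx
      obtain ⟨E₂, h₂, y', rfl⟩ := hy
      refine ⟨E₁ ⊔ E₂, inferInstance,
        Algebra.TensorProduct.map (AlgHom.id K₀ F₀) (IntermediateField.inclusion le_sup_left) x' +
        Algebra.TensorProduct.map (AlgHom.id K₀ F₀) (IntermediateField.inclusion le_sup_right) y', ?_⟩
      have h3 : ∀ (E : IntermediateField K₀ K) (hle : E ≤ E₁ ⊔ E₂) (z : TensorProduct K₀ F₀ E),
          Algebra.TensorProduct.map (AlgHom.id K₀ F₀) (E₁ ⊔ E₂).val
            (Algebra.TensorProduct.map (AlgHom.id K₀ F₀) (IntermediateField.inclusion hle) z) =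
          Algebra.TensorProduct.map (AlgHom.id K₀ F₀) E.val z := by
        intro E hle z
        induction z with
        | zero => simp
        | tmul u v => simp
        | add u v hu hv => simp only [map_add, hu, hv]
      show Algebra.TensorProduct.map _ _ _ = _
      rw [map_add, h3, h3]
      rfl
  refine ⟨exists_pair_ne _, mul_comm, fun {x} hx => ?_⟩
  obtain ⟨E, hE, x', rfl⟩ := hex x
  have hx' : x' ≠ 0 := fun h0 => hx (by rw [h0]; exact map_zero _)
  obtain ⟨y, hy⟩ := (key E hE).mul_inv_cancel hx'
  refine ⟨Algebra.TensorProduct.map (AlgHom.id K₀ F₀) E.val y, ?_⟩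
  show Algebra.TensorProduct.map (AlgHom.id K₀ F₀) E.val x' * _ = 1
  rw [← map_mul, hy, map_one]


end Groth.Agent.S11095
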