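import Groth.Statements.S11096
import Mathlib.RingTheory.Ideal.Operations
import Mathlib.AlgebraicGeometry.EllipticCurve.Weierstrass

set_option autoImplicit false
universe u
open Neron

namespace Groth.Agent.S11096

/-- Let a Weierstrass equation have coefficients in a commutative ring R and let I be an ideal with a₃,
a₄, a₆ ∈ I. If the discriminant Δ does not lie in I ^ 2, then a₆ does not lie in I ^ 2 and b₂ does
not lie in I. (For a discrete valuation ring with maximal ideal (π): if π divides a₃, a₄, a₆ and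
v(Δ) = 1, then v(a₆) = 1 and π does not divide b₂.) -/
theorem result {R : Type u} [CommRing R] (W : WeierstrassCurve R)
    (I : Ideal R) (h3 : W.a₃ ∈ I) (h4 : W.a₄ ∈ I) (h6 : W.a₆ ∈ I) (hΔ : W.Δ ∉ I ^ 2) :
    W.a₆ ∉ I ^ 2 ∧ W.b₂ ∉ I := by
  have hb4 : W.b₄ ∈ I := by
    simp only [WeierstrassCurve.b₄]
    exact I.add_mem (I.mul_mem_left _ h4) (I.mul_mem_left _ h3)
  have hb6 : W.b₆ ∈ I := by
    simp only [WeierstrassCurve.b₆, pow_two]
    exact I.add_mem (I.mul_mem_left _ h3) (I.mul_mem_left _ h6)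
  have hsq : ∀ {x y : R}, x ∈ I → y ∈ I → x * y ∈ I ^ 2 := fun hx hy => by
    rw [pow_two]; exact Ideal.mul_mem_mul hx hy
  have key : W.Δ + W.b₂ ^ 3 * W.a₆ ∈ I ^ 2 := by
    have e : W.Δ + W.b₂ ^ 3 * W.a₆
        = W.b₂ ^ 2 * (W.a₁ * (W.a₃ * W.a₄)) - W.b₂ ^ 2 * (W.a₂ * (W.a₃ * W.a₃))
          + W.b₂ ^ 2 * (W.a₄ * W.a₄) - 8 * W.b₄ * (W.b₄ * W.b₄) - 27 * (W.b₆ * W.b₆)
          + 9 * W.b₂ * (W.b₄ * W.b₆) := by
      simp only [WeierstrassCurve.Δ, WeierstrassCurve.b₈, WeierstrassCurve.b₂]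
      ring
    rw [e]
    refine add_mem (sub_mem (sub_mem (add_mem (sub_mem ?_ ?_) ?_) ?_) ?_) ?_
    · exact Ideal.mul_mem_left _ _ (Ideal.mul_mem_left _ _ (hsq h3 h4))
    · exact Ideal.mul_mem_left _ _ (Ideal.mul_mem_left _ _ (hsq h3 h3))
    · exact Ideal.mul_mem_left _ _ (hsq h4 h4)
    · exact Ideal.mul_mem_left _ _ (hsq hb4 hb4)
    · exact Ideal.mul_mem_left _ _ (hsq hb6 hb6)
    · exact Ideal.mul_mem_left _ _ (hsq hb4 hb6)
  refine ⟨fun h => hΔ ?_, fun h => hΔ ?_⟩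
  all_goals
    have : W.b₂ ^ 3 * W.a₆ ∈ I ^ 2 := by
      first
        | exact Ideal.mul_mem_left _ _ h
        | (rw [show W.b₂ ^ 3 * W.a₆ = W.b₂ * W.a₆ * (W.b₂ * W.b₂) by ring]
           exact Ideal.mul_mem_left _ _ (hsq h h))
    simpa using sub_mem key this

end Groth.Agent.S11096
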