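import Groth.Statements.S11100
import Groth.Agent.S9501
import Groth.Agent.L01.Regular
import Groth.Agent.L19.SmoothLocus
import Groth.Agent.L21.Nodal.ClosedSub
import Mathlib.RingTheory.DedekindDomain.Dvr
import Mathlib.RingTheory.DedekindDomain.PID
import Mathlib.AlgebraicGeometry.Fiber
-- import your own Groth.Agent.* helpers here

set_option autoImplicit false
universe u
open CategoryTheory AlgebraicGeometry
open Neron

namespace Groth.Agent.S11100

attribute [local instance] Curv2.resAlgebra

set_option linter.style.haveILetI false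

theorem bijective_stalkMap_of_eq_id {Y : Scheme.{u}} (g : Y ⟶ Y) (h : g = 𝟙 Y) (t : Y) :
    Function.Bijective (g.stalkMap t).hom := by
  subst h
  exact ConcreteCategory.bijective_of_isIso ((𝟙 Y : Y ⟶ Y).stalkMap t)

theorem stalkClosedPointTo_toGlobal {R V : Type u} [CommRing R] [CommRing V] [IsLocalRing V]
    (g : Spec (CommRingCat.of V) ⟶ Spec (CommRingCat.of R)) (φ : CommRingCat.of R ⟶ CommRingCat.of V)
    (h : g = Spec.map φ) :
    (Scheme.ΓSpecIso (CommRingCat.of R)).inv ≫ (Spec (CommRingCat.of R)).presheaf.germ ⊤ _ trivial ≫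
      Scheme.stalkClosedPointTo g = φ := by
  subst h
  rw [Scheme.germ_stalkClosedPointTo_Spec, Iso.inv_hom_id_assoc]

/-- The fibre through a section of a regular flat scheme over a Dedekind scheme is regular there. -/
theorem regular_quotient {R : Type u} [CommRing R] [IsDedekindDomain R]
    {X : Scheme.{u}} (p : X ⟶ Spec (CommRingCat.of R))
    (hreg : ∀ x : X, IsRegularLocalRing (X.presheaf.stalk x))
    (s : Spec (CommRingCat.of R) ⟶ X) (hs : s ≫ p = 𝟙 _) (t : Spec (CommRingCat.of R)) (x : X)
    (hx : x = s t) :
    IsRegularLocalRing (X.presheaf.stalk x ⧸ Ideal.map (p.stalkMap x).hom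
      (IsLocalRing.maximalIdeal ((Spec (CommRingCat.of R)).presheaf.stalk (p x)))) := by
  subst hx
  haveI := hreg (s t)
  let a : PrimeSpectrum R := p (s t)
  let S := (Spec (CommRingCat.of R)).presheaf.stalk (p (s t))
  letI : Algebra R S := StructureSheaf.stalkAlgebra R a
  haveI : IsLocalization.AtPrime S a.asIdeal := StructureSheaf.IsLocalization.to_stalk R a
  haveI : IsDomain S := IsLocalization.isDomain_of_le_nonZeroDivisors (R := R) (S := S) a.asIdeal.primeCompl_le_nonZeroDivisors
  haveI : IsDedekindDomain S := IsLocalization.isDedekindDomain R a.asIdeal.primeCompl_le_nonZeroDivisors S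
  by_cases h0 : IsLocalRing.maximalIdeal S = ⊥
  · rw [h0, Ideal.map_bot]
    exact IsRegularLocalRing.of_ringEquiv (RingEquiv.quotientBot _).symm
  haveI : IsPrincipalIdealRing S := IsPrincipalIdealRing.of_finite_primes (by
    refine Set.Finite.subset (Set.Finite.insert ⊥ (Set.finite_singleton (IsLocalRing.maximalIdeal S))) fun P hP => ?_
    by_cases hP0 : P = ⊥
    · exact Or.inl hP0
    · exact Or.inr (IsLocalRing.eq_maximalIdeal (IsPrime.to_maximal_ideal (hpi := hP) hP0)))
  obtain ⟨π, hπ⟩ : ∃ π, IsLocalRing.maximalIdeal S = Ideal.span {π} :=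
    (IsPrincipalIdealRing.principal (IsLocalRing.maximalIdeal S)).principal
  let φ := (p.stalkMap (s t) ≫ s.stalkMap t).hom
  have hφ : Function.Bijective φ := by
    have h := bijective_stalkMap_of_eq_id (s ≫ p) hs t
    rwa [Scheme.Hom.stalkMap_comp] at h
  have hπm : π ∈ IsLocalRing.maximalIdeal S := hπ ▸ Ideal.mem_span_singleton_self π
  have htm : (p.stalkMap (s t)).hom π ∈ IsLocalRing.maximalIdeal _ :=
    (IsLocalRing.mem_maximalIdeal _).mpr fun h =>
      (IsLocalRing.mem_maximalIdeal _).mp hπm ((isUnit_map_iff (p.stalkMap (s t)).hom π).mp h)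
  have ht2 : (p.stalkMap (s t)).hom π ∉ IsLocalRing.maximalIdeal _ ^ 2 := fun h => by
    let T := (Spec (CommRingCat.of R)).presheaf.stalk t
    have h1 := Ideal.mem_map_of_mem (s.stalkMap t).hom h
    rw [Ideal.map_pow] at h1
    have h2 : φ π ∈ IsLocalRing.maximalIdeal T ^ 2 := Ideal.pow_right_mono
      (((IsLocalRing.local_hom_TFAE (s.stalkMap t).hom).out 0 2).mp
        (inferInstance : IsLocalHom (s.stalkMap t).hom)) 2 h1
    let e := RingEquiv.ofBijective φ hφ
    have he : (IsLocalRing.maximalIdeal T).map e.symm.toRingHom ≤ IsLocalRing.maximalIdeal S := by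
      rw [Ideal.map_le_iff_le_comap]
      intro z hz
      rw [Ideal.mem_comap, IsLocalRing.mem_maximalIdeal]
      exact fun hu => (IsLocalRing.mem_maximalIdeal _).mp hz ((isUnit_map_iff e.symm z).mp hu)
    have h3 : π ∈ IsLocalRing.maximalIdeal S ^ 2 := by
      refine Ideal.pow_right_mono he 2 ?_
      rw [← Ideal.map_pow]
      have h4 := Ideal.mem_map_of_mem e.symm.toRingHom h2
      rwa [show e.symm.toRingHom (φ π) = π from e.symm_apply_apply π] at h4
    exact (Ideal.pow_succ_lt_pow h0 1).not_ge (by
      rw [pow_one]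
      exact hπ.le.trans ((Ideal.span_singleton_le_iff_mem _).mpr h3))
  rw [hπ, Ideal.map_span, Set.image_singleton]
  exact (Groth.L01.regular_quotient_of_notMem_sq htm ht2).1

/-- A closed point with a rational point through it has residue field the base field. -/
theorem isSeparable_residueField_of_point {k : Type u} [Field k] {F : Scheme.{u}}
    [F.Over (Spec (CommRingCat.of k))] (u : Spec (CommRingCat.of k) ⟶ F)
    (hu : u ≫ (F ↘ Spec (CommRingCat.of k)) = 𝟙 _) :
    Algebra.IsSeparable k (F.residueField (u (IsLocalRing.closedPoint k))) := by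
  let y := u (IsLocalRing.closedPoint k)
  let ψ := Scheme.stalkClosedPointTo u
  have hψ : ∀ a : k, ψ.hom (Curv2.stalkMap k F y a) = a := fun a => by
    have h1 := stalkClosedPointTo_toGlobal (u ≫ (F ↘ Spec (CommRingCat.of k))) (𝟙 _) (by rw [hu, Spec.map_id])
    rw [Scheme.stalkClosedPointTo_comp] at h1
    erw [Scheme.Hom.germ_stalkMap_assoc] at h1
    exact congrArg (fun g => g.hom a) h1
  haveI : IsLocalHom ψ.hom := Scheme.isLocalHom_stalkClosedPointTo u
  have hsurj : Function.Surjective (algebraMap k (F.residueField y)) := by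
    intro z
    obtain ⟨w, rfl⟩ := IsLocalRing.residue_surjective z
    refine ⟨ψ.hom w, ?_⟩
    show IsLocalRing.residue _ (Curv2.stalkMap k F y (ψ.hom w)) = IsLocalRing.residue _ w
    rw [← sub_eq_zero, ← map_sub, IsLocalRing.residue_eq_zero_iff, IsLocalRing.mem_maximalIdeal]
    intro hu'
    have h2 := hu'.map ψ.hom
    rw [map_sub, hψ, sub_self] at h2
    exact not_isUnit_zero h2
  let e : k ≃ₐ[k] F.residueField y := AlgEquiv.ofBijective (Algebra.ofId k _)
    ⟨(algebraMap k (F.residueField y)).injective, hsurj⟩
  exact AlgEquiv.Algebra.isSeparable e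

/-- Let R be a Dedekind domain and p : X → Spec R flat and locally of finite presentation with X regular
(all local rings regular). Then every section s of p factors through the smooth locus of p: for
every point t of Spec R, p is smooth at s(t). (The published statement is for regular arithmetic
surfaces over a Dedekind domain with perfect residue fields; this row assumes only that X is flat,
locally of finite presentation and regular.) -/
theorem result {R : Type u} [CommRing R] [IsDedekindDomain R]
    {X : Scheme.{u}} (p : X ⟶ Spec (CommRingCat.of R)) [Flat p] [LocallyOfFinitePresentation p]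
    (hreg : ∀ x : X, IsRegularLocalRing (X.presheaf.stalk x))
    (s : Spec (CommRingCat.of R) ⟶ X) (hs : s ≫ p = 𝟙 _) (t : Spec (CommRingCat.of R)) :
    s.base t ∈ p.smoothLocus := by
  let S₀ := Spec (CommRingCat.of R)
  let j := S₀.fromSpecResidueField t
  let F := p.fiber t
  letI : F.Over (Spec (CommRingCat.of (S₀.residueField t))) := ⟨p.fiberToSpecResidueField t⟩
  haveI : LocallyOfFinitePresentation (p.fiberToSpecResidueField t) :=
    MorphismProperty.pullback_snd _ _ inferInstance
  haveI : LocallyOfFinitePresentation (F ↘ Spec (CommRingCat.of (S₀.residueField t))) :=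
    (inferInstance : LocallyOfFinitePresentation (p.fiberToSpecResidueField t))
  let u : Spec (CommRingCat.of (S₀.residueField t)) ⟶ F :=
    Limits.pullback.lift (j ≫ s) (𝟙 _) (by rw [Category.assoc, hs, Category.comp_id, Category.id_comp])
  have hu : u ≫ p.fiberToSpecResidueField t = 𝟙 _ := Limits.pullback.lift_snd _ _ _
  let y : F := u (IsLocalRing.closedPoint (S₀.residueField t))
  have hy : p.fiberι t y = s t := by
    show (u ≫ p.fiberι t) _ = _
    rw [show u ≫ p.fiberι t = j ≫ s from Limits.pullback.lift_fst _ _ _, Scheme.Hom.comp_apply,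
      Scheme.fromSpecResidueField_apply]
  have hyc : IsClosed ({y} : Set F) := by
    haveI : IsClosedImmersion u := isClosedImmersion_of_comp_eq_id _ _ hu
    have h := u.isClosedEmbedding.isClosed_range
    rwa [show Set.range u = {y} from Set.range_eq_singleton fun z => congrArg u (Subsingleton.elim _ _)] at h
  obtain ⟨hsurj, hker⟩ := Groth.Agent.S9501.result p t y
  haveI : IsRegularLocalRing (F.presheaf.stalk y) := by
    haveI := regular_quotient p hreg s hs t (p.fiberι t y) hy
    exact IsRegularLocalRing.of_ringEquiv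
      ((Ideal.quotEquivOfEq hker.symm).trans (RingHom.quotientKerEquivOfSurjective hsurj))
  have h1 := Groth.L21.Nodal.mem_smoothLocus_of_regular (k := S₀.residueField t) y hyc
    (isSeparable_residueField_of_point u hu)
  have h2 : Groth.L05.Point.Nhd @Smooth p (p.fiberι t y) :=
    Groth.L19.SmoothLocus.nhd_of_fiber p t (Flat.stalkMap p _)
      ((Groth.L19.SmoothLocus.mem_iff_nhd _ _).mp h1)
  rw [← Groth.L19.SmoothLocus.mem_iff_nhd, hy] at h2
  exact h2

end Groth.Agent.S11100
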