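import Groth.Statements.S11103
import Groth.Agent.L26.Neron.Basic
import Mathlib.Algebra.Category.Ring.Constructions
import Mathlib.AlgebraicGeometry.Morphisms.Etale
import Mathlib.RingTheory.Flat.TorsionFree

set_option autoImplicit false
universe u
open CategoryTheory CategoryTheory.Limits AlgebraicGeometry
open Neron

namespace Groth.Agent.S11103

open scoped nonZeroDivisors

theorem fracPushout {R R' K K' : Type u} [CommRing R] [IsDomain R] [CommRing R'] [IsDomain R'] [Algebra R R']
    [Algebra.IsIntegral R R'] [Field K] [Field K'] [Algebra R K] [IsFractionRing R K] [Algebra R' K'] [IsFractionRing R' K']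
    (hinj : Function.Injective (algebraMap R R')) :
    ∃ φ : K →+* K', IsPushout (CommRingCat.ofHom (algebraMap R R')) (CommRingCat.ofHom (algebraMap R K))
      (CommRingCat.ofHom (algebraMap R' K')) (CommRingCat.ofHom φ) := by
  have hg : Function.Injective ((algebraMap R' K').comp (algebraMap R R')) :=
    (IsFractionRing.injective R' K').comp hinj
  have hle : R⁰.map (algebraMap R R') ≤ R'⁰ := map_le_nonZeroDivisors_of_injective _ hinj le_rfl
  have : IsLocalization (R⁰.map (algebraMap R R')) K' := by
    refine (IsLocalization.iff_of_le_of_exists_dvd (R⁰.map (algebraMap R R')) R'⁰ hle fun n hn => ?_).2 inferInstance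
    obtain ⟨r, hr, hd⟩ := (Algebra.IsIntegral.isIntegral (R := R) n).isAlgebraic.exists_nonzero_dvd hn
    exact ⟨algebraMap R R' r, ⟨r, mem_nonZeroDivisors_of_ne_zero hr, rfl⟩, hd⟩
  exact ⟨IsFractionRing.lift hg, CommRingCat.isPushout_of_isLocalization (algebraMap R R') _
    (RingHom.ext fun x => IsFractionRing.lift_algebraMap hg x) R⁰⟩

/-- Let R be a Dedekind domain with fraction field K, let R' be a Dedekind domain finite étale over R
(the integral closure of R in a finite unramified extension K' of K), and let N be a Néron model
over Spec R of its generic fibre N_K. Then the base change N' = N ×_R R' is a Néron model over Spec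
R' of its generic fibre N'_{K'}: it is smooth, separated and of finite type over Spec R', and every
K'-morphism from the generic fibre of a smooth R'-scheme to N'_{K'} extends uniquely to an
R'-morphism into N'. (The published statement concerns the Néron model of an elliptic curve with the
mapping property for rational maps; this row allows any N and tests the mapping property on
morphisms from smooth schemes. The property generally fails for ramified extensions.) -/
theorem result (R R' : Type u) [CommRing R] [IsDedekindDomain R]
    [CommRing R'] [IsDedekindDomain R'] [Algebra R R'] [Module.Finite R R'] [Algebra.Etale R R']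
    (N : Over (Spec (CommRingCat.of R)))
    (hN : Neron.IsNeronModelOf R N ((Neron.genericFibre R).obj N) (Iso.refl _)) :
    Neron.IsNeronModelOf R'
      ((Over.pullback (Spec.map (CommRingCat.ofHom (algebraMap R R')))).obj N)
      ((Neron.genericFibre R').obj ((Over.pullback (Spec.map (CommRingCat.ofHom (algebraMap R R')))).obj N))
      (Iso.refl _) := by
  obtain ⟨hs, hsep, hft, hqc, hN⟩ := hN
  set g := Spec.map (CommRingCat.ofHom (algebraMap R R')) with hg
  have hge : Etale g := by
    rw [hg, HasRingHomProperty.Spec_iff (P := @Etale), CommRingCat.hom_ofHom, RingHom.etale_algebraMap]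
    infer_instance
  let Φ := (Over.pullback g).obj N
  have h1 : Smooth Φ.hom := inferInstanceAs (Smooth (pullback.snd N.hom g))
  have h2 : IsSeparated Φ.hom := inferInstanceAs (IsSeparated (pullback.snd N.hom g))
  have h3 : QuasiCompact Φ.hom := inferInstanceAs (QuasiCompact (pullback.snd N.hom g))
  refine ⟨h1, h2, inferInstance, h3, fun Y' hY' => ?_⟩
  simp only [Iso.refl_hom, Category.comp_id] at hN ⊢
  have : Module.Flat R R' := inferInstance
  have : Module.IsTorsionFree R R' := inferInstance
  have hinj : Function.Injective (algebraMap R R') := Module.isTorsionFree_iff_algebraMap_injective.1 this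
  obtain ⟨φ, hP⟩ := fracPushout (K := FractionRing R) (K' := FractionRing R') hinj
  have H := isPullback_SpecMap_of_isPushout _ _ _ _ hP
  exact Groth.Agent.NeronL.bijective_baseChange (Neron.genPt R) g H.flip Y' (hN _ (inferInstanceAs (Smooth (Y'.hom ≫ g))))

end Groth.Agent.S11103
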