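import Groth.Statements.S11108
import Groth.Agent.L05.Hensel.SecLift
import Mathlib.AlgebraicGeometry.AlgClosed.Basic
-- import your own Groth.Agent.* helpers here

set_option autoImplicit false
universe u
open CategoryTheory AlgebraicGeometry
open Neron

namespace Groth.Agent.S11108

/-- Let R be a strictly Henselian discrete valuation ring — Henselian with algebraically closed residue
field — and p : X → Spec R a smooth morphism. Then the image of the reduction map from R-valued
points of X to the special fibre is dense in the special fibre: every point of X over the closed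
point of Spec R lies in the closure of the set of points s(𝔪), s a section of p and 𝔪 the closed
point. -/
theorem result (R : Type u) [CommRing R] [IsDomain R]
    [IsDiscreteValuationRing R] [HenselianLocalRing R] [IsAlgClosed (IsLocalRing.ResidueField R)]
    {X : Scheme.{u}} (p : X ⟶ Spec (CommRingCat.of R)) [Smooth p]
    (x : X) (hx : p.base x = IsLocalRing.closedPoint R) :
    x ∈ closure {y : X | ∃ s : Spec (CommRingCat.of R) ⟶ X, s ≫ p = 𝟙 _ ∧
      s.base (IsLocalRing.closedPoint R) = y} := by
  let k := IsLocalRing.ResidueField R
  let r := Spec.map (CommRingCat.ofHom (IsLocalRing.residue R))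
  let F := Limits.pullback p r
  let fst : F ⟶ X := Limits.pullback.fst p r
  let snd : F ⟶ Spec (CommRingCat.of k) := Limits.pullback.snd p r
  have hr : ∀ z, r z = IsLocalRing.closedPoint R := fun z => by
    rw [Subsingleton.elim z (IsLocalRing.closedPoint k)]
    exact IsLocalRing.comap_closedPoint (IsLocalRing.residue R)
  obtain ⟨z, hz, -⟩ := Scheme.Pullback.exists_preimage_pullback (f := p) (g := r) x (IsLocalRing.closedPoint k)
    (show p x = r (IsLocalRing.closedPoint k) by rw [hr]; exact hx)
  haveI : JacobsonSpace F := LocallyOfFiniteType.jacobsonSpace snd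
  have hz' : z ∈ closure (closedPoints F) := by rw [closure_closedPoints]; trivial
  refine closure_mono ?_ (image_closure_subset_closure_image fst.continuous ⟨z, hz', hz⟩)
  rintro _ ⟨y, hy, rfl⟩
  obtain ⟨u, hu, hu'⟩ := Groth.L05.SecLift.exists_section p (pointOfClosedPoint snd y hy ≫ fst) (by
    rw [Category.assoc, show fst ≫ p = snd ≫ r from Limits.pullback.condition, pointOfClosedPoint_comp_assoc])
  refine ⟨u, hu, ?_⟩
  have h1 := congrArg (fun g => g (IsLocalRing.closedPoint k)) hu'
  simp only [Scheme.Hom.comp_apply, pointOfClosedPoint_apply] at h1
  rw [← h1]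
  exact congrArg u (hr _).symm

end Groth.Agent.S11108
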