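import Groth.Statements.S11113
import Groth.Agent.L29.BC.PFNat
import Groth.Agent.L29.DCoh.Gen.Main
import Groth.Agent.L29.BC.Adj
import Groth.Agent.L29.BC.AdjCoprod
import Groth.Agent.L29.DCoh.Triangle
import Groth.Agent.L29.BCAdj.HomFlat

set_option autoImplicit false
set_option backward.defeqAttrib.useBackward true
set_option backward.isDefEq.respectTransparency false
set_option backward.isDefEq.respectTransparency.types false
set_option backward.isDefEq.respectTransparency false
universe u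
open CategoryTheory CategoryTheory.Limits AlgebraicGeometry
attribute [local instance] HasDerivedCategory.standard
open Perf

namespace Groth.Agent.S11113

open Groth.L00 Groth.L29 Groth.L29.DC CategoryTheory.Pretriangulated

/-- Let f : X ⟶ Y be locally of finite presentation with X and Y quasi-compact quasi-separated, let Rf_*
exist, and suppose that for every cochain complex F of O_X-modules the derived tensor functor - ⊗^L
F exists and has a right adjoint RHom(F, -) (existence binders). Let φ : A₁ ⟶ A₂ be a morphism in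
D(O_X) between objects with quasi-coherent cohomology sheaves vanishing below some degree c. If Rf_*
RHom(F, φ) is an isomorphism for every complex F whose class in D(O_X) is pseudo-coherent, then φ is
an isomorphism. -/
theorem result {X Y : Scheme.{u}} [CompactSpace X] [QuasiSeparatedSpace X] [CompactSpace Y] [QuasiSeparatedSpace Y]
    (f : X ⟶ Y) [LocallyOfFinitePresentation f] [DCoh.HasRpush f]
    [hT : ∀ F : CochainComplex X.Modules ℤ, DCoh.HasLTensorCx F]
    [hR : ∀ F : CochainComplex X.Modules ℤ, DCoh.HasRSheafHom F]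
    {A₁ A₂ : DCoh.D X} (h₁ : DCoh.IsQCohD A₁) (h₂ : DCoh.IsQCohD A₂) (c : ℤ) [A₁.IsGE c] [A₂.IsGE c]
    (φ : A₁ ⟶ A₂)
    (h : ∀ F : CochainComplex X.Modules ℤ, (∀ m : ℤ, DCoh.IsPseudoCoherentD m (DCoh.toD X F)) →
      IsIso ((DCoh.Rpush f).map ((DCoh.RSheafHom F).map φ))) :
    IsIso φ := by
  haveI := fun {A B : Scheme.{u}} (k : A ⟶ B) => KFlat.hasLpull k
  haveI : QuasiCompact f := inferInstance
  obtain ⟨G, hG, hgen⟩ := Gen.exists_perfect_generator X
  refine BC.AdjCoprod.isIso_of_bijective hgen h₁ h₂ φ fun n => ?_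
  let F := DerivedCategory.Q.objPreimage (G⟦n⟧)
  let eF : DCoh.toD X F ≅ G⟦n⟧ := DerivedCategory.Q.objObjPreimageIso _
  haveI hiso := h F fun m => isPseudoCoherentD_of_iso eF.symm (pc_of_perfect (perfect_shift hG n) m)
  -- global sections of the derived Hom
  let R := DCoh.RSheafHom F
  obtain ⟨o⟩ := BCAdj.nonempty_Lpull_OD f
  let oQ : DerivedCategory.Q.obj (RHom.O0 X) ≅ BCAdj.OD X :=
    (((SingleFunctors.evaluation _ _ 0).mapIso
      (DerivedCategory.singleFunctorsPostcompQIso X.Modules)).app (Coh.structureModule X)).symm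
  haveI := BC.LTExact.isIso_cnt F (isKFlat_of_isStrictlyPerfect (RHom.isStrictlyPerfect_O0 (X := X)))
  let eU : (DCoh.LTensorCx F).obj (DerivedCategory.Q.obj (RHom.O0 X)) ≅ G⟦n⟧ :=
    asIso (BC.LTExact.cnt F (RHom.O0 X)) ≪≫
      DerivedCategory.Q.mapIso (KFlat.commIso (RHom.O0 X) F ≪≫ BC.PFNat.unitL F) ≪≫ eF
  let eO : (DCoh.Lpull f).obj (BCAdj.OD Y) ≅ DerivedCategory.Q.obj (RHom.O0 X) := o ≪≫ oQ.symm
  let Θ : ∀ A : DCoh.D X, (G⟦n⟧ ⟶ A) ≃ (BCAdj.OD Y ⟶ (DCoh.Rpush f).obj (R.obj A)) := fun A =>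
    ((eU.symm.homCongr (Iso.refl A)).trans ((DCoh.RSheafHomAdj F).homEquiv _ A)).trans
      ((eO.symm.homCongr (Iso.refl _)).trans ((BC.adj f).homEquiv _ _))
  have key : ∀ u : G⟦n⟧ ⟶ A₁, Θ A₂ (u ≫ φ) = Θ A₁ u ≫ (DCoh.Rpush f).map (R.map φ) := fun u => by
    simp only [Θ, Equiv.trans_apply, Iso.homCongr_apply, Iso.refl_hom, Iso.symm_inv, Category.comp_id]
    rw [← Category.assoc eU.hom, (DCoh.RSheafHomAdj F).homEquiv_naturality_right]
    exact (congrArg ((BC.adj f).homEquiv _ _) (Category.assoc _ _ _).symm).trans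
      ((BC.adj f).homEquiv_naturality_right _ _)
  refine ⟨fun u u' huu => (Θ A₁).injective ?_, fun v => ?_⟩
  · rw [← cancel_mono ((DCoh.Rpush f).map (R.map φ)), ← key, ← key]
    exact congrArg (Θ A₂) huu
  · refine ⟨(Θ A₁).symm (Θ A₂ v ≫ inv ((DCoh.Rpush f).map (R.map φ))), (Θ A₂).injective ?_⟩
    rw [key, Equiv.apply_symm_apply, Category.assoc, IsIso.inv_hom_id, Category.comp_id]

end Groth.Agent.S11113
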