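import Groth.Statements.S1112
import Groth.Agent.L10.DRing.PCRestrict
import Groth.Agent.L29.DCoh.PushTilde
import Groth.Agent.L29.DCoh.RpushRestrict
import Groth.Agent.L29.DCoh.Gen.Loc
import Groth.Agent.L29.DCoh.PCNoeth

set_option autoImplicit false
set_option backward.isDefEq.respectTransparency false
universe u
open CategoryTheory CategoryTheory.Limits AlgebraicGeometry
attribute [local instance] HasDerivedCategory.standard
open Perf

namespace Groth.Agent.S1112

open Groth.L29.DC in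
theorem pc_local_of {X : Scheme.{u}} {m : ℤ} {K : DCoh.D X}
    (h : ∀ x : X, ∃ (U : Scheme.{u}) (j : U ⟶ X) (_ : IsOpenImmersion j), x ∈ j.opensRange ∧
      DCoh.IsPseudoCoherentD m ((DCoh.restrictD j).obj K)) : DCoh.IsPseudoCoherentD m K :=
  PCDesc.pc_of_local fun x => by
    obtain ⟨U, j, _, hx, hj⟩ := h x
    exact exists_opens_of_on (fun {Z} => DCoh.IsPseudoCoherentD m) (fun k _ _ h => PCStalk.pc_res k h)
      (fun e h => isPseudoCoherentD_of_iso e h) j hx hj

/-- For a finite morphism f : X ⟶ Y whose direct image of the structure sheaf is a pseudo-coherent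
O_Y-module, and E ∈ D(O_X) with quasi-coherent cohomology (Rf_* assumed to exist), E is
m-pseudo-coherent exactly when Rf_*E is. -/
theorem result {X Y : Scheme.{u}} (f : X ⟶ Y) [IsFinite f] [DCoh.HasRpush f]
    (hO : ∀ m : ℤ, DCoh.IsPseudoCoherentD m (DCoh.inD Y ((Scheme.Modules.pushforward f).obj (Coh.structureModule X))))
    (E : DCoh.D X) (hE : DCoh.IsQCohD E) (m : ℤ) :
    DCoh.IsPseudoCoherentD m E ↔ DCoh.IsPseudoCoherentD m ((DCoh.Rpush f).obj E) := by
  have key : ∀ (V : Y.Opens) (hV : IsAffineOpen V),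
      DCoh.IsPseudoCoherentD m ((DCoh.restrictD (hV.preimage f).fromSpec).obj E) ↔
        DCoh.IsPseudoCoherentD m ((DCoh.restrictD hV.fromSpec).obj ((DCoh.Rpush f).obj E)) := by
    intro V hV
    let hU := hV.preimage f
    let φ : Γ(Y, V) ⟶ Γ(X, f ⁻¹ᵁ V) := f.app V
    let g := Spec.map φ
    have w : g ≫ hV.fromSpec = hU.fromSpec ≫ f := by
      have := hV.SpecMap_appLE_fromSpec f hU le_rfl
      simpa [g, φ, Scheme.Hom.app_eq_appLE] using this
    have hr : f ⁻¹ᵁ hV.fromSpec.opensRange ≤ hU.fromSpec.opensRange := by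
      rw [hV.opensRange_fromSpec, hU.opensRange_fromSpec]
    letI : Algebra Γ(Y, V) Γ(X, f ⁻¹ᵁ V) := φ.hom.toAlgebra
    haveI := Groth.L29.DC.RpushQC.hasRpush g
    haveI := Groth.L18.TildeF.tilde_preservesFiniteLimits (R := Γ(Y, V))
    haveI := Groth.L18.TildeF.tilde_preservesFiniteLimits (R := Γ(X, f ⁻¹ᵁ V))
    obtain ⟨T⟩ := Groth.L29.DC.PushTilde.nonempty_tildeD_Rpush φ
    obtain ⟨R⟩ := Groth.L29.DC.RpushRes.nonempty_iso f hV.fromSpec hU.fromSpec g hr w
    obtain ⟨M, ⟨e⟩⟩ := (Groth.L29.DC.TildeD.isQCohD_iff _).1 (Groth.L29.DC.isQCohD_restrictD hU.fromSpec hE)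
    -- the structure sheaf
    have hB : DRing.IsPseudoCoherentModule' Γ(Y, V) Γ(X, f ⁻¹ᵁ V) := by
      refine Groth.L02.PC.pc'_of_forall fun k => Groth.L29.DC.TildeAlg.pc_of_tilde ?_
      let a := (Groth.L17.PushQCoh.pushRestrictIso f hV.fromSpec hU.fromSpec g hr w).app (Coh.structureModule X)
      let b : Coh.structureModule (Spec Γ(X, f ⁻¹ᵁ V)) ≅
          (tilde.functor Γ(X, f ⁻¹ᵁ V)).obj (ModuleCat.of Γ(X, f ⁻¹ᵁ V) Γ(X, f ⁻¹ᵁ V)) := tildeSelf.symm
      let c : (Scheme.Modules.restrictFunctor hV.fromSpec).obj ((Scheme.Modules.pushforward f).obj (Coh.structureModule X)) ≅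
          (tilde.functor Γ(Y, V)).obj ((ModuleCat.restrictScalars φ.hom).obj (ModuleCat.of _ Γ(X, f ⁻¹ᵁ V))) :=
        a ≪≫ (Scheme.Modules.pushforward g).mapIso (Scheme.Modules.restrictUnitIso hU.fromSpec ≪≫ b) ≪≫
          (Groth.L29.DC.PushTilde.pushTildeIso φ).app _
      let d : ModuleCat.of Γ(Y, V) Γ(X, f ⁻¹ᵁ V) ≅
          (ModuleCat.restrictScalars φ.hom).obj (ModuleCat.of _ Γ(X, f ⁻¹ᵁ V)) :=
        LinearEquiv.toModuleIso (X₂ := (ModuleCat.restrictScalars φ.hom).obj (ModuleCat.of _ Γ(X, f ⁻¹ᵁ V)))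
          { AddEquiv.refl Γ(X, f ⁻¹ᵁ V) with map_smul' := fun a b => Algebra.smul_def a b }
      exact Groth.L29.DC.isPseudoCoherentD_of_iso
        ((((Scheme.Modules.restrictFunctor hV.fromSpec).mapDerivedCategorySingleFunctor 0).app _) ≪≫
          (DerivedCategory.singleFunctor _ 0).mapIso (c ≪≫ (tilde.functor _).mapIso d.symm) ≪≫
          (((tilde.functor Γ(Y, V)).mapDerivedCategorySingleFunctor 0).app _).symm)
        (Groth.L29.DC.PCStalk.pc_res hV.fromSpec (hO k))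
    let eR : (DCoh.tildeD Γ(Y, V)).obj ((DRing.restrictD (algebraMap Γ(Y, V) Γ(X, f ⁻¹ᵁ V))).obj M) ≅
        (DCoh.restrictD hV.fromSpec).obj ((DCoh.Rpush f).obj E) :=
      (T.app M).symm ≪≫ (DCoh.Rpush g).mapIso e ≪≫ (R.app E).symm
    have hM := Groth.L10.PCRestrict.pc_iff_restrict hB M m
    exact ⟨fun h => Groth.L29.DC.isPseudoCoherentD_of_iso eR (Groth.L29.DC.TildeAlg.pc_tilde
        (hM.1 (Groth.L29.DC.TildeAlg.pc_of_tilde (Groth.L29.DC.isPseudoCoherentD_of_iso e.symm h)))),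
      fun h => Groth.L29.DC.isPseudoCoherentD_of_iso e (Groth.L29.DC.TildeAlg.pc_tilde
        (hM.2 (Groth.L29.DC.TildeAlg.pc_of_tilde (Groth.L29.DC.isPseudoCoherentD_of_iso eR.symm h))))⟩
  constructor
  · intro h
    refine pc_local_of fun y => ?_
    obtain ⟨_, ⟨V, hV, rfl⟩, hy, -⟩ := Y.isBasis_affineOpens.exists_subset_of_mem_open (Set.mem_univ y) isOpen_univ
    exact ⟨_, hV.fromSpec, inferInstance, hV.opensRange_fromSpec.ge hy,
      (key V hV).1 (Groth.L29.DC.PCStalk.pc_res _ h)⟩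
  · intro h
    refine pc_local_of fun x => ?_
    obtain ⟨_, ⟨V, hV, rfl⟩, hy, -⟩ := Y.isBasis_affineOpens.exists_subset_of_mem_open (Set.mem_univ (f x)) isOpen_univ
    exact ⟨_, (hV.preimage f).fromSpec, inferInstance, (hV.preimage f).opensRange_fromSpec.ge hy,
      (key V hV).2 (Groth.L29.DC.PCStalk.pc_res _ h)⟩

end Groth.Agent.S1112
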