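import Groth.Statements.S11120
import Groth.Agent.L29.DCoh.RpushColim

set_option autoImplicit false
set_option backward.isDefEq.respectTransparency false
universe u
open CategoryTheory CategoryTheory.Limits AlgebraicGeometry
attribute [local instance] HasDerivedCategory.standard
open Perf

namespace Groth.Agent.S11120

/-- Let f : X ⟶ Y be a quasi-compact quasi-separated morphism of schemes and assume the unbounded
derived direct image Rf_* exists. Let J be a small filtered category and C : J ⥤ (cochain complexes
of O_X-modules) a diagram such that for one fixed integer n every complex C_j has cohomology sheaves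
vanishing below degree n, and let colim C be its colimit in the category of complexes. Then for
every integer i, applying H^i ∘ Rf_* to the colimit cocone yields a colimit cocone of O_Y-modules:
H^i(Rf_*(colim C)) is the filtered colimit of the H^i(Rf_* C_j) through the natural maps. -/
theorem result {X Y : Scheme.{u}} (f : X ⟶ Y) [QuasiCompact f]
    [QuasiSeparated f] [DCoh.HasRpush f] {J : Type u} [SmallCategory J] [IsFiltered J]
    (C : J ⥤ CochainComplex X.Modules ℤ) [HasColimit C] (n : ℤ) (hC : ∀ j : J, (DCoh.toD X (C.obj j)).IsGE n) (i : ℤ) :
    Nonempty (IsColimit ((DerivedCategory.Q ⋙ DCoh.Rpush f ⋙ DerivedCategory.homologyFunctor Y.Modules i).mapCocone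
      (colimit.cocone C))) := by
  exact Groth.L29.DC.RpushColim.isColimit_G0 f C (colimit.cocone C) (colimit.isColimit C) n hC i

end Groth.Agent.S11120
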