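import Groth.Statements.S11121
import Groth.Agent.L17.QCohGab.Groth

set_option autoImplicit false
universe u u'
open CategoryTheory CategoryTheory.Limits AlgebraicGeometry
open QCohCat

namespace Groth.Agent.S11121

/-- Let X be a quasi-compact quasi-separated scheme and F an additive functor from the category QCoh(X)
of quasi-coherent O_X-modules (a full subcategory of all O_X-modules) to an abelian category A with
hom-sets in the same universe as those of QCoh(X). If F preserves small colimits, then F has a right
adjoint. (The converse, that a left adjoint preserves colimits, is formal and not asserted.) -/
theorem result (X : Scheme.{u}) [CompactSpace X] [QuasiSeparatedSpace X]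
    {A : Type u'} [Category.{u} A] [Abelian A] (F : QCohCat.QCoh X ⥤ A) [F.Additive]
    [PreservesColimitsOfSize.{u, u} F] : F.IsLeftAdjoint := by
  exact Groth.L17.QCohGab.isLeftAdjoint_of_preservesColimits X F

end Groth.Agent.S11121
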