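import Groth.Statements.S11122
import Groth.Agent.L29.DCoh.RpushProj
import Groth.Agent.L29.DCoh.Summand
import Groth.Agent.L29.DCoh.Amplitude

set_option autoImplicit false
set_option backward.isDefEq.respectTransparency false
universe u
open CategoryTheory CategoryTheory.Limits AlgebraicGeometry
attribute [local instance] HasDerivedCategory.standard
open Perf

namespace Groth.Agent.S11122

/-- Let f : X ⟶ Y be a quasi-compact quasi-separated morphism of schemes with Y quasi-compact, and
assume the unbounded derived direct image Rf_* exists. Suppose there is an integer k such that for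
every integer n and every object F of D(O_X) with bounded cohomology that is n-pseudo-coherent, Rf_*
F is (n + k)-pseudo-coherent. Then for every object F of D(O_X) that is n-pseudo-coherent for all n
(no boundedness assumed), Rf_* F is n-pseudo-coherent for all n. (The published statement obtains
the bound for proper pseudo-coherent f from a cited finiteness theorem; this row assumes the bound.) -/
theorem result {X Y : Scheme.{u}} (f : X ⟶ Y) [QuasiCompact f]
    [QuasiSeparated f] [CompactSpace Y] [DCoh.HasRpush f] (k : ℤ)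
    (hK : ∀ (F : DCoh.D X) (n a b : ℤ), F.IsGE a → F.IsLE b → DCoh.IsPseudoCoherentD n F →
      DCoh.IsPseudoCoherentD (n + k) ((DCoh.Rpush f).obj F))
    (F : DCoh.D X) (hF : ∀ m : ℤ, DCoh.IsPseudoCoherentD m F) (m : ℤ) :
    DCoh.IsPseudoCoherentD m ((DCoh.Rpush f).obj F) := by
  haveI := Groth.L17.PushQCoh.hasInjectiveResolutions X
  haveI := Groth.L29.DC.QRlim.enoughKInj X
  haveI := Groth.L17.PushQCoh.additive_push f
  haveI : EnoughInjectives X.Modules := (Groth.L10.ModRDer.insts X.sheaf).1
  haveI : CompactSpace X := QuasiCompact.compactSpace_of_compactSpace f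
  let α := (DCoh.pushKh f).totalRightDerivedUnit DerivedCategory.Qh
    (HomotopyCategory.quasiIso X.Modules (ComplexShape.up ℤ))
  obtain ⟨b, hb⟩ : ∃ b : ℤ, F.IsLE b := by
    have hloc := (Groth.L29.DC.isPC_iff_wit 0 F).1 (hF 0)
    choose V hxV hV using hloc
    have hN : ∀ x : X, ∃ N : ℤ, ∀ i, N ≤ i → IsZero (DCoh.HD ((Groth.L29.DC.resD (V x)).obj F) i) :=
      fun x => by
        obtain ⟨N, -, hN⟩ := (hV x).exists_isZero
        exact ⟨N, hN⟩
    choose N hN using hN
    obtain ⟨t, ht⟩ := isCompact_univ.elim_finite_subcover (fun x => (V x : Set X)) (fun x => (V x).2)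
      (fun x _ => Set.mem_iUnion.2 ⟨x, hxV x⟩)
    obtain ⟨B, hB⟩ := (t.image N).bddAbove
    refine ⟨B, (DerivedCategory.isLE_iff F B).2 fun i hi => ?_⟩
    refine Groth.L21.Mod.isZero_of_restrict (fun x : t => (V x.1).ι) (fun y => ?_) _ fun x => ?_
    · obtain ⟨x, hx, hy⟩ := Set.mem_iUnion₂.1 (ht (Set.mem_univ y))
      exact ⟨⟨x, hx⟩, ⟨y, hy⟩, rfl⟩
    · exact (hN x.1 i (by have := hB (Finset.mem_image_of_mem N x.2); omega)).of_iso
        (Groth.L29.DC.HDResIso (V x.1).ι F i).symm
  obtain ⟨N, hN⟩ := Groth.L29.DC.RpushQC.exists_bound f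
  obtain ⟨n, hn1, hn2⟩ : ∃ n : ℕ, (N : ℤ) - n ≤ m - 1 ∧ -(n : ℤ) - 1 + k ≤ m :=
    ⟨((N : ℤ) - m + 1).toNat + (k - m).toNat, by omega, by omega⟩
  let c : ℤ := -(n : ℤ)
  let τ := (DerivedCategory.TStructure.t.truncGE c).obj F
  let L := (DerivedCategory.TStructure.t.truncLT c).obj F
  have hT := DerivedCategory.TStructure.t.triangleLTGE_distinguished c F
  have hτ : DCoh.IsPseudoCoherentD (c - 1) τ :=
    (Groth.L29.DC.pc_two_out_of_three hT (c - 1)).1
      (Groth.L29.DC.pc_of_isZero fun i hi => Groth.L10.isZero_H_LT c i (by omega) F) (hF _)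
  have hτle : τ.IsLE b := by
    refine (DerivedCategory.isLE_iff τ b).2 fun i hi => ?_
    by_cases hci : c ≤ i
    · have := Groth.L10.isIso_H_π c i hci F
      exact (DerivedCategory.isZero_of_isLE F b i hi).of_iso (asIso ((DerivedCategory.homologyFunctor X.Modules i).map
        ((DerivedCategory.TStructure.t.truncGEπ c).app F))).symm
    · exact Groth.L10.isZero_H_GE c i (by omega) F
  have h1 : DCoh.IsPseudoCoherentD (c - 1 + k) ((DCoh.Rpush f).obj τ) :=
    hK τ (c - 1) c b inferInstance hτle hτ
  obtain ⟨δ, hT'⟩ := Groth.L10.RDerTri.exists_triangle (F := Scheme.Modules.pushforward f) α _ hT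
  refine (Groth.L29.DC.pc_two_out_of_three hT' m).2.1 (Groth.L29.DC.pc_of_isZero fun i hi => ?_)
    (Groth.L29.DC.pc_mono (by simp only [c]; omega) h1)
  have hstab : ∀ j : ℤ, (N : ℤ) - n ≤ j → IsIso ((DerivedCategory.homologyFunctor Y.Modules j).map
      ((DCoh.Rpush f).map ((DerivedCategory.TStructure.t.truncGEπ c).app F))) := fun j hj =>
    Groth.L29.DC.RpushQC.isIso_H_π f N (fun M hM p hp => hN M hM p (by omega)) F
      (Groth.L29.DC.PCQCoh.isQCohD_of_pc hF) n j hj
  haveI := hstab (i - 1) (by omega)
  haveI := hstab i (by omega)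
  refine (DerivedCategory.HomologySequence.exact₁ _ hT' (i - 1) i (by omega)).isZero_of_both_zeros ?_ ?_
  · haveI : Epi ((DerivedCategory.homologyFunctor Y.Modules (i - 1)).map
        ((DCoh.Rpush f).map ((DerivedCategory.TStructure.t.truncGEπ c).app F))) := inferInstance
    exact (DerivedCategory.HomologySequence.epi_homologyMap_mor₂_iff _ hT' (i - 1) i (by omega)).1 this
  · haveI : Mono ((DerivedCategory.homologyFunctor Y.Modules i).map
        ((DCoh.Rpush f).map ((DerivedCategory.TStructure.t.truncGEπ c).app F))) := inferInstance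
    exact (DerivedCategory.HomologySequence.mono_homologyMap_mor₂_iff _ hT' i).1 this

end Groth.Agent.S11122
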