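import Groth.Statements.S11126
import Groth.Agent.L00.Comonadic
-- import your own Groth.Agent.* helpers here

set_option autoImplicit false
universe w u₁ u₂
open CategoryTheory CategoryTheory.Limits
open CohDer

namespace Groth.Agent.S11126

/-- Let A and B be abelian categories with small hom-sets and all small colimits, B having exact
filtered colimits and a small family of noetherian objects which is separating. Let F : A ⥤ B be
faithful and exact with a right adjoint G preserving filtered colimits. Then A has exact filtered
colimits and admits a small separating family of noetherian objects. -/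
theorem result
    {A : Type u₁} [Category.{w} A] [Abelian A] [HasColimitsOfSize.{w, w} A]
    {B : Type u₂} [Category.{w} B] [Abelian B] [HasColimitsOfSize.{w, w} B] [AB5OfSize.{w, w} B]
    {ι : Type w} (s : ι → B) (hsN : ∀ i, IsNoetherianObject (s i))
    (hsep : ∀ ⦃X Y : B⦄ (f g : X ⟶ Y), (∀ (i : ι) (h : s i ⟶ X), h ≫ f = h ≫ g) → f = g)
    (F : A ⥤ B) (G : B ⥤ A) (adj : F ⊣ G) [F.Additive] [F.Faithful]
    [PreservesFiniteLimits F] [PreservesFiniteColimits F] [PreservesFilteredColimitsOfSize.{w, w} G] :
    AB5OfSize.{w, w} A ∧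
      ∃ (κ : Type w) (t : κ → A), (∀ k, IsNoetherianObject (t k)) ∧
        ∀ ⦃X Y : A⦄ (f g : X ⟶ Y), (∀ (k : κ) (h : t k ⟶ X), h ≫ f = h ≫ g) → f = g := by
  have : IsGrothendieckAbelian.{w} B :=
    { hasSeparator := ⟨⟨∐ s, (isSeparator_sigma s).2 fun X Y f g h => hsep f g fun i k =>
        h (s i) (ObjectProperty.ofObj_apply s i) k⟩⟩ }
  have h5 := Groth.L00.Comonadic.ab5 F G adj
  have : IsGrothendieckAbelian.{w} A :=
    { ab5OfSize := h5
      hasSeparator := Groth.L00.Comonadic.hasSeparator adj s hsep }
  refine ⟨h5, {T : Shrink.{w} (Subobject (separator A)) //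
    IsNoetherianObject (((equivShrink _).symm T : Subobject _) : A)},
    fun T => (((equivShrink _).symm T.1 : Subobject _) : A), fun T => T.2, fun X Y f g h => ?_⟩
  refine (isSeparator_separator A).def f g fun k => ?_
  refine Groth.L00.Comonadic.hom_ext_noetherian adj s hsep hsN _ _ fun S hS => ?_
  obtain ⟨T, rfl⟩ := (equivShrink (Subobject (separator A))).symm.surjective S
  simpa using h ⟨T, hS⟩ (((equivShrink _).symm T).arrow ≫ k)

end Groth.Agent.S11126
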