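import Groth.Statements.S11136
import Mathlib.RingTheory.Invariant.Basic
import Mathlib.RingTheory.Spectrum.Prime.Noetherian
import Mathlib.RingTheory.Spectrum.Prime.Topology
import Mathlib.Topology.NoetherianSpace

set_option autoImplicit false
universe u v
open InvTh

namespace Groth.Agent.S11136
open scoped Pointwise

/-- Let a finite group G act on a Noetherian commutative ring R by ring automorphisms, with ring of
invariants A (A → R injective with image the fixed elements). When the prime spectrum of A is
connected, any two connected components of Spec R are exchanged by some element of G: for all points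
x, y of Spec R there is g in G whose induced self-map of Spec R carries the connected component of x
onto the connected component of y. -/
theorem result
    (A : Type u) (R : Type v) [CommRing A] [CommRing R] [Algebra A R] [IsNoetherianRing R]
    (G : Type u) [Group G] [Finite G] [MulSemiringAction G R] [SMulCommClass G A R]
    [Algebra.IsInvariant A R G] [FaithfulSMul A R]
    [ConnectedSpace (PrimeSpectrum A)] (x y : PrimeSpectrum R) :
    ∃ g : G, PrimeSpectrum.comap (MulSemiringAction.toRingHom G R g) '' connectedComponent x =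
      connectedComponent y := by
  classical
  haveI := Algebra.IsInvariant.isIntegral A R G
  let X := PrimeSpectrum R
  let h : G → X → X := fun g => PrimeSpectrum.comap (MulSemiringAction.toRingHom G R g)
  have hcomp : ∀ g g' z, h g (h g' z) = h (g' * g) z := fun g g' z => by
    ext r
    change g' • g • r ∈ z.asIdeal ↔ (g' * g) • r ∈ z.asIdeal
    rw [mul_smul]
  have hone : ∀ z, h 1 z = z := fun z => by
    ext r
    change (1 : G) • r ∈ z.asIdeal ↔ r ∈ z.asIdeal
    rw [one_smul]
  have hcont : ∀ g, Continuous (h g) := fun g => PrimeSpectrum.continuous_comap _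
  have himg : ∀ g z, h g '' connectedComponent z = connectedComponent (h g z) := by
    intro g z
    refine ((hcont g).image_connectedComponent_subset z).antisymm fun w hw => ⟨h g⁻¹ w, ?_, ?_⟩
    · have := (hcont g⁻¹).image_connectedComponent_subset (h g z) ⟨w, hw, rfl⟩
      rwa [hcomp, mul_inv_cancel, hone] at this
    · rw [hcomp, inv_mul_cancel, hone]
  have hfin : (Set.range fun z : X => connectedComponent z).Finite := by
    refine (TopologicalSpace.NoetherianSpace.finite_irreducibleComponents.image
      fun Z => if hZ : Z.Nonempty then connectedComponent hZ.some else ∅).subset ?_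
    rintro _ ⟨z, rfl⟩
    have hne : (irreducibleComponent z).Nonempty := ⟨z, mem_irreducibleComponent⟩
    refine ⟨_, irreducibleComponent_mem_irreducibleComponents z, ?_⟩
    simp only [dif_pos hne]
    exact (connectedComponent_eq (irreducibleComponent_subset_connectedComponent hne.some_mem)).symm
  have hopen : ∀ z : X, IsOpen (connectedComponent z) := by
    intro z
    rw [← isClosed_compl_iff]
    have : (connectedComponent z)ᶜ =
        ⋃₀ ((Set.range fun w : X => connectedComponent w) \ {connectedComponent z}) := by
      ext w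
      simp only [Set.mem_compl_iff, Set.mem_sUnion, Set.mem_diff, Set.mem_range, Set.mem_singleton_iff]
      constructor
      · intro hw
        exact ⟨_, ⟨⟨w, rfl⟩, fun e => hw (e ▸ mem_connectedComponent)⟩, mem_connectedComponent⟩
      · rintro ⟨_, ⟨⟨v, rfl⟩, hne⟩, hwv⟩ hwz
        exact hne ((connectedComponent_eq hwv).trans (connectedComponent_eq hwz).symm)
    rw [this, Set.sUnion_eq_biUnion]
    exact (hfin.subset Set.diff_subset).isClosed_biUnion fun s hs => by
      obtain ⟨w, rfl⟩ := hs.1; exact isClosed_connectedComponent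
  let U : Set X := ⋃ g : G, connectedComponent (h g x)
  have hU1 : IsClosed U := isClosed_iUnion_of_finite fun g => isClosed_connectedComponent
  have hU2 : IsOpen U := isOpen_iUnion fun g => hopen _
  let π : X → PrimeSpectrum A := PrimeSpectrum.comap (algebraMap A R)
  have hsat : ∀ z ∈ U, ∀ z', π z' = π z → z' ∈ U := by
    intro z hz z' hzz'
    obtain ⟨g, hg⟩ := Set.mem_iUnion.1 hz
    obtain ⟨a, ha⟩ := Algebra.IsInvariant.exists_smul_of_under_eq A R G z.asIdeal z'.asIdeal
      (congrArg PrimeSpectrum.asIdeal hzz').symm
    have hz' : z' = h a⁻¹ z := by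
      ext r
      change r ∈ z'.asIdeal ↔ a⁻¹ • r ∈ z.asIdeal
      rw [ha, Ideal.mem_pointwise_smul_iff_inv_smul_mem]
    refine Set.mem_iUnion.2 ⟨g * a⁻¹, ?_⟩
    rw [hz', ← hcomp, ← himg]
    exact ⟨z, hg, rfl⟩
  have hclosed : IsClosedMap π := PrimeSpectrum.isClosedMap_comap_of_isIntegral _
    (algebraMap_isIntegral_iff.2 inferInstance)
  have hsurj : Function.Surjective π := fun p => by
    obtain ⟨Q, -, hQ, hQp⟩ := Ideal.exists_ideal_over_prime_of_isIntegral (S := R) p.asIdeal ⊥ (by
      rw [← RingHom.ker_eq_comap_bot, (RingHom.injective_iff_ker_eq_bot _).1 (FaithfulSMul.algebraMap_injective A R)]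
      exact bot_le)
    exact ⟨⟨Q, hQ⟩, PrimeSpectrum.ext hQp⟩
  have hxU : x ∈ U := Set.mem_iUnion.2 ⟨1, by rw [hone]; exact mem_connectedComponent⟩
  have hc : (π '' U) = (π '' Uᶜ)ᶜ := by
    ext p
    obtain ⟨z, rfl⟩ := hsurj p
    constructor
    · rintro ⟨u, hu, hup⟩ ⟨w, hw, hwp⟩
      exact hw (hsat u hu w (hwp.trans hup.symm))
    · intro hn
      exact ⟨z, by_contra fun hz => hn ⟨z, hz, rfl⟩, rfl⟩
  have huniv : π '' U = Set.univ := IsClopen.eq_univ
    ⟨hclosed _ hU1, hc ▸ (hclosed _ hU2.isClosed_compl).isOpen_compl⟩ ⟨_, x, hxU, rfl⟩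
  have hy : y ∈ U := by
    obtain ⟨u, hu, hup⟩ := (huniv.ge (Set.mem_univ (π y)) : π y ∈ π '' U)
    exact hsat u hu y hup.symm
  obtain ⟨g, hg⟩ := Set.mem_iUnion.1 hy
  exact ⟨g, (himg g x).trans (connectedComponent_eq hg)⟩

end Groth.Agent.S11136
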