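import Groth.Statements.S11141
import Groth.Agent.L08.InvNormal
import Mathlib.RingTheory.HopfAlgebra.Basic
import Mathlib.RingTheory.Flat.Basic
import Mathlib.RingTheory.HopfAlgebra.Convolution
import Mathlib.RingTheory.TensorProduct.Maps

set_option autoImplicit false
universe u
open TensorProduct
open InvTh

namespace Groth.Agent.S11141
open TensorProduct

/-- Let k be a field, H a finitely generated commutative Hopf algebra over k (the coordinate ring of a
group scheme affine and of finite type over k), and S a commutative k-algebra which is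
ring-isomorphic to a finite product of normal (integrally closed) domains and carries an H-comodule
structure whose coaction S → S ⊗ H is multiplicative and unital. Then the k-subalgebra of invariants
of S, the elements s whose coaction is s ⊗ 1, is again ring-isomorphic to a finite product of normal
domains. -/
theorem result (k : Type u) [Field k]
    (H : Type u) [CommRing H] [HopfAlgebra k H] [Algebra.FiniteType k H]
    (S : Type u) [CommRing S] [Algebra k S] [HopfRep.Comod k H S]
    (hmul : ∀ x y : S, HopfRep.Comod.coact (k := k) (A := H) (x * y) =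
        HopfRep.Comod.coact (k := k) (A := H) x * HopfRep.Comod.coact (k := k) (A := H) y)
    (hone : HopfRep.Comod.coact (k := k) (A := H) (1 : S) = 1)
    {ι : Type u} [Fintype ι] (D : ι → Type u) [∀ i, CommRing (D i)] [∀ i, IsDomain (D i)]
    [∀ i, IsIntegrallyClosed (D i)] (e : S ≃+* Π i, D i)
    (A : Subalgebra k S)
    (hA : ∀ a : S, a ∈ A ↔ HopfRep.Comod.coact (k := k) (A := H) a = a ⊗ₜ[k] (1 : H)) :
    ∃ (κ : Type u) (_ : Fintype κ) (E : κ → Type u) (_ : ∀ j, CommRing (E j)) (_ : ∀ j, IsDomain (E j))
      (_ : ∀ j, IsIntegrallyClosed (E j)), Nonempty (A ≃+* Π j, E j) := by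
  classical
  let co : S →ₐ[k] S ⊗[k] H := AlgHom.ofLinearMap (HopfRep.Comod.coact (k := k) (A := H)) hone hmul
  let inc : S →ₐ[k] S ⊗[k] H := Algebra.TensorProduct.includeLeft
  let θ : S ⊗[k] H →ₐ[k] S ⊗[k] H :=
    Algebra.TensorProduct.lift co Algebra.TensorProduct.includeRight (fun _ _ => Commute.all _ _)
  let θ' : S ⊗[k] H →ₐ[k] S ⊗[k] H :=
    Algebra.TensorProduct.lift ((Algebra.TensorProduct.map (AlgHom.id k S)
      (HopfAlgebra.antipodeAlgHom k H)).comp co) Algebra.TensorProduct.includeRight
      (fun _ _ => Commute.all _ _)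
  have hθ : ∀ s : S, θ' (θ (s ⊗ₜ 1)) = s ⊗ₜ[k] (1 : H) := by
    intro s
    let M : S ⊗[k] (H ⊗[k] H) →ₗ[k] S ⊗[k] H :=
      (LinearMap.mul' k H ∘ₗ (HopfAlgebraStruct.antipode (R := k)).rTensor H).lTensor S
    have h1 : ∀ x : S ⊗[k] H, θ' x =
        M (TensorProduct.assoc k S H H ((HopfRep.Comod.coact (k := k) (A := H)).rTensor H x)) := by
      intro x
      induction x using TensorProduct.induction_on with
      | zero => simp
      | add x y hx hy => simp only [map_add, hx, hy]
      | tmul s h =>
        simp only [θ', Algebra.TensorProduct.lift_tmul, AlgHom.comp_apply, co,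
          AlgHom.ofLinearMap_apply, LinearMap.rTensor_tmul]
        induction HopfRep.Comod.coact (k := k) (A := H) s with
        | zero => simp
        | add x y hx hy => simp only [map_add, add_mul, TensorProduct.add_tmul, hx, hy]
        | tmul s₀ h₀ => simp [M]
    have h2 : θ (s ⊗ₜ 1) = HopfRep.Comod.coact (k := k) (A := H) s := by
      simp [θ, co, ← Algebra.TensorProduct.one_def]
    have h3 := LinearMap.congr_fun (HopfRep.Comod.coassoc (k := k) (A := H) (V := S)) s
    simp only [LinearMap.comp_apply, LinearEquiv.coe_coe] at h3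
    rw [h2, h1, h3, ← LinearMap.lTensor_comp_apply, LinearMap.comp_assoc,
      HopfAlgebra.mul_antipode_rTensor_comul, LinearMap.lTensor_comp_apply,
      show (Coalgebra.counit (R := k) (A := H)).lTensor S (HopfRep.Comod.coact (k := k) (A := H) s)
        = s ⊗ₜ[k] (1 : k) from LinearMap.congr_fun (HopfRep.Comod.counit_comp (k := k) (A := H) (V := S)) s]
    simp
  have hinj : Function.Injective θ := by
    have : θ'.comp θ = AlgHom.id k _ := by
      refine Algebra.TensorProduct.ext (AlgHom.ext fun s => hθ s) (AlgHom.ext fun h => ?_)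
      simp [θ, θ']
    exact Function.LeftInverse.injective (g := θ') fun x => AlgHom.congr_fun this x
  have hθ2 : Function.Surjective θ := by
    have hθ2' : ∀ s : S, θ (θ' (s ⊗ₜ 1)) = s ⊗ₜ[k] (1 : H) := by
      intro s
      let M : S ⊗[k] (H ⊗[k] H) →ₗ[k] S ⊗[k] H :=
        (LinearMap.mul' k H ∘ₗ (HopfAlgebraStruct.antipode (R := k)).lTensor H).lTensor S
      have h1 : ∀ x : S ⊗[k] H, θ (Algebra.TensorProduct.map (AlgHom.id k S)
          (HopfAlgebra.antipodeAlgHom k H) x) =
          M (TensorProduct.assoc k S H H ((HopfRep.Comod.coact (k := k) (A := H)).rTensor H x)) := by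
        intro x
        induction x using TensorProduct.induction_on with
        | zero => simp
        | add x y hx hy => simp only [map_add, hx, hy]
        | tmul s h =>
          simp only [θ, Algebra.TensorProduct.map_tmul, Algebra.TensorProduct.lift_tmul, co,
            AlgHom.ofLinearMap_apply, LinearMap.rTensor_tmul, AlgHom.id_apply]
          induction HopfRep.Comod.coact (k := k) (A := H) s with
          | zero => simp
          | add x y hx hy => simp only [map_add, add_mul, TensorProduct.add_tmul, hx, hy]
          | tmul s₀ h₀ => simp [M]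
      have h2 : θ' (s ⊗ₜ 1) = Algebra.TensorProduct.map (AlgHom.id k S)
          (HopfAlgebra.antipodeAlgHom k H) (HopfRep.Comod.coact (k := k) (A := H) s) := by
        simp [θ', co, ← Algebra.TensorProduct.one_def]
      have h3 := LinearMap.congr_fun (HopfRep.Comod.coassoc (k := k) (A := H) (V := S)) s
      simp only [LinearMap.comp_apply, LinearEquiv.coe_coe] at h3
      rw [h2, h1, h3, ← LinearMap.lTensor_comp_apply, LinearMap.comp_assoc,
        HopfAlgebra.mul_antipode_lTensor_comul, LinearMap.lTensor_comp_apply,
        show (Coalgebra.counit (R := k) (A := H)).lTensor S (HopfRep.Comod.coact (k := k) (A := H) s)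
          = s ⊗ₜ[k] (1 : k) from LinearMap.congr_fun (HopfRep.Comod.counit_comp (k := k) (A := H) (V := S)) s]
      simp
    have : θ.comp θ' = AlgHom.id k _ := by
      refine Algebra.TensorProduct.ext (AlgHom.ext fun s => hθ2' s) (AlgHom.ext fun h => ?_)
      simp [θ, θ']
    exact fun x => ⟨θ' x, AlgHom.congr_fun this x⟩
  have hinc : ∀ s ∈ nonZeroDivisors S, inc s ∈ nonZeroDivisors (S ⊗[k] H) := by
    intro s hs
    rw [mem_nonZeroDivisors_iff_left]
    intro x hx
    have hsi : Function.Injective (LinearMap.mulLeft k s) := by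
      refine (injective_iff_map_eq_zero _).2 fun y hy => ?_
      exact mem_nonZeroDivisors_iff_left.1 hs y hy
    have hm : ∀ x : S ⊗[k] H, inc s * x = (LinearMap.mulLeft k s).rTensor H x := by
      intro x
      induction x using TensorProduct.induction_on with
      | zero => simp
      | add x y hx hy => simp only [mul_add, map_add, hx, hy]
      | tmul a b => simp [inc]
    exact Module.Flat.rTensor_preserves_injective_linearMap _ hsi (by rw [map_zero, ← hm, hx])
  have hco : ∀ s ∈ nonZeroDivisors S, co s ∈ nonZeroDivisors (S ⊗[k] H) := by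
    intro s hs
    have h2 : co s = θ (inc s) := by simp [θ, inc, ← Algebra.TensorProduct.one_def]
    rw [h2, mem_nonZeroDivisors_iff_left]
    intro x hx
    obtain ⟨y, rfl⟩ := hθ2 x
    rw [← map_mul, ← map_zero θ] at hx
    rw [mem_nonZeroDivisors_iff_left.1 (hinc s hs) y (hinj hx), map_zero]
  let F : Set ((Π i, D i) →+* S ⊗[k] H) :=
    {co.toRingHom.comp e.symm.toRingHom, inc.toRingHom.comp e.symm.toRingHom}
  have hnz : ∀ x ∈ nonZeroDivisors (Π i, D i), e.symm x ∈ nonZeroDivisors S := fun x hx => by
    rw [mem_nonZeroDivisors_iff_left] at hx ⊢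
    intro y hy
    have := hx (e y) (by rw [← e.apply_symm_apply x, ← map_mul, hy, map_zero])
    exact e.injective (by rw [this, map_zero])
  obtain ⟨κ, i1, E, i2, i3, i4, ⟨f⟩⟩ := Groth.L08.InvNormal.result D F
    (A := A.toSubring.map e.toRingHom)
    (by
      rintro f (rfl | rfl) x hx
      · exact hco _ (hnz x hx)
      · exact hinc _ (hnz x hx))
    (fun a => by
      have hmem : a ∈ A.toSubring.map e.toRingHom ↔ co (e.symm a) = inc (e.symm a) := by
        constructor
        · rintro ⟨x, hx, rfl⟩
          simpa [co, inc] using (hA x).1 hx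
        · intro h
          exact ⟨e.symm a, (hA _).2 (by simpa [co, inc] using h), e.apply_symm_apply a⟩
      rw [hmem]
      refine ⟨fun h => ?_, fun h => h _ (Or.inl rfl) _ (Or.inr rfl)⟩
      rintro f (rfl | rfl) f' (rfl | rfl)
      · rfl
      · exact h
      · exact h.symm
      · rfl)
  exact ⟨κ, i1, E, i2, i3, i4, ⟨(e.subringMap (s := A.toSubring)).trans f⟩⟩

end Groth.Agent.S11141
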