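import Groth.Statements.S11147
import Groth.Agent.L15.Frob.EtaleIff
import Mathlib.RingTheory.Unramified.Field
import Mathlib.RingTheory.Etale.Field
import Mathlib.FieldTheory.IntermediateField.Adjoin.Algebra
-- import your own Groth.Agent.* helpers here

set_option autoImplicit false
universe u
open FrobAlg

namespace Groth.Agent.S11147

/-- Let p be a prime and k ⊆ K fields of characteristic p such that K is finitely generated over k as a
field. Then the relative Frobenius ring homomorphism K ⊗_{k,Frob} k → K, b ⊗ a ↦ b^p a (the
Radu–André homomorphism of k → K), is bijective exactly when K is algebraic over k and every element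
of K is separable over k. -/
theorem result (p : ℕ) [Fact p.Prime] (k K : Type u) [Field k]
    [Field K] [Algebra k K] [CharP k p] [CharP K p] (hfg : (⊤ : IntermediateField k K).FG) :
    Function.Bijective (FrobAlg.relFrob p k K) ↔ Algebra.IsSeparable k K := by
  haveI : Algebra.EssFiniteType k K := IntermediateField.fg_top_iff.1 hfg
  refine ⟨fun h => ?_, fun h => ?_⟩
  · haveI : Algebra.FormallyUnramified k K := by
      refine ⟨?_⟩
      have hD : ∀ x : K, KaehlerDifferential.D k K x = 0 := fun x => by
        obtain ⟨z, rfl⟩ := h.2 x
        induction z using TensorProduct.induction_on with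
        | zero => simp
        | add a b ha hb => rw [map_add, map_add, ha, hb, add_zero]
        | tmul b a =>
          rw [Groth.L15.Frob.relFrob_tmul, Derivation.leibniz, Derivation.map_algebraMap,
            Derivation.leibniz_pow, ← Nat.cast_smul_eq_nsmul K p]
          simp
      refine subsingleton_of_forall_eq 0 fun w => ?_
      have htop : w ∈ Submodule.span K (Set.range (KaehlerDifferential.D k K)) := by
        rw [KaehlerDifferential.span_range_derivation]; trivial
      have hle : Submodule.span K (Set.range (KaehlerDifferential.D k K)) ≤ ⊥ :=
        Submodule.span_le.2 fun _ ⟨x, hx⟩ => hx ▸ hD x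
      exact (Submodule.mem_bot K).1 (hle htop)
    exact Algebra.FormallyUnramified.isSeparable k K
  · haveI := h
    haveI : Module.Finite k K := by
      haveI : FiniteDimensional k (⊤ : IntermediateField k K) := by
        obtain ⟨s, hs⟩ := hfg
        rw [← hs]
        exact IntermediateField.finiteDimensional_adjoin fun x _ => Algebra.IsIntegral.isIntegral x
      exact Module.Finite.equiv IntermediateField.topEquiv.toLinearEquiv
    haveI : Algebra.Etale k K := ⟨Algebra.FormallyEtale.of_isSeparable k K, Algebra.FinitePresentation.of_finiteType.1 inferInstance⟩
    exact Groth.L15.Frob.bijective_relFrob p k K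

end Groth.Agent.S11147
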