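import Groth.Statements.S11152
import Mathlib.CategoryTheory.Abelian.DiagramLemmas.Four
import Mathlib.Algebra.Homology.DerivedCategory.SingleTriangle
import Mathlib.Algebra.Homology.DerivedCategory.TStructure
import Mathlib.CategoryTheory.Shift.CommShift
import Mathlib.Algebra.Homology.DerivedCategory.HomologySequence
-- import your own Groth.Agent.* helpers here

set_option autoImplicit false
universe w w' v v' u u'
open CategoryTheory CategoryTheory.Limits
open CohDer

namespace Groth.Agent.S11152

/-- Fix abelian categories A and B, P a class of objects of A such that every object of A admits a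
monomorphism into an object of P, F and G triangulated functors from D(A) to D(B) which are both
way-out right (given n₁ there is n₂ such that H^i(Y) = 0 for i < n₂ implies H^i(F Y) = 0 for i <
n₁), and η : F ⟶ G a morphism of triangulated functors. If η_X is an isomorphism for every object X
of P placed in degree 0, then η_X is an isomorphism for every object X of A placed in degree 0.
(Stated for functors defined on all of D(A) and the thick subcategory taken to be all of A.) -/
theorem result {A : Type u} [Category.{v} A] [Abelian A] [HasDerivedCategory.{w} A]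
    {B : Type u'} [Category.{v'} B] [Abelian B] [HasDerivedCategory.{w'} B]
    (P : ObjectProperty A) (hP : ∀ X : A, ∃ (Y : A) (i : X ⟶ Y), P Y ∧ Mono i)
    (F G : DerivedCategory A ⥤ DerivedCategory B) [F.CommShift ℤ] [G.CommShift ℤ]
    [F.IsTriangulated] [G.IsTriangulated] (η : F ⟶ G) [NatTrans.CommShift η ℤ]
    (hF : ∀ n₁ : ℤ, ∃ n₂ : ℤ, ∀ Y : DerivedCategory A, Y.IsGE n₂ → (F.obj Y).IsGE n₁)
    (hG : ∀ n₁ : ℤ, ∃ n₂ : ℤ, ∀ Y : DerivedCategory A, Y.IsGE n₂ → (G.obj Y).IsGE n₁)
    (hη : ∀ X : A, P X → IsIso (η.app ((DerivedCategory.singleFunctor A 0).obj X)))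
    (X : A) :
    IsIso (η.app ((DerivedCategory.singleFunctor A 0).obj X)) := by
  classical
  let H := DerivedCategory.homologyFunctor B 0
  let s := DerivedCategory.singleFunctor A 0
  suffices key : ∀ (i : ℤ) (X : A), IsIso ((DerivedCategory.homologyFunctor B i).map (η.app (s.obj X))) by
    exact (DerivedCategory.isIso_iff B (η.app (s.obj X))).2 fun i => key i X
  obtain ⟨a, ha⟩ := hF 0
  obtain ⟨a', ha'⟩ := hG 0
  let m := max a a'
  have hvan : ∀ (Φ : DerivedCategory A ⥤ DerivedCategory B) [Φ.CommShift ℤ] (c : ℤ), c ≤ m →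
      (∀ Y : DerivedCategory A, Y.IsGE c → (Φ.obj Y).IsGE 0) → ∀ (i : ℤ) (X : A), i < -m →
      IsZero ((DerivedCategory.homologyFunctor B i).obj (Φ.obj (s.obj X))) := by
    intro Φ _ c hc h i X hi
    have h1 : ((s.obj X)⟦(-m : ℤ)⟧).IsGE c := by
      have : (s.obj X).IsGE 0 := by infer_instance
      have h2 := DerivedCategory.TStructure.t.isGE_shift (s.obj X) 0 (-m) m (by omega)
      exact DerivedCategory.TStructure.t.isGE_of_ge _ c m hc
    have h3 := h _ h1
    have e : (DerivedCategory.homologyFunctor B i).obj (Φ.obj (s.obj X)) ≅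
        (DerivedCategory.homologyFunctor B (i + m)).obj (Φ.obj ((s.obj X)⟦(-m : ℤ)⟧)) :=
      ((H.shiftIso (-m) (i + m) i (by omega)).app (Φ.obj (s.obj X))).symm ≪≫
        (DerivedCategory.homologyFunctor B (i + m)).mapIso ((Φ.commShiftIso (-m : ℤ)).app (s.obj X)).symm
    exact (DerivedCategory.isZero_of_isGE _ 0 (i + m) (by omega)).of_iso e
  intro i
  induction i using Int.inductionOn' (b := -m - 1) with
  | zero => exact fun X => ⟨0, (hvan F a (le_max_left _ _) ha _ X (by omega)).eq_of_src _ _,
      (hvan G a' (le_max_right _ _) ha' _ X (by omega)).eq_of_src _ _⟩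
  | pred i hi _ => exact fun X => ⟨0, (hvan F a (le_max_left _ _) ha _ X (by omega)).eq_of_src _ _,
      (hvan G a' (le_max_right _ _) ha' _ X (by omega)).eq_of_src _ _⟩
  | succ i hi ih =>
    have hseq : ∀ X : A, ∃ (Y : A) (X' : A) (R₁ R₂ : ComposableArrows B 5) (φ : R₁ ⟶ R₂), P Y ∧ R₁.Exact ∧ R₂.Exact ∧
        ((IsIso ((DerivedCategory.homologyFunctor B i).map (η.app (s.obj Y))) → Epi (ComposableArrows.app' φ 1)) ∧
        (IsIso ((DerivedCategory.homologyFunctor B i).map (η.app (s.obj X'))) → IsIso (ComposableArrows.app' φ 2)) ∧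
        (IsIso ((DerivedCategory.homologyFunctor B (i + 1)).map (η.app (s.obj Y))) → IsIso (ComposableArrows.app' φ 4)) ∧
        (Mono ((DerivedCategory.homologyFunctor B (i + 1)).map (η.app (s.obj X'))) → Mono (ComposableArrows.app' φ 5)) ∧
        (IsIso ((DerivedCategory.homologyFunctor B i).map (η.app (s.obj Y))) → IsIso (ComposableArrows.app' φ 1)) ∧
        (IsIso (ComposableArrows.app' φ 3) → IsIso ((DerivedCategory.homologyFunctor B (i + 1)).map (η.app (s.obj X)))) ∧
        (Mono (ComposableArrows.app' φ 3) → Mono ((DerivedCategory.homologyFunctor B (i + 1)).map (η.app (s.obj X))))) := by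
      intro X
      obtain ⟨Y, j, hY, hj⟩ := hP X
      let S := ShortComplex.mk j (cokernel.π j) (cokernel.condition _)
      have hS : S.ShortExact :=
        { exact := S.exact_of_g_is_cokernel (cokernelIsCokernel _), mono_f := hj, epi_g := inferInstanceAs (Epi (cokernel.π j)) }
      let T := hS.singleTriangle
      have hT := hS.singleTriangle_distinguished
      let Φ : F.mapTriangle.obj T ⟶ G.mapTriangle.obj T :=
        { hom₁ := η.app _, hom₂ := η.app _, hom₃ := η.app _
          comm₁ := η.naturality _, comm₂ := η.naturality _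
          comm₃ := by
            change (F.map T.mor₃ ≫ (F.commShiftIso (1 : ℤ)).hom.app T.obj₁) ≫ (η.app T.obj₁)⟦(1 : ℤ)⟧' =
              η.app T.obj₃ ≫ G.map T.mor₃ ≫ (G.commShiftIso (1 : ℤ)).hom.app T.obj₁
            rw [Category.assoc, NatTrans.shift_app_comm η (1 : ℤ), ← Category.assoc, η.naturality, Category.assoc] }
      refine ⟨Y, cokernel j, H.homologySequenceComposableArrows₅ (F.mapTriangle.obj T) i (i + 1) rfl,
        H.homologySequenceComposableArrows₅ (G.mapTriangle.obj T) i (i + 1) rfl,
        ComposableArrows.homMk₅ ((H.shift i).map Φ.hom₁) ((H.shift i).map Φ.hom₂) ((H.shift i).map Φ.hom₃)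
          ((H.shift (i + 1)).map Φ.hom₁) ((H.shift (i + 1)).map Φ.hom₂) ((H.shift (i + 1)).map Φ.hom₃) ?_ ?_ ?_ ?_ ?_,
        hY, H.homologySequenceComposableArrows₅_exact _ (F.map_distinguished _ hT) _ _ _,
        H.homologySequenceComposableArrows₅_exact _ (G.map_distinguished _ hT) _ _ _,
        fun h => @IsIso.epi_of_iso _ _ _ _ _ h,
        fun h => h, fun h => h, fun h => h, fun h => h, fun h => h, fun h => h⟩
      · change (H.shift i).map _ ≫ (H.shift i).map _ = (H.shift i).map _ ≫ (H.shift i).map _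
        rw [← Functor.map_comp, ← Functor.map_comp, Φ.comm₁]
      · change (H.shift i).map _ ≫ (H.shift i).map _ = (H.shift i).map _ ≫ (H.shift i).map _
        rw [← Functor.map_comp, ← Functor.map_comp, Φ.comm₂]
      · exact (H.homologySequenceδ_naturality _ _ Φ i (i + 1) rfl).symm
      · change (H.shift (i + 1)).map _ ≫ (H.shift (i + 1)).map _ = (H.shift (i + 1)).map _ ≫ (H.shift (i + 1)).map _
        rw [← Functor.map_comp, ← Functor.map_comp, Φ.comm₁]
      · change (H.shift (i + 1)).map _ ≫ (H.shift (i + 1)).map _ = (H.shift (i + 1)).map _ ≫ (H.shift (i + 1)).map _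
        rw [← Functor.map_comp, ← Functor.map_comp, Φ.comm₂]
    have hPiso : ∀ (n : ℤ) (Y : A), P Y → IsIso ((DerivedCategory.homologyFunctor B n).map (η.app (s.obj Y))) :=
      fun n Y hY => by have : IsIso (η.app (s.obj Y)) := hη Y hY; infer_instance
    have hmono : ∀ X : A, Mono ((DerivedCategory.homologyFunctor B (i + 1)).map (η.app (s.obj X))) := fun X => by
      obtain ⟨Y, X', R₁, R₂, φ, hY, h1, h2, a1, a2, a4, -, -, -, c⟩ := hseq X
      have := a2 (ih X')
      have := a4 (hPiso _ Y hY)
      exact c (Abelian.mono_of_epi_of_mono_of_mono'' (k := 1) (by omega) h1 h2 φ 1 2 3 4 rfl rfl rfl rfl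
        (a1 (hPiso _ Y hY)) inferInstance inferInstance)
    intro X
    obtain ⟨Y, X', R₁, R₂, φ, hY, h1, h2, a1, a2, a4, a5, b1, c, -⟩ := hseq X
    exact c (Abelian.isIso_of_epi_of_isIso_of_isIso_of_mono' (k := 1) (by omega) h1 h2 φ 1 2 3 4 5 rfl rfl rfl rfl rfl
      (a1 (hPiso _ Y hY)) (a2 (ih X')) (a4 (hPiso _ Y hY)) (a5 (hmono X')))

end Groth.Agent.S11152
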