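import Groth.Statements.S11153
import Mathlib.Algebra.Homology.DerivedCategory.KInjective
import Mathlib.Algebra.Homology.HomotopyCategory.HomComplexSingle
import Mathlib.Algebra.Homology.DerivedCategory.DerivabilityStructureInjectives
import Mathlib.Algebra.Homology.Embedding.CochainComplex
-- import your own Groth.Agent.* helpers here

set_option autoImplicit false
universe w v u
open CategoryTheory CategoryTheory.Limits
open CohDer

namespace Groth.Agent.S11153

/-- (i) ⇔ (iii): let A be an abelian category with enough injectives and K a bounded below cochain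
complex of objects of A. Then K admits a quasi-isomorphism into a bounded complex of injective
objects of A if and only if there is an integer n₀ such that Hom_{D(A)}(Y[0], K[i]) = 0 for every
object Y of A and every i > n₀. -/
theorem result {A : Type u} [Category.{v} A] [Abelian A]
    [HasDerivedCategory.{w} A] [EnoughInjectives A]
    (K : CochainComplex A ℤ) (a : ℤ) [K.IsStrictlyGE a] :
    (∃ (I : CochainComplex A ℤ) (b c : ℤ) (f : K ⟶ I), I.IsStrictlyGE b ∧ I.IsStrictlyLE c ∧
        (∀ n : ℤ, Injective (I.X n)) ∧ QuasiIso f) ↔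
      ∃ n₀ : ℤ, ∀ (Y : A) (i : ℤ), n₀ < i →
        ∀ φ : (DerivedCategory.singleFunctor A 0).obj Y ⟶ (DerivedCategory.Q.obj K)⟦i⟧, φ = 0 := by
  classical
  constructor
  · rintro ⟨I, b, c, f, _, _, hI, hf⟩
    have : I.IsKInjective := CochainComplex.isKInjective_of_injective I b
    refine ⟨c, fun Y i hi φ => ?_⟩
    let e : (DerivedCategory.Q.obj K)⟦i⟧ ≅ DerivedCategory.Q.obj (I⟦i⟧) :=
      (shiftFunctor (DerivedCategory A) i).mapIso (asIso (DerivedCategory.Q.map f)) ≪≫
        ((DerivedCategory.Q.commShiftIso i).app I).symm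
    let e₀ := (DerivedCategory.singleFunctorIsoCompQ A 0).app Y
    have : (I⟦i⟧).IsKInjective := (CochainComplex.isKInjective_shift_iff I i).2 inferInstance
    obtain ⟨g, hg⟩ := (CochainComplex.IsKInjective.Qh_map_bijective
      ((HomotopyCategory.quotient _ _).obj ((CochainComplex.singleFunctor A 0).obj Y)) (I⟦i⟧)).2
      ((DerivedCategory.quotientCompQhIso A).hom.app _ ≫ (e₀.inv ≫ φ ≫ e.hom) ≫
        (DerivedCategory.quotientCompQhIso A).inv.app _)
    obtain ⟨g', rfl⟩ := (HomotopyCategory.quotient _ _).map_surjective g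
    have hg' : g' = 0 := HomologicalComplex.from_single_hom_ext
      ((I.isZero_of_isStrictlyLE c (0 + i) (by omega)).eq_of_tgt _ _)
    rw [hg', Functor.map_zero, Functor.map_zero] at hg
    have h1 := hg.symm
    rw [← Category.assoc, Preadditive.IsIso.comp_right_eq_zero, Preadditive.IsIso.comp_left_eq_zero,
      Preadditive.IsIso.comp_left_eq_zero, Preadditive.IsIso.comp_right_eq_zero] at h1
    exact h1
  · rintro ⟨n₀, hn₀⟩
    obtain ⟨L, iK, hq, _, _, hLa⟩ : ∃ (L : CochainComplex A ℤ) (iK : K ⟶ L), QuasiIso iK ∧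
        (∀ n, Injective (L.X n)) ∧ L.IsStrictlyGE a ∧ True := by
      obtain ⟨L, i, h1, h2, h3⟩ := CochainComplex.Plus.modelCategoryQuillen.exists_quasiIso_injective K a
      exact ⟨L, i, inferInstance, inferInstance, inferInstance, trivial⟩
    have : L.IsKInjective := CochainComplex.isKInjective_of_injective L a
    let n := max n₀ a
    have key : ∀ (q q' q'' : ℤ) (_ : n < q) (_ : q + 1 = q') (_ : q'' + 1 = q) (Y : A) (y : Y ⟶ L.X q),
        y ≫ L.d q q' = 0 → ∃ g : Y ⟶ L.X q'', g ≫ L.d q'' q = y := by
      intro q q' q'' hnq hq' hq'' Y y hy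
      rw [← CochainComplex.HomComplex.Cocycle.fromSingleMk_mem_coboundaries_iff y (zero_add q) q' hq' hy q'' hq'',
        ← CochainComplex.HomComplex.CohomologyClass.toHom_mk_eq_zero_iff]
      have : (L⟦q⟧).IsKInjective := (CochainComplex.isKInjective_shift_iff L q).2 inferInstance
      apply (CochainComplex.IsKInjective.Qh_map_bijective _ _).1
      rw [Functor.map_zero]
      let t := DerivedCategory.Qh.map (CochainComplex.HomComplex.CohomologyClass.toHom
        (CochainComplex.HomComplex.CohomologyClass.mk
          (CochainComplex.HomComplex.Cocycle.fromSingleMk y (zero_add q) q' hq' hy)))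
      let e : DerivedCategory.Qh.obj ((HomotopyCategory.quotient _ _).obj (L⟦q⟧)) ≅ (DerivedCategory.Q.obj K)⟦q⟧ :=
        (DerivedCategory.quotientCompQhIso A).app _ ≪≫ (DerivedCategory.Q.commShiftIso q).app L ≪≫
          ((shiftFunctor (DerivedCategory A) q).mapIso (asIso (DerivedCategory.Q.map iK))).symm
      let e₀ : (DerivedCategory.singleFunctor A 0).obj Y ≅
          DerivedCategory.Qh.obj ((HomotopyCategory.quotient _ _).obj ((CochainComplex.singleFunctor A 0).obj Y)) :=
        (DerivedCategory.singleFunctorIsoCompQ A 0).app Y ≪≫ ((DerivedCategory.quotientCompQhIso A).app _).symm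
      have h0 : e₀.hom ≫ t ≫ e.hom = 0 := hn₀ Y q (lt_of_le_of_lt (le_max_left _ _) hnq) _
      rw [Preadditive.IsIso.comp_left_eq_zero, Preadditive.IsIso.comp_right_eq_zero] at h0
      exact h0
    have hLE : L.IsLE n := by
      refine (CochainComplex.isLE_iff _ _).2 fun q hq => ?_
      rw [HomologicalComplex.exactAt_iff' _ (q - 1) q (q + 1) (by simp) (by simp),
        ShortComplex.exact_iff_exact_up_to_refinements]
      intro Y y hy
      obtain ⟨g, hg⟩ := key q (q + 1) (q - 1) hq rfl (by omega) Y y hy
      exact ⟨Y, 𝟙 _, inferInstance, g, (Category.id_comp y).trans hg.symm⟩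
    obtain ⟨g, hg⟩ := key (n + 1) (n + 1 + 1) n (by omega) rfl rfl _ (L.iCycles (n + 1)) (L.iCycles_d _ _)
    let r0 : L.X n ⟶ L.X n := 𝟙 _ - L.toCycles n (n + 1) ≫ g
    have hr0 : r0 ≫ L.d n (n + 1) = 0 := by
      simp only [r0, Preadditive.sub_comp, Category.id_comp, Category.assoc, hg,
        HomologicalComplex.toCycles_i, sub_self]
    let r : L.X n ⟶ L.cycles n := L.liftCycles r0 (n + 1) (by simp) hr0
    have hr : L.iCycles n ≫ r = 𝟙 _ := by
      rw [← cancel_mono (L.iCycles n)]
      have : L.iCycles n ≫ L.toCycles n (n + 1) = 0 := by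
        rw [← cancel_mono (L.iCycles (n + 1))]; simp
      simp [r, r0, reassoc_of% this]
    have hcyc : Injective (L.cycles n) :=
      ⟨fun g f _ => ⟨Injective.factorThru (g ≫ L.iCycles n) f ≫ r, by
        rw [← Category.assoc, Injective.comp_factorThru, Category.assoc, hr, Category.comp_id]⟩⟩
    have hinj : ∀ q, Injective ((L.truncLE n).X q) := fun q => by
      rcases lt_trichotomy q n with hlt | rfl | hgt
      · exact Injective.of_iso (L.truncLEXIso n q hlt).symm inferInstance
      · exact Injective.of_iso (L.truncLEXIsoCycles n).symm inferInstance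
      · exact ((L.truncLE n).isZero_of_isStrictlyLE n q hgt).injective
    have : (L.truncLE n).IsStrictlyGE a := inferInstance
    have : (L.truncLE n).IsKInjective := CochainComplex.isKInjective_of_injective _ a
    obtain ⟨e, he⟩ := (CochainComplex.IsKInjective.quasiIso_iff (L.ιTruncLE n)).1 inferInstance
    refine ⟨L.truncLE n, a, n, iK ≫ e.inv, inferInstance, inferInstance, hinj, ?_⟩
    have : QuasiIso e.inv := homotopyEquivalences_le_quasiIso _ _ _ ⟨e.symm, rfl⟩
    infer_instance

end Groth.Agent.S11153
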