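import Groth.Statements.S11154
import Groth.Agent.L29.Sib.SkyInj
import Groth.Agent.L16.QcqsPush
import Groth.Agent.L04.Matlis

set_option autoImplicit false
set_option backward.isDefEq.respectTransparency false
universe u
open CategoryTheory CategoryTheory.Limits AlgebraicGeometry
open Coherent

namespace Groth.Agent.S11154

/-- Let X be a locally Noetherian scheme, x a point of X, and k(x) → E an injective hull of the residue
field over the local ring O_{X,x}. Then the direct image along Spec O_{X,x} ⟶ X of the sheaf E~ on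
Spec O_{X,x} is an injective O_X-module (an injective object of the category of O_X-modules), and it
is quasi-coherent. -/
theorem result {X : Scheme.{u}} [IsLocallyNoetherian X]
    (x : X) (E : Type u) [AddCommGroup E] [Module (X.presheaf.stalk x) E]
    (i : IsLocalRing.ResidueField (X.presheaf.stalk x) →ₗ[X.presheaf.stalk x] E)
    (hi : InjHull.IsInjectiveHull i) :
    Injective ((Scheme.Modules.pushforward (X.fromSpecStalk x)).obj
        (tilde (ModuleCat.of (X.presheaf.stalk x) E))) ∧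
      Coh.IsQCoh ((Scheme.Modules.pushforward (X.fromSpecStalk x)).obj
        (tilde (ModuleCat.of (X.presheaf.stalk x) E))) := by
  let g := X.fromSpecStalk x
  let O := X.presheaf.stalk x
  let M : ModuleCat.{u} O := ModuleCat.of O E
  let m : Spec O := IsLocalRing.closedPoint O
  have hm : g m = x := Scheme.fromSpecStalk_closedPoint
  have htor := Groth.L04.hull_isPowerTorsion hi
  have htop : ∀ W : (Spec O).Opens, m ∈ W → W = ⊤ := fun W hW =>
    top_le_iff.1 fun y _ => (IsLocalRing.specializes_closedPoint y).mem_open W.2 hW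
  have hE : Function.Bijective (tilde.toOpen M ⊤).hom :=
    (ConcreteCategory.isIso_iff_bijective (tilde.toOpen M ⊤)).1 inferInstance
  have hzero : ∀ W : (Spec O).Opens, m ∉ W → Subsingleton Γ(tilde M, W) := by
    intro W hW
    refine subsingleton_of_forall_eq 0 fun y => ?_
    refine TopCat.Sheaf.eq_of_locally_eq' ((Groth.L21.Mod.toAbSh (Spec O)).obj (tilde M))
      (fun f : {f : O // PrimeSpectrum.basicOpen f ≤ W} => (PrimeSpectrum.basicOpen f.1 : (Spec O).Opens)) W
      (fun f => homOfLE f.2) (fun q hq => ?_) _ _ fun f => ?_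
    · obtain ⟨_, ⟨f, rfl⟩, hqf, hfW⟩ := TopologicalSpace.Opens.isBasis_iff_nbhd.1 PrimeSpectrum.isBasis_basic_opens hq
      exact TopologicalSpace.Opens.mem_iSup.2 ⟨⟨f, hfW⟩, hqf⟩
    · have hf : f.1 ∈ IsLocalRing.maximalIdeal O := by_contra fun h => hW (f.2 h)
      haveI : Subsingleton Γ(tilde M, PrimeSpectrum.basicOpen f.1) :=
        Groth.L29.SkyInj.subsingleton_basicOpen M f.1 fun e => by
          obtain ⟨n, hn⟩ := htor e
          exact ⟨n, hn _ (Ideal.pow_mem_pow hf n)⟩
      exact @Subsingleton.elim Γ(tilde M, PrimeSpectrum.basicOpen f.1) this _ _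
  have htopiff : ∀ U : X.Opens, x ∈ U → g ⁻¹ᵁ U = ⊤ := fun U hU => htop _ (show g m ∈ U from hm.symm ▸ hU)
  let P := (Scheme.Modules.pushforward g).obj (tilde M)
  have hres : ∀ (U V : X.Opens) (h : V ≤ U), x ∈ V → Function.Bijective (Groth.L18.Frame.rs P h) := by
    intro U V h hV
    have he : g ⁻¹ᵁ U ≤ g ⁻¹ᵁ V := by rw [htopiff V hV]; exact le_top
    refine Function.bijective_iff_has_inverse.2 ⟨fun s => Groth.L18.Frame.rs (tilde M) he s, fun s => ?_, fun s => ?_⟩
    · exact (Groth.L18.Frame.rs_rs (tilde M) _ _ _).trans (Groth.L18.Frame.rs_self _ _ _)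
    · exact (Groth.L18.Frame.rs_rs (tilde M) _ _ _).trans (Groth.L18.Frame.rs_self _ _ _)
  have hgerm : ∀ (U : X.Opens) (hU : x ∈ U), Function.Bijective (P.presheaf.germ U x hU) := by
    intro U hU
    refine ⟨fun a b hab => ?_, fun s => ?_⟩
    · obtain ⟨W, hW, i₁, i₂, h⟩ := TopCat.Presheaf.germ_eq P.presheaf x hU hU a b hab
      exact (hres U W i₁.le hW).1 h
    · obtain ⟨W, hW, s', rfl⟩ := P.presheaf.exists_germ_eq (x := x) s
      obtain ⟨t, ht⟩ := (hres U (U ⊓ W) inf_le_left ⟨hU, hW⟩).2 (Groth.L18.Frame.rs P inf_le_right s')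
      refine ⟨t, ?_⟩
      rw [← Groth.L20.ModStalk.germ_rs P inf_le_left ⟨hU, hW⟩ t, ht, Groth.L20.ModStalk.germ_rs]
  refine ⟨Groth.L29.SkyInj.injective_of_sky P x Set.univ ?_ (fun U _ hU => hgerm U hU)
    (fun U _ hU => hzero _ (show g m ∉ U from hm.symm ▸ hU)) ?_, ?_⟩
  · exact TopologicalSpace.Opens.isBasis_iff_nbhd.2 fun {U y} hy => ⟨U, trivial, hy, le_rfl⟩
  · let ψ : E → P.presheaf.stalk x := fun e => P.presheaf.germ ⊤ x trivial ((tilde.toOpen M (g ⁻¹ᵁ ⊤)).hom e)
    have hψ : Function.Bijective ψ := (hgerm ⊤ trivial).comp hE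
    have hsmul : ∀ (r : O) (e : E), ψ (r • e) = r • ψ e := by
      intro r e
      obtain ⟨U, hU, a, rfl⟩ := TopCat.Presheaf.exists_germ_eq (F := X.presheaf) (x := x) r
      have hU' : ∀ e' : E, ψ e' = P.presheaf.germ U x hU ((tilde.toOpen M (g ⁻¹ᵁ U)).hom e') := fun e' => by
        refine (Groth.L20.ModStalk.germ_rs P (le_top : U ≤ ⊤) hU _).symm.trans ?_
        exact congrArg (P.presheaf.germ U x hU) (ConcreteCategory.congr_hom
          (tilde.toOpen_res M (g ⁻¹ᵁ ⊤) (g ⁻¹ᵁ U) (homOfLE fun _ _ => trivial)) e')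
      rw [hU', hU', map_smul]
      refine Eq.trans (congrArg _ ?_) (Groth.L20.ModStalk.germ_smul P hU a _)
      refine (IsScalarTower.algebraMap_smul Γ(Spec O, g ⁻¹ᵁ U) (X.presheaf.germ U x hU a)
        (show Γ(tilde M, g ⁻¹ᵁ U) from (tilde.toOpen M (g ⁻¹ᵁ U)).hom e)).symm.trans ?_
      show _ = g.app U a • (show Γ(tilde M, g ⁻¹ᵁ U) from (tilde.toOpen M (g ⁻¹ᵁ U)).hom e)
      rw [Scheme.fromSpecStalk_app hU]
      rfl
    exact Groth.L29.SkyInj.injective_of_semilinear (RingHom.id O) ⊥
      (fun t ht => by rw [Submonoid.mem_bot.1 ht]; exact isUnit_one)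
      (fun s => ⟨1, Submonoid.one_mem _, s, one_mul s⟩) ψ hψ
      (fun a b => by simp only [ψ, map_add]) hsmul hi.isInjective
  · haveI : QuasiSeparatedSpace X := inferInstance
    haveI : Coh.IsQCoh (tilde M) := inferInstance
    haveI : QuasiCompact g := quasiCompact_of_compactSpace g
    exact Groth.L16.QcqsPush.isQCoh_push (tilde M) g

end Groth.Agent.S11154
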