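import Groth.Statements.S11159
import Mathlib.Algebra.Homology.DerivedCategory.KInjective
import Mathlib.Algebra.Homology.HomotopyCategory.MappingCone
-- import your own Groth.Agent.* helpers here

set_option autoImplicit false
universe w v u
open CategoryTheory CategoryTheory.Limits CategoryTheory.Pretriangulated
open CohDer

namespace Groth.Agent.S11159

/-- Let A be an abelian category with enough injectives and X ⟶ Y ⟶ Z ⟶ X⟦1⟧ a distinguished triangle in
D(A). If X and Z are each isomorphic in D(A) to a bounded complex of injective objects of A, then so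
is Y. -/
theorem result {A : Type u} [Category.{v} A] [Abelian A]
    [HasDerivedCategory.{w} A] [EnoughInjectives A]
    (T : Triangle (DerivedCategory A)) (hT : T ∈ distTriang (DerivedCategory A))
    (h₁ : (∃ (I : CochainComplex A ℤ) (b c : ℤ), I.IsStrictlyGE b ∧ I.IsStrictlyLE c ∧
        (∀ n : ℤ, Injective (I.X n)) ∧ Nonempty (T.obj₁ ≅ DerivedCategory.Q.obj I)))
    (h₃ : (∃ (I : CochainComplex A ℤ) (b c : ℤ), I.IsStrictlyGE b ∧ I.IsStrictlyLE c ∧
        (∀ n : ℤ, Injective (I.X n)) ∧ Nonempty (T.obj₃ ≅ DerivedCategory.Q.obj I))) :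
    (∃ (I : CochainComplex A ℤ) (b c : ℤ), I.IsStrictlyGE b ∧ I.IsStrictlyLE c ∧
        (∀ n : ℤ, Injective (I.X n)) ∧ Nonempty (T.obj₂ ≅ DerivedCategory.Q.obj I)) := by
  classical
  obtain ⟨I, b, c, _, _, hI, ⟨e1⟩⟩ := h₁
  obtain ⟨I', b', c', _, _, hI', ⟨e3⟩⟩ := h₃
  have hK : I.IsKInjective := CochainComplex.isKInjective_of_injective I b
  let J := I'⟦(-1 : ℤ)⟧
  let T' := T.invRotate
  have hT' : T' ∈ distTriang (DerivedCategory A) := inv_rot_of_distTriang _ hT
  let e0 : T'.obj₁ ≅ DerivedCategory.Q.obj J :=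
    (shiftFunctor (DerivedCategory A) (-1 : ℤ)).mapIso e3 ≪≫ ((DerivedCategory.Q.commShiftIso (-1 : ℤ)).app I').symm
  let φ : DerivedCategory.Q.obj J ⟶ DerivedCategory.Q.obj I := e0.inv ≫ T'.mor₁ ≫ e1.hom
  obtain ⟨g, hg⟩ := (CochainComplex.IsKInjective.Qh_map_bijective
    ((HomotopyCategory.quotient _ _).obj J) I).2 ((DerivedCategory.quotientCompQhIso A).hom.app J ≫ φ ≫
      (DerivedCategory.quotientCompQhIso A).inv.app I)
  obtain ⟨f, rfl⟩ := (HomotopyCategory.quotient _ _).map_surjective g
  have hf : DerivedCategory.Q.map f = φ := by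
    have := (DerivedCategory.quotientCompQhIso A).hom.naturality f
    rw [Functor.comp_map, hg] at this
    simp only [Category.assoc, Iso.inv_hom_id_app, Category.comp_id] at this
    exact ((cancel_epi _).1 this).symm
  let i := isoTriangleOfIso₁₂ T' (DerivedCategory.Q.mapTriangle.obj (CochainComplex.mappingCone.triangle f))
    hT' (DerivedCategory.mappingCone_triangle_distinguished f) e0 e1 (by
      change T'.mor₁ ≫ e1.hom = e0.hom ≫ DerivedCategory.Q.map f
      rw [hf]
      exact (e0.hom_inv_id_assoc _).symm)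
  refine ⟨CochainComplex.mappingCone f, min b b', max c c', ?_, ?_, fun n => ?_, ⟨Triangle.π₃.mapIso i⟩⟩
  · refine (CochainComplex.isStrictlyGE_iff _ _).2 fun n hn => ?_
    exact (CochainComplex.mappingCone.isZero_X_iff f _).2
      ⟨I'.isZero_of_isStrictlyGE b' (n + 1 + -1) (by omega), I.isZero_of_isStrictlyGE b n (by omega)⟩
  · refine (CochainComplex.isStrictlyLE_iff _ _).2 fun n hn => ?_
    exact (CochainComplex.mappingCone.isZero_X_iff f _).2
      ⟨I'.isZero_of_isStrictlyLE c' (n + 1 + -1) (by omega), I.isZero_of_isStrictlyLE c n (by omega)⟩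
  · have : Injective (J.X (n + 1)) := hI' (n + 1 + -1)
    have := hI n
    exact Injective.of_iso (HomologicalComplex.homotopyCofiber.XIsoBiprod f n (n + 1) rfl).symm inferInstance

end Groth.Agent.S11159
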