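import Groth.Statements.S11160
import Groth.Agent.L10.ClassRes
import Mathlib.Algebra.Homology.DerivedCategory.KInjective
import Mathlib.Algebra.Homology.DerivedCategory.TStructure
import Mathlib.Algebra.Homology.DerivedCategory.ExactFunctor
-- import your own Groth.Agent.* helpers here

set_option autoImplicit false
universe w w' v v' u u'
open CategoryTheory CategoryTheory.Limits
open CohDer

namespace Groth.Agent.S11160

/-- Let ι : A' ⥤ A be an exact fully faithful functor of abelian categories whose essential image is
closed under extensions (a thick abelian subcategory), and suppose every object of A' admits a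
monomorphism into an object of A' whose image in A is injective (A' has enough A-injectives). Then
the induced triangulated functor D(A') ⥤ D(A) is fully faithful on cohomologically bounded below
objects. -/
theorem result {A' : Type u'} [Category.{v'} A'] [Abelian A'] [HasDerivedCategory.{w'} A']
    {A : Type u} [Category.{v} A] [Abelian A] [HasDerivedCategory.{w} A]
    (ι : A' ⥤ A) [ι.Additive] [PreservesFiniteLimits ι] [PreservesFiniteColimits ι] [ι.Full] [ι.Faithful]
    (hext : ∀ S : ShortComplex A, S.ShortExact → ι.essImage S.X₁ → ι.essImage S.X₃ → ι.essImage S.X₂)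
    (hinj : ∀ X' : A', ∃ (Y' : A') (i : X' ⟶ Y'), Mono i ∧ Injective (ι.obj Y'))
    (X Y : DerivedCategory A') (a b : ℤ) [X.IsGE a] [Y.IsGE b] :
    Function.Bijective (fun f : X ⟶ Y => ι.mapDerivedCategory.map f) := by
  obtain ⟨K, _, ⟨eX⟩⟩ := DerivedCategory.exists_iso_Q_obj_of_isGE X a
  obtain ⟨K', _, ⟨eY⟩⟩ := DerivedCategory.exists_iso_Q_obj_of_isGE Y b
  obtain ⟨I, α, hI, hinjI, -, hq⟩ := Groth.L10.ClassRes.exists_res (fun Y' => Injective (ι.obj Y'))
    (fun X' => by obtain ⟨Y', i, hi, hY'⟩ := hinj X'; exact ⟨Y', i, hY', hi⟩)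
    ⟨_, isZero_zero A', (ι.map_isZero (isZero_zero A')).injective⟩ K' b
  let eY' : Y ≅ DerivedCategory.Q.obj I := eY ≪≫ asIso (DerivedCategory.Q.map α)
  suffices H : Function.Bijective (fun f : DerivedCategory.Q.obj K ⟶ DerivedCategory.Q.obj I =>
      ι.mapDerivedCategory.map f) by
    have h := (((ι.mapDerivedCategory.mapIso eX).homCongr (ι.mapDerivedCategory.mapIso eY')).symm.bijective.comp
      H).comp (eX.homCongr eY').bijective
    refine (congrArg Function.Bijective ?_).mp h
    ext f
    simp [Iso.homCongr]
  have hIK : I.IsKInjective := by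
    have : ∀ n, Injective (I.X n) := fun n => by
      have := hinjI n
      exact ⟨fun g f _ => ⟨ι.preimage (Injective.factorThru (ι.map g) (ι.map f)), ι.map_injective (by simp)⟩⟩
    exact CochainComplex.isKInjective_of_injective I b
  have hιI : CochainComplex.IsKInjective ((ι.mapHomologicalComplex (.up ℤ)).obj I) := by
    have : ∀ n, Injective (((ι.mapHomologicalComplex (.up ℤ)).obj I).X n) := hinjI
    exact CochainComplex.isKInjective_of_injective _ b
  have key : ∀ {A₀ : Type u'} [Category.{v'} A₀] [Abelian A₀] [HasDerivedCategory.{w'} A₀]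
      (K₀ I₀ : CochainComplex A₀ ℤ) [I₀.IsKInjective] (φ : DerivedCategory.Q.obj K₀ ⟶ DerivedCategory.Q.obj I₀),
      ∃ g : K₀ ⟶ I₀, DerivedCategory.Q.map g = φ := by
    intro A₀ _ _ _ K₀ I₀ _ φ
    obtain ⟨g, hg⟩ := (CochainComplex.IsKInjective.Qh_map_bijective
      ((HomotopyCategory.quotient _ _).obj K₀) I₀).2 ((DerivedCategory.quotientCompQhIso A₀).hom.app K₀ ≫ φ ≫
        (DerivedCategory.quotientCompQhIso A₀).inv.app I₀)
    obtain ⟨g', rfl⟩ := (HomotopyCategory.quotient _ _).map_surjective g
    refine ⟨g', ?_⟩
    have := (DerivedCategory.quotientCompQhIso A₀).hom.naturality g'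
    rw [Functor.comp_map, hg] at this
    simp only [Category.assoc, Iso.inv_hom_id_app, Category.comp_id] at this
    exact ((cancel_epi _).1 this).symm
  let θ := ι.mapDerivedCategoryFactors
  constructor
  · intro f₁ f₂ h
    obtain ⟨g₁, rfl⟩ := key K I f₁
    obtain ⟨g₂, rfl⟩ := key K I f₂
    simp only [] at h
    have h' : DerivedCategory.Q.map ((ι.mapHomologicalComplex (.up ℤ)).map g₁) =
        DerivedCategory.Q.map ((ι.mapHomologicalComplex (.up ℤ)).map g₂) := by
      have e₁ := θ.hom.naturality g₁
      have e₂ := θ.hom.naturality g₂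
      rw [← cancel_epi (θ.hom.app K)]
      exact (e₁.symm.trans (congrArg (· ≫ θ.hom.app I) h)).trans e₂
    have hh : (HomotopyCategory.quotient A _).map ((ι.mapHomologicalComplex (.up ℤ)).map g₁) =
        (HomotopyCategory.quotient A _).map ((ι.mapHomologicalComplex (.up ℤ)).map g₂) := by
      refine (CochainComplex.IsKInjective.Qh_map_bijective _ _).1 ?_
      rw [← cancel_mono ((DerivedCategory.quotientCompQhIso A).hom.app _)]
      exact ((DerivedCategory.quotientCompQhIso A).hom.naturality _).trans
        ((congrArg (_ ≫ ·) h').trans ((DerivedCategory.quotientCompQhIso A).hom.naturality _).symm)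
    obtain H := HomotopyCategory.homotopyOfEq _ _ hh
    have hg : (HomotopyCategory.quotient A' _).map g₁ = (HomotopyCategory.quotient A' _).map g₂ :=
      HomotopyCategory.eq_of_homotopy _ _
        { hom := fun i j => ι.preimage (H.hom i j)
          zero := fun i j hij => ι.map_injective (by
            exact (ι.map_preimage _).trans ((H.zero i j hij).trans (ι.map_zero _ _).symm))
          comm := fun i => ι.map_injective (by
            refine (H.comm i).trans ?_
            simp only [dNext, prevD, AddMonoidHom.mk'_apply, Functor.map_add, Functor.map_comp]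
            erw [ι.map_preimage, ι.map_preimage]
            rfl) }
    have e₁ := (DerivedCategory.quotientCompQhIso A').hom.naturality g₁
    have e₂ := (DerivedCategory.quotientCompQhIso A').hom.naturality g₂
    rw [← cancel_epi ((DerivedCategory.quotientCompQhIso A').hom.app K)]
    exact e₁.symm.trans ((congrArg (fun z => DerivedCategory.Qh.map z ≫ _) hg).trans e₂)
  · intro φ
    obtain ⟨g, hg⟩ : ∃ g : (ι.mapHomologicalComplex (.up ℤ)).obj K ⟶ (ι.mapHomologicalComplex (.up ℤ)).obj I,
        DerivedCategory.Q.map g = θ.inv.app K ≫ φ ≫ θ.hom.app I := by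
      obtain ⟨g, hg⟩ := (CochainComplex.IsKInjective.Qh_map_bijective
        ((HomotopyCategory.quotient _ _).obj ((ι.mapHomologicalComplex (.up ℤ)).obj K))
        ((ι.mapHomologicalComplex (.up ℤ)).obj I)).2 ((DerivedCategory.quotientCompQhIso A).hom.app _ ≫
          (θ.inv.app K ≫ φ ≫ θ.hom.app I) ≫ (DerivedCategory.quotientCompQhIso A).inv.app _)
      obtain ⟨g', rfl⟩ := (HomotopyCategory.quotient _ _).map_surjective g
      refine ⟨g', ?_⟩
      have := (DerivedCategory.quotientCompQhIso A).hom.naturality g'
      rw [Functor.comp_map, hg] at this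
      simp only [Category.assoc, Iso.inv_hom_id_app, Category.comp_id] at this
      exact ((cancel_epi _).1 this).symm.trans (by erw [Category.comp_id])
    let g₀ : K ⟶ I :=
      { f := fun i => ι.preimage (g.f i)
        comm' := fun i j _ => ι.map_injective (by
          rw [Functor.map_comp, Functor.map_comp]
          erw [ι.map_preimage, ι.map_preimage]
          exact g.comm i j) }
    refine ⟨DerivedCategory.Q.map g₀, ?_⟩
    have e : (ι.mapHomologicalComplex (.up ℤ)).map g₀ = g := by
      ext i; exact ι.map_preimage _
    have := θ.hom.naturality g₀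
    rw [← cancel_mono (θ.hom.app I)]
    refine this.trans ?_
    rw [Functor.comp_map, e, hg, Iso.hom_inv_id_app_assoc]

end Groth.Agent.S11160
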