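import Groth.Statements.S11164
import Groth.Agent.L00.FlatCover
import Groth.Agent.L29.DCoh.ExtZero
import Groth.Agent.L29.DCoh.Flat
import Groth.Agent.L16.ProjSpace.Twist
set_option linter.style.haveILetI false
set_option backward.isDefEq.respectTransparency false
set_option backward.isDefEq.respectTransparency.types false


set_option autoImplicit false
universe u
open CategoryTheory CategoryTheory.Limits AlgebraicGeometry
attribute [local instance] HasDerivedCategory.standard
open Coherent

namespace Groth.Agent.S11164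

theorem isFlat_extZeroUnit {X : Scheme.{u}} (U : X.Opens) : FlatMod.IsFlat (CxOX.extZeroUnit U.ι) := by
  intro x
  by_cases hx : x ∈ Set.range U.ι.base
  · obtain ⟨y, rfl⟩ := hx
    let M := CxOX.extZeroUnit U.ι
    let e : (Scheme.Modules.pullback U.ι).obj M ≅ Coh.structureModule (U : Scheme.{u}) :=
      ((Scheme.Modules.restrictFunctorIsoPullback U.ι).app M).symm ≪≫
        ((Groth.L29.DC.ExtZero.unitIso U.ι).app (Coh.structureModule (U : Scheme.{u}))).symm
    let A := X.presheaf.stalk (U.ι y)
    let B := (U : Scheme.{u}).presheaf.stalk y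
    letI : Algebra A B := (Groth.L00.PullStalk.φ U.ι y).toAlgebra
    let N := (Groth.L00.Stk.F X (U.ι y)).obj M
    haveI hB : Module.Flat B ((Groth.L00.Stk.F (U : Scheme.{u}) y).obj (Coh.structureModule (U : Scheme.{u}))) :=
      Groth.L29.DC.isFlat_structureModule (U : Scheme.{u}) y
    haveI : Module.Flat B (TensorProduct A B N) :=
      Module.Flat.of_linearEquiv (((Groth.L00.PullStalk.stalkIso U.ι y).app M).symm ≪≫
        (Groth.L00.Stk.F (U : Scheme.{u}) y).mapIso e).toLinearEquiv
    let i : A ≃ₗ[A] B := LinearEquiv.ofBijective (Algebra.linearMap A B)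
      (ConcreteCategory.bijective_of_isIso (U.ι.stalkMap y))
    haveI : Module.Flat A B := Module.Flat.of_linearEquiv i.symm
    haveI : Module.Flat A (TensorProduct A B N) := Module.Flat.trans A B _
    exact Module.Flat.of_linearEquiv ((TensorProduct.lid A N).symm.trans (TensorProduct.congr i (LinearEquiv.refl _ _)))
  · have h := Groth.L29.DC.ExtZero.isZero_stalk U.ι hx (Coh.structureModule (U : Scheme.{u}))
    haveI : Subsingleton ((Groth.L00.Stk.F X x).obj (CxOX.extZeroUnit U.ι)) :=
      ModuleCat.subsingleton_of_isZero h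
    exact (inferInstance : Module.Flat (X.presheaf.stalk x)
      ((Groth.L00.Stk.F X x).obj (CxOX.extZeroUnit U.ι)))

/-- Every O_X-module on a scheme X is a quotient of a flat O_X-module; precisely, for every O_X-module F
there are opens U_i of X and an epimorphism ∐ j_{U_i !} O_{U_i} ⟶ F, and such a direct sum of
extensions by zero of structure sheaves of opens is flat (all its stalks are flat over the local
rings). -/
theorem result {X : Scheme.{u}} (F : X.Modules) :
    ∃ (ι : Type u) (U : ι → X.Opens) (p : (∐ fun i => CxOX.extZeroUnit (U i).ι) ⟶ F),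
      Epi p ∧ FlatMod.IsFlat (∐ fun i => CxOX.extZeroUnit (U i).ι) := by
  let Ix := Σ U : X.Opens, Γ(F, U.ι ''ᵁ ⊤)
  let q : ∀ i : Ix, CxOX.extZeroUnit i.1.ι ⟶ F := fun i =>
    ((CxOX.extZeroAdj i.1.ι).homEquiv _ F).symm (Groth.L16.homOfSection (F.restrict i.1.ι) i.2)
  refine ⟨Ix, fun i => i.1, Limits.Sigma.desc q, ?_,
    Groth.L00.FlatCover.isFlat_coprod _ fun i => isFlat_extZeroUnit i.1⟩
  refine Preadditive.epi_of_cancel_zero _ fun {Z} g hg => ?_
  apply Scheme.Modules.hom_ext
  intro U
  ext s
  let hle : U.ι ''ᵁ ⊤ ≤ U := U.ι_image_top.le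
  let i : Ix := ⟨U, F.presheaf.map (homOfLE hle).op s⟩
  have h1 : q i ≫ g = 0 := by
    rw [← Limits.Sigma.ι_desc q i, Category.assoc, hg, Limits.comp_zero]
  have h2 : Groth.L16.homOfSection (F.restrict U.ι) i.2 ≫ (Scheme.Modules.restrictFunctor U.ι).map g = 0 := by
    have := congrArg ((CxOX.extZeroAdj U.ι).homEquiv _ Z) h1
    rw [Adjunction.homEquiv_naturality_right, Equiv.apply_symm_apply] at this
    refine this.trans ?_
    rw [Adjunction.homEquiv_unit, Functor.map_zero, Limits.comp_zero]
  have h3 := congrArg (fun k : Coh.structureModule (U : Scheme.{u}) ⟶ Z.restrict U.ι =>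
    k.app ⊤ (1 : Γ((U : Scheme.{u}), ⊤))) h2
  have h4 : g.app (U.ι ''ᵁ ⊤) i.2 = 0 := by
    have e : (Groth.L16.homOfSection (F.restrict U.ι) i.2).app ⊤ (1 : Γ((U : Scheme.{u}), ⊤)) = i.2 := by
      rw [Groth.L16.homOfSection_app, one_smul]
      exact congrArg (fun f => (ConcreteCategory.hom f) i.2) ((F.restrict U.ι).presheaf.map_id _)
    exact (congrArg (g.app (U.ι ''ᵁ ⊤)) e).symm.trans h3
  have hnat := ConcreteCategory.congr_hom (g.mapPresheaf.naturality (homOfLE hle).op) s
  have hinj : Function.Injective (Z.presheaf.map (homOfLE hle).op) := by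
    intro a b hab
    have := congrArg (Z.presheaf.map (homOfLE U.ι_image_top.ge).op) hab
    rw [← ConcreteCategory.comp_apply, ← ConcreteCategory.comp_apply, ← Functor.map_comp] at this
    exact ((congrArg (fun f => (ConcreteCategory.hom f) a) (Z.presheaf.map_id _)).symm.trans this).trans
      (congrArg (fun f => (ConcreteCategory.hom f) b) (Z.presheaf.map_id _))
  refine hinj ?_
  exact (hnat.symm.trans h4).trans (map_zero _).symm


end Groth.Agent.S11164
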