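import Groth.Statements.S11165
import Groth.Agent.L16.PushAffine.Acyclic

set_option autoImplicit false
universe u
open CategoryTheory CategoryTheory.Limits AlgebraicGeometry
open Coherent

namespace Groth.Agent.S11165

/-- Let f : X ⟶ Y be a separated morphism of schemes, U an open of X on which f restricts to an affine
morphism, i : U ⟶ X the inclusion and F a quasi-coherent O_X-module. Then i_*(F|_U) is acyclic for
f_*: its higher direct images R^j f_* vanish for j > 0. (The binder asserting injective resolutions
of O_X-modules always holds.) -/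
theorem result {X Y : Scheme.{u}} (f : X ⟶ Y) [IsSeparated f]
    (U : X.Opens) [IsAffineHom (U.ι ≫ f)] (F : X.Modules) (hF : Coh.IsQCoh F)
    [HasInjectiveResolutions X.Modules] (j : ℕ) (hj : 0 < j) :
    IsZero ((Coh.Rpush f j).obj ((Scheme.Modules.pushforward U.ι).obj ((Scheme.Modules.restrictFunctor U.ι).obj F))) := by
  obtain ⟨j, rfl⟩ := Nat.exists_eq_succ_of_ne_zero hj.ne'
  haveI : IsAffineHom U.ι := IsAffineHom.of_comp U.ι f
  haveI := Groth.L17.PushQCoh.hasInjectiveResolutions (U : Scheme.{u})
  haveI := Groth.L17.PushQCoh.additive_push f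
  haveI := Groth.L17.PushQCoh.additive_push U.ι
  haveI := Groth.L17.PushQCoh.additive_push (U.ι ≫ f)
  haveI := hF
  have hG : Coh.IsQCoh ((Scheme.Modules.restrictFunctor U.ι).obj F) :=
    Scheme.Modules.isQuasicoherent_restrictFunctor _ _
  let e := Scheme.Modules.pushforwardComp U.ι f
  refine Groth.L16.PushAffine.acyc_obj (Scheme.Modules.pushforward U.ι) (Scheme.Modules.pushforward f)
    (fun I hI k hk => ?_) j _ (fun k hk => Groth.L29.DC.RpushQC.isZero_Rpush_affine U.ι _ hG k hk) (fun k hk => ?_)
  · obtain ⟨k, rfl⟩ := Nat.exists_eq_succ_of_ne_zero hk.ne'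
    haveI : Injective ((Scheme.Modules.pushforward U.ι).obj I) :=
      Injective.injective_of_adjoint (Scheme.Modules.restrictAdjunction U.ι) I
    exact (Scheme.Modules.pushforward f).isZero_rightDerived_obj_injective_succ k _
  · refine (Groth.L29.DC.RpushQC.isZero_Rpush_affine (U.ι ≫ f) _ hG k hk).of_iso
      (Iso.app ?_ _)
    exact
      { hom := NatTrans.rightDerived e.hom k
        inv := NatTrans.rightDerived e.inv k
        hom_inv_id := by rw [← NatTrans.rightDerived_comp, e.hom_inv_id, NatTrans.rightDerived_id]
        inv_hom_id := by rw [← NatTrans.rightDerived_comp, e.inv_hom_id, NatTrans.rightDerived_id] }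
end Groth.Agent.S11165
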