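import Groth.Statements.S11168
import Groth.Agent.L10.CdDim.Class

set_option autoImplicit false
universe v u
open CategoryTheory CategoryTheory.Limits
open CohDer

namespace Groth.Agent.S11168

/-- Let A be an abelian category and P a class of objects of A such that (i) every object admits a
monomorphism into an object of P; (ii) in a short exact sequence 0 → X → Y → Z → 0 with X in P, Y
lies in P if and only if Z does; (iii) for some n ≥ 1, whenever X⁰ → X¹ → ⋯ → Xⁿ → 0 is exact (a
cochain complex indexed by ℕ, exact in degrees 1, …, n, zero beyond degree n, with surjective last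
differential) and X⁰, …, Xⁿ⁻¹ lie in P, then Xⁿ lies in P. Then every cochain complex of objects of
A admits a quasi-isomorphism into a cochain complex whose terms all lie in P. -/
theorem result {A : Type u} [Category.{v} A] [Abelian A]
    (P : ObjectProperty A)
    (h1 : ∀ X : A, ∃ (Y : A) (i : X ⟶ Y), P Y ∧ Mono i)
    (h2 : ∀ S : ShortComplex A, S.ShortExact → P S.X₁ → (P S.X₂ ↔ P S.X₃))
    (n : ℕ) (hn : 1 ≤ n)
    (h3 : ∀ K : CochainComplex A ℕ, (∀ i : ℕ, 1 ≤ i → i ≤ n → K.ExactAt i) → (∀ i : ℕ, n < i → IsZero (K.X i)) →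
      Epi (K.d (n - 1) n) → (∀ i : ℕ, i < n → P (K.X i)) → P (K.X n))
    (X : CochainComplex A ℤ) :
    ∃ (I : CochainComplex A ℤ) (f : X ⟶ I), QuasiIso f ∧ ∀ k : ℤ, P (I.X k) := by
  choose E e hE he using h1
  let 𝔈 : Groth.L10.CdDim.Emb A := ⟨E, e, he⟩
  have hid : ∀ {X Y : A} (f : X ⟶ Y) [IsIso f] (Z : A) (hZ : IsZero Z),
      (ShortComplex.mk f (0 : Y ⟶ Z) comp_zero).ShortExact := fun {X Y} f _ Z hZ =>
    { exact := ShortComplex.exact_of_g_is_cokernel _
        (CokernelCofork.IsColimit.ofπ _ _ (fun _ _ => 0)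
          (fun g hg => by rw [← cancel_epi f, hg]; simp) (fun g hg m hm => hZ.eq_of_src _ _))
      mono_f := inferInstanceAs (Mono f)
      epi_g := ⟨fun a b _ => hZ.eq_of_src a b⟩ }
  obtain ⟨Z₀, hZ₀⟩ := HasZeroObject.zero (C := A)
  have : P.IsClosedUnderIsomorphisms := ⟨fun {X Y} f hX => by
    have h := h2 _ (hid (𝟙 X) Z₀ hZ₀) hX
    exact (h2 _ (hid f.hom Z₀ hZ₀) hX).2 (h.1 hX)⟩
  have hbi : ∀ U V, P U → P V → P (U ⊞ V) := fun U V hU hV => by
    refine (h2 (ShortComplex.mk (biprod.inl : U ⟶ U ⊞ V) biprod.snd biprod.inl_snd) ?_ hU).2 hV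
    exact (ShortComplex.Splitting.ofHasBinaryBiproduct U V).shortExact
  exact Groth.L10.CdDim.exists_qis_class 𝔈 P hE hbi n X (fun p =>
    Groth.L10.CdDim.Seq.end_mem P n hn h3 (𝔈.seq X p) (fun i _ => hbi _ _ (hE _) (hE _)))

end Groth.Agent.S11168
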