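import Groth.Statements.S1117
import Groth.Agent.L29.DCoh.PushPerfectFlat
import Groth.Agent.L29.DCoh.EvalMain

set_option autoImplicit false
set_option backward.isDefEq.respectTransparency false
universe u
open CategoryTheory CategoryTheory.Limits AlgebraicGeometry Opposite
attribute [local instance] HasDerivedCategory.standard
open Perf

namespace Groth.Agent.S1117

/-- In the case of a single module: let S be Noetherian, f : X ⟶ S locally of finite type, E a cochain
complex of O_X-modules whose image in D(O_X) is perfect, and G a coherent O_X-module flat over S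
with support proper over S. Assuming the derived functors exist, Rf_* RHom(E, G) is a perfect object
of D(O_S). (The source allows a bounded complex of such modules G.) -/
theorem result {X S : Scheme.{u}} [IsNoetherian S] (f : X ⟶ S) [LocallyOfFiniteType f]
    (E : CochainComplex X.Modules ℤ) (hE : DCoh.IsPerfect (DCoh.toD X E)) [DCoh.HasLTensorCx E] [DCoh.HasRSheafHom E] [DCoh.HasRpush f]
    (G : X.Modules) (hG : Coh.IsCoh G) (hflat : FlatMod.IsFlatOver f G) (hsupp : ClSub.IsProperOver f (CohB1.support G)) :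
    DCoh.IsPerfect ((DCoh.Rpush f).obj ((DCoh.RSheafHom E).obj (DCoh.inD X G))) := by
  let R := (Groth.L00.KFlat.RF X).obj E
  haveI := Groth.L00.KFlat.quasiIso_rF E
  haveI := Groth.L00.KFlat.hasLTensorCx R
  haveI := Groth.L29.DC.RHom.hasRSheafHom R
  let eR : DCoh.toD X R ≅ DCoh.toD X E :=
    @asIso _ _ _ _ (DerivedCategory.Q.map ((Groth.L00.KFlat.rF X).app E))
      ((DerivedCategory.isIso_Q_map_iff_quasiIso _ _).2 (Groth.L00.KFlat.quasiIso_rF E))
  have hRp : DCoh.IsPerfect (DCoh.toD X R) := Groth.L29.DC.isPerfect_of_iso eR.symm hE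
  have hRf : DCoh.IsKFlat R := Groth.L00.KFlat.isKFlat_RF E
  let M := (DCoh.RSheafHom R).obj (DCoh.toD X (Groth.L29.DC.RHom.O0 X))
  obtain ⟨D, q, hD, -, hq, -⟩ := Groth.L00.KFlat.exists_resolution (DerivedCategory.Q.objPreimage M)
  let eD : DCoh.toD X D ≅ M :=
    @asIso _ _ _ _ (DerivedCategory.Q.map q) ((DerivedCategory.isIso_Q_map_iff_quasiIso _ q).2 hq) ≪≫
      DerivedCategory.Q.objObjPreimageIso M
  haveI := Groth.L00.KFlat.hasLTensorCx D
  obtain ⟨a⟩ := Groth.L29.DC.EvalMain.nonempty_RSheafHom_iso eR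
  obtain ⟨b⟩ := Groth.L29.DC.EvalMain.nonempty_dual R D hRf hRp hD ⟨eD⟩ (DCoh.inD X G)
  have hDp : DCoh.IsPerfect (DCoh.toD X D) :=
    Groth.L29.DC.isPerfect_of_iso eD.symm (Groth.L29.DC.EvalMain.isPerfect_dual R hRf hRp)
  let c : (DCoh.LTensorCx D).obj (DCoh.inD X G) ≅ DCoh.toD X ((Groth.L29.DC.PerfectTensor.TG G).obj D) :=
    (DCoh.LTensorCx D).mapIso ((DerivedCategory.singleFunctorIsoCompQ X.Modules 0).app G) ≪≫
      (Groth.L29.DC.Assoc.allIso D hD).app _ ≪≫
      (DerivedCategory.Q.mapIso (Groth.L00.SingleTotal.iso (DCoh.tensorBi (X := X)) G D)).symm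
  exact Groth.L29.DC.isPerfect_of_iso ((DCoh.Rpush f).mapIso (c.symm ≪≫ b ≪≫ a.app _))
    (Groth.L29.DC.PerfectTensor.isPerfect_Rpush_TG f D hD hDp G hG hflat hsupp)

end Groth.Agent.S1117
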