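import Groth.Statements.S11171
import Groth.Agent.L29.Dual.Criterion

set_option autoImplicit false
universe u
open CategoryTheory
attribute [local instance] HasDerivedCategory.standard
open Dual

namespace Groth.Agent.S11171

/-- Over a Noetherian local ring A with residue field k, let R be an object of D(A) whose cohomology
modules are finite and vanish in all sufficiently negative degrees. If there is an integer d such
that the A-module of maps k → R[i] in D(A) is zero for every i ≠ d and is A-linearly isomorphic to k
for i = d, then R is a dualizing complex for A (finite injective dimension, finite cohomology, and A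
→ End(R) bijective with no self-maps of nonzero degree). -/
theorem result (A : Type u) [CommRing A] [IsLocalRing A] [IsNoetherianRing A] (R : Dual.D A) (hfin : ∀ i : ℤ, Module.Finite A (Dual.HD A R i)) (hbdd : ∃ a : ℤ, ∀ i : ℤ, i < a → Subsingleton (Dual.HD A R i)) (d : ℤ) (hvan : ∀ i : ℤ, i ≠ d → Subsingleton (Dual.inD A (IsLocalRing.ResidueField A) ⟶ R⟦i⟧)) (hd : Nonempty ((Dual.inD A (IsLocalRing.ResidueField A) ⟶ R⟦d⟧) ≃ₗ[A] IsLocalRing.ResidueField A)) : Dual.IsDualizing A R := by
  open Groth.L29.HomD in
  obtain ⟨a, ha⟩ := hbdd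
  haveI : R.IsGE a := (DerivedCategory.isGE_iff R a).2 fun i hi =>
    haveI := ha i hi
    ModuleCat.isZero_of_subsingleton _
  let R' := R⟦d⟧
  haveI : DerivedCategory.IsGE R' (a - d) :=
    DerivedCategory.TStructure.t.isGE_shift R a d (a - d) (by omega)
  have hgood : Groth.L29.HomD.Good R' := by
    refine ⟨⟨a - d, fun M _ _ i hi => ⟨fun p q => ?_⟩⟩, fun i => ?_⟩
    · haveI : DerivedCategory.IsGE (R'⟦i⟧) (a - d - i) :=
        DerivedCategory.TStructure.t.isGE_shift R' (a - d) i (a - d - i) (by omega)
      have hz : ∀ r : Dual.inD A M ⟶ R'⟦i⟧, r = 0 := fun r =>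
        DerivedCategory.TStructure.t.zero r 0 (a - d - i) (by omega)
      rw [hz p, hz q]
    · haveI := hfin (i + d)
      exact Module.Finite.equiv
        (Groth.L10.hShiftIso (A := ModuleCat.{u} A) R d i (i + d) (by omega)).toLinearEquiv.symm
  have hn : Dual.IsNormalized A R' := fun i hi => by
    haveI := hvan (d + i) (by omega)
    exact (Groth.L29.HomD.homShiftEquiv _ R d i (d + i) rfl).toEquiv.subsingleton
  obtain ⟨e⟩ := hd
  have h := Groth.L29.HomD.isDualizing_of_normalized hgood hn
    (Groth.L29.HomD.homShiftEquiv _ R d 0 d (add_zero d) ≪≫ₗ e)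
  exact Groth.L29.HomD.isDualizing_of_iso ((shiftFunctorCompIsoId (Dual.D A) d (-d) (by omega)).app R)
    (Groth.L29.HomD.isDualizing_shift h (-d))

end Groth.Agent.S11171
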