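import Groth.Statements.S11175
import Groth.Agent.L04.LC.GorCriterion

set_option autoImplicit false
universe u
open CategoryTheory
open Goren

namespace Groth.Agent.S11175

/-- A Noetherian local ring A with maximal ideal m is Gorenstein (A has finite injective dimension as a
module over itself) if and only if there is a natural number d such that the local cohomology
modules H^i_m(A) (direct limits of Ext^i(A/m^n, A)) vanish for all i ≠ d and H^d_m(A) is an
injective A-module. -/
theorem result (A : Type u) [CommRing A] [IsLocalRing A] [IsNoetherianRing A] : LocCoh.IsGorensteinLocalRing A ↔ ∃ d : ℕ, (∀ i : ℕ, i ≠ d → Subsingleton (LocCoh.H (IsLocalRing.maximalIdeal A) i A)) ∧ Module.Injective A (LocCoh.H (IsLocalRing.maximalIdeal A) d A) := by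

    exact ⟨fun h => @Groth.L04.LC.single_injective_of_gorenstein A _ h,
      fun ⟨d, h1, h2⟩ => Groth.L04.LC.gorenstein_of_single_injective A d h1 h2⟩

end Groth.Agent.S11175
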