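import Groth.Statements.S11180
import Groth.Agent.L01.CompletionExt
import Mathlib.LinearAlgebra.TensorProduct.Tower
import Mathlib.RingTheory.Localization.BaseChange

set_option autoImplicit false
universe u
open scoped TensorProduct
open CAlg

namespace Groth.Agent.S11180

/-- Let A be a Noetherian ring and M an A-module. If an element m of M is such that 1 ⊗ m = 0 in B ⊗_A M
for every A-algebra B which is a complete Noetherian local ring, flat over A, then m = 0.
(Equivalently the natural map from M to the limit of the modules B ⊗_A M over all such B is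
injective.) -/
theorem result (A : Type u) [CommRing A] [IsNoetherianRing A] (M : Type u) [AddCommGroup M] [Module A M] (m : M) (h : ∀ (B : Type u) [CommRing B] [Algebra A B] [IsNoetherianRing B] [IsLocalRing B], IsAdicComplete (IsLocalRing.maximalIdeal B) B → Module.Flat A B → (1 : B) ⊗ₜ[A] m = 0) : m = 0 := by
  by_contra hm
  obtain ⟨P, hP, hle⟩ := Ideal.exists_le_maximal (Submodule.colon (⊥ : Submodule A M) {m}) fun htop => hm <| by
    have := htop.ge (Submodule.mem_top (x := (1 : A)))
    simpa [Submodule.mem_colon_singleton] using this
  let Ap := Localization.AtPrime P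
  haveI : IsNoetherianRing Ap := IsLocalization.isNoetherianRing P.primeCompl _ inferInstance
  let B := AdicCompletion (IsLocalRing.maximalIdeal Ap) Ap
  haveI := Groth.L01.AnalUnram.isNoetherianRing_completion Ap
  haveI := Groth.L01.CompletionExt.faithfullyFlat Ap
  haveI : Module.Flat A Ap := IsLocalization.flat _ P.primeCompl
  haveI : Module.Flat A B := Module.Flat.trans A Ap B
  haveI : IsAdicComplete (IsLocalRing.maximalIdeal B) B := inferInstance
  have h0 := h B inferInstance inferInstance
  have h1 : (1 : Ap) ⊗ₜ[A] m = 0 := by
    refine Module.FaithfullyFlat.tensorProduct_mk_injective (A := Ap) (B := B) (Ap ⊗[A] M) ?_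
    apply (TensorProduct.AlgebraTensorModule.cancelBaseChange A Ap B B M).injective
    simpa using h0
  haveI : IsLocalizedModule P.primeCompl (TensorProduct.mk A Ap M 1) :=
    (isLocalizedModule_iff_isBaseChange P.primeCompl Ap _).mpr (TensorProduct.isBaseChange A M Ap)
  obtain ⟨s, hs⟩ := (IsLocalizedModule.eq_zero_iff P.primeCompl (TensorProduct.mk A Ap M 1)).mp h1
  exact s.2 (hle (Submodule.mem_colon_singleton.mpr (by simpa [Submonoid.smul_def] using hs)))

end Groth.Agent.S11180
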