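import Groth.Statements.S11181
import Groth.Agent.L01.AdicNoeth
import Mathlib.RingTheory.AdicCompletion.LocalRing
import Mathlib.RingTheory.AdicCompletion.AsTensorProduct
import Mathlib.RingTheory.Flat.FaithfullyFlat.Algebra
import Mathlib.RingTheory.TensorProduct.Quotient
import Mathlib.RingTheory.Ideal.AssociatedPrime.Finiteness
import Mathlib.RingTheory.Localization.BaseChange
import Mathlib.RingTheory.Flat.Localization
import Mathlib.RingTheory.Flat.Stability

set_option autoImplicit false
universe u
open scoped TensorProduct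
open CAlg

namespace Groth.Agent.S11181

open TensorProduct
set_option maxHeartbeats 1000000
set_option synthInstance.maxHeartbeats 100000

/-- A complete Noetherian local flat algebra. -/
structure Obj (A : Type u) [CommRing A] : Type (u + 1) where
  B : Type u
  [cr : CommRing B]
  [alg : Algebra A B]
  [noeth : IsNoetherianRing B]
  [loc : IsLocalRing B]
  complete : IsAdicComplete (IsLocalRing.maximalIdeal B) B
  flat : Module.Flat A B

attribute [instance] Obj.cr Obj.alg Obj.noeth Obj.loc

variable {A : Type u} [CommRing A]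

/-- Every compatible family comes from a unique element. -/
def Good (A : Type u) [CommRing A] (N : Type u) [AddCommGroup N] [Module A N] : Prop :=
  ∀ x : ∀ o : Obj A, o.B ⊗[A] N,
    (∀ (o o' : Obj A) (g : o.B →ₐ[A] o'.B), LinearMap.rTensor N g.toLinearMap (x o) = x o') →
    ∃! n : N, ∀ o : Obj A, x o = (1 : o.B) ⊗ₜ[A] n

lemma good_of_exact {N₁ N₂ N₃ : Type u} [AddCommGroup N₁] [Module A N₁] [AddCommGroup N₂]
    [Module A N₂] [AddCommGroup N₃] [Module A N₃] (f : N₁ →ₗ[A] N₂) (g : N₂ →ₗ[A] N₃)
    (hf : Function.Injective f) (hg : Function.Surjective g) (hfg : Function.Exact f g)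
    (h1 : Good A N₁) (h3 : Good A N₃) : Good A N₂ := by
  intro x hx
  have nat : ∀ {N N' : Type u} [AddCommGroup N] [Module A N] [AddCommGroup N'] [Module A N']
      (v : N →ₗ[A] N') (o o' : Obj A) (φ : o.B →ₐ[A] o'.B) (y : o.B ⊗[A] N),
      LinearMap.rTensor N' φ.toLinearMap (v.lTensor o.B y) =
        v.lTensor o'.B (LinearMap.rTensor N φ.toLinearMap y) := by
    intro N N' _ _ _ _ v o o' φ y
    rw [← LinearMap.comp_apply, ← LinearMap.comp_apply, LinearMap.rTensor_comp_lTensor,
      LinearMap.lTensor_comp_rTensor]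
  obtain ⟨n₃, hn₃, huniq3⟩ := h3 (fun o => g.lTensor o.B (x o)) fun o o' φ => by
    rw [nat, hx]
  obtain ⟨n₂, rfl⟩ := hg n₃
  have hd : ∀ o : Obj A, ∃! y, f.lTensor o.B y = x o - (1 : o.B) ⊗ₜ[A] n₂ := by
    intro o
    haveI := o.flat
    have hinj := Module.Flat.lTensor_preserves_injective_linearMap (M := o.B) f hf
    obtain ⟨y, hy⟩ := (lTensor_exact o.B hfg hg (x o - (1 : o.B) ⊗ₜ[A] n₂)).mp (by
      rw [map_sub, hn₃, LinearMap.lTensor_tmul, sub_self])
    exact ⟨y, hy, fun y' hy' => hinj (hy'.trans hy.symm)⟩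
  choose y hy hyu using hd
  obtain ⟨n₁, hn₁, huniq1⟩ := h1 y fun o o' φ => hyu o' _ (by
    show f.lTensor o'.B _ = _
    rw [← nat, hy, map_sub, hx, LinearMap.rTensor_tmul]
    simp)
  refine ⟨n₂ + f n₁, fun o => ?_, fun n hn => ?_⟩
  · have := hy o
    simp only [hn₁ o, LinearMap.lTensor_tmul] at this
    rw [tmul_add, this, add_sub_cancel]
  · have h : g n = g n₂ := huniq3 (g n) fun o => by rw [hn o]; rfl
    obtain ⟨n₁', hn₁'⟩ := (hfg (n - n₂)).mp (by rw [map_sub, h, sub_self])
    have : n₁' = n₁ := huniq1 n₁' fun o => (hyu o _ (by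
      show f.lTensor o.B _ = _
      rw [LinearMap.lTensor_tmul, hn₁', hn o, tmul_sub])).symm
    rw [← this, hn₁', add_sub_cancel]

lemma good_of_equiv {N N' : Type u} [AddCommGroup N] [Module A N] [AddCommGroup N'] [Module A N']
    (e : N ≃ₗ[A] N') (h : Good A N') (h0 : Good A PUnit.{u + 1}) : Good A N :=
  good_of_exact (N₁ := PUnit.{u + 1}) 0 e.toLinearMap (Function.injective_of_subsingleton _)
    e.surjective ((LinearMap.exact_zero_iff_injective _ _).mpr e.injective) h0 h

lemma good_subsingleton (N : Type u) [AddCommGroup N] [Module A N] [Subsingleton N] :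
    Good A N := fun x _ =>
  ⟨0, fun o => Subsingleton.elim _ _, fun _ _ => Subsingleton.elim _ _⟩

variable [IsNoetherianRing A]

/-- The completion of a localisation. -/
noncomputable abbrev objOf (R : Type u) [CommRing R] [IsNoetherianRing R] [IsLocalRing R]
    [Algebra A R] [Module.Flat A R] : Obj A where
  B := AdicCompletion (IsLocalRing.maximalIdeal R) R
  noeth := Groth.L01.AdicNoeth.isNoetherianRing_adicCompletion _
    (IsLocalRing.maximalIdeal R).fg_of_isNoetherianRing
  complete := inferInstance
  flat := Module.Flat.trans A R _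

lemma faithfullyFlat_completion (R : Type u) [CommRing R] [IsNoetherianRing R] [IsLocalRing R] :
    Module.FaithfullyFlat R (AdicCompletion (IsLocalRing.maximalIdeal R) R) :=
  Module.FaithfullyFlat.of_flat_of_isLocalHom

/-- An element in `(J B)` for all completions at primes is in `J`. -/
lemma mem_of_forall_mem_map (J : Ideal A) (a : A)
    (h : ∀ o : Obj A, algebraMap A o.B a ∈ J.map (algebraMap A o.B)) : a ∈ J := by
  by_contra ha
  have hne : Submodule.colon J {a} ≠ ⊤ := fun hh => ha (by
    have := Submodule.mem_colon_singleton.mp (hh ▸ Submodule.mem_top : (1 : A) ∈ Submodule.colon J {a})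
    rwa [one_smul] at this)
  obtain ⟨q, hq, hle⟩ := Ideal.exists_le_maximal _ hne
  let Aq := Localization.AtPrime q
  haveI : Module.Flat A Aq := IsLocalization.flat Aq q.primeCompl
  haveI := faithfullyFlat_completion Aq
  have h1 : algebraMap A (AdicCompletion (IsLocalRing.maximalIdeal Aq) Aq) a ∈
      J.map (algebraMap A _) := h (objOf Aq)
  rw [IsScalarTower.algebraMap_apply A Aq,
    IsScalarTower.algebraMap_eq A Aq, ← Ideal.map_map, ← Ideal.mem_comap,
    Ideal.comap_map_eq_self_of_faithfullyFlat, IsLocalization.algebraMap_mem_map_algebraMap_iff q.primeCompl] at h1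
  obtain ⟨u, hu, hua⟩ := h1
  exact hu (hle (Submodule.mem_colon_singleton.mpr hua))

lemma good_quotient (p : Ideal A) [p.IsPrime] : Good A (A ⧸ p) := by
  intro x hx
  -- representatives
  have hrep : ∀ o : Obj A, ∃ b : o.B, b ⊗ₜ[A] (1 : A ⧸ p) = x o := fun o => by
    obtain ⟨w, hw⟩ := (Algebra.TensorProduct.quotIdealMapEquivTensorQuot o.B p).surjective (x o)
    obtain ⟨b, rfl⟩ := Ideal.Quotient.mk_surjective w
    exact ⟨b, by rw [← hw, Algebra.TensorProduct.quotIdealMapEquivTensorQuot_mk]⟩
  choose b hb using hrep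
  have hzero : ∀ (o : Obj A) (c c' : o.B), c ⊗ₜ[A] (1 : A ⧸ p) = c' ⊗ₜ[A] (1 : A ⧸ p) ↔
      c - c' ∈ p.map (algebraMap A o.B) := by
    intro o c c'
    rw [← Algebra.TensorProduct.quotIdealMapEquivTensorQuot_mk,
      ← Algebra.TensorProduct.quotIdealMapEquivTensorQuot_mk, EquivLike.apply_eq_iff_eq,
      Ideal.Quotient.eq]
  have hcomp : ∀ (o o' : Obj A) (g : o.B →ₐ[A] o'.B),
      g (b o) - b o' ∈ p.map (algebraMap A o'.B) := fun o o' g => by
    rw [← hzero, hb o', ← hx o o' g, ← hb o]
    rfl
  have hnzd : ∀ (o : Obj A) (t : A), t ∉ p → ∀ w : o.B, algebraMap A o.B t * w ∈ p.map (algebraMap A o.B) →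
      w ∈ p.map (algebraMap A o.B) := by
    intro o t ht w hw
    haveI := o.flat
    have hμ : Function.Injective (LinearMap.lsmul A (A ⧸ p) t) := by
      intro y y' hyy
      obtain ⟨y, rfl⟩ := Ideal.Quotient.mk_surjective y
      obtain ⟨y', rfl⟩ := Ideal.Quotient.mk_surjective y'
      simp only [LinearMap.lsmul_apply, Algebra.smul_def, Ideal.Quotient.algebraMap_eq, ← map_mul,
        Ideal.Quotient.eq, ← mul_sub] at hyy
      exact Ideal.Quotient.eq.mpr ((Ideal.IsPrime.mem_or_mem inferInstance hyy).resolve_left ht)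
    rw [← sub_zero w, ← hzero, zero_tmul]
    apply Module.Flat.lTensor_preserves_injective_linearMap (M := o.B) _ hμ
    rw [map_zero, LinearMap.lTensor_tmul, LinearMap.lsmul_apply, ← smul_tmul, ← zero_tmul o.B (1 : A ⧸ p),
      hzero, sub_zero, Algebra.smul_def]
    exact hw
  -- the completion at `p`
  let Ap := Localization.AtPrime p
  haveI : Module.Flat A Ap := IsLocalization.flat Ap p.primeCompl
  let P := AdicCompletion (IsLocalRing.maximalIdeal Ap) Ap
  have hmaxP : IsLocalRing.maximalIdeal P = p.map (algebraMap A P) := by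
    refine AdicCompletion.maximalIdeal_eq_map.trans ((congrArg (Ideal.map (algebraMap Ap P))
      Localization.AtPrime.map_eq_maximalIdeal.symm).trans ?_)
    rw [Ideal.map_map, ← IsScalarTower.algebraMap_eq]
  obtain ⟨a, s, hs, has⟩ : ∃ a s : A, s ∉ p ∧
      algebraMap A P s * b (objOf Ap) - algebraMap A P a ∈ p.map (algebraMap A P) := by
    obtain ⟨z, hz⟩ := (AdicCompletion.residueField_map_bijective Ap).2
      (IsLocalRing.residue P (b (objOf Ap)))
    obtain ⟨y, rfl⟩ := IsLocalRing.residue_surjective z
    obtain ⟨⟨a, s⟩, hy⟩ := IsLocalization.surj p.primeCompl y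
    refine ⟨a, s, s.2, ?_⟩
    rw [← hmaxP, ← IsLocalRing.residue_eq_zero_iff]
    rw [IsLocalRing.ResidueField.map_residue] at hz
    rw [map_sub, map_mul, IsScalarTower.algebraMap_apply A Ap P, IsScalarTower.algebraMap_apply A Ap P a,
      ← hy, map_mul (algebraMap Ap P), map_mul (IsLocalRing.residue P), ← hz, mul_comm, sub_self]
  -- `a = s x_B` for every `B`
  have key : ∀ o : Obj A, algebraMap A o.B s * b o - algebraMap A o.B a ∈ p.map (algebraMap A o.B) := by
    intro o
    set z := algebraMap A o.B s * b o - algebraMap A o.B a with hz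
    set pB := p.map (algebraMap A o.B) with hpB
    by_contra hzmem
    obtain ⟨Q, hQ, hQle⟩ := exists_le_isAssociatedPrime_of_isNoetherianRing o.B
      (Ideal.Quotient.mk pB z) (fun h => hzmem (Ideal.Quotient.eq_zero_iff_mem.mp h))
    obtain ⟨hQp, w, hQw⟩ := isAssociatedPrime_iff.mp hQ
    haveI := hQp
    have hQmem : ∀ t, t ∈ Q ↔ t • w = 0 := fun t => by
      rw [hQw, Submodule.mem_colon_singleton, Submodule.mem_bot]
    have hQA : Q.comap (algebraMap A o.B) = p := by
      refine le_antisymm (fun t ht => ?_) ?_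
      · by_contra htp
        obtain ⟨w, rfl⟩ := Ideal.Quotient.mk_surjective w
        have h := (hQmem _).mp (Ideal.mem_comap.mp ht)
        rw [Algebra.smul_def, Ideal.Quotient.algebraMap_eq, ← map_mul,
          Ideal.Quotient.eq_zero_iff_mem] at h
        have hw := hnzd o t htp w h
        exact hQp.ne_top ((Ideal.eq_top_iff_one Q).mpr ((hQmem 1).mpr (by
          rw [one_smul]; exact Ideal.Quotient.eq_zero_iff_mem.mpr hw)))
      · intro t ht
        obtain ⟨w, rfl⟩ := Ideal.Quotient.mk_surjective w
        rw [Ideal.mem_comap, hQmem, Algebra.smul_def, Ideal.Quotient.algebraMap_eq, ← map_mul,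
          Ideal.Quotient.eq_zero_iff_mem]
        exact pB.mul_mem_right _ (Ideal.mem_map_of_mem _ ht)
    let L := Localization.AtPrime Q
    haveI : IsNoetherianRing L := IsLocalization.isNoetherianRing Q.primeCompl L inferInstance
    haveI : Module.Flat A L := by
      haveI := o.flat
      haveI : Module.Flat o.B L := IsLocalization.flat L Q.primeCompl
      exact Module.Flat.trans A o.B L
    let B' := AdicCompletion (IsLocalRing.maximalIdeal L) L
    haveI : IsScalarTower A o.B B' := IsScalarTower.of_algebraMap_eq fun t => by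
      rw [IsScalarTower.algebraMap_apply A L B', IsScalarTower.algebraMap_apply A o.B L,
        ← IsScalarTower.algebraMap_apply o.B L B']
    let g₁ : o.B →ₐ[A] B' := IsScalarTower.toAlgHom A o.B B'
    -- `Ap → L` and its completion
    let φ : Ap →+* L := IsLocalization.lift (M := p.primeCompl) (g := algebraMap A L) fun t => by
      rw [IsScalarTower.algebraMap_apply A o.B L]
      exact IsLocalization.map_units L (⟨_, fun h => t.2 (hQA.le h)⟩ : Q.primeCompl)
    have hφ : IsLocalRing.maximalIdeal Ap ≤ (IsLocalRing.maximalIdeal L).comap φ := by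
      rw [← Localization.AtPrime.map_eq_maximalIdeal, Ideal.map_le_iff_le_comap]
      intro t ht
      rw [Ideal.mem_comap, Ideal.mem_comap, IsLocalization.lift_eq,
        IsScalarTower.algebraMap_apply A o.B L, ← Localization.AtPrime.map_eq_maximalIdeal]
      exact Ideal.mem_map_of_mem _ (hQA.ge ht)
    have hφn : ∀ n : ℕ, IsLocalRing.maximalIdeal Ap ^ n ≤ (IsLocalRing.maximalIdeal L ^ n).comap φ :=
      fun n => (Ideal.pow_right_mono hφ n).trans (Ideal.le_comap_pow _ _)
    let F : (n : ℕ) → P →+* L ⧸ IsLocalRing.maximalIdeal L ^ n := fun n =>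
      (Ideal.quotientMap _ φ (hφn n)).comp (AdicCompletion.evalₐ _ n).toRingHom
    have hF : ∀ {m n : ℕ} (hle : m ≤ n), (Ideal.Quotient.factorPow _ hle).comp (F n) = F m := by
      intro m n hle
      refine RingHom.ext fun y => ?_
      obtain ⟨y, rfl⟩ := AdicCompletion.mk_surjective _ _ y
      simp only [F, RingHom.comp_apply, AlgHom.toRingHom_eq_coe, RingHom.coe_coe]
      rw [AdicCompletion.evalₐ_mk, AdicCompletion.evalₐ_mk, Ideal.quotientMap_mk, Ideal.quotientMap_mk,
        Ideal.Quotient.factor_mk, Ideal.Quotient.eq]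
      rw [← map_sub]
      apply hφn m
      have := (y.property hle).symm
      rw [SModEq.sub_mem, smul_eq_mul, Ideal.mul_top] at this
      exact this
    let ψ : P →+* B' := AdicCompletion.liftRingHom _ F hF
    let g₂ : P →ₐ[A] B' :=
      { ψ with
        commutes' := fun t => by
          apply AdicCompletion.ext_evalₐ
          intro n
          show AdicCompletion.evalₐ _ n (ψ (algebraMap A P t)) = _
          rw [AdicCompletion.evalₐ_liftRingHom, IsScalarTower.algebraMap_apply A Ap P,
            IsScalarTower.algebraMap_apply A L B']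
          simp only [F, RingHom.comp_apply, AlgHom.toRingHom_eq_coe, RingHom.coe_coe, AlgHom.commutes]
          rw [Ideal.Quotient.algebraMap_eq, Ideal.quotientMap_mk, IsLocalization.lift_eq]
          rfl }
    have hpP : ∀ y ∈ p.map (algebraMap A P), g₂ y ∈ p.map (algebraMap A B') := fun y hy => by
      have := Ideal.mem_map_of_mem g₂.toRingHom hy
      rwa [Ideal.map_map, show g₂.toRingHom.comp (algebraMap A P) = algebraMap A B' from RingHom.ext g₂.commutes] at this
    have h1 : g₁ (b o) - b (objOf L) ∈ p.map (algebraMap A B') := hcomp o (objOf L) g₁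
    have h2 : g₂ (b (objOf Ap)) - b (objOf L) ∈ p.map (algebraMap A B') :=
      hcomp (objOf Ap) (objOf L) g₂
    have h3 := hpP _ has
    rw [map_sub, map_mul, AlgHom.commutes, AlgHom.commutes] at h3
    have h4 : algebraMap o.B B' z ∈ p.map (algebraMap A B') := by
      rw [hz, map_sub, map_mul, ← IsScalarTower.algebraMap_apply, ← IsScalarTower.algebraMap_apply]
      show algebraMap A B' s * g₁ (b o) - algebraMap A B' a ∈ _
      rw [show algebraMap A B' s * g₁ (b o) - algebraMap A B' a =
        algebraMap A B' s * ((g₁ (b o) - b (objOf L)) - (g₂ (b (objOf Ap)) - b (objOf L))) +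
          (algebraMap A B' s * g₂ (b (objOf Ap)) - algebraMap A B' a) by ring]
      exact Ideal.add_mem _ (Ideal.mul_mem_left _ _ (Ideal.sub_mem _ h1 h2)) h3
    haveI := faithfullyFlat_completion L
    rw [IsScalarTower.algebraMap_eq A o.B B', ← Ideal.map_map, IsScalarTower.algebraMap_apply o.B L B',
      IsScalarTower.algebraMap_eq o.B L B', ← Ideal.map_map, ← Ideal.mem_comap,
      Ideal.comap_map_eq_self_of_faithfullyFlat,
      IsLocalization.algebraMap_mem_map_algebraMap_iff Q.primeCompl] at h4
    obtain ⟨u, hu, huz⟩ := h4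
    refine hu (hQle ?_)
    rw [Submodule.mem_colon_singleton, Submodule.mem_bot, Algebra.smul_def,
      Ideal.Quotient.algebraMap_eq, ← map_mul, Ideal.Quotient.eq_zero_iff_mem]
    exact huz
  -- `a ∈ (s) + p`
  have haJ : a ∈ Ideal.span {s} ⊔ p := mem_of_forall_mem_map _ a fun o => by
    rw [Ideal.map_sup, Ideal.map_span, Set.image_singleton]
    have h := key o
    rw [show algebraMap A o.B a = algebraMap A o.B s * b o +
      -(algebraMap A o.B s * b o - algebraMap A o.B a) by ring]
    exact Submodule.add_mem_sup (Ideal.mul_mem_right _ _ (Ideal.mem_span_singleton_self _))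
      ((Ideal.map _ p).neg_mem_iff.mpr h)
  obtain ⟨_, hc', π, hπ, rfl⟩ := Submodule.mem_sup.mp haJ
  obtain ⟨c, rfl⟩ := Ideal.mem_span_singleton'.mp hc'
  refine ⟨Ideal.Quotient.mk p c, fun o => ?_, fun n hn => ?_⟩
  · have h0 : algebraMap A o.B s * (b o - algebraMap A o.B c) ∈ p.map (algebraMap A o.B) := by
      rw [show algebraMap A o.B s * (b o - algebraMap A o.B c) =
        (algebraMap A o.B s * b o - algebraMap A o.B (c * s + π)) + algebraMap A o.B π by
          rw [map_add, map_mul]; ring]
      exact Ideal.add_mem _ (key o) (Ideal.mem_map_of_mem _ hπ)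
    rw [← hb o, (hzero o _ _).mpr (hnzd o s hs _ h0), Algebra.algebraMap_eq_smul_one, smul_tmul,
      ← Algebra.algebraMap_eq_smul_one]
    rfl
  · obtain ⟨n, rfl⟩ := Ideal.Quotient.mk_surjective n
    have hn' : ∀ (o : Obj A) (t : A), (1 : o.B) ⊗ₜ[A] (Ideal.Quotient.mk p t) =
        algebraMap A o.B t ⊗ₜ[A] (1 : A ⧸ p) := fun o t => by
      rw [Algebra.algebraMap_eq_smul_one, smul_tmul, ← Algebra.algebraMap_eq_smul_one]; rfl
    have h1 : algebraMap A P n - algebraMap A P c ∈ p.map (algebraMap A P) := by
      refine (hzero (objOf Ap) _ _).mp ?_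
      refine (hn' (objOf Ap) n).symm.trans ((hn (objOf Ap)).symm.trans ((hb (objOf Ap)).symm.trans ?_))
      have h0 : algebraMap A P s * (b (objOf Ap) - algebraMap A P c) ∈ p.map (algebraMap A P) := by
        rw [show algebraMap A P s * (b (objOf Ap) - algebraMap A P c) =
          (algebraMap A P s * b (objOf Ap) - algebraMap A P (c * s + π)) + algebraMap A P π by
            rw [map_add, map_mul]; ring]
        exact Ideal.add_mem _ (key (objOf Ap)) (Ideal.mem_map_of_mem _ hπ)
      exact (hzero (objOf Ap) _ _).mpr (hnzd (objOf Ap) s hs _ h0)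
    rw [← map_sub] at h1
    rw [Ideal.Quotient.eq]
    haveI := faithfullyFlat_completion Ap
    rw [IsScalarTower.algebraMap_apply A Ap P, IsScalarTower.algebraMap_eq A Ap P, ← Ideal.map_map,
      ← Ideal.mem_comap, Ideal.comap_map_eq_self_of_faithfullyFlat,
      IsLocalization.algebraMap_mem_map_algebraMap_iff p.primeCompl] at h1
    obtain ⟨u, hu, hun⟩ := h1
    exact (Ideal.IsPrime.mem_or_mem inferInstance hun).resolve_left hu


/-- Bijectivity for a finite module: let A be a Noetherian ring and M a finite A-module. Consider the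
A-algebras B which are complete Noetherian local rings flat over A, with all A-algebra homomorphisms
between them. Then every family of elements x_B ∈ B ⊗_A M, one for each such B, compatible under the
maps B ⊗_A M → B' ⊗_A M induced by A-algebra homomorphisms B → B', comes from a unique element m of
M: x_B = 1 ⊗ m for every such B. (The natural map from M to the limit of the B ⊗_A M is bijective.) -/
theorem result (A : Type u) [CommRing A] [IsNoetherianRing A] (M : Type u) [AddCommGroup M] [Module A M] [Module.Finite A M] (x : ∀ (B : Type u) [CommRing B] [Algebra A B] [IsNoetherianRing B] [IsLocalRing B], IsAdicComplete (IsLocalRing.maximalIdeal B) B → Module.Flat A B → TensorProduct A B M) (hx : ∀ (B : Type u) [CommRing B] [Algebra A B] [IsNoetherianRing B] [IsLocalRing B] (hB : IsAdicComplete (IsLocalRing.maximalIdeal B) B) (hBf : Module.Flat A B) (B' : Type u) [CommRing B'] [Algebra A B'] [IsNoetherianRing B'] [IsLocalRing B'] (hB' : IsAdicComplete (IsLocalRing.maximalIdeal B') B') (hB'f : Module.Flat A B') (g : B →ₐ[A]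 B'), LinearMap.rTensor M g.toLinearMap (x B hB hBf) = x B' hB' hB'f) : ∃! m : M, ∀ (B : Type u) [CommRing B] [Algebra A B] [IsNoetherianRing B] [IsLocalRing B] (hB : IsAdicComplete (IsLocalRing.maximalIdeal B) B) (hBf : Module.Flat A B), x B hB hBf = (1 : B) ⊗ₜ[A] m := by
  have hgood : Good A M := by
    refine IsNoetherianRing.induction_on_isQuotientEquivQuotientPrime A (M := M) inferInstance
      (motive := fun N _ _ _ => Good A N) ?_ ?_ ?_
    · intro N _ _ _ _; exact good_subsingleton N
    · intro N _ _ _ p e; exact good_of_equiv e (good_quotient p.1) (good_subsingleton _)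
    · intro N₁ _ _ _ N₂ _ _ _ N₃ _ _ _ f g hf hg hfg h1 h3
      exact good_of_exact f g hf hg hfg h1 h3
  obtain ⟨m, hm, hu⟩ := hgood (fun o => x o.B o.complete o.flat)
    (fun o o' g => hx o.B o.complete o.flat o'.B o'.complete o'.flat g)
  refine ⟨m, fun B _ _ _ _ hB hBf => hm { B := B, complete := hB, flat := hBf }, fun m' hm' => ?_⟩
  exact hu m' fun o => hm' o.B o.complete o.flat


end Groth.Agent.S11181
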