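import Groth.Statements.S11183
import Groth.Agent.L29.Dual.InvertibleTwist

set_option autoImplicit false
set_option backward.isDefEq.respectTransparency false
universe u
open CategoryTheory
attribute [local instance] HasDerivedCategory.standard
open Dual

namespace Groth.Agent.S11183

/-- 'if' direction, affine form: let A be a Noetherian ring, ω a dualizing complex for A, P an
invertible A-module (the evaluation map from the dual of P tensor P to A is bijective, i.e. P is
finite locally free of rank one) and n an integer. Assuming the total left derived functor − ⊗^L_A P
exists on D(A), the complex (ω ⊗^L_A P)[n] is again a dualizing complex for A. (The published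
statement is for a connected scheme; this direction does not use connectedness.) -/
theorem result (A : Type u) [CommRing A] [IsNoetherianRing A] (ω : Dual.D A) (hω : Dual.IsDualizing A ω) (P : Type u) [AddCommGroup P] [Module A P] [Module.Invertible A P] [DRing.HasLTensor A (ModuleCat.of A P)] (n : ℤ) : Dual.IsDualizing A (((DRing.LTensor A (ModuleCat.of A P)).obj ω)⟦n⟧) := by
  exact Groth.L29.HomD.isDualizing_shift (Groth.L29.HomD.isDualizing_of_iso
    (Groth.L29.DualTwist.lTensorIso ω (ModuleCat.of A P)).symm (Groth.L29.DualTwist.isDualizing_twist hω P)) n

end Groth.Agent.S11183
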