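import Groth.Statements.S11185
import Groth.Agent.L29.Dual.RegularDual

set_option autoImplicit false
set_option backward.isDefEq.respectTransparency false
universe u
open CategoryTheory
attribute [local instance] HasDerivedCategory.standard
open Dual

namespace Groth.Agent.S11185

/-- Let A be a Noetherian ring all of whose local rings A_p at primes are regular and whose Krull
dimension is finite. Then the complex A[0] is a dualizing complex for A (finite injective dimension,
finite cohomology, A → End(A[0]) bijective and no self-maps of nonzero degree). -/
theorem result (A : Type u) [CommRing A] [IsNoetherianRing A] (hreg : ∀ p : PrimeSpectrum A, IsRegularLocalRing (Localization.AtPrime p.asIdeal)) (hdim : ringKrullDim A < ⊤) : Dual.IsDualizing A (Dual.inD A A) := by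
  haveI : ∀ p : PrimeSpectrum A, Module.Flat A (Localization.AtPrime p.asIdeal) := fun p =>
    IsLocalization.flat _ p.asIdeal.primeCompl
  refine Groth.L29.FlatBC.isDualizing_of_pointwise hdim (Groth.L29.HomD.finite_HD_single A) 0
    (fun i hi => ModuleCat.subsingleton_of_isZero (DerivedCategory.isZero_of_isGE (Dual.inD A A) 0 i hi))
    (fun p => ?_)
  haveI := hreg p
  let B := Localization.AtPrime p.asIdeal
  let e : (Groth.L29.FlatBC.ext A B).obj (ModuleCat.of A A) ≅ ModuleCat.of B B :=
    ((Groth.L29.FlatBC.extEquiv A B (ModuleCat.of A A)).trans
      (TensorProduct.AlgebraTensorModule.rid A B B)).toModuleIso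
  exact Groth.L29.HomD.isDualizing_of_iso
    ((((Groth.L29.FlatBC.ext A B).mapDerivedCategorySingleFunctor 0).app (ModuleCat.of A A)) ≪≫
      (DerivedCategory.singleFunctor (ModuleCat.{u} B) 0).mapIso e).symm
    (Groth.L29.HomD.isDualizing_inD_of_regularLocal B)

end Groth.Agent.S11185
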