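import Groth.Statements.S11186
import Groth.Agent.L29.Dual.SmoothDegree
import Groth.Agent.L07.CIFibre
-- import your own Groth.Agent.* helpers here

set_option autoImplicit false
set_option maxSynthPendingDepth 3
set_option backward.isDefEq.respectTransparency false
set_option backward.defeqAttrib.useBackward true
set_option linter.style.haveILetI false
attribute [local instance] HasDerivedCategory.standard
universe u
open CategoryTheory
attribute [local instance] HasDerivedCategory.standard
open Dual

namespace Groth.Agent.S11186

/-- Let A be a Noetherian ring, A → B a smooth ring map of relative dimension n, ω a dualizing complex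
for A, and q a prime of B lying over the prime p of A, with residue field extension κ(p) ⊆ κ(q) of
transcendence degree t. Assume the derived base change functors from D(A) to D(A_p) and to D(B_q)
exist. If the module of maps κ(p) → ω_p[d] in D(A_p) is nonzero (so d is the unique such degree, the
codimension value of ω at p), then the module of maps κ(q) → (ω ⊗^L_A B_q)[d − t + n] in D(B_q) is
nonzero: the codimension function of ω ⊗^L_A B at q equals that of ω at p minus the transcendence
degree plus the relative dimension. (The published formula is stated for the base change twisted by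
the top relative differentials and shifted by n, where it reads codimension at q = codimension at p
+ transcendence degree; with the convention that the codimension function rises by one under
immediate specialization, the generic point of the affine line over a field shows that the
transcendence degree must enter with a minus sign, as here.) -/
theorem result (A B : Type u) [CommRing A] [CommRing B] [Algebra A B] [IsNoetherianRing A] (n : ℕ) (hs : FlatCA.SmoothRelDim n A B) (ω : Dual.D A) (hω : Dual.IsDualizing A ω) (p : Ideal A) [p.IsPrime] (q : Ideal B) [q.IsPrime] [hq : q.LiesOver p] [DRing.HasLBaseChange (algebraMap A (Localization.AtPrime p))] [DRing.HasLBaseChange (algebraMap A (Localization.AtPrime q))] (d : ℤ) (hd : Nontrivial (Dual.inD (Localization.AtPrime p) p.ResidueField ⟶ ((DRing.LBaseChange (algebraMap A (Localization.AtPrime p))).obj ω)⟦d⟧)) (t : ℕ) (ht : @Algebra.trdeg p.ResidueField q.ResidueField _ _ (Ideal.ResidueField.mapₐ p q (Algebra.ofId A B) hq.over).toRingHom.toAlgebra = (t : Cardinal.{u})) : Nontrivial (Dual.inD (Localization.AtPrime q) q.ResidueField ⟶ ((DRing.LBaseChange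 (algebraMap A (Localization.AtPrime q))).obj ω)⟦(d - (t : ℤ) + (n : ℤ))⟧) := by
  obtain ⟨P, hP, hPq, htr⟩ := Groth.L29.SmoothDegree.exists_prime_fibre p q
  subst hPq
  haveI := Groth.L20.RG.smooth_of_relDim hs
  haveI : Module.Flat A B := Algebra.Smooth.flat A B
  haveI : IsNoetherianRing B := Algebra.FiniteType.isNoetherianRing A B
  obtain ⟨hreg, a, b, hab, ha, hb⟩ := Groth.L29.SmoothDegree.fibre_local hs p P
  obtain ⟨-, alg, hloc, hcomm, hflat, ⟨e⟩⟩ := Groth.L07.CIFibre.exists_fibre_local p P
  let Q := P.comap (Algebra.TensorProduct.includeRight (R := A) (A := p.ResidueField) (B := B))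
  let Ap := Localization.AtPrime p
  let Bq := Localization.AtPrime Q
  letI := alg
  haveI := hloc
  haveI := hflat
  haveI : IsScalarTower A Ap Bq := IsScalarTower.of_algebraMap_eq fun r => by
    rw [hcomm r, ← IsScalarTower.algebraMap_apply]
  haveI : Module.Flat A Ap := IsLocalization.flat Ap p.primeCompl
  haveI : Module.Flat A Bq := Module.Flat.trans A Ap Bq
  haveI : IsNoetherianRing Ap := IsLocalization.isNoetherianRing p.primeCompl _ inferInstance
  haveI : IsNoetherianRing Bq := IsLocalization.isNoetherianRing Q.primeCompl _ inferInstance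
  have hC : LocCoh.IsGorensteinLocalRing (Bq ⧸ (IsLocalRing.maximalIdeal Ap).map (algebraMap Ap Bq)) :=
    Groth.L21.GorensteinAscend.isGorensteinLocalRing_of_ringEquiv e (Groth.Agent.S0342.result _)
  have hdim : ringKrullDim (Bq ⧸ (IsLocalRing.maximalIdeal Ap).map (algebraMap Ap Bq)) = (b : WithBot ℕ∞) :=
    (ringKrullDim_eq_of_ringEquiv e).symm.trans hb
  have ht' : (t : Cardinal.{u}) = a := ht.symm.trans (htr.trans ha)
  obtain rfl : t = a := by exact_mod_cast ht'
  have hW := Groth.L29.FlatBC.isDualizing_L_localization (B := Ap) p.primeCompl hω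
  let eA := (Groth.L29.FlatBC.lbcIso (A := A) (B := Ap)).app ω
  have h' : Nontrivial (Dual.inD Ap (IsLocalRing.ResidueField Ap) ⟶ ((Groth.L29.FlatBC.L A Ap).obj ω)⟦d⟧) :=
    haveI := hd
    (Linear.homCongr Ap (Iso.refl (Dual.inD Ap p.ResidueField)) ((shiftFunctor (Dual.D Ap) d).mapIso eA)).symm.toEquiv.nontrivial
  have main := Groth.L29.GorBC.nontrivial_residue_L (B := Bq) hW d h' hC b hdim
  rw [show d - (t : ℤ) + (n : ℤ) = d + b by omega]
  let eB : (Groth.L29.FlatBC.L Ap Bq).obj ((Groth.L29.FlatBC.L A Ap).obj ω) ≅
      (DRing.LBaseChange (algebraMap A Bq)).obj ω :=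
    (Groth.L29.GorBC.lComp A Ap Bq).app ω ≪≫ ((Groth.L29.FlatBC.lbcIso (A := A) (B := Bq)).app ω).symm
  haveI := main
  exact (Linear.homCongr Bq (Iso.refl (Dual.inD Bq (IsLocalRing.ResidueField Bq)))
    ((shiftFunctor (Dual.D Bq) (d + (b : ℤ))).mapIso eB)).symm.toEquiv.nontrivial

end Groth.Agent.S11186
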