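import Groth.Statements.S11191
import Groth.Agent.L25.Extension.Quotient

set_option backward.isDefEq.respectTransparency.types false

set_option autoImplicit false
universe u
open CategoryTheory MonoidalCategory CartesianMonoidalCategory MonObj GrpObj AlgebraicGeometry
open scoped TensorProduct
open AGF

namespace Groth.Agent.S11191

open scoped TensorProduct

variable {k : Type u} [Field k] {M : Type u} [AddCommGroup M] [Module k M]

/-- matrix coefficient -/
def ev (B : Type u) [CommRing B] [Algebra k B] (φ : M →ₗ[k] k) : B ⊗[k] M →ₗ[k] B :=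
  (TensorProduct.rid k B).toLinearMap.comp (LinearMap.lTensor B φ)

theorem ev_wmap {B B' : Type u} [CommRing B] [Algebra k B] [CommRing B'] [Algebra k B'] (ψ : B →ₐ[k] B')
    (φ : M →ₗ[k] k) (x : VecGrp.W k M B) : ev B' φ (VecGrp.Wmap ψ x) = ψ (ev B φ x) := by
  induction x using TensorProduct.induction_on with
  | zero => simp
  | add a b ha hb => simp [ha, hb]
  | tmul b m => simp [ev, VecGrp.Wmap]

theorem wmap_one {B B' : Type u} [CommRing B] [Algebra k B] [CommRing B'] [Algebra k B'] (ψ : B →ₐ[k] B')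
    (a : M) : VecGrp.Wmap ψ ((1 : B) ⊗ₜ[k] a) = (1 : B') ⊗ₜ[k] a := by
  simp [VecGrp.Wmap]

/-- the value of a global function at an affine point -/
noncomputable def val {G : Over (Spec (CommRingCat.of k))} {B : Type u} [CommRing B] [Algebra k B] (γ : VecGrp.pt k B ⟶ G)
    (f : Γ(G.left, ⊤)) : B :=
  (Scheme.ΓSpecIso (CommRingCat.of B)).hom (γ.left.appTop f)

theorem exists_gen (G : Over (Spec (CommRingCat.of k))) [IsAffine G.left] :
    ∃ (_ : Algebra k Γ(G.left, ⊤)) (gen : VecGrp.pt k Γ(G.left, ⊤) ⟶ G), IsIso gen.left ∧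
      ∀ (B : Type u) [CommRing B] [Algebra k B] (γ : VecGrp.pt k B ⟶ G),
        ∃ ψ : Γ(G.left, ⊤) →ₐ[k] B, VecGrp.ptMap ψ ≫ gen = γ ∧ ∀ f, ψ f = val γ f := by
  let a : CommRingCat.of k ⟶ Γ(G.left, ⊤) := (Scheme.ΓSpecIso (CommRingCat.of k)).inv ≫ G.hom.appTop
  letI : Algebra k Γ(G.left, ⊤) := a.hom.toAlgebra
  have ha : Spec.map a = G.left.isoSpec.inv ≫ G.hom := by
    rw [Iso.eq_inv_comp, Spec.map_comp, Scheme.isoSpec_hom_naturality_assoc, Scheme.isoSpec_Spec_hom]
    simp [← Spec.map_comp]
  have hw : G.left.isoSpec.inv ≫ G.hom = (VecGrp.pt k Γ(G.left, ⊤)).hom := ha.symm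
  refine ⟨this, Over.homMk G.left.isoSpec.inv hw, inferInstanceAs (IsIso G.left.isoSpec.inv), fun B _ _ γ => ?_⟩
  let t : Γ(G.left, ⊤) ⟶ CommRingCat.of B := γ.left.appTop ≫ (Scheme.ΓSpecIso (CommRingCat.of B)).hom
  have hγ : Spec.map t ≫ G.left.isoSpec.inv = γ.left := by
    rw [Iso.comp_inv_eq, Spec.map_comp, ← Scheme.isoSpec_hom_naturality, Scheme.isoSpec_Spec_hom]
  have ht : a ≫ t = CommRingCat.ofHom (algebraMap k B) := Spec.map_injective (by
    rw [Spec.map_comp, ha, ← Category.assoc, hγ]
    exact Over.w γ)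
  refine ⟨AlgHom.mk t.hom fun r => congr($(ht).hom r), Over.OverMorphism.ext ?_, fun f => rfl⟩
  exact hγ

/-- Let k be an algebraically closed field, G a linear algebraic group over k (an affine smooth group
scheme over k) and H a closed subgroup of G (a smooth closed subgroup scheme, i : H → G), and let M
be a rational G-module. Then every H-invariant element of M is fixed by the observable hull of H: if
a rational point g of G fixes under right translation every right-H-invariant global function on G,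
then g fixes every H-invariant element of M. (The published statement is for a commutative algebra
with a rational action by automorphisms; the multiplication plays no role and the row is stated for
modules.) -/
theorem result (k : Type u) [Field k] [IsAlgClosed k]
    (G : Over (Spec (CommRingCat.of k))) [GrpObj G] [IsAffine G.left] [Smooth G.hom]
    (H : Over (Spec (CommRingCat.of k))) [GrpObj H] [Smooth H.hom] (i : H ⟶ G) [IsMonHom i]
    [IsClosedImmersion i.left]
    (M : Type u) [AddCommGroup M] [Module k M] (ρ : VecGrp.GMod G M)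
    (g : VecGrp.pt k k ⟶ G) (hg : ∀ f : Γ(G.left, ⊤), AGF.IsRTransInv i f → AGF.IsRTransInv g f)
    (a : M) (ha : a ∈ ρ.fixedUnder i) :
    ρ.ρ k g ((1 : k) ⊗ₜ[k] a) = (1 : k) ⊗ₜ[k] a := by
  obtain ⟨_, gen, -, hgen⟩ := exists_gen G
  have hfix : ∀ φ : M →ₗ[k] k, ev k φ (ρ.ρ k g ((1 : k) ⊗ₜ[k] a)) = φ a := by
    intro φ
    let f : Γ(G.left, ⊤) := ev Γ(G.left, ⊤) φ (ρ.ρ Γ(G.left, ⊤) gen ((1 : Γ(G.left, ⊤)) ⊗ₜ[k] a))
    have hval : ∀ (B : Type u) [CommRing B] [Algebra k B] (γ : VecGrp.pt k B ⟶ G),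
        val γ f = ev B φ (ρ.ρ B γ ((1 : B) ⊗ₜ[k] a)) := by
      intro B _ _ γ
      obtain ⟨ψ, h1, h2⟩ := hgen B γ
      rw [← h2, ← ev_wmap, ρ.naturality, h1, wmap_one]
    have hH : AGF.IsRTransInv i f := by
      let P := (G ⊗ H).left
      have : IsAffineHom i.left := inferInstance
      have : IsAffine H.left := isAffine_of_isAffineHom i.left
      have : IsAffine P := inferInstanceAs (IsAffine (CategoryTheory.Limits.pullback G.hom H.hom))
      obtain ⟨_, p', hp', -⟩ := exists_gen (G ⊗ H)
      have e : val (p' ≫ (G ◁ i) ≫ μ[G]) f = val (p' ≫ fst G H) f := by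
        rw [Groth.L25.Extension.whiskerLeft_mul, ← Category.assoc]
        have := hval _ ((p' ≫ fst G H) * ((p' ≫ snd G H) ≫ i))
        rw [this, hval, map_mul, LinearEquiv.mul_apply, ha _ (p' ≫ snd G H)]
      have e1 := (ConcreteCategory.bijective_of_isIso (Scheme.ΓSpecIso (CommRingCat.of Γ(P, ⊤))).hom).1 e
      exact (ConcreteCategory.bijective_of_isIso ((Scheme.Γ).map p'.left.op)).1 e1
    have h1 := hg f hH
    let q : VecGrp.pt k k ⟶ G ⊗ VecGrp.pt k k := lift 1 (𝟙 _)
    have h2 : val (q ≫ (G ◁ g) ≫ μ[G]) f = val (q ≫ fst G _) f :=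
      congrArg (fun z => (Scheme.ΓSpecIso (CommRingCat.of k)).hom (q.left.appTop z)) h1
    rw [Groth.L25.Extension.whiskerLeft_mul, lift_fst, lift_snd_assoc, Category.id_comp, _root_.one_mul,
      hval, hval, map_one] at h2
    rw [h2]
    simp [ev]
  apply (TensorProduct.lid k M).injective
  refine eq_of_sub_eq_zero ((Module.forall_dual_apply_eq_zero_iff k _).1 fun φ => ?_)
  have h := hfix φ
  have hl : ∀ x : k ⊗[k] M, φ (TensorProduct.lid k M x) = ev k φ x := fun x => by
    induction x using TensorProduct.induction_on with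
    | zero => simp
    | add a b ha hb => simp [ha, hb]
    | tmul b m => simp [ev, mul_comm]
  rw [map_sub, hl, h, TensorProduct.lid_tmul, one_smul, sub_self]

end Groth.Agent.S11191
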