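import Groth.Statements.S11188
import Groth.Agent.L25.Observable.Stab
import Groth.Agent.S11191

set_option backward.isDefEq.respectTransparency.types false

set_option autoImplicit false
universe u
open CategoryTheory MonoidalCategory CartesianMonoidalCategory MonObj GrpObj AlgebraicGeometry
open scoped TensorProduct
open AGF

namespace Groth.Agent.S11188

/-- (1) ⇔ (2) ⇔ (3): let k be an algebraically closed field, G a linear algebraic group over k (an
affine smooth group scheme over k) and H a closed subgroup of G (a smooth closed subgroup scheme, i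
: H → G). The following are equivalent: (i) H is observable in G, i.e. a rational point of G whose
right translation fixes every right-H-invariant global function on G lies in H; (ii) there are a
finite-dimensional rational G-module V and a vector v in V whose stabiliser, on rational points, is
H; (iii) there are finitely many right-H-invariant global functions on G which separate the cosets
gH: two rational points of G at which they all take the same values differ by right multiplication
by a rational point of H. -/
theorem result (k : Type u) [Field k] [IsAlgClosed k]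
    (G : Over (Spec (CommRingCat.of k))) [GrpObj G] [IsAffine G.left] [Smooth G.hom]
    (H : Over (Spec (CommRingCat.of k))) [GrpObj H] [Smooth H.hom] (i : H ⟶ G) [IsMonHom i]
    [IsClosedImmersion i.left] :
    List.TFAE [
      AGF.IsObservableIn k i,
      ∃ (V : Type u) (_ : AddCommGroup V) (_ : Module k V) (_ : Module.Finite k V) (ρ : VecGrp.GMod G V) (v : V),
        AGF.IsStabOnPts k i ρ v,
      ∃ s : Finset Γ(G.left, ⊤), (∀ f ∈ s, AGF.IsRTransInv i f) ∧
        ∀ g g' : VecGrp.pt k k ⟶ G, (∀ f ∈ s, g.left.appTop f = g'.left.appTop f) →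
          ∃ h : VecGrp.pt k k ⟶ H, g' = g * (h ≫ i)] := by
  classical
  haveI : IsAffine H.left := isAffine_of_isAffineHom i.left
  obtain ⟨A, _, _, ψ, _, _, _, _⟩ := Groth.L25.Observable.exists_chart G
  open Groth.L25.Observable in
  tfae_have 1 → 3 := by
    intro hobs
    obtain ⟨s, hs, hsep⟩ := exists_finset_separating ψ i ((observable_iff ψ i).1 hobs)
    refine ⟨s.image (fn ψ), fun f hf => ?_, fun g g' h => hsep g g' fun a ha => ?_⟩
    · obtain ⟨a, ha, rfl⟩ := Finset.mem_image.1 hf
      exact (mem_inv'_iff ψ i a).1 (hs ha)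
    · rw [← val_fn, ← val_fn]
      exact congrArg _ (h _ (Finset.mem_image_of_mem _ ha))
  open Groth.L25.Observable in
  tfae_have 3 → 1 := by
    rintro ⟨s, hs, hsep⟩ g hg
    obtain ⟨h, hh⟩ := hsep 1 g fun f hf => by
      obtain ⟨a, rfl⟩ := fn_surjective ψ f
      have := ((inHull_iff ψ i g).2 hg) a ((mem_inv'_iff ψ i a).2 (hs _ hf)) 1
      rw [_root_.one_mul, ← val_fn, ← val_fn] at this
      exact ((ConcreteCategory.bijective_of_isIso (Scheme.ΓSpecIso (CommRingCat.of k)).hom).1 this).symm
    exact ⟨h, by rw [hh, _root_.one_mul]⟩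
  open Groth.L25.Observable in
  tfae_have 1 → 2 := by
    intro hobs
    obtain ⟨n, _, _, m, v, hv⟩ := exists_vector ψ i
    refine ⟨n → k, inferInstance, inferInstance, inferInstance, m, v, fun g => (hv g).trans ⟨fun h =>
      (observable_iff ψ i).1 hobs g h, ?_⟩⟩
    rintro ⟨h, rfl⟩ a ha x
    exact ha x h
  open Groth.L25.Observable in
  tfae_have 2 → 1 := by
    rintro ⟨V, _, _, _, m, v, hv⟩ g hg
    refine (hv g).1 (Groth.Agent.S11191.result k G H i V m g hg v ?_)
    intro B _ _ h
    haveI : IsAffine H.left := isAffine_of_isAffineHom i.left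
    obtain ⟨_, gen, _, hgen, hfac⟩ := Groth.L25.Observable.exists_gen H
    have h0 : m.ρ _ (gen ≫ i) ((1 : Γ(H.left, ⊤)) ⊗ₜ[k] v) = (1 : Γ(H.left, ⊤)) ⊗ₜ[k] v := by
      let b := Module.finBasis k V
      refine (b.baseChange Γ(H.left, ⊤)).repr.injective (Finsupp.ext fun j => hgen _ _ ?_)
      congr 1
      refine eq_of_forall_val fun γ => ?_
      obtain ⟨φ, hφ, hval⟩ : ∃ φ : Γ(H.left, ⊤) →ₐ[k] k, VecGrp.ptMap φ ≫ gen = γ ∧ ∀ f, φ f = val γ f :=
        hfac k γ
      rw [← hval, ← hval]
      have key : ∀ z : Γ(H.left, ⊤) ⊗[k] V, φ ((b.baseChange Γ(H.left, ⊤)).repr z j) =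
          (b.baseChange k).repr (VecGrp.Wmap φ z) j := by
        intro z
        induction z using TensorProduct.induction_on with
        | zero => simp
        | add x y hx hy => simp only [map_add, Finsupp.add_apply, hx, hy]
        | tmul c w => simp [VecGrp.Wmap, mul_comm]
      rw [key, key, m.naturality, ← Category.assoc, hφ,
        show VecGrp.Wmap φ ((1 : Γ(H.left, ⊤)) ⊗ₜ[k] v) = (1 : k) ⊗ₜ[k] v by simp [VecGrp.Wmap],
        (hv (γ ≫ i)).2 ⟨γ, rfl⟩]
    obtain ⟨φ, hφ, -⟩ := hfac B h
    have h1 := congrArg (VecGrp.Wmap φ) h0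
    rw [m.naturality, ← Category.assoc, hφ,
      show VecGrp.Wmap φ ((1 : Γ(H.left, ⊤)) ⊗ₜ[k] v) = (1 : B) ⊗ₜ[k] v by simp [VecGrp.Wmap]] at h1
    exact h1
  tfae_finish

end Groth.Agent.S11188
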