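import Groth.Statements.S1119
import Groth.Agent.L29.BC.PCTest

set_option autoImplicit false
set_option backward.isDefEq.respectTransparency false
universe u
open CategoryTheory CategoryTheory.Limits AlgebraicGeometry Opposite
attribute [local instance] HasDerivedCategory.standard
open Perf

namespace Groth.Agent.S1119

/-- Let A be a ring, π : X ⟶ Spec A with X quasi-compact and quasi-separated, and K a cochain complex of
O_X-modules whose image in D(O_X) is bounded above with quasi-coherent cohomology sheaves. Assuming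
Rπ_* and - ⊗^L K exist: if Rπ_*(E ⊗^L K) is pseudo-coherent on Spec A for every perfect E ∈ D(O_X),
then Rπ_*(E ⊗^L K) is pseudo-coherent for every pseudo-coherent E ∈ D(O_X). (The source phrases the
condition with RΓ(X, -) valued in D(A); on the affine base the two formulations correspond under
D(A) ≃ D_QCoh(Spec A).) -/
theorem result (A : Type u) [CommRing A] (X : Scheme.{u}) [CompactSpace ↥X] [QuasiSeparatedSpace ↥X]
    (π : X ⟶ Spec (CommRingCat.of A)) [DCoh.HasRpush π]
    (K : CochainComplex X.Modules ℤ) (hK : DCoh.IsQCohD (DCoh.toD X K)) (b : ℤ) [(DCoh.toD X K).IsLE b] [DCoh.HasLTensorCx K]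
    (h : ∀ E : DCoh.D X, DCoh.IsPerfect E → ∀ m : ℤ, DCoh.IsPseudoCoherentD m ((DCoh.Rpush π).obj ((DCoh.LTensorCx K).obj E)))
    (E : DCoh.D X) (hE : ∀ m : ℤ, DCoh.IsPseudoCoherentD m E) (m : ℤ) :
    DCoh.IsPseudoCoherentD m ((DCoh.Rpush π).obj ((DCoh.LTensorCx K).obj E)) := by
  haveI : QuasiCompact π := HasAffineProperty.iff_of_isAffine.2 ‹CompactSpace ↥X›
  haveI : QuasiSeparated π := HasAffineProperty.iff_of_isAffine.2 ‹QuasiSeparatedSpace ↥X›
  exact Groth.L29.BC.PCTest.pc_of_perfect_test π K hK b inferInstance h E hE m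

end Groth.Agent.S1119
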