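import Groth.Statements.S11192
import Groth.Agent.L25.Extend.Main
import Groth.Agent.L25.ConnIrred
import Groth.Agent.S9821

set_option backward.isDefEq.respectTransparency.types false

set_option autoImplicit false
universe u
open CategoryTheory MonoidalCategory CartesianMonoidalCategory MonObj GrpObj AlgebraicGeometry
open scoped TensorProduct
open AGF

namespace Groth.Agent.S11192

/-- Let k be an algebraically closed field, G a linear algebraic group over k (an affine smooth group
scheme over k) and H a closed subgroup of G (a smooth closed subgroup scheme, i : H → G), with G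
connected. Then the ring of global functions on G invariant under right translation by H is
integrally closed. -/
theorem result (k : Type u) [Field k] [IsAlgClosed k]
    (G : Over (Spec (CommRingCat.of k))) [GrpObj G] [IsAffine G.left] [Smooth G.hom]
    (H : Over (Spec (CommRingCat.of k))) [GrpObj H] [Smooth H.hom] (i : H ⟶ G) [IsMonHom i]
    [IsClosedImmersion i.left] [ConnectedSpace G.left] :
    IsIntegrallyClosed ↥(AGF.rTransInv i) := by
  have hN := Groth.L25.Extend.isNormalScheme_of_smooth G.hom (Groth.L25.Extend.isNormalScheme_field k)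
  have : IsReduced G.left := Groth.L25.Extend.isReduced_of_normal hN
  have : IrreducibleSpace G.left := Groth.L25.ConnIrred.irreducibleSpace (G := G)
  have : IsIntegral G.left := isIntegral_of_irreducibleSpace_of_isReduced G.left
  have : Nonempty (⊤ : G.left.Opens) := ⟨⟨genericPoint G.left, trivial⟩⟩
  have : IsIntegrallyClosed Γ(G.left, ⊤) := (Groth.Agent.S9821.result G.left).1 hN ⊤ (isAffineOpen_top G.left)
  let A := Γ(G.left, ⊤)
  let B := AGF.rTransInv i
  let φ₁ := ((G ◁ i) ≫ μ[G]).left.appTop.hom
  let φ₂ := (fst G H).left.appTop.hom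
  have hreg : ∀ b : A, b ≠ 0 → IsRegular (φ₂ b) := by
    intro b hb
    have : IsAffineHom i.left := inferInstance
    have : IsAffine H.left := isAffine_of_isAffineHom i.left
    have : IsAffine (G ⊗ H).left := inferInstanceAs (IsAffine (CategoryTheory.Limits.pullback G.hom H.hom))
    have : Flat (fst G H).left := inferInstanceAs (Flat (CategoryTheory.Limits.pullback.fst G.hom H.hom))
    have hf : φ₂.Flat := (HasRingHomProperty.iff_of_isAffine (P := @Flat)).1 ‹_›
    letI : Algebra A Γ((G ⊗ H).left, ⊤) := φ₂.toAlgebra
    haveI : Module.Flat A Γ((G ⊗ H).left, ⊤) := hf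
    have h1 : IsSMulRegular A b := fun x y h => mul_left_cancel₀ hb h
    refine (Commute.isRegular_iff (Commute.all _)).2 fun x y h => ?_
    exact (IsSMulRegular.of_flat (S := Γ((G ⊗ H).left, ⊤)) h1) (h : φ₂ b * x = φ₂ b * y)
  rw [isIntegrallyClosed_iff (FractionRing B)]
  intro x hx
  let jj : FractionRing B →+* FractionRing A := IsFractionRing.map (show Function.Injective B.subtype from Subtype.val_injective)
  have hjjB : ∀ b : B, jj (algebraMap B _ b) = algebraMap A _ (b : A) := fun b => IsLocalization.map_eq _ b
  have hint : IsIntegral A (jj x) := by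
    obtain ⟨P, hP, hPx⟩ := hx
    refine ⟨P.map B.subtype, hP.map _, ?_⟩
    rw [Polynomial.eval₂_map, show (algebraMap A (FractionRing A)).comp B.subtype = jj.comp (algebraMap B _) from
      RingHom.ext fun b => (hjjB b).symm, ← Polynomial.hom_eval₂, hPx, map_zero]
  obtain ⟨c, hc⟩ := IsIntegrallyClosed.isIntegral_iff.1 hint
  obtain ⟨a, b, hb, rfl⟩ := IsFractionRing.div_surjective (A := B) x
  have hb0 : (b : A) ≠ 0 := fun h => nonZeroDivisors.ne_zero hb (Subtype.ext h)
  have hcb : c * (b : A) = a := by
    rw [map_div₀, hjjB, hjjB, eq_div_iff (IsFractionRing.to_map_ne_zero_of_mem_nonZeroDivisors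
      (mem_nonZeroDivisors_of_ne_zero hb0)), ← map_mul] at hc
    exact IsFractionRing.injective A (FractionRing A) hc
  have hmem : c ∈ B := by
    show φ₁ c = φ₂ c
    apply (hreg _ hb0).right
    show φ₁ c * φ₂ b = φ₂ c * φ₂ b
    rw [← map_mul φ₂, hcb]
    nth_rw 1 [← (show φ₁ b = φ₂ b from b.2)]
    rw [← map_mul, hcb]
    exact a.2
  refine ⟨⟨c, hmem⟩, ?_⟩
  rw [eq_div_iff (IsFractionRing.to_map_ne_zero_of_mem_nonZeroDivisors hb), ← map_mul]
  exact congrArg _ (Subtype.ext hcb)

end Groth.Agent.S11192
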