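import Groth.Statements.S11194
import Groth.Agent.L25.Observable.FiniteIndex
import Groth.Agent.L25.Translate

set_option autoImplicit false
set_option backward.isDefEq.respectTransparency.types false
universe u
open CategoryTheory MonoidalCategory CartesianMonoidalCategory MonObj GrpObj AlgebraicGeometry
open scoped TensorProduct
open AGF Groth.L25.Observable

namespace Groth.Agent.S11194

/-- (i) ⇔ (iii): let k be an algebraically closed field, G a linear algebraic group over k (an affine
smooth group scheme over k) and H a closed subgroup of G (a smooth closed subgroup scheme, i : H →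
G); let G₀ ⊆ G and H₀ ⊆ H be the identity components (connected open subgroup schemes) and i₀ : H₀ →
G₀ the induced homomorphism. Then H is observable in G if and only if H₀ is observable in G₀. -/
theorem result (k : Type u) [Field k] [IsAlgClosed k]
    (G : Over (Spec (CommRingCat.of k))) [GrpObj G] [IsAffine G.left] [Smooth G.hom]
    (H : Over (Spec (CommRingCat.of k))) [GrpObj H] [Smooth H.hom] (i : H ⟶ G) [IsMonHom i]
    [IsClosedImmersion i.left]
    (G₀ : Over (Spec (CommRingCat.of k))) [GrpObj G₀] [ConnectedSpace G₀.left] (jG : G₀ ⟶ G) [IsMonHom jG]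
    [IsOpenImmersion jG.left]
    (H₀ : Over (Spec (CommRingCat.of k))) [GrpObj H₀] [ConnectedSpace H₀.left] (jH : H₀ ⟶ H) [IsMonHom jH]
    [IsOpenImmersion jH.left] (i₀ : H₀ ⟶ G₀) [IsMonHom i₀] (hc : i₀ ≫ jG = jH ≫ i) :
    AGF.IsObservableIn k i ↔ AGF.IsObservableIn k i₀ := by
  haveI : Smooth G₀.hom := by rw [← Over.w jG]; infer_instance
  haveI : Smooth H₀.hom := by rw [← Over.w jH]; infer_instance
  have closedImm : ∀ {X Y : Over (Spec (CommRingCat.of k))} [GrpObj X] [GrpObj Y] [LocallyOfFiniteType Y.hom]
      (f : X ⟶ Y) [IsMonHom f] [IsOpenImmersion f.left], IsClosedImmersion f.left := by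
    intro X Y _ _ _ f _ _
    haveI : LocallyOfFiniteType X.hom := by rw [← Over.w f]; infer_instance
    exact IsClosedImmersion.of_isPreimmersion f.left
      (Groth.L25.Translate.isClosed_range_of_inter f f.left.isOpenEmbedding.isOpen_range
        (Set.inter_eq_self_of_subset_right subset_closure).symm)
  haveI : IsClosedImmersion jG.left := closedImm jG
  haveI : IsClosedImmersion jH.left := closedImm jH
  haveI : IsAffine G₀.left := isAffine_of_isAffineHom jG.left
  haveI : IsClosedImmersion (jH ≫ i).left := inferInstanceAs (IsClosedImmersion (jH.left ≫ i.left))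
  haveI : IsClosedImmersion i₀.left := by
    haveI : IsClosedImmersion (i₀.left ≫ jG.left) := by
      have e : (i₀ ≫ jG).left = (jH ≫ i).left := congrArg (fun f => f.left) hc
      show IsClosedImmersion (i₀ ≫ jG).left
      rw [e]; infer_instance
    exact IsClosedImmersion.of_comp i₀.left jG.left
  constructor
  · intro h
    refine observable_of_comp jG i₀ ?_
    rw [hc]
    haveI : IsAffine H.left := isAffine_of_isAffineHom i.left
    exact observable_comp i jH (observable_of_isOpenImmersion jH) h
  · intro h
    refine observable_of_finiteIndex i jH ?_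
    rw [← hc]
    exact observable_comp jG i₀ h (observable_of_isOpenImmersion jG)

end Groth.Agent.S11194
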