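import Groth.Statements.S11196
import Groth.Agent.L25.Observable.Solvable
import Groth.Agent.L08.IdentityComponent
import Groth.Agent.S11194

set_option autoImplicit false
set_option backward.isDefEq.respectTransparency.types false
universe u
open CategoryTheory MonoidalCategory CartesianMonoidalCategory MonObj GrpObj AlgebraicGeometry
open scoped TensorProduct
open AGF Groth.L25.Observable

namespace Groth.Agent.S11196

/-- Let k be an algebraically closed field, G a linear algebraic group over k (an affine smooth group
scheme over k) and H a closed subgroup of G (a smooth closed subgroup scheme, i : H → G), with G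
solvable. Then H is observable in G. -/
theorem result (k : Type u) [Field k] [IsAlgClosed k]
    (G : Over (Spec (CommRingCat.of k))) [GrpObj G] [IsAffine G.left] [Smooth G.hom]
    (H : Over (Spec (CommRingCat.of k))) [GrpObj H] [Smooth H.hom] (i : H ⟶ G) [IsMonHom i]
    [IsClosedImmersion i.left]
    (hs : Red.IsSolvableGrp G) :
    AGF.IsObservableIn k i := by
  haveI : IsAffine H.left := isAffine_of_isAffineHom i.left
  obtain ⟨G₀, _, jG, _, _, _, hG⟩ := Groth.L08.IdComp.exists_identityComponent G
  obtain ⟨H₀, _, jH, _, _, _, hH⟩ := Groth.L08.IdComp.exists_identityComponent H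
  have conn : ∀ {X Y : Over (Spec (CommRingCat.of k))} [GrpObj Y] (f : X ⟶ Y) [IsOpenImmersion f.left],
      Set.range f.left = connectedComponent (Groth.L25.Component.one Y) → ConnectedSpace X.left := by
    intro X Y _ f _ hr
    have h1 : _root_.IsConnected (f.left ⁻¹' Set.range f.left) :=
      (hr ▸ isConnected_connectedComponent).preimage_of_isOpenMap f.left.isOpenEmbedding.injective
        f.left.isOpenEmbedding.isOpenMap (Set.Subset.refl _)
    rw [Set.preimage_range] at h1
    exact connectedSpace_iff_univ.2 h1
  haveI : ConnectedSpace G₀.left := conn jG hG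
  haveI : ConnectedSpace H₀.left := conn jH hH
  haveI : Smooth G₀.hom := by rw [← Over.w jG]; infer_instance
  haveI : Smooth H₀.hom := by rw [← Over.w jH]; infer_instance
  haveI : IsAffine G₀.left := isAffine_of_isAffineHom jG.left
  haveI : Mono jG := Over.mono_of_mono_left jG
  -- the identity component maps into the identity component
  have hone : (jH ≫ i).left (η[H₀].left (IsLocalRing.closedPoint k)) = Groth.L25.Component.one G := by
    have e : η[H₀] ≫ jH ≫ i = η[G] := by rw [IsMonHom.one_hom_assoc, IsMonHom.one_hom]
    exact congrArg (fun f => f.left (IsLocalRing.closedPoint k)) e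
  have hsub : Set.range (jH ≫ i).left ⊆ Set.range jG.left := by
    rw [hG]
    rintro _ ⟨x, rfl⟩
    exact Groth.L08.IdComp.mem_component_of_preconnected (jH ≫ i).left hone x
  let i₀ : H₀ ⟶ G₀ := Over.homMk (IsOpenImmersion.lift jG.left (jH ≫ i).left hsub)
    (by rw [← Over.w jG, IsOpenImmersion.lift_fac_assoc]; exact Over.w _)
  have hc : i₀ ≫ jG = jH ≫ i := Over.OverMorphism.ext (IsOpenImmersion.lift_fac _ _ _)
  haveI : IsMonHom i₀ :=
    ⟨(cancel_mono jG).1 (by rw [Category.assoc, hc, IsMonHom.one_hom_assoc, IsMonHom.one_hom, IsMonHom.one_hom]),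
      (cancel_mono jG).1 (by
        rw [Category.assoc, hc, IsMonHom.mul_hom_assoc, IsMonHom.mul_hom, Category.assoc, IsMonHom.mul_hom,
          MonoidalCategory.tensorHom_comp_tensorHom_assoc, MonoidalCategory.tensorHom_comp_tensorHom_assoc, hc])⟩
  haveI : IsClosedImmersion i₀.left := by
    haveI : IsClosedImmersion (i₀.left ≫ jG.left) := by
      have e : (i₀ ≫ jG).left = (jH ≫ i).left := congrArg (fun f => f.left) hc
      show IsClosedImmersion (i₀ ≫ jG).left
      rw [e]
      exact inferInstanceAs (IsClosedImmersion (jH.left ≫ i.left))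
    exact IsClosedImmersion.of_comp i₀.left jG.left
  have hs₀ : Red.IsSolvableGrp G₀ := by
    obtain ⟨n, hn⟩ := hs
    refine ⟨n, fun X => ?_⟩
    let Φ : (X ⟶ G₀) →* (X ⟶ G) := MonoidHom.mk' (fun a => a ≫ jG) fun a b => MonObj.mul_comp a b jG
    refine (Subgroup.map_eq_bot_iff_of_injective _ (f := Φ) fun a b e => (cancel_mono jG).1 e).1 (le_bot_iff.1 ?_)
    exact (map_derivedSeries_le_derivedSeries Φ n).trans (hn X).le
  exact (Groth.Agent.S11194.result k G H i G₀ jG H₀ jH i₀ hc).2 (observable_of_connected_solvable i₀ hs₀)

end Groth.Agent.S11196
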