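import Groth.Statements.S11198
import Groth.Agent.L25.Observable.Hull
import Groth.Agent.L25.Actions
import Groth.Agent.L25.GaPts
import Groth.Agent.L20.GeomFibre
import Mathlib.AlgebraicGeometry.Morphisms.Proper

set_option backward.isDefEq.respectTransparency.types false

set_option autoImplicit false
universe u
open CategoryTheory MonoidalCategory CartesianMonoidalCategory MonObj GrpObj AlgebraicGeometry
open scoped TensorProduct
open AGF

namespace Groth.Agent.S11198

/-- Let k be an algebraically closed field, G a linear algebraic group over k and H₁ ⊆ H₂ ⊆ G closed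
subgroups (smooth closed subgroup schemes i₁ : H₁ → H₂, i₂ : H₂ → G), such that the quotient H₂/H₁
(the scheme X with H₂-action a and base point o) is proper over k and irreducible. Then a global
function on G is invariant under right translation by H₁ if and only if it is invariant under right
translation by H₂. -/
theorem result (k : Type u) [Field k] [IsAlgClosed k]
    (G : Over (Spec (CommRingCat.of k))) [GrpObj G] [IsAffine G.left] [Smooth G.hom]
    (H₂ : Over (Spec (CommRingCat.of k))) [GrpObj H₂] [Smooth H₂.hom] (i₂ : H₂ ⟶ G) [IsMonHom i₂] [IsClosedImmersion i₂.left]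
    (H₁ : Over (Spec (CommRingCat.of k))) [GrpObj H₁] [Smooth H₁.hom] (i₁ : H₁ ⟶ H₂) [IsMonHom i₁] [IsClosedImmersion i₁.left]
    (X : Over (Spec (CommRingCat.of k))) (a : AlgGrp.Action H₂ X) (o : 𝟙_ (Over (Spec (CommRingCat.of k))) ⟶ X) (hX : AGF.IsQuotient i₁ X a o)
    [IsProper X.hom] [IrreducibleSpace X.left] :
    AGF.rTransInv (i₁ ≫ i₂) = AGF.rTransInv i₂ := by
  classical
  haveI : IsAffine H₂.left := isAffine_of_isAffineHom i₂.left
  haveI : IsAffine H₁.left := isAffine_of_isAffineHom i₁.left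
  obtain ⟨A, _, _, ψ, _, _, _, _⟩ := Groth.L25.Observable.exists_chart G
  open Groth.L25.Observable in
  ext f
  obtain ⟨c, rfl⟩ := Groth.L25.Observable.fn_surjective ψ f
  rw [AGF.mem_rTransInv_iff, AGF.mem_rTransInv_iff, ← Groth.L25.Observable.mem_inv'_iff,
    ← Groth.L25.Observable.mem_inv'_iff]
  open Groth.L25.Observable in
  refine ⟨fun hc x h => ?_, fun hc x h => ?_⟩
  rotate_left
  · rw [← Category.assoc]; exact hc x (h ≫ i₁)
  obtain ⟨hXft, hpf, hps, hsq⟩ := hX
  let p := a.orbitMap o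
  haveI : Flat p.left := hpf
  haveI : Surjective p.left := hps
  haveI : LocallyOfFiniteType X.hom := hXft
  haveI : IsLocallyNoetherian X.left := LocallyOfFiniteType.isLocallyNoetherian X.hom
  haveI : LocallyOfFiniteType p.left := by
    haveI : LocallyOfFiniteType (p.left ≫ X.hom) := by rw [Over.w p]; infer_instance
    exact locallyOfFiniteType_of_comp p.left X.hom
  haveI : LocallyOfFinitePresentation p.left := LocallyOfFinitePresentation.iff_locallyOfFiniteType.2 ‹_›
  haveI : EffectiveEpi p.left := inferInstance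
  -- the function on the bigger subgroup
  let F : Γ(H₂.left, ⊤) := i₂.left.appTop (Groth.L25.Observable.fn ψ (Groth.L25.Observable.L (Groth.L25.Observable.ev ψ x).ofConv c))
  have hF : ∀ t : VecGrp.pt k k ⟶ H₂, Groth.L25.Observable.val t F =
      (Groth.L25.Observable.ev ψ (x * (t ≫ i₂))).ofConv c := fun t => by
    rw [← Groth.L25.Observable.val_comp, Groth.L25.Observable.val_fn, Groth.L25.Observable.apply_L_pt,
      ← Groth.L25.Observable.ev_mul]
  haveI : IsAffine (H₂ ⊗ H₁).left := inferInstanceAs (IsAffine (CategoryTheory.Limits.pullback H₂.hom H₁.hom))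
  haveI : Smooth (H₂ ⊗ H₁).hom :=
    inferInstanceAs (Smooth (CategoryTheory.Limits.pullback.fst H₂.hom H₁.hom ≫ H₂.hom))
  have hinv : ((H₂ ◁ i₁) ≫ μ[H₂]).left.appTop F = (fst H₂ H₁).left.appTop F := by
    refine Groth.L25.Observable.eq_of_forall_val fun q => ?_
    rw [← Groth.L25.Observable.val_comp q ((H₂ ◁ i₁) ≫ μ[H₂]) F, ← Groth.L25.Observable.val_comp q (fst H₂ H₁) F, hF, hF]
    have e : q ≫ (H₂ ◁ i₁) ≫ μ[H₂] = (q ≫ fst H₂ H₁) * ((q ≫ snd H₂ H₁) ≫ i₁) := by
      rw [Hom.mul_def, ← Category.assoc]; congr 1; ext <;> simp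
    rw [e, MonObj.mul_comp, ← _root_.mul_assoc, Category.assoc _ i₁ i₂]
    exact hc _ _
  let e : H₂ ⟶ Red.Ga (Spec (CommRingCat.of k)) := Groth.L25.GaPts.ptOfElt F
  obtain ⟨d, hd, -⟩ := Groth.L25.Actions.existsUnique_desc p e (fun Z g₁ g₂ hg => by
    have h1 := hsq.lift_fst g₂ g₁ hg.symm
    have h2 := hsq.lift_snd g₂ g₁ hg.symm
    generalize hsq.lift g₂ g₁ hg.symm = l at h1 h2
    have h3 : ((H₂ ◁ i₁) ≫ μ[H₂]) ≫ e = fst H₂ H₁ ≫ e := by
      rw [Groth.L25.GaPts.ptOfElt_comp, Groth.L25.GaPts.ptOfElt_comp, hinv]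
    rw [← h1, ← h2, Category.assoc, Category.assoc _ (fst H₂ H₁) e, h3])
  haveI : IsIntegral X.left := by
    haveI : AlgebraicGeometry.IsReduced H₂.left := Groth.Agent.AV.isReduced_of_smooth_field H₂.hom
    haveI : AlgebraicGeometry.IsReduced X.left := Groth.L20.isReduced_of_surjective_of_flat p.left
    exact isIntegral_of_irreducibleSpace_of_isReduced _
  obtain ⟨c₀, hc₀⟩ : ∃ c₀ : k, Red.gaFn d = X.hom.appTop ((Scheme.ΓSpecIso (CommRingCat.of k)).inv c₀) := by
    let φ := (Scheme.ΓSpecIso (CommRingCat.of k)).inv ≫ X.hom.appTop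
    letI := (isField_of_universallyClosed k X.hom).toField
    have hfin : φ.hom.Finite := by
      rw [CommRingCat.hom_comp]
      exact (finite_appTop_of_universallyClosed k X.hom).comp
        (RingHom.Finite.of_surjective _ (ConcreteCategory.bijective_of_isIso (Scheme.ΓSpecIso (CommRingCat.of k)).inv).2)
    algebraize [φ.hom]
    obtain ⟨c₀, hc₀⟩ := (IsAlgClosed.algebraMap_bijective_of_isIntegral (k := k) (K := Γ(X.left, ⊤))).2 (Red.gaFn d)
    exact ⟨c₀, hc₀.symm⟩
  have hconst : ∀ t : VecGrp.pt k k ⟶ H₂, Groth.L25.Observable.val t F = c₀ := by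
    intro t
    have e1 : F = p.left.appTop (Red.gaFn d) := by
      rw [← Groth.L25.GaPts.gaFn_comp, hd, Groth.L25.GaPts.gaFn_ptOfElt]
    rw [e1, ← Groth.L25.Observable.val_comp, hc₀]
    have hw : ((t ≫ p).left ≫ X.hom) = 𝟙 (Spec (CommRingCat.of k)) :=
      (Over.w (t ≫ p)).trans (Spec.map_id (CommRingCat.of k))
    show (Scheme.ΓSpecIso (CommRingCat.of k)).hom (((t ≫ p).left ≫ X.hom).appTop _) = c₀
    rw [hw]
    exact congr($((Scheme.ΓSpecIso (CommRingCat.of k)).inv_hom_id) c₀)
  have h1 := hF h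
  have h2 := hF 1
  rw [hconst] at h1 h2
  rw [← h1, h2, MonObj.one_comp, _root_.mul_one]

end Groth.Agent.S11198
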