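import Groth.Statements.S1120
import Groth.Agent.Lead.FlatPerfect
import Groth.Agent.L17.Strat.GenBase
import Groth.Agent.L29.DCoh.EvalMain

set_option backward.isDefEq.respectTransparency false
set_option linter.style.haveILetI false


set_option autoImplicit false
universe u
open CategoryTheory CategoryTheory.Limits AlgebraicGeometry Opposite
attribute [local instance] HasDerivedCategory.standard
open Perf

namespace Groth.Agent.S1120

/-- Let f : X → S be a morphism of schemes of finite presentation (locally of finite presentation,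
quasi-compact and quasi-separated), let E be a cochain complex of 𝒪_X-modules that becomes perfect
in D(𝒪_X), and let G be a finitely presented 𝒪_X-module that is S-flat and whose support is proper
over S. Assuming the derived functors involved exist, Rf_* RHom(E, G) is a perfect object of D(𝒪_S).
(The published statement also allows G to be a bounded complex of such modules and proves
compatibility with base change; neither claim is made here.) -/
theorem result {X S : Scheme.{u}} (f : X ⟶ S) [LocallyOfFinitePresentation f] [QuasiCompact f] [QuasiSeparated f]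
    (E : CochainComplex X.Modules ℤ) (hE : DCoh.IsPerfect (DCoh.toD X E)) [DCoh.HasLTensorCx E] [DCoh.HasRSheafHom E] [DCoh.HasRpush f]
    (G : X.Modules) (hG : CohB1.IsFP G) (hflat : FlatMod.IsFlatOver f G) (hsupp : ClSub.IsProperOver f (CohB1.support G)) :
    DCoh.IsPerfect ((DCoh.Rpush f).obj ((DCoh.RSheafHom E).obj (DCoh.inD X G))) := by
  let R := (Groth.L00.KFlat.RF X).obj E
  haveI := Groth.L00.KFlat.quasiIso_rF E
  haveI := Groth.L00.KFlat.hasLTensorCx R
  haveI := Groth.L29.DC.RHom.hasRSheafHom R
  let eR : DCoh.toD X R ≅ DCoh.toD X E :=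
    @asIso _ _ _ _ (DerivedCategory.Q.map ((Groth.L00.KFlat.rF X).app E))
      ((DerivedCategory.isIso_Q_map_iff_quasiIso _ _).2 (Groth.L00.KFlat.quasiIso_rF E))
  have hRp : DCoh.IsPerfect (DCoh.toD X R) := Groth.L29.DC.isPerfect_of_iso eR.symm hE
  have hRf : DCoh.IsKFlat R := Groth.L00.KFlat.isKFlat_RF E
  let M := (DCoh.RSheafHom R).obj (DCoh.toD X (Groth.L29.DC.RHom.O0 X))
  obtain ⟨D, q, hD, -, hq, -⟩ := Groth.L00.KFlat.exists_resolution (DerivedCategory.Q.objPreimage M)
  let eD : DCoh.toD X D ≅ M :=
    @asIso _ _ _ _ (DerivedCategory.Q.map q) ((DerivedCategory.isIso_Q_map_iff_quasiIso _ q).2 hq) ≪≫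
      DerivedCategory.Q.objObjPreimageIso M
  haveI := Groth.L00.KFlat.hasLTensorCx D
  haveI := Groth.L00.DerivedApi.hasLTensorMod G
  obtain ⟨a⟩ := Groth.L29.DC.EvalMain.nonempty_RSheafHom_iso eR
  obtain ⟨b⟩ := Groth.L29.DC.EvalMain.nonempty_dual R D hRf hRp hD ⟨eD⟩ (DCoh.inD X G)
  obtain ⟨c⟩ := Groth.Lead.FlatPerfect.nonempty_swap G D hD
  have hDp : DCoh.IsPerfect (DCoh.toD X D) :=
    Groth.L29.DC.isPerfect_of_iso eD.symm (Groth.L29.DC.EvalMain.isPerfect_dual R hRf hRp)
  exact Groth.L29.DC.isPerfect_of_iso ((DCoh.Rpush f).mapIso (c ≪≫ b ≪≫ a.app _))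
    (Groth.Lead.FlatPerfect.isPerfect_Rpush_LTensorMod f hDp G hG (Groth.L17.Strat.isQCoh_of_isFP G hG) hflat hsupp)


end Groth.Agent.S1120
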