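import Groth.Statements.S11200
import Groth.Agent.L08.HomSpace.Quot
import Groth.Agent.L25.Bridge.Lift
import Groth.Prelude.Def_GmPts

set_option backward.isDefEq.respectTransparency.types false
set_option maxHeartbeats 1000000

set_option autoImplicit false
universe u
open CategoryTheory MonoidalCategory CartesianMonoidalCategory MonObj GrpObj AlgebraicGeometry
open scoped TensorProduct
open AGF

namespace Groth.Agent.S11200

open scoped TensorProduct
open WithConv Groth.L08 Groth.L08.HomSpace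

variable {k : Type u} [Field k]

/-- the value of a global function at an affine point -/
noncomputable def val {G : Over (Spec (CommRingCat.of k))} {B : Type u} [CommRing B] [Algebra k B]
    (γ : specOf k B ⟶ G) (f : Γ(G.left, ⊤)) : B :=
  (Scheme.ΓSpecIso (CommRingCat.of B)).hom (γ.left.appTop f)

theorem val_comp {G G' : Over (Spec (CommRingCat.of k))} {B : Type u} [CommRing B] [Algebra k B]
    (γ : specOf k B ⟶ G) (q : G ⟶ G') (f : Γ(G'.left, ⊤)) : val (γ ≫ q) f = val γ (q.left.appTop f) := by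
  simp [val]

theorem exists_gen (G : Over (Spec (CommRingCat.of k))) [IsAffine G.left] :
    ∃ (_ : Algebra k Γ(G.left, ⊤)) (gen : specOf k Γ(G.left, ⊤) ⟶ G),
      ∀ f f' : Γ(G.left, ⊤), val gen f = val gen f' → f = f' := by
  let a : CommRingCat.of k ⟶ Γ(G.left, ⊤) := (Scheme.ΓSpecIso (CommRingCat.of k)).inv ≫ G.hom.appTop
  letI : Algebra k Γ(G.left, ⊤) := a.hom.toAlgebra
  have ha : Spec.map a = G.left.isoSpec.inv ≫ G.hom := by
    rw [Iso.eq_inv_comp, Spec.map_comp, Scheme.isoSpec_hom_naturality_assoc, Scheme.isoSpec_Spec_hom]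
    simp [← Spec.map_comp]
  have hw : G.left.isoSpec.inv ≫ G.hom = (specOf k Γ(G.left, ⊤)).hom := ha.symm
  refine ⟨this, Over.homMk G.left.isoSpec.inv hw, fun f f' e => ?_⟩
  have e1 := (ConcreteCategory.bijective_of_isIso (Scheme.ΓSpecIso (CommRingCat.of Γ(G.left, ⊤))).hom).1 e
  exact (ConcreteCategory.bijective_of_isIso ((Scheme.Γ).map G.left.isoSpec.inv.op)).1 e1

/-- the value of a coordinate function at a point -/
theorem val_mapMulEquiv {A B : Type u} [CommRing A] [HopfAlgebra k A] [CommRing B] [Algebra k B]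
    (g : WithConv (A →ₐ[k] B)) (a : A) :
    val (Spec.mapMulEquiv g) ((Scheme.ΓSpecIso (CommRingCat.of A)).inv a) = g.ofConv a := by
  have h := Scheme.ΓSpecIso_inv_naturality (CommRingCat.ofHom g.ofConv.toRingHom)
  have h' := congr($h a)
  change (Scheme.ΓSpecIso (CommRingCat.of B)).hom
    ((Spec.map (CommRingCat.ofHom g.ofConv.toRingHom)).appTop ((Scheme.ΓSpecIso (CommRingCat.of A)).inv a)) = _
  simp only [CommRingCat.comp_apply] at h'
  exact (congrArg _ h'.symm).trans congr($((Scheme.ΓSpecIso (CommRingCat.of B)).inv_hom_id) (g.ofConv a))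


/-- Let k be an algebraically closed field, G a linear algebraic group over k (an affine smooth group
scheme over k) and H a closed subgroup of G (a smooth closed subgroup scheme, i : H → G). If H has
no non-trivial character (every homomorphism from H to the multiplicative group is trivial), then H
is observable in G. -/
theorem result (k : Type u) [Field k] [IsAlgClosed k]
    (G : Over (Spec (CommRingCat.of k))) [GrpObj G] [IsAffine G.left] [Smooth G.hom]
    (H : Over (Spec (CommRingCat.of k))) [GrpObj H] [Smooth H.hom] (i : H ⟶ G) [IsMonHom i]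
    [IsClosedImmersion i.left]
    (hχ : ∀ (χ : H ⟶ Red.Gm (Spec (CommRingCat.of k))), IsMonHom χ → χ = 1) :
    AGF.IsObservableIn k i := by
  classical
  obtain ⟨A, _, _, ⟨eG⟩⟩ := Groth.L25.Bridge.exists_hopf G
  let φ : specOf k A ⟶ G := eG.inv.hom.hom
  let ψ : G ⟶ specOf k A := eG.hom.hom.hom
  have h1 : φ ≫ ψ = 𝟙 _ := congrArg (fun f => f.hom.hom) eG.inv_hom_id
  have h2 : ψ ≫ φ = 𝟙 G := congrArg (fun f => f.hom.hom) eG.hom_inv_id
  haveI : IsMonHom ψ := eG.hom.hom.isMonHom_hom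
  haveI : IsIso φ := ⟨ψ, h1, h2⟩
  haveI : IsIso ψ := ⟨φ, h2, h1⟩
  haveI : IsIso ψ.left := inferInstanceAs (IsIso ((Over.forget _).map ψ))
  haveI : IsIso φ.left := inferInstanceAs (IsIso ((Over.forget _).map φ))
  haveI hft : LocallyOfFiniteType (specOf k A).hom := by rw [← Over.w φ]; infer_instance
  haveI : Algebra.FiniteType k A := by
    change LocallyOfFiniteType (Spec.map (CommRingCat.ofHom (algebraMap k A))) at hft
    rwa [HasRingHomProperty.Spec_iff (P := @LocallyOfFiniteType), CommRingCat.hom_ofHom,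
      RingHom.finiteType_algebraMap] at hft
  let i' : H ⟶ specOf k A := i ≫ ψ
  haveI : IsMonHom i' := inferInstanceAs (IsMonHom (i ≫ ψ))
  haveI : IsClosedImmersion i'.left := inferInstanceAs (IsClosedImmersion (i.left ≫ ψ.left))
  obtain ⟨I, hI, hpts⟩ := exists_hopfIdeal i'
  obtain ⟨V, _, _, _, hfin, v, hv, hrep⟩ := Chevalley.exists_line (k := k) I
  let b := Module.finBasis k V
  obtain ⟨φ₀, hφ₀⟩ : ∃ φ₀ : V →ₗ[k] k, φ₀ v = 1 := by
    obtain ⟨e, he⟩ := LinearMap.exists_leftInverse_of_injective (LinearMap.toSpanSingleton k V v)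
      (LinearMap.ker_eq_bot.2 (smul_left_injective k hv))
    exact ⟨e, by simpa using LinearMap.congr_fun he 1⟩
  let a₀ : A := ∑ j, φ₀ (b j) • coords A b v j
  -- the character of the subgroup
  let F : Γ(H.left, ⊤) := i'.left.appTop ((Scheme.ΓSpecIso (CommRingCat.of A)).inv a₀)
  have hline : ∀ (R : Type u) [CommRing R] [Algebra k R] (z : specOf k R ⟶ H),
      ∃ g : WithConv (A →ₐ[k] R), Spec.mapMulEquiv g = z ≫ i' ∧
        ptHom V R g (1 ⊗ₜ v) = val z F • ((1 : R) ⊗ₜ[k] v) := by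
    intro R _ _ z
    obtain ⟨g, hg⟩ := (Spec.mapMulEquiv (R := k) (S := A) (T := R)).surjective (z ≫ i')
    refine ⟨g, hg, ?_⟩
    obtain ⟨c, hc⟩ := (stabilizesLine_iff v g).1 ((hrep R g.ofConv).1 ((hpts R g).1 ⟨z, hg.symm⟩))
    rw [hc]
    congr 1
    have e : val z F = g.ofConv a₀ := by
      refine (val_comp z i' _).symm.trans ?_
      rw [← hg]
      exact val_mapMulEquiv g a₀
    have e1 : ∀ j, g.ofConv (coords A b v j) = c * algebraMap k R (b.repr v j) := fun j => by
      rw [← repr_translate, hc, map_smul, Finsupp.smul_apply, repr_one_tmul, smul_eq_mul]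
    rw [e]
    simp only [a₀, map_sum, map_mul, AlgHom.commutes, e1, Algebra.smul_def]
    calc c = c * algebraMap k R (φ₀ (∑ j, b.repr v j • b j)) := by rw [b.sum_repr, hφ₀, map_one, _root_.mul_one]
      _ = _ := by
        simp only [map_sum, map_smul, smul_eq_mul, map_mul, Finset.mul_sum]
        exact Finset.sum_congr rfl fun j _ => by ring
  have hinj : ∀ (R : Type u) [CommRing R] [Algebra k R] (c d : R),
      c • ((1 : R) ⊗ₜ[k] v) = d • ((1 : R) ⊗ₜ[k] v) → c = d := by
    intro R _ _ c d e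
    have e' := congrArg (fun x => (TensorProduct.rid k R) (LinearMap.lTensor R φ₀ x)) e
    simpa [TensorProduct.smul_tmul', hφ₀] using e'
  have hmul : ∀ (R : Type u) [CommRing R] [Algebra k R] (z z' : specOf k R ⟶ H),
      val (z * z') F = val z F * val z' F := by
    intro R _ _ z z'
    obtain ⟨g, hg, e⟩ := hline R z
    obtain ⟨g', hg', e'⟩ := hline R z'
    obtain ⟨g'', hg'', e''⟩ := hline R (z * z')
    have : g'' = g * g' := Spec.mapMulEquiv.injective (by rw [hg'', map_mul, hg, hg', MonObj.mul_comp])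
    subst this
    apply hinj
    rw [← e'', map_mul, Module.End.mul_apply, e', map_smul, e, smul_smul, mul_comm]
  have hone : ∀ (R : Type u) [CommRing R] [Algebra k R], val (1 : specOf k R ⟶ H) F = 1 := by
    intro R _ _
    obtain ⟨g, hg, e⟩ := hline R (1 : specOf k R ⟶ H)
    have : g = 1 := Spec.mapMulEquiv.injective (by rw [hg, map_one, MonObj.one_comp])
    subst this
    apply hinj
    rw [← e, map_one, Module.End.one_apply, one_smul]
  haveI : IsAffine H.left := isAffine_of_isAffineHom i.left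
  haveI : IsAffine (H ⊗ H).left := inferInstanceAs (IsAffine (CategoryTheory.Limits.pullback H.hom H.hom))
  haveI : IsAffine (G ⊗ H).left := inferInstanceAs (IsAffine (CategoryTheory.Limits.pullback G.hom H.hom))
  obtain ⟨_, pH, hpH⟩ := exists_gen H
  have hu : IsUnit F := by
    refine IsUnit.of_mul_eq_one ((ι[H]).left.appTop F) (hpH _ _ ?_)
    have e : pH ≫ ι[H] = pH⁻¹ := rfl
    have hm : ∀ x y : Γ(H.left, ⊤), val pH (x * y) = val pH x * val pH y := fun x y =>
      (congrArg _ (map_mul pH.left.appTop.hom x y)).trans (map_mul _ _ _)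
    have h0 : val pH (1 : Γ(H.left, ⊤)) = 1 := (congrArg _ (map_one pH.left.appTop.hom)).trans (map_one _)
    have e2 : val pH ((ι[H]).left.appTop F) = val (pH⁻¹) F := (val_comp pH ι[H] F).symm
    rw [hm, e2, ← hmul, mul_inv_cancel, hone, h0]
  let χ : H ⟶ Red.Gm (Spec (CommRingCat.of k)) := GmPts.ptOfUnit hu.unit
  have hχF : ∀ {T : Over (Spec (CommRingCat.of k))} (t : T ⟶ H),
      (GmPts.unitOfPt (t ≫ χ) : Γ(T.left, ⊤)) = t.left.appTop F := fun t => by
    rw [GmPts.unitOfPt_comp, GmPts.unitOfPt_ptOfUnit]; rfl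
  have hχm : IsMonHom χ := by
    have hmH : μ[H] ≫ χ = (fst H H ≫ χ) * (snd H H ≫ χ) := by
      refine (GmPts.equiv _).injective (Units.ext ?_)
      show (GmPts.unitOfPt (μ[H] ≫ χ) : Γ((H ⊗ H).left, ⊤)) =
        (GmPts.unitOfPt ((fst H H ≫ χ) * (snd H H ≫ χ)) : Γ((H ⊗ H).left, ⊤))
      rw [GmPts.unitOfPt_mul, Units.val_mul, hχF, hχF, hχF]
      obtain ⟨_, q, hq⟩ := exists_gen (H ⊗ H)
      apply hq
      have e : q ≫ μ[H] = (q ≫ fst H H) * (q ≫ snd H H) := by
        rw [Hom.mul_def, ← comp_lift, lift_fst_snd, Category.comp_id]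
      have hm : ∀ x y : Γ((H ⊗ H).left, ⊤), val q (x * y) = val q x * val q y := fun x y =>
        (congrArg _ (map_mul q.left.appTop.hom x y)).trans (map_mul _ _ _)
      rw [hm, ← val_comp q μ[H] F, ← val_comp q (fst H H) F, ← val_comp q (snd H H) F, e, hmul]
    have hoH : η[H] ≫ χ = η[Red.Gm (Spec (CommRingCat.of k))] := by
      have e1 : (η[H] : 𝟙_ _ ⟶ H) = 1 := by simp [Hom.one_def]
      rw [e1]
      have e2 : lift (1 : 𝟙_ (Over (Spec (CommRingCat.of k))) ⟶ H) 1 ≫ μ[H] = 1 := by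
        rw [← Hom.mul_def, _root_.one_mul]
      have e3 := congrArg (fun m => lift (1 : 𝟙_ (Over (Spec (CommRingCat.of k))) ⟶ H) 1 ≫ m) hmH
      simp only [MonObj.comp_mul, ← Category.assoc, lift_fst, lift_snd] at e3
      rw [e2] at e3
      rw [show η[Red.Gm (Spec (CommRingCat.of k))] = (1 : 𝟙_ _ ⟶ _) by simp [Hom.one_def]]
      have e4 := congrArg GmPts.unitOfPt e3
      rw [GmPts.unitOfPt_mul] at e4
      exact (GmPts.equiv _).injective ((mul_eq_left.1 e4.symm).trans GmPts.unitOfPt_one.symm)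
    exact ⟨hoH, by rw [hmH, Hom.mul_def, ← lift_map, reassoc_of% (lift_fst_snd (X := H) (Y := H))]⟩
  have hF1 : F = 1 := by
    have h := congrArg (fun c => (GmPts.unitOfPt c : Γ(H.left, ⊤))) (hχ χ hχm)
    simp only [GmPts.unitOfPt_one] at h
    rwa [GmPts.unitOfPt_ptOfUnit, IsUnit.unit_spec, Units.val_one] at h
  have hfix : ∀ (R : Type u) [CommRing R] [Algebra k R] (z : specOf k R ⟶ H) (g : WithConv (A →ₐ[k] R)),
      Spec.mapMulEquiv g = z ≫ i' → ptHom V R g (1 ⊗ₜ v) = (1 : R) ⊗ₜ[k] v := by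
    intro R _ _ z g hg
    obtain ⟨g', hg', e⟩ := hline R z
    obtain rfl : g' = g := Spec.mapMulEquiv.injective (hg'.trans hg.symm)
    rw [e, hF1, show val z (1 : Γ(H.left, ⊤)) = 1 from (congrArg _ (map_one z.left.appTop.hom)).trans (map_one _), one_smul]
  intro g hg
  let f : Fin (Module.finrank k V) → Γ(G.left, ⊤) := fun j =>
    ψ.left.appTop ((Scheme.ΓSpecIso (CommRingCat.of A)).inv (coords A b v j))
  have hf : ∀ (R : Type u) [CommRing R] [Algebra k R] (γ : specOf k R ⟶ G) (g : WithConv (A →ₐ[k] R)),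
      Spec.mapMulEquiv g = γ ≫ ψ → ∀ j, val γ (f j) = g.ofConv (coords A b v j) := by
    intro R _ _ γ g hg j
    refine (val_comp γ ψ _).symm.trans ?_
    rw [← hg]
    exact val_mapMulEquiv g (coords A b v j)
  have hinv : ∀ j, AGF.IsRTransInv i (f j) := by
    intro j
    obtain ⟨_, q, hq⟩ := exists_gen (G ⊗ H)
    apply hq
    refine (val_comp _ _ _).symm.trans (Eq.trans ?_ (val_comp _ _ _))
    obtain ⟨gx, hx⟩ := (Spec.mapMulEquiv (R := k) (S := A) (T := _)).surjective ((q ≫ fst G H) ≫ ψ)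
    obtain ⟨gh, hh⟩ := (Spec.mapMulEquiv (R := k) (S := A) (T := _)).surjective ((q ≫ snd G H) ≫ i')
    have e : q ≫ (G ◁ i) ≫ μ[G] = (q ≫ fst G H) * ((q ≫ snd G H) ≫ i) := by
      rw [Hom.mul_def, ← Category.assoc]; congr 1; ext <;> simp
    have e1 : Spec.mapMulEquiv (gx * gh) = (q ≫ (G ◁ i) ≫ μ[G]) ≫ ψ := by
      rw [e, MonObj.mul_comp, map_mul, hx, hh]
      simp only [i', Category.assoc]
    rw [hf _ _ _ e1, hf _ _ _ hx, ← repr_translate, ← repr_translate, map_mul, Module.End.mul_apply,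
      hfix _ _ gh hh]
  obtain ⟨g₀, hg₀⟩ := (Spec.mapMulEquiv (R := k) (S := A) (T := k)).surjective (g ≫ ψ)
  have hvg : ptHom V k g₀ (1 ⊗ₜ v) = (1 : k) ⊗ₜ[k] v := by
    refine (b.baseChange k).repr.injective (Finsupp.ext fun j => ?_)
    rw [repr_translate]
    let q : VecGrp.pt k k ⟶ G ⊗ VecGrp.pt k k := lift 1 (𝟙 _)
    have h3 : val (q ≫ (G ◁ g) ≫ μ[G]) (f j) = val (q ≫ fst G _) (f j) := by
      rw [val_comp, val_comp]; exact congrArg (val q) (hg (f j) (hinv j))
    have e : q ≫ (G ◁ g) ≫ μ[G] = g := by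
      have e' : q ≫ snd G (VecGrp.pt k k) = 𝟙 _ := lift_snd _ _
      rw [show q ≫ (G ◁ g) ≫ μ[G] = (q ≫ fst G _) * ((q ≫ snd G _) ≫ g) by
        rw [Hom.mul_def, ← Category.assoc]; congr 1; ext <;> simp]
      rw [lift_fst, e', Category.id_comp, _root_.one_mul]
    replace h3 := ((congrArg (fun γ => val γ (f j)) e).symm.trans h3).trans
      (congrArg (fun γ => val γ (f j)) (lift_fst (1 : VecGrp.pt k k ⟶ G) (𝟙 _)))
    replace h3 := ((hf k g g₀ hg₀ j).symm.trans h3).trans
      (hf k (1 : VecGrp.pt k k ⟶ G) 1 (by rw [map_one]; exact (MonObj.one_comp ψ).symm) j)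
    rw [h3, ← repr_translate, map_one, Module.End.one_apply]
  obtain ⟨z, hz⟩ := (hpts k g₀).2
    ((hrep k g₀.ofConv).2 ((stabilizesLine_iff v g₀).2 ⟨1, by rw [hvg, one_smul]⟩))
  exact ⟨z, by rw [← cancel_mono ψ, Category.assoc]; exact hz.trans hg₀⟩

end Groth.Agent.S11200
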