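import Groth.Statements.S11201
import Groth.Agent.L16.RadQuot.Observable
import Groth.Agent.L25.Observable.FiniteIndex

set_option autoImplicit false
universe u
open CategoryTheory MonoidalCategory CartesianMonoidalCategory MonObj GrpObj AlgebraicGeometry
open scoped TensorProduct
open AGF

namespace Groth.Agent.S11201

/-- Let k be an algebraically closed field, G a linear algebraic group over k (an affine smooth group
scheme over k) and H a closed subgroup of G (a smooth closed subgroup scheme, i : H → G). Let R ⊆ H
be the radical of H: a smooth connected solvable closed normal subgroup of H through which every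
smooth connected solvable closed normal subgroup of H factors. Then H is observable in G if and only
if R is observable in G. -/
theorem result (k : Type u) [Field k] [IsAlgClosed k]
    (G : Over (Spec (CommRingCat.of k))) [GrpObj G] [IsAffine G.left] [Smooth G.hom]
    (H : Over (Spec (CommRingCat.of k))) [GrpObj H] [Smooth H.hom] (i : H ⟶ G) [IsMonHom i]
    [IsClosedImmersion i.left]
    (R : Over (Spec (CommRingCat.of k))) [GrpObj R] [Smooth R.hom] [ConnectedSpace R.left] (r : R ⟶ H) [IsMonHom r]
    [IsClosedImmersion r.left] (hn : AlgGrp.IsNormalHom r) (hsol : Red.IsSolvableGrp R)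
    (hmax : ∀ (R' : Over (Spec (CommRingCat.of k))) [GrpObj R'] (r' : R' ⟶ H) [IsMonHom r'], IsClosedImmersion r'.left → Smooth R'.hom →
      ConnectedSpace R'.left → AlgGrp.IsNormalHom r' → Red.IsSolvableGrp R' → ∃ f : R' ⟶ R, f ≫ r = r') :
    AGF.IsObservableIn k i ↔ AGF.IsObservableIn k (r ≫ i) := by
  haveI : IsAffine H.left := isAffine_of_isAffineHom i.left
  haveI : IsAffine R.left := isAffine_of_isAffineHom r.left
  haveI : QuasiCompact H.hom := quasiCompact_of_compactSpace _
  obtain ⟨K, gK, j, hj⟩ := Groth.L08.Chev.exists_idComp H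
  haveI := hj.hom; haveI := hj.closedImm; haveI := hj.openImm; haveI := hj.smooth; haveI := hj.connectedSpace
  haveI := hj.isAffine
  haveI : Mono j := Over.mono_of_mono_left j
  obtain ⟨r₀, hr₀⟩ := hj.exists_lift_hom r
  haveI : IsMonHom r₀ := Groth.L08.Borel.isMonHom_of_comp_mono r₀ j r hr₀
  haveI : IsClosedImmersion (r₀.left ≫ j.left) := by rw [← Over.comp_left, hr₀]; infer_instance
  haveI : IsClosedImmersion r₀.left := IsClosedImmersion.of_comp r₀.left j.left
  haveI : IsClosedImmersion (j ≫ i).left := inferInstanceAs (IsClosedImmersion (j.left ≫ i.left))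
  have hn₀ : AlgGrp.IsNormalHom r₀ := fun Y g y => by
    obtain ⟨y', hy'⟩ := hn Y (g ≫ j) y
    refine ⟨y', ?_⟩
    rw [← cancel_mono j, MonObj.mul_comp, MonObj.mul_comp, GrpObj.inv_comp, Category.assoc, hr₀, hy',
      Category.assoc, hr₀]
  constructor
  · intro hH
    have hRK := Groth.L16.RadQuot.observable_of_normal r₀ hn₀
    have hKH := Groth.L25.Observable.observable_of_isOpenImmersion j
    have hRH := Groth.L25.Observable.observable_comp j r₀ hRK hKH
    rw [hr₀] at hRH
    exact Groth.L25.Observable.observable_comp i r hRH hH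
  · intro hR
    obtain ⟨A, _, _, ψ, _, _, _, _⟩ := Groth.L25.Observable.exists_chart G
    refine Groth.L25.Observable.observable_of_finiteIndex i j ?_
    refine Groth.L16.RadQuot.observable_of_radical ψ (j ≫ i) r₀ hn₀ hsol ?_ (by rwa [reassoc_of% hr₀])
    intro N gN n hm hnc hNs hNc hnn hNsol
    haveI := hm; haveI := hnc; haveI := hNs; haveI := hNc
    obtain ⟨M, gM, m, hmm, hmc, hMs, hMc, hMn, hMsol, f, -, -, hfe⟩ :=
      Groth.L16.RadQuot.exists_normal_over hj n hNsol hnn
    haveI := hmm
    obtain ⟨e, he⟩ := hmax M m hmc hMs hMc hMn hMsol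
    exact ⟨f ≫ e, by rw [← cancel_mono j, Category.assoc, Category.assoc, hr₀, he, hfe]⟩
end Groth.Agent.S11201
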