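import Groth.Statements.S11202
import Groth.Agent.L16.RadQuot.Main
import Groth.Agent.L25.Observable.FiniteIndex
import Groth.Agent.S11200

set_option autoImplicit false
universe u
open CategoryTheory MonoidalCategory CartesianMonoidalCategory MonObj GrpObj AlgebraicGeometry
open scoped TensorProduct
open AGF

namespace Groth.Agent.S11202

/-- Let k be an algebraically closed field, G a linear algebraic group over k (an affine smooth group
scheme over k) and H a closed subgroup of G (a smooth closed subgroup scheme, i : H → G). If the
radical of H is unipotent — every smooth connected solvable closed normal subgroup of H contains no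
non-trivial subtorus — then H is observable in G. -/
theorem result (k : Type u) [Field k] [IsAlgClosed k]
    (G : Over (Spec (CommRingCat.of k))) [GrpObj G] [IsAffine G.left] [Smooth G.hom]
    (H : Over (Spec (CommRingCat.of k))) [GrpObj H] [Smooth H.hom] (i : H ⟶ G) [IsMonHom i]
    [IsClosedImmersion i.left]
    (hrad : ∀ (R : Over (Spec (CommRingCat.of k))) [GrpObj R] (r : R ⟶ H) [IsMonHom r], IsClosedImmersion r.left → Smooth R.hom →
      ConnectedSpace R.left → AlgGrp.IsNormalHom r → Red.IsSolvableGrp R → Red.HasNoSubtorus k R) :
    AGF.IsObservableIn k i := by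
  haveI : IsAffine H.left := isAffine_of_isAffineHom i.left
  haveI : QuasiCompact H.hom := quasiCompact_of_compactSpace _
  obtain ⟨K, gK, j, hj⟩ := Groth.L08.Chev.exists_idComp H
  haveI := hj.hom; haveI := hj.closedImm; haveI := hj.openImm; haveI := hj.smooth; haveI := hj.connectedSpace
  haveI := hj.isAffine
  haveI : IsClosedImmersion (j ≫ i).left := inferInstanceAs (IsClosedImmersion (j.left ≫ i.left))
  refine Groth.L25.Observable.observable_of_finiteIndex i j
    (Groth.Agent.S11200.result k G K (j ≫ i) fun χ hχ => ?_)
  haveI := hχ
  refine Groth.L16.RadQuot.char_eq_one (fun R gR r hr hrc hRs hRc hRn hRsol => ?_) χ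
  haveI := hr; haveI := hrc; haveI := hRs; haveI := hRc
  obtain ⟨M, gM, m, hm, hmc, hMs, hMc, hMn, hMsol, f, hf, hfm, -⟩ :=
    Groth.L16.RadQuot.exists_normal_over hj r hRsol hRn
  haveI := hm; haveI := hf; haveI := hfm
  exact Groth.L14.Luna.hasNoSubtorus_of_mono f (hrad M m hmc hMs hMc hMn hMsol)
end Groth.Agent.S11202
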