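import Groth.Statements.S11203
import Groth.Agent.L16.FinInv.Main
import Groth.Agent.L25.Translate
import Mathlib.Tactic.TFAE

set_option autoImplicit false
universe u
open CategoryTheory MonoidalCategory CartesianMonoidalCategory MonObj GrpObj AlgebraicGeometry
open scoped TensorProduct
open AGF

namespace Groth.Agent.S11203

/-- Let k be an algebraically closed field, G a linear algebraic group over k (an affine smooth group
scheme over k) and H a closed subgroup of G (a smooth closed subgroup scheme, i : H → G); let G₀ ⊆ G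
and H₀ ⊆ H be the identity components and i₀ : H₀ → G₀ the induced homomorphism. If one of the rings
k[G]^H (right-H-invariant global functions on G), k[G]^{H₀}, k[G₀]^{H₀} is finitely generated over
the constants, then all three are. (The published statement also lists the invariants of H ∩ G₀ on
G₀, omitted here.) -/
theorem result (k : Type u) [Field k] [IsAlgClosed k]
    (G : Over (Spec (CommRingCat.of k))) [GrpObj G] [IsAffine G.left] [Smooth G.hom]
    (H : Over (Spec (CommRingCat.of k))) [GrpObj H] [Smooth H.hom] (i : H ⟶ G) [IsMonHom i]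
    [IsClosedImmersion i.left]
    (G₀ : Over (Spec (CommRingCat.of k))) [GrpObj G₀] [ConnectedSpace G₀.left] (jG : G₀ ⟶ G) [IsMonHom jG]
    [IsOpenImmersion jG.left]
    (H₀ : Over (Spec (CommRingCat.of k))) [GrpObj H₀] [ConnectedSpace H₀.left] (jH : H₀ ⟶ H) [IsMonHom jH]
    [IsOpenImmersion jH.left] (i₀ : H₀ ⟶ G₀) [IsMonHom i₀] (hc : i₀ ≫ jG = jH ≫ i) :
    List.TFAE [AGF.SubringFGOver k G (AGF.rTransInv i), AGF.SubringFGOver k G (AGF.rTransInv (jH ≫ i)),
      AGF.SubringFGOver k G₀ (AGF.rTransInv i₀)] := by
  haveI : Smooth G₀.hom := by rw [← Over.w jG]; infer_instance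
  haveI : Smooth H₀.hom := by rw [← Over.w jH]; infer_instance
  have closedImm : ∀ {X Y : Over (Spec (CommRingCat.of k))} [GrpObj X] [GrpObj Y] [LocallyOfFiniteType Y.hom]
      (f : X ⟶ Y) [IsMonHom f] [IsOpenImmersion f.left], IsClosedImmersion f.left := by
    intro X Y _ _ _ f _ _
    haveI : LocallyOfFiniteType X.hom := by rw [← Over.w f]; infer_instance
    exact IsClosedImmersion.of_isPreimmersion f.left
      (Groth.L25.Translate.isClosed_range_of_inter f f.left.isOpenEmbedding.isOpen_range
        (Set.inter_eq_self_of_subset_right subset_closure).symm)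
  haveI : IsClosedImmersion jG.left := closedImm jG
  haveI : IsClosedImmersion jH.left := closedImm jH
  haveI : IsAffine G₀.left := isAffine_of_isAffineHom jG.left
  haveI : IsAffine H.left := isAffine_of_isAffineHom i.left
  haveI : IsAffine H₀.left := isAffine_of_isAffineHom jH.left
  obtain ⟨A, _, _, ψ, _, _, _, _⟩ := Groth.L25.Observable.exists_chart G
  obtain ⟨A₀, _, _, θ, _, _, _, _⟩ := Groth.L25.Observable.exists_chart G₀
  have h12 := Groth.L16.FinInv.fg_iff_finiteIndex ψ i jH
  have h23 := Groth.L16.FinInv.fg_iff_open ψ θ jG i₀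
  rw [hc] at h23
  tfae_have 1 ↔ 2 := by
    rw [Groth.L16.FinInv.subringFG_iff ψ i, Groth.L16.FinInv.subringFG_iff ψ (jH ≫ i), h12]
  tfae_have 2 ↔ 3 := by
    rw [Groth.L16.FinInv.subringFG_iff ψ (jH ≫ i), Groth.L16.FinInv.subringFG_iff θ i₀, h23]
  tfae_finish
end Groth.Agent.S11203
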