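import Groth.Statements.S11204
import Groth.Agent.L25.Observable.AlgAction
import Groth.Agent.L25.Observable.Consequences
import Groth.Agent.L25.Observable.Regular

set_option autoImplicit false
set_option backward.isDefEq.respectTransparency.types false
set_option maxHeartbeats 1000000
universe u
open CategoryTheory MonoidalCategory CartesianMonoidalCategory MonObj GrpObj AlgebraicGeometry
open scoped TensorProduct
open AGF Groth.L25.Observable WithConv

namespace Groth.Agent.S11204

theorem exists_restriction {k : Type u} [Field k] [IsAlgClosed k] {G H K : Over (Spec (CommRingCat.of k))} [GrpObj G]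
    [IsAffine G.left] [Smooth G.hom] [GrpObj H] [Smooth H.hom] [GrpObj K] {A B : Type u} [CommRing A] [HopfAlgebra k A]
    [CommRing B] [HopfAlgebra k B] [_root_.IsReduced A] [Algebra.FiniteType k A]
    (ψ : G ⟶ Sp k A) [IsMonHom ψ] [IsIso ψ] (θ : H ⟶ Sp k B) [IsMonHom θ]
    (i : H ⟶ G) [IsMonHom i] [IsClosedImmersion i.left] (κ : K ⟶ H) [IsMonHom κ] (hH : AGF.IsObservableIn k i)
    (f : B) (hf : f ∈ inv' θ κ) [IsIso θ] [_root_.IsReduced B] [Algebra.FiniteType k B] :
    ∃ F ∈ inv' ψ (κ ≫ i), ∀ h : VecGrp.pt k k ⟶ H, (ev ψ (h ≫ i)).ofConv F = (ev θ h).ofConv f := by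
  classical
  haveI : IsAffine H.left := isAffine_of_isAffineHom i.left
  obtain ⟨m, -, hmpt⟩ := exists_regular θ (𝟙 H)
  have hmR : ∀ (g : VecGrp.pt k k ⟶ H) (a : B), m.ρ k g ((1 : k) ⊗ₜ[k] a) = (1 : k) ⊗ₜ[k] Rt (ev θ g).ofConv a :=
    fun g a => by rw [hmpt, Category.comp_id]
  let V : Submodule k B := Submodule.span k (Set.range fun g : VecGrp.pt k k ⟶ H => Rt (ev θ g).ofConv f)
  haveI : Module.Finite k V := by
    obtain ⟨S, hS⟩ := TensorProduct.exists_finset (Coalgebra.comul (R := k) f)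
    haveI : Module.Finite k (Submodule.span k ↑(S.image Prod.fst) : Submodule k B) := FiniteDimensional.span_finset k _
    refine Submodule.finiteDimensional_of_le (S₂ := Submodule.span k ↑(S.image Prod.fst))
      (Submodule.span_le.2 ?_)
    rintro _ ⟨g, rfl⟩
    simp only [Rt, AlgHom.comp_apply, Bialgebra.comulAlgHom_apply, hS, map_sum]
    refine sum_mem fun p hp => ?_
    simpa using Submodule.smul_mem _ _ (Submodule.subset_span (Finset.mem_image_of_mem _ hp))
  have hst : ∀ (g : VecGrp.pt k k ⟶ H) (a : B), a ∈ V → Rt (ev θ g).ofConv a ∈ V := by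
    intro g a ha
    induction ha using Submodule.span_induction with
    | mem x hx =>
      obtain ⟨g', rfl⟩ := hx
      refine Submodule.subset_span ⟨g * g', eq_of_forall_ev θ fun x => ?_⟩
      simp only [apply_Rt, ← ev_mul, _root_.mul_assoc]
    | zero => rw [map_zero]; exact zero_mem _
    | add x y _ _ hx hy => rw [map_add]; exact add_mem hx hy
    | smul c x _ hx => rw [map_smul]; exact Submodule.smul_mem _ c hx
  have hfV : f ∈ V := Submodule.subset_span ⟨1, eq_of_forall_ev θ fun x => by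
    simp only [apply_Rt, ← ev_mul, _root_.mul_one]⟩
  have hV : m.IsStable (𝟙 H) V := by
    rw [← Submodule.ker_mkQ V]
    refine isStable_ker m _ fun g a ha => ?_
    rw [hmR, LinearMap.baseChange_tmul,
      show V.mkQ (Rt (ev θ g).ofConv a) = 0 from
        (Submodule.Quotient.mk_eq_zero _).2 (hst g a ((Submodule.Quotient.mk_eq_zero _).1 ha)),
      TensorProduct.tmul_zero]
  obtain ⟨mV, hmV⟩ := exists_restrict m V hV
  have hact : ∀ (g : VecGrp.pt k k ⟶ H) (v : V),
      mV.ρ k g ((1 : k) ⊗ₜ[k] v) = (1 : k) ⊗ₜ[k] (⟨Rt (ev θ g).ofConv v.1, hst g v.1 v.2⟩ : V) := fun g v =>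
    Module.Flat.lTensor_preserves_injective_linearMap (M := k) V.subtype Subtype.val_injective
      ((hmV k g _).trans (hmR g v.1))
  obtain ⟨W, _, _, _, ρ, φ, hφ, hφe⟩ := extendsAlong_of_observable i hH mV
  obtain ⟨p, hp⟩ := φ.exists_leftInverse_of_injective (LinearMap.ker_eq_bot.2 hφ)
  let Λ : W →ₗ[k] k := (ev θ 1).ofConv.toLinearMap ∘ₗ V.subtype ∘ₗ p
  obtain ⟨c, hc⟩ := exists_modfun ψ ρ Λ
  have hρ : ∀ (g : VecGrp.pt k k ⟶ H) (v : V), ρ.ρ k (g ≫ i) ((1 : k) ⊗ₜ[k] φ v) =
      (1 : k) ⊗ₜ[k] φ ⟨Rt (ev θ g).ofConv v.1, hst g v.1 v.2⟩ := fun g v => by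
    have h1 := hφe k g ((1 : k) ⊗ₜ[k] v)
    rw [hact, LinearMap.baseChange_tmul, LinearMap.baseChange_tmul] at h1
    exact h1.symm
  refine ⟨c (φ ⟨f, hfV⟩), fun x t => ?_, fun h => ?_⟩
  · have h1 : Rt (ev θ (t ≫ κ)).ofConv f = f := eq_of_forall_ev θ fun y => by
      rw [apply_Rt, ← ev_mul]; exact hf y t
    rw [hc, hc, map_mul, LinearEquiv.mul_apply, ← Category.assoc, hρ]
    simp only [h1]
  · rw [hc, hρ, TensorProduct.lid_tmul, one_smul]
    show (ev θ 1).ofConv ((p (φ _) : V) : B) = _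
    rw [show p (φ _) = _ from LinearMap.congr_fun hp _]
    show (ev θ 1).ofConv (Rt (ev θ h).ofConv f) = _
    rw [apply_Rt, ← ev_mul, _root_.one_mul]

/-- Let k be an algebraically closed field, G a linear algebraic group over k and K ⊆ H ⊆ G closed
subgroups (smooth closed subgroup schemes κ : K → H, i : H → G) with K and H observable in G. If
k[G]^K is finitely generated over the constants (K is a Grosshans subgroup of G), then K is
observable in H and k[H]^K is finitely generated over the constants (K is a Grosshans subgroup of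
H). -/
theorem result (k : Type u) [Field k] [IsAlgClosed k]
    (G : Over (Spec (CommRingCat.of k))) [GrpObj G] [IsAffine G.left] [Smooth G.hom]
    (H : Over (Spec (CommRingCat.of k))) [GrpObj H] [Smooth H.hom] (i : H ⟶ G) [IsMonHom i]
    [IsClosedImmersion i.left]
    (K : Over (Spec (CommRingCat.of k))) [GrpObj K] [Smooth K.hom] (κ : K ⟶ H) [IsMonHom κ] [IsClosedImmersion κ.left]
    (hK : AGF.IsObservableIn k (κ ≫ i)) (hH : AGF.IsObservableIn k i)
    (hfg : AGF.SubringFGOver k G (AGF.rTransInv (κ ≫ i))) :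
    AGF.IsObservableIn k κ ∧ AGF.SubringFGOver k H (AGF.rTransInv κ) := by
  classical
  haveI : IsAffine H.left := isAffine_of_isAffineHom i.left
  haveI : IsAffine K.left := isAffine_of_isAffineHom κ.left
  obtain ⟨A, _, _, ψ, _, _, _, _⟩ := exists_chart G
  obtain ⟨B, _, _, θ, _, _, _, _⟩ := exists_chart H
  refine ⟨(observable_iff θ κ).2 fun g hg => ?_, ?_⟩
  · have hhull : InHull ψ (κ ≫ i) (g ≫ i) := by
      intro F hF x
      obtain ⟨b, hb⟩ := fn_surjective θ (i.left.appTop (fn ψ (L (ev ψ x).ofConv F)))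
      have hv : ∀ h : VecGrp.pt k k ⟶ H, (ev θ h).ofConv b = (ev ψ (x * (h ≫ i))).ofConv F := fun h => by
        rw [← val_fn, hb, ← val_comp, val_fn, apply_L_pt, ← ev_mul]
      have hbinv : b ∈ inv' θ κ := fun y t => by
        rw [hv, hv, MonObj.mul_comp, ← _root_.mul_assoc, Category.assoc]
        exact hF _ t
      have h1 := hg b hbinv 1
      rw [hv, hv, _root_.one_mul, MonObj.one_comp, _root_.mul_one] at h1
      exact h1
    obtain ⟨t, ht⟩ := (observable_iff ψ (κ ≫ i)).1 hK _ hhull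
    haveI : Mono i := Over.mono_of_mono_left i
    exact ⟨t, (cancel_mono i).1 (by rw [Category.assoc, ht])⟩
  obtain ⟨s, hs, hle⟩ := hfg
  refine ⟨s.image fun F => i.left.appTop F, fun f hf => ?_, fun f hf => ?_⟩
  · obtain ⟨F, hF, rfl⟩ := Finset.mem_image.1 (Finset.mem_coe.1 hf)
    obtain ⟨a, rfl⟩ := fn_surjective ψ F
    obtain ⟨b, hb⟩ := fn_surjective θ (i.left.appTop (fn ψ a))
    have hv : ∀ h : VecGrp.pt k k ⟶ H, (ev θ h).ofConv b = (ev ψ (h ≫ i)).ofConv a := fun h => by
      rw [← val_fn, hb, ← val_comp, val_fn]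
    rw [← hb]
    refine (mem_inv'_iff θ κ b).1 fun x t => ?_
    rw [hv, hv, MonObj.mul_comp, Category.assoc]
    exact (mem_inv'_iff ψ (κ ≫ i) a).2 (hs hF) _ t
  · obtain ⟨b, rfl⟩ := fn_surjective θ f
    obtain ⟨a, ha, hab⟩ := exists_restriction ψ θ i κ hH b ((mem_inv'_iff θ κ b).2 hf)
    have hb : fn θ b = i.left.appTop.hom (fn ψ a) := eq_of_forall_val fun h => by
      rw [val_fn, ← hab, ← val_fn]
      exact val_comp h i _
    rw [hb]
    have hmem : i.left.appTop.hom (fn ψ a) ∈ Subring.map i.left.appTop.hom _ :=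
      Subring.mem_map.2 ⟨_, hle ((mem_inv'_iff ψ (κ ≫ i) a).1 ha), rfl⟩
    rw [RingHom.map_closure] at hmem
    refine Subring.closure_mono ?_ hmem
    rintro _ ⟨y, ⟨c, rfl⟩ | hy, rfl⟩
    · exact Or.inl ⟨c, by
        have := congr($(congrArg Scheme.Hom.appTop (Over.w i)) ((Scheme.ΓSpecIso (CommRingCat.of k)).inv c))
        exact this.symm⟩
    · exact Or.inr (Finset.mem_coe.2 (Finset.mem_image_of_mem _ hy))

end Groth.Agent.S11204
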