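import Groth.Statements.S11205
import Groth.Agent.L04.GlobFG.Main

set_option autoImplicit false
set_option linter.style.haveILetI false
universe u
open CategoryTheory MonoidalCategory CartesianMonoidalCategory MonObj GrpObj AlgebraicGeometry
open scoped TensorProduct
open AGF

namespace Groth.Agent.S11205

/-- Let k be an algebraically closed field and let X and Y be irreducible normal varieties over k
(integral separated schemes of finite type over k all of whose local rings are integrally closed),
and π : Y → X a k-morphism which is bijective on points. If the ring of global functions of Y is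
finitely generated over k, then so is the ring of global functions of X. (The published statement
asks π bijective on rational points; this row asks bijectivity on all points, which for schemes of
finite type over an algebraically closed field is the same condition.) -/
theorem result (k : Type u) [Field k] [IsAlgClosed k] (X Y : Over (Spec (CommRingCat.of k)))
    [IsIntegral X.left] [IsIntegral Y.left] [LocallyOfFiniteType X.hom] [QuasiCompact X.hom]
    [IsSeparated X.hom] [LocallyOfFiniteType Y.hom] [QuasiCompact Y.hom] [IsSeparated Y.hom]
    (hX : ∀ x : X.left, IsIntegrallyClosed ↑(X.left.presheaf.stalk x))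
    (hY : ∀ y : Y.left, IsIntegrallyClosed ↑(Y.left.presheaf.stalk y))
    (π : Y ⟶ X) (hπ : Function.Bijective π.left.base)
    (hfg : ((Scheme.ΓSpecIso (CommRingCat.of k)).inv ≫ Y.hom.appTop).hom.FiniteType) :
    ((Scheme.ΓSpecIso (CommRingCat.of k)).inv ≫ X.hom.appTop).hom.FiniteType := by
  have w : π.left ≫ X.hom = Y.hom := Over.w π
  haveI : LocallyOfFiniteType π.left := by
    haveI : LocallyOfFiniteType (π.left ≫ X.hom) := w ▸ inferInstance
    exact locallyOfFiniteType_of_comp π.left X.hom
  haveI : IsSeparated π.left := by
    haveI : IsSeparated (π.left ≫ X.hom) := w ▸ inferInstance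
    exact IsSeparated.of_comp π.left X.hom
  haveI : Surjective π.left := ⟨hπ.2⟩
  haveI : IsLocallyNoetherian X.left := LocallyOfFiniteType.isLocallyNoetherian X.hom
  haveI := Groth.L04.GlobFG.universallyInjective_of_injective Y.hom X.hom π.left w hπ.1
  refine Groth.L04.GlobFG.finiteType_sections π.left hX _ ?_
  rw [Category.assoc, ← Scheme.Hom.comp_appTop, w]
  exact hfg

end Groth.Agent.S11205
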