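import Groth.Statements.S11206
import Groth.Agent.L16.Grosshans.Main
import Groth.Agent.S11202

set_option autoImplicit false
universe u
open CategoryTheory MonoidalCategory CartesianMonoidalCategory MonObj GrpObj AlgebraicGeometry
open scoped TensorProduct
open AGF

namespace Groth.Agent.S11206

/-- Let k be an algebraically closed field, G a linear algebraic group over k, B a Borel subgroup of G
and U the unipotent radical of B (a maximal connected unipotent subgroup of G). Assume that
invariants of reductive groups over k on finitely generated algebras are finitely generated (used in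
the argument for finite groups). Then U is observable in G and the ring k[G]^U of global functions
on G invariant under right translation by U is finitely generated over the constants (U is a
Grosshans subgroup of G). -/
theorem result (k : Type u) [Field k] [IsAlgClosed k]
    (G : Over (Spec (CommRingCat.of k))) [GrpObj G] [IsAffine G.left] [Smooth G.hom]
    (Bo : Over (Spec (CommRingCat.of k))) [GrpObj Bo] (iB : Bo ⟶ G) (hB : Red.IsBorelOver k iB)
    (U : Over (Spec (CommRingCat.of k))) [GrpObj U] (u : U ⟶ Bo) (hU : Par.IsUnipotentRadical u)
    (thmA : VecGrp.ReductiveInvariantsFG k) :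
    AGF.IsObservableIn k (u ≫ iB) ∧ AGF.SubringFGOver k G (AGF.rTransInv (u ≫ iB)) := by
  haveI := hB.1; haveI := hB.2.1; haveI := hU.1; haveI := hU.2.1; haveI := hU.2.2.2.1
  haveI : IsClosedImmersion (u ≫ iB).left := inferInstanceAs (IsClosedImmersion (u.left ≫ iB.left))
  refine ⟨Groth.Agent.S11202.result k G U (u ≫ iB) (fun R gR r hr hrc hRs hRc hRn hRsol => ?_),
    Groth.L16.Grosshans.subringFG hB hU⟩
  haveI := hr; haveI := hrc
  haveI : Mono r := Groth.L08.mono_of_closedImmersion r
  exact Groth.L14.Luna.hasNoSubtorus_of_mono r (Groth.L16.Grosshans.radical_props hU).2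
end Groth.Agent.S11206
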