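import Groth.Statements.S11214
import Groth.Agent.L16.LeviAffine.Main

set_option autoImplicit false
universe u
open CategoryTheory MonoidalCategory CartesianMonoidalCategory MonObj GrpObj AlgebraicGeometry
open scoped TensorProduct
open AGF

namespace Groth.Agent.S11214

/-- Let k be an algebraically closed field, L a linear algebraic group over k and H a closed subgroup of
L, with unipotent radicals U_H of H and U_L of L such that U_H ⊆ U_L; let X (with action a and base
point o) be the quotient L/H. Assume the following standard results of geometric invariant theory
for groups with reductive identity component, carried as hypotheses: finite generation of invariants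
on finitely generated algebras, and that the quotient map of an affine variety by such a group is
surjective and separates disjoint closed invariant subsets. Then X is affine. -/
theorem result (k : Type u) [Field k] [IsAlgClosed k]
    (L : Over (Spec (CommRingCat.of k))) [GrpObj L] [IsAffine L.left] [Smooth L.hom]
    (H : Over (Spec (CommRingCat.of k))) [GrpObj H] [Smooth H.hom] (i : H ⟶ L) [IsMonHom i] [IsClosedImmersion i.left]
    (UL : Over (Spec (CommRingCat.of k))) [GrpObj UL] (uL : UL ⟶ L) (hUL : Par.IsUnipotentRadical uL)
    (UH : Over (Spec (CommRingCat.of k))) [GrpObj UH] (uH : UH ⟶ H) (hUH : Par.IsUnipotentRadical uH)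
    (f : UH ⟶ UL) (hf : f ≫ uL = uH ≫ i)
    (thmA : VecGrp.ReductiveInvariantsFG k) (thmAbi : AGF.ReductiveQuotSurj k)
    (thmAbiv : AGF.ReductiveQuotSeparates k)
    (X : Over (Spec (CommRingCat.of k))) (a : AlgGrp.Action L X) (o : 𝟙_ (Over (Spec (CommRingCat.of k))) ⟶ X) (hX : AGF.IsQuotient i X a o) :
    IsAffine X.left := by
  exact Groth.L16.LeviAffine.isAffine_homogeneous i uL hUL uH hUH f hf thmA thmAbi thmAbiv a o hX
end Groth.Agent.S11214
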