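import Groth.Statements.S11215
import Groth.Agent.S11213
import Groth.Agent.L16.Matsushima.Affine

set_option autoImplicit false
universe u
open CategoryTheory MonoidalCategory CartesianMonoidalCategory MonObj GrpObj AlgebraicGeometry
open scoped TensorProduct
open AGF

namespace Groth.Agent.S11215

/-- Let k be an algebraically closed field, G a linear algebraic group over k whose identity component
is reductive, H a closed subgroup of G, and X (with action a and base point o) the quotient G/H.
Assume the following standard results of geometric invariant theory for groups with reductive
identity component, carried as hypotheses: finite generation of invariants on finitely generated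
algebras, and that the quotient map of an affine variety by such a group is surjective and separates
disjoint closed invariant subsets. Then X is affine if and only if the identity component of H is
reductive. -/
theorem result (k : Type u) [Field k] [IsAlgClosed k]
    (G : Over (Spec (CommRingCat.of k))) [GrpObj G] [IsAffine G.left] [Smooth G.hom]
    (H : Over (Spec (CommRingCat.of k))) [GrpObj H] [Smooth H.hom] (i : H ⟶ G) [IsMonHom i]
    [IsClosedImmersion i.left]
    (hG : VecGrp.IsReductiveGrp k G) (thmA : VecGrp.ReductiveInvariantsFG k)
    (thmAbi : AGF.ReductiveQuotSurj k) (thmAbiv : AGF.ReductiveQuotSeparates k)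
    (X : Over (Spec (CommRingCat.of k))) (a : AlgGrp.Action G X) (o : 𝟙_ (Over (Spec (CommRingCat.of k))) ⟶ X) (hX : AGF.IsQuotient i X a o) :
    IsAffine X.left ↔ VecGrp.IsReductiveGrp k H := by
  refine ⟨fun hXa => ?_, fun hH => (Groth.Agent.S11213.result k G H i hH thmA thmAbi thmAbiv X a o hX).2⟩
  haveI := hXa
  haveI := hX.2.1
  haveI := hX.2.2.1
  exact Groth.L16.Matsushima.isReductiveGrp_of_isAffine i hG thmAbiv (a.orbitMap o) hX.2.2.2
end Groth.Agent.S11215
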