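import Groth.Statements.S11216
import Groth.Agent.L25.Observable.OrbitImage
import Groth.Agent.L25.Observable.Transfer

set_option autoImplicit false
set_option backward.isDefEq.respectTransparency.types false
universe u
open CategoryTheory MonoidalCategory CartesianMonoidalCategory MonObj GrpObj AlgebraicGeometry
open scoped TensorProduct
open AGF Groth.L25.Observable

namespace Groth.Agent.S11216

/-- (b) ⇒ (i): let k be an algebraically closed field, G a linear algebraic group over k (an affine
smooth group scheme over k) and H a closed subgroup of G (a smooth closed subgroup scheme, i : H →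
G), with H observable in G and k[G]^H finitely generated over the constants; let X = Spec k[G]^H and
φ : G → X the morphism given by the inclusion k[G]^H ⊆ k[G]. Then the image of φ (the orbit of the
base point) is open in X and every point of X outside the image has codimension at least 2 (its
prime ideal has height ≥ 2). (The published statement also asserts that G/H maps isomorphically onto
the image, and that finite generation is equivalent to an orbit-closure condition in a
representation; neither is stated here.) -/
theorem result (k : Type u) [Field k] [IsAlgClosed k]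
    (G : Over (Spec (CommRingCat.of k))) [GrpObj G] [IsAffine G.left] [Smooth G.hom]
    (H : Over (Spec (CommRingCat.of k))) [GrpObj H] [Smooth H.hom] (i : H ⟶ G) [IsMonHom i]
    [IsClosedImmersion i.left]
    (hobs : AGF.IsObservableIn k i) (hfg : AGF.SubringFGOver k G (AGF.rTransInv i)) :
    IsOpen (Set.range ⇑(G.left.toSpecΓ ≫ Spec.map (CommRingCat.ofHom (AGF.rTransInv i).subtype)).base) ∧
      ∀ x : ↥(Spec (CommRingCat.of ↥(AGF.rTransInv i))),
        x ∉ Set.range ⇑(G.left.toSpecΓ ≫ Spec.map (CommRingCat.ofHom (AGF.rTransInv i).subtype)).base →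
          (2 : ℕ∞) ≤ x.asIdeal.height := by
  classical
  haveI : IsAffine H.left := isAffine_of_isAffineHom i.left
  obtain ⟨A, _, _, ψ, _, _, _, _⟩ := exists_chart G
  let R := AGF.rTransInv i
  let S : Subalgebra k A :=
    { carrier := inv' ψ i
      mul_mem' := fun {a b} ha hb x h => by rw [map_mul, map_mul, ha x h, hb x h]
      add_mem' := fun ha hb => (inv' ψ i).add_mem ha hb
      algebraMap_mem' := fun c x h => by rw [AlgHom.commutes, AlgHom.commutes] }
  have hSmem : ∀ a, a ∈ S ↔ a ∈ inv' ψ i := fun a => Iff.rfl
  let e : S →+* R := ((fnHom ψ).comp S.val.toRingHom).codRestrict R fun a => (mem_inv'_iff ψ i a.1).1 a.2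
  have he : Function.Bijective e := ⟨fun a b h => Subtype.ext (fn_injective ψ (congrArg Subtype.val h)),
    fun f => by
      obtain ⟨a, ha⟩ := fn_surjective ψ f.1
      exact ⟨⟨a, (mem_inv'_iff ψ i a).2 (by rw [ha]; exact f.2)⟩, Subtype.ext ha⟩⟩
  have hSfg : S.FG := by
    obtain ⟨s, hs, hle⟩ := hfg
    choose pre hpre using fn_surjective ψ
    refine ⟨s.image pre, le_antisymm (Algebra.adjoin_le fun a ha => ?_) fun a ha => ?_⟩
    · obtain ⟨f, hf, rfl⟩ := Finset.mem_image.1 (Finset.mem_coe.1 ha)
      exact (mem_inv'_iff ψ i _).2 (by rw [hpre]; exact hs hf)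
    · have h1 : fn ψ a ∈ (Algebra.adjoin k ((s.image pre : Finset A) : Set A)).toSubring.map (fnHom ψ) := by
        refine Subring.closure_le.2 ?_ (hle ((mem_inv'_iff ψ i a).1 ha))
        rintro f (⟨c, rfl⟩ | hf)
        · exact ⟨algebraMap k A c, Subalgebra.algebraMap_mem _ c, fn_algebraMap ψ c⟩
        · exact ⟨pre f, Algebra.subset_adjoin (Finset.mem_coe.2 (Finset.mem_image_of_mem _ hf)), hpre f⟩
      obtain ⟨b, hb, e⟩ := h1
      exact fn_injective ψ e ▸ hb
  obtain ⟨hopen, hht⟩ := isOpen_range_and_height ψ i S hSmem hSfg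
  let eq : S ≃+* R := RingEquiv.ofBijective e he
  let eA : A ≃+* Γ(G.left, ⊤) := RingEquiv.ofBijective (fnHom ψ) ⟨fn_injective ψ, fn_surjective ψ⟩
  have hcomm : ∀ P, PrimeSpectrum.comap eq.toRingHom (PrimeSpectrum.comap R.subtype P) =
      PrimeSpectrum.comap S.val.toRingHom (PrimeSpectrum.comap eA.toRingHom P) := fun P => rfl
  let hE := PrimeSpectrum.homeomorphOfRingEquiv eq
  have hE' : ∀ y, PrimeSpectrum.comap eq.toRingHom (hE y) = y := fun y => PrimeSpectrum.ext (Ideal.ext fun a => by
    show eq.symm (eq a) ∈ y.asIdeal ↔ _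
    rw [RingEquiv.symm_apply_apply])
  have hinj : Function.Injective (PrimeSpectrum.comap eq.toRingHom) :=
    PrimeSpectrum.comap_injective_of_surjective _ eq.surjective
  have hrange : Set.range ⇑(G.left.toSpecΓ ≫ Spec.map (CommRingCat.ofHom R.subtype)).base =
      PrimeSpectrum.comap eq.toRingHom ⁻¹' Set.range (PrimeSpectrum.comap S.val.toRingHom) := by
    ext y
    constructor
    · rintro ⟨x, rfl⟩
      exact ⟨PrimeSpectrum.comap eA.toRingHom (G.left.toSpecΓ.base x), (hcomm _).symm⟩
    · rintro ⟨P, hP⟩
      obtain ⟨x, hx⟩ := (Scheme.homeoOfIso (asIso G.left.toSpecΓ)).surjective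
        (PrimeSpectrum.comap eA.symm.toRingHom P)
      refine ⟨x, hinj ?_⟩
      show PrimeSpectrum.comap eq.toRingHom (PrimeSpectrum.comap R.subtype (G.left.toSpecΓ.base x)) = _
      rw [show G.left.toSpecΓ.base x = _ from hx, hcomm, ← hP]
      congr 1
      exact PrimeSpectrum.ext (Ideal.ext fun a => by
        show eA.symm (eA a) ∈ P.asIdeal ↔ _
        rw [RingEquiv.symm_apply_apply])
  refine ⟨?_, fun x hx => ?_⟩
  · rw [hrange]
    exact hopen.preimage (PrimeSpectrum.continuous_comap _)
  · rw [hrange] at hx
    refine (hht _ hx).trans (le_of_eq ?_)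
    show (x.asIdeal.comap eq.toRingHom).height = _
    exact RingEquiv.height_comap eq x.asIdeal

end Groth.Agent.S11216
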