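import Groth.Statements.S11217


set_option autoImplicit false
universe u
open CategoryTheory MonoidalCategory CartesianMonoidalCategory MonObj GrpObj AlgebraicGeometry
open scoped TensorProduct
open AGF

namespace Groth.Agent.S11217

/-- Let k be a field of characteristic zero and m ≥ 2; in the polynomial ring k[x, y, z, s, t, u, v]
(variables 0, …, 6) let δ be the k-derivation with δ(x) = δ(y) = δ(z) = 0, δ(s) = x^(m+1), δ(t) =
y^(m+1), δ(u) = z^(m+1), δ(v) = (xyz)^m, and grade by total degree in s, t, u, v. If f is
homogeneous of degree n ≥ 1 for this grading and δ(f) = 0, then every coefficient of f, as a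
polynomial in s, t, u, v over k[x, y, z], lies in the ideal (x, y, z): every monomial of f has
positive degree in x, y, z. (The published statement allows n = 0, where the constant 1 is a
counterexample; this row assumes n ≥ 1. The published definition of the derivation gives δ(v) =
(xyz)^(m+1), for which the assertion fails: v − (yz)^(m+1)·s is killed by δ and has the monomial v
with coefficient 1; this row uses δ(v) = (xyz)^m, the exponent of the published action formula and
of the published examples of invariants.) -/
theorem result (k : Type u) [Field k] [CharZero k] (m : ℕ) (hm : 2 ≤ m) (n : ℕ) (hn : 1 ≤ n)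
    (f : MvPolynomial (Fin 7) k)
    (hf : MvPolynomial.IsWeightedHomogeneous (![0, 0, 0, 1, 1, 1, 1] : Fin 7 → ℕ) f n)
    (hδ : MvPolynomial.mkDerivation k
      (![0, 0, 0, MvPolynomial.X 0 ^ (m + 1), MvPolynomial.X 1 ^ (m + 1), MvPolynomial.X 2 ^ (m + 1),
        (MvPolynomial.X 0 * MvPolynomial.X 1 * MvPolynomial.X 2) ^ m] : Fin 7 → MvPolynomial (Fin 7) k) f = 0) :
    ∀ d ∈ f.support, 0 < d 0 + d 1 + d 2 := by

    classical
    intro d hd
    by_contra hzero
    have hd0 : d 0 = 0 ∧ d 1 = 0 ∧ d 2 = 0 := by omega
    have hw := hf (MvPolynomial.mem_support_iff.1 hd)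
    simp [Finsupp.weight_apply, Finsupp.sum_fintype, Fin.sum_univ_seven] at hw
    obtain ⟨j, hj, hdj⟩ : ∃ j : Fin 7, (j = 3 ∨ j = 4 ∨ j = 5 ∨ j = 6) ∧ d j ≠ 0 := by
      by_contra h
      push Not at h
      have := h 3 (by simp)
      have := h 4 (by simp)
      have := h 5 (by simp)
      have := h 6 (by simp)
      omega
    let w : Fin 7 → (Fin 7 →₀ ℕ) := ![0, 0, 0, Finsupp.single 0 (m + 1), Finsupp.single 1 (m + 1), Finsupp.single 2 (m + 1),
      Finsupp.single 0 m + Finsupp.single 1 m + Finsupp.single 2 m]
    let T : Fin 7 →₀ ℕ := d - Finsupp.single j 1 + w j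
    let g : Fin 7 → MvPolynomial (Fin 7) k := ![0, 0, 0, MvPolynomial.X 0 ^ (m + 1), MvPolynomial.X 1 ^ (m + 1), MvPolynomial.X 2 ^ (m + 1),
          (MvPolynomial.X 0 * MvPolynomial.X 1 * MvPolynomial.X 2) ^ m]
    have hg : ∀ i : Fin 7, (i = 0 ∨ i = 1 ∨ i = 2) ∨ ((i = 3 ∨ i = 4 ∨ i = 5 ∨ i = 6) ∧ g i = MvPolynomial.monomial (w i) 1) := by
      intro i
      fin_cases i <;> simp [g, w, MvPolynomial.X_pow_eq_monomial, mul_pow]
    have hterm : ∀ (e : Fin 7 →₀ ℕ) (i : Fin 7), MvPolynomial.coeff T (MvPolynomial.monomial (e - Finsupp.single i 1) (((e i : ℕ) : k)) * g i) ≠ 0 → e = d ∧ i = j := by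
      intro e i hne
      have hei : e i ≠ 0 := by
        intro h0
        apply hne
        simp [h0]
      rcases hg i with h | ⟨hi, h⟩
      · exfalso
        apply hne
        rcases h with rfl | rfl | rfl <;> simp [g]
      rw [h, MvPolynomial.monomial_mul, MvPolynomial.coeff_monomial] at hne
      have hT : e - Finsupp.single i 1 + w i = T := by
        by_contra h'
        exact hne (if_neg h')
      have happ : ∀ x : Fin 7, (e - Finsupp.single i 1 + w i : Fin 7 →₀ ℕ) x = T x := fun x => by rw [hT]
      have h0 := happ 0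
      have h1 := happ 1
      have h2 := happ 2
      have hij : i = j := by
        rcases hj with rfl | rfl | rfl | rfl <;> rcases hi with rfl | rfl | rfl | rfl <;>
          simp [T, w, hd0.1, hd0.2.1, hd0.2.2] at h0 h1 h2 hei ⊢ <;> omega
      subst hij
      refine ⟨Finsupp.ext fun x => ?_, rfl⟩
      have := happ x
      by_cases hx : i = x
      · subst hx
        simp [T] at this
        omega
      · simpa [T, Finsupp.single_apply, hx] using this
    have hmd : ∀ e : Fin 7 →₀ ℕ, MvPolynomial.mkDerivation k g (MvPolynomial.monomial e (MvPolynomial.coeff e f)) =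
        MvPolynomial.coeff e f • ∑ i : Fin 7, MvPolynomial.monomial (e - Finsupp.single i 1) (((e i : ℕ) : k)) * g i := by
      intro e
      rw [MvPolynomial.mkDerivation_monomial, Finsupp.sum_fintype]
      · simp [smul_eq_mul]
      · intro i
        simp
    have hsum : MvPolynomial.coeff T (MvPolynomial.mkDerivation k g f) = MvPolynomial.coeff d f * (d j : k) := by
      conv_lhs => rw [f.as_sum]
      rw [map_sum, MvPolynomial.coeff_sum, Finset.sum_eq_single d]
      · rw [hmd, MvPolynomial.coeff_smul, MvPolynomial.coeff_sum, Finset.sum_eq_single j]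
        · rcases hg j with h | ⟨-, h⟩
          · rcases hj with rfl | rfl | rfl | rfl <;> simp at h
          · rw [h, MvPolynomial.monomial_mul, MvPolynomial.coeff_monomial, if_pos rfl]
            simp
        · exact fun i _ hi => by_contra fun h => hi (hterm d i h).2
        · exact fun h => absurd (Finset.mem_univ _) h
      · intro e _ he
        rw [hmd, MvPolynomial.coeff_smul, MvPolynomial.coeff_sum, Finset.sum_eq_zero, smul_zero]
        exact fun i _ => by_contra fun h => he (hterm e i h).1
      · exact fun h => absurd hd h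
    have hδ' : MvPolynomial.mkDerivation k g f = 0 := hδ
    rw [hδ', MvPolynomial.coeff_zero, eq_comm, mul_eq_zero] at hsum
    rcases hsum with h | h
    · exact MvPolynomial.mem_support_iff.1 hd h
    · exact hdj (by exact_mod_cast h)

end Groth.Agent.S11217
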