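import Groth.Statements.S11219
import Groth.Agent.L25.Observable.Char
import Groth.Agent.L25.Observable.Vanishing
import Groth.Agent.L25.Observable.Translate

set_option autoImplicit false
set_option backward.isDefEq.respectTransparency.types false
set_option maxHeartbeats 800000
universe u
open CategoryTheory MonoidalCategory CartesianMonoidalCategory MonObj GrpObj AlgebraicGeometry
open scoped TensorProduct
open AGF Groth.L25.Observable WithConv

namespace Groth.Agent.S11219

/-- Let k be an algebraically closed field, G a linear algebraic group over k (an affine smooth group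
scheme over k) and H a closed subgroup of G (a smooth closed subgroup scheme, i : H → G), with G
connected. Then H is observable in G if and only if every right-H-invariant rational function on G
is a quotient of two right-H-invariant global functions: whenever global functions a, b with b ≠ 0
satisfy a(xh)·b(x) = a(x)·b(xh) on G × H, there are right-H-invariant global functions a′, b′ with
b′ ≠ 0 and a·b′ = a′·b. (The published condition concerns the identity component of G and its
intersection with H; for connected G it reads as stated.) -/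
theorem result (k : Type u) [Field k] [IsAlgClosed k]
    (G : Over (Spec (CommRingCat.of k))) [GrpObj G] [IsAffine G.left] [Smooth G.hom]
    (H : Over (Spec (CommRingCat.of k))) [GrpObj H] [Smooth H.hom] (i : H ⟶ G) [IsMonHom i]
    [IsClosedImmersion i.left] [ConnectedSpace G.left] :
    AGF.IsObservableIn k i ↔
      ∀ a b : Γ(G.left, ⊤), b ≠ 0 →
        ((G ◁ i) ≫ μ[G]).left.appTop a * (fst G H).left.appTop b = (fst G H).left.appTop a * ((G ◁ i) ≫ μ[G]).left.appTop b →
        ∃ a' b' : Γ(G.left, ⊤), AGF.IsRTransInv i a' ∧ AGF.IsRTransInv i b' ∧ b' ≠ 0 ∧ a * b' = a' * b := by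
  classical
  obtain ⟨A, _, _, ψ, _, _, _, _⟩ := exists_chart G
  haveI : IsAffine H.left := isAffine_of_isAffineHom i.left
  haveI : IsAffine (G ⊗ H).left := inferInstanceAs (IsAffine (CategoryTheory.Limits.pullback G.hom H.hom))
  haveI : Smooth (G ⊗ H).hom :=
    inferInstanceAs (Smooth (CategoryTheory.Limits.pullback.fst G.hom H.hom ≫ G.hom))
  haveI : IsDomain A := isDomain ψ
  -- the hypothesis on rational points
  have hrat : ∀ a b : A,
      (((G ◁ i) ≫ μ[G]).left.appTop (fn ψ a) * (fst G H).left.appTop (fn ψ b) =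
        (fst G H).left.appTop (fn ψ a) * ((G ◁ i) ≫ μ[G]).left.appTop (fn ψ b)) ↔
      ∀ (x : VecGrp.pt k k ⟶ G) (h : VecGrp.pt k k ⟶ H),
        (ev ψ (x * (h ≫ i))).ofConv a * (ev ψ x).ofConv b = (ev ψ x).ofConv a * (ev ψ (x * (h ≫ i))).ofConv b := by
    intro a b
    have e : ∀ (q : VecGrp.pt k k ⟶ G ⊗ H) (c : A),
        val q (((G ◁ i) ≫ μ[G]).left.appTop (fn ψ c)) =
          (ev ψ ((q ≫ fst G H) * ((q ≫ snd G H) ≫ i))).ofConv c ∧
        val q ((fst G H).left.appTop (fn ψ c)) = (ev ψ (q ≫ fst G H)).ofConv c := fun q c => by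
      refine ⟨?_, by rw [← val_fn]; rfl⟩
      rw [← val_fn, ← val_comp]
      congr 1
      rw [Hom.mul_def, ← Category.assoc]; congr 1; ext <;> simp
    constructor
    · intro hab x h
      have h1 := congrArg (val (lift x h)) hab
      rw [val_mul, val_mul, (e _ _).1, (e _ _).1, (e _ _).2, (e _ _).2, lift_fst, lift_snd] at h1
      exact h1
    · intro hall
      refine eq_of_forall_val fun q => ?_
      rw [val_mul, val_mul, (e _ _).1, (e _ _).1, (e _ _).2, (e _ _).2]
      exact hall _ _
  constructor
  · intro hobs a₀ b₀ hb₀ hab₀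
    obtain ⟨a, rfl⟩ := fn_surjective ψ a₀
    obtain ⟨b, rfl⟩ := fn_surjective ψ b₀
    have hb : b ≠ 0 := fun e => hb₀ (by rw [e, fn_zero])
    have hab := (hrat a b).1 hab₀
    -- the ideal of denominators
    let J : Ideal A :=
      { carrier := {c | b ∣ c * a}
        add_mem' := fun {c d} hc hd => show b ∣ (c + d) * a by rw [add_mul]; exact dvd_add hc hd
        zero_mem' := show b ∣ 0 * a by simp
        smul_mem' := fun c d hd => show b ∣ c * d * a by rw [_root_.mul_assoc]; exact hd.mul_left c }
    have hbJ : b ∈ J := dvd_mul_right b a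
    obtain ⟨t, ht, hsep⟩ := exists_finset_separating ψ i ((observable_iff ψ i).1 hobs)
    have hJR : ∀ (h : VecGrp.pt k k ⟶ H), ∀ c ∈ J, Rt (ev ψ (h ≫ i)).ofConv c ∈ J := by
      intro h c hc
      obtain ⟨d, hd⟩ := hc
      let R := Rt (ev ψ (h ≫ i)).ofConv
      have hR : R a * b = a * R b := eq_of_forall_ev ψ fun x => by
        simp only [R, map_mul, apply_Rt, ← ev_mul]
        exact hab x h
      refine ⟨R d, mul_left_cancel₀ (a := R b) ?_ ?_⟩
      · intro e0
        refine hb (eq_of_forall_ev ψ fun x => ?_)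
        have := congrArg (ev ψ (x * (h ≫ i)⁻¹)).ofConv e0
        simp only [R, apply_Rt, ← ev_mul, map_zero, inv_mul_cancel_right] at this
        rw [this, map_zero]
      · calc R b * (R c * a) = R c * (a * R b) := by ring
          _ = R (c * a) * b := by rw [← hR, map_mul]; ring
          _ = R b * (b * R d) := by rw [hd, map_mul]; ring
    obtain ⟨e, het, he0, hev⟩ := exists_vanishing_ideal t J (fun c hc => ⟨b, hbJ, mul_ne_zero hc hb⟩)
      (fun φ φ' hφ h0 c hc => by
        obtain ⟨g, hg⟩ := ev_surjective ψ (toConv φ)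
        obtain ⟨g', hg'⟩ := ev_surjective ψ (toConv φ')
        obtain ⟨h, hh⟩ := hsep g g' (fun a ha => by rw [hg, hg']; exact hφ a ha)
        have := h0 _ (hJR h c hc)
        rw [show φ = (ev ψ g).ofConv by rw [hg], apply_Rt, ← ev_mul, ← hh, hg'] at this
        exact this)
    obtain ⟨n, d, hd⟩ := mem_radical_of_forall_ideal hev
    have heinv : ∀ (x : VecGrp.pt k k ⟶ G) (h : VecGrp.pt k k ⟶ H),
        (ev ψ (x * (h ≫ i))).ofConv e = (ev ψ x).ofConv e := fun x h =>
      AlgHom.adjoin_le_equalizer (ev ψ (x * (h ≫ i))).ofConv (ev ψ x).ofConv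
        (fun a ha => ht ha x h) het
    have hb' : ∀ (x : VecGrp.pt k k ⟶ G) (h : VecGrp.pt k k ⟶ H),
        (ev ψ (x * (h ≫ i))).ofConv (e ^ n) = (ev ψ x).ofConv (e ^ n) := fun x h => by
      rw [map_pow, map_pow, heinv]
    refine ⟨fn ψ d, fn ψ (e ^ n), (isRTransInv_iff ψ i d).2 fun x h => ?_, (isRTransInv_iff ψ i _).2 hb',
      fun e0 => pow_ne_zero n he0 (fn_injective ψ (e0.trans (fn_zero ψ).symm)), ?_⟩
    · let R := Rt (ev ψ (h ≫ i)).ofConv
      have key : (R d - d) * R b * b = 0 := eq_of_forall_ev ψ fun y => by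
        simp only [R, map_mul, map_sub, map_zero, apply_Rt, ← ev_mul]
        have h1 := congrArg (ev ψ (y * (h ≫ i))).ofConv hd
        have h2 := congrArg (ev ψ y).ofConv hd
        rw [map_mul, map_mul, hb'] at h1
        rw [map_mul, map_mul] at h2
        linear_combination (-(ev ψ y).ofConv b) * h1 + (ev ψ (y * (h ≫ i))).ofConv b * h2 +
          (ev ψ y).ofConv (e ^ n) * hab y h
      have hRb : R b ≠ 0 := by
        intro e0
        refine hb (eq_of_forall_ev ψ fun y => ?_)
        have := congrArg (ev ψ (y * (h ≫ i)⁻¹)).ofConv e0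
        simp only [R, apply_Rt, ← ev_mul, map_zero, inv_mul_cancel_right] at this
        rw [this, map_zero]
      have hRd : R d = d := sub_eq_zero.1 (by simpa [hb, hRb] using key)
      conv_rhs => rw [← hRd]
      simp only [R, apply_Rt, ← ev_mul]
    · rw [← fn_mul, ← fn_mul]
      congr 1
      rw [mul_comm a, hd, mul_comm]
  · intro hfrac
    rw [observable_iff ψ i]
    intro g hg
    obtain ⟨χ, hχ, n, f, ⟨j₀, hj₀⟩, hsemi, hstab⟩ := exists_line_char ψ i
    refine hstab g ((ev ψ g).ofConv (f j₀) / (ev ψ (1 : VecGrp.pt k k ⟶ G)).ofConv (f j₀)) fun j => ?_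
    obtain ⟨a', b', ha', hb', hb'0, heq⟩ := hfrac (fn ψ (f j)) (fn ψ (f j₀))
      (fun e => hj₀ (by rw [fn_injective ψ (e.trans (fn_zero ψ).symm), map_zero]))
      ((hrat _ _).2 fun x h => by rw [hsemi, hsemi]; ring)
    obtain ⟨a, rfl⟩ := fn_surjective ψ a'
    obtain ⟨b, rfl⟩ := fn_surjective ψ b'
    have hb : b ≠ 0 := fun e => hb'0 (by rw [e, fn_zero])
    rw [← fn_mul, ← fn_mul] at heq
    have heq' := fn_injective ψ heq
    let R := Rt (ev ψ g).ofConv
    have key : (R (f j) * f j₀ - f j * R (f j₀)) * b = 0 := eq_of_forall_ev ψ fun y => by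
      simp only [R, map_mul, map_sub, map_zero, apply_Rt, ← ev_mul]
      have h1 := congrArg (ev ψ (y * g)).ofConv heq'
      have h2 := congrArg (ev ψ y).ofConv heq'
      rw [map_mul, map_mul, hg b ((mem_inv'_iff ψ i b).2 hb'), hg a ((mem_inv'_iff ψ i a).2 ha')] at h1
      rw [map_mul, map_mul] at h2
      linear_combination (ev ψ y).ofConv (f j₀) * h1 - (ev ψ (y * g)).ofConv (f j₀) * h2
    have e1 := congrArg (ev ψ (1 : VecGrp.pt k k ⟶ G)).ofConv
      (sub_eq_zero.1 ((mul_eq_zero.1 key).resolve_right hb))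
    simp only [R, map_mul, apply_Rt, ← ev_mul, _root_.one_mul] at e1
    field_simp
    linear_combination e1

end Groth.Agent.S11219
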