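import Groth.Statements.S11220
import Groth.Agent.L25.Observable.Char
import Groth.Agent.L25.Observable.Vanishing

set_option autoImplicit false
set_option backward.isDefEq.respectTransparency.types false
set_option maxHeartbeats 800000
universe u
open CategoryTheory MonoidalCategory CartesianMonoidalCategory MonObj GrpObj AlgebraicGeometry
open scoped TensorProduct
open AGF Groth.L25.Observable WithConv

namespace Groth.Agent.S11220

/-- Let k be an algebraically closed field, G a linear algebraic group over k (an affine smooth group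
scheme over k) and H a closed subgroup of G (a smooth closed subgroup scheme, i : H → G). Then H is
observable in G if and only if, for every character χ of H which occurs on a nonzero
H-semi-invariant vector of some finite-dimensional rational G-module (h·v = χ(h)v), the inverse
character χ⁻¹ also occurs on a nonzero H-semi-invariant vector of some finite-dimensional rational
G-module (every one-dimensional H-module found inside a finite-dimensional G-module has its dual
inside one too). -/
theorem result (k : Type u) [Field k] [IsAlgClosed k]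
    (G : Over (Spec (CommRingCat.of k))) [GrpObj G] [IsAffine G.left] [Smooth G.hom]
    (H : Over (Spec (CommRingCat.of k))) [GrpObj H] [Smooth H.hom] (i : H ⟶ G) [IsMonHom i]
    [IsClosedImmersion i.left] :
    AGF.IsObservableIn k i ↔
      ∀ (χ : H ⟶ Red.Gm (Spec (CommRingCat.of k))), IsMonHom χ →
        (∃ (V : Type u) (_ : AddCommGroup V) (_ : Module k V) (_ : Module.Finite k V) (ρ : VecGrp.GMod G V) (v : V), v ≠ 0 ∧
          ∀ (B : Type u) [CommRing B] [Algebra k B] (h : VecGrp.pt k B ⟶ H),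
            ρ.ρ B (h ≫ i) ((1 : B) ⊗ₜ[k] v) = VecGrp.chiVal χ h • ((1 : B) ⊗ₜ[k] v)) →
        (∃ (V : Type u) (_ : AddCommGroup V) (_ : Module k V) (_ : Module.Finite k V) (ρ : VecGrp.GMod G V) (v : V), v ≠ 0 ∧
          ∀ (B : Type u) [CommRing B] [Algebra k B] (h : VecGrp.pt k B ⟶ H),
            ρ.ρ B (h ≫ i) ((1 : B) ⊗ₜ[k] v) = VecGrp.chiVal χ⁻¹ h • ((1 : B) ⊗ₜ[k] v)) := by
  classical
  obtain ⟨A, _, _, ψ, _, _, _, _⟩ := exists_chart G
  haveI : IsAffine H.left := isAffine_of_isAffineHom i.left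
  have hinv : ∀ (χ : H ⟶ Red.Gm (Spec (CommRingCat.of k))) (h : VecGrp.pt k k ⟶ H),
      VecGrp.chiVal χ h ≠ 0 ∧ VecGrp.chiVal χ⁻¹ h = (VecGrp.chiVal χ h)⁻¹ := fun χ h =>
    ⟨right_ne_zero_of_mul (by rw [chiVal_inv_mul χ h]; exact one_ne_zero),
      eq_inv_of_mul_eq_one_left (chiVal_inv_mul χ h)⟩
  rw [observable_iff ψ i]
  constructor
  · intro hobs χ _ hocc
    obtain ⟨V, _, _, _, ρ, v, hv, hρ⟩ := hocc
    obtain ⟨f, hf1, hf⟩ := exists_fun_of_eigenvector ψ i χ ρ hv hρ
    haveI : Nontrivial A := RingHom.domain_nontrivial (ev ψ (1 : VecGrp.pt k k ⟶ G)).ofConv.toRingHom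
    let W : Submodule k A := Submodule.span k (Set.range fun y : VecGrp.pt k k ⟶ G => L (ev ψ y).ofConv f)
    have hW : ∀ w ∈ W, ∀ (x : VecGrp.pt k k ⟶ G) (h : VecGrp.pt k k ⟶ H),
        (ev ψ (x * (h ≫ i))).ofConv w = VecGrp.chiVal χ h * (ev ψ x).ofConv w := by
      intro w hw x h
      induction hw using Submodule.span_induction with
      | mem z hz =>
        obtain ⟨y, rfl⟩ := hz
        rw [apply_L_pt, apply_L_pt, ← ev_mul, ← ev_mul, ← _root_.mul_assoc]
        exact hf _ h
      | zero => simp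
      | add z w _ _ hz hw => rw [map_add, map_add, hz, hw, mul_add]
      | smul c z _ hz => rw [map_smul, map_smul, hz, smul_eq_mul, smul_eq_mul]; ring
    obtain ⟨F, hFW, hreg⟩ := exists_nonZeroDivisor W (fun φ => by
      obtain ⟨g, hg⟩ := ev_surjective ψ (toConv φ)
      refine ⟨_, Submodule.subset_span ⟨g⁻¹, rfl⟩, ?_⟩
      have e : φ (L (ev ψ g⁻¹).ofConv f) = (ev ψ (g⁻¹ * g)).ofConv f := by
        rw [ev_mul, ← apply_L_pt, hg]
      rw [e, inv_mul_cancel, hf1]
      exact one_ne_zero)
    obtain ⟨t, ht, hsep⟩ := exists_finset_separating ψ i hobs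
    obtain ⟨b, hbt, hb0, hbv⟩ := exists_vanishing t hreg (fun φ φ' hφ h0 => by
      obtain ⟨g, hg⟩ := ev_surjective ψ (toConv φ)
      obtain ⟨g', hg'⟩ := ev_surjective ψ (toConv φ')
      obtain ⟨h, hh⟩ := hsep g g' (fun a ha => by rw [hg, hg']; exact hφ a ha)
      have e := hW F hFW g h
      rw [← hh, hg, hg'] at e
      simpa [h0] using e)
    have hbinv : ∀ (x : VecGrp.pt k k ⟶ G) (h : VecGrp.pt k k ⟶ H),
        (ev ψ (x * (h ≫ i))).ofConv b = (ev ψ x).ofConv b := fun x h =>
      AlgHom.adjoin_le_equalizer (ev ψ (x * (h ≫ i))).ofConv (ev ψ x).ofConv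
        (fun a ha => ht ha x h) hbt
    obtain ⟨n, hn⟩ := mem_radical_of_forall hbv
    obtain ⟨f', hf'⟩ := Ideal.mem_span_singleton'.1 hn
    refine exists_eigenvector ψ i χ⁻¹ (f' * b) (fun e => hb0 ?_) (fun x h => ?_)
    · have : b ^ (n + 1) = 0 := by rw [pow_succ, ← hf', mul_right_comm, e, zero_mul]
      exact eq_zero_of_pow_eq_zero this
    · rw [(hinv χ h).2, map_mul, map_mul, hbinv]
      by_cases h0 : (ev ψ x).ofConv F = 0
      · rw [hbv _ h0]; ring
      · have e1 := congrArg (ev ψ (x * (h ≫ i))).ofConv hf'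
        have e2 := congrArg (ev ψ x).ofConv hf'
        rw [map_mul, map_pow, hbinv, hW F hFW] at e1
        rw [map_mul, map_pow, ← e1] at e2
        have hc := (hinv χ h).1
        have e3 : (ev ψ x).ofConv f' = VecGrp.chiVal χ h * (ev ψ (x * (h ≫ i))).ofConv f' := by
          refine mul_right_cancel₀ h0 (e2.trans ?_)
          ring
        rw [e3, ← _root_.mul_assoc, ← _root_.mul_assoc, inv_mul_cancel₀ hc, _root_.one_mul]
  · intro hocc g hg
    obtain ⟨χ, hχ, n, f, ⟨j₀, hj₀⟩, hsemi, hstab⟩ := exists_line_char ψ i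
    obtain ⟨V, _, _, _, ρ, v, hv, hρ⟩ := hocc χ hχ
      (exists_eigenvector ψ i χ (f j₀) (fun e => hj₀ (by rw [e, map_zero])) (hsemi j₀))
    obtain ⟨f', hf1, hf⟩ := exists_fun_of_eigenvector ψ i χ⁻¹ ρ hv hρ
    have hprod : ∀ j, (ev ψ g).ofConv (f j) * (ev ψ g).ofConv f' = (ev ψ (1 : VecGrp.pt k k ⟶ G)).ofConv (f j) := by
      intro j
      have e := hg (f j * f') (fun x h => by
        rw [map_mul, map_mul, hsemi, hf, (hinv χ h).2]
        field_simp [(hinv χ h).1]) 1
      rwa [_root_.one_mul, map_mul, map_mul, hf1, _root_.mul_one] at e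
    have hne : (ev ψ g).ofConv f' ≠ 0 := fun e => hj₀ (by rw [← hprod j₀, e, mul_zero])
    refine hstab g ((ev ψ g).ofConv f')⁻¹ fun j => ?_
    rw [← hprod j]
    field_simp

end Groth.Agent.S11220
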