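import Groth.Statements.S11221


set_option autoImplicit false
universe u
open CategoryTheory MonoidalCategory CartesianMonoidalCategory MonObj GrpObj AlgebraicGeometry
open scoped TensorProduct
open AGF

namespace Groth.Agent.S11221

/-- Let R be a Noetherian integrally closed domain with fraction field K and let p be a prime ideal of R
of height one. Then there is f ∈ K which is not in R but lies in the local ring R_q ⊆ K of every
height-one prime q ≠ p (f = a/b with b ∉ q): a rational function on Spec R with a pole along V(p)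
only. (The published statement is for the coordinate ring of a normal affine variety; this row is
for any Noetherian integrally closed domain, which is all the argument uses.) -/
theorem result (R : Type u) [CommRing R] [IsDomain R] [IsNoetherianRing R] [IsIntegrallyClosed R]
    (p : Ideal R) [p.IsPrime] (hp : p.height = 1) :
    ∃ f : FractionRing R, f ∉ Set.range ⇑(algebraMap R (FractionRing R)) ∧
      ∀ q : Ideal R, q.IsPrime → q.height = 1 → q ≠ p →
        ∃ a b : R, b ∉ q ∧ f * algebraMap R (FractionRing R) b = algebraMap R (FractionRing R) a := by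

    classical
    obtain ⟨a, hap, ha0⟩ : ∃ a ∈ p, a ≠ 0 := by
      by_contra h
      push Not at h
      have hb : p = ⊥ := eq_bot_iff.2 fun x hx => h x hx
      rw [hb, Ideal.height_bot] at hp
      exact zero_ne_one hp
    have hchain : ∀ q' q : Ideal R, q'.IsPrime → a ∈ q' → q.height = 1 → ¬ q' < q := by
      intro q' q hq' ha' hq1 h'
      haveI : (⊥ : Ideal R).IsPrime := Ideal.isPrime_bot
      haveI : (⊥ : Ideal R).FiniteHeight := ⟨Or.inr (by rw [Ideal.height_bot]; exact ENat.zero_ne_top)⟩
      haveI : q'.FiniteHeight := ⟨Or.inr (ne_top_of_le_ne_top (by rw [hq1]; exact ENat.one_ne_top) (Ideal.height_mono h'.le))⟩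
      have h0 : (⊥ : Ideal R).height < q'.height := Ideal.height_strict_mono_of_isPrime
        (lt_of_le_of_ne bot_le fun h => ha0 (by rw [← h] at ha'; simpa using ha'))
      have h1 : q'.height < q.height := Ideal.height_strict_mono_of_isPrime h'
      rw [hq1, Order.lt_one_iff] at h1
      rw [Ideal.height_bot, h1] at h0
      exact lt_irrefl _ h0
    have key : ∀ q : Ideal R, q ∈ (Ideal.span ({a} : Set R)).minimalPrimes → ∃ N : ℕ, ∀ x ∈ q ^ N, ∃ r s : R, s ∉ q ∧ s * x = a * r := by
      intro q hq
      haveI : q.IsPrime := hq.1.1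
      have hrad : ((Ideal.span ({a} : Set R)).map (algebraMap R (Localization.AtPrime q))).radical = IsLocalRing.maximalIdeal _ :=
        (IsLocalization.AtPrime.radical_map_of_mem_minimalPrimes (Localization.AtPrime q) q _ hq).trans
          Localization.AtPrime.map_eq_maximalIdeal
      obtain ⟨N, hN⟩ := Ideal.exists_radical_pow_le_of_fg ((Ideal.span ({a} : Set R)).map (algebraMap R (Localization.AtPrime q))) (IsNoetherian.noetherian _)
      refine ⟨N, fun x hx => ?_⟩
      have h1 : algebraMap R (Localization.AtPrime q) x ∈ (Ideal.span ({a} : Set R)).map (algebraMap R (Localization.AtPrime q)) := by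
        refine hN ?_
        rw [hrad, ← Localization.AtPrime.map_eq_maximalIdeal, ← Ideal.map_pow]
        exact Ideal.mem_map_of_mem _ hx
      obtain ⟨⟨⟨b, hb⟩, s⟩, hs⟩ := (IsLocalization.mem_map_algebraMap_iff q.primeCompl _).1 h1
      obtain ⟨r, rfl⟩ := Ideal.mem_span_singleton'.1 hb
      rw [← map_mul] at hs
      have := IsLocalization.injective (Localization.AtPrime q) q.primeCompl_le_nonZeroDivisors hs
      exact ⟨r, s, s.2, by rw [mul_comm]; exact this.trans (mul_comm r a)⟩
    let Q := (Ideal.span ({a} : Set R)).finite_minimalPrimes_of_isNoetherianRing.toFinset.erase p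
    have hQ : ∀ q ∈ Q, q ∈ (Ideal.span ({a} : Set R)).minimalPrimes ∧ q ≠ p := fun q hq => by
      obtain ⟨h1, h2⟩ := Finset.mem_erase.1 hq
      exact ⟨(Set.Finite.mem_toFinset _).1 h2, h1⟩
    choose! N hN using fun q (hq : q ∈ Q) => key q (hQ q hq).1
    have hnle : ¬ ∏ q ∈ Q, q ^ N q ≤ p := by
      intro h
      obtain ⟨q, hq, hqp⟩ := (Ideal.IsPrime.prod_le inferInstance).1 h
      haveI : q.IsPrime := (hQ q hq).1.1.1
      have hle : q ≤ p := (inferInstance : p.IsPrime).le_of_pow_le hqp
      rcases eq_or_lt_of_le hle with h' | h'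
      · exact (hQ q hq).2 h'
      · exact hchain q p inferInstance ((hQ q hq).1.1.2 (Ideal.mem_span_singleton_self a)) hp h'
    obtain ⟨b, hb, hbp⟩ := SetLike.not_le_iff_exists.1 hnle
    have ha' : algebraMap R (FractionRing R) a ≠ 0 := by simpa using ha0
    refine ⟨algebraMap R (FractionRing R) b / algebraMap R (FractionRing R) a, ?_, ?_⟩
    · rintro ⟨c, hc⟩
      rw [eq_div_iff ha', ← map_mul] at hc
      exact hbp (IsFractionRing.injective R (FractionRing R) hc ▸ p.mul_mem_left c hap)
    · intro q hq hq1 hqp
      by_cases haq : a ∈ q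
      · have hqmin : q ∈ (Ideal.span ({a} : Set R)).minimalPrimes := by
          refine ⟨⟨hq, (Ideal.span_singleton_le_iff_mem _).2 haq⟩, fun q' hq' hle => ?_⟩
          rcases eq_or_lt_of_le hle with h' | h'
          · exact h'.symm.le
          · exact absurd h' (hchain q' q hq'.1 (hq'.2 (Ideal.mem_span_singleton_self a)) hq1)
        have hqQ : q ∈ Q := Finset.mem_erase.2 ⟨hqp, (Set.Finite.mem_toFinset _).2 hqmin⟩
        obtain ⟨r, s, hs, hsr⟩ := hN q hqQ b (Ideal.le_of_dvd (Finset.dvd_prod_of_mem (fun q => q ^ N q) hqQ) hb)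
        refine ⟨r, s, hs, ?_⟩
        rw [div_mul_eq_mul_div, div_eq_iff ha', ← map_mul, ← map_mul, mul_comm b, hsr, mul_comm]
      · exact ⟨b, a, haq, div_mul_cancel₀ _ ha'⟩

end Groth.Agent.S11221
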