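import Groth.Statements.S11222
import Groth.Agent.S11204
import Groth.Agent.S11207
import Groth.Agent.S11212
import Groth.Agent.L25.Observable.Transfer

set_option autoImplicit false
universe u
open CategoryTheory MonoidalCategory CartesianMonoidalCategory MonObj GrpObj AlgebraicGeometry
open scoped TensorProduct
open AGF Groth.L25.Observable WithConv

namespace Groth.Agent.S11222

/-- Let k be an algebraically closed field, L a linear algebraic group over k, G a closed subgroup of L
whose identity component is reductive, H a closed subgroup of G which is observable in G with k[G]^H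
finitely generated over the constants (a Grosshans subgroup of G), and G₁ a closed subgroup of L,
observable in L, containing H (i₁ : H → G₁ compatible with the inclusions into L). Assume the
following standard results of geometric invariant theory for groups with reductive identity
component, carried as hypotheses: finite generation of invariants on finitely generated algebras,
and that the quotient map of an affine variety by such a group separates disjoint closed invariant
subsets. Then H is observable in G₁ and k[G₁]^H is finitely generated over the constants (H is a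
Grosshans subgroup of G₁). -/
theorem result (k : Type u) [Field k] [IsAlgClosed k]
    (L : Over (Spec (CommRingCat.of k))) [GrpObj L] [IsAffine L.left] [Smooth L.hom]
    (G : Over (Spec (CommRingCat.of k))) [GrpObj G] [Smooth G.hom] (jG : G ⟶ L) [IsMonHom jG] [IsClosedImmersion jG.left]
    (hG : VecGrp.IsReductiveGrp k G)
    (H : Over (Spec (CommRingCat.of k))) [GrpObj H] [Smooth H.hom] (i : H ⟶ G) [IsMonHom i]
    [IsClosedImmersion i.left]
    (hH : AGF.IsObservableIn k i) (hfg : AGF.SubringFGOver k G (AGF.rTransInv i))
    (G₁ : Over (Spec (CommRingCat.of k))) [GrpObj G₁] [Smooth G₁.hom] (j₁ : G₁ ⟶ L) [IsMonHom j₁] [IsClosedImmersion j₁.left]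
    (hG₁ : AGF.IsObservableIn k j₁) (i₁ : H ⟶ G₁) [IsMonHom i₁] (hc : i₁ ≫ j₁ = i ≫ jG)
    (thmA : VecGrp.ReductiveInvariantsFG k) (thmAbiv : AGF.ReductiveQuotSeparates k) :
    AGF.IsObservableIn k i₁ ∧ AGF.SubringFGOver k G₁ (AGF.rTransInv i₁) := by
  classical
  haveI : IsAffine G.left := hG.1
  haveI : IsAffine H.left := isAffine_of_isAffineHom i.left
  haveI : IsClosedImmersion (i ≫ jG).left := inferInstanceAs (IsClosedImmersion (i.left ≫ jG.left))
  haveI : IsClosedImmersion (i₁.left ≫ j₁.left) := by rw [← Over.comp_left, hc]; infer_instance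
  haveI : IsClosedImmersion i₁.left := IsClosedImmersion.of_comp i₁.left j₁.left
  have hobsG : AGF.IsObservableIn k jG := Groth.Agent.S11212.result k L G jG hG thmA thmAbiv
  have hobs : AGF.IsObservableIn k (i₁ ≫ j₁) := by
    rw [hc]; exact observable_comp jG i hH hobsG
  refine Groth.Agent.S11204.result k L G₁ j₁ H i₁ hobs hG₁ ?_
  obtain ⟨A, _, _, ψ, _, _, _, _⟩ := exists_chart L
  obtain ⟨m, hm, hmpt⟩ := exists_regular ψ jG
  have hfix : ∀ c : A, c ∈ m.fixedSubalgebra hm i ↔ c ∈ inv' ψ (i₁ ≫ j₁) := by
    intro c
    rw [hc]
    constructor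
    · intro hc' x h
      have e := hc' k h
      rw [hmpt, Category.assoc] at e
      have e2 : Rt (ev ψ (h ≫ i ≫ jG)).ofConv c = c := by
        have := congrArg (TensorProduct.lid k A) e
        simpa using this
      conv_rhs => rw [← e2]
      rw [apply_Rt, ← ev_mul]
    · intro hc'
      refine mem_fixedUnder_of_pts' i m c fun γ => ?_
      rw [hmpt, Category.assoc, show Rt (ev ψ (γ ≫ i ≫ jG)).ofConv c = c from eq_of_forall_ev ψ fun x => by
        rw [apply_Rt, ← ev_mul]; exact hc' x γ]
  obtain ⟨s, hs⟩ := (Subalgebra.fg_iff_finiteType _).2 ((Groth.Agent.S11207.result k G H i hG thmA).1 hfg A m hm)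
  refine ⟨s.image (fn ψ), fun f hf => ?_, fun f hf => ?_⟩
  · obtain ⟨c, hc', rfl⟩ := Finset.mem_image.1 (Finset.mem_coe.1 hf)
    exact (mem_inv'_iff ψ _ c).1 ((hfix c).1 (hs ▸ Algebra.subset_adjoin (Finset.mem_coe.2 hc')))
  · obtain ⟨c, rfl⟩ := fn_surjective ψ f
    have hc' : c ∈ Algebra.adjoin k (↑s : Set A) := hs ▸ (hfix c).2 ((mem_inv'_iff ψ _ c).2 hf)
    clear hf
    induction hc' using Algebra.adjoin_induction with
    | mem x hx => exact Subring.subset_closure (Or.inr (Finset.mem_coe.2 (Finset.mem_image_of_mem _ hx)))
    | algebraMap r => exact Subring.subset_closure (Or.inl ⟨r, (fn_algebraMap ψ r).symm⟩)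
    | add x y _ _ hx hy => rw [← fnHom_apply, map_add]; exact add_mem hx hy
    | mul x y _ _ hx hy => rw [← fnHom_apply, map_mul]; exact mul_mem hx hy
end Groth.Agent.S11222
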