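import Groth.Statements.S11223
import Mathlib.RingTheory.MvPolynomial.Homogeneous
import Mathlib.RingTheory.IntegralClosure.IsIntegralClosure.Basic
import Mathlib.RingTheory.Ideal.Operations
import Mathlib.RingTheory.Finiteness.Basic

set_option autoImplicit false
universe u
open CAlg

namespace Groth.Agent.S11223

/-- Let k be a field, let z_1, ..., z_m be homogeneous polynomials of positive degree in the polynomial
ring k[x_1, ..., x_n], and suppose the radical of the ideal (z_1, ..., z_m) is the ideal (x_1, ...,
x_n) generated by the variables. Then the polynomial ring is integral over the subalgebra generated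
by z_1, ..., z_m. (The published statement is over an algebraically closed field; this row takes any
field, which its proof allows.) -/
theorem result (k : Type u) [Field k] (n m : ℕ)
    (z : Fin m → MvPolynomial (Fin n) k) (d : Fin m → ℕ) (hd : ∀ i, 0 < d i)
    (hz : ∀ i, (z i).IsHomogeneous (d i))
    (hrad : (Ideal.span (Set.range z)).radical =
      Ideal.span (Set.range (MvPolynomial.X : Fin n → MvPolynomial (Fin n) k))) :
    Algebra.IsIntegral (Algebra.adjoin k (Set.range z)) (MvPolynomial (Fin n) k) := by
  classical
  let A : Subalgebra k (MvPolynomial (Fin n) k) := Algebra.adjoin k (Set.range z)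
  have hpow : ∀ j : Fin n, ∃ N : ℕ, (MvPolynomial.X j : MvPolynomial (Fin n) k) ^ N ∈ Ideal.span (Set.range z) := fun j =>
    Ideal.mem_radical_iff.mp (hrad ▸ Ideal.subset_span ⟨j, rfl⟩)
  choose N hN using hpow
  let small : Set (MvPolynomial (Fin n) k) :=
    (fun c : ∀ j, Fin (N j) => MvPolynomial.monomial (Finsupp.equivFunOnFinite.symm fun j => (c j : ℕ)) (1 : k)) '' Set.univ
  let M : Submodule A (MvPolynomial (Fin n) k) := Submodule.span A small
  have hk : ∀ (c : k) (p : MvPolynomial (Fin n) k), p ∈ M → c • p ∈ M := fun c p hp => by
    rw [Algebra.smul_def]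
    exact M.smul_mem (algebraMap k A c) hp
  have key : ∀ (D : ℕ) (p : MvPolynomial (Fin n) k), p.IsHomogeneous D → p ∈ M := by
    intro D
    induction D using Nat.strong_induction_on with
    | _ D ih =>
      intro p hp
      rw [p.as_sum]
      refine M.sum_mem fun e he => ?_
      have hD : e.degree = D := by
        by_contra h
        exact MvPolynomial.mem_support_iff.mp he (hp.coeff_eq_zero (by simpa using h))
      rw [show MvPolynomial.monomial e (p.coeff e) = p.coeff e • MvPolynomial.monomial e (1 : k) by
        rw [MvPolynomial.smul_monomial, smul_eq_mul, mul_one]]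
      refine hk _ _ ?_
      by_cases hsmall : ∀ j, e j < N j
      · exact Submodule.subset_span ⟨fun j => ⟨e j, hsmall j⟩, trivial, by congr 1; ext j; simp⟩
      push Not at hsmall
      obtain ⟨j, hj⟩ := hsmall
      have hmem : MvPolynomial.monomial e (1 : k) ∈ Ideal.span (Set.range z) := by
        have he2 : e = Finsupp.single j (N j) + (e - Finsupp.single j (N j)) :=
          (add_tsub_cancel_of_le (Finsupp.single_le_iff.mpr hj)).symm
        rw [he2, ← one_mul (1 : k), ← MvPolynomial.monomial_mul, ← MvPolynomial.X_pow_eq_monomial]
        exact Ideal.mul_mem_right _ _ (hN j)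
      obtain ⟨c, hc⟩ := Submodule.mem_span_range_iff_exists_fun _ |>.mp hmem
      have heD : (MvPolynomial.monomial e (1 : k)) = MvPolynomial.homogeneousComponent D (∑ i, c i • z i) := by
        rw [hc, MvPolynomial.homogeneousComponent_of_mem (n := D) (MvPolynomial.isHomogeneous_monomial _ hD), if_pos rfl]
      rw [heD, map_sum]
      refine M.sum_mem fun i _ => ?_
      rw [smul_eq_mul, ← MvPolynomial.sum_homogeneousComponent (φ := c i), Finset.sum_mul, map_sum]
      refine M.sum_mem fun l _ => ?_
      have hl : (MvPolynomial.homogeneousComponent l (c i) * z i).IsHomogeneous (l + d i) :=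
        (MvPolynomial.homogeneousComponent_mem (φ := c i) (n := l)).mul (hz i)
      rw [MvPolynomial.homogeneousComponent_of_mem (n := l + d i) hl]
      split_ifs with h
      · rw [mul_comm]
        exact M.smul_mem ⟨z i, Algebra.subset_adjoin ⟨i, rfl⟩⟩
          (ih l (by have := hd i; omega) _ (MvPolynomial.homogeneousComponent_mem (φ := c i) (n := l)))
      · exact M.zero_mem
  haveI : Module.Finite A (MvPolynomial (Fin n) k) := by
    refine ⟨Submodule.fg_def.mpr ⟨small, Set.finite_univ.image _, eq_top_iff.mpr fun p _ => ?_⟩⟩
    rw [← MvPolynomial.sum_homogeneousComponent (φ := p)]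
    exact M.sum_mem fun l _ => key l _ (MvPolynomial.homogeneousComponent_mem (φ := p) (n := l))
  exact Algebra.IsIntegral.of_finite A _

end Groth.Agent.S11223
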