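import Groth.Statements.S11225
import Groth.Agent.L16.FinGen.Assemble

set_option autoImplicit false
universe u
open CategoryTheory MonoidalCategory CartesianMonoidalCategory MonObj GrpObj AlgebraicGeometry
open scoped TensorProduct
open AGF

namespace Groth.Agent.S11225

/-- Let k an algebraically closed field, G a linear algebraic group over k (affine, smooth) whose
identity component is reductive, B a Borel subgroup of G with unipotent radical U (a maximal
unipotent subgroup). Assume finite generation of invariants of reductive groups over k on finitely
generated algebras (a true result which the published text assumes without proof, carried here as a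
hypothesis). Let A be a commutative k-algebra with a rational action of G by algebra automorphisms.
If the algebra of invariants A^U is finitely generated over k, then so is A. (The published
statement is the equivalence; its other direction, that A^U is finitely generated whenever A is, is
an earlier result of the same text and is stated separately, so this row states only the direction
from A^U to A.) -/
theorem result (k : Type u) [Field k] [IsAlgClosed k]
    (G : Over (Spec (CommRingCat.of k))) [GrpObj G] (hG : VecGrp.IsReductiveGrp k G)
    (Bo : Over (Spec (CommRingCat.of k))) [GrpObj Bo] (iB : Bo ⟶ G) (hB : Red.IsBorelOver k iB)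
    (U : Over (Spec (CommRingCat.of k))) [GrpObj U] (u : U ⟶ Bo) (hU : Par.IsUnipotentRadical u)
    (thmA : VecGrp.ReductiveInvariantsFG k)
    (A : Type u) [CommRing A] [Algebra k A] (ρ : VecGrp.GMod G A) (hρ : ρ.IsMult) :
    Algebra.FiniteType k ↥(ρ.fixedSubalgebra hρ (u ≫ iB)) → Algebra.FiniteType k A := by
  intro hA
  exact Groth.L16.FinGen.finiteType_of_invariants hG hB hU thmA ρ hρ hA
end Groth.Agent.S11225
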