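import Groth.Statements.S11226
import Groth.Agent.L16.FinGen.Parabolic

set_option autoImplicit false
universe u
open CategoryTheory MonoidalCategory CartesianMonoidalCategory MonObj GrpObj AlgebraicGeometry
open scoped TensorProduct
open AGF

namespace Groth.Agent.S11226

/-- Let k be an algebraically closed field, G a linear algebraic group over k (affine, smooth) whose
identity component is reductive, P a parabolic subgroup of G (a smooth closed subgroup containing a
Borel subgroup) and H the unipotent radical of P. Assume finite generation of invariants of
reductive groups over k on finitely generated algebras (a true result which the published text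
assumes without proof, carried here as a hypothesis). If A is a finitely generated commutative
k-algebra with a rational action of G by algebra automorphisms, then the algebra of invariants A^H
is finitely generated over k. -/
theorem result (k : Type u) [Field k] [IsAlgClosed k]
    (G : Over (Spec (CommRingCat.of k))) [GrpObj G] (hG : VecGrp.IsReductiveGrp k G)
    (P : Over (Spec (CommRingCat.of k))) [GrpObj P] (iP : P ⟶ G) (hP : Red.IsParabolicOver k iP)
    (H : Over (Spec (CommRingCat.of k))) [GrpObj H] (h : H ⟶ P) (hH : Par.IsUnipotentRadical h)
    (thmA : VecGrp.ReductiveInvariantsFG k)
    (A : Type u) [CommRing A] [Algebra k A] [Algebra.FiniteType k A] (ρ : VecGrp.GMod G A) (hρ : ρ.IsMult) :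
    Algebra.FiniteType k ↥(ρ.fixedSubalgebra hρ (h ≫ iP)) := by
  exact Groth.L16.FinGen.finiteType_parabolic hG hP hH thmA ρ hρ
end Groth.Agent.S11226
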