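import Groth.Statements.S11227
import Groth.Agent.L16.GeomRed.Setting

set_option autoImplicit false
universe u
open CategoryTheory MonoidalCategory CartesianMonoidalCategory MonObj GrpObj AlgebraicGeometry
open scoped TensorProduct
open AGF

namespace Groth.Agent.S11227

/-- Let k an algebraically closed field, G a linear algebraic group over k (affine, smooth) whose
identity component is reductive, B a Borel subgroup of G with unipotent radical U (a maximal
unipotent subgroup). Assume finite generation of invariants of reductive groups over k on finitely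
generated algebras (a true result which the published text assumes without proof, carried here as a
hypothesis). Let A be a finitely generated commutative k-algebra with a rational action of G by
algebra automorphisms and C a finitely generated subalgebra of A stable under G. Then integrality of
A over C is equivalent to integrality of A^U over C^U = C ∩ A^U, that is, every element of A^U is
integral over the subalgebra C ∩ A^U. -/
theorem result (k : Type u) [Field k] [IsAlgClosed k]
    (G : Over (Spec (CommRingCat.of k))) [GrpObj G] (hG : VecGrp.IsReductiveGrp k G)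
    (Bo : Over (Spec (CommRingCat.of k))) [GrpObj Bo] (iB : Bo ⟶ G) (hB : Red.IsBorelOver k iB)
    (U : Over (Spec (CommRingCat.of k))) [GrpObj U] (u : U ⟶ Bo) (hU : Par.IsUnipotentRadical u)
    (thmA : VecGrp.ReductiveInvariantsFG k)
    (A : Type u) [CommRing A] [Algebra k A] [Algebra.FiniteType k A] (ρ : VecGrp.GMod G A) (hρ : ρ.IsMult)
    (C : Subalgebra k A) (hCfg : C.FG) (hC : ρ.IsStable (𝟙 G) (Subalgebra.toSubmodule C)) :
    Algebra.IsIntegral ↥C A ↔
      ∀ x ∈ ρ.fixedUnder (u ≫ iB), IsIntegral ↥(C ⊓ ρ.fixedSubalgebra hρ (u ≫ iB)) x := by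
  classical
  obtain ⟨h1, h2, h3, h4, h5, h6, hns, hfin⟩ := Groth.L16.GeomRed.borel_radical_setting hG hB hU thmA
  set iU := u ≫ iB
  let D := C ⊓ ρ.fixedSubalgebra hρ iU
  constructor
  · intro hint x hx
    obtain ⟨ρC, hρC, hρCv⟩ := Groth.L16.GeomRed.exists_restrictAlg ρ hρ C hC
    haveI : Algebra.FiniteType k C := (Subalgebra.fg_iff_finiteType C).1 hCfg
    haveI : Algebra.FiniteType C A := Algebra.FiniteType.of_restrictScalars_finiteType k C A
    haveI : Module.Finite C A := Algebra.IsIntegral.finite
    have hsm : ∀ (B : Type u) [CommRing B] [Algebra k B] (a : B ⊗[k] C) (b : B ⊗[k] A),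
        VecGrp.GMod.smulW k C A B a b = Algebra.TensorProduct.map (AlgHom.id B B) C.val a * b := by
      intro B _ _ a b
      induction a using TensorProduct.induction_on with
      | zero => simp
      | add p q hp hq => rw [map_add, LinearMap.add_apply, hp, hq, map_add, add_mul]
      | tmul p a =>
        induction b using TensorProduct.induction_on with
        | zero => simp
        | add q q' hq hq' => rw [map_add, hq, hq', mul_add]
        | tmul q b =>
          rw [VecGrp.GMod.smulW, TensorProduct.map₂_apply_tmul, Algebra.TensorProduct.map_tmul,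
            Algebra.TensorProduct.tmul_mul_tmul]
          rfl
    have hc : VecGrp.GMod.IsCompat ρC ρ := fun B _ _ g a b => by
      rw [hsm, hsm, hρCv, (hρ B g).1]
    obtain ⟨s, hs, hle⟩ := Groth.L16.GeomRed.fixed_fg_module ρC ρ iU hfin hρC hc
    have hmemD : ∀ c : C, c ∈ ρC.fixedSubalgebra hρC iU → (c : A) ∈ D := fun c hc' => ⟨c.2, fun B _ _ h => by
      have e := congrArg (Algebra.TensorProduct.map (AlgHom.id B B) C.val) (hc' B h)
      rw [hρCv, Algebra.TensorProduct.map_tmul, AlgHom.id_apply] at e
      exact e⟩
    let F : Subalgebra D A :=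
      { carrier := ρ.fixedSubalgebra hρ iU
        mul_mem' := fun ha hb => (ρ.fixedSubalgebra hρ iU).mul_mem ha hb
        add_mem' := fun ha hb => (ρ.fixedSubalgebra hρ iU).add_mem ha hb
        algebraMap_mem' := fun d => d.2.2 }
    have hF : Subalgebra.toSubmodule F = Submodule.span D (↑s : Set A) := by
      refine le_antisymm (fun y hy => ?_) (Submodule.span_le.2 fun y hy => hs hy)
      have h : y ∈ Submodule.span ↥(ρC.fixedSubalgebra hρC iU) (↑s : Set A) := hle hy
      clear hy
      induction h using Submodule.span_induction with
      | mem z hz => exact Submodule.subset_span hz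
      | zero => exact zero_mem _
      | add z w _ _ hz hw => exact add_mem hz hw
      | smul c z _ hz => exact Submodule.smul_mem _ (⟨_, hmemD c c.2⟩ : D) hz
    exact IsIntegral.of_mem_of_fg F (hF ▸ Submodule.fg_span s.finite_toSet) x hx
  · intro h
    let σ : ∀ _g : VecGrp.pt k k ⟶ G, A →+* A := fun g =>
      { toFun := Groth.L25.Observable.ptAct ρ g
        map_one' := by
          have e1 := (hρ k g).2
          rw [Algebra.TensorProduct.one_def, Groth.L25.Observable.ptAct_spec] at e1
          simpa using congrArg (TensorProduct.lid k A) e1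
        map_mul' := fun x y => Groth.L25.Observable.ptAct_map_mul ρ hρ g x y
        map_zero' := map_zero _
        map_add' := fun x y => map_add _ x y }
    let C' : Subalgebra k A := (integralClosure C A).restrictScalars k
    have hC' : ∀ x ∈ ρ.fixedUnder iU, ∀ g : VecGrp.pt k k ⟶ G, Groth.L25.Observable.ptAct ρ g x ∈ C' := by
      intro x hx g
      obtain ⟨p, hp, hpx⟩ := h x hx
      let f : D →+* C := ((σ g).comp D.val.toRingHom).codRestrict C fun d =>
        Groth.L16.GeomRed.ptAct_mem_of_isStable ρ hC d.2.1 g
      refine ⟨p.map f, hp.map f, ?_⟩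
      show Polynomial.eval₂ (algebraMap C A) (σ g x) (p.map f) = 0
      rw [Polynomial.eval₂_map, show (algebraMap C A).comp f = (σ g).comp (algebraMap D A) from rfl,
        ← Polynomial.hom_eval₂, hpx, map_zero]
    refine ⟨fun a => ?_⟩
    haveI : Algebra.IsIntegral C (integralClosure C A) := integralClosure.AlgebraIsIntegral
    exact isIntegral_trans (A := integralClosure C A) a
      (Groth.L16.GeomRed.isIntegral_over iU hns hfin ρ hρ C' hC' a)
end Groth.Agent.S11227
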