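import Groth.Statements.S11228
import Groth.Agent.L16.GeomRed.Setting

set_option autoImplicit false
universe u
open CategoryTheory MonoidalCategory CartesianMonoidalCategory MonObj GrpObj AlgebraicGeometry
open scoped TensorProduct
open AGF

namespace Groth.Agent.S11228

/-- Let k an algebraically closed field, G a linear algebraic group over k (affine, smooth) whose
identity component is reductive, B a Borel subgroup of G with unipotent radical U (a maximal
unipotent subgroup). Assume finite generation of invariants of reductive groups over k on finitely
generated algebras (a true result which the published text assumes without proof, carried here as a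
hypothesis). Let A be a commutative k-algebra with a rational action of G by algebra automorphisms
and let G·A^U be the intersection of all G-stable subalgebras of A containing the invariants A^U.
Then A is integral over G·A^U. -/
theorem result (k : Type u) [Field k] [IsAlgClosed k]
    (G : Over (Spec (CommRingCat.of k))) [GrpObj G] (hG : VecGrp.IsReductiveGrp k G)
    (Bo : Over (Spec (CommRingCat.of k))) [GrpObj Bo] (iB : Bo ⟶ G) (hB : Red.IsBorelOver k iB)
    (U : Over (Spec (CommRingCat.of k))) [GrpObj U] (u : U ⟶ Bo) (hU : Par.IsUnipotentRadical u)
    (thmA : VecGrp.ReductiveInvariantsFG k)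
    (A : Type u) [CommRing A] [Algebra k A] (ρ : VecGrp.GMod G A) (hρ : ρ.IsMult) :
    Algebra.IsIntegral
      ↥(sInf {S : Subalgebra k A | ρ.fixedUnder (u ≫ iB) ≤ Subalgebra.toSubmodule S ∧
        ρ.IsStable (𝟙 G) (Subalgebra.toSubmodule S)}) A := by
  obtain ⟨h1, h2, h3, h4, h5, h6, hns, hfin⟩ := Groth.L16.GeomRed.borel_radical_setting hG hB hU thmA
  exact ⟨fun a => Groth.L16.GeomRed.isIntegral_over (u ≫ iB) hns hfin ρ hρ _ (fun x hx g => Algebra.mem_sInf.2 fun S hS =>
    Groth.L16.GeomRed.ptAct_mem_of_isStable ρ hS.2 (hS.1 hx) g) a⟩
end Groth.Agent.S11228
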