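import Groth.Statements.S11229
import Groth.Agent.L25.Observable.UnipFixed

set_option autoImplicit false
set_option backward.isDefEq.respectTransparency.types false
set_option maxHeartbeats 1000000
universe u
open CategoryTheory MonoidalCategory CartesianMonoidalCategory MonObj GrpObj AlgebraicGeometry
open scoped TensorProduct
open AGF Groth.L25.Observable

namespace Groth.Agent.S11229

/-- Let k an algebraically closed field, G a connected reductive linear algebraic group over k, B a
Borel subgroup of G with unipotent radical U (a maximal unipotent subgroup), and let A be a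
commutative k-algebra with a rational action of G by algebra automorphisms. Then A has a nonzero
nilpotent element if and only if A^U does; equivalently A is reduced if and only if A^U is reduced. -/
theorem result (k : Type u) [Field k] [IsAlgClosed k]
    (G : Over (Spec (CommRingCat.of k))) [GrpObj G] (hG : Red.IsReductiveOver k G)
    (Bo : Over (Spec (CommRingCat.of k))) [GrpObj Bo] (iB : Bo ⟶ G) (hB : Red.IsBorelOver k iB)
    (U : Over (Spec (CommRingCat.of k))) [GrpObj U] (u : U ⟶ Bo) (hU : Par.IsUnipotentRadical u)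
    (A : Type u) [CommRing A] [Algebra k A] (ρ : VecGrp.GMod G A) (hρ : ρ.IsMult) :
    IsReduced A ↔ IsReduced ↥(ρ.fixedSubalgebra hρ (u ≫ iB)) := by
  classical
  haveI := hB.1
  haveI := hU.1
  haveI := hU.2.2.2.1
  haveI : IsAffine G.left := hG.1
  haveI := hB.2.1
  haveI := hU.2.1
  haveI : IsAffine Bo.left := isAffine_of_isAffineHom iB.left
  haveI : IsAffine U.left := isAffine_of_isAffineHom u.left
  obtain ⟨hc, hns, hsolv⟩ := props_of_unipotentRadical hB.2.2.2.2.1 u hU
  haveI := hc
  haveI := hsolv
  refine ⟨fun h => isReduced_of_injective (ρ.fixedSubalgebra hρ (u ≫ iB)).val Subtype.val_injective, fun h => ?_⟩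
  by_contra hA
  let N : Submodule k A := (nilradical A).restrictScalars k
  have hNst : ∀ g : VecGrp.pt k k ⟶ U, ∀ v ∈ N, ptAct ρ (g ≫ u ≫ iB) v ∈ N := by
    intro g v hv
    obtain ⟨n, hn⟩ := hv
    refine ⟨n + 1, ?_⟩
    have key : ∀ m : ℕ, ptAct ρ (g ≫ u ≫ iB) v ^ (m + 1) = ptAct ρ (g ≫ u ≫ iB) (v ^ (m + 1)) := by
      intro m
      induction m with
      | zero => simp
      | succ m ih => rw [pow_succ, ih, pow_succ v (m + 1), ptAct_map_mul ρ hρ]
    rw [key, pow_succ, hn, zero_mul, map_zero]
    exact zero_mem _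
  have hne : N ≠ ⊥ := fun e => hA ⟨fun x hx => (Submodule.mem_bot k).1 (e ▸ (hx : x ∈ N))⟩
  obtain ⟨v, ⟨n, hn⟩, hv0, hfix⟩ := exists_fixed_ne_zero hns (u ≫ iB) ρ N hNst hne
  have h1 : (⟨v, hfix⟩ : ρ.fixedSubalgebra hρ (u ≫ iB)) = 0 := h.eq_zero _ ⟨n, Subtype.ext hn⟩
  exact hv0 (congrArg Subtype.val h1)

end Groth.Agent.S11229
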