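import Groth.Statements.S11230
import Groth.Agent.L25.Observable.UnipFixed

set_option autoImplicit false
set_option backward.isDefEq.respectTransparency.types false
set_option maxHeartbeats 1000000
universe u
open CategoryTheory MonoidalCategory CartesianMonoidalCategory MonObj GrpObj AlgebraicGeometry
open scoped TensorProduct
open AGF Groth.L25.Observable

namespace Groth.Agent.S11230

/-- Let k an algebraically closed field, G a connected reductive linear algebraic group over k, B a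
Borel subgroup of G with unipotent radical U (a maximal unipotent subgroup), and let A be a
commutative k-algebra with a rational action of G by algebra automorphisms. Then A has zero divisors
(two nonzero elements with product zero) if and only if the algebra of invariants A^U does. -/
theorem result (k : Type u) [Field k] [IsAlgClosed k]
    (G : Over (Spec (CommRingCat.of k))) [GrpObj G] (hG : Red.IsReductiveOver k G)
    (Bo : Over (Spec (CommRingCat.of k))) [GrpObj Bo] (iB : Bo ⟶ G) (hB : Red.IsBorelOver k iB)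
    (U : Over (Spec (CommRingCat.of k))) [GrpObj U] (u : U ⟶ Bo) (hU : Par.IsUnipotentRadical u)
    (A : Type u) [CommRing A] [Algebra k A] (ρ : VecGrp.GMod G A) (hρ : ρ.IsMult) :
    (∃ a b : A, a ≠ 0 ∧ b ≠ 0 ∧ a * b = 0) ↔
      ∃ a b : ↥(ρ.fixedSubalgebra hρ (u ≫ iB)), a ≠ 0 ∧ b ≠ 0 ∧ a * b = 0 := by
  classical
  haveI := hB.1
  haveI := hU.1
  haveI := hU.2.2.2.1
  haveI : IsAffine G.left := hG.1
  haveI := hB.2.1
  haveI := hU.2.1
  haveI : IsAffine Bo.left := isAffine_of_isAffineHom iB.left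
  haveI : IsAffine U.left := isAffine_of_isAffineHom u.left
  obtain ⟨hc, hns, hsolv⟩ := props_of_unipotentRadical hB.2.2.2.2.1 u hU
  haveI := hc
  haveI := hsolv
  refine ⟨fun h => ?_, fun ⟨a, b, ha, hb, hab⟩ =>
    ⟨a, b, fun e => ha (Subtype.ext e), fun e => hb (Subtype.ext e), congrArg Subtype.val hab⟩⟩
  let i := u ≫ iB
  suffices h' : ∃ a b : A, a ∈ ρ.fixedUnder i ∧ b ∈ ρ.fixedUnder i ∧ a ≠ 0 ∧ b ≠ 0 ∧ a * b = 0 by
    obtain ⟨a, b, ha, hb, ha0, hb0, hab⟩ := h'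
    exact ⟨⟨a, ha⟩, ⟨b, hb⟩, fun e => ha0 (congrArg Subtype.val e), fun e => hb0 (congrArg Subtype.val e),
      Subtype.ext hab⟩
  by_cases hred : _root_.IsReduced A
  swap
  · let N : Submodule k A := (nilradical A).restrictScalars k
    have hNst : ∀ g : VecGrp.pt k k ⟶ U, ∀ v ∈ N, ptAct ρ (g ≫ i) v ∈ N := by
      intro g v hv
      obtain ⟨n, hn⟩ := hv
      refine ⟨n + 1, ?_⟩
      have key : ∀ m : ℕ, ptAct ρ (g ≫ i) v ^ (m + 1) = ptAct ρ (g ≫ i) (v ^ (m + 1)) := by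
        intro m
        induction m with
        | zero => simp
        | succ m ih => rw [pow_succ, ih, pow_succ v (m + 1), ptAct_map_mul ρ hρ]
      rw [key, pow_succ, hn, zero_mul, map_zero]
      exact zero_mem _
    have hne : N ≠ ⊥ := fun e => hred ⟨fun x hx => (Submodule.mem_bot k).1 (e ▸ (hx : x ∈ N))⟩
    obtain ⟨v, hn, hv0, hfix⟩ := exists_fixed_ne_zero hns i ρ N hNst hne
    have hn' : ∃ n : ℕ, v ^ n = 0 := hn
    have hpos : 2 ≤ Nat.find hn' := by
      by_contra hlt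
      have h1 : v ^ 1 = 0 := pow_eq_zero_of_le (by omega) (Nat.find_spec hn')
      exact hv0 (by simpa using h1)
    obtain ⟨m, hm⟩ : ∃ m, Nat.find hn' = m + 1 := ⟨Nat.find hn' - 1, by omega⟩
    refine ⟨v ^ m, v, (ρ.fixedSubalgebra hρ i).pow_mem hfix m, hfix, ?_, hv0, ?_⟩
    · exact Nat.find_min hn' (by omega)
    · rw [← pow_succ, ← hm]; exact Nat.find_spec hn'
  haveI := hred
  obtain ⟨a, b, ha, hb, hab⟩ := h
  -- an invariant finite-dimensional space containing a zero divisor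
  let Z : Set A := {x | x ≠ 0 ∧ ∃ y, y ≠ 0 ∧ x * y = 0}
  obtain ⟨-, hC⟩ := exists_fixed_mod_pts hns i ρ ⊥ ⊤
    (fun g v hv => by rw [(Submodule.mem_bot k).1 hv, map_zero]; exact zero_mem _)
    (fun g v _ => Submodule.mem_top) (fun e => ha ((Submodule.mem_bot k).1 (e Submodule.mem_top)))
  obtain ⟨W, hWfin, haW, -, hWst⟩ := hC a Submodule.mem_top
  let P : Set (Submodule k W) := {M | (∀ g : VecGrp.pt k k ⟶ U, ∀ v : W, v ∈ M →
      (⟨ptAct ρ (g ≫ i) v, hWst g v v.2⟩ : W) ∈ M) ∧ ∀ v ∈ M, (v : A) ∉ Z}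
  obtain ⟨M₀, ⟨hM₀st, hM₀Z⟩, hmax⟩ := set_has_maximal_iff_noetherian.2
    (inferInstance : IsNoetherian k W) P ⟨⊥, fun g v hv => by
      rw [(Submodule.mem_bot k).1 hv]
      exact (Submodule.mem_bot k).2 (Subtype.ext (map_zero _)), fun v hv hz => hz.1 (by
      rw [(Submodule.mem_bot k).1 hv]; rfl)⟩
  let M : Submodule k A := M₀.map W.subtype
  have hMst : ∀ g : VecGrp.pt k k ⟶ U, ∀ v ∈ M, ptAct ρ (g ≫ i) v ∈ M := by
    rintro g _ ⟨w, hw, rfl⟩
    exact ⟨_, hM₀st g w hw, rfl⟩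
  obtain ⟨⟨v, hvW, hvM, hvfix⟩, -⟩ := exists_fixed_mod_pts hns i ρ M W hMst hWst fun e => by
    obtain ⟨w, hw, hwa⟩ := e haW
    have hwa' : (w : A) = a := hwa
    exact hM₀Z w hw ⟨by rw [hwa']; exact ha, b, hb, by rw [hwa']; exact hab⟩
  let M₁ : Submodule k W := M₀ ⊔ Submodule.span k {⟨v, hvW⟩}
  have hlt : M₀ < M₁ := by
    refine lt_of_le_of_ne le_sup_left fun e => hvM ⟨⟨v, hvW⟩, ?_, rfl⟩
    rw [e]; exact Submodule.mem_sup_right (Submodule.mem_span_singleton_self _)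
  have hM₁ : M₁ ∉ P := fun h => hmax M₁ h hlt
  obtain ⟨w, hw, hwZ⟩ : ∃ w ∈ M₁, (w : A) ∈ Z := by
    by_contra hcon
    refine hM₁ ⟨fun g x hx => ?_, fun x hx hxZ => hcon ⟨x, hx, hxZ⟩⟩
    obtain ⟨m, hm, y, hy, rfl⟩ := Submodule.mem_sup.1 hx
    obtain ⟨c, rfl⟩ := Submodule.mem_span_singleton.1 hy
    obtain ⟨d, hd, hde⟩ := hvfix g
    refine Submodule.mem_sup.2 ⟨⟨_, hWst g m m.2⟩ + c • d, M₀.add_mem (hM₀st g m hm) (M₀.smul_mem c hd),
      c • ⟨v, hvW⟩, Submodule.smul_mem _ c (Submodule.mem_span_singleton_self _), Subtype.ext ?_⟩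
    show ptAct ρ (g ≫ i) (m : A) + c • (d : A) + c • v = ptAct ρ (g ≫ i) ((m : A) + c • v)
    rw [map_add, map_smul, show (d : A) = ptAct ρ (g ≫ i) v - v from hde]
    module
  obtain ⟨hw0, y, hy0, hwy⟩ := hwZ
  have hδ : ∀ g : VecGrp.pt k k ⟶ U, ptAct ρ (g ≫ i) (w : A) - (w : A) ∈ M := by
    intro g
    obtain ⟨m, hm, z, hz, e⟩ := Submodule.mem_sup.1 hw
    obtain ⟨c, rfl⟩ := Submodule.mem_span_singleton.1 hz
    rw [← e]
    show ptAct ρ (g ≫ i) ((m : A) + c • v) - ((m : A) + c • v) ∈ M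
    rw [map_add, map_smul, show ptAct ρ (g ≫ i) (m : A) + c • ptAct ρ (g ≫ i) v - ((m : A) + c • v) =
      (ptAct ρ (g ≫ i) (m : A) - (m : A)) + c • (ptAct ρ (g ≫ i) v - v) by module]
    exact add_mem (sub_mem (hMst g _ ⟨m, hm, rfl⟩) ⟨m, hm, rfl⟩) (M.smul_mem c (hvfix g))
  have hkill : ∀ g : VecGrp.pt k k ⟶ U, ptAct ρ (g ≫ i) (w : A) = (w : A) ∨ y * ptAct ρ (g ≫ i) y = 0 := by
    intro g
    by_contra hcon
    rw [not_or] at hcon
    obtain ⟨d, hd, hde⟩ := hδ g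
    refine hM₀Z d hd ⟨?_, _, hcon.2, ?_⟩
    · rw [show (d : A) = _ from hde]; exact sub_ne_zero.2 hcon.1
    · rw [show (d : A) = _ from hde, sub_mul, ← _root_.mul_assoc, ← _root_.mul_assoc, mul_comm (ptAct ρ (g ≫ i) (w : A)) y,
        _root_.mul_assoc, ← ptAct_map_mul ρ hρ, hwy, map_zero, mul_zero, zero_mul, sub_zero]
  -- irreducibility makes the zero divisor fixed
  have hfw : ∀ g : VecGrp.pt k k ⟶ U, ptAct ρ (g ≫ i) (w : A) = (w : A) := by
    obtain ⟨O, _, _, ψ, _, _, _, _⟩ := exists_chart U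
    haveI : IsDomain O := isDomain ψ
    let σ : VecGrp.GMod U A :=
      { ρ := fun B _ _ => MonoidHom.mk' (fun g => ρ.ρ B (g ≫ i)) fun g g' => by rw [MonObj.mul_comp, map_mul]
        naturality := fun φ g x => by
          show VecGrp.Wmap φ (ρ.ρ _ (g ≫ i) x) = ρ.ρ _ ((VecGrp.ptMap φ ≫ g) ≫ i) _
          rw [Category.assoc]
          exact ρ.naturality φ _ x }
    intro g₀
    by_contra hne
    obtain ⟨θ, hθ⟩ := Module.Projective.exists_dual_ne_zero k (sub_ne_zero.2 hne)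
    obtain ⟨c₁, hc₁⟩ := exists_modfun ψ σ θ
    have hf : c₁ (w : A) - algebraMap k O (θ (w : A)) ≠ 0 := fun e => hθ (by
      have h1 := congrArg (ev ψ g₀).ofConv e
      rw [map_sub, hc₁, AlgHom.commutes, map_zero] at h1
      rw [map_sub]
      exact h1)
    refine hy0 (IsReduced.eq_zero y ⟨2, ?_⟩)
    by_contra hyy
    obtain ⟨φ, hφ⟩ := Module.Projective.exists_dual_ne_zero k hyy
    obtain ⟨c₂, hc₂⟩ := exists_modfun ψ σ (φ ∘ₗ LinearMap.mulLeft k y)
    have h2 : c₂ y ≠ 0 := fun e => hφ (by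
      have h1 := congrArg (ev ψ (1 : VecGrp.pt k k ⟶ U)).ofConv e
      rw [hc₂, map_zero] at h1
      refine Eq.trans (congrArg φ ?_) h1
      show y ^ 2 = y * ptAct ρ ((1 : VecGrp.pt k k ⟶ U) ≫ i) y
      rw [MonObj.one_comp, ptAct_one, sq])
    refine mul_ne_zero hf h2 (eq_of_forall_ev ψ fun g => ?_)
    rw [map_mul, map_sub, hc₁, hc₂, AlgHom.commutes, map_zero]
    rcases hkill g with h | h
    · show (θ (ptAct ρ (g ≫ i) (w : A)) - θ (w : A)) * _ = 0
      rw [h, sub_self, zero_mul]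
    · show _ * φ (y * ptAct ρ (g ≫ i) y) = 0
      rw [h, map_zero, mul_zero]
  have hwfix : (w : A) ∈ ρ.fixedUnder i :=
    mem_fixedUnder_of_pts' i ρ _ fun g => by rw [ptAct_spec, hfw]
  let Ann : Submodule k A := LinearMap.ker (LinearMap.mulLeft k (w : A))
  obtain ⟨z, hz, hz0, hzfix⟩ := exists_fixed_ne_zero hns i ρ Ann (fun g x hx => by
      show (w : A) * ptAct ρ (g ≫ i) x = 0
      rw [← hfw g, ← ptAct_map_mul ρ hρ, show (w : A) * x = 0 from hx, map_zero])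
    fun e => hy0 ((Submodule.mem_bot k).1 (e ▸ (hwy : y ∈ Ann)))
  exact ⟨w, z, hwfix, hzfix, hw0, hz0, hz⟩

end Groth.Agent.S11230
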