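import Groth.Statements.S11231
import Groth.Agent.L25.Observable.UnipFixed
import Mathlib.RingTheory.IntegralClosure.IntegrallyClosed

set_option autoImplicit false
set_option backward.isDefEq.respectTransparency.types false
set_option maxHeartbeats 1000000
universe u
open CategoryTheory MonoidalCategory CartesianMonoidalCategory MonObj GrpObj AlgebraicGeometry
open scoped TensorProduct
open AGF Groth.L25.Observable

namespace Groth.Agent.S11231

/-- Let k an algebraically closed field, G a connected reductive linear algebraic group over k, B a
Borel subgroup of G with unipotent radical U (a maximal unipotent subgroup), and let A be a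
commutative k-algebra with a rational action of G by algebra automorphisms. If A is an integrally
closed domain then so is A^U. (The published statement is for A normal; its proof reduces to the
case of a domain, which is the case stated here.) -/
theorem result (k : Type u) [Field k] [IsAlgClosed k]
    (G : Over (Spec (CommRingCat.of k))) [GrpObj G] (hG : Red.IsReductiveOver k G)
    (Bo : Over (Spec (CommRingCat.of k))) [GrpObj Bo] (iB : Bo ⟶ G) (hB : Red.IsBorelOver k iB)
    (U : Over (Spec (CommRingCat.of k))) [GrpObj U] (u : U ⟶ Bo) (hU : Par.IsUnipotentRadical u)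
    (A : Type u) [CommRing A] [IsDomain A] [Algebra k A] [IsIntegrallyClosed A]
    (ρ : VecGrp.GMod G A) (hρ : ρ.IsMult) :
    IsIntegrallyClosed ↥(ρ.fixedSubalgebra hρ (u ≫ iB)) := by
  classical
  let i := u ≫ iB
  let S := ρ.fixedSubalgebra hρ i
  show IsIntegrallyClosed ↥S
  refine (isIntegrallyClosed_iff (FractionRing ↥S)).2 fun {x} hx => ?_
  let f : FractionRing ↥S →+* FractionRing A :=
    IsFractionRing.lift (A := ↥S) (g := (algebraMap A (FractionRing A)).comp S.val.toRingHom)
      ((IsFractionRing.injective A (FractionRing A)).comp Subtype.val_injective)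
  have hfS : ∀ s : S, f (algebraMap S (FractionRing S) s) = algebraMap A (FractionRing A) (s : A) :=
    fun s => IsFractionRing.lift_algebraMap _ s
  have hint : IsIntegral A (f x) := by
    refine IsIntegral.map_of_comp_eq (R := S) (S := FractionRing S) S.val.toRingHom f (RingHom.ext fun s => ?_) hx
    exact (hfS s).symm
  obtain ⟨a, ha⟩ := IsIntegrallyClosed.isIntegral_iff.1 hint
  obtain ⟨n, d, hd, rfl⟩ := IsFractionRing.div_surjective (A := ↥S) x
  have hd0 : (d : A) ≠ 0 := fun e => nonZeroDivisors.ne_zero hd (Subtype.ext e)
  have had : a * (d : A) = (n : A) := by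
    apply IsFractionRing.injective A (FractionRing A)
    rw [map_mul, ha, map_div₀, hfS, hfS, div_mul_cancel₀]
    exact fun e => hd0 ((injective_iff_map_eq_zero _).1 (IsFractionRing.injective A (FractionRing A)) _ e)
  have haS : a ∈ S := by
    intro B _ _ g
    let o : A →ₐ[k] B ⊗[k] A := Algebra.TensorProduct.includeRight
    let E := ρ.ρ B (g ≫ i)
    have hE : ∀ p q, E (p * q) = E p * E q := (hρ B _).1
    have h1 : E (o a) * o (d : A) = o a * o (d : A) := by
      conv_lhs => rw [← show E (o (d : A)) = o (d : A) from d.2 B g, ← hE, ← map_mul, had]
      rw [← map_mul o a, had]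
      exact n.2 B g
    have hl : Function.Injective ((LinearMap.mulLeft k (d : A)).lTensor B) :=
      Module.Flat.lTensor_preserves_injective_linearMap _ (mul_right_injective₀ hd0)
    have he : ∀ z, (LinearMap.mulLeft k (d : A)).lTensor B z = o (d : A) * z := fun z => by
      induction z using TensorProduct.induction_on with
      | zero => simp
      | add p q hp hq => rw [map_add, hp, hq, mul_add]
      | tmul p q => simp [o]
    exact hl (by rw [he, he, mul_comm]; exact h1.trans (mul_comm _ _))
  refine ⟨⟨a, haS⟩, ?_⟩
  rw [eq_div_iff (fun e => nonZeroDivisors.ne_zero hd ((injective_iff_map_eq_zero _).1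
    (IsFractionRing.injective S (FractionRing S)) _ e)), ← map_mul]
  exact congrArg _ (Subtype.ext had)

end Groth.Agent.S11231
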