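import Groth.Statements.S11232
import Groth.Agent.L25.Observable.UnipFixed
import Groth.Agent.L25.Observable.Semi

set_option autoImplicit false
universe u
open CategoryTheory MonoidalCategory CartesianMonoidalCategory MonObj GrpObj AlgebraicGeometry
open scoped TensorProduct
open AGF

set_option backward.isDefEq.respectTransparency.types false
section Aux
open Groth.L25.Observable WithConv

variable {k : Type u} [Field k] [IsAlgClosed k] {G : Over (Spec (CommRingCat.of k))} [GrpObj G]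

/-- The coaction computing the action of rational points. -/
theorem exists_comod [IsAffine G.left] [Smooth G.hom] {V : Type u} [AddCommGroup V] [Module k V] (ρ : VecGrp.GMod G V) :
    ∃ (A : Type u) (_ : CommRing A) (_ : HopfAlgebra k A) (_ : Algebra.FiniteType k A) (_ : _root_.IsReduced A)
      (ψ : G ⟶ Sp k A) (_ : IsMonHom ψ) (_ : IsIso ψ) (cf : (V →ₗ[k] k) → V → A),
      ∀ (θ : V →ₗ[k] k) (v : V) (g : VecGrp.pt k k ⟶ G), (ev ψ g).ofConv (cf θ v) = θ (ptAct ρ g v) := by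
  classical
  obtain ⟨A, _, _, ψ, _, _, _, _⟩ := exists_chart G
  haveI : IsMonHom (asIso ψ).hom := inferInstanceAs (IsMonHom ψ)
  haveI : IsMonHom (inv ψ) := inferInstanceAs (IsMonHom (asIso ψ).inv)
  let m : VecGrp.GMod ((Spec (CommRingCat.of A)).asOver (Spec (CommRingCat.of k))) V :=
    { ρ := fun B _ _ => MonoidHom.mk' (fun g => ρ.ρ B (g ≫ inv ψ)) fun g g' => by
        rw [MonObj.mul_comp, map_mul]
      naturality := fun φ g x => by
        show VecGrp.Wmap φ (ρ.ρ _ (g ≫ inv ψ) x) = ρ.ρ _ ((VecGrp.ptMap φ ≫ g) ≫ inv ψ) _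
        rw [Category.assoc]
        exact ρ.naturality φ _ x }
  obtain ⟨δ, ⟨⟨h₁, h₂⟩, hδ⟩, -⟩ := Groth.L25.ComodGMod.exists_coact m
  letI cV : HopfRep.Comod k A V := ⟨δ, h₁, h₂⟩
  have hpt : ∀ (g : VecGrp.pt k k ⟶ G) (v : V),
      ptAct ρ g v = Groth.L08.fAct V (ev ψ g).ofConv.toLinearMap v := by
    intro g v
    have h := hδ k (g ≫ ψ) v
    rw [Groth.L25.ComodGMod.T_apply] at h
    have h' : m.ρ k (g ≫ ψ) ((1 : k) ⊗ₜ[k] v) = ρ.ρ k ((g ≫ ψ) ≫ inv ψ) ((1 : k) ⊗ₜ[k] v) := rfl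
    rw [h', Category.assoc g ψ, IsIso.hom_inv_id, Category.comp_id, ptAct_spec] at h
    have h2 := congrArg (TensorProduct.lid k V) h
    rw [TensorProduct.lid_tmul, one_smul] at h2
    rw [h2, Groth.L08.fAct_apply]
    show _ = (TensorProduct.rid k V) ((ev ψ g).ofConv.toLinearMap.lTensor V (δ v))
    have e : Groth.L25.ComodGMod.hom (g ≫ ψ) = ev ψ g := rfl
    rw [e]
    generalize δ v = z
    induction z using TensorProduct.induction_on with
    | zero => simp
    | add p q hp hq => simp only [map_add, hp, hq]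
    | tmul p q => simp
  refine ⟨A, inferInstance, inferInstance, ‹_›, ‹_›, ψ, ‹_›, ‹_›, fun θ v => Groth.L08.cf (A := A) θ v, fun θ v g => ?_⟩
  show (ev ψ g).ofConv.toLinearMap (Groth.L08.cf (A := A) θ v) = _
  rw [Groth.L08.apply_cf, hpt]

variable {A : Type u} [CommRing A] [IsDomain A] [Algebra k A] (ρ : VecGrp.GMod G A)

/-- Rational points act as ring automorphisms. -/
noncomputable def act (hρ : ρ.IsMult) (g : VecGrp.pt k k ⟶ G) : A ≃* A where
  toFun := ptAct ρ g
  invFun := ptAct ρ g⁻¹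
  left_inv x := by rw [← ptAct_mul, inv_mul_cancel, ptAct_one]
  right_inv x := by rw [← ptAct_mul, mul_inv_cancel, ptAct_one]
  map_mul' x y := ptAct_map_mul ρ hρ g x y

/-- Prime factors of invariants are invariant. -/
theorem ptAct_eq_self_of_prime_of_dvd [IsAffine G.left] [Smooth G.hom] [ConnectedSpace G.left]
    (hχ : ∀ χ : G ⟶ Red.Gm (Spec (CommRingCat.of k)), IsMonHom χ → χ = 1) [UniqueFactorizationMonoid A]
    (hunits : ∀ x : Aˣ, (x : A) ∈ Set.range (algebraMap k A)) (hρ : ρ.IsMult) {f p : A} (hf0 : f ≠ 0)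
    (hf : ∀ g, ptAct ρ g f = f) (hp : Prime p) (hpf : p ∣ f) (g : VecGrp.pt k k ⟶ G) : ptAct ρ g p = p := by
  classical
  obtain ⟨H, _, _, _, _, ψ, _, _, cf, hcf⟩ := exists_comod ρ
  haveI : IsDomain H := isDomain ψ
  have hev : ∀ (x : VecGrp.pt k k ⟶ G), ∀ a : H, a = 0 → (ev ψ x).ofConv a = 0 := fun x a h => by rw [h, map_zero]
  let L := UniqueFactorizationMonoid.factors f
  have hline : ∀ g : VecGrp.pt k k ⟶ G, ∃ q ∈ L, ∃ c : k, ptAct ρ g p = c • q := by
    intro g
    have hprime : Prime (ptAct ρ g p) := (MulEquiv.prime_iff (act ρ hρ g)).2 hp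
    have hdvd : ptAct ρ g p ∣ f := by
      conv_rhs => rw [← hf g]
      exact map_dvd (act ρ hρ g) hpf
    obtain ⟨q, hq, hqa⟩ := UniqueFactorizationMonoid.exists_mem_factors_of_dvd hf0 hprime.irreducible hdvd
    obtain ⟨u, hu⟩ := hqa.symm
    obtain ⟨c, hc⟩ := hunits u
    exact ⟨q, hq, c, by rw [← hu, ← hc, Algebra.smul_def, mul_comm]⟩
  have hex : ∃ q ∈ L, ∀ θ : A →ₗ[k] k, θ q = 0 → cf θ p = 0 := by
    by_contra h
    push Not at h
    choose θ hθ hne using h
    let F : H := ∏ q : {q // q ∈ L.toFinset}, cf (θ q.1 (Multiset.mem_toFinset.1 q.2)) p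
    have hF : F ≠ 0 := Finset.prod_ne_zero_iff.2 fun q _ => hne _ _
    refine hF (eq_of_forall_ev ψ fun x => ?_)
    obtain ⟨q, hq, c, hc⟩ := hline x
    rw [map_zero, map_prod]
    refine Finset.prod_eq_zero (Finset.mem_univ ⟨q, Multiset.mem_toFinset.2 hq⟩) ?_
    rw [hcf, hc, map_smul, hθ, smul_zero]
  obtain ⟨q, hq, hθ⟩ := hex
  have hall : ∀ g : VecGrp.pt k k ⟶ G, ∀ θ : A →ₗ[k] k, θ q = 0 → θ (ptAct ρ g p) = 0 := fun g θ h => by
    rw [← hcf, hθ θ h, map_zero]
  have hmem : ∀ g : VecGrp.pt k k ⟶ G, ptAct ρ g p ∈ k ∙ q := by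
    intro g
    by_contra hn
    obtain ⟨θ, hθ1, hθ2⟩ := Submodule.exists_dual_map_eq_bot_of_notMem (p := k ∙ q) hn inferInstance
    exact hθ1 (hall g θ ((Submodule.eq_bot_iff _).1 hθ2 _ ⟨q, Submodule.mem_span_singleton_self q, rfl⟩))
  obtain ⟨c₁, hc₁⟩ := Submodule.mem_span_singleton.1 (hmem 1)
  rw [ptAct_one] at hc₁
  have hc₁0 : c₁ ≠ 0 := fun h => hp.ne_zero (by rw [← hc₁, h, zero_smul])
  obtain ⟨φ₀, hφ₀⟩ : ∃ φ₀ : A →ₗ[k] k, φ₀ p = 1 := by
    obtain ⟨e, he⟩ := LinearMap.exists_leftInverse_of_injective (LinearMap.toSpanSingleton k A p)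
      (LinearMap.ker_eq_bot.2 (smul_left_injective k hp.ne_zero))
    exact ⟨e, by simpa using LinearMap.congr_fun he 1⟩
  have hc : ∀ g : VecGrp.pt k k ⟶ G, ptAct ρ g p = φ₀ (ptAct ρ g p) • p := by
    intro g
    obtain ⟨c, hc⟩ := Submodule.mem_span_singleton.1 (hmem g)
    have : ptAct ρ g p = (c * c₁⁻¹) • p := by rw [← hc, ← hc₁, smul_smul, _root_.mul_assoc, inv_mul_cancel₀ hc₁0, _root_.mul_one]
    rw [this, map_smul, hφ₀, smul_eq_mul, _root_.mul_one]
  obtain ⟨χ, hχm, hval⟩ := exists_char_of_fun (fn ψ (cf φ₀ p))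
    (by rw [val_fn, hcf, ptAct_one, hφ₀])
    (fun z z' => by
      rw [val_fn, val_fn, val_fn, hcf, hcf, hcf, ptAct_mul, hc z', map_smul, hc z, map_smul, map_smul, hφ₀, map_smul,
        hφ₀]
      simp [mul_comm])
  have h1 : φ₀ (ptAct ρ g p) = 1 := by
    rw [← hcf, ← val_fn, ← hval, hχ χ hχm, chiVal_eq]
    rw [GmPts.unitOfPt_one, Units.val_one, val_one]
  rw [hc g, h1, one_smul]

end Aux

namespace Groth.Agent.S11232

/-- Let k be an algebraically closed field, G a connected linear algebraic group over k (affine, smooth,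
connected) admitting no nontrivial character (every homomorphism to the multiplicative group is
trivial), and A a commutative k-algebra which is a unique factorization domain whose group of units
consists of the nonzero scalars, carrying a rational action of G by algebra automorphisms. Then the
algebra of invariants A^G is a unique factorization domain. -/
theorem result (k : Type u) [Field k] [IsAlgClosed k]
    (G : Over (Spec (CommRingCat.of k))) [GrpObj G] [IsAffine G.left] [Smooth G.hom] [ConnectedSpace G.left]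
    (hχ : ∀ χ : G ⟶ Red.Gm (Spec (CommRingCat.of k)), IsMonHom χ → χ = 1)
    (A : Type u) [CommRing A] [IsDomain A] [Algebra k A] [UniqueFactorizationMonoid A]
    (hunits : ∀ x : Aˣ, (x : A) ∈ Set.range (algebraMap k A))
    (ρ : VecGrp.GMod G A) (hρ : ρ.IsMult) :
    UniqueFactorizationMonoid ↥(ρ.fixedSubalgebra hρ (𝟙 G)) := by
  classical
  have hfix : ∀ f : A, f ∈ ρ.fixedSubalgebra hρ (𝟙 G) ↔ ∀ g : VecGrp.pt k k ⟶ G, Groth.L25.Observable.ptAct ρ g f = f := by
    intro f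
    refine ⟨fun h g => ?_, fun h => ?_⟩
    · have h1 := h k g
      rw [Category.comp_id, Groth.L25.Observable.ptAct_spec] at h1
      simpa using congrArg (TensorProduct.lid k A) h1
    · intro B _ _ b
      exact Groth.L25.Observable.mem_fixedUnder_of_pts' (𝟙 G) ρ f (fun γ => by
        rw [Category.comp_id, Groth.L25.Observable.ptAct_spec, h γ]) B b
  refine UniqueFactorizationMonoid.of_exists_prime_factors fun a ha => ?_
  have ha0 : (a : A) ≠ 0 := fun h => ha (Subtype.ext h)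
  obtain ⟨L, hL, u, hu⟩ := UniqueFactorizationMonoid.exists_prime_factors (a : A) ha0
  have hmem : ∀ p ∈ L, p ∈ ρ.fixedSubalgebra hρ (𝟙 G) := fun p hp => (hfix p).2 fun g =>
    ptAct_eq_self_of_prime_of_dvd ρ hχ hunits hρ ha0 ((hfix _).1 a.2) (hL p hp)
      ((Multiset.dvd_prod hp).trans ⟨_, hu.symm⟩) g
  have hprime : ∀ q : ↥(ρ.fixedSubalgebra hρ (𝟙 G)), Prime (q : A) → Prime q := by
    intro q hq
    have key : ∀ y : ↥(ρ.fixedSubalgebra hρ (𝟙 G)), (q : A) ∣ (y : A) → q ∣ y := by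
      rintro y ⟨z, hz⟩
      refine ⟨⟨z, (hfix z).2 fun g => mul_left_cancel₀ hq.ne_zero ?_⟩, Subtype.ext hz⟩
      calc (q : A) * Groth.L25.Observable.ptAct ρ g z = Groth.L25.Observable.ptAct ρ g (q * z) := by
            rw [Groth.L25.Observable.ptAct_map_mul ρ hρ, (hfix _).1 q.2 g]
        _ = q * z := by rw [← hz, (hfix _).1 y.2 g]
    refine ⟨fun h => hq.ne_zero (by rw [h]; rfl), fun h => hq.not_unit (h.map (ρ.fixedSubalgebra hρ (𝟙 G)).val),
      fun x y h => ?_⟩
    obtain ⟨z, hz⟩ := h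
    rcases hq.dvd_or_dvd (show (q : A) ∣ (x : A) * y from ⟨z, congrArg Subtype.val hz⟩) with hx | hy
    · exact Or.inl (key x hx)
    · exact Or.inr (key y hy)
  refine ⟨L.pmap (fun p hp => (⟨p, hp⟩ : ↥(ρ.fixedSubalgebra hρ (𝟙 G)))) hmem, fun q hq => hprime q ?_, ?_⟩
  · obtain ⟨p, hp, rfl⟩ := Multiset.mem_pmap.1 hq
    exact hL p hp
  · obtain ⟨c, hc⟩ := hunits u
    have hc0 : c ≠ 0 := fun h => u.ne_zero (by rw [← hc, h, map_zero])
    refine ⟨(IsUnit.map (algebraMap k ↥(ρ.fixedSubalgebra hρ (𝟙 G))) (IsUnit.mk0 c hc0)).unit, Subtype.ext ?_⟩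
    rw [MulMemClass.coe_mul, IsUnit.unit_spec, Subalgebra.coe_algebraMap, hc, ← hu]
    congr 1
    rw [SubmonoidClass.coe_multiset_prod, Multiset.map_pmap, Multiset.pmap_eq_map, Multiset.map_id']


end Groth.Agent.S11232
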