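import Groth.Statements.S11233
import Mathlib.Algebra.MvPolynomial.Funext
import Mathlib.FieldTheory.IsAlgClosed.Basic
import Mathlib.LinearAlgebra.Matrix.NonsingularInverse
import Mathlib.Algebra.MvPolynomial.Monad

set_option autoImplicit false
universe u
open CAlg

namespace Groth.Agent.S11233

/-- Let k be an algebraically closed field, A an integral domain which is a k-algebra, T an m by m
matrix over A with invertible determinant, and let the additive group k^m act on the polynomial ring
A[y_1, ..., y_m] by the A-algebra maps y_s ↦ y_s + Σ_r h_r T_rs. Then the only invariant polynomials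
are the constants: a polynomial fixed by all these substitutions lies in A. -/
theorem result (k : Type u) [Field k] [IsAlgClosed k]
    (A : Type u) [CommRing A] [IsDomain A] [Algebra k A] (m : ℕ) (T : Matrix (Fin m) (Fin m) A)
    (hT : IsUnit T.det) (f : MvPolynomial (Fin m) A)
    (hf : ∀ h : Fin m → k, MvPolynomial.aeval
      (fun s : Fin m => MvPolynomial.X s + MvPolynomial.C (∑ r : Fin m, algebraMap k A (h r) * T r s)) f = f) :
    ∃ a : A, f = MvPolynomial.C a := by
  classical
  refine ⟨MvPolynomial.constantCoeff f, ?_⟩
  let g : MvPolynomial (Fin m) A :=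
    MvPolynomial.bind₁ (fun s => ∑ r, MvPolynomial.C (T r s) * MvPolynomial.X r) f
  have hg : g = MvPolynomial.C (MvPolynomial.constantCoeff f) := by
    refine MvPolynomial.funext_set (fun _ => Set.range (algebraMap k A))
      (fun _ => Set.infinite_range_of_injective (algebraMap k A).injective) fun x hx => ?_
    choose h hh using fun r => hx r (Set.mem_univ r)
    have h0 := congrArg MvPolynomial.constantCoeff (hf h)
    rw [MvPolynomial.eval_C, ← h0]
    rw [MvPolynomial.constantCoeff_eq, ← MvPolynomial.constantCoeff_eq]
    change MvPolynomial.eval₂Hom (RingHom.id A) x g = _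
    rw [show g = MvPolynomial.bind₁ _ f from rfl, MvPolynomial.eval₂Hom_bind₁]
    conv_rhs => rw [MvPolynomial.aeval_def, MvPolynomial.eval₂_comp_left (MvPolynomial.constantCoeff)]
    congr 1
    refine MvPolynomial.eval₂Hom_congr ?_ ?_ rfl
    · ext a; simp
    · funext s
      simp [← hh, mul_comm]
  have hinv := congrArg (MvPolynomial.bind₁ (fun r => ∑ s, MvPolynomial.C (T⁻¹ s r) * MvPolynomial.X s)) hg
  rw [MvPolynomial.bind₁_C_right, MvPolynomial.bind₁_bind₁] at hinv
  rw [← hinv]
  refine (DFunLike.congr_fun (g := MvPolynomial.bind₁ _) (?_ : AlgHom.id A _ = MvPolynomial.bind₁ _) f)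
  symm
  refine MvPolynomial.algHom_ext fun s => ?_
  have hTT := Matrix.nonsing_inv_mul T hT
  simp only [MvPolynomial.bind₁_X_right, map_sum, map_mul, MvPolynomial.bind₁_C_right, AlgHom.id_apply,
    Finset.mul_sum]
  rw [Finset.sum_comm]
  simp_rw [← mul_assoc, mul_comm (MvPolynomial.C (T _ s)), ← map_mul, ← Finset.sum_mul, ← map_sum,
    ← Matrix.mul_apply, hTT]
  simp [Matrix.one_apply]

end Groth.Agent.S11233
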