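import Groth.Statements.S11234
import Groth.Agent.L25.Observable.GL

set_option backward.isDefEq.respectTransparency.types false

set_option autoImplicit false
universe u
open CategoryTheory MonoidalCategory CartesianMonoidalCategory MonObj GrpObj AlgebraicGeometry
open scoped TensorProduct
open AGF

namespace Groth.Agent.S11234

open Groth.L25.Observable

/-- matrix coefficient -/
noncomputable def coef {k : Type u} [Field k] {M : Type u} [AddCommGroup M] [Module k M] (B : Type u) [CommRing B]
    [Algebra k B] (φ : M →ₗ[k] k) : B ⊗[k] M →ₗ[k] B :=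
  (TensorProduct.rid k B).toLinearMap.comp (LinearMap.lTensor B φ)

theorem coef_wmap {k : Type u} [Field k] {M : Type u} [AddCommGroup M] [Module k M] {B B' : Type u} [CommRing B]
    [Algebra k B] [CommRing B'] [Algebra k B'] (ψ : B →ₐ[k] B') (φ : M →ₗ[k] k) (x : B ⊗[k] M) :
    coef B' φ (VecGrp.Wmap ψ x) = ψ (coef B φ x) := by
  induction x using TensorProduct.induction_on with
  | zero => simp
  | add a b ha hb => simp [ha, hb]
  | tmul b m => simp [coef, VecGrp.Wmap]

/-- Let k be an algebraically closed field, G a linear algebraic group over k (affine, smooth) and H a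
smooth closed subgroup of G. The following are equivalent: (b) every global function on G invariant
under right translation by H is a constant; (c) for every rational G-module E, the H-invariants of E
coincide with the G-invariants; (e) two homomorphisms from G to a linear algebraic group which agree
on H are equal. (The published list also contains the statement that H is epimorphic in the sense of
its hull under the stabilizer correspondence, and the statement that complementary H-stable
subspaces of a rational G-module are G-stable; this row states the other three.) -/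
theorem result (k : Type u) [Field k] [IsAlgClosed k]
    (G : Over (Spec (CommRingCat.of k))) [GrpObj G] [IsAffine G.left] [Smooth G.hom]
    (H : Over (Spec (CommRingCat.of k))) [GrpObj H] [Smooth H.hom] (i : H ⟶ G) [IsMonHom i]
    [IsClosedImmersion i.left] :
    List.TFAE [
      ∀ f : Γ(G.left, ⊤), ((G ◁ i) ≫ μ[G]).left.appTop f = (fst G H).left.appTop f →
        ∃ c : k, f = G.hom.appTop ((Scheme.ΓSpecIso (CommRingCat.of k)).inv c),
      ∀ (E : Type u) [AddCommGroup E] [Module k E] (ρ : VecGrp.GMod G E),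
        ρ.fixedUnder i = ρ.fixedUnder (𝟙 G),
      ∀ (G' : Over (Spec (CommRingCat.of k))) [GrpObj G'] [IsAffine G'.left] [Smooth G'.hom]
        (r s : G ⟶ G') [IsMonHom r] [IsMonHom s], i ≫ r = i ≫ s → r = s] := by
  classical
  haveI : IsAffine H.left := isAffine_of_isAffineHom i.left
  obtain ⟨A, _, _, ψ, _, _, _, _⟩ := exists_chart G
  haveI : IsAffine (G ⊗ H).left := inferInstanceAs (IsAffine (CategoryTheory.Limits.pullback G.hom H.hom))
  haveI : Smooth (G ⊗ H).hom := inferInstanceAs (Smooth (CategoryTheory.Limits.pullback.fst G.hom H.hom ≫ G.hom))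
  have hq : ∀ (q : VecGrp.pt k k ⟶ G ⊗ H),
      q ≫ (G ◁ i) ≫ μ[G] = (q ≫ fst G H) * ((q ≫ snd G H) ≫ i) := fun q => by
    rw [Hom.mul_def, ← Category.assoc]; congr 1; ext <;> simp
  have hconst : ∀ (c : k) (γ : VecGrp.pt k k ⟶ G),
      val γ (G.hom.appTop ((Scheme.ΓSpecIso (CommRingCat.of k)).inv c)) = c := fun c γ => by
    show (Scheme.ΓSpecIso (CommRingCat.of k)).hom ((γ.left ≫ G.hom).appTop _) = c
    rw [(Over.w γ).trans (Spec.map_id (CommRingCat.of k))]
    exact congr($((Scheme.ΓSpecIso (CommRingCat.of k)).inv_hom_id) c)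
  tfae_have 1 → 2 := by
    intro h E _ _ ρ
    refine le_antisymm (fun m hm => ?_) (fun m hm B _ _ x => by simpa using hm B (x ≫ i))
    obtain ⟨_, gen, _, hgen, hfac⟩ := exists_gen G
    let b := Module.Free.chooseBasis k E
    have h0 : ρ.ρ _ gen ((1 : Γ(G.left, ⊤)) ⊗ₜ[k] m) = (1 : Γ(G.left, ⊤)) ⊗ₜ[k] m := by
      refine (b.baseChange Γ(G.left, ⊤)).repr.injective (Finsupp.ext fun j => ?_)
      let φ := b.coord j
      have hc : ∀ z, (b.baseChange Γ(G.left, ⊤)).repr z j = coef _ φ z := fun z => by
        induction z using TensorProduct.induction_on with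
        | zero => simp
        | add x y hx hy => simp only [map_add, Finsupp.add_apply, hx, hy]
        | tmul r w => simp [coef, φ]
      rw [hc, hc]
      let f : Γ(G.left, ⊤) := coef _ φ (ρ.ρ _ gen ((1 : Γ(G.left, ⊤)) ⊗ₜ[k] m))
      have hf : ∀ γ : VecGrp.pt k k ⟶ G, val γ f = coef k φ (ρ.ρ k γ ((1 : k) ⊗ₜ[k] m)) := fun γ => by
        obtain ⟨ψγ, h1, h2⟩ := hfac k γ
        rw [← h2, ← coef_wmap, ρ.naturality, h1]
        simp [VecGrp.Wmap]
      obtain ⟨c, hc'⟩ := h f (eq_of_forall_val fun q => by
        rw [← val_comp q ((G ◁ i) ≫ μ[G]) f, ← val_comp q (fst G H) f, hq, hf, hf, map_mul, LinearEquiv.mul_apply, hm k (q ≫ snd G H)])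
      have hone := hf 1
      rw [hc', hconst, map_one] at hone
      show f = _
      refine eq_of_forall_val fun γ => ?_
      obtain ⟨ψγ, h1, h2⟩ := hfac k γ
      rw [hc', hconst, hone, ← h2]
      simp [coef, ← Algebra.algebraMap_eq_smul_one]
    intro B _ _ x
    obtain ⟨φx, h1, -⟩ := hfac B (x ≫ 𝟙 G)
    have := congrArg (VecGrp.Wmap φx) h0
    rw [ρ.naturality, h1] at this
    simpa [VecGrp.Wmap] using this
  tfae_have 2 → 1 := by
    intro h f hf
    obtain ⟨c, rfl⟩ := fn_surjective ψ f
    have hc : c ∈ inv' ψ i := (mem_inv'_iff ψ i c).2 hf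
    obtain ⟨d, a, x, ha, hx⟩ := exists_rep ψ c
    obtain ⟨m, hm⟩ := exists_gmod_of_comatrix ψ a ha
    have hxH : x ∈ m.fixedUnder i := mem_fixedUnder_of_pts i m x fun γ => (hm _ x).2 ((hx _).2 fun y => hc y γ)
    rw [h (Fin d → k) m] at hxH
    refine ⟨(ev ψ (1 : VecGrp.pt k k ⟶ G)).ofConv c, eq_of_forall_val fun γ => ?_⟩
    rw [hconst, val_fn]
    have := (hx γ).1 ((hm γ x).1 (by simpa using hxH k γ)) 1
    rwa [_root_.one_mul] at this
  tfae_have 1 → 3 := by
    intro h G' _ _ _ r s _ _ hrs
    refine hom_ext_pts fun γ => ?_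
    obtain ⟨A', _, _, ψ', _, _, _, _⟩ := exists_chart G'
    let F : G ⟶ G' := r * s⁻¹
    -- translate `c` to compare the two points
    have key : ∀ (c : A') (γ : VecGrp.pt k k ⟶ G),
        (ev ψ' ((γ ≫ r) * (γ ≫ s)⁻¹)).ofConv c = (ev ψ' (1 : VecGrp.pt k k ⟶ G')).ofConv c := by
      intro c γ
      let f : Γ(G.left, ⊤) := F.left.appTop (fn ψ' c)
      have hf : ∀ γ : VecGrp.pt k k ⟶ G, val γ f = (ev ψ' ((γ ≫ r) * (γ ≫ s)⁻¹)).ofConv c := fun γ => by
        rw [← val_comp, val_fn, MonObj.comp_mul, GrpObj.comp_inv]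
      obtain ⟨c₀, hc₀⟩ := h f (eq_of_forall_val fun q => by
        rw [← val_comp q ((G ◁ i) ≫ μ[G]) f, ← val_comp q (fst G H) f, hq, hf, hf, MonObj.mul_comp, MonObj.mul_comp, Category.assoc _ i r,
          Category.assoc _ i s, hrs]
        congr 3
        group)
      have h1 := hf 1
      rw [hc₀, hconst, MonObj.one_comp, MonObj.one_comp, inv_one, _root_.one_mul] at h1
      rw [← hf, hc₀, hconst, h1]
    have he : (γ ≫ r) * (γ ≫ s)⁻¹ = 1 :=
      ev_injective ψ' (WithConv.ext (AlgHom.ext fun c => key c γ))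
    rw [mul_inv_eq_one] at he
    rw [he]
  tfae_have 3 → 1 := by
    intro h f hf
    obtain ⟨c, rfl⟩ := fn_surjective ψ f
    have hc : c ∈ inv' ψ i := (mem_inv'_iff ψ i c).2 hf
    obtain ⟨d, a, x, ha, hx⟩ := exists_rep ψ c
    let e : Fin (d + 1) ≃ Fin d ⊕ Unit := finSumFinEquiv.symm.trans (Equiv.sumCongr (Equiv.refl _) (Equiv.ofUnique (Fin 1) Unit))
    let M : Matrix (Fin d ⊕ Unit) (Fin d ⊕ Unit) A := Matrix.fromBlocks a 0 0 1
    let a' : Fin (d + 1) → Fin (d + 1) → A := fun p q => M (e p) (e q)
    have hM : Groth.L08.Chevalley.IsComatrix (k := k) (fun p q => M p q) := by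
      refine ⟨fun p q => ?_, fun p q => ?_⟩
      · rcases p with p | p <;> rcases q with q | q <;>
          simp [M, ha.comul_eq, Algebra.TensorProduct.one_def]
      · rcases p with p | p <;> rcases q with q | q <;> simp [M, ha.counit_eq]
    have ha' : Groth.L08.Chevalley.IsComatrix (k := k) a' := by
      refine ⟨fun p q => ?_, fun p q => by rw [hM.counit_eq]; simp [e.injective.eq_iff]⟩
      rw [hM.comul_eq]
      exact (Equiv.sum_comp e (fun l => M (e p) l ⊗ₜ[k] M l (e q))).symm
    let X : Matrix (Fin d) Unit k := Matrix.of fun p _ => x p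
    let U₀ : (Matrix (Fin d ⊕ Unit) (Fin d ⊕ Unit) k)ˣ :=
      ⟨Matrix.fromBlocks 1 X 0 1, Matrix.fromBlocks 1 (-X) 0 1,
        by simp [Matrix.fromBlocks_multiply],
        by simp [Matrix.fromBlocks_multiply]⟩
    let R := (Matrix.reindexAlgEquiv k k e.symm).toMulEquiv.toMonoidHom
    obtain ⟨r, s, hr, hs, hrs⟩ := exists_conjugate_homs ψ ha' (Units.map R U₀)
    haveI : IsAffine (CoactBr.sp k (CoordGrp.GLn (d + 1) k)).left :=
      inferInstanceAs (IsAffine (Spec (CommRingCat.of (CoordGrp.GLn (d + 1) k))))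
    haveI := smooth_GLn (k := k) (d + 1)
    have hcrit : ∀ g : VecGrp.pt k k ⟶ G, g ≫ r = g ≫ s ↔
        ∀ y : VecGrp.pt k k ⟶ G, (ev ψ (y * g)).ofConv c = (ev ψ y).ofConv c := by
      intro g
      rw [hrs, ← hx]
      have e1 : Groth.L08.Chevalley.mat a' (ev ψ g).ofConv =
          R (Matrix.fromBlocks (Groth.L08.Chevalley.mat a (ev ψ g).ofConv) 0 0 1) := by
        ext p q
        show (ev ψ g).ofConv (M (e p) (e q)) = Matrix.fromBlocks _ _ _ _ (e p) (e q)
        rcases e p with p | p <;> rcases e q with q | q <;> simp [M, Groth.L08.Chevalley.mat]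
      rw [e1, Units.coe_map, ← map_mul, ← map_mul]
      refine ((Matrix.reindexAlgEquiv k k e.symm).injective.eq_iff).trans ?_
      simp only [U₀, Matrix.fromBlocks_multiply, Matrix.fromBlocks_inj]
      simp only [Matrix.one_mul, Matrix.mul_one, Matrix.mul_zero, Matrix.zero_mul, add_zero, zero_add, true_and,
        and_true]
      constructor
      · intro h i
        have := congrFun (congrFun h i) ()
        simp [X, Matrix.mul_apply, Groth.L08.Chevalley.mat] at this
        simp only [smul_eq_mul]
        rw [this]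
        exact Finset.sum_congr rfl fun j _ => mul_comm _ _
      · intro h
        ext i u
        simp [X, Matrix.mul_apply, Groth.L08.Chevalley.mat]
        rw [← h i]
        simp only [smul_eq_mul]
        exact Finset.sum_congr rfl fun j _ => mul_comm _ _
    have hEq : r = s := h _ r s (hom_ext_pts fun γ => by
      rw [← Category.assoc, ← Category.assoc]
      exact (hcrit _).2 fun y => hc y γ)
    refine ⟨(ev ψ (1 : VecGrp.pt k k ⟶ G)).ofConv c, eq_of_forall_val fun γ => ?_⟩
    rw [hconst, val_fn]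
    have := (hcrit γ).1 (by rw [hEq]) 1
    rwa [_root_.one_mul] at this
  tfae_finish

end Groth.Agent.S11234
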