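import Groth.Statements.S11235
import Mathlib.Algebra.Polynomial.Roots
import Mathlib.FieldTheory.IsAlgClosed.Basic
import Mathlib.RingTheory.Ideal.Quotient.Operations
import Mathlib.RingTheory.Jacobson.Polynomial

set_option autoImplicit false
universe u
open CAlg

namespace Groth.Agent.S11235

/-- Let k be an algebraically closed field, A a commutative k-algebra, α ∈ k, and M a maximal ideal of
the polynomial ring A[x] containing x - α. Let I ⊆ M be an ideal whose zero set in Spec A[x] is
invariant under the automorphisms x ↦ c·x, c ∈ k nonzero (equivalently: the image of I under each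
such A-algebra automorphism has the same radical as I). Then there is a maximal ideal of A[x]
containing I and x. -/
theorem result (k : Type u) [Field k] [IsAlgClosed k]
    (A : Type u) [CommRing A] [Algebra k A] (α : k)
    (M : Ideal (Polynomial A)) (hM : M.IsMaximal)
    (hα : Polynomial.X - Polynomial.C (algebraMap k A α) ∈ M)
    (I : Ideal (Polynomial A)) (hIM : I ≤ M)
    (hI : ∀ c : kˣ, (I.map (Polynomial.aeval (R := A)
      (algebraMap k A (c : k) • (Polynomial.X : Polynomial A)))).radical = I.radical) :
    ∃ N : Ideal (Polynomial A), N.IsMaximal ∧ I ≤ N ∧ Polynomial.X ∈ N := by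
  classical
  by_cases hα0 : α = 0
  · subst hα0
    exact ⟨M, hM, hIM, by simpa using hα⟩
  let m : Ideal A := M.comap Polynomial.C
  let ev : ∀ (a : A), Polynomial A →+* A ⧸ m := fun a => (Ideal.Quotient.mk m).comp (Polynomial.evalRingHom a)
  have hkerM : ∀ f, f ∈ M ↔ ev (algebraMap k A α) f = 0 := fun f => by
    obtain ⟨q, hq⟩ := Polynomial.X_sub_C_dvd_sub_C_eval (a := algebraMap k A α) (p := f)
    have hmem : f - Polynomial.C (f.eval (algebraMap k A α)) ∈ M := hq ▸ Ideal.mul_mem_right _ _ hα
    simp only [ev, RingHom.comp_apply, Polynomial.coe_evalRingHom, Ideal.Quotient.eq_zero_iff_mem, m, Ideal.mem_comap]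
    exact ⟨fun h => by simpa using sub_mem h hmem, fun h => by simpa using add_mem h hmem⟩
  haveI hm : m.IsMaximal := by
    refine Ideal.isMaximal_iff.mpr ⟨fun h => hM.ne_top ((Ideal.eq_top_iff_one M).mpr (by simpa [m] using h)), ?_⟩
    intro J x hJ hx hxJ
    obtain ⟨y, hy⟩ := hM.exists_inv (show Polynomial.C x ∉ M from hx)
    obtain ⟨z, hz, hyz⟩ := hy
    have h1 := (hkerM z).mp hz
    have h2 : x * 0 + 1 = 1 := by ring
    have h3 : y.eval (algebraMap k A α) * x + z.eval (algebraMap k A α) = 1 := by
      simpa using congrArg (Polynomial.eval (algebraMap k A α)) hyz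
    rw [← h3]
    exact add_mem (Ideal.mul_mem_left _ _ hxJ) (hJ (Ideal.Quotient.eq_zero_iff_mem.mp h1))
  letI : Field (A ⧸ m) := Ideal.Quotient.field m
  have hev : ∀ (f : Polynomial A), f ∈ I → ∀ c : kˣ, ev (algebraMap k A ((c : k) * α)) f = 0 := by
    intro f hf c
    have hp : ((f.comp (algebraMap k A (c : k) • Polynomial.X)) : Polynomial A) ∈ M := by
      have h1 : f.comp (algebraMap k A (c : k) • Polynomial.X) ∈
          I.map (Polynomial.aeval (R := A) (algebraMap k A (c : k) • (Polynomial.X : Polynomial A))) :=
        Ideal.mem_map_of_mem _ hf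
      have h2 : f.comp (algebraMap k A (c : k) • Polynomial.X) ∈ I.radical := (hI c) ▸ Ideal.le_radical h1
      exact (hM.isPrime.radical_le_iff.mpr hIM) h2
    have := (hkerM _).mp hp
    simpa [ev, Polynomial.eval_comp, Algebra.smul_def] using this
  refine ⟨RingHom.ker (ev 0), RingHom.ker_isMaximal_of_surjective _
    (Ideal.Quotient.mk_surjective.comp fun a => ⟨Polynomial.C a, by simp⟩), fun f hf => ?_, by simp [ev]⟩
  have hzero : f.map (Ideal.Quotient.mk m) = 0 := by
    refine Polynomial.eq_zero_of_infinite_isRoot _ ?_
    haveI : Infinite ({(0 : k)}ᶜ : Set k) := (Set.finite_singleton (0 : k)).infinite_compl.to_subtype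
    haveI : Infinite kˣ := Infinite.of_injective (fun x : ({(0 : k)}ᶜ : Set k) => Units.mk0 (x : k) x.2)
      fun x y h => Subtype.ext (congrArg Units.val h)
    exact Set.infinite_of_injective_forall_mem
      (f := fun c : kˣ => Ideal.Quotient.mk m (algebraMap k A ((c : k) * α)))
      (fun c c' h => by
        have h' := ((Ideal.Quotient.mk m).comp (algebraMap k A)).injective h
        exact Units.ext (mul_right_cancel₀ hα0 h'))
      (fun c => by
        have := hev f hf c
        simp only [ev, RingHom.comp_apply, Polynomial.coe_evalRingHom] at this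
        rw [Set.mem_ofPred_eq, Polynomial.IsRoot, Polynomial.eval_map_apply]
        exact this)
  have : (f.map (Ideal.Quotient.mk m)).eval (Ideal.Quotient.mk m 0) = 0 := by rw [hzero]; simp
  rw [Polynomial.eval_map_apply] at this
  exact this

end Groth.Agent.S11235
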