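import Groth.Statements.S11236
import Groth.Agent.L16.FinGen.Assemble
import Groth.Agent.L16.FinGen.Module
import Groth.Agent.L16.GeomRed.Idealize

set_option autoImplicit false
universe u
open CategoryTheory MonoidalCategory CartesianMonoidalCategory MonObj GrpObj AlgebraicGeometry
open scoped TensorProduct
open AGF

namespace Groth.Agent.S11236

/-- Let k be an algebraically closed field, G a linear algebraic group over k (affine, smooth) whose
identity component is reductive, B a Borel subgroup of G with unipotent radical U. Assume finite
generation of invariants of reductive groups over k on finitely generated algebras (a true result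
which the published text assumes without proof, carried here as a hypothesis). Let A be a finitely
generated commutative k-algebra with a rational action of G by algebra automorphisms and M an
A-module with a rational G-action compatible with the module structure (g·(am) = (g·a)(g·m)). Then
finite generation of M as an A-module is equivalent to the invariants M^U forming a finitely
generated module over A^U (M^U is the A^U-span of finitely many of its elements). -/
theorem result (k : Type u) [Field k] [IsAlgClosed k]
    (G : Over (Spec (CommRingCat.of k))) [GrpObj G] (hG : VecGrp.IsReductiveGrp k G)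
    (Bo : Over (Spec (CommRingCat.of k))) [GrpObj Bo] (iB : Bo ⟶ G) (hB : Red.IsBorelOver k iB)
    (U : Over (Spec (CommRingCat.of k))) [GrpObj U] (u : U ⟶ Bo) (hU : Par.IsUnipotentRadical u)
    (thmA : VecGrp.ReductiveInvariantsFG k)
    (A : Type u) [CommRing A] [Algebra k A] [Algebra.FiniteType k A] (ρA : VecGrp.GMod G A) (hρ : ρA.IsMult)
    (M : Type u) [AddCommGroup M] [Module A M] [Module k M] [IsScalarTower k A M] (ρM : VecGrp.GMod G M)
    (hc : VecGrp.GMod.IsCompat ρA ρM) :
    Module.Finite A M ↔
      ∃ s : Finset M, (↑s : Set M) ⊆ ρM.fixedUnder (u ≫ iB) ∧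
        ρM.fixedUnder (u ≫ iB) ≤
          (Submodule.span ↥(ρA.fixedSubalgebra hρ (u ≫ iB)) (↑s : Set M)).restrictScalars k := by
  obtain ⟨_, _, _, _, _, _, _, hfin⟩ := Groth.L16.GeomRed.borel_radical_setting hG hB hU thmA
  constructor
  · intro h
    exact Groth.L16.GeomRed.fixed_fg_module ρA ρM (u ≫ iB) hfin hρ hc
  · rintro ⟨s, hs, hle⟩
    exact Groth.L16.FinGen.module_finite_of_fixed ρA ρM (u ≫ iB)
      (fun R _ _ ρ hρR hR => Groth.L16.FinGen.finiteType_of_invariants hG hB hU thmA ρ hρR hR)
      hρ hc (hfin A ρA hρ) s hs hle
end Groth.Agent.S11236
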