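import Groth.Statements.S11238
import Mathlib.FieldTheory.RatFunc.Luroth
import Mathlib.RingTheory.Localization.AsSubring
import Mathlib.RingTheory.IntegralClosure.IntegrallyClosed
import Mathlib.RingTheory.Polynomial.UniqueFactorization
import Mathlib.Algebra.MvPolynomial.Funext
import Mathlib.RingTheory.Localization.AtPrime.Basic

set_option autoImplicit false
universe u
open AGF

namespace Groth.Agent.S11238

/-- Over an algebraically closed field k, a unirational variety of dimension one is rational. Field
form: let K be a finitely generated field extension of k of transcendence degree one (K is algebraic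
over k(x) for some x ∈ K transcendental over k) admitting a k-embedding into a purely transcendental
extension k(t_1, ..., t_n). Then K = k(t) for some t ∈ K transcendental over k. -/
theorem result (k : Type u) [Field k] [IsAlgClosed k]
    (K : Type u) [Field K] [Algebra k K] (hfg : (⊤ : IntermediateField k K).FG)
    (x : K) (hx : Transcendental k x) (halg : Algebra.IsAlgebraic ↥(IntermediateField.adjoin k {x}) K)
    (n : ℕ) (φ : K →ₐ[k] FractionRing (MvPolynomial (Fin n) k)) :
    ∃ t : K, Transcendental k t ∧ IntermediateField.adjoin k {t} = ⊤ := by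
  classical
  let A := MvPolynomial (Fin n) k
  let L := FractionRing A
  obtain ⟨N, D, hD, hND⟩ := IsFractionRing.div_surjective (A := A) (φ x)
  have hD0 : D ≠ 0 := nonZeroDivisors.ne_zero hD
  have hDL : algebraMap A L D ≠ 0 := IsFractionRing.to_map_ne_zero_of_mem_nonZeroDivisors hD
  -- a point where `D` does not vanish
  obtain ⟨a, ha⟩ : ∃ a : Fin n → k, MvPolynomial.eval a D ≠ 0 := by
    by_contra h
    push_neg at h
    exact hD0 (MvPolynomial.funext fun a => by rw [h a, map_zero])
  let c₀ : k := MvPolynomial.eval a N / MvPolynomial.eval a D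
  have hne : (N - MvPolynomial.C c₀ * D) * D ≠ 0 := by
    refine mul_ne_zero (fun h => ?_) hD0
    rw [sub_eq_zero] at h
    apply hx
    have hφ : φ x = algebraMap k L c₀ := by
      rw [← hND, h, map_mul, mul_div_assoc, div_self hDL, mul_one, IsScalarTower.algebraMap_apply k A L]
      rfl
    have : x = algebraMap k K c₀ := φ.toRingHom.injective (show φ x = φ _ by rw [hφ, φ.commutes])
    rw [this]
    exact isAlgebraic_algebraMap c₀
  obtain ⟨c, hc⟩ : ∃ c : Fin n → k, MvPolynomial.eval c ((N - MvPolynomial.C c₀ * D) * D) ≠ 0 := by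
    by_contra h
    push_neg at h
    exact hne (MvPolynomial.funext fun a => by rw [h a, map_zero])
  -- the line through `a` and `c`
  let ψ : A →ₐ[k] Polynomial k := MvPolynomial.aeval fun i => Polynomial.C (a i) + Polynomial.X * Polynomial.C (c i - a i)
  have hev : ∀ (t : k) (F : A), (ψ F).eval t = MvPolynomial.eval (fun i => a i + t * (c i - a i)) F := fun t F => by
    show Polynomial.evalRingHom t (MvPolynomial.aeval _ F) = _
    rw [MvPolynomial.aeval_def, MvPolynomial.eval₂_comp_left, MvPolynomial.eval, MvPolynomial.coe_eval₂Hom]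
    congr 1
    · ext; simp
    · funext i; simp
  have hev0 : ∀ F, (ψ F).eval 0 = MvPolynomial.eval a F := fun F => by rw [hev]; simp
  have hev1 : ∀ F, (ψ F).eval 1 = MvPolynomial.eval c F := fun F => by rw [hev]; simp
  let ψR : A →ₐ[k] RatFunc k := (IsScalarTower.toAlgHom k (Polynomial k) (RatFunc k)).comp ψ
  have hψD : ψ D ≠ 0 := fun h => ha (by rw [← hev0, h, Polynomial.eval_zero])
  have hψRD : ψR D ≠ 0 := fun h => hψD ((IsFractionRing.injective (Polynomial k) (RatFunc k)) (by rw [map_zero]; exact h))
  let u : RatFunc k := ψR N / ψR D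
  have hu : Transcendental k u := by
    refine RatFunc.transcendental_of_ne_C u ?_
    rintro ⟨e, he⟩
    have h1 : ψ N = Polynomial.C e * ψ D := by
      apply IsFractionRing.injective (Polynomial k) (RatFunc k)
      rw [map_mul, RatFunc.algebraMap_C, ← he]
      exact ((div_mul_cancel₀ _ hψRD)).symm
    have e0 := congrArg (Polynomial.eval 0) h1
    have e1 := congrArg (Polynomial.eval 1) h1
    rw [Polynomial.eval_mul, Polynomial.eval_C, hev0, hev0] at e0
    rw [Polynomial.eval_mul, Polynomial.eval_C, hev1, hev1] at e1
    rw [map_mul, map_sub, map_mul, MvPolynomial.eval_C, e1] at hc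
    have : c₀ = e := by simp only [c₀, e0, mul_div_assoc, div_self ha, mul_one]
    rw [this, sub_self, zero_mul] at hc
    exact hc rfl
  -- the local ring of the line
  let P : Ideal A := RingHom.ker ψR.toRingHom
  haveI : P.IsPrime := RingHom.ker_isPrime _
  let S : Subalgebra A L := Localization.subalgebra.ofField L P.primeCompl P.primeCompl_le_nonZeroDivisors
  haveI : IsLocalization P.primeCompl S := inferInstanceAs
    (IsLocalization P.primeCompl (Localization.subalgebra.ofField L P.primeCompl P.primeCompl_le_nonZeroDivisors))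
  haveI : IsFractionRing S L := inferInstanceAs
    (IsFractionRing (Localization.subalgebra.ofField L P.primeCompl P.primeCompl_le_nonZeroDivisors) L)
  haveI : IsIntegrallyClosed S := isIntegrallyClosed_of_isLocalization _ P.primeCompl P.primeCompl_le_nonZeroDivisors
  have hψunit : ∀ y : P.primeCompl, IsUnit (ψR.toRingHom y) := fun y => IsUnit.mk0 _ fun h => y.2 h
  let g : S →+* RatFunc k := IsLocalization.lift hψunit
  have hgalg : ∀ F : A, g (algebraMap A S F) = ψR F := fun F => IsLocalization.lift_eq hψunit F
  have hunit : ∀ s : S, g s ≠ 0 → IsUnit s := fun s hs => by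
    obtain ⟨f, d, rfl⟩ := IsLocalization.exists_mk'_eq P.primeCompl s
    have hf : f ∉ P := fun h => hs (by
      rw [IsLocalization.lift_mk'_spec]
      rw [mul_zero]
      exact h)
    exact ⟨⟨IsLocalization.mk' S f d, IsLocalization.mk' S (d : A) ⟨f, hf⟩, IsLocalization.mk'_mul_mk'_eq_one' f d hf, by
      rw [mul_comm]; exact IsLocalization.mk'_mul_mk'_eq_one' f d hf⟩, rfl⟩
  have hDu : IsUnit (algebraMap A S D) := hunit _ (by rw [hgalg]; exact hψRD)
  let s₀ : S := algebraMap A S N * ↑hDu.unit⁻¹
  have hs₀ : (s₀ : L) = φ x := by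
    rw [← hND, eq_div_iff hDL]
    have h1 : s₀ * algebraMap A S D = algebraMap A S N := by
      rw [mul_assoc, IsUnit.val_inv_mul, mul_one]
    exact congrArg Subtype.val h1
  have hgs₀ : g s₀ = u := by
    rw [eq_div_iff hψRD, ← hgalg, ← hgalg, ← map_mul, mul_assoc, IsUnit.val_inv_mul, mul_one]
  have hval : ∀ p : Polynomial k,
      (Polynomial.aeval (A := S) s₀ p : L) = φ (Polynomial.aeval x p) ∧ g (Polynomial.aeval (A := S) s₀ p) = Polynomial.aeval u p := by
    intro p
    induction p using Polynomial.induction_on' with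
    | add p q hp hq =>
      simp only [map_add, Subalgebra.coe_add, hp.1, hp.2, hq.1, hq.2, and_self]
    | monomial m e =>
      simp only [Polynomial.aeval_monomial, Subalgebra.coe_mul, Subalgebra.coe_pow, hs₀, map_mul, map_pow, AlgHom.commutes, hgs₀]
      refine ⟨?_, ?_⟩
      · rw [IsScalarTower.algebraMap_apply k A L e]; rfl
      · rw [IsScalarTower.algebraMap_apply k A S e, hgalg]; simp
  have hmem : ∀ y : IntermediateField.adjoin k {x}, φ y ∈ S := by
    rintro ⟨y, hy⟩
    obtain ⟨p, q, rfl⟩ := (IntermediateField.mem_adjoin_simple_iff k y).1 hy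
    show φ (_ / _) ∈ S
    by_cases hq : q = 0
    · rw [hq, map_zero, div_zero, map_zero]; exact S.zero_mem
    have hqu : IsUnit (Polynomial.aeval (A := S) s₀ q) := hunit _ (by
      rw [(hval q).2]; exact fun h => hq ((transcendental_iff.1 hu) q h))
    rw [map_div₀, ← (hval p).1, ← (hval q).1]
    obtain ⟨w, hw⟩ := hqu
    have hw0 : ((w : S) : L) * ((↑w⁻¹ : S) : L) = 1 := congrArg Subtype.val w.mul_inv
    rw [← hw, div_eq_mul_inv, ← eq_inv_of_mul_eq_one_right hw0]
    exact S.mul_mem (Polynomial.aeval (A := S) s₀ p).2 (↑w⁻¹ : S).2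
  let θ : IntermediateField.adjoin k {x} →+* S :=
    (φ.toRingHom.comp (algebraMap (IntermediateField.adjoin k {x}) K)).codRestrict S.toSubring hmem
  have hall : ∀ y : K, φ y ∈ S := fun y => by
    obtain ⟨p, hp, hpy⟩ := (halg.isAlgebraic y).isIntegral
    have hint : IsIntegral S (φ y) := by
      refine ⟨p.map θ, hp.map θ, ?_⟩
      rw [Polynomial.eval₂_map]
      have := congrArg φ hpy
      rw [map_zero] at this
      rw [← this]
      show _ = φ.toRingHom (Polynomial.eval₂ _ y p)
      rw [Polynomial.hom_eval₂]
      rfl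
    obtain ⟨z, hz⟩ := IsIntegrallyClosed.isIntegral_iff.1 hint
    exact hz ▸ z.2
  let θK : K →+* S := φ.toRingHom.codRestrict S.toSubring hall
  let F : K →ₐ[k] RatFunc k :=
    { g.comp θK with
      commutes' := fun e => by
        show g (θK (algebraMap k K e)) = _
        have : θK (algebraMap k K e) = algebraMap A S (algebraMap k A e) := Subtype.ext (by
          show φ (algebraMap k K e) = algebraMap A L (algebraMap k A e)
          rw [φ.commutes, ← IsScalarTower.algebraMap_apply])
        rw [this, hgalg]
        exact ψR.commutes e }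
  -- Lüroth
  let E : IntermediateField k (RatFunc k) := F.fieldRange
  have hE : E ≠ ⊥ := fun h => by
    have hmemF : F x ∈ E := ⟨x, rfl⟩
    rw [h, IntermediateField.mem_bot] at hmemF
    obtain ⟨e, he⟩ := hmemF
    apply hx
    have : x = algebraMap k K e := F.toRingHom.injective (show F x = F _ by rw [F.commutes, he])
    rw [this]
    exact isAlgebraic_algebraMap e
  obtain ⟨t, ht⟩ : RatFunc.Luroth.generator E ∈ E := RatFunc.Luroth.generator_mem
  have ht' : F t = RatFunc.Luroth.generator E := ht
  refine ⟨t, ?_, ?_⟩
  · intro h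
    exact RatFunc.Luroth.transcendental_generator hE (ht' ▸ h.algHom F)
  · refine eq_top_iff.2 fun y _ => ?_
    have hy : F y ∈ E := ⟨y, rfl⟩
    rw [RatFunc.Luroth.eq_adjoin_generator (E := E), ← ht', ← Set.image_singleton, ← IntermediateField.adjoin_map] at hy
    obtain ⟨z, hz, hzy⟩ := hy
    rwa [← F.toRingHom.injective hzy]

end Groth.Agent.S11238
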