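import Groth.Statements.S11240

set_option autoImplicit false
universe u
open AGF

namespace Groth.Agent.S11240

/-- For a single root subgroup: let k be an algebraically closed field and X = (x_ab) the generic n × m
matrix over the polynomial ring k[x_ab]. Let i ≠ j be row indices and let I (rows) and J (columns)
be strictly increasing sequences of length p. The minor of X with rows I and columns J is invariant
under replacing X by (1 + b·E_ij)·X for every b ∈ k (the one-parameter unipotent group adding b
times row j to row i) if and only if j occurs in I whenever i does. (The published statement gives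
the criterion for the group generated by several such root subgroups, which is the conjunction of
these.) -/
theorem result (k : Type u) [Field k] [IsAlgClosed k] (n m p : ℕ)
    (i j : Fin n) (hij : i ≠ j) (I : Fin p ↪o Fin n) (J : Fin p ↪o Fin m) :
    (∀ b : k, ((Matrix.transvection i j (MvPolynomial.C b) *
        (Matrix.of fun a c => (MvPolynomial.X (a, c) : MvPolynomial (Fin n × Fin m) k))).submatrix I J).det =
        ((Matrix.of fun a c => (MvPolynomial.X (a, c) : MvPolynomial (Fin n × Fin m) k)).submatrix I J).det) ↔
      (i ∈ Set.range I → j ∈ Set.range I) := by
  classical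
  set X : Matrix (Fin n) (Fin m) (MvPolynomial (Fin n × Fin m) k) :=
    Matrix.of fun a c => (MvPolynomial.X (a, c) : MvPolynomial (Fin n × Fin m) k) with hX
  have key : ∀ (b : MvPolynomial (Fin n × Fin m) k) (r : Fin p), I r = i →
      ((Matrix.transvection i j b * X).submatrix I J).det = (X.submatrix I J).det +
        b * ((X.submatrix I J).updateRow r (fun c => X j (J c))).det := by
    intro b r hr
    have : (Matrix.transvection i j b * X).submatrix I J =
        (X.submatrix I J).updateRow r ((X.submatrix I J) r + b • fun c => X j (J c)) := by
      ext a c
      rcases eq_or_ne a r with ha | ha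
      · subst ha; simp [Matrix.submatrix_apply, hr, Matrix.updateRow_self, Matrix.transvection_mul_apply_same, smul_eq_mul]
      · have : I a ≠ i := fun h => ha (I.injective (h.trans hr.symm))
        simp [Matrix.submatrix_apply, this, Matrix.updateRow_ne ha]
    rw [this, Matrix.det_updateRow_add, Matrix.updateRow_eq_self, Matrix.det_updateRow_smul]
  constructor
  · rintro h ⟨r, hr⟩
    by_contra hj
    have h1 := h 1
    rw [key _ r hr, add_eq_left, MvPolynomial.C_1, one_mul] at h1
    let g : Fin p → Fin n := Function.update I r j
    have hg : Function.Injective g := by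
      intro x y hxy
      simp only [g] at hxy
      by_cases hx : x = r <;> by_cases hy : y = r
      · exact hx.trans hy.symm
      · rw [hx, Function.update_self, Function.update_of_ne hy] at hxy; exact absurd ⟨y, hxy.symm⟩ hj
      · rw [hy, Function.update_self, Function.update_of_ne hx] at hxy; exact absurd ⟨x, hxy⟩ hj
      · rw [Function.update_of_ne hy, Function.update_of_ne hx] at hxy; exact I.injective hxy
    let ev : MvPolynomial (Fin n × Fin m) k →+* k :=
      MvPolynomial.eval (fun ac : Fin n × Fin m => if ∃ l, g l = ac.1 ∧ J l = ac.2 then 1 else 0)
    have h2 := congrArg ev h1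
    rw [map_zero, RingHom.map_det] at h2
    have : ev.mapMatrix ((X.submatrix I J).updateRow r (fun c => X j (J c))) = 1 := by
      ext a c
      have e : (X.submatrix I J).updateRow r (fun c => X j (J c)) a c = X (g a) (J c) := by
        by_cases ha : a = r
        · simp [g, ha, Matrix.updateRow_self]
        · simp [g, Matrix.updateRow_ne ha, Function.update_of_ne ha]
      rw [RingHom.mapMatrix_apply, Matrix.map_apply, e]
      simp only [hX, Matrix.of_apply, ev, MvPolynomial.eval_X, Matrix.one_apply]
      congr 1
      simp only [eq_iff_iff]
      exact ⟨fun ⟨l, h1, h2⟩ => (hg h1).symm.trans (J.injective h2), fun e => ⟨a, rfl, congrArg J e⟩⟩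
    rw [this, Matrix.det_one] at h2
    exact one_ne_zero h2
  · intro h b
    by_cases hi : i ∈ Set.range I
    · obtain ⟨r, hr⟩ := hi
      obtain ⟨r', hr'⟩ := h ⟨r, hr⟩
      rw [key _ r hr, add_eq_left]
      have hne : r ≠ r' := fun e => hij (hr.symm.trans ((congrArg I e).trans hr'))
      rw [Matrix.det_zero_of_row_eq hne, mul_zero]
      funext c
      simp [Matrix.updateRow_self, Matrix.updateRow_ne hne.symm, hr']
    · congr 1
      ext a c
      have : I a ≠ i := fun e => hi ⟨a, e⟩
      simp [Matrix.submatrix_apply, this]
end Groth.Agent.S11240
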