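import Groth.Statements.S11241
import Groth.Agent.L15.UnipFrac.Main
-- import your own Groth.Agent.* helpers here

set_option autoImplicit false
universe u
open CategoryTheory MonoidalCategory CartesianMonoidalCategory MonObj GrpObj AlgebraicGeometry
open scoped TensorProduct
open AGF

namespace Groth.Agent.S11241

/-- Let k be an algebraically closed field and H a connected unipotent linear algebraic group over k
(affine, smooth, connected, with no nontrivial subtorus), acting rationally by algebra automorphisms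
on a commutative k-algebra A which is an integral domain. An H-invariant element of the fraction
field of A is a quotient of two H-invariant elements of A: if a₀, b₀ ∈ A with b₀ ≠ 0 satisfy
(h·a₀)·b₀ = a₀·(h·b₀) for every point h of H (invariance of a₀/b₀), then there are a, b ∈ A^H with b
≠ 0 and a·b₀ = b·a₀. (The published statement allows any unipotent H; this row takes H connected.) -/
theorem result (k : Type u) [Field k] [IsAlgClosed k]
    (H : Over (Spec (CommRingCat.of k))) [GrpObj H] [IsAffine H.left] [Smooth H.hom] [ConnectedSpace H.left]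
    (hH : Red.HasNoSubtorus k H)
    (A : Type u) [CommRing A] [IsDomain A] [Algebra k A] (ρ : VecGrp.GMod H A) (hρ : ρ.IsMult)
    (a₀ b₀ : A) (hb₀ : b₀ ≠ 0)
    (hinv : ∀ (B : Type u) [CommRing B] [Algebra k B] (h : VecGrp.pt k B ⟶ H),
      ρ.ρ B h ((1 : B) ⊗ₜ[k] a₀) * ((1 : B) ⊗ₜ[k] b₀) = ((1 : B) ⊗ₜ[k] a₀) * ρ.ρ B h ((1 : B) ⊗ₜ[k] b₀)) :
    ∃ a b : A, a ∈ ρ.fixedUnder (𝟙 H) ∧ b ∈ ρ.fixedUnder (𝟙 H) ∧ b ≠ 0 ∧ a * b₀ = b * a₀ := by
  exact Groth.L15.UnipFrac.exists_invariant_frac H hH A ρ hρ a₀ b₀ hb₀ hinv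

end Groth.Agent.S11241
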