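import Groth.Statements.S11242
import Groth.Agent.L16.Grosshans.Weight

set_option autoImplicit false
universe u
open CategoryTheory MonoidalCategory CartesianMonoidalCategory MonObj GrpObj AlgebraicGeometry
open scoped TensorProduct
open AGF

namespace Groth.Agent.S11242

/-- Let k be an algebraically closed field, G a connected reductive linear algebraic group over k, B a
Borel subgroup of G with unipotent radical U, T a maximal torus of G contained in B, and ω a
character of T. Consider the space E(ω) of global functions f on G which are invariant under right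
translation by U and on which right translation by T acts through ω (f(x·u) = f(x), f(x·t) =
ω(t)·f(x)); the published statement writes this space with its weight twisted by the opposition
involution, and finite-dimensionality is the same statement. This space is finite-dimensional: there
are finitely many global functions such that every member of E(ω) is a combination of them with
constant coefficients. -/
theorem result (k : Type u) [Field k] [IsAlgClosed k]
    (G : Over (Spec (CommRingCat.of k))) [GrpObj G] (hG : Red.IsReductiveOver k G)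
    (Bo : Over (Spec (CommRingCat.of k))) [GrpObj Bo] (iB : Bo ⟶ G) (hB : Red.IsBorelOver k iB)
    (U : Over (Spec (CommRingCat.of k))) [GrpObj U] (u : U ⟶ Bo) (hU : Par.IsUnipotentRadical u)
    (T : Over (Spec (CommRingCat.of k))) [GrpObj T] (t : T ⟶ Bo) [IsMonHom t] (hT : AGF.IsMaxTorus (t ≫ iB))
    (ω : T ⟶ Red.Gm (Spec (CommRingCat.of k))) [IsMonHom ω] :
    ∃ s : Finset Γ(G.left, ⊤), ∀ f : Γ(G.left, ⊤),
      ((G ◁ (u ≫ iB)) ≫ μ[G]).left.appTop f = (fst G U).left.appTop f →
      ((G ◁ (t ≫ iB)) ≫ μ[G]).left.appTop f = (fst G T).left.appTop f * (snd G T).left.appTop (Red.gmFn ω) →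
        ∃ c : Γ(G.left, ⊤) → k,
          f = ∑ g ∈ s, G.hom.appTop ((Scheme.ΓSpecIso (CommRingCat.of k)).inv (c g)) * g := by
  classical
  haveI : IsAffine G.left := hG.1
  haveI : Smooth G.hom := hG.2.1
  haveI : ConnectedSpace G.left := hG.2.2.1
  haveI := hB.1; haveI := hB.2.1; haveI := hB.2.2.1; haveI := hU.1; haveI := hU.2.1; haveI := hU.2.2.2.1
  haveI : IsAffine Bo.left := isAffine_of_isAffineHom iB.left
  haveI : IsAffine U.left := isAffine_of_isAffineHom u.left
  obtain ⟨A, _, _, ψ, h1, h2, h3, h4⟩ := Groth.L25.Observable.exists_chart G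
  haveI := h1; haveI := h2; haveI := h3; haveI := h4
  obtain ⟨W, ⟨s, hs⟩, hW⟩ := Groth.L16.Grosshans.exists_weight_space ψ hB hU t hT
    (fun z => Groth.L25.Observable.val z (Red.gmFn ω))
  choose pre hpre using Groth.L25.Observable.fn_surjective ψ
  refine ⟨s.image (Groth.L25.Observable.fn ψ), fun f hf1 hf2 => ?_⟩
  have hmem : pre f ∈ W := hW _
    ((Groth.L25.Observable.mem_inv'_iff ψ (u ≫ iB) (pre f)).2 (by rw [hpre]; exact hf1))
    (Groth.L16.Grosshans.semi_of_appTop ψ (t ≫ iB) (Red.gmFn ω) (pre f) (by rw [hpre]; exact hf2))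
  obtain ⟨c, -, hc⟩ := Submodule.mem_span_finset.1 (hs ▸ hmem)
  refine ⟨fun g => c (pre g), ?_⟩
  have hinj := Groth.L25.Observable.fn_injective (G := G) ψ
  rw [Finset.sum_image fun a _ b _ e => hinj e, ← hpre f, ← hc]
  show Groth.L25.Observable.fnHom ψ _ = _
  rw [map_sum]
  refine Finset.sum_congr rfl fun a _ => ?_
  beta_reduce
  rw [hinj (hpre (Groth.L25.Observable.fn ψ a)), Algebra.smul_def, map_mul,
    ← Groth.L25.Observable.fn_algebraMap ψ]
  rfl
end Groth.Agent.S11242
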