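import Groth.Statements.S11243
import Mathlib.LinearAlgebra.RootSystem.Finite.Nondegenerate

set_option autoImplicit false
universe u v w
open RootD

namespace Groth.Agent.S11243

/-- (b), for a connected group, as a statement about its root datum: let P be a finite reduced
crystallographic root pairing over ℤ with weight lattice M, and b a base of P (simple roots,
determining the positive roots). Then there is an additive map h : M → ℤ which is positive on every
positive root (so that h strictly increases along the dominance order) and non-negative on every
dominant weight, i.e. on every ω ∈ M pairing non-negatively with all simple coroots. (Part (c),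
invariance under the component group of a disconnected group, is not stated.) -/
theorem result {ι : Type u} {M : Type v} {N : Type w}
    [Fintype ι] [AddCommGroup M] [AddCommGroup N]
    (P : RootPairing ι ℤ M N) [P.IsReduced] [P.IsCrystallographic] (b : P.Base) :
    ∃ h : M →+ ℤ, (∀ i : ι, b.IsPos i → 0 < h (P.root i)) ∧
      ∀ ω : M, (∀ j ∈ b.support, 0 ≤ P.toLinearMap ω (P.coroot j)) → 0 ≤ h ω := by
  classical
  have h0 : ∀ k ∈ b.support, (∑ j, if b.IsPos j then P.pairing k j else 0) = 2 := by
    intro k hk
    have hkpos : b.IsPos k := RootPairing.Base.isPos_of_mem_support hk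
    have hnk : ¬ b.IsPos (P.reflectionPerm k k) := fun h => (RootPairing.Base.IsPos.neg_iff_not b k).1 h hkpos
    rw [← Finset.sum_filter, ← Finset.insert_erase (Finset.mem_filter.2 ⟨Finset.mem_univ k, hkpos⟩),
      Finset.sum_insert (Finset.notMem_erase _ _), P.pairing_same]
    have hinv : ∀ i ∈ (Finset.univ.filter fun i => b.IsPos i).erase k,
        P.reflectionPerm k i ∈ (Finset.univ.filter fun i => b.IsPos i).erase k := by
      intro i hi
      simp only [Finset.mem_erase, Finset.mem_filter, Finset.mem_univ, true_and] at hi ⊢
      refine ⟨fun h => hnk ?_, hi.2.reflectionPerm hk hi.1⟩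
      have h' : i = P.reflectionPerm k k := by
        rw [← P.reflectionPerm_self k i, h]
      exact h' ▸ hi.2
    have hneg : ∑ i ∈ (Finset.univ.filter fun i => b.IsPos i).erase k, P.pairing k i =
        ∑ i ∈ (Finset.univ.filter fun i => b.IsPos i).erase k, -P.pairing k i :=
      Finset.sum_nbij' (P.reflectionPerm k) (P.reflectionPerm k) hinv hinv (by simp) (by simp)
        (fun i _ => by
          rw [P.pairing_reflectionPerm, RootPairing.pairing_reflectionPerm_self_left, neg_neg])
    rw [Finset.sum_neg_distrib] at hneg
    linarith
  have hlin : ∀ i, 2 * b.height i = ∑ j, if b.IsPos j then P.pairing i j else 0 := by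
    intro i
    obtain ⟨f, hf₀, hf₁, hf₂⟩ := b.exists_root_eq_sum_int i
    rw [RootPairing.Base.height_eq_sum hf₂, Finset.mul_sum]
    have hp : ∀ j, P.pairing i j = ∑ k ∈ b.support, f k * P.pairing k j := fun j => by
      simp only [RootPairing.pairing, RootPairing.root', hf₂]
      simp
    simp only [hp]
    rw [show (∑ j, if b.IsPos j then ∑ k ∈ b.support, f k * P.pairing k j else 0) =
      ∑ k ∈ b.support, f k * ∑ j, if b.IsPos j then P.pairing k j else 0 by
        simp only [Finset.mul_sum, mul_ite, mul_zero]
        rw [Finset.sum_comm]
        exact Finset.sum_congr rfl fun j _ => by split_ifs <;> simp]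
    exact Finset.sum_congr rfl fun k hk => by rw [h0 k hk]; ring
  let h : M →ₗ[ℤ] ℤ := ∑ j, if b.IsPos j then P.coroot' j else 0
  refine ⟨h.toAddMonoidHom, fun i hi => ?_, fun ω hω => ?_⟩
  · have he : h (P.root i) = 2 * b.height i := by
      rw [hlin i]
      simp only [h, LinearMap.coe_sum, Finset.sum_apply]
      exact Finset.sum_congr rfl fun j _ => by split_ifs <;> simp
    show 0 < h (P.root i)
    rw [he]
    rw [RootPairing.Base.isPos_iff] at hi
    omega
  · show 0 ≤ h ω
    simp only [h, LinearMap.coe_sum, Finset.sum_apply]
    refine Finset.sum_nonneg fun j _ => ?_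
    split_ifs with hj
    · have hB : ∀ k, P.RootForm (P.root k) (P.root k) * P.coroot' k ω = 2 * P.RootForm ω (P.root k) := by
        intro k
        have h1 := congr_arg (P.toLinearMap ω) (P.rootForm_self_smul_coroot k)
        rw [map_smul, map_nsmul, P.toLinearMap_apply_apply_Polarization, smul_eq_mul, nsmul_eq_mul] at h1
        have hs : P.RootForm ω (P.root k) = P.RootForm (P.root k) ω := by
          simp [RootPairing.rootForm_apply_apply, mul_comm]
        rw [hs]
        simpa using h1
      have hpos : ∀ k, 0 < P.RootForm (P.root k) (P.root k) := fun k =>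
        P.rootForm_pos_of_ne_zero (Submodule.subset_span (Set.mem_range_self k)) (P.ne_zero k)
      have hnn : 0 ≤ P.RootForm ω (P.root j) := by
        refine hj.induction_on_add (p := fun k => 0 ≤ P.RootForm ω (P.root k)) ?_ ?_
        · intro k hk
          have h1 := hB k
          have h2 := mul_nonneg (hpos k).le (hω k hk)
          simp only [RootPairing.coroot', LinearMap.flip_apply] at h1
          omega
        · intro a c e he ha hc
          have h1 := hB c
          have h2 := mul_nonneg (hpos c).le (hω c hc)
          simp only [RootPairing.coroot', LinearMap.flip_apply] at h1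
          rw [he, map_add]
          omega
      by_contra hneg
      have h1 := hB j
      have h2 := mul_neg_of_pos_of_neg (hpos j) (not_le.1 hneg)
      omega
    · simp

end Groth.Agent.S11243
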