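import Groth.Statements.S16130
import Groth.Agent.L19.AlgGrpBasic.OrbitDim
import Groth.Agent.L19.AlgGrpBasic.ActKernel
import Groth.Agent.L19.ImmLift
import Groth.Agent.L26.AV.SmoothField
import Groth.Agent.L06.FibreModel
import Groth.Agent.L06.Dim
import Groth.Agent.S10884

set_option autoImplicit false
set_option backward.isDefEq.respectTransparency.types false
set_option backward.isDefEq.respectTransparency false
set_option linter.style.haveILetI false
universe u
open CategoryTheory CategoryTheory.Limits MonoidalCategory CartesianMonoidalCategory MonObj GrpObj AlgebraicGeometry CategoryTheory.Limits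
open AlgGrp

namespace Groth.Agent.S16130
open Groth.L19.AlgGrpBasic

/-- Over an algebraically closed field k, let G be an algebraic group (a smooth k-group scheme of finite
type, not necessarily connected) acting on a variety X (a reduced separated k-scheme of finite
type), and let x be a k-point of X with orbit map α_x : G → X. Then dim G = dim(G · x) + dim(G_x),
where G · x is the image of α_x with its subspace topology and G_x is the stabilizer, the fibre of
α_x over x; all dimensions are Krull dimensions of topological spaces. (The published statement also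
asserts that the irreducible components of G · x are precisely the G⁰-orbits it contains, all of
that dimension; that clause is not stated here.) -/
theorem result (k : Type u) [Field k] [IsAlgClosed k]
    (G X : Over (Spec (CommRingCat.of k))) [GrpObj G] [Smooth G.hom] [QuasiCompact G.hom]
    [IsReduced X.left] [IsSeparated X.hom] [LocallyOfFiniteType X.hom] [QuasiCompact X.hom]
    (a : AlgGrp.Action G X) (x : 𝟙_ (Over (Spec (CommRingCat.of k))) ⟶ X) :
    topologicalKrullDim ↥G.left =
      topologicalKrullDim ↥(Set.range (a.orbitMap x).left.base) +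
        topologicalKrullDim ↥(Limits.pullback (a.orbitMap x).left x.left) := by
  set o := a.orbitMap x with hodef
  haveI : IsLocallyNoetherian X.left := LocallyOfFiniteType.isLocallyNoetherian X.hom
  haveI : CompactSpace G.left := QuasiCompact.compactSpace_of_compactSpace G.hom
  haveI : IsReduced G.left := Groth.Agent.AV.isReduced_of_smooth_field G.hom
  haveI : QuasiCompact (o.left ≫ X.hom) := by rw [Over.w]; infer_instance
  haveI : LocallyOfFiniteType (o.left ≫ X.hom) := by rw [Over.w]; infer_instance
  haveI : QuasiCompact o.left := QuasiCompact.of_comp o.left X.hom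
  haveI : LocallyOfFiniteType o.left := locallyOfFiniteType_of_comp o.left X.hom
  -- the closure of the orbit
  let I := Scheme.IdealSheafData.vanishingIdeal (X := X.left) ⟨closure (Set.range o.left), isClosed_closure⟩
  have hI : Set.range I.subschemeι = closure (Set.range o.left) := by
    rw [Scheme.IdealSheafData.range_subschemeι, Scheme.IdealSheafData.coe_support_vanishingIdeal]
    rfl
  obtain ⟨f, hf⟩ := Groth.L19.exists_lift_of_isImmersion I.subschemeι o.left (subset_closure.trans hI.symm.subset)
  haveI : LocallyOfFiniteType (f ≫ I.subschemeι) := by rw [hf]; infer_instance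
  haveI : QuasiCompact (f ≫ I.subschemeι) := by rw [hf]; infer_instance
  haveI : LocallyOfFiniteType f := locallyOfFiniteType_of_comp f I.subschemeι
  haveI : QuasiCompact f := QuasiCompact.of_comp f I.subschemeι
  have hfd : DenseRange f.base := by
    intro y
    rw [I.subschemeι.isEmbedding.isInducing.closure_eq_preimage_closure_image, Set.mem_preimage, ← Set.range_comp]
    rw [show (I.subschemeι.base : _ → X.left) ∘ f.base = o.left.base from by rw [← hf]; rfl]
    exact hI.subset ⟨y, rfl⟩
  have hdimY : topologicalKrullDim ↥I.subscheme = topologicalKrullDim ↥(Set.range o.left) := by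
    rw [← dim_closure_orbit a x, ← hI]
    exact I.subschemeι.isEmbedding.toHomeomorph.isHomeomorph.topologicalKrullDim_eq
  -- the stabiliser
  let H : Over (Spec (CommRingCat.of k)) := Over.mk (pullback.snd o.left x.left)
  let i : H ⟶ G := Over.homMk (pullback.fst o.left x.left) (by
    show pullback.fst o.left x.left ≫ G.hom = pullback.snd o.left x.left
    rw [← Over.w o, pullback.condition_assoc, Over.w x]
    exact Category.comp_id _)
  have hH : IsPullback i (toUnit H) o x :=
    IsPullback.of_map (Over.forget _) (Over.OverMorphism.ext (pullback.condition.trans (by rw [Over.comp_left, Over.toUnit_left]; rfl)))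
      (IsPullback.of_hasPullback o.left x.left)
  have ho : ∀ {T : Over (Spec (CommRingCat.of k))} (g : T ⟶ G), g ≫ o = lift g (toUnit T ≫ x) ≫ a.act :=
    fun g => orbitMap_apply a x g
  have hfix : ∀ {T : Over (Spec (CommRingCat.of k))} (j : T ⟶ H),
      lift (j ≫ i) (toUnit T ≫ x) ≫ a.act = toUnit T ≫ x := fun j => by
    rw [← ho, Category.assoc, hH.w, ← Category.assoc, toUnit_unique (j ≫ toUnit H) (toUnit _)]
  have hmul : ∀ {T : Over (Spec (CommRingCat.of k))} (χ : T ⟶ G ⊗ H),
      χ ≫ (G ◁ i) ≫ μ[G] = (χ ≫ fst _ _) * ((χ ≫ snd _ _) ≫ i) := fun χ => by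
    rw [MonObj.mul_eq_mul, MonObj.comp_mul, MonObj.comp_mul, whiskerLeft_fst, whiskerLeft_snd, Category.assoc]
  have sq : IsPullback ((G ◁ i) ≫ μ[G]) (fst G H) o o := by
    refine IsPullback.mk' ?_ (fun T φ ψ h₁ h₂ => ?_) (fun T u v e => ?_)
    · have e := hmul (𝟙 (G ⊗ H))
      rw [Category.id_comp, Category.id_comp, Category.id_comp] at e
      rw [e, ho, ho, Groth.L25.Actions.mul_act, hfix]
    · apply CartesianMonoidalCategory.hom_ext
      · exact h₂
      · apply hH.hom_ext
        · rw [hmul, hmul, h₂] at h₁
          exact mul_left_cancel h₁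
        · exact toUnit_unique _ _
    · have e' : (v⁻¹ * u) ≫ o = toUnit T ≫ x := by
        rw [ho, Groth.L25.Actions.mul_act, ← ho u, e, ho v, Groth.L25.Actions.inv_act]
      refine ⟨lift v (hH.lift (v⁻¹ * u) (toUnit T) e'), ?_, lift_fst _ _⟩
      rw [hmul, lift_fst, lift_snd, hH.lift_fst, mul_inv_cancel_left]
  haveI : LocallyOfFiniteType x.left := by
    haveI : LocallyOfFiniteType (x.left ≫ X.hom) := by
      rw [Over.w]; exact inferInstanceAs (LocallyOfFiniteType (𝟙 (Spec (CommRingCat.of k))))
    exact locallyOfFiniteType_of_comp x.left X.hom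
  haveI : LocallyOfFiniteType H.hom := inferInstanceAs (LocallyOfFiniteType (pullback.snd o.left x.left))
  haveI : QuasiCompact H.hom := inferInstanceAs (QuasiCompact (pullback.snd o.left x.left))
  have hfib : ∀ g : G.left, topologicalKrullDim ↥(o.left.base ⁻¹' {o.left g}) = topologicalKrullDim ↥H.left := fun g => by
    have h1 := Groth.L06.FibreModel.topologicalKrullDim_fiber_eq o.left o.left (fst G H).left _ (sq.map (Over.forget _)) g
    have h2 := Groth.L06.FibreModel.topologicalKrullDim_fiber_eq H.hom G.hom (fst G H).left (snd G H).left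
      (isPullback_left G H).flip g
    rw [← Groth.L06.FibreDimLocConst.dim_fiber, ← h1, h2, Groth.L06.FibreDimLocConst.dim_fiber,
      show H.hom.base ⁻¹' {G.hom g} = Set.univ from Set.eq_univ_of_forall fun w => Subsingleton.elim (α := PrimeSpectrum k) _ _]
    exact (Homeomorph.Set.univ H.left).isHomeomorph.topologicalKrullDim_eq
  haveI : Nonempty H.left := ⟨(hH.lift 1 (toUnit _) (by
    rw [ho, act_one, toUnit_unique (toUnit (𝟙_ (Over (Spec (CommRingCat.of k))))) (𝟙 _)])).left (IsLocalRing.closedPoint k)⟩
  obtain ⟨N, hN⟩ := exists_dim_bound H.hom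
  obtain ⟨r, hr⟩ : ∃ r : ℕ, topologicalKrullDim ↥H.left = (r : WithBot ℕ∞) := by
    have h2 : (0 : WithBot ℕ∞) ≤ topologicalKrullDim ↥H.left := Groth.L06.Dim.nonneg
    generalize topologicalKrullDim ↥H.left = t at hN h2
    induction t using WithBot.recBotCoe with
    | bot => simp at h2
    | coe t =>
      obtain ⟨n, rfl⟩ := ENat.ne_top_iff_exists.1 (ne_top_of_le_ne_top (ENat.natCast_ne_top N) (WithBot.coe_le_coe.1 hN))
      exact ⟨n, rfl⟩
  have := Groth.Agent.S10884.result k (I.subschemeι ≫ X.hom) f hfd r (by
    rintro y ⟨g, hg⟩
    obtain rfl : f g = y := hg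
    have hset : f.base ⁻¹' {f g} = o.left.base ⁻¹' {o.left g} := by
      ext z
      show f z = f g ↔ o.left z = o.left g
      rw [← hf, Scheme.Hom.comp_apply, Scheme.Hom.comp_apply, I.subschemeι.isEmbedding.injective.eq_iff]
    rw [hset, hfib, hr])
  rw [this, hdimY, add_comm]
  exact congrArg _ hr.symm

end Groth.Agent.S16130
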