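import Groth.Statements.S11244
import Groth.Agent.S16130
import Groth.Agent.L18.GIT.StabDim
import Groth.Agent.L19.QuotientMap

set_option autoImplicit false
set_option backward.isDefEq.respectTransparency.types false
set_option backward.isDefEq.respectTransparency false
set_option linter.style.haveILetI false
universe u
open CategoryTheory MonoidalCategory CartesianMonoidalCategory MonObj GrpObj AlgebraicGeometry
open scoped TensorProduct
open AGF

namespace Groth.Agent.S11244

/-- Let k be an algebraically closed field, G a linear algebraic group over k (affine, smooth) acting on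
an irreducible variety X over k (reduced, separated, of finite type). For a rational point x of X
let dim G·x be the dimension of the closure of its orbit. Then for every r the set of rational
points x with dim G·x ≤ r is closed: there is a closed subset Z of X whose rational points are
exactly those x. (The second assertion, that the points of maximal orbit dimension form a dense open
subset, follows.) -/
theorem result (k : Type u) [Field k] [IsAlgClosed k]
    (G : Over (Spec (CommRingCat.of k))) [GrpObj G] [IsAffine G.left] [Smooth G.hom]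
    (X : Over (Spec (CommRingCat.of k))) [IrreducibleSpace ↥X.left] [IsReduced X.left]
    [IsSeparated X.hom] [LocallyOfFiniteType X.hom] [QuasiCompact X.hom]
    (a : AlgGrp.Action G X) (r : ℕ) :
    ∃ Z : Set ↥X.left, IsClosed Z ∧
      ∀ x : 𝟙_ (Over (Spec (CommRingCat.of k))) ⟶ X,
        topologicalKrullDim ↥(closure (Set.range ⇑(a.orbitMap x).left.base)) ≤ (r : WithBot ℕ∞) ↔
          Set.range ⇑x.left.base ⊆ Z := by
  haveI : QuasiCompact G.hom := inferInstance
  haveI : LocallyOfFiniteType G.hom := inferInstance
  haveI : IsSeparated G.hom := inferInstance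
  obtain ⟨N, hN⟩ := Groth.L19.AlgGrpBasic.exists_dim_bound G.hom
  haveI : Nonempty G.left := ⟨(η[G] : 𝟙_ _ ⟶ G).left (IsLocalRing.closedPoint k)⟩
  obtain ⟨nG, hnG⟩ : ∃ n : ℕ, topologicalKrullDim G.left = (n : WithBot ℕ∞) := by
    have h2 : (0 : WithBot ℕ∞) ≤ topologicalKrullDim G.left := Groth.L06.Dim.nonneg
    generalize topologicalKrullDim G.left = t at hN h2
    induction t using WithBot.recBotCoe with
    | bot => simp at h2
    | coe t =>
      obtain ⟨n, rfl⟩ := ENat.ne_top_iff_exists.1 (ne_top_of_le_ne_top (ENat.natCast_ne_top N) (WithBot.coe_le_coe.1 hN))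
      exact ⟨n, rfl⟩
  refine ⟨{z : X.left | ((nG - r : ℕ) : WithBot ℕ∞) ≤ topologicalKrullDim
      (GLinSh.stab a (Over.homMk (X.left.fromSpecResidueField z) rfl :
        Over.mk (X.left.fromSpecResidueField z ≫ X.hom) ⟶ X))}, Groth.L18.GITStab.isClosed_setOf_le a _, fun x => ?_⟩
  set o := a.orbitMap x with ho
  set x' : X.left := x.left (IsLocalRing.closedPoint k) with hx'
  have hrx : Set.range x.left = {x'} := by
    refine Set.Subset.antisymm ?_ (Set.singleton_subset_iff.2 ⟨_, rfl⟩)
    rintro _ ⟨z, rfl⟩
    exact congrArg x.left (Subsingleton.elim (α := PrimeSpectrum k) z (IsLocalRing.closedPoint k))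
  -- the stabiliser of the rational point
  have hdim : topologicalKrullDim (GLinSh.stab a (Over.homMk (X.left.fromSpecResidueField x') rfl :
      Over.mk (X.left.fromSpecResidueField x' ≫ X.hom) ⟶ X)) =
      topologicalKrullDim ↥(Limits.pullback o.left x.left) := by
    rw [Groth.L18.GITStab.krullDim_stab_eq]
    obtain ⟨s, hs⟩ := Groth.L18.GITStab.exists_isPullback_stab a x
    haveI : IsClosedImmersion x.left := by
      haveI : IsClosedImmersion (x.left ≫ X.hom) := by
        rw [Over.w x]; exact inferInstanceAs (IsClosedImmersion (𝟙 _))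
      exact IsClosedImmersion.of_comp x.left X.hom
    haveI : IsClosedImmersion s :=
      MorphismProperty.of_isPullback (P := @IsClosedImmersion) hs.flip inferInstance
    set q := GLinSh.stabTo a (𝟙 X)
    have hr : Set.range s = q ⁻¹' {x'} := by
      have h := Scheme.image_preimage_eq_of_isPullback hs.flip Set.univ
      rw [Set.preimage_univ, Set.image_univ, Set.image_univ] at h
      rw [h, hrx]
    have e1 : topologicalKrullDim (q.fiber x') = topologicalKrullDim ↥(GLinSh.stab a x) :=
      (((q.fiberHomeo x').trans (Homeomorph.setCongr hr.symm)).trans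
        s.isEmbedding.toHomeomorph.symm).isHomeomorph.topologicalKrullDim_eq
    rw [e1]
    have h1 : (ρ_ G).hom ≫ o = (G ◁ x) ≫ a.act := by
      rw [ho, AlgGrp.Action.orbitMap, comp_lift_assoc, Category.comp_id]
      congr 1
      ext1
      · rw [lift_fst, whiskerLeft_fst, rightUnitor_hom]
      · rw [lift_snd, whiskerLeft_snd, ← Category.assoc, toUnit_unique ((ρ_ G).hom ≫ toUnit G) (snd G (𝟙_ _))]
    let φ : GLinSh.stab a x ⟶ Limits.pullback o.left x.left := Limits.pullback.map (GIT.psi a x).left (lift x (𝟙 _)).left o.left x.left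
      (ρ_ G).hom.left (𝟙 _) (ρ_ X).hom.left
      (by rw [← Over.comp_left, ← Over.comp_left, h1, GIT.psi, rightUnitor_hom, lift_fst])
      (by rw [Category.id_comp, ← Over.comp_left, rightUnitor_hom, lift_fst])
    haveI : IsIso φ := inferInstance
    exact φ.homeomorph.isHomeomorph.topologicalKrullDim_eq
  have hadd := Groth.Agent.S16130.result k G X a x
  rw [← ho] at hadd
  show topologicalKrullDim ↥(closure (Set.range o.left)) ≤ _ ↔ _
  rw [Groth.L19.AlgGrpBasic.dim_closure_orbit a x, ← ho, show Set.range ⇑x.left.base = {x'} from hrx,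
    Set.singleton_subset_iff, Set.mem_ofPred_eq, hdim]
  have h1 : (0 : WithBot ℕ∞) ≤ topologicalKrullDim ↥(Set.range o.left) := by
    haveI : Nonempty ↥(Set.range o.left) := ⟨⟨_, Classical.arbitrary G.left, rfl⟩⟩
    exact Groth.L06.Dim.nonneg
  have h2 : (0 : WithBot ℕ∞) ≤ topologicalKrullDim ↥(Limits.pullback o.left x.left) := by
    have hne : (1 : 𝟙_ _ ⟶ G).left ≫ o.left = x.left := by
      rw [← Over.comp_left]
      congr 1
      rw [ho, Groth.L19.QuotientMap.orbit_apply, toUnit_unique (toUnit (𝟙_ _)) (𝟙 _), Category.id_comp]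
      exact Groth.L25.Actions.one_act a x
    haveI : Nonempty ↥(Limits.pullback o.left x.left) :=
      ⟨(Limits.pullback.lift (1 : 𝟙_ _ ⟶ G).left (𝟙 _) (by rw [Category.id_comp, hne]))
        (IsLocalRing.closedPoint k)⟩
    exact Groth.L06.Dim.nonneg
  change topologicalKrullDim G.left = topologicalKrullDim ↥(Set.range o.left) + _ at hadd
  rw [hnG] at hadd
  generalize topologicalKrullDim ↥(Set.range o.left) = dO at hadd h1 ⊢
  generalize topologicalKrullDim ↥(Limits.pullback o.left x.left) = dS at hadd h2 ⊢
  induction dO using WithBot.recBotCoe with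
  | bot => simp at h1
  | coe dO =>
    induction dS using WithBot.recBotCoe with
    | bot => simp at h2
    | coe dS =>
      have h : (nG : ℕ∞) = dO + dS := WithBot.coe_inj.1 hadd
      obtain ⟨o', rfl⟩ := ENat.ne_top_iff_exists.1 (show dO ≠ ⊤ by rintro rfl; simp at h)
      obtain ⟨s', rfl⟩ := ENat.ne_top_iff_exists.1 (show dS ≠ ⊤ by rintro rfl; simp at h)
      have h' : nG = o' + s' := by exact_mod_cast h
      show ((o' : ℕ) : WithBot ℕ∞) ≤ (r : WithBot ℕ∞) ↔ ((nG - r : ℕ) : WithBot ℕ∞) ≤ ((s' : ℕ) : WithBot ℕ∞)
      rw [Nat.cast_le, Nat.cast_le]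
      omega

end Groth.Agent.S11244
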