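import Groth.Statements.S11245
import Groth.Agent.L25.Observable.UnipFixed
import Groth.Agent.L14.RedLR.Main
import Groth.Agent.L20.RepTensor.Group
import Groth.Agent.L08.FlagGroup
import Mathlib.AlgebraicGeometry.AlgClosed.Basic

set_option autoImplicit false
universe u
open CategoryTheory MonoidalCategory CartesianMonoidalCategory MonObj GrpObj AlgebraicGeometry
open scoped TensorProduct
open AGF

set_option backward.isDefEq.respectTransparency.types false
section Aux
open Groth.L25.Observable WithConv CategoryTheory.Limits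

variable {k : Type u} [Field k] [IsAlgClosed k] {G : Over (Spec (CommRingCat.of k))} [GrpObj G]

/-- Coaction of a chart computing the action of rational points. -/
theorem exists_comod_chart [IsAffine G.left] [Smooth G.hom] {V : Type u} [AddCommGroup V] [Module k V]
    (ρ : VecGrp.GMod G V) :
    ∃ (A : Type u) (_ : CommRing A) (_ : HopfAlgebra k A) (_ : Algebra.FiniteType k A) (_ : _root_.IsReduced A)
      (ψ : G ⟶ Sp k A) (_ : IsMonHom ψ) (_ : IsIso ψ) (cV : HopfRep.Comod k A V),
      letI := cV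
      ∀ (g : VecGrp.pt k k ⟶ G) (v : V), ptAct ρ g v = Groth.L08.fAct V (ev ψ g).ofConv.toLinearMap v := by
  classical
  obtain ⟨A, _, _, ψ, hft, hred, _, _⟩ := exists_chart G
  haveI : IsMonHom (asIso ψ).hom := inferInstanceAs (IsMonHom ψ)
  haveI : IsMonHom (inv ψ) := inferInstanceAs (IsMonHom (asIso ψ).inv)
  let m : VecGrp.GMod ((Spec (CommRingCat.of A)).asOver (Spec (CommRingCat.of k))) V :=
    { ρ := fun B _ _ => MonoidHom.mk' (fun g => ρ.ρ B (g ≫ inv ψ)) fun g g' => by
        rw [MonObj.mul_comp, map_mul]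
      naturality := fun φ g x => by
        show VecGrp.Wmap φ (ρ.ρ _ (g ≫ inv ψ) x) = ρ.ρ _ ((VecGrp.ptMap φ ≫ g) ≫ inv ψ) _
        rw [Category.assoc]
        exact ρ.naturality φ _ x }
  obtain ⟨δ, ⟨⟨h₁, h₂⟩, hδ⟩, -⟩ := Groth.L25.ComodGMod.exists_coact m
  refine ⟨A, inferInstance, inferInstance, hft, hred, ψ, ‹_›, ‹_›, ⟨δ, h₁, h₂⟩, fun g v => ?_⟩
  letI cV : HopfRep.Comod k A V := ⟨δ, h₁, h₂⟩
  have h := hδ k (g ≫ ψ) v
  rw [Groth.L25.ComodGMod.T_apply] at h
  have h' : m.ρ k (g ≫ ψ) ((1 : k) ⊗ₜ[k] v) = ρ.ρ k ((g ≫ ψ) ≫ inv ψ) ((1 : k) ⊗ₜ[k] v) := rfl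
  rw [h', Category.assoc g ψ, IsIso.hom_inv_id, Category.comp_id, ptAct_spec] at h
  have h2 := congrArg (TensorProduct.lid k V) h
  rw [TensorProduct.lid_tmul, one_smul] at h2
  rw [h2, Groth.L08.fAct_apply]
  show _ = (TensorProduct.rid k V) ((ev ψ g).ofConv.toLinearMap.lTensor V (δ v))
  have e : Groth.L25.ComodGMod.hom (g ≫ ψ) = ev ψ g := rfl
  rw [e]
  generalize δ v = z
  induction z using TensorProduct.induction_on with
  | zero => simp
  | add p q hp hq => simp only [map_add, hp, hq]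
  | tmul p q => simp

/-- The rational points of an open subgroup have finite index. -/
theorem finiteIndex_range [IsAffine G.left] [Smooth G.hom] {G₀ : Over (Spec (CommRingCat.of k))} [GrpObj G₀]
    (j : G₀ ⟶ G) [IsMonHom j] [IsOpenImmersion j.left]
    (N : Subgroup (VecGrp.pt k k ⟶ G)) (hN : ∀ x, x ∈ N ↔ ∃ x₀, x₀ ≫ j = x) : N.FiniteIndex := by
  classical
  let R : (VecGrp.pt k k ⟶ G) → (G ⟶ G) := fun y =>
    𝟙 G * (Over.homMk G.hom (by
      rw [show (VecGrp.pt k k).hom = 𝟙 (Spec (CommRingCat.of k)) from Spec.map_id (CommRingCat.of k)]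
      exact Category.comp_id _) ≫ y)
  have hR : ∀ x y : VecGrp.pt k k ⟶ G, x ≫ R y = x * y := fun x y => by
    show x ≫ (𝟙 G * _) = _
    rw [MonObj.comp_mul, Category.comp_id, ← Category.assoc]
    refine congrArg (fun e => x * (e ≫ y)) (pt_endo _) |>.trans ?_
    rw [Category.id_comp]
  let O : (VecGrp.pt k k ⟶ G) → Set G.left := fun y => (R y⁻¹).left ⁻¹' Set.range j.left
  have hO : ∀ y, IsOpen (O y) := fun y => j.left.isOpenEmbedding.isOpen_range.preimage (R y⁻¹).left.continuous
  have hmem : ∀ (x y : VecGrp.pt k k ⟶ G) (p : (VecGrp.pt k k).left), x.left p ∈ O y → x * y⁻¹ ∈ N := by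
    intro x y p hp
    have hr : Set.range (x ≫ R y⁻¹).left ⊆ Set.range j.left := by
      rintro _ ⟨q, rfl⟩
      haveI : Subsingleton (VecGrp.pt k k).left := inferInstanceAs (Subsingleton (PrimeSpectrum k))
      rw [Subsingleton.elim q p, Over.comp_left, Scheme.Hom.comp_apply]
      exact hp
    rw [← hR, hN]
    refine ⟨Over.homMk (IsOpenImmersion.lift j.left (x ≫ R y⁻¹).left hr) ?_, ?_⟩
    · rw [← Over.w j, ← Category.assoc, IsOpenImmersion.lift_fac]
      exact Over.w (x ≫ R y⁻¹)
    · exact Over.OverMorphism.ext (IsOpenImmersion.lift_fac _ _ _)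
  let Z : Set G.left := (⋃ y, O y)ᶜ
  have hZ : Z = ∅ := by
    by_contra hne
    haveI : JacobsonSpace G.left := LocallyOfFiniteType.jacobsonSpace G.hom
    obtain ⟨p, hpZ, hp⟩ := nonempty_inter_closedPoints (X := G.left) (Z := Z)
      (Set.nonempty_iff_ne_empty.2 hne) (isOpen_iUnion hO).isClosed_compl.isLocallyClosed
    let σ := pointOfClosedPoint G.hom p hp
    let x : VecGrp.pt k k ⟶ G := Over.homMk σ (by
      rw [show (VecGrp.pt k k).hom = 𝟙 (Spec (CommRingCat.of k)) from Spec.map_id (CommRingCat.of k)]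
      exact pointOfClosedPoint_comp G.hom p hp)
    let q : (VecGrp.pt k k).left := (IsLocalRing.closedPoint k : PrimeSpectrum k)
    have hxq : x.left q = p := by
      show (Spec.map (residueFieldIsoBase G.hom p hp).hom ≫ G.left.fromSpecResidueField p) q = p
      rw [Scheme.Hom.comp_apply]; exact Scheme.fromSpecResidueField_apply _ _
    refine hpZ (Set.mem_iUnion.2 ⟨x, ?_⟩)
    show (R x⁻¹).left p ∈ Set.range j.left
    rw [← hxq, ← Scheme.Hom.comp_apply, ← Over.comp_left, hR, mul_inv_cancel]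
    refine ⟨(1 : VecGrp.pt k k ⟶ G₀).left q, ?_⟩
    rw [← Scheme.Hom.comp_apply, ← Over.comp_left, MonObj.one_comp]
  have hcov : (Set.univ : Set G.left) ⊆ ⋃ y, O y := fun p _ => by
    by_contra h; exact (Set.eq_empty_iff_forall_notMem.1 hZ p) h
  obtain ⟨F, hF⟩ := isCompact_univ.elim_finite_subcover O hO hcov
  haveI : Finite ((VecGrp.pt k k ⟶ G) ⧸ N) := by
    refine Finite.of_surjective (fun y : F => QuotientGroup.mk (y : VecGrp.pt k k ⟶ G)⁻¹) fun c => ?_
    obtain ⟨x, rfl⟩ := QuotientGroup.mk_surjective c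
    let q : (VecGrp.pt k k).left := (IsLocalRing.closedPoint k : PrimeSpectrum k)
    obtain ⟨y, hy, hxy⟩ := Set.mem_iUnion₂.1 (hF (Set.mem_univ (x⁻¹.left q)))
    refine ⟨⟨y, hy⟩, QuotientGroup.eq.2 ?_⟩
    have := hmem x⁻¹ y q hxy
    rw [show (y⁻¹)⁻¹ * x = (x⁻¹ * y⁻¹)⁻¹ by group]
    exact N.inv_mem this
  exact Subgroup.finiteIndex_of_finite_quotient

end Aux

namespace Groth.Agent.S11245

/-- Let k be an algebraically closed field of characteristic zero, G a linear algebraic group over k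
(affine, smooth) whose identity component is reductive, B a Borel subgroup with unipotent radical U.
Then every rational G-module V equals G·V^U, the intersection of all G-stable subspaces of V
containing the U-invariants V^U. (In characteristic zero every finite-dimensional rational G-module
is completely reducible, a classical result on which the proof rests.) -/
theorem result (k : Type u) [Field k] [IsAlgClosed k] [CharZero k]
    (G : Over (Spec (CommRingCat.of k))) [GrpObj G] (hG : VecGrp.IsReductiveGrp k G)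
    (Bo : Over (Spec (CommRingCat.of k))) [GrpObj Bo] (iB : Bo ⟶ G) (hB : Red.IsBorelOver k iB)
    (U : Over (Spec (CommRingCat.of k))) [GrpObj U] (u : U ⟶ Bo) (hU : Par.IsUnipotentRadical u)
    (V : Type u) [AddCommGroup V] [Module k V] (ρ : VecGrp.GMod G V) :
    sInf {W : Submodule k V | ρ.fixedUnder (u ≫ iB) ≤ W ∧ ρ.IsStable (𝟙 G) W} = ⊤ := by
  classical
  obtain ⟨hGa, hGs, G₀, _, j, hj, hjo, hR₀⟩ := hG
  haveI := hGa; haveI := hGs; haveI := hj; haveI := hjo
  obtain ⟨hR₀a, hR₀s, hR₀c, -⟩ := id hR₀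
  haveI := hR₀a; haveI := hR₀s; haveI := hR₀c
  haveI := hB.1; haveI := hB.2.1; haveI := hB.2.2.1
  haveI := hU.1; haveI := hU.2.1
  haveI : IsAffine Bo.left := isAffine_of_isAffineHom iB.left
  haveI : IsAffine U.left := isAffine_of_isAffineHom u.left
  haveI : Smooth U.hom := hU.2.2.2.1
  obtain ⟨hUc, hUn, hUsol⟩ := Groth.L25.Observable.props_of_unipotentRadical hB.2.2.2.2.1 u hU
  haveI := hUc; haveI := hUsol
  refine eq_top_iff.2 (le_sInf fun W hW => ?_)
  obtain ⟨hfixW, hWst⟩ := hW
  intro v _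
  -- the action of rational points
  let θ : Representation k (VecGrp.pt k k ⟶ G) V :=
    { toFun := fun g => Groth.L25.Observable.ptAct ρ g
      map_one' := LinearMap.ext fun x => Groth.L25.Observable.ptAct_one ρ x
      map_mul' := fun g g' => LinearMap.ext fun x => Groth.L25.Observable.ptAct_mul ρ g g' x }
  have hWpt : ∀ g, ∀ x ∈ W, θ g x ∈ W := by
    intro g x hx
    have h := hWst k g x hx
    rw [Category.comp_id, Groth.L25.Observable.ptAct_spec] at h
    show Groth.L25.Observable.ptAct ρ g x ∈ W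
    suffices ∀ z ∈ W.baseChange k, TensorProduct.lid k V z ∈ W by simpa using this _ h
    intro z hz
    rw [Submodule.baseChange_eq_span] at hz
    induction hz using Submodule.span_induction with
    | mem y hy => obtain ⟨w, hw, rfl⟩ := hy; simpa using hw
    | zero => simp
    | add _ _ _ _ ha hb => rw [map_add]; exact add_mem ha hb
    | smul c _ _ ha => rw [map_smul]; exact W.smul_mem c ha
  obtain ⟨A, _, _, _, _, ψ, _, _, cA, hcA⟩ := exists_comod_chart ρ
  obtain ⟨F, hFfin, hvF, hFst⟩ : ∃ F : Submodule k V, Module.Finite k F ∧ v ∈ F ∧ ∀ g, ∀ x ∈ F, θ g x ∈ F := by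
    letI := cA
    obtain ⟨C, h1, h2, h3⟩ := Groth.L08.exists_finite_subcomod (k := k) (A := A) v
    exact ⟨C, h1, h2, fun g x hx => (hcA g x).symm ▸ Groth.L08.isSubcomod_iff.1 h3 _ x hx⟩
  -- the identity component
  haveI : IsMonHom j := hj
  let ρ₀ : VecGrp.GMod G₀ V :=
    { ρ := fun B _ _ => MonoidHom.mk' (fun g => ρ.ρ B (g ≫ j)) fun g g' => by rw [MonObj.mul_comp, map_mul]
      naturality := fun φ g x => by
        show VecGrp.Wmap φ (ρ.ρ _ (g ≫ j) x) = ρ.ρ _ ((VecGrp.ptMap φ ≫ g) ≫ j) _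
        rw [Category.assoc]
        exact ρ.naturality φ _ x }
  obtain ⟨A₀, _, _, _, _, ψ₀, _, _, c₀, hc₀⟩ := exists_comod_chart ρ₀
  have hLR : HopfRep.IsLinearlyReductive k A₀ := by
    refine Groth.L14.RedLR.isLinearlyReductive_of_isReductiveOver ?_
    haveI : IsMonHom (asIso ψ₀).hom := inferInstanceAs (IsMonHom ψ₀)
    exact Groth.L14.RedLR.isReductiveOver_congr (Grp.mkIso' (asIso ψ₀)) hR₀
  let Φ₀ : (VecGrp.pt k k ⟶ G₀) →* WithConv (A₀ →ₐ[k] k) :=
    { toFun := Groth.L25.Observable.ev ψ₀, map_one' := Groth.L25.Observable.ev_one ψ₀,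
      map_mul' := Groth.L25.Observable.ev_mul ψ₀ }
  have hsep : Groth.L20.RepTensor.Separating Φ₀ := fun a ha =>
    Groth.L25.Observable.eq_of_forall_ev ψ₀ fun x => by rw [map_zero]; exact ha x
  let N : Subgroup (VecGrp.pt k k ⟶ G) :=
    (MonoidHom.mk' (fun x : VecGrp.pt k k ⟶ G₀ => x ≫ j) fun a b => MonObj.mul_comp a b j).range
  haveI : N.FiniteIndex := finiteIndex_range j N fun x => Iff.rfl
  let θF : Representation k (VecGrp.pt k k ⟶ G) F :=
    { toFun := fun g => (θ g).restrict (hFst g)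
      map_one' := LinearMap.ext fun x => Subtype.ext (by simp)
      map_mul' := fun g g' => LinearMap.ext fun x => Subtype.ext (by simp) }
  have hFss : Groth.L20.RepTensor.IsSS θF := by
    refine Groth.L20.RepTensor.IsSS.of_finiteIndex N ?_
    have hsub : @HopfRep.IsSubcomod k A₀ _ _ _ _ V _ _ c₀ F := by
      letI := c₀
      refine Groth.L20.RepTensor.isSubcomod_of_stable hsep
        (θ.comp (MonoidHom.mk' (fun x : VecGrp.pt k k ⟶ G₀ => x ≫ j) fun a b => MonObj.mul_comp a b j))
        (fun g x => (hc₀ g x).symm) F fun g x hx => hFst _ x hx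
    letI := c₀
    letI cF := ComodSub.Comod.restr c₀ F hsub
    haveI := hFfin
    have h0 : Groth.L20.RepTensor.IsSS
        (θF.comp (MonoidHom.mk' (fun x : VecGrp.pt k k ⟶ G₀ => x ≫ j) fun a b => MonObj.mul_comp a b j)) := by
      refine Groth.L20.RepTensor.isSS_of_isSemisimpleComod hsep _ (fun g x => Subtype.ext ?_) (hLR F inferInstance)
      rw [← Submodule.subtype_apply, Groth.L08.fAct_comm_of_isComodHom (ComodSub.isComodHom_subtype _ F hsub)]
      exact (hc₀ g (x : V)).symm
    intro S hS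
    obtain ⟨T, hT, hc⟩ := h0 S fun g x hx => hS ⟨g ≫ j, g, rfl⟩ x hx
    exact ⟨T, fun n x hx => by
      obtain ⟨_, g, rfl⟩ := n
      exact hT g x hx, hc⟩
  obtain ⟨T, hT, hcT⟩ := hFss (W.comap F.subtype) fun g x hx => hWpt g _ hx
  have hbot : T.map F.subtype = ⊥ := by
    by_contra hne
    obtain ⟨w, hw, hw0, hfix⟩ := Groth.L25.Observable.exists_fixed_ne_zero hUn (u ≫ iB) ρ (T.map F.subtype)
      (fun g x hx => by
        obtain ⟨y, hy, rfl⟩ := hx
        exact ⟨θF (g ≫ u ≫ iB) y, hT _ y hy, rfl⟩) hne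
    obtain ⟨y, hy, rfl⟩ := hw
    exact hw0 (by
      rw [Submodule.disjoint_def.1 hcT.disjoint y (hfixW hfix) hy, map_zero])
  replace hbot : T = ⊥ := Submodule.map_injective_of_injective F.injective_subtype (hbot.trans (Submodule.map_bot _).symm)
  have := hcT.codisjoint.eq_top
  rw [hbot, sup_bot_eq] at this
  exact (show (⟨v, hvF⟩ : F) ∈ W.comap F.subtype from this ▸ Submodule.mem_top)


end Groth.Agent.S11245
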