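import Groth.Statements.S11246
import Groth.Agent.L16.FracEigen.Main
import Groth.Agent.L14.Luna.Radical
import Groth.Agent.L14.RankOne.PowHom

set_option autoImplicit false
universe u
open CategoryTheory MonoidalCategory CartesianMonoidalCategory MonObj GrpObj AlgebraicGeometry
open scoped TensorProduct
open AGF Groth.L25.Observable

namespace Groth.Agent.S11246

/-- Let k be an algebraically closed field and H a connected solvable linear algebraic group over k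
(affine, smooth, connected, solvable) with maximal torus T and unipotent radical U (so H = T·U),
acting rationally by algebra automorphisms on a commutative k-algebra A which is an integral domain.
Let χ be a character of H and let a₀, b₀ ∈ A, b₀ ≠ 0, be such that H acts on the fraction a₀/b₀
through χ: (h·a₀)·b₀ = χ(h)·a₀·(h·b₀) for every point h of H. Then there are U-invariant elements a,
b ∈ A with b ≠ 0 and a·b₀ = b·a₀ (so a₀/b₀ = a/b), and a character θ of T such that b is a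
T-semi-invariant of weight θ and a is a T-semi-invariant of weight θ + χ|_T. -/
theorem result (k : Type u) [Field k] [IsAlgClosed k]
    (H : Over (Spec (CommRingCat.of k))) [GrpObj H] [IsAffine H.left] [Smooth H.hom] [ConnectedSpace H.left]
    (hsolv : Red.IsSolvableGrp H)
    (T : Over (Spec (CommRingCat.of k))) [GrpObj T] (iT : T ⟶ H) [IsMonHom iT] (hT : AGF.IsMaxTorus iT)
    (U : Over (Spec (CommRingCat.of k))) [GrpObj U] (uH : U ⟶ H) (hU : Par.IsUnipotentRadical uH)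
    (χ : H ⟶ Red.Gm (Spec (CommRingCat.of k))) [IsMonHom χ]
    (A : Type u) [CommRing A] [IsDomain A] [Algebra k A] (ρ : VecGrp.GMod H A) (hρ : ρ.IsMult)
    (a₀ b₀ : A) (hb₀ : b₀ ≠ 0)
    (hχ : ∀ (B : Type u) [CommRing B] [Algebra k B] (h : VecGrp.pt k B ⟶ H),
      ρ.ρ B h ((1 : B) ⊗ₜ[k] a₀) * ((1 : B) ⊗ₜ[k] b₀) =
        VecGrp.chiVal χ h • (((1 : B) ⊗ₜ[k] a₀) * ρ.ρ B h ((1 : B) ⊗ₜ[k] b₀))) :
    ∃ a b : A, a ∈ ρ.fixedUnder uH ∧ b ∈ ρ.fixedUnder uH ∧ b ≠ 0 ∧ a * b₀ = b * a₀ ∧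
      ∃ θ : T ⟶ Red.Gm (Spec (CommRingCat.of k)), IsMonHom θ ∧
        (∀ (B : Type u) [CommRing B] [Algebra k B] (t : VecGrp.pt k B ⟶ T),
          ρ.ρ B (t ≫ iT) ((1 : B) ⊗ₜ[k] b) = VecGrp.chiVal θ t • ((1 : B) ⊗ₜ[k] b)) ∧
        (∀ (B : Type u) [CommRing B] [Algebra k B] (t : VecGrp.pt k B ⟶ T),
          ρ.ρ B (t ≫ iT) ((1 : B) ⊗ₜ[k] a) =
            (VecGrp.chiVal θ t * VecGrp.chiVal χ (t ≫ iT)) • ((1 : B) ⊗ₜ[k] a)) := by
  classical
  haveI := hU.1; haveI := hU.2.1; haveI := hU.2.2.2.1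
  haveI : IsAffine U.left := isAffine_of_isAffineHom uH.left
  obtain ⟨hUc, hUns, hUsol⟩ := props_of_unipotentRadical hsolv uH hU
  haveI := hUc; haveI := hUsol
  obtain ⟨hTa, hTs, -, -, hTcomm⟩ := Groth.L08.Borel.torus_props hT.2.2.1
  haveI := hTa; haveI := hTs
  have hne : ∀ (g : VecGrp.pt k k ⟶ H), ptAct ρ g b₀ ≠ 0 := fun g e => hb₀ (by
    rw [← ptAct_one ρ b₀, ← inv_mul_cancel g, ptAct_mul, e, map_zero])
  have hpt : ∀ g : VecGrp.pt k k ⟶ H, ptAct ρ g a₀ * b₀ = VecGrp.chiVal χ g • (a₀ * ptAct ρ g b₀) := fun g => by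
    have e := hχ k g
    rw [ptAct_spec, ptAct_spec, Algebra.TensorProduct.tmul_mul_tmul, Algebra.TensorProduct.tmul_mul_tmul,
      _root_.mul_one] at e
    have e2 := congrArg (TensorProduct.lid k A) e
    rw [map_smul, TensorProduct.lid_tmul, TensorProduct.lid_tmul, one_smul, one_smul] at e2
    exact e2
  have hmove : ∀ (g : VecGrp.pt k k ⟶ H) (a b : A), a * b₀ = b * a₀ →
      ptAct ρ g a * b₀ = (VecGrp.chiVal χ g • ptAct ρ g b) * a₀ := by
    intro g a b e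
    have e1 := congrArg (ptAct ρ g) e
    rw [ptAct_map_mul ρ hρ, ptAct_map_mul ρ hρ] at e1
    refine mul_right_cancel₀ (hne g) ?_
    calc ptAct ρ g a * b₀ * ptAct ρ g b₀ = (ptAct ρ g a * ptAct ρ g b₀) * b₀ := by ring
      _ = ptAct ρ g b * (ptAct ρ g a₀ * b₀) := by rw [e1]; ring
      _ = _ := by rw [hpt g, Algebra.mul_smul_comm, Algebra.smul_mul_assoc, Algebra.smul_mul_assoc]; congr 1; ring
  let J : Submodule k A :=
    { carrier := {b | ∃ a, a * b₀ = b * a₀}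
      zero_mem' := ⟨0, by simp⟩
      add_mem' := fun ⟨a, e⟩ ⟨a', e'⟩ => ⟨a + a', by rw [add_mul, add_mul, e, e']⟩
      smul_mem' := fun c _ ⟨a, e⟩ => ⟨c • a, by rw [Algebra.smul_mul_assoc, Algebra.smul_mul_assoc, e]⟩ }
  have hJ : ∀ (g : VecGrp.pt k k ⟶ H), ∀ b ∈ J, ptAct ρ g b ∈ J := by
    intro g b ⟨a, e⟩
    refine ⟨(VecGrp.chiVal χ g)⁻¹ • ptAct ρ g a, ?_⟩
    rw [Algebra.smul_mul_assoc, hmove g a b e, Algebra.smul_mul_assoc, smul_smul,
      inv_mul_cancel₀ (chiVal_inv_eq χ g).1, one_smul]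
  obtain ⟨w, hw, hw0, hwfix⟩ := exists_fixed_ne_zero hUns uH ρ J (fun g => hJ (g ≫ uH))
    (fun e => hb₀ ((Submodule.mem_bot k).1 (e ▸ (⟨a₀, mul_comm a₀ b₀⟩ : b₀ ∈ J))))
  have hfixpt : ∀ x ∈ ρ.fixedUnder uH, ∀ u : VecGrp.pt k k ⟶ U, ptAct ρ (u ≫ uH) x = x := fun x hx u => by
    have e := hx k u
    rw [ptAct_spec] at e
    simpa using congrArg (TensorProduct.lid k A) e
  let W : Submodule k A := J ⊓ ρ.fixedUnder uH
  have hW : ∀ γ : VecGrp.pt k k ⟶ T, ∀ x ∈ W, ptAct ρ (γ ≫ iT) x ∈ W := by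
    intro γ x hx
    refine ⟨hJ _ x hx.1, mem_fixedUnder_of_pts' uH ρ _ fun u => ?_⟩
    obtain ⟨u', hu'⟩ := hU.2.2.1 _ (γ ≫ iT)⁻¹ u
    rw [_root_.inv_inv] at hu'
    rw [ptAct_spec, ← ptAct_mul, show (u ≫ uH) * (γ ≫ iT) = (γ ≫ iT) * (u' ≫ uH) by rw [← hu']; group,
      ptAct_mul, hfixpt x hx.2 u']
  obtain ⟨b, hb, hb0, θ, hθ, hθb⟩ := Groth.L16.FracEigen.exists_eigen_of_comm ρ iT (fun a b => hTcomm _ a b) W hW
    (fun e => hw0 ((Submodule.mem_bot k).1 (e ▸ (⟨hw, hwfix⟩ : w ∈ W))))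
  obtain ⟨a, ha⟩ := hb.1
  have hχU : uH ≫ χ = 1 := by
    refine Groth.L14.Luna.hom_torus_eq_one ?_ hUns (Groth.L14.RankOne.isTorus_gm) (uH ≫ χ)
    haveI : Mono uH := Over.mono_of_mono_left uH
    exact Groth.L08.Borel.isSolvableGrp_of_mono uH hsolv
  have key : ∀ (g : VecGrp.pt k k ⟶ H) (c : k), ptAct ρ g b = c • b →
      ptAct ρ g a = (c * VecGrp.chiVal χ g) • a := by
    intro g c e
    refine mul_right_cancel₀ hb₀ ?_
    rw [hmove g a b ha, e, smul_smul, Algebra.smul_mul_assoc, Algebra.smul_mul_assoc, ha, mul_comm c]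
  have hχu : ∀ u : VecGrp.pt k k ⟶ U, VecGrp.chiVal χ (u ≫ uH) = 1 := fun u => by
    have e : VecGrp.chiVal χ (u ≫ uH) = VecGrp.chiVal (uH ≫ χ) u := by
      show (Scheme.ΓSpecIso (CommRingCat.of k)).hom (Red.gmFn ((u ≫ uH) ≫ χ)) = _
      rw [Category.assoc]
      rfl
    rw [e, hχU, chiVal_eq, GmPts.unitOfPt_one, Units.val_one, val_one]
  refine ⟨a, b, mem_fixedUnder_of_pts' uH ρ a fun u => ?_, hb.2, hb0, ha, θ, hθ, fun B _ _ t => ?_, fun B _ _ t => ?_⟩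
  · rw [ptAct_spec, key _ 1 (by rw [hfixpt b hb.2 u, one_smul]), hχu, _root_.mul_one, one_smul]
  · rw [Groth.L16.FracEigen.eigen_of_pts ρ iT b (GmPts.unitOfPt θ : Γ(T.left, ⊤))
      (fun γ => by rw [← chiVal_eq, hθb]) B t, ← chiVal_eq]
  · rw [Groth.L16.FracEigen.eigen_of_pts ρ iT a
      ((GmPts.unitOfPt θ : Γ(T.left, ⊤)) * iT.left.appTop (GmPts.unitOfPt χ : Γ(H.left, ⊤)))
      (fun γ => by rw [val_mul, ← chiVal_eq, ← val_comp, ← chiVal_eq]; exact key _ _ (hθb γ)) B t,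
      val_mul, ← chiVal_eq, ← val_comp, ← chiVal_eq]
end Groth.Agent.S11246
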