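import Groth.Statements.S11247
import Groth.Agent.L16.HwFun.Setting

set_option autoImplicit false
universe u
open CategoryTheory MonoidalCategory CartesianMonoidalCategory MonObj GrpObj AlgebraicGeometry
open scoped TensorProduct
open AGF

namespace Groth.Agent.S11247

/-- Let k be an algebraically closed field, G a connected reductive linear algebraic group over k with a
splitting D (maximal torus T = D.T ≅ D_k(M), root datum P on the character lattice M, root
homomorphisms u_a : 𝔾_a ⟶ G), b a base of P (simple roots), B a Borel subgroup of G containing T and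
the root groups of all b-positive roots, and U the unipotent radical of B. Let ω ∈ M be a dominant
weight and consider the global functions f on G with f(x·u') = f(x) (u' in U) and f(x·t') =
ω(t')·f(x) (t' in T). Among these, the functions also invariant under left translation by U (f(u'·x)
= f(x)) form a one-dimensional space: there is a nonzero such f₀ and every such f is c·f₀ for a
constant c ∈ k. (The published statement also gives the left T-weight of f₀; this row omits it.) -/
theorem result (k : Type u) [Field k] [IsAlgClosed k]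
    (G : Over (Spec (CommRingCat.of k))) [GrpObj G] [ConnectedSpace ↥G.left] (D : Red.SplitRed G) (bs : D.P.Base)
    (Bo : Over (Spec (CommRingCat.of k))) [GrpObj Bo] (iB : Bo ⟶ G) (hB : Red.IsBorelOver k iB)
    (U : Over (Spec (CommRingCat.of k))) [GrpObj U] (u : U ⟶ Bo) (hU : Par.IsUnipotentRadical u)
    (t : D.T ⟶ Bo) [IsMonHom t] (ht : t ≫ iB = D.i)
    (hpos : ∀ a : D.idx, bs.IsPos a → ∃ v : Red.Ga (Spec (CommRingCat.of k)) ⟶ Bo, v ≫ iB = D.u a)
    (ω : D.M) (hω : ∀ j ∈ bs.support, 0 ≤ D.P.toLinearMap ω (D.P.coroot j)) :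
    ∃ f₀ : Γ(G.left, ⊤), f₀ ≠ 0 ∧
      ((G ◁ (u ≫ iB)) ≫ μ[G]).left.appTop f₀ = (fst G U).left.appTop f₀ ∧
      ((G ◁ D.i) ≫ μ[G]).left.appTop f₀ =
          (fst G D.T).left.appTop f₀ * (snd G D.T).left.appTop (Red.gmFn (D.split.hom.hom.hom ≫ Red.chi (Spec (CommRingCat.of k)) ω)) ∧
      (((u ≫ iB) ▷ G) ≫ μ[G]).left.appTop f₀ = (snd U G).left.appTop f₀ ∧
      ∀ f : Γ(G.left, ⊤),
        ((G ◁ (u ≫ iB)) ≫ μ[G]).left.appTop f = (fst G U).left.appTop f →
        ((G ◁ D.i) ≫ μ[G]).left.appTop f =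
          (fst G D.T).left.appTop f * (snd G D.T).left.appTop (Red.gmFn (D.split.hom.hom.hom ≫ Red.chi (Spec (CommRingCat.of k)) ω)) →
        (((u ≫ iB) ▷ G) ≫ μ[G]).left.appTop f = (snd U G).left.appTop f →
          ∃ c : k, f = G.hom.appTop ((Scheme.ΓSpecIso (CommRingCat.of k)).inv c) * f₀ := by
  haveI : IsMonHom D.i := D.maximalTorus.1
  haveI : IsAffineHom G.hom := D.reductive.1
  haveI : IsAffine G.left := isAffine_of_isAffineHom G.hom
  haveI : Smooth G.hom := D.reductive.2.1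
  haveI := hB.1; haveI := hB.2.1; haveI := hB.2.2.1; haveI := hB.2.2.2.1
  haveI := hU.1; haveI := hU.2.1; haveI := hU.2.2.2.1
  haveI : IsAffine Bo.left := isAffine_of_isAffineHom iB.left
  haveI : IsAffine U.left := isAffine_of_isAffineHom u.left
  obtain ⟨hTa, hTs, -, -, -⟩ := Groth.L08.Borel.torus_props D.maximalTorus.2.2.1
  haveI := hTa; haveI := hTs
  obtain ⟨U', _, iU', hU'm, hd, hnorm, ⟨g, hg, hg'⟩, hex⟩ :=
    Groth.L16.HwFun.exists_hw_data D bs hB hU t ht hpos
  haveI := hU'm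
  obtain ⟨φ, hφ⟩ := hex ω fun j hj => hω j hj
  obtain ⟨g₀, hg₀⟩ := Groth.L16.HwFun.exists_toUnit g
  obtain ⟨f₀, hf₀⟩ := Groth.L16.HwFun.exists_leftTranslate g₀ φ
  simp only [hg₀] at hf₀
  haveI : IsAffine (G ⊗ U).left := inferInstanceAs (IsAffine (Limits.pullback G.hom U.hom))
  haveI : IsAffine (G ⊗ D.T).left := inferInstanceAs (IsAffine (Limits.pullback G.hom D.T.hom))
  haveI : IsAffine (U ⊗ G).left := inferInstanceAs (IsAffine (Limits.pullback U.hom G.hom))
  haveI : Smooth (G ⊗ U).hom := inferInstanceAs (Smooth (Limits.pullback.fst G.hom U.hom ≫ G.hom))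
  haveI : Smooth (G ⊗ D.T).hom := inferInstanceAs (Smooth (Limits.pullback.fst G.hom D.T.hom ≫ G.hom))
  haveI : Smooth (U ⊗ G).hom := inferInstanceAs (Smooth (Limits.pullback.fst U.hom G.hom ≫ U.hom))
  have hR : ∀ {X : Over (Spec (CommRingCat.of k))} (i : X ⟶ G) (z : VecGrp.pt k k ⟶ G ⊗ X),
      z ≫ (G ◁ i) ≫ μ[G] = (z ≫ fst G X) * ((z ≫ snd G X) ≫ i) := fun i z => by
    rw [Hom.mul_def, ← Category.assoc]; congr 1; ext <;> simp
  have hL : ∀ z : VecGrp.pt k k ⟶ U ⊗ G,
      z ≫ ((u ≫ iB) ▷ G) ≫ μ[G] = ((z ≫ fst U G) ≫ u ≫ iB) * (z ≫ snd U G) := fun z => by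
    rw [Hom.mul_def, ← Category.assoc]; congr 1; ext <;> simp
  -- the three equations on rational points
  have p1 : ∀ (x : VecGrp.pt k k ⟶ G) (y : VecGrp.pt k k ⟶ U),
      Groth.L25.Observable.val (x * (y ≫ u ≫ iB)) f₀ = Groth.L25.Observable.val x f₀ := fun x y => by
    rw [hf₀, hf₀, ← _root_.mul_assoc, hφ.right_unip hd]
  have p2 : ∀ (x : VecGrp.pt k k ⟶ G) (s : VecGrp.pt k k ⟶ D.T),
      Groth.L25.Observable.val (x * (s ≫ D.i)) f₀ = Groth.L16.HwFun.chv D ω s * Groth.L25.Observable.val x f₀ :=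
    fun x s => by
    rw [hf₀, hf₀, ← _root_.mul_assoc, hφ.right_torus hd hnorm]
  have p3 : ∀ (x : VecGrp.pt k k ⟶ G) (y : VecGrp.pt k k ⟶ U),
      Groth.L25.Observable.val ((y ≫ u ≫ iB) * x) f₀ = Groth.L25.Observable.val x f₀ := fun x y => by
    obtain ⟨x', hx'⟩ := hg y
    rw [hf₀, hf₀, show g * ((y ≫ u ≫ iB) * x) = (x' ≫ iU') * (g * x) by rw [← hx']; group, hφ.left_unip hd]
  refine ⟨f₀, fun h0 => ?_, ?_, ?_, ?_, fun f h1 h2 h3 => ?_⟩
  · have h := hf₀ g⁻¹
    rw [h0, mul_inv_cancel, Groth.L16.HwFun.val_zero] at h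
    have h' := hφ 1 1 1
    rw [MonObj.one_comp, MonObj.one_comp, MonObj.one_comp, _root_.one_mul, _root_.one_mul,
      Groth.L16.HwFun.chv_one_pt] at h'
    exact one_ne_zero (h'.symm.trans h.symm)
  · refine Groth.L25.Observable.eq_of_forall_val fun z => ?_
    rw [← Groth.L25.Observable.val_comp, ← Groth.L25.Observable.val_comp, hR, p1]
  · refine Groth.L25.Observable.eq_of_forall_val fun z => ?_
    rw [Groth.L25.Observable.val_mul, ← Groth.L25.Observable.val_comp, ← Groth.L25.Observable.val_comp,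
      ← Groth.L25.Observable.val_comp, hR, p2, mul_comm]
    rfl
  · refine Groth.L25.Observable.eq_of_forall_val fun z => ?_
    rw [← Groth.L25.Observable.val_comp, ← Groth.L25.Observable.val_comp, hL, p3]
  · have q1 : ∀ (x : VecGrp.pt k k ⟶ G) (y : VecGrp.pt k k ⟶ U),
        Groth.L25.Observable.val (x * (y ≫ u ≫ iB)) f = Groth.L25.Observable.val x f := fun x y => by
      have h := congrArg (Groth.L25.Observable.val (lift x y)) h1
      rwa [← Groth.L25.Observable.val_comp, ← Groth.L25.Observable.val_comp, hR, lift_fst, lift_snd] at h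
    have q2 : ∀ (x : VecGrp.pt k k ⟶ G) (s : VecGrp.pt k k ⟶ D.T),
        Groth.L25.Observable.val (x * (s ≫ D.i)) f = Groth.L16.HwFun.chv D ω s * Groth.L25.Observable.val x f :=
      fun x s => by
      have h := congrArg (Groth.L25.Observable.val (lift x s)) h2
      rw [Groth.L25.Observable.val_mul, ← Groth.L25.Observable.val_comp, ← Groth.L25.Observable.val_comp,
        ← Groth.L25.Observable.val_comp, hR, lift_fst, lift_snd, mul_comm] at h
      exact h
    have q3 : ∀ (x : VecGrp.pt k k ⟶ G) (y : VecGrp.pt k k ⟶ U),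
        Groth.L25.Observable.val ((y ≫ u ≫ iB) * x) f = Groth.L25.Observable.val x f := fun x y => by
      have h := congrArg (Groth.L25.Observable.val (lift y x)) h3
      rwa [← Groth.L25.Observable.val_comp, ← Groth.L25.Observable.val_comp, hL, lift_fst, lift_snd] at h
    refine ⟨Groth.L25.Observable.val g⁻¹ f, ?_⟩
    obtain ⟨g₁, hg₁⟩ := Groth.L16.HwFun.exists_toUnit g⁻¹
    obtain ⟨F, hF⟩ := Groth.L16.HwFun.exists_leftTranslate g₁ f
    simp only [hg₁] at hF
    have hFeq : F = Groth.L16.HwFun.cst G (Groth.L25.Observable.val g⁻¹ f) * φ :=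
      Groth.L16.HwFun.eq_of_cell hd fun x s y => by
        obtain ⟨y', hy'⟩ := hg' x
        rw [hF, Groth.L25.Observable.val_mul, Groth.L16.HwFun.val_cst, hφ,
          show g⁻¹ * ((x ≫ iU') * (s ≫ D.i) * (y ≫ u ≫ iB)) = (y' ≫ u ≫ iB) * (g⁻¹ * (s ≫ D.i)) * (y ≫ u ≫ iB) by
            rw [← hy']; group,
          q1, q3, q2, mul_comm]
    refine Groth.L25.Observable.eq_of_forall_val fun x => ?_
    have h := congrArg (Groth.L25.Observable.val (g * x)) hFeq
    rw [hF, inv_mul_cancel_left, Groth.L25.Observable.val_mul, Groth.L16.HwFun.val_cst] at h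
    rw [h, ← hf₀, Groth.L25.Observable.val_mul]
    exact congrArg (· * _) (Groth.L16.HwFun.val_cst x _).symm
end Groth.Agent.S11247
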