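import Groth.Statements.S11248
import Groth.Agent.L16.FinGen.Assemble

set_option autoImplicit false
universe u
open CategoryTheory MonoidalCategory CartesianMonoidalCategory MonObj GrpObj AlgebraicGeometry
open scoped TensorProduct
open AGF

namespace Groth.Agent.S11248

/-- Let k be an algebraically closed field, G a linear algebraic group over k (affine, smooth) acting
rationally by algebra automorphisms on a commutative k-algebra A, H a smooth closed subgroup of G,
and L a smooth closed subgroup of G whose identity component is reductive and which normalizes H;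
let B_L be a Borel subgroup of L and U(L) its unipotent radical (a maximal unipotent subgroup of L).
Assume finite generation of invariants of reductive groups over k on finitely generated algebras (a
true result which the published text assumes without proof, carried here as a hypothesis). Then A^H
is a finitely generated k-algebra exactly when the algebra of invariants of H·U(L), namely A^H ∩
A^{U(L)}, is finitely generated over k. -/
theorem result (k : Type u) [Field k] [IsAlgClosed k]
    (G : Over (Spec (CommRingCat.of k))) [GrpObj G] [IsAffine G.left] [Smooth G.hom]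
    (H : Over (Spec (CommRingCat.of k))) [GrpObj H] [Smooth H.hom] (i : H ⟶ G) [IsMonHom i] [IsClosedImmersion i.left]
    (L : Over (Spec (CommRingCat.of k))) [GrpObj L] (j : L ⟶ G) [IsMonHom j] [IsClosedImmersion j.left]
    (hL : VecGrp.IsReductiveGrp k L)
    (hnorm : ∀ (X : Over (Spec (CommRingCat.of k))) (l : X ⟶ L) (h : X ⟶ H),
      ∃ h' : X ⟶ H, (l ≫ j) * (h ≫ i) * (l ≫ j)⁻¹ = h' ≫ i)
    (BL : Over (Spec (CommRingCat.of k))) [GrpObj BL] (iBL : BL ⟶ L) (hBL : Red.IsBorelOver k iBL)
    (UL : Over (Spec (CommRingCat.of k))) [GrpObj UL] (uL : UL ⟶ BL) (hUL : Par.IsUnipotentRadical uL)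
    (thmA : VecGrp.ReductiveInvariantsFG k)
    (A : Type u) [CommRing A] [Algebra k A] (ρ : VecGrp.GMod G A) (hρ : ρ.IsMult) :
    Algebra.FiniteType k ↥(ρ.fixedSubalgebra hρ i) ↔
      Algebra.FiniteType k ↥(ρ.fixedSubalgebra hρ i ⊓ ρ.fixedSubalgebra hρ (uL ≫ iBL ≫ j)) := by
  haveI := hBL.1; haveI := hBL.2.1; haveI := hBL.2.2.2.1
  haveI : IsAffine L.left := isAffine_of_isAffineHom j.left
  haveI : Smooth L.hom := hL.2.1
  haveI : IsAffine H.left := isAffine_of_isAffineHom i.left
  have hS : ∀ (g : VecGrp.pt k k ⟶ L), ∀ v ∈ ρ.fixedSubalgebra hρ i,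
      Groth.L25.Observable.ptAct (Groth.L16.Weights.comap ρ j) g v ∈ ρ.fixedSubalgebra hρ i :=
    fun g v hv => Groth.L16.Weights.ptAct_mem_fixed ρ i j
      (fun t x => hnorm _ t x) g hv
  have hρc : (Groth.L16.Weights.comap ρ j).IsMult := fun C _ _ g => hρ C (g ≫ j)
  obtain ⟨ρS, hρS, hpt⟩ := Groth.L16.FinGen.exists_restrict_pts (Groth.L16.Weights.comap ρ j) hρc
    (ρ.fixedSubalgebra hρ i) hS
  obtain ⟨-, -, -, hUa, hUs, -, -, hfin⟩ := Groth.L16.GeomRed.borel_radical_setting hL hBL hUL thmA
  haveI := hUa; haveI := hUs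
  have hmem : ∀ (x : A) (hx : x ∈ ρ.fixedSubalgebra hρ i), (⟨x, hx⟩ : ρ.fixedSubalgebra hρ i) ∈
      ρS.fixedSubalgebra hρS (uL ≫ iBL) ↔ x ∈ ρ.fixedSubalgebra hρ (uL ≫ iBL ≫ j) := by
    intro x hx
    constructor
    · intro h
      refine Groth.L16.Weights.mem_fixedUnder_of_ptAct ρ _ fun y => ?_
      have h1 := congrArg Subtype.val (Groth.L16.Weights.ptAct_of_fixed ρS _ h y)
      rw [hpt, Groth.L16.Weights.ptAct_comap] at h1
      rw [Category.assoc, Category.assoc] at h1
      exact h1
    · intro h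
      refine Groth.L16.Weights.mem_fixedUnder_of_ptAct ρS _ fun y => Subtype.ext ?_
      rw [hpt, Groth.L16.Weights.ptAct_comap, Category.assoc, Category.assoc]
      exact Groth.L16.Weights.ptAct_of_fixed ρ _ h y
  let e : ↥(ρS.fixedSubalgebra hρS (uL ≫ iBL)) ≃ₐ[k]
      ↥(ρ.fixedSubalgebra hρ i ⊓ ρ.fixedSubalgebra hρ (uL ≫ iBL ≫ j)) :=
    AlgEquiv.ofBijective
      ({ toFun := fun x => ⟨x.1.1, x.1.2, (hmem x.1.1 x.1.2).1 x.2⟩
         map_one' := rfl
         map_mul' := fun _ _ => rfl
         map_zero' := rfl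
         map_add' := fun _ _ => rfl
         commutes' := fun _ => rfl } : _ →ₐ[k] _)
      ⟨fun x y h => Subtype.ext (Subtype.ext (congrArg (fun z => z.1) h)),
        fun y => ⟨⟨⟨y.1, y.2.1⟩, (hmem y.1 y.2.1).2 y.2.2⟩, rfl⟩⟩
  constructor
  · intro h
    haveI := h
    haveI := hfin _ ρS hρS
    exact Algebra.FiniteType.equiv inferInstance e
  · intro h
    exact Groth.L16.FinGen.finiteType_of_invariants hL hBL hUL thmA ρS hρS (Algebra.FiniteType.equiv h e.symm)
end Groth.Agent.S11248
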