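import Groth.Statements.S11249
import Groth.Agent.L14.SMT.Quadric

set_option autoImplicit false
universe u
open W4bk4grassmannian

namespace Groth.Agent.S11249

open W4bk4grassmannian in
/-- Injectivity of the Plücker map, in matrix form: let K be a field, A and A' two n × d matrices over K
with linearly independent columns, and suppose there is a nonzero scalar c with det A_θ = c · det
A'_θ for every strictly increasing d-tuple θ of row indices (A_θ the d × d submatrix on the rows θ).
Then the columns of A and of A' span the same subspace of K^n. (The published statement is over an
algebraically closed field; this row allows any field K.) -/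
theorem result (K : Type u) [Field K] (d n : ℕ)
    (A A' : Matrix (Fin n) (Fin d) K) (hA : LinearIndependent K A.transpose)
    (hA' : LinearIndependent K A'.transpose) (c : K) (hc : c ≠ 0)
    (h : ∀ θ : Idx d n, (A.submatrix θ.1 id).det = c * (A'.submatrix θ.1 id).det) :
    Submodule.span K (Set.range A.transpose) = Submodule.span K (Set.range A'.transpose) := by
  exact Groth.L14.Quad.span_eq A A' hA c hc h

end Groth.Agent.S11249
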