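import Groth.Statements.S11253
import Groth.Agent.L14.SMT.Conseq
import Mathlib.FieldTheory.IsAlgClosed.Basic

set_option autoImplicit false
universe u
open W4bk4grassmannian

namespace Groth.Agent.S11253

open W4bk4grassmannian in
/-- Intersections of Schubert varieties are reduced: let K be an algebraically closed field, 0 < d < n,
and I(d,n) the strictly increasing maps Fin d → Fin n ordered entrywise; S = K[X_θ : θ ∈ I(d,n)] is
the Plücker polynomial ring and, for τ ∈ I(d,n), J(τ) ⊆ S is the ideal of polynomials vanishing at
the d × d row-minors of every n × d matrix over K whose minors on rows φ ≰ τ are zero (the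
homogeneous ideal of the Schubert variety X(τ) ⊆ G(d,n)). Then for all w₁, w₂ ∈ I(d,n) the ideal
J(w₁) + J(w₂) of S is radical. -/
theorem result (K : Type u) [Field K] [IsAlgClosed K] (d n : ℕ)
    (hd : 0 < d) (hdn : d < n) (w₁ w₂ : Idx d n) :
    (schubertVanishing K d n w₁ ⊔ schubertVanishing K d n w₂).IsRadical := by
  rw [Groth.L14.SMT.schubertVanishing_eq hd hdn.le, Groth.L14.SMT.schubertVanishing_eq hd hdn.le,
    Groth.L14.SMT.sup_plIdeal]
  exact (Groth.L14.SMT.isPrime_plIdeal hd hdn.le _).isRadical

end Groth.Agent.S11253
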