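import Groth.Statements.S11257
import Groth.Agent.L14.SMT.RegInf
import Mathlib.RingTheory.Nakayama

set_option autoImplicit false
universe u
open W4bk4grassmannian

namespace Groth.Agent.S11257

/-- Let A be a Noetherian local integral domain with maximal ideal m, I and J ideals of A, d ≥ 1, and
f_1, …, f_d ∈ m. Assume depth A/(I+J) ≥ d - 1, depth A/I ≥ d and depth A/J ≥ d (depths of the
quotients as A-modules), that f_1, …, f_d is a regular sequence on A/I and on A/J, and that f_1, …,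
f_{d-1} is a regular sequence on A/(I+J). Then f_1, …, f_d is a regular sequence on A/(I ∩ J). -/
theorem result (A : Type u) [CommRing A] [IsDomain A]
    [IsNoetherianRing A] [IsLocalRing A] (I J : Ideal A) (d : ℕ) (hd : 0 < d) (f : Fin d → A)
    (hf : ∀ k, f k ∈ IsLocalRing.maximalIdeal A)
    (hIJd : ((d - 1 : ℕ) : ℕ∞) ≤ LocCoh.depth A (A ⧸ (I ⊔ J)))
    (hId : (d : ℕ∞) ≤ LocCoh.depth A (A ⧸ I)) (hJd : (d : ℕ∞) ≤ LocCoh.depth A (A ⧸ J))
    (hI : RingTheory.Sequence.IsRegular (A ⧸ I) (List.ofFn f))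
    (hJ : RingTheory.Sequence.IsRegular (A ⧸ J) (List.ofFn f))
    (hIJ : RingTheory.Sequence.IsRegular (A ⧸ (I ⊔ J)) ((List.ofFn f).take (d - 1))) :
    RingTheory.Sequence.IsRegular (A ⧸ (I ⊓ J)) (List.ofFn f) := by
  refine ⟨Groth.L14.RegInf.isWeaklyRegular_inf _ hI.1 hJ.1 (by rw [List.length_ofFn]; exact hIJ.1), ?_⟩
  intro h
  have hle : Ideal.ofList (List.ofFn f) ≤ IsLocalRing.maximalIdeal A := by
    rw [Ideal.ofList, Ideal.span_le]
    intro x hx
    obtain ⟨k, rfl⟩ := List.mem_ofFn.mp hx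
    exact hf k
  have hIne : I ≠ ⊤ := by
    rintro rfl
    exact hI.2 (Subsingleton.elim _ _)
  haveI : Nontrivial (A ⧸ (I ⊓ J)) := Ideal.Quotient.nontrivial_iff.mpr (fun h' => hIne (top_le_iff.mp (h' ▸ inf_le_left)))
  exact Submodule.top_ne_ideal_smul_of_le_jacobson_annihilator
    (hle.trans (IsLocalRing.maximalIdeal_le_jacobson _)) h

end Groth.Agent.S11257
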