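import Groth.Statements.S1126
import Groth.Agent.L23.Descent
-- import your own Groth.Agent.* helpers here

set_option autoImplicit false
open CategoryTheory CategoryTheory.Limits AlgebraicGeometry Opposite
universe u
open Desc

namespace Groth.Agent.S1126

/-- If the base change of a morphism along a quasi-compact flat surjective morphism to its target is a
universal homeomorphism, then the morphism is a universal homeomorphism. (Stated for a single
quasi-compact flat surjective base change; combined with Zariski-locality on the target this gives
the fpqc-local form.) -/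
theorem result :
    MorphismProperty.DescendsAlong (FlatMor.IsUnivHomeo.{u})
      (@Surjective ⊓ @Flat ⊓ @QuasiCompact : MorphismProperty Scheme.{u}) := by
  have h : (FlatMor.IsUnivHomeo.{u}) = ((@UniversallyClosed : MorphismProperty Scheme.{u}) ⊓ @UniversallyInjective ⊓ @Surjective : MorphismProperty Scheme.{u}) := by
    ext X Y f
    constructor
    · intro hf
      refine ⟨⟨⟨fun X1 Y1 a b c sq => ?_⟩, ⟨fun X1 Y1 a b c sq => ?_⟩⟩, ⟨?_⟩⟩
      · exact (hf a b c sq).isClosedMap
      · exact (hf a b c sq).injective
      · exact (hf (𝟙 _) (𝟙 _) f (IsPullback.id_horiz f).flip).surjective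
    · rintro ⟨⟨h1, h2⟩, h3⟩
      intro X' Y' a b c sq
      have h3' : Surjective c := MorphismProperty.of_isPullback sq.flip h3
      exact isHomeomorph_iff_continuous_isClosedMap_bijective.mpr
        ⟨c.continuous, h1.1 a b c sq, h2.1 a b c sq, h3'.1⟩
  rw [h]
  infer_instance

end Groth.Agent.S1126
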