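import Groth.Statements.S11260
import Groth.Agent.L14.SMT.Props
import Mathlib.FieldTheory.IsAlgClosed.Basic

set_option autoImplicit false
universe u
open W4bk4grassmannian

namespace Groth.Agent.S11260

open W4bk4grassmannian in
/-- (2) ⇔ (3) ⇔ (4): let K be an algebraically closed field, 0 < d < n, and I(d,n) the strictly
increasing maps Fin d → Fin n ordered entrywise; S = K[X_θ : θ ∈ I(d,n)] is the Plücker polynomial
ring and, for τ ∈ I(d,n), J(τ) ⊆ S is the ideal of polynomials vanishing at the d × d row-minors of
every n × d matrix over K whose minors on rows φ ≰ τ are zero (the homogeneous ideal of the Schubert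
variety X(τ) ⊆ G(d,n)). Let R = S/J(τ). The following are equivalent: (1) R is a unique
factorization domain; (2) the class of X_τ is a prime element of R; (3) τ has at most one Schubert
divisor (φ < τ with Σ_t (φ_t - t) + 1 = Σ_t (τ_t - t)); (4) for some s, τ_t = t for all t < s and
the entries τ_t with t ≥ s are consecutive (0-indexed; τ is a single run of consecutive values, or
begins with 0, 1, …, s - 1 followed by a single run). (The published (3) reads: exactly one Schubert
divisor; for the zero-dimensional Schubert variety there is none while (1), (2), (4) hold, so (3) is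
stated as: at most one.) -/
theorem result (K : Type u) [Field K] [IsAlgClosed K] (d n : ℕ)
    (hd : 0 < d) (hdn : d < n) (τ : Idx d n) :
    (UniqueFactorizationMonoid (PlRing K d n ⧸ schubertVanishing K d n τ) ↔
        Prime (Ideal.Quotient.mk (schubertVanishing K d n τ) (MvPolynomial.X τ))) ∧
      (Prime (Ideal.Quotient.mk (schubertVanishing K d n τ) (MvPolynomial.X τ)) ↔
        (divisors τ).Subsingleton) ∧
      ((divisors τ).Subsingleton ↔
        ∃ s : ℕ, (∀ t : Fin d, t.val < s → (τ.1 t).val = t.val) ∧
          ∀ t t' : Fin d, s ≤ t.val → t.val + 1 = t'.val → (τ.1 t).val + 1 = (τ.1 t').val) := by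
  rw [Groth.L14.SMT.schubertVanishing_eq hd hdn.le]
  exact ⟨Groth.L14.SMT.ufd_iff hd hdn τ, Groth.L14.SMT.prime_iff hd hdn τ, Groth.L14.SMT.shape_iff τ⟩

end Groth.Agent.S11260
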