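import Groth.Statements.S11261
import Groth.Agent.L14.SMT.Leading

set_option autoImplicit false
universe u
open W4bk4grassmannian

namespace Groth.Agent.S11261

open W4bk4grassmannian in
/-- Shape of the straightening relations of a skew pair: let K be an algebraically closed field, 0 < d <
n, S = K[X_θ : θ ∈ I(d,n)] the Plücker polynomial ring on the strictly increasing maps Fin d → Fin n
ordered entrywise, and J ⊆ S the ideal of polynomials vanishing at the row-minors of every n × d
matrix over K (the homogeneous ideal of G(d,n)). Let τ, φ ∈ I(d,n) be incomparable, with entrywise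
maximum τ ∨ φ and minimum τ ∧ φ. Then there is a K-linear combination g of monomials X_α X_β with β
≤ α, τ ∨ φ < α and β < τ ∧ φ such that X_τ X_φ - X_{τ∨φ} X_{τ∧φ} - g lies in J. -/
theorem result (K : Type u) [Field K] [IsAlgClosed K] (d n : ℕ)
    (hd : 0 < d) (hdn : d < n) (τ φ : Idx d n) (h₁ : ¬ τ ≤ φ) (h₂ : ¬ φ ≤ τ) :
    ∃ g ∈ Submodule.span K {f : PlRing K d n | ∃ α β : Idx d n,
        β ≤ α ∧ W4bk4grassmannian.sup τ φ < α ∧ β < W4bk4grassmannian.inf τ φ ∧
          f = MvPolynomial.X α * MvPolynomial.X β},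
      MvPolynomial.X τ * MvPolynomial.X φ -
          MvPolynomial.X (W4bk4grassmannian.sup τ φ) * MvPolynomial.X (W4bk4grassmannian.inf τ φ) - g ∈
        vanishing K d n := by
  obtain ⟨g, hg, hrel⟩ := Groth.L14.SMT.join_meet (K := K) hd hdn.le τ φ h₁ h₂
  refine ⟨g, hg, ?_⟩
  have hle : W4bk4grassmannian.plIdealTop (d := d) (n := n) K ≤ W4bk4grassmannian.vanishing K d n := by
    rw [W4bk4grassmannian.plIdealTop, W4bk4grassmannian.vanishing]
    refine le_iInf fun A => Ideal.span_le.mpr ?_
    rintro _ ⟨i, j, r, -, rfl⟩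
    exact Groth.L14.SMT.map_shuffleRel i j r (W4bk4grassmannian.evalMinors K d n A) A
      (fun θ => MvPolynomial.aeval_X _ _)
  exact hle hrel

end Groth.Agent.S11261
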