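import Groth.Statements.S11268
import Mathlib.Tactic

set_option autoImplicit false
open W4bk4grassmannian

namespace Groth.Agent.S11268

open W4bk4grassmannian in
/-- Let τ < w in I(d,n), the strictly increasing maps Fin d → Fin n ordered entrywise. Then there is a
Schubert divisor φ of w, i.e. φ < w with Σ_t (φ_t - t) + 1 = Σ_t (w_t - t), such that τ ≤ φ: every
proper Schubert subvariety of X(w) lies in a Schubert divisor of X(w). -/
theorem result (d n : ℕ) (τ w : Idx d n) (h : τ < w) :
    ∃ φ ∈ divisors w, τ ≤ φ := by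
  classical
  obtain ⟨hle, hne⟩ := lt_iff_le_and_ne.mp h
  have hex : (Finset.univ.filter fun t : Fin d => τ.1 t < w.1 t).Nonempty := by
    by_contra hc
    apply hne
    apply Subtype.ext
    funext t
    refine le_antisymm (hle t) (not_lt.mp fun ht => hc ⟨t, by simp [ht]⟩)
  set t₀ := (Finset.univ.filter fun t : Fin d => τ.1 t < w.1 t).min' hex with ht₀
  have hlt : τ.1 t₀ < w.1 t₀ := by
    simpa using Finset.min'_mem _ hex
  have hmin : ∀ t, t < t₀ → w.1 t = τ.1 t := fun t ht =>
    le_antisymm (not_lt.mp fun h2 => absurd (Finset.min'_le _ t (by simp [h2])) (not_le.mpr ht)) (hle t)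
  have hge : ∀ (k : ℕ) (hk : k < d), k ≤ (τ.1 ⟨k, hk⟩).val := by
    intro k
    induction k with
    | zero => intro hk; omega
    | succ k ih =>
      intro hk
      have h1 := ih (by omega)
      have h2 : τ.1 ⟨k, by omega⟩ < τ.1 ⟨k + 1, hk⟩ := τ.2 (by simp [Fin.lt_def])
      rw [Fin.lt_def] at h2
      omega
  have hlt' : (τ.1 t₀).val < (w.1 t₀).val := hlt
  have hge₀ : t₀.val ≤ (τ.1 t₀).val := hge t₀.val t₀.2
  have hdec : (w.1 t₀).val - 1 < n := by have := (w.1 t₀).2; omega
  let f : Fin d → Fin n := Function.update w.1 t₀ ⟨(w.1 t₀).val - 1, hdec⟩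
  have hf : StrictMono f := by
    intro a b hab
    have h1 := w.2 hab
    simp only [f, Function.update_apply]
    split_ifs with ha hb hb
    · omega
    · subst ha; rw [Fin.lt_def] at h1 ⊢; simp; omega
    · subst hb
      rw [hmin a hab, Fin.lt_def]
      have h2 := τ.2 hab
      rw [Fin.lt_def] at h2
      simp; omega
    · exact h1
  have hfle : ∀ t, (f t).val ≤ (w.1 t).val := by
    intro t
    simp only [f, Function.update_apply]
    split_ifs with ht
    · subst ht; simp
    · exact le_rfl
  refine ⟨⟨f, hf⟩, ⟨lt_of_le_of_ne (fun t => hfle t) ?_, ?_⟩, ?_⟩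
  · intro he
    have := congrArg (fun x : Idx d n => (x.1 t₀).val) he
    simp [f] at this
    omega
  · simp only [codeg]
    rw [← Finset.add_sum_erase _ _ (Finset.mem_univ t₀), ← Finset.add_sum_erase _ _ (Finset.mem_univ t₀),
      Finset.sum_congr rfl (fun t ht => show (f t).val - t.val = (w.1 t).val - t.val by
        simp only [Finset.mem_erase] at ht
        simp [f, ht.1])]
    simp only [f, Function.update_self]
    omega
  · intro t
    show τ.1 t ≤ f t
    simp only [f, Function.update_apply]
    split_ifs with ht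
    · subst ht; rw [Fin.le_def]; simp; omega
    · exact hle t

end Groth.Agent.S11268
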