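import Groth.Statements.S11269
import Groth.Agent.L04.CMBasic
import Mathlib.RingTheory.Ideal.KrullsHeightTheorem

set_option autoImplicit false
universe u
open W4bk4grassmannian

namespace Groth.Agent.S11269

/-- Let R be a Noetherian integral domain. Then R satisfies Serre's condition (S_2) (depth R_P ≥ min(2,
dim R_P) for all primes P) if and only if, for every nonzero a ∈ R, every associated prime of the
R-module R/(a) has height one. -/
theorem result (R : Type u) [CommRing R] [IsDomain R]
    [IsNoetherianRing R] :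
    LocCoh.HasSk 2 R R ↔
      ∀ a : R, a ≠ 0 → ∀ P : Ideal R, P ∈ associatedPrimes R (R ⧸ Ideal.span {a}) → P.height = 1 := by
  have hdim : ∀ (p : Ideal R) [p.IsPrime], Module.supportDim (Localization.AtPrime p) (LocalizedModule p.primeCompl R) =
      (p.height : WithBot ℕ∞) := fun p _ => by
    rw [Module.supportDim_eq_of_equiv (Groth.L04.localizedModuleSelfEquiv p), Module.supportDim_self_eq_ringKrullDim,
      IsLocalization.AtPrime.ringKrullDim_eq_height p]
  have hdepth : ∀ a : R, a ≠ 0 → IsSMulRegular R a := fun a ha => fun x y h => mul_left_cancel₀ ha h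
  have hiso : ∀ a : R, (QuotSMulTop a R) ≃ₗ[R] R ⧸ Ideal.span {a} := fun a =>
    Submodule.quotEquivOfEq _ _ (by
      ext x
      simp [Submodule.mem_smul_pointwise_iff_exists, Ideal.mem_span_singleton', mul_comm])
  have hc : ∀ (n : ℕ) (x : ℕ∞), ((n : WithBot ℕ∞) ≤ (x : WithBot ℕ∞)) ↔ (n : ℕ∞) ≤ x := fun n x => by
    rw [← WithBot.coe_natCast, WithBot.coe_le_coe]
  have hc' : ∀ (n : ℕ) (x : ℕ∞), ((x : WithBot ℕ∞) ≤ (n : WithBot ℕ∞)) ↔ x ≤ (n : ℕ∞) := fun n x => by
    rw [← WithBot.coe_natCast, WithBot.coe_le_coe]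
  constructor
  · intro h a ha P hP
    have hPp : P.IsPrime := IsAssociatedPrime.isPrime hP
    obtain ⟨z, hz⟩ := (isAssociatedPrime_iff.1 hP).2
    have haP : a ∈ P := by
      rw [hz]
      simp only [Submodule.mem_colon_singleton, Submodule.mem_bot]
      obtain ⟨y, rfl⟩ := Ideal.Quotient.mk_surjective z
      exact Ideal.Quotient.eq_zero_iff_mem.mpr (Ideal.mul_mem_right _ _ (Ideal.mem_span_singleton_self a))
    have h1 : 1 ≤ P.height := Order.one_le_iff_ne_zero.2 fun h0 => by
      rw [Ideal.height_eq_zero_iff_eq_bot.1 h0] at haP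
      exact ha haP
    refine le_antisymm ?_ h1
    by_contra h2
    rw [not_le] at h2
    have h2' : (2 : ℕ∞) ≤ P.height := by
      rw [show (2 : ℕ∞) = 1 + 1 by rfl]
      exact Order.add_one_le_of_lt h2
    have hid : ((1 + 1 : ℕ) : ℕ∞) ≤ LocCoh.idealDepth P R := by
      rw [Groth.L04.idealDepth_eq_iInf_depth]
      refine le_iInf₂ fun q hq => ?_
      have hq' := h q.asIdeal
      rw [hdim] at hq'
      have : ((2 : ℕ) : ℕ∞) ≤ q.asIdeal.height := h2'.trans (Ideal.height_mono hq)
      rw [min_eq_left ((hc 2 _).mpr this)] at hq'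
      exact (hc 2 _).mp hq'
    rw [← Groth.L04.le_idealDepth_quotSMulTop_iff haP (hdepth a ha) 1,
      Groth.L04.idealDepth_congr (hiso a)] at hid
    have hz0 : z = 0 := Groth.L04.hom_zero_of_one_le (by simpa using hid) fun b hb => by
      rw [hz] at hb
      simpa using hb
    subst hz0
    apply hPp.ne_top
    rw [hz, eq_top_iff]
    intro b _
    simp
  · intro h p hp
    rw [hdim p]
    have key : ∀ n : ℕ, n ≤ 2 → (n : ℕ∞) ≤ p.height → (n : ℕ∞) ≤ LocCoh.idealDepth p R := by
      intro n hn hnp
      rcases n with _ | n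
      · simp
      have hne : p ≠ ⊥ := by
        intro h0
        have := Ideal.height_eq_zero_iff_eq_bot.2 h0
        rw [this] at hnp
        exact absurd hnp (by simp)
      obtain ⟨a, hap, ha⟩ := Submodule.exists_mem_ne_zero_of_ne_bot hne
      rw [← Groth.L04.le_idealDepth_quotSMulTop_iff hap (hdepth a ha) n, Groth.L04.idealDepth_congr (hiso a)]
      rcases n with _ | n
      · simp
      obtain rfl : n = 0 := by omega
      have hav : ¬ (p : Set R) ⊆ ⋃ P ∈ associatedPrimes R (R ⧸ Ideal.span {a}), (P : Set R) := by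
        intro hsub
        have hfin := associatedPrimes.finite R (R ⧸ Ideal.span {a})
        obtain ⟨P, hP, hle⟩ := (Ideal.subset_union_prime_finite hfin 0 0 fun Q hQ _ _ => IsAssociatedPrime.isPrime hQ).mp
          (by simpa using hsub)
        have h3 := Ideal.height_mono hle
        rw [h a ha P hP] at h3
        have h4 : ((0 + 1 + 1 : ℕ) : ℕ∞) ≤ 1 := hnp.trans h3
        exact absurd h4 (by decide)
      obtain ⟨b, hb, hbn⟩ := Set.not_subset.mp hav
      rw [biUnion_associatedPrimes_eq_compl_regular] at hbn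
      simpa using Groth.L04.one_le_idealDepth_of_regular (M := R ⧸ Ideal.span {a}) hb (not_not.mp hbn)
    have hle : LocCoh.idealDepth p R ≤ LocCoh.depth (Localization.AtPrime p) (LocalizedModule p.primeCompl R) := by
      rw [Groth.L04.idealDepth_eq_iInf_depth]
      exact iInf₂_le (⟨p, hp⟩ : PrimeSpectrum R) le_rfl
    rcases le_total ((2 : ℕ) : ℕ∞) p.height with h2 | h2
    · rw [min_eq_left ((hc 2 _).mpr h2)]
      exact (hc 2 _).mpr ((key 2 le_rfl h2).trans hle)
    · rw [min_eq_right ((hc' 2 _).mpr h2)]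
      obtain ⟨n, hn⟩ := ENat.ne_top_iff_exists.mp (ne_top_of_le_ne_top (ENat.natCast_ne_top 2) h2)
      rw [← hn] at h2
      have := (key n (by exact_mod_cast h2) (le_of_eq hn)).trans hle
      rw [← hn]
      exact_mod_cast this

end Groth.Agent.S11269
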