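import Groth.Statements.S11270
import Groth.Agent.L14.SMT.Conseq
import Mathlib.FieldTheory.IsAlgClosed.Basic

set_option autoImplicit false
universe u
open W4bk4grassmannian

namespace Groth.Agent.S11270

open W4bk4grassmannian in
/-- The least Plücker coordinate is a prime element on every Schubert variety: let K be an algebraically
closed field, 0 < d < n, and I(d,n) the strictly increasing maps Fin d → Fin n ordered entrywise; S
= K[X_θ : θ ∈ I(d,n)] is the Plücker polynomial ring and, for τ ∈ I(d,n), J(τ) ⊆ S is the ideal of
polynomials vanishing at the d × d row-minors of every n × d matrix over K whose minors on rows φ ≰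
τ are zero (the homogeneous ideal of the Schubert variety X(τ) ⊆ G(d,n)). Let w ∈ I(d,n) and let ι =
(0, 1, …, d - 1) be the least element of I(d,n), written (1, …, d) in 1-based indexing. Then the
class of X_ι in S/J(w) is a prime element; it generates the kernel of the restriction to the section
of X(w) by the opposite Schubert divisor. -/
theorem result (K : Type u) [Field K] [IsAlgClosed K] (d n : ℕ)
    (hd : 0 < d) (hdn : d < n) (w : Idx d n) :
    Prime (Ideal.Quotient.mk (schubertVanishing K d n w)
      (MvPolynomial.X (⟨fun t => ⟨t.val, lt_trans t.isLt hdn⟩, fun a b h => h⟩ : Idx d n))) := by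
  rw [Groth.L14.SMT.schubertVanishing_eq hd hdn.le]
  exact Groth.L14.SMT.prime_bot hd hdn w

end Groth.Agent.S11270
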