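import Groth.Statements.S11271
import Mathlib.LinearAlgebra.Matrix.SchurComplement
import Mathlib.LinearAlgebra.Matrix.ToLin
import Mathlib.FieldTheory.IsAlgClosed.Basic
import Mathlib.Algebra.Polynomial.Roots
import Mathlib.Algebra.MvPolynomial.Eval
import Mathlib.Tactic

set_option autoImplicit false
universe u
open W4bk4grassmannian

namespace Groth.Agent.S11271

open W4bk4grassmannian in
/-- Semistable matrices are the matrices of full rank: let K be an algebraically closed field, 0 < d <
n, and let SL_d(K) act on n × d matrices by right multiplication; a matrix A is semistable when the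
zero matrix is not in the Zariski closure of its orbit, i.e. when some polynomial in the entries
vanishes at A g for every g ∈ SL_d(K) but not at 0. Then A is semistable if and only if its columns
are linearly independent. -/
theorem result (K : Type u) [Field K]
    [IsAlgClosed K] (d n : ℕ) (hd : 0 < d) (hdn : d < n) (A : Matrix (Fin n) (Fin d) K) :
    LinearIndependent K A.transpose ↔
      ∃ f : MatRing K d n, (∀ g : Matrix.SpecialLinearGroup (Fin d) K,
        MvPolynomial.eval (fun p : Fin n × Fin d => (A * (g : Matrix (Fin d) (Fin d) K)) p.1 p.2) f = 0) ∧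
        MvPolynomial.eval (fun _ : Fin n × Fin d => (0 : K)) f ≠ 0 := by
  classical
  constructor
  · intro hli
    have hinj : LinearMap.ker (Matrix.toLin' A) = ⊥ := by
      rw [LinearMap.ker_eq_bot]
      intro x y hxy
      have : A.mulVec x = A.mulVec y := by simpa [Matrix.toLin'_apply] using hxy
      exact Matrix.mulVec_injective_iff.mpr hli this
    obtain ⟨g, hg⟩ := (Matrix.toLin' A).exists_leftInverse_of_injective hinj
    set L := LinearMap.toMatrix' g with hL
    have hLA : L * A = 1 := by
      apply Matrix.toLin'.injective
      rw [Matrix.toLin'_mul, hL, Matrix.toLin'_toMatrix', hg, Matrix.toLin'_one]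
    let Xm : Matrix (Fin n) (Fin d) (MatRing K d n) := Matrix.of fun i j => MvPolynomial.X (i, j)
    let f : MatRing K d n := (L.map MvPolynomial.C * Xm).det - 1
    have hev : ∀ M : Matrix (Fin n) (Fin d) K,
        MvPolynomial.eval (fun p : Fin n × Fin d => M p.1 p.2) f = (L * M).det - 1 := by
      intro M
      rw [map_sub, map_one, RingHom.map_det]
      congr 2
      ext i j
      simp [Xm, Matrix.mul_apply]
    refine ⟨f, fun g => ?_, ?_⟩
    · rw [hev, ← Matrix.mul_assoc, hLA, Matrix.one_mul, g.2, sub_self]
    · have h0 := hev 0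
      simp only [Matrix.zero_apply, Matrix.mul_zero] at h0
      have : Nonempty (Fin d) := ⟨⟨0, hd⟩⟩
      rw [h0, Matrix.det_zero]
      simp
  · rintro ⟨f, hf, hf0⟩
    by_contra hli
    obtain ⟨v, hAv, hv⟩ : ∃ v : Fin d → K, A.mulVec v = 0 ∧ v ≠ 0 := by
      by_contra hc
      push Not at hc
      refine hli (Matrix.mulVec_injective_iff.mp fun x y hxy => ?_)
      have h0 : A.mulVec (x - y) = 0 := by rw [Matrix.mulVec_sub, hxy, sub_self]
      exact sub_eq_zero.mp (hc _ h0)
    obtain ⟨i, hi⟩ := Function.ne_iff.mp hv
    set w : Fin d → K := Pi.single i (v i)⁻¹ with hw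
    have hwv : w ⬝ᵥ v = 1 := by
      rw [hw, single_dotProduct, inv_mul_cancel₀ hi]
    have key : ∀ t : K, t ≠ 0 → MvPolynomial.eval (fun p : Fin n × Fin d => (t • A) p.1 p.2) f = 0 := by
      intro t ht
      set c : K := (t ^ d)⁻¹ - 1
      set M : Matrix (Fin d) (Fin d) K :=
        t • (1 + Matrix.replicateCol (Fin 1) (c • v) * Matrix.replicateRow (Fin 1) w) with hM
      have hdet : M.det = 1 := by
        rw [hM, Matrix.det_smul, Fintype.card_fin]
        erw [Matrix.det_one_add_replicateCol_mul_replicateRow (c • v) w]
        rw [dotProduct_smul, hwv, smul_eq_mul, mul_one]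
        simp only [c, add_sub_cancel]
        exact mul_inv_cancel₀ (pow_ne_zero _ ht)
      have hAM : A * M = t • A := by
        rw [hM, Matrix.mul_smul, Matrix.mul_add, Matrix.mul_one, ← Matrix.mul_assoc]
        congr 1
        rw [← Matrix.replicateCol_mulVec, Matrix.mulVec_smul, hAv, smul_zero]
        simp
      have := hf ⟨M, hdet⟩
      rw [← hAM]
      exact this
    let q : Polynomial K := MvPolynomial.eval₂ Polynomial.C
      (fun p : Fin n × Fin d => Polynomial.X * Polynomial.C (A p.1 p.2)) f
    have hq : ∀ t, q.eval t = MvPolynomial.eval (fun p : Fin n × Fin d => (t • A) p.1 p.2) f := by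
      intro t
      show (Polynomial.evalRingHom t) (MvPolynomial.eval₂ Polynomial.C _ f) = _
      rw [MvPolynomial.eval₂_comp_left]
      simp only [MvPolynomial.eval, MvPolynomial.coe_eval₂Hom]
      congr 1
      · ext a; simp
      · funext p; simp; ring
    have hq0 : q = 0 := by
      refine Polynomial.eq_zero_of_infinite_isRoot q ((Set.Infinite.diff (Set.infinite_univ (α := K))
        (Set.finite_singleton 0)).mono fun t ht => ?_)
      show q.eval t = 0
      rw [hq, key t (by simpa using ht.2)]
    apply hf0
    have h0 := hq 0
    rw [hq0, Polynomial.eval_zero] at h0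
    simpa using h0.symm

end Groth.Agent.S11271
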