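import Groth.Statements.S11272
import Groth.Agent.L14.SMT.CMCriterion

set_option autoImplicit false
universe u
open W4bk4grassmannian

namespace Groth.Agent.S11272

/-- A cone is Cohen–Macaulay iff it is so at its vertex: let K be an algebraically closed field, N a
natural number, S = K[x_1, …, x_N] graded by degree, I ⊆ S a proper ideal generated by homogeneous
polynomials, and m ⊆ S/I the image of the irrelevant ideal (x_1, …, x_N) (the vertex of the cone
Spec S/I), assumed prime. Then S/I is a Cohen–Macaulay ring if and only if the local ring (S/I)_m is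
Cohen–Macaulay. -/
theorem result (K : Type u) [Field K] [IsAlgClosed K] (N : ℕ)
    (I : Ideal (MvPolynomial (Fin N) K))
    (hI : ∃ T : Set (MvPolynomial (Fin N) K), (∀ f ∈ T, ∃ k : ℕ, f.IsHomogeneous k) ∧ I = Ideal.span T)
    (hI' : I ≠ ⊤)
    [hm : ((RingHom.ker (MvPolynomial.constantCoeff : MvPolynomial (Fin N) K →+* K)).map
      (Ideal.Quotient.mk I)).IsPrime] :
    LocCoh.IsCohenMacaulayRing (MvPolynomial (Fin N) K ⧸ I) ↔
      LocCoh.IsCohenMacaulayLocalRing (Localization.AtPrime
        ((RingHom.ker (MvPolynomial.constantCoeff : MvPolynomial (Fin N) K →+* K)).map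
          (Ideal.Quotient.mk I))) := by
  letI := MvPolynomial.gradedAlgebra (σ := Fin N) (R := K)
  constructor
  · intro h
    exact h.isCohenMacaulayLocalRing_localization _
  intro h
  have hI1 : I.IsHomogeneous (MvPolynomial.homogeneousSubmodule (Fin N) K) := by
    obtain ⟨T, hT, rfl⟩ := hI
    exact Ideal.homogeneous_span _ _ hT
  have hker : RingHom.ker (MvPolynomial.constantCoeff : MvPolynomial (Fin N) K →+* K) =
      Groth.L14.CMCrit.vertex K (Fin N) := by
    refine le_antisymm (fun x hx => ?_) (Ideal.span_le.mpr (by rintro _ ⟨i, rfl⟩; simp))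
    rw [Groth.L14.CMCrit.vertex, ← Set.image_univ, MvPolynomial.mem_ideal_span_X_image]
    intro m hm
    obtain ⟨t, ht⟩ : ∃ t, m t ≠ 0 := by
      by_contra hc
      push Not at hc
      rw [show m = 0 from Finsupp.ext hc] at hm
      exact MvPolynomial.mem_support_iff.mp hm hx
    exact ⟨t, trivial, ht⟩
  haveI hmax : (RingHom.ker (MvPolynomial.constantCoeff : MvPolynomial (Fin N) K →+* K)).IsMaximal :=
    RingHom.ker_isMaximal_of_surjective _ fun a => ⟨MvPolynomial.C a, MvPolynomial.constantCoeff_C _ a⟩
  set M := (RingHom.ker (MvPolynomial.constantCoeff : MvPolynomial (Fin N) K →+* K)).map (Ideal.Quotient.mk I) with hM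
  haveI hMmax : M.IsMaximal :=
    (Ideal.map_eq_top_or_isMaximal_of_surjective _ Ideal.Quotient.mk_surjective hmax).resolve_left hm.ne_top
  have hcomap : M.comap (Ideal.Quotient.mk I) = Groth.L14.CMCrit.vertex K (Fin N) := by
    rw [← hker]
    exact (hmax.eq_of_le (Ideal.comap_ne_top _ hm.ne_top) Ideal.le_comap_map).symm
  obtain ⟨e, he⟩ := ENat.ne_top_iff_exists.mp (Ideal.height_ne_top hm.ne_top)
  refine Groth.L14.CMCrit.isCohenMacaulayRing_of_depth hI1 e ?_ ?_
  · rw [← hcomap, ← Groth.L14.CMCrit.idealDepth_quotient_eq, Groth.L04.idealDepth_eq_iInf_depth]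
    refine le_iInf₂ fun p hp => ?_
    obtain rfl : p = ⟨M, hm⟩ := PrimeSpectrum.ext (hMmax.eq_of_le p.isPrime.ne_top hp).symm
    rw [Groth.L04.depth_localizedModule_self]
    have h1 := h.supportDim_eq_depth
    rw [Module.supportDim_self_eq_ringKrullDim, IsLocalization.AtPrime.ringKrullDim_eq_height M, ← he] at h1
    exact_mod_cast h1.le
  · refine (Groth.L14.CMCrit.ringKrullDim_le_height_vertex hI1).trans ?_
    rw [← hker, ← hM, ← he]
    rfl

end Groth.Agent.S11272
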