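import Groth.Statements.S11276
import Groth.Agent.L14.SMT.GradedVertex

set_option autoImplicit false
universe u v
open W4bk4grassmannian

namespace Groth.Agent.S11276

/-- With the conclusion at the irrelevant ideal: let K be a field, A a commutative Noetherian K-algebra
graded by ℕ with degree-zero part K, I and J homogeneous ideals of A such that A/I and A/J are
Cohen–Macaulay rings of Krull dimension e and A/(I + J) is a Cohen–Macaulay ring of Krull dimension
e - 1, where e ≥ 1. Let m be the image in A/(I ∩ J) of the irrelevant ideal A_+ (assumed prime; it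
is maximal). Then the local ring (A/(I ∩ J))_m is Cohen–Macaulay of Krull dimension e. (The
published lemma concludes that A/(I ∩ J) itself is Cohen–Macaulay of dimension e; this row states
the conclusion at the irrelevant ideal only, from which the global one follows by the graded
local–global principle.) -/
theorem result (K : Type u) [Field K] (A : Type v) [CommRing A]
    [Algebra K A] [IsNoetherianRing A] (𝒜 : ℕ → Submodule K A) [GradedAlgebra 𝒜]
    (h0 : ∀ a ∈ 𝒜 0, ∃ c : K, algebraMap K A c = a) (I J : Ideal A) (hI : I.IsHomogeneous 𝒜)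
    (hJ : J.IsHomogeneous 𝒜) (e : ℕ) (he : 1 ≤ e)
    (hIcm : LocCoh.IsCohenMacaulayRing (A ⧸ I)) (hJcm : LocCoh.IsCohenMacaulayRing (A ⧸ J))
    (hIJcm : LocCoh.IsCohenMacaulayRing (A ⧸ (I ⊔ J)))
    (hIdim : ringKrullDim (A ⧸ I) = (e : WithBot ℕ∞)) (hJdim : ringKrullDim (A ⧸ J) = (e : WithBot ℕ∞))
    (hIJdim : ringKrullDim (A ⧸ (I ⊔ J)) = ((e - 1 : ℕ) : WithBot ℕ∞))
    [hm : ((HomogeneousIdeal.irrelevant 𝒜).toIdeal.map (Ideal.Quotient.mk (I ⊓ J))).IsPrime] :
    LocCoh.IsCohenMacaulayLocalRing (Localization.AtPrime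
        ((HomogeneousIdeal.irrelevant 𝒜).toIdeal.map (Ideal.Quotient.mk (I ⊓ J)))) ∧
      ringKrullDim (Localization.AtPrime
        ((HomogeneousIdeal.irrelevant 𝒜).toIdeal.map (Ideal.Quotient.mk (I ⊓ J)))) = (e : WithBot ℕ∞) := by
  obtain ⟨e, rfl⟩ : ∃ e', e = e' + 1 := ⟨e - 1, by omega⟩
  have hd := Groth.L14.SMT.le_idealDepth_inf (Groth.L14.Vertex.le_idealDepth_of_cm h0 hI (e + 1) hIcm hIdim)
    (Groth.L14.Vertex.le_idealDepth_of_cm h0 hJ (e + 1) hJcm hJdim)
    (Groth.L14.Vertex.le_idealDepth_of_cm h0 (hI.sup hJ) e hIJcm (by rw [hIJdim, Nat.add_sub_cancel]))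
  rw [Groth.L14.Vertex.idealDepth_quotient, Groth.L04.idealDepth_eq_iInf_depth] at hd
  set m := (HomogeneousIdeal.irrelevant 𝒜).toIdeal.map (Ideal.Quotient.mk (I ⊓ J))
  have h1 : ((e + 1 : ℕ) : ℕ∞) ≤ LocCoh.depth (Localization.AtPrime m) (Localization.AtPrime m) := by
    rw [← Groth.L04.depth_localizedModule_self]
    exact hd.trans (iInf₂_le (⟨m, hm⟩ : PrimeSpectrum _) le_rfl)
  have h2 : ringKrullDim (Localization.AtPrime m) ≤ ((e + 1 : ℕ) : WithBot ℕ∞) := by
    refine le_trans (Groth.L14.CMCrit.isCohenMacaulayRing_of_forall_maximal.ringKrullDim_le_of_localization _ m) ?_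
    rw [ringKrullDim_quotient]
    refine iSup_le fun l => ?_
    have hmul : I * J ≤ l.head.1.asIdeal := Ideal.mul_le_inf.trans l.head.2
    rcases (Ideal.IsPrime.mul_le l.head.1.isPrime).mp hmul with h | h
    · rw [← hIdim, ringKrullDim_quotient]
      exact le_iSup_of_le ⟨l.length, fun i => ⟨(l i).1, fun x hx =>
        (l.monotone (Fin.zero_le i) : l.head ≤ l i) (h hx)⟩, fun i => l.step i⟩ le_rfl
    · rw [← hJdim, ringKrullDim_quotient]
      exact le_iSup_of_le ⟨l.length, fun i => ⟨(l i).1, fun x hx =>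
        (l.monotone (Fin.zero_le i) : l.head ≤ l i) (h hx)⟩, fun i => l.step i⟩ le_rfl
  have h3 : ((LocCoh.depth (Localization.AtPrime m) (Localization.AtPrime m) : ℕ∞) : WithBot ℕ∞) ≤
      Module.supportDim (Localization.AtPrime m) (Localization.AtPrime m) := Groth.L04.depth_le_supportDim
  rw [Module.supportDim_self_eq_ringKrullDim] at h3
  have h1' : ((e + 1 : ℕ) : WithBot ℕ∞) ≤
      ((LocCoh.depth (Localization.AtPrime m) (Localization.AtPrime m) : ℕ∞) : WithBot ℕ∞) := by exact_mod_cast h1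
  have heq := le_antisymm h2 (h1'.trans h3)
  refine ⟨{ supportDim_eq_depth := ?_ }, heq⟩
  rw [Module.supportDim_self_eq_ringKrullDim]
  exact le_antisymm (h2.trans h1') h3

end Groth.Agent.S11276
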