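import Groth.Statements.S11280
import Groth.Agent.L12.DefTriv


set_option autoImplicit false
universe u
open Deform

namespace Groth.Agent.S11280

/-- Let k be an algebraically closed field, A a local Artinian k-algebra with residue field k and t an
element of the maximal ideal of A annihilated by the maximal ideal, so that A is a small extension
of A/tA. Let B be a flat A-algebra whose closed fibre B/m_A B is a formally smooth k-algebra (an
infinitesimal deformation over A of a formally smooth k-algebra). Then every A-algebra automorphism
of B/tB is induced by an A-algebra automorphism of B. (The published statement asks the automorphism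
of B/tB to induce the identity on B/m_A B; this row does not. The published statement takes the
closed fibre smooth, that is formally smooth and essentially of finite type; this row asks the
closed fibre to be formally smooth over k in the sense of lifting along all square-zero surjections
of commutative k-algebras, with no finiteness condition.) -/
theorem result
    {k : Type u} [Field k] [IsAlgClosed k]
    {A : Type u} [CommRing A] [Algebra k A] [IsLocalRing A] [IsArtinianRing A]
    (hres : ∀ a : A, ∃ c : k, a - algebraMap k A c ∈ IsLocalRing.maximalIdeal A)
    (t : A) (ht : t ∈ IsLocalRing.maximalIdeal A)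
    (htm : ∀ a ∈ IsLocalRing.maximalIdeal A, a * t = 0)
    {B : Type u} [CommRing B] [Algebra A B] [Module.Flat A B] [Algebra k B] [IsScalarTower k A B]
    (hsm : Algebra.FormallySmooth k (B ⧸ (IsLocalRing.maximalIdeal A).map (algebraMap A B)))
    (σ : (B ⧸ Ideal.span {algebraMap A B t}) ≃ₐ[A] (B ⧸ Ideal.span {algebraMap A B t})) :
    ∃ τ : B ≃ₐ[A] B, ∀ b : B,
      Ideal.Quotient.mk (Ideal.span {algebraMap A B t}) (τ b) =
        σ (Ideal.Quotient.mk (Ideal.span {algebraMap A B t}) b) := by
  haveI := Groth.L12.formallySmooth_of_flat_fibre (B := B) hres hsm
  exact Groth.L12.exists_aut_lift t (htm t ht) σ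
end Groth.Agent.S11280
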