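import Groth.Statements.S11281
import Groth.Agent.L12.ExalSmall
import Groth.Agent.L12.ExalArtin


set_option autoImplicit false
universe u
open Deform

namespace Groth.Agent.S11281

/-- Let k be an algebraically closed field, Λ a local Noetherian k-algebra with residue field k, and R a
local Noetherian Λ-algebra, with local structure map and residue field k. The following are
equivalent: (a) every Λ-extension of R by its residue field k is trivial, i.e. the relative
obstruction space o(R/Λ) = Ex_Λ(R, k) vanishes; (b) for every local Artinian Λ-algebra B with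
residue field k and every t in the maximal ideal of B annihilated by the maximal ideal, every
Λ-algebra map R → B/tB lifts to a Λ-algebra map R → B (formal smoothness of R over Λ tested on small
extensions of Artinian rings). The test algebras B range over the universe of R. -/
theorem result
    {k : Type u} [Field k] [IsAlgClosed k]
    {Λ : Type u} [CommRing Λ] [Algebra k Λ] [IsLocalRing Λ] [IsNoetherianRing Λ]
    (hΛ : ∀ a : Λ, ∃ c : k, a - algebraMap k Λ c ∈ IsLocalRing.maximalIdeal Λ)
    {R : Type u} [CommRing R] [Algebra Λ R] [IsLocalRing R] [IsNoetherianRing R]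
    [IsLocalHom (algebraMap Λ R)]
    (hR : ∀ r : R, ∃ c : k, r - algebraMap Λ R (algebraMap k Λ c) ∈ IsLocalRing.maximalIdeal R) :
    (∀ X : Exal.Ext Λ R (IsLocalRing.ResidueField R), X.IsTrivial) ↔
    (∀ (B : Type u) [CommRing B] [Algebra Λ B] [IsLocalRing B] [IsArtinianRing B],
      (∀ b : B, ∃ c : k, b - algebraMap Λ B (algebraMap k Λ c) ∈ IsLocalRing.maximalIdeal B) →
      ∀ t : B, t ∈ IsLocalRing.maximalIdeal B → (∀ b ∈ IsLocalRing.maximalIdeal B, b * t = 0) →
      ∀ φ : R →ₐ[Λ] B ⧸ Ideal.span {t},
        ∃ φ' : R →ₐ[Λ] B, (Ideal.Quotient.mkₐ Λ (Ideal.span {t})).comp φ' = φ) := by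
  haveI := Groth.L12.ExalArtin.isSimpleModule_residueField R
  constructor
  · intro h B _ _ _ _ hB t ht hmt φ
    refine Groth.L12.ExalSmall.lift_of_trivial h B (fun b => ?_) t ht hmt φ
    obtain ⟨c, hc⟩ := hB b
    exact ⟨algebraMap k Λ c, hc⟩
  · intro h X
    refine Groth.L12.ExalSmall.trivial_of_lift (Set.range (algebraMap k Λ)) (fun r => ?_) (fun B _ _ _ _ hB => ?_) X
    · obtain ⟨c, hc⟩ := hR r
      exact ⟨_, ⟨c, rfl⟩, hc⟩
    · refine h B (fun b => ?_)
      obtain ⟨_, ⟨c, rfl⟩, hc⟩ := hB b
      exact ⟨c, hc⟩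
end Groth.Agent.S11281
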