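import Groth.Statements.S11282
import Mathlib.RingTheory.Filtration
import Mathlib.RingTheory.MvPolynomial.Homogeneous
import Mathlib.RingTheory.Polynomial.Basic

set_option autoImplicit false
universe u
open Deform

namespace Groth.Agent.S11282

open MvPolynomial

theorem core {k R : Type u} [Field k] [CommRing R] [IsLocalRing R] [IsNoetherianRing R] [Algebra k R]
    (hR : ∀ r : R, ∃ c : k, r - algebraMap k R c ∈ IsLocalRing.maximalIdeal R) :
    ∃ n : ℕ, ∀ (E : Type u) (_ : CommRing E) (_ : Algebra k E) (π : E →ₐ[k] R),
      Function.Surjective π →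
      (∀ x z, π x ∈ IsLocalRing.maximalIdeal R → π z = 0 → x * z = 0) →
      (∀ [IsLocalRing E], IsNoetherianRing E) →
      ∃ I : Ideal E, (∀ x ∈ I, π x = 0 → x = 0) ∧
        Ideal.map π I = IsLocalRing.maximalIdeal R ^ (n + 1) := by
  classical
  set m := IsLocalRing.maximalIdeal R
  obtain ⟨N, y, hy⟩ := Submodule.fg_iff_exists_fin_generating_family.mp
    (IsNoetherian.noetherian (m : Submodule R R))
  change Ideal.span (Set.range y) = m at hy
  let S : Set (MvPolynomial (Fin N) k) :=
    {g | ∃ d, g.IsHomogeneous d ∧ aeval y g ∈ m ^ (d + 1)}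
  obtain ⟨T, hTS, hT⟩ := (Submodule.fg_span_iff_fg_span_finset_subset S).mp
    (IsNoetherian.noetherian (Submodule.span (MvPolynomial (Fin N) k) S))
  have hTdeg : ∀ g : T, ∃ d, (g : MvPolynomial (Fin N) k).IsHomogeneous d ∧ aeval y g.1 ∈ m ^ (d + 1) :=
    fun g => hTS g.2
  choose d hd hd' using hTdeg
  refine ⟨Finset.univ.sup d, fun E _ _ π hπ hzero hnoeth => ?_⟩
  set n := Finset.univ.sup d
  choose e he using fun i => hπ (y i)
  set K : Ideal E := Ideal.span (Set.range e)
  have hmapK : K.map π = m := by
    rw [Ideal.map_span, ← Set.range_comp]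
    simp only [Function.comp_def, he]
    exact hy
  have hKm : ∀ x ∈ K, π x ∈ m := fun x hx => hmapK ▸ Ideal.mem_map_of_mem π hx
  have hlift : ∀ j x, π x ∈ m ^ j → ∃ w ∈ K ^ j, π (x - w) = 0 := by
    intro j x hx
    rw [← hmapK, ← Ideal.map_pow, Ideal.mem_map_iff_of_surjective _ hπ] at hx
    obtain ⟨w, hw, hwx⟩ := hx
    exact ⟨w, hw, by rw [map_sub, hwx, sub_self]⟩
  -- leading forms
  have hlead : ∀ s x, x ∈ K ^ (s + 1) → ∃ p : MvPolynomial (Fin N) k, p.IsHomogeneous (s + 1) ∧
      x - aeval e p ∈ K ^ (s + 2) ∧ aeval e p ∈ K ^ (s + 1) := by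
    intro s
    induction s with
    | zero =>
      intro x hx
      rw [pow_one] at hx
      induction hx using Submodule.span_induction with
      | mem z hz =>
        obtain ⟨i, rfl⟩ := hz
        exact ⟨X i, isHomogeneous_X k i, by simp, by simpa using Ideal.subset_span (Set.mem_range_self (f := e) i)⟩
      | zero => exact ⟨0, isHomogeneous_zero _ _ _, by simp, by simp⟩
      | add z w _ _ hz hw =>
        obtain ⟨p, hp, hp', hp''⟩ := hz
        obtain ⟨q, hq, hq', hq''⟩ := hw
        refine ⟨p + q, hp.add hq, ?_, by rw [map_add]; exact add_mem hp'' hq''⟩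
        rw [map_add, add_sub_add_comm]; exact add_mem hp' hq'
      | smul a z _ hz =>
        obtain ⟨p, hp, hp', hp''⟩ := hz
        obtain ⟨c, hc⟩ := hR (π a)
        have ha : π (a - algebraMap k E c) ∈ m ^ 1 := by
          rw [map_sub, AlgHom.commutes, pow_one]; exact hc
        obtain ⟨w, hw, hw0⟩ := hlift 1 _ ha
        refine ⟨C c * p, hp.C_mul c, ?_, by rw [map_mul, aeval_C]; exact Ideal.mul_mem_left _ _ hp''⟩
        have hkey : a • z - aeval e (C c * p) = a * (z - aeval e p) +
            w * aeval e p + aeval e p * (a - algebraMap k E c - w) := by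
          rw [map_mul, aeval_C, smul_eq_mul]; ring
        rw [hkey, hzero (aeval e p) _ (hKm _ (by simpa using hp'')) hw0, add_zero]
        refine add_mem (Ideal.mul_mem_left _ _ hp') ?_
        rw [show (0 + 2 : ℕ) = 1 + 1 from rfl, pow_add]
        exact Ideal.mul_mem_mul hw (by simpa using hp'')
    | succ s ih =>
      intro x hx
      rw [pow_succ] at hx
      induction hx using Submodule.mul_induction_on' with
      | mem_mul_mem a ha b hb =>
        obtain ⟨p, hp, hp', hp''⟩ := ih a ha
        obtain ⟨q, hq, hq', hq''⟩ : ∃ q : MvPolynomial (Fin N) k, q.IsHomogeneous 1 ∧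
            b - aeval e q ∈ K ^ 2 ∧ aeval e q ∈ K ^ 1 := by
          have h1 : b ∈ K ^ 1 := by rwa [pow_one]
          clear ih hp hp' hp''
          induction hb using Submodule.span_induction with
          | mem z hz =>
            obtain ⟨i, rfl⟩ := hz
            exact ⟨X i, isHomogeneous_X k i, by simp, by simpa using Ideal.subset_span (Set.mem_range_self (f := e) i)⟩
          | zero => exact ⟨0, isHomogeneous_zero _ _ _, by simp, by simp⟩
          | add z w hz0 hw0 hz hw =>
            obtain ⟨p, hp, hp', hp''⟩ := hz (by rwa [pow_one])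
            obtain ⟨q, hq, hq', hq''⟩ := hw (by rwa [pow_one])
            refine ⟨p + q, hp.add hq, ?_, by rw [map_add]; exact add_mem hp'' hq''⟩
            rw [map_add, add_sub_add_comm]; exact add_mem hp' hq'
          | smul a' z hz0 hz =>
            obtain ⟨p, hp, hp', hp''⟩ := hz (by rwa [pow_one])
            obtain ⟨c, hc⟩ := hR (π a')
            have ha : π (a' - algebraMap k E c) ∈ m ^ 1 := by
              rw [map_sub, AlgHom.commutes, pow_one]; exact hc
            obtain ⟨w, hw, hw0⟩ := hlift 1 _ ha
            refine ⟨C c * p, hp.C_mul c, ?_,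
              by rw [map_mul, aeval_C]; exact Ideal.mul_mem_left _ _ hp''⟩
            have hkey : a' • z - aeval e (C c * p) = a' * (z - aeval e p) +
                w * aeval e p + aeval e p * (a' - algebraMap k E c - w) := by
              rw [map_mul, aeval_C, smul_eq_mul]; ring
            rw [hkey, hzero (aeval e p) _ (hKm _ (by simpa using hp'')) hw0, add_zero]
            refine add_mem (Ideal.mul_mem_left _ _ hp') ?_
            rw [show (2 : ℕ) = 1 + 1 from rfl, pow_add]
            exact Ideal.mul_mem_mul hw (by simpa using hp'')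
        refine ⟨p * q, hp.mul hq, ?_, ?_⟩
        · rw [map_mul, show a * b - aeval e p * aeval e q =
            (a - aeval e p) * b + aeval e p * (b - aeval e q) by ring]
          refine add_mem ?_ ?_
          · rw [show s + 1 + 2 = (s + 2) + 1 by omega, pow_succ]
            exact Ideal.mul_mem_mul hp' hb
          · rw [show s + 1 + 2 = (s + 1) + 2 by omega, pow_add]
            exact Ideal.mul_mem_mul hp'' hq'
        · rw [map_mul, pow_add]
          exact Ideal.mul_mem_mul hp'' hq''
      | add z hz w hw hz' hw' =>
        obtain ⟨p, hp, hp', hp''⟩ := hz'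
        obtain ⟨q, hq, hq', hq''⟩ := hw'
        refine ⟨p + q, hp.add hq, ?_, by rw [map_add]; exact add_mem hp'' hq''⟩
        rw [map_add, add_sub_add_comm]; exact add_mem hp' hq'
  have hhom : ∀ (j : ℕ) (q : MvPolynomial (Fin N) k), q.IsHomogeneous j → aeval e q ∈ K ^ j := by
    intro j q hq
    rw [q.as_sum, map_sum]
    refine sum_mem fun v hv => ?_
    rw [aeval_monomial]
    refine Ideal.mul_mem_left _ _ ?_
    have hdeg : v.sum (fun _ a => a) = j := by
      have := hq (mem_support_iff.mp hv)
      simpa [Finsupp.weight_apply, Finsupp.sum] using this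
    rw [← hdeg, Finsupp.prod, Finsupp.sum, ← Finset.prod_pow_eq_pow_sum]
    exact Ideal.prod_mem_prod fun i _ => Ideal.pow_mem_pow (Ideal.subset_span (Set.mem_range_self (f := e) i)) _
  have hstep : ∀ s, n + 1 ≤ s → ∀ x ∈ K ^ s, π x = 0 → x ∈ K ^ (s + 1) := by
    intro s hs x hx hx0
    obtain ⟨s', rfl⟩ : ∃ s', s = s' + 1 := ⟨s - 1, by omega⟩
    obtain ⟨p, hp, hp', hp''⟩ := hlead s' x hx
    have hp0 : p ∈ Submodule.span (MvPolynomial (Fin N) k) (T : Set (MvPolynomial (Fin N) k)) := by
      rw [← hT]
      refine Submodule.subset_span ⟨s' + 1, hp, ?_⟩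
      have he' : ∀ q : MvPolynomial (Fin N) k, π (aeval e q) = aeval y q := by
        intro q
        rw [← AlgHom.comp_apply, comp_aeval]
        simp only [he]
      have h1 : π (x - aeval e p) ∈ m ^ (s' + 2) := by
        rw [← hmapK, ← Ideal.map_pow]; exact Ideal.mem_map_of_mem π hp'
      rw [map_sub, hx0, zero_sub, he'] at h1
      simpa using (m ^ (s' + 2)).neg_mem h1
    obtain ⟨c, hc⟩ := Submodule.mem_span_finset.mp hp0
    have hmain : ∀ (g : T) (h : MvPolynomial (Fin N) k),
        aeval e (homogeneousComponent (s' + 1) (h • (g : MvPolynomial (Fin N) k))) ∈ K ^ (s' + 2) := by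
      intro g h
      induction h using MvPolynomial.induction_on' with
      | monomial v a =>
        have hhm : (monomial v a • (g : MvPolynomial (Fin N) k)).IsHomogeneous (v.degree + d g) :=
          (isHomogeneous_monomial a rfl).mul (hd g)
        by_cases hdeg : v.degree + d g = s' + 1
        · rw [homogeneousComponent_of_mem ((mem_homogeneousSubmodule _ _).mpr hhm),
            if_pos hdeg.symm, smul_eq_mul, map_mul]
          have hv : aeval e (monomial v a) ∈ K ^ v.degree := hhom _ _ (isHomogeneous_monomial a rfl)
          have hdn : d g ≤ n := Finset.le_sup (Finset.mem_univ g)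
          have hg : π (aeval e (g : MvPolynomial (Fin N) k)) ∈ m ^ (d g + 1) := by
            rw [← AlgHom.comp_apply, comp_aeval]
            simp only [he]
            exact hd' g
          obtain ⟨w, hw, hw0⟩ := hlift _ _ hg
          have hvm : π (aeval e (monomial v a)) ∈ m :=
            hKm _ (Ideal.pow_le_self (by omega) hv)
          rw [show aeval e (monomial v a) * aeval e (g : MvPolynomial (Fin N) k) =
            aeval e (monomial v a) * w + aeval e (monomial v a) * (aeval e (g : MvPolynomial (Fin N) k) - w) by ring,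
            hzero _ _ hvm hw0, add_zero, show s' + 2 = v.degree + (d g + 1) by omega, pow_add]
          exact Ideal.mul_mem_mul hv hw
        · rw [homogeneousComponent_of_mem ((mem_homogeneousSubmodule _ _).mpr hhm),
            if_neg (Ne.symm hdeg), map_zero]
          exact zero_mem _
      | add q q' hq hq' => rw [add_smul, map_add, map_add]; exact add_mem hq hq'
    have hpe : aeval e p ∈ K ^ (s' + 2) := by
      have : homogeneousComponent (s' + 1) p = p := by
        rw [homogeneousComponent_of_mem ((mem_homogeneousSubmodule _ _).mpr hp), if_pos rfl]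
      rw [← this, ← hc.2, map_sum, map_sum]
      exact sum_mem fun g hg => hmain ⟨g, hg⟩ _
    simpa using add_mem hp' hpe
  refine ⟨K ^ (n + 1), fun x hx hx0 => ?_, by rw [Ideal.map_pow, hmapK]⟩
  have hall : ∀ j, x ∈ K ^ (n + 1 + j) := by
    intro j
    induction j with
    | zero => exact hx
    | succ j ih => exact hstep (n + 1 + j) (Nat.le_add_right _ _) x ih hx0
  have hnt : Nontrivial E := π.toRingHom.domain_nontrivial
  have hu : ∀ z, IsUnit (π z) → IsUnit z := by
    intro z hz
    obtain ⟨u, hu⟩ := hz
    obtain ⟨w, hw⟩ := hπ (↑u⁻¹ : R)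
    have h1 : π (z * w - 1) = 0 := by rw [map_sub, map_mul, ← hu, hw, map_one, Units.mul_inv, sub_self]
    have h2 : (z * w - 1) * (z * w - 1) = 0 := hzero _ _ (by rw [h1]; exact zero_mem _) h1
    exact IsUnit.of_mul_eq_one (w * (2 - z * w)) (by linear_combination (-1 : E) * h2)
  have : IsLocalRing E := by
    refine IsLocalRing.of_isUnit_or_isUnit_one_sub_self fun z => ?_
    rcases IsLocalRing.isUnit_or_isUnit_one_sub_self (π z) with h | h
    · exact Or.inl (hu z h)
    · exact Or.inr (hu _ (by rw [map_sub, map_one]; exact h))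
  have := @hnoeth _
  have hKtop : K ≠ ⊤ := fun h => by
    have := hKm 1 (h ▸ Submodule.mem_top)
    rw [map_one] at this
    exact (IsLocalRing.maximalIdeal.isMaximal R).ne_top ((Ideal.eq_top_iff_one _).mpr this)
  have hmem : x ∈ ⨅ i, K ^ i := Submodule.mem_iInf _ |>.mpr fun i =>
    Ideal.pow_le_pow_right (Nat.le_add_left i (n + 1)) (hall i)
  rw [Ideal.iInf_pow_eq_bot_of_isLocalRing K hKtop] at hmem
  exact hmem

/-- Let k be an algebraically closed field, Λ a complete local Noetherian k-algebra with residue field
k, and R a local Noetherian Λ-algebra with local structure map, residue field k and maximal ideal m.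
Then for some n the pull-back map o((R/m^(n+1))/Λ) → o(R/Λ) on obstruction spaces is onto: every
Λ-extension 0 → k → E → R → 0 of R by its residue field is the inverse image of a Λ-extension of
R/m^(n+1) by k. Concretely, the middle ring E of every such extension contains an ideal I which
meets the kernel k only in 0 and whose image in R is exactly m^(n+1) (then E/I is an extension of
R/m^(n+1) by k whose inverse image along R → R/m^(n+1) is E). -/
theorem result
    {k : Type u} [Field k] [IsAlgClosed k]
    {Λ : Type u} [CommRing Λ] [Algebra k Λ] [IsLocalRing Λ] [IsNoetherianRing Λ]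
    [IsAdicComplete (IsLocalRing.maximalIdeal Λ) Λ]
    (hΛ : ∀ a : Λ, ∃ c : k, a - algebraMap k Λ c ∈ IsLocalRing.maximalIdeal Λ)
    {R : Type u} [CommRing R] [Algebra Λ R] [IsLocalRing R] [IsNoetherianRing R]
    [IsLocalHom (algebraMap Λ R)]
    (hR : ∀ r : R, ∃ c : k, r - algebraMap Λ R (algebraMap k Λ c) ∈ IsLocalRing.maximalIdeal R) :
    ∃ n : ℕ, ∀ X : Exal.Ext Λ R (IsLocalRing.ResidueField R),
      ∃ I : Ideal X.E, (∀ x ∈ I, X.proj x = 0 → x = 0) ∧
        Ideal.map X.proj I = IsLocalRing.maximalIdeal R ^ (n + 1) := by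
  letI : Algebra k R := ((algebraMap Λ R).comp (algebraMap k Λ)).toAlgebra
  obtain ⟨n, hn⟩ := core (k := k) (R := R) hR
  refine ⟨n, fun X => ?_⟩
  letI : Algebra k X.E := ((algebraMap Λ X.E).comp (algebraMap k Λ)).toAlgebra
  let π : X.E →ₐ[k] R := { X.proj.toRingHom with commutes' := fun c => X.proj.commutes _ }
  refine hn X.E inferInstance inferInstance π X.isExtension.proj_surjective (fun x z hx hz => ?_) ?_
  · obtain ⟨z, rfl⟩ := (X.isExtension.exact z).mp hz
    rw [X.isExtension.mul_incl]
    have : X.proj x • z = 0 := by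
      rw [Algebra.smul_def, IsLocalRing.ResidueField.algebraMap_eq,
        (IsLocalRing.residue_eq_zero_iff _).mpr (show X.proj x ∈ IsLocalRing.maximalIdeal R from hx), zero_mul]
    rw [this, map_zero]
  · intro _
    letI : Module X.E R := Module.compHom R X.proj.toRingHom
    let L : X.E →ₗ[X.E] R :=
      { toFun := X.proj, map_add' := map_add _, map_smul' := fun a b => map_mul _ a b }
    letI : Module X.E (IsLocalRing.ResidueField R) :=
      Module.compHom _ X.proj.toRingHom
    let J : IsLocalRing.ResidueField R →ₗ[X.E] X.E :=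
      { toFun := X.incl, map_add' := map_add _,
        map_smul' := fun a z => (X.isExtension.mul_incl a z).symm }
    have h1 : IsNoetherian X.E R := by
      refine isNoetherian_def.mpr fun (N : Submodule X.E R) => ?_
      · let N' : Submodule R R :=
          { carrier := N, add_mem' := N.add_mem, zero_mem' := N.zero_mem,
            smul_mem' := fun r z hz => by
              obtain ⟨a, rfl⟩ := X.isExtension.proj_surjective r
              exact N.smul_mem a hz }
        obtain ⟨s, hs⟩ := (IsNoetherian.noetherian N')
        refine ⟨s, le_antisymm (Submodule.span_le.mpr fun z hz => ?_) fun z hz => ?_⟩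
        · have : z ∈ N' := hs ▸ Submodule.subset_span hz
          exact this
        · have hz' : z ∈ Submodule.span R (s : Set R) := hs.symm ▸ (show z ∈ N' from hz)
          clear hz
          induction hz' using Submodule.span_induction with
          | mem w hw => exact Submodule.subset_span hw
          | zero => exact zero_mem _
          | add _ _ _ _ ha hb => exact add_mem ha hb
          | smul r w _ hw =>
            obtain ⟨a, rfl⟩ := X.isExtension.proj_surjective r
            exact Submodule.smul_mem _ a hw
    have h2 : IsNoetherian X.E (IsLocalRing.ResidueField R) := by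
      refine isNoetherian_def.mpr fun (N : Submodule X.E (IsLocalRing.ResidueField R)) => ?_
      by_cases hN : ∀ z ∈ N, z = 0
      · rw [(Submodule.eq_bot_iff N).mpr hN]; exact Submodule.fg_bot
      push_neg at hN
      obtain ⟨z, hz, hz0⟩ := hN
      refine ⟨{z}, le_antisymm ?_ fun w hw => ?_⟩
      · rw [Finset.coe_singleton, Submodule.span_singleton_le_iff_mem]; exact hz
      · obtain ⟨r, hr⟩ := IsLocalRing.residue_surjective (w / z)
        obtain ⟨a, rfl⟩ := X.isExtension.proj_surjective r
        rw [Finset.coe_singleton, Submodule.mem_span_singleton]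
        refine ⟨a, ?_⟩
        change X.proj a • z = w
        rw [Algebra.smul_def, IsLocalRing.ResidueField.algebraMap_eq, hr, div_mul_cancel₀ _ hz0]
    exact isNoetherian_of_range_eq_ker J L (le_antisymm
      (by rintro _ ⟨z, rfl⟩; exact (X.isExtension.exact _).mpr ⟨z, rfl⟩)
      (fun x hx => (X.isExtension.exact x).mp hx))

end Groth.Agent.S11282
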