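import Groth.Statements.S11283
import Groth.Agent.L01.CompletionExt
import Groth.Agent.L01.AdicNoeth
import Mathlib.RingTheory.Filtration
import Mathlib.RingTheory.SimpleModule.Basic

set_option autoImplicit false
universe u
open Deform

namespace Groth.Agent.S11283

section
variable {A : Type u} {B L : Type u} [CommRing A] [CommRing B] [Algebra A B] [IsLocalRing B]
  [AddCommGroup L] [Module B L]

/-- lift of the maximal ideal -/
abbrev MX (X : Exal.Ext A B L) : Ideal X.E := (IsLocalRing.maximalIdeal B).comap X.proj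

theorem map_MX_pow (X : Exal.Ext A B L) (N : ℕ) :
    (MX X ^ N).map X.proj = IsLocalRing.maximalIdeal B ^ N := by
  rw [Ideal.map_pow, Ideal.map_comap_of_surjective _ X.isExtension.proj_surjective]

theorem proj_mem_pow (X : Exal.Ext A B L) {N : ℕ} {x : X.E} (hx : x ∈ MX X ^ N) :
    X.proj x ∈ IsLocalRing.maximalIdeal B ^ N := by
  rw [← map_MX_pow X N]; exact Ideal.mem_map_of_mem _ hx

theorem exists_lift_pow (X : Exal.Ext A B L) {N : ℕ} {b : B}
    (hb : b ∈ IsLocalRing.maximalIdeal B ^ N) : ∃ w ∈ MX X ^ N, X.proj w = b := by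
  rw [← map_MX_pow X N] at hb
  exact (Ideal.mem_map_iff_of_surjective _ X.isExtension.proj_surjective).mp hb

/-- a high power of the maximal ideal misses the kernel -/
theorem exists_pow_inf_ker [IsNoetherianRing B]
    (hgen : ∀ z : L, z ≠ 0 → ∀ w : L, ∃ b : B, b • z = w) (X : Exal.Ext A B L) :
    ∃ N, ∀ n, N ≤ n → ∀ x ∈ MX X ^ n, X.proj x = 0 → x = 0 := by
  classical
  have hE := X.isExtension
  have hnt : Nontrivial X.E := X.proj.toRingHom.domain_nontrivial
  have hu : ∀ z, IsUnit (X.proj z) → IsUnit z := by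
    intro z hz
    obtain ⟨u, hu⟩ := hz
    obtain ⟨w, hw⟩ := hE.proj_surjective (↑u⁻¹ : B)
    have h1 : X.proj (z * w - 1) = 0 := by
      rw [map_sub, map_mul, ← hu, hw, map_one, Units.mul_inv, sub_self]
    obtain ⟨l, hl⟩ := (hE.exact _).mp h1
    have h2 : (z * w - 1) * (z * w - 1) = 0 := by
      nth_rewrite 2 [← hl]
      rw [hE.mul_incl, h1, zero_smul, map_zero]
    exact IsUnit.of_mul_eq_one (w * (2 - z * w)) (by linear_combination (-1 : X.E) * h2)
  have : IsLocalRing X.E := by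
    refine IsLocalRing.of_isUnit_or_isUnit_one_sub_self fun z => ?_
    rcases IsLocalRing.isUnit_or_isUnit_one_sub_self (X.proj z) with h | h
    · exact Or.inl (hu z h)
    · exact Or.inr (hu _ (by rw [map_sub, map_one]; exact h))
  have : IsNoetherianRing X.E := by
    refine isNoetherianRing_iff_ideal_fg _ |>.mpr fun I => ?_
    obtain ⟨s, hs⟩ := IsNoetherian.noetherian (I.map X.proj : Submodule B B)
    change Ideal.span (s : Set B) = I.map X.proj at hs
    have hlift : ∀ b : s, ∃ a ∈ I, X.proj a = b := fun b =>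
      (Ideal.mem_map_iff_of_surjective _ hE.proj_surjective).mp (hs ▸ Ideal.subset_span b.2)
    choose a ha haeq using hlift
    have hker : ∃ T : Finset X.E, (T : Set X.E) ⊆ I ∧
        ∀ x ∈ I, X.proj x = 0 → x ∈ Ideal.span (T : Set X.E) := by
      by_cases h : ∃ x ∈ I, X.proj x = 0 ∧ x ≠ 0
      · obtain ⟨x, hx, hx0, hxne⟩ := h
        refine ⟨{x}, by simpa using hx, fun y hy hy0 => ?_⟩
        obtain ⟨z, rfl⟩ := (hE.exact x).mp hx0
        obtain ⟨w, rfl⟩ := (hE.exact y).mp hy0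
        obtain ⟨b, rfl⟩ := hgen z (fun h0 => hxne (by rw [h0, map_zero])) w
        obtain ⟨c, rfl⟩ := hE.proj_surjective b
        rw [← hE.mul_incl, Finset.coe_singleton]
        exact Ideal.mul_mem_left _ _ (Ideal.subset_span rfl)
      · push_neg at h
        exact ⟨∅, by simp, fun y hy hy0 => by rw [h y hy hy0]; exact zero_mem _⟩
    obtain ⟨T, hT, hT'⟩ := hker
    refine ⟨Finset.univ.image a ∪ T, le_antisymm (Ideal.span_le.mpr ?_) fun x hx => ?_⟩
    · intro y hy
      rcases Finset.mem_union.mp hy with h | h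
      · obtain ⟨b, -, rfl⟩ := Finset.mem_image.mp h; exact ha b
      · exact hT h
    · have h1 : X.proj x ∈ (Ideal.span (Set.range a)).map X.proj := by
        rw [Ideal.map_span, ← Set.range_comp]
        have : (fun b : s => X.proj (a b)) = Subtype.val := funext haeq
        rw [show (X.proj : X.E → B) ∘ a = Subtype.val from this, Subtype.range_val]
        exact hs.symm ▸ Ideal.mem_map_of_mem _ hx
      obtain ⟨y, hy, hyx⟩ := (Ideal.mem_map_iff_of_surjective _ hE.proj_surjective).mp h1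
      have hyI : y ∈ I := Ideal.span_le.mpr (by rintro _ ⟨b, rfl⟩; exact ha b) hy
      change x ∈ Ideal.span _
      rw [show x = y + (x - y) by ring]
      refine add_mem (Ideal.span_mono ?_ hy) (Ideal.span_mono (by simp) (hT' _ (I.sub_mem hx hyI)
        (by rw [map_sub, hyx, sub_self])))
      intro z hz
      obtain ⟨b, rfl⟩ := hz
      simp
  by_contra hcon
  push_neg at hcon
  have hMtop : MX X ≠ ⊤ := (Ideal.IsPrime.comap X.proj).ne_top
  have hbot := Ideal.iInf_pow_eq_bot_of_isLocalRing (MX X) hMtop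
  have hall : ∀ z : L, ∀ j, X.incl z ∈ MX X ^ j := by
    intro z j
    obtain ⟨n, hn, x, hx, hx0, hxne⟩ := hcon j
    obtain ⟨z₀, rfl⟩ := (hE.exact x).mp hx0
    obtain ⟨b, rfl⟩ := hgen z₀ (fun h0 => hxne (by rw [h0, map_zero])) z
    obtain ⟨c, rfl⟩ := hE.proj_surjective b
    rw [← hE.mul_incl]
    exact Ideal.mul_mem_left _ _ (Ideal.pow_le_pow_right hn hx)
  obtain ⟨n, -, x, -, hx0, hxne⟩ := hcon 0
  obtain ⟨z, rfl⟩ := (hE.exact x).mp hx0
  exact hxne (by
    have : X.incl z ∈ ⨅ j, MX X ^ j := Submodule.mem_iInf _ |>.mpr (hall z)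
    rwa [hbot] at this)

theorem equiv_pow {X X' : Exal.Ext A B L} (φ : X.Equiv X') (N : ℕ) {x : X.E}
    (hx : x ∈ MX X ^ N) : φ.toAlgEquiv x ∈ MX X' ^ N := by
  have h : (MX X).map φ.toAlgEquiv ≤ MX X' := by
    rw [Ideal.map_le_iff_le_comap]
    intro y hy
    simp only [Ideal.mem_comap] at hy ⊢
    rwa [φ.proj_apply]
  refine Ideal.pow_right_mono h N ?_
  rw [← Ideal.map_pow]
  exact Ideal.mem_map_of_mem _ hx

end

section
variable {A : Type u} {B₀ B L : Type u} [CommRing A] [CommRing B] [Algebra A B] [IsLocalRing B]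
  [CommRing B₀] [IsLocalRing B₀] [Algebra A B₀] [Algebra B₀ B] [IsScalarTower A B₀ B]
  [AddCommGroup L] [Module B L] [Module B₀ L] [IsScalarTower B₀ B L]

theorem fst_pow (X : Exal.Ext A B L) (hmap : (IsLocalRing.maximalIdeal B₀).map (algebraMap B₀ B) ≤
      IsLocalRing.maximalIdeal B) {N : ℕ} {u : (X.pullback B₀).E} (hu : u ∈ MX (X.pullback B₀) ^ N) :
    (u : X.fiberProd B₀).1.1 ∈ MX X ^ N := by
  let q : (X.pullback B₀).E →+* X.E :=
    ((AlgHom.fst A X.E B₀).comp (X.fiberProd B₀).val).toRingHom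
  have h : (MX (X.pullback B₀)).map q ≤ MX X := by
    rw [Ideal.map_le_iff_le_comap]
    intro v hv
    simp only [Ideal.mem_comap] at hv ⊢
    have hv' : X.proj (v : X.fiberProd B₀).1.1 = algebraMap B₀ B (v : X.fiberProd B₀).1.2 := by
      exact (v : X.fiberProd B₀).2
    change X.proj (v : X.fiberProd B₀).1.1 ∈ _
    rw [hv']
    exact hmap (Ideal.mem_map_of_mem _ hv)
  have := Ideal.pow_right_mono h N (by rw [← Ideal.map_pow]; exact Ideal.mem_map_of_mem q hu)
  exact this

theorem equiv_of_pullback_equiv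
    (hmap : (IsLocalRing.maximalIdeal B₀).map (algebraMap B₀ B) ≤ IsLocalRing.maximalIdeal B)
    (N : ℕ)
    (hsurj : ∀ b : B, ∃ r : B₀, b - algebraMap B₀ B r ∈ IsLocalRing.maximalIdeal B ^ N)
    (hcomap : ∀ r : B₀, algebraMap B₀ B r ∈ IsLocalRing.maximalIdeal B ^ N →
      r ∈ IsLocalRing.maximalIdeal B₀ ^ N)
    (X X' : Exal.Ext A B L) (φ : (X.pullback B₀).Equiv (X'.pullback B₀))
    (hX : ∀ x ∈ MX X ^ N, X.proj x = 0 → x = 0) (hX' : ∀ x ∈ MX X' ^ N, X'.proj x = 0 → x = 0) :
    Nonempty (X.Equiv X') := by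
  let I : Ideal X.E := MX X ^ N
  let I' : Ideal X'.E := MX X' ^ N
  let fs : (X.pullback B₀).E →ₐ[A] X.E := (AlgHom.fst A X.E B₀).comp (X.fiberProd B₀).val
  let fs' : (X'.pullback B₀).E →ₐ[A] X'.E := (AlgHom.fst A X'.E B₀).comp (X'.fiberProd B₀).val
  let R : X.E → X'.E → Prop := fun x x' => ∃ (e : (X.pullback B₀).E) (w : X.E) (w' : X'.E),
    w ∈ I ∧ w' ∈ I' ∧ X.proj w = X'.proj w' ∧ x = fs e + w ∧ x' = fs' (φ.toAlgEquiv e) + w'
  have hp : ∀ e : (X.pullback B₀).E,
      X.proj (fs e) = algebraMap B₀ B ((X.pullback B₀).proj e) := fun e => by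
    exact (e : X.fiberProd B₀).2
  have hp' : ∀ e : (X'.pullback B₀).E,
      X'.proj (fs' e) = algebraMap B₀ B ((X'.pullback B₀).proj e) := fun e => by
    exact (e : X'.fiberProd B₀).2
  have hproj : ∀ x x', R x x' → X'.proj x' = X.proj x := by
    rintro x x' ⟨e, w, w', -, -, hw, rfl, rfl⟩
    rw [map_add, map_add, hp', hp, φ.proj_apply, hw]
  have hex : ∀ x, ∃ x', R x x' := by
    intro x
    obtain ⟨r, hr⟩ := hsurj (X.proj x)
    obtain ⟨w, hw, hwb⟩ := exists_lift_pow X hr
    obtain ⟨w', hw', hwb'⟩ := exists_lift_pow X' hr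
    have hmem : (x - w, r) ∈ X.fiberProd B₀ := by
      simp [Exal.Ext.fiberProd, AlgHom.mem_equalizer, map_sub, hwb]
    exact ⟨_, ⟨(x - w, r), hmem⟩, w, w', hw, hw', hwb.trans hwb'.symm,
      (sub_add_cancel x w).symm, rfl⟩
  have hex' : ∀ x', ∃ x, R x x' := by
    intro x'
    obtain ⟨r, hr⟩ := hsurj (X'.proj x')
    obtain ⟨w, hw, hwb⟩ := exists_lift_pow X hr
    obtain ⟨w', hw', hwb'⟩ := exists_lift_pow X' hr
    have hmem : (x' - w', r) ∈ X'.fiberProd B₀ := by
      simp [Exal.Ext.fiberProd, AlgHom.mem_equalizer, map_sub, hwb']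
    refine ⟨_, φ.toAlgEquiv.symm ⟨(x' - w', r), hmem⟩, w, w', hw, hw', hwb.trans hwb'.symm, rfl, ?_⟩
    rw [AlgEquiv.apply_symm_apply]
    exact (sub_add_cancel x' w').symm
  have huniq : ∀ x₁ x₁' x₂ x₂', R x₁ x₁' → R x₂ x₂' → (x₁ = x₂ ↔ x₁' = x₂') := by
    rintro x₁ x₁' x₂ x₂' ⟨e₁, w₁, w₁', hw₁, hw₁', hq₁, rfl, rfl⟩ ⟨e₂, w₂, w₂', hw₂, hw₂', hq₂, rfl, rfl⟩
    have key : ∀ (Y Y' : Exal.Ext A B L) (ψ : (Y.pullback B₀).Equiv (Y'.pullback B₀))
        (_ : ∀ x ∈ MX Y ^ N, Y.proj x = 0 → x = 0) (_ : ∀ x ∈ MX Y' ^ N, Y'.proj x = 0 → x = 0)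
        (e : (Y.pullback B₀).E) (w : Y.E) (w' : Y'.E), w ∈ MX Y ^ N → w' ∈ MX Y' ^ N →
        Y.proj w = Y'.proj w' → (e : Y.fiberProd B₀).1.1 + w = 0 →
        (ψ.toAlgEquiv e : Y'.fiberProd B₀).1.1 + w' = 0 := by
      intro Y Y' ψ hY hY' e w w' hw hw' hq h0
      have hpe : Y.proj (e : Y.fiberProd B₀).1.1 = algebraMap B₀ B ((Y.pullback B₀).proj e) := by
        exact (e : Y.fiberProd B₀).2
      have hb : (Y.pullback B₀).proj e ∈ IsLocalRing.maximalIdeal B₀ ^ N := by
        refine hcomap _ ?_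
        rw [← hpe, eq_neg_of_add_eq_zero_left h0, map_neg]
        exact neg_mem (proj_mem_pow Y hw)
      obtain ⟨u, hu, hub⟩ := exists_lift_pow (Y.pullback B₀) hb
      have hu1 := fst_pow Y hmap hu
      have hue : u = e := by
        have hz : (e : Y.fiberProd B₀).1.1 - (u : Y.fiberProd B₀).1.1 = 0 := by
          refine hY _ ?_ ?_
          · rw [eq_neg_of_add_eq_zero_left h0]
            exact sub_mem (neg_mem hw) hu1
          · have hpu : Y.proj (u : Y.fiberProd B₀).1.1 = algebraMap B₀ B ((Y.pullback B₀).proj u) := by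
              exact (u : Y.fiberProd B₀).2
            rw [map_sub, hpe, hpu, hub, sub_self]
        apply Subtype.ext
        apply Prod.ext
        · exact (sub_eq_zero.mp hz).symm
        · exact hub
      subst hue
      have hψu := fst_pow Y' hmap (equiv_pow ψ N hu)
      refine hY' _ (add_mem hψu hw') ?_
      have hpu' : Y'.proj (ψ.toAlgEquiv u : Y'.fiberProd B₀).1.1 =
          algebraMap B₀ B ((Y'.pullback B₀).proj (ψ.toAlgEquiv u)) := by
        exact (ψ.toAlgEquiv u : Y'.fiberProd B₀).2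
      rw [map_add, hpu', ψ.proj_apply, ← hpe, ← hq, ← map_add, h0, map_zero]
    constructor
    · intro h
      have h0 : fs (e₁ - e₂) + (w₁ - w₂) = 0 := by rw [map_sub]; linear_combination h
      have := key X X' φ hX hX' (e₁ - e₂) (w₁ - w₂) (w₁' - w₂') (sub_mem hw₁ hw₂)
        (sub_mem hw₁' hw₂') (by rw [map_sub, map_sub, hq₁, hq₂]) h0
      have h' : fs' (φ.toAlgEquiv (e₁ - e₂)) + (w₁' - w₂') = 0 := this
      rw [map_sub, map_sub] at h'
      linear_combination h'
    · intro h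
      have h0 : fs' (φ.toAlgEquiv (e₁ - e₂)) + (w₁' - w₂') = 0 := by
        rw [map_sub, map_sub]; linear_combination h
      have := key X' X φ.symm hX' hX (φ.toAlgEquiv (e₁ - e₂)) (w₁' - w₂') (w₁ - w₂)
        (sub_mem hw₁' hw₂') (sub_mem hw₁ hw₂) (by rw [map_sub, map_sub, hq₁, hq₂]) h0
      have h' : fs (φ.toAlgEquiv.symm (φ.toAlgEquiv (e₁ - e₂))) + (w₁ - w₂) = 0 := this
      rw [AlgEquiv.symm_apply_apply, map_sub] at h'
      linear_combination h'
  choose f hf using hex
  have hzero : R 0 0 := ⟨0, 0, 0, zero_mem _, zero_mem _, by simp, by simp, by simp⟩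
  have hadd : ∀ x y, f (x + y) = f x + f y := by
    intro x y
    refine ((huniq _ _ _ _ (hf (x + y)) ?_).mp rfl)
    obtain ⟨e, w, w', hw, hw', hq, hx, hx'⟩ := hf x
    obtain ⟨d, v, v', hv, hv', hq', hy, hy'⟩ := hf y
    refine ⟨e + d, w + v, w' + v', add_mem hw hv, add_mem hw' hv', by rw [map_add, map_add, hq, hq'], ?_, ?_⟩
    · rw [map_add, hx, hy]; ring
    · rw [map_add, map_add, hx', hy']; ring
  have hmul : ∀ x y, f (x * y) = f x * f y := by
    intro x y
    refine ((huniq _ _ _ _ (hf (x * y)) ?_).mp rfl)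
    obtain ⟨e, w, w', hw, hw', hq, hx, hx'⟩ := hf x
    obtain ⟨d, v, v', hv, hv', hq', hy, hy'⟩ := hf y
    refine ⟨e * d, fs e * v + w * fs d + w * v,
      fs' (φ.toAlgEquiv e) * v' + w' * fs' (φ.toAlgEquiv d) + w' * v', ?_, ?_, ?_, ?_, ?_⟩
    · exact add_mem (add_mem (Ideal.mul_mem_left _ _ hv) (Ideal.mul_mem_right _ _ hw))
        (Ideal.mul_mem_left _ _ hv)
    · exact add_mem (add_mem (Ideal.mul_mem_left _ _ hv') (Ideal.mul_mem_right _ _ hw'))
        (Ideal.mul_mem_left _ _ hv')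
    · simp only [map_add, map_mul, hp, hp', φ.proj_apply, hq, hq']
    · rw [map_mul, hx, hy]; ring
    · rw [map_mul, map_mul, hx', hy']; ring
  have hcom : ∀ a : A, f (algebraMap A X.E a) = algebraMap A X'.E a := by
    intro a
    refine ((huniq _ _ _ _ (hf _) ?_).mp rfl)
    exact ⟨algebraMap A _ a, 0, 0, zero_mem _, zero_mem _, by simp,
      by rw [fs.commutes, add_zero], by rw [φ.toAlgEquiv.commutes, fs'.commutes, add_zero]⟩
  have hone : f 1 = 1 := by
    have := hcom 1
    rwa [map_one, map_one] at this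
  have hf0 : f 0 = 0 := (huniq _ _ _ _ (hf 0) hzero).mp rfl
  let F : X.E →ₐ[A] X'.E :=
    { toFun := f, map_one' := hone, map_mul' := hmul, map_zero' := hf0, map_add' := hadd,
      commutes' := hcom }
  have hbij : Function.Bijective F := by
    refine ⟨fun a b hab => (huniq _ _ _ _ (hf a) (hf b)).mpr hab, fun x' => ?_⟩
    obtain ⟨x, hx⟩ := hex' x'
    exact ⟨x, (huniq _ _ _ _ (hf x) hx).mp rfl⟩
  refine ⟨⟨AlgEquiv.ofBijective F hbij, fun x => hproj _ _ (hf x), fun z => ?_⟩⟩
  refine (huniq _ _ _ _ (hf (X.incl z)) ?_).mp rfl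
  refine ⟨(X.pullback B₀).incl z, 0, 0, zero_mem _, zero_mem _, by simp, ?_, ?_⟩
  · simp only [add_zero]; rfl
  · rw [φ.apply_incl, add_zero]; rfl

theorem exists_pullback_equiv (N : ℕ)
    (hsurj : ∀ b : B, ∃ r : B₀, b - algebraMap B₀ B r ∈ IsLocalRing.maximalIdeal B ^ N)
    (hmap : (IsLocalRing.maximalIdeal B₀).map (algebraMap B₀ B) = IsLocalRing.maximalIdeal B)
    (hcomap : ∀ r : B₀, algebraMap B₀ B r ∈ IsLocalRing.maximalIdeal B ^ N →
      r ∈ IsLocalRing.maximalIdeal B₀ ^ N)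
    (hkill : ∀ b ∈ IsLocalRing.maximalIdeal B, ∀ z : L, b • z = 0) (hN : N ≠ 0)
    (Y : Exal.Ext A B₀ L) (hY : ∀ x ∈ MX Y ^ N, Y.proj x = 0 → x = 0) :
    ∃ X : Exal.Ext A B L, Nonempty ((X.pullback B₀).Equiv Y) := by
  set I := MX Y ^ N
  set J : Ideal B := IsLocalRing.maximalIdeal B ^ N
  let g : (Y.E ⧸ I) →ₐ[A] B ⧸ J := Ideal.Quotient.liftₐ I
    (((Ideal.Quotient.mkₐ A J).comp (IsScalarTower.toAlgHom A B₀ B)).comp Y.proj) (fun a ha => by
      change Ideal.Quotient.mk J (algebraMap B₀ B (Y.proj a)) = 0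
      rw [Ideal.Quotient.eq_zero_iff_mem]
      have h := Ideal.mem_map_of_mem (algebraMap B₀ B) (proj_mem_pow Y ha)
      rwa [Ideal.map_pow, hmap] at h)
  have hg : ∀ y : Y.E, g (Ideal.Quotient.mk I y) = Ideal.Quotient.mk J (algebraMap B₀ B (Y.proj y)) :=
    fun y => rfl
  let Z : Subalgebra A ((Y.E ⧸ I) × B) :=
    AlgHom.equalizer (g.comp (AlgHom.fst A _ _)) ((Ideal.Quotient.mkₐ A J).comp (AlgHom.snd A _ _))
  have hZ : ∀ q : Y.E ⧸ I, ∀ b : B, (q, b) ∈ Z ↔ g q = Ideal.Quotient.mk J b := fun q b => Iff.rfl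
  let inc : L →+ Z :=
    { toFun := fun z => ⟨(Ideal.Quotient.mk I (Y.incl z), 0), by
        rw [hZ, hg, (Y.isExtension.exact _).mpr ⟨z, rfl⟩, map_zero]⟩
      map_zero' := by apply Subtype.ext; simp
      map_add' := fun a b => by apply Subtype.ext; simp }
  let pr : Z →ₐ[A] B := (AlgHom.snd A _ _).comp Z.val
  have hext : Exal.IsExtension pr inc :=
    { proj_surjective := fun b => by
        obtain ⟨r, hr⟩ := hsurj b
        obtain ⟨y, hy⟩ := Y.isExtension.proj_surjective r
        exact ⟨⟨(Ideal.Quotient.mk I y, b), by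
          rw [hZ, hg, hy, Ideal.Quotient.eq]
          simpa using J.neg_mem hr⟩, rfl⟩
      incl_injective := fun z z' h => by
        have h1 : Ideal.Quotient.mk I (Y.incl z) = Ideal.Quotient.mk I (Y.incl z') :=
          congrArg (fun v : Z => v.1.1) h
        rw [Ideal.Quotient.eq, ← map_sub] at h1
        have := hY _ h1 ((Y.isExtension.exact _).mpr ⟨_, rfl⟩)
        exact sub_eq_zero.mp (Y.isExtension.incl_injective (by rw [this, map_zero]))
      exact := fun x => by
        obtain ⟨⟨q, b⟩, hx⟩ := x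
        constructor
        · intro hb
          change b = 0 at hb
          subst hb
          obtain ⟨y, rfl⟩ := Ideal.Quotient.mk_surjective q
          rw [hZ, hg, map_zero, Ideal.Quotient.eq_zero_iff_mem] at hx
          obtain ⟨w, hw, hwy⟩ := exists_lift_pow Y (hcomap _ hx)
          obtain ⟨z, hz⟩ := (Y.isExtension.exact (y - w)).mp (by rw [map_sub, hwy, sub_self])
          refine ⟨z, ?_⟩
          apply Subtype.ext
          refine Prod.ext ?_ rfl
          change Ideal.Quotient.mk I (Y.incl z) = Ideal.Quotient.mk I y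
          rw [hz, Ideal.Quotient.eq]
          simpa using I.neg_mem hw
        · rintro ⟨z, hz⟩
          exact (congrArg (fun v : Z => v.1.2) hz).symm
      mul_incl := fun x z => by
        obtain ⟨⟨q, b⟩, hx⟩ := x
        obtain ⟨y, rfl⟩ := Ideal.Quotient.mk_surjective q
        rw [hZ, hg, Ideal.Quotient.eq] at hx
        apply Subtype.ext
        refine Prod.ext ?_ (mul_zero b)
        change Ideal.Quotient.mk I y * Ideal.Quotient.mk I (Y.incl z) =
          Ideal.Quotient.mk I (Y.incl (b • z))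
        rw [← map_mul, Y.isExtension.mul_incl]
        have h0 := hkill _ (Ideal.pow_le_self hN hx) z
        rw [sub_smul, sub_eq_zero, algebraMap_smul] at h0
        rw [h0] }
  let X : Exal.Ext A B L := { E := Z, proj := pr, incl := inc, isExtension := hext }
  refine ⟨X, ⟨Exal.Ext.Equiv.symm ?_⟩⟩
  have hmem : ∀ y : Y.E, (Ideal.Quotient.mk I y, algebraMap B₀ B (Y.proj y)) ∈ Z := fun y => by
    rw [hZ, hg]
  let ψ0 : Y.E →ₐ[A] Z :=
    (AlgHom.prod (Ideal.Quotient.mkₐ A I) ((IsScalarTower.toAlgHom A B₀ B).comp Y.proj)).codRestrict Z hmem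
  let ψ : Y.E →ₐ[A] (X.pullback B₀).E :=
    (AlgHom.prod ψ0 Y.proj).codRestrict (X.fiberProd B₀) (fun y => by
      simp [Exal.Ext.fiberProd, AlgHom.mem_equalizer, X, pr, ψ0])
  have hbij : Function.Bijective ψ := by
    constructor
    · intro a b hab
      have h1 : Ideal.Quotient.mk I a = Ideal.Quotient.mk I b :=
        congrArg (fun v : X.fiberProd B₀ => (v.1.1 : Z).1.1) hab
      have h2 : Y.proj a = Y.proj b := congrArg (fun v : X.fiberProd B₀ => v.1.2) hab
      rw [Ideal.Quotient.eq] at h1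
      exact sub_eq_zero.mp (hY _ h1 (by rw [map_sub, h2, sub_self]))
    · intro v
      obtain ⟨⟨⟨⟨q, c⟩, hqc⟩, b⟩, hv⟩ := v
      obtain ⟨y, rfl⟩ := Ideal.Quotient.mk_surjective q
      have hc : c = algebraMap B₀ B b := by
        simpa [Exal.Ext.fiberProd, AlgHom.mem_equalizer, X, pr] using hv
      subst hc
      rw [hZ, hg, Ideal.Quotient.eq, ← map_sub] at hqc
      obtain ⟨w, hw, hwy⟩ := exists_lift_pow Y (hcomap _ hqc)
      refine ⟨y - w, ?_⟩
      have hb : Y.proj (y - w) = b := by rw [map_sub, hwy]; ring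
      apply Subtype.ext
      refine Prod.ext (Subtype.ext (Prod.ext ?_ ?_)) hb
      · change Ideal.Quotient.mk I (y - w) = Ideal.Quotient.mk I y
        rw [Ideal.Quotient.eq]
        simpa using I.neg_mem hw
      · change algebraMap B₀ B (Y.proj (y - w)) = _
        rw [hb]
  refine ⟨AlgEquiv.ofBijective ψ hbij, fun y => rfl, fun z => ?_⟩
  apply Subtype.ext
  have h0 : Y.proj (Y.incl z) = 0 := (Y.isExtension.exact _).mpr ⟨z, rfl⟩
  refine Prod.ext (Subtype.ext (Prod.ext rfl ?_)) h0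
  change algebraMap B₀ B (Y.proj (Y.incl z)) = 0
  rw [h0, map_zero]

end

/-- Let k be an algebraically closed field, Λ a complete local Noetherian k-algebra with residue field
k, R a local Noetherian Λ-algebra with local structure map and residue field k, and R̂ the
completion of R at its maximal ideal. Let L be a simple R-module (a one-dimensional k-vector space
on which R acts through its residue field) carrying a compatible R̂-module structure. Then inverse
image of Λ-extensions along R → R̂ induces a bijection o(R̂/Λ) → o(R/Λ) on classes of Λ-extensions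
by L: two Λ-extensions of R̂ by L whose inverse images over R are equivalent are equivalent, and
every Λ-extension of R by L is equivalent to the inverse image of one of R̂. -/
theorem result
    {k : Type u} [Field k] [IsAlgClosed k]
    {Λ : Type u} [CommRing Λ] [Algebra k Λ] [IsLocalRing Λ] [IsNoetherianRing Λ]
    [IsAdicComplete (IsLocalRing.maximalIdeal Λ) Λ]
    (hΛ : ∀ a : Λ, ∃ c : k, a - algebraMap k Λ c ∈ IsLocalRing.maximalIdeal Λ)
    {R : Type u} [CommRing R] [Algebra Λ R] [IsLocalRing R] [IsNoetherianRing R]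
    [IsLocalHom (algebraMap Λ R)]
    (hR : ∀ r : R, ∃ c : k, r - algebraMap Λ R (algebraMap k Λ c) ∈ IsLocalRing.maximalIdeal R)
    (L : Type u) [AddCommGroup L] [Module (AdicCompletion (IsLocalRing.maximalIdeal R) R) L] [Module R L]
    [IsScalarTower R (AdicCompletion (IsLocalRing.maximalIdeal R) R) L] [IsSimpleModule R L] :
    (∀ X X' : Exal.Ext Λ (AdicCompletion (IsLocalRing.maximalIdeal R) R) L,
        Nonempty ((X.pullback R).Equiv (X'.pullback R)) → Nonempty (X.Equiv X')) ∧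
    (∀ Y : Exal.Ext Λ R L, ∃ X : Exal.Ext Λ (AdicCompletion (IsLocalRing.maximalIdeal R) R) L,
        Nonempty ((X.pullback R).Equiv Y)) := by
  have : IsNoetherianRing (AdicCompletion (IsLocalRing.maximalIdeal R) R) :=
    Groth.L01.AdicNoeth.isNoetherianRing_adicCompletion _ (IsNoetherian.noetherian _)
  have hmap : (IsLocalRing.maximalIdeal R).map (algebraMap R (AdicCompletion (IsLocalRing.maximalIdeal R) R)) = IsLocalRing.maximalIdeal (AdicCompletion (IsLocalRing.maximalIdeal R) R) :=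
    AdicCompletion.maximalIdeal_eq_map.symm
  have hsurj : ∀ N (b : AdicCompletion (IsLocalRing.maximalIdeal R) R), ∃ r : R, b - algebraMap R _ r ∈
      IsLocalRing.maximalIdeal (AdicCompletion (IsLocalRing.maximalIdeal R) R) ^ N := fun N b =>
    Groth.L01.CompletionExt.exists_sub_mem_pow N b
  have hcomap : ∀ N (r : R), algebraMap R (AdicCompletion (IsLocalRing.maximalIdeal R) R) r ∈
      IsLocalRing.maximalIdeal (AdicCompletion (IsLocalRing.maximalIdeal R) R) ^ N → r ∈ (IsLocalRing.maximalIdeal R) ^ N := by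
    intro N r hr
    rw [← hmap, ← Ideal.map_pow] at hr
    have hle : ((IsLocalRing.maximalIdeal R) ^ N).map (algebraMap R (AdicCompletion (IsLocalRing.maximalIdeal R) R)) ≤
        RingHom.ker (AdicCompletion.evalₐ (IsLocalRing.maximalIdeal R) N) := Ideal.map_le_iff_le_comap.mpr fun a ha => by
      rw [Ideal.mem_comap, RingHom.mem_ker, AlgHom.commutes]
      exact Ideal.Quotient.eq_zero_iff_mem.mpr ha
    have := hle hr
    rw [RingHom.mem_ker, AlgHom.commutes] at this
    exact Ideal.Quotient.eq_zero_iff_mem.mp this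
  have hgen0 : ∀ z : L, z ≠ 0 → ∀ w : L, ∃ b : R, b • z = w := fun z hz w =>
    Submodule.mem_span_singleton.mp (IsSimpleModule.span_singleton_eq_top R hz ▸ Submodule.mem_top)
  have hgen : ∀ z : L, z ≠ 0 → ∀ w : L, ∃ b : AdicCompletion (IsLocalRing.maximalIdeal R) R, b • z = w := fun z hz w => by
    obtain ⟨b, hb⟩ := hgen0 z hz w
    exact ⟨algebraMap R _ b, by rw [algebraMap_smul, hb]⟩
  have hkill : ∀ b ∈ IsLocalRing.maximalIdeal (AdicCompletion (IsLocalRing.maximalIdeal R) R), ∀ z : L, b • z = 0 := by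
    intro b hb z
    by_contra hne
    have hz : z ≠ 0 := fun h => hne (by rw [h, smul_zero])
    obtain ⟨c, hc⟩ := hgen _ hne z
    rw [smul_smul] at hc
    have hu : IsUnit (1 - c * b) := by
      rcases IsLocalRing.isUnit_or_isUnit_one_sub_self (c * b) with h | h
      · exact absurd h ((IsLocalRing.mem_maximalIdeal _).mp (Ideal.mul_mem_left _ c hb))
      · exact h
    obtain ⟨u, hu⟩ := hu
    apply hz
    have h0 : (u : AdicCompletion (IsLocalRing.maximalIdeal R) R) • z = 0 := by rw [hu, sub_smul, one_smul, hc, sub_self]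
    have := congrArg (fun v => (↑u⁻¹ : AdicCompletion (IsLocalRing.maximalIdeal R) R) • v) h0
    simpa [smul_smul] using this
  constructor
  · intro X X' ⟨φ⟩
    obtain ⟨N, hN⟩ := exists_pow_inf_ker hgen X
    obtain ⟨N', hN'⟩ := exists_pow_inf_ker hgen X'
    exact equiv_of_pullback_equiv (B₀ := R) hmap.le (max N N') (hsurj _) (hcomap _) X X' φ
      (hN _ (le_max_left _ _)) (hN' _ (le_max_right _ _))
  · intro Y
    obtain ⟨N, hN⟩ := exists_pow_inf_ker hgen0 Y
    exact exists_pullback_equiv (N + 1) (hsurj _) hmap (hcomap _) hkill (by omega) Y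
      (hN _ (Nat.le_succ _))

end Groth.Agent.S11283
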