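import Groth.Statements.S11285
import Groth.Agent.L15.ExtInj
import Mathlib.RingTheory.Extension.Cotangent.Basic
import Mathlib.Algebra.TrivSqZeroExt.Basic
-- import your own Groth.Agent.* helpers here

set_option autoImplicit false
universe u
open Deform

open scoped TensorProduct

namespace Groth.Agent.S11285

/-- Let k be an algebraically closed field and A → B a map of finitely generated k-algebras with B
reduced and smooth over A at every minimal prime of B (the morphism Spec B → Spec A is smooth on a
dense open subset). Let M be a finitely generated projective B-module and 0 → M → N → Ω_{B/A} → 0 an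
exact sequence of B-modules (i injective, q surjective, image of i = kernel of q). Then there is an
A-algebra extension E → B with square-zero kernel, together with a B-linear identification of its
kernel with M and a B-linear isomorphism of B ⊗_E Ω_{E/A} with N, carrying the conormal map of the
extension to i and q to the canonical map B ⊗_E Ω_{E/A} → Ω_{B/A}. Together with the injectivity
statement for such conormal sequences this is the surjectivity half of the identification of Ex_A(B,
M) with Ext^1_B(Ω_{B/A}, M); affine case of the statement for algebraic schemes. The module N ranges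
over the universe of B. -/
theorem result
    {k : Type u} [Field k] [IsAlgClosed k]
    {A B : Type u} [CommRing A] [CommRing B] [Algebra k A] [Algebra k B] [Algebra A B]
    [IsScalarTower k A B] [Algebra.FiniteType k A] [Algebra.FiniteType k B] [IsReduced B]
    (hsm : ∀ p : PrimeSpectrum B, p.asIdeal ∈ minimalPrimes B → Algebra.IsSmoothAt A p.asIdeal)
    (M N : Type u) [AddCommGroup M] [Module B M] [Module.Finite B M] [Module.Projective B M]
    [AddCommGroup N] [Module B N]
    (i : M →ₗ[B] N) (q : N →ₗ[B] Ω[B⁄A]) (hi : Function.Injective i) (hq : Function.Surjective q)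
    (hex : Function.Exact i q) :
    ∃ P : Algebra.Extension.{u} A B, P.ker ^ 2 = ⊥ ∧
      ∃ (e₁ : P.Cotangent ≃ₗ[B] M) (e₂ : P.CotangentSpace ≃ₗ[B] N),
        (∀ x, e₂ (P.cotangentComplex x) = i (e₁ x)) ∧ (∀ y, q (e₂ y) = P.toKaehler y) := by
  classical
  letI : Module Bᵐᵒᵖ N := Module.compHom N ((RingHom.id B).fromOpposite mul_comm)
  haveI : IsCentralScalar B N := ⟨fun r n => rfl⟩
  letI : Module A N := Module.compHom N (algebraMap A B)
  haveI : IsScalarTower A B N := IsScalarTower.of_algebraMap_smul fun a n => rfl
  let T := TrivSqZeroExt B N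
  let E : Subalgebra A (TrivSqZeroExt B N) :=
    { carrier := {z | q z.snd = KaehlerDifferential.D A B z.fst}
      mul_mem' := fun {z w} (hz : _ = _) (hw : _ = _) => by
        show q (z * w).snd = _
        rw [TrivSqZeroExt.snd_mul, TrivSqZeroExt.fst_mul, op_smul_eq_smul, map_add, map_smul, map_smul, hz, hw,
          Derivation.leibniz]
      add_mem' := fun {z w} (hz : _ = _) (hw : _ = _) => by
        show q (z + w).snd = _
        rw [TrivSqZeroExt.snd_add, TrivSqZeroExt.fst_add, map_add, map_add, hz, hw]
      algebraMap_mem' := fun a => by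
        show q (algebraMap A (TrivSqZeroExt B N) a).snd = _
        simp [TrivSqZeroExt.algebraMap_eq_inl'] }
  let πE : E →ₐ[A] B := (TrivSqZeroExt.fstHom A B N).comp E.val
  have hπE : Function.Surjective πE := fun b => by
    obtain ⟨n, hn⟩ := hq (KaehlerDifferential.D A B b)
    exact ⟨⟨TrivSqZeroExt.inl b + TrivSqZeroExt.inr n, by
      show q _ = _
      simp [hn]⟩, by simp [πE]⟩
  let P : Algebra.Extension.{u} A B := Algebra.Extension.ofSurjective πE hπE
  have hfst : ∀ z : P.ker, (z.1.1 : TrivSqZeroExt B N).fst = 0 := fun z => z.2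
  have hsq : P.ker ^ 2 = ⊥ := by
    rw [pow_two, eq_bot_iff, Ideal.mul_le]
    intro z hz w hw
    refine Subtype.ext (TrivSqZeroExt.ext ?_ ?_)
    · show (z.1 * w.1 : TrivSqZeroExt B N).fst = 0
      rw [TrivSqZeroExt.fst_mul, hfst ⟨z, hz⟩, zero_mul]
    · show (z.1 * w.1 : TrivSqZeroExt B N).snd = 0
      rw [TrivSqZeroExt.snd_mul, hfst ⟨z, hz⟩, hfst ⟨w, hw⟩, MulOpposite.op_zero, zero_smul, zero_smul, add_zero]
  let ι : M → P.ker := fun m => ⟨⟨TrivSqZeroExt.inr (i m), by
      show q _ = _
      simp [hex.apply_apply_eq_zero m]⟩, rfl⟩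
  let g : M →ₗ[B] P.Cotangent :=
    { toFun := fun m => Algebra.Extension.Cotangent.mk (ι m)
      map_add' := fun m m' => by
        rw [← map_add]
        congr 1
        refine Subtype.ext (Subtype.ext ?_)
        show TrivSqZeroExt.inr (i (m + m')) = (TrivSqZeroExt.inr (i m) + TrivSqZeroExt.inr (i m') : TrivSqZeroExt B N)
        rw [map_add, TrivSqZeroExt.inr_add]
      map_smul' := fun b m => by
        obtain ⟨e, he⟩ := P.algebraMap_surjective b
        show Algebra.Extension.Cotangent.mk (ι (b • m)) = b • Algebra.Extension.Cotangent.mk (ι m)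
        conv_rhs => rw [← he, algebraMap_smul, ← map_smul]
        congr 1
        refine Subtype.ext (Subtype.ext (TrivSqZeroExt.ext ?_ ?_))
        · show (TrivSqZeroExt.inr (i _) : TrivSqZeroExt B N).fst = (e.1 * TrivSqZeroExt.inr (i m)).fst
          simp
        · show (TrivSqZeroExt.inr (i _) : TrivSqZeroExt B N).snd = (e.1 * TrivSqZeroExt.inr (i m)).snd
          simp only [TrivSqZeroExt.snd_inr, TrivSqZeroExt.snd_mul, TrivSqZeroExt.fst_inr, MulOpposite.op_zero,
            zero_smul, add_zero, map_smul]
          rw [← he]; rfl }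
  have hg : Function.Bijective g := by
    refine ⟨(injective_iff_map_eq_zero g).2 fun m hm => hi ?_, fun c => ?_⟩
    · have h0 : (ι m).1 ∈ P.ker ^ 2 := (Algebra.Extension.Cotangent.mk_eq_zero_iff _).1 hm
      rw [hsq, Ideal.mem_bot] at h0
      rw [map_zero]
      have h' : TrivSqZeroExt.inr (i m) = (0 : TrivSqZeroExt B N) := congr_arg Subtype.val h0
      simpa using congr_arg TrivSqZeroExt.snd h'
    · obtain ⟨z, rfl⟩ := Algebra.Extension.Cotangent.mk_surjective c
      obtain ⟨m, hm⟩ := (hex (z.1.1 : TrivSqZeroExt B N).snd).1 (by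
        rw [show q _ = _ from z.1.2, hfst z, map_zero])
      refine ⟨m, congr_arg _ (Subtype.ext (Subtype.ext (TrivSqZeroExt.ext ?_ ?_)))⟩
      · show (TrivSqZeroExt.inr (i m) : TrivSqZeroExt B N).fst = _
        rw [TrivSqZeroExt.fst_inr, hfst z]
      · show (TrivSqZeroExt.inr (i m) : TrivSqZeroExt B N).snd = _
        rw [TrivSqZeroExt.snd_inr, hm]
  let e₁ := (LinearEquiv.ofBijective g hg).symm
  letI : Module P.Ring N := Module.compHom N (algebraMap P.Ring B)
  haveI : IsScalarTower P.Ring B N := IsScalarTower.of_algebraMap_smul fun a n => rfl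
  haveI : IsScalarTower A P.Ring N := IsScalarTower.of_algebraMap_smul fun a n => by
    show algebraMap P.Ring B (algebraMap A P.Ring a) • n = algebraMap A B a • n
    rw [← IsScalarTower.algebraMap_apply]
  let δ : Derivation A P.Ring N := Derivation.mk'
    { toFun := fun z => (z.1 : TrivSqZeroExt B N).snd
      map_add' := fun z w => rfl
      map_smul' := fun a z => by
        show (a • (z.1 : TrivSqZeroExt B N)).snd = algebraMap A B a • (z.1 : TrivSqZeroExt B N).snd
        rw [TrivSqZeroExt.snd_smul]; rfl }
    fun z w => by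
      show (z.1 * w.1 : TrivSqZeroExt B N).snd = (z.1 : TrivSqZeroExt B N).fst • (w.1 : TrivSqZeroExt B N).snd +
        (w.1 : TrivSqZeroExt B N).fst • (z.1 : TrivSqZeroExt B N).snd
      rw [TrivSqZeroExt.snd_mul, op_smul_eq_smul]
  let Θ : P.CotangentSpace →ₗ[B] N := δ.liftKaehlerDifferential.liftBaseChange B
  have hΘD : ∀ z : P.Ring, Θ (1 ⊗ₜ KaehlerDifferential.D A P.Ring z) = (z.1 : TrivSqZeroExt B N).snd := fun z => by
    erw [LinearMap.liftBaseChange_tmul]
    rw [one_smul, Derivation.liftKaehlerDifferential_comp_D]
    rfl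
  have hΘc : ∀ x, Θ (P.cotangentComplex x) = i (e₁ x) := fun x => by
    obtain ⟨m, rfl⟩ := hg.2 x
    rw [show e₁ (g m) = m from (LinearEquiv.ofBijective g hg).symm_apply_apply m]
    show Θ (P.cotangentComplex (Algebra.Extension.Cotangent.mk (ι m))) = i m
    rw [Algebra.Extension.cotangentComplex_mk, hΘD]
    exact TrivSqZeroExt.snd_inr _ _
  have hqΘ : ∀ y, q (Θ y) = P.toKaehler y := by
    intro y
    have : q ∘ₗ Θ = P.toKaehler := by
      apply LinearMap.ext
      intro y
      induction y using TensorProduct.induction_on with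
      | zero => simp
      | add a b ha hb => rw [map_add, map_add, ha, hb]
      | tmul b w =>
        have hb : b ⊗ₜ[P.Ring] w = b • ((1 : B) ⊗ₜ[P.Ring] w) := by rw [TensorProduct.smul_tmul', smul_eq_mul, mul_one]
        rw [hb, map_smul, map_smul]
        congr 1
        clear hb
        have hw : w ∈ Submodule.span P.Ring (Set.range (KaehlerDifferential.D A P.Ring)) :=
          (KaehlerDifferential.span_range_derivation A P.Ring).symm ▸ Submodule.mem_top
        induction hw using Submodule.span_induction with
        | mem w hw =>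
          obtain ⟨z, rfl⟩ := hw
          show q (Θ _) = _
          rw [hΘD]
          refine (show q _ = _ from z.2).trans ?_
          show _ = KaehlerDifferential.mapBaseChange A P.Ring B _
          rw [KaehlerDifferential.mapBaseChange_tmul, one_smul, KaehlerDifferential.map_D]
          rfl
        | zero => simp
        | add a b _ _ ha hb => rw [TensorProduct.tmul_add, map_add, map_add, ha, hb]
        | smul r a _ ha =>
          rw [TensorProduct.tmul_smul, ← algebraMap_smul B r, map_smul, map_smul, ha]
    exact LinearMap.congr_fun this y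
  have hΘ : Function.Bijective Θ := by
    refine ⟨(injective_iff_map_eq_zero Θ).2 fun y hy => ?_, fun n => ?_⟩
    · obtain ⟨x, rfl⟩ := (P.exact_cotangentComplex_toKaehler y).1 (by rw [← hqΘ, hy, map_zero])
      rw [hΘc, map_eq_zero_iff _ hi] at hy
      rw [(map_eq_zero_iff _ e₁.injective).1 hy, map_zero]
    · obtain ⟨y, hy⟩ := P.toKaehler_surjective (q n)
      obtain ⟨m, hm⟩ := (hex (n - Θ y)).1 (by rw [map_sub, hqΘ, hy, sub_self])
      exact ⟨y + P.cotangentComplex (e₁.symm m), by
        rw [map_add, hΘc, LinearEquiv.apply_symm_apply, hm, add_sub_cancel]⟩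
  exact ⟨P, hsq, e₁, LinearEquiv.ofBijective Θ hΘ, hΘc, hqΘ⟩


end Groth.Agent.S11285
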