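import Groth.Statements.S11286
import Groth.Agent.L15.ExtInj
-- import your own Groth.Agent.* helpers here

set_option autoImplicit false
universe u
open Deform

open scoped TensorProduct

namespace Groth.Agent.S11286

/-- Let k be an algebraically closed field and A → B a map of finitely generated k-algebras with B
reduced and smooth over A at every minimal prime of B (the morphism Spec B → Spec A is smooth on a
dense open subset). Let E → B and E' → B be two A-algebra extensions with square-zero kernels I, I',
where I is a finitely generated projective B-module, and suppose their relative conormal sequences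
are isomorphic as extensions of Ω_{B/A}: there are B-linear isomorphisms I ≅ I' and B ⊗_E Ω_{E/A} ≅
B ⊗_{E'} Ω_{E'/A} commuting with the conormal maps and with the canonical maps to Ω_{B/A}. Then
there is a homomorphism of extensions E → E' (a ring map over A and over B) which is bijective and
induces the given isomorphism I ≅ I'. This is the injectivity half of the identification of Ex_A(B,
M) with Ext^1_B(Ω_{B/A}, M); affine case of the statement for algebraic schemes. -/
theorem result
    {k : Type u} [Field k] [IsAlgClosed k]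
    {A B : Type u} [CommRing A] [CommRing B] [Algebra k A] [Algebra k B] [Algebra A B]
    [IsScalarTower k A B] [Algebra.FiniteType k A] [Algebra.FiniteType k B] [IsReduced B]
    (hsm : ∀ p : PrimeSpectrum B, p.asIdeal ∈ minimalPrimes B → Algebra.IsSmoothAt A p.asIdeal)
    (P P' : Algebra.Extension.{u} A B) (hsq : P.ker ^ 2 = ⊥) (hsq' : P'.ker ^ 2 = ⊥)
    [Module.Finite B P.Cotangent] [Module.Projective B P.Cotangent]
    (e₁ : P.Cotangent ≃ₗ[B] P'.Cotangent) (e₂ : P.CotangentSpace ≃ₗ[B] P'.CotangentSpace)
    (h₁ : ∀ x, e₂ (P.cotangentComplex x) = P'.cotangentComplex (e₁ x))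
    (h₂ : ∀ y, P'.toKaehler (e₂ y) = P.toKaehler y) :
    ∃ f : P.Hom P', Function.Bijective f.toRingHom ∧
      Algebra.Extension.Cotangent.map f = e₁.toLinearMap := by
  classical
  haveI : Module.Projective B P'.Cotangent := Module.Projective.of_equiv e₁
  have hP := Groth.L15.ExtInj.injective_cotangentComplex hsm P hsq
  have hP' := Groth.L15.ExtInj.injective_cotangentComplex hsm P' hsq'
  have uniq : ∀ (Q : Algebra.Extension.{u} A B), Q.ker ^ 2 = ⊥ → Function.Injective Q.cotangentComplex →
      ∀ y y' : Q.Ring, algebraMap Q.Ring B y = algebraMap Q.Ring B y' →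
        (1 : B) ⊗ₜ[Q.Ring] KaehlerDifferential.D A Q.Ring y = (1 : B) ⊗ₜ[Q.Ring] KaehlerDifferential.D A Q.Ring y' → y = y' := by
    intro Q hQ hinj y y' h h'
    have hd : y - y' ∈ Q.ker := by rw [RingHom.mem_ker, map_sub, h, sub_self]
    have h0 : Algebra.Extension.Cotangent.mk (⟨y - y', hd⟩ : Q.ker) = 0 := hinj (by
      rw [Algebra.Extension.cotangentComplex_mk, map_zero, map_sub, TensorProduct.tmul_sub, h', sub_self])
    rw [Algebra.Extension.Cotangent.mk_eq_zero_iff, hQ, Ideal.mem_bot, sub_eq_zero] at h0
    exact h0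
  have exi : ∀ (Q : Algebra.Extension.{u} A B) (b : B) (t : Q.CotangentSpace), Q.toKaehler t = KaehlerDifferential.D A B b →
      ∃ y : Q.Ring, algebraMap Q.Ring B y = b ∧ (1 : B) ⊗ₜ[Q.Ring] KaehlerDifferential.D A Q.Ring y = t := by
    intro Q b t ht
    obtain ⟨c, hc⟩ := (Q.exact_cotangentComplex_toKaehler (t - (1 : B) ⊗ₜ[Q.Ring] KaehlerDifferential.D A Q.Ring (Q.σ b))).1 (by
      rw [map_sub, ht, sub_eq_zero]
      show _ = KaehlerDifferential.mapBaseChange A Q.Ring B _
      rw [KaehlerDifferential.mapBaseChange_tmul, one_smul, KaehlerDifferential.map_D, Q.algebraMap_σ])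
    obtain ⟨z, rfl⟩ := Algebra.Extension.Cotangent.mk_surjective c
    refine ⟨Q.σ b + z, by rw [map_add, Q.algebraMap_σ, RingHom.mem_ker.1 z.2, add_zero], ?_⟩
    rw [Algebra.Extension.cotangentComplex_mk] at hc
    rw [map_add, TensorProduct.tmul_add, hc, add_sub_cancel]
  have htk : ∀ (Q : Algebra.Extension.{u} A B) (x : Q.Ring),
      Q.toKaehler ((1 : B) ⊗ₜ[Q.Ring] KaehlerDifferential.D A Q.Ring x) = KaehlerDifferential.D A B (algebraMap Q.Ring B x) := fun Q x => by
    show KaehlerDifferential.mapBaseChange A Q.Ring B _ = _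
    rw [KaehlerDifferential.mapBaseChange_tmul, one_smul, KaehlerDifferential.map_D]
  choose F hF hF' using fun x : P.Ring => exi P' (algebraMap P.Ring B x) (e₂ ((1 : B) ⊗ₜ[P.Ring] KaehlerDifferential.D A P.Ring x))
    (by rw [h₂, htk])
  have hu := uniq P' hsq' hP'
  let fr : P.Ring →+* P'.Ring :=
    { toFun := F
      map_one' := hu _ _ (by rw [hF, map_one, map_one]) (by rw [hF']; simp)
      map_mul' := fun x y => hu _ _ (by rw [map_mul, hF, hF, hF, map_mul]) (by
        rw [hF', Derivation.leibniz, Derivation.leibniz, TensorProduct.tmul_add, TensorProduct.tmul_add,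
          TensorProduct.tmul_smul, TensorProduct.tmul_smul, TensorProduct.tmul_smul, TensorProduct.tmul_smul,
          ← algebraMap_smul B x, ← algebraMap_smul B y, ← algebraMap_smul B (F x), ← algebraMap_smul B (F y),
          map_add, map_smul, map_smul, hF', hF', hF, hF])
      map_zero' := hu _ _ (by rw [hF, map_zero, map_zero]) (by rw [hF']; simp)
      map_add' := fun x y => hu _ _ (by rw [map_add, hF, hF, hF, map_add]) (by
        rw [hF', map_add, map_add, TensorProduct.tmul_add, TensorProduct.tmul_add, map_add, hF', hF']) }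
  let f : P.Hom P' :=
    { toRingHom := fr
      toRingHom_algebraMap := fun r => hu _ _ (by
        show algebraMap P'.Ring B (F _) = _
        rw [hF, ← IsScalarTower.algebraMap_apply, ← IsScalarTower.algebraMap_apply]; rfl) (by
        show (1 : B) ⊗ₜ[P'.Ring] KaehlerDifferential.D A P'.Ring (F _) = _
        rw [hF']
        simp)
      algebraMap_toRingHom := fun x => (hF x).trans rfl }
  refine ⟨f, ⟨(injective_iff_map_eq_zero fr).2 fun x hx => ?_, fun y => ?_⟩, ?_⟩
  · refine uniq P hsq hP x 0 (by rw [← hF x, show F x = 0 from hx, map_zero, map_zero]) ?_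
    apply e₂.injective
    rw [← hF', show F x = 0 from hx]
    simp
  · obtain ⟨x, hx, hx'⟩ := exi P (algebraMap P'.Ring B y) (e₂.symm ((1 : B) ⊗ₜ[P'.Ring] KaehlerDifferential.D A P'.Ring y))
      (by rw [← h₂, LinearEquiv.apply_symm_apply, htk])
    exact ⟨x, hu _ _ ((hF x).trans hx) ((hF' x).trans (by rw [hx', LinearEquiv.apply_symm_apply]))⟩
  · refine LinearMap.ext fun c => hP' ?_
    obtain ⟨x, rfl⟩ := Algebra.Extension.Cotangent.mk_surjective c
    rw [Algebra.Extension.Cotangent.map_mk, LinearEquiv.coe_coe, ← h₁, Algebra.Extension.cotangentComplex_mk,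
      Algebra.Extension.cotangentComplex_mk]
    exact hF' (x : P.Ring)


end Groth.Agent.S11286
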