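import Groth.Statements.S11287
import Groth.Agent.L12.ExalPS


set_option autoImplicit false
universe u
open Deform

namespace Groth.Agent.S11287

/-- Let k be an algebraically closed field, Λ a complete local Noetherian k-algebra with residue field
k, P = Λ[[X_1, …, X_d]] the power series ring, J an ideal of P contained in (X_1, …, X_d)^2, R =
P/J, and L a simple R-module (a copy of the residue field k). Then: (a) for every Λ-extension 0 → L
→ E → R → 0 the quotient map P → R lifts to a Λ-algebra map u : P → E; (b) for two such extensions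
E, E' with lifts u, u', the extensions are equivalent if and only if u and u' send every element of
J to the images of the same element of L (the restrictions J → L of the lifts agree); (c) every
P-linear map J → L is the restriction of a lift for some extension. Thus the classes of Λ-extensions
of R by L correspond bijectively to Hom_P(J, L), the dual of J/m_P J; this is the identification of
the obstruction space o(R/Λ) for a complete R (the general case reduces to it by passing to the
completion). -/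
theorem result
    {k : Type u} [Field k] [IsAlgClosed k]
    {Λ : Type u} [CommRing Λ] [Algebra k Λ] [IsLocalRing Λ] [IsNoetherianRing Λ]
    [IsAdicComplete (IsLocalRing.maximalIdeal Λ) Λ]
    (hΛ : ∀ a : Λ, ∃ c : k, a - algebraMap k Λ c ∈ IsLocalRing.maximalIdeal Λ)
    (d : ℕ) (J : Ideal (MvPowerSeries (Fin d) Λ))
    (hJ : J ≤ Ideal.span (Set.range (MvPowerSeries.X : Fin d → MvPowerSeries (Fin d) Λ)) ^ 2)
    (L : Type u) [AddCommGroup L] [Module (MvPowerSeries (Fin d) Λ ⧸ J) L] [Module (MvPowerSeries (Fin d) Λ) L]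
    [IsScalarTower (MvPowerSeries (Fin d) Λ) (MvPowerSeries (Fin d) Λ ⧸ J) L] [IsSimpleModule (MvPowerSeries (Fin d) Λ ⧸ J) L] :
    (∀ X : Exal.Ext Λ (MvPowerSeries (Fin d) Λ ⧸ J) L,
        ∃ u : MvPowerSeries (Fin d) Λ →ₐ[Λ] X.E, ∀ p, X.proj (u p) = Ideal.Quotient.mk J p) ∧
    (∀ (X X' : Exal.Ext Λ (MvPowerSeries (Fin d) Λ ⧸ J) L) (u : MvPowerSeries (Fin d) Λ →ₐ[Λ] X.E) (u' : MvPowerSeries (Fin d) Λ →ₐ[Λ] X'.E),
        (∀ p, X.proj (u p) = Ideal.Quotient.mk J p) → (∀ p, X'.proj (u' p) = Ideal.Quotient.mk J p) →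
        (Nonempty (X.Equiv X') ↔ ∀ j ∈ J, ∃ z : L, X.incl z = u j ∧ X'.incl z = u' j)) ∧
    (∀ δ : J →ₗ[MvPowerSeries (Fin d) Λ] L, ∃ (X : Exal.Ext Λ (MvPowerSeries (Fin d) Λ ⧸ J) L) (u : MvPowerSeries (Fin d) Λ →ₐ[Λ] X.E),
        (∀ p, X.proj (u p) = Ideal.Quotient.mk J p) ∧ ∀ j : J, X.incl (δ j) = u j) := by
  set K := Ideal.span (Set.range (MvPowerSeries.X : Fin d → MvPowerSeries (Fin d) Λ)) with hKdef
  have hKm : K ≤ IsLocalRing.maximalIdeal (MvPowerSeries (Fin d) Λ) := Groth.L12.span_X_le_maximalIdeal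
  have hJK : J ≤ K := hJ.trans (Ideal.pow_le_self two_ne_zero)
  haveI : Nontrivial (MvPowerSeries (Fin d) Λ ⧸ J) := Ideal.Quotient.nontrivial_iff.2
    (ne_top_of_le_ne_top (IsLocalRing.maximalIdeal.isMaximal _).ne_top (hJK.trans hKm))
  haveI : IsLocalRing (MvPowerSeries (Fin d) Λ ⧸ J) := IsLocalRing.of_surjective' _ Ideal.Quotient.mk_surjective
  have hmax : ∀ a ∈ K, Ideal.Quotient.mk J a ∈ IsLocalRing.maximalIdeal (MvPowerSeries (Fin d) Λ ⧸ J) := by
    intro a ha
    haveI : IsLocalHom (Ideal.Quotient.mk J) := IsLocalHom.of_surjective _ Ideal.Quotient.mk_surjective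
    rw [IsLocalRing.mem_maximalIdeal, mem_nonunits_iff]
    exact fun h => (IsLocalRing.mem_maximalIdeal _).1 (hKm ha) (isUnit_of_map_unit (Ideal.Quotient.mk J) a h)
  have hKL : ∀ a ∈ K, ∀ z : L, Ideal.Quotient.mk J a • z = 0 := fun a ha z =>
    Groth.L12.ExalLift.smul_L_eq_zero (hmax a ha) z
  refine ⟨fun X => ?_, fun X X' u u' hu hu' => Groth.L12.ExalPS.equiv_iff J K hJ hKL X X' u u' hu hu',
    fun δ => Groth.L12.ExalPS.exists_ext J K hJK hKL δ⟩
  exact Groth.L12.ExalPS.exists_lift (Ideal.Quotient.mkₐ Λ J) (fun i => hmax _ (Ideal.subset_span ⟨i, rfl⟩)) X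
end Groth.Agent.S11287
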