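import Mathlib.Tactic.LinearCombination
import Mathlib.LinearAlgebra.Dual.Lemmas
import Groth.Statements.S11288


set_option autoImplicit false
universe u
open Deform

namespace Groth.Agent.S11288

/-- Let K be a field, R' a local Artinian K-algebra with residue field K, and t a nonzero element of the
maximal ideal m' of R' with m' t = 0, so that R' → R = R'/(t) is a small extension of R. Then the
extension is trivial, i.e. the projection admits a section which is a K-algebra map, if and only if
t is not in m'^2; equivalently, iff the surjection m'/m'^2 → m_R/m_R^2 induced on cotangent spaces,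
whose kernel is spanned by the class of t, is not bijective. For instance K[t]/(t^(n+1)) →
K[t]/(t^n) is a non-trivial small extension for n ≥ 2. (The published example allows any local
K-algebra with residue field K; the row takes R' Artinian, the case in which the subalgebra
generated by lifts of a basis of the cotangent space maps onto R.) -/
theorem result
    {K : Type u} [Field K]
    {R' : Type u} [CommRing R'] [Algebra K R'] [IsLocalRing R'] [IsArtinianRing R']
    (hres : ∀ a : R', ∃ c : K, a - algebraMap K R' c ∈ IsLocalRing.maximalIdeal R')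
    (t : R') (ht : t ∈ IsLocalRing.maximalIdeal R') (ht0 : t ≠ 0)
    (htm : ∀ a ∈ IsLocalRing.maximalIdeal R', a * t = 0) :
    (∃ s : (R' ⧸ Ideal.span {t}) →ₐ[K] R', ∀ x, Ideal.Quotient.mk (Ideal.span {t}) (s x) = x) ↔
      t ∉ IsLocalRing.maximalIdeal R' ^ 2 := by
  have hmax : IsLocalRing.maximalIdeal R' * Ideal.span {t} = ⊥ := by
    rw [eq_bot_iff, Ideal.mul_le]
    intro a ha b hb
    obtain ⟨d, rfl⟩ := Ideal.mem_span_singleton'.1 hb
    rw [Ideal.mem_bot, mul_left_comm, htm a ha, mul_zero]
  constructor
  · rintro ⟨s, hs⟩ ht2
    have hsq : ∀ z ∈ IsLocalRing.maximalIdeal R' ^ 2, s (Ideal.Quotient.mk (Ideal.span {t}) z) = z := by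
      intro z hz
      rw [pow_two] at hz
      refine Submodule.mul_induction_on hz (fun a ha b hb => ?_) fun a b ha hb => by rw [map_add, map_add, ha, hb]
      have hd : ∀ a : R', s (Ideal.Quotient.mk (Ideal.span {t}) a) - a ∈ Ideal.span {t} := fun a =>
        Ideal.Quotient.eq.1 (hs _)
      obtain ⟨p, hp⟩ := Ideal.mem_span_singleton'.1 (hd a)
      obtain ⟨q, hq⟩ := Ideal.mem_span_singleton'.1 (hd b)
      rw [map_mul, map_mul, eq_add_of_sub_eq' hp.symm, eq_add_of_sub_eq' hq.symm]
      linear_combination p * (htm b hb) + q * (htm a ha) + p * q * (htm t ht)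
    exact ht0 (by rw [← hsq t ht2, Ideal.Quotient.eq_zero_iff_mem.2 (Ideal.mem_span_singleton_self t), map_zero])
  · intro ht2
    choose c hc using hres
    have hcu : ∀ a r, a - algebraMap K R' r ∈ IsLocalRing.maximalIdeal R' → c a = r := fun a r h => by
      by_contra hne
      have h1 := sub_mem h (hc a)
      rw [sub_sub_sub_cancel_left, ← map_sub] at h1
      exact (IsLocalRing.mem_maximalIdeal _).1 h1 ((sub_ne_zero.2 hne).isUnit.map _)
    let m2 : Submodule K R' := (IsLocalRing.maximalIdeal R' ^ 2).restrictScalars K
    obtain ⟨ℓ, hℓ0, hℓ2⟩ := Submodule.exists_dual_map_eq_bot_of_notMem (p := m2) (x := t) ht2 inferInstance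
    let L : R' →ₗ[K] K := (ℓ t)⁻¹ • ℓ
    have hℓ : L t = 1 := inv_mul_cancel₀ hℓ0
    have hL2 : ∀ z ∈ IsLocalRing.maximalIdeal R' ^ 2, L z = 0 := fun z hz => by
      have : ℓ z = 0 := (Submodule.mem_bot K).1 (hℓ2 ▸ Submodule.mem_map_of_mem (show z ∈ m2 from hz))
      change (ℓ t)⁻¹ * ℓ z = 0
      rw [this, mul_zero]
    let D : R' → K := fun a => L (a - algebraMap K R' (c a))
    have htm' : ∀ a, a * t = algebraMap K R' (c a) * t := fun a => by
      linear_combination htm _ (hc a)
    have hadd : ∀ a b, D (a + b) = D a + D b := fun a b => by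
      have : c (a + b) = c a + c b := hcu _ _ (by
        rw [map_add, add_sub_add_comm]; exact add_mem (hc a) (hc b))
      simp only [D]
      rw [← map_add, this, map_add, add_sub_add_comm]
    have hmul : ∀ a b, D (a * b) = c a * D b + c b * D a := fun a b => by
      have h1 : a * b - algebraMap K R' (c a * c b) = (a - algebraMap K R' (c a)) * (b - algebraMap K R' (c b)) +
          (c a • (b - algebraMap K R' (c b)) + c b • (a - algebraMap K R' (c a))) := by
        simp only [Algebra.smul_def, map_mul]
        ring
      have : c (a * b) = c a * c b := hcu _ _ (by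
        rw [h1]
        exact add_mem (Ideal.mul_mem_left _ _ (hc b))
          (add_mem (Submodule.smul_of_tower_mem _ _ (hc b)) (Submodule.smul_of_tower_mem _ _ (hc a))))
      simp only [D]
      rw [this, h1, map_add, map_add, map_smul, map_smul, hL2 _ (pow_two (IsLocalRing.maximalIdeal R') ▸
        Ideal.mul_mem_mul (hc a) (hc b)), zero_add, smul_eq_mul, smul_eq_mul]
    have hconst : ∀ r, D (algebraMap K R' r) = 0 := fun r => by
      simp only [D]
      rw [hcu (algebraMap K R' r) r (by rw [sub_self]; exact zero_mem _), sub_self, map_zero]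
    let r : R' →ₐ[K] R' :=
      { toFun := fun a => a - algebraMap K R' (D a) * t
        map_one' := by simpa using congrArg (fun z => (1 : R') - algebraMap K R' z * t) (hconst 1)
        map_mul' := fun a b => by
          rw [hmul, map_add, map_mul, map_mul]
          linear_combination (algebraMap K R' (D b)) * (htm' a) + (algebraMap K R' (D a)) * (htm' b)
            - (algebraMap K R' (D a)) * (algebraMap K R' (D b)) * (htm t ht)
        map_zero' := by simpa using congrArg (fun z => (0 : R') - algebraMap K R' z * t) (hconst 0)
        map_add' := fun a b => by rw [hadd, map_add]; ring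
        commutes' := fun x => by rw [hconst, map_zero, zero_mul, sub_zero] }
    have hrt : r t = 0 := by
      change t - algebraMap K R' (D t) * t = 0
      have : D t = 1 := by
        simp only [D]
        rw [hcu t 0 (by rw [map_zero, sub_zero]; exact ht), map_zero, sub_zero]
        exact hℓ
      rw [this, map_one, one_mul, sub_self]
    refine ⟨Ideal.Quotient.liftₐ _ r fun a ha => ?_, fun x => ?_⟩
    · obtain ⟨d, rfl⟩ := Ideal.mem_span_singleton'.1 ha
      rw [map_mul, hrt, mul_zero]
    · obtain ⟨a, rfl⟩ := Ideal.Quotient.mk_surjective x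
      refine Ideal.Quotient.eq.2 ?_
      change a - algebraMap K R' (D a) * t - a ∈ _
      rw [sub_sub_cancel_left]
      exact neg_mem (Ideal.mul_mem_left _ _ (Ideal.mem_span_singleton_self t))
end Groth.Agent.S11288
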