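import Groth.Statements.S11291
import Groth.Agent.L12.ExalArtin


set_option autoImplicit false
universe u
open Deform

namespace Groth.Agent.S11291

/-- Let k be an algebraically closed field and A a local Artinian k-algebra with residue field k and
non-zero maximal ideal, i.e. A is not k. Then the obstruction space o(A) = Ex_k(A, k) is not zero:
there is a k-extension 0 → k → E → A → 0 of A by its residue field which is not trivial (admits no
k-algebra section). Equivalently, k is the only formally smooth object among local Artinian
k-algebras with residue field k. -/
theorem result
    {k : Type u} [Field k] [IsAlgClosed k]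
    {A : Type u} [CommRing A] [Algebra k A] [IsLocalRing A] [IsArtinianRing A]
    (hres : ∀ a : A, ∃ c : k, a - algebraMap k A c ∈ IsLocalRing.maximalIdeal A)
    (hA : IsLocalRing.maximalIdeal A ≠ ⊥) :
    ∃ X : Exal.Ext k A (IsLocalRing.ResidueField A), ¬ X.IsTrivial := by
  exact Groth.L12.ExalArtin.exists_not_trivial hres hA
end Groth.Agent.S11291
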