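import Groth.Statements.S11292
import Groth.Agent.L12.ExalObstr


set_option autoImplicit false
universe u
open Deform

namespace Groth.Agent.S11292

/-- Let k be an algebraically closed field, Λ and R local Noetherian k-algebras with residue field k,
and Λ → R a local k-algebra homomorphism. Then the relative obstruction space vanishes — every
Λ-extension of R by its residue field k is trivial — if and only if (a) the tangent map t_R → t_Λ is
surjective: every k-derivation of Λ into k extends along Λ → R to a k-derivation of R into k, and
(b) the obstruction map o(R) → o(Λ) given by inverse image is injective on classes: two k-extensions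
of R by k whose inverse images over Λ are equivalent are equivalent (R is less obstructed than Λ).
Here k is the residue field of R, a module over R, Λ and k through the structure maps. -/
theorem result
    {k : Type u} [Field k] [IsAlgClosed k]
    {Λ : Type u} [CommRing Λ] [Algebra k Λ] [IsLocalRing Λ] [IsNoetherianRing Λ]
    (hΛ : ∀ a : Λ, ∃ c : k, a - algebraMap k Λ c ∈ IsLocalRing.maximalIdeal Λ)
    {R : Type u} [CommRing R] [Algebra Λ R] [Algebra k R] [IsScalarTower k Λ R]
    [IsLocalRing R] [IsNoetherianRing R] [IsLocalHom (algebraMap Λ R)]
    (hR : ∀ r : R, ∃ c : k, r - algebraMap k R c ∈ IsLocalRing.maximalIdeal R) :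
    (∀ X : Exal.Ext Λ R (IsLocalRing.ResidueField R), X.IsTrivial) ↔
    ((∀ D : Derivation k Λ (IsLocalRing.ResidueField R),
        ∃ D' : Derivation k R (IsLocalRing.ResidueField R), ∀ a : Λ, D' (algebraMap Λ R a) = D a) ∧
     (∀ Y Y' : Exal.Ext k R (IsLocalRing.ResidueField R),
        Nonempty ((Y.pullback Λ).Equiv (Y'.pullback Λ)) → Nonempty (Y.Equiv Y'))) := by
  constructor
  · intro h
    exact ⟨fun D => Groth.L12.ExalObstr.derivation_extends h D,
      fun Y Y' ⟨e⟩ => Groth.L12.ExalObstr.injective_of_trivial Y Y' h e⟩
  · rintro ⟨hD, hI⟩ X
    exact Groth.L12.ExalObstr.trivial_of_injective hD hI X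
end Groth.Agent.S11292
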