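import Groth.Statements.S11294


set_option autoImplicit false
universe u
open Deform

namespace Groth.Agent.S11294

open TrivSqZeroExt in
/-- Let P be a commutative ring, J an ideal, and P[ε] the ring of dual numbers over P. First-order
embedded deformations of Spec(P/J) in Spec P, namely ideals J' of P[ε] lifting J (the image of J'
under ε ↦ 0 is J) with P[ε]/J' flat over the dual numbers — flatness being replaced by the condition
that every element of P[ε]/J' annihilated by ε is a multiple of ε (equivalent to flatness over k[ε]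
when P is an algebra over a field k) — are in canonical bijection with Hom_P(J, P/J) =
Hom_{P/J}(J/J^2, P/J), the normal module: to φ corresponds the ideal of all a + εb with a in J and b
reducing to φ(a) modulo J. The first clause says this rule defines exactly one ideal for each φ; the
second says an ideal J' is a flat lift of J precisely when its membership is given by this rule for
some φ. (The published statement is the global one, identifying first-order deformations of a closed
subscheme X of an algebraic scheme Y with H^0(X, N_{X/Y}); this row is the affine computation in its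
proof, valid for every commutative ring P.) -/
theorem result (P : Type u) [CommRing P] (J : Ideal P) :
    (∀ φ : J →ₗ[P] (P ⧸ J), ∃! J' : Ideal (DualNumber P),
        ∀ a b : P, (inl a + inr b : DualNumber P) ∈ J' ↔ ∃ h : a ∈ J, Ideal.Quotient.mk J b = φ ⟨a, h⟩) ∧
    (∀ J' : Ideal (DualNumber P),
      (J'.map (TrivSqZeroExt.fstHom P P P) = J ∧
        ∀ m : DualNumber P ⧸ J', Ideal.Quotient.mk J' DualNumber.eps * m = 0 →
          ∃ m' : DualNumber P ⧸ J', m = Ideal.Quotient.mk J' DualNumber.eps * m') ↔
      ∃ φ : J →ₗ[P] (P ⧸ J), ∀ a b : P,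
        (inl a + inr b : DualNumber P) ∈ J' ↔ ∃ h : a ∈ J, Ideal.Quotient.mk J b = φ ⟨a, h⟩) := by
  have hfst : ∀ z : DualNumber P, inl z.fst + inr z.snd = z := inl_fst_add_inr_snd_eq
  constructor
  · intro φ
    refine ⟨{ carrier := {z | ∃ h : z.fst ∈ J, Ideal.Quotient.mk J z.snd = φ ⟨z.fst, h⟩}
              add_mem' := ?_, zero_mem' := ⟨J.zero_mem, (map_zero _).trans (map_zero φ).symm⟩, smul_mem' := ?_ },
      fun a b => ?_, fun J' hJ' => ?_⟩
    · rintro a b ⟨ha, ea⟩ ⟨hb, eb⟩
      refine ⟨J.add_mem ha hb, ?_⟩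
      exact (map_add (Ideal.Quotient.mk J) a.snd b.snd).trans
        ((congrArg₂ (· + ·) ea eb).trans (map_add φ ⟨a.fst, ha⟩ ⟨b.fst, hb⟩).symm)
    · rintro c a ⟨ha, ea⟩
      refine ⟨J.mul_mem_left _ ha, ?_⟩
      have : (⟨(c • a).fst, J.mul_mem_left _ ha⟩ : J) = c.fst • ⟨a.fst, ha⟩ := rfl
      rw [this, map_smul, ← ea]
      simp [Ideal.Quotient.eq_zero_iff_mem.2 ha]
      rfl
    · change (∃ h : (inl a + inr b : DualNumber P).fst ∈ J, _) ↔ _
      simp
    · ext z
      rw [← hfst z, hJ' z.fst z.snd]
      change _ ↔ ∃ h : (inl z.fst + inr z.snd : DualNumber P).fst ∈ J, _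
      simp
  · intro J'
    have heps : ∀ z : DualNumber P, DualNumber.eps * z = inr z.fst := fun z => by
      refine TrivSqZeroExt.ext ?_ ?_ <;> simp
    constructor
    · rintro ⟨hmap, hflat⟩
      have hsurjf : Function.Surjective (TrivSqZeroExt.fstHom P P P) := fun a => ⟨inl a, rfl⟩
      have hfstJ : ∀ z ∈ J', z.fst ∈ J := fun z hz => hmap ▸ Ideal.mem_map_of_mem _ hz
      have hlift : ∀ a : J, ∃ b : P, (inl (a : P) + inr b : DualNumber P) ∈ J' := fun a => by
        obtain ⟨z, hz, hza⟩ := (Ideal.mem_map_iff_of_surjective _ hsurjf).1 (show (a : P) ∈ Ideal.map _ J' by rw [hmap]; exact a.2)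
        refine ⟨z.snd, ?_⟩
        rw [← show z.fst = a from hza, hfst]
        exact hz
      have hzero : ∀ b : P, (inr b : DualNumber P) ∈ J' → b ∈ J := by
        intro b hb
        obtain ⟨w, hw⟩ := hflat (Ideal.Quotient.mk J' (inl b)) (by
          rw [← map_mul, heps, fst_inl, Ideal.Quotient.eq_zero_iff_mem.2 hb])
        obtain ⟨w, rfl⟩ := Ideal.Quotient.mk_surjective w
        rw [← map_mul, heps] at hw
        simpa using hfstJ _ (Ideal.Quotient.eq.1 hw)
      have hone : ∀ b ∈ J, (inr b : DualNumber P) ∈ J' := by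
        intro b hb
        obtain ⟨c, hc⟩ := hlift ⟨b, hb⟩
        have := J'.mul_mem_left DualNumber.eps hc
        rw [heps] at this
        simpa using this
      choose f hf using hlift
      have huniq : ∀ (a : J) (b : P), (inl (a : P) + inr b : DualNumber P) ∈ J' →
          Ideal.Quotient.mk J b = Ideal.Quotient.mk J (f a) := fun a b hb => Ideal.Quotient.eq.2 (by
        have := J'.sub_mem hb (hf a)
        rw [add_sub_add_left_eq_sub, ← inr_sub] at this
        exact hzero _ this)
      refine ⟨{ toFun := fun a => Ideal.Quotient.mk J (f a)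
                map_add' := fun a b => ?_
                map_smul' := fun c a => ?_ }, fun a b => ⟨fun h => ?_, ?_⟩⟩
      · refine ((huniq (a + b) (f a + f b) ?_).symm.trans ?_)
        · have := J'.add_mem (hf a) (hf b)
          rwa [add_add_add_comm, ← inl_add, ← inr_add] at this
        · exact map_add _ _ _
      · refine ((huniq (c • a) (c • f a) ?_).symm.trans ?_)
        · have := J'.mul_mem_left (inl c) (hf a)
          rwa [mul_add, ← inl_mul, inl_mul_inr] at this
        · exact map_mul _ _ _
      · have ha : a ∈ J := by simpa using hfstJ _ h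
        exact ⟨ha, huniq ⟨a, ha⟩ b h⟩
      · rintro ⟨ha, e⟩
        have h1 : (inr (b - f ⟨a, ha⟩) : DualNumber P) ∈ J' := hone _ (Ideal.Quotient.eq.1 e)
        convert J'.add_mem (hf ⟨a, ha⟩) h1 using 1
        refine TrivSqZeroExt.ext ?_ ?_ <;> simp
    · rintro ⟨φ, hφ⟩
      refine ⟨le_antisymm (Ideal.map_le_iff_le_comap.2 fun z hz => ?_) fun a ha => ?_, fun x hx => ?_⟩
      · rw [← hfst z] at hz
        exact ((hφ _ _).1 hz).1
      · obtain ⟨c, hc⟩ := Ideal.Quotient.mk_surjective (φ ⟨a, ha⟩)
        simpa using Ideal.mem_map_of_mem (TrivSqZeroExt.fstHom P P P) ((hφ a c).2 ⟨ha, hc⟩)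
      · obtain ⟨z, rfl⟩ := Ideal.Quotient.mk_surjective x
        rw [← map_mul, heps, Ideal.Quotient.eq_zero_iff_mem, ← zero_add (inr _), ← inl_zero] at hx
        obtain ⟨_, e⟩ := (hφ _ _).1 hx
        have hzj : z.fst ∈ J := Ideal.Quotient.eq_zero_iff_mem.1 (e.trans (map_zero φ))
        obtain ⟨c, hc⟩ := Ideal.Quotient.mk_surjective (φ ⟨_, hzj⟩)
        refine ⟨Ideal.Quotient.mk J' (inl (z.snd - c)), ?_⟩
        rw [← map_mul, heps, fst_inl, Ideal.Quotient.eq]
        convert (hφ _ c).2 ⟨hzj, hc⟩ using 1
        refine TrivSqZeroExt.ext ?_ ?_ <;> simp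
end Groth.Agent.S11294
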