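import Groth.Statements.S11295
import Groth.Agent.L11.Fogarty.Main
import Groth.Agent.L16.ProjSpace.Basic


set_option autoImplicit false
set_option linter.style.haveILetI false
set_option backward.isDefEq.respectTransparency false
set_option backward.isDefEq.respectTransparency.types false
universe u
open CategoryTheory CategoryTheory.Limits AlgebraicGeometry
open HilbD

namespace Groth.Agent.S11295

/-- Let k be an algebraically closed field and Y a nonsingular connected projective surface over k: Y →
Spec k is a closed subscheme of some projective space over k, Y is connected of dimension 2 and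
every local ring of Y is a regular local ring. Let n ≥ 0 and let (H, Z) represent the Hilbert
functor of n points of Y over k, i.e. Z is a closed subscheme of Y ×_k H finite locally free of
degree n over H through which every such family over any k-scheme T is pulled back along a unique
k-morphism T → H. Then the scheme H (the Hilbert scheme Y^[n]) is connected, all of its local rings
are regular, and its dimension is 2n. -/
theorem result (k : Type u) [Field k] [IsAlgClosed k]
    (Y : Over (Spec (CommRingCat.of k))) (hproj : Neron.IsProjectiveOver k Y)
    [ConnectedSpace Y.left] (hreg : ∀ y : Y.left, IsRegularLocalRing (Y.left.presheaf.stalk y))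
    (hdim : topologicalKrullDim Y.left = 2) (n : ℕ)
    (H : Over (Spec (CommRingCat.of k))) (Z : HilbD.Obj Y.hom n H) (hH : HilbD.IsUniversal Y.hom n H Z) :
    ConnectedSpace H.left ∧ (∀ h : H.left, IsRegularLocalRing (H.left.presheaf.stalk h)) ∧
      topologicalKrullDim H.left = (2 * n : ℕ) := by
  obtain ⟨N, i, hi, hcomp⟩ := id hproj
  haveI := hi
  haveI : IsProper (CohB1.ProjSpaceOver.toBase N (Spec (CommRingCat.of k))) := MorphismProperty.pullback_snd (P := @IsProper) _ _
    (Groth.L16.ProjSpace.isProper_toSpec N (ULift.{u} ℤ))
  haveI : IsProper Y.hom := by rw [← hcomp]; infer_instance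
  obtain ⟨h1, -, h3, h4⟩ := Groth.L11.Fogarty.fogarty
    (Groth.L11.HilbConn.exists_affine_of_finite Y hproj) hreg hdim n hH
  exact ⟨h1, h3, h4⟩

end Groth.Agent.S11295
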