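import Groth.Agent.L18.Grass.PlueckerFunctor
import Groth.Statements.S11297
-- import your own Groth.Agent.* helpers here

set_option autoImplicit false
universe u
open CategoryTheory CategoryTheory.Limits AlgebraicGeometry
open Grass

namespace Groth.Agent.S11297

/-- Let k be an algebraically closed field, M a k-vector space of finite dimension N and 1 ≤ n ≤ N. The
Grassmannian of rank-n locally free quotients of M ⊗ O is a projective k-scheme: its Plücker
morphism to the projective space of the n-th exterior power, of dimension C(N, n) - 1, is a closed
embedding. Stated here for any k-scheme X that represents the Grassmann functor on affine k-schemes,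
i.e. comes with bijections, compatible with base change along k-algebra maps A → B, between the
k-morphisms Spec A → X and the A-submodules of A ⊗_k M whose quotient is finite projective of
constant rank n (Mathlib's Grassmannian functor): there is a closed immersion of X over k into
projective space of dimension C(N, n) - 1 over k. (The existence of the representing scheme and its
smoothness of relative dimension n(N - n) with a cover by affine spaces are not restated here; only
projectivity is, and the closed immersion is asserted to exist rather than named as the Plücker
morphism. The published statement has the universal property on all k-schemes; this row assumes it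
on affine ones, which determines X.) -/
theorem result (k : Type u) [Field k] [IsAlgClosed k]
    (M : Type u) [AddCommGroup M] [Module k M] [FiniteDimensional k M] (N n : ℕ)
    (hN : Module.finrank k M = N) (h1 : 1 ≤ n) (hn : n ≤ N) (X : Over (Spec (CommRingCat.of k)))
    (e : ∀ A : CommAlgCat.{u} k,
      (Over.mk (Spec.map (CommRingCat.ofHom (algebraMap k A))) ⟶ X) ≃
        (Module.Grassmannian.functor (R := k) (M := M) n).obj A)
    (he : ∀ (A B : CommAlgCat.{u} k) (φ : A ⟶ B)
      (g : Over.mk (Spec.map (CommRingCat.ofHom (algebraMap k A))) ⟶ X)
      (g' : Over.mk (Spec.map (CommRingCat.ofHom (algebraMap k B))) ⟶ X),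
      g'.left = Spec.map (CommRingCat.ofHom φ.hom.toRingHom) ≫ g.left →
        e B g' = (Module.Grassmannian.functor (R := k) (M := M) n).map φ (e A g)) :
    ∃ c : X.left ⟶ CohB1.ProjSpaceOver (N.choose n - 1) (Spec (CommRingCat.of k)),
      IsClosedImmersion c ∧
        c ≫ CohB1.ProjSpaceOver.toBase (N.choose n - 1) (Spec (CommRingCat.of k)) = X.hom := by
  let v : M ≃ₗ[k] (Fin N → k) := LinearEquiv.ofFinrankEq _ _ (by rw [hN, Module.finrank_fin_fun])
  refine Groth.L18.Pluecker.exists_closedImmersion_over hn X (fun A => (e A).trans (Groth.L18.Pluecker.grCongr v n A)) ?_
  intro A B φ g g' h
  show Groth.L18.Pluecker.grCongr v n B (e B g') =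
    Module.Grassmannian.map φ.hom (Groth.L18.Pluecker.grCongr v n A (e A g))
  rw [he A B φ g g' h, Groth.L18.Pluecker.grCongr_map]
  rfl

end Groth.Agent.S11297
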