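import Groth.Statements.S11299
import Groth.Agent.L01.T2Indep

set_option autoImplicit false
universe u
open CAlg

namespace Groth.Agent.S11299

/-- The second cotangent module does not depend on the presentation: let P be a commutative ring, J an
ideal and B = P/J. For a presentation of J, i.e. a finitely generated free P-module F with a
P-linear map j : F → P with image J, let R = ker j be the relation module and R^tr ⊆ R the span of
the trivial relations j(u) • v - j(v) • u; the module T^2 of the presentation is the quotient of
Hom_B(R/R^tr, B), realised as the P-linear maps R → P/J vanishing on R^tr, by the restrictions to R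
of the P-linear maps F → P/J (here: the image of that submodule in the quotient of Hom_P(R, P/J) by
the restrictions). Then for two presentations (F, j) and (F', j') of the same ideal J the two
modules T^2 are isomorphic as P-modules (existence of an isomorphism; the comparison maps depend on
expressing one system of generators through the other). (The published statement takes B essentially
of finite type over a field and P smooth; this row allows any commutative ring P and ideal J.) -/
theorem result (P : Type u) [CommRing P] (J : Ideal P)
    (F : Type u) [AddCommGroup F] [Module P F] [Module.Free P F] [Module.Finite P F]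
    (F' : Type u) [AddCommGroup F'] [Module P F'] [Module.Free P F'] [Module.Finite P F']
    (j : F →ₗ[P] P) (j' : F' →ₗ[P] P) (hj : LinearMap.range j = J) (hj' : LinearMap.range j' = J) :
    Nonempty (↥(Submodule.map
          (LinearMap.range (LinearMap.lcomp P (P ⧸ J) (LinearMap.ker j).subtype)).mkQ
          (LinearMap.ker (LinearMap.lcomp P (P ⧸ J)
            (Submodule.comap (LinearMap.ker j).subtype
              (Submodule.span P {y : F | ∃ u v : F, y = j u • v - j v • u})).subtype))) ≃ₗ[P]
      ↥(Submodule.map
          (LinearMap.range (LinearMap.lcomp P (P ⧸ J) (LinearMap.ker j').subtype)).mkQ
          (LinearMap.ker (LinearMap.lcomp P (P ⧸ J)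
            (Submodule.comap (LinearMap.ker j').subtype
              (Submodule.span P {y : F' | ∃ u v : F', y = j' u • v - j' v • u})).subtype)))) := by
  exact Groth.L01.T2Indep.equiv_T2 J
    (Groth.L01.T2Indep.exists_lift j j' (le_of_eq (hj.trans hj'.symm)))
    (Groth.L01.T2Indep.exists_lift j' j (le_of_eq (hj'.trans hj.symm)))

end Groth.Agent.S11299
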