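import Groth.Statements.S11301
import Groth.Agent.L22.Reg.Lin
-- import your own Groth.Agent.* helpers here

set_option autoImplicit false
universe u
open CategoryTheory CategoryTheory.Limits AlgebraicGeometry
open Variety

namespace Groth.Agent.S11301

/-- m-regularity via linear resolutions: in one-step form: let k be an algebraically closed field and F
a coherent module on P^n_k. Then F is m-regular if and only if there are b ≥ 0 and an epimorphism
O(-m)^b → F (from the direct sum of b copies of O(-m)) whose kernel is (m+1)-regular. (The published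
statement is the equivalent characterisation by a resolution ... → O(-m-2)^{b_2} → O(-m-1)^{b_1} →
O(-m)^{b_0} → F → 0; it follows from this one-step form by induction, and conversely.) -/
theorem result (k : Type u) [Field k] [IsAlgClosed k] (n : ℕ)
    (F : (CohB1.ProjSpace n k).Modules) (hF : Coh.IsCoh F) (m : ℤ) :
    Curv2.IsMRegular k n F m ↔
      ∃ (b : ℕ) (φ : (∐ fun _ : Fin b => Twist.twistProjSpace n k (-m)) ⟶ F),
        Epi φ ∧ Curv2.IsMRegular k n (kernel φ) (m + 1) := by
  haveI : Coh.IsQCoh F := hF.1
  constructor
  · intro h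
    obtain ⟨b, φ, hφ, hK⟩ := Groth.L22.Reg.exists_linear_presentation hF (Groth.L22.Reg.regular_of_le_n h)
    exact ⟨b, φ, hφ, fun q hq _ => hK q hq⟩
  · rintro ⟨b, φ, hφ, hK⟩
    haveI := hφ
    haveI : Coh.IsQCoh (kernel φ) :=
      (Groth.L16.CohKernel.isCoh_kernel_cokernel (Groth.L16.ProjSpace.isCoh_sigma_twist n k _) hF φ).1.1
    exact fun q hq _ => Groth.L22.Reg.regular_of_presentation φ (Groth.L22.Reg.regular_of_le_n hK) q hq

end Groth.Agent.S11301
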