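import Groth.Statements.S11302
import Groth.Agent.L12.TOneCI
import Mathlib.Tactic


set_option autoImplicit false
universe u
open Deform

namespace Groth.Agent.S11302

open MvPolynomial in
/-- T^1 of a complete intersection; the hypersurface case P/(f, ∂f/∂X_1, ..., ∂f/∂X_d) is n = 1: let k
be an algebraically closed field, P = k[X_1, ..., X_d], f_1, ..., f_n a regular sequence in P (each
f_i a non-zero-divisor modulo the preceding ones), J the ideal they generate and B = P/J. The first
cotangent module T^1_B — the cokernel of Der_k(P, B) → Hom_P(J, B), a derivation being restricted to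
J — is isomorphic, as a P-module, to B^n modulo the B-submodule generated by the d columns
(∂f_1/∂X_j, ..., ∂f_n/∂X_j), j = 1, ..., d, of the Jacobian matrix reduced modulo J, through the map
sending the class of φ : J → B to the class of (φ(f_1), ..., φ(f_n)). (The published formula allows
P to be a localisation of the polynomial ring; this row takes the polynomial ring.) -/
theorem result (k : Type u) [Field k] [IsAlgClosed k] (d n : ℕ)
    (f : Fin n → MvPolynomial (Fin d) k) (hreg : RingTheory.Sequence.IsWeaklyRegular (MvPolynomial (Fin d) k) (List.ofFn f)) :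
    ∃ e : ((↥(Ideal.span (Set.range f)) →ₗ[MvPolynomial (Fin d) k] (MvPolynomial (Fin d) k ⧸ Ideal.span (Set.range f))) ⧸
            Submodule.span (MvPolynomial (Fin d) k)
              {ψ : ↥(Ideal.span (Set.range f)) →ₗ[MvPolynomial (Fin d) k] (MvPolynomial (Fin d) k ⧸ Ideal.span (Set.range f)) |
                ∃ D : Derivation k (MvPolynomial (Fin d) k) (MvPolynomial (Fin d) k ⧸ Ideal.span (Set.range f)), ∀ a : ↥(Ideal.span (Set.range f)), ψ a = D (a : MvPolynomial (Fin d) k)}) ≃ₗ[MvPolynomial (Fin d) k]
          ((Fin n → MvPolynomial (Fin d) k ⧸ Ideal.span (Set.range f)) ⧸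
            Submodule.span (MvPolynomial (Fin d) k ⧸ Ideal.span (Set.range f))
              (Set.range fun j : Fin d => fun i : Fin n => Ideal.Quotient.mk (Ideal.span (Set.range f)) (pderiv j (f i)))),
      ∀ φ : ↥(Ideal.span (Set.range f)) →ₗ[MvPolynomial (Fin d) k] (MvPolynomial (Fin d) k ⧸ Ideal.span (Set.range f)),
        e (Submodule.Quotient.mk φ) =
          Submodule.Quotient.mk (fun i : Fin n => φ ⟨f i, Ideal.subset_span (Set.mem_range_self i)⟩) := by
  classical
  obtain ⟨e₀, he₀⟩ := Groth.L12.TOneCI.exists_equiv f hreg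
  set S := Submodule.span ((MvPolynomial (Fin d) k) ⧸ (Ideal.span (Set.range f))) (Set.range fun j : Fin d => fun i : Fin n => Ideal.Quotient.mk (Ideal.span (Set.range f)) (pderiv j (f i))) with hS
  set T := Submodule.span (MvPolynomial (Fin d) k) {ψ : ↥(Ideal.span (Set.range f)) →ₗ[(MvPolynomial (Fin d) k)] ((MvPolynomial (Fin d) k) ⧸ (Ideal.span (Set.range f))) | ∃ D : Derivation k (MvPolynomial (Fin d) k) ((MvPolynomial (Fin d) k) ⧸ (Ideal.span (Set.range f))), ∀ a : ↥(Ideal.span (Set.range f)), ψ a = D (a : (MvPolynomial (Fin d) k))} with hT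
  have hmap : T.map e₀.toLinearMap = S.restrictScalars (MvPolynomial (Fin d) k) := by
    refine le_antisymm ?_ ?_
    · rw [hT, Submodule.map_span, Submodule.span_le]
      rintro _ ⟨ψ, ⟨D, hD⟩, rfl⟩
      show e₀ ψ ∈ S
      have : e₀ ψ = ∑ j, D (X j) • (fun i : Fin n => Ideal.Quotient.mk (Ideal.span (Set.range f)) (pderiv j (f i))) := by
        funext i
        rw [he₀, hD, Groth.L12.TOneCI.derivation_eq D, Finset.sum_apply]
        exact Finset.sum_congr rfl fun j _ => mul_comm _ _
      rw [this]
      exact Submodule.sum_mem _ fun j _ => Submodule.smul_mem _ _ (Submodule.subset_span ⟨j, rfl⟩)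
    · have hcol : ∀ j : Fin d, (fun i : Fin n => Ideal.Quotient.mk (Ideal.span (Set.range f)) (pderiv j (f i))) ∈ T.map e₀.toLinearMap := by
        intro j
        let D : Derivation k (MvPolynomial (Fin d) k) ((MvPolynomial (Fin d) k) ⧸ (Ideal.span (Set.range f))) := MvPolynomial.mkDerivation k (Pi.single j 1)
        have hD : ∀ p : (MvPolynomial (Fin d) k), D p = Ideal.Quotient.mk (Ideal.span (Set.range f)) (pderiv j p) := by
          intro p
          rw [Groth.L12.TOneCI.derivation_eq D, Finset.sum_eq_single j
            (fun l _ hl => by simp [D, MvPolynomial.mkDerivation_X, hl]) (fun h => absurd (Finset.mem_univ j) h)]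
          simp [D, MvPolynomial.mkDerivation_X, Ideal.Quotient.algebraMap_eq]

        have hadd : ∀ (c : (MvPolynomial (Fin d) k)) (a : (MvPolynomial (Fin d) k)), a ∈ (Ideal.span (Set.range f)) → D (c * a) = c • D a := fun c a ha => by
          obtain ⟨z, hz⟩ := Ideal.Quotient.mk_surjective (D c)
          rw [D.leibniz, ← hz, ← Submodule.Quotient.mk_eq_zero] at *
          rw [add_eq_left]
          show Ideal.Quotient.mk _ (a * z) = 0
          rw [map_mul, show Ideal.Quotient.mk _ a = 0 from ha, zero_mul]
        let ψ : ↥(Ideal.span (Set.range f)) →ₗ[(MvPolynomial (Fin d) k)] ((MvPolynomial (Fin d) k) ⧸ (Ideal.span (Set.range f))) :=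
          { toFun := fun a => D (a : (MvPolynomial (Fin d) k))
            map_add' := fun a b => map_add D (a : (MvPolynomial (Fin d) k)) (b : (MvPolynomial (Fin d) k))
            map_smul' := fun c a => hadd c a a.2 }
        refine ⟨ψ, Submodule.subset_span ⟨D, fun a => rfl⟩, funext fun i => ?_⟩
        exact (he₀ ψ i).trans (hD (f i))
      intro x (hx : x ∈ S)
      induction hx using Submodule.span_induction with
      | mem x hx => obtain ⟨j, rfl⟩ := hx; exact hcol j
      | zero => exact zero_mem _
      | add x y _ _ hx hy => exact add_mem hx hy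
      | smul c x _ hx =>
        obtain ⟨c, rfl⟩ := Ideal.Quotient.mk_surjective c
        rw [← Ideal.Quotient.algebraMap_eq, algebraMap_smul]
        exact Submodule.smul_mem _ c hx
  refine ⟨(Submodule.Quotient.equiv T (S.restrictScalars (MvPolynomial (Fin d) k)) e₀ hmap).trans
    ((Submodule.Quotient.restrictScalarsEquiv (MvPolynomial (Fin d) k) S).restrictScalars (MvPolynomial (Fin d) k)), fun φ => ?_⟩
  exact congrArg Submodule.Quotient.mk (funext fun i => he₀ φ i)
end Groth.Agent.S11302
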