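import Groth.Statements.S11303
import Groth.Agent.L04.HyperSurf.Main

set_option autoImplicit false
universe u
open CategoryTheory CategoryTheory.Limits AlgebraicGeometry
open FGA

namespace Groth.Agent.S11303

/-- Closed subschemes with the Hilbert polynomial of a hypersurface: let k be an algebraically closed
field, r ≥ 1, d ≥ 1, and Y ⊆ P^r_k a closed subscheme (quasi-coherent ideal sheaf I) whose Hilbert
polynomial is that of a hypersurface of degree d: χ(O_Y(t)) = C(t+r, r) - C(t+r-d, r) for every
integer t (binomial coefficients as polynomials in t). Then Y is a hypersurface of degree d: its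
ideal sheaf, as an O-module, is isomorphic to O(-d) (existence of an isomorphism of O-modules;
equivalently I is an invertible ideal generated by one form of degree d). -/
theorem result (k : Type u) [Field k] [IsAlgClosed k] (r d : ℕ)
    (hr : 1 ≤ r) (hd : 1 ≤ d) (I : (CohB1.ProjSpace r k).IdealSheafData)
    (hP : ∀ t : ℤ, Curv2.euler k (CohB1.ProjSpace r k)
        (CohB1.tensorMod (ClSub.quotMod I) (Twist.twistProjSpace r k t)) =
      Ring.choose (t + r) r - Ring.choose (t + r - d) r) :
    Nonempty (ClSub.idealMod I ≅ Twist.twistProjSpace r k (-(d : ℤ))) :=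
  Groth.L04.HyperSurf.nonempty_iso hr d I hP

end Groth.Agent.S11303
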