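import Groth.Statements.S11306
import Mathlib.RingTheory.LocalRing.Module
import Mathlib.LinearAlgebra.Dimension.Constructions
import Mathlib.RingTheory.Localization.FractionRing
import Mathlib.LinearAlgebra.FreeModule.Finite.Matrix

set_option autoImplicit false
universe u
open TensorProduct
open CAlg

namespace Groth.Agent.S11306

/-- Take a Noetherian local domain A, with residue field k and fraction field K, and let M be a finitely
generated A-module. If k ⊗_A M and K ⊗_A M have the same dimension r (over k and over K
respectively), then M is a free A-module of rank r. -/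
theorem result (A : Type u) [CommRing A] [IsDomain A]
    [IsNoetherianRing A] [IsLocalRing A] (M : Type u) [AddCommGroup M] [Module A M] [Module.Finite A M] (r : ℕ)
    (hk : Module.finrank (IsLocalRing.ResidueField A) (IsLocalRing.ResidueField A ⊗[A] M) = r)
    (hK : Module.finrank (FractionRing A) (FractionRing A ⊗[A] M) = r) :
    Module.Free A M ∧ Module.finrank A M = r := by
  classical
  let k := IsLocalRing.ResidueField A
  let K := FractionRing A
  let b : Module.Basis (Fin r) k (k ⊗[A] M) := Module.finBasisOfFinrankEq k _ hk
  obtain ⟨v, hv⟩ := (TensorProduct.mk_surjective A M k Ideal.Quotient.mk_surjective).comp_left b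
  let i : (Fin r → A) →ₗ[A] M := Fintype.linearCombination A v
  have hi : Function.Surjective i := by
    rw [← LinearMap.range_eq_top, Fintype.range_linearCombination]
    exact IsLocalRing.span_eq_top_of_tmul_eq_basis v b (congrFun hv)
  have hbij : Function.Bijective (i.baseChange K) := by
    have hs : Function.Surjective (i.baseChange K) := i.lTensor_surjective K hi
    refine ⟨?_, hs⟩
    refine (LinearMap.injective_iff_surjective_of_finrank_eq_finrank ?_).mpr hs
    rw [hK, Module.finrank_baseChange, Module.finrank_fin_fun]
  have hinj : Function.Injective i := by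
    intro x y hxy
    have h1 : (1 : K) ⊗ₜ[A] x = (1 : K) ⊗ₜ[A] y := hbij.1 (by simp [hxy])
    have h2 := congrArg (TensorProduct.piScalarRight A K K (Fin r)) h1
    rw [TensorProduct.piScalarRight_apply, TensorProduct.piScalarRight_apply] at h2
    funext j
    have h3 := congrFun h2 j
    simp only [TensorProduct.piScalarRightHom_tmul] at h3
    rw [← Algebra.algebraMap_eq_smul_one, ← Algebra.algebraMap_eq_smul_one] at h3
    exact IsFractionRing.injective A K h3
  let e := LinearEquiv.ofBijective i ⟨hinj, hi⟩
  exact ⟨Module.Free.of_equiv e, by rw [← e.finrank_eq, Module.finrank_fin_fun]⟩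

end Groth.Agent.S11306
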