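import Groth.Statements.S1131
import Groth.Agent.L20.SchDesc.Glue

set_option autoImplicit false
open CategoryTheory CategoryTheory.Limits AlgebraicGeometry Opposite
universe u
open Desc

set_option backward.isDefEq.respectTransparency.types false
set_option linter.style.haveILetI false

namespace Groth.Agent.S1131

/-- If p : X ⟶ S is surjective, flat and quasi-compact, then the functor sending a scheme over S to its
canonical descent datum relative to p is full. (Faithfulness, which needs no quasi-compactness, is a
companion statement.) (Descent data are taken in functor-of-points form, equivalent by the Yoneda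
lemma to the usual form of an isomorphism over X ×_S X satisfying the cocycle condition.) -/
theorem result {X S : Scheme.{u}} (p : X ⟶ S) [Surjective p] [Flat p] [QuasiCompact p] :
    (Desc.toDD p).Full := by
  refine ⟨fun {U U'} g => ?_⟩
  have hg : g.hom.left ≫ pullback.fst p U'.hom = pullback.fst p U.hom := Over.w g.hom
  obtain ⟨m₀, hm⟩ := (Groth.L20.SchDesc.toDDDescent p U).exists_factor
    (g.hom.left ≫ pullback.snd p U'.hom) (fun {T} v x e => by
      have hc := g.comm (v ≫ pullback.fst p U.hom) x ((Category.assoc _ _ _).trans e) ⟨v, rfl⟩
        (g.push ⟨v, rfl⟩) rfl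
      exact (Category.assoc _ _ _).symm.trans ((congrArg (· ≫ pullback.snd p U'.hom) hc.symm).trans
        ((Groth.L20.SchDesc.canMap_snd _ x ((Category.assoc _ _ _).trans e) _).trans
          (Category.assoc _ _ _))))
  let m : U.left ⟶ U'.left := m₀
  change pullback.snd p U.hom ≫ m = g.hom.left ≫ pullback.snd p U'.hom at hm
  have hw : m ≫ U'.hom = U.hom := by
    have : Epi (pullback.snd p U.hom) := Flat.epi_of_flat_of_surjective _
    rw [← cancel_epi (pullback.snd p U.hom)]
    refine ((Category.assoc _ _ _).symm.trans (congrArg (· ≫ U'.hom) hm)).trans ?_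
    exact (Category.assoc _ _ _).trans ((congrArg (g.hom.left ≫ ·) pullback.condition.symm).trans
      (((Category.assoc _ _ _).symm.trans (congrArg (· ≫ p) hg)).trans pullback.condition))
  refine ⟨Over.homMk m hw, Desc.SchDD.hom_ext (Over.OverMorphism.ext (pullback.hom_ext ?_ ?_))⟩
  · exact ((pullback.lift_fst _ _ _).trans (Category.comp_id _)).trans hg.symm
  · exact (pullback.lift_snd _ _ _).trans hm

end Groth.Agent.S1131
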