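import Groth.Statements.S11316
import Groth.Agent.L22.ExtSh.DualCM
import Groth.Agent.L22.ExtSh.Codim
import Groth.Agent.L22.PDual.ExtSheafHom
-- import your own Groth.Agent.* helpers here

set_option autoImplicit false
universe u
open CategoryTheory CategoryTheory.Limits AlgebraicGeometry
attribute [local instance] HasDerivedCategory.standard
open ProjDual

namespace Groth.Agent.S11316

/-- Let k be an algebraically closed field and X a closed subscheme of some P^N_k, of dimension n, which
is Cohen–Macaulay (every local ring of X is Cohen–Macaulay) and equidimensional (every irreducible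
component of X has dimension n); let (ω, t) be a dualizing sheaf for X, i.e. ω is coherent, t :
H^n(X, ω) → k is k-linear, and for every coherent F and every k-linear form ψ on H^n(X, F) there is
exactly one φ : F → ω with ψ = t ∘ H^n(φ). Then for every finite locally free O_X-module F for which
the internal Hom functor Hom_{O_X}(F, -) exists (right adjoint of F ⊗ -) and every i ≤ n, the k-dual
of H^i(X, F) is isomorphic to H^(n-i)(X, Hom_{O_X}(F, ω)). (Existence of a k-linear isomorphism
only; the published statement writes the second module as H^(n-i)(X, F^∨ ⊗ ω) and obtains the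
isomorphism from the duality maps θ^i.) -/
theorem result
    (k : Type u) [Field k] [IsAlgClosed k] (N n : ℕ) (X : Scheme.{u}) [X.Over (Spec (CommRingCat.of k))]
    (ι : X ⟶ CohB1.ProjSpace N k) [IsClosedImmersion ι] (hι : ι ≫ CohB1.ProjSpace.toSpec N k = X ↘ Spec (CommRingCat.of k))
    (hn : topologicalKrullDim ↥X = n)
    (hCM : ∀ x : X, LocCoh.IsCohenMacaulayLocalRing (X.presheaf.stalk x))
    (heq : ∀ Z : Set ↥X, Z ∈ irreducibleComponents ↥X → topologicalKrullDim ↥Z = (n : WithBot ℕ∞))
    (ω : X.Modules) (hω : Coh.IsCoh ω) (t : Coh.HH X ω n →ₗ[k] k)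
    (hdual : ∀ F : X.Modules, Coh.IsCoh F → ∀ ψ : Coh.HH X F n →ₗ[k] k,
        ∃! φ : F ⟶ ω, ∀ x : Coh.HH X F n,
          ψ x = t (Sheaf.H.map ((SheafOfModules.toSheaf X.ringCatSheaf).map φ) n x))
    (F : X.Modules) (hF : FlatMod.IsFinLocFree F) [DCoh.HasSheafHom F] (i : ℕ) (hi : i ≤ n) :
    Nonempty (Module.Dual k (Coh.HH X F i) ≃ₗ[k] Coh.HH X ((DCoh.sheafHom F).obj ω) (n - i)) := by
  haveI : IsProper (CohB1.ProjSpace.toSpec N k) := Groth.L22.PDual.proper N k
  haveI : IsProper (X ↘ Spec (CommRingCat.of k)) := hι ▸ inferInstance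
  haveI := Groth.L21.RR.isNoetherian_of_proper (X := X) k
  haveI := Groth.L00.Tensor.grothendieckAbelian_modules X
  haveI : HasExt.{u} X.Modules := inferInstance
  have hcl : ∀ x : X, IsClosed ({x} : Set ↥X) →
      LocCoh.IsCohenMacaulayLocalRing (X.presheaf.stalk x) ∧ ringKrullDim (X.presheaf.stalk x) = n := fun x hx => by
    refine ⟨hCM x, ?_⟩
    obtain ⟨a, b, ha, hb, hloc⟩ := Groth.L22.SchemeDim.exists_localDim k X x
    obtain ⟨m, hm, htr⟩ := Groth.L22.SchemeDim.exists_dim_closure_eq_trdeg k X x
    obtain rfl : a = m := by exact_mod_cast ha.symm.trans htr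
    have ha0 : a = 0 := by
      rw [hx.closure_eq] at hm
      have h0 := hm.symm.trans_le (topologicalKrullDim_zero_of_discreteTopology ({x} : Set ↥X))
      exact Nat.le_zero.1 (by exact_mod_cast h0)
    have h1 := Groth.L22.ExtSh.le_localDim_of_equidim k heq x
    have h2 : FlatMor.localDim X x ≤ (n : WithBot ℕ∞) :=
      (iInf_le_of_le ⟨⊤, trivial⟩ (topologicalKrullDim_subspace_le _ _)).trans hn.le
    rw [hloc] at h1 h2
    have h1' : n ≤ a + b := by exact_mod_cast h1
    have h2' : a + b ≤ n := by exact_mod_cast h2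
    rw [hb, show b = n by omega]
  have hFc := Groth.L16.NegPow.isCoh_of_isFinLocFree hF
  obtain ⟨h1, h2⟩ := Groth.L22.DualCM.dualAt (t := t) hdual ι hn hcl hω (n - i) F hFc
  haveI := h1
  haveI := Groth.L16.ProperFinite.finite_HH k hFc i
  rw [if_pos (Nat.sub_le _ _), Groth.L22.DualCM.hd_def, Nat.sub_sub_self hi] at h2
  obtain ⟨e2⟩ := Groth.L22.PDual.nonempty_ext_linearEquiv (k := k) F hF (n - i) ω
  exact ⟨(LinearEquiv.ofFinrankEq _ _ (by rw [h2, Subspace.dual_finrank_eq])).symm.trans e2⟩

end Groth.Agent.S11316
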