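import Groth.Statements.S11317
import Groth.Agent.L22.Adjunction.HodgeSymm
-- import your own Groth.Agent.* helpers here

set_option autoImplicit false
universe u
open CategoryTheory CategoryTheory.Limits AlgebraicGeometry
open ProjDual

namespace Groth.Agent.S11317

/-- Let k be an algebraically closed field and X a nonsingular projective variety of dimension n over k
— an integral k-scheme, smooth of relative dimension n over k, with a closed immersion into some
P^N_k over k. Let p, q ≤ n and let L and L' be O_X-modules which are a p-th, respectively an
(n-p)-th, exterior power of the sheaf of differentials of X over k. Then H^q(X, L) and H^(n-q)(X,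
L') have the same dimension over k: h^q(Ω^p) = h^(n-q)(Ω^(n-p)). (The published statement gives a
natural isomorphism of H^q(X, Ω^p) with the dual of H^(n-q)(X, Ω^(n-p)); this row records the
equality of dimensions.) -/
theorem result (k : Type u) [Field k] [IsAlgClosed k] (n N : ℕ)
    (X : Scheme.{u}) [X.Over (Spec (CommRingCat.of k))] [IsIntegral X]
    [SmoothOfRelativeDimension n (X ↘ Spec (CommRingCat.of k))]
    (ι : X ⟶ CohB1.ProjSpace N k) [IsClosedImmersion ι] (hι : ι ≫ CohB1.ProjSpace.toSpec N k = X ↘ Spec (CommRingCat.of k))
    (p q : ℕ) (hp : p ≤ n) (hq : q ≤ n) (L L' : X.Modules)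
    (hL : ExtPow.IsExtPow p (Omega.sheaf (X ↘ Spec (CommRingCat.of k))) L)
    (hL' : ExtPow.IsExtPow (n - p) (Omega.sheaf (X ↘ Spec (CommRingCat.of k))) L') :
    Module.finrank k (Coh.HH X L q) = Module.finrank k (Coh.HH X L' (n - q)) := by
  exact Groth.L22.Adjunction.finrank_symm k n X ι hι p q hp hq L L' hL hL'

end Groth.Agent.S11317
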