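import Groth.Statements.S1132
import Mathlib.AlgebraicGeometry.Morphisms.Flat

set_option autoImplicit false
open CategoryTheory CategoryTheory.Limits AlgebraicGeometry Opposite
universe u
open Desc

set_option backward.isDefEq.respectTransparency.types false
set_option linter.style.haveILetI false

namespace Groth.Agent.S1132

/-- If p : X ⟶ S is a surjective flat morphism of schemes, the functor sending a scheme over S to its
canonical descent datum relative to p is faithful. (This is a special case of a more general
published statement; in this case the objects being descended are simply schemes over S. Descent
data are taken in functor-of-points form, equivalent by the Yoneda lemma to an isomorphism over X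
×_S X satisfying the cocycle condition.) -/
theorem result {X S : Scheme.{u}} (p : X ⟶ S) [Surjective p] [Flat p] :
    (Desc.toDD p).Faithful := by
  refine ⟨fun {U U'} g g' h => ?_⟩
  have : Epi (pullback.snd p U.hom) := Flat.epi_of_flat_of_surjective _
  apply Over.OverMorphism.ext
  rw [← cancel_epi (pullback.snd p U.hom)]
  have h' := congrArg (fun m : (Desc.toDD p).obj U ⟶ (Desc.toDD p).obj U' =>
    m.hom.left ≫ pullback.snd p U'.hom) h
  exact (pullback.lift_snd _ _ _).symm.trans (h'.trans (pullback.lift_snd _ _ _))

end Groth.Agent.S1132
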