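import Groth.Statements.S11329
import Groth.Agent.L04.SupportSh.AboveDim
import Groth.Agent.L04.LC.Basic

set_option autoImplicit false
universe u
open CategoryTheory AlgebraicGeometry Opposite
open Coherent

namespace Groth.Agent.S11329

/-- Let A be a Noetherian ring and I an injective A-module. Then the quasi-coherent sheaf I~ on Spec A
associated with I is flasque: for all opens U ⊆ V of Spec A the restriction map I~(V) → I~(U) is
surjective. -/
theorem result (A : Type u) [CommRing A] [IsNoetherianRing A]
    (I : Type u) [AddCommGroup I] [Module A I] [Module.Injective A I]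
    (U V : (Spec (CommRingCat.of A)).Opens) (hUV : U ≤ V) :
    Function.Surjective ((tilde (ModuleCat.of A I)).val.map (homOfLE hUV).op).hom := by
  obtain ⟨W, hU⟩ : ∃ W : Ideal A, U = LocCoh.puncturedOpen A W := by
    refine ⟨PrimeSpectrum.vanishingIdeal (SetLike.coe U : Set (PrimeSpectrum A))ᶜ, ?_⟩
    apply TopologicalSpace.Opens.ext
    show (SetLike.coe U : Set (PrimeSpectrum A)) = (PrimeSpectrum.zeroLocus
      (PrimeSpectrum.vanishingIdeal (SetLike.coe U : Set (PrimeSpectrum A))ᶜ : Set A))ᶜ
    rw [PrimeSpectrum.zeroLocus_vanishingIdeal_eq_closure,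
      show closure ((SetLike.coe U : Set (PrimeSpectrum A))ᶜ) = (SetLike.coe U : Set (PrimeSpectrum A))ᶜ from U.isOpen.isClosed_compl.closure_eq, compl_compl]
  haveI : CategoryTheory.Injective (ModuleCat.of A I) := Module.injective_object_of_injective_module A I
  have hH : Subsingleton (LocCoh.H W 1 (ModuleCat.of A I)) :=
    Groth.L04.LC.subsingleton_H_succ_of_injective (I := W) (i := 0) (ModuleCat.of A I)
  subst hU
  intro y
  obtain ⟨x, hx⟩ := Groth.L04.SupportSh.punctured_surjective_of_H_one W (ModuleCat.of A I) hH y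
  refine ⟨((tilde (R := CommRingCat.of A) (ModuleCat.of A I)).val.map
    (homOfLE (le_top : V ≤ ⊤)).op).hom x, ?_⟩
  refine Eq.trans ?_ hx
  exact (ConcreteCategory.congr_hom ((Coh.toAb (tilde (R := CommRingCat.of A) (ModuleCat.of A I))).obj.map_comp
    (homOfLE (le_top : V ≤ ⊤)).op (homOfLE hUV).op) x).symm


end Groth.Agent.S11329
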