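import Groth.Statements.S1133
import Groth.Agent.L20.SchDesc.AffineHom

set_option autoImplicit false
open CategoryTheory CategoryTheory.Limits AlgebraicGeometry Opposite
universe u
open Desc

set_option backward.isDefEq.respectTransparency.types false
set_option linter.style.haveILetI false

namespace Groth.Agent.S1133

/-- Let p : X ⟶ S be a surjective, flat and quasi-compact morphism of schemes. Every descent datum
relative to p whose underlying scheme is affine over X is effective: it is isomorphic to the
canonical descent datum of some scheme over S. (Descent data are taken in functor-of-points form,
equivalent by the Yoneda lemma to the usual form of an isomorphism over X ×_S X satisfying the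
cocycle condition.) -/
theorem result {X S : Scheme.{u}} (p : X ⟶ S) [Surjective p] [Flat p] [QuasiCompact p]
    (D : Desc.SchDD p) [IsAffineHom D.obj.hom] : ∃ U : Over S, Nonempty ((Desc.toDD p).obj U ≅ D) := by
  exact Groth.L20.SchDesc.exists_iso_toDD D (Groth.L20.SchDesc.effective_of_isAffineHom _)

end Groth.Agent.S1133
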