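import Groth.Statements.S11333
import Groth.Agent.Lead.PurInsepCurveIso
import Groth.Agent.L21.FunctionField
import Groth.Agent.L03.RegularNormal

set_option linter.style.haveILetI false
set_option backward.isDefEq.respectTransparency.types false
open TopologicalSpace

set_option autoImplicit false
universe u
open CategoryTheory CategoryTheory.Limits AlgebraicGeometry
open Curves

namespace Groth.Agent.S11333

/-- Let f : X → Y be a finite morphism over k of curves over an algebraically closed field k (integral,
proper over k, of dimension one, all local rings regular), sending the generic point of X to that of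
Y, such that the function field extension K(X)/K(Y) is purely inseparable. Then X and Y are
isomorphic as schemes (the isomorphism need not be compatible with the k-structures; existence of an
isomorphism only). -/
theorem result (k : Type u) [Field k] [IsAlgClosed k] (X : Scheme.{u}) [X.Over (Spec (CommRingCat.of k))]
    [IsIntegral X] [IsProper (X ↘ (Spec (CommRingCat.of k)))] (hdimX : topologicalKrullDim X = 1)
    (hregX : ∀ x : X, IsRegularLocalRing (X.presheaf.stalk x))
    (Y : Scheme.{u}) [Y.Over (Spec (CommRingCat.of k))]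
    [IsIntegral Y] [IsProper (Y ↘ (Spec (CommRingCat.of k)))] (hdimY : topologicalKrullDim Y = 1)
    (hregY : ∀ x : Y, IsRegularLocalRing (Y.presheaf.stalk x))
    (f : X ⟶ Y) [IsFinite f] (hf : f ≫ (Y ↘ (Spec (CommRingCat.of k))) = X ↘ (Spec (CommRingCat.of k)))
    (e : f (genericPoint X) = genericPoint Y) :
    letI := ((Y.presheaf.stalkSpecializes (specializes_of_eq e) ≫ f.stalkMap (genericPoint X)).hom).toAlgebra
    IsPurelyInseparable Y.functionField X.functionField → Nonempty (X ≅ Y) := by
  intro hpi
  letI := ((Y.presheaf.stalkSpecializes (specializes_of_eq e) ≫ f.stalkMap (genericPoint X)).hom).toAlgebra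
  let L := X.functionField
  obtain ⟨_, ⟨V, hV, rfl⟩, hηV, -⟩ :=
    Y.isBasis_affineOpens.exists_subset_of_mem_open (Set.mem_univ (genericPoint Y)) isOpen_univ
  change Y.Opens at V
  let U : X.Opens := f ⁻¹ᵁ V
  have hU : IsAffineOpen U := hV.preimage f
  have hξ : genericPoint X ∈ U := Groth.Lead.PurInsepCurveIso.mem_preimage f e hηV
  haveI : Nonempty U := ⟨⟨_, hξ⟩⟩
  haveI := functionField_isFractionRing_of_isAffineOpen X U hU
  let s := X ↘ (Spec (CommRingCat.of k))
  let φ : k →+* Γ(X, U) :=
    (s.appLE ⊤ U le_top).hom.comp (Scheme.ΓSpecIso (CommRingCat.of k)).inv.hom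
  letI : Algebra k Γ(X, U) := φ.toAlgebra
  haveI : Algebra.FiniteType k Γ(X, U) := by
    have h1 := s.finiteType_appLE (isAffineOpen_top _) hU le_top
    exact RingHom.FiniteType.comp h1 (RingHom.FiniteType.of_surjective _
      (Scheme.ΓSpecIso (CommRingCat.of k)).symm.commRingCatIsoToRingEquiv.surjective)
  letI : Algebra k L := Algebra.compHom L (algebraMap k Γ(X, U))
  haveI : IsScalarTower k Γ(X, U) L := IsScalarTower.of_algebraMap_eq fun r => rfl
  have hdim : ringKrullDim Γ(X, U) ≤ ((1 : ℕ) : WithBot ℕ∞) := by
    rw [← PrimeSpectrum.topologicalKrullDim_eq_ringKrullDim]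
    refine le_trans hU.fromSpec.isOpenEmbedding.isInducing.topologicalKrullDim_le ?_
    rw [hdimX]; rfl
  have htr : Algebra.trdeg k L ≤ 1 := by
    obtain ⟨d, hd, g, hg, hint⟩ := Groth.L21.FunctionField.exists_normalization_le (k := k) Γ(X, U) hdim
    algebraize [g.toRingHom]
    haveI : FaithfulSMul (MvPolynomial (Fin d) k) Γ(X, U) := (faithfulSMul_iff_algebraMap_injective _ _).mpr hg
    haveI : Algebra.IsIntegral (MvPolynomial (Fin d) k) Γ(X, U) := ⟨hint⟩
    haveI : IsScalarTower k (MvPolynomial (Fin d) k) Γ(X, U) :=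
      IsScalarTower.of_algebraMap_eq fun r => (g.commutes r).symm
    haveI : FaithfulSMul Γ(X, U) L :=
      (faithfulSMul_iff_algebraMap_injective Γ(X, U) L).mpr (IsFractionRing.injective Γ(X, U) L)
    haveI : Algebra.IsAlgebraic Γ(X, U) L :=
      (IsFractionRing.comap_isAlgebraic_iff (A := Γ(X, U)) (K := L) (C := L)).mpr inferInstance
    have h1 : Algebra.trdeg k L = (d : Cardinal) := by
      rw [← trdeg_add_eq k Γ(X, U) (A := L), ← trdeg_add_eq k (MvPolynomial (Fin d) k) (A := Γ(X, U)),
        trdeg_eq_zero (R := Γ(X, U)) (A := L), trdeg_eq_zero (R := MvPolynomial (Fin d) k) (A := Γ(X, U)),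
        MvPolynomial.trdeg_of_isDomain]
      simp
    rw [h1]
    exact_mod_cast hd
  obtain ⟨t, ht⟩ := Groth.Lead.PurInsepCurveField.exists_sep_element k Γ(X, U) L htr
  -- the function field extension is finite
  haveI : Nonempty V := ⟨⟨_, hηV⟩⟩
  haveI := functionField_isFractionRing_of_isAffineOpen Y V hV
  letI : Algebra Γ(Y, V) Γ(X, U) := (f.app V).hom.toAlgebra
  haveI : Module.Finite Γ(Y, V) Γ(X, U) := f.finite_app V hV
  letI : Algebra Γ(Y, V) L := Algebra.compHom L (algebraMap Γ(Y, V) Γ(X, U))
  haveI : IsScalarTower Γ(Y, V) Γ(X, U) L := IsScalarTower.of_algebraMap_eq fun r => rfl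
  haveI : IsScalarTower Γ(Y, V) Y.functionField L := IsScalarTower.of_algebraMap_eq fun r =>
    (congrArg (fun h => h r) (Groth.Lead.PurInsepCurveIso.germ_χ f e V hηV)).symm
  haveI : Algebra.EssFiniteType Γ(X, U) L := Algebra.EssFiniteType.of_isLocalization L (nonZeroDivisors Γ(X, U))
  haveI : Algebra.EssFiniteType Γ(Y, V) L := Algebra.EssFiniteType.comp Γ(Y, V) Γ(X, U) L
  haveI : Algebra.EssFiniteType Y.functionField L := Algebra.EssFiniteType.of_comp Γ(Y, V) Y.functionField L
  haveI : FiniteDimensional Y.functionField L := Algebra.finite_of_essFiniteType_of_isAlgebraic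
  -- the exponential characteristic and the degree
  let p := ringExpChar L
  haveI : ExpChar L p := inferInstance
  haveI : ExpChar X.functionField p := ‹ExpChar L p›
  haveI : ExpChar Y.functionField p :=
    (algebraMap Y.functionField L).expChar (algebraMap Y.functionField L).injective p
  obtain ⟨n, hn⟩ := IsPurelyInseparable.finrank_eq_pow (F := Y.functionField) (E := L) p
  haveI := ht
  exact Groth.Lead.PurInsepCurveIso.nonempty_iso f e p n
    (fun x => Groth.Lead.PurInsepCurveField.pow_mem_range p hn x)
    (fun a => Groth.Lead.PurInsepCurveField.exists_pow_eq (k := k) p hn t a)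
    (fun x => haveI := hregX x; Groth.L03.RegularNormal.isIntegrallyClosed _)
    (fun y => haveI := hregY y; Groth.L03.RegularNormal.isIntegrallyClosed _)

end Groth.Agent.S11333
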