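import Groth.Statements.S11334
import Groth.Agent.L21.Duality.Canonical
import Groth.Agent.L21.RR.GeomGenusZero
import Groth.Agent.L26.Weil.Axes

set_option autoImplicit false
set_option backward.isDefEq.respectTransparency false
universe u
open CategoryTheory CategoryTheory.Limits AlgebraicGeometry
open Curves

namespace Groth.Agent.S11334

/-- Let k be an algebraically closed field and X a curve over k (an integral scheme, proper over k, of
dimension one, with all local rings regular), of genus g = dim_k H^1(X, O_X) ≥ 2. Then the canonical
sheaf Ω_{X/k} is generated by its global sections (the canonical linear system has no base points). -/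
theorem result (k : Type u) [Field k] [IsAlgClosed k] (X : Scheme.{u}) [X.Over (Spec (CommRingCat.of k))]
    [IsIntegral X] [IsProper (X ↘ (Spec (CommRingCat.of k)))] (hdim : topologicalKrullDim X = 1)
    (hreg : ∀ x : X, IsRegularLocalRing (X.presheaf.stalk x)) (hg : 2 ≤ Curv2.genus k X) :
    Curv2.IsGloballyGenerated (Omega.sheaf (X ↘ (Spec (CommRingCat.of k)))) := by
  haveI : Smooth (X ↘ Spec (CommRingCat.of k)) :=
    Groth.L26.Weil.smooth_of_regular_closed (X ↘ Spec (CommRingCat.of k)) fun x _ => hreg x
  exact Groth.L21.Duality.isGloballyGenerated_omega hdim (Groth.L21.RR.h0_eq_one_of_isAlgClosed k) (Nat.le_of_succ_le hg)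

end Groth.Agent.S11334
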