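import Groth.Statements.S11337
import Groth.Agent.L21.Duality.CliffordEquality
import Groth.Agent.L26.Weil.Axes

set_option autoImplicit false
set_option backward.isDefEq.respectTransparency false
universe u
open CategoryTheory CategoryTheory.Limits AlgebraicGeometry
open Curves

namespace Groth.Agent.S11337

/-- Let k be an algebraically closed field and X a curve over k (an integral scheme, proper over k, of
dimension one, with all local rings regular), and L an invertible O_X-module with an inverse M such
that H^0(X, L) ≠ 0, H^0(X, Ω_{X/k} ⊗ M) ≠ 0, L is isomorphic neither to O_X nor to Ω_{X/k}, and 2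
(dim_k H^0(X, L) - 1) = deg L. Then X is hyperelliptic and L is a multiple of the g^1_2: there is an
invertible module N of degree 2 with two k-linearly independent global sections (a g^1_2) such that
L ≅ N^{⊗ r} with r = dim_k H^0(X, L) - 1. (Only the implication from equality is stated here; the
converse, that on a hyperelliptic curve the effective special multiples of the g^1_2 attain
equality, is not part of this statement.) -/
theorem result (k : Type u) [Field k] [IsAlgClosed k] (X : Scheme.{u}) [X.Over (Spec (CommRingCat.of k))]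
    [IsIntegral X] [IsProper (X ↘ (Spec (CommRingCat.of k)))] (hdim : topologicalKrullDim X = 1)
    (hreg : ∀ x : X, IsRegularLocalRing (X.presheaf.stalk x))
    (L M : X.Modules) (hL : PicF.IsInvertible L) (hM : ClSub.IsInverseOf L M)
    (hs : Nontrivial (Coh.HH X L 0)) (hsp : Nontrivial (Coh.HH X (CohB1.tensorMod (Omega.sheaf (X ↘ (Spec (CommRingCat.of k)))) M) 0))
    (h0 : IsEmpty (L ≅ Coh.structureModule X)) (hK : IsEmpty (L ≅ (Omega.sheaf (X ↘ (Spec (CommRingCat.of k))))))
    (heq : 2 * (Module.finrank k (Coh.HH X L 0) : ℤ) = Curv2.deg k X L 1 + 2) :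
    ∃ (N : X.Modules) (s : Fin 2 → LinSer.Sect X N), LinSer.IsLinSer k X N 2 1 s ∧
      Nonempty (L ≅ CohB1.tensorPow N (Module.finrank k (Coh.HH X L 0) - 1)) := by
  haveI : Smooth (X ↘ Spec (CommRingCat.of k)) :=
    Groth.L26.Weil.smooth_of_regular_closed (X ↘ Spec (CommRingCat.of k)) fun x _ => hreg x
  haveI := Groth.L21.RR.isNoetherian_of_proper (X := X) k
  obtain ⟨N, hN, ⟨e⟩, hN0, -⟩ := Groth.L21.Duality.exists_dual (k := k) hdim hL
  obtain ⟨i⟩ := hM
  have j : CohB1.tensorMod (Omega.sheaf (X ↘ Spec (CommRingCat.of k))) M ≅ N :=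
    Groth.L00.Tensor.tensorIso e.symm (Iso.refl M) ≪≫ Groth.L00.Tensor.tensorAssoc N L M ≪≫
      Groth.L00.Tensor.tensorIso (Iso.refl N) i ≪≫ Groth.L00.Tensor.tensorUnitRight N
  have hN1 : 1 ≤ Groth.L21.RR.h k 0 N := by
    rw [← Groth.L21.RR.h_congr k j 0]
    haveI := hsp
    haveI := Groth.L21.RR.finite_HH' k (Groth.L16.ProperFinite.isCoh_of_isInvertible
      (Groth.L18.Ample.isInvertible_of_iso j.symm hN)) 0
    exact Module.finrank_pos
  exact Groth.L21.Duality.clifford_equality hdim (Groth.L21.RR.h0_eq_one_of_isAlgClosed k) hL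
    (Groth.L21.Duality.one_le_h0_of_nontrivial hL hs) (hN0 ▸ hN1) h0 hK heq

end Groth.Agent.S11337
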