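import Groth.Statements.S11343
import Groth.Agent.L03.SurfDual.Duality
-- import your own Groth.Agent.* helpers here

set_option autoImplicit false
universe u
open CategoryTheory CategoryTheory.Limits AlgebraicGeometry
open Surf

namespace Groth.Agent.S11343

open Groth.L22.Inter Groth.L22.Nef Groth.L22.Big Groth.L03.Euler

/-- Let X be a surface over an algebraically closed field k (an integral scheme of dimension two with
all local rings regular, admitting a closed immersion into some P^n_k over k), and H an ample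
invertible O_X-module. Some integer n₀ has the property that H^2(X, L) = 0 for every invertible
module L with (L·H) > n₀; here (L·H) = χ(O_X) - χ(L) - χ(H) + χ(L ⊗ H) is the intersection number
(packaged as FGA.intNum). -/
theorem result (k : Type u) [Field k] [IsAlgClosed k] (X : Scheme.{u}) [X.Over (Spec (CommRingCat.of k))]
    [IsIntegral X] (hdim : topologicalKrullDim X = 2) (hreg : ∀ x : X, IsRegularLocalRing (X.presheaf.stalk x))
    (hproj : ∃ (n : ℕ) (ι : X ⟶ CohB1.ProjSpace n k), IsClosedImmersion ι ∧ ι ≫ CohB1.ProjSpace.toSpec n k = (X ↘ (Spec (CommRingCat.of k))))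
    (H : X.Modules) (hH : CohB1.IsAmple H) :
    ∃ n₀ : ℤ, ∀ L : X.Modules, PicF.IsInvertible L → n₀ < FGA.intNum k X 2 ![L, H] (Coh.structureModule X) → Subsingleton (Coh.HH X L 2) := by
  obtain ⟨n, ι, hι, hιk⟩ := hproj
  haveI := hι
  obtain ⟨hp, -⟩ := proj_facts k hdim ι hιk
  haveI := hp
  have hd2 : topologicalKrullDim X = (2 : ℕ) := hdim.trans Nat.cast_ofNat.symm
  obtain ⟨ω, hω, hflip, hflip0, hRR⟩ := Groth.L03.SurfDual.exists_canonical k hdim hreg ⟨n, ι, hι, hιk⟩
  refine ⟨⌈ii k ω H⌉, fun L hL hLH => ?_⟩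
  haveI := Groth.L21.RR.isNoetherian_of_proper (X := X) k
  obtain ⟨L', hL', ⟨e⟩⟩ := Groth.L08.Cube.exists_inverse hL
  by_contra hns
  rw [not_subsingleton_iff_nontrivial] at hns
  have hfl := hflip L L' hL ⟨e⟩ 0 (by omega)
  haveI := Groth.L16.ProperFinite.finite_HH k (Groth.L18.Ample.isCoh_of_isInvertible hL) 2
  have hN := Groth.L18.GenLoc.isInvertible_tensor hω hL'
  haveI : Nontrivial (Coh.HH X (CohB1.tensorMod ω L') 0) := by
    haveI := hns
    have h0 : 0 < Module.finrank k (Coh.HH X L (2 - 0)) := Module.finrank_pos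
    rw [← hfl] at h0
    exact Module.nontrivial_of_finrank_pos h0
  obtain ⟨s, hs⟩ := Groth.L21.RR.exists_hom_ne_zero (L := CohB1.tensorMod ω L')
  have hge : 0 ≤ ii k (CohB1.tensorMod ω L') H := by
    rcases ii_effective k hd2.le hN hH s hs with h | h
    · exact h.le
    · exact (h H hH.1).ge
  rw [ii_tensor k hd2.le hω hL' hH.1, Groth.L03.SurfDual.ii_inv k hd2.le hL hL' e H hH.1] at hge
  have h1 : (⌈ii k ω H⌉ : ℚ) < (FGA.intNum k X 2 ![L, H] (Coh.structureModule X) : ℚ) := by exact_mod_cast hLH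
  rw [intNum_eq_ii k hd2.le] at h1
  linarith [Int.le_ceil (ii k ω H)]

end Groth.Agent.S11343
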