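import Groth.Statements.S11344
import Groth.Agent.L22.Big.SurfaceMain
-- import your own Groth.Agent.* helpers here

set_option autoImplicit false
universe u
open CategoryTheory CategoryTheory.Limits AlgebraicGeometry
open Surf

namespace Groth.Agent.S11344

open Groth.L22.Inter Groth.L22.Nef Groth.L22.Big Groth.L03.Euler
open Groth.L00.Tensor (tensorIso tensorAssoc tensorComm tensorUnitRight tensorUnitLeft)

/-- Let X be a surface over an algebraically closed field k (an integral scheme of dimension two with
all local rings regular, admitting a closed immersion into some P^n_k over k), H an ample invertible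
O_X-module, and L an invertible module with (L·H) > 0 and (L·L) > 0, where (L·M) = χ(O_X) - χ(L) -
χ(M) + χ(L ⊗ M) is the intersection number (packaged as FGA.intNum). Then for all n large enough the
tensor power L^{⊗ n} has a nonzero global section (some effective divisor is linearly equivalent to
nD). -/
theorem result (k : Type u) [Field k] [IsAlgClosed k] (X : Scheme.{u}) [X.Over (Spec (CommRingCat.of k))]
    [IsIntegral X] (hdim : topologicalKrullDim X = 2) (hreg : ∀ x : X, IsRegularLocalRing (X.presheaf.stalk x))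
    (hproj : ∃ (n : ℕ) (ι : X ⟶ CohB1.ProjSpace n k), IsClosedImmersion ι ∧ ι ≫ CohB1.ProjSpace.toSpec n k = (X ↘ (Spec (CommRingCat.of k))))
    (H : X.Modules) (hH : CohB1.IsAmple H) (L : X.Modules) (hL : PicF.IsInvertible L)
    (hLH : 0 < FGA.intNum k X 2 ![L, H] (Coh.structureModule X)) (hLL : 0 < FGA.intNum k X 2 ![L, L] (Coh.structureModule X)) :
    ∃ N : ℕ, ∀ n : ℕ, N ≤ n → Nontrivial (Coh.HH X (CohB1.tensorPow L n) 0) := by
  obtain ⟨n, ι, hι, hιk⟩ := hproj
  haveI := hι
  obtain ⟨hp, -⟩ := proj_facts k hdim ι hιk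
  haveI := hp
  have hd2 : topologicalKrullDim X = (2 : ℕ) := hdim.trans Nat.cast_ofNat.symm
  have h1 : 0 < ii k L L := by rw [← intNum_eq_ii k hd2.le]; exact_mod_cast hLL
  have h2 : 0 < ii k L H := by rw [← intNum_eq_ii k hd2.le]; exact_mod_cast hLH
  obtain ⟨N, hN⟩ := eventually_h0_pos k hd2.le hL (isEff_of_pos k hd2.le hL hH h1 h2) h1
  exact ⟨N, fun m hm => (h0_pos_iff k (Groth.L18.Ample.isCoh_of_isInvertible
    (Groth.L18.Ample.isInvertible_tensorPow hL m))).1 (hN m hm)⟩

end Groth.Agent.S11344
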