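import Groth.Statements.S11345
import Groth.Agent.L03.BlowPt.CanNum
-- import your own Groth.Agent.* helpers here

set_option autoImplicit false
universe u
open CategoryTheory CategoryTheory.Limits AlgebraicGeometry
open Surf

namespace Groth.Agent.S11345

open Groth.L03.BlowPt

/-- Let X be a surface over an algebraically closed field k (an integral scheme of dimension two with
all local rings regular, admitting a closed immersion into some P^n_k over k), P a closed point of X
with ideal sheaf m_P, and π : X' → X the monoidal transformation with centre P (a blowing up of X in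
m_P, characterised by its universal property), with exceptional curve E of ideal I_E = m_P · O_{X'};
let W and W' be canonical sheaves of X and X' (second exterior powers of the sheaves of
differentials), X' being again a surface of the same kind. Then K_{X'} = π^* K_X + E in Pic X', i.e.
W' ⊗ I_E ≅ π^* W (existence of an isomorphism), and K_{X'}^2 = K_X^2 - 1, intersection numbers being
(L·M) = χ(O) - χ(L) - χ(M) + χ(L ⊗ M) (packaged as FGA.intNum). -/
theorem result (k : Type u) [Field k] [IsAlgClosed k] (X : Scheme.{u}) [X.Over (Spec (CommRingCat.of k))]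
    [IsIntegral X] (hdim : topologicalKrullDim X = 2) (hreg : ∀ x : X, IsRegularLocalRing (X.presheaf.stalk x))
    (hproj : ∃ (n : ℕ) (ι : X ⟶ CohB1.ProjSpace n k), IsClosedImmersion ι ∧ ι ≫ CohB1.ProjSpace.toSpec n k = (X ↘ (Spec (CommRingCat.of k))))
    (W : X.Modules) (hW : ExtPow.IsExtPow 2 (Omega.sheaf (X ↘ (Spec (CommRingCat.of k)))) W)
    (P : X) (hP : IsClosed ({P} : Set X))
    (X' : Scheme.{u}) (π : X' ⟶ X) (hπ : BlowUp.IsBlowUp π (Scheme.IdealSheafData.vanishingIdeal ⟨{P}, hP⟩))
    [IsIntegral X'] (hdim' : topologicalKrullDim X' = 2) (hreg' : ∀ x : X', IsRegularLocalRing (X'.presheaf.stalk x))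
    (hproj' : ∃ (n : ℕ) (ι : X' ⟶ CohB1.ProjSpace n k), IsClosedImmersion ι ∧ ι ≫ CohB1.ProjSpace.toSpec n k = π ≫ (X ↘ (Spec (CommRingCat.of k))))
    (W' : X'.Modules) (hW' : ExtPow.IsExtPow 2 (Omega.sheaf (π ≫ (X ↘ (Spec (CommRingCat.of k))))) W') :
    letI : X'.Over (Spec (CommRingCat.of k)) := ⟨π ≫ (X ↘ (Spec (CommRingCat.of k)))⟩
    Nonempty (CohB1.tensorMod W' (ClSub.idealMod (BlowUp.exceptional π (Scheme.IdealSheafData.vanishingIdeal ⟨{P}, hP⟩))) ≅
        (Scheme.Modules.pullback π).obj W) ∧
      FGA.intNum k X' 2 ![W', W'] (Coh.structureModule X') = FGA.intNum k X 2 ![W, W] (Coh.structureModule X) - 1 := by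
  letI oX' : X'.Over (Spec (CommRingCat.of k)) := ⟨π ≫ (X ↘ (Spec (CommRingCat.of k)))⟩
  haveI : IsProper (X ↘ (Spec (CommRingCat.of k))) := isProper_of_projective k _ hproj
  haveI : IsProper (X' ↘ (Spec (CommRingCat.of k))) := isProper_of_projective k _ hproj'
  have hd : topologicalKrullDim X = (2 : ℕ) := hdim.trans Nat.cast_ofNat.symm
  have hd' : topologicalKrullDim X' = (2 : ℕ) := hdim'.trans Nat.cast_ofNat.symm
  refine ⟨(canonical_iso k (b := π) rfl hdim hreg hdim' hreg' hπ hW hW').2.2, ?_⟩
  have h := (canonical_num k (b := π) rfl hdim hreg hdim' hreg' hπ hW hW').2.2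
  rw [← Groth.L22.Big.intNum_eq_ii k hd'.le, ← Groth.L22.Big.intNum_eq_ii k hd.le] at h
  exact_mod_cast h

end Groth.Agent.S11345
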