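import Groth.Statements.S11346
import Groth.Agent.L03.Ruled.Push
import Groth.Agent.L26.Weil.Axes
import Groth.Agent.L17.ThickBasic
import Groth.Agent.L23.SchKer
-- import your own Groth.Agent.* helpers here

set_option autoImplicit false
universe u
open CategoryTheory CategoryTheory.Limits AlgebraicGeometry
open Surf

namespace Groth.Agent.S11346

open Groth.L22.Inter Groth.L22.Nef Groth.L22.Big
set_option backward.isDefEq.respectTransparency false
set_option linter.style.haveILetI false

/-- Let π : X → C be a ruled surface over an algebraically closed field k: X a surface (integral, of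
dimension two, all local rings regular, with a closed immersion into some P^n_k over k), C a curve
(integral, proper over k, of dimension one, all local rings regular), π : X → C a surjective
k-morphism whose fibre over every closed point is isomorphic to P^1_k and which admits a section σ.
If C has genus g, then p_a(X) = -g, p_g(X) = 0 and q(X) = g; that is, dim_k H^1(X, O_X) = g = dim_k
H^1(C, O_C) and H^2(X, O_X) = 0. -/
theorem result (k : Type u) [Field k] [IsAlgClosed k] (X : Scheme.{u}) [X.Over (Spec (CommRingCat.of k))]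
    [IsIntegral X] (hdim : topologicalKrullDim X = 2) (hreg : ∀ x : X, IsRegularLocalRing (X.presheaf.stalk x))
    (hproj : ∃ (n : ℕ) (ι : X ⟶ CohB1.ProjSpace n k), IsClosedImmersion ι ∧ ι ≫ CohB1.ProjSpace.toSpec n k = (X ↘ (Spec (CommRingCat.of k))))
    (C : Scheme.{u}) [C.Over (Spec (CommRingCat.of k))]
    [IsIntegral C] [IsProper (C ↘ (Spec (CommRingCat.of k)))] (hdimC : topologicalKrullDim C = 1)
    (hregC : ∀ x : C, IsRegularLocalRing (C.presheaf.stalk x))
    (π : X ⟶ C) (hπ : π ≫ (C ↘ (Spec (CommRingCat.of k))) = (X ↘ (Spec (CommRingCat.of k)))) (hsurj : Function.Surjective π)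
    (hfib : ∀ y : C, IsClosed ({y} : Set C) → Nonempty (pullback π (C.fromSpecResidueField y) ≅ CohB1.ProjSpace 1 k))
    (σ : C ⟶ X) (hσ : σ ≫ π = 𝟙 C) :
    Module.finrank k (Coh.HH X (Coh.structureModule X) 1) = Curv2.genus k C ∧ Subsingleton (Coh.HH X (Coh.structureModule X) 2) := by
  obtain ⟨m, ι, hιc, hι⟩ := hproj
  haveI := hιc
  haveI : IsProper (CohB1.ProjSpace.toSpec m k) := Groth.L16.ProjSpace.isProper_toSpec m k
  haveI : IsProper (X ↘ Spec (CommRingCat.of k)) := by rw [← hι]; infer_instance
  haveI := Groth.L21.RR.isNoetherian_of_proper (X := X) k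
  haveI := Groth.L21.RR.isNoetherian_of_proper (X := C) k
  haveI : π.IsOver (Spec (CommRingCat.of k)) := ⟨hπ⟩
  haveI : Surjective π := ⟨hsurj⟩
  haveI : Smooth (C ↘ Spec (CommRingCat.of k)) :=
    Groth.L26.Weil.smooth_of_regular_closed _ fun x _ => hregC x
  have hd : topologicalKrullDim X = (2 : ℕ) := hdim.trans Nat.cast_ofNat.symm
  have hO := Groth.L18.Ample.isInvertible_structureModule X
  haveI : HasInjectiveResolutions X.Modules := inferInstance
  have hdeg' : ∀ (y : C), IsClosed ({y} : Set C) → ii k (Coh.structureModule X) (ClSub.idealMod (π.fiberι y).ker) ≤ 0 :=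
    fun y _ => by rw [ii_eq_sub, sub_self]
  haveI := Groth.L20.DescLocus.isIso_unitToPush π fun U =>
    (ConcreteCategory.isIso_iff_bijective _).2 (Groth.L03.Ruled.bijective_app hd hreg hdimC π hfib σ hσ U)
  refine ⟨?_, ?_⟩
  · obtain ⟨e⟩ := Groth.L03.Ruled.nonempty_HH_equiv hd hreg hdimC π hfib hO hdeg' 1
    rw [e.finrank_eq, ← Groth.L03.Euler.finrank_HH_of_iso (asIso (ClSub.unitToPush π)) 1]
    rfl
  · obtain ⟨e⟩ := Groth.L03.Ruled.nonempty_HH_equiv hd hreg hdimC π hfib hO hdeg' 2
    exact @Equiv.subsingleton _ _ e.toEquiv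
      (subsingleton_HH_of_dim (d := 1) (hdimC.trans Nat.cast_one.symm).le _ one_lt_two)

end Groth.Agent.S11346
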