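import Groth.Statements.S11348
import Groth.Agent.L21.Bundle.Normalized

set_option autoImplicit false
set_option backward.isDefEq.respectTransparency false
universe u
open CategoryTheory CategoryTheory.Limits AlgebraicGeometry
open Curves

namespace Groth.Agent.S11348

/-- Let C be an elliptic curve over an algebraically closed field k — integral, proper over k, of
dimension one, all local rings regular, of genus dim_k H^1(C, O_C) = 1 — and E a locally free
O_C-module of rank 2 which is normalized (H^0(C, E) ≠ 0 while H^0(C, E ⊗ M) = 0 for every invertible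
M of negative degree) and indecomposable (not isomorphic to a direct sum of two invertible modules).
Then the invariant e = -deg E is 0 or -1, i.e. deg E ∈ {0, 1}, with deg E = χ(E) - 2 χ(O_C). -/
theorem result (k : Type u) [Field k] [IsAlgClosed k] (C : Scheme.{u}) [C.Over (Spec (CommRingCat.of k))]
    [IsIntegral C] [IsProper (C ↘ (Spec (CommRingCat.of k)))] (hdimC : topologicalKrullDim C = 1)
    (hregC : ∀ x : C, IsRegularLocalRing (C.presheaf.stalk x)) (hg : Curv2.genus k C = 1)
    (E : C.Modules) (hE : FlatMod.IsFinLocFreeOfRank 2 E)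
    (hn0 : Nontrivial (Coh.HH C E 0))
    (hneg : ∀ M : C.Modules, PicF.IsInvertible M → Curv2.deg k C M 1 < 0 → Subsingleton (Coh.HH C (CohB1.tensorMod E M) 0))
    (hind : ∀ L₁ L₂ : C.Modules, PicF.IsInvertible L₁ → PicF.IsInvertible L₂ → IsEmpty (E ≅ L₁ ⊞ L₂)) :
    Curv2.deg k C E 2 = 0 ∨ Curv2.deg k C E 2 = 1 := by
  haveI := Groth.L21.RR.isNoetherian_of_proper (X := C) k
  obtain ⟨h1, h2, h3⟩ := Groth.L21.Bundle.normalized_bounds k hregC hdimC hE hn0 hneg hind
  rw [Groth.L21.Bundle.dg_eq k hE]
  have := h3 hg
  rw [hg] at h1 h2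
  push_cast at h1 h2
  omega

end Groth.Agent.S11348
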