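import Groth.Statements.S11349
import Groth.Agent.L21.GenusOne.Group
import Groth.Agent.L21.SmoothCurveDim
import Groth.Agent.L21.RR.Point
import Groth.Agent.L08.Cube.Seesaw
import Groth.Agent.L21.Bundle.GenusOne

set_option autoImplicit false
set_option backward.isDefEq.respectTransparency false
set_option backward.isDefEq.respectTransparency.types false
universe u
open CategoryTheory CategoryTheory.Limits AlgebraicGeometry
open MonoidalCategory CartesianMonoidalCategory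
open scoped MonObj
open Curves

namespace Groth.Agent.S11349

/-- Take an algebraically closed field k of characteristic different from 2 and an elliptic curve X over
k — an integral scheme, proper over k, of dimension one, all local rings regular, of genus dim_k
H^1(X, O_X) = 1 — and let P, Q be closed points of X, possibly equal. Then there is an automorphism
σ of X over k with σ² = id and σ(P) = Q such that R + σ(R) is linearly equivalent to P + Q for every
closed point R; the last condition is written on ideal sheaves of points: I_R ⊗ I_{σ(R)} ≅ I_P ⊗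
I_Q. -/
theorem result (k : Type u) [Field k] [IsAlgClosed k] (X : Scheme.{u}) [X.Over (Spec (CommRingCat.of k))]
    [IsIntegral X] [IsProper (X ↘ (Spec (CommRingCat.of k)))] (hdim : topologicalKrullDim X = 1)
    (hreg : ∀ x : X, IsRegularLocalRing (X.presheaf.stalk x)) (hchar : ringChar k ≠ 2) (hg : Curv2.genus k X = 1)
    (P Q : X) (hP : IsClosed ({P} : Set X)) (hQ : IsClosed ({Q} : Set X)) :
    ∃ σ : X ≅ X, σ.hom ≫ (X ↘ (Spec (CommRingCat.of k))) = (X ↘ (Spec (CommRingCat.of k))) ∧ σ.hom ≫ σ.hom = 𝟙 X ∧ σ.hom P = Q ∧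
      ∀ (R R' : X) (hR : IsClosed ({R} : Set X)) (hR' : IsClosed ({R'} : Set X)), σ.hom R = R' →
        Nonempty (CohB1.tensorMod (ClSub.idealMod (Scheme.IdealSheafData.vanishingIdeal ⟨{R}, hR⟩)) (ClSub.idealMod (Scheme.IdealSheafData.vanishingIdeal ⟨{R'}, hR'⟩)) ≅ CohB1.tensorMod (ClSub.idealMod (Scheme.IdealSheafData.vanishingIdeal ⟨{P}, hP⟩)) (ClSub.idealMod (Scheme.IdealSheafData.vanishingIdeal ⟨{Q}, hQ⟩))) := by
  let p := X ↘ Spec (CommRingCat.of k)
  haveI : Smooth p := Groth.L26.Weil.smooth_of_regular_closed _ fun x _ => hreg x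
  haveI := Groth.L08.Cube.geometricallyIntegral_of_isAlgClosed p
  haveI := Groth.L21.SmoothCurve.smoothOfRelativeDimension_one (k := k) p hdim
  haveI : GeometricallyConnected p := inferInstance
  have hsec : ∀ (R : X) (hR : IsClosed ({R} : Set X)), ∃ r : 𝟙_ (Over (Spec (CommRingCat.of k))) ⟶ Over.mk p,
      (∀ z, r.left z = R) ∧ r.left.ker = Scheme.IdealSheafData.vanishingIdeal ⟨{R}, hR⟩ := fun R hR => by
    have hb : Function.Bijective (Curv2.resMap k X R) := by
      refine ⟨(Curv2.resMap k X R).injective, fun v => ?_⟩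
      obtain ⟨a, rfl⟩ := X.residue_surjective _ v
      obtain ⟨c, hc⟩ := Groth.L21.RR.isRat_of_isClosed k hR a
      refine ⟨c, (sub_eq_zero.1 ?_).symm⟩
      have h0 : (X.residue _).hom (a - Groth.L21.RR.cstAt k _ c) = 0 := (IsLocalRing.residue_eq_zero_iff _).2 hc
      rw [map_sub] at h0
      exact h0
    obtain ⟨s, hs, hsz⟩ := Groth.L21.G1.exists_section_of_rat (L := k) hb
    haveI : IsClosedImmersion s := isClosedImmersion_of_comp_eq_id _ _ hs
    exact ⟨Over.homMk s hs, hsz, Groth.L21.RR.ker_eq_vanishingIdeal_point k s hR hsz⟩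
  obtain ⟨e, heP, hek⟩ := hsec P hP
  obtain ⟨q, hqQ, hqk⟩ := hsec Q hQ
  obtain ⟨G, hone, hcomm, hsum⟩ := Groth.L21.G1.exists_grpObj_sum p hg e
  let _ := G
  haveI := hcomm
  have he1 : e = 1 := by
    rw [← hone, Hom.one_def, toUnit_unique (toUnit (𝟙_ (Over (Spec (CommRingCat.of k))))) (𝟙 _), Category.id_comp]
  let σ₀ : Over.mk p ⟶ Over.mk p := (toUnit (Over.mk p) ≫ q) * (𝟙 (Over.mk p))⁻¹
  have hpt : ∀ {Z : Over (Spec (CommRingCat.of k))} (r : Z ⟶ Over.mk p), r ≫ σ₀ = (toUnit Z ≫ q) * r⁻¹ := fun {Z} r => by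
    show r ≫ ((toUnit (Over.mk p) ≫ q) * (𝟙 (Over.mk p))⁻¹) = _
    rw [MonObj.comp_mul, GrpObj.comp_inv, Category.comp_id, ← Category.assoc, toUnit_unique (r ≫ toUnit _) (toUnit Z)]
  have hσσ : σ₀ ≫ σ₀ = 𝟙 _ := by
    rw [hpt σ₀]
    show _ * ((toUnit (Over.mk p) ≫ q) * (𝟙 (Over.mk p))⁻¹)⁻¹ = _
    rw [mul_inv_rev, inv_inv, mul_comm (𝟙 (Over.mk p)) _, mul_inv_cancel_left]
  have hleft : σ₀.left ≫ σ₀.left = 𝟙 X := congrArg CommaMorphism.left hσσ
  have hu : toUnit (𝟙_ (Over (Spec (CommRingCat.of k)))) = 𝟙 _ := toUnit_unique _ _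
  refine ⟨⟨σ₀.left, σ₀.left, hleft, hleft⟩, Over.w σ₀, hleft, ?_, fun R R' hR hR' hσR => ?_⟩
  · show σ₀.left P = Q
    have h1 : e ≫ σ₀ = q := by rw [hpt e, he1, inv_one, mul_one, hu, Category.id_comp]
    rw [← heP (IsLocalRing.closedPoint k), ← Scheme.Hom.comp_apply]
    exact (congrArg (fun f => f.left (IsLocalRing.closedPoint k)) h1).trans (hqQ _)
  obtain ⟨r, hrR, hrk⟩ := hsec R hR
  obtain ⟨r', hr'R, hr'k⟩ := hsec R' hR'
  have hrr : r' = r ≫ σ₀ := by
    refine Over.OverMorphism.ext (Groth.L21.RR.eq_of_section_apply_eq k p _ _ (Over.w r') (Over.w (r ≫ σ₀)) ?_)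
    refine (hr'R _).trans (hσR.symm.trans ?_)
    show σ₀.left R = (r.left ≫ σ₀.left) (IsLocalRing.closedPoint k)
    exact (congrArg σ₀.left (hrR (IsLocalRing.closedPoint k)).symm).trans (Scheme.Hom.comp_apply _ _ _).symm
  have hrel := hsum r r'
  have hmul : r * r' = q := by
    rw [hrr, hpt r, hu, Category.id_comp, mul_comm q, mul_inv_cancel_left]
  rw [hmul] at hrel
  obtain ⟨i⟩ := hrel
  obtain ⟨jr⟩ := Groth.L21.G1.nonempty_pull_PD p (Groth.L21.G1.toPt p r)
  obtain ⟨jr'⟩ := Groth.L21.G1.nonempty_pull_PD p (Groth.L21.G1.toPt p r')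
  obtain ⟨jq⟩ := Groth.L21.G1.nonempty_pull_PD p (Groth.L21.G1.toPt p q)
  obtain ⟨je⟩ := Groth.L21.G1.nonempty_pull_PD p (Groth.L21.G1.toPt p e)
  let pb := Scheme.Modules.pullback (Groth.L21.G1.idSec p)
  let k₁ := Groth.L00.Tensor.tensorIso jr.symm jr'.symm ≪≫ Groth.L29.DC.PullTensor.pullTensor _ _ _ ≪≫
    pb.mapIso i ≪≫ (Groth.L29.DC.PullTensor.pullTensor _ _ _).symm ≪≫ Groth.L00.Tensor.tensorIso jq je
  refine ⟨?_ ≪≫ k₁ ≪≫ Groth.L00.Tensor.tensorComm _ _ ≪≫ ?_⟩
  · exact Groth.L00.Tensor.tensorIso (eqToIso (by rw [← hrk]; rfl)) (eqToIso (by rw [← hr'k]; rfl))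
  · exact Groth.L00.Tensor.tensorIso (eqToIso (by rw [← hek]; rfl)) (eqToIso (by rw [← hqk]; rfl))

end Groth.Agent.S11349
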