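import Groth.Statements.S1135
import Groth.Agent.L27.Lefschetz.Main

set_option autoImplicit false
universe u
open Pi1

namespace Groth.Agent.S1135

open AlgebraicGeometry CategoryTheory CategoryTheory.Limits in
/-- Let A be a Noetherian local ring and f a member of the maximal ideal with the property that some
power of f kills both local cohomology modules H^1_m(A), H^2_m(A), and for which (A, (f)) is a
henselian pair. Then restricting finite etale covers from the punctured spectrum of A to the
punctured spectrum of A/fA is fully faithful. -/
theorem result (A : Type u) [CommRing A] [IsNoetherianRing A] [IsLocalRing A] (f : A) (hf : f ∈ IsLocalRing.maximalIdeal A)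
    (h1 : (∃ n : ℕ, ∀ x : LocCoh.H (IsLocalRing.maximalIdeal A) 1 A, (f ^ n) • x = 0)) (h2 : (∃ n : ℕ, ∀ x : LocCoh.H (IsLocalRing.maximalIdeal A) 2 A, (f ^ n) • x = 0)) [HenselianRing A (Ideal.span {f})] :
    (FEt.restrict (pullback.fst (FEt.puncturedSpec A).ι (Spec.map (CommRingCat.ofHom (Ideal.Quotient.mk (Ideal.span {f})))))).Full ∧ (FEt.restrict (pullback.fst (FEt.puncturedSpec A).ι (Spec.map (CommRingCat.ofHom (Ideal.Quotient.mk (Ideal.span {f})))))).Faithful := by
  exact Groth.L27.LefLocal.full_faithful A f hf h1 h2

end Groth.Agent.S1135
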