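import Groth.Statements.S11351
import Groth.Agent.L21.CastSev.Elliptic
import Groth.Agent.L26.Weil.Axes
import Groth.Agent.L21.CurveFlat

set_option autoImplicit false
set_option backward.isDefEq.respectTransparency false
set_option linter.style.haveILetI false
universe u
open CategoryTheory CategoryTheory.Limits AlgebraicGeometry
open Curves

namespace Groth.Agent.S11351

/-- Take an algebraically closed field k of characteristic different from 2 and an elliptic curve X over
k (integral, proper over k, of dimension one, all local rings regular, of genus dim_k H^1(X, O_X) =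
1), and let f₁, f₂ : X → P^1_k be two finite morphisms over k of degree 2 (the direct image of O_X
is locally free of rank 2). Then there are an automorphism σ of X over k and an automorphism τ of
P^1_k over k such that f₂ ∘ σ = τ ∘ f₁. -/
theorem result (k : Type u) [Field k] [IsAlgClosed k] (X : Scheme.{u}) [X.Over (Spec (CommRingCat.of k))]
    [IsIntegral X] [IsProper (X ↘ (Spec (CommRingCat.of k)))] (hdim : topologicalKrullDim X = 1)
    (hreg : ∀ x : X, IsRegularLocalRing (X.presheaf.stalk x)) (hchar : ringChar k ≠ 2) (hg : Curv2.genus k X = 1)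
    (f₁ f₂ : X ⟶ (CohB1.ProjSpace 1 k)) [IsFinite f₁] [IsFinite f₂]
    (hf₁ : f₁ ≫ CohB1.ProjSpace.toSpec 1 k = (X ↘ (Spec (CommRingCat.of k)))) (hf₂ : f₂ ≫ CohB1.ProjSpace.toSpec 1 k = (X ↘ (Spec (CommRingCat.of k))))
    (hd₁ : FlatMod.IsFinLocFreeOfRank 2 ((Scheme.Modules.pushforward f₁).obj (Coh.structureModule X)))
    (hd₂ : FlatMod.IsFinLocFreeOfRank 2 ((Scheme.Modules.pushforward f₂).obj (Coh.structureModule X))) :
    ∃ (σ : X ≅ X) (τ : (CohB1.ProjSpace 1 k) ≅ (CohB1.ProjSpace 1 k)), σ.hom ≫ (X ↘ (Spec (CommRingCat.of k))) = (X ↘ (Spec (CommRingCat.of k))) ∧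
      τ.hom ≫ CohB1.ProjSpace.toSpec 1 k = CohB1.ProjSpace.toSpec 1 k ∧ σ.hom ≫ f₂ = f₁ ≫ τ.hom := by
  haveI : Smooth (X ↘ Spec (CommRingCat.of k)) :=
    Groth.L26.Weil.smooth_of_regular_closed (X ↘ Spec (CommRingCat.of k)) fun x _ => hreg x
  haveI := Groth.L21.RR.isNoetherian_of_proper (X := X) k
  haveI : AlgebraicGeometry.IsIntegral (Groth.L18.PUP.P 1 k) := Groth.L16.ProjSpace.isIntegral (n := 1) (R := k)
  letI : (Groth.L18.PUP.P 1 k).Over (Spec (CommRingCat.of k)) := ⟨Groth.L18.PUP.pr 1 k⟩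
  haveI : IsProper ((Groth.L18.PUP.P 1 k) ↘ Spec (CommRingCat.of k)) := inferInstanceAs (IsProper (Groth.L18.PUP.pr 1 k))
  haveI := Groth.L21.RR.isNoetherian_of_proper (X := Groth.L18.PUP.P 1 k) k
  have h2 : (2 : k) ≠ 0 := Ring.two_ne_zero hchar
  have hflat : ∀ f : X ⟶ Groth.L18.PUP.P 1 k, IsFinite f → Flat f := fun f hf => by
    haveI := hf
    have hdom := Groth.L21.P1.map_genericPoint f hdim
    refine Groth.L21.flat_of_nonconstant (Groth.L21.P1.topologicalKrullDim_le k) Groth.L21.P1.normal_P1 f ?_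
    obtain ⟨x, -, hx⟩ := (isClosed_univ (X := X)).exists_closed_singleton Set.univ_nonempty
    refine ⟨_, ⟨genericPoint X, rfl⟩, _, ⟨x, rfl⟩, fun h => ?_⟩
    refine Groth.L21.RR.ne_genericPoint_of_isClosed Groth.L21.P1.topologicalKrullDim_eq ?_ (h.symm.trans hdom)
    simpa using f.isClosedMap _ hx
  haveI := hflat f₁ ‹_›
  haveI := hflat f₂ ‹_›
  exact Groth.L21.CastSev.exists_aut_comp_eq hdim hg f₁ hf₁
    (fun y => Groth.L27.Deg.finrank_eq_of_push f₁ hd₁ y) f₂ hf₂
    (fun y => Groth.L27.Deg.finrank_eq_of_push f₂ hd₂ y) h2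

end Groth.Agent.S11351
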