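import Groth.Statements.S11353
import Groth.Agent.L21.Bundle.Normalized

set_option autoImplicit false
set_option backward.isDefEq.respectTransparency false
universe u
open CategoryTheory CategoryTheory.Limits AlgebraicGeometry
open Curves

namespace Groth.Agent.S11353

/-- Let C be a curve over an algebraically closed field k (integral, proper over k, of dimension one,
all local rings regular) and E a decomposable locally free sheaf of rank 2 — E ≅ L₁ ⊕ L₂ with L₁, L₂
invertible — which is normalized: H^0(C, E) ≠ 0 while H^0(C, E ⊗ M) = 0 for every invertible M of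
negative degree. Then E ≅ O_C ⊕ L for an invertible L with deg L ≤ 0; in particular e = -deg E ≥ 0. -/
theorem result (k : Type u) [Field k] [IsAlgClosed k] (C : Scheme.{u}) [C.Over (Spec (CommRingCat.of k))]
    [IsIntegral C] [IsProper (C ↘ (Spec (CommRingCat.of k)))] (hdimC : topologicalKrullDim C = 1)
    (hregC : ∀ x : C, IsRegularLocalRing (C.presheaf.stalk x))
    (E L₁ L₂ : C.Modules) (hL₁ : PicF.IsInvertible L₁) (hL₂ : PicF.IsInvertible L₂) (hE : Nonempty (E ≅ L₁ ⊞ L₂))
    (hn0 : Nontrivial (Coh.HH C E 0))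
    (hneg : ∀ M : C.Modules, PicF.IsInvertible M → Curv2.deg k C M 1 < 0 → Subsingleton (Coh.HH C (CohB1.tensorMod E M) 0)) :
    ∃ L : C.Modules, PicF.IsInvertible L ∧ Curv2.deg k C L 1 ≤ 0 ∧ Nonempty (E ≅ Coh.structureModule C ⊞ L) := by
  haveI := Groth.L21.RR.isNoetherian_of_proper (X := C) k
  obtain ⟨e⟩ := hE
  have hA := Groth.L21.Bundle.locFree_one hL₁
  have hB := Groth.L21.Bundle.locFree_one hL₂
  haveI : Mono (biprod.inl ≫ e.inv) := mono_comp _ _
  haveI : Mono (biprod.inr ≫ e.inv) := mono_comp _ _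
  have d1 := Groth.L21.Bundle.dg_line_nonpos k hdimC hneg hA (biprod.inl ≫ e.inv)
  have d2 := Groth.L21.Bundle.dg_line_nonpos k hdimC hneg hB (biprod.inr ≫ e.inv)
  haveI := hn0
  obtain ⟨φ, hφ⟩ := Groth.L21.RR.exists_hom_ne_zero (L := E)
  have hO := Groth.L21.Bundle.locFree_one (Groth.L18.Ample.isInvertible_structureModule C)
  by_cases hA0 : φ ≫ e.hom ≫ biprod.fst = 0
  · have hB0 : φ ≫ e.hom ≫ biprod.snd ≠ 0 := fun h => hφ <| by
      rw [← cancel_mono e.hom, zero_comp]
      exact biprod.hom_ext _ _ (by simpa using hA0) (by simpa using h)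
    obtain ⟨-, h1, h2⟩ := Groth.L21.Bundle.line_hom_facts k hregC hdimC.le hO hB _ hB0
    rw [Groth.L21.Bundle.dg_structure] at h1 h2
    haveI := h2 (le_antisymm h1 d2)
    exact ⟨L₁, hL₁, by rwa [Groth.L21.Bundle.dg_eq k hA],
      ⟨e ≪≫ biprod.braiding L₁ L₂ ≪≫ biprod.mapIso (asIso (φ ≫ e.hom ≫ biprod.snd)).symm (Iso.refl _)⟩⟩
  · obtain ⟨-, h1, h2⟩ := Groth.L21.Bundle.line_hom_facts k hregC hdimC.le hO hA _ hA0
    rw [Groth.L21.Bundle.dg_structure] at h1 h2
    haveI := h2 (le_antisymm h1 d1)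
    exact ⟨L₂, hL₂, by rwa [Groth.L21.Bundle.dg_eq k hB],
      ⟨e ≪≫ biprod.mapIso (asIso (φ ≫ e.hom ≫ biprod.fst)).symm (Iso.refl _)⟩⟩

end Groth.Agent.S11353
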