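import Groth.Statements.S11355
import Groth.Agent.L21.Duality.Pencils
import Groth.Agent.L21.RR.GeomGenusZero
import Groth.Agent.L26.Weil.Axes

set_option autoImplicit false
set_option backward.isDefEq.respectTransparency false
universe u
open CategoryTheory CategoryTheory.Limits AlgebraicGeometry
open Curves

namespace Groth.Agent.S11355

/-- Let k be an algebraically closed field and X a curve over k (an integral scheme, proper over k, of
dimension one, with all local rings regular), of genus g ≥ 2. If X is hyperelliptic its g^1_2 is
unique: for any two linear series (M, s), (M', s') of degree 2 and dimension 1 on X (invertible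
modules of degree 2, each with two k-linearly independent global sections), M ≅ M' (existence of an
isomorphism; for g ≥ 2 such a module has exactly a 2-dimensional space of sections, so the linear
series coincide). -/
theorem result (k : Type u) [Field k] [IsAlgClosed k] (X : Scheme.{u}) [X.Over (Spec (CommRingCat.of k))]
    [IsIntegral X] [IsProper (X ↘ (Spec (CommRingCat.of k)))] (hdim : topologicalKrullDim X = 1)
    (hreg : ∀ x : X, IsRegularLocalRing (X.presheaf.stalk x)) (hg : 2 ≤ Curv2.genus k X)
    (M : X.Modules) (s : Fin 2 → LinSer.Sect X M) (hM : LinSer.IsLinSer k X M 2 1 s)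
    (M' : X.Modules) (s' : Fin 2 → LinSer.Sect X M') (hM' : LinSer.IsLinSer k X M' 2 1 s') :
    Nonempty (M ≅ M') := by
  haveI : Smooth (X ↘ Spec (CommRingCat.of k)) :=
    Groth.L26.Weil.smooth_of_regular_closed (X ↘ Spec (CommRingCat.of k)) fun x _ => hreg x
  exact Groth.L21.Duality.nonempty_iso_of_deg_two hdim (Groth.L21.RR.h0_eq_one_of_isAlgClosed k) hg hM.1 hM'.1
    hM.2.1 hM'.2.1 (Groth.L21.Duality.le_h0_of_isLinSer hM) (Groth.L21.Duality.le_h0_of_isLinSer hM')

end Groth.Agent.S11355
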