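import Groth.Statements.S11356
import Groth.Agent.L03.Ruled.Push
import Groth.Agent.L26.Weil.Axes
import Groth.Agent.L17.ThickBasic
import Groth.Agent.L23.SchKer
-- import your own Groth.Agent.* helpers here

set_option autoImplicit false
universe u
open CategoryTheory CategoryTheory.Limits AlgebraicGeometry
open Surf

namespace Groth.Agent.S11356

open Groth.L22.Inter Groth.L22.Nef Groth.L22.Big
set_option backward.isDefEq.respectTransparency false
set_option linter.style.haveILetI false

/-- Let π : X → C be a ruled surface over an algebraically closed field k: X a surface (integral, of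
dimension two, all local rings regular, with a closed immersion into some P^n_k over k), C a curve
(integral, proper over k, of dimension one, all local rings regular), π : X → C a surjective
k-morphism whose fibre over every closed point is isomorphic to P^1_k and which admits a section σ;
let L be an invertible O_X-module (the sheaf of a divisor D) with D.f ≥ 0 for every closed fibre f =
π⁻¹(y) — written (L·I_f) ≤ 0 for the ideal I_f = m_y · O_X of the fibre, where (L·M) = χ(O) - χ(L) -
χ(M) + χ(L ⊗ M) is the intersection number (packaged as FGA.intNum) and (L·I_f) = -D.f. Then R^p π_*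
L = 0 for every p > 0, and H^i(X, L) ≅ H^i(C, π_* L) for all i (existence of a k-linear isomorphism;
the canonical one is the edge map of the Leray spectral sequence). -/
theorem result (k : Type u) [Field k] [IsAlgClosed k] (X : Scheme.{u}) [X.Over (Spec (CommRingCat.of k))]
    [IsIntegral X] (hdim : topologicalKrullDim X = 2) (hreg : ∀ x : X, IsRegularLocalRing (X.presheaf.stalk x))
    (hproj : ∃ (n : ℕ) (ι : X ⟶ CohB1.ProjSpace n k), IsClosedImmersion ι ∧ ι ≫ CohB1.ProjSpace.toSpec n k = (X ↘ (Spec (CommRingCat.of k))))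
    (C : Scheme.{u}) [C.Over (Spec (CommRingCat.of k))]
    [IsIntegral C] [IsProper (C ↘ (Spec (CommRingCat.of k)))] (hdimC : topologicalKrullDim C = 1)
    (hregC : ∀ x : C, IsRegularLocalRing (C.presheaf.stalk x))
    (π : X ⟶ C) (hπ : π ≫ (C ↘ (Spec (CommRingCat.of k))) = (X ↘ (Spec (CommRingCat.of k)))) (hsurj : Function.Surjective π)
    (hfib : ∀ y : C, IsClosed ({y} : Set C) → Nonempty (pullback π (C.fromSpecResidueField y) ≅ CohB1.ProjSpace 1 k))
    (σ : C ⟶ X) (hσ : σ ≫ π = 𝟙 C)
    [HasInjectiveResolutions X.Modules] (L : X.Modules) (hL : PicF.IsInvertible L)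
    (hdeg : ∀ (y : C) (hy : IsClosed ({y} : Set C)), FGA.intNum k X 2 ![L, (ClSub.idealMod ((Scheme.IdealSheafData.vanishingIdeal ⟨{y}, hy⟩).comap π))] (Coh.structureModule X) ≤ 0) :
    (∀ p : ℕ, 0 < p → IsZero ((Coh.Rpush π p).obj L)) ∧
      ∀ i : ℕ, Nonempty (Coh.HH X L i ≃ₗ[k] Coh.HH C ((Coh.push π).obj L) i) := by
  obtain ⟨m, ι, hιc, hι⟩ := hproj
  haveI := hιc
  haveI : IsProper (CohB1.ProjSpace.toSpec m k) := Groth.L16.ProjSpace.isProper_toSpec m k
  haveI : IsProper (X ↘ Spec (CommRingCat.of k)) := by rw [← hι]; infer_instance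
  haveI := Groth.L21.RR.isNoetherian_of_proper (X := X) k
  haveI := Groth.L21.RR.isNoetherian_of_proper (X := C) k
  haveI : π.IsOver (Spec (CommRingCat.of k)) := ⟨hπ⟩
  haveI : Surjective π := ⟨hsurj⟩
  haveI : Smooth (C ↘ Spec (CommRingCat.of k)) :=
    Groth.L26.Weil.smooth_of_regular_closed _ fun x _ => hregC x
  have hd : topologicalKrullDim X = (2 : ℕ) := hdim.trans Nat.cast_ofNat.symm
  have hkerf : ∀ (y : C) (hy : IsClosed ({y} : Set C)),
      (π.fiberι y).ker = (Scheme.IdealSheafData.vanishingIdeal ⟨{y}, hy⟩).comap π := fun y hy => by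
    haveI : IsClosedImmersion (C.fromSpecResidueField y) := isClosed_singleton_iff_isClosedImmersion.mp hy
    have hker : (C.fromSpecResidueField y).ker = Scheme.IdealSheafData.vanishingIdeal ⟨{y}, hy⟩ := by
      rw [Groth.L23.SchKer.ker_eq_vanishingIdeal]
      congr 1
      refine TopologicalSpace.Closeds.ext ?_
      show closure (Set.range (C.fromSpecResidueField y)) = {y}
      rw [Scheme.range_fromSpecResidueField, hy.closure_eq]
    rw [← hker]
    exact Groth.L17.Thick.ker_of_isPullback (IsPullback.of_hasPullback π (C.fromSpecResidueField y))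
  have hdeg' : ∀ (y : C), IsClosed ({y} : Set C) → ii k L (ClSub.idealMod (π.fiberι y).ker) ≤ 0 := fun y hy => by
    rw [hkerf y hy, ← intNum_eq_ii k hd.le]
    exact_mod_cast hdeg y hy
  exact ⟨fun p hp => Groth.L03.Ruled.isZero_Rpush hd hreg hdimC π hfib hL hdeg' p hp,
    fun i => Groth.L03.Ruled.nonempty_HH_equiv hd hreg hdimC π hfib hL hdeg' i⟩

end Groth.Agent.S11356
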