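import Groth.Statements.S11358
import Groth.Agent.L01.CohenSquare
import Groth.Agent.L07.RegularFlat
import Groth.Agent.S0342

set_option autoImplicit false
universe u
open CAlg

namespace Groth.Agent.S11358

/-- A local homomorphism R → S of Artinian local rings factors as R → R' → S with R' Artinian local, R →
R' flat and local with Gorenstein fibre ring R'/m_R R', and R' → S surjective. -/
theorem result (R S : Type u) [CommRing R] [CommRing S] [IsArtinianRing R] [IsLocalRing R] [IsArtinianRing S] [IsLocalRing S] [Algebra R S] [IsLocalHom (algebraMap R S)] : ∃ (R' : Type u) (_ : CommRing R') (_ : Algebra R R'), IsArtinianRing R' ∧ IsLocalRing R' ∧ Module.Flat R R' ∧ IsLocalHom (algebraMap R R') ∧ LocCoh.IsGorensteinLocalRing (R' ⧸ (IsLocalRing.maximalIdeal R).map (algebraMap R R')) ∧ ∃ g : R' →ₐ[R] S, Function.Surjective g := by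
  obtain ⟨Λ, Λ', _, _, _, _, _, _, n, m, ρ, σ, τ, -, hρ, hσ, hc, hloc, hflat, hreg⟩ :=
    Groth.L01.CohenSquare.square (A := R) (B := S)
  haveI := hloc; haveI := hreg
  let P := MvPowerSeries (Fin n) Λ
  let T := MvPowerSeries (Fin m) Λ'
  letI : Algebra P T := τ.toAlgebra
  haveI : Module.Flat P T := hflat
  letI : Algebra P R := ρ.toAlgebra
  let K : Ideal T := (RingHom.ker ρ).map τ
  have hK : RingHom.ker ρ ≤ RingHom.ker ((Ideal.Quotient.mk K).comp τ) := fun x hx => by
    rw [RingHom.mem_ker, RingHom.comp_apply, Ideal.Quotient.eq_zero_iff_mem]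
    exact Ideal.mem_map_of_mem _ hx
  let a : R →+* T ⧸ K := RingHom.liftOfSurjective ρ hρ ⟨(Ideal.Quotient.mk K).comp τ, hK⟩
  have ha : ∀ x, a (ρ x) = Ideal.Quotient.mk K (τ x) := fun x =>
    RingHom.congr_fun (RingHom.liftOfRightInverse_comp ρ _ (Function.rightInverse_surjInv hρ) ⟨_, hK⟩) x
  letI : Algebra R (T ⧸ K) := a.toAlgebra
  haveI : IsScalarTower P R (T ⧸ K) := IsScalarTower.of_algebraMap_eq fun x => (ha x).symm
  haveI : Module.Flat R (T ⧸ K) := Groth.L07.RegFlat.flat_quotient (B := P) (N := T) (RingHom.ker ρ)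
    hρ rfl (N' := T ⧸ K) (Ideal.Quotient.mkₐ P K).toLinearMap Ideal.Quotient.mk_surjective (by
      rw [Ideal.smul_top_eq_map]
      ext x
      exact Ideal.Quotient.eq_zero_iff_mem)
  have hPm : IsLocalHom ρ := IsLocalHom.of_surjective _ hρ
  have hKle : K ≤ (IsLocalRing.maximalIdeal P).map τ := Ideal.map_mono
    (IsLocalRing.le_maximalIdeal (RingHom.ker_ne_top ρ))
  have hne : K ≠ ⊤ := ne_top_of_le_ne_top (IsLocalRing.maximalIdeal.isMaximal T).ne_top
    (hKle.trans (((IsLocalRing.local_hom_TFAE τ).out 0 2).mp hloc))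
  haveI : IsLocalRing (T ⧸ K) := Groth.L01.isLocalRing_quotient hne
  have hm : (IsLocalRing.maximalIdeal R).map (algebraMap R (T ⧸ K)) =
      ((IsLocalRing.maximalIdeal P).map τ).map (Ideal.Quotient.mk K) := by
    rw [← IsLocalRing.map_maximalIdeal_of_surjective ρ hρ, Ideal.map_map, Ideal.map_map]
    exact congrArg (fun φ : P →+* T ⧸ K => (IsLocalRing.maximalIdeal P).map φ) (RingHom.ext ha)
  haveI : IsLocalHom (algebraMap R (T ⧸ K)) := ((IsLocalRing.local_hom_TFAE (algebraMap R (T ⧸ K))).out 0 2).mpr (by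
    rw [hm, ← IsLocalRing.map_maximalIdeal_of_surjective (Ideal.Quotient.mk K) Ideal.Quotient.mk_surjective]
    exact Ideal.map_mono (((IsLocalRing.local_hom_TFAE τ).out 0 2).mp hloc))
  let e : (T ⧸ (IsLocalRing.maximalIdeal P).map τ) ≃+* ((T ⧸ K) ⧸ (IsLocalRing.maximalIdeal R).map (algebraMap R (T ⧸ K))) :=
    ((DoubleQuot.quotQuotEquivQuotOfLE hKle).symm).trans (Ideal.quotEquivOfEq hm.symm)
  haveI := Groth.Agent.S0342.result (T ⧸ (IsLocalRing.maximalIdeal P).map τ)
  have hG := Groth.L21.GorensteinAscend.isGorensteinLocalRing_of_ringEquiv (R := T ⧸ (IsLocalRing.maximalIdeal P).map τ) (R' := (T ⧸ K) ⧸ (IsLocalRing.maximalIdeal R).map (algebraMap R (T ⧸ K))) e inferInstance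
  obtain ⟨d, hd⟩ := Groth.L01.exists_dim_eq_nat (R := T ⧸ (IsLocalRing.maximalIdeal P).map τ)
  have hkill : ∀ x ∈ K, σ x = 0 := by
    intro x hx
    have : K ≤ RingHom.ker σ := Ideal.map_le_iff_le_comap.mpr fun y hy => by
      rw [Ideal.mem_comap, RingHom.mem_ker, ← RingHom.comp_apply, hc, RingHom.comp_apply,
        RingHom.mem_ker.mp hy, map_zero]
    exact this hx
  let g : (T ⧸ K) →ₐ[R] S := { Ideal.Quotient.lift K σ hkill with
    commutes' := fun r => by
      obtain ⟨x, rfl⟩ := hρ r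
      show Ideal.Quotient.lift K σ hkill (a (ρ x)) = algebraMap R S (ρ x)
      rw [ha, Ideal.Quotient.lift_mk, ← RingHom.comp_apply σ τ, hc]
      rfl }
  exact Groth.L01.GorFactor.exists_artinian d (T ⧸ K)
    (le_of_eq ((ringKrullDim_eq_of_ringEquiv e).symm.trans hd)) hG g
    (Ideal.Quotient.lift_surjective_of_surjective _ _ hσ)

end Groth.Agent.S11358
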