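import Groth.Statements.S11359
import Groth.Agent.L04.MatlisBCGor

set_option autoImplicit false
universe u
open InjHull

namespace Groth.Agent.S11359

/-- For a flat homomorphism A → B of Noetherian local rings whose fibre ring B/m_A B is an Artinian
Gorenstein local ring, tensoring an injective hull of the residue field of A with B gives an
injective hull of the residue field of B. -/
theorem result (A : Type u) [CommRing A] [IsLocalRing A] [IsNoetherianRing A] (B : Type u) [CommRing B] [IsLocalRing B] [IsNoetherianRing B] [Algebra A B] [Module.Flat A B] (hG : LocCoh.IsGorensteinLocalRing (B ⧸ (IsLocalRing.maximalIdeal A).map (algebraMap A B))) (hArt : IsArtinianRing (B ⧸ (IsLocalRing.maximalIdeal A).map (algebraMap A B))) (E : Type u) [AddCommGroup E] [Module A E] (f : IsLocalRing.ResidueField A →ₗ[A] E) (hf : InjHull.IsInjectiveHull f) : ∃ g : IsLocalRing.ResidueField B →ₗ[B] TensorProduct A B E, InjHull.IsInjectiveHull g := by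

    haveI : IsLocalHom (algebraMap A B) := by
      refine ((IsLocalRing.local_hom_TFAE (algebraMap A B)).out 0 2).2 (IsLocalRing.le_maximalIdeal ?_)
      intro h
      haveI : Subsingleton (B ⧸ (IsLocalRing.maximalIdeal A).map (algebraMap A B)) :=
        Ideal.Quotient.subsingleton_iff.2 h
      haveI := hG.toIsLocalRing
      exact false_of_nontrivial_of_subsingleton (B ⧸ (IsLocalRing.maximalIdeal A).map (algebraMap A B))
    exact Groth.L04.exists_isInjectiveHull_baseChange_gorenstein hf

end Groth.Agent.S11359
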