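import Groth.Statements.S1136
import Groth.Agent.L16.PuncExt.Main

set_option autoImplicit false
universe u
open Pi1

namespace Groth.Agent.S1136

open AlgebraicGeometry CategoryTheory CategoryTheory.Limits in
/-- Let A be a Noetherian local ring and f a member of the maximal ideal with the property that some
power of f kills both local cohomology modules H^1_m(A), H^2_m(A). Let V be a finite etale cover of
the punctured spectrum U of A whose restriction to the punctured spectrum of A/fA is the restriction
of a finite etale cover of Spec(A/fA). Then V is the restriction of a finite etale cover of Spec A. -/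
theorem result (A : Type u) [CommRing A] [IsNoetherianRing A] [IsLocalRing A] (f : A) (hf : f ∈ IsLocalRing.maximalIdeal A)
    (h1 : (∃ n : ℕ, ∀ x : LocCoh.H (IsLocalRing.maximalIdeal A) 1 A, (f ^ n) • x = 0)) (h2 : (∃ n : ℕ, ∀ x : LocCoh.H (IsLocalRing.maximalIdeal A) 2 A, (f ^ n) • x = 0)) (V : FEt.Cat (FEt.puncturedSpec A : Scheme.{u}))
    (hV : (∃ Y₀ : FEt.Cat (Spec (CommRingCat.of (A ⧸ Ideal.span {f}))),
      Nonempty ((FEt.restrict (pullback.snd (FEt.puncturedSpec A).ι (Spec.map (CommRingCat.ofHom (Ideal.Quotient.mk (Ideal.span {f})))))).obj Y₀ ≅ (FEt.restrict (pullback.fst (FEt.puncturedSpec A).ι (Spec.map (CommRingCat.ofHom (Ideal.Quotient.mk (Ideal.span {f})))))).obj V))) :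
    ∃ Y : FEt.Cat (Spec (CommRingCat.of A)), Nonempty ((FEt.restrict (FEt.puncturedSpec A).ι).obj Y ≅ V) := by
  obtain ⟨Y₀, ⟨e⟩⟩ := hV
  exact Groth.L16.PuncExt.exists_extension A f hf h1 h2 V Y₀ e
end Groth.Agent.S1136
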