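import Groth.Statements.S11360
import Groth.Agent.L29.Dual.Descent
import Mathlib.RingTheory.LocalProperties.Submodule

set_option autoImplicit false
universe u
open CategoryTheory
attribute [local instance] HasDerivedCategory.standard
open Dual

namespace Groth.Agent.S11360

/-- Let A be a Noetherian ring and R an object of D(A) with finite cohomology modules and of finite
injective dimension (isomorphic to a bounded complex of injective modules). If for every prime p of
A the derived base change of R to A_p (the total left derived functor of extension of scalars,
assumed to exist) is a dualizing complex for A_p, then R is a dualizing complex for A. (The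
published statement is for a locally Noetherian scheme and the stalks at all points; this row is the
affine case. Without the global finite injective dimension hypothesis the conclusion fails, e.g. for
a regular Noetherian ring of infinite Krull dimension.) -/
theorem result (A : Type u) [CommRing A] [IsNoetherianRing A] (R : Dual.D A) (hfin : ∀ i : ℤ, Module.Finite A (Dual.HD A R i)) (hfid : DRing.HasFiniteInjDim A R) [∀ p : PrimeSpectrum A, DRing.HasLBaseChange (algebraMap A (Localization.AtPrime p.asIdeal))] (h : ∀ p : PrimeSpectrum A, Dual.IsDualizing (Localization.AtPrime p.asIdeal) ((DRing.LBaseChange (algebraMap A (Localization.AtPrime p.asIdeal))).obj R)) : Dual.IsDualizing A R := by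
  haveI : ∀ p : PrimeSpectrum A, Module.Flat A (Localization.AtPrime p.asIdeal) := fun p =>
    IsLocalization.flat _ p.asIdeal.primeCompl
  obtain ⟨a, b, I, hI, hinj, ⟨eI⟩⟩ := hfid
  refine Groth.L29.FlatBC.isDualizing_of_family_of_injDim
    (B := fun p : PrimeSpectrum A => Localization.AtPrime p.asIdeal) (fun N _ _ hN => ?_) hfin a b
    (fun M _ _ i hi => ?_)
    (fun p => Groth.L29.HomD.isDualizing_of_iso ((Groth.L29.FlatBC.lbcIso A _).app R) (h p))
  · refine Module.subsingleton_of_localization_maximal (R := A) (M := N)
      (fun (P : Ideal A) [P.IsMaximal] => LocalizedModule P.primeCompl N)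
      (fun (P : Ideal A) [P.IsMaximal] => LocalizedModule.mkLinearMap P.primeCompl N) fun P hP => ?_
    haveI := hN ⟨P, hP.isPrime⟩
    exact (LocalizedModule.equivTensorProduct P.primeCompl N).toEquiv.subsingleton
  · haveI := Groth.L29.HomD.subsingleton_of_separated I a b hI hinj (Dual.inD A M) i
      (hi.elim (fun h => Or.inl ⟨0, inferInstance, by lia⟩) (fun h => Or.inr ⟨0, inferInstance, by lia⟩))
    exact (CategoryTheory.Linear.homCongr A (CategoryTheory.Iso.refl (Dual.inD A M))
      ((CategoryTheory.shiftFunctor (Dual.D A) i).mapIso eI)).symm.toEquiv.subsingleton

end Groth.Agent.S11360
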