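import Groth.Statements.S11365
import Groth.Agent.S1786
import Groth.Agent.L29.Dual.GorFibresExt
-- import your own Groth.Agent.* helpers here

set_option autoImplicit false
set_option maxSynthPendingDepth 3
set_option backward.isDefEq.respectTransparency false
set_option backward.defeqAttrib.useBackward true
set_option linter.style.haveILetI false
attribute [local instance] HasDerivedCategory.standard
universe u
open CategoryTheory
open scoped TensorProduct
open Dual

namespace Groth.Agent.S11365

/-- Let A be a Noetherian ring, n ≤ N, P = A[t_1, …, t_N], I an ideal of P with B = P/I flat over A, and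
suppose Ext^j_P(B, P) vanishes for j ≠ N − n while Ext^{N−n}_P(B, P) is A-flat. Then Ext^{N−n}_P(B,
P) is P-isomorphic to an invertible B-module if and only if all fibre rings B ⊗_A κ(p) are
Gorenstein. (The published statement is for the degree −n cohomology of f^! of the structure sheaf
of a CM morphism of locally Noetherian schemes with pure relative dimension n; this row is the
affine case of a closed subscheme of affine N-space.) -/
theorem result (A : Type u) [CommRing A] [IsNoetherianRing A] (N n : ℕ) (hnN : n ≤ N) (I : Ideal (MvPolynomial (Fin N) A)) [Module.Flat A (MvPolynomial (Fin N) A ⧸ I)] (hvan : ∀ j : ℕ, j ≠ N - n → Subsingleton (Abelian.Ext (ModuleCat.of (MvPolynomial (Fin N) A) (MvPolynomial (Fin N) A ⧸ I)) (ModuleCat.of (MvPolynomial (Fin N) A) (MvPolynomial (Fin N) A)) j)) (hflat : Module.Flat A (RestrictScalars A (MvPolynomial (Fin N) A) (Abelian.Ext (ModuleCat.of (MvPolynomial (Fin N) A) (MvPolynomial (Fin N) A ⧸ I)) (ModuleCat.of (MvPolynomial (Fin N) A) (MvPolynomial (Fin N) A)) (N - n)))) : (∃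 (L : Type u) (_ : AddCommGroup L) (_ : Module (MvPolynomial (Fin N) A ⧸ I) L), Module.Invertible (MvPolynomial (Fin N) A ⧸ I) L ∧ Nonempty (RestrictScalars (MvPolynomial (Fin N) A) (MvPolynomial (Fin N) A ⧸ I) L ≃ₗ[(MvPolynomial (Fin N) A)] Abelian.Ext (ModuleCat.of (MvPolynomial (Fin N) A) (MvPolynomial (Fin N) A ⧸ I)) (ModuleCat.of (MvPolynomial (Fin N) A) (MvPolynomial (Fin N) A)) (N - n))) ↔ ∀ p : PrimeSpectrum A, LocCoh.IsGorensteinRing ((MvPolynomial (Fin N) A ⧸ I) ⊗[A] p.asIdeal.ResidueField) := by
  let P := MvPolynomial (Fin N) A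
  let B := P ⧸ I
  haveI := Groth.L10.KFlatLBC.hasLBaseChange (algebraMap A P)
  haveI : ∀ f : B, DRing.HasLBaseChange (algebraMap B (Localization.Away f)) := fun f =>
    Groth.L10.KFlatLBC.hasLBaseChange _
  let ψ : P →ₐ[A] B := Ideal.Quotient.mkₐ A I
  have hψ : Function.Surjective ψ := Ideal.Quotient.mkₐ_surjective A I
  obtain ⟨Rψ, ⟨adj⟩⟩ := Groth.L10.Shriek.exists_rightAdjoint ψ.toRingHom
  obtain ⟨-, hfin, -, -, -⟩ := Groth.Agent.S1801.result A B N ψ hψ Rψ adj
  have hconc := Groth.L29.GorExt.subsingleton_HD I adj hnN hvan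
  rw [Groth.L29.GorExt.exists_restrict_iff I adj n hnN, Groth.Agent.S1786.result A B N ψ hψ Rψ adj]
  constructor
  · intro h q
    obtain ⟨f, hf, m, hiso⟩ := Groth.L29.GorExt.exists_away_of_invertible _ hfin n hconc q
    exact ⟨f, hf, m, hiso⟩
  · intro h
    exact Groth.L29.GorExt.invertible_of_away _ hfin n hconc fun q => by
      obtain ⟨f, hf, m, hiso⟩ := h q
      exact ⟨f, hf, m, hiso⟩

end Groth.Agent.S11365
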