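import Groth.Statements.S11366
import Groth.Agent.L29.Dual.TraceModel
import Groth.Agent.L29.Dual.TraceConst
import Groth.Agent.L29.Dual.TraceInj

set_option autoImplicit false
set_option linter.style.haveILetI false
set_option backward.isDefEq.respectTransparency false
set_option backward.isDefEq.respectTransparency.types false
set_option backward.defeqAttrib.useBackward true
-- import your own Groth.Agent.* helpers here

set_option autoImplicit false
universe u
open CategoryTheory AlgebraicGeometry
open Dual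

namespace Groth.Agent.S11366

/-- Let A be any commutative ring and X a scheme proper, flat and locally of finite presentation over
Spec A, Cohen–Macaulay at every point, with every irreducible component of every fibre of dimension
n and with geometrically reduced and geometrically connected (hence non-empty) fibres. If ω is a
quasi-coherent O_X-module and γ : H^n(X, ω) → A an A-linear map such that φ ↦ γ ∘ H^n(φ) is a
bijection from Hom(F, ω) onto the A-linear maps H^n(X, F) → A for every quasi-coherent F, then γ is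
bijective. (The published statement is that the trace γ_f : R^n f_*(ω_f) → O_Y of the relative
dualizing module is surjective in general and an isomorphism when the fibres are geometrically
reduced and geometrically connected; this row characterises (ω_f, γ_f) by its universal property
over an affine base and keeps the isomorphism assertion; for an empty fibre the conclusion fails,
which the connectedness class used here excludes.) -/
theorem result (A : Type u) [CommRing A] (X : Scheme.{u}) [X.Over (Spec (CommRingCat.of A))] [IsProper (X ↘ Spec (CommRingCat.of A))] [Flat (X ↘ Spec (CommRingCat.of A))] [LocallyOfFinitePresentation (X ↘ Spec (CommRingCat.of A))] (hCM : ∀ x : X, MoreMor.IsCMAt (X ↘ Spec (CommRingCat.of A)) x) (n : ℕ) (hd : ∀ (y : ↥(Spec (CommRingCat.of A))) (Z : Set ↥((X ↘ Spec (CommRingCat.of A)).fiber y)), Z ∈ irreducibleComponents ↥((X ↘ Spec (CommRingCat.of A)).fiber y) → topologicalKrullDim ↥Z = (n : WithBot ℕ∞)) [GeometricallyReduced (X ↘ Spec (CommRingCat.of A))] [GeometricallyConnected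 (X ↘ Spec (CommRingCat.of A))] (ω : X.Modules) (hω : Coh.IsQCoh ω) (γ : Coh.HH X ω n →ₗ[A] A) (huniv : (∀ F : X.Modules, Coh.IsQCoh F → ((∀ φ ψ : F ⟶ ω, (∀ x : Coh.HH X F n, γ (Sheaf.H.map ((SheafOfModules.toSheaf X.ringCatSheaf).map φ) n x) = γ (Sheaf.H.map ((SheafOfModules.toSheaf X.ringCatSheaf).map ψ) n x)) → φ = ψ) ∧ (∀ g : Coh.HH X F n →ₗ[A] A, ∃ φ : F ⟶ ω, ∀ x : Coh.HH X F n, γ (Sheaf.H.map ((SheafOfModules.toSheaf X.ringCatSheaf).map φ) n x) = g x)))) : Function.Bijective γ := by
  haveI : Surjective (X ↘ Spec (CommRingCat.of A)) := inferInstance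
  obtain ⟨A₁, _, _, _, X₁, f₁, g, hp₁, hfl, hs, hCM₁, hd₁, sq₁⟩ :=
    Groth.L29.TraceSurj.exists_good_model (X ↘ Spec (CommRingCat.of A)) n hCM hd
  haveI := hp₁; haveI := hfl; haveI := hs
  haveI : LocallyOfFinitePresentation f₁ :=
    haveI : IsLocallyNoetherian X₁ := LocallyOfFiniteType.isLocallyNoetherian f₁
    LocallyOfFinitePresentation.iff_locallyOfFiniteType.mpr inferInstance
  obtain ⟨A₂, _, _, _, X₂, f₂, g₂, hp₂, hs₂, hCM₂, hd₂, hconst, sq⟩ :=
    Groth.L29.TraceSurj.exists_const_stage (X ↘ Spec (CommRingCat.of A)) f₁ g sq₁ n hCM₁ hd₁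
  letI : X₂.Over (Spec (CommRingCat.of A₂)) := ⟨f₂⟩
  haveI : IsProper (X₂ ↘ Spec (CommRingCat.of A₂)) := hp₂
  haveI : Surjective (X₂ ↘ Spec (CommRingCat.of A₂)) := hs₂
  haveI : CompactSpace X₂ := QuasiCompact.compactSpace_of_compactSpace (X₂ ↘ Spec (CommRingCat.of A₂))
  haveI : QuasiSeparatedSpace X₂ := quasiSeparatedSpace_of_quasiSeparated (X₂ ↘ Spec (CommRingCat.of A₂))
  haveI := Groth.L10.RelCan.isLeftAdjoint_cohFunctor (X := X₂) (A := A₂) (d := n)
    fun M hM => Groth.L10.RelCan.subsingleton_HH_above n hd₂ M hM (n + 1) (Nat.lt_succ_self n)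
  haveI := Groth.L10.RelCan.isIso_cmp_of_cm (A := A₂) (X := X₂) n hCM₂ hd₂ (ModuleCat.of A₂ A)
  have htr := Groth.L29.TraceSurj.bijective_tr (A := A₂) (X := X₂) (d := n) hCM₂ hd₂ hconst
  obtain ⟨t, hts, hti⟩ := Groth.L29.TraceSurj.exists_functional (A := A₂) (X := X₂) (X' := X) (B := A) (d := n) sq
  have ht : Function.Bijective t := ⟨hti (Groth.L29.TraceSurj.injective_tr _ htr), hts htr.2⟩
  have hP := Groth.L10.RelCan.isDualizingSheaf_baseChange (A := A₂) (X := X₂) (X' := X) (B := A) (d := n) sq _
    (Groth.L10.RelCan.isDualizingSheaf_ω₀ A₂ X₂ n)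
  have hW : RelCanon.IsDualizingSheaf A X n ω :=
    (Groth.L10.RelCan.isDualizingSheaf_iff ω).2 ⟨γ, hω, fun F hF ψ => by
      obtain ⟨φ, hφ⟩ := (huniv F hF).2 ψ
      exact ⟨φ, fun z => (hφ z).symm, fun φ' hφ' => (huniv F hF).1 φ' φ fun z => (hφ' z).symm.trans (hφ z).symm⟩⟩
  obtain ⟨e⟩ := Groth.L10.RelCan.nonempty_iso hW hP
  have hsurj : Function.Surjective γ := by
    intro a
    obtain ⟨φ, hφ⟩ := (huniv _ (Groth.L16.AffineBC.isQCoh_pullback _ _)).2 t
    obtain ⟨z, hz⟩ := ht.2 a
    exact ⟨_, (hφ z).trans hz⟩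
  let ev := Canon.HHlin A e.hom n
  have hev : Function.Bijective ev := by
    refine Function.bijective_iff_has_inverse.2 ⟨Canon.HHlin A e.inv n, fun z => ?_, fun z => ?_⟩
    · show Groth.L16.CohLinear.hmap e.inv n (Groth.L16.CohLinear.hmap e.hom n z) = z
      rw [← Groth.L16.CohLinear.hmap_comp, e.hom_inv_id, Groth.L16.CohLinear.hmap_id]
    · show Groth.L16.CohLinear.hmap e.hom n (Groth.L16.CohLinear.hmap e.inv n z) = z
      rw [← Groth.L16.CohLinear.hmap_comp, e.inv_hom_id, Groth.L16.CohLinear.hmap_id]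
  let E : Coh.HH X ω n ≃ₗ[A] A := (LinearEquiv.ofBijective ev hev).trans (LinearEquiv.ofBijective t ht)
  have hinj : Function.Injective (γ ∘ₗ E.symm.toLinearMap) :=
    OrzechProperty.injective_of_surjective_endomorphism _ (hsurj.comp E.symm.surjective)
  exact ⟨fun a b hab => E.injective (hinj (by simpa using hab)), hsurj⟩

end Groth.Agent.S11366
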