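import Groth.Statements.S11367
import Groth.Agent.L29.Dual.TraceModel
import Groth.Agent.L29.Dual.TraceSurj

set_option autoImplicit false
set_option linter.style.haveILetI false
set_option backward.isDefEq.respectTransparency false
set_option backward.isDefEq.respectTransparency.types false
set_option backward.defeqAttrib.useBackward true
-- import your own Groth.Agent.* helpers here

set_option autoImplicit false
universe u
open CategoryTheory AlgebraicGeometry
open Dual

namespace Groth.Agent.S11367

/-- Let A be any commutative ring and X a scheme proper, flat, locally of finite presentation and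
surjective over Spec A, Cohen–Macaulay at every point, with every irreducible component of every
fibre of dimension n. If ω is a quasi-coherent O_X-module and γ : H^n(X, ω) → A an A-linear map such
that φ ↦ γ ∘ H^n(φ) is a bijection from Hom(F, ω) onto the A-linear maps H^n(X, F) → A for every
quasi-coherent F, then γ is surjective. (The published assertion is that the trace γ_f : R^n
f_*(ω_f) → O_Y is always surjective for a proper Cohen–Macaulay f of pure relative dimension, with
no condition on the fibres being non-empty; over a point with empty fibre the source of γ_f vanishes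
near that point and surjectivity fails, and the published proof computes on non-empty fibres, so f
is taken surjective here; (ω_f, γ_f) is characterised by its universal property over an affine
base.) -/
theorem result (A : Type u) [CommRing A] (X : Scheme.{u}) [X.Over (Spec (CommRingCat.of A))] [IsProper (X ↘ Spec (CommRingCat.of A))] [Flat (X ↘ Spec (CommRingCat.of A))] [LocallyOfFinitePresentation (X ↘ Spec (CommRingCat.of A))] [Surjective (X ↘ Spec (CommRingCat.of A))] (hCM : ∀ x : X, MoreMor.IsCMAt (X ↘ Spec (CommRingCat.of A)) x) (n : ℕ) (hd : ∀ (y : ↥(Spec (CommRingCat.of A))) (Z : Set ↥((X ↘ Spec (CommRingCat.of A)).fiber y)), Z ∈ irreducibleComponents ↥((X ↘ Spec (CommRingCat.of A)).fiber y) → topologicalKrullDim ↥Z = (n : WithBot ℕ∞)) (ω : X.Modules) (hω : Coh.IsQCoh ω) (γ : Coh.HH X ω n →ₗ[A] A) (huniv : (∀ F : X.Modules, Coh.IsQCoh F → ((∀ φ ψ : F ⟶ ω, (∀ x : Coh.HH X F n, γ (Sheaf.H.map ((SheafOfModules.toSheaf X.ringCatSheaf).map φ) n x) = γ (Sheaf.H.map ((SheafOfModules.toSheaf X.ringCatSheaf).map ψ) n x)) →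 φ = ψ) ∧ (∀ g : Coh.HH X F n →ₗ[A] A, ∃ φ : F ⟶ ω, ∀ x : Coh.HH X F n, γ (Sheaf.H.map ((SheafOfModules.toSheaf X.ringCatSheaf).map φ) n x) = g x)))) : Function.Surjective γ := by
  obtain ⟨A₁, _, _, _, X₁, f₁, g, hp₁, hfl, hs, hCM₁, hd₁, sq⟩ :=
    Groth.L29.TraceSurj.exists_good_model (X ↘ Spec (CommRingCat.of A)) n hCM hd
  letI : X₁.Over (Spec (CommRingCat.of A₁)) := ⟨f₁⟩
  haveI : IsProper (X₁ ↘ Spec (CommRingCat.of A₁)) := hp₁
  haveI : Surjective (X₁ ↘ Spec (CommRingCat.of A₁)) := hs
  haveI : CompactSpace X₁ := QuasiCompact.compactSpace_of_compactSpace (X₁ ↘ Spec (CommRingCat.of A₁))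
  haveI : QuasiSeparatedSpace X₁ := quasiSeparatedSpace_of_quasiSeparated (X₁ ↘ Spec (CommRingCat.of A₁))
  haveI := Groth.L10.RelCan.isLeftAdjoint_cohFunctor (X := X₁) (A := A₁) (d := n)
    fun M hM => Groth.L10.RelCan.subsingleton_HH_above n hd₁ M hM (n + 1) (Nat.lt_succ_self n)
  haveI := Groth.L10.RelCan.isIso_cmp_of_cm (X := X₁) n hCM₁ hd₁ (ModuleCat.of A₁ A)
  obtain ⟨F, hF, t, ht⟩ := Groth.L29.TraceSurj.exists_surjective_baseChange (X := X₁) (X' := X) (B := A) (d := n) sq
    (Groth.L29.TraceSurj.surjective_tr hCM₁ hd₁)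
  obtain ⟨φ, hφ⟩ := (huniv F hF).2 t
  intro a
  obtain ⟨z, hz⟩ := ht a
  exact ⟨_, (hφ z).trans hz⟩

end Groth.Agent.S11367
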