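import Groth.Statements.S11368
import Groth.Agent.L22.Nef.Components

set_option autoImplicit false
universe u
open CategoryTheory CategoryTheory.Limits AlgebraicGeometry TopologicalSpace
open Variety

namespace Groth.Agent.S11368

/-- For X proper over an algebraically closed field k and L an invertible O_X-module, L is ample on X if
and only if for every irreducible component X_i of X, with its reduced closed subscheme structure
(the vanishing ideal of the closed set X_i), the pullback of L to X_i is ample. -/
theorem result (k : Type u) [Field k] [IsAlgClosed k] (X : Scheme.{u})
    [X.Over (Spec (CommRingCat.of k))] [IsProper (X ↘ (Spec (CommRingCat.of k)))]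
    (L : X.Modules) (hL : PicF.IsInvertible L) :
    CohB1.IsAmple L ↔
      ∀ Z : Closeds X, (Z : Set X) ∈ irreducibleComponents X →
        CohB1.IsAmple ((Scheme.Modules.pullback
          (Scheme.IdealSheafData.vanishingIdeal Z).subschemeι).obj L) := by
  exact Groth.L22.Nef.isAmple_iff_components (X ↘ (Spec (CommRingCat.of k))) hL

end Groth.Agent.S11368
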