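import Groth.Statements.S11369
import Groth.Agent.L22.Big.Nef
import Groth.Agent.L22.Nef.StrictlyNef
set_option linter.style.haveILetI false
-- import your own Groth.Agent.* helpers here

set_option autoImplicit false
universe u
open CategoryTheory CategoryTheory.Limits AlgebraicGeometry TopologicalSpace
open Variety

namespace Groth.Agent.S11369

/-- Let X be proper over an algebraically closed field k and L an invertible O_X-module generated by its
global sections. If for every integral closed subscheme C of X of dimension one the pullback of L to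
C is ample, then L is ample. -/
theorem result (k : Type u) [Field k] [IsAlgClosed k] (X : Scheme.{u})
    [X.Over (Spec (CommRingCat.of k))] [IsProper (X ↘ (Spec (CommRingCat.of k)))]
    (L : X.Modules) (hL : PicF.IsInvertible L) (hgen : Curv2.IsGloballyGenerated L)
    (hcurves : ∀ C : X.IdealSheafData, IsIntegral C.subscheme →
      topologicalKrullDim (C.support : Set X) = 1 →
        CohB1.IsAmple ((Scheme.Modules.pullback C.subschemeι).obj L)) :
    CohB1.IsAmple L := by
  haveI := Groth.L21.RR.isNoetherian_of_proper (X := X) k
  refine Groth.L22.Nef.isAmple_of_generated (k := k) hL (fun y hy => ?_) Nat.one_pos fun x => ?_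
  · haveI := Groth.L22.Inter.isIntegral_pt y
    let g := (Groth.L22.Inter.pt y).subschemeι
    letI : (Groth.L22.Inter.pt y).subscheme.Over (Spec (CommRingCat.of k)) := ⟨g ≫ (X ↘ Spec (CommRingCat.of k))⟩
    haveI : IsProper ((Groth.L22.Inter.pt y).subscheme ↘ Spec (CommRingCat.of k)) :=
      inferInstanceAs (IsProper (g ≫ (X ↘ Spec (CommRingCat.of k))))
    have hdim : topologicalKrullDim (Groth.L22.Inter.pt y).subscheme = (1 : ℕ) := by
      rw [← Groth.L22.Nef.dim_closure_image g, Groth.L22.Inter.genericPoint_pt, hy]
    have h1 := Groth.L22.Nef.altT_push_eq k g rfl hdim (L := fun _ : Fin 1 => L) fun _ => hL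
    rw [Groth.L22.Inter.genericPoint_pt] at h1
    rw [← h1]
    exact Groth.L22.Big.altT_ample_pos k (hcurves (Groth.L22.Inter.pt y) inferInstance
      (by rw [Groth.L18.support_vanishingIdeal]; exact hy)) hdim
  · obtain ⟨σ, hσ⟩ := Groth.L18.Ample.exists_genLocus_mem_of_gg hL hgen x
    exact ⟨σ ≫ (Groth.L00.Tensor.tensorUnitLeft L).inv,
      (Groth.L16.genLocus_comp_iso σ (Groth.L00.Tensor.tensorUnitLeft L).symm).ge hσ⟩


end Groth.Agent.S11369
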