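import Groth.Statements.S11370
import Groth.Agent.L22.Nef.Proper

set_option autoImplicit false
universe u
open CategoryTheory CategoryTheory.Limits AlgebraicGeometry TopologicalSpace
open Variety

namespace Groth.Agent.S11370

/-- Let X be proper over an algebraically closed field k and L an invertible O_X-module such that (L ·
C) = χ(O_C ⊗ L) - χ(O_C) ≥ 0 for every integral closed subscheme C ⊆ X of dimension one. Then for
every integral closed subscheme Z ⊆ X of dimension d > 0 the intersection number (L^d · Z) is ≥ 0;
here (L^d · Z) is the coefficient of n_1⋯n_d in any rational polynomial P with χ(X, O_Z ⊗ L^{⊗n_1} ⊗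
⋯ ⊗ L^{⊗n_d}) = P(n_1, …, n_d) for all exponents in ℕ^d. (The published statement is phrased for a
Cartier divisor D; it depends on D only through L = O_X(D), and the printed reduction to integral X
covers every invertible L.) -/
theorem result (k : Type u) [Field k] [IsAlgClosed k] (X : Scheme.{u})
    [X.Over (Spec (CommRingCat.of k))] [IsProper (X ↘ (Spec (CommRingCat.of k)))]
    (L : X.Modules) (hL : PicF.IsInvertible L)
    (hnef : ∀ C : X.IdealSheafData, IsIntegral C.subscheme →
      topologicalKrullDim (C.support : Set X) = 1 → 0 ≤ (Curv2.euler k X (CohB1.tensorMod (ClSub.quotMod C) L) - Curv2.euler k X (ClSub.quotMod C)))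
    (Z : X.IdealSheafData) [IsIntegral Z.subscheme] (d : ℕ) (hd : 0 < d)
    (hZ : topologicalKrullDim (Z.support : Set X) = d)
    (P : MvPolynomial (Fin d) ℚ)
    (hP : ∀ n : Fin d → ℕ, (Curv2.euler k X (Curv2.tensorPows (ClSub.quotMod Z) d (fun _ => L) n) : ℚ) =
      MvPolynomial.eval (fun i => (n i : ℚ)) P) :
    0 ≤ MvPolynomial.coeff (Finsupp.equivFunOnFinite.symm fun _ : Fin d => 1) P := by
  haveI := Groth.L21.RR.isNoetherian_of_proper (X := X) k
  rw [Groth.L22.Inter.coeff_eq_alt (Groth.L22.Nakai.twEuler_quotMod_mem k hL Z hZ.le)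
    fun n => (Groth.L03.Euler.euler_tensorPows_eq (k := k) (L := fun _ : Fin d => L) _ n).symm.trans (hP n)]
  exact Groth.L22.Nef.altT_nonneg_proper (fun _ => (Groth.L22.Nef.isNef_iff k hL).2 hnef)
    (Groth.L21.RR.isCoh_quotMod Z)
    ((Groth.L03.Euler.topologicalKrullDim_set_mono (Groth.L22.Inter.support_quotMod_subset Z)).trans hZ.le)

end Groth.Agent.S11370
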