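import Groth.Statements.S11371
import Groth.Agent.L22.Nef.Bridge

set_option autoImplicit false
universe u
open CategoryTheory CategoryTheory.Limits AlgebraicGeometry TopologicalSpace
open Variety TopologicalSpace

namespace Groth.Agent.S11371

/-- Let X be proper over an algebraically closed field k and L, L' invertible O_X-modules that are
numerically equivalent: (L · C) = (L' · C), i.e. χ(O_C ⊗ L) = χ(O_C ⊗ L'), for every integral closed
subscheme C ⊆ X of dimension one. If L is ample then L' is ample. (The published statement is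
phrased for Cartier divisors; it depends on them only through the associated invertible modules, and
the printed reduction to integral X covers every invertible module.) -/
theorem result (k : Type u) [Field k] [IsAlgClosed k] (X : Scheme.{u})
    [X.Over (Spec (CommRingCat.of k))] [IsProper (X ↘ (Spec (CommRingCat.of k)))]
    (L L' : X.Modules) (hL : PicF.IsInvertible L) (hL' : PicF.IsInvertible L')
    (hnum : ∀ C : X.IdealSheafData, IsIntegral C.subscheme →
      topologicalKrullDim (C.support : Set X) = 1 →
        Curv2.euler k X (CohB1.tensorMod (ClSub.quotMod C) L) =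
          Curv2.euler k X (CohB1.tensorMod (ClSub.quotMod C) L'))
    (hamp : CohB1.IsAmple L) : CohB1.IsAmple L' := by
  obtain ⟨M, hM, ⟨e⟩⟩ := Groth.L08.Cube.exists_inverse hL
  let N := CohB1.tensorMod L' M
  have hN : PicF.IsInvertible N := Groth.L18.GenLoc.isInvertible_tensor hL' hM
  let eLN : CohB1.tensorMod L N ≅ L' :=
    Groth.L00.Tensor.tensorIso (Iso.refl L) (Groth.L00.Tensor.tensorComm L' M) ≪≫
      (Groth.L00.Tensor.tensorAssoc L M L').symm ≪≫
      Groth.L00.Tensor.tensorIso e (Iso.refl L') ≪≫ Groth.L00.Tensor.tensorUnitLeft L'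
  refine Groth.L18.Ample.isAmple_of_iso eLN (Groth.L22.Nef.isAmple_tensor (k := k) hamp ⟨hN, fun y hy => ?_⟩)
  haveI := Groth.L22.Inter.isIntegral_pt y
  haveI := Groth.L21.RR.isNoetherian_of_proper (X := X) k
  have key : ∀ B : X.Modules, (fun _ : Fin 1 => B) = Fin.cons B (Fin.elim0 : Fin 0 → X.Modules) :=
    fun B => funext fun j => by rw [Subsingleton.elim j 0, Fin.cons_zero]
  have hd : topologicalKrullDim (CohB1.support (ClSub.quotMod (Groth.L22.Inter.pt y))) ≤ (0 + 1 : ℕ) :=
    (Groth.L03.Euler.topologicalKrullDim_set_mono (Groth.L22.Inter.pt_facts y).2.1).trans hy.le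
  have hadd := Groth.L22.Inter.altT_add k (L := (Fin.elim0 : Fin 0 → X.Modules)) (fun i => i.elim0) hL hN
    (Groth.L22.Inter.pt_facts y).1 hd
  rw [← key, ← key, ← key, Groth.L22.Nef.altT_congr k (L' := fun _ : Fin 1 => L') (fun _ => ⟨eLN⟩)] at hadd
  have hC := hnum (Groth.L22.Inter.pt y) inferInstance
    (by rw [Groth.L18.support_vanishingIdeal]; exact hy)
  have hEq : Groth.L22.Inter.altT k (fun _ : Fin 1 => L') (ClSub.quotMod (Groth.L22.Inter.pt y)) =
      Groth.L22.Inter.altT k (fun _ : Fin 1 => L) (ClSub.quotMod (Groth.L22.Inter.pt y)) := by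
    rw [Groth.L22.Nef.altT_one, Groth.L22.Nef.altT_one, hC]
  linarith

end Groth.Agent.S11371
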