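import Groth.Statements.S11372
import Groth.Agent.L22.Nakai.AffineLocus
set_option linter.style.haveILetI false
-- import your own Groth.Agent.* helpers here

set_option autoImplicit false
universe u
open CategoryTheory CategoryTheory.Limits AlgebraicGeometry TopologicalSpace
open Variety

namespace Groth.Agent.S11372

/-- Let X be proper and integral over an algebraically closed field k, L an invertible O_X-module
generated by its global sections, and s : O_X ⟶ L a global section, with U = X_s the open subset
where s generates L (the complement of the support of the effective divisor of s). If U contains no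
integral closed subscheme of X of dimension one, then U is an affine open of X. -/
theorem result (k : Type u) [Field k] [IsAlgClosed k] (X : Scheme.{u})
    [X.Over (Spec (CommRingCat.of k))] [IsProper (X ↘ (Spec (CommRingCat.of k)))] [IsIntegral X]
    (L : X.Modules) (hL : PicF.IsInvertible L) (hgen : Curv2.IsGloballyGenerated L)
    (s : Coh.structureModule X ⟶ L)
    (hcurves : ∀ C : X.IdealSheafData, IsIntegral C.subscheme →
      topologicalKrullDim (C.support : Set X) = 1 →
        ¬ ((C.support : Set X) ⊆ (CohB1.genLocus L s : Set X))) :
    IsAffineOpen (CohB1.genLocus L s) := by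
  haveI := Groth.L21.RR.isNoetherian_of_proper (X := X) k
  obtain ⟨n, t, ht⟩ := Groth.L22.Nakai.exists_generatedBy
    (fun x => Groth.L18.Ample.exists_genLocus_mem_of_gg hL hgen x)
  refine Groth.L22.Nakai.isAffineOpen_genLocus_of_no_curve (X ↘ Spec (CommRingCat.of k)) hL t ht s
    fun y hy => ?_
  have h := hcurves (Groth.L22.Inter.pt y) (Groth.L22.Inter.isIntegral_pt y)
    (by rw [Groth.L18.support_vanishingIdeal]; exact hy)
  rw [Groth.L18.support_vanishingIdeal] at h
  exact h


end Groth.Agent.S11372
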