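import Groth.Statements.S11378
import Groth.Agent.L04.CohDimConn

set_option autoImplicit false
universe u
open CategoryTheory CategoryTheory.Limits AlgebraicGeometry TopologicalSpace
open CohDim

namespace Groth.Agent.S11378

/-- Let X be proper and integral over an algebraically closed field k, of dimension n ≥ 2, with all
local rings regular, and let U ≠ X be an open subscheme whose cohomological dimension is at most n -
2: H^i(U, F) = 0 for every coherent O_U-module F and every i with n - 2 < i. Then Y = X ∖ U is
connected. -/
theorem result (k : Type u) [Field k] [IsAlgClosed k] (X : Scheme.{u})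
    [X.Over (Spec (CommRingCat.of k))] [IsProper (X ↘ (Spec (CommRingCat.of k)))] [IsIntegral X]
    (hreg : ∀ x : X, IsRegularLocalRing (X.presheaf.stalk x))
    (n : ℕ) (hn : 2 ≤ n) (hdim : topologicalKrullDim X = n)
    (U : X.Opens) (hUX : U ≠ ⊤)
    (hcd : ∀ F : (U : Scheme.{u}).Modules, Coh.IsCoh F → ∀ i : ℕ, n - 2 < i → Subsingleton (Coh.HH (U : Scheme.{u}) F i)) :
    _root_.IsConnected ((U : Set X)ᶜ) :=
  Groth.L04.CohDimConn.isConnected_compl (X ↘ (Spec (CommRingCat.of k))) hn hdim U hUX hcd

end Groth.Agent.S11378
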