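import Groth.Statements.S1138
import Groth.Agent.L16.FiniteGlue.Model
import Groth.Agent.L16.FiniteGlue.Chart
import Groth.Agent.S0543

set_option autoImplicit false
universe u
open Pi1

namespace Groth.Agent.S1138

open AlgebraicGeometry CategoryTheory CategoryTheory.Limits in
/-- Let A be a Noetherian local ring with completion A', U the punctured spectrum of A and U' its base
change to X' = Spec A'. Let V ⟶ U be finite and let Y' ⟶ X' be finite with Y' ×_{X'} U' isomorphic
to V ×_U U' over U'. Then there is a finite Y ⟶ Spec A with Y ×_X U isomorphic to V over U and Y ×_X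
X' isomorphic to Y' over X'. (The source also records that these isomorphisms are compatible over
U'; this statement only asserts their existence.) -/
theorem result (A : Type u) [CommRing A] [IsNoetherianRing A] [IsLocalRing A]
    (V : Over (FEt.puncturedSpec A : Scheme.{u})) [IsFinite V.hom]
    (Y' : Over (Spec (CommRingCat.of (AdicCompletion (IsLocalRing.maximalIdeal A) A)))) [IsFinite Y'.hom]
    (e : (Over.pullback (pullback.fst (FEt.puncturedSpec A).ι (Spec.map (CommRingCat.ofHom (algebraMap A (AdicCompletion (IsLocalRing.maximalIdeal A) A)))))).obj V ≅ (Over.pullback (pullback.snd (FEt.puncturedSpec A).ι (Spec.map (CommRingCat.ofHom (algebraMap A (AdicCompletion (IsLocalRing.maximalIdeal A) A)))))).obj Y') :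
    ∃ Y : Over (Spec (CommRingCat.of A)), IsFinite Y.hom ∧
      Nonempty ((Over.pullback (FEt.puncturedSpec A).ι).obj Y ≅ V) ∧
      Nonempty ((Over.pullback (Spec.map (CommRingCat.ofHom (algebraMap A (AdicCompletion (IsLocalRing.maximalIdeal A) A))))).obj Y ≅ Y') := by
  classical
  let Ah := AdicCompletion (IsLocalRing.maximalIdeal A) A
  let X := Spec (CommRingCat.of A)
  let Xh := Spec (CommRingCat.of Ah)
  let sp : Xh ⟶ X := Spec.map (CommRingCat.ofHom (algebraMap A Ah))
  let U : X.Opens := FEt.puncturedSpec A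
  let f1 : pullback U.ι sp ⟶ U.toScheme := pullback.fst U.ι sp
  let f2 : pullback U.ι sp ⟶ Xh := pullback.snd U.ι sp
  let W := V.left
  let w : W ⟶ X := V.hom ≫ U.ι
  haveI : LocallyOfFiniteType w := inferInstance
  haveI : IsLocallyNoetherian W := LocallyOfFiniteType.isLocallyNoetherian w
  haveI : CompactSpace U.toScheme := isCompact_iff_compactSpace.1 (TopologicalSpace.NoetherianSpace.isCompact _)
  haveI : CompactSpace ((Functor.fromPUnit U.toScheme).obj V.right) := (inferInstance : CompactSpace U.toScheme)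
  haveI : CompactSpace W := QuasiCompact.compactSpace_of_compactSpace V.hom
  haveI : AlgebraicGeometry.IsNoetherian W := {}
  let el : pullback V.hom f1 ⟶ pullback Y'.hom f2 := e.hom.left
  haveI : IsIso el := (inferInstance : IsIso e.hom.left)
  let a : pullback V.hom f1 ⟶ W := pullback.fst V.hom f1
  let b : pullback V.hom f1 ⟶ pullback U.ι sp := pullback.snd V.hom f1
  have H : IsPullback a (b ≫ f2) w sp :=
    (IsPullback.of_hasPullback V.hom f1).paste_vert (IsPullback.of_hasPullback U.ι sp)
  let j : pullback V.hom f1 ⟶ Y'.left := el ≫ pullback.fst Y'.hom f2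
  haveI : IsOpenImmersion j := inferInstance
  have hj : j ≫ Y'.hom = b ≫ f2 := by
    show (el ≫ _) ≫ _ = _
    rw [Category.assoc, pullback.condition, ← Category.assoc]
    exact congrArg (· ≫ f2) (Over.w e.hom)
  haveI : IsAffine ((Functor.fromPUnit Xh).obj Y'.right) := (inferInstance : IsAffine Xh)
  haveI : IsAffine Y'.left := isAffine_of_isAffineHom Y'.hom
  haveI : IsAffine ((𝟭 Scheme).obj Y'.left) := (inferInstance : IsAffine Y'.left)
  haveI : IsNoetherianRing Ah := Groth.Agent.S0543.result _ _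
  haveI : IsLocallyNoetherian Y'.left := LocallyOfFiniteType.isLocallyNoetherian (Y := Xh) Y'.hom
  haveI : CompactSpace Y'.left := inferInstance
  haveI : AlgebraicGeometry.IsNoetherian Y'.left := {}
  haveI : TopologicalSpace.NoetherianSpace (pullback V.hom f1 : Scheme.{u}) := j.isOpenEmbedding.isInducing.noetherianSpace
  haveI : IsLocallyNoetherian (pullback V.hom f1) := LocallyOfFiniteType.isLocallyNoetherian j
  haveI : AlgebraicGeometry.IsNoetherian (pullback V.hom f1) := {}
  letI : Algebra A Γ(W, w ⁻¹ᵁ ⊤) := ((Scheme.ΓSpecIso (CommRingCat.of A)).inv ≫ w.app ⊤).hom.toAlgebra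
  haveI : Module.FaithfullyFlat A Ah := Module.FaithfullyFlat.of_flat_of_isLocalHom
  obtain ⟨s0, hs0, S, _, _, φ, hSfin, ⟨eS, heS⟩, hSiso⟩ := Groth.L16.FiniteGlue.exists_model A (Ah := Ah)
    Groth.L13.Purity.ComplAlg.completion_dense w Y'.hom a (b ≫ f2) H j hj (fun η hη2 => by
    have hη4 : η ∈ Set.range (pullback.fst Y'.hom f2) := by
      rw [IsOpenImmersion.range_pullbackFst]
      show Y'.hom η ∈ Set.range (pullback.snd U.ι sp)
      rw [IsOpenImmersion.range_pullbackSnd, Scheme.Opens.opensRange_ι]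
      exact hη2
    obtain ⟨q', hq'⟩ := hη4
    obtain ⟨q'', rfl⟩ := el.surjective q'
    exact ⟨q'', by rw [← hq']; rfl⟩)
  have hsm : ∀ h ∈ s0, h ∈ IsLocalRing.maximalIdeal A := fun h hh => hs0 ▸ Ideal.subset_span hh
  have hcov : ∀ q : X, q ∈ U → ∃ h ∈ s0, q ∈ (PrimeSpectrum.basicOpen h : X.Opens) := fun q hq => by
    have : ¬ (Ideal.span (s0 : Set A) ≤ q.asIdeal) := by
      rw [show Ideal.span (s0 : Set A) = _ from hs0]
      intro hle
      exact hq (PrimeSpectrum.ext ((IsLocalRing.maximalIdeal.isMaximal A).eq_of_le q.isPrime.ne_top hle).symm)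
    rw [Ideal.span_le] at this
    obtain ⟨h, hh, hhq⟩ := Set.not_subset.1 this
    exact ⟨h, hh, hhq⟩
  have hleU : ∀ h ∈ s0, (PrimeSpectrum.basicOpen h : X.Opens) ≤ U := fun h hh q hq => by
    show q ≠ IsLocalRing.closedPoint A
    rintro rfl
    exact hq (hsm h hh)
  obtain ⟨i, hio, hiy, hir⟩ := Groth.L16.FiniteGlue.exists_openImmersion w s0
    (fun p => hcov _ (V.hom p).2) (fun h hh => by
      rw [Scheme.Hom.comp_preimage]
      exact ((IsAffineOpen.Spec_basicOpen h).preimage_of_isOpenImmersion U.ι (by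
        rw [Scheme.Opens.opensRange_ι]; exact hleU h hh)).preimage V.hom) S φ hSiso
  haveI := hio
  let y : Spec (CommRingCat.of S) ⟶ X := Spec.map (CommRingCat.ofHom (algebraMap A S))
  refine ⟨Over.mk y, (IsFinite.SpecMap_iff _).2 (RingHom.finite_algebraMap.2 hSfin), ⟨?_⟩, ⟨?_⟩⟩
  · have hp : IsPullback V.hom i U.ι y := IsOpenImmersion.isPullback V.hom i U.ι y hiy (by
      rw [Scheme.Opens.opensRange_ι]
      refine le_antisymm (fun η hη => ?_) ?_
      · obtain ⟨h, hh, hp⟩ := hcov (y η) hη
        exact hir η ⟨h, hh, hp⟩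
      · rintro _ ⟨q, rfl⟩
        show y (i q) ∈ U
        rw [← Scheme.Hom.comp_apply, hiy]
        exact (V.hom q).2)
    exact Over.isoMk hp.flip.isoPullback.symm (hp.flip.isoPullback_inv_snd)
  · let c : Spec (CommRingCat.of (TensorProduct A S Ah)) ≅ Y'.left :=
      Scheme.Spec.mapIso eS.symm.op ≪≫ Y'.left.isoSpec.symm
    have hc : c.hom ≫ Y'.hom = Spec.map (CommRingCat.ofHom
        (Algebra.TensorProduct.includeRight : Ah →ₐ[A] TensorProduct A S Ah).toRingHom) := by
      have e1 : Y'.left.isoSpec.inv ≫ Y'.hom = Spec.map ((Scheme.ΓSpecIso (CommRingCat.of Ah)).inv ≫ Y'.hom.appTop) := by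
        rw [Iso.inv_comp_eq, Spec.map_comp]
        erw [Scheme.isoSpec_hom_naturality_assoc]
        rw [← Scheme.isoSpec_Spec_inv, Iso.hom_inv_id, Category.comp_id]
      show (Spec.map eS.inv ≫ Y'.left.isoSpec.inv) ≫ Y'.hom = _
      rw [Category.assoc]
      erw [e1]
      rw [← heS, ← Spec.map_comp, Category.assoc, Iso.hom_inv_id, Category.comp_id]
    refine Over.isoMk (pullbackSpecIso A S Ah ≪≫ c) ?_
    show ((pullbackSpecIso A S Ah).hom ≫ c.hom) ≫ Y'.hom = pullback.snd _ _
    rw [Category.assoc, hc]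
    exact pullbackSpecIso_hom_snd A S Ah
end Groth.Agent.S1138
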