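import Groth.Statements.S11380
import Groth.Agent.L04.CohDimVan.InfiniteCoh
import Groth.Agent.L22.SchemeDim

set_option autoImplicit false
set_option linter.style.haveILetI false
universe u
open CategoryTheory CategoryTheory.Limits AlgebraicGeometry TopologicalSpace
open CohDim

namespace Groth.Agent.S11380

/-- Let X be proper and integral over an algebraically closed field k, of dimension n, with all local
rings regular and carrying an ample invertible O_X-module, let U be an open subscheme and r ≥ 0 such
that H^i(U, F) is finite-dimensional over k for every coherent O_U-module F and every i > r. Then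
every irreducible component Z of Y = X ∖ U has dimension at least n - r - 1. -/
theorem result (k : Type u) [Field k] [IsAlgClosed k] (X : Scheme.{u})
    [X.Over (Spec (CommRingCat.of k))] [IsProper (X ↘ (Spec (CommRingCat.of k)))] [IsIntegral X]
    (hreg : ∀ x : X, IsRegularLocalRing (X.presheaf.stalk x))
    (A : X.Modules) (hA : CohB1.IsAmple A)
    (n : ℕ) (hdim : topologicalKrullDim X = n) (U : X.Opens) (r : ℕ)
    (hq : ∀ F : (U : Scheme.{u}).Modules, Coh.IsCoh F → ∀ i : ℕ, r < i →
      Module.Finite k (Coh.HH (U : Scheme.{u}) F i))
    (Z : Set ((U : Set X)ᶜ : Set X)) (hZ : Z ∈ irreducibleComponents ((U : Set X)ᶜ : Set X)) :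
    (n : WithBot ℕ∞) ≤ topologicalKrullDim Z + ((r + 1 : ℕ) : WithBot ℕ∞) := by
  by_contra hcon
  have hle : topologicalKrullDim Z ≤ (n : WithBot ℕ∞) :=
    ((Topology.IsInducing.subtypeVal.topologicalKrullDim_le).trans
      Topology.IsInducing.subtypeVal.topologicalKrullDim_le).trans hdim.le
  haveI : Nonempty Z := hZ.1.nonempty.to_subtype
  have h0 := Groth.L06.Dim.nonneg (X := Z)
  obtain ⟨c, hc⟩ : ∃ c : ℕ, topologicalKrullDim Z = c := by
    revert hle h0
    generalize topologicalKrullDim Z = D
    intro hle h0
    induction D using WithBot.recBotCoe with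
    | bot => simp at h0
    | coe e =>
      induction e using ENat.recTopCoe with
      | top => exact absurd (WithBot.coe_le_coe.1 hle) (by simp)
      | coe c => exact ⟨c, rfl⟩
  have hlt : c + (r + 1) < n := by
    rw [hc, not_le] at hcon
    exact_mod_cast hcon
  obtain ⟨F, hF, i, hi, hinf⟩ :=
    Groth.L04.InfiniteCoh.exists_infinite k X n hdim U Z hZ c hc.le (by omega)
  exact hinf (hq F hF i (by omega))

end Groth.Agent.S11380
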