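import Groth.Statements.S11382
import Groth.Agent.L13.YBlow.Main
import Groth.Agent.L08.Cube.DivSection
import Groth.Agent.L13.PointBlow.Twist
import Groth.Agent.L19.AmpleAffineLocus
import Groth.Agent.L19.DivisorDifference

set_option autoImplicit false
universe u
open CategoryTheory CategoryTheory.Limits AlgebraicGeometry TopologicalSpace
open Variety

set_option backward.isDefEq.respectTransparency false
set_option backward.isDefEq.respectTransparency.types false

namespace Groth.Agent.S11382

open Groth.L18.Frame (rs IsFrame)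
open Groth.L18.GenLoc (secOf)

/-- A section generating on a schematically dense open is regular. -/
theorem isReg_of_schDominant {X : Scheme.{u}} {L : X.Modules} (s : Coh.structureModule X ⟶ L) {W : Scheme.{u}}
    (e : W ⟶ X) [IsSchemeTheoreticallyDominant e] [QuasiCompact e] (h : e ⁻¹ᵁ CohB1.genLocus L s = ⊤) :
    Groth.L19.DivisorDifference.IsReg s := by
  intro V _ v a hv ha
  have hu : IsUnit (e.app V a) := by
    refine W.toRingedSpace.isUnit_of_isUnit_germ _ _ fun x hx => ?_
    refine (W.mem_basicOpen _ x hx).1 ?_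
    rw [← e.preimage_basicOpen, ← Groth.L18.GenLoc.genLocus_inf_eq s hv ha, Scheme.Hom.preimage_inf, h]
    exact ⟨trivial, hx⟩
  refine mem_nonZeroDivisors_iff_right.2 fun x hx => e.app_injective V ?_
  have h0 := congrArg (e.app V) hx
  rw [map_mul, map_zero, hu.mul_left_eq_zero] at h0
  rw [h0, map_zero]

/-- Let X be proper and integral over an algebraically closed field k and U ⊆ X an open subset with
closed complement Y. Then U is affine if and only if there exist a closed subscheme Z of X, defined
by a quasi-coherent ideal 𝓙 with support contained in Y, and a blowing-up f : X' ⟶ X of X in Z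
(characterised by its universal property; X' is again proper over k), such that f⁻¹(Y) is the
support of an effective Cartier divisor D on X' admitting an ample invertible module O_{X'}(D), i.e.
an ample tensor inverse of the ideal of D. -/
theorem result (k : Type u) [Field k] [IsAlgClosed k] (X : Scheme.{u})
    [X.Over (Spec (CommRingCat.of k))] [IsProper (X ↘ (Spec (CommRingCat.of k)))] [IsIntegral X]
    (U : X.Opens) :
    IsAffineOpen U ↔
      ∃ 𝓙 : X.IdealSheafData, (𝓙.support : Set X) ⊆ (U : Set X)ᶜ ∧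
        ∃ (X' : Scheme.{u}) (f : X' ⟶ X), BlowUp.IsBlowUp f 𝓙 ∧
          IsProper (f ≫ (X ↘ (Spec (CommRingCat.of k)))) ∧
          ∃ (D : X'.IdealSheafData) (L : X'.Modules), BlowUp.IsEffCartierIdeal D ∧
            (D.support : Set X') = (fun x => f x) ⁻¹' ((U : Set X)ᶜ) ∧
            ClSub.IsInverseOf L (ClSub.idealMod D) ∧ CohB1.IsAmple L := by
  let S := Spec (CommRingCat.of k)
  let g : X ⟶ S := X ↘ S
  constructor
  · intro hU
    rcases (U : Set X).eq_empty_or_nonempty with hU0 | hU0
    · let f : (∅ : Scheme.{u}) ⟶ X := Scheme.emptyTo X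
      have hE : ∀ I : (∅ : Scheme.{u}).IdealSheafData, BlowUp.IsEffCartierIdeal I := fun I x => isEmptyElim x
      have hf : BlowUp.IsBlowUp f ⊥ := by
        refine ⟨hE _, fun T t ht => ?_⟩
        have hbot : Scheme.IdealSheafData.comap (⊥ : X.IdealSheafData) t = ⊥ := by simp
        haveI : IsEmpty T := ⟨fun x => by
          rw [hbot] at ht
          obtain ⟨V, hxV, a, ha, hI⟩ := ht x
          haveI : Nonempty V.1 := ⟨⟨x, hxV⟩⟩
          rw [Scheme.IdealSheafData.ideal_bot, Pi.bot_apply, eq_comm, Ideal.span_singleton_eq_bot] at hI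
          exact zero_ne_one (α := Γ(T, V.1)) ((mem_nonZeroDivisors_iff_right.1 ha 1 (by rw [hI, mul_zero])).symm)⟩
        exact ⟨(isInitialOfIsEmpty (X := T)).to _, isInitialOfIsEmpty.hom_ext _ _,
          fun _ _ => isInitialOfIsEmpty.hom_ext _ _⟩
      obtain ⟨N, s, hN, ⟨eN⟩, -⟩ := Groth.L08.Cube.exists_section_of_effCartier _ (hE ⊤)
      refine ⟨⊥, by rw [hU0, Set.compl_empty]; exact Set.subset_univ _, ∅, f, hf, ?_, ⊤, N, hE _, ?_,
        ⟨Groth.L00.Tensor.tensorComm _ _ ≪≫ eN⟩, hN, inferInstance, fun x => isEmptyElim x⟩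
      · haveI : IsFinite (f ≫ g) := inferInstance
        exact inferInstanceAs (IsProper (f ≫ g))
      · ext x
        exact isEmptyElim x
    · haveI : IsAffine ↑U := hU
      haveI : IsAffineHom (U.ι ≫ g) := isAffineHom_of_isAffine _
      haveI : CompactSpace X := QuasiCompact.compactSpace_of_compactSpace g
      haveI : QuasiSeparatedSpace X := quasiSeparatedSpace_of_quasiSeparated g
      haveI : IsProper g := inferInstanceAs (IsProper (X ↘ S))
      haveI : QuasiCompact U.ι := QuasiCompact.of_comp U.ι g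
      obtain ⟨P, q, d₁, e, he, M, σ, hq, -, hd₁, hed, hedom, heq, hM, hσ⟩ :=
        Groth.L13.YBlow.exists_model g U.ι
      haveI := he; haveI := hq; haveI := hedom; haveI := heq
      haveI : IsProper (d₁ ≫ g) := by rw [hd₁]; infer_instance
      haveI : IsProper d₁ := IsProper.of_comp d₁ g
      have her : Set.range e ⊆ Set.range (d₁ ⁻¹ᵁ U).ι := by
        rw [Scheme.Opens.range_ι]
        rintro _ ⟨x, rfl⟩
        show d₁ (e x) ∈ U
        rw [← Scheme.Hom.comp_apply, hed]
        exact x.2
      let e' := IsOpenImmersion.lift (d₁ ⁻¹ᵁ U).ι e her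
      have he' : e' ≫ (d₁ ⁻¹ᵁ U).ι = e := IsOpenImmersion.lift_fac _ _ _
      have hid : e' ≫ (d₁ ∣_ U) = 𝟙 _ := by
        rw [← cancel_mono U.ι, Category.assoc, morphismRestrict_ι, reassoc_of% he', hed, Category.id_comp]
      haveI : IsClosedImmersion (e' ≫ (d₁ ∣_ U)) := by rw [hid]; infer_instance
      haveI : IsClosedImmersion e' := IsClosedImmersion.of_comp e' (d₁ ∣_ U)
      haveI : IsOpenImmersion (e' ≫ (d₁ ⁻¹ᵁ U).ι) := by rw [he']; infer_instance
      haveI : IsOpenImmersion e' := IsOpenImmersion.of_comp e' (d₁ ⁻¹ᵁ U).ι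
      have hre : Set.range e = (d₁ ⁻¹ᵁ U).ι '' Set.range e' := by
        rw [← Set.range_comp]; exact congrArg (fun m : (U : Scheme) ⟶ P => Set.range m) he'.symm
      haveI : Surjective e' := ⟨fun y => by
        have h1 : closure (Set.range e') = Set.univ := by
          have h2 := (d₁ ⁻¹ᵁ U).ι.isOpenEmbedding.isOpenMap.preimage_closure_eq_closure_preimage
            (d₁ ⁻¹ᵁ U).ι.continuous (Set.range e)
          rw [e.denseRange.closure_eq, Set.preimage_univ, hre,
            Set.preimage_image_eq _ (d₁ ⁻¹ᵁ U).ι.isOpenEmbedding.injective] at h2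
          exact h2.symm
        have h3 := e'.isClosedEmbedding.isClosed_range.closure_eq
        exact h3.subset (h1.symm ▸ Set.mem_univ y)⟩
      haveI : IsIso e' := by
        haveI : Epi e'.base := (TopCat.epi_iff_surjective _).2 e'.surjective
        exact IsOpenImmersion.isIso e'
      haveI : IsIso (d₁ ∣_ U) := IsIso.of_isIso_fac_left hid
      have hrange : CohB1.genLocus M σ = d₁ ⁻¹ᵁ U := by
        rw [hσ]
        refine Opens.ext ?_
        show Set.range e = _
        rw [hre, e'.surjective.range_eq, Set.image_univ, Scheme.Opens.range_ι]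
      obtain ⟨J, X₂, T₂, b, c, h, hb, hc, hJ, hJs, hh, hhb⟩ :=
        Groth.L13.Nagata.exists_isIso_blowUps d₁ U hU.isCompact
      haveI := hh
      haveI := Groth.L13.BU.isProper_blowUp hb hJ.1
      haveI := Groth.L13.BU.isProper_blowUp hc (Groth.L13.Nagata.isFiniteType_comap hJ.1 d₁)
      obtain ⟨M', σ', hM', hσ'⟩ := Groth.L13.YBlow.exists_ample_section_blowUp q hM σ hc
        (Groth.L13.Nagata.isFiniteType_comap hJ.1 d₁) (by
          rw [Scheme.IdealSheafData.support_comap, hrange]
          exact hJ.2.preimage d₁)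
      have hMi := Groth.L19.YBlowUp.isInvertible_of_isRelAmple hM'
      let L := (Scheme.Modules.pullback (inv h)).obj M'
      let τ : Coh.structureModule X₂ ⟶ L := Groth.L18.Ample.pullHom (inv h) σ'
      have hL : PicF.IsInvertible L := Groth.L18.Ample.isInvertible_pullback (inv h) hMi
      have hA : CohB1.IsAmple L := by
        haveI : CompactSpace X₂ := QuasiCompact.compactSpace_of_compactSpace (b ≫ g)
        exact Groth.L18.Ample.isAmple_pullback_of_isInducing (inv h) (inv h).isOpenEmbedding.isInducing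
          (Groth.L18.Ample.isAmple_of_isRelAmple hM')
      have hτ : CohB1.genLocus L τ = b ⁻¹ᵁ U := by
        rw [Groth.L18.Ample.genLocus_pullHom _ hMi, hσ', hrange, ← Scheme.Hom.comp_preimage,
          ← Scheme.Hom.comp_preimage]
        refine congrArg (fun m : X₂ ⟶ X => m ⁻¹ᵁ U) ?_
        rw [← cancel_epi h, Category.assoc, IsIso.hom_inv_id_assoc, hhb]
      haveI : IsSchemeTheoreticallyDominant (b ⁻¹ᵁ U).ι := by
        have h' := Groth.L07.BlowLib.schDominant_compl hb
        have e₂ : J.support.compl = U := Opens.ext (show (J.support : Set X)ᶜ = U by rw [hJs, compl_compl])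
        rwa [e₂] at h'
      haveI : QuasiCompact (b ⁻¹ᵁ U).ι :=
        MorphismProperty.of_isPullback (isPullback_morphismRestrict b U) inferInstance
      have hreg : Groth.L19.DivisorDifference.IsReg τ := isReg_of_schDominant τ (b ⁻¹ᵁ U).ι (by
        rw [hτ, Scheme.Opens.ι_preimage_self])
      obtain ⟨eL⟩ := Groth.L19.DivisorDifference.nonempty_tensor_zeroScheme hL hreg
      refine ⟨J, hJs.le, X₂, b, hb, inferInstanceAs (IsProper (b ≫ g)), PicF2.zeroScheme L τ, L,
        Groth.L19.DivisorDifference.isEffCartier_zeroScheme hL hreg, ?_, ⟨Groth.L00.Tensor.tensorComm _ _ ≪≫ eL⟩, hA⟩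
      rw [Groth.L22.ZeroScheme.support_zeroScheme hL, hτ]
      rfl
  · rintro ⟨J, hJ, X', f, hf, hp, D, L, hD, hDs, ⟨eL⟩, hA⟩
    obtain ⟨N, s, -, ⟨eN⟩, hs⟩ := Groth.L08.Cube.exists_section_of_effCartier D hD
    obtain ⟨iso⟩ := Groth.L13.PointBlow.inverse_unique eL (Groth.L00.Tensor.tensorComm N _ ≪≫ eN)
    have h := Groth.L19.AmpleAffine.isAffineOpen_genLocus (f ≫ g) (Groth.L18.Ample.isAmple_of_iso iso hA) s
    have hd : Disjoint (J.support : Set X) (U : Set X) := Set.subset_compl_iff_disjoint_right.1 hJ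
    haveI := Groth.L13.Nagata.isIso_restrict_of_admissible hf hd
    have hU : CohB1.genLocus N s = f ⁻¹ᵁ U := Opens.ext (by
      rw [hs, hDs, ← Set.preimage_compl, compl_compl]; rfl)
    haveI : IsAffine ↑(f ⁻¹ᵁ U) := hU ▸ h
    exact IsAffine.of_isIso (inv (f ∣_ U))

end Groth.Agent.S11382
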