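import Groth.Statements.S11383
import Groth.Agent.L13.LefInter.Main
-- import your own Groth.Agent.* helpers here

set_option autoImplicit false
set_option backward.isDefEq.respectTransparency false
set_option linter.style.haveILetI false
set_option backward.isDefEq.respectTransparency.types false
universe u
open CategoryTheory CategoryTheory.Limits AlgebraicGeometry TopologicalSpace
open Lef

namespace Groth.Agent.S11383

/-- Let X be proper and integral over an algebraically closed field k, of dimension n, with all local
rings regular and carrying an ample invertible O_X-module, and let 𝓘 be a quasi-coherent ideal whose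
zero set Y is, as a set, the intersection of the supports of m effective Cartier divisors D_1, …,
D_m with m + 1 ≤ n, each D_j having an ample invertible module O_X(D_j) (an ample tensor inverse of
its ideal). Then the Lefschetz condition Lef(X, Y) holds. -/
theorem result (k : Type u) [Field k] [IsAlgClosed k] (X : Scheme.{u})
    [X.Over (Spec (CommRingCat.of k))] [IsProper (X ↘ (Spec (CommRingCat.of k)))] [IsIntegral X]
    (hreg : ∀ x : X, IsRegularLocalRing (X.presheaf.stalk x))
    (A : X.Modules) (hA : CohB1.IsAmple A)
    (n : ℕ) (hdim : topologicalKrullDim X = n) (m : ℕ) (hm : m + 1 ≤ n)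
    (D : Fin m → X.IdealSheafData) (L : Fin m → X.Modules)
    (hD : ∀ j, BlowUp.IsEffCartierIdeal (D j)) (hL : ∀ j, ClSub.IsInverseOf (L j) (ClSub.idealMod (D j)))
    (hLa : ∀ j, CohB1.IsAmple (L j))
    (𝓘 : X.IdealSheafData) (hY : (𝓘.support : Set X) = ⋂ j, ((D j).support : Set X)) :
    Lef.LefCond X 𝓘 := by
  have hdep : ∀ (x : X) (j : ℕ), (j : WithBot ℕ∞) ≤ ringKrullDim (X.presheaf.stalk x) →
      (j : ℕ∞) ≤ LocCoh.depth (X.presheaf.stalk x) (X.presheaf.stalk x) := fun x j h => by
    haveI := hreg x
    exact Groth.L18.LocPic.le_depth_of_le_dim (R := X.presheaf.stalk x) [] (by simp)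
      (RingTheory.Sequence.IsWeaklyRegular.nil _ _) (RingHom.id _) Function.surjective_id
      (by rw [Ideal.ofList_nil]; exact (RingHom.injective_iff_ker_eq_bot _).1 fun _ _ h => h) (k := j) h
  refine Groth.L13.LefInter.lefCond_of_good k hA m D
    (fun j => Groth.L13.LefInter.good_of_inverse (hL j) (hLa j)) (fun x hx => ?_) (fun x hx => ?_) 𝓘 hY
  · obtain ⟨b, hb, hn⟩ := Groth.L13.LefInter.dim_stalk_add_cdim k hdim x
    rw [Groth.L13.LefInter.cdim_eq_zero_of_isClosed k hx, zero_add] at hn
    refine hdep x (m + 1) ?_
    rw [hb]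
    exact_mod_cast (show m + 1 ≤ b by omega)
  · obtain ⟨b, hb, hn⟩ := Groth.L13.LefInter.dim_stalk_add_cdim k hdim x
    refine hdep x 2 ?_
    rw [hb]
    exact_mod_cast (show 2 ≤ b by omega)

end Groth.Agent.S11383
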