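import Groth.Statements.S11386
import Groth.Agent.L04.CohDimVan.InfiniteCoh
import Groth.Agent.L04.CohDimVan.CompleteInt

set_option autoImplicit false
set_option linter.style.haveILetI false
universe u
open CategoryTheory CategoryTheory.Limits AlgebraicGeometry TopologicalSpace
open CohDim

namespace Groth.Agent.S11386

/-- Let k be an algebraically closed field and Y ⊆ P = P^n_k a closed subset of dimension s with s + 1 ≤
n which is a set-theoretic complete intersection, i.e. the common zero set of n - s homogeneous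
forms of positive degrees; let U = P ∖ Y. Then cd(U) = q(U) = n - s - 1: H^i(U, F) = 0 for every
coherent O_U-module F and every i > n - s - 1, while H^{n-s-1}(U, F) is infinite-dimensional over k
for some coherent O_U-module F. -/
theorem result (k : Type u) [Field k] [IsAlgClosed k] (n : ℕ) (s : ℕ) (hs : s + 1 ≤ n)
    (a : Fin (n - s) → ℕ) (ha : ∀ j, 1 ≤ a j) (G : ∀ j : Fin (n - s), LefPen.Form n k (a j))
    (hdim : topologicalKrullDim ((LefPen.ciIdeal G).support : Set (CohB1.ProjSpace n k)) = s)
    (U : (CohB1.ProjSpace n k).Opens)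
    (hU : (U : Set (CohB1.ProjSpace n k)) = ((LefPen.ciIdeal G).support : Set (CohB1.ProjSpace n k))ᶜ) :
    (∀ F : (U : Scheme.{u}).Modules, Coh.IsCoh F → ∀ i : ℕ, n - s - 1 < i →
        Subsingleton (Coh.HH (U : Scheme.{u}) F i)) ∧
      ∃ F : (U : Scheme.{u}).Modules, Coh.IsCoh F ∧
        ¬ Module.Finite k (Coh.HH (U : Scheme.{u}) F (n - s - 1)) := by
  haveI : IsProper (CohB1.ProjSpace n k ↘ Spec (CommRingCat.of k)) :=
    inferInstanceAs (IsProper (CohB1.ProjSpace.toSpec n k))
  haveI : IsIntegral (CohB1.ProjSpace n k) := Groth.L16.ProjSpace.isIntegral (n := n) (R := k)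
  haveI : (CohB1.ProjSpace n k).IsSeparated :=
    ⟨by rw [← terminal.comp_from (CohB1.ProjSpace.toSpec n k)]; infer_instance⟩
  have hP : topologicalKrullDim (CohB1.ProjSpace n k) = n :=
    Groth.L16.ProjSpace.topologicalKrullDim_eq_of_field n k
  let V : Fin (n - s) → (CohB1.ProjSpace n k).Opens := fun j =>
    Proj.basicOpen (CohB1.polyGrading n k) (G j).1
  have hV : ∀ j, IsAffineOpen (V j) := fun j => Proj.isAffineOpen_basicOpen _ _ (G j).2 (ha j)
  have hUV : U = ⨆ j, V j := by
    refine Opens.ext ?_
    rw [hU, Groth.L04.CompleteInt.compl_support_ciIdeal, Opens.coe_iSup]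
  have hvan : ∀ F : (U : Scheme.{u}).Modules, Coh.IsCoh F → ∀ i : ℕ, n - s - 1 < i →
      Subsingleton (Coh.HH (U : Scheme.{u}) F i) := fun F hF i hi => by
    haveI := hF.1
    exact Groth.L04.CompleteInt.subsingleton_of_cover U V hV hUV F i (by omega)
  refine ⟨hvan, ?_⟩
  have hY : topologicalKrullDim ((U : Set (CohB1.ProjSpace n k))ᶜ : Set (CohB1.ProjSpace n k)) = s := by
    rw [hU, compl_compl]
    exact hdim
  by_cases hn : s + 2 ≤ n
  · haveI : Nonempty ((U : Set (CohB1.ProjSpace n k))ᶜ : Set (CohB1.ProjSpace n k)) := by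
      by_contra he
      rw [not_nonempty_iff] at he
      rw [Groth.L06.Dim.eq_bot] at hY
      exact WithBot.natCast_ne_bot s hY.symm
    obtain ⟨x⟩ := (inferInstance : Nonempty ((U : Set (CohB1.ProjSpace n k))ᶜ : Set (CohB1.ProjSpace n k)))
    obtain ⟨F, hF, i, hi, hinf⟩ := Groth.L04.InfiniteCoh.exists_infinite k (CohB1.ProjSpace n k) n hP U
      (irreducibleComponent x) (irreducibleComponent_mem_irreducibleComponents x) s
      ((Topology.IsInducing.subtypeVal.topologicalKrullDim_le).trans hY.le) hn
    have hi' : i = n - s - 1 := by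
      by_contra h
      haveI := hvan F hF i (by omega)
      exact hinf inferInstance
    exact ⟨F, hF, hi' ▸ hinf⟩
  · have hns : n - s - 1 = 0 := by omega
    rw [hns]
    refine ⟨Coh.structureModule (U : Scheme.{u}), ?_, fun hfin => ?_⟩
    · haveI : IsLocallyNoetherian (CohB1.ProjSpace n k) :=
        LocallyOfFiniteType.isLocallyNoetherian (CohB1.ProjSpace n k ↘ Spec (CommRingCat.of k))
      exact Groth.L16.CohClosedPush.isCoh_structure
    · have hne : (U : Set (CohB1.ProjSpace n k)).Nonempty := by
        rw [Set.nonempty_iff_ne_empty]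
        intro he
        rw [he, Set.compl_empty] at hY
        rw [IsHomeomorph.topologicalKrullDim_eq _ (Homeomorph.Set.univ (CohB1.ProjSpace n k)).isHomeomorph,
          hP] at hY
        have : n = s := by exact_mod_cast hY
        omega
      obtain ⟨x, hx⟩ := hne
      haveI : Nonempty (U : Scheme.{u}) := ⟨⟨x, hx⟩⟩
      haveI : IsIntegral (U : Scheme.{u}) := isIntegral_of_isOpenImmersion U.ι
      haveI : IsAffine (U : Scheme.{u}) := by
        have hUj : U = V ⟨0, by omega⟩ := by
          rw [hUV]
          exact le_antisymm (iSup_le fun j => le_of_eq (congrArg V (Fin.ext (show j.1 = 0 by omega))))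
            (le_iSup V _)
        show IsAffineOpen U
        rw [hUj]
        exact hV _
      haveI := hfin
      have h0 := Groth.L04.CompleteInt.dim_eq_zero_of_finite k (U : Scheme.{u})
      obtain ⟨m, hm, -, hU'⟩ := Groth.L22.SchemeDim.exists_dim_eq_trdeg k (CohB1.ProjSpace n k)
      have h1 : topologicalKrullDim U = n := (hU' U ⟨x, hx⟩).trans (hm.symm.trans hP)
      have : (0 : ℕ) = n := by exact_mod_cast h0.symm.trans h1
      omega

end Groth.Agent.S11386
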