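import Groth.Statements.S11389
import Groth.Agent.L17.GenericTrivPush

set_option backward.isDefEq.respectTransparency false
set_option backward.isDefEq.respectTransparency.types false
set_option linter.style.haveILetI false

set_option autoImplicit false
universe u
open CategoryTheory CategoryTheory.Limits AlgebraicGeometry TopologicalSpace
open Variety

namespace Groth.Agent.S11389

/-- Let k be an algebraically closed field, X and Y integral schemes separated and of finite type over
k, and f : X ⟶ Y a finite surjective k-morphism of degree m = [K(X) : K(Y)], computed as the rank of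
the stalk of f_*O_X at the generic point of Y over the function field K(Y). Then for every coherent
O_Y-module F there exist a coherent O_X-module G and a morphism u : f_*G ⟶ F^{⊕m} whose restriction
to some open neighbourhood of the generic point of Y is an isomorphism. -/
theorem result
    (k : Type u) [Field k] [IsAlgClosed k] (X Y : Scheme.{u})
    [X.Over (Spec (CommRingCat.of k))] [Y.Over (Spec (CommRingCat.of k))]
    [IsSeparated (X ↘ (Spec (CommRingCat.of k)))] [LocallyOfFiniteType (X ↘ (Spec (CommRingCat.of k)))]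
    [IsSeparated (Y ↘ (Spec (CommRingCat.of k)))] [LocallyOfFiniteType (Y ↘ (Spec (CommRingCat.of k)))]
    [QuasiCompact (Y ↘ (Spec (CommRingCat.of k)))]
    [IsIntegral X] [IsIntegral Y] (f : X ⟶ Y) [IsFinite f] [Surjective f]
    (hf : f ≫ (Y ↘ (Spec (CommRingCat.of k))) = X ↘ (Spec (CommRingCat.of k)))
    (F : Y.Modules) (hF : Coh.IsCoh F) :
    ∃ (G : X.Modules) (u : (Scheme.Modules.pushforward f).obj G ⟶
        ∐ fun _ : Fin (Module.finrank (Y.functionField)
            (((Scheme.Modules.pushforward f).obj (Coh.structureModule X)).presheaf.stalk (genericPoint Y))) => F),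
      Coh.IsCoh G ∧ ∃ V : Y.Opens, genericPoint Y ∈ V ∧
        IsIso ((Scheme.Modules.restrictFunctor V.ι).map u) := by
  haveI : IsLocallyNoetherian Y := LocallyOfFiniteType.isLocallyNoetherian (Y ↘ Spec (CommRingCat.of k))
  haveI : CompactSpace Y := QuasiCompact.compactSpace_of_compactSpace (Y ↘ Spec (CommRingCat.of k))
  haveI : IsNoetherian Y := {}
  haveI : IsLocallyNoetherian X := LocallyOfFiniteType.isLocallyNoetherian f
  let B := (Scheme.Modules.pushforward f).obj (Coh.structureModule X)
  have hB : Coh.IsCoh B :=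
    Groth.L07.PrinParts.isCoh_pushforward_finite f Groth.L16.CohClosedPush.isCoh_structure
  let G₀ : X.Modules := ∐ fun _ : Fin (Groth.L17.GenericTrivPush.dim F) => Coh.structureModule X
  have hG₀ : Coh.IsCoh G₀ :=
    Groth.L16.Devissage.isCoh_sigma _ fun _ => Groth.L16.CohClosedPush.isCoh_structure
  haveI := hG₀.1
  haveI : (Scheme.Modules.pushforward f).Additive := inferInstance
  let e₀ : (Scheme.Modules.pushforward f).obj G₀ ≅ ∐ fun _ : Fin (Groth.L17.GenericTrivPush.dim F) => B :=
    (Scheme.Modules.pushforward f).mapIso (biproduct.isoCoproduct _).symm ≪≫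
      Functor.mapBiproduct (Scheme.Modules.pushforward f)
          (fun _ : Fin (Groth.L17.GenericTrivPush.dim F) => Coh.structureModule X) ≪≫
        biproduct.isoCoproduct _
  have hd : Groth.L17.GenericTrivPush.dim ((Scheme.Modules.pushforward f).obj G₀) =
      Groth.L17.GenericTrivPush.dim (∐ fun _ : Fin (Groth.L17.GenericTrivPush.dim B) => F) := by
    rw [Groth.L17.GenericTrivPush.dim_congr e₀, Groth.L17.GenericTrivPush.dim_sigma B hB,
      Groth.L17.GenericTrivPush.dim_sigma F hF, mul_comm]
  have hS : Coh.IsCoh (∐ fun _ : Fin (Groth.L17.GenericTrivPush.dim B) => F) :=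
    Groth.L16.Devissage.isCoh_sigma (fun _ : Fin (Groth.L17.GenericTrivPush.dim B) => F) fun _ => hF
  obtain ⟨I, φ, hφ⟩ := Groth.L17.GenericTrivPush.exists_idealMul_hom_of_dim
    (Groth.L07.PrinParts.isCoh_pushforward_finite f hG₀) hS hd
  obtain ⟨e, -⟩ := Groth.L17.IdealMulPush.exists_iso f G₀ I
  let G : X.Modules := (Dual3.idealMul (I.comap f)).obj G₀
  have hG : Coh.IsCoh G := Groth.L17.IdealMulSec.isCoh_idealMul _ _ hG₀
  let u : (Scheme.Modules.pushforward f).obj G ⟶ ∐ fun _ : Fin (Groth.L17.GenericTrivPush.dim B) => F :=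
    e.inv ≫ φ
  have hu : IsIso ((Groth.L21.Mod.stalkF Y (genericPoint Y)).map u) := by
    rw [Functor.map_comp]
    haveI := hφ
    infer_instance
  obtain ⟨V, hV, hiso⟩ := Groth.L17.StalkSpread.exists_isIso hS
    (Groth.L07.PrinParts.isCoh_pushforward_finite f hG) u (genericPoint Y) hu
  exact ⟨G, u, hG, V, hV, hiso⟩

end Groth.Agent.S11389
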