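import Groth.Statements.S11390
import Groth.Agent.L17.CDInj.Main

set_option autoImplicit false
universe u
open CategoryTheory CategoryTheory.Limits AlgebraicGeometry TopologicalSpace
open CohDim

set_option backward.isDefEq.respectTransparency false
set_option backward.isDefEq.respectTransparency.types false

namespace Groth.Agent.S11390

/-- Let X be proper and integral over an algebraically closed field k, of dimension n, with all local
rings regular; let 𝓘 be a quasi-coherent ideal with closed subscheme Y, U = X ∖ Y, and r ≥ 0 such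
that H^i(U, F) = 0 for every coherent O_U-module F and every i > r. Then for every i with i + r + 2
≤ n, every family of classes in the H^i(X, O_X/𝓘^{m+1}) compatible under the reduction maps
O_X/𝓘^{m+2} ⟶ O_X/𝓘^{m+1} comes from a class in H^i(X, O_X); together with the injectivity
statement, the canonical map α_i : H^i(X, O_X) → lim_m H^i(X, O_X/𝓘^{m+1}) is bijective. (The
published statement treats every locally free O_X-module and is an equivalence; the surjectivity
clause is written here for O_X only.) -/
theorem result (k : Type u) [Field k] [IsAlgClosed k] (X : Scheme.{u})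
    [X.Over (Spec (CommRingCat.of k))] [IsProper (X ↘ (Spec (CommRingCat.of k)))] [IsIntegral X]
    (hreg : ∀ x : X, IsRegularLocalRing (X.presheaf.stalk x))
    (n : ℕ) (hdim : topologicalKrullDim X = n)
    (𝓘 : X.IdealSheafData) (U : X.Opens) (hU : (U : Set X) = (𝓘.support : Set X)ᶜ) (r : ℕ)
    (hcd : ∀ F : (U : Scheme.{u}).Modules, Coh.IsCoh F → ∀ i : ℕ, r < i →
      Subsingleton (Coh.HH (U : Scheme.{u}) F i)) (i : ℕ) (hi : i + r + 2 ≤ n)
    (y : ∀ m : ℕ, Coh.HH X (ClSub.quotMod (𝓘 ^ (m + 1))) i)
    (hy : ∀ m : ℕ, Sheaf.H.map ((SheafOfModules.toSheaf X.ringCatSheaf).map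
      (Lef.quotMap (Lef.pow_succ_le 𝓘 m))) i (y (m + 1)) = y m) :
    ∃ x : Coh.HH X (Coh.structureModule X) i, ∀ m : ℕ,
      Sheaf.H.map ((SheafOfModules.toSheaf X.ringCatSheaf).map
        (ClSub.toSubscheme (𝓘 ^ (m + 1)))) i x = y m := by
  obtain ⟨-, h⟩ := Groth.L18.OffAffine.limit_bijective 𝓘 i (fun q hq m =>
    Groth.L17.CDInj.exists_proZero 𝓘 k hreg hdim hU hcd (by omega) m)
  exact h y hy

end Groth.Agent.S11390
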