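import Groth.Statements.S11392
import Groth.Agent.L17.CDInj.Main

set_option autoImplicit false
universe u
open CategoryTheory CategoryTheory.Limits AlgebraicGeometry TopologicalSpace
open CohDim

set_option backward.isDefEq.respectTransparency false
set_option backward.isDefEq.respectTransparency.types false

namespace Groth.Agent.S11392

/-- Let X be proper and integral over an algebraically closed field k, of dimension n, with all local
rings regular; let 𝓘 be a quasi-coherent ideal with closed subscheme Y, ι_m : Y_m ⟶ X the closed
subscheme of 𝓘^{m+1}, U = X ∖ Y, and r ≥ 0 such that H^i(U, G) = 0 for every coherent O_U-module G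
and every i > r. Then for every finite locally free O_X-module F and every i with i + r + 1 ≤ n, an
element of H^i(X, F) whose image in H^i(X, ι_{m*} ι_m^* F) under the unit map F ⟶ ι_{m*} ι_m^* F
vanishes for every m is zero; that is, the canonical map from H^i(X, F) to the cohomology of the
formal completion of F along Y is injective. (The published statement is an equivalence and also
asserts surjectivity onto the limit for i + r + 2 ≤ n.) -/
theorem result (k : Type u) [Field k] [IsAlgClosed k] (X : Scheme.{u})
    [X.Over (Spec (CommRingCat.of k))] [IsProper (X ↘ (Spec (CommRingCat.of k)))] [IsIntegral X]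
    (hreg : ∀ x : X, IsRegularLocalRing (X.presheaf.stalk x))
    (n : ℕ) (hdim : topologicalKrullDim X = n)
    (𝓘 : X.IdealSheafData) (U : X.Opens) (hU : (U : Set X) = (𝓘.support : Set X)ᶜ) (r : ℕ)
    (hcd : ∀ G : (U : Scheme.{u}).Modules, Coh.IsCoh G → ∀ i : ℕ, r < i →
      Subsingleton (Coh.HH (U : Scheme.{u}) G i))
    (F : X.Modules) (hF : FlatMod.IsFinLocFree F) (i : ℕ) (hi : i + r + 1 ≤ n)
    (x : Coh.HH X F i)
    (hx : ∀ m : ℕ, Sheaf.H.map ((SheafOfModules.toSheaf X.ringCatSheaf).map
      ((Scheme.Modules.pullbackPushforwardAdjunction (𝓘 ^ (m + 1)).subschemeι).unit.app F)) i x = 0) :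
    x = 0 := by
  exact Groth.L17.CDInj.eq_zero_of_unit 𝓘 k hreg hdim hU hcd hF hi x hx

end Groth.Agent.S11392
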