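import Groth.Statements.S11393
import Groth.Agent.L16.FormalLocal.Basic

set_option autoImplicit false
universe u
open CategoryTheory CategoryTheory.Limits AlgebraicGeometry TopologicalSpace
open Variety

namespace Groth.Agent.S11393

/-- Let X be proper over an algebraically closed field k and 𝓘 a quasi-coherent ideal whose closed
subscheme Y is connected (and nonempty); let Y_m be the closed subscheme of 𝓘^{m+1} and A = lim_m
Γ(Y_m, O_{Y_m}) the ring of formal-regular functions along Y (global sections of the structure sheaf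
of the formal completion), formed as the limit in commutative rings along the restriction maps
Γ(Y_{m+1}, O) → Γ(Y_m, O). Then A is a local ring, and every element a of A differs from the image
of some constant c ∈ k by an element whose image in each Γ(Y_m, O_{Y_m}) is nilpotent (so the
residue field of A is k through the structure map). (The published statement also asserts that A is
a complete local ring; that clause is not included here.) -/
theorem result (k : Type u) [Field k] [IsAlgClosed k] (X : Scheme.{u})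
    [X.Over (Spec (CommRingCat.of k))] [IsProper (X ↘ (Spec (CommRingCat.of k)))]
    (𝓘 : X.IdealSheafData) (hY : _root_.IsConnected (𝓘.support : Set X)) :
    IsLocalRing ↑(limit (Functor.ofOpSequence
        (X := fun m : ℕ => Γ((𝓘 ^ (m + 1)).subscheme, ⊤))
        (fun m : ℕ => (Scheme.IdealSheafData.inclusion (Lef.pow_succ_le 𝓘 m)).appTop))) ∧
      ∀ a : ↑(limit (Functor.ofOpSequence
        (X := fun m : ℕ => Γ((𝓘 ^ (m + 1)).subscheme, ⊤))
        (fun m : ℕ => (Scheme.IdealSheafData.inclusion (Lef.pow_succ_le 𝓘 m)).appTop))),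
        ∃ c : k, ∀ m : ℕ, IsNilpotent (Sub.sub (α := ↑Γ((𝓘 ^ (m + 1)).subscheme, ⊤))
          ((limit.π (Functor.ofOpSequence
              (X := fun m : ℕ => Γ((𝓘 ^ (m + 1)).subscheme, ⊤))
              (fun m : ℕ => (Scheme.IdealSheafData.inclusion (Lef.pow_succ_le 𝓘 m)).appTop)) (Opposite.op m)).hom a)
          (((𝓘 ^ (m + 1)).subschemeι ≫ (X ↘ Spec (CommRingCat.of k))).appTop.hom
            ((Scheme.ΓSpecIso (CommRingCat.of k)).inv.hom c))) := by
  let h := X ↘ Spec (CommRingCat.of k)
  let Z : ℕ → Scheme.{u} := fun m => (𝓘 ^ (m + 1)).subscheme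
  let ι : ∀ m : ℕ, (𝓘 ^ (m + 1)).subscheme ⟶ Spec (CommRingCat.of k) := fun m => (𝓘 ^ (m + 1)).subschemeι ≫ h
  let F : ℕᵒᵖ ⥤ CommRingCat := Functor.ofOpSequence
        (X := fun m : ℕ => Γ((𝓘 ^ (m + 1)).subscheme, ⊤))
        (fun m : ℕ => (Scheme.IdealSheafData.inclusion (Lef.pow_succ_le 𝓘 m)).appTop)
  let φ : ∀ m : ℕ, k →+* Γ((𝓘 ^ (m + 1)).subscheme, ⊤) := fun m =>
    (ι m).appTop.hom.comp (Scheme.ΓSpecIso (CommRingCat.of k)).inv.hom
  haveI hc : ∀ m : ℕ, ConnectedSpace (𝓘 ^ (m + 1)).subscheme := fun m => by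
    have hr := Scheme.IdealSheafData.range_subschemeι (𝓘 ^ (m + 1))
    rw [Scheme.IdealSheafData.support_pow _ _ m.succ_ne_zero] at hr
    rw [← hr, ← Set.image_univ] at hY
    exact connectedSpace_iff_univ.2 ⟨Set.image_nonempty.1 hY.1,
      (𝓘 ^ (m + 1)).subschemeι.isEmbedding.isInducing.isPreconnected_image.1 hY.2⟩
  haveI hnt : ∀ m : ℕ, Nontrivial Γ((𝓘 ^ (m + 1)).subscheme, ⊤) := fun m => by
    obtain ⟨y⟩ := (inferInstance : Nonempty (𝓘 ^ (m + 1)).subscheme)
    exact ((𝓘 ^ (m + 1)).subscheme.presheaf.germ ⊤ y trivial).hom.domain_nontrivial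
  let π : ∀ m : ℕ, ↑(limit F) →+* Γ((𝓘 ^ (m + 1)).subscheme, ⊤) := fun m => (limit.π F (Opposite.op m)).hom
  have hstep : ∀ m : ℕ, ∀ c : k,
      (Scheme.IdealSheafData.inclusion (Lef.pow_succ_le 𝓘 m)).appTop.hom (φ (m + 1) c) = φ m c := fun m c => by
    show ((ι (m + 1)).appTop ≫ (Scheme.IdealSheafData.inclusion (Lef.pow_succ_le 𝓘 m)).appTop).hom _ = _
    rw [← Scheme.Hom.comp_appTop]
    simp only [ι]
    rw [Scheme.IdealSheafData.inclusion_subschemeι_assoc]
    rfl
  have hπ : ∀ (m : ℕ) (a : ↑(limit F)),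
      (Scheme.IdealSheafData.inclusion (Lef.pow_succ_le 𝓘 m)).appTop.hom (π (m + 1) a) = π m a := fun m a => by
    have hw := limit.w F (homOfLE (Nat.le_add_right m 1)).op
    have hmap : F.map (homOfLE (Nat.le_add_right m 1)).op =
        (Scheme.IdealSheafData.inclusion (Lef.pow_succ_le 𝓘 m)).appTop :=
      Functor.ofOpSequence_map_homOfLE_succ _ m
    rw [hmap] at hw
    exact congr($(hw).hom a)
  have key : ∀ a : ↑(limit F), ∃ c : k, ∀ m, IsNilpotent (π m a - φ m c) := by
    intro a
    obtain ⟨c, hc0⟩ := Groth.L16.FormalLocal.exists_isNilpotent_sub k (ι 0) (π 0 a)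
    refine ⟨c, fun m => ?_⟩
    induction m with
    | zero => exact hc0
    | succ m ih =>
      obtain ⟨c', hc'⟩ := Groth.L16.FormalLocal.exists_isNilpotent_sub k (ι (m + 1)) (π (m + 1) a)
      change IsNilpotent (π (m + 1) a - φ (m + 1) c') at hc'
      have h' := hc'.map (Scheme.IdealSheafData.inclusion (Lef.pow_succ_le 𝓘 m)).appTop.hom
      rw [map_sub, hπ, hstep] at h'
      rwa [Groth.L16.FormalLocal.eq_of_isNilpotent_sub (φ m) ih h']
  refine ⟨?_, key⟩
  haveI : Nontrivial ↑(limit F) := (π 0).domain_nontrivial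
  refine IsLocalRing.of_isUnit_or_isUnit_one_sub_self fun a => ?_
  obtain ⟨c, hca⟩ := key a
  have hunit : ∀ (b : ↑(limit F)) (d : k), d ≠ 0 → (∀ m, IsNilpotent (π m b - φ m d)) → IsUnit b := by
    intro b d hd hb
    refine Groth.L16.FormalLocal.isUnit_limit b fun j => ?_
    obtain ⟨m⟩ := j
    have := (hb m).isUnit_add_left_of_commute ((isUnit_iff_ne_zero.2 hd).map (φ m)) (Commute.all _ _)
    rwa [add_sub_cancel] at this
  rcases eq_or_ne c 0 with h0 | h0
  · refine Or.inr (hunit (1 - a) 1 one_ne_zero fun m => ?_)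
    have := hca m
    rw [h0, map_zero, sub_zero] at this
    rw [map_sub, map_one, map_one, sub_sub_cancel_left]
    exact this.neg
  · exact Or.inl (hunit a c h0 hca)
end Groth.Agent.S11393
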