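import Groth.Statements.S11401
import Groth.Agent.L19.AlgGrpBasic.GoodSections
import Groth.Agent.S11400
import Groth.Agent.L08.Centre.Basic

set_option autoImplicit false
set_option backward.isDefEq.respectTransparency.types false
universe u
open CategoryTheory MonoidalCategory CartesianMonoidalCategory MonObj GrpObj AlgebraicGeometry CategoryTheory.Limits
open AlgGrp

namespace Groth.Agent.S11401

/-- Over an algebraically closed field k, let G be a connected algebraic group (smooth k-group scheme of
finite type), let i : N → G be its largest connected affine normal algebraic subgroup G_aff (a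
homomorphism and closed immersion from a smooth, connected, affine k-group scheme, normal in G,
through which every other such subgroup factors), and let α : G → A be a flat surjective
homomorphism with kernel i onto a proper smooth k-group scheme A (so A = G/G_aff). Then α is a
Zariski-locally trivial principal bundle: every point of A has an open neighbourhood over which α
admits a section. -/
theorem result (k : Type u) [Field k] [IsAlgClosed k]
    (G : Over (Spec (CommRingCat.of k))) [GrpObj G] [Smooth G.hom] [QuasiCompact G.hom] [ConnectedSpace ↥G.left]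
    (N : Over (Spec (CommRingCat.of k))) [GrpObj N] (i : N ⟶ G) [IsMonHom i] [IsClosedImmersion i.left]
    [Smooth N.hom] [ConnectedSpace ↥N.left] [IsAffine N.left] (hN : AlgGrp.IsNormalHom i)
    (hNmax : ∀ (N' : Over (Spec (CommRingCat.of k))) [GrpObj N'] (i' : N' ⟶ G) [IsMonHom i'] [IsClosedImmersion i'.left]
      [Smooth N'.hom] [ConnectedSpace ↥N'.left] [IsAffine N'.left], AlgGrp.IsNormalHom i' → ∃ f : N' ⟶ N, f ≫ i = i')
    (A : Over (Spec (CommRingCat.of k))) [GrpObj A] [IsProper A.hom] [Smooth A.hom] (α : G ⟶ A) [IsMonHom α]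
    [Surjective α.left] [Flat α.left] (hker : AlgGrp.IsKernel i α) (y : ↥A.left) :
    ∃ U : A.left.Opens, y ∈ U ∧ ∃ s : ↑U ⟶ G.left, s ≫ α.left = U.ι := by
  haveI : Mono i := Over.mono_of_mono_left i
  haveI : ConnectedSpace A.left := α.left.surjective.connectedSpace α.left.continuous
  haveI := Groth.L19.AlgGrpBasic.SplitH90.isIntegral_of_connected A
  obtain ⟨Z, gZ, j, hj, hjc, hZ⟩ := Groth.L08.Centre.exists_centre G
  haveI := hj; haveI := hjc
  haveI := (Groth.Agent.S11400.result k G N i hN hNmax Z j hZ).1
  have hi : i ≫ α = 1 := hker.w.trans (Hom.one_def).symm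
  haveI : Surjective (j ≫ α).left := by
    have e : ((j ⊗ₘ i) ≫ μ[G]) ≫ α = fst Z N ≫ j ≫ α := by
      rw [Category.assoc, IsMonHom.mul_hom, tensorHom_comp_tensorHom_assoc, hi,
        show ((j ≫ α) ⊗ₘ (1 : N ⟶ A)) = lift (fst Z N ≫ j ≫ α) (snd Z N ≫ (1 : N ⟶ A)) by ext <;> simp,
        ← Hom.mul_def, MonObj.comp_one, _root_.mul_one]
    haveI : Surjective ((fst Z N).left ≫ (j ≫ α).left) := by
      rw [← Over.comp_left, ← e, Over.comp_left]; infer_instance
    exact Surjective.of_comp (fst Z N).left (j ≫ α).left
  obtain ⟨B, gB, b, hB, hcen⟩ := Groth.L19.AlgGrpBasic.SplitH90.exists_borel_central (N := N)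
  haveI := hB.1; haveI := hB.2.1; haveI := hB.2.2.1; haveI := hB.2.2.2.1
  haveI : IsAffine B.left := isAffine_of_isAffineHom b.left
  haveI : Mono b := Over.mono_of_mono_left b
  haveI : Mono (b ≫ i) := mono_comp _ _
  obtain ⟨U, hU, s, hs⟩ := Groth.L19.AlgGrpBasic.SplitH90.exists_open_section
    (Groth.L19.AlgGrpBasic.SplitH90.good_of_solvable B hB.2.2.2.2.1) (b ≫ i) α
    (by rw [Category.assoc, hi, MonObj.comp_one]) j (fun X x y e => by
      obtain ⟨n, hn, -⟩ := hker.exists_lift ((x ≫ j) * (y ≫ j)⁻¹) (toUnit X) (by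
        rw [MonObj.mul_comp, GrpObj.inv_comp, Category.assoc, Category.assoc, e, mul_inv_cancel, Hom.one_def])
      obtain ⟨w, hw⟩ := hcen X n (fun X' p h => by
        rw [← cancel_mono i, MonObj.mul_comp, MonObj.mul_comp, Category.assoc, hn]
        have hc := (hZ.2.2 X ((x ≫ j) * (y ≫ j)⁻¹)).1
          ⟨x * y⁻¹, by rw [MonObj.mul_comp, GrpObj.inv_comp]⟩ X' p (h ≫ i)
        simpa only [Category.comp_id] using hc)
      exact ⟨w, by rw [← Category.assoc, hw, hn]⟩)
  exact Groth.L19.AlgGrpBasic.SplitH90.exists_local_section α hU s hs y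

end Groth.Agent.S11401
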