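import Groth.Statements.S14578
import Groth.Agent.L26.AV.FormalRigidity
import Groth.Agent.L26.AV.GroupSep
import Groth.Agent.L25.Component
import Mathlib.AlgebraicGeometry.Sites.Fpqc
import Mathlib.AlgebraicGeometry.Geometrically.Irreducible

set_option autoImplicit false
universe u
open CategoryTheory MonoidalCategory CartesianMonoidalCategory MonObj GrpObj AlgebraicGeometry CategoryTheory.Limits
open AlgGrp

namespace Groth.Agent.S14578

/-- Let k be a field, H an anti-affine k-group scheme of finite type (its only global functions are the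
constants), G a k-group scheme of finite type and f : H → G a morphism of k-schemes with f(e_H) =
e_G. Then f is a homomorphism. (The second assertion, that f factors through the centre of the
neutral component of G, is not restated here.) -/
theorem result (k : Type u) [Field k]
    (H G : Over (Spec (CommRingCat.of k))) [GrpObj H] [GrpObj G] [LocallyOfFiniteType H.hom] [QuasiCompact H.hom]
    [LocallyOfFiniteType G.hom] [QuasiCompact G.hom]
    (hH : Function.Bijective ((Scheme.ΓSpecIso (CommRingCat.of k)).inv ≫ H.hom.appTop).hom) (f : H ⟶ G) (hf : η[H] ≫ f = η[G]) : IsMonHom f := by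
  let pt : ↥(Spec (CommRingCat.of k)) := IsLocalRing.closedPoint k
  have hH' : Function.Surjective H.hom.appTop.hom := by
    intro b
    obtain ⟨c, hc⟩ := hH.2 b
    exact ⟨_, hc⟩
  have : Nonempty H.left := ⟨η[H].left pt⟩
  have : IsLocallyNoetherian H.left := LocallyOfFiniteType.isLocallyNoetherian H.hom
  have : ConnectedSpace H.left := Groth.Agent.AV.connectedSpace_of_surjective_appTop H.hom hH'
  have : IrreducibleSpace H.left := Groth.L25.Component.irreducibleSpace H
  have : GeometricallyIrreducible H.hom := Groth.L25.Component.geometricallyIrreducible H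
  have : IsSeparated G.hom := Groth.Agent.AV.isSeparated_of_grpObj G
  have : CompactSpace H.left := (quasiCompact_iff_compactSpace H.hom).mp inferInstance
  have : IsSeparated H.hom := Groth.Agent.AV.isSeparated_of_grpObj H
  have : QuasiSeparatedSpace H.left := quasiSeparatedSpace_of_quasiSeparated H.hom
  let e : H.left := η[H].left pt
  let d : H ⊗ H ⟶ G := (μ[H] ≫ f) * ((fst H H ≫ f) * (snd H H ≫ f))⁻¹
  have hone : ∀ T : Over (Spec (CommRingCat.of k)), toUnit T ≫ η[H] ≫ f = (1 : T ⟶ G) := fun T => by
    rw [hf]; rfl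
  have h1f : ∀ T : Over (Spec (CommRingCat.of k)), (1 : T ⟶ H) ≫ f = 1 := fun T => by
    rw [Hom.one_def, Category.assoc, hone]
  have hd : ∀ {T : Over (Spec (CommRingCat.of k))} (a b : T ⟶ H),
      lift a b ≫ d = ((a * b) ≫ f) * ((a ≫ f) * (b ≫ f))⁻¹ := by
    intro T a b
    simp only [d, MonObj.comp_mul, GrpObj.comp_inv, ← Category.assoc, lift_fst, lift_snd, ← Hom.mul_def]
  -- the open where translation is multiplicative
  obtain ⟨V, heV, hV, hinj⟩ := H.left.exists_germ_injective e
  let U : Over (Spec (CommRingCat.of k)) := Over.mk (V.ι ≫ H.hom)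
  let i : U ⟶ H := Over.homMk V.ι rfl
  have hU : (H ◁ i) ≫ d = 1 := by
    let A := H.left.presheaf.stalk e
    let φ : CommRingCat.of k ⟶ A := Spec.preimage (H.left.fromSpecStalk e ≫ H.hom)
    have hφ : Spec.map φ = H.left.fromSpecStalk e ≫ H.hom := Spec.map_preimage _
    let mA : pullback H.hom (Spec.map φ) ⟶ (H ⊗ H).left :=
      pullback.lift (pullback.fst _ _) (pullback.snd _ _ ≫ H.left.fromSpecStalk e)
        (by rw [Category.assoc, ← hφ, pullback.condition])
    let c : H ⊗ H ⟶ G := toUnit _ ≫ η[G]
    have hP : ∀ p : (H ⊗ H).left, (snd H H).left p = e → d.left p = η[G].left pt := by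
      intro p hp
      let j : H ⟶ H ⊗ H := lift (𝟙 H) (1 : H ⟶ H)
      have hjd : j ≫ d = 1 := by
        rw [hd, _root_.mul_one, h1f, _root_.mul_one, Category.id_comp, mul_inv_cancel]
      have hsq : IsPullback j.left H.hom (snd H H).left η[H].left := by
        refine IsPullback.of_right (h₁₂ := (fst H H).left) ?_ ?_ (IsPullback.of_hasPullback H.hom H.hom)
        · rw [← Over.comp_left, lift_fst, Over.w η[H], Over.id_left]
          exact IsPullback.of_id_fst
        · rw [← Over.comp_left, lift_snd, Hom.one_def, Over.comp_left, Over.toUnit_left]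
      obtain ⟨z, hz, hz'⟩ := Scheme.Pullback.exists_preimage_pullback p pt hp
      have hx : j.left (hsq.isoPullback.inv z) = p := by
        rw [← hz]
        exact congrArg (fun φ => φ z) hsq.isoPullback_inv_fst
      rw [← hx]
      show (j ≫ d).left _ = _
      rw [hjd, Hom.one_def]
      show η[G].left (H.hom (hsq.isoPullback.inv z)) = η[G].left pt
      exact congrArg η[G].left (@Subsingleton.elim (PrimeSpectrum k) _ _ _)
    have hA : mA ≫ d.left = mA ≫ c.left := by
      refine Groth.Agent.AV.eq_of_collapse' (A := A) H.hom hH' η[H].left (Over.w η[H]) φ _ _ G.hom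
        (by simp only [Category.assoc, Over.w d, Over.w c]) ?_ (η[G].left pt) (fun p hp => ?_) (fun p hp => ?_)
      · let σ := pullback.lift (f := H.hom) (g := Spec.map φ) (Spec.map φ ≫ η[H].left) (𝟙 _)
          (by rw [Category.assoc]; erw [Over.w η[H], Category.comp_id]; try simp)
        let j : H ⟶ H ⊗ H := lift (toUnit H ≫ η[H]) (𝟙 H)
        have hσ : σ ≫ mA = H.left.fromSpecStalk e ≫ j.left := by
          apply pullback.hom_ext
          · show (σ ≫ mA) ≫ pullback.fst H.hom H.hom = (_ ≫ _) ≫ (fst H H).left
            rw [Category.assoc, pullback.lift_fst, pullback.lift_fst, Category.assoc, ← Over.comp_left, lift_fst,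
              Over.comp_left, Over.toUnit_left, hφ, Category.assoc]
          · show (σ ≫ mA) ≫ pullback.snd H.hom H.hom = (_ ≫ _) ≫ (snd H H).left
            rw [Category.assoc, pullback.lift_snd, pullback.lift_snd_assoc, Category.id_comp, Category.assoc,
              ← Over.comp_left, lift_snd, Over.id_left, Category.comp_id]
        show σ ≫ mA ≫ d.left = σ ≫ mA ≫ c.left
        rw [reassoc_of% hσ, reassoc_of% hσ, ← Over.comp_left, ← Over.comp_left]
        have : j ≫ d = j ≫ c := by
          rw [hd, ← Hom.one_def, _root_.one_mul, h1f, _root_.one_mul, Category.id_comp, mul_inv_cancel]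
          simp only [c, ← Category.assoc, comp_toUnit, ← Hom.one_def]
          exact (MonObj.comp_one j).symm
        rw [this]
      · refine hP _ ?_
        show (mA ≫ pullback.snd H.hom H.hom) p = e
        rw [pullback.lift_snd, Scheme.Hom.comp_apply, hp]
        exact Scheme.fromSpecStalk_closedPoint
      · show η[G].left ((H ⊗ H).hom (mA p)) = η[G].left pt
        exact congrArg η[G].left (@Subsingleton.elim (PrimeSpectrum k) _ _ _)
    let φV : CommRingCat.of k ⟶ Γ(H.left, V) := Spec.preimage (hV.fromSpec ≫ H.hom)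
    have hφV : Spec.map φV = hV.fromSpec ≫ H.hom := Spec.map_preimage _
    let gV : Γ(H.left, V) ⟶ A := H.left.presheaf.germ V e heV
    let mV : pullback H.hom (Spec.map φV) ⟶ (H ⊗ H).left :=
      pullback.map _ _ _ _ (𝟙 _) hV.fromSpec (𝟙 _) (by simp) (by simp [hφV])
    have hVeq : mV ≫ d.left = mV ≫ c.left := by
      refine Groth.Agent.AV.eq_of_injective_extension' (R := Γ(H.left, V)) (K := A) H.hom φV gV hinj _ _ G.hom
        (by simp only [Category.assoc, Over.w d, Over.w c]) fun {T} u v w => ?_
      have hK : Spec.map gV ≫ hV.fromSpec = H.left.fromSpecStalk e := by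
        rw [← IsAffineOpen.fromSpecStalk_eq_fromSpecStalk hV heV]
        rfl
      let l : T ⟶ pullback H.hom (Spec.map φ) := pullback.lift u v
          (by rw [hφ, ← reassoc_of% hK, w, Category.assoc, hφV])
      have hl : pullback.lift u (v ≫ Spec.map gV) w ≫ mV = l ≫ mA := by
        apply pullback.hom_ext
        · rw [Category.assoc, pullback.lift_fst, Category.comp_id, pullback.lift_fst, Category.assoc]
          erw [pullback.lift_fst, pullback.lift_fst]
        · rw [Category.assoc, pullback.lift_snd, pullback.lift_snd_assoc, Category.assoc, Category.assoc, hK]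
          erw [pullback.lift_snd, pullback.lift_snd_assoc]
      have h1 := congrArg (· ≫ d.left) hl
      have h2 := congrArg (· ≫ c.left) hl
      simp only [Category.assoc] at h1 h2
      exact h1.trans ((congrArg (l ≫ ·) hA).trans h2.symm)
    have hw : (H ⊗ U).left = pullback H.hom (V.ι ≫ H.hom) := rfl
    let θ : (H ⊗ U).left ⟶ pullback H.hom (Spec.map φV) :=
      pullback.map H.hom (V.ι ≫ H.hom) H.hom (Spec.map φV) (𝟙 _) hV.isoSpec.hom (𝟙 _) (by simp)
        (by rw [hφV, Category.comp_id, IsAffineOpen.isoSpec_hom_fromSpec_assoc])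
    have hθ : θ ≫ mV = (H ◁ i).left := by
      apply pullback.hom_ext
      · show (θ ≫ mV) ≫ pullback.fst H.hom H.hom = (H ◁ i).left ≫ (fst H H).left
        rw [← Over.comp_left, whiskerLeft_fst, Category.assoc, pullback.lift_fst, Category.comp_id]
        erw [pullback.lift_fst, Category.comp_id]
        rfl
      · show (θ ≫ mV) ≫ pullback.snd H.hom H.hom = (H ◁ i).left ≫ (snd H H).left
        rw [← Over.comp_left, whiskerLeft_snd, Category.assoc, pullback.lift_snd]
        erw [pullback.lift_snd_assoc]
        rw [Category.assoc, IsAffineOpen.isoSpec_hom_fromSpec]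
        rfl
    have : (H ◁ i) ≫ d = (H ◁ i) ≫ c := by
      ext1
      rw [Over.comp_left, Over.comp_left, ← hθ, Category.assoc, Category.assoc, hVeq]
    rw [this, ← Category.assoc, comp_toUnit, Hom.one_def]
  have hmul : ∀ {T : Over (Spec (CommRingCat.of k))} (a : T ⟶ H) (b : T ⟶ U),
      (a * (b ≫ i)) ≫ f = (a ≫ f) * ((b ≫ i) ≫ f) := by
    intro T a b
    have := congrArg (lift a b ≫ ·) hU
    simp only [lift_whiskerLeft_assoc, MonObj.comp_one] at this
    rw [hd, mul_inv_eq_one] at this
    exact this
  let m : U ⊗ U ⟶ H := lift (fst U U ≫ i) (snd U U ≫ i) ≫ μ[H]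
  -- the shear maps
  have hirr : ∀ z : H.left, IsPreirreducible (μ[H].left ⁻¹' {z}) := by
    intro z
    let sh : H ⊗ H ⟶ H ⊗ H := lift (fst H H) ((fst H H)⁻¹ * snd H H)
    have hsh : sh ≫ μ[H] = snd H H := by
      rw [← Hom.mul_def, mul_inv_cancel_left]
    have : IrreducibleSpace ↥((snd H H).left.fiber z) := by
      have : GeometricallyIrreducible (snd H H).left :=
        inferInstanceAs (GeometricallyIrreducible (pullback.snd H.hom H.hom))
      exact GeometricallyIrreducible.geometrically_irreducibleSpace _ _ _ (IsPullback.of_hasPullback _ _)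
    have heq : μ[H].left ⁻¹' {z} = sh.left '' ((snd H H).left ⁻¹' {z}) := by
      ext p
      constructor
      · intro hp
        let sh' : H ⊗ H ⟶ H ⊗ H := lift (fst H H) μ[H]
        have hid : sh' ≫ sh = 𝟙 _ := by
          apply CartesianMonoidalCategory.hom_ext
          · simp [sh, sh']
          · rw [Category.assoc, lift_snd, MonObj.comp_mul, GrpObj.comp_inv, lift_fst, lift_snd, Category.id_comp]
            have : μ[H] = fst H H * snd H H := by rw [Hom.mul_def, lift_fst_snd, Category.id_comp]
            rw [this, inv_mul_cancel_left]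
        refine ⟨sh'.left p, ?_, congrArg (fun φ => φ.left p) hid⟩
        show (sh' ≫ snd H H).left p = z
        rw [lift_snd]
        exact hp
      · rintro ⟨q, hq, rfl⟩
        show (sh ≫ μ[H]).left q = z
        rw [hsh]
        exact hq
    rw [heq, ← (snd H H).left.range_fiberι z, ← Set.range_comp]
    rw [← Set.image_univ]
    exact (PreirreducibleSpace.isPreirreducible_univ).image _
      (sh.left.continuous.comp ((snd H H).left.fiberι z).continuous).continuousOn
  have hmsurj : Surjective m.left := by
    refine ⟨fun z => ?_⟩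
    let S := μ[H].left ⁻¹' {z}
    have hne1 : (S ∩ (fst H H).left ⁻¹' (V : Set H.left)).Nonempty := by
      let sh' : H ⊗ H ⟶ H ⊗ H := lift (fst H H) ((fst H H)⁻¹ * snd H H)
      obtain ⟨p, hp1, hp2⟩ := Scheme.Pullback.exists_preimage_pullback (f := H.hom) (g := H.hom) e z
        (@Subsingleton.elim (PrimeSpectrum k) _ _ _)
      refine ⟨sh'.left p, ?_, ?_⟩
      · show (sh' ≫ μ[H]).left p = z
        rw [← Hom.mul_def, mul_inv_cancel_left]
        exact hp2
      · show (sh' ≫ fst H H).left p ∈ V
        rw [lift_fst]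
        exact hp1.symm ▸ heV
    have hne2 : (S ∩ (snd H H).left ⁻¹' (V : Set H.left)).Nonempty := by
      let sh' : H ⊗ H ⟶ H ⊗ H := lift (fst H H * (snd H H)⁻¹) (snd H H)
      obtain ⟨p, hp1, hp2⟩ := Scheme.Pullback.exists_preimage_pullback (f := H.hom) (g := H.hom) z e
        (@Subsingleton.elim (PrimeSpectrum k) _ _ _)
      refine ⟨sh'.left p, ?_, ?_⟩
      · show (sh' ≫ μ[H]).left p = z
        rw [← Hom.mul_def, inv_mul_cancel_right]
        exact hp1
      · show (sh' ≫ snd H H).left p ∈ V
        rw [lift_snd]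
        exact hp2.symm ▸ heV
    obtain ⟨q, hqS, hq1, hq2⟩ := hirr z _ _ (V.2.preimage (fst H H).left.continuous)
      (V.2.preimage (snd H H).left.continuous) hne1 hne2
    have hr : q ∈ Set.range (lift (fst U U ≫ i) (snd U U ≫ i)).left := by
      have : (lift (fst U U ≫ i) (snd U U ≫ i)).left =
          pullback.map U.hom U.hom H.hom H.hom i.left i.left (𝟙 _) (by simp [U, i]) (by simp [U, i]) := by
        apply pullback.hom_ext
        · rw [pullback.lift_fst]
          exact congrArg (fun φ => φ.left) (lift_fst (fst U U ≫ i) (snd U U ≫ i))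
        · rw [pullback.lift_snd]
          exact congrArg (fun φ => φ.left) (lift_snd (fst U U ≫ i) (snd U U ≫ i))
      rw [this, Scheme.Pullback.range_map]
      refine ⟨?_, ?_⟩
      · show (fst H H).left q ∈ Set.range V.ι
        rw [Scheme.Opens.range_ι]; exact hq1
      · show (snd H H).left q ∈ Set.range V.ι
        rw [Scheme.Opens.range_ι]; exact hq2
    obtain ⟨r, rfl⟩ := hr
    exact ⟨r, hqS⟩
  have hflat : Flat m.left := by
    let sh : H ⊗ H ⟶ H ⊗ H := lift (fst H H) μ[H]
    let sh' : H ⊗ H ⟶ H ⊗ H := lift (fst H H) ((fst H H)⁻¹ * snd H H)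
    have : IsIso sh := ⟨sh', by
      apply CartesianMonoidalCategory.hom_ext
      · simp [sh, sh']
      · rw [Category.assoc, lift_snd, MonObj.comp_mul, GrpObj.comp_inv, lift_fst, lift_snd, Category.id_comp]
        have : μ[H] = fst H H * snd H H := by rw [Hom.mul_def, lift_fst_snd, Category.id_comp]
        rw [this, inv_mul_cancel_left], by
      apply CartesianMonoidalCategory.hom_ext
      · simp [sh, sh']
      · rw [Category.assoc, lift_snd, ← Hom.mul_def, mul_inv_cancel_left, Category.id_comp]⟩
    have hμ : μ[H].left = sh.left ≫ pullback.snd H.hom H.hom := by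
      show _ = sh.left ≫ (snd H H).left
      rw [← Over.comp_left, lift_snd]
    have : IsIso sh.left := inferInstanceAs (IsIso ((Over.forget _).map sh))
    have : IsOpenImmersion (lift (fst U U ≫ i) (snd U U ≫ i)).left := by
      have : (lift (fst U U ≫ i) (snd U U ≫ i)).left =
          pullback.map U.hom U.hom H.hom H.hom i.left i.left (𝟙 _) (by simp [U, i]) (by simp [U, i]) := by
        apply pullback.hom_ext
        · rw [pullback.lift_fst]
          exact congrArg (fun φ => φ.left) (lift_fst (fst U U ≫ i) (snd U U ≫ i))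
        · rw [pullback.lift_snd]
          exact congrArg (fun φ => φ.left) (lift_snd (fst U U ≫ i) (snd U U ≫ i))
      rw [this]
      apply MorphismProperty.pullbackMap (P := @IsOpenImmersion) <;>
        first | exact inferInstanceAs (IsOpenImmersion V.ι) | simp [U, i]
    show Flat ((lift (fst U U ≫ i) (snd U U ≫ i)).left ≫ μ[H].left)
    rw [hμ]
    infer_instance
  have hlfp : LocallyOfFinitePresentation m.left := by
    have : LocallyOfFiniteType (m.left ≫ H.hom) := by
      rw [Over.w m]
      show LocallyOfFiniteType (pullback.fst U.hom U.hom ≫ U.hom)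
      have : LocallyOfFiniteType U.hom := inferInstanceAs (LocallyOfFiniteType (V.ι ≫ H.hom))
      infer_instance
    have : LocallyOfFiniteType m.left := locallyOfFiniteType_of_comp _ H.hom
    infer_instance
  have hepi : Epi (H ◁ m) := by
    have : IsPullback (H ◁ m).left (snd H (U ⊗ U)).left (snd H H).left m.left := by
      refine IsPullback.of_right (h₁₂ := (fst H H).left) ?_ ?_ (IsPullback.of_hasPullback H.hom H.hom)
      · rw [← Over.comp_left, whiskerLeft_fst, Over.w m]
        exact IsPullback.of_hasPullback H.hom (U ⊗ U).hom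
      · rw [← Over.comp_left, whiskerLeft_snd, Over.comp_left]
    have : Surjective (H ◁ m).left := MorphismProperty.of_isPullback this.flip hmsurj
    have : Flat (H ◁ m).left := MorphismProperty.of_isPullback ‹IsPullback (H ◁ m).left _ _ _›.flip hflat
    have : LocallyOfFinitePresentation (H ◁ m).left :=
      MorphismProperty.of_isPullback ‹IsPullback (H ◁ m).left _ _ _›.flip hlfp
    have : Epi (H ◁ m).left := inferInstance
    exact (Over.forget _).epi_of_epi_map (inferInstanceAs (Epi (H ◁ m).left))
  refine ⟨hf, ?_⟩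
  rw [← cancel_epi (H ◁ m)]
  let a : H ⊗ (U ⊗ U) ⟶ H := fst H (U ⊗ U)
  let b₁ : H ⊗ (U ⊗ U) ⟶ U := snd H (U ⊗ U) ≫ fst U U
  let b₂ : H ⊗ (U ⊗ U) ⟶ U := snd H (U ⊗ U) ≫ snd U U
  have hm : snd H (U ⊗ U) ≫ m = (b₁ ≫ i) * (b₂ ≫ i) := by
    simp only [m, b₁, b₂, Category.assoc]
    rw [← Hom.mul_def, MonObj.comp_mul]
  have hw : (H ◁ m) = lift a ((b₁ ≫ i) * (b₂ ≫ i)) := by
    apply CartesianMonoidalCategory.hom_ext
    · rw [whiskerLeft_fst, lift_fst]
    · rw [whiskerLeft_snd, lift_snd, hm]
  rw [hw, ← Category.assoc, ← Hom.mul_def]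
  rw [← _root_.mul_assoc, hmul, hmul]
  rw [lift_map_assoc, ← Hom.mul_def, hmul, _root_.mul_assoc]

end Groth.Agent.S14578
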