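import Groth.Statements.S11404
import Groth.Agent.L08.AntiAffRigid
import Groth.Agent.L08.Albanese.AbSub
import Groth.Agent.S14578

set_option autoImplicit false
set_option backward.isDefEq.respectTransparency.types false
set_option linter.style.haveILetI false
universe u
open CategoryTheory MonoidalCategory CartesianMonoidalCategory MonObj GrpObj AlgebraicGeometry
open AlgGrp

namespace Groth.Agent.S11404

/-- Morphisms from an abelian variety times a connected scheme to a group are a map of the base times a homomorphism. -/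
theorem decompose (k : Type u) [Field k] [IsAlgClosed k] (A S : Over (Spec (CommRingCat.of k))) [GrpObj A]
    [IsProper A.hom] [GeometricallyIntegral A.hom] [LocallyOfFiniteType S.hom] [QuasiCompact S.hom]
    [ConnectedSpace ↥S.left] (s₀ : 𝟙_ (Over (Spec (CommRingCat.of k))) ⟶ S) (F : A ⊗ S ⟶ A) :
    ∃ (g : S ⟶ A) (h : A ⟶ A), IsMonHom h ∧ F = (snd A S ≫ g) * (fst A S ≫ h) := by
  haveI : Nonempty A.left := ⟨η[A].left (IsLocalRing.closedPoint k)⟩
  haveI := Groth.L08.Albanese.isIso_appTop_of_proper A.hom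
  have hA : Function.Bijective ((Scheme.ΓSpecIso (CommRingCat.of k)).inv ≫ A.hom.appTop).hom :=
    ConcreteCategory.bijective_of_isIso ((Scheme.ΓSpecIso (CommRingCat.of k)).inv ≫ A.hom.appTop)
  let e : S ⟶ A ⊗ S := lift (toUnit S ≫ η[A]) (𝟙 S)
  let r : A ⟶ A ⊗ S := lift (𝟙 A) (toUnit A ≫ s₀)
  let g : S ⟶ A := e ≫ F
  let D : A ⊗ S ⟶ A := (snd A S ≫ g)⁻¹ * F
  let h : A ⟶ A := r ≫ D
  have hD : e ≫ D = 1 := by
    simp only [D, MonObj.comp_mul, GrpObj.comp_inv, e, lift_snd_assoc, Category.id_comp]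
    exact inv_mul_cancel g
  have hh : η[A] ≫ h = η[A] := by
    show η[A] ≫ r ≫ D = _
    rw [← Category.assoc, show η[A] ≫ r = s₀ ≫ e by
      simp only [r, e, comp_lift, Category.comp_id, comp_toUnit_assoc,
        Subsingleton.elim (toUnit (𝟙_ (Over (Spec (CommRingCat.of k))))) (𝟙 _), Category.id_comp]]
    rw [Category.assoc, hD, MonObj.comp_one, one_eq_one]
  haveI : IsMonHom h := Groth.Agent.S14578.result k A A hA h hh
  refine ⟨g, h, inferInstance, ?_⟩
  let E : A ⊗ S ⟶ A := D * (fst A S ≫ h)⁻¹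
  have hE : (A ◁ s₀) ≫ E = toUnit _ ≫ η[A] := by
    have h1 : A ◁ s₀ = fst A _ ≫ r := by
      apply CartesianMonoidalCategory.hom_ext
      · simp [r]
      · simp only [r, Category.assoc, lift_snd, whiskerLeft_snd, comp_toUnit_assoc]
        exact congrArg (· ≫ s₀) (Subsingleton.elim _ _)
    rw [h1, Category.assoc]
    simp only [E, MonObj.comp_mul, GrpObj.comp_inv]
    rw [show r ≫ fst A S ≫ h = h by simp [r], mul_inv_cancel, Hom.one_def]
  obtain ⟨c, hc, -⟩ := Groth.L08.AntiAffRigid.existsUnique_factor_snd hA E s₀ η[A] hE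
  have hc1 : c = 1 := by
    have h2 := congrArg (e ≫ ·) hc
    simp only [E, MonObj.comp_mul, GrpObj.comp_inv, hD] at h2
    simp only [e, lift_snd_assoc, lift_fst_assoc, Category.id_comp, Category.assoc, IsMonHom.one_hom] at h2
    rw [← Hom.one_def, inv_one, _root_.mul_one] at h2
    exact h2.symm
  rw [hc1, MonObj.comp_one] at hc
  have h3 : (snd A S ≫ g)⁻¹ * F = fst A S ≫ h := mul_inv_eq_one.1 hc
  rw [← h3, mul_inv_cancel_left]

/-- Over an algebraically closed field k, let A be an abelian variety (a proper, smooth, connected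
k-group scheme) and S a connected k-scheme of finite type. For every automorphism f of A × S over S
there are a unique k-morphism g : S → A and a unique group automorphism h of A with f(a, s) = (g(s)
· h(a), s) on points. (This is the functor-of-points form, over a connected base, of the
identification of the automorphism group scheme of A with the semidirect product of A, acting by
translations, and the constant group of group automorphisms; in particular the neutral component is
A.) -/
theorem result (k : Type u) [Field k] [IsAlgClosed k]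
    (A S : Over (Spec (CommRingCat.of k))) [GrpObj A] [IsProper A.hom] [Smooth A.hom] [ConnectedSpace ↥A.left]
    [LocallyOfFiniteType S.hom] [QuasiCompact S.hom] [ConnectedSpace ↥S.left]
    (f : A ⊗ S ≅ A ⊗ S) (hf : f.hom ≫ snd A S = snd A S) :
    ∃ (g : S ⟶ A) (h : A ⟶ A), IsMonHom h ∧ IsIso h ∧
      f.hom ≫ fst A S = (snd A S ≫ g) * (fst A S ≫ h) ∧
      ∀ (g' : S ⟶ A) (h' : A ⟶ A), IsMonHom h' →
        f.hom ≫ fst A S = (snd A S ≫ g') * (fst A S ≫ h') → g' = g ∧ h' = h := by
  haveI := Groth.Agent.AV.geometricallyReduced_of_smooth A.hom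
  haveI : GeometricallyIntegral A.hom := Groth.Agent.AV.geometricallyIntegral_of_connected A
  haveI : JacobsonSpace S.left := LocallyOfFiniteType.jacobsonSpace S.hom
  obtain ⟨p, -, hp⟩ := nonempty_inter_closedPoints (Z := (Set.univ : Set S.left)) Set.univ_nonempty
    isClosed_univ.isLocallyClosed
  let s₀ : 𝟙_ (Over (Spec (CommRingCat.of k))) ⟶ S :=
    Over.homMk (pointOfClosedPoint S.hom p hp) (pointOfClosedPoint_comp S.hom p hp)
  let r : A ⟶ A ⊗ S := lift (𝟙 A) (toUnit A ≫ s₀)
  obtain ⟨g, h, hh, hF⟩ := decompose k A S s₀ (f.hom ≫ fst A S)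
  obtain ⟨g', h', hh', hF'⟩ := decompose k A S s₀ (f.inv ≫ fst A S)
  have hf' : f.inv ≫ snd A S = snd A S := by rw [← cancel_epi f.hom, Iso.hom_inv_id_assoc, hf]
  have key : ∀ (a b : A ⊗ S ⟶ A ⊗ S) (c c' : S ⟶ A) (j j' : A ⟶ A), IsMonHom j → IsMonHom j' → a ≫ b = 𝟙 _ →
      a ≫ snd A S = snd A S → a ≫ fst A S = (snd A S ≫ c) * (fst A S ≫ j) →
      b ≫ fst A S = (snd A S ≫ c') * (fst A S ≫ j') → j ≫ j' = 𝟙 A := by
    intro a b c c' j j' _ _ hab ha hj hj'
    have h1 : r ≫ a ≫ b ≫ fst A S = 𝟙 A := by rw [reassoc_of% hab]; simp [r]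
    rw [hj', MonObj.comp_mul, reassoc_of% ha, reassoc_of% hj, MonObj.mul_comp, MonObj.comp_mul, MonObj.comp_mul,
      Category.assoc, Category.assoc] at h1
    simp only [r, lift_snd_assoc, lift_fst_assoc, Category.id_comp, Category.assoc] at h1
    rw [← _root_.mul_assoc] at h1
    have h2 := congrArg (η[A] ≫ ·) h1
    simp only [MonObj.comp_mul, comp_toUnit_assoc, IsMonHom.one_hom, Category.comp_id,
      Subsingleton.elim (toUnit (𝟙_ (Over (Spec (CommRingCat.of k))))) (𝟙 _), Category.id_comp] at h2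
    rw [one_eq_one, _root_.mul_one] at h2
    rw [← MonObj.comp_mul, h2, MonObj.comp_one, _root_.one_mul] at h1
    exact h1
  have i1 : h ≫ h' = 𝟙 A := key f.hom f.inv g g' h h' hh hh' f.hom_inv_id hf hF hF'
  have i2 : h' ≫ h = 𝟙 A := key f.inv f.hom g' g h' h hh' hh f.inv_hom_id hf' hF' hF
  refine ⟨g, h, hh, ⟨h', i1, i2⟩, hF, fun g₁ h₁ _ e₁ => ?_⟩
  have e2 := hF.symm.trans e₁
  have hg : g₁ = g := by
    have := congrArg (lift (toUnit S ≫ η[A]) (𝟙 S) ≫ ·) e2
    simp only [MonObj.comp_mul, lift_snd_assoc, lift_fst_assoc, Category.id_comp, Category.assoc,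
      IsMonHom.one_hom] at this
    rw [← Hom.one_def, _root_.mul_one, _root_.mul_one] at this
    exact this.symm
  refine ⟨hg, ?_⟩
  rw [hg] at e2
  have := congrArg (r ≫ ·) (mul_left_cancel e2)
  simpa [r] using this.symm

end Groth.Agent.S11404
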