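import Groth.Statements.S11405
import Groth.Agent.L19.AlgGrpBasic.AntiAffCrit
import Groth.Agent.L19.AlgGrpBasic.AntiAffFixed

set_option autoImplicit false
set_option backward.isDefEq.respectTransparency.types false
set_option linter.style.haveILetI false
universe u
open CategoryTheory MonoidalCategory CartesianMonoidalCategory MonObj GrpObj AlgebraicGeometry CategoryTheory.Limits
open AlgGrp

namespace Groth.Agent.S11405
open Groth.L19.AlgGrpBasic

/-- Over an algebraically closed field k, the following are equivalent for an algebraic group G (a
smooth k-group scheme of finite type): (i) the only global functions on G are the constants; (ii)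
every finite-dimensional linear representation of G is trivial (every point of G with values in a
k-algebra B acts as the identity on B ⊗ M, for every G-module structure on a finite-dimensional
k-vector space M); (iii) every action of G on a variety (integral, separated k-scheme of finite
type) with a fixed rational point is the trivial action. Stated as (i) ⇔ (ii) and (i) ⇔ (iii). -/
theorem result (k : Type u) [Field k] [IsAlgClosed k]
    (G : Over (Spec (CommRingCat.of k))) [GrpObj G] [Smooth G.hom] [QuasiCompact G.hom] :
    (Function.Bijective ((Scheme.ΓSpecIso (CommRingCat.of k)).inv ≫ G.hom.appTop).hom ↔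
      ∀ (M : Type u) [AddCommGroup M] [Module k M] [Module.Finite k M] (m : VecGrp.GMod G M)
        (B : Type u) [CommRing B] [Algebra k B] (g : VecGrp.pt k B ⟶ G), m.ρ B g = 1) ∧
    (Function.Bijective ((Scheme.ΓSpecIso (CommRingCat.of k)).inv ≫ G.hom.appTop).hom ↔
      ∀ (X : Over (Spec (CommRingCat.of k))) [LocallyOfFiniteType X.hom] [QuasiCompact X.hom] [IsSeparated X.hom]
        [IsIntegral X.left] (a : AlgGrp.Action G X) (x : 𝟙_ (Over (Spec (CommRingCat.of k))) ⟶ X), a.IsFixedPt x → a.act = snd G X) := by
  haveI := Groth.L08.AffHull.compactSpace (G := G)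
  haveI := Groth.L08.AffHull.quasiSeparatedSpace (G := G)
  refine ⟨⟨fun hO M _ _ _ m B _ _ g => rho_eq_one_of_antiAffine (surjective_appTop_of_bijective hO) m B g, ?_⟩,
    ⟨fun hO X _ _ _ _ a x hx => act_eq_snd_of_fixed (surjective_appTop_of_bijective hO) a x hx, ?_⟩⟩
  · intro h
    rw [Groth.L08.AffHull.bijective_iff_isIso]
    refine isIso_appTop_of_forall_hom fun n g hg => ?_
    haveI := hg
    exact eq_one_of_gmodOfHom g fun B _ _ t => h (Fin n → k) (gmodOfHom g) B t
  · intro h
    rw [Groth.L08.AffHull.bijective_iff_isIso]
    refine isIso_appTop_of_forall_hom fun n g hg => ?_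
    haveI := hg
    haveI := locallyOfFiniteType_affSp (k := k) (n := n)
    haveI : IsIntegral (affSp n k).left := GeometricallyIntegral.isIntegral_of_subsingleton (affSp n k).hom
    haveI : IsAffine (affSp n k).left := inferInstanceAs (IsAffine (Spec _))
    haveI : IsAffineHom (affSp n k).hom := isAffineHom_of_isAffine _
    exact eq_one_of_linAct_trivial g
      (h (affSp n k) (pullAct g (linAct n k)) _ (pullAct_isFixedPt g linAct_isFixedPt_zero))

end Groth.Agent.S11405
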