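import Groth.Statements.S11406

set_option autoImplicit false
set_option backward.isDefEq.respectTransparency.types false
set_option backward.isDefEq.respectTransparency false
set_option linter.style.haveILetI false
universe u
open CategoryTheory MonoidalCategory CartesianMonoidalCategory MonObj GrpObj AlgebraicGeometry CategoryTheory.Limits
open AlgGrp

namespace Groth.Agent.S11406

/-- Over an algebraically closed field k, let G be an algebraic group (smooth k-group scheme of finite
type) whose only global functions are the constants, let H be a connected algebraic group, let i : N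
→ H be the largest connected affine normal algebraic subgroup H_aff of H (a homomorphism and closed
immersion from a smooth, connected, affine k-group scheme, normal in H, through which every other
such subgroup factors), and let α : H → A be a flat surjective homomorphism with kernel i onto a
proper smooth k-group scheme A (so A = H/H_aff). If two morphisms of k-schemes f, f′ : G → H both
send e_G to e_H and have the same composite with α, then f = f′. (The published assertion is that
such a morphism f is determined by the homomorphism from G/G_aff to H/H_aff which it induces; two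
such morphisms induce the same homomorphism exactly when their composites with α agree, because the
quotient morphism of G is an epimorphism, so the assertion is stated in that form. The remaining
assertions, that f is a homomorphism and that its image is central, are not stated here.) -/
theorem result (k : Type u) [Field k] [IsAlgClosed k]
    (G H : Over (Spec (CommRingCat.of k))) [GrpObj G] [Smooth G.hom] [QuasiCompact G.hom]
    (hG : Function.Bijective ((Scheme.ΓSpecIso (CommRingCat.of k)).inv ≫ G.hom.appTop).hom)
    [GrpObj H] [Smooth H.hom] [QuasiCompact H.hom] [ConnectedSpace ↥H.left]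
    (N : Over (Spec (CommRingCat.of k))) [GrpObj N] (i : N ⟶ H) [IsMonHom i] [IsClosedImmersion i.left]
    [Smooth N.hom] [ConnectedSpace ↥N.left] [IsAffine N.left] (hN : AlgGrp.IsNormalHom i)
    (hNmax : ∀ (N' : Over (Spec (CommRingCat.of k))) [GrpObj N'] (i' : N' ⟶ H) [IsMonHom i'] [IsClosedImmersion i'.left]
      [Smooth N'.hom] [ConnectedSpace ↥N'.left] [IsAffine N'.left], AlgGrp.IsNormalHom i' → ∃ g : N' ⟶ N, g ≫ i = i')
    (A : Over (Spec (CommRingCat.of k))) [GrpObj A] [IsProper A.hom] [Smooth A.hom] (α : H ⟶ A) [IsMonHom α]
    [Surjective α.left] [Flat α.left] (hker : AlgGrp.IsKernel i α)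
    (f f' : G ⟶ H) (hf : η[G] ≫ f = η[H]) (hf' : η[G] ≫ f' = η[H]) (hα : f ≫ α = f' ≫ α) :
    f = f' := by
  obtain ⟨l, hl⟩ : ∃ l : G ⟶ N, l ≫ i = f / f' := by
    refine ⟨hker.lift (f / f') (toUnit G) ?_, hker.lift_fst _ _ _⟩
    rw [div_comp, hα, div_self', Hom.one_def]
  haveI : IsAffine N.left := ‹_›
  let e : Γ(Spec (CommRingCat.of k), ⊤) ⟶ Γ(G.left, ⊤) := G.hom.appTop
  haveI : IsIso e := by
    haveI : IsIso ((Scheme.ΓSpecIso (CommRingCat.of k)).inv ≫ e) :=
      (ConcreteCategory.isIso_iff_bijective _).2 hG
    exact IsIso.of_isIso_comp_left (Scheme.ΓSpecIso (CommRingCat.of k)).inv e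
  -- a morphism to an affine scheme from an anti-affine one is constant
  have hcst : l = toUnit G ≫ η[G] ≫ l := by
    apply Over.OverMorphism.ext
    apply ext_of_isAffine
    rw [Over.comp_left, Over.comp_left, Scheme.Hom.comp_appTop, Scheme.Hom.comp_appTop, Category.assoc]
    show l.left.appTop = l.left.appTop ≫ η[G].left.appTop ≫ (toUnit G).left.appTop
    have h1 : η[G].left.appTop ≫ (toUnit G).left.appTop = 𝟙 _ := by
      have h2 : e ≫ η[G].left.appTop = 𝟙 _ := by
        show G.hom.appTop ≫ η[G].left.appTop = 𝟙 _
        rw [← Scheme.Hom.comp_appTop, Over.w]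
        exact Scheme.Hom.id_appTop
      have h3 : (toUnit G).left.appTop = e := by rw [Over.toUnit_left]
      rw [h3, ← cancel_epi e, reassoc_of% h2, Category.comp_id]
    rw [h1, Category.comp_id]
  have hl1 : η[G] ≫ l ≫ i = η[H] := by
    rw [hl, comp_div, hf, hf', div_self', Hom.one_def, toUnit_unique (toUnit _) (𝟙 _), Category.id_comp]
  have h : f / f' = 1 := by
    rw [← hl, hcst, Category.assoc, Category.assoc, hl1, Hom.one_def]
  exact div_eq_one.1 h

end Groth.Agent.S11406
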