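import Groth.Statements.S14600
import Groth.Agent.L19.SpecSub.SabExponent
import Groth.Agent.L08.SmallNorm.AntiAffIsog

set_option autoImplicit false
set_option backward.isDefEq.respectTransparency.types false
universe u
open CategoryTheory MonoidalCategory CartesianMonoidalCategory MonObj GrpObj AlgebraicGeometry CategoryTheory.Limits
open AlgGrp

namespace Groth.Agent.S14600

/-- Let k be a field of characteristic p > 0 and G an anti-affine k-group scheme of finite type (O(G) =
k). Then G is a semi-abelian variety: there are a closed subgroup scheme i : T → G with T a torus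
and a flat surjective homomorphism q : G → A with kernel T onto a proper smooth connected k-group
scheme A. -/
theorem result (k : Type u) [Field k] (p : ℕ) [Fact p.Prime] [CharP k p]
    (G : Over (Spec (CommRingCat.of k))) [GrpObj G] [LocallyOfFiniteType G.hom] [QuasiCompact G.hom]
    (hG : Function.Bijective ((Scheme.ΓSpecIso (CommRingCat.of k)).inv ≫ G.hom.appTop).hom) :
    (∃ (T : Over (Spec (CommRingCat.of k))) (_ : GrpObj T) (i : T ⟶ G) (A : Over (Spec (CommRingCat.of k))) (_ : GrpObj A) (q : G ⟶ A),
        IsMonHom i ∧ IsClosedImmersion i.left ∧ Red.IsTorus T ∧ IsMonHom q ∧ Surjective q.left ∧ Flat q.left ∧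
        AlgGrp.IsKernel i q ∧ IsProper A.hom ∧ Smooth A.hom ∧ ConnectedSpace ↥A.left) := by
  haveI hO : IsIso G.hom.appTop := by
    haveI : IsIso ((Scheme.ΓSpecIso (CommRingCat.of k)).inv ≫ G.hom.appTop) :=
      (ConcreteCategory.isIso_iff_bijective _).2 hG
    exact IsIso.of_isIso_comp_left (Scheme.ΓSpecIso (CommRingCat.of k)).inv _
  haveI : Smooth G.hom := Groth.L08.AffHull.smooth_of_antiAffine G hO
  haveI : ConnectedSpace ↥G.left := Groth.L08.AffHull.connectedSpace_of_antiAffine G hO
  haveI := Groth.L08.SmallNorm.isCommMonObj_of_antiAffine G hO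
  obtain ⟨n, C, _, π, i, hn, hπ, hi, hic, hπs, hC, hπi⟩ := Groth.L19.SpecSub.exists_semiab_image p G
  haveI := hi; haveI := hic
  haveI : Surjective i.left := by
    haveI := Groth.L08.SmallNorm.antiAff_pow_surjective G hO n hn
    haveI : Surjective (π.left ≫ i.left) := by rw [← Over.comp_left, hπi]; infer_instance
    exact Surjective.of_comp π.left i.left
  haveI : LocallyOfFiniteType C.hom := by rw [← Over.w i]; infer_instance
  haveI : QuasiCompact C.hom := by rw [← Over.w i]; infer_instance
  haveI : IsReduced G.left := Groth.Agent.AV.isReduced_of_smooth_field G.hom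
  haveI : IsIso i.left := isIso_of_isClosedImmersion_of_surjective i.left
  exact Groth.L19.SpecSub.IsSemiab.of_surjective i hC

end Groth.Agent.S14600
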