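import Groth.Statements.S11407
import Groth.Agent.S14600
import Groth.Agent.L08.Albanese.AbSub

set_option autoImplicit false
set_option backward.isDefEq.respectTransparency.types false
universe u
open CategoryTheory MonoidalCategory CartesianMonoidalCategory MonObj GrpObj AlgebraicGeometry CategoryTheory.Limits
open AlgGrp

namespace Groth.Agent.S11407

/-- Over an algebraically closed field k of characteristic p > 0, let G be a connected commutative
algebraic group (smooth k-group scheme of finite type) which is an extension of an abelian variety A
(a proper, smooth, connected k-group scheme) by a connected unipotent algebraic group U: i : U → G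
is a homomorphism and closed immersion from a smooth, connected, affine k-group scheme containing no
non-trivial subtorus (for smooth connected affine groups over an algebraically closed field this is
unipotency), and α : G → A is a flat surjective homomorphism with kernel i. Then the only global
functions on G are the constants if and only if U is the trivial group. -/
theorem result (k : Type u) [Field k] [IsAlgClosed k]
    (p : ℕ) [Fact p.Prime] [CharP k p]
    (G : Over (Spec (CommRingCat.of k))) [GrpObj G] [Smooth G.hom] [QuasiCompact G.hom] [ConnectedSpace ↥G.left] [IsCommMonObj G]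
    (U : Over (Spec (CommRingCat.of k))) [GrpObj U] (i : U ⟶ G) [IsMonHom i] [IsClosedImmersion i.left]
    [Smooth U.hom] [ConnectedSpace ↥U.left] [IsAffine U.left] (hU : Red.HasNoSubtorus k U)
    (A : Over (Spec (CommRingCat.of k))) [GrpObj A] [IsProper A.hom] [Smooth A.hom] [ConnectedSpace ↥A.left]
    (α : G ⟶ A) [IsMonHom α] [Surjective α.left] [Flat α.left] (hker : AlgGrp.IsKernel i α) :
    Function.Bijective ((Scheme.ΓSpecIso (CommRingCat.of k)).inv ≫ G.hom.appTop).hom ↔ IsIso U.hom := by
  constructor
  · intro h
    have hG : Groth.L19.SpecSub.IsSemiab G := Groth.Agent.S14600.result k p G h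
    haveI : Mono i := (Over.forget _).mono_of_mono_map (inferInstanceAs (Mono i.left))
    by_contra hne
    obtain ⟨f, hf⟩ := Groth.L19.SpecSub.exists_line_of_noSubtorus U hU hne
    apply hf
    have h1 := hG.lineConst.of_mono i f
    conv_rhs => rw [h1]
    rw [← Category.assoc (Groth.L08.P1Hom.lineAt k 1), Subsingleton.elim (Groth.L08.P1Hom.lineAt k 1 ≫ toUnit _) (𝟙 _),
      Category.id_comp]
  · intro hne
    haveI := hne
    haveI : GeometricallyReduced G.hom := Groth.Agent.AV.geometricallyReduced_of_smooth G.hom
    haveI : GeometricallyIntegral G.hom := Groth.Agent.AV.geometricallyIntegral_of_connected G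
    haveI : Mono α := Groth.L08.AbelianGrp.mono_of_kernel α i hker (by
      haveI : IsIso (toUnit U) := by
        haveI : IsIso (toUnit U).left := by
          have h1 : (toUnit U).left = U.hom := by simpa using Over.w (toUnit U)
          rw [h1]; exact hne
        haveI : IsIso ((Over.forget _).map (toUnit U)) := ‹IsIso (toUnit U).left›
        exact isIso_of_reflects_iso (toUnit U) (Over.forget _)
      haveI : IsIso η[U] := by
        rw [show η[U] = CategoryTheory.inv (toUnit U) from
          (cancel_mono (toUnit U)).1 (toUnit_unique _ _)]
        infer_instance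
      rw [← Category.id_comp i, Groth.L19.SpecSub.eq_one_of_isIso_unit (𝟙 U), MonObj.one_comp])
    haveI : LocallyOfFinitePresentation α.left := Groth.L19.SpecSub.lfp_hom_field α
    obtain ⟨β, hβ⟩ := Groth.L08.AffHull.exists_desc_cover α (𝟙 G) (fun a b hab => by
      rw [Category.comp_id, Category.comp_id]; exact (cancel_mono α).1 hab)
    haveI : Epi α := Groth.L08.GQuot.epi_of_cover α
    haveI : IsIso α := ⟨β, hβ, by rw [← cancel_epi α, reassoc_of% hβ, Category.comp_id]⟩
    haveI : IsIso α.left := inferInstanceAs (IsIso ((Over.forget _).map α))
    haveI : IsProper G.hom := by rw [← Over.w α]; infer_instance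
    haveI : Nonempty ↥G.left := ⟨η[G].left (IsLocalRing.closedPoint k)⟩
    haveI := Groth.L08.Albanese.isIso_appTop_of_proper G.hom
    exact ConcreteCategory.bijective_of_isIso ((Scheme.ΓSpecIso (CommRingCat.of k)).inv ≫ G.hom.appTop)

end Groth.Agent.S11407
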