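import Groth.Statements.S11410
import Groth.Agent.L19.AlgGrpBasic.AntiAffFixed
import Groth.Agent.L26.AV.SmoothField
import Groth.Agent.L08.AbelianGrp

set_option autoImplicit false
set_option backward.isDefEq.respectTransparency.types false
set_option backward.isDefEq.respectTransparency false
set_option linter.style.haveILetI false
universe u
open CategoryTheory MonoidalCategory CartesianMonoidalCategory MonObj GrpObj AlgebraicGeometry CategoryTheory.Limits
open AlgGrp

namespace Groth.Agent.S11410

/-- Over an algebraically closed field k, let G be an algebraic group (a smooth k-group scheme of finite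
type) acting on a variety X (an integral, separated k-scheme of finite type), faithfully in the
sense that every rational point of G acting as the identity of X is the identity element. Then for
every rational point x of X, the isotropy subgroup scheme of x (a closed subgroup scheme of G whose
points are exactly the points of G fixing x) is affine. -/
theorem result (k : Type u) [Field k] [IsAlgClosed k]
    (G X : Over (Spec (CommRingCat.of k))) [GrpObj G] [Smooth G.hom] [QuasiCompact G.hom]
    [LocallyOfFiniteType X.hom] [QuasiCompact X.hom] [IsSeparated X.hom] [IsIntegral X.left]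
    (a : AlgGrp.Action G X)
    (hfaith : ∀ g : 𝟙_ (Over (Spec (CommRingCat.of k))) ⟶ G, lift (toUnit X ≫ g) (𝟙 X) ≫ a.act = 𝟙 X → g = η[G])
    (x : 𝟙_ (Over (Spec (CommRingCat.of k))) ⟶ X) (St : Over (Spec (CommRingCat.of k))) [GrpObj St] (s : St ⟶ G) [IsMonHom s] [IsClosedImmersion s.left]
    (hs : ∀ (T : Over (Spec (CommRingCat.of k))) (g : T ⟶ G), (∃ t : T ⟶ St, t ≫ s = g) ↔ lift g (toUnit T ≫ x) ≫ a.act = toUnit T ≫ x) :
    IsAffine St.left := by
  haveI : LocallyOfFiniteType St.hom := by rw [← Over.w s]; infer_instance
  haveI : QuasiCompact St.hom := by rw [← Over.w s]; infer_instance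
  obtain ⟨K, _, i, _, _, hKO, hK⟩ := Groth.L08.AffHull.exists_antiAffinePart St
  haveI : LocallyOfFiniteType K.hom := by rw [← Over.w i]; infer_instance
  haveI : QuasiCompact K.hom := by rw [← Over.w i]; infer_instance
  haveI : Smooth K.hom := Groth.L08.AffHull.smooth_of_antiAffine K hKO
  haveI : IsReduced K.left := Groth.Agent.AV.isReduced_of_smooth_field K.hom
  haveI : CompactSpace K.left := (quasiCompact_iff_compactSpace K.hom).mp inferInstance
  haveI : IsLocallyNoetherian K.left := LocallyOfFiniteType.isLocallyNoetherian K.hom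
  apply hK
  let j : K ⟶ G := i ≫ s
  haveI : IsMonHom j := inferInstanceAs (IsMonHom (i ≫ s))
  haveI : Mono i := Over.mono_of_mono_left i
  haveI : Mono s := Over.mono_of_mono_left s
  let b : AlgGrp.Action K X := AlgGrp.Action.restrict j a
  have hb : b.act = (j ▷ X) ≫ a.act := rfl
  have hsurj : Function.Surjective K.hom.appTop.hom :=
    haveI := hKO
    (ConcreteCategory.bijective_of_isIso K.hom.appTop).2
  have htriv := Groth.L19.AlgGrpBasic.act_eq_snd_of_fixed hsurj b x fun T g => by
    rw [hb, lift_whiskerRight_assoc]
    exact (hs T (g ≫ j)).1 ⟨g ≫ i, Category.assoc _ _ _⟩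
  -- all rational points are trivial
  have hpt : ∀ p : 𝟙_ (Over (Spec (CommRingCat.of k))) ⟶ K, p = η[K] := fun p => by
    rw [← cancel_mono j, IsMonHom.one_hom]
    refine hfaith (p ≫ j) ?_
    have h := congrArg (lift (toUnit X ≫ p) (𝟙 X) ≫ ·) (hb.symm.trans htriv)
    simpa [lift_whiskerRight_assoc] using h
  haveI : JacobsonSpace K.left := LocallyOfFiniteType.jacobsonSpace K.hom
  have hr : Set.range η[K].left = Set.univ := by
    rw [Set.eq_univ_iff_forall]
    by_contra hne
    push Not at hne
    haveI : IsClosedImmersion η[K].left := Groth.L08.AbelianGrp.isClosedImmersion_one K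
    obtain ⟨c, hc, hcc⟩ := nonempty_inter_closedPoints (Z := (Set.range η[K].left)ᶜ) hne
      η[K].left.isClosedEmbedding.isClosed_range.isOpen_compl.isLocallyClosed
    refine hc ⟨IsLocalRing.closedPoint k, ?_⟩
    rw [← hpt (Over.homMk (pointOfClosedPoint K.hom c hcc) (pointOfClosedPoint_comp K.hom c hcc))]
    exact pointOfClosedPoint_apply K.hom c hcc _
  haveI : IsClosedImmersion η[K].left := Groth.L08.AbelianGrp.isClosedImmersion_one K
  haveI : Surjective η[K].left := ⟨Set.range_eq_univ.1 hr⟩
  haveI : IsIso η[K].left := isIso_of_isClosedImmersion_of_surjective η[K].left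
  have h1 : η[K].left ≫ K.hom = 𝟙 _ := Over.w η[K]
  exact IsIso.of_isIso_fac_left h1

end Groth.Agent.S11410
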