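import Groth.Statements.S11411
import Groth.Agent.L08.AffHull.Crit
-- import your own Groth.Agent.* helpers here

set_option autoImplicit false
universe u
open CategoryTheory MonoidalCategory CartesianMonoidalCategory MonObj GrpObj AlgebraicGeometry CategoryTheory.Limits
open AlgGrp

namespace Groth.Agent.S11411

/-- Over an algebraically closed field k, let G be an algebraic group (a smooth k-group scheme of finite
type) and N the kernel of the canonical morphism ρ : G → Spec O(G), i.e. the fibre of ρ over the
image of the unit. Then N is the smallest normal subgroup scheme of G with affine quotient: for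
every closed normal subgroup scheme H of G with a flat surjective homomorphism G → Q of k-group
schemes of finite type with kernel H and Q affine, the inclusion of N factors through H. And N is
the largest anti-affine subgroup scheme: every homomorphism and closed immersion into G from a
k-group scheme whose only global functions are the constants factors through N. (The published
statement also asserts O(N) = k, that N is a connected algebraic group central in G⁰, and O(G/N) =
O(G) finitely generated; those parts are not restated here.) -/
theorem result (k : Type u) [Field k] [IsAlgClosed k]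
    (G : Over (Spec (CommRingCat.of k))) [GrpObj G] [Smooth G.hom] [QuasiCompact G.hom] :
    (∀ (H Q : Over (Spec (CommRingCat.of k))) [GrpObj H] [GrpObj Q] (h : H ⟶ G) [IsMonHom h] [IsClosedImmersion h.left]
        [LocallyOfFiniteType Q.hom] [QuasiCompact Q.hom] (q : G ⟶ Q) [IsMonHom q] [Surjective q.left] [Flat q.left],
        AlgGrp.IsKernel h q → IsAffine Q.left →
        ∃ f : pullback G.left.toSpecΓ (η[G].left ≫ G.left.toSpecΓ) ⟶ H.left, f ≫ h.left = pullback.fst G.left.toSpecΓ (η[G].left ≫ G.left.toSpecΓ)) ∧
    (∀ (M : Over (Spec (CommRingCat.of k))) [GrpObj M] (j : M ⟶ G) [IsMonHom j] [IsClosedImmersion j.left],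
        Function.Bijective ((Scheme.ΓSpecIso (CommRingCat.of k)).inv ≫ M.hom.appTop).hom →
        ∃ f : M.left ⟶ pullback G.left.toSpecΓ (η[G].left ≫ G.left.toSpecΓ), f ≫ pullback.fst G.left.toSpecΓ (η[G].left ≫ G.left.toSpecΓ) = j.left) := by
  haveI := Groth.L08.AffHull.compactSpace (G := G)
  haveI := Groth.L08.AffHull.quasiSeparatedSpace (G := G)
  obtain ⟨K, gK, i, _, _, -, sq⟩ := Groth.L08.AbelianGrp.exists_kernel (Groth.L08.AffHull.rho G)
  have sq' : IsPullback i.left (toUnit K).left G.left.toSpecΓ (η[G].left ≫ G.left.toSpecΓ) :=
    sq.map (Over.forget _)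
  refine ⟨fun H Q _ _ h _ _ _ _ q _ _ _ hker hQ => ?_, fun M _ j _ _ hM => ?_⟩
  · haveI := hQ
    obtain ⟨g, _, hg⟩ := Groth.L08.AffHull.exists_hom G q
    obtain ⟨f, hf, -⟩ := hker.exists_lift i (toUnit K) (by
      rw [← hg, reassoc_of% sq.w, IsMonHom.one_hom])
    exact ⟨sq'.isoPullback.inv ≫ f.left, by
      rw [Category.assoc, ← Over.comp_left, hf, sq'.isoPullback_inv_fst]⟩
  · haveI : LocallyOfFiniteType M.hom := by rw [← Over.w j]; infer_instance
    haveI : QuasiCompact M.hom := by rw [← Over.w j]; infer_instance
    have e := Groth.L08.AffHull.hom_eq_one ((Groth.L08.AffHull.bijective_iff_isIso M).1 hM)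
      (j ≫ Groth.L08.AffHull.rho G)
    obtain ⟨z, hz, -⟩ := sq.exists_lift j (toUnit M) (by rw [e, Hom.one_def])
    exact ⟨z.left ≫ sq'.isoPullback.hom, by rw [Category.assoc, sq'.isoPullback_hom_fst, ← Over.comp_left, hz]⟩

end Groth.Agent.S11411
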