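import Groth.Statements.S19702
import Groth.Agent.L22.AffineDescent
import Groth.Agent.L08.AbelianGrp

set_option autoImplicit false
universe u
open CategoryTheory MonoidalCategory CartesianMonoidalCategory MonObj GrpObj AlgebraicGeometry CategoryTheory.Limits
open AlgGrp

namespace Groth.Agent.S19702

/-- Let k be a field, K a field extension of k and G a k-group scheme of finite type. Then G is
anti-affine, i.e. O(G) = k, if and only if the base change G_K is anti-affine, i.e. O(G_K) = K. -/
theorem result (k : Type u) [Field k] (K : Type u) [Field K] [Algebra k K]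
    (G : Over (Spec (CommRingCat.of k))) [GrpObj G] [LocallyOfFiniteType G.hom] [QuasiCompact G.hom] :
    Function.Bijective ((Scheme.ΓSpecIso (CommRingCat.of k)).inv ≫ G.hom.appTop).hom ↔
      Function.Bijective ((Scheme.ΓSpecIso (CommRingCat.of K)).inv ≫ (Red.bc (Spec.map (CommRingCat.ofHom (algebraMap k K))) G).hom.appTop).hom := by
  let i : Spec (CommRingCat.of K) ⟶ Spec (CommRingCat.of k) := Spec.map (CommRingCat.ofHom (algebraMap k K))
  haveI : Flat i := inferInstance
  haveI : Surjective i := inferInstance
  haveI := Groth.L08.AbelianGrp.isSeparated G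
  haveI : CompactSpace G.left := QuasiCompact.compactSpace_of_compactSpace G.hom
  haveI : QuasiSeparatedSpace G.left := quasiSeparatedSpace_of_quasiSeparated G.hom
  have H : IsPullback (pullback.fst G.hom i) (Red.bc i G).hom G.hom i := IsPullback.of_hasPullback _ _
  have hR := ((Groth.L22.AffDesc.isPushout_appTop H).op.map Scheme.Spec).flip
  have key : IsIso G.hom.appTop ↔ IsIso (Red.bc i G).hom.appTop := by
    constructor
    · intro h
      have : IsIso (Spec.map (Red.bc i G).hom.appTop) := MorphismProperty.of_isPullback (P := MorphismProperty.isomorphisms Scheme) hR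
        (show IsIso (Scheme.Spec.map G.hom.appTop.op) from inferInstance)
      haveI : IsIso (Scheme.Spec.map (Red.bc i G).hom.appTop.op) := this
      haveI : IsIso (Red.bc i G).hom.appTop.op := isIso_of_reflects_iso _ Scheme.Spec
      exact isIso_of_op _
    · intro h
      have hfs' : (@Surjective ⊓ @Flat : MorphismProperty Scheme.{u}) (Spec.map i.appTop) :=
        (MorphismProperty.arrow_mk_iso_iff _
          (Arrow.isoMk (Spec (CommRingCat.of K)).isoSpec (Spec (CommRingCat.of k)).isoSpec (by
            simpa [Scheme.isoSpec] using (Scheme.toSpecΓ_naturality i).symm) :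
            Arrow.mk i ≅ Arrow.mk (Spec.map i.appTop))).1 ⟨inferInstance, inferInstance⟩
      have : IsIso (Spec.map G.hom.appTop) := MorphismProperty.of_isPullback_of_descendsAlong
        (P := MorphismProperty.isomorphisms Scheme) (Q := @Surjective ⊓ @Flat ⊓ @QuasiCompact) hR.flip
        ⟨⟨hfs'.1, hfs'.2⟩, inferInstance⟩ (inferInstanceAs (IsIso (Spec.map (Red.bc i G).hom.appTop)))
      haveI : IsIso (Scheme.Spec.map G.hom.appTop.op) := this
      haveI : IsIso G.hom.appTop.op := isIso_of_reflects_iso _ Scheme.Spec
      exact isIso_of_op _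
  have conv : ∀ {R A : CommRingCat.{u}} {X : CommRingCat.{u}} (e : R ≅ A) (f : A ⟶ X),
      Function.Bijective (e.hom ≫ f).hom ↔ IsIso f := fun e f => by
    rw [← ConcreteCategory.isIso_iff_bijective]
    exact isIso_comp_left_iff e.hom f
  exact ((conv (Scheme.ΓSpecIso _).symm _).trans key).trans (conv (Scheme.ΓSpecIso _).symm _).symm

end Groth.Agent.S19702
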