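import Groth.Statements.S11413
import Groth.Agent.L08.SmallNorm.DescFin
import Groth.Agent.L08.SmallNorm.FinFieldProper
import Groth.Agent.S19702
-- import your own Groth.Agent.* helpers here

set_option autoImplicit false
set_option backward.isDefEq.respectTransparency.types false
set_option linter.style.haveILetI false
universe u
open CategoryTheory MonoidalCategory CartesianMonoidalCategory MonObj GrpObj AlgebraicGeometry CategoryTheory.Limits
open AlgGrp

namespace Groth.Agent.S11413

/-- a group with a finite-field model -/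
theorem isProper_of_model {F k : Type u} [Field F] [Finite F] [Field k] [Algebra F k]
    {X₁ : Over (Spec (CommRingCat.of F))} [GrpObj X₁] [LocallyOfFiniteType X₁.hom] [QuasiCompact X₁.hom]
    {G : Over (Spec (CommRingCat.of k))} (E : Red.bc (AbVar.ext F k) X₁ ⟶ G) [IsIso E]
    (hG : Function.Bijective ((Scheme.ΓSpecIso (CommRingCat.of k)).inv ≫ G.hom.appTop).hom) : IsProper G.hom := by
  haveI : IsIso E.left := inferInstanceAs (IsIso ((Over.forget _).map E))
  have hE : E.left ≫ G.hom = (Red.bc (AbVar.ext F k) X₁).hom := Over.w E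
  haveI : IsIso (Red.bc (AbVar.ext F k) X₁).hom.appTop := by
    haveI : IsIso G.hom.appTop := (Groth.L08.Chev.bijective_iff_isIso G).1 hG
    haveI : IsIso E.left.appTop := inferInstanceAs (IsIso (E.left.app ⊤))
    rw [← hE, Scheme.Hom.comp_appTop]
    exact IsIso.comp_isIso
  have hX : IsIso X₁.hom.appTop :=
    (Groth.L08.Chev.bijective_iff_isIso X₁).1 ((Groth.Agent.S19702.result F k X₁).2
      ((Groth.L08.Chev.bijective_iff_isIso (Red.bc (AbVar.ext F k) X₁)).2 inferInstance))
  haveI : IsProper X₁.hom := Groth.L08.SmallNorm.isProper_of_antiAffine_finite X₁ hX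
  haveI : IsProper (Red.bc (AbVar.ext F k) X₁).hom :=
    MorphismProperty.pullback_snd (P := @IsProper) X₁.hom (AbVar.ext F k) ‹_›
  rw [show G.hom = CategoryTheory.inv E.left ≫ (Red.bc (AbVar.ext F k) X₁).hom by rw [← hE, IsIso.inv_hom_id_assoc]]
  infer_instance

/-- Let k be an algebraically closed field of characteristic p > 0 which is algebraic over its prime
field (every element x satisfies x^(p^n) = x for some n ≥ 1), so that k is an algebraic closure of a
finite field. Over such a field k, anti-affine algebraic groups are abelian varieties: every smooth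
k-group scheme of finite type whose only global functions are the constants is proper over k. -/
theorem result (k : Type u) [Field k] [IsAlgClosed k]
    (p : ℕ) [Fact p.Prime] [CharP k p] (halg : ∀ x : k, ∃ n : ℕ, 0 < n ∧ x ^ p ^ n = x)
    (G : Over (Spec (CommRingCat.of k))) [GrpObj G] [Smooth G.hom] [QuasiCompact G.hom]
    (hG : Function.Bijective ((Scheme.ΓSpecIso (CommRingCat.of k)).inv ≫ G.hom.appTop).hom) : IsProper G.hom := by
  classical
  letI : Algebra (ZMod p) k := ZMod.algebra k p
  let k₀ : Type u := ↥(⊥ : IntermediateField (ZMod p) k)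
  haveI : Finite k₀ := Finite.of_equiv (ZMod p) (IntermediateField.botEquiv (ZMod p) k).symm.toEquiv
  haveI : Algebra.IsAlgebraic (ZMod p) k := ⟨fun x => by
    obtain ⟨n, hn, hx⟩ := halg x
    exact ⟨Polynomial.X ^ (p ^ n) - Polynomial.X,
      FiniteField.X_pow_card_sub_X_ne_zero (ZMod p) (Nat.one_lt_pow hn.ne' (Fact.out : p.Prime).one_lt),
      by simp [hx]⟩⟩
  haveI : Algebra.IsAlgebraic k₀ k := Algebra.IsAlgebraic.tower_top (K := ZMod p) k₀
  haveI : IsSeparated G.hom := Groth.Agent.AV.isSeparated_of_grpObj G
  obtain ⟨L, X₀, e, _, _, _⟩ := Groth.L08.SmallNorm.exists_model (k := k₀) G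
  haveI : FiniteDimensional k₀ L.1 := L.2
  haveI : Finite L.1 := Module.finite_of_finite k₀
  haveI : Algebra.IsAlgebraic L.1 k := Algebra.IsAlgebraic.tower_top (K := k₀) L.1
  obtain ⟨M, X₁, gX, E, _, _, _, _⟩ := Groth.L08.SmallNorm.exists_grp_stage (k := L.1) e
  haveI : FiniteDimensional L.1 M.1 := M.2
  haveI : Finite M.1 := Module.finite_of_finite L.1
  exact isProper_of_model E hG

end Groth.Agent.S11413
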