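import Groth.Statements.S11414
import Groth.Agent.L08.Borel.GaffBorel
-- import your own Groth.Agent.* helpers here

set_option autoImplicit false
set_option backward.isDefEq.respectTransparency.types false
set_option linter.style.haveILetI false
universe u
open CategoryTheory MonoidalCategory CartesianMonoidalCategory MonObj GrpObj AlgebraicGeometry CategoryTheory.Limits
open AlgGrp

namespace Groth.Agent.S11414

/-- Over an algebraically closed field k, let G be a connected algebraic group (smooth k-group scheme of
finite type), let i : N → G be its largest connected affine normal algebraic subgroup G_aff (a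
homomorphism and closed immersion from a smooth, connected, affine k-group scheme, normal in G,
through which every other such subgroup factors), let H be a closed subgroup scheme of G and X = G/H
a quotient (a k-scheme with a G-action and a rational point o whose orbit map is flat and surjective
and identifies G × H with G ×_X G). Then X is proper over k exactly when some Borel subgroup of
G_aff lies in H (factors through H). (The published statement adds, for such a Borel subgroup B, an
isomorphism of G/B with the product of G/G_aff and G_aff/B; it is not stated here.) -/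
theorem result (k : Type u) [Field k] [IsAlgClosed k]
    (G : Over (Spec (CommRingCat.of k))) [GrpObj G] [Smooth G.hom] [QuasiCompact G.hom] [ConnectedSpace ↥G.left]
    (N : Over (Spec (CommRingCat.of k))) [GrpObj N] (i : N ⟶ G) [IsMonHom i] [IsClosedImmersion i.left]
    [Smooth N.hom] [ConnectedSpace ↥N.left] [IsAffine N.left] (hN : AlgGrp.IsNormalHom i)
    (hNmax : ∀ (N' : Over (Spec (CommRingCat.of k))) [GrpObj N'] (i' : N' ⟶ G) [IsMonHom i'] [IsClosedImmersion i'.left]
      [Smooth N'.hom] [ConnectedSpace ↥N'.left] [IsAffine N'.left], AlgGrp.IsNormalHom i' → ∃ f : N' ⟶ N, f ≫ i = i')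
    (H : Over (Spec (CommRingCat.of k))) [GrpObj H] (h : H ⟶ G) [IsMonHom h] [IsClosedImmersion h.left]
    (X : Over (Spec (CommRingCat.of k))) (a : AlgGrp.Action G X) (o : 𝟙_ (Over (Spec (CommRingCat.of k))) ⟶ X) (hX : AGF.IsQuotient h X a o) :
    IsProper X.hom ↔ ∃ (B : Over (Spec (CommRingCat.of k))) (_ : GrpObj B) (b : B ⟶ N) (f : B ⟶ H),
      Red.IsBorelOver k b ∧ f ≫ h = b ≫ i := by
  haveI : LocallyOfFiniteType G.hom := inferInstance
  haveI : Mono i := Over.mono_of_mono_left i
  haveI : Mono h := Over.mono_of_mono_left h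
  constructor
  · intro hp
    obtain ⟨B, gB, b₀, hB₀⟩ := Groth.L08.Borel.exists_borel N
    haveI := hB₀.1; haveI := hB₀.2.1; haveI := hB₀.2.2.1; haveI := hB₀.2.2.2.1
    haveI : IsAffine B.left := isAffine_of_isAffineHom b₀.left
    obtain ⟨g, φ, hφ⟩ := Groth.L08.Borel.exists_conj_factor (b₀ ≫ i) hB₀.2.2.2.2.1 hX
    obtain ⟨b, hb, hbi⟩ := Groth.L08.Borel.exists_borel_conj_normal i hN hB₀ g
    exact ⟨B, gB, b, φ, hb, hφ.trans hbi.symm⟩
  · rintro ⟨B, gB, b, f, hB, hf⟩
    haveI := hB.1; haveI := hB.2.1
    -- the quotient by the affine part is proper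
    obtain ⟨Q, gQ, q, hq, hqs, hqf, hqp, hker, hQp, -, -⟩ := Groth.L08.Chev.exists_quotient_av i hN hNmax
    haveI := hq; haveI := hqs; haveI := hqf; haveI := hqp; haveI := hQp
    obtain ⟨Y, c, y, hY, hYs⟩ := Groth.L08.Borel.exists_isQuotient_gen i
    haveI := hYs; haveI := hY.1; haveI := hY.2.2.1
    haveI : EffectiveEpi q.left := inferInstance
    obtain ⟨r, hr, -⟩ := Groth.L25.Actions.existsUnique_desc q (c.orbitMap y) fun T u v e => by
      obtain ⟨z, hz, -⟩ := hker.exists_lift (u⁻¹ * v) (toUnit T) (by
        rw [MonObj.mul_comp, GrpObj.inv_comp, e, inv_mul_cancel, Hom.one_def])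
      exact (Groth.L08.Borel.orbitMap_eq_iff hY u v).2 ⟨z, hz⟩
    haveI : Surjective (q.left ≫ r.left) := by rw [← Over.comp_left, hr]; infer_instance
    haveI : Surjective r.left := Surjective.of_comp q.left r.left
    haveI : IsProper Y.hom := Groth.L08.Chev.isProper_of_surjective r
    -- the quotient by the Borel subgroup is proper
    obtain ⟨Z, d, z, hZ⟩ := Groth.L08.Borel.exists_isQuotient b
    haveI := Groth.L08.Borel.isProper_quotient_of_borel hB hZ
    obtain ⟨W, e, w, hW, hWp⟩ := Groth.L08.Borel.exists_proper_comp_gen hY hZ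
    haveI := hWp
    obtain ⟨s, hs⟩ := Groth.L08.Borel.exists_desc hW (a.orbitMap o) fun T u v ⟨t, ht⟩ =>
      (Groth.L08.Borel.orbitMap_eq_iff hX u v).2 ⟨t ≫ f, by rw [Category.assoc, hf]; exact ht⟩
    haveI := hX.1; haveI := hX.2.2.1
    haveI := Groth.L08.Borel.isSeparated_quotient_gen hX
    haveI : Surjective ((e.orbitMap w).left ≫ s.left) := by rw [← Over.comp_left, hs]; infer_instance
    haveI : Surjective s.left := Surjective.of_comp (e.orbitMap w).left s.left
    exact Groth.L08.Chev.isProper_of_surjective s

end Groth.Agent.S11414
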