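import Groth.Statements.S11416
import Groth.Agent.L19.AlgGrpBasic.RepMatrix
import Groth.Agent.L18.GrpHomFinite
import Mathlib.AlgebraicGeometry.AlgClosed.Basic

set_option autoImplicit false
set_option backward.isDefEq.respectTransparency.types false
set_option backward.isDefEq.respectTransparency false
set_option linter.style.haveILetI false
universe u
open CategoryTheory MonoidalCategory CartesianMonoidalCategory MonObj GrpObj AlgebraicGeometry CategoryTheory.Limits
open AlgGrp

namespace Groth.Agent.S11416

/-- Over an algebraically closed field k, let G be an algebraic group (a smooth k-group scheme of finite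
type) and M a rational G-module, not necessarily finite-dimensional: a k-vector space with a
G-module structure (points of G with values in a k-algebra B act B-linearly on B ⊗ M, naturally in
B) such that every vector lies in a finite-dimensional subspace N with B ⊗ N stable under all
B-points of G. If the representation is faithful, in the sense that every rational point of G acting
as the identity on M is the identity element, then G is affine. -/
theorem result (k : Type u) [Field k] [IsAlgClosed k]
    (G : Over (Spec (CommRingCat.of k))) [GrpObj G] [Smooth G.hom] [QuasiCompact G.hom]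
    (M : Type u) [AddCommGroup M] [Module k M] (m : VecGrp.GMod G M)
    (hlf : ∀ v : M, ∃ N : Submodule k M, v ∈ N ∧ Module.Finite k ↥N ∧
      ∀ (B : Type u) [CommRing B] [Algebra k B] (g : VecGrp.pt k B ⟶ G) (x : VecGrp.W k M B),
        x ∈ Submodule.baseChange B N → m.ρ B g x ∈ Submodule.baseChange B N)
    (hfaith : ∀ g : VecGrp.pt k k ⟶ G, m.ρ k g = 1 → g = 1) :
    IsAffine G.left := by
  classical
  have hGL : ∀ n, Algebra.FiniteType k (CoordGrp.GLn n k) := fun n =>
    haveI : Algebra.FiniteType k (CoordGrp.GLb n k) :=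
      inferInstanceAs (Algebra.FiniteType k (MvPolynomial (CoordGrp.GLPoly.Idx n) k))
    Algebra.FiniteType.of_surjective (CoordGrp.GLn.mk n k) Ideal.Quotient.mk_surjective
  haveI : LocallyOfFiniteType G.hom := inferInstance
  let Idx := {N : Submodule k M // Groth.L19.AlgGrpBasic.RepMatrix.Stable m N ∧ Module.Finite k N}
  haveI : Nonempty Idx := by
    obtain ⟨N, -, hfin, hst⟩ := hlf 0
    exact ⟨⟨N, hst, hfin⟩⟩
  haveI : CompactSpace G.left := QuasiCompact.compactSpace_of_compactSpace G.hom
  haveI : IsLocallyNoetherian G.left := LocallyOfFiniteType.isLocallyNoetherian G.hom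
  haveI : IsNoetherian G.left := {}
  let img : (VecGrp.pt k k ⟶ G) → G.left := fun g => g.left (IsLocalRing.closedPoint k)
  let Z : Idx → TopologicalSpace.Closeds G.left := fun N =>
    TopologicalSpace.Closeds.closure (img '' {g | ∀ x ∈ Submodule.baseChange k N.1, m.ρ k g x = x})
  obtain ⟨_, ⟨N₀, rfl⟩, hmin⟩ := (inferInstance : WellFoundedLT (TopologicalSpace.Closeds G.left)).wf.has_min
    (Set.range Z) (Set.range_nonempty _)
  haveI := N₀.2.2
  obtain ⟨f, _, hf⟩ := Groth.L19.AlgGrpBasic.RepMatrix.exists_hom N₀.2.1
  have hid : ∀ x : Spec (CommRingCat.of k) ⟶ Spec (CommRingCat.of k),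
      x = Spec.map (CommRingCat.ofHom (algebraMap k k)) → x = 𝟙 _ := fun x hx => by
    rw [hx, Algebra.algebraMap_self]; exact Spec.map_id _
  have hrat : ∀ g : VecGrp.pt k k ⟶ G, g ≫ f = 1 → g = 1 := fun g hg => by
    refine hfaith g (LinearEquiv.ext fun x => ?_)
    show m.ρ k g x = x
    induction x using TensorProduct.induction_on with
    | zero => rw [map_zero]
    | add a b ha hb => rw [map_add, ha, hb]
    | tmul c v =>
      obtain ⟨N, hv, hfin, hst⟩ := hlf v
      haveI := hfin
      let N₁ : Idx := ⟨N₀.1 ⊔ N, N₀.2.1.sup hst, inferInstance⟩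
      haveI := N₁.2.2
      obtain ⟨f₁, _, hf₁⟩ := Groth.L19.AlgGrpBasic.RepMatrix.exists_hom N₁.2.1
      have hmono : Submodule.baseChange k N₀.1 ≤ Submodule.baseChange k N₁.1 := by
        rintro _ ⟨w, rfl⟩
        refine ⟨(Submodule.inclusion (le_sup_left : N₀.1 ≤ N₀.1 ⊔ N)).baseChange k w, ?_⟩
        rw [← LinearMap.comp_apply, ← LinearMap.baseChange_comp, Submodule.subtype_comp_inclusion]
      have hle : Z N₁ ≤ Z N₀ := by
        show closure _ ⊆ closure _
        exact closure_mono (Set.image_mono fun g' hg' x hx => hg' x (hmono hx))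
      have heq : Z N₁ = Z N₀ := (eq_or_lt_of_le hle).resolve_right fun hlt => hmin _ ⟨N₁, rfl⟩ hlt
      haveI : Algebra.FiniteType (CommRingCat.of k) (CommRingCat.of (CoordGrp.GLn (Module.finrank k N₁.1) k)) := hGL _
      let T := CoactBr.sp k (CoordGrp.GLn (Module.finrank k N₁.1) k)
      haveI : LocallyOfFiniteType T.hom :=
        locallyOfFiniteType_specOverSpec (R := CommRingCat.of k) (A := CommRingCat.of (CoordGrp.GLn (Module.finrank k N₁.1) k))
      let e : VecGrp.pt k k ⟶ T := 1
      let e0 : T.left := e.left (IsLocalRing.closedPoint k)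
      have hcl : IsClosed ({e0} : Set T.left) :=
        ((pointEquivClosedPoint T.hom) ⟨e.left, hid _ (Over.w e)⟩).2
      have hsub : img '' {g' | ∀ x ∈ Submodule.baseChange k N₁.1, m.ρ k g' x = x} ⊆ f₁.left ⁻¹' {e0} := by
        rintro _ ⟨g', hg', rfl⟩
        show f₁.left (g'.left (IsLocalRing.closedPoint k)) = e0
        rw [← Scheme.Hom.comp_apply, ← Over.comp_left, (hf₁ g').2 hg']
      have hg0 : img g ∈ Z N₀ := subset_closure ⟨g, (hf g).1 hg, rfl⟩
      rw [← heq] at hg0
      have hg1 : (g ≫ f₁).left (IsLocalRing.closedPoint k) = e0 :=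
        closure_minimal hsub (hcl.preimage f₁.left.continuous) hg0
      have hg2 : g ≫ f₁ = 1 := Over.OverMorphism.ext
        (ext_of_apply_closedPoint_eq T.hom (hid _ (Over.w _)) (hid _ (Over.w _)) hg1)
      refine (hf₁ g).1 hg2 _ ⟨c ⊗ₜ[k] ⟨v, Submodule.mem_sup_right hv⟩, ?_⟩
      simp
  haveI : Algebra.FiniteType (CommRingCat.of k) (CommRingCat.of (CoordGrp.GLn (Module.finrank k N₀.1) k)) := hGL _
  let T₀ := CoactBr.sp k (CoordGrp.GLn (Module.finrank k N₀.1) k)
  haveI : LocallyOfFiniteType T₀.hom :=
    locallyOfFiniteType_specOverSpec (R := CommRingCat.of k) (A := CommRingCat.of (CoordGrp.GLn (Module.finrank k N₀.1) k))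
  haveI : IsAffine T₀.left := inferInstanceAs (IsAffine (Spec _))
  haveI := Groth.L08.AbelianGrp.quasiCompact_left f
  obtain ⟨E, gE, i, _, _, -, sq⟩ := Groth.L08.AbelianGrp.exists_kernel f
  haveI : LocallyOfFiniteType E.hom := by rw [← Over.w i]; infer_instance
  haveI : QuasiCompact E.hom := by rw [← Over.w i]; infer_instance
  haveI : JacobsonSpace E.left := LocallyOfFiniteType.jacobsonSpace E.hom
  have hclosed : ∀ x ∈ closedPoints E.left, i.left x = (1 : VecGrp.pt k k ⟶ G).left (IsLocalRing.closedPoint k) := by
    intro x hx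
    let p : VecGrp.pt k k ⟶ E := Over.homMk (pointOfClosedPoint E.hom x hx) (by
      rw [pointOfClosedPoint_comp]
      exact (hid _ rfl).symm)
    have hp : (p ≫ i) ≫ f = 1 := by
      rw [Category.assoc, sq.w, ← Category.assoc, toUnit_unique (p ≫ toUnit E) (toUnit _), Hom.one_def]
    rw [← hrat _ hp, Over.comp_left, Scheme.Hom.comp_apply]
    congr 1
    exact (pointOfClosedPoint_apply E.hom x hx _).symm
  have hinj : Function.Injective i.left := i.left.isClosedEmbedding.injective
  have hall : ∀ y : E.left, i.left y = (1 : VecGrp.pt k k ⟶ G).left (IsLocalRing.closedPoint k) := by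
    intro y
    obtain ⟨x, hxy, hx⟩ : (closure {y} ∩ closedPoints E.left).Nonempty := by
      by_contra h
      have := JacobsonSpace.closure_inter_closedPoints (X := E.left) (isClosed_closure (s := {y}))
      rw [Set.not_nonempty_iff_eq_empty.1 h, closure_empty] at this
      exact (Set.singleton_nonempty y).mono subset_closure |>.ne_empty this.symm
    have hsingle : closedPoints E.left ⊆ {x} := fun z hz => hinj ((hclosed z hz).trans (hclosed x hx).symm)
    have : closure ({y} : Set E.left) ⊆ {x} := by
      rw [← JacobsonSpace.closure_inter_closedPoints (X := E.left) (isClosed_closure (s := {y}))]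
      exact closure_minimal (fun z hz => hsingle hz.2) hx
    rw [show y = x from this (subset_closure rfl), hclosed x hx]
  haveI : LocallyQuasiFinite E.hom :=
    LocallyQuasiFinite.of_injective (fun y z _ => hinj ((hall y).trans (hall z).symm))
  haveI : IsFinite E.hom := IsFinite.of_locallyQuasiFinite E.hom
  haveI : IsFinite f.left := Groth.L18.GrpHomFinite.isFinite_of_kernel_finite f i sq
  exact isAffine_of_isAffineHom f.left

end Groth.Agent.S11416
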