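import Groth.Statements.S11418
import Groth.Agent.L19.AlgGrpBasic.AssocBundle

set_option autoImplicit false
set_option backward.isDefEq.respectTransparency.types false
set_option backward.isDefEq.respectTransparency false
set_option linter.style.haveILetI false
universe u
open CategoryTheory MonoidalCategory CartesianMonoidalCategory MonObj GrpObj AlgebraicGeometry CategoryTheory.Limits
open AlgGrp

namespace Groth.Agent.S11418

/-- Over an algebraically closed field k, let G be an affine algebraic group (smooth affine k-group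
scheme of finite type) and π : X → Y a principal G-bundle of k-schemes of finite type: G acts on X,
π is G-invariant, faithfully flat, and the square formed by the action, the second projection G × X
→ X and π is cartesian. Then the map θ sending a G-equivariant morphism f : X → G (for the
conjugation action on G, i.e. f(g·x) = g f(x) g⁻¹ on points) to the automorphism x ↦ f(x)·x is a
bijection onto the bundle automorphisms: every G-equivariant automorphism φ of X with π ∘ φ = π
equals θ(f) for exactly one such f. -/
theorem result (k : Type u) [Field k] [IsAlgClosed k]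
    (G X Y : Over (Spec (CommRingCat.of k))) [GrpObj G] [Smooth G.hom] [QuasiCompact G.hom] [IsAffine G.left]
    [LocallyOfFiniteType X.hom] [QuasiCompact X.hom] [LocallyOfFiniteType Y.hom] [QuasiCompact Y.hom]
    (a : AlgGrp.Action G X) (π : X ⟶ Y) (hinv : a.act ≫ π = snd G X ≫ π) [Flat π.left] [Surjective π.left]
    (hcart : IsPullback (snd G X) a.act π π)
    (φ : X ≅ X) (hφ : φ.hom ≫ π = π) (hφeq : (G ◁ φ.hom) ≫ a.act = a.act ≫ φ.hom) :
    ∃! f : X ⟶ G, (∀ (S : Over (Spec (CommRingCat.of k))) (g : S ⟶ G) (x : S ⟶ X),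
        lift g x ≫ a.act ≫ f = g * (x ≫ f) * g⁻¹) ∧ φ.hom = lift f (𝟙 X) ≫ a.act := by
  have hsq : IsPullback a.act.left (snd G X).left π.left π.left :=
    hcart.flip.map (Over.forget (Spec (CommRingCat.of k)))
  obtain ⟨f, hf, hu⟩ := Groth.L19.AlgGrpBasic.Assoc.existsUnique_translator a hsq φ.hom (𝟙 X)
    (by rw [hφ, Category.id_comp])
  refine ⟨f, ⟨fun S g x => ?_, hf.symm⟩, fun f' hf' => hu f' hf'.2.symm⟩
  have hpt : ∀ {S : Over (Spec (CommRingCat.of k))} (y : S ⟶ X), lift (y ≫ f) y ≫ a.act = y ≫ φ.hom := fun y => by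
    rw [← hf, ← Category.assoc y (lift f (𝟙 X)), comp_lift, Category.comp_id]
  have h : (lift g x ≫ a.act) ≫ π = x ≫ π := by
    rw [Category.assoc, hinv, ← Category.assoc, lift_snd]
  have hw : lift g (x ≫ φ.hom) ≫ a.act = (lift g x ≫ a.act) ≫ φ.hom := by
    rw [Category.assoc, ← hφeq, ← Category.assoc, lift_whiskerLeft]
  obtain ⟨t, -, htu⟩ := Groth.L19.AlgGrpBasic.Assoc.existsUnique_translator a hsq ((lift g x ≫ a.act) ≫ φ.hom)
    (lift g x ≫ a.act) (by rw [Category.assoc, hφ])
  rw [← Category.assoc, htu _ (hpt (lift g x ≫ a.act))]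
  refine (htu _ ?_).symm
  show lift _ _ ≫ a.act = _
  rw [Groth.L25.Actions.mul_act, Groth.L25.Actions.inv_act, Groth.L25.Actions.mul_act, hpt x, hw]

end Groth.Agent.S11418
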