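import Groth.Statements.S11419
import Groth.Agent.L08.Borel.GaffBorel
import Groth.Agent.L19.WittExt.Pts
import Groth.Agent.L08.Borel.BorelNorm
-- import your own Groth.Agent.* helpers here

set_option autoImplicit false
set_option backward.isDefEq.respectTransparency.types false
set_option linter.style.haveILetI false
universe u
open CategoryTheory MonoidalCategory CartesianMonoidalCategory MonObj GrpObj AlgebraicGeometry CategoryTheory.Limits
open AlgGrp

namespace Groth.Agent.S11419

/-- Over an algebraically closed field k, let G be a connected algebraic group (smooth k-group scheme of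
finite type), let i : N → G be its largest connected affine normal algebraic subgroup G_aff (a
homomorphism and closed immersion from a smooth, connected, affine k-group scheme, normal in G,
through which every other such subgroup factors), let j : M → G be its largest anti-affine subgroup
scheme G_ant (a homomorphism and closed immersion from a k-group scheme M whose only global
functions are the constants, through which every other such subgroup scheme factors), and let h : H
→ G be a maximal connected solvable algebraic subgroup (maximal among smooth, connected, solvable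
closed subgroup schemes). Then H contains G_ant; there is a Borel subgroup B of G_aff contained in H
with H = B · G_ant (the multiplication B × G_ant → H is surjective); and every other maximal
connected solvable algebraic subgroup of G is conjugate to H by a rational point of G. (The
published statement also identifies B with the scheme-theoretic intersection of G_aff and H, says H
is its own set-theoretic normalizer, and gives G/H ≅ G_aff/B; those clauses are not stated here.) -/
theorem result (k : Type u) [Field k] [IsAlgClosed k]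
    (G : Over (Spec (CommRingCat.of k))) [GrpObj G] [Smooth G.hom] [QuasiCompact G.hom] [ConnectedSpace ↥G.left]
    (N : Over (Spec (CommRingCat.of k))) [GrpObj N] (i : N ⟶ G) [IsMonHom i] [IsClosedImmersion i.left]
    [Smooth N.hom] [ConnectedSpace ↥N.left] [IsAffine N.left] (hN : AlgGrp.IsNormalHom i)
    (hNmax : ∀ (N' : Over (Spec (CommRingCat.of k))) [GrpObj N'] (i' : N' ⟶ G) [IsMonHom i'] [IsClosedImmersion i'.left]
      [Smooth N'.hom] [ConnectedSpace ↥N'.left] [IsAffine N'.left], AlgGrp.IsNormalHom i' → ∃ f : N' ⟶ N, f ≫ i = i')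
    (M : Over (Spec (CommRingCat.of k))) [GrpObj M] (j : M ⟶ G) [IsMonHom j] [IsClosedImmersion j.left]
    (hM : Function.Bijective ((Scheme.ΓSpecIso (CommRingCat.of k)).inv ≫ M.hom.appTop).hom)
    (hMmax : ∀ (M' : Over (Spec (CommRingCat.of k))) [GrpObj M'] (j' : M' ⟶ G) [IsMonHom j'] [IsClosedImmersion j'.left],
      Function.Bijective ((Scheme.ΓSpecIso (CommRingCat.of k)).inv ≫ M'.hom.appTop).hom → ∃ f : M' ⟶ M, f ≫ j = j')
    (H : Over (Spec (CommRingCat.of k))) [GrpObj H] (h : H ⟶ G) (hH : Red.IsBorelOver k h) :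
    (∃ f : M ⟶ H, f ≫ h = j) ∧
    (∃ (B : Over (Spec (CommRingCat.of k))) (_ : GrpObj B) (b : B ⟶ N) (f : B ⟶ H), Red.IsBorelOver k b ∧ f ≫ h = b ≫ i ∧
        ∀ f' : M ⟶ H, f' ≫ h = j → Surjective ((f ⊗ₘ f') ≫ μ[H]).left) ∧
    (∀ (H' : Over (Spec (CommRingCat.of k))) [GrpObj H'] (h' : H' ⟶ G), Red.IsBorelOver k h' →
        ∃ (g : 𝟙_ (Over (Spec (CommRingCat.of k))) ⟶ G) (e : H' ≅ H), e.hom ≫ h = AGF.conjBy g h') := by
  haveI : LocallyOfFiniteType G.hom := inferInstance
  haveI : Mono i := Over.mono_of_mono_left i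
  haveI := hH.1; haveI := hH.2.1; haveI := hH.2.2.1; haveI := hH.2.2.2.1
  haveI : Mono h := Over.mono_of_mono_left h
  haveI : LocallyOfFiniteType M.hom := by rw [← Over.w j]; infer_instance
  haveI : QuasiCompact M.hom := by rw [← Over.w j]; infer_instance
  have hMi := (Groth.L08.Chev.bijective_iff_isIso M).1 hM
  have hMs : Function.Surjective M.hom.appTop.hom :=
    haveI := hMi; (ConcreteCategory.bijective_of_isIso M.hom.appTop).2
  obtain ⟨𝒟, hD⟩ := Groth.L08.Borel.exists_genData_antiAffine G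
  letI := 𝒟.grpH; letI := 𝒟.grpD; letI := 𝒟.grpL
  haveI := 𝒟.affH; haveI := 𝒟.smH; haveI := 𝒟.connH; haveI := 𝒟.homρ
  haveI := 𝒟.homκ; haveI := 𝒟.clκ; haveI := 𝒟.smD; haveI := 𝒟.qcD
  obtain ⟨fD, hfD⟩ := Groth.L08.Borel.exists_factor_kappa 𝒟 hH
  have hjρ : j ≫ 𝒟.ρ = 1 := Groth.L08.Chev.eq_one_of_antiaffine hMs (j ≫ 𝒟.ρ) (IsMonHom.one_hom (f := j ≫ 𝒟.ρ))
  refine ⟨?_, ?_, fun H' _ h' hH' => ?_⟩
  · obtain ⟨l, hl, -⟩ := 𝒟.kerκ.exists_lift j (toUnit M) (by rw [hjρ, Hom.one_def])
    exact ⟨l ≫ fD, by rw [Category.assoc, hfD, hl]⟩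
  · -- a Borel subgroup of the affine part inside `H`
    obtain ⟨B, gB, b₀, hB₀⟩ := Groth.L08.Borel.exists_borel N
    haveI := hB₀.1; haveI := hB₀.2.1; haveI := hB₀.2.2.1; haveI := hB₀.2.2.2.1
    haveI : IsClosedImmersion (b₀ ≫ i).left := inferInstanceAs (IsClosedImmersion (b₀.left ≫ i.left))
    obtain ⟨H₀, g₀, h₀, hH₀, f₀, hf₀⟩ := Groth.L08.Borel.exists_borel_ge (b₀ ≫ i) hB₀.2.2.2.2.1
    obtain ⟨g, φ, hφ⟩ := Groth.L08.Borel.exists_borel_conj hH₀ hH
    obtain ⟨b, hb, hbi⟩ := Groth.L08.Borel.exists_borel_conj_normal i hN hB₀ g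
    have hf : (f₀ ≫ φ.hom) ≫ h = b ≫ i := by
      rw [Category.assoc, hφ, Groth.L08.Borel.comp_conjBy, hf₀, hbi]
    refine ⟨B, gB, b, f₀ ≫ φ.hom, hb, hf, fun f' hf' => ?_⟩
    haveI := hb.1; haveI := hb.2.1
    haveI : IsMonHom (f₀ ≫ φ.hom) := Groth.L08.Borel.isMonHom_of_comp_mono _ h (b ≫ i) hf
    haveI : IsMonHom f' := Groth.L08.Borel.isMonHom_of_comp_mono _ h j hf'
    have hc := Groth.L08.Centre.central (H := M) (G := G) hMs j
    haveI : IsMonHom (((f₀ ≫ φ.hom) ⊗ₘ f') ≫ μ[H]) :=
      Groth.L08.Chev.isMonHom_mul (f₀ ≫ φ.hom) f' fun T x m => by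
        rw [← cancel_mono h, MonObj.mul_comp, MonObj.mul_comp, Category.assoc m, hf']
        have := congrArg (fun e => CartesianMonoidalCategory.lift m ((x ≫ f₀ ≫ φ.hom) ≫ h) ≫ e) hc
        simp only [MonObj.comp_mul, lift_fst_assoc, lift_snd] at this
        exact this.symm
    haveI : IsAffine B.left := isAffine_of_isAffineHom b.left
    haveI : LocallyOfFiniteType B.hom := inferInstance
    haveI : QuasiCompact B.hom := quasiCompact_of_compactSpace _
    haveI : LocallyOfFiniteType (B ⊗ M).hom := Groth.L19.AlgGrpBasic.lft_tensor B M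
    haveI : QuasiCompact (B ⊗ M).hom := Groth.L19.AlgGrpBasic.qc_tensor B M
    haveI : LocallyOfFiniteType H.hom := inferInstance
    haveI : QuasiCompact H.hom := by rw [← Over.w h]; infer_instance
    refine Groth.L19.WittExt.surjective_of_pts _ fun x => ?_
    -- the image of `B` in the affine quotient is the Borel subgroup below `H`
    obtain ⟨B', gB', i', p', hB', hp', -⟩ := Groth.L08.Borel.exists_borel_below 𝒟 hH
    haveI := hB'.1; haveI := hB'.2.1
    haveI : Mono i' := Over.mono_of_mono_left i'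
    haveI := 𝒟.homl; haveI := 𝒟.smL; haveI := 𝒟.connL; haveI := 𝒟.affL
    obtain ⟨z, hz⟩ := Groth.L08.Chev.exists_factor_affine i hN hNmax 𝒟.l
    haveI : Surjective (i ≫ 𝒟.ρ).left := by
      haveI := 𝒟.surjL
      haveI : Surjective (z.left ≫ (i ≫ 𝒟.ρ).left) := by
        rw [← Over.comp_left, ← Category.assoc, hz]; infer_instance
      exact Surjective.of_comp z.left _
    obtain ⟨C, gC, pC, iC, -, hpC, hpCs, hC⟩ := Groth.L08.Borel.exists_image_borel (i ≫ 𝒟.ρ) hb
    haveI := hpCs
    haveI : LocallyOfFiniteType C.hom := by haveI := hC.2.2.1; infer_instance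
    haveI := hC.1; haveI := hC.2.1; haveI := hC.2.2.1
    haveI : IsReduced C.left := Groth.Agent.AV.isReduced_of_smooth_field C.hom
    have hBC : ∀ y : 𝟙_ _ ⟶ B, (y ≫ (f₀ ≫ φ.hom) ≫ p') ≫ i' = (y ≫ pC) ≫ iC := fun y => by
      rw [Category.assoc y, Category.assoc _ p' i', hp', ← Category.assoc _ h, hf]
      simp only [Category.assoc, hpC]
    obtain ⟨ι', hι'⟩ := Groth.L08.Borel.exists_fac_closed_of_pts i' iC fun c => by
      obtain ⟨y, hy⟩ := Groth.L08.Borel.exists_pt_lift pC c (pC.left.surjective _)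
      exact ⟨y ≫ (f₀ ≫ φ.hom) ≫ p', by rw [hBC, hy]⟩
    haveI : IsIso ι' := hC.2.2.2.2.2 B' i' ι' hB'.2.1 hB'.2.2.1 hB'.2.2.2.1 hB'.2.2.2.2.1 hι'
    obtain ⟨y, hy⟩ := Groth.L08.Borel.exists_pt_lift pC ((x ≫ p') ≫ inv ι') (pC.left.surjective _)
    have hxy : x ≫ h ≫ 𝒟.ρ = (y ≫ (f₀ ≫ φ.hom) ≫ h) ≫ 𝒟.ρ := by
      have e := hBC y
      rw [hy, ← hι'] at e
      simp only [Category.assoc, IsIso.inv_hom_id_assoc, hp'] at e ⊢
      exact e.symm
    obtain ⟨d, hd, -⟩ := 𝒟.kerκ.exists_lift ((y ≫ (f₀ ≫ φ.hom) ≫ h)⁻¹ * (x ≫ h)) (toUnit _) (by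
      rw [MonObj.mul_comp, GrpObj.inv_comp, Category.assoc x h, hxy, inv_mul_cancel, Hom.one_def])
    haveI : LocallyOfFiniteType 𝒟.D.hom := inferInstance
    obtain ⟨l, hl⟩ := hMmax 𝒟.D 𝒟.κ ((Groth.L08.Chev.bijective_iff_isIso 𝒟.D).2 hD)
    refine ⟨CartesianMonoidalCategory.lift y (d ≫ l), ?_⟩
    rw [← cancel_mono h, lift_map_assoc, ← Hom.mul_def, MonObj.mul_comp]
    simp only [Category.assoc, hf', hl, hd]
    rw [mul_inv_cancel_left]
  · obtain ⟨g, φ, hφ⟩ := Groth.L08.Borel.exists_borel_conj hH' hH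
    exact ⟨g, φ, hφ⟩

end Groth.Agent.S11419
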