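import Groth.Statements.S11420
import Groth.Agent.L08.AntiAffRigid
import Groth.Agent.L08.Albanese.AbSub
import Groth.Agent.L08.Cube.SliceFibre
import Groth.Agent.L25.Component

set_option autoImplicit false
set_option backward.isDefEq.respectTransparency.types false
set_option linter.style.haveILetI false
universe u
open CategoryTheory MonoidalCategory CartesianMonoidalCategory MonObj GrpObj AlgebraicGeometry CategoryTheory.Limits
open AlgGrp

namespace Groth.Agent.S11420

variable {k : Type u} [Field k] [IsAlgClosed k]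

/-- The component of an action on a product in one factor only depends on the point of that factor. -/
theorem exists_component (G P Q : Over (Spec (CommRingCat.of k))) [GrpObj G] [LocallyOfFiniteType G.hom]
    [QuasiCompact G.hom] [ConnectedSpace ↥G.left] [IsProper P.hom] [AlgebraicGeometry.IsIntegral P.left]
    [IsProper Q.hom] [AlgebraicGeometry.IsIntegral Q.left]
    (p₀ : 𝟙_ (Over (Spec (CommRingCat.of k))) ⟶ P) (_q₀ : 𝟙_ (Over (Spec (CommRingCat.of k))) ⟶ Q)
    (D : ∀ {T : Over (Spec (CommRingCat.of k))}, (T ⟶ G) → (T ⟶ P) → (T ⟶ Q) → (T ⟶ P))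
    (hnat : ∀ {T' T : Over (Spec (CommRingCat.of k))} (t : T' ⟶ T) (g : T ⟶ G) (p : T ⟶ P) (q : T ⟶ Q),
      t ≫ D g p q = D (t ≫ g) (t ≫ p) (t ≫ q))
    (hone : ∀ {T : Over (Spec (CommRingCat.of k))} (p : T ⟶ P) (q : T ⟶ Q), D 1 p q = p) :
    ∃ B : G ⊗ P ⟶ P, ∀ {T : Over (Spec (CommRingCat.of k))} (g : T ⟶ G) (p : T ⟶ P) (q : T ⟶ Q),
      D g p q = lift g p ≫ B := by
  haveI : GeometricallyIntegral Q.hom := Groth.L08.Cube.geometricallyIntegral_of_isAlgClosed Q.hom
  haveI := Groth.L08.Albanese.isIso_appTop_of_proper Q.hom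
  have hQ : Function.Bijective ((Scheme.ΓSpecIso (CommRingCat.of k)).inv ≫ Q.hom.appTop).hom :=
    ConcreteCategory.bijective_of_isIso ((Scheme.ΓSpecIso (CommRingCat.of k)).inv ≫ Q.hom.appTop)
  haveI : IsLocallyNoetherian G.left := LocallyOfFiniteType.isLocallyNoetherian G.hom
  haveI : IrreducibleSpace G.left := Groth.L25.Component.irreducibleSpace G
  haveI : GeometricallyIrreducible G.hom := Groth.L25.Component.geometricallyIrreducible G
  haveI : IrreducibleSpace (G ⊗ P).left := inferInstanceAs (IrreducibleSpace ↥(pullback G.hom P.hom))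
  haveI : LocallyOfFiniteType (G ⊗ P).hom :=
    inferInstanceAs (LocallyOfFiniteType (pullback.fst G.hom P.hom ≫ G.hom))
  haveI : QuasiCompact (G ⊗ P).hom := inferInstanceAs (QuasiCompact (pullback.fst G.hom P.hom ≫ G.hom))
  let F : Q ⊗ (G ⊗ P) ⟶ P := D (snd _ _ ≫ fst _ _) (snd _ _ ≫ snd _ _) (fst _ _)
  obtain ⟨B, hB, -⟩ := Groth.L08.AntiAffRigid.existsUnique_factor_snd hQ F (lift η[G] p₀) p₀ (by
    simp only [F, hnat, whiskerLeft_snd_assoc, whiskerLeft_fst, lift_fst, lift_snd]
    rw [Subsingleton.elim (snd Q (𝟙_ _)) (toUnit _), ← Hom.one_def, hone])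
  refine ⟨B, fun g p q => ?_⟩
  have h := congrArg (lift q (lift g p) ≫ ·) hB
  simpa only [F, hnat, lift_snd_assoc, lift_fst, lift_snd] using h

/-- Over an algebraically closed field k, let X and Y be complete varieties (proper, integral, separated
k-schemes of finite type) and let a connected k-group scheme of finite type G act on X × Y. Then
there are unique actions of G on X and on Y such that the given action is the product action g·(x,
y) = (g·x, g·y). (This is the form, for actions of connected group schemes, of the identification of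
the neutral component of the automorphism group scheme of X × Y with the product of those of X and
Y; the representability of these group schemes is not asserted here.) -/
theorem result (k : Type u) [Field k] [IsAlgClosed k]
    (G X Y : Over (Spec (CommRingCat.of k))) [GrpObj G] [LocallyOfFiniteType G.hom] [QuasiCompact G.hom] [ConnectedSpace ↥G.left]
    [IsProper X.hom] [IsIntegral X.left]
    [IsProper Y.hom] [IsIntegral Y.left]
    (a : AlgGrp.Action G (X ⊗ Y)) :
    ∃ (b : AlgGrp.Action G X) (c : AlgGrp.Action G Y),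
      a.act = lift ((G ◁ fst X Y) ≫ b.act) ((G ◁ snd X Y) ≫ c.act) ∧
      ∀ (b' : AlgGrp.Action G X) (c' : AlgGrp.Action G Y),
        a.act = lift ((G ◁ fst X Y) ≫ b'.act) ((G ◁ snd X Y) ≫ c'.act) → b' = b ∧ c' = c := by
  have pt : ∀ (Z : Over (Spec (CommRingCat.of k))) [LocallyOfFiniteType Z.hom] [Nonempty Z.left],
      Nonempty (𝟙_ (Over (Spec (CommRingCat.of k))) ⟶ Z) := fun Z _ _ => by
    haveI : JacobsonSpace Z.left := LocallyOfFiniteType.jacobsonSpace Z.hom
    obtain ⟨p, -, hp⟩ := nonempty_inter_closedPoints (Z := (Set.univ : Set Z.left)) Set.univ_nonempty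
      isClosed_univ.isLocallyClosed
    exact ⟨Over.homMk (pointOfClosedPoint Z.hom p hp) (pointOfClosedPoint_comp Z.hom p hp)⟩
  obtain ⟨x₀⟩ := pt X
  obtain ⟨y₀⟩ := pt Y
  obtain ⟨B, hB⟩ := exists_component G X Y x₀ y₀ (fun g p q => lift g (lift p q) ≫ a.act ≫ fst X Y)
    (fun t g p q => by simp [comp_lift_assoc, comp_lift])
    (fun p q => by rw [reassoc_of% Groth.L25.Actions.one_act a, lift_fst])
  obtain ⟨C, hC⟩ := exists_component G Y X y₀ x₀ (fun g p q => lift g (lift q p) ≫ a.act ≫ snd X Y)
    (fun t g p q => by simp [comp_lift_assoc, comp_lift])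
    (fun p q => by rw [reassoc_of% Groth.L25.Actions.one_act a, lift_snd])
  have key : ∀ {T : Over (Spec (CommRingCat.of k))} (g : T ⟶ G) (p : T ⟶ X) (q : T ⟶ Y),
      lift g (lift p q) ≫ a.act = lift (lift g p ≫ B) (lift g q ≫ C) := fun g p q =>
    CartesianMonoidalCategory.hom_ext _ _ (by rw [Category.assoc, lift_fst]; exact hB g p q)
      (by rw [Category.assoc, lift_snd]; exact hC g q p)
  let b : AlgGrp.Action G X :=
    { act := B
      one_act := by
        have e : η[G] ▷ X = lift 1 (snd (𝟙_ _) X) :=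
          CartesianMonoidalCategory.hom_ext _ _ (by
            rw [whiskerRight_fst, lift_fst, Hom.one_def, Subsingleton.elim (fst (𝟙_ _) X) (toUnit _)]) (by simp)
        rw [e, leftUnitor_hom, ← hB 1 (snd (𝟙_ _) X) (toUnit _ ≫ y₀), reassoc_of% Groth.L25.Actions.one_act a, lift_fst]
      mul_act := by
        have e1 : μ[G] ▷ X = lift ((fst _ X ≫ fst G G) * (fst _ X ≫ snd G G)) (snd _ X) :=
          CartesianMonoidalCategory.hom_ext _ _ (by
            rw [whiskerRight_fst, lift_fst, Hom.mul_def, ← comp_lift_assoc, lift_fst_snd, Category.id_comp]) (by simp)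
        have e2 : (α_ G G X).hom ≫ (G ◁ B) = lift (fst _ X ≫ fst G G) (lift (fst _ X ≫ snd G G) (snd _ X) ≫ B) := by
          apply CartesianMonoidalCategory.hom_ext
          · rw [Category.assoc, whiskerLeft_fst, lift_fst, associator_hom_fst]
          · rw [Category.assoc, whiskerLeft_snd, lift_snd, ← Category.assoc]
            congr 1
            apply CartesianMonoidalCategory.hom_ext <;> simp
        rw [e1, reassoc_of% e2, ← hB _ _ (toUnit _ ≫ y₀), reassoc_of% Groth.L25.Actions.mul_act a, key,
          hB] }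
  let c : AlgGrp.Action G Y :=
    { act := C
      one_act := by
        have e : η[G] ▷ Y = lift 1 (snd (𝟙_ _) Y) :=
          CartesianMonoidalCategory.hom_ext _ _ (by
            rw [whiskerRight_fst, lift_fst, Hom.one_def, Subsingleton.elim (fst (𝟙_ _) Y) (toUnit _)]) (by simp)
        rw [e, leftUnitor_hom, ← hC 1 (snd (𝟙_ _) Y) (toUnit _ ≫ x₀), reassoc_of% Groth.L25.Actions.one_act a, lift_snd]
      mul_act := by
        have e1 : μ[G] ▷ Y = lift ((fst _ Y ≫ fst G G) * (fst _ Y ≫ snd G G)) (snd _ Y) :=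
          CartesianMonoidalCategory.hom_ext _ _ (by
            rw [whiskerRight_fst, lift_fst, Hom.mul_def, ← comp_lift_assoc, lift_fst_snd, Category.id_comp]) (by simp)
        have e2 : (α_ G G Y).hom ≫ (G ◁ C) = lift (fst _ Y ≫ fst G G) (lift (fst _ Y ≫ snd G G) (snd _ Y) ≫ C) := by
          apply CartesianMonoidalCategory.hom_ext
          · rw [Category.assoc, whiskerLeft_fst, lift_fst, associator_hom_fst]
          · rw [Category.assoc, whiskerLeft_snd, lift_snd, ← Category.assoc]
            congr 1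
            apply CartesianMonoidalCategory.hom_ext <;> simp
        rw [e1, reassoc_of% e2, ← hC _ _ (toUnit _ ≫ x₀), reassoc_of% Groth.L25.Actions.mul_act a, key,
          hC] }
  have hd : ∀ {T : Over (Spec (CommRingCat.of k))} (b' : AlgGrp.Action G X) (c' : AlgGrp.Action G Y)
      (g : T ⟶ G) (p : T ⟶ X) (q : T ⟶ Y),
      lift g (lift p q) ≫ lift ((G ◁ fst X Y) ≫ b'.act) ((G ◁ snd X Y) ≫ c'.act) =
        lift (lift g p ≫ b'.act) (lift g q ≫ c'.act) := fun b' c' g p q => by
    simp only [comp_lift, lift_whiskerLeft_assoc, lift_fst, lift_snd]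
  refine ⟨b, c, ?_, fun b' c' h' => ⟨?_, ?_⟩⟩
  · have h1 := key (fst G (X ⊗ Y)) (snd G (X ⊗ Y) ≫ fst X Y) (snd G (X ⊗ Y) ≫ snd X Y)
    rw [← hd b c, ← comp_lift, lift_fst_snd, Category.comp_id, lift_fst_snd, Category.id_comp, Category.id_comp] at h1
    exact h1
  · obtain ⟨b', _, _⟩ := b'
    have h1 := key (fst G X) (snd G X) (toUnit _ ≫ y₀)
    rw [h', hd] at h1
    have h2 := congrArg (· ≫ fst X Y) h1
    simp only [lift_fst, lift_fst_snd, Category.id_comp] at h2
    exact Action.mk.injEq _ _ _ _ _ _ |>.mpr h2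
  · obtain ⟨c', _, _⟩ := c'
    have h1 := key (fst G Y) (toUnit _ ≫ x₀) (snd G Y)
    rw [h', hd] at h1
    have h2 := congrArg (· ≫ snd X Y) h1
    simp only [lift_snd, lift_fst_snd, Category.id_comp] at h2
    exact Action.mk.injEq _ _ _ _ _ _ |>.mpr h2

end Groth.Agent.S11420
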