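import Groth.Statements.S11421
import Groth.Agent.L08.AntiAffRigid
import Groth.Agent.S14578
import Groth.Agent.L26.AV.GroupSep
-- import your own Groth.Agent.* helpers here

set_option autoImplicit false
set_option backward.isDefEq.respectTransparency.types false
set_option linter.style.haveILetI false
universe u
open CategoryTheory MonoidalCategory CartesianMonoidalCategory MonObj GrpObj AlgebraicGeometry CategoryTheory.Limits
open AlgGrp

namespace Groth.Agent.S11421

/-- Morphisms from an anti-affine group times a connected scheme to a group are a map of the base times a homomorphism. -/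
theorem decompose (k : Type u) [Field k] [IsAlgClosed k] (A B S : Over (Spec (CommRingCat.of k))) [GrpObj A]
    [LocallyOfFiniteType A.hom] [QuasiCompact A.hom] [GrpObj B] [LocallyOfFiniteType B.hom] [QuasiCompact B.hom]
    [IsSeparated B.hom]
    (hA : Function.Bijective ((Scheme.ΓSpecIso (CommRingCat.of k)).inv ≫ A.hom.appTop).hom)
    [LocallyOfFiniteType S.hom] [QuasiCompact S.hom]
    [ConnectedSpace ↥S.left] (s₀ : 𝟙_ (Over (Spec (CommRingCat.of k))) ⟶ S) (F : A ⊗ S ⟶ B) :
    ∃ (g : S ⟶ B) (h : A ⟶ B), IsMonHom h ∧ F = (snd A S ≫ g) * (fst A S ≫ h) := by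
  let e : S ⟶ A ⊗ S := lift (toUnit S ≫ η[A]) (𝟙 S)
  let r : A ⟶ A ⊗ S := lift (𝟙 A) (toUnit A ≫ s₀)
  let g : S ⟶ B := e ≫ F
  let D : A ⊗ S ⟶ B := (snd A S ≫ g)⁻¹ * F
  let h : A ⟶ B := r ≫ D
  have hD : e ≫ D = 1 := by
    simp only [D, MonObj.comp_mul, GrpObj.comp_inv, e, lift_snd_assoc, Category.id_comp]
    exact inv_mul_cancel g
  have hh : η[A] ≫ h = η[B] := by
    show η[A] ≫ r ≫ D = _
    rw [← Category.assoc, show η[A] ≫ r = s₀ ≫ e by
      simp only [r, e, comp_lift, Category.comp_id, comp_toUnit_assoc,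
        Subsingleton.elim (toUnit (𝟙_ (Over (Spec (CommRingCat.of k))))) (𝟙 _), Category.id_comp]]
    rw [Category.assoc, hD, MonObj.comp_one, one_eq_one]
  haveI : IsMonHom h := Groth.Agent.S14578.result k A B hA h hh
  refine ⟨g, h, inferInstance, ?_⟩
  let E : A ⊗ S ⟶ B := D * (fst A S ≫ h)⁻¹
  have hE : (A ◁ s₀) ≫ E = toUnit _ ≫ η[B] := by
    have h1 : A ◁ s₀ = fst A _ ≫ r := by
      apply CartesianMonoidalCategory.hom_ext
      · simp [r]
      · simp only [r, Category.assoc, lift_snd, whiskerLeft_snd, comp_toUnit_assoc]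
        exact congrArg (· ≫ s₀) (Subsingleton.elim _ _)
    rw [h1, Category.assoc]
    simp only [E, MonObj.comp_mul, GrpObj.comp_inv]
    rw [show r ≫ fst A S ≫ h = h by simp [r], mul_inv_cancel, Hom.one_def]
  obtain ⟨c, hc, -⟩ := Groth.L08.AntiAffRigid.existsUnique_factor_snd hA E s₀ η[B] hE
  have hc1 : c = 1 := by
    have h2 := congrArg (e ≫ ·) hc
    simp only [E, MonObj.comp_mul, GrpObj.comp_inv, hD] at h2
    simp only [e, lift_snd_assoc, lift_fst_assoc, Category.id_comp, Category.assoc, IsMonHom.one_hom] at h2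
    rw [← Hom.one_def, inv_one, _root_.mul_one] at h2
    exact h2.symm
  rw [hc1, MonObj.comp_one] at hc
  have h3 : (snd A S ≫ g)⁻¹ * F = fst A S ≫ h := mul_inv_eq_one.1 hc
  rw [← h3, mul_inv_cancel_left]

/-- Over an algebraically closed field k, let G be an algebraic group (smooth k-group scheme of finite
type) whose only global functions are the constants, H a connected algebraic group, S a connected
k-scheme of finite type and f : G × S → H a morphism of k-schemes. Then there are a unique
k-morphism φ : S → H and a unique homomorphism ψ : G → H with f(g, s) = φ(s) · ψ(g) on points. (This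
is the decomposition, over a connected base, behind the identification of the functor of morphisms
from G to H with H × Hom_gp(G, H); the published statement is the equivalence of representability of
that functor with anti-affineness of G, whose converse direction is not stated here.) -/
theorem result (k : Type u) [Field k] [IsAlgClosed k]
    (G H S : Over (Spec (CommRingCat.of k))) [GrpObj G] [Smooth G.hom] [QuasiCompact G.hom]
    (hG : Function.Bijective ((Scheme.ΓSpecIso (CommRingCat.of k)).inv ≫ G.hom.appTop).hom)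
    [GrpObj H] [Smooth H.hom] [QuasiCompact H.hom] [ConnectedSpace ↥H.left]
    [LocallyOfFiniteType S.hom] [QuasiCompact S.hom] [ConnectedSpace ↥S.left]
    (f : G ⊗ S ⟶ H) :
    ∃ (φ : S ⟶ H) (ψ : G ⟶ H), IsMonHom ψ ∧ f = (snd G S ≫ φ) * (fst G S ≫ ψ) ∧
      ∀ (φ' : S ⟶ H) (ψ' : G ⟶ H), IsMonHom ψ' → f = (snd G S ≫ φ') * (fst G S ≫ ψ') → φ' = φ ∧ ψ' = ψ := by
  haveI : IsSeparated H.hom := Groth.Agent.AV.isSeparated_of_grpObj H
  haveI : JacobsonSpace S.left := LocallyOfFiniteType.jacobsonSpace S.hom
  obtain ⟨p, -, hp⟩ := nonempty_inter_closedPoints (Z := (Set.univ : Set S.left)) Set.univ_nonempty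
    isClosed_univ.isLocallyClosed
  let s₀ : 𝟙_ (Over (Spec (CommRingCat.of k))) ⟶ S :=
    Over.homMk (pointOfClosedPoint S.hom p hp) (pointOfClosedPoint_comp S.hom p hp)
  obtain ⟨g, h, hh, hF⟩ := decompose k G H S hG s₀ f
  refine ⟨g, h, hh, hF, fun g₁ h₁ _ e₁ => ?_⟩
  have e2 := hF.symm.trans e₁
  have hg : g₁ = g := by
    have := congrArg (lift (toUnit S ≫ η[G]) (𝟙 S) ≫ ·) e2
    simp only [MonObj.comp_mul, lift_snd_assoc, lift_fst_assoc, Category.id_comp, Category.assoc,
      IsMonHom.one_hom] at this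
    rw [← Hom.one_def, _root_.mul_one, _root_.mul_one] at this
    exact this.symm
  refine ⟨hg, ?_⟩
  rw [hg] at e2
  have := congrArg (lift (𝟙 G) (toUnit G ≫ s₀) ≫ ·) (mul_left_cancel e2)
  simpa using this.symm

end Groth.Agent.S11421
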