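import Groth.Statements.S11425
import Groth.Agent.L19.SpecSub.AntiAffParts
import Groth.Agent.L01.Unip.Affine
import Groth.Agent.L25.TorLift.Central

set_option autoImplicit false
set_option backward.isDefEq.respectTransparency.types false
universe u
open CategoryTheory MonoidalCategory CartesianMonoidalCategory MonObj GrpObj AlgebraicGeometry CategoryTheory.Limits
open AlgGrp

namespace Groth.Agent.S11425

/-- Over an algebraically closed field k, let G be a connected commutative algebraic group (smooth
k-group scheme of finite type), let i : N → G be its largest connected affine normal algebraic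
subgroup G_aff (a homomorphism and closed immersion from a smooth, connected, affine k-group scheme,
normal in G, through which every other such subgroup factors), and suppose G_aff = T × U:
homomorphisms t : T → G_aff from a split torus and u : U → G_aff from a smooth, connected, affine
group containing no non-trivial subtorus (unipotent), such that multiplication T × U → G_aff is an
isomorphism. Let q_s : G → G_s and q_u : G → G_u be flat surjective homomorphisms of k-group schemes
of finite type with kernels U and T respectively (G_s = G/U, G_u = G/T). Then the only global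
functions on G are the constants if and only if the same holds for both G_s and G_u. -/
theorem result (k : Type u) [Field k] [IsAlgClosed k]
    (G : Over (Spec (CommRingCat.of k))) [GrpObj G] [Smooth G.hom] [QuasiCompact G.hom] [ConnectedSpace ↥G.left] [IsCommMonObj G]
    (N : Over (Spec (CommRingCat.of k))) [GrpObj N] (i : N ⟶ G) [IsMonHom i] [IsClosedImmersion i.left]
    [Smooth N.hom] [ConnectedSpace ↥N.left] [IsAffine N.left] (hN : AlgGrp.IsNormalHom i)
    (hNmax : ∀ (N' : Over (Spec (CommRingCat.of k))) [GrpObj N'] (i' : N' ⟶ G) [IsMonHom i'] [IsClosedImmersion i'.left]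
      [Smooth N'.hom] [ConnectedSpace ↥N'.left] [IsAffine N'.left], AlgGrp.IsNormalHom i' → ∃ f : N' ⟶ N, f ≫ i = i')
    (T U : Over (Spec (CommRingCat.of k))) [GrpObj T] [GrpObj U] (t : T ⟶ N) (u : U ⟶ N) [IsMonHom t] [IsMonHom u]
    (r : ℕ) (hT : Red.IsSplitTorusWith (Fin r → ℤ) T)
    [Smooth U.hom] [ConnectedSpace ↥U.left] [IsAffine U.left] (hU : Red.HasNoSubtorus k U)
    (hTU : IsIso ((t ⊗ₘ u) ≫ μ[N]))
    (Gs Gu : Over (Spec (CommRingCat.of k))) [GrpObj Gs] [GrpObj Gu] [LocallyOfFiniteType Gs.hom] [QuasiCompact Gs.hom]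
    [LocallyOfFiniteType Gu.hom] [QuasiCompact Gu.hom]
    (qs : G ⟶ Gs) [IsMonHom qs] [Surjective qs.left] [Flat qs.left] (hs : AlgGrp.IsKernel (u ≫ i) qs)
    (qu : G ⟶ Gu) [IsMonHom qu] [Surjective qu.left] [Flat qu.left] (hu : AlgGrp.IsKernel (t ≫ i) qu) :
    Function.Bijective ((Scheme.ΓSpecIso (CommRingCat.of k)).inv ≫ G.hom.appTop).hom ↔ Function.Bijective ((Scheme.ΓSpecIso (CommRingCat.of k)).inv ≫ Gs.hom.appTop).hom ∧ Function.Bijective ((Scheme.ΓSpecIso (CommRingCat.of k)).inv ≫ Gu.hom.appTop).hom := by
  rw [Groth.L08.AffHull.bijective_iff_isIso, Groth.L08.AffHull.bijective_iff_isIso,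
    Groth.L08.AffHull.bijective_iff_isIso]
  obtain ⟨e⟩ := hT
  have hT' : Red.IsTorus T := Groth.L25.TorLift.isTorus_of_iso e.symm (Groth.L01.Unip.isTorus_DS _ r)
  exact Groth.L19.SpecSub.isIso_appTop_iff_parts (t ≫ i) (u ≫ i) hT' hU qs hs qu hu

end Groth.Agent.S11425
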