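import Groth.Agent.L18.GIT.Orbit
import Groth.Statements.S11428
-- import your own Groth.Agent.* helpers here

set_option autoImplicit false
universe u
open CategoryTheory MonoidalCategory CartesianMonoidalCategory MonObj GrpObj AlgebraicGeometry Topology
open GIT

namespace Groth.Agent.S11428

/-- If (Y, φ) is a geometric quotient of X by G over S, then Y is separated over S exactly when the
action is separated, i.e. the image of (σ, p₂) : G ×_S X → X ×_S X is closed. -/
theorem result (S : Scheme.{u}) (G X Y : Over S) [GrpObj G]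
    (a : AlgGrp.Action G X) (φ : X ⟶ Y) (h : GIT.IsGeomQuot a φ) :
    IsSeparated Y.hom ↔ IsClosed (Set.range (GIT.psi a (𝟙 X)).left.base) := by
  have hr := Groth.L18.GITQ.range_psi a φ h.inv h.orbit (𝟙 X)
  have hq := Groth.L18.GITQ.isQuotientMap_whiskerRight φ h.subm X
  rw [hr, hq.isClosed_preimage, Category.id_comp]
  constructor
  · intro hsep
    haveI := hsep
    haveI : IsSeparated (snd Y X).left :=
      MorphismProperty.of_isPullback (P := @IsSeparated) (IsPullback.of_hasPullback Y.hom X.hom) hsep
    haveI : IsClosedImmersion ((lift φ (𝟙 X)).left ≫ (snd Y X).left) := by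
      rw [← Over.comp_left, lift_snd]
      show IsClosedImmersion (𝟙 X.left)
      infer_instance
    haveI := IsClosedImmersion.of_comp (lift φ (𝟙 X)).left (snd Y X).left
    exact (lift φ (𝟙 X)).left.isClosedEmbedding.isClosed_range
  · intro hcl
    -- the graph is the preimage of the diagonal
    have hq' : Topology.IsQuotientMap (Y ◁ φ).left.base := by
      refine h.subm (snd Y X).left (snd Y Y).left _ ?_
      refine IsPullback.of_right (h₁₂ := (fst Y Y).left) (v₁₃ := Y.hom) (h₂₂ := Y.hom) ?_ ?_ ?_
      · rw [← Over.comp_left, whiskerLeft_fst, Over.w φ]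
        exact IsPullback.of_hasPullback Y.hom X.hom
      · rw [← Over.comp_left, ← Over.comp_left, whiskerLeft_snd]
      · exact IsPullback.of_hasPullback Y.hom Y.hom
    have hd : (Limits.pullback.diagonal Y.hom : Y.left ⟶ (Y ⊗ Y).left) = (lift (𝟙 Y) (𝟙 Y)).left := by
      apply Limits.pullback.hom_ext
      · rw [Limits.pullback.diagonal_fst]
        exact (congrArg CommaMorphism.left (lift_fst (𝟙 Y) (𝟙 Y))).symm
      · rw [Limits.pullback.diagonal_snd]
        exact (congrArg CommaMorphism.left (lift_snd (𝟙 Y) (𝟙 Y))).symm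
    have hpre : (Y ◁ φ).left.base ⁻¹' Set.range (lift (𝟙 Y) (𝟙 Y)).left.base = Set.range (lift φ (𝟙 X)).left.base := by
      have hcomm : lift φ (𝟙 X) ≫ Y ◁ φ = φ ≫ lift (𝟙 Y) (𝟙 Y) := by
        rw [lift_whiskerLeft, comp_lift, Category.comp_id, Category.id_comp]
      refine Set.Subset.antisymm (fun z hz => ?_) ?_
      · obtain ⟨y, hy⟩ := hz
        obtain ⟨p, hp1, -⟩ := Scheme.Pullback.exists_preimage_pullback (f := (Y ◁ φ).left)
          (g := (lift (𝟙 Y) (𝟙 Y)).left) z y hy.symm
        refine ⟨(snd Y X).left.base z, ?_⟩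
        have hP : (Limits.pullback.fst (Y ◁ φ).left (lift (𝟙 Y) (𝟙 Y)).left) ≫ (snd Y X).left ≫ (lift φ (𝟙 X)).left =
            Limits.pullback.fst (Y ◁ φ).left (lift (𝟙 Y) (𝟙 Y)).left := by
          have hc := Limits.pullback.condition (f := (Y ◁ φ).left) (g := (lift (𝟙 Y) (𝟙 Y)).left)
          have hc1 := congrArg (· ≫ (fst Y Y).left) hc
          have hc2 := congrArg (· ≫ (snd Y Y).left) hc
          simp only [Category.assoc, ← Over.comp_left, whiskerLeft_fst, whiskerLeft_snd, lift_fst, lift_snd,
            Over.id_left, Category.comp_id] at hc1 hc2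
          refine Limits.pullback.hom_ext ?_ ?_
          · show _ ≫ (fst Y X).left = _ ≫ (fst Y X).left
            rw [Category.assoc, Category.assoc, ← Over.comp_left, lift_fst, hc1, ← hc2, Over.comp_left]
          · show _ ≫ (snd Y X).left = _ ≫ (snd Y X).left
            rw [Category.assoc, Category.assoc, ← Over.comp_left (f := lift φ (𝟙 X)), lift_snd, Over.id_left, Category.comp_id]
        have := congrArg (fun m => m.base p) hP
        simp only [Scheme.Hom.comp_apply, hp1] at this
        exact this
      · rintro _ ⟨x, rfl⟩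
        exact ⟨φ.left.base x, by rw [← Scheme.Hom.comp_apply, ← Scheme.Hom.comp_apply, ← Over.comp_left, ← Over.comp_left, hcomm]⟩
    rw [← hpre, hq'.isClosed_preimage, ← hd] at hcl
    exact ⟨IsClosedImmersion.of_isPreimmersion _ hcl⟩

end Groth.Agent.S11428
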