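import Groth.Statements.S11433
import Groth.Agent.L14.GITAff.ClosedAction

set_option autoImplicit false
universe u
open CategoryTheory MonoidalCategory CartesianMonoidalCategory MonObj GrpObj AlgebraicGeometry Topology
open GIT

namespace Groth.Agent.S11433

/-- Let k be a field of characteristic zero, G a connected reductive algebraic group over k acting on an
affine scheme X over k, and (Y, φ) a categorical quotient of X by G. Then (Y, φ) is a geometric
quotient exactly when every orbit of a geometric point is closed, and in that case (Y, φ) is even a
universal geometric quotient. (The published statement is for any reductive G, the universal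
conclusion being stated in characteristic zero; this row is the characteristic-zero case with G
connected.) -/
theorem result (k : Type u) [Field k] [CharZero k]
    (G X Y : Over (Spec (CommRingCat.of k))) [GrpObj G] (hG : Red.IsReductive G) [IsAffine X.left]
    (a : AlgGrp.Action G X) (φ : X ⟶ Y) (hq : GIT.IsCatQuot a φ) :
    (GIT.IsGeomQuot a φ ↔ GIT.IsClosedAction a) ∧ (GIT.IsClosedAction a → GIT.IsUnivGeomQuot a φ) :=
  Groth.L14.GITAff.isGeomQuot_iff_isClosedAction G X Y hG a φ hq

end Groth.Agent.S11433
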