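import Groth.Statements.S11435
import Groth.Agent.L19.AlgGrpBasic.OrbitProper

set_option autoImplicit false
set_option backward.isDefEq.respectTransparency.types false
set_option backward.isDefEq.respectTransparency false
set_option linter.style.haveILetI false
universe u
open CategoryTheory MonoidalCategory CartesianMonoidalCategory MonObj GrpObj AlgebraicGeometry Topology
open GIT

namespace Groth.Agent.S11435

/-- Over an algebraically closed field k, let a group scheme G of finite type act on a scheme X of
finite type and let x be a k-rational point of X. Then the orbit morphism ψ_x : G × Spec k → X ×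
Spec k, g ↦ (g · x, pt), is proper if and only if the orbit of x (the image of ψ_x) is closed and
the stabilizer of x (the fibre of ψ_x over (x, pt)) is proper over k. -/
theorem result (k : Type u) [Field k] [IsAlgClosed k]
    (G X : Over (Spec (CommRingCat.of k))) [GrpObj G] [LocallyOfFiniteType G.hom] [QuasiCompact G.hom]
    [LocallyOfFiniteType X.hom] [QuasiCompact X.hom] (a : AlgGrp.Action G X)
    (x : 𝟙_ (Over (Spec (CommRingCat.of k))) ⟶ X) :
    IsProper (GIT.psi a x).left ↔
      IsClosed (Set.range (GIT.psi a x).left.base) ∧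
        IsProper (Limits.pullback.snd (GIT.psi a x).left (lift x (𝟙 (𝟙_ (Over (Spec (CommRingCat.of k)))))).left ≫
          (𝟙_ (Over (Spec (CommRingCat.of k)))).hom) := by
  let U : Over (Spec (CommRingCat.of k)) := 𝟙_ _
  have hψ : GIT.psi a x ≫ (ρ_ X).hom = (ρ_ G).hom ≫ a.orbitMap x := by
    simp only [GIT.psi, rightUnitor_hom, lift_fst, AlgGrp.Action.orbitMap, comp_lift_assoc, Category.comp_id]
    congr 1
    ext : 1
    · simp
    · simp only [whiskerLeft_snd, lift_snd]
      rw [← Category.assoc]
      congr 1
      exact toUnit_unique _ _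
  have hleft : (GIT.psi a x).left = (ρ_ G).hom.left ≫ (a.orbitMap x).left ≫ (ρ_ X).inv.left := by
    rw [← Over.comp_left, ← Over.comp_left, ← Category.assoc, ← hψ, Category.assoc, Iso.hom_inv_id, Category.comp_id]
  haveI : IsIso (ρ_ G).hom.left := inferInstanceAs (IsIso ((Over.forget _).map (ρ_ G).hom))
  haveI : IsIso (ρ_ X).inv.left := inferInstanceAs (IsIso ((Over.forget _).map (ρ_ X).inv))
  have hxl : x.left ≫ (ρ_ X).inv.left = (lift x (𝟙 U)).left := by
    rw [← Over.comp_left]
    congr 1
    ext : 1 <;> simp [U]
  have hiff : IsProper (Limits.pullback.snd (GIT.psi a x).left (lift x (𝟙 U)).left ≫ U.hom) ↔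
      IsProper (Limits.pullback.snd (a.orbitMap x).left x.left ≫ U.hom) := by
    let m : Limits.pullback (GIT.psi a x).left (lift x (𝟙 U)).left ⟶ Limits.pullback (a.orbitMap x).left x.left :=
      Limits.pullback.map _ _ _ _ (ρ_ G).hom.left (𝟙 _) (ρ_ X).hom.left
        (by rw [← Over.comp_left, hψ, Over.comp_left])
        (by rw [Category.id_comp, ← hxl, Category.assoc, ← Over.comp_left, Iso.inv_hom_id]; exact Category.comp_id _)
    haveI : IsIso (ρ_ X).hom.left := inferInstanceAs (IsIso ((Over.forget _).map (ρ_ X).hom))
    rw [show Limits.pullback.snd (GIT.psi a x).left (lift x (𝟙 U)).left ≫ U.hom =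
      m ≫ Limits.pullback.snd (a.orbitMap x).left x.left ≫ U.hom by
        rw [← Category.assoc m, Limits.pullback.lift_snd, Category.comp_id]]
    exact MorphismProperty.cancel_left_of_respectsIso (P := @IsProper) m _
  have hrange : IsClosed (Set.range (GIT.psi a x).left.base) ↔ IsClosed (Set.range (a.orbitMap x).left) := by
    have e : Set.range (GIT.psi a x).left = (ρ_ X).inv.left '' Set.range (a.orbitMap x).left := by
      rw [hleft, Scheme.Hom.comp_base, Scheme.Hom.comp_base, TopCat.coe_comp, TopCat.coe_comp,
        Set.range_comp, Set.range_eq_univ.2 (ρ_ G).hom.left.surjective, Set.image_univ, Set.range_comp]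
    show IsClosed (Set.range (GIT.psi a x).left) ↔ _
    rw [e]
    exact ((ρ_ X).inv.left.homeomorph.isClosed_image)
  have hproper : IsProper (GIT.psi a x).left ↔ IsProper (a.orbitMap x).left := by
    rw [hleft, MorphismProperty.cancel_left_of_respectsIso (P := @IsProper),
      MorphismProperty.cancel_right_of_respectsIso (P := @IsProper)]
  rw [hproper, hrange, hiff]
  refine ⟨fun h => ⟨(a.orbitMap x).left.isClosedMap.isClosed_range, ?_⟩,
    fun h => Groth.L19.OrbitProper.isProper_orbitMap a x h.1 h.2⟩
  haveI : IsProper (Limits.pullback.snd (a.orbitMap x).left x.left) := MorphismProperty.pullback_snd _ _ h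
  haveI : IsIso U.hom := inferInstanceAs (IsIso (𝟙 _))
  infer_instance

end Groth.Agent.S11435
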