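import Groth.Statements.S11437
import Groth.Agent.L14.GITProper.Global

set_option autoImplicit false
universe u
open CategoryTheory MonoidalCategory CartesianMonoidalCategory MonObj GrpObj AlgebraicGeometry Topology
open GIT

namespace Groth.Agent.S11437

/-- Over a field k of characteristic zero, let G be a connected reductive algebraic group, X and Y
separated schemes of finite type, σ an action of G on X such that the stabilizers of geometric
points of X are finite (the stabilizer group scheme over X is locally quasi-finite), and (Y, φ) a
geometric quotient of X by G. If φ is affine, then the action is proper. (The published statement is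
for any reductive G over any field; this row is the characteristic-zero case with G connected.) -/
theorem result (k : Type u) [Field k] [CharZero k]
    (G X Y : Over (Spec (CommRingCat.of k))) [GrpObj G] (hG : Red.IsReductive G)
    [LocallyOfFiniteType X.hom] [QuasiCompact X.hom] [IsSeparated X.hom]
    [LocallyOfFiniteType Y.hom] [QuasiCompact Y.hom] [IsSeparated Y.hom]
    (a : AlgGrp.Action G X)
    [LocallyQuasiFinite (Limits.pullback.snd (GIT.psi a (𝟙 X)).left (lift (𝟙 X) (𝟙 X)).left)]
    (φ : X ⟶ Y) (h : GIT.IsGeomQuot a φ) [IsAffineHom φ.left] :
    IsProper (GIT.psi a (𝟙 X)).left := by
  exact Groth.L14.GITProper.isProper_psi hG a φ h.inv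
    (Groth.L14.GITAff.isClosedAction_of_isGeomQuot a φ h)

end Groth.Agent.S11437
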