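import Groth.Statements.S11438
import Groth.Agent.L26.AV.RelMain

set_option autoImplicit false
universe u
open CategoryTheory MonoidalCategory CartesianMonoidalCategory MonObj GrpObj AlgebraicGeometry Topology
open GIT

namespace Groth.Agent.S11438

/-- Let S be connected and locally Noetherian, G a locally Noetherian group scheme separated over S, X →
S proper and flat with κ(s) → H⁰(X_s, O_{X_s}) bijective for every s, and f, g : X → G morphisms
over S which agree on one fibre X_s. Then there is a section t of G over S with f = (t ∘ p) · g, the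
product taken in the group of X-valued points of G. -/
theorem result (S : Scheme.{u}) [IsLocallyNoetherian S] [ConnectedSpace S]
    (X G : Over S) [GrpObj G] [IsLocallyNoetherian G.left] [IsSeparated G.hom] [IsProper X.hom] [Flat X.hom]
    (h0 : ∀ s : S, Function.Bijective (Limits.pullback.snd X.hom (S.fromSpecResidueField s)).appTop)
    (f g : X ⟶ G) (s : S)
    (hs : Limits.pullback.fst X.hom (S.fromSpecResidueField s) ≫ f.left =
      Limits.pullback.fst X.hom (S.fromSpecResidueField s) ≫ g.left) :
    ∃ t : 𝟙_ (Over S) ⟶ G, f = (toUnit X ≫ t) * g := by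
  have := Groth.Agent.AV.surjective_of_bijective X.hom h0
  let F : Over S := Over.mk (Limits.pullback.fst X.hom (S.fromSpecResidueField s) ≫ X.hom)
  let i : F ⟶ X := Over.homMk (Limits.pullback.fst X.hom (S.fromSpecResidueField s)) rfl
  have hi : i ≫ f = i ≫ g := by ext1; exact hs
  have hone : i ≫ (f * g⁻¹) = toUnit F ≫ η[G] := by
    rw [MonObj.comp_mul, GrpObj.comp_inv, hi, mul_inv_cancel]
    rfl
  have key : ∀ x : X.left, X.hom x = s →
      (f * g⁻¹).left x = η[G].left (S.fromSpecResidueField s (IsLocalRing.closedPoint (S.residueField s))) := by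
    intro x hx
    obtain ⟨z, hz⟩ : x ∈ Set.range (Limits.pullback.fst X.hom (S.fromSpecResidueField s)) := by
      change x ∈ Set.range (X.hom.fiberι s)
      rw [Scheme.Hom.range_fiberι]
      exact hx
    have h1 := congrArg (fun φ : F ⟶ G => φ.left z) hone
    simp only [Over.comp_left, Scheme.Hom.comp_apply] at h1
    rw [show i.left z = x from hz] at h1
    rw [h1]
    show η[G].left ((Limits.pullback.fst X.hom (S.fromSpecResidueField s) ≫ X.hom) z) = _
    rw [Limits.pullback.condition, Scheme.Hom.comp_apply]
    exact congrArg (fun w => η[G].left (S.fromSpecResidueField s w)) (Subsingleton.elim _ _)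
  obtain ⟨t, ht, hft⟩ := Groth.Agent.AV.exists_section_of_collapsed X.hom (fun r => (h0 r).2) G.hom
    (f * g⁻¹).left (Over.w _) s (fun x x' hx hx' => (key x hx).trans (key x' hx').symm)
  refine ⟨Over.homMk t ht, ?_⟩
  have h2 : f * g⁻¹ = toUnit X ≫ Over.homMk t ht := by ext1; exact hft
  rw [← h2, inv_mul_cancel_right]

end Groth.Agent.S11438
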