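import Groth.Statements.S11439
import Groth.Agent.L26.AV.RelMain

set_option autoImplicit false
universe u
open CategoryTheory MonoidalCategory CartesianMonoidalCategory MonObj GrpObj AlgebraicGeometry Topology
open GIT

namespace Groth.Agent.S11439

/-- Let S be locally Noetherian, G a locally Noetherian group scheme separated over S, X → S proper and
flat with κ(s) → H⁰(X_s, O_{X_s}) bijective for every s, and Y connected, locally Noetherian,
separated over S with a section over S. Then every morphism f : X ×_S Y → G over S factors as f = (g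
∘ p₁) · (h ∘ p₂) with g : X → G and h : Y → G. -/
theorem result (S : Scheme.{u}) [IsLocallyNoetherian S]
    (X Y G : Over S) [GrpObj G] [IsLocallyNoetherian G.left] [IsSeparated G.hom] [IsProper X.hom] [Flat X.hom]
    (h0 : ∀ s : S, Function.Bijective (Limits.pullback.snd X.hom (S.fromSpecResidueField s)).appTop)
    [IsLocallyNoetherian Y.left] [IsSeparated Y.hom] [ConnectedSpace Y.left] (e : 𝟙_ (Over S) ⟶ Y)
    (f : X ⊗ Y ⟶ G) :
    ∃ (g : X ⟶ G) (h : Y ⟶ G), f = (fst X Y ≫ g) * (snd X Y ≫ h) := by
  have := Groth.Agent.AV.surjective_of_bijective X.hom h0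
  let j : X ⟶ X ⊗ Y := lift (𝟙 X) (toUnit X ≫ e)
  let g : X ⟶ G := j ≫ f
  let d : X ⊗ Y ⟶ G := (fst X Y ≫ g)⁻¹ * f
  obtain ⟨y⟩ := (inferInstance : Nonempty Y.left)
  let s : S := Y.hom y
  have hd : j ≫ lift d (snd X Y) = toUnit X ≫ lift η[G] e := by
    apply CartesianMonoidalCategory.hom_ext
    · rw [Category.assoc, Category.assoc, lift_fst, lift_fst, MonObj.comp_mul, GrpObj.comp_inv,
        ← Category.assoc, lift_fst, Category.id_comp, inv_mul_cancel]
      rfl
    · rw [Category.assoc, Category.assoc, lift_snd, lift_snd, lift_snd]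
  have hP : IsPullback j.left X.hom (snd X Y).left e.left := by
    refine IsPullback.of_right (h₁₂ := (fst X Y).left) ?_ ?_ (IsPullback.of_hasPullback X.hom Y.hom)
    · rw [← Over.comp_left, lift_fst, Over.w e, Over.id_left]
      exact IsPullback.of_id_fst
    · rw [← Over.comp_left, lift_snd, Over.comp_left, Over.toUnit_left]
  have key : ∀ p : (X ⊗ Y).left, (snd X Y).left p = e.left s →
      (lift d (snd X Y)).left p = (lift η[G] e).left s := by
    intro p hp
    obtain ⟨z, hz, hz'⟩ := Scheme.Pullback.exists_preimage_pullback p s hp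
    let x := hP.isoPullback.inv z
    have hx : j.left x = p := by
      rw [← hz]
      exact congrArg (fun φ => φ z) hP.isoPullback_inv_fst
    have hx' : X.hom x = s := by
      rw [← hz']
      exact congrArg (fun φ => φ z) hP.isoPullback_inv_snd
    have h1 := congrArg (fun φ : X ⟶ G ⊗ Y => φ.left x) hd
    simp only [Over.comp_left, Scheme.Hom.comp_apply, Over.toUnit_left] at h1
    rw [hx, hx'] at h1
    exact h1
  have : Surjective (snd X Y).left := inferInstanceAs (Surjective (Limits.pullback.snd X.hom Y.hom))
  have : IsProper (snd X Y).left := inferInstanceAs (IsProper (Limits.pullback.snd X.hom Y.hom))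
  have : Flat (snd X Y).left := inferInstanceAs (Flat (Limits.pullback.snd X.hom Y.hom))
  have : IsSeparated (snd G Y).left := inferInstanceAs (IsSeparated (Limits.pullback.snd G.hom Y.hom))
  obtain ⟨t, ht, hdt⟩ := Groth.Agent.AV.exists_section_of_collapsed (snd X Y).left
    (fun r => Groth.Agent.AV.fibConst_snd X.hom Y.hom r (h0 _).2) (snd G Y).left
    (lift d (snd X Y)).left (by rw [← Over.comp_left, lift_snd]) (e.left s)
    (fun x x' hx hx' => (key x hx).trans (key x' hx').symm)
  have htw : (t ≫ (fst G Y).left) ≫ G.hom = Y.hom := by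
    rw [Category.assoc, Over.w (fst G Y), ← Over.w (snd G Y), reassoc_of% ht]
  refine ⟨g, Over.homMk (t ≫ (fst G Y).left) htw, ?_⟩
  have h2 : d = snd X Y ≫ Over.homMk (t ≫ (fst G Y).left) htw := by
    ext1
    show d.left = (snd X Y).left ≫ t ≫ (fst G Y).left
    rw [← lift_fst d (snd X Y), Over.comp_left, hdt, Category.assoc]
  rw [← h2]
  exact (mul_inv_cancel_left (fst X Y ≫ g) f).symm

end Groth.Agent.S11439
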