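import Groth.Statements.S1144
import Groth.Agent.L27.PuncExtend.Clopen
import Groth.Agent.L27.PuncExtend.Descend
import Groth.Agent.L27.PuncExtend.Stage

set_option autoImplicit false
set_option linter.style.haveILetI false
set_option backward.isDefEq.respectTransparency.types false
universe u
open Pi1

namespace Groth.Agent.S1144

open AlgebraicGeometry CategoryTheory CategoryTheory.Limits in
/-- Let A be a local ring whose punctured spectrum U is quasi-compact, R a strict henselization of A
(with A → R a local homomorphism), and U' the base change of U to Spec R (the punctured spectrum of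
R); assume U' is connected. If V is a finite etale cover of U whose base change to U' is split, then
V is the restriction of a finite etale cover of Spec A (only the existence of such a cover Y
together with an isomorphism between its restriction to U and V is asserted). -/
theorem result (A : Type u) [CommRing A] [IsLocalRing A] (R : Type u) [CommRing R] [IsLocalRing R] [Algebra A R] [IsLocalHom (algebraMap A R)] [Hensel.IsStrictHenselization A R]
    [CompactSpace (FEt.puncturedSpec A : Scheme.{u})]
    (hc : ConnectedSpace ↑(pullback (FEt.puncturedSpec A).ι (Spec.map (CommRingCat.ofHom (algebraMap A R)))))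
    (V : FEt.Cat (FEt.puncturedSpec A : Scheme.{u}))
    (hV : Pi1.IsSplit ((FEt.restrict (pullback.fst (FEt.puncturedSpec A).ι (Spec.map (CommRingCat.ofHom (algebraMap A R))))).obj V)) :
    ∃ Y : FEt.Cat (Spec (CommRingCat.of A)), Nonempty ((FEt.restrict (FEt.puncturedSpec A).ι).obj Y ≅ V) := by
  let R' := R
  let U := FEt.puncturedSpec A
  let g : Spec (CommRingCat.of R) ⟶ Spec (CommRingCat.of A) := Spec.map (CommRingCat.ofHom (algebraMap A R))
  have hrg : Set.range (pullback.snd U.ι g) = g ⁻¹' (U : Set ↥(Spec (CommRingCat.of A))) := by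
    rw [Scheme.Pullback.range_snd, Scheme.Opens.range_ι]
  have hcon : _root_.IsConnected (g ⁻¹' (U : Set ↥(Spec (CommRingCat.of A)))) := by
    haveI := hc
    rw [← hrg]
    exact isConnected_range (pullback.snd U.ι g).continuous
  have hU := Groth.L27.PuncExtend.clopenExt_punctured R hcon
  obtain ⟨X, p, W, f, m, hX, hp, hps, hf, hfe, hmo, hmf, hm⟩ :=
    Groth.L27.PuncExtend.exists_trivialising_nhd R hU hcon.1 V hV
  obtain ⟨Y, y, ψ, hyf, hye, hψo, hψy, hψr⟩ := Groth.L27.PuncExtend.exists_extension hU p f (V.hom ≫ U.ι)
    (by rintro _ ⟨v, rfl⟩; exact (V.hom v).2) m hmf hm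
  let Yc : FEt.Cat (Spec (CommRingCat.of A)) := MorphismProperty.Over.mk ⊤ y ⟨hyf, hye⟩
  let vh : V.left ⟶ U := V.hom
  have P : IsPullback ψ vh y U.ι := by
    refine (IsOpenImmersion.isPullback vh ψ U.ι y hψy ?_).flip
    refine TopologicalSpace.Opens.ext ?_
    rw [Scheme.Opens.opensRange_ι]
    exact hψr.symm
  refine ⟨Yc, ⟨MorphismProperty.Over.isoMk P.isoPullback.symm ?_⟩⟩
  exact P.isoPullback_inv_snd

end Groth.Agent.S1144
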