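import Groth.Statements.S11440
import Groth.Agent.L26.AV.RelHom
import Groth.Agent.L26.AV.SmoothField

set_option autoImplicit false
universe u
open CategoryTheory MonoidalCategory CartesianMonoidalCategory MonObj GrpObj AlgebraicGeometry Topology
open GIT

namespace Groth.Agent.S11440

/-- Let S be Noetherian, X an abelian scheme over S (smooth proper group scheme with connected geometric
fibres), G any locally Noetherian group scheme separated over S, and f : X → G a morphism over S
carrying the unit of X to the unit of G. Then f is a homomorphism. -/
theorem result (S : Scheme.{u}) [IsNoetherian S]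
    (X G : Over S) [GrpObj X] [GrpObj G] [Smooth X.hom] [IsProper X.hom]
    (hc : ∀ s : S, ConnectedSpace (Red.geomFibre s X).left)
    [IsLocallyNoetherian G.left] [IsSeparated G.hom] (f : X ⟶ G) (hf : η[X] ≫ f = η[G]) :
    IsMonHom f := by
  have hs : Surjective X.hom := ⟨fun s => ⟨η[X].left s, by
    rw [← Scheme.Hom.comp_apply, Over.w η[X]]; rfl⟩⟩
  refine Groth.Agent.AV.isMonHom_of_one_rel X G (fun s => Groth.Agent.AV.fibConst_of_geomFibre X.hom s (hc s) ?_) ?_ f hf
  · exact Groth.Agent.AV.isReduced_of_smooth_field (Limits.pullback.snd X.hom (Red.geomPt s))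
  · intro s
    have := hc s
    have : Surjective (Spec.map (CommRingCat.ofHom (algebraMap (S.residueField s) (AlgebraicClosure (S.residueField s))))) := by
      infer_instance
    have hr : X.hom ⁻¹' {s} = Set.range (Limits.pullback.fst X.hom (Red.geomPt s)) := by
      rw [Scheme.Pullback.range_fst]
      congr 1
      rw [Red.geomPt, Scheme.Hom.comp_base, TopCat.coe_comp, Set.range_comp, Set.range_eq_univ.2
        (Spec.map _).surjective, Set.image_univ, Scheme.range_fromSpecResidueField]
    rw [hr]
    exact (@isConnected_range _ _ _ _ (hc s) _ (Limits.pullback.fst X.hom (Red.geomPt s)).continuous).isPreconnected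

end Groth.Agent.S11440
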