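import Groth.Agent.L18.GIT.Quot
import Groth.Statements.S11445
-- import your own Groth.Agent.* helpers here

set_option autoImplicit false
universe u
open CategoryTheory MonoidalCategory CartesianMonoidalCategory MonObj GrpObj AlgebraicGeometry Topology
open GIT

namespace Groth.Agent.S11445

/-- Let G act on X over S and let φ : X → Y over S satisfy (i) φ ∘ σ = φ ∘ p₂, (ii) O_Y is the sheaf of
invariant functions (each Γ(U, O_Y) → Γ(φ⁻¹U, O_X) injective with image the invariant sections),
(iii) the image of every closed invariant subset of X is closed and φ(⋂ W_i) = ⋂ φ(W_i) for every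
family of closed invariant subsets. Then (Y, φ) is a categorical quotient of X by G, and φ is
submersive. -/
theorem result (S : Scheme.{u}) (G X Y : Over S) [GrpObj G]
    (a : AlgGrp.Action G X) (φ : X ⟶ Y) (hi : GIT.IsInvariant a φ)
    (hii : ∀ U : Y.left.Opens,
      Function.Injective (φ.left.app U) ∧ Set.range (φ.left.app U) = {f | GIT.IsInvSection a φ U f})
    (hiii : ∀ W : Set X.left, IsClosed W → a.act.left.base '' ((snd G X).left.base ⁻¹' W) ⊆ W →
      IsClosed (φ.left.base '' W))
    (hiii' : ∀ (J : Type u) (W : J → Set X.left),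
      (∀ i, IsClosed (W i) ∧ a.act.left.base '' ((snd G X).left.base ⁻¹' W i) ⊆ W i) →
      φ.left.base '' (⋂ i, W i) = ⋂ i, φ.left.base '' W i) :
    GIT.IsCatQuot a φ ∧ IsQuotientMap φ.left.base := by
  exact Groth.L18.GITQ.isCatQuot_of_closed a φ hi hii hiii hiii'

end Groth.Agent.S11445
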