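import Groth.Statements.S11450
import Groth.Agent.L03.FlatTorPrime
import Groth.Agent.L28.Kun.Shift
-- import your own Groth.Agent.* helpers here

set_option autoImplicit false
universe u
open CategoryTheory
open DefT

namespace Groth.Agent.S11450

/-- A module M over a Noetherian commutative ring A is flat if and only if Tor_1^A(M, A/p) vanishes for
every prime ideal p of A. -/
theorem result (A : Type u) [CommRing A]
    [IsNoetherianRing A] (M : Type u) [AddCommGroup M] [Module A M] :
    Module.Flat A M ↔ ∀ p : Ideal A, p.IsPrime →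
      Limits.IsZero (((CategoryTheory.Tor (ModuleCat.{u} A) 1).obj (ModuleCat.of A M)).obj (ModuleCat.of A (A ⧸ p))) := by
  refine ⟨fun h p _ => Groth.L28.TorFacts.isZero_of_flat_left _ _ 0, fun h =>
    Groth.L03.FlatTorPrime.flat_of_prime fun p hp => ?_⟩
  obtain ⟨f⟩ := Groth.L28.Kun.nonempty_tor_one (X := M) p.subtype p.mkQ Subtype.val_injective
    (LinearMap.exact_subtype_mkQ p) (Submodule.mkQ_surjective p)
  haveI : Subsingleton (DRing.Tor A 1 M (A ⧸ p)) := ModuleCat.subsingleton_of_isZero (h p hp)
  haveI : Subsingleton (LinearMap.ker (LinearMap.lTensor M p.subtype)) := f.symm.injective.subsingleton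
  rw [← LinearMap.ker_eq_bot, Submodule.eq_bot_iff]
  exact fun x hx => congrArg Subtype.val (Subsingleton.elim (⟨x, hx⟩ : LinearMap.ker _) 0)

end Groth.Agent.S11450
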