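import Groth.Statements.S11451
import Groth.Agent.L12.RegJets2


set_option autoImplicit false
universe u
open DefT

namespace Groth.Agent.S11451

/-- Let k be an algebraically closed field and A a local k-algebra essentially of finite type over k
with residue field k. Then regularity of A as a local ring is equivalent to the following: for every
local k-algebra B' of finite dimension over k, every ideal J of B' of square zero and every
k-algebra homomorphism f : A → B'/J, there is a k-algebra homomorphism g : A → B' lifting f. (Local
k-algebras of finite k-dimension are exactly the local Artin rings finite over k; lifting against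
square-zero kernels is equivalent to lifting against nilpotent ones by induction.) -/
theorem result (k : Type u) [Field k] [IsAlgClosed k]
    (A : Type u) [CommRing A] [IsLocalRing A] [Algebra k A] [Algebra.EssFiniteType k A]
    (hres : Function.Surjective (algebraMap k (IsLocalRing.ResidueField A))) :
    IsRegularLocalRing A ↔
      ∀ (B' : Type u) [CommRing B'] [IsLocalRing B'] [Algebra k B'] [Module.Finite k B']
        (J : Ideal B'), J ^ 2 = ⊥ → ∀ f : A →ₐ[k] B' ⧸ J,
          ∃ g : A →ₐ[k] B', (Ideal.Quotient.mkₐ k J).comp g = f := by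
  obtain ⟨res, -⟩ : ∃ res : A →ₐ[k] k, True := by
    let e : k ≃ₐ[k] IsLocalRing.ResidueField A :=
      AlgEquiv.ofBijective (Algebra.ofId k _) ⟨(algebraMap k _).injective, hres⟩
    exact ⟨e.symm.toAlgHom.comp (IsScalarTower.toAlgHom k A (IsLocalRing.ResidueField A)), trivial⟩
  refine ⟨fun hreg B' _ _ _ _ J hJ f => ?_, fun H => Groth.L12.RegJets.regular_of_lift A res H⟩
  refine Groth.L12.RegJets.exists_lift res (Ideal.Quotient.mkₐ k J) Ideal.Quotient.mk_surjective
    (fun z hz => ⟨2, Ideal.mem_bot.1 (hJ ▸ Ideal.pow_mem_pow (Ideal.Quotient.eq_zero_iff_mem.1 hz) 2)⟩) f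
    fun a ha => ?_
  by_cases hJt : J = ⊤
  · subst hJt
    exact ⟨1, Subsingleton.elim _ _⟩
  haveI : Nontrivial (B' ⧸ J) := Ideal.Quotient.nontrivial_iff.2 hJt
  haveI : IsLocalRing (B' ⧸ J) := IsLocalRing.of_surjective' _ Ideal.Quotient.mk_surjective
  haveI : Module.Finite k (B' ⧸ J) := Module.Finite.of_surjective (Ideal.Quotient.mkₐ k J).toLinearMap Ideal.Quotient.mk_surjective
  exact Groth.L12.RegJets.isNilpotent_of_hom f ha
end Groth.Agent.S11451
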