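import Groth.Statements.S11452
import Groth.Agent.L15.RigidAffine
import Groth.Agent.L12.CotTSmooth
-- import your own Groth.Agent.* helpers here

set_option autoImplicit false
universe u
open CategoryTheory AlgebraicGeometry
open DefT

namespace Groth.Agent.S11452

/-- Let k be an algebraically closed field, X an affine scheme of finite type over k whose local rings
are all regular, A a local Artin k-algebra with a k-algebra augmentation e : A → k, and g : X' →
Spec A a flat morphism whose fibre over the k-point Spec k → Spec A given by e is X (with its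
structure map to Spec k). Then there is an isomorphism from X' to the trivial deformation X ×_{Spec
k} Spec A compatible with the projections to Spec A. -/
theorem result (k : Type u) [Field k]
    [IsAlgClosed k] (X : Scheme.{u}) (hX : X ⟶ Spec (CommRingCat.of k)) [IsAffine X]
    [LocallyOfFiniteType hX] (hreg : ∀ x : X, IsRegularLocalRing (X.presheaf.stalk x))
    (A : Type u) [CommRing A] [IsLocalRing A] [IsArtinianRing A] [Algebra k A] (e : A →ₐ[k] k)
    (X' : Scheme.{u}) (g : X' ⟶ Spec (CommRingCat.of A)) [Flat g] (i : X ⟶ X')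
    (hsq : IsPullback i hX g (Spec.map (CommRingCat.ofHom e.toRingHom))) :
    ∃ φ : X' ≅ Limits.pullback hX (Spec.map (CommRingCat.ofHom (algebraMap k A))),
      φ.hom ≫ Limits.pullback.snd hX (Spec.map (CommRingCat.ofHom (algebraMap k A))) = g := by
  let c : CommRingCat.of k ⟶ Γ(X, ⊤) := Spec.preimage (X.isoSpec.inv ≫ hX)
  have hc : Spec.map c = X.isoSpec.inv ≫ hX := Spec.map_preimage _
  have hsq' : IsPullback (X.isoSpec.inv ≫ i) (Spec.map c) g (Spec.map (CommRingCat.ofHom e.toRingHom)) :=
    hsq.of_iso X.isoSpec (Iso.refl _) (Iso.refl _) (Iso.refl _) (by simp) (by simp [hc]) (by simp) (by simp)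
  obtain ⟨R, φ, β, E, hflat, hβs, hker, hw, hE, hiE⟩ := Groth.L15.RigidAffine.exists_model
    (CommRingCat.ofHom e.toRingHom) (fun a => ⟨algebraMap k _ a, e.commutes a⟩) c g (X.isoSpec.inv ≫ i) hsq'
  letI : Algebra k Γ(X, ⊤) := c.hom.toAlgebra
  letI : Algebra A R := φ.hom.toAlgebra
  letI : Algebra k R := (φ.hom.comp (algebraMap k A)).toAlgebra
  haveI : IsScalarTower k A R := IsScalarTower.of_algebraMap_eq' rfl
  haveI : Module.Flat A R := hflat
  have hβe : ∀ a : A, β.hom (φ.hom a) = c.hom (e a) := fun a => ConcreteCategory.congr_hom hw a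
  let β' : R →ₐ[k] Γ(X, ⊤) :=
    { β.hom with commutes' := fun x => (hβe (algebraMap k A x)).trans (congrArg c.hom (e.commutes x)) }
  haveI : Algebra.FiniteType k Γ(X, ⊤) := by
    haveI : LocallyOfFiniteType (Spec.map c) := by rw [hc]; infer_instance
    exact RingHom.finiteType_algebraMap.mp (HasRingHomProperty.Spec_iff.mp ‹LocallyOfFiniteType (Spec.map c)›)
  haveI : Algebra.Smooth k Γ(X, ⊤) := by
    refine Groth.L12.CotTLib.smooth_of_regular_maximal fun m _ => ?_
    have hA : IsAffineOpen (⊤ : X.Opens) := isAffineOpen_top X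
    let q : ↥(Spec Γ(X, ⊤)) := ⟨m, inferInstance⟩
    have hmem : hA.fromSpec.base q ∈ (⊤ : X.Opens) := trivial
    have hq : hA.primeIdealOf ⟨_, hmem⟩ = q :=
      hA.fromSpec.isOpenEmbedding.injective (hA.fromSpec_primeIdealOf ⟨_, hmem⟩)
    haveI := hreg (hA.fromSpec.base q)
    letI := X.presheaf.algebra_section_stalk ⟨_, hmem⟩
    haveI h1 := hA.isLocalization_stalk ⟨_, hmem⟩
    rw [hq] at h1
    haveI : IsLocalization m.primeCompl (X.presheaf.stalk (hA.fromSpec.base q)) := h1
    exact IsRegularLocalRing.of_ringEquiv (IsLocalization.algEquiv m.primeCompl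
      (X.presheaf.stalk (hA.fromSpec.base q)) (Localization.AtPrime m)).toRingEquiv
  have hnil : IsNilpotent (RingHom.ker β'.toRingHom) := by
    obtain ⟨n, hn⟩ := (isArtinianRing_iff_isNilpotent_maximalIdeal A).mp ‹_›
    refine ⟨n, ?_⟩
    show RingHom.ker β.hom ^ n = 0
    rw [hker, ← Ideal.map_pow]
    refine le_bot_iff.mp ((Ideal.map_mono (Ideal.pow_right_mono (IsLocalRing.le_maximalIdeal
      (RingHom.ker_ne_top _)) n)).trans ?_)
    rw [hn]
    exact Ideal.map_bot.le
  let s := Algebra.FormallySmooth.liftOfSurjective (AlgHom.id k Γ(X, ⊤)) β' hβs hnil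
  obtain ⟨ψ, hψ, -⟩ := Groth.L15.RigidAffine.exists_iso hX hc.symm g E hE e β' hβe hker s
    (Algebra.FormallySmooth.liftOfSurjective_apply _ β' hβs hnil)
  exact ⟨ψ, hψ⟩

end Groth.Agent.S11452
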