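import Groth.Statements.S11454
import Groth.Agent.L12.RegLift2


set_option autoImplicit false
universe u
open DefT

namespace Groth.Agent.S11454

/-- Let C' be a local Artin ring, J ⊊ C' a proper ideal annihilated by the maximal ideal, C = C'/J, A' a
flat C'-algebra whose reduction modulo the maximal ideal of C' is a Cohen–Macaulay local ring, and A
= A'/JA'. If a'_1, …, a'_r ∈ A' have images in A forming a regular sequence with A/(a_1, …, a_r)
flat over C, then a'_1, …, a'_r is a regular sequence on A' and A'/(a'_1, …, a'_r) is flat over C'.
(Regular sequences stand in for the exactness of the Koszul complexes in the published statement;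
over a Noetherian local ring with the elements in the maximal ideal the two are equivalent.) -/
theorem result (C' : Type u) [CommRing C'] [IsLocalRing C'] [IsArtinianRing C'] (J : Ideal C')
    (hJ : IsLocalRing.maximalIdeal C' * J = ⊥) (hJne : J ≠ ⊤) (A' : Type u) [CommRing A'] [Algebra C' A'] [Module.Flat C' A']
    [LocCoh.IsCohenMacaulayLocalRing (A' ⧸ (IsLocalRing.maximalIdeal C').map (algebraMap C' A'))]
    (r : ℕ) (a' : Fin r → A')
    (hreg : RingTheory.Sequence.IsRegular (A' ⧸ J.map (algebraMap C' A'))
      (List.ofFn (fun i => Ideal.Quotient.mk (J.map (algebraMap C' A')) (a' i))))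
    [Module.Flat (C' ⧸ J) ((A' ⧸ J.map (algebraMap C' A')) ⧸
      Ideal.span (Set.range (fun i => Ideal.Quotient.mk (J.map (algebraMap C' A')) (a' i))))] :
    RingTheory.Sequence.IsRegular A' (List.ofFn a') ∧ Module.Flat C' (A' ⧸ Ideal.span (Set.range a')) := by
  exact Groth.L12.RegLift.isRegular_lift hJne a' hreg
end Groth.Agent.S11454
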