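import Groth.Statements.S11461
import Mathlib.RingTheory.Finiteness.Nakayama
import Mathlib.Algebra.Homology.ShortComplex.ModuleCat
import Mathlib.CategoryTheory.Linear.LinearFunctor
import Mathlib.Tactic

set_option autoImplicit false
universe u
open CategoryTheory
open DefT

namespace Groth.Agent.S11461

/-- Let B be a Noetherian ring and F an additive, B-linear endofunctor of B-modules which preserves
finite generation and is semi-exact on short exact sequences of finitely generated modules (the
image sequence is exact in the middle). If F kills B/m for every maximal ideal m, then F kills every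
finitely generated B-module. (The published statement assumes F only additive; this row assumes F
B-linear, and takes the functor on all B-modules with the hypotheses and the conclusion on the
finitely generated ones.) -/
theorem result (B : Type u) [CommRing B]
    [IsNoetherianRing B] (F : ModuleCat.{u} B ⥤ ModuleCat.{u} B) [F.Additive] [F.Linear B]
    (hfg : ∀ M : ModuleCat.{u} B, Module.Finite B M → Module.Finite B (F.obj M))
    (hex : ∀ S : ShortComplex (ModuleCat.{u} B), S.ShortExact → Module.Finite B S.X₂ → (S.map F).Exact)
    (h0 : ∀ m : Ideal B, m.IsMaximal → Limits.IsZero (F.obj (ModuleCat.of B (B ⧸ m))))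
    (M : ModuleCat.{u} B) (hM : Module.Finite B M) : Limits.IsZero (F.obj M) := by
  classical
  haveI := hM
  have key : ∀ N : Submodule B M, ∀ (X : ModuleCat.{u} B) (f : M →ₗ[B] X), Function.Surjective f →
      LinearMap.ker f = N → Limits.IsZero (F.obj X) := by
    intro N
    induction N using WellFoundedGT.induction with
    | _ N ih =>
      intro X f hf hN
      haveI : Module.Finite B X := Module.Finite.of_surjective f hf
      haveI := hfg X inferInstance
      have hquot : ∀ K : Submodule B X, K ≠ ⊥ → Limits.IsZero (F.obj (ModuleCat.of B (X ⧸ K))) := by
        intro K hK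
        refine ih (K.comap f) ?_ _ (K.mkQ ∘ₗ f) ((Submodule.mkQ_surjective K).comp hf) (by
          rw [LinearMap.ker_comp, Submodule.ker_mkQ])
        rw [← hN]
        refine lt_of_le_of_ne (fun x hx => by simp [LinearMap.mem_ker.mp hx]) fun h => hK ?_
        rw [← Submodule.map_comap_eq_of_surjective hf K, ← h, LinearMap.ker, Submodule.map_comap_eq]
        simp
      -- a short exact sequence with killed ends
      have hsur : ∀ (Y : ModuleCat.{u} B) (j : Y →ₗ[B] X), Function.Injective j →
          LinearMap.range j ≠ ⊥ → Function.Surjective (F.map (ModuleCat.ofHom j)) := by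
        intro Y j hj hr
        let S : ShortComplex (ModuleCat.{u} B) :=
          ShortComplex.mk (ModuleCat.ofHom j) (ModuleCat.ofHom (LinearMap.range j).mkQ) (by
            ext y
            simp)
        have hS : S.ShortExact := by
          refine ShortComplex.ShortExact.mk' ?_ ?_ ?_
          · rw [ShortComplex.moduleCat_exact_iff_range_eq_ker]
            exact (Submodule.ker_mkQ _).symm
          · exact (ModuleCat.mono_iff_injective _).mpr hj
          · exact (ModuleCat.epi_iff_surjective _).mpr (Submodule.mkQ_surjective _)
        have he := hex S hS (by assumption)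
        rw [ShortComplex.moduleCat_exact_iff] at he
        intro z
        exact he z (@Subsingleton.elim _
          (ModuleCat.subsingleton_of_isZero (hquot (LinearMap.range j) hr)) _ _)
      by_contra hne
      haveI : Nontrivial (F.obj X) := by
        rw [← not_subsingleton_iff_nontrivial]
        intro h
        exact hne (ModuleCat.isZero_of_subsingleton _)
      obtain ⟨m, hm, hann⟩ := Ideal.exists_le_maximal (Module.annihilator B (F.obj X))
        (by simpa [Submodule.annihilator_top] using (Module.annihilator_eq_top_iff (R := B) (M := F.obj X)).not.mpr (not_subsingleton _))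
      -- m kills X
      have hmX : ∀ b ∈ m, ∀ x : X, b • x = 0 := by
        intro b hb x
        by_contra hx
        let μ : X →ₗ[B] X := LinearMap.lsmul B X b
        have hμ : LinearMap.range μ ≠ ⊥ := fun h => hx ((Submodule.mem_bot B).mp (h ▸ ⟨x, rfl⟩))
        by_cases hk : LinearMap.ker μ = ⊥
        · have hs := hsur X μ (LinearMap.ker_eq_bot.mp hk) hμ
          have hμ' : F.map (ModuleCat.ofHom μ) = b • 𝟙 (F.obj X) := by
            rw [show ModuleCat.ofHom μ = b • 𝟙 X from rfl, Functor.map_smul, F.map_id]
          have hle : (⊤ : Submodule B (F.obj X)) ≤ Ideal.span {b} • ⊤ := by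
            intro z _
            obtain ⟨w, rfl⟩ := hs z
            rw [hμ']
            exact Submodule.smul_mem_smul (Ideal.mem_span_singleton_self b) trivial
          obtain ⟨r, hr1, hr2⟩ := Submodule.exists_sub_one_mem_and_smul_eq_zero_of_fg_of_le_smul _ _
            Module.Finite.fg_top hle
          have h1 : r ∈ m := hann (Module.mem_annihilator.mpr fun z => hr2 z trivial)
          obtain ⟨a, ha⟩ := Ideal.mem_span_singleton'.mp hr1
          exact hm.ne_top ((Ideal.eq_top_iff_one _).mpr (by
            have := m.sub_mem h1 (m.mul_mem_left a hb)
            rwa [ha, sub_sub_cancel] at this))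
        · have hz := hquot (LinearMap.ker μ) hk
          let j : ModuleCat.of B (X ⧸ LinearMap.ker μ) →ₗ[B] X := Submodule.liftQ _ μ le_rfl
          have hs := hsur _ j (LinearMap.ker_eq_bot.mp (Submodule.ker_liftQ_eq_bot _ _ _ le_rfl))
            (by rwa [Submodule.range_liftQ])
          haveI := ModuleCat.subsingleton_of_isZero hz
          exact not_subsingleton (F.obj X) hs.subsingleton
      have hXne : Nontrivial X := by
        rw [← not_subsingleton_iff_nontrivial]
        intro h
        exact hne (F.map_isZero (ModuleCat.isZero_of_subsingleton X))
      obtain ⟨x, hx⟩ := exists_ne (0 : X)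
      let j : ModuleCat.of B (B ⧸ m) →ₗ[B] X := Submodule.liftQ m (LinearMap.toSpanSingleton B X x)
        (fun b hb => hmX b hb x)
      have hj : Function.Injective j := by
        rw [← LinearMap.ker_eq_bot]
        refine Submodule.ker_liftQ_eq_bot _ _ _ fun b hb => ?_
        by_contra hbm
        obtain ⟨a, ha⟩ := hm.exists_inv hbm
        obtain ⟨c, hc, hac⟩ := ha
        refine hx ?_
        rw [← one_smul B x, ← hac, add_smul, mul_smul, hmX c hc x, add_zero]
        rw [LinearMap.mem_ker, LinearMap.toSpanSingleton_apply] at hb
        rw [hb, smul_zero]
      have hs := hsur _ j hj (fun h => hx (by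
        have h1 : j (Submodule.Quotient.mk 1) = 0 :=
          (Submodule.mem_bot B).mp (h ▸ LinearMap.mem_range_self j _)
        rw [show j (Submodule.Quotient.mk 1) = LinearMap.toSpanSingleton B X x 1 from rfl,
          LinearMap.toSpanSingleton_apply, one_smul] at h1
        exact h1))
      haveI := ModuleCat.subsingleton_of_isZero (h0 m hm)
      exact not_subsingleton (F.obj X) hs.subsingleton
  exact key ⊥ M LinearMap.id Function.surjective_id LinearMap.ker_id

end Groth.Agent.S11461
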