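import Groth.Statements.S11462
import Groth.Agent.L12.DefTLib.Hartogs

set_option autoImplicit false
universe u
open CategoryTheory AlgebraicGeometry Opposite
open DefT

namespace Groth.Agent.S11462

/-- Let C be a local Artin ring with maximal ideal m, A a Noetherian C-algebra flat over C such that
Spec(A/mA) is a normal scheme, and U ⊆ X = Spec A an open subset whose closed complement has
codimension ≥ 2, i.e. every prime of A not in U has height at least 2. Then the restriction map Γ(X,
O_X) → Γ(U, O_X) is bijective. (The published statement assumes only that A is flat over C with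
normal special fibre; this row also assumes A Noetherian: for a valuation ring of rank two over a
field, which is normal and flat, the functions on the complement of the closed point are not all
global.) -/
theorem result (C : Type u) [CommRing C]
    [IsLocalRing C] [IsArtinianRing C] (A : Type u) [CommRing A] [IsNoetherianRing A] [Algebra C A]
    [Module.Flat C A]
    (hnorm : Pi1.IsNormalScheme (Spec (CommRingCat.of (A ⧸ (IsLocalRing.maximalIdeal C).map (algebraMap C A)))))
    (U : (Spec (CommRingCat.of A)).Opens)
    (hU : ∀ p : ↥(Spec (CommRingCat.of A)), p ∉ U → (2 : ℕ∞) ≤ p.asIdeal.height) :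
    Function.Bijective ((Spec (CommRingCat.of A)).presheaf.map (homOfLE (le_top : U ≤ ⊤)).op) := by
  obtain ⟨x, hx, y, hy, hx0, hy0⟩ := Groth.L12.DefTLib.exists_regular_pair (C := C) (A := A) (fun P hP => by
      obtain ⟨h1, h2⟩ := hnorm ⟨P, hP⟩
      haveI := h1
      haveI := h2
      let e : Localization.AtPrime P ≃+*
          (Spec (CommRingCat.of (A ⧸ (IsLocalRing.maximalIdeal C).map (algebraMap C A)))).presheaf.stalk ⟨P, hP⟩ :=
        (StructureSheaf.stalkIso (A ⧸ (IsLocalRing.maximalIdeal C).map (algebraMap C A)) ⟨P, hP⟩).toRingEquiv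
      exact ⟨MulEquiv.isDomain _ e.toMulEquiv, IsIntegrallyClosed.of_equiv e.symm⟩)
    (PrimeSpectrum.vanishingIdeal ((U.1 : Set (PrimeSpectrum A))ᶜ)) (fun p hp hle => by
      refine hU ⟨p, hp⟩ ?_
      have h : (⟨p, hp⟩ : PrimeSpectrum A) ∈ PrimeSpectrum.zeroLocus
          (PrimeSpectrum.vanishingIdeal ((U.1 : Set (PrimeSpectrum A))ᶜ) : Set A) := hle
      rw [PrimeSpectrum.zeroLocus_vanishingIdeal_eq_closure] at h
      exact (closure_minimal (s := (U.1 : Set (PrimeSpectrum A))ᶜ) (t := (U.1 : Set (PrimeSpectrum A))ᶜ) le_rfl U.2.isClosed_compl) h)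
  refine Groth.L12.DefTLib.bijective_res_of_regular_pair U (x := x) (y := y) ?_ ?_ hx0 hy0
  · intro p hp
    by_contra hn
    exact hp ((PrimeSpectrum.mem_vanishingIdeal _ _).mp hx p hn)
  · intro p hp
    by_contra hn
    exact hp ((PrimeSpectrum.mem_vanishingIdeal _ _).mp hy p hn)

end Groth.Agent.S11462
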