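import Groth.Statements.S11463
import Groth.Agent.L11.Fogarty.Main
import Groth.Agent.L16.ProjSpace.Basic
import Groth.Agent.L16.ProjSpace.Dim

set_option autoImplicit false
set_option linter.style.haveILetI false
set_option backward.isDefEq.respectTransparency false
set_option backward.isDefEq.respectTransparency.types false
universe u
open CategoryTheory AlgebraicGeometry
open DefT

namespace Groth.Agent.S11463

/-- For k algebraically closed and every n > 0, the Hilbert scheme Hilb^n(P²_k) of zero-dimensional
closed subschemes of length n of the projective plane is irreducible: any k-scheme H representing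
the functor Hilb^n of P²_k over Spec k (with universal family Z) has irreducible underlying space. -/
theorem result (k : Type u) [Field k] [IsAlgClosed k]
    (n : ℕ) (hn : 0 < n) (H : Over (Spec (CommRingCat.of k)))
    (Z : HilbD.Obj (CohB1.ProjSpace.toSpec 2 k) n H)
    (hH : HilbD.IsUniversal (CohB1.ProjSpace.toSpec 2 k) n H Z) :
    IrreducibleSpace H.left := by
  haveI : IsIntegral (CohB1.ProjSpace 2 k) := Groth.L16.ProjSpace.isIntegral 2 k
  haveI : ConnectedSpace (CohB1.ProjSpace 2 k) := inferInstance
  haveI : IsProper (CohB1.ProjSpace.toSpec 2 k) := Groth.L16.ProjSpace.isProper_toSpec 2 k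
  haveI : Smooth (CohB1.ProjSpace.toSpec 2 k) := Groth.L16.ProjSpace.smooth_toSpec 2 k
  have hreg : ∀ x : CohB1.ProjSpace 2 k, IsRegularLocalRing ((CohB1.ProjSpace 2 k).presheaf.stalk x) := fun x => by
    letI : (CohB1.ProjSpace 2 k).Over (Spec (CommRingCat.of k)) := ⟨CohB1.ProjSpace.toSpec 2 k⟩
    haveI : Smooth ((CohB1.ProjSpace 2 k) ↘ Spec (CommRingCat.of k)) := inferInstanceAs (Smooth (CohB1.ProjSpace.toSpec 2 k))
    exact Groth.Agent.S1535.result k (CohB1.ProjSpace 2 k) x
  exact (Groth.L11.Fogarty.fogarty (f := CohB1.ProjSpace.toSpec 2 k)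
    (fun E hE => Groth.L18.ProjAvoid.exists_affineOpen_of_immersion _ (𝟙 (CohB1.ProjSpace 2 k)) E hE) hreg
    (Groth.L16.ProjSpace.topologicalKrullDim_eq_of_field 2 k) n hH).2.1

end Groth.Agent.S11463
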