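import Groth.Statements.S11469
import Groth.Agent.L12.DefTLib.InfAut

set_option autoImplicit false
universe u
open scoped TensorProduct
open DefT

namespace Groth.Agent.S11469

/-- Let C' be a local Artin ring with maximal ideal m, J ⊊ C' a proper ideal with mJ = 0, A' a
C'-algebra, M' an A'-module flat over C', and M₀ = M'/mM'. Then (1) every A'-linear endomorphism σ
of M' that is the identity modulo JM' is bijective, and there is exactly one A'-linear τ : M₀ → M₀
⊗_{C'} J such that, for all x ∈ M' and all z ∈ M' ⊗_{C'} J mapping to σ(x) − x in M', the image of z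
in M₀ ⊗_{C'} J is τ applied to the class of x; and (2) every A'-linear τ : M₀ → M₀ ⊗_{C'} J comes in
this way from some such σ. Thus the automorphisms of the extension M' inducing the identity on
M'/JM' correspond to Hom(M₀, M₀ ⊗ J). -/
theorem result (C' : Type u) [CommRing C'] [IsLocalRing C']
    [IsArtinianRing C'] (J : Ideal C') (hJ : IsLocalRing.maximalIdeal C' * J = ⊥) (hJne : J ≠ ⊤)
    (A' : Type u) [CommRing A'] [Algebra C' A'] (M' : Type u) [AddCommGroup M'] [Module A' M'] [Module C' M']
    [IsScalarTower C' A' M'] [Module.Flat C' M'] :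
    (∀ σ : M' →ₗ[A'] M', (∀ x : M', σ x - x ∈ (J.map (algebraMap C' A')) • (⊤ : Submodule A' M')) →
      Function.Bijective σ ∧
        ∃! τ : (M' ⧸ ((IsLocalRing.maximalIdeal C').map (algebraMap C' A')) • (⊤ : Submodule A' M')) →ₗ[A'] ((M' ⧸ ((IsLocalRing.maximalIdeal C').map (algebraMap C' A')) • (⊤ : Submodule A' M')) ⊗[C'] ↥J),
          (∀ (x : M') (z : M' ⊗[C'] ↥J), TensorProduct.rid C' M' (LinearMap.lTensor M' (Submodule.subtype J) z) = σ x - x →
            LinearMap.rTensor ↥J ((Submodule.mkQ (((IsLocalRing.maximalIdeal C').map (algebraMap C' A')) • (⊤ : Submodule A' M'))).restrictScalars C') z =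
              τ (Submodule.mkQ _ x))) ∧
    (∀ τ : (M' ⧸ ((IsLocalRing.maximalIdeal C').map (algebraMap C' A')) • (⊤ : Submodule A' M')) →ₗ[A'] ((M' ⧸ ((IsLocalRing.maximalIdeal C').map (algebraMap C' A')) • (⊤ : Submodule A' M')) ⊗[C'] ↥J),
      ∃ σ : M' →ₗ[A'] M', (∀ x : M', σ x - x ∈ (J.map (algebraMap C' A')) • (⊤ : Submodule A' M')) ∧
          (∀ (x : M') (z : M' ⊗[C'] ↥J), TensorProduct.rid C' M' (LinearMap.lTensor M' (Submodule.subtype J) z) = σ x - x →
            LinearMap.rTensor ↥J ((Submodule.mkQ (((IsLocalRing.maximalIdeal C').map (algebraMap C' A')) • (⊤ : Submodule A' M'))).restrictScalars C') z =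
              τ (Submodule.mkQ _ x))) := by
  obtain ⟨h1, h2⟩ := Groth.L12.InfAut.infinitesimal_automorphisms J (A := A') (M := M') hJ hJne
  refine ⟨fun σ hσ => ?_, fun τ => ?_⟩
  · simpa only [Groth.L12.InfAut.mult_eq, Groth.L12.InfAut.red_eq] using h1 σ hσ
  · simpa only [Groth.L12.InfAut.mult_eq, Groth.L12.InfAut.red_eq] using h2 τ

end Groth.Agent.S11469
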