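import Groth.Statements.S1147
import Groth.Agent.S9432
import Mathlib.RingTheory.Jacobson.Ring
import Mathlib.RingTheory.Ideal.GoingDown
import Mathlib.RingTheory.Flat.FaithfullyFlat.Algebra
import Mathlib.RingTheory.QuasiFinite.Basic
import Mathlib.RingTheory.Spectrum.Prime.RingHom

set_option autoImplicit false
set_option backward.isDefEq.respectTransparency.types false
set_option backward.isDefEq.respectTransparency false
set_option linter.style.haveILetI false
universe u
open Desc

namespace Groth.Agent.S1147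

/-- Let A → B be a faithfully flat ring map of finite presentation. If B is a Jacobson ring then so is
A. (This is the affine descent direction of the statement that the Jacobson property is fppf local.) -/
theorem result (A B : Type u) [CommRing A] [CommRing B] [Algebra A B]
    [Module.FaithfullyFlat A B] [Algebra.FinitePresentation A B] [IsJacobsonRing B] : IsJacobsonRing A := by
  obtain ⟨B', _, _, hqf, hft, hff, -, ⟨φ⟩⟩ := Groth.Agent.S9432.result A B
  haveI := hqf; haveI := hft; haveI := hff
  letI : Algebra B B' := φ.toRingHom.toAlgebra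
  haveI : IsScalarTower A B B' := IsScalarTower.of_algebraMap_eq (fun a => (φ.commutes a).symm)
  haveI : Algebra.FiniteType B B' := Algebra.FiniteType.of_restrictScalars_finiteType A B B'
  haveI : IsJacobsonRing B' := isJacobsonRing_of_finiteType (A := B) (B := B')
  rw [isJacobsonRing_iff_prime_eq]
  intro P hP
  refine le_antisymm (fun f hf => ?_) Ideal.le_jacobson
  by_contra hfP
  haveI := hP
  -- a prime maximal among those containing `P` and missing `f`
  have hdis : Disjoint (P : Set A) (Submonoid.powers f : Set A) := by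
    rw [Set.disjoint_left]
    rintro x hx ⟨n, rfl⟩
    exact hfP (hP.mem_of_pow_mem n hx)
  obtain ⟨p, hPp, hpdis, hpmax⟩ :
      ∃ p : Ideal A, P ≤ p ∧ Disjoint (p : Set A) (Submonoid.powers f : Set A) ∧
        ∀ q : Ideal A, p ≤ q → Disjoint (q : Set A) (Submonoid.powers f : Set A) → q = p := by
    obtain ⟨p, hPp, hpm⟩ := zorn_le_nonempty₀
      {q : Ideal A | Disjoint (q : Set A) (Submonoid.powers f : Set A)}
      (fun c hc hc' y hy => ⟨sSup c, Set.disjoint_left.mpr fun x hx hx' => by
        obtain ⟨z, hz, hxz⟩ := (Submodule.mem_sSup_of_directed ⟨y, hy⟩ hc'.directedOn).mp hx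
        exact Set.disjoint_left.mp (hc hz) hxz hx', fun z hz => le_sSup hz⟩) P hdis
    exact ⟨p, hPp, hpm.prop, fun q hq hq' => le_antisymm (hpm.2 hq' hq) hq⟩
  haveI hp : p.IsPrime := Ideal.isPrime_of_maximally_disjoint p (Submonoid.powers f) hpdis
    (fun J hJ hd => hJ.ne' (hpmax J hJ.le hd))
  have hfp : f ∉ p := fun h => Set.disjoint_left.mp hpdis h ⟨1, pow_one f⟩
  obtain ⟨m, hm, hpm⟩ := Ideal.exists_le_maximal p hp.ne_top
  haveI := hm.isPrime
  have hfm : f ∈ m := Ideal.mem_sInf.mp hf ⟨hPp.trans hpm, hm⟩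
  -- a point over `m`
  obtain ⟨y, hy⟩ := PrimeSpectrum.comap_surjective_of_faithfullyFlat (A := A) (B := B') ⟨m, inferInstance⟩
  haveI : y.asIdeal.LiesOver m := ⟨(congrArg PrimeSpectrum.asIdeal hy).symm⟩
  obtain ⟨z, hzy, hz, hzp⟩ := Ideal.exists_ideal_le_liesOver_of_le (p := p) (q := m) y.asIdeal hpm
  haveI := hz
  have hfz : algebraMap A B' f ∉ z := by
    intro h
    exact hfp (by rw [hzp.over]; exact h)
  -- `z` is maximal
  have hzj : z.jacobson = z := IsJacobsonRing.out (R := B') inferInstance (Ideal.IsPrime.isRadical hz)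
  obtain ⟨n, ⟨hzn, hn⟩, hfn⟩ : ∃ n : Ideal B', (z ≤ n ∧ n.IsMaximal) ∧ algebraMap A B' f ∉ n := by
    by_contra hcon
    refine hfz (hzj ▸ Ideal.mem_sInf.mpr fun {n} hn => ?_)
    by_contra hfn
    exact hcon ⟨n, hn, hfn⟩
  haveI := hn.isPrime
  have hnp : n.under A = p := by
    refine hpmax _ (hzp.over ▸ Ideal.comap_mono hzn) ?_
    rw [Set.disjoint_left]
    rintro x hx ⟨k, rfl⟩
    have : (algebraMap A B' f) ^ k ∈ n := by rw [← map_pow]; exact hx
    exact hfn (hn.isPrime.mem_of_pow_mem k this)
  have hzn' : z = n := Algebra.QuasiFinite.eq_of_le_of_under_eq z n hzn (hzp.over.symm.trans hnp.symm)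
  have hzy' : z = y.asIdeal :=
    (hzn'.symm ▸ hn).eq_of_le y.isPrime.ne_top hzy
  have : p = m := by
    rw [hzp.over, hzy', ← Ideal.LiesOver.over (P := y.asIdeal) (p := m)]
  exact hfp (this ▸ hfm)

end Groth.Agent.S1147
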