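import Groth.Statements.S11470

set_option autoImplicit false
universe u
open Curves Polynomial

namespace Groth.L21.LambdaLine

variable {k : Type u} [Field k]


theorem x_sub_one_ne_zero : (RatFunc.X : RatFunc k) - 1 ≠ 0 := by
  intro h
  apply RatFunc.transcendental_X (K := k)
  refine ⟨Polynomial.X - 1, Polynomial.X_sub_C_ne_zero (R := k) 1, ?_⟩
  simp [h]

/-- `w = x (x - 1)`. -/
noncomputable abbrev w : RatFunc k := RatFunc.X * (RatFunc.X - 1)

theorem w_ne_zero : (w : RatFunc k) ≠ 0 := mul_ne_zero RatFunc.X_ne_zero x_sub_one_ne_zero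

/-- `b` is `P / (x (x-1))^a`. -/
theorem exists_rep {b : RatFunc k}
    (hb : b ∈ Algebra.adjoin k ({RatFunc.X, (RatFunc.X : RatFunc k)⁻¹, ((RatFunc.X : RatFunc k) - 1)⁻¹} : Set (RatFunc k))) :
    ∃ (P : k[X]) (a : ℕ), b * w ^ a = aeval (RatFunc.X : RatFunc k) P := by
  induction hb using Algebra.adjoin_induction with
  | mem x hx =>
    rcases hx with rfl | rfl | hx
    · exact ⟨X, 0, by simp⟩
    · refine ⟨X - 1, 1, ?_⟩
      have := RatFunc.X_ne_zero (K := k)
      simp only [w, pow_one, map_sub, aeval_X, map_one]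
      field_simp
    · rw [Set.mem_singleton_iff] at hx
      subst hx
      refine ⟨X, 1, ?_⟩
      have := x_sub_one_ne_zero (k := k)
      simp only [w, pow_one, aeval_X]
      field_simp
  | algebraMap r => exact ⟨C r, 0, by simp⟩
  | add x y _ _ hx hy =>
    obtain ⟨P, a, hP⟩ := hx
    obtain ⟨Q, c, hQ⟩ := hy
    refine ⟨P * (X * (X - 1)) ^ c + Q * (X * (X - 1)) ^ a, a + c, ?_⟩
    simp only [map_add, map_mul, map_pow, map_sub, map_one, aeval_X, ← hP, ← hQ]
    ring
  | mul x y _ _ hx hy =>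
    obtain ⟨P, a, hP⟩ := hx
    obtain ⟨Q, c, hQ⟩ := hy
    exact ⟨P * Q, a + c, by rw [map_mul, ← hP, ← hQ]; ring⟩

theorem aeval_X_injective : Function.Injective (aeval (R := k) (RatFunc.X : RatFunc k)) :=
  transcendental_iff_injective.1 RatFunc.transcendental_X

theorem natDegree_le_of_sym {n : ℕ} (P : k[X]) (s : k)
    (hσ : (RatFunc.X : RatFunc k) ^ n * aeval (RatFunc.X : RatFunc k)⁻¹ P =
      algebraMap k (RatFunc k) s * aeval (RatFunc.X : RatFunc k) P) (hs : s ≠ 0) :
    P.natDegree ≤ n ∧ P.reflect n = C s * P := by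
  have key : ∀ N, P.natDegree ≤ N →
      aeval (RatFunc.X : RatFunc k) (P.reflect N) =
        (RatFunc.X : RatFunc k) ^ N * aeval (RatFunc.X : RatFunc k)⁻¹ P := by
    intro N hN
    haveI : Invertible (RatFunc.X : RatFunc k)⁻¹ := invertibleOfNonzero (inv_ne_zero RatFunc.X_ne_zero)
    have h1 := Polynomial.eval₂_reflect_mul_pow (algebraMap k (RatFunc k))
      ((RatFunc.X : RatFunc k)⁻¹) N P hN
    rw [invOf_eq_inv, inv_inv, ← aeval_def, ← aeval_def] at h1
    rw [← h1, mul_left_comm, ← mul_pow, mul_inv_cancel₀ (RatFunc.X_ne_zero (K := k)), one_pow, mul_one]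
  have h1 : P.natDegree ≤ n := by
    by_contra hlt
    rw [not_le] at hlt
    obtain ⟨d, hd⟩ := Nat.exists_eq_add_of_le hlt.le
    have h2 : P.reflect P.natDegree = X ^ d * (C s * P) := aeval_X_injective (by
      rw [key _ le_rfl, map_mul, map_mul, map_pow, aeval_X, aeval_C, ← hσ, hd, pow_add]
      ring)
    have h3 := congrArg natDegree h2
    rw [natDegree_mul (pow_ne_zero _ X_ne_zero), natDegree_X_pow, natDegree_C_mul hs] at h3
    · have h4 : (P.reflect P.natDegree).natDegree ≤ P.natDegree := by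
        rw [natDegree_le_iff_coeff_eq_zero]
        intro i hi
        rw [coeff_reflect, revAt_eq_self_of_lt hi]
        exact coeff_eq_zero_of_natDegree_lt hi
      omega
    · intro h
      rcases mul_eq_zero.1 h with h | h
      · exact hs (C_eq_zero.1 h)
      · rw [h, natDegree_zero] at hlt; exact Nat.not_lt_zero n hlt
  exact ⟨h1, aeval_X_injective (by rw [key n h1, map_mul, aeval_C, hσ])⟩

theorem even_natDegree (h2 : (2 : k) ≠ 0) {P : k[X]} (hP : P ≠ 0) (hτ : P.comp (1 - X) = P) :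
    Even P.natDegree := by
  by_contra hodd
  rw [Nat.not_even_iff_odd] at hodd
  have hd : (1 - X : k[X]).natDegree = 1 := by rw [← natDegree_neg, neg_sub]; exact natDegree_X_sub_C (1 : k)
  have hl : (1 - X : k[X]).leadingCoeff = -1 := by
    rw [← neg_sub (X : k[X]) 1, leadingCoeff_neg]
    rw [show (X : k[X]) - 1 = X - C 1 by simp, leadingCoeff_X_sub_C]
  have := congrArg leadingCoeff hτ
  rw [leadingCoeff_comp (by rw [hd]; exact one_ne_zero), hl, hodd.neg_one_pow] at this
  have h := leadingCoeff_ne_zero.2 hP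
  exact h (by
    have : (2 : k) * P.leadingCoeff = 0 := by linear_combination -this
    exact (mul_eq_zero.1 this).resolve_left h2)

theorem mem_adjoin_of_sym (h2 : (2 : k) ≠ 0) (j : RatFunc k) (h256 : (256 : RatFunc k) ≠ 0)
    (hj : j * w ^ 2 = 256 * ((RatFunc.X : RatFunc k) ^ 2 - RatFunc.X + 1) ^ 3) :
    ∀ (a : ℕ) (P : k[X]) (b : RatFunc k), b * w ^ a = aeval (RatFunc.X : RatFunc k) P →
      P.comp (1 - X) = P →
      (RatFunc.X : RatFunc k) ^ (3 * a) * aeval (RatFunc.X : RatFunc k)⁻¹ P =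
        algebraMap k (RatFunc k) ((-1) ^ a) * aeval (RatFunc.X : RatFunc k) P →
      b ∈ Algebra.adjoin k ({j} : Set (RatFunc k)) := by
  intro a
  induction a using Nat.strong_induction_on with
  | _ a IH =>
  have reduce : ∀ (P : k[X]) (b : RatFunc k), P.coeff 0 = 0 → b * w ^ a = aeval (RatFunc.X : RatFunc k) P →
      P.comp (1 - X) = P →
      (RatFunc.X : RatFunc k) ^ (3 * a) * aeval (RatFunc.X : RatFunc k)⁻¹ P =
        algebraMap k (RatFunc k) ((-1) ^ a) * aeval (RatFunc.X : RatFunc k) P →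
      b ∈ Algebra.adjoin k ({j} : Set (RatFunc k)) := by
    intro P b hP0 hb hτ hσ
    by_cases hPz : P = 0
    · rw [hPz, map_zero, mul_eq_zero] at hb
      rw [hb.resolve_right (pow_ne_zero _ w_ne_zero)]
      exact zero_mem _
    obtain ⟨hdeg, hrefl⟩ := natDegree_le_of_sym P _ hσ (pow_ne_zero _ (neg_ne_zero.2 one_ne_zero))
    rcases a with _ | a
    · exact absurd (eq_C_of_natDegree_le_zero (by simpa using hdeg) ▸ by rw [hP0, C_0]) hPz
    obtain ⟨R, rfl⟩ := X_dvd_iff.2 hP0
    have h1 : R.eval 1 = 0 := by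
      have h3 := congrArg (eval 1) hτ
      simpa [eval_comp] using h3.symm
    obtain ⟨Q, rfl⟩ := dvd_iff_isRoot.2 h1
    have hQτ : Q.comp (1 - X) = Q := by
      simp only [mul_comp, X_comp, sub_comp, C_comp, C_1, one_comp] at hτ
      refine mul_left_cancel₀ (mul_ne_zero X_ne_zero (X_sub_C_ne_zero (R := k) 1)) ?_
      rw [C_1]
      linear_combination hτ
    refine IH a (Nat.lt_succ_self a) Q b ?_ hQτ ?_
    · refine mul_right_cancel₀ (w_ne_zero (k := k)) ?_
      simp only [map_mul, map_sub, aeval_X, C_1, map_one, w] at hb ⊢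
      linear_combination hb
    · refine mul_right_cancel₀ (w_ne_zero (k := k)) ?_
      simp only [map_mul, map_sub, aeval_X, C_1, map_one, map_pow, map_neg, w] at hσ ⊢
      rw [Nat.mul_succ, pow_add, pow_succ (-1 : RatFunc k) a] at hσ
      have x0 := RatFunc.X_ne_zero (K := k)
      have e : (RatFunc.X : RatFunc k) ^ 3 * (RatFunc.X⁻¹ * (RatFunc.X⁻¹ - 1)) =
          -(RatFunc.X * (RatFunc.X - 1)) := by field_simp; ring
      linear_combination -hσ + (RatFunc.X : RatFunc k) ^ (3 * a) * aeval (RatFunc.X : RatFunc k)⁻¹ Q * e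
  intro P b hb hτ hσ
  by_cases hP0 : P.coeff 0 = 0
  · exact reduce P b hP0 hb hτ hσ
  obtain ⟨hdeg, hrefl⟩ := natDegree_le_of_sym P _ hσ (pow_ne_zero _ (neg_ne_zero.2 one_ne_zero))
  have hPz : P ≠ 0 := fun h => hP0 (by rw [h, coeff_zero])
  have h3 : P.natDegree = 3 * a := by
    refine le_antisymm hdeg (le_natDegree_of_ne_zero fun h => hP0 ?_)
    have := congrArg (fun p => coeff p (3 * a)) hrefl
    simpa only [coeff_reflect, revAt_le le_rfl, Nat.sub_self, coeff_C_mul, h, mul_zero] using this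
  obtain ⟨c, hc⟩ : Even a := by
    have := even_natDegree h2 hPz hτ
    rw [h3, Nat.even_mul] at this
    exact this.resolve_left (by decide)
  subst hc
  set Q : k[X] := X ^ 2 - X + 1
  have hQτ : Q.comp (1 - X) = Q := by
    simp only [Q, add_comp, sub_comp, pow_comp, X_comp, one_comp]
    ring
  have hjc : (j / 256) ^ c * w ^ (c + c) = aeval (RatFunc.X : RatFunc k) (Q ^ (3 * c)) := by
    rw [← two_mul, pow_mul, ← mul_pow, div_mul_eq_mul_div, hj, mul_div_assoc, pow_mul]
    simp only [Q, map_pow, map_add, map_sub, aeval_X, map_one]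
    congr 1
    field_simp
  have hjmem : (j / 256) ^ c ∈ Algebra.adjoin k ({j} : Set (RatFunc k)) := by
    refine pow_mem ?_ c
    rw [div_eq_inv_mul, show (256 : RatFunc k)⁻¹ = algebraMap k _ (256 : k)⁻¹ by rw [map_inv₀, map_ofNat]]
    exact mul_mem (Subalgebra.algebraMap_mem _ _) (Algebra.self_mem_adjoin_singleton k j)
  have key := reduce (P - C (P.coeff 0) * Q ^ (3 * c)) (b - algebraMap k _ (P.coeff 0) * (j / 256) ^ c) ?_ ?_ ?_ ?_
  · have := add_mem key (mul_mem (Subalgebra.algebraMap_mem (Algebra.adjoin k {j}) (P.coeff 0)) hjmem)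
    rwa [sub_add_cancel] at this
  · simp [coeff_zero_eq_eval_zero, Q]
  · rw [sub_mul, hb, mul_assoc, hjc, map_sub, map_mul, aeval_C]
  · rw [sub_comp, mul_comp, C_comp, pow_comp, hQτ, hτ]
  · have hs : (-1 : k) ^ (c + c) = 1 := by rw [← two_mul, pow_mul]; simp
    rw [hs, map_one, one_mul] at hσ ⊢
    have hQσ : (RatFunc.X : RatFunc k) ^ 2 * aeval (RatFunc.X : RatFunc k)⁻¹ Q = aeval (RatFunc.X : RatFunc k) Q := by
      have := (RatFunc.X_ne_zero (K := k))
      simp only [Q, map_pow, map_add, map_sub, aeval_X, map_one]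
      field_simp
      ring
    rw [map_sub, map_sub, map_mul, map_mul, aeval_C, aeval_C, mul_sub, hσ, map_pow (aeval (RatFunc.X : RatFunc k)⁻¹),
      map_pow (aeval (RatFunc.X : RatFunc k)), ← hQσ, mul_pow]
    ring

end Groth.L21.LambdaLine

namespace Groth.Agent.S11470

open Groth.L21.LambdaLine

/-- The algebraic step of its proof: Fix an algebraically closed field k whose characteristic is neither
2 nor 3, let B ⊆ k(λ) be the k-subalgebra generated by λ, λ⁻¹ and (λ - 1)⁻¹ (the coordinate ring of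
the λ-line with 0 and 1 removed), and let σ and τ be the k-algebra automorphisms of k(λ) determined
by σ(λ) = λ⁻¹ and τ(λ) = 1 - λ (they generate the group of order six permuting λ, 1/λ, 1-λ, 1/(1-λ),
λ/(λ-1), (λ-1)/λ). Then the elements of B fixed by σ and τ are exactly the elements of the
k-subalgebra generated by j = 256 (λ² - λ + 1)³ / (λ² (λ - 1)²); in other words the ring of
invariants of B is the polynomial ring k[j]. -/
theorem result (k : Type u) [Field k] [IsAlgClosed k]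
    (h2 : (2 : k) ≠ 0) (h3 : (3 : k) ≠ 0)
    (σ τ : RatFunc k ≃ₐ[k] RatFunc k) (hσ : σ RatFunc.X = (RatFunc.X : RatFunc k)⁻¹)
    (hτ : τ RatFunc.X = 1 - (RatFunc.X : RatFunc k)) (b : RatFunc k) :
    (b ∈ Algebra.adjoin k ({RatFunc.X, (RatFunc.X : RatFunc k)⁻¹, ((RatFunc.X : RatFunc k) - 1)⁻¹} : Set (RatFunc k)) ∧
        σ b = b ∧ τ b = b) ↔
      b ∈ Algebra.adjoin k ({(256 : RatFunc k) * ((RatFunc.X : RatFunc k) ^ 2 - RatFunc.X + 1) ^ 3 /
        ((RatFunc.X : RatFunc k) ^ 2 * ((RatFunc.X : RatFunc k) - 1) ^ 2)} : Set (RatFunc k)) := by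
  set x : RatFunc k := RatFunc.X with hx
  set j := (256 : RatFunc k) * (x ^ 2 - x + 1) ^ 3 / (x ^ 2 * (x - 1) ^ 2) with hjdef
  have x0 : x ≠ 0 := RatFunc.X_ne_zero
  have x1 : x - 1 ≠ 0 := x_sub_one_ne_zero
  have h256 : (256 : RatFunc k) ≠ 0 := by
    rw [show (256 : RatFunc k) = algebraMap k _ (2 ^ 8 : k) by norm_num [map_pow, map_ofNat]]
    exact (_root_.map_ne_zero _).2 (pow_ne_zero _ h2)
  constructor
  · rintro ⟨hb, hbσ, hbτ⟩
    obtain ⟨P, a, hP⟩ := exists_rep hb
    refine mem_adjoin_of_sym h2 j h256 ?_ a P b hP ?_ ?_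
    · rw [hjdef, show (w : RatFunc k) ^ 2 = x ^ 2 * (x - 1) ^ 2 from mul_pow _ _ _]
      exact div_mul_cancel₀ _ (mul_ne_zero (pow_ne_zero _ x0) (pow_ne_zero _ x1))
    · refine aeval_X_injective ?_
      have h := congrArg τ hP
      rw [map_mul, hbτ, map_pow, map_mul, map_sub, map_one, ← AlgEquiv.coe_toAlgHom, ← Polynomial.aeval_algHom_apply,
        AlgEquiv.coe_toAlgHom, hτ, show (1 - x) * (1 - x - 1) = x * (x - 1) by ring, hP] at h
      rw [Polynomial.aeval_comp, h]
      simp [hx]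
    · have h := congrArg σ hP
      rw [map_mul, hbσ, map_pow, map_mul, map_sub, map_one, ← AlgEquiv.coe_toAlgHom, ← Polynomial.aeval_algHom_apply,
        AlgEquiv.coe_toAlgHom, hσ] at h
      rw [← h, ← hP, map_pow, map_neg, map_one, pow_mul]
      have e : x ^ 3 * (x⁻¹ * (x⁻¹ - 1)) = -1 * (x * (x - 1)) := by field_simp; ring
      simp only [← hx]
      calc _ = b * (x ^ 3 * (x⁻¹ * (x⁻¹ - 1))) ^ a := by rw [mul_pow (x ^ 3) (x⁻¹ * (x⁻¹ - 1))]; ring
        _ = _ := by rw [e, mul_pow]; ring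
  · intro hb
    have hjB : j ∈ Algebra.adjoin k ({x, x⁻¹, (x - 1)⁻¹} : Set (RatFunc k)) := by
      have hxm : x ∈ Algebra.adjoin k ({x, x⁻¹, (x - 1)⁻¹} : Set (RatFunc k)) := Algebra.subset_adjoin (by simp)
      rw [show j = algebraMap k _ (256 : k) * (x ^ 2 - x + 1) ^ 3 * (x⁻¹) ^ 2 * ((x - 1)⁻¹) ^ 2 by
        rw [hjdef, map_ofNat, div_eq_mul_inv, mul_inv, inv_pow, inv_pow]; ring]
      exact mul_mem (mul_mem (mul_mem (Subalgebra.algebraMap_mem _ _)
        (pow_mem (add_mem (sub_mem (pow_mem hxm 2) hxm) (one_mem _)) 3))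
        (pow_mem (Algebra.subset_adjoin (by simp)) 2)) (pow_mem (Algebra.subset_adjoin (by simp)) 2)
    have hjσ : σ j = j := by
      rw [hjdef, map_div₀, map_mul, map_mul, map_pow, map_pow, map_pow, map_add, map_sub, map_sub, map_pow, map_one,
        map_ofNat, hσ]
      have x1' : (1 : RatFunc k) - x ≠ 0 := sub_ne_zero.2 (sub_ne_zero.1 x1).symm
      field_simp
      ring
    have hjτ : τ j = j := by
      rw [hjdef, map_div₀, map_mul, map_mul, map_pow, map_pow, map_pow, map_add, map_sub, map_sub, map_pow, map_one,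
        map_ofNat, hτ]
      congr 1 <;> ring
    refine ⟨(Algebra.adjoin_le (Set.singleton_subset_iff.2 hjB) : _ ≤ _) hb, ?_, ?_⟩
    · exact AlgHom.adjoin_le_equalizer σ.toAlgHom (AlgHom.id k _) (fun y hy => by rw [Set.mem_singleton_iff.1 hy]; exact hjσ) hb
    · exact AlgHom.adjoin_le_equalizer τ.toAlgHom (AlgHom.id k _) (fun y hy => by rw [Set.mem_singleton_iff.1 hy]; exact hjτ) hb

end Groth.Agent.S11470
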