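import Groth.Statements.S1674
import Groth.Agent.L21.CurveAdj.Components

set_option autoImplicit false
set_option backward.isDefEq.respectTransparency false
universe u
open CategoryTheory CategoryTheory.Limits AlgebraicGeometry
attribute [local instance] HasDerivedCategory.standard
open Curves

namespace Groth.Agent.S1674

/-- Let X be proper of dimension one over k with global functions k and at-worst-nodal singularities,
ω_X its dualizing module (via f^! O, assuming Rf_* on D_QCoh and its right adjoint exist), and C ⊆ X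
a rational bridge, viewed as a reduced closed subscheme. Then the restriction of ω_X to C has degree
zero (over k). -/
theorem result (k : Type u) [Field k] (X : Scheme.{u}) [X.Over (Spec (CommRingCat.of k))] [IsProper (X ↘ (Spec (CommRingCat.of k)))] (hdim : topologicalKrullDim X = 1)
    (h0 : Module.finrank k (Coh.HH X (Coh.structureModule X) 0) = 1) (hX : Curv2.AtWorstNodal k X)
    [DCoh.HasRpush (X ↘ (Spec (CommRingCat.of k)))] (h : DCoh.RpushPreservesQCoh (X ↘ (Spec (CommRingCat.of k)))) [DCoh.HasShriek (X ↘ (Spec (CommRingCat.of k))) h]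
    (OY : DCoh.DQCoh (Spec (CommRingCat.of k))) (hOY : Nonempty (OY.obj ≅ DCoh.inD (Spec (CommRingCat.of k)) (Coh.structureModule (Spec (CommRingCat.of k)))))
    (C : Set X) (hC : C ∈ irreducibleComponents (X : Type u)) (hCb : Curv2.IsRationalBridge k X C hC) :
    @Curv2.deg k _ (Scheme.IdealSheafData.vanishingIdeal ⟨C, isClosed_of_mem_irreducibleComponents C hC⟩).subscheme
        ⟨(Scheme.IdealSheafData.vanishingIdeal ⟨C, isClosed_of_mem_irreducibleComponents C hC⟩).subschemeι ≫ (X ↘ (Spec (CommRingCat.of k)))⟩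
        ((Scheme.Modules.pullback (Scheme.IdealSheafData.vanishingIdeal ⟨C, isClosed_of_mem_irreducibleComponents C hC⟩).subschemeι).obj (DCoh.dualizingMod (X ↘ (Spec (CommRingCat.of k))) h OY 1)) 1 = 0 := by
  haveI : IsProper (X ↘ Spec (CommRingCat.of k)) := inferInstance
  obtain ⟨hconn, hred, hgen, hsetup⟩ := Groth.L21.CurveAdj.nodal_setup (k := k) hdim h0 hX
  obtain ⟨t, ht⟩ := Groth.L21.CurveDual.exists_isRDual k hdim.le h OY hOY
  obtain ⟨S, hinv⟩ := hsetup _ t ht

  obtain ⟨hredC, hconnC, hgenC⟩ := Groth.L21.CurveAdj.component hgen C hC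
  haveI := hredC
  haveI := hconnC
  obtain ⟨d, a, m, ⟨-, hYa, -, hdeg⟩, hd, ha, hm, hdpos, -, -, -, -, -⟩ :=
    Groth.L21.CurveAdj.subcurve S hgen hinv (Groth.L21.CurveAdj.IC C hC) hgenC
  rw [Groth.L21.CurveAdj.compl_IC C hC] at hm
  obtain ⟨-, hb, hh1⟩ := hCb
  change Groth.L21.RR.h k 0 (ClSub.quotMod (Groth.L21.CurveAdj.IC C hC ⊔ Groth.L21.CurveAdj.IX' C hC)) =
    2 * Groth.L21.RR.h k 0 (ClSub.quotMod (Groth.L21.CurveAdj.IC C hC)) at hb
  rw [hm, hd] at hb
  letI : (Groth.L21.CurveAdj.IC C hC).subscheme.Over (Spec (CommRingCat.of k)) :=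
    ⟨(Groth.L21.CurveAdj.IC C hC).subschemeι ≫ (X ↘ Spec (CommRingCat.of k))⟩
  have ha0 : a = 0 := by
    rw [← hYa]
    exact Groth.L21.RR.h_eq_zero_of_subsingleton k hh1
  rw [hdeg, ha0, hb]
  push_cast
  ring

end Groth.Agent.S1674
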