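import Groth.Statements.S11471
import Groth.Agent.L21.NodalExt.Unstable
import Groth.Agent.S1671
import Groth.Agent.S1674
-- import your own Groth.Agent.* helpers here

set_option autoImplicit false
set_option backward.isDefEq.respectTransparency false
set_option linter.style.haveILetI false
universe u
open CategoryTheory CategoryTheory.Limits AlgebraicGeometry
open Curves

attribute [local instance] HasDerivedCategory.standard

namespace Groth.Agent.S11471

/-- Let k be algebraically closed and X a proper, reduced, connected k-scheme of dimension one whose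
singularities are at worst nodes. Suppose X has no infinitesimal automorphisms: H⁰(X, T_X) = 0 for
the tangent sheaf T_X = Hom(Ω_{X/k}, O_X), stated as: every O_X-linear map Ω_{X/k} → O_X is zero.
Then X is stable: the arithmetic genus dim H¹(X, O_X) is at least 2, and no irreducible component of
genus zero meets the rest of X in only one or only two points (X has no rational tails and no
rational bridges; a genus-zero component can then only meet the rest in at least three points). (The
published statement is the equivalence of the two conditions; this row states the implication from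
the vanishing of vector fields to stability.) -/
theorem result (k : Type u) [Field k] [IsAlgClosed k] (X : Scheme.{u})
    [X.Over (Spec (CommRingCat.of k))] [IsProper (X ↘ Spec (CommRingCat.of k))] [IsReduced X] [ConnectedSpace X]
    (hdim : topologicalKrullDim X = 1) (hnod : Curv2.AtWorstNodal k X)
    (h : ∀ θ : Omega.sheaf (X ↘ Spec (CommRingCat.of k)) ⟶ Coh.structureModule X, θ = 0) :
    2 ≤ Curv2.genus k X ∧ ∀ (C : Set X) (hC : C ∈ irreducibleComponents (X : Type u)),
        ¬ Curv2.IsRationalTail X C hC ∧ ¬ Curv2.IsRationalBridge k X C hC := by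
  haveI := Groth.L21.RR.isNoetherian_of_proper (X := X) k
  have h0 : Groth.L21.RR.h k 0 (Coh.structureModule X) = 1 := Groth.L21.CurveAdj.h0_eq_one_of_connected
  haveI : X.IsSeparated := ⟨by rw [← Limits.terminal.comp_from (X ↘ Spec (CommRingCat.of k))]; infer_instance⟩
  haveI := Groth.L29.DC.RpushQC.hasRpush (X ↘ Spec (CommRingCat.of k))
  have hq : DCoh.RpushPreservesQCoh (X ↘ Spec (CommRingCat.of k)) := fun K hK =>
    Groth.L29.DC.RpushQC.isQCohD_Rpush _ K hK
  haveI : DCoh.HasShriek (X ↘ Spec (CommRingCat.of k)) hq :=
    Groth.Agent.S1766.result X (Spec (CommRingCat.of k)) (X ↘ Spec (CommRingCat.of k)) hq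
  let OY : DCoh.DQCoh (Spec (CommRingCat.of k)) :=
    ⟨DCoh.inD _ (Coh.structureModule _), Groth.L29.RelPC.isQCohD_unit _⟩
  obtain ⟨t, ht⟩ := Groth.L21.CurveDual.exists_isRDual k hdim.le hq OY ⟨Iso.refl _⟩
  obtain ⟨-, -, -, hset⟩ := Groth.L21.CurveAdj.nodal_setup hdim h0 hnod
  obtain ⟨-, hw⟩ := hset _ t ht
  refine ⟨Groth.L21.NodalExt.two_le_genus_of_no_fields hdim hnod ht hw h, fun C hC => ⟨fun hT => ?_, fun hB => ?_⟩⟩
  · have h1 := Groth.L21.NodalExt.degOn_pos_of_no_fields hdim hnod ht hw h C hC hT.2.2.2.2.2
    exact (lt_asymm h1) (Groth.Agent.S1671.result k X hdim h0 hnod hq OY ⟨Iso.refl _⟩ C hC hT)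
  · have h1 := Groth.L21.NodalExt.degOn_pos_of_no_fields hdim hnod ht hw h C hC hB.2.2
    exact (ne_of_gt h1) (Groth.Agent.S1674.result k X hdim h0 hnod hq OY ⟨Iso.refl _⟩ C hC hB)

end Groth.Agent.S11471
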