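import Groth.Statements.S11475
import Groth.Agent.L11.EmbLift.System
import Groth.Agent.L11.SmoothLift.ExtHom
import Groth.Agent.L14.Conormal.FinLocFree

set_option autoImplicit false
set_option backward.isDefEq.respectTransparency.types false
set_option backward.isDefEq.respectTransparency false
set_option linter.unusedSectionVars false
universe u
open CategoryTheory CategoryTheory.Limits AlgebraicGeometry
open Lift

namespace Groth.Agent.S11475

/-- The lifting statement over an arbitrary flat proper base scheme. -/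
theorem exists_lift {R : Type u} [CommRing R] [IsDomain R]
    [IsDiscreteValuationRing R] [IsAdicComplete (IsLocalRing.maximalIdeal R) R] {P : Scheme.{u}}
    (q : P ⟶ Spec (CommRingCat.of R)) [IsProper q] [Flat q] (X₀ : Scheme.{u})
    (ι₀ : X₀ ⟶ pullback q (Spec.map (CommRingCat.ofHom (IsLocalRing.residue R))))
    (hι₀ : Mor2.IsRegularClosedImmersion ι₀) [HasExt.{u} X₀.Modules]
    (hN : Subsingleton (Abelian.Ext.{u} (Omega.conormal ι₀) (Coh.structureModule X₀) 1)) :
    ∃ (X : Scheme.{u}) (j : X ⟶ P) (i : X₀ ⟶ X), IsClosedImmersion j ∧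
      Flat (j ≫ q) ∧
      IsPullback i ι₀ j (pullback.fst q (Spec.map (CommRingCat.ofHom (IsLocalRing.residue R)))) := by
  classical
  obtain ⟨x, hx'⟩ := (IsPrincipalIdealRing.principal (IsLocalRing.maximalIdeal R)).principal
  have hx : IsLocalRing.maximalIdeal R = Ideal.span {x} := hx'
  let a := pullback.fst q (Spec.map (CommRingCat.ofHom (IsLocalRing.residue R)))
  haveI : IsClosedImmersion (Spec.map (CommRingCat.ofHom (IsLocalRing.residue R))) :=
    IsClosedImmersion.spec_of_surjective _ IsLocalRing.residue_surjective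
  haveI : IsClosedImmersion ι₀ := hι₀.1
  let π := Groth.L11.EmbLift.glob q x
  haveI : P.IsSeparated := ⟨by
    rw [show terminal.from P = q ≫ terminal.from _ from Subsingleton.elim _ _]
    infer_instance⟩
  have hπ : ∀ W : P.Opens, IsAffineOpen W →
      RingHom.ker (a.app W).hom = Ideal.span {Groth.L11.EmbLift.piW π W} := fun W hW => by
    rw [← Groth.L11.EmbLift.comap_ker_ideal q _ IsLocalRing.residue_surjective (Groth.L11.EmbLift.ker_residue' hx) hW,
      ← Scheme.IdealSheafData.ker_fst_of_isClosedImmersion, Scheme.Hom.ker_apply]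
  have hπr : ∀ W : P.Opens, IsAffineOpen W →
      IsSMulRegular Γ(P, W) (Groth.L11.EmbLift.piW π W) := fun W hW =>
    Groth.L11.EmbLift.piW_regular q hx W hW
  have h1 : Subsingleton (Coh.HH X₀ (Groth.L11.EmbLift.NN ι₀) 1) :=
    Groth.L11.SmoothLift.subsingleton_HH_homMod (Omega.conormal ι₀)
      (Groth.L14.Conormal.isFinLocFree_conormal_of_regular ι₀ hι₀) 0 _ hN
  have hbase : Groth.L11.EmbLift.Level a ι₀ π 0 (ι₀ ≫ a).ker := fun W hW _ => by
    rw [← Groth.L11.EmbLift.ker_red a ι₀ hW]
    have hle : Ideal.span {Groth.L11.EmbLift.piW π W} ≤ RingHom.ker (Groth.L11.EmbLift.red a ι₀ W) := by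
      rw [← hπ W hW]
      intro f hf
      show ι₀.app _ (a.app W f) = 0
      rw [show a.app W f = 0 from hf, map_zero]
    exact ⟨hle (by rw [zero_add, pow_one]; exact Ideal.mem_span_singleton_self _), sup_eq_left.2 hle,
      fun b _ => by rw [pow_zero, Ideal.span_singleton_one, sup_top_eq]; trivial⟩
  choose next hnext hover using fun (n : ℕ) (J : {J // Groth.L11.EmbLift.Level a ι₀ π n J}) =>
    Groth.L11.EmbLift.exists_next hπ hι₀ hπr h1 J.2
  let Js : ∀ n, {J // Groth.L11.EmbLift.Level a ι₀ π n J} :=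
    fun n => Nat.rec ⟨_, hbase⟩ (fun n J => ⟨next n J, hnext n J⟩) n
  let W : {W : P.Opens // Groth.L11.EmbLift.Chart a ι₀ π W} → P.affineOpens :=
    fun c => ⟨c.1, c.2.1⟩
  have cov : ∀ z : P, ∃ c, z ∈ (W c).1 := fun z => by
    obtain ⟨V, hV, hz⟩ := Groth.L11.EmbLift.exists_chart a ι₀ π hι₀ hπ z
    exact ⟨⟨V, hV⟩, hz⟩
  obtain ⟨Y, hflat, hY⟩ := Groth.L11.EmbLift.exists_algebraization q (fun n => (Js n).1) W cov hx
    (fun n c => ((Js n).2 _ c.2.1 c.2.sm).pow_mem) (fun n c => ((Js n).2 _ c.2.1 c.2.sm).flat)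
    (fun n c => hover n (Js n) _ c.2.1 c.2.sm)
  have hPi : (Scheme.Hom.ker (CohB1.specQuot (IsLocalRing.maximalIdeal R) 0)).comap q = a.ker :=
    Groth.L11.EmbLift.ext_of_affine_cover W cov fun c => by
      refine (Groth.L11.EmbLift.comap_ker_ideal q _ Ideal.Quotient.mk_surjective
        (Groth.L11.EmbLift.ker_mk_pow hx 0) (W c).2).trans ?_
      rw [Scheme.Hom.ker_apply, hπ _ (W c).2, Groth.L11.EmbLift.piW_glob_pow, zero_add, pow_one]
  have h0 : (ι₀ ≫ a).ker = Y ⊔ a.ker := hPi ▸ hY 0
  have hle : Y.subschemeι.ker ≤ (ι₀ ≫ a).ker := by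
    rw [Scheme.IdealSheafData.ker_subschemeι, h0]
    exact le_sup_left
  refine ⟨Y.subscheme, Y.subschemeι, IsClosedImmersion.lift Y.subschemeι (ι₀ ≫ a) hle, inferInstance, hflat, ?_⟩
  refine (isPullback_of_isClosedImmersion ι₀ Y.subschemeι _ a (IsClosedImmersion.lift_fac _ _ _).symm ?_).flip
  rw [Scheme.IdealSheafData.ker_subschemeι, ← Groth.L11.EmbLift.ker_comp_comap_mono ι₀ a, h0,
    Scheme.IdealSheafData.comap_sup, Groth.L11.EmbLift.comap_ker_self, sup_bot_eq]

/-- Let R be a complete discrete valuation ring of characteristic zero whose residue field k is perfect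
of characteristic p > 0; write Pʳ_k for the closed fibre Pʳ_R ×_R k. Let ι₀ : X₀ → Pʳ_k be a regular
closed immersion (X₀ is a local complete intersection in Pʳ_k) with H¹(X₀, N) = 0 for the normal
sheaf N = Hom(I/I², O_{X₀}), written as Ext¹(I/I², O_{X₀}) = 0 for the conormal sheaf I/I² (the same
group, I/I² being locally free). Then X₀ lifts to R as a subscheme of Pʳ: there is a closed
subscheme X of Pʳ_R, flat over R, with X ×_{Pʳ_R} Pʳ_k = X₀. (The published statement allows any
locally unobstructed X₀, for instance locally Cohen–Macaulay of codimension two; this row states the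
local complete intersection case.) -/
theorem result (R : Type u) [CommRing R] [IsDomain R]
    [IsDiscreteValuationRing R] [IsAdicComplete (IsLocalRing.maximalIdeal R) R] [CharZero R]
    [PerfectField (IsLocalRing.ResidueField R)] (p : ℕ) [Fact p.Prime] [CharP (IsLocalRing.ResidueField R) p]
    (r : ℕ) (X₀ : Scheme.{u})
    (ι₀ : X₀ ⟶ pullback (CohB1.ProjSpace.toSpec r R) (Spec.map (CommRingCat.ofHom (IsLocalRing.residue R))))
    (hι₀ : Mor2.IsRegularClosedImmersion ι₀) [HasExt.{u} X₀.Modules]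
    (hN : Subsingleton (Abelian.Ext.{u} (Omega.conormal ι₀) (Coh.structureModule X₀) 1)) :
    ∃ (X : Scheme.{u}) (j : X ⟶ CohB1.ProjSpace r R) (i : X₀ ⟶ X), IsClosedImmersion j ∧
      Flat (j ≫ CohB1.ProjSpace.toSpec r R) ∧
      IsPullback i ι₀ j (pullback.fst (CohB1.ProjSpace.toSpec r R)
        (Spec.map (CommRingCat.ofHom (IsLocalRing.residue R)))) := by
  exact exists_lift _ X₀ ι₀ hι₀ hN

end Groth.Agent.S11475
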