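import Groth.Statements.S11479
import Groth.Agent.L12.StabLimit
import Groth.Agent.L07.SyntKoszul
import Mathlib.AlgebraicGeometry.AlgClosed.Basic

set_option autoImplicit false
universe u
open CategoryTheory CategoryTheory.Limits AlgebraicGeometry
open Curves

open TopologicalSpace

namespace Groth.Agent.S11479

/-- Let X be a nonsingular projective curve over an algebraically closed field k (smooth, proper,
integral, of dimension one), T a nonsingular integral curve over k and t₀ a k-point of T. Let E and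
E' be locally free sheaves of rank r on X ×_k T, and for a k-point t of T write E_t for the pullback
of E along the fibre inclusion X → X ×_k T at t. Suppose E_t ≅ E'_t for every k-point t ≠ t₀, and
that E_{t₀} and E'_{t₀} are both stable: every locally free subsheaf G of rank s, 0 < s < r,
satisfies deg G / s < deg / r (written cross-multiplied, degrees computed as χ(G) − s·χ(O_X)). Then
E_{t₀} ≅ E'_{t₀} (existence of an isomorphism). -/
theorem result (k : Type u) [Field k] [IsAlgClosed k] (X : Scheme.{u})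
    [X.Over (Spec (CommRingCat.of k))] (hX : Curve.IsSmoothProperCurve k X (X ↘ Spec (CommRingCat.of k)))
    (T : Scheme.{u}) [T.Over (Spec (CommRingCat.of k))] [IsIntegral T] [Smooth (T ↘ Spec (CommRingCat.of k))]
    (hT : topologicalKrullDim T = 1) (t₀ : Spec (CommRingCat.of k) ⟶ T) (ht₀ : t₀ ≫ (T ↘ Spec (CommRingCat.of k)) = 𝟙 _)
    (r : ℕ) (E E' : (pullback (X ↘ Spec (CommRingCat.of k)) (T ↘ Spec (CommRingCat.of k))).Modules)
    (hE : FlatMod.IsFinLocFreeOfRank r E) (hE' : FlatMod.IsFinLocFreeOfRank r E')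
    (hiso : ∀ (t : Spec (CommRingCat.of k) ⟶ T) (j : X ⟶ pullback (X ↘ Spec (CommRingCat.of k)) (T ↘ Spec (CommRingCat.of k))),
      t ≫ (T ↘ Spec (CommRingCat.of k)) = 𝟙 _ → t ≠ t₀ → j ≫ pullback.fst _ _ = 𝟙 X →
      j ≫ pullback.snd _ _ = (X ↘ Spec (CommRingCat.of k)) ≫ t →
      Nonempty ((Scheme.Modules.pullback j).obj E ≅ (Scheme.Modules.pullback j).obj E'))
    (j₀ : X ⟶ pullback (X ↘ Spec (CommRingCat.of k)) (T ↘ Spec (CommRingCat.of k)))
    (hj₀ : j₀ ≫ pullback.fst _ _ = 𝟙 X) (hj₀' : j₀ ≫ pullback.snd _ _ = (X ↘ Spec (CommRingCat.of k)) ≫ t₀)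
    (hst : (∀ (G : X.Modules) (s : ℕ) (ι : G ⟶ ((Scheme.Modules.pullback j₀).obj E)), Mono ι →
        FlatMod.IsFinLocFreeOfRank s G → 0 < s → s < r → Curv2.deg k X G s * (r : ℤ) < Curv2.deg k X ((Scheme.Modules.pullback j₀).obj E) r * (s : ℤ)))
    (hst' : (∀ (G : X.Modules) (s : ℕ) (ι : G ⟶ ((Scheme.Modules.pullback j₀).obj E')), Mono ι →
        FlatMod.IsFinLocFreeOfRank s G → 0 < s → s < r → Curv2.deg k X G s * (r : ℤ) < Curv2.deg k X ((Scheme.Modules.pullback j₀).obj E') r * (s : ℤ))) :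
    Nonempty ((Scheme.Modules.pullback j₀).obj E ≅ (Scheme.Modules.pullback j₀).obj E') := by
  obtain ⟨hXp, hXs, hXi, hXd⟩ := hX
  haveI := hXp
  haveI := hXs
  haveI := hXi
  haveI := Groth.L21.RR.isNoetherian_of_proper (X := X) k
  haveI : IsLocallyNoetherian T := LocallyOfFiniteType.isLocallyNoetherian (T ↘ Spec (CommRingCat.of k))
  haveI : JacobsonSpace ↥T := LocallyOfFiniteType.jacobsonSpace (T ↘ Spec (CommRingCat.of k))
  let f := pullback.snd (X ↘ Spec (CommRingCat.of k)) (T ↘ Spec (CommRingCat.of k))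
  haveI : IsProper f := inferInstanceAs (IsProper (pullback.snd _ _))
  haveI : Smooth f := inferInstanceAs (Smooth (pullback.snd _ _))
  haveI : Flat f := inferInstance
  have hsq : ∀ (t : Spec (CommRingCat.of k) ⟶ T) (j : X ⟶ pullback (X ↘ Spec (CommRingCat.of k)) (T ↘ Spec (CommRingCat.of k))),
      t ≫ (T ↘ Spec (CommRingCat.of k)) = 𝟙 _ → j ≫ pullback.fst _ _ = 𝟙 X →
      j ≫ pullback.snd _ _ = (X ↘ Spec (CommRingCat.of k)) ≫ t →
      IsPullback j (X ↘ Spec (CommRingCat.of k)) f t := by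
    intro t j ht h1 h2
    refine IsPullback.of_right ?_ h2 (IsPullback.of_hasPullback (X ↘ Spec (CommRingCat.of k)) (T ↘ Spec (CommRingCat.of k)))
    rw [h1, ht]
    exact IsPullback.of_horiz_isIso ⟨by simp⟩
  let d0 := t₀.base (IsLocalRing.closedPoint k)
  have hd0c : IsClosed ({d0} : Set T) :=
    ((pointEquivClosedPoint (T ↘ Spec (CommRingCat.of k))) ⟨t₀, ht₀⟩).2
  have hd0η : d0 ≠ genericPoint T := by
    intro h
    haveI : Subsingleton ↥T := ⟨fun a b => by
      have hu : (Set.univ : Set T) ⊆ {genericPoint T} := by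
        rw [← (genericPoint_spec T).def, ← h, hd0c.closure_eq]
      rw [Set.mem_singleton_iff.1 (hu (Set.mem_univ a)), Set.mem_singleton_iff.1 (hu (Set.mem_univ b))]⟩
    haveI : Subsingleton (TopologicalSpace.IrreducibleCloseds ↥T) := ⟨fun A B => TopologicalSpace.IrreducibleCloseds.ext (by
      obtain ⟨a, ha⟩ := A.isIrreducible.nonempty
      obtain ⟨b, hb⟩ := B.isIrreducible.nonempty
      ext z
      exact ⟨fun _ => Subsingleton.elim b z ▸ hb, fun _ => Subsingleton.elim a z ▸ ha⟩)⟩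
    have h0 : topologicalKrullDim ↥T ≤ 0 := Order.krullDim_nonpos_of_subsingleton
    rw [hT] at h0
    exact absurd h0 (by decide)
  obtain ⟨_, ⟨V, hV, rfl⟩, hd0V, -⟩ :=
    T.isBasis_affineOpens.exists_subset_of_mem_open (Set.mem_univ d0) isOpen_univ
  let D : Set T := ((V : Set T) ∩ {d0}ᶜ) ∩ closedPoints T
  have hW : IsOpen ((V : Set T) ∩ {d0}ᶜ) := V.2.inter hd0c.isOpen_compl
  have hηW : genericPoint T ∈ (V : Set T) ∩ {d0}ᶜ :=
    ⟨((genericPoint_spec T).mem_open_set_iff V.2).2 ⟨d0, trivial, hd0V⟩, fun h => hd0η h.symm⟩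
  have hDη : genericPoint T ∈ closure D := by
    rw [JacobsonSpace.closure_inter_closedPoints_eq_closure hW.isLocallyClosed]
    exact subset_closure hηW
  have hfib : ∀ d ∈ D, ∃ (t : Spec (CommRingCat.of k) ⟶ T) (j : X ⟶ pullback (X ↘ Spec (CommRingCat.of k)) (T ↘ Spec (CommRingCat.of k))),
      t (IsLocalRing.closedPoint k) = d ∧ IsPullback j (X ↘ Spec (CommRingCat.of k)) f t ∧
      Nonempty ((Scheme.Modules.pullback j).obj E ≅ (Scheme.Modules.pullback j).obj E') := by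
    rintro d ⟨⟨-, hd⟩, hdc⟩
    let t := pointOfClosedPoint (T ↘ Spec (CommRingCat.of k)) d hdc
    have ht : t ≫ (T ↘ Spec (CommRingCat.of k)) = 𝟙 _ := pointOfClosedPoint_comp _ _ _
    let j : X ⟶ pullback (X ↘ Spec (CommRingCat.of k)) (T ↘ Spec (CommRingCat.of k)) :=
      pullback.lift (𝟙 X) ((X ↘ Spec (CommRingCat.of k)) ≫ t) (by rw [Category.id_comp, Category.assoc, ht, Category.comp_id])
    have h1 : j ≫ pullback.fst _ _ = 𝟙 X := pullback.lift_fst _ _ _
    have h2 : j ≫ pullback.snd _ _ = (X ↘ Spec (CommRingCat.of k)) ≫ t := pullback.lift_snd _ _ _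
    refine ⟨t, j, pointOfClosedPoint_apply _ _ _ _, hsq t j ht h1 h2, hiso t j ht ?_ h1 h2⟩
    intro e
    exact hd ((pointOfClosedPoint_apply (T ↘ Spec (CommRingCat.of k)) d hdc (IsLocalRing.closedPoint k)).symm.trans
      (congrArg (fun s : Spec (CommRingCat.of k) ⟶ T => s (IsLocalRing.closedPoint k)) e))
  have sq₀ := hsq t₀ j₀ ht₀ hj₀ hj₀'
  have hEf := Groth.L22.CurveDeg.isFinLocFree_of_rank hE
  have hE'f := Groth.L22.CurveDeg.isFinLocFree_of_rank hE'
  have hE0 := Groth.L12.StabLimit.isFinLocFreeOfRank_pullback j₀ hE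
  have hE0' := Groth.L12.StabLimit.isFinLocFreeOfRank_pullback j₀ hE'
  rcases Nat.eq_zero_or_pos r with hr | hr
  · subst hr
    exact ⟨(Groth.L12.StabLimit.isZero_of_rank_zero hE0).iso (Groth.L12.StabLimit.isZero_of_rank_zero hE0')⟩
  haveI : Nonempty ↥X := inferInstance
  obtain ⟨φ, hφ⟩ := Groth.L12.StabLimit.exists_hom_limit f hV ⟨d0, hd0V⟩ hEf hE'f sq₀ hd0V D
    (fun d hd => hd.1.1) hDη (fun d hd => by
      obtain ⟨t, j, h1, h2, ⟨i⟩⟩ := hfib d hd
      refine ⟨t, j, h1, h2, i.hom, fun h0 => ?_⟩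
      refine Groth.L12.StabLimit.not_isZero_of_rank_pos hr (Groth.L12.StabLimit.isFinLocFreeOfRank_pullback j hE) ?_
      rw [IsZero.iff_id_eq_zero, ← i.hom_inv_id, h0, zero_comp])
  obtain ⟨d, hd⟩ : D.Nonempty := by
    by_contra hne
    rw [Set.not_nonempty_iff_eq_empty.1 hne, closure_empty] at hDη
    exact hDη
  obtain ⟨t, j, h1, sq, ⟨i⟩⟩ := hfib d hd
  have htV : t (IsLocalRing.closedPoint k) ∈ V := h1 ▸ hd.1.1
  have hμ : Curv2.deg k X ((Scheme.Modules.pullback j₀).obj E) r = Curv2.deg k X ((Scheme.Modules.pullback j₀).obj E') r := by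
    unfold Curv2.deg
    rw [Groth.L12.StabLimit.euler_fibre_eq f hV ⟨d0, hd0V⟩ hEf sq₀ sq hd0V htV,
      Groth.L12.StabLimit.euler_fibre_eq f hV ⟨d0, hd0V⟩ hE'f sq₀ sq hd0V htV,
      Groth.L21.RR.euler_congr k i]
  have hreg : ∀ x : X, IsRegularLocalRing (X.presheaf.stalk x) := fun x =>
    Groth.L07.SyntKoszul.isRegularLocalRing_of_smooth (X ↘ Spec (CommRingCat.of k)) x
  have hsE : ModFun.IsSlopeStable k X ((Scheme.Modules.pullback j₀).obj E) r :=
    fun G s ι hι h1 h2 hG => hst G s ι hι hG h1 h2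
  have hsE' : ModFun.IsSlopeStable k X ((Scheme.Modules.pullback j₀).obj E') r :=
    fun G s ι hι h1 h2 hG => hst' G s ι hι hG h1 h2
  haveI := Groth.L21.Bundle.isIso_of_eq_slope k hreg hXd.le hE0 hE0'
    (Groth.L21.Bundle.isSlopeSemistable_of_stable k hreg hXd.le hE0 hsE)
    (Groth.L21.Bundle.isSlopeSemistable_of_stable k hreg hXd.le hE0' hsE')
    (by rw [hμ]) (Or.inl ⟨rfl, Or.inl hsE⟩) φ hφ
  exact ⟨asIso φ⟩

end Groth.Agent.S11479
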