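import Groth.Statements.S1148
import Mathlib.RingTheory.Ideal.GoingDown
import Mathlib.RingTheory.LocalRing.ResidueField.Fiber
import Mathlib.RingTheory.Spectrum.Prime.Topology
import Mathlib.RingTheory.FinitePresentation
import Mathlib.RingTheory.FiniteStability
import Mathlib.RingTheory.Ideal.MinimalPrime.Noetherian

set_option autoImplicit false
universe u
open Desc

namespace Groth.Agent.S1148

/-- Affine form (finiteness of irreducible components of quasi-compact opens is fppf local; this is the
ascent direction for a morphism of affine schemes). Let A → B be a flat ring map of finite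
presentation. If Spec A has finitely many irreducible components, then so does Spec B. -/
theorem result (A B : Type u) [CommRing A] [CommRing B] [Algebra A B]
    [Module.Flat A B] [Algebra.FinitePresentation A B] (h : (irreducibleComponents (PrimeSpectrum A)).Finite) :
    (irreducibleComponents (PrimeSpectrum B)).Finite := by
  have hA : (minimalPrimes A).Finite := by
    rw [← PrimeSpectrum.vanishingIdeal_irreducibleComponents]
    exact h.image _
  suffices hB : (minimalPrimes B).Finite by
    rw [← PrimeSpectrum.zeroLocus_minimalPrimes]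
    exact hB.image _
  have hmin : ∀ Q ∈ minimalPrimes B, Q.under A ∈ minimalPrimes A := by
    intro Q hQ
    haveI := hQ.1.1
    refine ⟨⟨inferInstance, bot_le⟩, fun q hq hqQ => ?_⟩
    haveI := hq.1
    haveI : Q.LiesOver (Q.under A) := Q.over_under
    obtain ⟨P, hPQ, hP, hPq⟩ := Q.exists_ideal_le_liesOver_of_le (p := q) (q := Q.under A) hqQ
    have hPeq : P = Q := le_antisymm hPQ (hQ.2 ⟨hP, bot_le⟩ hPQ)
    rw [hPeq] at hPq
    exact (hPq.over).ge
  refine (Set.Finite.biUnion hA (t := fun p => {Q | Q ∈ minimalPrimes B ∧ Q.under A = p}) fun p hp => ?_).subset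
    (fun Q hQ => Set.mem_biUnion (hmin Q hQ) ⟨hQ, rfl⟩)
  haveI := hp.1.1
  haveI : IsNoetherianRing (p.Fiber B) :=
    haveI : Algebra.FiniteType A B := inferInstance
    haveI : Algebra.FiniteType p.ResidueField (p.Fiber B) := Algebra.FiniteType.baseChange (R := A) (A := B) p.ResidueField
    Algebra.FiniteType.isNoetherianRing p.ResidueField (p.Fiber B)
  let e := PrimeSpectrum.primesOverOrderIsoFiber A B p
  have hfin : {x : PrimeSpectrum (p.Fiber B) | x.asIdeal ∈ minimalPrimes (p.Fiber B)}.Finite :=
    (minimalPrimes.finite_of_isNoetherianRing (p.Fiber B)).preimage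
      (fun a _ b _ hab => PrimeSpectrum.ext hab)
  refine ((hfin.image e.symm).image Subtype.val).subset ?_
  rintro Q ⟨hQ, hQp⟩
  haveI := hQ.1.1
  let x : p.primesOver B := ⟨Q, hQ.1.1, ⟨hQp.symm⟩⟩
  refine ⟨x, ⟨e x, ?_, e.symm_apply_apply x⟩, rfl⟩
  refine ⟨⟨(e x).2, bot_le⟩, fun J hJ hJx => ?_⟩
  let y : PrimeSpectrum (p.Fiber B) := ⟨J, hJ.1⟩
  have hyx : e.symm y ≤ x := by
    rw [← e.symm_apply_apply x]
    exact e.symm.monotone hJx
  have hxy : x ≤ e.symm y := hQ.2 ⟨(e.symm y).2.1, bot_le⟩ hyx
  have := e.monotone hxy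
  rw [e.apply_symm_apply] at this
  exact this


end Groth.Agent.S1148
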