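import Groth.Statements.S11482
import Groth.Agent.L21.Bundle.RankTwoExt

set_option autoImplicit false
set_option backward.isDefEq.respectTransparency false
universe u
open CategoryTheory CategoryTheory.Limits AlgebraicGeometry
open Curves

namespace Groth.Agent.S11482

/-- Fix an algebraically closed field k and a nonsingular projective curve X over k of genus g (smooth,
proper, integral, of dimension one, g = dim H¹(X, O_X)) and E a locally free sheaf of rank 2 and
degree d (degree = χ(E) − 2χ(O_X)) that is indecomposable: in any decomposition E ≅ E₁ ⊕ E₂ one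
summand is zero. Then (a) every invertible subsheaf L ⊆ E has 2·deg L ≤ d + 2g − 2, and (b) there is
an invertible subsheaf L ⊆ E with d − 2g ≤ 2·deg L. (The published statement is that indecomposable
bundles of fixed rank and degree form a bounded family; this row states, in rank two, the degree
bounds for invertible subsheaves on which its proof rests.) -/
theorem result (k : Type u) [Field k] [IsAlgClosed k]
    (X : Scheme.{u}) [X.Over (Spec (CommRingCat.of k))] (hX : Curve.IsSmoothProperCurve k X (X ↘ Spec (CommRingCat.of k)))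
    (E : X.Modules) (hE : FlatMod.IsFinLocFreeOfRank 2 E)
    (hind : ∀ (E₁ E₂ : X.Modules), Nonempty (E ≅ E₁ ⊞ E₂) → IsZero E₁ ∨ IsZero E₂) :
    (∀ (L : X.Modules) (ι : L ⟶ E), PicF.IsInvertible L → Mono ι →
        2 * Curv2.deg k X L 1 ≤ Curv2.deg k X E 2 + 2 * (Curv2.genus k X : ℤ) - 2) ∧
      ∃ (L : X.Modules) (ι : L ⟶ E), PicF.IsInvertible L ∧ Mono ι ∧
        Curv2.deg k X E 2 - 2 * (Curv2.genus k X : ℤ) ≤ 2 * Curv2.deg k X L 1 := by
  obtain ⟨hp, hs, hint, hdim⟩ := hX
  haveI := hp
  haveI := hs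
  haveI := hint
  haveI := Groth.L21.RR.isNoetherian_of_proper (X := X) k
  have h0 : Groth.L21.RR.h k 0 (Coh.structureModule X) = 1 := Groth.L21.RR.h0_eq_one_of_isAlgClosed k
  refine ⟨fun L ι hL hι => ?_, ?_⟩
  · haveI := hι
    rw [Groth.L21.Bundle.dg_eq k hE, Groth.L21.Bundle.dg_eq k (Groth.L21.Bundle.locFree_one hL)]
    exact Groth.L21.Bundle.two_mul_dg_le k hdim h0 hE hind ι (Groth.L21.Bundle.locFree_one hL)
  obtain ⟨L, hL, hdL⟩ := Groth.L21.Bundle.exists_invertible_deg (X := X) k hdim
    ((Curv2.deg k X E 2 - 2 * (Curv2.genus k X : ℤ) + 1) / 2)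
  have hL1 := Groth.L21.Bundle.locFree_one hL
  have hlo : Curv2.deg k X E 2 - 2 * (Curv2.genus k X : ℤ) ≤ 2 * Curv2.deg k X L 1 := by omega
  obtain ⟨φ, hφ⟩ := Groth.L21.Bundle.exists_hom_ne_zero k hdim h0 hE hL1 (by
    rw [← Groth.L21.Bundle.dg_eq k hE, ← Groth.L21.Bundle.dg_eq k hL1]
    push_cast
    omega)
  exact ⟨L, φ, hL, Groth.L21.Bundle.mono_of_line k hdim hL1 hE φ hφ, hlo⟩

end Groth.Agent.S11482
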