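import Groth.Statements.S11485
import Groth.Agent.L03.ShStab.ExtTwistPn

set_option autoImplicit false
universe u
open VBPn

namespace Groth.Agent.S11485

open CategoryTheory CategoryTheory.Limits AlgebraicGeometry in
/-- Let k be an algebraically closed field of characteristic zero and n ≥ 2. If 0 → L → E → M → 0 is a
short exact sequence of O-modules on P^n_k with L and M finite locally free of rank 1 (so E is a
rank-2 vector bundle with the proper subbundle L), then E ≅ O(a) ⊕ O(b) for some integers a, b: a
rank-2 vector bundle on P^n_k, n ≥ 2, which does not split has no proper subbundle. -/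
theorem result (k : Type u) [Field k] [IsAlgClosed k]
    [CharZero k] (n : ℕ) (hn : 2 ≤ n) (S : ShortComplex (CohB1.ProjSpace n k).Modules) (hS : S.ShortExact)
    (h₁ : FlatMod.IsFinLocFreeOfRank 1 S.X₁) (h₃ : FlatMod.IsFinLocFreeOfRank 1 S.X₃) :
    ∃ a b : ℤ, Nonempty (S.X₂ ≅ Twist.twistProjSpace n k a ⊞ Twist.twistProjSpace n k b) := by
  exact Groth.L03.ShStab.ExtTwistPn.exists_iso_biprod hn hS h₁ h₃

end Groth.Agent.S11485
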