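import Groth.Statements.S11486
import Groth.Agent.L22.PDual.Horrocks
import Groth.Agent.L22.PDual.LocFreeLow
import Groth.Agent.L16.NegPow.Gen
-- import your own Groth.Agent.* helpers here

set_option autoImplicit false
universe u
open VBPn

namespace Groth.Agent.S11486

open CategoryTheory CategoryTheory.Limits AlgebraicGeometry in
/-- Let k be a characteristic-zero algebraically closed field and E a finite locally free O-module of
rank r on P^n_k. Then E splits as a direct sum of twisting sheaves O(a_1) ⊕ ⋯ ⊕ O(a_r) if and only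
if H^i(P^n_k, E ⊗ O(d)) = 0 for every 0 < i < n and every integer d. -/
theorem result (k : Type u) [Field k] [IsAlgClosed k] [CharZero k]
    (n r : ℕ) (E : (CohB1.ProjSpace n k).Modules) (hE : FlatMod.IsFinLocFreeOfRank r E) :
    (∃ a : Fin r → ℤ, Nonempty (E ≅ ∐ fun j : Fin r => Twist.twistProjSpace n k (a j))) ↔
      ∀ (i : ℕ) (d : ℤ), 0 < i → i < n →
        Subsingleton (Coh.HH (CohB1.ProjSpace n k) (CohB1.tensorMod E (Twist.twistProjSpace n k d)) i) := by
  have hcoh := Groth.L16.NegPow.isCoh_of_isFinLocFree (Groth.L22.CurveDeg.isFinLocFree_of_rank hE)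
  constructor
  · rintro ⟨a, ⟨e⟩⟩ i d hi hin
    exact Groth.L22.PDual.subsingleton_sigma_mid a e d fun j => ⟨fun h => by omega, fun h => by omega⟩
  · intro h
    have hlow : n = 0 ∨ ∃ b : ℤ, ∀ t : ℤ, t ≤ b →
        Subsingleton (Coh.HH (CohB1.ProjSpace n k) (CohB1.tensorMod E (Twist.twistProjSpace n k t)) 0) :=
      (Nat.eq_zero_or_pos n).imp id fun hn => Groth.L22.PDual.exists_low_locFree hn
        (Groth.L22.CurveDeg.isFinLocFree_of_rank hE)
    obtain ⟨r', a, he, hlen⟩ := Groth.L22.PDual.split hcoh hlow fun t i h1 h2 => h i t h1 h2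
    obtain rfl : r' = r := by exact_mod_cast hlen.symm.trans (Groth.L22.PDual.len_eq_of_rank hE)
    exact ⟨a, he⟩

end Groth.Agent.S11486
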