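import Groth.Statements.S11487
import Groth.Agent.L03.VBPn.Line
-- import your own Groth.Agent.* helpers here

set_option autoImplicit false
universe u
open VBPn

namespace Groth.Agent.S11487

open CategoryTheory CategoryTheory.Limits AlgebraicGeometry
open Groth.L22.Reg (O' tw')
set_option backward.isDefEq.respectTransparency false
set_option linter.style.haveILetI false

open CategoryTheory CategoryTheory.Limits AlgebraicGeometry in
/-- Let k be an algebraically closed field of characteristic zero, n ≥ 2, E a finite locally free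
O-module of rank r on P^n_k, and i : P^2_k → P^n_k a closed immersion of k-schemes along which O(1)
pulls back to O(1) (the embedding of a plane). If i^*E ≅ O(a_1) ⊕ ⋯ ⊕ O(a_r) on P^2_k for some
integers a_j, then E ≅ O(b_1) ⊕ ⋯ ⊕ O(b_r) on P^n_k for some integers b_j. The published statement
is an equivalence; this row states the direction from the plane to P^n_k, the converse being
immediate. -/
theorem result (k : Type u) [Field k] [IsAlgClosed k] [CharZero k]
    (n r : ℕ) (hn : 2 ≤ n) (E : (CohB1.ProjSpace n k).Modules) (hE : FlatMod.IsFinLocFreeOfRank r E)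
    (i : CohB1.ProjSpace 2 k ⟶ CohB1.ProjSpace n k) [IsClosedImmersion i]
    (hi : i ≫ CohB1.ProjSpace.toSpec n k = CohB1.ProjSpace.toSpec 2 k)
    (hO : Nonempty ((Scheme.Modules.pullback i).obj (Twist.twistProjSpace n k 1) ≅ Twist.twistProjSpace 2 k 1))
    (hsplit : ∃ a : Fin r → ℤ,
      Nonempty ((Scheme.Modules.pullback i).obj E ≅ ∐ fun j : Fin r => Twist.twistProjSpace 2 k (a j))) :
    ∃ b : Fin r → ℤ, Nonempty (E ≅ ∐ fun j : Fin r => Twist.twistProjSpace n k (b j)) := by
  have hEf := Groth.L22.CurveDeg.isFinLocFree_of_rank hE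
  obtain ⟨a, ⟨e⟩⟩ := hsplit
  have hmid := Groth.L03.VBPn.subsingleton_mid_of_plane n i hi hO E hEf fun t =>
    Groth.L22.PDual.subsingleton_sigma_mid (n := 2) a e t fun _ => ⟨fun h => by omega, fun h => by omega⟩
  obtain ⟨r', b, he, hlen⟩ := Groth.L22.PDual.split (Groth.L16.NegPow.isCoh_of_isFinLocFree hEf)
    (Or.inr (Groth.L22.PDual.exists_low_locFree (by omega) hEf)) fun t q h1 h2 => hmid t q h1 h2
  obtain rfl : r' = r := by exact_mod_cast hlen.symm.trans (Groth.L22.PDual.len_eq_of_rank hE)
  exact ⟨b, he⟩

end Groth.Agent.S11487
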