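import Groth.Statements.S11488
import Groth.Agent.L03.VBPn.Lines.Main
import Groth.Agent.L16.ProjSpace.Basic
-- import your own Groth.Agent.* helpers here

set_option autoImplicit false
universe u
open VBPn

namespace Groth.Agent.S11488

open CategoryTheory CategoryTheory.Limits AlgebraicGeometry in
/-- Let k be an algebraically closed field of characteristic zero, E a finite locally free O-module of
rank r on P^n_k and x a closed point of P^n_k. If i^*E ≅ O^r for every line through x, that is for
every closed immersion of k-schemes i : P^1_k → P^n_k along which O(1) pulls back to O(1) and whose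
image contains x, then E ≅ O^r. -/
theorem result (k : Type u) [Field k] [IsAlgClosed k] [CharZero k]
    (n r : ℕ) (E : (CohB1.ProjSpace n k).Modules) (hE : FlatMod.IsFinLocFreeOfRank r E) (x : ↥(CohB1.ProjSpace n k))
    (hx : IsClosed ({x} : Set ↥(CohB1.ProjSpace n k)))
    (h : ∀ (i : CohB1.ProjSpace 1 k ⟶ CohB1.ProjSpace n k) [IsClosedImmersion i],
      i ≫ CohB1.ProjSpace.toSpec n k = CohB1.ProjSpace.toSpec 1 k →
      Nonempty ((Scheme.Modules.pullback i).obj (Twist.twistProjSpace n k 1) ≅ Twist.twistProjSpace 1 k 1) →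
      x ∈ Set.range i.base →
      Nonempty ((Scheme.Modules.pullback i).obj E ≅ FlatMod.freeMod (CohB1.ProjSpace 1 k) r)) :
    Nonempty (E ≅ FlatMod.freeMod (CohB1.ProjSpace n k) r) := by
  rcases n with _ | _ | n
  · haveI : IsIso (CohB1.ProjSpace.toSpec 0 k) := Groth.L16.ProjSpace.isIso_toSpec_zero k
    haveI : Subsingleton ↥(CohB1.ProjSpace 0 k) :=
      (CohB1.ProjSpace.toSpec 0 k).homeomorph.injective.subsingleton
    have hEf := Groth.L22.CurveDeg.isFinLocFree_of_rank hE
    obtain ⟨r', a, ⟨e⟩, hlen⟩ := Groth.L22.PDual.split (Groth.L16.NegPow.isCoh_of_isFinLocFree hEf) (Or.inl rfl)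
      fun t q h1 h2 => absurd h2 (by omega)
    obtain rfl : r' = r := by exact_mod_cast hlen.symm.trans (Groth.L22.PDual.len_eq_of_rank hE)
    exact ⟨e ≪≫ Sigma.mapIso fun l => (Groth.L03.BlowPt.nonempty_iso_of_subsingleton
      (Groth.L16.ProjTwist.isInvertible_twistProjSpace 0 k (a l))).some⟩
  · obtain ⟨e⟩ := h (𝟙 _) (Category.id_comp _) ⟨(Scheme.Modules.pullbackId _).app _⟩ ⟨x, rfl⟩
    exact ⟨((Scheme.Modules.pullbackId _).app E).symm ≪≫ e⟩
  · exact Groth.L03.VBPn.Lines.nonempty_free (by omega) hE x hx h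

end Groth.Agent.S11488
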