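import Groth.Statements.S11489
import Groth.Agent.L03.ShStab.TrivialGG
import Groth.Agent.L16.ProjSpace.Basic
import Groth.Agent.L16.ProjSpace.Sections

set_option autoImplicit false
universe u
open VBPn

namespace Groth.Agent.S11489

open CategoryTheory CategoryTheory.Limits AlgebraicGeometry in
/-- Let k be a characteristic-zero algebraically closed field and E a finite locally free O-module of
rank r on P^n_k. If E is globally generated (there is an epimorphism O^N → E for some N) and its
first Chern class vanishes, in the sense that an r-th exterior power det E of E is isomorphic to O,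
then E ≅ O^r. -/
theorem result (k : Type u) [Field k] [IsAlgClosed k] [CharZero k]
    (n r : ℕ) (E : (CohB1.ProjSpace n k).Modules) (hE : FlatMod.IsFinLocFreeOfRank r E)
    (hgen : ∃ (N : ℕ) (φ : FlatMod.freeMod (CohB1.ProjSpace n k) N ⟶ E), Epi φ)
    (hdet : ∃ L : (CohB1.ProjSpace n k).Modules, ExtPow.IsExtPow r E L ∧
      Nonempty (L ≅ Coh.structureModule (CohB1.ProjSpace n k))) :
    Nonempty (E ≅ FlatMod.freeMod (CohB1.ProjSpace n k) r) := by
  obtain ⟨N, φ, hφ⟩ := hgen
  obtain ⟨L, hL, ⟨ξ⟩⟩ := hdet
  haveI : IsIntegral (CohB1.ProjSpace n k) := Groth.L16.ProjSpace.isIntegral n k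
  refine Groth.L03.ShStab.TrivialGG.nonempty_iso (fun a ha => ?_) hE φ hL ξ
  obtain ⟨c, hc⟩ := (Groth.L16.ProjSpace.toGlobal_bijective (n := n) (R := k)).2 a
  have hc0 : IsUnit c := isUnit_iff_ne_zero.2 fun h => ha (by rw [← hc, h]; exact map_zero _)
  exact hc ▸ hc0.map (Coh.toGlobal (CohB1.ProjSpace.toSpec n k))

end Groth.Agent.S11489
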