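import Groth.Statements.S11493
import Mathlib.Algebra.Category.ModuleCat.Projective
import Mathlib.CategoryTheory.Abelian.Projective.Dimension
import Mathlib.Algebra.Homology.DerivedCategory.Ext.ExactSequences
import Mathlib.Algebra.Homology.DerivedCategory.Ext.EnoughProjectives
import Mathlib.RingTheory.LocalRing.Module
import Mathlib.Algebra.Homology.ShortComplex.ModuleCat
import Mathlib.RingTheory.Finiteness.Projective

set_option autoImplicit false
universe u
open CategoryTheory
open VBPn

namespace Groth.Agent.S11493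

/-- Let A be a Noetherian local ring and I an ideal with a free resolution of length 1, 0 → A^p → A^q →
I → 0 (equivalently: a surjection A^q → I with free kernel). Let 0 → A → M → I → 0 be an extension
with class e ∈ Ext^1(I, A). Then M is free if and only if e generates the A-module Ext^1(I, A); the
A-module structure being through End(A) = A, this says every element of Ext^1(I, A) is the composite
of e with an endomorphism of A. -/
theorem result (A : Type u) [CommRing A] [IsNoetherianRing A] [IsLocalRing A]
    (I : Ideal A)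
    (hres : ∃ (q : ℕ) (φ : (Fin q → A) →ₗ[A] ↥I), Function.Surjective φ ∧ Module.Free A ↥(LinearMap.ker φ))
    (S : ShortComplex (ModuleCat.{u} A)) (hS : S.ShortExact)
    (h₁ : Nonempty (S.X₁ ≅ ModuleCat.of A A)) (h₃ : Nonempty (S.X₃ ≅ ModuleCat.of A ↥I)) :
    Module.Free A S.X₂ ↔
      ∀ x : Abelian.Ext S.X₃ S.X₁ 1, ∃ f : S.X₁ ⟶ S.X₁, hS.extClass.comp (Abelian.Ext.mk₀ f) (add_zero 1) = x := by
  classical
  obtain ⟨i₁⟩ := h₁
  obtain ⟨i₃⟩ := h₃
  haveI : Module.Free A S.X₁ := Module.Free.of_equiv i₁.toLinearEquiv.symm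
  haveI : Module.Finite A S.X₁ := Module.Finite.equiv i₁.toLinearEquiv.symm
  haveI : Module.Finite A S.X₃ := Module.Finite.equiv i₃.toLinearEquiv.symm
  haveI : Projective S.X₁ := (IsProjective.iff_projective S.X₁).mp inferInstance
  constructor
  · intro hM x
    haveI : Projective S.X₂ := (IsProjective.iff_projective S.X₂).mp inferInstance
    obtain ⟨y, hy⟩ := Abelian.Ext.contravariant_sequence_exact₃ hS S.X₁ x
      (Abelian.Ext.eq_zero_of_projective _) (add_zero 1)
    obtain ⟨f, rfl⟩ := (Abelian.Ext.mk₀_bijective _ _).2 y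
    exact ⟨f, hy⟩
  · intro hgen
    have hzero : ∀ x : Abelian.Ext S.X₂ S.X₁ 1, x = 0 := by
      intro x
      obtain ⟨x₃, rfl⟩ := Abelian.Ext.contravariant_sequence_exact₂ hS S.X₁ x
        (Abelian.Ext.eq_zero_of_projective _)
      obtain ⟨f, rfl⟩ := hgen x₃
      exact hS.comp_extClass_assoc (Abelian.Ext.mk₀ f) _
    haveI : Module.Finite A S.X₂ := by
      haveI : Module.Finite A (S.X₂ ⧸ LinearMap.range S.f.hom) := Module.Finite.equiv
        ((Submodule.quotEquivOfEq _ _ hS.exact.moduleCat_range_eq_ker).trans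
          (S.g.hom.quotKerEquivOfSurjective ((ModuleCat.epi_iff_surjective _).mp hS.epi_g))).symm
      exact Module.Finite.of_submodule_quotient (LinearMap.range S.f.hom)
    obtain ⟨q, φ, hφ, hφK⟩ := hres
    let SI : ShortComplex (ModuleCat.{u} A) := ShortComplex.mk
      (ModuleCat.ofHom (LinearMap.ker φ).subtype) (ModuleCat.ofHom φ) (by ext x; simp)
    have hSI : SI.ShortExact :=
      { exact := (ShortComplex.moduleCat_exact_iff _).mpr fun x hx => ⟨⟨x, hx⟩, rfl⟩
        mono_f := (ModuleCat.mono_iff_injective _).mpr Subtype.val_injective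
        epi_g := (ModuleCat.epi_iff_surjective _).mpr hφ }
    haveI : Projective SI.X₁ := (IsProjective.iff_projective SI.X₁).mp inferInstance
    haveI : Projective SI.X₂ := (IsProjective.iff_projective SI.X₂).mp inferInstance
    haveI : HasProjectiveDimensionLT SI.X₃ 2 := hSI.hasProjectiveDimensionLT_X₃ 1 inferInstance inferInstance
    have h3 : HasProjectiveDimensionLT S.X₃ 2 := hasProjectiveDimensionLT_of_iso i₃.symm 2
    have h2 : HasProjectiveDimensionLT S.X₂ 2 := hS.hasProjectiveDimensionLT_X₂ 2 inferInstance h3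
    obtain ⟨n, π, hπ⟩ := Module.Finite.exists_fin' A S.X₂
    let T : ShortComplex (ModuleCat.{u} A) := ShortComplex.mk
      (ModuleCat.ofHom (LinearMap.ker π).subtype) (ModuleCat.ofHom π) (by ext x; simp)
    have hT : T.ShortExact :=
      { exact := (ShortComplex.moduleCat_exact_iff _).mpr fun x hx => ⟨⟨x, hx⟩, rfl⟩
        mono_f := (ModuleCat.mono_iff_injective _).mpr Subtype.val_injective
        epi_g := (ModuleCat.epi_iff_surjective _).mpr hπ }
    haveI : Projective T.X₂ := (IsProjective.iff_projective T.X₂).mp inferInstance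
    haveI : HasProjectiveDimensionLT T.X₁ 1 := hT.hasProjectiveDimensionLT_X₁ 1 inferInstance h2
    haveI : Module.Projective A (LinearMap.ker π) := (IsProjective.iff_projective T.X₁).mpr inferInstance
    haveI : Module.Finite A (LinearMap.ker π) := inferInstance
    have hext : ∀ h : LinearMap.ker π →ₗ[A] A, ∃ h' : (Fin n → A) →ₗ[A] A, h'.comp (LinearMap.ker π).subtype = h := by
      intro h
      obtain ⟨x₂, hx₂⟩ := Abelian.Ext.contravariant_sequence_exact₁ hT S.X₁
        (Abelian.Ext.mk₀ (ModuleCat.ofHom h ≫ i₁.inv)) (add_zero 1) (hzero _)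
      obtain ⟨h', rfl⟩ := (Abelian.Ext.mk₀_bijective _ _).2 x₂
      rw [Abelian.Ext.mk₀_comp_mk₀] at hx₂
      refine ⟨(h' ≫ i₁.hom).hom, ?_⟩
      have := congrArg (fun g => g ≫ i₁.hom) ((Abelian.Ext.mk₀_bijective _ _).1 hx₂)
      simp only [Category.assoc, Iso.inv_hom_id, Category.comp_id] at this
      exact congrArg ModuleCat.Hom.hom this
    obtain ⟨m, r, ι, -, -, hrι⟩ := Module.Finite.exists_comp_eq_id_of_projective A (LinearMap.ker π)
    choose h' hh' using fun a : Fin m => hext ((LinearMap.proj a).comp ι)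
    let ρ : (Fin n → A) →ₗ[A] LinearMap.ker π := r.comp (LinearMap.pi h')
    have hρ : ∀ z, ρ ((LinearMap.ker π).subtype z) = z := fun z => by
      have : (fun a => h' a ((LinearMap.ker π).subtype z)) = ι z :=
        funext fun a => LinearMap.congr_fun (hh' a) z
      show r (fun a => h' a ((LinearMap.ker π).subtype z)) = z
      rw [this]; exact LinearMap.congr_fun hrι z
    let σ : S.X₂ →ₗ[A] (Fin n → A) := ((LinearMap.ker π).liftQ (LinearMap.id - (LinearMap.ker π).subtype.comp ρ)
      (fun z hz => by simpa [sub_eq_zero] using (congrArg Subtype.val (hρ ⟨z, hz⟩)).symm)).comp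
      (π.quotKerEquivOfSurjective hπ).symm.toLinearMap
    haveI : Module.Projective A S.X₂ := by
      refine Module.Projective.of_split σ π ?_
      ext x
      obtain ⟨z, rfl⟩ := hπ x
      have hz : (π.quotKerEquivOfSurjective hπ).symm (π z) = Submodule.Quotient.mk z :=
        (LinearEquiv.symm_apply_eq _).mpr rfl
      show π (σ (π z)) = π z
      simp [σ, hz, LinearMap.mem_ker.mp (ρ z).2]
    exact Module.free_of_flat_of_isLocalRing

end Groth.Agent.S11493
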