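import Groth.Statements.S11496
import Groth.Agent.L04.RegularPd
import Groth.Agent.S0564
-- import your own Groth.Agent.* helpers here

set_option autoImplicit false
universe u
open CategoryTheory
open VBPn

namespace Groth.Agent.S11496

/-- Let A be a regular local ring, M a finitely generated A-module and i ≥ 0. The support of Ext^i_A(M,
A) has dimension at most dim A − i: for every prime ideal p of A such that Ext^i over the
localization A_p of M_p into A_p is nonzero (this Ext group is the localization at p of Ext^i_A(M,
A)), one has dim(A/p) + i ≤ dim A. The published statement is for coherent analytic sheaves on an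
n-dimensional complex manifold; this row is stated for any regular local ring. -/
theorem result (A : Type u) [CommRing A] [IsRegularLocalRing A]
    (M : Type u) [AddCommGroup M] [Module A M] [Module.Finite A M] (i : ℕ) (p : Ideal A) [p.IsPrime]
    (h : Nontrivial (Abelian.Ext
      (ModuleCat.of (Localization.AtPrime p) (LocalizedModule p.primeCompl M))
      (ModuleCat.of (Localization.AtPrime p) (Localization.AtPrime p)) i)) :
    ringKrullDim (A ⧸ p) + (i : WithBot ℕ∞) ≤ ringKrullDim A := by
  haveI : IsRegularLocalRing (Localization.AtPrime p) := Groth.Agent.S0564.result A p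
  let Ap := Localization.AtPrime p
  obtain ⟨e, he⟩ : ∃ e : ℕ, ringKrullDim Ap = e := by
    have h1 := ringKrullDim_ne_top (R := Ap)
    have h2 := ringKrullDim_ne_bot (R := Ap)
    revert h1 h2
    generalize ringKrullDim Ap = x
    intro h1 h2
    obtain ⟨y, rfl⟩ := WithBot.ne_bot_iff_exists.1 h2
    have hy : y ≠ ⊤ := fun h => h1 (by rw [h]; rfl)
    obtain ⟨z, rfl⟩ := ENat.ne_top_iff_exists.1 hy
    exact ⟨z, rfl⟩
  have hi : i ≤ e := by
    by_contra hlt
    haveI : HasProjectiveDimensionLE (ModuleCat.of Ap (LocalizedModule p.primeCompl M)) e :=
      Groth.L04.hasProjectiveDimensionLE_of_regularLocal he _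
    haveI := h
    exact not_subsingleton _ (HasProjectiveDimensionLT.subsingleton
      (ModuleCat.of Ap (LocalizedModule p.primeCompl M)) (e + 1) i (by omega) (ModuleCat.of Ap Ap))
  have h3 := IsLocalization.AtPrime.ringKrullDim_eq_height p Ap
  rw [he] at h3
  rw [← Groth.L04.height_add_ringKrullDim_quotient p, ← h3]
  exact add_le_add le_rfl (by exact_mod_cast hi)

end Groth.Agent.S11496
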