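import Groth.Statements.S11497
import Mathlib.Algebra.Homology.DerivedCategory.Ext.ExactSequences
import Mathlib.Algebra.Homology.ShortComplex.Exact
import Mathlib.Algebra.Homology.ShortComplex.Abelian
import Mathlib.Algebra.Homology.ShortComplex.Preadditive

set_option autoImplicit false
universe w v u
open CategoryTheory
open VBPn

open Limits

namespace Groth.Agent.S11497

/-- In an abelian category, let M : A → B → C and M' : A' → B' → C' be monads, i.e. short complexes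
whose first map is a monomorphism and whose second map is an epimorphism, with cohomology (homology)
objects E and E'. Suppose Hom(B, A') = 0, Hom(C, B') = 0 and Ext^1(C, A') = Ext^1(B, A') = Ext^1(C,
B') = Ext^2(C, A') = 0. Then the map sending a morphism of monads M → M' to the induced morphism E →
E' is bijective. The published statement is for monads of vector bundles on a complex manifold X,
with Ext^i(C, A') written H^i(X, C^* ⊗ A'); this row is stated in any abelian category. -/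
theorem result {C : Type u} [Category.{v} C] [Abelian C] [HasExt.{w} C]
    (M M' : ShortComplex C) [Mono M.f] [Epi M.g] [Mono M'.f] [Epi M'.g]
    (hBA : ∀ f : M.X₂ ⟶ M'.X₁, f = 0) (hCB : ∀ f : M.X₃ ⟶ M'.X₂, f = 0)
    (hCA₁ : Subsingleton (Abelian.Ext M.X₃ M'.X₁ 1)) (hBA₁ : Subsingleton (Abelian.Ext M.X₂ M'.X₁ 1))
    (hCB₁ : Subsingleton (Abelian.Ext M.X₃ M'.X₂ 1)) (hCA₂ : Subsingleton (Abelian.Ext M.X₃ M'.X₁ 2)) :
    Function.Bijective (fun φ : M ⟶ M' => ShortComplex.homologyMap φ) := by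
  have hcM : ∀ (N : ShortComplex C) [Mono N.f] [Epi N.g], Mono N.toCycles := fun N _ _ => by
    haveI : Mono (N.toCycles ≫ N.iCycles) := by rw [N.toCycles_i]; infer_instance
    exact mono_of_mono N.toCycles N.iCycles
  let S1 : ShortComplex C := ShortComplex.mk M.iCycles M.g M.iCycles_g
  have hS1 : S1.ShortExact :=
    { exact := ShortComplex.exact_of_f_is_kernel _ M.cyclesIsKernel
      mono_f := inferInstanceAs (Mono M.iCycles)
      epi_g := inferInstanceAs (Epi M.g) }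
  let S2 : ShortComplex C := ShortComplex.mk M'.toCycles M'.homologyπ M'.toCycles_comp_homologyπ
  haveI : Mono S2.f := hcM M'
  haveI : Epi S1.g := inferInstanceAs (Epi M.g)
  haveI : Mono S2.f := hcM M'
  have hS2 : S2.ShortExact :=
    { exact := ShortComplex.exact_of_g_is_cokernel _ M'.homologyIsCokernel
      mono_f := hcM M'
      epi_g := inferInstanceAs (Epi M'.homologyπ) }
  constructor
  · intro φ ψ hφψ
    have h0 : ShortComplex.homologyMap (φ - ψ) = 0 := by
      rw [ShortComplex.homologyMap_sub, sub_eq_zero]; exact hφψ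
    suffices key : ∀ χ : M ⟶ M', ShortComplex.homologyMap χ = 0 → χ = 0 by
      exact sub_eq_zero.1 (key _ h0)
    intro χ hχ
    have h1 : ShortComplex.cyclesMap χ ≫ S2.g = 0 := by
      show ShortComplex.cyclesMap χ ≫ M'.homologyπ = 0
      rw [← ShortComplex.homologyπ_naturality, hχ, comp_zero]
    let s := hS2.exact.lift _ h1
    have hs : s ≫ M'.toCycles = ShortComplex.cyclesMap χ := hS2.exact.lift_f _ h1
    obtain ⟨x₂, hx₂⟩ := Abelian.Ext.contravariant_sequence_exact₁ hS1 M'.X₁ (Abelian.Ext.mk₀ s) (add_zero 1)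
      (@Subsingleton.elim _ hCA₁ _ _)
    obtain ⟨t, rfl⟩ := Abelian.Ext.mk₀_bijective _ _ |>.2 x₂
    rw [Abelian.Ext.mk₀_comp_mk₀] at hx₂
    have hs0 : s = 0 := by
      rw [← (Abelian.Ext.mk₀_bijective _ _).1 hx₂, hBA t, comp_zero]
    have hc : S1.f ≫ χ.τ₂ = 0 := by
      show M.iCycles ≫ χ.τ₂ = 0
      rw [← ShortComplex.cyclesMap_i, ← hs, hs0, zero_comp, zero_comp]
    have h2 : χ.τ₂ = 0 := by
      rw [← hS1.exact.g_desc _ hc, hCB (hS1.exact.desc _ hc)]
      exact comp_zero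
    refine ShortComplex.hom_ext _ _ ?_ h2 ?_
    · rw [ShortComplex.zero_τ₁, ← cancel_mono M'.f, χ.comm₁₂, h2, comp_zero, zero_comp]
    · rw [ShortComplex.zero_τ₃, ← cancel_epi M.g, ← χ.comm₂₃, h2, zero_comp, comp_zero]
  · intro e
    have hz : Subsingleton (Abelian.Ext M.cycles M'.X₁ 1) := by
      refine subsingleton_of_forall_eq 0 fun x => ?_
      obtain ⟨x₂, hx₂⟩ := Abelian.Ext.contravariant_sequence_exact₁ hS1 M'.X₁ x (show 1 + 1 = 2 from rfl)
        (@Subsingleton.elim _ hCA₂ _ _)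
      rw [← hx₂, @Subsingleton.elim _ hBA₁ x₂ 0, Abelian.Ext.comp_zero]
    obtain ⟨x₂, hx₂⟩ := Abelian.Ext.covariant_sequence_exact₃ M.cycles hS2
      (Abelian.Ext.mk₀ (M.homologyπ ≫ e)) (zero_add 1) (@Subsingleton.elim _ hz _ _)
    obtain ⟨ψ, rfl⟩ := Abelian.Ext.mk₀_bijective _ _ |>.2 x₂
    rw [Abelian.Ext.mk₀_comp_mk₀] at hx₂
    have hψ : ψ ≫ M'.homologyπ = M.homologyπ ≫ e := (Abelian.Ext.mk₀_bijective _ _).1 hx₂
    obtain ⟨y₂, hy₂⟩ := Abelian.Ext.contravariant_sequence_exact₁ hS1 M'.X₂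
      (Abelian.Ext.mk₀ (ψ ≫ M'.iCycles)) (add_zero 1) (@Subsingleton.elim _ hCB₁ _ _)
    obtain ⟨φ₂, rfl⟩ := Abelian.Ext.mk₀_bijective _ _ |>.2 y₂
    rw [Abelian.Ext.mk₀_comp_mk₀] at hy₂
    have hφ₂ : M.iCycles ≫ φ₂ = ψ ≫ M'.iCycles := (Abelian.Ext.mk₀_bijective _ _).1 hy₂
    have h3 : S1.f ≫ (φ₂ ≫ M'.g) = 0 := by
      show M.iCycles ≫ φ₂ ≫ M'.g = 0
      rw [← Category.assoc, hφ₂, Category.assoc, M'.iCycles_g, comp_zero]
    have h4 : (M.toCycles ≫ ψ) ≫ S2.g = 0 := by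
      show (M.toCycles ≫ ψ) ≫ M'.homologyπ = 0
      rw [Category.assoc, hψ, M.toCycles_comp_homologyπ_assoc, zero_comp]
    let φ₁ := hS2.exact.lift _ h4
    have hφ₁ : φ₁ ≫ M'.toCycles = M.toCycles ≫ ψ := hS2.exact.lift_f _ h4
    let φ₃ := hS1.exact.desc _ h3
    have hφ₃ : M.g ≫ φ₃ = φ₂ ≫ M'.g := hS1.exact.g_desc _ h3
    let Φ : M ⟶ M' := ShortComplex.homMk φ₁ φ₂ φ₃
      (by rw [← M'.toCycles_i, ← Category.assoc, hφ₁, Category.assoc, ← hφ₂, M.toCycles_i_assoc])
      hφ₃.symm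
    refine ⟨Φ, ?_⟩
    show ShortComplex.homologyMap Φ = e
    have hcm : ShortComplex.cyclesMap Φ = ψ := by
      rw [← cancel_mono M'.iCycles, ShortComplex.cyclesMap_i]; exact hφ₂
    rw [← cancel_epi M.homologyπ, ShortComplex.homologyπ_naturality, hcm, hψ]

end Groth.Agent.S11497
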