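import Groth.Statements.S11499
import Mathlib.RingTheory.TensorProduct.Finite
import Mathlib.RingTheory.IsTensorProduct
import Mathlib.LinearAlgebra.Dimension.Free
import Mathlib.RingTheory.Localization.Integer
import Mathlib.RingTheory.Localization.BaseChange
import Mathlib.LinearAlgebra.Basis.VectorSpace
-- import your own Groth.Agent.* helpers here

set_option autoImplicit false
universe u
open TensorProduct
open VBPn

namespace Groth.Agent.S11499

/-- Let A be an integral domain with fraction field K and M a finitely generated torsion-free A-module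
of rank r (K ⊗_A M is r-dimensional over K). Then there is an injective A-linear map M → A^r. The
published statement is for torsion-free coherent sheaves on a complex manifold, locally near a
point; this row is its statement for one stalk, over any domain. -/
theorem result (A : Type u) [CommRing A] [IsDomain A]
    (M : Type u) [AddCommGroup M] [Module A M] [Module.Finite A M] [NoZeroSMulDivisors A M] (r : ℕ)
    (hr : Module.finrank (FractionRing A) (FractionRing A ⊗[A] M) = r) :
    ∃ f : M →ₗ[A] (Fin r → A), Function.Injective f := by
  classical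
  let K := FractionRing A
  let b := (Module.finBasisOfFinrankEq K (K ⊗[A] M) hr).equivFun
  let ι : M →ₗ[A] K ⊗[A] M := TensorProduct.mk A K M 1
  haveI : IsLocalizedModule (nonZeroDivisors A) ι :=
    (isLocalizedModule_iff_isBaseChange (nonZeroDivisors A) K ι).2 (TensorProduct.isBaseChange A M K)
  have hι : Function.Injective ι := by
    rw [← LinearMap.ker_eq_bot, eq_bot_iff]
    intro m hm
    rw [LinearMap.mem_ker, IsLocalizedModule.eq_zero_iff (nonZeroDivisors A) ι] at hm
    obtain ⟨c, hc⟩ := hm
    exact (smul_eq_zero.1 hc).resolve_left (nonZeroDivisors.coe_ne_zero c)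
  let φ : M →ₗ[A] (Fin r → K) := (b.toLinearMap.restrictScalars A) ∘ₗ ι
  have hφ : Function.Injective φ := b.injective.comp hι
  obtain ⟨S, hS⟩ := Module.Finite.fg_top (R := A) (M := M)
  obtain ⟨c, hc⟩ := IsLocalization.exist_integer_multiples (nonZeroDivisors A)
    (S ×ˢ (Finset.univ : Finset (Fin r))) (fun p => φ p.1 p.2)
  let j : (Fin r → A) →ₗ[A] (Fin r → K) := (Algebra.linearMap A K).compLeft (Fin r)
  have hj : Function.Injective j := fun x y h => funext fun i =>
    IsFractionRing.injective A K (congr_fun h i)
  have hm : ∀ m, ((c : A) • φ) m ∈ LinearMap.range j := by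
    intro m
    have : m ∈ Submodule.span A (S : Set M) := by rw [hS]; trivial
    refine (Submodule.span_le (p := (LinearMap.range j).comap ((c : A) • φ))).2 ?_ this
    intro x hx
    have h1 : ∀ i, IsLocalization.IsInteger A ((c : A) • φ x i) :=
      fun i => hc (x, i) (Finset.mem_product.2 ⟨hx, Finset.mem_univ i⟩)
    choose a ha using h1
    exact ⟨a, funext fun i => ha i⟩
  refine ⟨(LinearEquiv.ofInjective j hj).symm.toLinearMap ∘ₗ
    ((c : A) • φ).codRestrict (LinearMap.range j) hm, ?_⟩
  rw [LinearMap.coe_comp, LinearEquiv.coe_coe]
  refine (LinearEquiv.ofInjective j hj).symm.injective.comp ?_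
  intro x y h
  have h' : (c : A) • φ x = (c : A) • φ y := congr_arg Subtype.val h
  exact hφ (smul_right_injective _ (nonZeroDivisors.coe_ne_zero c) h')

end Groth.Agent.S11499
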