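import Groth.Statements.S11500
import Groth.Agent.L03.VBPn.Res.Basic
-- import your own Groth.Agent.* helpers here

set_option autoImplicit false
universe u
open VBPn

namespace Groth.Agent.S11500

open CategoryTheory CategoryTheory.Limits AlgebraicGeometry in
/-- Let k be a characteristic-zero algebraically closed field and E a semistable rank-2 vector bundle on
P^2_k with c_1(E) = 0; here, for a finite locally free O-module E of rank 2, c_1(E) = 0 is expressed
as 'a second exterior power of E is isomorphic to O' and semistability as H^0(P^2_k, E ⊗ O(−1)) = 0,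
which for such E is equivalent to it. Then there is a short exact sequence 0 → ⊕_i O(k_i) → ⊕_j
O(m_j) → E ⊗ O(−1) → 0 with finitely many integers k_i, m_j, all negative. -/
theorem result (k : Type u) [Field k] [IsAlgClosed k]
    [CharZero k] (E : (CohB1.ProjSpace 2 k).Modules) (hE : FlatMod.IsFinLocFreeOfRank 2 E)
    (hdet : ∃ L : (CohB1.ProjSpace 2 k).Modules, ExtPow.IsExtPow 2 E L ∧
      Nonempty (L ≅ Coh.structureModule (CohB1.ProjSpace 2 k)))
    (hss : Subsingleton (Coh.HH (CohB1.ProjSpace 2 k) (CohB1.tensorMod E (Twist.twistProjSpace 2 k (-1))) 0)) :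
    ∃ (r s : ℕ) (kk : Fin r → ℤ) (mm : Fin s → ℤ) (S : ShortComplex (CohB1.ProjSpace 2 k).Modules),
      S.ShortExact ∧ (∀ i, kk i < 0) ∧ (∀ j, mm j < 0) ∧
      Nonempty (S.X₁ ≅ ∐ fun i : Fin r => Twist.twistProjSpace 2 k (kk i)) ∧
      Nonempty (S.X₂ ≅ ∐ fun j : Fin s => Twist.twistProjSpace 2 k (mm j)) ∧
      Nonempty (S.X₃ ≅ CohB1.tensorMod E (Twist.twistProjSpace 2 k (-1))) := by
  obtain ⟨e⟩ := Groth.L22.Reg.nonempty_tw_zero (CohB1.tensorMod E (Twist.twistProjSpace 2 k (-1)))
  exact Groth.L03.VBPn.Res.exists_resolution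
    (Groth.L29.DC.isFinLocFree_tensor (Groth.L22.CurveDeg.isFinLocFree_of_rank hE)
      (Groth.L20.ResDescent.isFinLocFree_of_isInvertible (Groth.L16.ProjTwist.isInvertible_twistProjSpace 2 k _)))
    ((Groth.L22.Reg.subsingleton_congr_iso e 0).2 hss)

end Groth.Agent.S11500
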