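import Groth.Statements.S11501
import Groth.Agent.L03.VBPn.Serre.Main

set_option autoImplicit false
universe u
open VBPn

namespace Groth.Agent.S11501

open CategoryTheory CategoryTheory.Limits AlgebraicGeometry in
/-- Let k be an algebraically closed field of characteristic zero, n ≥ 3, and i : Y → P^n_k a closed
immersion which is a local complete intersection of codimension 2 (a regular immersion of
codimension 2), with ideal sheaf J_Y. Assume the determinant of the normal bundle extends to P^n_k:
some second exterior power of the conormal sheaf of i is isomorphic to i^*O(−c) for an integer c.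
Then there is a rank-2 vector bundle E on P^n_k (finite locally free of rank 2), with a second
exterior power isomorphic to O(c), and a short exact sequence 0 → O → E → J_Y ⊗ O(c) → 0; the first
map is a section of E whose zero scheme is Y. The published statement also gives c_2(E) = deg Y;
this row does not state it. -/
theorem result (k : Type u) [Field k] [IsAlgClosed k] [CharZero k]
    (n : ℕ) (hn : 3 ≤ n) {Y : Scheme.{u}} (i : Y ⟶ CohB1.ProjSpace n k) [IsClosedImmersion i]
    (hlci : RegImm.IsRegularImmersionOfCodim RegImm.Kind.regular 2 i) (c : ℤ)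
    (hdet : ∃ L : Y.Modules, ExtPow.IsExtPow 2 (Omega.conormal i) L ∧
      Nonempty (L ≅ (Scheme.Modules.pullback i).obj (Twist.twistProjSpace n k (-c)))) :
    ∃ S : ShortComplex (CohB1.ProjSpace n k).Modules, S.ShortExact ∧ FlatMod.IsFinLocFreeOfRank 2 S.X₂ ∧
      Nonempty (S.X₁ ≅ Coh.structureModule (CohB1.ProjSpace n k)) ∧
      Nonempty (S.X₃ ≅ CohB1.tensorMod (ClSub.idealMod i.ker) (Twist.twistProjSpace n k c)) ∧
      ∃ D : (CohB1.ProjSpace n k).Modules, ExtPow.IsExtPow 2 S.X₂ D ∧ Nonempty (D ≅ Twist.twistProjSpace n k c) := by
  exact Groth.L03.VBPn.Serre.serre_correspondence hn i hlci c hdet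

end Groth.Agent.S11501
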