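import Groth.Statements.S11504
import Groth.Agent.L03.VBPn.CotEnd
-- import your own Groth.Agent.* helpers here

set_option autoImplicit false
universe u
open VBPn

namespace Groth.Agent.S11504

open CategoryTheory CategoryTheory.Limits AlgebraicGeometry
set_option backward.isDefEq.respectTransparency false
set_option backward.isDefEq.respectTransparency.types false
set_option linter.style.haveILetI false

open CategoryTheory CategoryTheory.Limits AlgebraicGeometry in
/-- Let k be an algebraically closed field of characteristic zero. The sheaf of relative differentials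
Ω^1 of P^n_k → Spec k is simple: every O-module endomorphism of it is a homothety, i.e. its
underlying map of abelian sheaves is multiplication by some scalar c ∈ k. The published statement is
for the tangent bundle T, the dual of Ω^1; the two are equivalent since dualising identifies their
endomorphisms. Simplicity implies indecomposability. -/
theorem result (k : Type u) [Field k] [IsAlgClosed k] [CharZero k] (n : ℕ)
    (φ : Omega.sheaf (CohB1.ProjSpace.toSpec n k) ⟶ Omega.sheaf (CohB1.ProjSpace.toSpec n k)) :
    ∃ c : k, (SheafOfModules.toSheaf (CohB1.ProjSpace n k).ringCatSheaf).map φ =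
      Coh.smulAb (Omega.sheaf (CohB1.ProjSpace.toSpec n k)) (Coh.toGlobal (CohB1.ProjSpace.toSpec n k) c) := by
  obtain ⟨-, ⟨e⟩⟩ := Groth.L03.VBPn.exists_omega_iso n k
  obtain ⟨e1⟩ := Groth.L03.VBPn.nonempty_inv_twist n k ((1 : ℕ) : ℤ)
  let F := Groth.L00.Tensor.tensorRightF (Groth.L03.VBPn.L1 n k)
  haveI : F.IsEquivalence := Groth.L22.PDual.isEquivalence_tensorRightF e1
  obtain ⟨c, hc⟩ := Groth.L03.VBPn.exists_smul_id_KP n k (e.inv ≫ F.map φ ≫ e.hom)
  refine ⟨c, ?_⟩
  have h1 : F.map φ = e.hom ≫ (e.inv ≫ F.map φ ≫ e.hom) ≫ e.inv := by simp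
  rw [hc, Linear.smul_comp, Category.id_comp, Linear.comp_smul, Iso.hom_inv_id] at h1
  have h2 : φ = c • 𝟙 _ := F.map_injective
    (h1.trans (Groth.L03.VBPn.tensorRightF_map_smul (Groth.L03.VBPn.L1 n k) _ c).symm)
  rw [h2]
  exact Groth.L03.VBPn.toSheaf_map_smul_id _ c

end Groth.Agent.S11504
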