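import Groth.Statements.S11505
import Groth.Agent.L03.ShStab.Rank2Pn
import Groth.Agent.L16.ProjSpace.Basic
import Groth.Agent.L16.NegPow.Gen

set_option autoImplicit false
universe u
open VBPn

namespace Groth.Agent.S11505

open CategoryTheory CategoryTheory.Limits AlgebraicGeometry in
/-- Let k be a characteristic-zero algebraically closed field and E a finite locally free O-module of
rank 2 on P^n_k with a second exterior power isomorphic to O(c). Let k₀ be the integer with c + 2k₀
= 0 or c + 2k₀ = −1, so that E ⊗ O(k₀) is the normalised twist, and assume H^0(P^n_k, E ⊗ O(k₀)) =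
0. Then every endomorphism of E is a homothety: its underlying map of abelian sheaves is
multiplication by some scalar c' ∈ k. The published statement is for stable bundles of any rank;
this row is the rank-2 case, with stability written as the vanishing of H^0 of the normalised twist,
which is equivalent to it for rank 2. -/
theorem result (k : Type u) [Field k] [IsAlgClosed k] [CharZero k]
    (n : ℕ) (E : (CohB1.ProjSpace n k).Modules) (hE : FlatMod.IsFinLocFreeOfRank 2 E) (c k₀ : ℤ)
    (hdet : ∃ L : (CohB1.ProjSpace n k).Modules, ExtPow.IsExtPow 2 E L ∧ Nonempty (L ≅ Twist.twistProjSpace n k c))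
    (hk₀ : c + 2 * k₀ = 0 ∨ c + 2 * k₀ = -1)
    (h0 : Subsingleton (Coh.HH (CohB1.ProjSpace n k) (CohB1.tensorMod E (Twist.twistProjSpace n k k₀)) 0))
    (φ : E ⟶ E) :
    ∃ c' : k, (SheafOfModules.toSheaf (CohB1.ProjSpace n k).ringCatSheaf).map φ =
      Coh.smulAb E (Coh.toGlobal (CohB1.ProjSpace.toSpec n k) c') := by
  obtain ⟨L, hL, ⟨ξ⟩⟩ := hdet
  haveI : IsIntegral (CohB1.ProjSpace n k) := Groth.L16.ProjSpace.isIntegral n k
  letI : (CohB1.ProjSpace n k).Over (Spec (CommRingCat.of k)) := ⟨CohB1.ProjSpace.toSpec n k⟩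
  haveI : IsProper (CohB1.ProjSpace n k ↘ Spec (CommRingCat.of k)) :=
    (inferInstance : IsProper (CohB1.ProjSpace.toSpec n k))
  haveI : IsLocallyNoetherian (CohB1.ProjSpace n k) := Groth.L03.ShStab.Basic.locallyNoetherian (k := k)
  have hcoh : Coh.IsCoh E := Groth.L16.NegPow.isCoh_of_isFinLocFree fun x => by
    obtain ⟨U, hU, e⟩ := hE x; exact ⟨U, 2, hU, e⟩
  have hne : ¬ IsZero E := fun hz => by
    obtain ⟨b⟩ := Groth.L03.ShStab.RankOneEndo.exists_basis hE (genericPoint ↥(CohB1.ProjSpace n k))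
    haveI := (Groth.L21.Mod.isZero_iff_stalk_subsingleton E).1 hz (genericPoint ↥(CohB1.ProjSpace n k))
    exact b.ne_zero 0 (Subsingleton.elim _ _)
  obtain ⟨c', hc'⟩ := Groth.L03.ShStab.Scalar.exists_eq_sc_of_isIso (k := k) hcoh hne
    (fun ψ hψ => Groth.L03.ShStab.Rank2.isIso_of_ne_zero hE hL ξ hcoh (by omega) h0 ψ hψ) φ
  exact ⟨c', hc' ▸ Groth.L03.ShStab.Rank2.toSheaf_map_sc E _⟩

end Groth.Agent.S11505
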