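import Groth.Statements.S11508
import Groth.Agent.L03.VBPn.CotEnd
-- import your own Groth.Agent.* helpers here

set_option autoImplicit false
universe u
open VBPn

namespace Groth.Agent.S11508

open CategoryTheory CategoryTheory.Limits AlgebraicGeometry
set_option backward.isDefEq.respectTransparency false
set_option backward.isDefEq.respectTransparency.types false
set_option linter.style.haveILetI false

open CategoryTheory CategoryTheory.Limits AlgebraicGeometry in
/-- Let k be an algebraically closed field of characteristic zero and u : O(−1) → Ω^1 ⊗ O(1) a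
monomorphism of O-modules on P^n_k whose cokernel M is finite locally free of rank n − 1, so that M
is the dual of a null-correlation bundle N = ker(T(−1) → O(1)). Then every endomorphism of M is a
homothety (its underlying map of abelian sheaves is multiplication by a scalar in k); equivalently N
is simple. The published argument is for N itself; this row is its dual form. -/
theorem result (k : Type u) [Field k] [IsAlgClosed k] [CharZero k] (n : ℕ)
    (u : Twist.twistProjSpace n k (-1) ⟶
      CohB1.tensorMod (Omega.sheaf (CohB1.ProjSpace.toSpec n k)) (Twist.twistProjSpace n k 1))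
    [Mono u] (hM : FlatMod.IsFinLocFreeOfRank (n - 1) (cokernel u)) (φ : cokernel u ⟶ cokernel u) :
    ∃ c : k, (SheafOfModules.toSheaf (CohB1.ProjSpace n k).ringCatSheaf).map φ =
      Coh.smulAb (cokernel u) (Coh.toGlobal (CohB1.ProjSpace.toSpec n k) c) := by
  obtain ⟨-, ⟨e⟩⟩ := Groth.L03.VBPn.exists_omega_iso n k
  have hT : (ShortComplex.mk u (cokernel.π u) (cokernel.condition u)).ShortExact :=
    { exact := ShortComplex.exact_cokernel u
      mono_f := inferInstanceAs (Mono u)
      epi_g := inferInstanceAs (Epi (cokernel.π u)) }
  have w0 : (u ≫ e.hom) ≫ e.inv ≫ cokernel.π u = 0 := by simp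
  have hS : (ShortComplex.mk (u ≫ e.hom) (e.inv ≫ cokernel.π u) w0).ShortExact :=
    ShortComplex.shortExact_of_iso (ShortComplex.isoMk (S₁ := ShortComplex.mk u (cokernel.π u) (cokernel.condition u))
      (Iso.refl _) e (Iso.refl _) (by simp) (by simp)) hT
  obtain ⟨c, hc⟩ := Groth.L03.VBPn.exists_lift_KP n k w0 hS ((e.inv ≫ cokernel.π u) ≫ φ)
  refine ⟨c, ?_⟩
  have h2 : φ = c • 𝟙 _ := by
    refine (cancel_epi (e.inv ≫ cokernel.π u)).1 ?_
    rw [hc, Linear.comp_smul]
    exact congrArg (c • ·) (Category.comp_id _).symm
  rw [h2]
  exact Groth.L03.VBPn.toSheaf_map_smul_id _ c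

end Groth.Agent.S11508
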