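import Groth.Statements.S11509
import Groth.Agent.L03.VBPn.Cotangent
-- import your own Groth.Agent.* helpers here

set_option autoImplicit false
universe u
open VBPn

namespace Groth.Agent.S11509

open CategoryTheory CategoryTheory.Limits AlgebraicGeometry
set_option backward.isDefEq.respectTransparency false
set_option linter.style.haveILetI false

open CategoryTheory CategoryTheory.Limits AlgebraicGeometry in
/-- Let k be an algebraically closed field of characteristic zero and u : O(−1) → Ω^1 ⊗ O(1) a
monomorphism of O-modules on P^3_k whose cokernel M is finite locally free of rank 2 (M is the dual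
N^* of a null-correlation bundle N, and N ≅ N^* as c_1(N) = 0). Then H^0(P^3_k, M) = 0. The
published statement says that the null-correlation bundle N is stable; this row states H^0(N^*) = 0,
which is equivalent since N ≅ N^* and c_1(N) = 0. -/
theorem result (k : Type u) [Field k] [IsAlgClosed k] [CharZero k]
    (u : Twist.twistProjSpace 3 k (-1) ⟶
      CohB1.tensorMod (Omega.sheaf (CohB1.ProjSpace.toSpec 3 k)) (Twist.twistProjSpace 3 k 1))
    [Mono u] (hM : FlatMod.IsFinLocFreeOfRank 2 (cokernel u)) :
    Subsingleton (Coh.HH (CohB1.ProjSpace 3 k) (cokernel u) 0) := by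
  let S := ShortComplex.mk u (cokernel.π u) (cokernel.condition u)
  have hS : S.ShortExact :=
    { exact := ShortComplex.exact_cokernel u
      mono_f := inferInstanceAs (Mono u)
      epi_g := inferInstanceAs (Epi (cokernel.π u)) }
  haveI := Groth.L16.ProjSpace.subsingleton_HH_twist 3 k (-1) 1 (by omega) (by omega)
  haveI : Subsingleton (Coh.HH (CohB1.ProjSpace 3 k) S.X₂ 0) := Groth.L03.VBPn.subsingleton_h0_omega_one 3 k
  refine subsingleton_of_forall_eq 0 fun x => ?_
  obtain ⟨y, rfl⟩ := ((Groth.L16.CohLinear.exact_hmap_delta hS 0) x).1 (Subsingleton.elim (α := Coh.HH (CohB1.ProjSpace 3 k) (Twist.twistProjSpace 3 k (-1)) 1) _ _)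
  rw [Subsingleton.elim y 0]
  exact map_zero _

end Groth.Agent.S11509
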