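import Groth.Statements.S1151
import Groth.Agent.L13.FEtLeff.LeffHyper
-- import your own Groth.Agent.* helpers here

set_option autoImplicit false
set_option backward.isDefEq.respectTransparency false
set_option linter.style.haveILetI false
set_option backward.isDefEq.respectTransparency.types false
universe u
open Pi1

namespace Groth.Agent.S1151

open AlgebraicGeometry CategoryTheory CategoryTheory.Limits in
/-- Lefschetz Theorem for finite étale covers, essential surjectivity: let X be a proper scheme over a
field k, L an ample invertible O_X-module, s a global section of L and Y = Z(s) its zero scheme.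
Assume depth(O_{X,x}) + dim(closure of {x}) > 2 for every point x of X not in Y, and that purity
holds for the local ring O_{X,x} at every closed point x of X not in Y. Then the functor restricting
finite étale covers from X to Y is essentially surjective. (Together with its full faithfulness,
stated separately, it is an equivalence of categories.) -/
theorem result (k : Type u) [Field k] (X : Scheme.{u})
    (f : X ⟶ Spec (CommRingCat.of k)) [IsProper f] (L : X.Modules) (hL : CohB1.IsAmple L)
    (s : Coh.structureModule X ⟶ L)
    (hd : ∀ x : X, x ∉ (PicF2.zeroScheme L s).support →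
      (2 : WithBot ℕ∞) < (LocCoh.depth (X.presheaf.stalk x) (X.presheaf.stalk x) : WithBot ℕ∞) +
        topologicalKrullDim (closure ({x} : Set X)))
    (hp : ∀ x : X, x ∉ (PicF2.zeroScheme L s).support → IsClosed ({x} : Set X) →
      FEt.PurityHolds (X.presheaf.stalk x)) :
    (FEt.restrict (PicF2.zeroScheme L s).subschemeι).EssSurj := by
  haveI : IsLocallyNoetherian X := LocallyOfFiniteType.isLocallyNoetherian f
  refine ⟨fun R => ?_⟩
  obtain ⟨V, W, hV, hi⟩ := Groth.L13.FEtLeff.exists_extension_of_leff _
    (Groth.L13.FEtLeff.LefHyper.leffCond k f hL s hd) R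
  have hr : Set.range (PicF2.zeroScheme L s).subschemeι ⊆ Set.range V.ι := by
    rw [Scheme.Opens.range_ι, Scheme.IdealSheafData.range_subschemeι]
    exact hV
  let i := IsOpenImmersion.lift V.ι (PicF2.zeroScheme L s).subschemeι hr
  have hiV : i ≫ V.ι = (PicF2.zeroScheme L s).subschemeι := IsOpenImmersion.lift_fac _ _ _
  obtain ⟨a⟩ := hi i hiV
  have hc : ∀ x : X, x ∉ V → IsClosed ({x} : Set X) := fun x hx =>
    Groth.L13.FEtLeff.LefHyper.isClosed_of_notMem k f hL s V hV x hx
  haveI := Groth.L13.FEtLeff.essSurj_restrict_of_depth_purity V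
    (fun x hx => le_trans (by norm_num) (Groth.L13.FEtLeff.LefHyper.le_depth_of_closed (n := 2) (hc x hx)
      (hd x fun h => hx (hV h))))
    (fun x hx => hp x (fun h => hx (hV h)) (hc x hx))
  obtain ⟨T, ⟨b⟩⟩ := Functor.EssSurj.mem_essImage (F := FEt.restrict V.ι) W
  exact ⟨T, ⟨(Groth.L13.FEtLeff.restrictFacIso hiV).app T ≪≫ (FEt.restrict i).mapIso b ≪≫ a⟩⟩

end Groth.Agent.S1151
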