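import Groth.Statements.S11510
import Groth.Agent.L03.VBPn.NullCorr
import Groth.Agent.L03.VBPn.Hyper
-- import your own Groth.Agent.* helpers here

set_option autoImplicit false
universe u
open VBPn

namespace Groth.Agent.S11510

open CategoryTheory CategoryTheory.Limits AlgebraicGeometry
open Groth.L22.Reg (O' tw')
open Groth.L16.CohLinear (hmap hmap_comp hmap_id exact_hmap_hmap exact_hmap_delta exact_delta_hmap)
open Groth.L00.Tensor (tensorRightF)
set_option backward.isDefEq.respectTransparency false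
set_option backward.isDefEq.respectTransparency.types false
set_option linter.style.haveILetI false

open CategoryTheory CategoryTheory.Limits AlgebraicGeometry in
/-- Let k be an algebraically closed field of characteristic zero, u : O(−1) → Ω^1 ⊗ O(1) a monomorphism
of O-modules on P^3_k with cokernel M finite locally free of rank 2 (the dual of a null-correlation
bundle N; N|H ≅ M|H as c_1 = 0), and i : P^2_k → P^3_k a closed immersion of k-schemes along which
O(1) pulls back to O(1), the embedding of a plane H. Then H^0(P^2_k, i^*M ⊗ O(−1)) = 0 while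
H^0(P^2_k, i^*M) ≠ 0. The published statement says N|H is semistable but not stable; for rank 2 with
c_1 = 0 this is the pair of conditions stated here. -/
theorem result (k : Type u) [Field k] [IsAlgClosed k] [CharZero k]
    (u : Twist.twistProjSpace 3 k (-1) ⟶
      CohB1.tensorMod (Omega.sheaf (CohB1.ProjSpace.toSpec 3 k)) (Twist.twistProjSpace 3 k 1))
    [Mono u] (hM : FlatMod.IsFinLocFreeOfRank 2 (cokernel u))
    (i : CohB1.ProjSpace 2 k ⟶ CohB1.ProjSpace 3 k) [IsClosedImmersion i]
    (hi : i ≫ CohB1.ProjSpace.toSpec 3 k = CohB1.ProjSpace.toSpec 2 k)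
    (hO : Nonempty ((Scheme.Modules.pullback i).obj (Twist.twistProjSpace 3 k 1) ≅ Twist.twistProjSpace 2 k 1)) :
    Subsingleton (Coh.HH (CohB1.ProjSpace 2 k)
        (CohB1.tensorMod ((Scheme.Modules.pullback i).obj (cokernel u)) (Twist.twistProjSpace 2 k (-1))) 0) ∧
      Nontrivial (Coh.HH (CohB1.ProjSpace 2 k) ((Scheme.Modules.pullback i).obj (cokernel u)) 0) := by
  obtain ⟨e1⟩ := hO
  let S := ShortComplex.mk u (cokernel.π u) (cokernel.condition u)
  have hS : S.ShortExact :=
    { exact := ShortComplex.exact_cokernel u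
      mono_f := inferInstanceAs (Mono u)
      epi_g := inferInstanceAs (Epi (cokernel.π u)) }
  have hS' := Groth.L03.VBPn.shortExact_pullback_of_locFree hS hM i
  obtain ⟨H⟩ := Groth.L03.VBPn.nonempty_pullback_omega_one i e1 (by norm_num)
  obtain ⟨a⟩ := Groth.L03.VBPn.nonempty_pullback_twist i ⟨e1⟩ (-1)
  obtain ⟨-, ⟨eK⟩⟩ := Groth.L03.VBPn.exists_omega_iso 2 k
  obtain ⟨t1⟩ := Groth.L22.Reg.nonempty_O_add (n := 2) (R := k) (show (-1 : ℤ) + -1 = -2 by norm_num)
  obtain ⟨q1⟩ := Groth.L22.Reg.nonempty_O_add (n := 2) (R := k) (show (-1 : ℤ) + 1 = 0 by norm_num)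
  obtain ⟨q0⟩ := Groth.L22.Reg.nonempty_O_zero 2 k
  obtain ⟨z⟩ := Groth.L22.Reg.nonempty_O_zero 2 k
  refine ⟨?_, ?_⟩
  · haveI : (tensorRightF (O' 2 k (-1))).IsEquivalence := Groth.L22.PDual.isEquivalence_tensorRightF (q1 ≪≫ q0)
    have hT := hS'.map_of_exact (tensorRightF (O' 2 k (-1)))
    haveI : Subsingleton (Coh.HH (CohB1.ProjSpace 2 k) (tw' ((Scheme.Modules.pullback i).obj (Twist.twistProjSpace 3 k (-1))) (-1)) 1) :=
      Groth.L22.Reg.subsingleton_iso ((tensorRightF (O' 2 k (-1))).mapIso a ≪≫ t1).symm 1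
        (Groth.L16.ProjSpace.subsingleton_HH_twist 2 k (-2) 1 (by omega) (by omega))
    haveI : Subsingleton (Coh.HH (CohB1.ProjSpace 2 k) (tw' ((Scheme.Modules.pullback i).obj S.X₂) (-1)) 0) := by
      haveI := Groth.L00.Tensor.preservesColimits_tensorRightF (O' 2 k (-1))
      haveI : PreservesBinaryBiproduct (CohB1.tensorMod (Omega.sheaf (CohB1.ProjSpace.toSpec 2 k)) (Groth.L03.VBPn.L1 2 k))
          (FlatMod.freeMod (CohB1.ProjSpace 2 k) (3 - 2)) (tensorRightF (O' 2 k (-1))) :=
        preservesBinaryBiproduct_of_preservesBinaryCoproduct _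
      refine Groth.L22.Reg.subsingleton_iso ((tensorRightF (O' 2 k (-1))).mapIso H ≪≫
        (tensorRightF (O' 2 k (-1))).mapBiprod _ _).symm 0 (Groth.L03.VBPn.subsingleton_biprod ?_ ?_)
      · exact Groth.L22.Reg.subsingleton_iso ((tensorRightF (O' 2 k (-1))).mapIso eK).symm 0
          (Groth.L03.VBPn.subsingleton_h0_KP_neg (by norm_num) (-1) (by norm_num))
      · exact Groth.L22.PDual.subsingleton_sigma_mid (fun _ : Fin (3 - 2) => (0 : ℤ))
          (Sigma.mapIso fun _ => z.symm) (-1) fun _ => ⟨fun h => by omega, fun h => by omega⟩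
    refine subsingleton_of_forall_eq 0 fun x => ?_
    obtain ⟨y, rfl⟩ := ((exact_hmap_delta hT 0) x).1 (Subsingleton.elim (α := Coh.HH (CohB1.ProjSpace 2 k)
      (tw' ((Scheme.Modules.pullback i).obj (Twist.twistProjSpace 3 k (-1))) (-1)) 1) _ _)
    rw [Subsingleton.elim (α := Coh.HH (CohB1.ProjSpace 2 k) (tw' ((Scheme.Modules.pullback i).obj S.X₂) (-1)) 0) y 0]
    exact map_zero _
  · haveI : Subsingleton (Coh.HH (CohB1.ProjSpace 2 k) ((Scheme.Modules.pullback i).obj (Twist.twistProjSpace 3 k (-1))) 0) :=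
      Groth.L22.Reg.subsingleton_iso a.symm 0
        (Groth.L16.ProjSpace.subsingleton_HH_twist 2 k (-1) 0 (by omega) (by omega))
    let O := Coh.structureModule (CohB1.ProjSpace 2 k)
    let jd : Fin (3 - 2) := ⟨0, by norm_num⟩
    let ι : O ⟶ (Scheme.Modules.pullback i).obj S.X₂ :=
      Sigma.ι (fun _ : Fin (3 - 2) => O) jd ≫ biprod.inr ≫ H.inv
    let p : (Scheme.Modules.pullback i).obj S.X₂ ⟶ O :=
      H.hom ≫ biprod.snd ≫ Sigma.desc (fun l => if l = jd then 𝟙 O else 0)
    have hιp : ι ≫ p = 𝟙 O := by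
      simp only [ι, p, Category.assoc, Iso.inv_hom_id_assoc]
      erw [biprod.inr_snd_assoc, colimit.ι_desc]
      simp
    have hinj : Function.Injective (hmap ι 0) := fun x y h => by
      have := congrArg (hmap p 0) h
      rwa [← hmap_comp, ← hmap_comp, hιp, hmap_id, hmap_id] at this
    have hg : Function.Injective (hmap ((Scheme.Modules.pullback i).map (cokernel.π u)) 0) := by
      intro x y h
      rw [← sub_eq_zero]
      obtain ⟨w, hw⟩ := ((exact_hmap_hmap hS' 0) (x - y)).1 (by rw [map_sub]; exact sub_eq_zero.2 h)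
      rw [← hw, Subsingleton.elim (α := Coh.HH (CohB1.ProjSpace 2 k)
        ((Scheme.Modules.pullback i).obj (Twist.twistProjSpace 3 k (-1))) 0) w 0]
      exact map_zero _
    haveI : Nontrivial (Coh.HH (CohB1.ProjSpace 2 k) O 0) := by
      haveI : IsIntegral (CohB1.ProjSpace 2 k) := Groth.L16.ProjSpace.isIntegral 2 k
      haveI : Nontrivial Γ(O, ⊤) := inferInstanceAs (Nontrivial Γ(CohB1.ProjSpace 2 k, ⊤))
      exact (Groth.L21.RR.e0 O).toEquiv.nontrivial
    exact (hg.comp hinj).nontrivial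

end Groth.Agent.S11510
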