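import Groth.Statements.S11518
import Groth.Agent.L03.VBPn.Tango.Simple
import Groth.Agent.L18.Grass.QuotChart
-- import your own Groth.Agent.* helpers here

set_option autoImplicit false
universe u
open VBPn

namespace Groth.Agent.S11518

open CategoryTheory CategoryTheory.Limits AlgebraicGeometry

open CategoryTheory CategoryTheory.Limits AlgebraicGeometry in
/-- Let k be an algebraically closed field of characteristic zero. For every n there is a finite locally
free O-module F of rank n − 1 on P^n_k which is simple, i.e. every endomorphism of F is a homothety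
(its underlying map of abelian sheaves is multiplication by a scalar in k); in particular F is
indecomposable. (For n ≤ 2 the assertion is trivial. The published statement also gives the total
Chern class (1 − 2h)/(1 − h)^{n+1}; this row does not state it.) -/
theorem result (k : Type u) [Field k] [IsAlgClosed k] [CharZero k] (n : ℕ) :
    ∃ F : (CohB1.ProjSpace n k).Modules, FlatMod.IsFinLocFreeOfRank (n - 1) F ∧
      ∀ φ : F ⟶ F, ∃ c : k, (SheafOfModules.toSheaf (CohB1.ProjSpace n k).ringCatSheaf).map φ =
        Coh.smulAb F (Coh.toGlobal (CohB1.ProjSpace.toSpec n k) c) := by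
  by_cases hn : 2 ≤ n
  · refine ⟨kernel (Groth.L03.VBPn.Tango.q n k), Groth.L03.VBPn.Tango.isFinLocFreeOfRank_kernel_q n k, fun φ => ?_⟩
    obtain ⟨c, hc⟩ := Groth.L03.VBPn.Tango.exists_smul_id n k hn φ
    refine ⟨c, ?_⟩
    rw [hc]
    exact Groth.L03.VBPn.toSheaf_map_smul_id _ c
  · refine ⟨FlatMod.freeMod (CohB1.ProjSpace n k) 0, (show n - 1 = 0 by omega).symm ▸
      Groth.L18.QuotChart.isFinLocFreeOfRank_free _ 0, fun φ => ⟨0, ?_⟩⟩
    rw [show φ = (0 : k) • 𝟙 _ from Sigma.hom_ext _ _ fun l => l.elim0]
    exact Groth.L03.VBPn.toSheaf_map_smul_id _ 0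

end Groth.Agent.S11518
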