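import Groth.Statements.S11519
import Groth.Agent.L03.VBPn.CotEnd
import Groth.Agent.L12.FinCov.Frame
import Groth.Agent.L12.StabLimit
-- import your own Groth.Agent.* helpers here

set_option autoImplicit false
universe u
open VBPn

namespace Groth.Agent.S11519

open CategoryTheory CategoryTheory.Limits AlgebraicGeometry
set_option backward.isDefEq.respectTransparency false
set_option backward.isDefEq.respectTransparency.types false
set_option linter.style.haveILetI false

open CategoryTheory CategoryTheory.Limits AlgebraicGeometry in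
/-- Let k be an algebraically closed field of characteristic zero and a, a' : O(−1) → Ω^1 ⊗ O(1) two
bundle monomorphisms of O-modules on P^3_k, i.e. monomorphisms whose cokernels E, E' are finite
locally free of rank 2 (null-correlation bundles up to duality). Then E ≅ E' if and only if a' = c·a
for a nonzero constant c ∈ k: the underlying map of abelian sheaves of a' equals that of a followed
by multiplication by c on Ω^1 ⊗ O(1). -/
theorem result (k : Type u) [Field k] [IsAlgClosed k] [CharZero k]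
    (a a' : Twist.twistProjSpace 3 k (-1) ⟶
      CohB1.tensorMod (Omega.sheaf (CohB1.ProjSpace.toSpec 3 k)) (Twist.twistProjSpace 3 k 1))
    [Mono a] [Mono a'] (hE : FlatMod.IsFinLocFreeOfRank 2 (cokernel a)) (hE' : FlatMod.IsFinLocFreeOfRank 2 (cokernel a')) :
    Nonempty (cokernel a ≅ cokernel a') ↔
      ∃ c : k, c ≠ 0 ∧ (SheafOfModules.toSheaf (CohB1.ProjSpace 3 k).ringCatSheaf).map a' =
        (SheafOfModules.toSheaf (CohB1.ProjSpace 3 k).ringCatSheaf).map a ≫
          Coh.smulAb (CohB1.tensorMod (Omega.sheaf (CohB1.ProjSpace.toSpec 3 k)) (Twist.twistProjSpace 3 k 1))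
            (Coh.toGlobal (CohB1.ProjSpace.toSpec 3 k) c) := by
  let Ω1 := CohB1.tensorMod (Omega.sheaf (CohB1.ProjSpace.toSpec 3 k)) (Twist.twistProjSpace 3 k 1)
  constructor
  · rintro ⟨θ⟩
    obtain ⟨-, ⟨e⟩⟩ := Groth.L03.VBPn.exists_omega_iso 3 k
    have hT : (ShortComplex.mk a' (cokernel.π a') (cokernel.condition a')).ShortExact :=
      { exact := ShortComplex.exact_cokernel a'
        mono_f := inferInstanceAs (Mono a')
        epi_g := inferInstanceAs (Epi (cokernel.π a')) }
    have w0 : (a' ≫ e.hom) ≫ e.inv ≫ cokernel.π a' = 0 := by simp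
    have hS : (ShortComplex.mk (a' ≫ e.hom) (e.inv ≫ cokernel.π a') w0).ShortExact :=
      ShortComplex.shortExact_of_iso (ShortComplex.isoMk (S₁ := ShortComplex.mk a' (cokernel.π a') (cokernel.condition a'))
        (Iso.refl _) e (Iso.refl _) (by simp) (by simp)) hT
    obtain ⟨c, hc⟩ := Groth.L03.VBPn.exists_lift_KP 3 k w0 hS (e.inv ≫ cokernel.π a ≫ θ.hom)
    have hc' : cokernel.π a ≫ θ.hom = c • cokernel.π a' := by
      have := congrArg (e.hom ≫ ·) hc
      simpa [Linear.comp_smul] using this
    have hc0 : c ≠ 0 := by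
      rintro rfl
      rw [zero_smul, ← comp_zero (f := cokernel.π a) (Z := cokernel a'), cancel_epi] at hc'
      have hz : IsZero (cokernel a') := (IsZero.iff_id_eq_zero _).2 (by
        rw [← θ.inv_hom_id, hc', comp_zero])
      exact Groth.L12.StabLimit.not_isZero_of_rank_pos (by norm_num) hE' hz
    have h0 : a ≫ cokernel.π a' = 0 := by
      have h1 : c • (a ≫ cokernel.π a') = 0 := by
        rw [← Linear.comp_smul, ← hc', cokernel.condition_assoc, zero_comp]
      exact (smul_eq_zero.1 h1).resolve_left hc0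
    obtain ⟨d, hd⟩ : ∃ d, d ≫ a' = a :=
      ⟨hT.fIsKernel.lift (KernelFork.ofι a h0), hT.fIsKernel.fac _ WalkingParallelPair.zero⟩
    obtain ⟨e1⟩ := Groth.L03.VBPn.nonempty_inv_twist 3 k (-1)
    obtain ⟨b, hb⟩ := Groth.L03.VBPn.exists_eq_smul_id (Groth.L03.VBPn.toGlobal_bij 3 k) e1 d
    rw [hb, Linear.smul_comp, Category.id_comp] at hd
    have hb0 : b ≠ 0 := by
      rintro rfl
      rw [zero_smul] at hd
      have h1 : 𝟙 (Twist.twistProjSpace 3 k (-1)) = 0 := (cancel_mono a).1 (by rw [← hd]; simp)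
      haveI : Nonempty (CohB1.ProjSpace 3 k) :=
        haveI := Groth.L16.ProjSpace.isIntegral 3 k
        inferInstance
      exact Groth.L12.StabLimit.not_isZero_of_rank_pos one_pos
        (Groth.L12.FinCov.isFinLocFreeOfRank_one_of_isInvertible
          (Groth.L16.ProjTwist.isInvertible_twistProjSpace 3 k (-1))) ((IsZero.iff_id_eq_zero _).2 h1)
    refine ⟨b⁻¹, inv_ne_zero hb0, ?_⟩
    have h3 : a' = a ≫ (b⁻¹ • 𝟙 Ω1) := by
      rw [Linear.comp_smul, Category.comp_id, ← hd, smul_smul, inv_mul_cancel₀ hb0, one_smul]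
    rw [h3, Functor.map_comp, Groth.L03.VBPn.toSheaf_map_smul_id]
    rfl
  · rintro ⟨c, hc, h⟩
    have h3 : a' = a ≫ (c • 𝟙 Ω1) := (SheafOfModules.toSheaf (CohB1.ProjSpace 3 k).ringCatSheaf).map_injective (by
      rw [Functor.map_comp, Groth.L03.VBPn.toSheaf_map_smul_id]; exact h)
    let s : Ω1 ≅ Ω1 :=
      { hom := c • 𝟙 Ω1
        inv := c⁻¹ • 𝟙 Ω1
        hom_inv_id := by simp [smul_smul, inv_mul_cancel₀ hc, mul_inv_cancel₀ hc]
        inv_hom_id := by simp [smul_smul, inv_mul_cancel₀ hc, mul_inv_cancel₀ hc] }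
    exact ⟨cokernel.mapIso a a' (Iso.refl _) s (by simp [s, h3])⟩

end Groth.Agent.S11519
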