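import Groth.Statements.S11521
import Groth.Agent.L10.Tri.Heart

set_option autoImplicit false
universe v u v' u'
open CategoryTheory CategoryTheory.Limits CategoryTheory.Pretriangulated CategoryTheory.Triangulated
open PervT

namespace Groth.Agent.S11521

/-- Let `C` be a triangulated category (octahedron axiom included) with a t-structure `t`, and let `H`
be an abelian category identified with the heart of `t` through a fully faithful additive functor
`ι` whose essential image is the heart. For morphisms `u : X ⟶ Y` and `v : Y ⟶ Z` in `H`, the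
sequence `0 ⟶ X ⟶ Y ⟶ Z ⟶ 0` is a complex and is short exact if and only if there is a morphism `w :
ι Z ⟶ (ι X)⟦1⟧` such that `(ι u, ι v, w)` is a distinguished triangle of `C`. -/
theorem result {C : Type u} [Category.{v} C] [Preadditive C] [HasZeroObject C] [HasShift C ℤ] [∀ n : ℤ, (shiftFunctor C n).Additive] [Pretriangulated C] [IsTriangulated C] (t : TStructure C) {H : Type u'} [Category.{v'} H] [Abelian H] [t.Heart H] {X Y Z : H} (u : X ⟶ Y) (v : Y ⟶ Z) :
    (∃ huv : u ≫ v = 0, (ShortComplex.mk u v huv).ShortExact) ↔
      ∃ (w : t.ιHeart.obj Z ⟶ (t.ιHeart.obj X)⟦(1 : ℤ)⟧),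
        Triangle.mk (t.ιHeart.map u) (t.ιHeart.map v) w ∈ distTriang C := by
  exact Groth.L10.Tri.shortExact_iff t u v

end Groth.Agent.S11521
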