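import Groth.Statements.S11523
import Mathlib.CategoryTheory.Subobject.ArtinianObject
import Mathlib.CategoryTheory.Subobject.NoetherianObject
import Mathlib.Algebra.Homology.ShortComplex.Abelian
import Mathlib.CategoryTheory.Abelian.Exact
import Mathlib.CategoryTheory.Limits.Preserves.Shapes.Zero


set_option autoImplicit false
set_option backward.defeqAttrib.useBackward true
set_option backward.isDefEq.respectTransparency false
universe v u v' u'
open CategoryTheory CategoryTheory.Limits
open PervT

namespace Groth.Agent.S11523

/-- Let `u : A ⥤ B` be a fully faithful exact functor of abelian categories admitting a left adjoint and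
a right adjoint `uStar`. Suppose every object of `A` has finite length (it is both an artinian and a
noetherian object) and that `u` sends simple objects to simple objects. Then for every object `Y` of
`B` the counit `u (uStar Y) ⟶ Y` of the adjunction `u ⊣ uStar` is a monomorphism. (The published
statement also lists two further conditions equivalent to this one: that for every object `Y` of `B`
the unit `Y ⟶ u (L Y)` of the adjunction `L ⊣ u` of the left adjoint `L` is an epimorphism, and that
the essential image of `u` is stable under subobjects and quotients; this row states only the counit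
condition.) -/
theorem result {A : Type u} [Category.{v} A] [Abelian A] {B : Type u'} [Category.{v'} B] [Abelian B]
    (u : A ⥤ B) [u.Full] [u.Faithful] [PreservesFiniteLimits u] [PreservesFiniteColimits u] [u.IsRightAdjoint]
    (uStar : B ⥤ A) (adj : u ⊣ uStar)
    (hlen : ∀ X : A, IsArtinianObject X ∧ IsNoetherianObject X)
    (hsimple : ∀ X : A, Simple X → Simple (u.obj X)) (Y : B) :
    Mono (adj.counit.app Y) := by
  classical
  let X := uStar.obj Y
  let c := adj.counit.app Y
  let good : Set (Subobject X) := {P | Mono (u.map P.arrow ≫ c)}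
  have hbot : (⊥ : Subobject X) ∈ good := by
    have hz : IsZero (u.obj ((⊥ : Subobject X) : A)) :=
      u.map_isZero ((isZero_zero A).of_iso Subobject.botCoeIsoZero)
    exact ⟨fun a b _ => hz.eq_of_tgt a b⟩
  have : IsNoetherianObject X := (hlen X).2
  obtain ⟨M, hM : Mono (u.map M.arrow ≫ c), hmax⟩ :=
    WellFounded.has_min (wellFounded_gt (α := Subobject X)) good ⟨⊥, hbot⟩
  by_cases hQ : IsZero (cokernel M.arrow)
  · have : Epi M.arrow := Preadditive.epi_of_cokernel_zero (hQ.eq_of_tgt _ _)
    have : IsIso M.arrow := isIso_of_mono_of_epi _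
    have h : c = inv (u.map M.arrow) ≫ (u.map M.arrow ≫ c) := by simp
    change Mono c
    rw [h]
    infer_instance
  exfalso
  have : IsArtinianObject (cokernel M.arrow) := (hlen _).1
  obtain ⟨Z, hZ⟩ := exists_simple_subobject hQ
  let π := cokernel.π M.arrow
  let fst := pullback.fst π Z.arrow
  let snd := pullback.snd π Z.arrow
  obtain ⟨l, hl : l ≫ M.arrow = kernel.ι snd ≫ fst⟩ :=
    (ShortComplex.exact_cokernel M.arrow).lift' (kernel.ι snd ≫ fst) (by
      dsimp
      rw [Category.assoc, pullback.condition, kernel.condition_assoc, zero_comp])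
  have hker : ∀ {W : B} (a : W ⟶ u.obj (pullback π Z.arrow)), a ≫ u.map fst ≫ c = 0 →
      a ≫ u.map snd = 0 → a = 0 := by
    intro W a ha hb
    let S := ShortComplex.mk (kernel.ι snd) snd (kernel.condition snd)
    have : Mono (S.map u).f := inferInstanceAs (Mono (u.map (kernel.ι snd)))
    obtain ⟨b, hb' : b ≫ u.map (kernel.ι snd) = a⟩ :=
      ((ShortComplex.exact_of_f_is_kernel S (kernelIsKernel snd)).map u).lift' a hb
    have h1 : b ≫ u.map l = 0 := zero_of_comp_mono (u.map M.arrow ≫ c) (by
      rw [Category.assoc, ← u.map_comp_assoc, hl, u.map_comp_assoc, reassoc_of% hb', ha])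
    have h2 : a ≫ u.map fst = 0 := by
      rw [← hb', Category.assoc, ← u.map_comp, ← hl, u.map_comp, reassoc_of% h1, zero_comp]
    exact zero_of_comp_mono (u.map fst) h2
  have hnew : Subobject.mk fst ∈ good := by
    change Mono (u.map (Subobject.mk fst).arrow ≫ c)
    rw [← Subobject.underlyingIso_hom_comp_eq_mk fst, u.map_comp, Category.assoc]
    suffices Mono (u.map fst ≫ c) from inferInstance
    refine Preadditive.mono_of_kernel_zero ?_
    by_contra hne
    have hS : Simple (u.obj (Z : A)) := hsimple _ hZ
    let k := kernel.ι (u.map fst ≫ c) ≫ u.map snd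
    have hk : Mono k := Preadditive.mono_of_cancel_zero _ fun {W} b hb =>
      zero_of_comp_mono (kernel.ι (u.map fst ≫ c))
        (hker _ (by rw [Category.assoc, kernel.condition, comp_zero]) (by rw [Category.assoc]; exact hb))
    have hk0 : k ≠ 0 := fun h0 => hne (hker _ (kernel.condition _) h0)
    have : IsIso k := isIso_of_mono_of_nonzero hk0
    obtain ⟨g, hg⟩ := u.map_surjective (inv k ≫ kernel.ι (u.map fst ≫ c))
    have hg0 : g ≫ fst = 0 := (adj.homEquiv _ Y).symm.injective (by
      rw [Adjunction.homEquiv_counit, Adjunction.homEquiv_counit, u.map_comp, u.map_zero, zero_comp, hg]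
      simp [c])
    have hg1 : g = 0 := zero_of_comp_mono fst hg0
    have h1 : 𝟙 (u.obj (Z : A)) = 0 := by
      rw [← IsIso.inv_hom_id k, ← Category.assoc, ← hg, hg1, u.map_zero, zero_comp]
    exact id_nonzero (u.obj (Z : A)) h1
  refine hmax _ hnew (lt_of_le_of_ne
    (Subobject.le_mk_of_comm (pullback.lift M.arrow 0 (by simp [π])) (pullback.lift_fst _ _ _)) ?_)
  intro heq
  have hf : fst ≫ π = 0 := by
    have h := Subobject.ofMkLE_arrow (f := fst) (le_of_eq heq.symm)
    rw [← h, Category.assoc, cokernel.condition, comp_zero]
  have hs : snd = 0 := zero_of_comp_mono Z.arrow (pullback.condition.symm.trans hf)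
  have : Epi snd := inferInstanceAs (Epi (pullback.snd π Z.arrow))
  exact id_nonzero (Z : A) ((cancel_epi snd).1 (by rw [hs, zero_comp, zero_comp]))

end Groth.Agent.S11523
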