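import Groth.Statements.S11524
import Groth.Agent.L05.Bosch.Apps

set_option autoImplicit false
universe u
open AdicRing

namespace Groth.Agent.S11524

/-- Let R be a base ring of class (N) or (V) for the ideal I, A an R-algebra topologically of finite
type and M a finite A-module which is flat over R. Then M is of finite presentation over A. (Class
(V) is taken here to consist of complete valuation rings of height one.) -/
theorem result
    (R : Type u) [CommRing R] (I : Ideal R) (hR : AdicRing.IsBase R I)
    (A : Type u) [CommRing A] [Algebra R A] (hA : AdicRing.TopFiniteType R I A)
    (M : Type u) [AddCommGroup M] [Module A M] [Module R M] [IsScalarTower R A M]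
    [Module.Finite A M] [Module.Flat R M] :
    Module.FinitePresentation A M := by
  exact Groth.L05.Bosch.finitePresentation_of_noPowTorsion hR hA M
    (Groth.L05.Bosch.noPowTorsion_of_flat (Groth.L05.Bosch.isBase_fg hR) (Groth.L05.Bosch.isBase_noPowTorsion hR) M)

end Groth.Agent.S11524
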