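import Groth.Statements.S11529
import Groth.Agent.L05.Bosch.Apps

set_option autoImplicit false
universe u
open AdicRing

namespace Groth.Agent.S11529

/-- Let R be a base ring of class (N) or (V) for the ideal I, A an R-algebra topologically of finite
type and M a finite A-module. Then M is complete and separated for the I-adic topology. -/
theorem result
    (R : Type u) [CommRing R] (I : Ideal R) (hR : AdicRing.IsBase R I)
    (A : Type u) [CommRing A] [Algebra R A] (hA : AdicRing.TopFiniteType R I A)
    (M : Type u) [AddCommGroup M] [Module A M] [Module R M] [IsScalarTower R A M]
    [Module.Finite A M] :
    IsAdicComplete I M := by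
  exact Groth.L05.Bosch.isAdicComplete_of_topFiniteType hR hA M

end Groth.Agent.S11529
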