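import Groth.Statements.S1153
import Groth.Agent.L19.SurjClosed
import Groth.Agent.L23.Descent
import Mathlib.AlgebraicGeometry.Morphisms.Proper
import Mathlib.AlgebraicGeometry.IdealSheaf.Functorial

set_option autoImplicit false
set_option backward.isDefEq.respectTransparency.types false
set_option backward.isDefEq.respectTransparency false
set_option linter.style.haveILetI false
open CategoryTheory CategoryTheory.Limits AlgebraicGeometry Opposite
universe u
open Desc

namespace Groth.Agent.S1153

/-- Let f : X ⟶ Y be locally of finite type, Z a closed subset of X and g : Y' ⟶ Y quasi-compact, flat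
and surjective. If the preimage of Z in X ×_Y Y' is proper over Y', then Z is proper over Y. -/
theorem result {X Y Y' : Scheme.{u}} (f : X ⟶ Y) [LocallyOfFiniteType f] (Z : Set X) (hZ : IsClosed Z)
    (g : Y' ⟶ Y) [QuasiCompact g] [Flat g] [Surjective g]
    (h : ClSub.IsProperOver (pullback.snd f g) ((pullback.fst f g).base ⁻¹' Z)) :
    ClSub.IsProperOver f Z := by
  obtain ⟨hc, hp⟩ := h
  refine ⟨hZ, ?_⟩
  set q := (Scheme.IdealSheafData.vanishingIdeal ⟨Z, hZ⟩).subschemeι ≫ f with hq
  let i' := (Scheme.IdealSheafData.vanishingIdeal ⟨(pullback.fst f g).base ⁻¹' Z, hc⟩).subschemeι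
  let ι := (Scheme.IdealSheafData.vanishingIdeal ⟨Z, hZ⟩).subschemeι
  let m : pullback q g ⟶ pullback f g := pullback.map q g f g ι (𝟙 _) (𝟙 _) (by simp [q, ι]) (by simp)
  have : IsClosedImmersion m :=
    MorphismProperty.pullbackMap (P := @IsClosedImmersion) (inferInstance : IsClosedImmersion ι)
      (inferInstance : IsClosedImmersion (𝟙 Y')) (by simp [q, ι]) (by simp)
  let k : pullback i' m ⟶ pullback q g := pullback.snd i' m
  have hsurj : Surjective k := by
    rw [surjective_iff, ← Set.range_eq_univ, Scheme.Pullback.range_snd, Set.eq_univ_iff_forall]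
    intro z
    rw [Set.mem_preimage, Scheme.IdealSheafData.range_subschemeι,
      Scheme.IdealSheafData.coe_support_vanishingIdeal]
    show (pullback.fst f g).base (m z) ∈ Z
    rw [← Scheme.Hom.comp_apply, show m ≫ pullback.fst f g = pullback.fst q g ≫ ι from pullback.lift_fst _ _ _,
      Scheme.Hom.comp_apply]
    have he : Set.range ι.base = Z := (Scheme.IdealSheafData.range_subschemeι _).trans
      (Scheme.IdealSheafData.coe_support_vanishingIdeal ⟨Z, hZ⟩)
    exact he.le ⟨_, rfl⟩
  have hkq : k ≫ pullback.snd q g = pullback.fst i' m ≫ (i' ≫ pullback.snd f g) := by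
    rw [pullback.condition_assoc, show m ≫ pullback.snd f g = pullback.snd q g ≫ 𝟙 _ from pullback.lift_snd _ _ _,
      Category.comp_id]
  have : IsProper (k ≫ pullback.snd q g) := by
    rw [hkq]
    haveI : IsProper (i' ≫ pullback.snd f g) := hp
    infer_instance
  have h1 : UniversallyClosed (pullback.snd q g) := UniversallyClosed.of_comp_surjective k _
  have h2 : IsSeparated (pullback.snd q g) :=
    Groth.L19.isSeparated_of_surjective_universallyClosed k _
  have hg : (@Surjective ⊓ @Flat ⊓ @QuasiCompact : MorphismProperty Scheme.{u}) g :=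
    ⟨⟨inferInstance, inferInstance⟩, inferInstance⟩
  have hD : (MorphismProperty.diagonal (@IsClosedImmersion : MorphismProperty Scheme.{u})).DescendsAlong
      (@Surjective ⊓ @Flat ⊓ @QuasiCompact) := inferInstance
  rw [← IsSeparated.isSeparated_eq_diagonal_isClosedImmersion] at hD
  haveI := hD
  haveI : UniversallyClosed q :=
    MorphismProperty.of_pullback_snd_of_descendsAlong (P := @UniversallyClosed) hg h1
  haveI : IsSeparated q :=
    MorphismProperty.of_pullback_snd_of_descendsAlong (P := @IsSeparated) hg h2
  exact {}

end Groth.Agent.S1153
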