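import Groth.Statements.S11533
import Groth.Agent.L05.Bosch.CompFlat

set_option autoImplicit false
universe u
open AdicRing

namespace Groth.Agent.S11533

/-- Let R be a base ring of class (N) or (V) for the ideal I, A an R-algebra topologically of finite
type and f_1, ..., f_r elements of A generating the unit ideal. Then every complete localization
A⟨f_i⁻¹⟩ is flat over A, and the product of the A⟨f_i⁻¹⟩ is faithfully flat over A. -/
theorem result
    (R : Type u) [CommRing R] (I : Ideal R) (hR : AdicRing.IsBase R I)
    (A : Type u) [CommRing A] [Algebra R A] (hA : AdicRing.TopFiniteType R I A)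
    (r : ℕ) (f : Fin r → A) (hf : Ideal.span (Set.range f) = ⊤) :
    (∀ i, Module.Flat A (AdicRing.CLoc I (f i))) ∧
      Module.FaithfullyFlat A (∀ i, AdicRing.CLoc I (f i)) := by
  exact ⟨fun i => Groth.L05.Bosch.flat_cloc hR hA (f i), Groth.L05.Bosch.faithfullyFlat_pi_cloc hR hA f hf⟩

end Groth.Agent.S11533
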