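import Groth.Statements.S11535
import Groth.Agent.L05.Bosch.Glue

set_option autoImplicit false
universe u
open AdicRing

namespace Groth.Agent.S11535

/-- Let R be a base ring of class (N) or (V) for the ideal I, A an R-algebra which is complete and
separated for the I-adic topology, and f_1, ..., f_r elements generating the unit ideal of A. Then A
is topologically of finite presentation over R if and only if each complete localization A⟨f_i⁻¹⟩
is. -/
theorem result
    (R : Type u) [CommRing R] (I : Ideal R) (hR : AdicRing.IsBase R I)
    (A : Type u) [CommRing A] [Algebra R A] [IsAdicComplete (I.map (algebraMap R A)) A]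
    (r : ℕ) (f : Fin r → A) (hf : Ideal.span (Set.range f) = ⊤) :
    AdicRing.TopFinitePresentation R I A ↔
      ∀ i, AdicRing.TopFinitePresentation R I (AdicRing.CLoc I (f i)) := by
  exact Groth.L05.Bosch.topFinitePresentation_iff_cloc hR A f hf

end Groth.Agent.S11535
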