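import Groth.Statements.S11537
import Groth.Agent.L05.Bosch.CompFlat

set_option autoImplicit false
universe u
open AdicRing

namespace Groth.Agent.S11537

/-- Let R be a base ring of class (N) or (V) for the ideal I, A an R-algebra topologically of finite
type, B a finitely generated A-algebra and M a finite B-module. The canonical map from B̂ ⊗_B M to
M̂, the hats denoting IB-adic completions, is bijective. -/
theorem result
    (R : Type u) [CommRing R] (I : Ideal R) (hR : AdicRing.IsBase R I)
    (A : Type u) [CommRing A] [Algebra R A] (hA : AdicRing.TopFiniteType R I A)
    (B : Type u) [CommRing B] [Algebra R B] [Algebra A B] [IsScalarTower R A B]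
    [Algebra.FiniteType A B]
    (M : Type u) [AddCommGroup M] [Module B M] [Module.Finite B M] :
    Function.Bijective
      (AdicCompletion.ofTensorProduct (I.map (algebraMap R B)) M) := by
  exact Groth.L05.Bosch.bijective_ofTensorProduct (Groth.L05.Bosch.isBase_fg hR) (Groth.L05.Bosch.good_of_finiteType hR hA B) M

end Groth.Agent.S11537
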