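import Groth.Prelude.Def_Pic
import Groth.Prelude.Def_CohB1
import Mathlib.FieldTheory.PurelyInseparable.Basic
import Mathlib.AlgebraicGeometry.Pullbacks
import Mathlib.Algebra.CharP.Defs
import Groth.Agent.L02.PicInsep.Core
import Groth.Agent.L02.PicInsep.Field
import Groth.Agent.L02.PicEtale.Basic

set_option autoImplicit false
set_option linter.style.haveILetI false
namespace PicF
end PicF
open CategoryTheory CategoryTheory.Limits AlgebraicGeometry Opposite
universe u
open PicF

namespace Groth.Agent.S1154

/-- Let k have characteristic p > 0, let X be quasi-compact and quasi-separated over k whose ring of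
global functions is k itself (the structure morphism induces an isomorphism on global sections), let
n be prime to p and k'/k purely inseparable. Then every isomorphism class of invertible modules M on
X_{k'} with M^n trivial is the pullback of such a class on X (injectivity of this pullback on
classes being a separate fact). -/
theorem result (k : Type u) [Field k] (p : ℕ) [Fact p.Prime] [CharP k p]
    (X : Scheme.{u}) (f : X ⟶ Spec (CommRingCat.of k)) [CompactSpace X] [QuasiSeparatedSpace X]
    (hH0 : IsIso f.appTop) (n : ℕ) (hn : ¬ p ∣ n) (k' : Type u) [Field k'] [Algebra k k'] [IsPurelyInseparable k k'] :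
    ∀ d : PicF.Cl (pullback f (Spec.map (CommRingCat.ofHom (algebraMap k k')))), (PicF.IsInvertibleCl d ∧ ∃ M : ((pullback f (Spec.map (CommRingCat.ofHom (algebraMap k k'))))).Modules, PicF.cl M = d ∧ Nonempty (CohB1.tensorPow M n ≅ Coh.structureModule ((pullback f (Spec.map (CommRingCat.ofHom (algebraMap k k'))))))) →
      ∃ c : PicF.Cl X, (PicF.IsInvertibleCl c ∧ ∃ M : (X).Modules, PicF.cl M = c ∧ Nonempty (CohB1.tensorPow M n ≅ Coh.structureModule (X))) ∧ PicF.pullCl (pullback.fst f (Spec.map (CommRingCat.ofHom (algebraMap k k')))) c = d := by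
  rintro d ⟨⟨L, hLd, hL⟩, M, rfl, ⟨σ⟩⟩
  obtain ⟨e⟩ := Groth.L02.PicEtale.nonempty_iso_of_cl_eq hLd
  have hM : PicF.IsInvertible M := Groth.L18.Ample.isInvertible_of_iso e hL
  have hp : p.Prime := Fact.out
  have hn0 : 0 < n := Nat.pos_of_ne_zero fun h => hn (h ▸ dvd_zero p)
  obtain ⟨N, hN, hNn, ⟨eN⟩⟩ := Groth.L02.PicInsep.exists_descent (Groth.L02.PicInsep.isHomeomorph_fst (k' := k') f)
    (fun U hU => (Groth.L02.PicInsep.app_facts f p U hU).1) (fun U hU => (Groth.L02.PicInsep.app_facts f p U hU).2)
    hp.pos hn0 (hp.coprime_iff_not_dvd.2 hn) M hM σ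
  exact ⟨PicF.cl N, ⟨⟨N, rfl, hN⟩, N, rfl, hNn⟩, Quot.sound ⟨eN⟩⟩

end Groth.Agent.S1154
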