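import Groth.Statements.S1156
import Groth.Agent.L19.AmitsurLow

set_option autoImplicit false
set_option backward.isDefEq.respectTransparency.types false
set_option backward.isDefEq.respectTransparency false
set_option linter.style.haveILetI false
universe u
open scoped TensorProduct
open Desc

namespace Groth.Agent.S1156

/-- Exactness of the extended Amitsur complex in degree 0 (injectivity in degree −1 being standard). Let
R → A be faithfully flat and M an R-module. An element x of A ⊗_R M with 1 ⊗ x = (a ⊗ m ↦ a ⊗ 1 ⊗
m)(x) in A ⊗_R A ⊗_R M lies in the image of m ↦ 1 ⊗ m. -/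
theorem result (R A : Type u) [CommRing R] [CommRing A] [Algebra R A] [Module.FaithfullyFlat R A]
    (M : Type u) [AddCommGroup M] [Module R M] (x : A ⊗[R] M)
    (hx : TensorProduct.mk R A (A ⊗[R] M) 1 x = LinearMap.lTensor A (TensorProduct.mk R A M 1) x) :
    x ∈ LinearMap.range (TensorProduct.mk R A M 1) := by
  obtain ⟨m, hm⟩ := Groth.L19.AmitsurLow.exists_eq_one_tmul R A x hx
  exact ⟨m, hm⟩

end Groth.Agent.S1156
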