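import Groth.Prelude.Def_Pic
import Groth.Prelude.Def_PicF2
import Mathlib.FieldTheory.Galois.Basic
import Mathlib.AlgebraicGeometry.Pullbacks
import Groth.Agent.L02.RigidDesc.KernelPair
import Groth.Agent.L02.RigidDesc.FibreTriv
import Groth.Agent.L02.RigidDesc.GaloisTensor
import Mathlib.AlgebraicGeometry.Morphisms.Flat

set_option autoImplicit false
set_option linter.style.haveILetI false
namespace PicF
end PicF
open CategoryTheory CategoryTheory.Limits AlgebraicGeometry Opposite
universe u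
open PicF

namespace Groth.Agent.S1157

/-- The descent statement only; injectivity of pullback on Picard groups and continuity of the Galois
action are not asserted: Let X be quasi-compact and quasi-separated over a field k, with ring of
global functions k itself and with a k-rational point, and let k'/k be a Galois extension. Then
every isomorphism class of invertible modules on X ×_k Spec k' which is fixed by all the
automorphisms id_X × Spec σ, σ ∈ Gal(k'/k), is the pullback of the class of an invertible module on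
X. -/
theorem result (k : Type u) [Field k] (X : Scheme.{u}) (f : X ⟶ Spec (CommRingCat.of k))
    [CompactSpace X] [QuasiSeparatedSpace X] (hH0 : IsIso f.appTop)
    (x : Spec (CommRingCat.of k) ⟶ X) (hx : x ≫ f = 𝟙 _)
    (k' : Type u) [Field k'] [Algebra k k'] [IsGalois k k']
    (d : PicF.Cl (pullback f (Spec.map (CommRingCat.ofHom (algebraMap k k'))))) (hd : PicF.IsInvertibleCl d)
    (hfix : ∀ σ : k' ≃ₐ[k] k', PicF.pullCl (PicF2.twistAut f σ) d = d) :
    ∃ c : PicF.Cl X, PicF.IsInvertibleCl c ∧ PicF.pullCl (pullback.fst f (Spec.map (CommRingCat.ofHom (algebraMap k k')))) c = d := by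
  classical
  let g : Spec (CommRingCat.of k') ⟶ Spec (CommRingCat.of k) := Spec.map (CommRingCat.ofHom (algebraMap k k'))
  haveI : QuasiCompact f := (quasiCompact_iff_compactSpace f).2 inferInstance
  haveI : QuasiSeparated f := (quasiSeparated_iff_quasiSeparatedSpace f).2 inferInstance
  haveI : Flat g := (HasRingHomProperty.Spec_iff (P := @Flat)).2 (RingHom.Flat.of_isField (Field.toIsField k) _)
  haveI : Surjective g := ⟨fun y => ⟨IsLocalRing.closedPoint k', Subsingleton.elim _ _⟩⟩
  have hf : ∀ U : (Spec (CommRingCat.of k)).Opens, Function.Bijective (f.app U) := fun U => by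
    by_cases hU : ∀ y, y ∉ U
    · have hU' : U = ⊥ := le_bot_iff.1 fun y hy => (hU y hy).elim
      subst hU'
      haveI := Groth.L21.Extend.subsingleton_bot (Coh.structureModule (Spec (CommRingCat.of k))) (V := ⊥)
        fun y hy => hy
      haveI := Groth.L21.Extend.subsingleton_bot (Coh.structureModule X) (V := f ⁻¹ᵁ ⊥) fun y hy => hy
      exact ⟨fun a b _ => Subsingleton.elim (α := Γ(Coh.structureModule (Spec (CommRingCat.of k)), ⊥)) a b,
        fun b => ⟨0, Subsingleton.elim (α := Γ(Coh.structureModule X, f ⁻¹ᵁ ⊥)) _ _⟩⟩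
    · push_neg at hU
      obtain ⟨y, hy⟩ := hU
      have hU' : U = ⊤ := top_le_iff.1 fun z _ => Subsingleton.elim y z ▸ hy
      subst hU'
      haveI := hH0
      exact ConcreteCategory.bijective_of_isIso f.appTop
  obtain ⟨L', rfl, hL'⟩ := hd
  let X' := pullback f g
  let q : pullback g g ⟶ Spec (CommRingCat.of k) := pullback.fst g g ≫ g
  let g' := pullback.fst f g
  let p' := pullback.snd f g
  let h₁ : pullback f q ⟶ pullback f g := pullback.map f (pullback.fst g g ≫ g) f g (𝟙 X) (pullback.fst g g) (𝟙 _)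
    ((Category.comp_id f).trans (Category.id_comp f).symm) (Category.comp_id _)
  let h₂ : pullback f q ⟶ pullback f g := pullback.map f (pullback.fst g g ≫ g) f g (𝟙 X) (pullback.snd g g) (𝟙 _)
    ((Category.comp_id f).trans (Category.id_comp f).symm) ((Category.comp_id _).trans pullback.condition)
  let pP : pullback f q ⟶ pullback g g := pullback.snd f q
  have hh₂ : PicF.IsInvertibleCl (PicF.pullCl h₂ (PicF.cl L')) :=
    ⟨_, rfl, Groth.L18.Ample.isInvertible_pullback h₂ hL'⟩
  obtain ⟨_, ⟨I, rfl, hI⟩, hI1⟩ := Groth.L02.PicGrpObj.exists_inverseCl hh₂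
  let δ := CohB1.tensorMod ((Scheme.Modules.pullback h₁).obj L') I
  have hδ : PicF.IsInvertible δ :=
    Groth.L18.GenLoc.isInvertible_tensor (Groth.L18.Ample.isInvertible_pullback h₁ hL') hI
  haveI : IsReduced (TensorProduct k k' k') := Groth.L02.RigidDesc.isReduced_tensor k k'
  haveI : Ring.KrullDimLE 0 (TensorProduct k k' k') := Groth.L02.RigidDesc.krullDimLE_tensor k k'
  let E : pullback g g ≅ Spec (CommRingCat.of (TensorProduct k k' k')) := pullbackSpecIso k k' k'
  haveI : IsAffine (pullback g g) := IsAffine.of_isIso E.hom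
  haveI : T2Space (Spec (CommRingCat.of (TensorProduct k k' k'))) := Groth.L02.RigidDesc.t2Space_of_dimZero _
  haveI : T2Space ↥(pullback g g) := (Scheme.homeoOfIso E).symm.t2Space
  have hpP : ∀ U, Function.Bijective (pP.app U) :=
    Groth.L02.RigidDesc.bijective_app_of_flat (IsPullback.of_hasPullback f q) hf
  obtain ⟨N, hN, ⟨eN⟩⟩ := Groth.L02.RigidDesc.exists_of_fibres pP hpP δ hδ fun t => by
    obtain ⟨y, rfl⟩ : ∃ y, E.inv y = t := E.inv.surjective t
    haveI : y.asIdeal.IsMaximal := y.isPrime.isMaximal'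
    letI := Ideal.Quotient.field y.asIdeal
    let K := TensorProduct k k' k' ⧸ y.asIdeal
    let φ₀ : Spec (CommRingCat.of K) ⟶ Spec (CommRingCat.of (TensorProduct k k' k')) :=
      Spec.map (CommRingCat.ofHom (Ideal.Quotient.mk y.asIdeal))
    haveI : Flat φ₀ := (HasRingHomProperty.Spec_iff (P := @Flat)).2
      (Groth.L02.RigidDesc.flat_of_isReduced_dimZero (TensorProduct k k' k') K)
    let φ : Spec (CommRingCat.of K) ⟶ pullback g g := φ₀ ≫ E.inv
    refine ⟨K, inferInstance, φ, inferInstance, ⟨IsLocalRing.closedPoint K, ?_⟩, ?_⟩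
    · show E.inv (φ₀ (IsLocalRing.closedPoint K)) = E.inv y
      refine congrArg E.inv (PrimeSpectrum.ext ?_)
      show Ideal.comap (Ideal.Quotient.mk y.asIdeal) (IsLocalRing.maximalIdeal K) = y.asIdeal
      rw [IsLocalRing.maximalIdeal_eq_bot]
      exact Ideal.mk_ker
    obtain ⟨σ, hσ⟩ := Groth.L02.RigidDesc.exists_aut k k' y.asIdeal
    have hg : φ ≫ pullback.snd g g = φ ≫ pullback.fst g g ≫ Spec.map (CommRingCat.ofHom (σ : k' →+* k')) := by
      show (φ₀ ≫ (pullbackSpecIso k k' k').inv) ≫ pullback.snd _ _ =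
        (φ₀ ≫ (pullbackSpecIso k k' k').inv) ≫ pullback.fst _ _ ≫ _
      rw [Category.assoc, Category.assoc, pullbackSpecIso_inv_snd, pullbackSpecIso_inv_fst_assoc]
      simp only [φ₀, ← Spec.map_comp, ← CommRingCat.ofHom_comp]
      exact congrArg (fun l => Spec.map (CommRingCat.ofHom l)) (RingHom.ext hσ)
    let a := pullback.fst pP φ ≫ h₁
    let b := pullback.fst pP φ ≫ h₂
    have hw : pullback.fst pP φ ≫ pP = pullback.snd pP φ ≫ φ := pullback.condition
    have tw₁ : PicF2.twistAut f σ ≫ g' = g' := (pullback.lift_fst _ _ _).trans (Category.comp_id _)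
    have tw₂ : PicF2.twistAut f σ ≫ p' = p' ≫ Spec.map (CommRingCat.ofHom (σ : k' →+* k')) := pullback.lift_snd _ _ _
    have hf₁ : h₁ ≫ g' = pullback.fst f q := (pullback.lift_fst _ _ _).trans (Category.comp_id _)
    have hf₂ : h₂ ≫ g' = pullback.fst f q := (pullback.lift_fst _ _ _).trans (Category.comp_id _)
    have hp₁ : h₁ ≫ p' = pP ≫ pullback.fst g g := pullback.lift_snd _ _ _
    have hp₂ : h₂ ≫ p' = pP ≫ pullback.snd g g := pullback.lift_snd _ _ _
    have e₁ : b ≫ g' = (a ≫ PicF2.twistAut f σ) ≫ g' :=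
      (Category.assoc _ _ _).trans ((congrArg (pullback.fst pP φ ≫ ·) (hf₂.trans hf₁.symm)).trans
        ((Category.assoc _ _ _).symm.trans ((congrArg (a ≫ ·) tw₁.symm).trans (Category.assoc _ _ _).symm)))
    have e₂ : b ≫ p' = (a ≫ PicF2.twistAut f σ) ≫ p' :=
      (Category.assoc _ _ _).trans ((congrArg (pullback.fst pP φ ≫ ·) hp₂).trans
        ((Category.assoc _ _ _).symm.trans ((congrArg (· ≫ pullback.snd g g) hw).trans
        ((Category.assoc _ _ _).trans ((congrArg (pullback.snd pP φ ≫ ·) hg).trans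
        ((Category.assoc _ _ _).symm.trans ((congrArg (· ≫ pullback.fst g g ≫ _) hw.symm).trans
        ((Category.assoc _ _ _).trans ((congrArg (pullback.fst pP φ ≫ ·) ((Category.assoc _ _ _).symm.trans
          ((congrArg (· ≫ _) hp₁.symm).trans (Category.assoc _ _ _)))).trans
        ((Category.assoc _ _ _).symm.trans ((congrArg (a ≫ ·) tw₂.symm).trans (Category.assoc _ _ _).symm)))))))))))
    have hb : b = a ≫ PicF2.twistAut f σ := pullback.hom_ext e₁ e₂
    refine (PicGrp.cl_eq_cl_iff _ _).1 ?_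
    show PicF.pullCl (pullback.fst pP φ) (PicGrp.mulCl (PicF.pullCl h₁ (PicF.cl L')) (PicF.cl I)) =
      Groth.Agent.AbDualLib.oneCl _
    have hab : PicF.pullCl (pullback.fst pP φ) (PicF.pullCl h₁ (PicF.cl L')) =
        PicF.pullCl (pullback.fst pP φ) (PicF.pullCl h₂ (PicF.cl L')) :=
      (PicLoc.pullCl_comp _ _ _).symm.trans (((congrArg (PicF.pullCl a) (hfix σ)).symm.trans
        (PicLoc.pullCl_comp a _ _).symm).trans ((congrArg (fun l => PicF.pullCl l (PicF.cl L')) hb.symm).trans
          (PicLoc.pullCl_comp _ h₂ _)))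
    rw [Groth.Agent.AbDualLib.pullCl_mulCl, hab, ← Groth.Agent.AbDualLib.pullCl_mulCl, hI1,
      Groth.Agent.AbDualLib.pullCl_oneCl]
  have hcl : PicF.pullCl h₁ (PicF.cl L') =
      PicGrp.mulCl (PicF.pullCl h₂ (PicF.cl L')) (PicF.pullCl pP (PicF.cl N)) := by
    rw [show PicF.pullCl pP (PicF.cl N) = PicF.cl δ from ((PicGrp.cl_eq_cl_iff _ _).2 ⟨eN⟩).symm]
    show _ = PicGrp.mulCl _ (PicGrp.mulCl (PicF.pullCl h₁ (PicF.cl L')) (PicF.cl I))
    rw [← Groth.Agent.AbDualLib.mulCl_assoc, Groth.Agent.AbDualLib.mulCl_comm (PicF.pullCl h₂ _),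
      Groth.Agent.AbDualLib.mulCl_assoc, hI1, Groth.Agent.AbDualLib.mul_oneCl]
  obtain ⟨L, N', hL, hN', ⟨e⟩⟩ := Groth.L02.RigidDesc.exists_of_kernelPair f hf x hx g L' hL' N hcl
  refine ⟨PicF.cl L, ⟨L, rfl, hL⟩, ?_⟩
  have h1 : PicF.cl N' = Groth.Agent.AbDualLib.oneCl _ := by
    haveI : Subsingleton ↥(Spec (CommRingCat.of k')) := inferInstanceAs (Subsingleton (PrimeSpectrum k'))
    exact Groth.Agent.AbDualLib.eq_oneCl_of_subsingleton ⟨N', rfl, hN'⟩
  rw [show PicF.cl L' = PicGrp.mulCl (PicF.pullCl g' (PicF.cl L)) (PicF.pullCl p' (PicF.cl N')) from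
    (PicGrp.cl_eq_cl_iff _ _).2 ⟨e⟩, h1, Groth.Agent.AbDualLib.pullCl_oneCl, Groth.Agent.AbDualLib.mul_oneCl]

end Groth.Agent.S1157
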