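import Groth.Statements.S1162
import Groth.Agent.L07.EquidimQF
import Mathlib.AlgebraicGeometry.Morphisms.UniversallyOpen
import Mathlib.AlgebraicGeometry.Morphisms.UniversallyInjective

set_option autoImplicit false
open CategoryTheory CategoryTheory.Limits AlgebraicGeometry Opposite
universe u
open Desc

namespace Groth.Agent.S1162

/-- Let f : X ⟶ Y be flat and separated. Write X⁰ for the generic points of the irreducible components
of X. If for every ξ in X⁰ the residue field extension κ(f ξ) ⊆ κ(ξ) is trivial and f is injective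
on X⁰, then f is universally injective. -/
theorem result {X Y : Scheme.{u}} (f : X ⟶ Y) [Flat f] [IsSeparated f]
    (h2 : ∀ ξ : X, closure ({ξ} : Set X) ∈ irreducibleComponents (X : Type u) →
      Function.Surjective (f.residueFieldMap ξ).hom)
    (h3 : Set.InjOn f.base {ξ : X | closure ({ξ} : Set X) ∈ irreducibleComponents (X : Type u)}) :
    UniversallyInjective f := by
  rw [UniversallyInjective.iff_diagonal]
  let d := pullback.diagonal f
  let p₁ := pullback.fst f f
  let p₂ := pullback.snd f f
  have hd : IsClosed (Set.range d) := d.isClosedEmbedding.isClosed_range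
  refine ⟨fun z => ?_⟩
  have hz : z ∈ irreducibleComponent z := mem_irreducibleComponent
  obtain ⟨η, hη⟩ := QuasiSober.sober (isIrreducible_irreducibleComponent (x := z)) isClosed_irreducibleComponent
  suffices hη' : η ∈ Set.range d by
    refine hd.closure_subset_iff.2 (Set.singleton_subset_iff.2 hη') ?_
    rw [hη]; exact hz
  have hmax : ∀ w, w ⤳ η → w = η := (Groth.L07.EquidimQF.closure_singleton_mem_irreducibleComponents_iff η).1
    (hη ▸ irreducibleComponent_mem_irreducibleComponents z)
  have hgen : ∀ (g : pullback f f ⟶ X) [Flat g], closure ({g η} : Set X) ∈ irreducibleComponents (X : Type u) := by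
    intro g _
    refine (Groth.L07.EquidimQF.closure_singleton_mem_irreducibleComponents_iff _).2 fun q hq => ?_
    obtain ⟨w, hw, rfl⟩ := Flat.generalizingMap g hq
    rw [hmax w hw]
  have heq : p₁ η = p₂ η := h3 (hgen p₁) (hgen p₂) (congrArg (fun k : pullback f f ⟶ Y => k η) pullback.condition)
  -- the two points over the residue field of `η`
  let K := (pullback f f).residueField η
  let a : Spec K ⟶ X := (pullback f f).fromSpecResidueField η ≫ p₁
  let b : Spec K ⟶ X := (pullback f f).fromSpecResidueField η ≫ p₂
  have hab : a = b := by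
    let E := Scheme.SpecToEquivOfField K X
    have ha : a = E.symm ⟨p₁ η, p₁.residueFieldMap η⟩ := (p₁.SpecMap_residueFieldMap_fromSpecResidueField η).symm
    have hb : b = E.symm ⟨p₁ η, (X.residueFieldCongr heq).hom ≫ p₂.residueFieldMap η⟩ := by
      show _ = Spec.map ((X.residueFieldCongr heq).hom ≫ p₂.residueFieldMap η) ≫ X.fromSpecResidueField (p₁ η)
      rw [Spec.map_comp, Category.assoc, Scheme.residueFieldCongr_fromSpecResidueField]
      exact (p₂.SpecMap_residueFieldMap_fromSpecResidueField η).symm
    have hw : a ≫ f = b ≫ f := by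
      simp only [a, b, p₁, p₂, Category.assoc, pullback.condition]
    rw [ha, hb] at hw ⊢
    have hw' : f.residueFieldMap (p₁ η) ≫ p₁.residueFieldMap η =
        f.residueFieldMap (p₁ η) ≫ (X.residueFieldCongr heq).hom ≫ p₂.residueFieldMap η := by
      let E' := Scheme.SpecToEquivOfField K Y
      have h : ∀ φ : X.residueField (p₁ η) ⟶ K, E.symm ⟨p₁ η, φ⟩ ≫ f = E'.symm ⟨f (p₁ η), f.residueFieldMap (p₁ η) ≫ φ⟩ := fun φ => by
        show (Spec.map φ ≫ X.fromSpecResidueField (p₁ η)) ≫ f = Spec.map (f.residueFieldMap (p₁ η) ≫ φ) ≫ _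
        rw [Spec.map_comp, Category.assoc, Category.assoc, f.SpecMap_residueFieldMap_fromSpecResidueField]
      rw [h, h] at hw
      exact eq_of_heq (Sigma.mk.inj_iff.1 (E'.symm.injective hw)).2
    have : p₁.residueFieldMap η = (X.residueFieldCongr heq).hom ≫ p₂.residueFieldMap η := by
      ext r
      obtain ⟨s, rfl⟩ := h2 (p₁ η) (hgen p₁) r
      exact congrArg (fun g => g.hom s) hw'
    rw [this]
  have hfac : a ≫ d = (pullback f f).fromSpecResidueField η := by
    refine pullback.hom_ext ?_ ?_
    · rw [Category.assoc, pullback.diagonal_fst, Category.comp_id]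
    · rw [Category.assoc, pullback.diagonal_snd, Category.comp_id, hab]
  refine ⟨a default, ?_⟩
  rw [← Scheme.Hom.comp_apply, hfac]
  exact Scheme.fromSpecResidueField_apply _ _

end Groth.Agent.S1162
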