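import Groth.Prelude.Def_HilbD
import Groth.Prelude.Def_Curve
import Mathlib.AlgebraicGeometry.Morphisms.Smooth
import Mathlib.AlgebraicGeometry.Morphisms.Separated
import Mathlib.AlgebraicGeometry.Morphisms.ClosedImmersion
import Mathlib.AlgebraicGeometry.Morphisms.Proper
import Groth.Agent.L02.Hilb.Repr

set_option autoImplicit false
set_option linter.style.haveILetI false
namespace CAlg
end CAlg
open CategoryTheory CategoryTheory.Limits AlgebraicGeometry
universe u
open HilbD

namespace Groth.Agent.S1165

/-- Let X ⟶ S be a morphism of affine schemes and d a natural number. Then the functor sending an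
S-scheme T to the closed subschemes of X ×_S T that are finite locally free of degree d over T is
representable: there is an S-scheme carrying a universal such closed subscheme. -/
theorem result {X S : Scheme.{u}} [IsAffine X] [IsAffine S] (f : X ⟶ S) (d : ℕ) :
    HilbD.Representable f d := by
  letI : Algebra Γ(S, ⊤) Γ(X, ⊤) := f.appTop.hom.toAlgebra
  haveI : IsAffineHom f := isAffineHom_of_isAffine f
  let c : Groth.L02.Hilb.Chart f d :=
    { R := Γ(S, ⊤), B := Γ(X, ⊤), i := S.isoSpec.inv, j := X.isoSpec.inv
      w := by
        show X.isoSpec.inv ≫ f = Spec.map f.appTop ≫ S.isoSpec.inv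
        exact (Scheme.isoSpec_inv_naturality f).symm
      s := fun _ => 0 }
  exact Groth.L02.Hilb.representable_of_charts (ι₀ := PUnit) (fun _ => c) fun T x y =>
    ⟨PUnit.unit, ⟨S.isoSpec.hom (T.hom y), by simp [c]⟩, fun w _ => ⟨X.isoSpec.hom ((x.1.subschemeι ≫ pullback.fst f T.hom) w), by simp [c]⟩⟩

end Groth.Agent.S1165
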