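import Groth.Statements.S1170
import Groth.Agent.L26.HilbCurve.Proper
import Groth.Agent.L26.PicRep.Curve
import Groth.Agent.S1169

set_option autoImplicit false
open CategoryTheory CategoryTheory.Limits AlgebraicGeometry
universe u
open HilbD

namespace Groth.Agent.S1170

/-- Let X be a smooth proper curve over a field k which stays irreducible after every extension of the
base field. Then for every d the degree-d Hilbert functor of points of X over k is represented by a
scheme which is proper and smooth over k. The published statement has projective in place of proper
(the two agree for curves over a field) and also asserts that the representing scheme is irreducible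
of dimension d, which is not asserted here. -/
theorem result (k : Type u) [Field k] (X : Scheme.{u}) (f : X ⟶ Spec (CommRingCat.of k))
    (hX : Curve.IsSmoothProperCurve k X f) [GeometricallyIrreducible f] (d : ℕ) :
    ∃ (H : Over (Spec (CommRingCat.of k))) (Z : HilbD.Obj f d H), HilbD.IsUniversal f d H Z ∧ IsProper H.hom ∧ Smooth H.hom := by
  letI : X.Over (Spec (CommRingCat.of k)) := ⟨f⟩
  obtain ⟨hp, hsm, hint, hd⟩ := hX
  haveI : IsProper (X ↘ Spec (CommRingCat.of k)) := hp
  haveI := hint
  haveI := hsm
  haveI := hp
  haveI : SmoothOfRelativeDimension 1 f := Groth.L21.SmoothCurve.smoothOfRelativeDimension_one f hd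
  have hrep : ∀ e : ℕ, HilbD.Representable f e := fun e =>
    Groth.Agent.S1166.result f e fun s x _ => Groth.Agent.L26.PicRep.exists_affine_tuple k hd x
  obtain ⟨H, Z, hZ⟩ := hrep d
  exact ⟨H, Z, hZ, Groth.Agent.L26.HilbCurve.isProper_of_isUniversal f hrep d H Z hZ,
    Groth.Agent.S1169.result f hrep d H Z hZ⟩

end Groth.Agent.S1170
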