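import Groth.Statements.S1176
import Groth.Agent.L23.EtRpush.Main

set_option autoImplicit false
open CategoryTheory CategoryTheory.Limits AlgebraicGeometry Opposite
universe u
open Desc

namespace Groth.Agent.S1176

/-- Let f : T ⟶ S be quasi-compact and quasi-separated and F a quasi-coherent O_T-module. Let G be an
etale abelian sheaf associated to F on T and G' one associated to the Zariski higher direct image
R^i f_* F on S (the latter computed assuming the category of O_T-modules has injective resolutions,
which holds but is carried as an instance hypothesis). Then R^i f_* G, the etale higher direct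
image, is isomorphic to G'. -/
theorem result {T S : Scheme.{u}} (f : T ⟶ S) [QuasiCompact f] [QuasiSeparated f]
    [HasInjectiveResolutions T.Modules] (F : T.Modules) [F.IsQuasicoherent] (i : ℕ)
    (G : EtCoh.Ab T) (hG : EtAssoc.IsAssoc F G) (G' : EtCoh.Ab S) (hG' : EtAssoc.IsAssoc ((Coh.Rpush f i).obj F) G') :
    Nonempty ((EtCoh.Rpush f i).obj G ≅ G') := by
  exact Groth.L23.EtRpush.nonempty_Rpush_iso f i G hG G' hG'

end Groth.Agent.S1176
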