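import Groth.Statements.S1944
import Groth.Agent.L22.Bundle.Gather
import Groth.Agent.L22.Bundle.Span
-- import your own Groth.Agent.* helpers here

set_option autoImplicit false
universe u
open CategoryTheory AlgebraicGeometry
open Cyc

namespace Groth.Agent.S1944

/-- Let f : X → Y be flat, locally of finite type, of relative dimension r, such that every point of Y
has an open neighbourhood U over which f⁻¹(U) → U is isomorphic to affine r-space 𝔸^r_U → U. Then
f^* : CH_k(Y) → CH_{k+r}(X) is surjective: every (k + r)-cycle on X is rationally equivalent to the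
flat pullback (taken coefficientwise) of some k-cycle on Y. A pair (X, δ) with Cyc.IsSetup plays the
role of a scheme locally of finite type over a fixed base with a dimension function (X locally
Noetherian with universally catenary local rings, δ a dimension function), and Cyc.DeltaCompat
records that the dimension function upstairs is the induced one. -/
theorem result (X Y : Scheme.{u}) (δX : X → ℤ) (δY : Y → ℤ) (hX : Cyc.IsSetup X δX) (hY : Cyc.IsSetup Y δY) (f : X ⟶ Y) [Flat f] [LocallyOfFiniteType f] (r : ℕ) (hr : Cyc.HasRelDim f r) (hδ : Cyc.DeltaCompat f δX δY) (hloc : ∀ y : Y, ∃ U : Y.Opens, y ∈ U ∧ ∃ e : (↑(f ⁻¹ᵁ U) : Scheme.{u}) ≅ 𝔸(ULift.{u} (Fin r); (↑U : Scheme.{u})), e.hom ≫ (𝔸(ULift.{u} (Fin r); (↑U : Scheme.{u})) ↘ (↑U : Scheme.{u})) = f ∣_ U) (k : ℤ) (β : AlgebraicCycle X ℤ) (hβ : β ∈ Cyc.Zk X δX (k + r)) : ∃ (α : AlgebraicCycle Y ℤ) (β' : AlgebraicCycle X ℤ), α ∈ Cyc.Zk Y δY k ∧ ⇑β' = Cyc.pullFun f δX δY r ⇑α ∧ Cyc.RatEquiv δX (k + r) β β' := by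
  haveI := hX.1
  haveI := hY.1
  have hdX := hX.2.2
  have hdY := hY.2.2
  have hloc' := Groth.L22.Bundle.locAffSpace_of_iso f r hloc
  have hfg := Groth.L22.Cyc.shift_of_deltaCompat f hr hδ
  have hqc := hloc'.quasiCompact_preimage
  choose g hg hmult hgg hgs using hloc'.exists_gen (δX := δX) hdX
  have hlow : ∀ z, δX z = k + r → k ≤ δY (f z) := fun z hz => by
    have := (hloc'.fibre hdX hdY hδ z).1
    omega
  suffices ∀ (m : ℕ) (B : AlgebraicCycle X ℤ), B ∈ Cyc.Zk X δX (k + r) →
      (∀ z, B z ≠ 0 → δY (f z) ≤ k + m) → ∃ (α : AlgebraicCycle Y ℤ) (B' : AlgebraicCycle X ℤ),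
        α ∈ Cyc.Zk Y δY k ∧ ⇑B' = Cyc.pullFun f δX δY r ⇑α ∧ Cyc.RatEquiv δX (k + r) B B' by
    refine this r β hβ fun z hz => ?_
    obtain ⟨n, -, hn⟩ := hδ z
    have : δX z = k + r := not_not.1 fun e => hz (hβ z e)
    omega
  intro m
  induction m with
  | zero =>
    intro B hB hs
    have hdim : ∀ z, B z ≠ 0 → δX z = δY (f z) + (r : ℤ) ∧ δY (f z) = k := fun z hz => by
      have h1 : δX z = k + r := not_not.1 fun e => hz (hB z e)
      have h2 := hs z hz
      have h3 := hlow z h1
      push_cast at h2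
      omega
    obtain ⟨α, hα⟩ := Groth.L22.C1.exists_cycle (fun y => if δY y = k then B (g y) else 0) fun y => by
      obtain ⟨V, hyV, hV⟩ := hqc y
      refine ⟨V, hyV, ((B.locallyFiniteSupport.finite_inter_support_of_isCompact hV).image fun z => f z).subset
        fun v hv => ?_⟩
      refine ⟨g v, ⟨show f (g v) ∈ V by rw [hg]; exact hv.2, ?_⟩, hg v⟩
      intro e
      exact hv.1 (by show (if δY v = k then B (g v) else 0) = 0; rw [show B (g v) = 0 from e]; simp)
    have hval : Cyc.pullFun f δX δY r ⇑α = ⇑B := by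
      rw [Groth.L22.Cyc.pullFun_eq' f hfg]
      funext z
      rw [hα]
      beta_reduce
      by_cases hgen : z = g (f z)
      · have hd : δX z = δY (f z) + r := by rw [hgen, hg]; have := hfg _ (hgg (f z)); rwa [hg] at this
        rw [show Groth.L22.Cyc.mult f z = 1 by rw [hgen]; exact hmult _]
        by_cases hk : δY (f z) = k
        · rw [if_pos hk, ← hgen]; simp
        · rw [if_neg hk, show B z = 0 from by_contra fun h => hk (hdim z h).2]; simp
      · rw [show B z = 0 from by_contra fun h =>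
          hgen ((hloc'.fibGen_of_top hdX hdY hδ (hdim z h).1) _ (hg (f z)) (hgs (f z) z rfl)).symm,
          Groth.L22.Cyc.mult_eq_top fun h => hgen (h _ (hg (f z)) (hgs (f z) z rfl)).symm]
        simp
    refine ⟨α, B, fun y hy => by rw [hα]; exact if_neg hy, hval.symm, ?_⟩
    show Cyc.RatEquivZero δX (k + r) (B - B)
    rw [sub_self]
    exact (Groth.L22.C1.ratOn_zero (S := Set.univ) fun _ => rfl).ratEquivZero _ rfl
  | succ m ih =>
    intro B hB hs
    obtain ⟨R, hR, hRd, hRhi⟩ := Groth.L22.Bundle.gather (δY := δY) hdX hdY hqc (K := k + r) (d := k + (m + 1 : ℕ)) B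
      fun z hz hd => by
        have h1 : δX z = k + r := not_not.1 fun e => hz (hB z e)
        have h2 := (hloc'.fibre hdX hdY hδ z).2 (by push_cast at hd; omega)
        rwa [h1] at h2
    have hB' : B - R ∈ Cyc.Zk X δX (k + r) := fun z hz => by
      rw [Function.locallyFinsuppWithin.coe_sub, Pi.sub_apply, hB z hz, Groth.L22.C1.ratEquivZero_mem_Zk hR z hz,
        sub_zero]
    obtain ⟨α, B', h1, h2, h3⟩ := ih (B - R) hB' fun z hz => by
      rw [Function.locallyFinsuppWithin.coe_sub, Pi.sub_apply] at hz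
      by_contra hgt
      rcases (show k + ((m + 1 : ℕ) : ℤ) ≤ δY (f z) by push_cast; omega).lt_or_eq with h | h
      · rw [hRhi z h, show B z = 0 from by_contra fun h' => by have := hs z h'; omega] at hz
        exact hz rfl
      · rw [hRd z h.symm, sub_self] at hz
        exact hz rfl
    refine ⟨α, B', h1, h2, ?_⟩
    show Cyc.RatEquivZero δX (k + r) (B - B')
    rw [show B - B' = B - R - B' + R by abel]
    exact Groth.L22.C1.ratEquivZero_add _ h3 hR

end Groth.Agent.S1944
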