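import Groth.Statements.S1191
import Groth.Agent.L20.FiberAss
import Mathlib.RingTheory.Ideal.AssociatedPrime.Finiteness

set_option autoImplicit false
universe u
open FlatMor

attribute [local instance] Algebra.TensorProduct.rightAlgebra

namespace Groth.Agent.S1191

open TensorProduct in
/-- For a finitely presented algebra S over R, a finitely presented S-module N and a prime q of S over
p, some element of S outside q maps into every associated prime of the fibre module of N over p that
is not contained in the extension of q to the fibre ring. -/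
theorem result {R S : Type u} [CommRing R] [CommRing S] [Algebra R S] [Algebra.FinitePresentation R S]
    (N : Type u) [AddCommGroup N] [Module S N] [Module R N] [IsScalarTower R S N] [Module.FinitePresentation S N]
    (p : Ideal R) [p.IsPrime] (q : Ideal S) [q.IsPrime] [q.LiesOver p] :
    ∃ g : S, g ∉ q ∧ ∀ r ∈ associatedPrimes (p.Fiber S) (FlatCA.fiberMod p S N),
      ¬ r ≤ FlatCA.fiberIdeal p q → (1 : p.ResidueField) ⊗ₜ[R] g ∈ r := by
  classical
  have : Algebra.FiniteType p.ResidueField (p.Fiber S) := Algebra.FiniteType.baseChange _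
  have : IsNoetherianRing (p.Fiber S) := Algebra.FiniteType.isNoetherianRing p.ResidueField _
  have : Module.Finite (p.Fiber S) (FlatCA.fiberMod p S N) :=
    inferInstanceAs (Module.Finite (p.Fiber S) ((p.Fiber S) ⊗[S] N))
  let incl := (Algebra.TensorProduct.includeRight (R := R) (A := p.ResidueField) (B := S)).toRingHom
  let F := (associatedPrimes.finite (p.Fiber S) (FlatCA.fiberMod p S N)).toFinset.filter
    (fun r => ¬ r ≤ FlatCA.fiberIdeal p q)
  have h : ∀ r ∈ F, ∃ s : S, s ∉ q ∧ incl s ∈ r := by
    intro r hr
    by_contra hc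
    push Not at hc
    refine (Finset.mem_filter.mp hr).2 ?_
    rw [← Groth.L20.fiberIdeal_comap p r]
    exact Ideal.map_mono fun s hs => by_contra fun hsq => hc s hsq hs
  choose s hs1 hs2 using h
  refine ⟨∏ r ∈ F.attach, s r.1 r.2, fun hmem => ?_, fun r hr hnle => ?_⟩
  · obtain ⟨r, -, hr⟩ := (Ideal.IsPrime.prod_mem_iff (p := q)).mp hmem
    exact hs1 r.1 r.2 hr
  · have hrF : r ∈ F := Finset.mem_filter.mpr ⟨(Set.Finite.mem_toFinset _).mpr hr, hnle⟩
    change incl _ ∈ r
    rw [map_prod, ← Finset.mul_prod_erase _ _ (Finset.mem_attach F ⟨r, hrF⟩)]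
    exact r.mul_mem_right _ (hs2 r hrF)

end Groth.Agent.S1191
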