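import Groth.Statements.S1193
import Groth.Agent.L20.FiberModule
import Mathlib.RingTheory.Ideal.AssociatedPrime.Finiteness
import Mathlib.RingTheory.Localization.Ideal

set_option autoImplicit false
universe u
open FlatMor

namespace Groth.Agent.S1193

open IsLocalRing in
/-- Let R be a local ring, S an R-algebra whose closed fibre ring is Noetherian and N an S-module whose
closed fibre module N/𝔪N is finite. Let Σ be the set of elements of S acting injectively on N/𝔪N.
Then a prime of S is disjoint from Σ exactly when it lies inside an associated prime of N/𝔪N (the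
primes of the localization at Σ), the localization of S at Σ has finitely many maximal ideals, and
an ideal of that localization is maximal exactly when it is prime and contracts to a maximal member
of the set of associated primes of N/𝔪N. -/
theorem result {R S : Type u} [CommRing R] [IsLocalRing R] [CommRing S] [Algebra R S]
    (N : Type u) [AddCommGroup N] [Module S N] [Module R N] [IsScalarTower R S N]
    [IsNoetherianRing ((maximalIdeal R).Fiber S)]
    [Module.Finite ((maximalIdeal R).Fiber S) (FlatCA.fiberMod (maximalIdeal R) S N)] :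
    (∀ (q : Ideal S) [q.IsPrime], Disjoint (q : Set S) (FlatCA.nzdFiber R S N) ↔
        ∃ q' ∈ associatedPrimes S (FlatCA.fiberMod (maximalIdeal R) S N), q ≤ q') ∧
    {Q : Ideal (Localization (FlatCA.nzdFiber R S N)) | Q.IsMaximal}.Finite ∧
    (∀ Q : Ideal (Localization (FlatCA.nzdFiber R S N)), Q.IsMaximal ↔ (Q.IsPrime ∧
        Maximal (fun r => r ∈ associatedPrimes S (FlatCA.fiberMod (maximalIdeal R) S N))
          (Q.comap (algebraMap S (Localization (FlatCA.nzdFiber R S N)))))) := by
  let m := maximalIdeal R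
  let M := FlatCA.fiberMod m S N
  let π : S →+* m.Fiber S := (Algebra.TensorProduct.includeRight (R := R) (A := m.ResidueField) (B := S)).toRingHom
  have hπ : Function.Surjective π := by
    intro x
    induction x using TensorProduct.induction_on with
    | zero => exact ⟨0, map_zero _⟩
    | add a b ha hb =>
      obtain ⟨u, rfl⟩ := ha
      obtain ⟨v, rfl⟩ := hb
      exact ⟨u + v, map_add _ _ _⟩
    | tmul a s =>
      obtain ⟨r, rfl⟩ := m.bijective_algebraMap_quotient_residueField.2 a
      obtain ⟨r, rfl⟩ := Ideal.Quotient.mk_surjective r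
      refine ⟨r • s, ?_⟩
      show (1 : m.ResidueField) ⊗ₜ[R] (r • s) = _
      rw [TensorProduct.tmul_smul, TensorProduct.smul_tmul', Algebra.smul_def, mul_one]
      rfl
  have hsmul : ∀ (s : S) (z : M), π s • z = s • z := by
    intro s z
    let _ : Algebra S (m.Fiber S) := Algebra.TensorProduct.rightAlgebra
    have : IsScalarTower S (m.Fiber S) M :=
      inferInstanceAs (IsScalarTower S (m.Fiber S) (TensorProduct S (m.Fiber S) N))
    exact algebraMap_smul (m.Fiber S) s z
  have hcolon : ∀ z : M, (((⊥ : Submodule (m.Fiber S) M).colon {z}).radical).comap π = ((⊥ : Submodule S M).colon {z}).radical := by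
    intro z
    ext s
    simp only [Ideal.mem_comap, Ideal.mem_radical_iff, Submodule.mem_colon_singleton, Submodule.mem_bot, ← map_pow, hsmul]
  have hass : ∀ q, q ∈ associatedPrimes S M ↔ ∃ Q ∈ associatedPrimes (m.Fiber S) M, Q.comap π = q := by
    intro q
    constructor
    · rintro ⟨hq, z, hz⟩
      refine ⟨((⊥ : Submodule (m.Fiber S) M).colon {z}).radical, ⟨?_, z, rfl⟩, by rw [hz]; exact hcolon z⟩
      have hk : RingHom.ker π ≤ q := by
        rw [hz, ← hcolon]
        exact fun s hs => by rw [Ideal.mem_comap, show π s = 0 from hs]; exact zero_mem _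
      rw [← Ideal.map_comap_of_surjective π hπ (((⊥ : Submodule (m.Fiber S) M).colon {z}).radical), hcolon, ← hz]
      exact Ideal.map_isPrime_of_surjective hπ hk
    · rintro ⟨Q, ⟨hQ, z, rfl⟩, rfl⟩
      exact ⟨Ideal.comap_isPrime π _, z, hcolon z⟩
  have hfin : (associatedPrimes S M).Finite :=
    Set.Finite.subset ((associatedPrimes.finite (m.Fiber S) M).image (Ideal.comap π)) fun q hq => (hass q).mp hq
  have hzero : ∀ s : S, s ∉ FlatCA.nzdFiber R S N ↔ ∃ q ∈ associatedPrimes S M, s ∈ q := by
    intro s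
    have h := biUnion_associatedPrimes_eq_zero_divisors (m.Fiber S) M
    rw [mem_nonZeroSMulDivisors_iff]
    constructor
    · intro hs
      push Not at hs
      obtain ⟨z, hz, hz0⟩ := hs
      obtain ⟨Q, hQ, hsQ⟩ := Set.mem_iUnion₂.mp
        (h.ge (show π s ∈ {r : m.Fiber S | ∃ x : M, x ≠ 0 ∧ r • x = 0} from ⟨z, hz0, by rw [hsmul]; exact hz⟩))
      exact ⟨Q.comap π, (hass _).mpr ⟨Q, hQ, rfl⟩, hsQ⟩
    · rintro ⟨q, hq, hsq⟩ hs
      obtain ⟨Q, hQ, rfl⟩ := (hass q).mp hq
      obtain ⟨z, hz0, hz⟩ := h.le (Set.mem_iUnion₂.mpr ⟨Q, hQ, hsq⟩ : π s ∈ _)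
      exact hz0 (hs z (by rw [← hsmul]; exact hz))
  have hdis : ∀ (q : Ideal S), q.IsPrime → (Disjoint (q : Set S) (FlatCA.nzdFiber R S N) ↔
      ∃ q' ∈ associatedPrimes S M, q ≤ q') := by
    intro q _
    constructor
    · intro hd
      have hsub : (q : Set S) ⊆ ⋃ q' ∈ (hfin.toFinset : Set (Ideal S)), (q' : Set S) := by
        intro s hs
        obtain ⟨q', hq', hsq'⟩ := (hzero s).mp (Set.disjoint_left.mp hd hs)
        exact Set.mem_iUnion₂.mpr ⟨q', hfin.mem_toFinset.mpr hq', hsq'⟩
      obtain ⟨q', hq', hle⟩ := (Ideal.subset_union_prime ⊤ ⊤ fun q' hq' _ _ => (hfin.mem_toFinset.mp hq').isPrime).mp hsub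
      exact ⟨q', hfin.mem_toFinset.mp hq', hle⟩
    · rintro ⟨q', hq', hle⟩
      exact Set.disjoint_left.mpr fun s hs hsn => (hzero s).mpr ⟨q', hq', hle hs⟩ hsn
  let T := FlatCA.nzdFiber R S N
  let L := Localization T
  have hmax : ∀ Q : Ideal L, Q.IsMaximal ↔ (Q.IsPrime ∧
      Maximal (fun r => r ∈ associatedPrimes S M) (Q.comap (algebraMap S L))) := by
    intro Q
    constructor
    · intro hQ
      refine ⟨hQ.isPrime, ?_⟩
      obtain ⟨hp, hd⟩ := (IsLocalization.isPrime_iff_isPrime_disjoint T L Q).mp hQ.isPrime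
      obtain ⟨q', hq', hle⟩ := (hdis _ hp).mp hd.symm
      have hd' : Disjoint (T : Set S) q' := ((hdis q' hq'.isPrime).mpr ⟨q', hq', le_rfl⟩).symm
      have h2 : Q ≤ q'.map (algebraMap S L) := by
        rw [← IsLocalization.map_under T L Q]; exact Ideal.map_mono hle
      have h3 := IsLocalization.isPrime_of_isPrime_disjoint T L q' hq'.isPrime hd'
      have h4 : Q.comap (algebraMap S L) = q' := by
        rw [hQ.eq_of_le h3.ne_top h2]
        exact IsLocalization.under_map_of_isPrime_disjoint T L hq'.isPrime hd'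
      refine ⟨h4 ▸ hq', fun r hr hle' => ?_⟩
      have hr' : Disjoint (T : Set S) r := ((hdis r hr.isPrime).mpr ⟨r, hr, le_rfl⟩).symm
      have h5 : Q ≤ r.map (algebraMap S L) := by
        rw [← IsLocalization.map_under T L Q]; exact Ideal.map_mono hle'
      have h6 := IsLocalization.isPrime_of_isPrime_disjoint T L r hr.isPrime hr'
      rw [hQ.eq_of_le h6.ne_top h5]
      exact (IsLocalization.under_map_of_isPrime_disjoint T L hr.isPrime hr').ge
    · rintro ⟨hQp, hQm⟩
      refine ⟨⟨hQp.ne_top, fun J hJ => ?_⟩⟩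
      by_contra hJt
      obtain ⟨K, hK, hJK⟩ := Ideal.exists_le_maximal J hJt
      obtain ⟨hp, hd⟩ := (IsLocalization.isPrime_iff_isPrime_disjoint T L K).mp hK.isPrime
      obtain ⟨q', hq', hle⟩ := (hdis _ hp).mp hd.symm
      have h1 : Q.comap (algebraMap S L) ≤ q' := (Ideal.comap_mono (hJ.le.trans hJK)).trans hle
      have h2 : K.comap (algebraMap S L) ≤ Q.comap (algebraMap S L) := hle.trans (hQm.2 hq' h1)
      have h3 : K ≤ Q := by
        rw [← IsLocalization.map_under T L K, ← IsLocalization.map_under T L Q]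
        exact Ideal.map_mono h2
      exact hJ.not_ge (hJK.trans h3)
  refine ⟨fun q hq => hdis q hq, Set.Finite.of_finite_image (f := Ideal.comap (algebraMap S L)) (Set.Finite.subset hfin ?_) ?_, hmax⟩
  · rintro _ ⟨Q, hQ, rfl⟩
    exact ((hmax Q).mp hQ).2.1
  · intro Q₁ _ Q₂ _ h
    rw [← IsLocalization.map_under T L Q₁, ← IsLocalization.map_under T L Q₂]
    exact congrArg _ h

end Groth.Agent.S1193
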