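import Groth.Statements.S1194
import Groth.Agent.L20.RG.EssFpToFt
import Groth.Agent.L20.RG.PureSpread

set_option autoImplicit false
universe u
open FlatMor

set_option backward.isDefEq.respectTransparency.types false
open TensorProduct
namespace Groth.Agent.S1194

open IsLocalRing in
/-- Let R → S be a local homomorphism of local rings which is essentially of finite presentation, and N
a finitely presented S-module flat over R. Then multiplication by any element of S acting
injectively on N/𝔪_R N is a universally injective map of R-modules on N, and the localization map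
from N to its localization at all such elements is universally injective over R. -/
theorem result {R S : Type u} [CommRing R] [IsLocalRing R] [CommRing S] [IsLocalRing S] [Algebra R S]
    [IsLocalHom (algebraMap R S)] (hS : FlatCA.EssFinitePresentation R S)
    (N : Type u) [AddCommGroup N] [Module S N] [Module R N] [IsScalarTower R S N] [Module.FinitePresentation S N] [Module.Flat R N] :
    (∀ s ∈ FlatCA.nzdFiber R S N, FlatCA.UnivInj R ((LinearMap.lsmul S N s).restrictScalars R)) ∧
    FlatCA.UnivInj R ((LocalizedModule.mkLinearMap (FlatCA.nzdFiber R S N) N).restrictScalars R) := by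
  classical
  have hinj : ∀ s ∈ FlatCA.nzdFiber R S N, ∀ (M : Type u) [AddCommGroup M] [Module R M] (z : N ⊗[R] M),
      s • z = 0 → z = 0 := by
    intro s hs M _ _ z hz
    by_contra hne
    obtain ⟨P, ⟨hP, y, hy⟩, hle⟩ := Groth.L20.RG.exists_ass_closedFibre_ge (Groth.L20.RG.essFiniteType_of_essFp hS) N hne
    have h1 : s ∈ P := hle (Groth.L03.WeakAss.mem_annE.2 hz)
    rw [hy] at h1
    obtain ⟨k, hk⟩ := h1
    rw [Submodule.mem_colon_singleton, Submodule.mem_bot] at hk
    refine hP.ne_top ((Ideal.eq_top_iff_one P).mpr (hy ▸ ⟨1, ?_⟩))
    rw [Submodule.mem_colon_singleton, Submodule.mem_bot, pow_one, one_smul]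
    clear hy
    induction k with
    | zero => simpa using hk
    | succ k ih =>
      rw [pow_succ', mul_smul] at hk
      exact ih ((mem_nonZeroSMulDivisors_iff.1 hs) _ hk)
  refine ⟨fun s hs => (Groth.L20.RG.univInj_iff_rTensor _).mpr fun M _ _ => (injective_iff_map_eq_zero _).mpr
    fun z hz => hinj s hs M z ?_, (Groth.L20.RG.univInj_iff_rTensor _).mpr fun M _ _ =>
    (injective_iff_map_eq_zero _).mpr fun z hz => ?_⟩
  · rwa [Groth.L20.smul_eq_rTensor]
  · obtain ⟨c, hc⟩ := (IsLocalizedModule.eq_zero_iff (FlatCA.nzdFiber R S N)
      (AlgebraTensorModule.rTensor R M (LocalizedModule.mkLinearMap (FlatCA.nzdFiber R S N) N))).mp hz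
    exact hinj c c.2 M z hc

end Groth.Agent.S1194
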