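import Groth.Statements.S1195
import Groth.Agent.L20.RG.AssCover
import Groth.Agent.L20.RG.FlatOpenFt

set_option autoImplicit false
universe u
open FlatMor

set_option backward.isDefEq.respectTransparency.types false
open TensorProduct
namespace Groth.Agent.S1195

open TensorProduct in
/-- Let S be a finitely presented R-algebra, N a finitely presented S-module flat over R, and S' a flat
S-algebra such that every prime q of S (over p in R) whose extension to the fibre ring over p is an
associated prime of the fibre module of N is the contraction of a prime of S'. Then the base change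
map N → S' ⊗_S N is universally injective as a map of R-modules. -/
theorem result {R S S' : Type u} [CommRing R] [CommRing S] [CommRing S'] [Algebra R S] [Algebra S S'] [Algebra R S'] [IsScalarTower R S S']
    [Algebra.FinitePresentation R S] [Module.Flat S S']
    (N : Type u) [AddCommGroup N] [Module S N] [Module R N] [IsScalarTower R S N] [Module.FinitePresentation S N] [Module.Flat R N]
    (h : ∀ (p : Ideal R) (q : Ideal S) [p.IsPrime] [q.IsPrime] [q.LiesOver p],
      FlatCA.fiberIdeal p q ∈ associatedPrimes (p.Fiber S) (FlatCA.fiberMod p S N) →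
      ∃ q' : Ideal S', q'.IsPrime ∧ q'.comap (algebraMap S S') = q) :
    FlatCA.UnivInj R ((TensorProduct.mk S S' N 1).restrictScalars R) := by
  intro M _ _
  refine (injective_iff_map_eq_zero _).mpr fun w hw => ?_
  let z : N ⊗[R] M := TensorProduct.comm R M N w
  let Φ : (S' ⊗[S] N) ⊗[R] M →ₗ[R] S' ⊗[S] (N ⊗[R] M) :=
    ((AlgebraTensorModule.assoc R S S S' N M).restrictScalars R).toLinearMap
  have key : ∀ w : M ⊗[R] N, Φ (TensorProduct.comm R M _ (((TensorProduct.mk S S' N 1).restrictScalars R).lTensor M w)) =
      (1 : S') ⊗ₜ[S] TensorProduct.comm R M N w := fun w => by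
    induction w using TensorProduct.induction_on with
    | zero => simp
    | add a b ha hb => simp only [map_add, ha, hb, TensorProduct.tmul_add]
    | tmul m n => rfl
  have hz : (1 : S') ⊗ₜ[S] z = 0 := by rw [← key, hw, map_zero, map_zero]
  apply (TensorProduct.comm R M N).injective
  rw [map_zero]
  by_contra hne
  have hle : Groth.L03.WeakAss.annE S z ≠ ⊤ := fun htop => hne (by
    have h1 := Groth.L03.WeakAss.mem_annE.1 (htop ▸ Submodule.mem_top : (1 : S) ∈ Groth.L03.WeakAss.annE S z)
    rwa [one_smul] at h1)
  obtain ⟨m, hm, hzm⟩ := Ideal.exists_le_maximal _ hle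
  haveI := hm.isPrime
  obtain ⟨P, hP, -⟩ := Ideal.exists_minimalPrimes_le hzm
  haveI := hP.isPrime
  haveI : P.LiesOver (P.comap (algebraMap R S)) := ⟨rfl⟩
  obtain ⟨x, hx, hxP⟩ := h (P.comap (algebraMap R S)) P
    (Groth.L20.RG.fiberIdeal_mem_of_weakAss N M inferInstance ⟨z, hP⟩ _)
  haveI := hx
  exact Groth.L20.RG.one_tmul_ne_zero_of_le x (hxP.symm ▸ hP.le) hz

end Groth.Agent.S1195
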