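import Groth.Statements.S1196
import Groth.Agent.L20.RG.EssFpToFt
import Groth.Agent.L20.RG.PureSpread

set_option autoImplicit false
universe u
open FlatMor

set_option backward.isDefEq.respectTransparency.types false
namespace Groth.Agent.S1196

open TensorProduct IsLocalRing in
/-- Let R → S be a local homomorphism of local rings, essentially of finite presentation, N a finitely
presented S-module flat over R, and S' a flat S-algebra such that every prime of S which is an
associated prime of N/𝔪_R N is the contraction of a prime of S'. Then N → S' ⊗_S N is universally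
injective as a map of R-modules. -/
theorem result {R S S' : Type u} [CommRing R] [IsLocalRing R] [CommRing S] [IsLocalRing S] [CommRing S'] [Algebra R S] [IsLocalHom (algebraMap R S)] [Algebra S S'] [Algebra R S'] [IsScalarTower R S S']
    (hS : FlatCA.EssFinitePresentation R S) [Module.Flat S S']
    (N : Type u) [AddCommGroup N] [Module S N] [Module R N] [IsScalarTower R S N] [Module.FinitePresentation S N] [Module.Flat R N]
    (h : ∀ q ∈ associatedPrimes S (FlatCA.fiberMod (maximalIdeal R) S N),
      ∃ q' : Ideal S', q'.IsPrime ∧ q'.comap (algebraMap S S') = q) :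
    FlatCA.UnivInj R ((TensorProduct.mk S S' N 1).restrictScalars R) := by
  rw [Groth.L20.RG.univInj_iff_rTensor]
  intro M _ _
  refine (injective_iff_map_eq_zero _).mpr fun z hz => ?_
  by_contra hne
  obtain ⟨P, hP, hle⟩ := Groth.L20.RG.exists_ass_closedFibre_ge (Groth.L20.RG.essFiniteType_of_essFp hS) N hne
  obtain ⟨q', hq', rfl⟩ := h P hP
  haveI := hq'
  let Φ := (AlgebraTensorModule.assoc R S S S' N M).restrictScalars R
  have key : ∀ z : N ⊗[R] M, Φ (((TensorProduct.mk S S' N 1).restrictScalars R).rTensor M z) = (1 : S') ⊗ₜ[S] z :=
    fun z => by
      induction z using TensorProduct.induction_on with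
      | zero => simp
      | add a b ha hb => simp only [map_add, TensorProduct.tmul_add, ha, hb]
      | tmul n x => rfl
  exact Groth.L20.RG.one_tmul_ne_zero_of_le q' hle (by rw [← key, hz, map_zero])

end Groth.Agent.S1196
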