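import Groth.Statements.S1199
import Groth.Agent.L02.CAlg.AdicDecay.UnivInj
import Groth.Agent.L10.DRing.AdicFlatTensor
import Mathlib.RingTheory.Filtration
import Mathlib.RingTheory.Ideal.AssociatedPrime.Basic

set_option autoImplicit false
universe u
open FlatMor

set_option backward.isDefEq.respectTransparency.types false
namespace Groth.Agent.S1199

open TensorProduct in
/-- Let R → S be a map of Noetherian rings, I an ideal of R and N a finite S-module. Assume that for
every finite R-module Q and every associated prime q of the S-module N ⊗_R Q the ideal IS + q is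
proper. Then the canonical map from N to its I-adic completion is universally injective as a map of
R-modules. -/
theorem result {R S : Type u} [CommRing R] [CommRing S] [Algebra R S] [IsNoetherianRing R] [IsNoetherianRing S] (I : Ideal R)
    (N : Type u) [AddCommGroup N] [Module S N] [Module R N] [IsScalarTower R S N] [Module.Finite S N]
    (h : ∀ (Q : Type u) [AddCommGroup Q] [Module R Q], Module.Finite R Q →
      ∀ q ∈ associatedPrimes S (N ⊗[R] Q), I.map (algebraMap R S) ⊔ q ≠ ⊤) :
    FlatCA.UnivInj R (AdicCompletion.of I N) := by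
  intro Q _ _
  refine L02.CAlg.AdicDecay.lTensor_injective_of_finite _ (fun Q' _ _ hQ' => ?_) Q
  rw [injective_iff_map_eq_zero]
  intro z hz
  haveI := hQ'
  have hofz : AdicCompletion.of I (Q' ⊗[R] N) z = 0 := by
    rw [← Groth.L10.AdicFlatTensor.psi_of I N z, hz, map_zero]
  let x : N ⊗[R] Q' := TensorProduct.comm R Q' N z
  have hx : ∀ n : ℕ, x ∈ (I ^ n • ⊤ : Submodule R (N ⊗[R] Q')) := fun n => by
    have h0 : z ∈ (I ^ n • ⊤ : Submodule R (Q' ⊗[R] N)) := by
      have := congrArg (fun w => w.val n) hofz
      exact (Submodule.Quotient.mk_eq_zero _).mp this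
    exact Submodule.smul_top_le_comap_smul_top (I ^ n) (TensorProduct.comm R Q' N).toLinearMap h0
  let J := I.map (algebraMap R S)
  haveI : Module.Finite S (N ⊗[R] Q') := by
    obtain ⟨k, f, hf⟩ := Module.Finite.exists_fin' R Q'
    let e : N ⊗[R] (Fin k → R) ≃ₗ[S] (Fin k → N) := TensorProduct.piScalarRight R S N (Fin k)
    exact Module.Finite.of_surjective ((TensorProduct.AlgebraTensorModule.lTensor S N f) ∘ₗ e.symm.toLinearMap)
      ((LinearMap.lTensor_surjective N hf).comp e.symm.surjective)
  have hxJ : x ∈ (⨅ n : ℕ, J ^ n • ⊤ : Submodule S (N ⊗[R] Q')) := by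
    rw [Submodule.mem_iInf]
    intro n
    rw [← Ideal.map_pow, ← Submodule.restrictScalars_mem R, Ideal.smul_restrictScalars,
      Submodule.restrictScalars_top]
    exact hx n
  obtain ⟨r, hr⟩ := (Ideal.mem_iInf_smul_pow_eq_bot_iff J x).mp hxJ
  suffices hx0 : x = 0 by
    exact (TensorProduct.comm R Q' N).injective (by rw [map_zero]; exact hx0)
  by_contra hne
  obtain ⟨P, hP, hle⟩ := exists_le_isAssociatedPrime_of_isNoetherianRing S x hne
  refine h Q' hQ' P hP ((Ideal.eq_top_iff_one _).mpr ?_)
  have h1 : (1 - (r : S)) ∈ P := hle (by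
    rw [Submodule.mem_colon_singleton, Submodule.mem_bot, sub_smul, one_smul, hr, sub_self])
  simpa using Submodule.add_mem_sup r.2 h1


end Groth.Agent.S1199
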