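import Groth.Statements.S1200
import Groth.Agent.S1199
import Groth.Agent.L03.FibreAss
import Mathlib.RingTheory.Ideal.AssociatedPrime.Finiteness

set_option autoImplicit false
universe u
open FlatMor
open scoped TensorProduct

set_option backward.isDefEq.respectTransparency.types false
namespace Groth.Agent.S1200

/-- Let R → S be a map of Noetherian rings, I an ideal of R and N a finite S-module which is flat over
R. Assume that for every prime q of S, over p in R, whose extension to the fibre ring over p is an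
associated prime of the fibre module of N, the ideal IS + q is proper. Then the canonical map from N
to its I-adic completion is universally injective as a map of R-modules. -/
theorem result {R S : Type u} [CommRing R] [CommRing S] [Algebra R S] [IsNoetherianRing R] [IsNoetherianRing S] (I : Ideal R)
    (N : Type u) [AddCommGroup N] [Module S N] [Module R N] [IsScalarTower R S N] [Module.Finite S N] [Module.Flat R N]
    (h : ∀ (p : Ideal R) (q : Ideal S) [p.IsPrime] [q.IsPrime] [q.LiesOver p],
      FlatCA.fiberIdeal p q ∈ associatedPrimes (p.Fiber S) (FlatCA.fiberMod p S N) → I.map (algebraMap R S) ⊔ q ≠ ⊤) :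
    FlatCA.UnivInj R (AdicCompletion.of I N) := by
  refine Groth.Agent.S1199.result (R := R) (S := S) I N fun Q _ _ hQ q hq => ?_
  obtain ⟨hqp, x, hx⟩ := isAssociatedPrime_iff.mp hq
  have hass : q ∈ FlatCA.ass S (N ⊗[R] Q) := ⟨hqp, x, by
    ext b
    rw [Groth.L03.WeakAss.mem_annE, hx, Submodule.mem_colon_singleton, Submodule.mem_bot]⟩
  clear hx x hq
  have key : ∃ p : PrimeSpectrum R, q ∈ FlatCA.ass S (N ⊗[R] (R ⧸ p.1)) := by
    refine IsNoetherianRing.induction_on_isQuotientEquivQuotientPrime R hQ
      (motive := fun Q _ _ _ => q ∈ FlatCA.ass S (N ⊗[R] Q) →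
        ∃ p : PrimeSpectrum R, q ∈ FlatCA.ass S (N ⊗[R] (R ⧸ p.1))) ?_ ?_ ?_ hass
    · intro Q₀ _ _ _ _ hq0
      obtain ⟨h1, y, hy⟩ := hq0
      exfalso
      have hy0 : y = 0 := by
        induction y using TensorProduct.induction_on with
        | zero => rfl
        | add a b ha hb => exact Subsingleton.elim (α := N ⊗[R] Q₀) _ _
        | tmul a b => rw [Subsingleton.elim b 0, TensorProduct.tmul_zero]
      refine h1.ne_top ((Ideal.eq_top_iff_one q).2 (hy.ge (Groth.L03.WeakAss.mem_annE.2 ?_)))
      rw [hy0, smul_zero]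
    · intro Q₀ _ _ _ p e hq0
      exact ⟨p, Groth.L03.WeakAss.ass_subset_of_injective
        (TensorProduct.AlgebraTensorModule.lTensor S N e.toLinearMap) (LinearEquiv.lTensor N e).injective hq0⟩
    · intro Q₁ _ _ _ Q₂ _ _ _ Q₃ _ _ _ f g hf hg hfg ih1 ih3 hq0
      rcases Groth.L03.FibreAss.mem_ass_or (TensorProduct.AlgebraTensorModule.lTensor S N f)
          (TensorProduct.AlgebraTensorModule.lTensor S N g)
          (Module.Flat.lTensor_preserves_injective_linearMap f hf) (lTensor_exact N hfg hg) hq0 with h | h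
      · exact ih1 h
      · exact ih3 h
  obtain ⟨⟨p, hp⟩, hq'⟩ := key
  haveI := hp
  haveI := hqp
  rw [Groth.L03.FibreAss.ass_tensor_eq_ass_fibre_of_flat] at hq'
  haveI : q.LiesOver p := ⟨(Groth.L03.FibreAss.comap_eq_of_mem_ass_fibre N p hq').symm⟩
  refine h p q ?_
  rw [Groth.L20.fiberIdeal_mem_associatedPrimes_iff]
  obtain ⟨-, w, hw⟩ := hq'
  refine ⟨w, fun b => ⟨fun hb => ⟨1, ?_⟩, fun ⟨k, hk⟩ => ?_⟩⟩
  · rw [pow_one]; exact Groth.L03.WeakAss.mem_annE.1 (hw.le hb)
  · exact hqp.mem_of_pow_mem k (hw.ge (Groth.L03.WeakAss.mem_annE.2 hk))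


end Groth.Agent.S1200
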