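import Groth.Statements.S1204
import Groth.Agent.L20.RG.BasisFlat

set_option autoImplicit false
universe u
open TensorProduct
open FlatMor

set_option backward.isDefEq.respectTransparency.types false
set_option linter.style.haveILetI false
namespace Groth.Agent.S1204

open TensorProduct IsLocalRing in
/-- Let R be a local ring and S a finitely presented flat R-algebra with geometrically integral fibres,
so that 𝔭 = 𝔪_R S is a prime of S; let q be a prime of S over 𝔪_R and N a finite S-module. Then
there is an S-linear map α from a finite free module S^r to N inducing a bijection after base change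
to κ(𝔭); and for any such α the following are equivalent: N_q is flat over R; α is universally
injective over R and the cokernel of α is flat over R at q; α is injective and the cokernel is flat
at q; α localized at 𝔭 is bijective and the cokernel is flat at q; α localized at q is injective and
the cokernel is flat at q. -/
theorem result {R S : Type u} [CommRing R] [IsLocalRing R] [CommRing S] [Algebra R S] [Algebra.FinitePresentation R S] [Module.Flat R S]
    (hgi : FlatCA.GeomIntegralFibres R S) [((maximalIdeal R).map (algebraMap R S)).IsPrime]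
    (q : Ideal S) [q.IsPrime] [q.LiesOver (maximalIdeal R)]
    (N : Type u) [AddCommGroup N] [Module S N] [Module R N] [IsScalarTower R S N] [Module.Finite S N] :
    (∃ (r : ℕ) (α : (Fin r → S) →ₗ[S] N), Function.Bijective (α.baseChange ((maximalIdeal R).map (algebraMap R S)).ResidueField)) ∧
    ∀ (r : ℕ) (α : (Fin r → S) →ₗ[S] N), Function.Bijective (α.baseChange ((maximalIdeal R).map (algebraMap R S)).ResidueField) →
      [FlatCA.FlatAt R q N,
       FlatCA.UnivInj R (α.restrictScalars R) ∧ FlatCA.FlatAt R q (N ⧸ LinearMap.range α),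
       Function.Injective α ∧ FlatCA.FlatAt R q (N ⧸ LinearMap.range α),
       Function.Bijective (LocalizedModule.map ((maximalIdeal R).map (algebraMap R S)).primeCompl α) ∧ FlatCA.FlatAt R q (N ⧸ LinearMap.range α),
       Function.Injective (LocalizedModule.map q.primeCompl α) ∧ FlatCA.FlatAt R q (N ⧸ LinearMap.range α)].TFAE := by
  refine ⟨Groth.L20.RG.exists_bijective_baseChange _ N, fun r α hα => ?_⟩
  haveI : Module.Flat R (Fin r → S) :=
    Module.Flat.of_linearEquiv (DirectSum.linearEquivFunOnFintype R (Fin r) (fun _ => S)).symm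
  have hdom := Groth.L20.RG.DomFib.of_geomIntegralFibres hgi
  let m := maximalIdeal R
  let ξ := m.map (algebraMap R S)
  have hle : ξ ≤ q := Ideal.map_le_iff_le_comap.2 (Ideal.LiesOver.over (P := q) (p := m)).le
  -- bijectivity at the generic point kills all universal kernels
  have hker : Function.Bijective (LocalizedModule.map ξ.primeCompl α) → ∀ (Q : Type u) [AddCommGroup Q] [Module R Q]
      (z : (Fin r → S) ⊗[R] Q), (α.restrictScalars R).rTensor Q z = 0 → z = 0 := fun hbij Q _ _ z hz => by
    obtain ⟨_, ⟨b, hb, rfl⟩, hbz⟩ := Groth.L20.RG.exists_base_smul_of_bijective m hdom α hbij Q z hz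
    rw [algebraMap_smul] at hbz
    obtain ⟨u, rfl⟩ : IsUnit b := not_not.1 fun hnu => hb ((mem_maximalIdeal b).2 hnu)
    exact (smul_eq_zero_iff_eq u).1 hbz
  have hUI : Function.Bijective (LocalizedModule.map ξ.primeCompl α) → FlatCA.UnivInj R (α.restrictScalars R) :=
    fun hbij Q _ _ => by
      rw [LinearMap.lTensor_inj_iff_rTensor_inj, injective_iff_map_eq_zero]
      exact hker hbij Q
  tfae_have 1 → 4 := fun h1 => by
    have hbij := Groth.L20.RG.bijective_localized_of_flatAt m α hα q hle h1
    exact ⟨hbij, Groth.L20.RG.flatAt_coker α q (Groth.L20.RG.univInj_localized q.primeCompl α fun Q _ _ z hz =>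
      ⟨1, q.primeCompl.one_mem, by rw [hker hbij Q z hz, smul_zero]⟩) h1⟩
  tfae_have 4 → 2 := fun h4 => ⟨hUI h4.1, h4.2⟩
  tfae_have 2 → 3 := fun h2 => ⟨Groth.L20.injective_of_lTensor_self (α.restrictScalars R) (h2.1 R), h2.2⟩
  tfae_have 3 → 5 := fun h3 => ⟨LocalizedModule.map_injective q.primeCompl α h3.1, h3.2⟩
  tfae_have 5 → 1 := fun h5 => Groth.L20.RG.flatAt_middle α q h5.1 h5.2
  tfae_finish

end Groth.Agent.S1204
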