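import Groth.Statements.S14002
import Groth.Agent.L01.SqZeroFlat
import Mathlib.RingTheory.Flat.Stability
import Mathlib.RingTheory.Filtration
import Mathlib.RingTheory.AdicCompletion.Noetherian
import Mathlib.RingTheory.TensorProduct.Finite

set_option autoImplicit false
universe u
open CAlg

namespace Groth.Agent.S14002

open TensorProduct in
/-- Flatness of an adic morphism of locally Noetherian formal schemes is detected on the truncations.
Let B → A be a homomorphism of Noetherian rings and J an ideal of B such that A is adically
separated and complete with respect to the extended ideal JA. Then A is a flat B-module if and only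
if for every n ≥ 1 the base change (B/Jⁿ) ⊗_B A = A/JⁿA is a flat (B/Jⁿ)-module. The ring B is not
assumed separated or complete for the J-adic topology. (The published statement is about an adic
morphism of locally Noetherian formal schemes, so that both rings are adic there; the criterion
holds without that assumption on B.) -/
theorem result (B A : Type u) [CommRing B] [CommRing A]
    [IsNoetherianRing B] [IsNoetherianRing A] [Algebra B A] (J : Ideal B)
    [IsAdicComplete (J.map (algebraMap B A)) A] :
    Module.Flat B A ↔ ∀ n : ℕ, 0 < n → Module.Flat (B ⧸ J ^ n) ((B ⧸ J ^ n) ⊗[B] A) := by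
  classical
  constructor
  · intro h n _
    infer_instance
  · intro h
    rw [Module.Flat.iff_lTensor_injective']
    intro I
    rw [injective_iff_map_eq_zero]
    intro z hz
    obtain ⟨c, hc⟩ := J.exists_pow_inf_eq_pow_smul (I : Submodule B B)
    have hJA : J.map (algebraMap B A) ≤ (⊥ : Ideal A).jacobson := IsAdicComplete.le_jacobson_bot _
    haveI : IsHausdorff (J.map (algebraMap B A)) (A ⊗[B] I) := IsHausdorff.of_le_jacobson _ _ hJA
    apply IsHausdorff.haus' (I := J.map (algebraMap B A))
    intro k
    rw [SModEq.sub_mem, sub_zero]
    let n := k + c + 1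
    haveI := h n (Nat.succ_pos _)
    let K : Submodule B I := Submodule.comap I.subtype (J ^ n : Ideal B)
    have hK : K ≤ J ^ k • (⊤ : Submodule B I) := by
      intro x hx
      have h1 : (x : B) ∈ J ^ n • (⊤ : Submodule B B) ⊓ I :=
        ⟨by rw [smul_eq_mul, Ideal.mul_top]; exact hx, x.2⟩
      rw [hc n (by omega)] at h1
      have h2 : (x : B) ∈ J ^ k • (I : Submodule B B) :=
        Submodule.smul_mono (Ideal.pow_le_pow_right (by omega)) inf_le_right h1
      have h3 : (x : B) ∈ Submodule.map I.subtype (J ^ k • (⊤ : Submodule B I)) := by
        rw [Submodule.map_smul'', Submodule.map_top, Submodule.range_subtype]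
        exact h2
      obtain ⟨y, hy, hyx⟩ := h3
      rwa [← Subtype.ext hyx]
    have hX : Module.IsTorsionBySet B (I ⧸ K) ((J ^ n : Ideal B) : Set B) := by
      intro q a
      obtain ⟨j, rfl⟩ := Submodule.Quotient.mk_surjective _ q
      rw [← Submodule.Quotient.mk_smul, Submodule.Quotient.mk_eq_zero]
      exact Ideal.mul_mem_right _ _ a.2
    have hY : Module.IsTorsionBySet B (B ⧸ J ^ n) ((J ^ n : Ideal B) : Set B) := by
      intro q a
      obtain ⟨j, rfl⟩ := Submodule.Quotient.mk_surjective _ q
      rw [← Submodule.Quotient.mk_smul, Submodule.Quotient.mk_eq_zero]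
      exact Ideal.mul_mem_right _ _ a.2
    let f : (I ⧸ K) →ₗ[B] B ⧸ J ^ n := Submodule.mapQ K (J ^ n) I.subtype le_rfl
    have hf : Function.Injective f := by
      rw [← LinearMap.ker_eq_bot]
      exact Submodule.ker_liftQ_eq_bot _ _ _ (by rw [LinearMap.ker_comp, Submodule.ker_mkQ])
    let z' : I ⊗[B] A := TensorProduct.comm B A I z
    have hz' : I.subtype.rTensor A z' = 0 := by
      have h1 : I.subtype.rTensor A z' = TensorProduct.comm B A B (I.subtype.lTensor A z) :=
        LinearMap.congr_fun (show I.subtype.rTensor A ∘ₗ (TensorProduct.comm B A I).toLinearMap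
          = (TensorProduct.comm B A B).toLinearMap ∘ₗ I.subtype.lTensor A from
            TensorProduct.ext' fun a i => rfl) z
      rw [h1, hz, map_zero]
    have hq : K.mkQ.rTensor A z' = 0 := by
      apply Groth.L01.SqZeroFlat.rTensor_injective_of_killed (J ^ n) hX hY f hf
      rw [map_zero, ← LinearMap.comp_apply, ← LinearMap.rTensor_comp,
        show f ∘ₗ K.mkQ = (J ^ n).mkQ ∘ₗ I.subtype from rfl,
        LinearMap.rTensor_comp, LinearMap.comp_apply, hz', map_zero]
    obtain ⟨y, hy⟩ := ((rTensor_exact A (LinearMap.exact_subtype_mkQ K) K.mkQ_surjective) z').mp hq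
    have hzy : z = TensorProduct.comm B I A (K.subtype.rTensor A y) := by
      rw [hy]
      simp [z']
    rw [hzy]
    clear hy hzy
    induction y using TensorProduct.induction_on with
    | zero => simp
    | tmul x a =>
      have hx := hK x.2
      simp only [LinearMap.rTensor_tmul, TensorProduct.comm_tmul, Submodule.subtype_apply]
      generalize (x : ↥I) = x' at hx
      refine Submodule.smul_induction_on hx (fun r hr m _ => ?_) (fun u v hu hv => ?_)
      · rw [TensorProduct.tmul_smul, ← algebraMap_smul A r]
        exact Submodule.smul_mem_smul (Ideal.map_pow (algebraMap B A) J k ▸ Ideal.mem_map_of_mem _ hr) Submodule.mem_top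
      · rw [TensorProduct.tmul_add]
        exact add_mem hu hv
    | add u v hu hv =>
      rw [map_add, map_add]
      exact add_mem hu hv

end Groth.Agent.S14002
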