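import Groth.Statements.S1205
import Groth.Agent.L20.RG.BasisFlat

set_option autoImplicit false
universe u
open TensorProduct
open FlatMor

set_option backward.isDefEq.respectTransparency.types false
set_option linter.style.haveILetI false
namespace Groth.Agent.S1205

open TensorProduct in
/-- Let S be a finitely presented flat R-algebra with geometrically integral fibres, q a prime of S over
the prime 𝔯 of R, so that 𝔭 = 𝔯S is a prime of S, and N a finitely presented S-module. Then there is
an S-linear map α from a finite free module S^r to N inducing a bijection after base change to κ(𝔭);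
and for any such α the following are equivalent: N_q is flat over R; for some f ∈ R outside 𝔯 the
localization α_f is universally injective over R and for some g ∈ S outside q the localization of
the cokernel at g is flat over R; α localized at (the image of) 𝔯 is universally injective over R
and the cokernel is flat over R at q; α localized at 𝔯 is injective and the cokernel is flat at q; α
localized at 𝔭 is bijective and the cokernel is flat at q; α localized at q is injective and the
cokernel is flat at q. (Universal injectivity over R_f or R_𝔯 of a map of modules over these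
localizations is the same as over R, which is how it is written.) -/
theorem result {R S : Type u} [CommRing R] [CommRing S] [Algebra R S] [Algebra.FinitePresentation R S] [Module.Flat R S]
    (hgi : FlatCA.GeomIntegralFibres R S) (rr : Ideal R) [rr.IsPrime] [(rr.map (algebraMap R S)).IsPrime]
    (q : Ideal S) [q.IsPrime] [q.LiesOver rr]
    (N : Type u) [AddCommGroup N] [Module S N] [Module R N] [IsScalarTower R S N] [Module.FinitePresentation S N] :
    (∃ (r : ℕ) (α : (Fin r → S) →ₗ[S] N), Function.Bijective (α.baseChange (rr.map (algebraMap R S)).ResidueField)) ∧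
    ∀ (r : ℕ) (α : (Fin r → S) →ₗ[S] N), Function.Bijective (α.baseChange (rr.map (algebraMap R S)).ResidueField) →
      [FlatCA.FlatAt R q N,
       (∃ f : R, f ∉ rr ∧ FlatCA.UnivInj R ((LocalizedModule.map (Submonoid.powers (algebraMap R S f)) α).restrictScalars R)) ∧
         (∃ g : S, g ∉ q ∧ Module.Flat R (LocalizedModule (Submonoid.powers g) (N ⧸ LinearMap.range α))),
       FlatCA.UnivInj R ((LocalizedModule.map (Algebra.algebraMapSubmonoid S rr.primeCompl) α).restrictScalars R) ∧ FlatCA.FlatAt R q (N ⧸ LinearMap.range α),
       Function.Injective (LocalizedModule.map (Algebra.algebraMapSubmonoid S rr.primeCompl) α) ∧ FlatCA.FlatAt R q (N ⧸ LinearMap.range α),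
       Function.Bijective (LocalizedModule.map (rr.map (algebraMap R S)).primeCompl α) ∧ FlatCA.FlatAt R q (N ⧸ LinearMap.range α),
       Function.Injective (LocalizedModule.map q.primeCompl α) ∧ FlatCA.FlatAt R q (N ⧸ LinearMap.range α)].TFAE := by
  refine ⟨Groth.L20.RG.exists_bijective_baseChange _ N, fun r α hα => ?_⟩
  haveI : Module.Flat R (Fin r → S) :=
    Module.Flat.of_linearEquiv (DirectSum.linearEquivFunOnFintype R (Fin r) (fun _ => S)).symm
  have hdom := Groth.L20.RG.DomFib.of_geomIntegralFibres hgi
  let ξ := rr.map (algebraMap R S)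
  let Sr := Algebra.algebraMapSubmonoid S rr.primeCompl
  have hle : ξ ≤ q := Ideal.map_le_iff_le_comap.2 (Ideal.LiesOver.over (P := q) (p := rr)).le
  have hSr : Sr ≤ q.primeCompl := by
    rintro _ ⟨b, hb, rfl⟩ hm
    exact hb ((Ideal.mem_of_liesOver q rr b).2 hm)
  have hker : Function.Bijective (LocalizedModule.map ξ.primeCompl α) → ∀ (Q : Type u) [AddCommGroup Q] [Module R Q]
      (z : (Fin r → S) ⊗[R] Q), (α.restrictScalars R).rTensor Q z = 0 → ∃ t ∈ Sr, t • z = 0 := fun hbij Q _ _ z hz =>
    Groth.L20.RG.exists_base_smul_of_bijective rr hdom α hbij Q z hz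
  have hinjmono : ∀ T : Submonoid S, T ≤ q.primeCompl → Function.Injective (LocalizedModule.map T α) →
      Function.Injective (LocalizedModule.map q.primeCompl α) := by
    intro T hT hinj
    rw [← LinearMap.ker_eq_bot, Submodule.eq_bot_iff]
    intro z hz
    induction z using LocalizedModule.induction_on with
    | _ v u =>
      rw [LinearMap.mem_ker, LocalizedModule.map_mk, ← LocalizedModule.zero_mk 1, LocalizedModule.mk_eq] at hz
      obtain ⟨⟨w, hw⟩, hwv⟩ := hz
      simp only [smul_zero, one_smul, Submonoid.smul_def] at hwv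
      have h0 : LocalizedModule.mk (w • v) (1 : T) = 0 := hinj (by
        rw [map_zero, LocalizedModule.map_mk, map_smul, hwv, LocalizedModule.zero_mk])
      rw [← LocalizedModule.zero_mk 1, LocalizedModule.mk_eq] at h0
      obtain ⟨⟨t, ht⟩, htv⟩ := h0
      simp only [smul_zero, one_smul, Submonoid.smul_def] at htv
      rw [← LocalizedModule.zero_mk 1, LocalizedModule.mk_eq]
      refine ⟨⟨t * w, q.primeCompl.mul_mem (hT ht) hw⟩, ?_⟩
      simp only [smul_zero, one_smul, Submonoid.smul_def, mul_smul, htv]
  tfae_have 1 → 5 := fun h1 => by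
    have hbij := Groth.L20.RG.bijective_localized_of_flatAt rr α hα q hle h1
    exact ⟨hbij, Groth.L20.RG.flatAt_coker α q (Groth.L20.RG.univInj_localized q.primeCompl α fun Q _ _ z hz =>
      let ⟨t, ht, htz⟩ := hker hbij Q z hz
      ⟨t, hSr ht, htz⟩) h1⟩
  tfae_have 5 → 2 := fun h5 => by
    let E := LinearEquiv.ofBijective _ h5.1
    obtain ⟨β, u, hβ⟩ := Module.FinitePresentation.exists_lift_of_isLocalizedModule ξ.primeCompl
      (LocalizedModule.mkLinearMap ξ.primeCompl (Fin r → S))
      ((E.symm.toLinearMap.restrictScalars S) ∘ₗ LocalizedModule.mkLinearMap ξ.primeCompl N)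
    have hv : ∀ i : Fin r, ∃ v : ξ.primeCompl, (v : S) • (β (α (Pi.single i 1)) - (u : S) • Pi.single i 1) = 0 :=
      fun i => by
      refine (IsLocalizedModule.eq_zero_iff ξ.primeCompl (LocalizedModule.mkLinearMap ξ.primeCompl (Fin r → S))).1 ?_
      rw [map_sub, map_smul, sub_eq_zero]
      have := LinearMap.congr_fun hβ (α (Pi.single i 1))
      rw [LinearMap.comp_apply, LinearMap.smul_apply, Submonoid.smul_def, LinearMap.comp_apply] at this
      rw [this]
      congr 1
      refine E.injective ?_
      show E (E.symm (LocalizedModule.mk (α (Pi.single i 1)) 1)) = E (LocalizedModule.mk (Pi.single i 1) 1)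
      rw [LinearEquiv.apply_symm_apply, LinearEquiv.ofBijective_apply, LocalizedModule.map_mk]
    choose v hv using hv
    let w : S := (∏ i, (v i : S)) * u
    have hβw : (((∏ i, (v i : S)) • β) ∘ₗ α) = w • LinearMap.id := by
      refine LinearMap.pi_ext' fun i => LinearMap.ext_ring ?_
      simp only [LinearMap.comp_apply, LinearMap.coe_single, LinearMap.smul_apply, LinearMap.id_apply, w]
      rw [mul_smul, ← sub_eq_zero, ← smul_sub, ← Finset.mul_prod_erase Finset.univ (fun i => (v i : S)) (Finset.mem_univ i),
        mul_comm, mul_smul, hv i, smul_zero]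
    have hw : w ∉ ξ := (∏ i, v i * u).2 |> fun _ hm => by
      rcases (‹ξ.IsPrime›).mem_or_mem hm with h | h
      · obtain ⟨i, -, hi⟩ := (‹ξ.IsPrime›).prod_mem_iff.1 h
        exact (v i).2 hi
      · exact u.2 h
    obtain ⟨a, hat, hmul⟩ := Groth.L20.RG.exists_nhd_univInj hdom rr hw
    refine ⟨⟨a, hat, Groth.L20.RG.univInj_localized _ α fun Q _ _ z hz => ?_⟩, ?_⟩
    · have hwz : w • z = 0 := by
        have hh : ∀ y : (Fin r → S) ⊗[R] Q,
            (((∏ i, (v i : S)) • β).restrictScalars R).rTensor Q ((α.restrictScalars R).rTensor Q y) = w • y := by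
          intro y
          rw [← LinearMap.comp_apply, ← LinearMap.rTensor_comp, ← LinearMap.restrictScalars_comp, hβw]
          induction y using TensorProduct.induction_on with
          | zero => simp
          | add a b ha hb => simp only [map_add, smul_add, ha, hb]
          | tmul m p => simp [TensorProduct.smul_tmul']
        rw [← hh, hz, map_zero]
      obtain ⟨n, hn⟩ := Groth.L20.RG.exists_pow_smul_of_univInj hmul Q z hwz
      exact ⟨_, ⟨n, (map_pow _ a n).symm⟩, hn⟩
    · haveI : Module.FinitePresentation S (N ⧸ LinearMap.range α) :=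
        Module.finitePresentation_of_surjective _ (Submodule.mkQ_surjective _)
          (by rw [Submodule.ker_mkQ, LinearMap.range_eq_map]; exact (Module.Finite.fg_top).map _)
      haveI : Module.Flat R (LocalizedModule q.primeCompl (N ⧸ LinearMap.range α)) := h5.2
      obtain ⟨g, hg, hfl⟩ := Groth.L20.exists_flat_away (R := R) (M := N ⧸ LinearMap.range α) q.primeCompl
      exact ⟨g, hg, hfl⟩
  tfae_have 5 → 3 := fun h5 => ⟨Groth.L20.RG.univInj_localized Sr α (hker h5.1), h5.2⟩
  tfae_have 3 → 4 := fun h3 => ⟨Groth.L20.injective_of_lTensor_self ((LocalizedModule.map Sr α).restrictScalars R) (h3.1 R), h3.2⟩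
  tfae_have 4 → 6 := fun h4 => ⟨hinjmono Sr hSr h4.1, h4.2⟩
  tfae_have 6 → 1 := fun h6 => Groth.L20.RG.flatAt_middle α q h6.1 h6.2
  tfae_have 2 → 6 := fun h2 => by
    obtain ⟨⟨f, hf, hfi⟩, g, hg, hflat⟩ := h2
    refine ⟨hinjmono (Submonoid.powers (algebraMap R S f))
      ((Submonoid.powers_le).2 fun hm => hf ((Ideal.mem_of_liesOver q rr f).2 hm))
      (Groth.L20.injective_of_lTensor_self
        ((LocalizedModule.map (Submonoid.powers (algebraMap R S f)) α).restrictScalars R) (hfi R)), ?_⟩
    exact Groth.L20.flat_localizedModule_of_le ((Submonoid.powers_le).2 hg) hflat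
  tfae_finish

end Groth.Agent.S1205
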