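import Groth.Statements.S12056
import Mathlib.RingTheory.PowerSeries.Substitution
import Mathlib.RingTheory.PowerSeries.Derivative
import Mathlib.RingTheory.PowerSeries.Trunc
import Mathlib.Algebra.DualNumber
import Mathlib.Algebra.Polynomial.Taylor
import Mathlib.Tactic.LinearCombination

set_option autoImplicit false
open Red

namespace Groth.Agent.S12056

variable {R : Type} [CommRing R]

open PowerSeries in
lemma ev_taylor (a0 G F : PowerSeries R) (h : X ∣ a0) :
    PowerSeries.subst (PowerSeries.map (algebraMap R (DualNumber R)) a0 +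
        PowerSeries.C DualNumber.eps * PowerSeries.map (algebraMap R (DualNumber R)) G) F =
      PowerSeries.map (algebraMap R (DualNumber R)) (F.subst a0) + PowerSeries.C DualNumber.eps *
        PowerSeries.map (algebraMap R (DualNumber R)) ((d⁄dX R F).subst a0 * G) := by
  set m := PowerSeries.map (algebraMap R (DualNumber R)) with hm
  set E : PowerSeries (DualNumber R) := PowerSeries.C DualNumber.eps with hE
  have hEE : E * E = 0 := by rw [hE, ← map_mul, DualNumber.eps_mul_eps, map_zero]
  set v := m a0 + E * m G with hv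
  have hmX : X ∣ m a0 := by
    obtain ⟨c, rfl⟩ := h; exact ⟨m c, by simp [hm]⟩
  have hv2 : X ∣ v ^ 2 := by
    have : v ^ 2 = m a0 * (m a0 + 2 * (E * m G)) := by linear_combination (m G * m G) * hEE
    rw [this]; exact hmX.mul_right _
  have hsv : HasSubst v := by
    change IsNilpotent (constantCoeff v)
    exact ⟨2, by rw [← map_pow]; exact X_dvd_iff.1 hv2⟩
  have hs0 : HasSubst a0 := HasSubst.of_constantCoeff_zero' (X_dvd_iff.1 h)
  have red : ∀ {S : Type} [CommRing S] [Algebra R S] (u : PowerSeries S), HasSubst u →
      ∀ (k j : ℕ) (f g : PowerSeries R), X ^ k ∣ f - g → X ^ j ∣ u ^ k → X ^ j ∣ f.subst u - g.subst u := by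
    intro S _ _ u hu k j f g ⟨q, hq⟩ hd
    rw [← PowerSeries.subst_sub hu, hq, subst_mul hu, subst_pow hu, subst_X hu]
    exact hd.mul_right _
  ext n : 1
  obtain ⟨N, rfl⟩ : ∃ N, N = n := ⟨n, rfl⟩
  set P := trunc (2 * N + 3) F with hP
  have hQ : X ^ (2 * N + 3) ∣ F - (P : PowerSeries R) := by
    rw [X_pow_dvd_iff]
    intro l hl
    simp [hP, coeff_trunc, hl]
  have hdQ : X ^ (2 * N + 2) ∣ d⁄dX R F - ((Polynomial.derivative P : Polynomial R) : PowerSeries R) := by
    rw [X_pow_dvd_iff]
    intro l hl
    rw [← derivative_coe, map_sub, coeff_derivative, coeff_derivative, Polynomial.coeff_coe, hP, coeff_trunc,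
      if_pos (by omega), sub_self]
  have d1 : X ^ (N + 1) ∣ v ^ (2 * N + 3) := by
    rw [show v ^ (2 * N + 3) = (v ^ 2) ^ (N + 1) * v by ring]
    exact (pow_dvd_pow_of_dvd hv2 _).mul_right _
  have d2 : ∀ k, N + 1 ≤ k → X ^ (N + 1) ∣ a0 ^ k := fun k hk =>
    (pow_dvd_pow _ hk).trans (pow_dvd_pow_of_dvd h _)
  have dm : ∀ {A B : PowerSeries R}, X ^ (N + 1) ∣ A - B → X ^ (N + 1) ∣ m A - m B := by
    intro A B hAB
    have := map_dvd m hAB
    rwa [map_pow, map_sub, show m X = X from map_X _] at this
  have taylor : Polynomial.aeval v P = m (Polynomial.aeval a0 P) +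
      E * m (Polynomial.aeval a0 (Polynomial.derivative P) * G) := by
    have hnat : ∀ p : Polynomial R, Polynomial.aeval (m a0) p = m (Polynomial.aeval a0 p) := by
      intro p
      rw [Polynomial.aeval_def, Polynomial.aeval_def, Polynomial.hom_eval₂]
      congr 1
    rw [hv, Polynomial.aeval_add_of_sq_eq_zero P _ _ (by linear_combination (m G * m G) * hEE),
      hnat, hnat, map_mul]
    ring
  refine sub_eq_zero.1 ?_
  rw [← map_sub]
  refine (X_pow_dvd_iff (n := N + 1)).1 ?_ N (Nat.lt_succ_self N)
  have g1 := red v hsv _ (N + 1) F P hQ d1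
  have g2 := dm (red a0 hs0 _ (N + 1) F P hQ (d2 _ (by omega)))
  have g3 := dm (red a0 hs0 _ (N + 1) _ _ hdQ (d2 _ (by omega)))
  rw [subst_coe hsv, taylor] at g1
  rw [subst_coe hs0] at g2 g3
  rw [map_mul] at g1 ⊢
  obtain ⟨c1, h1⟩ := g1; obtain ⟨c2, h2⟩ := g2; obtain ⟨c3, h3⟩ := g3
  exact ⟨c1 - c2 - E * m G * c3, by linear_combination h1 - h2 - E * m G * h3⟩

open PowerSeries in
lemma snd_ext {A B A' B' : PowerSeries R}
    (h : PowerSeries.map (algebraMap R (DualNumber R)) A + C DualNumber.eps * PowerSeries.map (algebraMap R (DualNumber R)) B =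
      PowerSeries.map (algebraMap R (DualNumber R)) A' + C DualNumber.eps * PowerSeries.map (algebraMap R (DualNumber R)) B') :
    B = B' := by
  ext n
  have := congrArg (fun s => TrivSqZeroExt.snd (coeff n s)) h
  simpa [TrivSqZeroExt.algebraMap_eq_inl] using this

open PowerSeries in
lemma functional_consequences (F : PowerSeries R) (h0 : constantCoeff F = 1)
    (hFE : PowerSeries.subst
        (MvPowerSeries.X (0 : Fin 2) + MvPowerSeries.X 1 * PowerSeries.subst (MvPowerSeries.X (0 : Fin 2)) F :
          MvPowerSeries (Fin 2) R) F =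
      PowerSeries.subst (MvPowerSeries.X (0 : Fin 2)) F * PowerSeries.subst (MvPowerSeries.X (1 : Fin 2)) F) :
    d⁄dX R F * F = F * C (coeff 1 F) ∧ d⁄dX R F * (1 + X * C (coeff 1 F)) = F * C (coeff 1 F) := by
  set m := PowerSeries.map (algebraMap R (DualNumber R)) with hm
  set E : PowerSeries (DualNumber R) := PowerSeries.C DualNumber.eps with hE
  have hEE : E * E = 0 := by rw [hE, ← map_mul, DualNumber.eps_mul_eps, map_zero]
  have hF' : constantCoeff (d⁄dX R F) = coeff 1 F := by
    rw [← coeff_zero_eq_constantCoeff_apply, coeff_derivative]; simp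
  have sE : PowerSeries.subst E F = 1 + E * m (C (coeff 1 F)) := by
    have := ev_taylor 0 1 F (dvd_zero _)
    simpa [subst_zero_eq_C_constantCoeff, h0, hF', ← hm, ← hE, ← PowerSeries.C.eq_def, show (MvPowerSeries.C : R →+* PowerSeries R) = PowerSeries.C from rfl] using this
  have sX : PowerSeries.subst (X : PowerSeries (DualNumber R)) F = m F := by
    have := ev_taylor X 0 F dvd_rfl
    simpa [X_subst, ← hm, show m X = X from map_X _] using this
  have hc : PowerSeries.HasSubst (MvPowerSeries.X (0 : Fin 2) +
      MvPowerSeries.X 1 * PowerSeries.subst (MvPowerSeries.X (0 : Fin 2)) F : MvPowerSeries (Fin 2) R) :=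
    (HasSubst.X _).add (HasSubst.mul_left (HasSubst.X _))
  have key : ∀ x : Fin 2 → PowerSeries (DualNumber R), MvPowerSeries.HasSubst x →
      PowerSeries.subst (x 0 + x 1 * PowerSeries.subst (x 0) F) F =
        PowerSeries.subst (x 0) F * PowerSeries.subst (x 1) F := by
    intro x hx
    have comp : ∀ u : MvPowerSeries (Fin 2) R, PowerSeries.HasSubst u → ∀ G : PowerSeries R,
        MvPowerSeries.subst x (PowerSeries.subst u G) = PowerSeries.subst (MvPowerSeries.subst x u) G :=
      fun u hu G => MvPowerSeries.subst_comp_subst_apply hu.const hx G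
    have := congrArg (MvPowerSeries.subst x) hFE
    simpa only [comp _ hc, comp _ (HasSubst.X _), MvPowerSeries.subst_add hx, MvPowerSeries.subst_mul hx,
      MvPowerSeries.subst_X hx] using this
  have hn : IsNilpotent (DualNumber.eps : DualNumber R) := ⟨2, by rw [pow_two, DualNumber.eps_mul_eps]⟩
  constructor
  · have h := key ![X, E] (MvPowerSeries.hasSubst_of_constantCoeff_nilpotent fun i => by
      fin_cases i <;> simp [hE, hn, ← PowerSeries.constantCoeff.eq_def])
    simp only [Matrix.cons_val_zero, Matrix.cons_val_one, sE, sX] at h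
    have ht := ev_taylor X F F dvd_rfl
    simp only [← hm, ← hE, map_X, show m X = X from map_X _, X_subst] at ht
    rw [ht] at h
    exact snd_ext (A := F) (A' := F) (h.trans (by simp only [map_mul]; ring))
  · have h := key ![E, X] (MvPowerSeries.hasSubst_of_constantCoeff_nilpotent fun i => by
      fin_cases i <;> simp [hE, hn, ← PowerSeries.constantCoeff.eq_def])
    simp only [Matrix.cons_val_zero, Matrix.cons_val_one, sE, sX] at h
    have ht := ev_taylor X (1 + X * C (coeff 1 F)) F dvd_rfl
    simp only [← hm, ← hE, show m X = X from map_X _, X_subst] at ht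
    rw [show E + X * (1 + E * m (C (coeff 1 F))) = X + E * m (1 + X * C (coeff 1 F)) by
      rw [map_add, map_one, map_mul, show m X = X from map_X _]; ring, ht] at h
    exact snd_ext (A := F) (A' := F) (h.trans (by simp only [map_mul]; ring))


/-- In formal-power-series form, let R be a commutative ring and F ∈ R⟦X⟧ with constant term 1 whose
linear coefficient a is a unit of R. Suppose that in R⟦X₀, X₁⟧ one has F(X₀ + X₁ · F(X₀)) = F(X₀) ·
F(X₁) (the functional equation F(x + y F(x)) = F(x) F(y)). Then F = 1 + a X. (The published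
statement concerns a morphism to the multiplicative group from an open neighbourhood of the zero
section in the additive group over a base scheme, the identity holding on an open neighbourhood of
the origin of the plane on which all terms are defined, with a the derivative at 0; this row states
it for formal power series over a ring.) -/
theorem result (R : Type) [CommRing R] (F : PowerSeries R)
    (h0 : PowerSeries.constantCoeff F = 1) (ha : IsUnit (PowerSeries.coeff 1 F))
    (hFE : PowerSeries.subst
        (MvPowerSeries.X (0 : Fin 2) + MvPowerSeries.X 1 * PowerSeries.subst (MvPowerSeries.X (0 : Fin 2)) F :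
          MvPowerSeries (Fin 2) R) F =
      PowerSeries.subst (MvPowerSeries.X (0 : Fin 2)) F * PowerSeries.subst (MvPowerSeries.X (1 : Fin 2)) F) :
    F = 1 + PowerSeries.C (PowerSeries.coeff 1 F) * PowerSeries.X := by
  obtain ⟨e1, e2⟩ := functional_consequences F h0 hFE
  have hu : IsUnit F := MvPowerSeries.isUnit_iff_constantCoeff.2 (h0 ▸ isUnit_one)
  have hd : PowerSeries.derivative R F = PowerSeries.C (PowerSeries.coeff 1 F) := hu.mul_right_cancel (e1.trans (mul_comm _ _))
  rw [hd, mul_comm F] at e2
  rw [mul_comm (PowerSeries.C _) PowerSeries.X]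
  exact ((ha.map PowerSeries.C).mul_left_cancel e2).symm
end Groth.Agent.S12056
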