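import Groth.Statements.S12058
import Mathlib.Algebra.Homology.DerivedCategory.Ext.ExactSequences
import Mathlib.CategoryTheory.Abelian.Basic

set_option autoImplicit false
universe w v u
open CategoryTheory CategoryTheory.Limits CategoryTheory.Abelian
open SGA3

namespace Groth.Agent.S12058

theorem extClass_naturality {C : Type u} [Category.{v} C] [Abelian C] [HasExt.{w} C] {S T : ShortComplex C}
    (hS : S.ShortExact) (hT : T.ShortExact) (f : S ⟶ T) :
    hS.extClass.comp (Ext.mk₀ f.τ₁) (add_zero 1) = (Ext.mk₀ f.τ₃).comp hT.extClass (zero_add 1) := by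
  let := HasDerivedCategory.standard C
  ext
  simp only [Ext.comp_hom, Ext.mk₀_hom, ShortComplex.ShortExact.extClass_hom, ShiftedHom.mk₀_comp,
    ShiftedHom.comp_mk₀]
  exact (ShortComplex.ShortExact.singleTriangle.map hS hT f).comm₃


/-- In an abelian category, let 0 → A' → A → A'' → 0 be a short exact sequence, φ : A' ⟶ Q a morphism
and π : A'' ⟶ P an epimorphism with kernel C. Consider the quadruples (B, f, g, h) with 0 → Q → B →
P → 0 short exact (maps f, g) and h : A ⟶ B such that the squares commute: (A' → A → B) = (A' → Q →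
B) and (A → B → P) = (A → A'' → P). Such a quadruple exists if and only if the image in Ext¹(C, Q)
of the class of the given extension in Ext¹(A'', A') (push forward along φ, pull back along the
inclusion C → A'') is zero. -/
theorem result {C : Type u} [Category.{v} C] [Abelian C]
    [HasExt.{w} C] {S : ShortComplex C} (hS : S.ShortExact) {Q P : C} (φ : S.X₁ ⟶ Q) (π : S.X₃ ⟶ P) [Epi π] :
    (∃ (B : C) (f : Q ⟶ B) (g : B ⟶ P) (h : S.X₂ ⟶ B) (w : f ≫ g = 0),
        (ShortComplex.mk f g w).ShortExact ∧ S.f ≫ h = φ ≫ f ∧ h ≫ g = S.g ≫ π) ↔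
      (Ext.mk₀ (kernel.ι π)).comp (hS.extClass.comp (Ext.mk₀ φ) (add_zero 1)) (zero_add 1) = 0 := by
  constructor
  · rintro ⟨B, f, g, h, w, hT, h1, h2⟩
    let m : S ⟶ ShortComplex.mk f g w := ShortComplex.homMk φ h π h1.symm h2
    rw [show hS.extClass.comp (Ext.mk₀ φ) (add_zero 1) = (Ext.mk₀ π).comp hT.extClass (zero_add 1) from
      extClass_naturality hS hT m, Ext.mk₀_comp_mk₀_assoc, kernel.condition, Ext.mk₀_zero, Ext.zero_comp]
  · intro hzero
    haveI := hS.mono_f
    haveI := hS.epi_g
    let g₁ : pushout S.f φ ⟶ S.X₃ := pushout.desc S.g 0 (by rw [S.zero, comp_zero])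
    haveI : Epi g₁ := epi_of_epi_fac (pushout.inl_desc S.g 0 (by rw [S.zero, comp_zero]))
    let T := ShortComplex.mk (pushout.inr S.f φ) g₁ (pushout.inr_desc _ _ _)
    have hT : T.ShortExact :=
      { exact := by
          refine ShortComplex.exact_of_g_is_cokernel _ (CokernelCofork.IsColimit.ofπ _ _
            (fun {Z} k hk => hS.exact.desc (pushout.inl S.f φ ≫ k) (by
              rw [← Category.assoc, pushout.condition, Category.assoc]
              change φ ≫ pushout.inr S.f φ ≫ k = 0
              rw [hk, comp_zero]))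
            (fun {Z} k hk => ?_) (fun {Z} k hk m hm => ?_))
          · apply pushout.hom_ext
            · change pushout.inl S.f φ ≫ g₁ ≫ _ = _
              rw [← Category.assoc, pushout.inl_desc]
              exact hS.exact.g_desc _ _
            · change pushout.inr S.f φ ≫ g₁ ≫ _ = _
              rw [← Category.assoc, pushout.inr_desc, zero_comp]
              exact hk.symm
          · rw [← cancel_epi S.g, hS.exact.g_desc, ← hm]
            change S.g ≫ m = pushout.inl S.f φ ≫ g₁ ≫ m
            rw [← Category.assoc, pushout.inl_desc]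
        mono_f := inferInstanceAs (Mono (pushout.inr S.f φ))
        epi_g := inferInstanceAs (Epi g₁) }
    let m : S ⟶ T := ShortComplex.homMk φ (pushout.inl S.f φ) (𝟙 _) pushout.condition.symm (by
      change pushout.inl S.f φ ≫ g₁ = S.g ≫ 𝟙 S.X₃
      rw [pushout.inl_desc, Category.comp_id])
    have he : hT.extClass = hS.extClass.comp (Ext.mk₀ φ) (add_zero 1) := by
      rw [show hS.extClass.comp (Ext.mk₀ φ) (add_zero 1) = (Ext.mk₀ (𝟙 S.X₃)).comp hT.extClass (zero_add 1) from
        extClass_naturality hS hT m]
      exact (Ext.mk₀_id_comp hT.extClass).symm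
    obtain ⟨x, hx⟩ := Ext.covariant_sequence_exact₃ (kernel π) hT (Ext.mk₀ (kernel.ι π)) (zero_add 1)
      (by rw [he]; exact hzero)
    obtain ⟨s, rfl⟩ := Ext.addEquiv₀.symm.surjective x
    have hs : s ≫ g₁ = kernel.ι π := by
      apply (Ext.mk₀_bijective _ _).1
      rw [← hx, ← Ext.mk₀_comp_mk₀]
      rfl
    haveI : Mono s := mono_of_mono_fac hs
    let g : cokernel s ⟶ P := cokernel.desc s (g₁ ≫ π) (by rw [← Category.assoc, hs, kernel.condition])
    let f : Q ⟶ cokernel s := pushout.inr S.f φ ≫ cokernel.π s
    have w : f ≫ g = 0 := by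
      simp only [f, g, Category.assoc, cokernel.π_desc]
      rw [← Category.assoc, pushout.inr_desc, zero_comp]
    refine ⟨cokernel s, f, g, pushout.inl S.f φ ≫ cokernel.π s, w, ?_, ?_, ?_⟩
    · haveI : Epi g := epi_of_epi_fac (show cokernel.π s ≫ g = g₁ ≫ π from cokernel.π_desc _ _ _)
      haveI : Mono f := by
        refine Preadditive.mono_of_cancel_zero _ fun {Z} x hx => ?_
        have hk : (x ≫ pushout.inr S.f φ) ≫ cokernel.π s = 0 := by rw [Category.assoc]; exact hx
        obtain ⟨y, hy⟩ : ∃ y, y ≫ s = x ≫ pushout.inr S.f φ :=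
          ⟨(Abelian.monoIsKernelOfCokernel _ (cokernelIsCokernel s)).lift (KernelFork.ofι _ hk) ,
            (Abelian.monoIsKernelOfCokernel _ (cokernelIsCokernel s)).fac (KernelFork.ofι _ hk)
              WalkingParallelPair.zero⟩
        have hy0 : y ≫ kernel.ι π = 0 := by
          rw [← hs, ← Category.assoc, hy, Category.assoc]
          change x ≫ pushout.inr S.f φ ≫ g₁ = 0
          rw [pushout.inr_desc, comp_zero]
        rw [← cancel_mono (pushout.inr S.f φ), ← hy, zero_comp]
        have : y = 0 := by rw [← cancel_mono (kernel.ι π), hy0, zero_comp]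
        rw [this, zero_comp]
      refine { exact := ?_, mono_f := ‹Mono f›, epi_g := ‹Epi g› }
      let K := ShortComplex.mk (kernel.ι π) π (kernel.condition π)
      have hK : K.Exact := ShortComplex.exact_of_f_is_kernel _ (kernelIsKernel π)
      haveI : Epi K.g := ‹Epi π›
      have hstep : ∀ {Z : C} (k : cokernel s ⟶ Z), f ≫ k = 0 →
          ∃ l : P ⟶ Z, g ≫ l = k := by
        intro Z k hk
        have h1 : T.f ≫ cokernel.π s ≫ k = 0 := by
          rw [← Category.assoc]; exact hk
        haveI : Epi T.g := hT.epi_g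
        let k' := hT.exact.desc _ h1
        have h2 : K.f ≫ k' = 0 := by
          change kernel.ι π ≫ k' = 0
          rw [← hs, Category.assoc, show g₁ ≫ k' = cokernel.π s ≫ k from hT.exact.g_desc _ h1,
            cokernel.condition_assoc, zero_comp]
        refine ⟨hK.desc k' h2, coequalizer.hom_ext ?_⟩
        change cokernel.π s ≫ g ≫ _ = cokernel.π s ≫ k
        rw [← Category.assoc, cokernel.π_desc, Category.assoc]
        change g₁ ≫ K.g ≫ hK.desc k' h2 = _
        rw [hK.g_desc]
        exact hT.exact.g_desc _ h1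
      exact ShortComplex.exact_of_g_is_cokernel _ (CokernelCofork.IsColimit.ofπ _ _
        (fun {Z} k hk => (hstep k hk).choose) (fun {Z} k hk => (hstep k hk).choose_spec)
        (fun {Z} k hk m hm => by rw [← cancel_epi g]; exact hm.trans (hstep k hk).choose_spec.symm))
    · change _ = φ ≫ pushout.inr S.f φ ≫ cokernel.π s
      rw [← Category.assoc, pushout.condition, Category.assoc]
    · simp only [g, Category.assoc, cokernel.π_desc]
      rw [← Category.assoc, pushout.inl_desc]

end Groth.Agent.S12058
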