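import Groth.Statements.S1206
import Groth.Agent.L20.KrullIntersection

set_option autoImplicit false
universe u
open FlatMor

namespace Groth.Agent.S1206

/-- Let A be a local domain which is not a field and 𝒮 a set of finitely generated ideals of A, closed
under products, such that the union of the closed sets V(I), I ∈ 𝒮, is exactly the set of nonzero
primes (every nonzero prime contains a member of 𝒮 and no member is zero). Then the intersection of
all members of 𝒮 is zero. -/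
theorem result (A : Type u) [CommRing A] [IsDomain A] [IsLocalRing A] (hA : ¬ IsField A)
    (𝒮 : Set (Ideal A)) (hfg : ∀ I ∈ 𝒮, I.FG) (hmul : ∀ I ∈ 𝒮, ∀ J ∈ 𝒮, I * J ∈ 𝒮)
    (hne : ∀ I ∈ 𝒮, I ≠ ⊥) (hcov : ∀ (p : Ideal A), p.IsPrime → p ≠ ⊥ → ∃ I ∈ 𝒮, I ≤ p) :
    sInf 𝒮 = ⊥ := by
  rw [eq_bot_iff]
  intro f hf
  rw [Submodule.mem_sInf] at hf
  have hm : IsLocalRing.maximalIdeal A ≠ ⊥ := fun h =>
    hA (IsLocalRing.isField_iff_maximalIdeal_eq.mpr h)
  obtain ⟨I, hI, hIm⟩ := hcov _ inferInstance hm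
  rw [Ideal.mem_bot]
  by_contra h0
  refine h0 (Groth.L20.eq_zero_of_mem_all_pow f (fun hu => (hIm (hf I hI)) hu) fun p hp hfp => ?_)
  obtain ⟨I', hI', hle⟩ := hcov p hp (fun e => h0 (by rwa [e, Ideal.mem_bot] at hfp))
  refine ⟨I', hfg I' hI', hle, fun n hn => hf _ ?_⟩
  obtain ⟨n, rfl⟩ := Nat.exists_eq_succ_of_ne_zero hn.ne'
  clear hn
  induction n with
  | zero => simpa using hI'
  | succ n ih => rw [pow_succ]; exact hmul _ ih _ hI'

end Groth.Agent.S1206
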