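import Groth.Statements.S12060
import Groth.Agent.L15.GModStable.Projective
-- import your own Groth.Agent.* helpers here

set_option autoImplicit false
universe u
open CategoryTheory MonObj GrpObj AlgebraicGeometry
open scoped TensorProduct
open SGA3

namespace Groth.Agent.S12060

/-- Let R be a commutative ring, G a group scheme over Spec R which is flat, quasi-compact and
quasi-separated over Spec R (not necessarily affine) and whose ring of global functions, as an
R-module through the structure map, is projective; let E be a flat R-module with a G-module
structure (for every R-algebra B, a natural action of the B-points of G on B ⊗_R E by B-linear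
automorphisms) and M a finitely generated R-submodule of E. Then M is contained in a finitely
generated submodule N of E stable under G: for every R-algebra B and every B-valued point g of G,
the action of g carries the image of B ⊗_R N in B ⊗_R E into itself. Equivalently E is the filtered
union of its finitely generated G-stable submodules. (The published statement is over a
quasi-compact quasi-separated base scheme with quasi-coherent modules and a locally projective
algebra of functions of G, and also covers the case of G affine and flat with no flatness assumption
on E; this row is the case of G flat, quasi-compact and quasi-separated and E flat, over an affine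
base, with affine test schemes.) -/
theorem result (R : Type u) [CommRing R]
    (G : Over (Spec (CommRingCat.of R))) [GrpObj G] [Flat G.hom] [QuasiCompact G.hom] [QuasiSeparated G.hom]
    (hA : letI : Algebra R Γ(G.left, ⊤) :=
        (((Scheme.ΓSpecIso (CommRingCat.of R)).inv ≫ G.hom.appTop).hom).toAlgebra;
      Module.Projective R Γ(G.left, ⊤))
    (E : Type u) [AddCommGroup E] [Module R E] [Module.Flat R E] (m : VecGrp.GMod G E)
    (M : Submodule R E) (hM : M.FG) :
    ∃ N : Submodule R E, M ≤ N ∧ N.FG ∧
      ∀ (B : Type u) [CommRing B] [Algebra R B] (g : VecGrp.pt R B ⟶ G) (x : E), x ∈ N →
        m.ρ B g ((1 : B) ⊗ₜ[R] x) ∈ LinearMap.range (N.subtype.baseChange B) := by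
  letI := Groth.L15.GModStable.algTop G
  haveI : Module.Projective R Γ(G.left, ⊤) := hA
  exact Groth.L15.GModStable.exists_stable_projective m M hM

end Groth.Agent.S12060
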