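import Groth.Statements.S12061
import Groth.Agent.L08.Borel.BorelRadical
-- import your own Groth.Agent.* helpers here

set_option autoImplicit false
set_option backward.isDefEq.respectTransparency.types false
set_option linter.style.haveILetI false
set_option backward.isDefEq.respectTransparency.types false
set_option linter.style.haveILetI false
universe u
open CategoryTheory MonoidalCategory CartesianMonoidalCategory MonObj GrpObj AlgebraicGeometry
open SGA3x

namespace Groth.Agent.S12061

/-- Let k be a field, G and G′ smooth connected k-group schemes of finite type and u : G → G′ a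
faithfully flat homomorphism whose kernel, after base change to an algebraic closure of k, is
contained in the radical of G, i.e. in some smooth connected solvable normal subgroup. Then B′ ↦
u⁻¹(B′) sends Borel subgroups of G′ (subgroup schemes, smooth of finite type over k, whose geometric
fibre is a Borel subgroup) to Borel subgroups of G, and every Borel subgroup of G arises in this
way: if B′ is a Borel subgroup of G′ and B is a k-group scheme with homomorphisms b : B → G and v :
B → B′ making B = G ×_{G′} B′, then B is a Borel subgroup of G; and every Borel subgroup of G is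
such an inverse image of some Borel subgroup of G′. (The published statement says that B′ ↦ u⁻¹(B′)
is a bijection; its injectivity, a consequence of faithful flatness of u, is not stated here.) -/
theorem result (k : Type u) [Field k] (G G' : Over (Spec (CommRingCat.of k)))
    [GrpObj G] [GrpObj G'] [Smooth G.hom] [QuasiCompact G.hom] [Smooth G'.hom] [QuasiCompact G'.hom]
    [ConnectedSpace ↥G.left] [ConnectedSpace ↥G'.left]
    (u : G ⟶ G') [IsMonHom u] [Flat u.left] [Surjective u.left]
    (hrad : ∀ s : ↥(Spec (CommRingCat.of k)), ∃ (R : Over (Spec (CommRingCat.of (AlgebraicClosure ((Spec (CommRingCat.of k)).residueField s)))))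
      (_ : GrpObj R) (r : R ⟶ Red.geomFibre s G), IsMonHom r ∧ IsClosedImmersion r.left ∧ Smooth R.hom ∧
      ConnectedSpace ↥R.left ∧ Red.IsSolvableGrp R ∧
      (∀ (X : Over (Spec (CommRingCat.of (AlgebraicClosure ((Spec (CommRingCat.of k)).residueField s))))) (g : X ⟶ Red.geomFibre s G)
        (x : X ⟶ R), ∃ x' : X ⟶ R, g * (x ≫ r) * g⁻¹ = x' ≫ r) ∧
      (∀ (X : Over (Spec (CommRingCat.of (AlgebraicClosure ((Spec (CommRingCat.of k)).residueField s))))) (g : X ⟶ Red.geomFibre s G),
        g ≫ (Over.pullback (Red.geomPt s)).map u = 1 → ∃ x : X ⟶ R, x ≫ r = g)) :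
    (∀ (B' : Over (Spec (CommRingCat.of k))) [GrpObj B'] (b' : B' ⟶ G'), (IsMonHom b' ∧ Mono b' ∧ Smooth B'.hom ∧ QuasiCompact B'.hom ∧
      ∀ s : ↥(Spec (CommRingCat.of k)), Red.IsBorelOver (AlgebraicClosure ((Spec (CommRingCat.of k)).residueField s)) ((Over.pullback (Red.geomPt s)).map b')) →
      ∀ (B : Over (Spec (CommRingCat.of k))) [GrpObj B] (b : B ⟶ G) [IsMonHom b] (v : B ⟶ B') [IsMonHom v], IsPullback b v u b' →
      (IsMonHom b ∧ Mono b ∧ Smooth B.hom ∧ QuasiCompact B.hom ∧
      ∀ s : ↥(Spec (CommRingCat.of k)), Red.IsBorelOver (AlgebraicClosure ((Spec (CommRingCat.of k)).residueField s)) ((Over.pullback (Red.geomPt s)).map b))) ∧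
    (∀ (B : Over (Spec (CommRingCat.of k))) [GrpObj B] (b : B ⟶ G), (IsMonHom b ∧ Mono b ∧ Smooth B.hom ∧ QuasiCompact B.hom ∧
      ∀ s : ↥(Spec (CommRingCat.of k)), Red.IsBorelOver (AlgebraicClosure ((Spec (CommRingCat.of k)).residueField s)) ((Over.pullback (Red.geomPt s)).map b)) →
      ∃ (B' : Over (Spec (CommRingCat.of k))) (_ : GrpObj B') (b' : B' ⟶ G') (v : B ⟶ B'), (IsMonHom b' ∧ Mono b' ∧ Smooth B'.hom ∧ QuasiCompact B'.hom ∧
      ∀ s : ↥(Spec (CommRingCat.of k)), Red.IsBorelOver (AlgebraicClosure ((Spec (CommRingCat.of k)).residueField s)) ((Over.pullback (Red.geomPt s)).map b')) ∧ IsMonHom v ∧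
        IsPullback b v u b') := by
  have hconn := Groth.L08.Borel.isConnected_fibre_field G
  have hconn' := Groth.L08.Borel.isConnected_fibre_field G'
  have hKs : ∀ (s : ↥(Spec (CommRingCat.of k)))
      (B : Over (Spec (CommRingCat.of (AlgebraicClosure ((Spec (CommRingCat.of k)).residueField s))))) [GrpObj B]
      (b : B ⟶ Red.geomFibre s G), Red.IsBorelOver _ b →
        Groth.L08.Borel.KerLe ((Over.pullback (Red.geomPt s)).map u) b := by
    intro s B _ b hb
    obtain ⟨R, gR, r, hr, hrc, hrs, hrn, hsol, hn, hk⟩ := hrad s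
    haveI := hr; haveI := hrc; haveI := hrs; haveI := hrn
    exact Groth.L08.Borel.kerLe_geomFibre_of_radical hconn hconn' u s r hsol hn hk B b hb
  haveI : IsSeparated G.hom := Groth.L08.AbelianGrp.isSeparated G
  haveI : IsSeparated G'.hom := Groth.L08.AbelianGrp.isSeparated G'
  refine ⟨fun B' _ b' hB' B _ b _ v _ sq => ?_, fun B _ b hB => ?_⟩
  · obtain ⟨hm, hmono, hs, hq, hf⟩ := hB'
    haveI := hmono; haveI := hs; haveI := hq
    exact Groth.L08.Borel.borel_preimage hconn hconn' u hKs b' hf b v sq
  · obtain ⟨hm, hmono, hs, hq, hf⟩ := hB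
    haveI := hm; haveI := hmono; haveI := hs; haveI := hq
    let s : ↥(Spec (CommRingCat.of k)) := IsLocalRing.closedPoint k
    exact Groth.L08.Borel.borel_image hconn hconn' u b
      (Groth.L08.Borel.kerLe_of_bc b (Red.geomPt s) (hKs s _ _ (hf s))) hf

end Groth.Agent.S12061
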