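import Groth.Statements.S12063
import Groth.Agent.L24.MSub.ToriQuot

set_option autoImplicit false
set_option backward.isDefEq.respectTransparency.types false
universe u
open CategoryTheory MonoidalCategory CartesianMonoidalCategory MonObj GrpObj AlgebraicGeometry CategoryTheory.Limits
open SGA3x

namespace Groth.Agent.S12063

/-- Let G be an S-group scheme, smooth and affine over S, T a maximal torus of G and N = Norm_G(T) its
normalizer. If q : G → Q represents the fppf quotient G/N (q is surjective, flat and locally of
finite presentation, and G ×_S N → G ×_Q G, (g, n) ↦ (g, g n), is an isomorphism), then Q is affine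
over S. (With a maximal torus defined over S the reductive rank of G is locally constant, as the
published statement assumes.) -/
theorem result (S : Scheme.{u}) (G : Over S) [GrpObj G]
    [IsAffineHom G.hom] [Smooth G.hom]
    (T : Over S) [GrpObj T] (i : T ⟶ G) (hT : Red.IsMaximalTorus i)
    (N : Over S) [GrpObj N] (n : N ⟶ G) (hN : Red.IsNormalizerOf i n)
    (Q : Over S) (q : G ⟶ Q) (hq : RedSub.IsQuotient n q) :
    IsAffineHom Q.hom := by
  haveI := hT.1; haveI := hT.2.1
  haveI := hN.1; haveI := hN.2.1
  obtain ⟨R⟩ := Groth.L24.MSub.nonempty_mrep G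
  obtain ⟨hg, hj⟩ := R.exists_grp
  letI := hg
  haveI := hj
  obtain ⟨q₀, hq₀, -⟩ := R.exists_quotient_map hT hN
  obtain ⟨e, -⟩ := Groth.L24.MSub.exists_iso_quotient hq hq₀
  haveI := R.isAffineHom_torT (Groth.L24.MSub.hasMaxTorusEtaleLocally_of_maxTorus hT)
  haveI : IsIso e.hom.left := ((Over.forget S).mapIso e).isIso_hom
  rw [← Over.w e.hom]
  infer_instance

end Groth.Agent.S12063
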