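import Groth.Statements.S12065
import Groth.Agent.L08.Borel.GenImage
-- import your own Groth.Agent.* helpers here

set_option autoImplicit false
set_option backward.isDefEq.respectTransparency.types false
set_option linter.style.haveILetI false
set_option backward.isDefEq.respectTransparency.types false
set_option linter.style.haveILetI false
universe u
open CategoryTheory MonoidalCategory CartesianMonoidalCategory MonObj GrpObj AlgebraicGeometry
open SGA3x

namespace Groth.Agent.S12065

/-- Let G and H be smooth connected algebraic groups (not necessarily affine) over an algebraically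
closed field k and v : G → H a surjective homomorphism. Let T be a maximal torus of G and C its
centralizer, and let T′ = v(T), C′ = v(C) be their images: subgroup schemes t′ : T′ → H, c′ : C′ → H
together with flat surjective homomorphisms T → T′ and C → C′ over v. Then C′ is the centralizer of
T′ in H. -/
theorem result (k : Type u) [Field k] [IsAlgClosed k]
    (G H : Over (Spec (CommRingCat.of k))) [GrpObj G] [GrpObj H]
    [Smooth G.hom] [QuasiCompact G.hom] [ConnectedSpace ↥G.left]
    [Smooth H.hom] [QuasiCompact H.hom] [ConnectedSpace ↥H.left]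
    (v : G ⟶ H) [IsMonHom v] [Surjective v.left]
    (T : Over (Spec (CommRingCat.of k))) [GrpObj T] (i : T ⟶ G) (hT : Red.IsMaximalTorus i)
    (C : Over (Spec (CommRingCat.of k))) [GrpObj C] (c : C ⟶ G) (hC : Red.IsCentralizerOf i c)
    (T' : Over (Spec (CommRingCat.of k))) [GrpObj T'] (t' : T' ⟶ H) [IsMonHom t'] [Mono t']
    (wT : T ⟶ T') [IsMonHom wT] [Flat wT.left] [Surjective wT.left] (hwT : wT ≫ t' = i ≫ v)
    (C' : Over (Spec (CommRingCat.of k))) [GrpObj C'] (c' : C' ⟶ H) [IsMonHom c'] [Mono c']
    (wC : C ⟶ C') [IsMonHom wC] [Flat wC.left] [Surjective wC.left] (hwC : wC ≫ c' = c ≫ v) :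
    Red.IsCentralizerOf t' c' := by
  exact Groth.L08.Borel.isCentralizerOf_image v (Groth.L08.Borel.isMaxTorus_of_isMaximalTorus hT) hC t' wT hwT c' wC hwC

end Groth.Agent.S12065
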