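import Groth.Statements.S12067
import Groth.Agent.L08.Flag

set_option autoImplicit false
universe u
open TensorProduct
open SGA3t2b

namespace Groth.Agent.S12067

/-- In Hopf-algebra form, let k be a field and A a finitely generated commutative Hopf algebra over k
(an affine algebraic group G) which is unipotent: every nonzero finite-dimensional comodule has a
nonzero fixed vector. Then every finite-dimensional comodule V (a finite-dimensional representation
of G), of dimension n, has a flag of subcomodules 0 = V_0 ⊂ V_1 ⊂ ⋯ ⊂ V_n = V with one-dimensional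
successive quotients on which G acts trivially: for v ∈ V_(i+1) the coaction of v is congruent to v
⊗ 1 modulo V_i ⊗ A. -/
theorem result (k : Type u) [Field k] (A : Type u) [CommRing A]
    [HopfAlgebra k A] [Algebra.FiniteType k A] (hU : HopfRep.IsUnipotent k A)
    (V : Type u) [AddCommGroup V] [Module k V] [HopfRep.Comod k A V] [Module.Finite k V] :
    ∃ F : Fin (Module.finrank k V + 1) → Submodule k V,
      F 0 = ⊥ ∧ F (Fin.last _) = ⊤ ∧
      (∀ i : Fin (Module.finrank k V + 1), HopfRep.IsSubcomod (k := k) (A := A) (F i)) ∧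
      ∀ i : Fin (Module.finrank k V), F i.castSucc ≤ F i.succ ∧
        Module.finrank k ↥(F i.succ) = Module.finrank k ↥(F i.castSucc) + 1 ∧
        ∀ v ∈ F i.succ, HopfRep.Comod.coact (k := k) (A := A) v - v ⊗ₜ[k] (1 : A) ∈
          LinearMap.range ((F i.castSucc).subtype.rTensor A) := by
  classical
  let T := {W : Submodule k V // HopfRep.IsSubcomod (k := k) (A := A) W}
  have hnext : ∀ W : T, ∃ W' : T, W.1 ≤ W'.1 ∧ Groth.L08.Step (1 : A) W.1 W'.1 ∧
      (W.1 ≠ ⊤ → Module.finrank k W'.1 = Module.finrank k W.1 + 1) := by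
    intro W
    by_cases hW : W.1 = ⊤
    · exact ⟨W, le_rfl, fun v _ φ => hW ▸ trivial, fun h => absurd hW h⟩
    letI := ComodSub.Comod.quot ‹HopfRep.Comod k A V› W.1 W.2
    haveI : Nontrivial (V ⧸ W.1) := Submodule.Quotient.nontrivial_iff.2 hW
    obtain ⟨q, hq, hq0⟩ := Submodule.exists_mem_ne_zero_of_ne_bot (hU (V ⧸ W.1) inferInstance inferInstance)
    obtain ⟨v, rfl⟩ := W.1.mkQ_surjective q
    have hv : v ∉ W.1 := fun h => hq0 ((Submodule.Quotient.mk_eq_zero _).2 h)
    have hle : W.1 ≤ W.1 ⊔ Submodule.span k {v} := le_sup_left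
    have hst : Groth.L08.Step (1 : A) W.1 (W.1 ⊔ Submodule.span k {v}) := by
      intro x hx φ
      obtain ⟨a, ha, b, hb, rfl⟩ := Submodule.mem_sup.1 hx
      obtain ⟨r, rfl⟩ := Submodule.mem_span_singleton.1 hb
      have hvv : Groth.L08.fAct V φ v - φ 1 • v ∈ W.1 := by
        rw [← Submodule.Quotient.mk_eq_zero, ← Submodule.mkQ_apply, map_sub, map_smul,
          Groth.L08.fAct_comm_of_isComodHom (ComodSub.isComodHom_mkQ _ W.1 W.2) φ v,
          Groth.L08.mem_fixedPts_iff_fAct.1 hq φ, sub_self]
      rw [map_add, map_smul, smul_add, add_sub_add_comm, smul_comm (φ 1) r, ← smul_sub]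
      exact add_mem (sub_mem (Groth.L08.fAct_mem_of_isSubcomod W.2 φ ha) (W.1.smul_mem _ ha))
        (W.1.smul_mem r hvv)
    refine ⟨⟨_, hst.isSubcomod hle⟩, hle, hst, fun _ => ?_⟩
    have h0 : v ≠ 0 := fun h => hv (h ▸ zero_mem _)
    have h1 := Submodule.finrank_sup_add_finrank_inf_eq W.1 (Submodule.span k {v})
    have h2 : W.1 ⊓ Submodule.span k {v} = ⊥ := by
      refine eq_bot_iff.2 fun x ⟨hx1, hx2⟩ => ?_
      obtain ⟨r, rfl⟩ := Submodule.mem_span_singleton.1 hx2
      rw [Submodule.mem_bot]
      by_contra hne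
      exact hv (by
        have hr : r ≠ 0 := fun h => hne (by rw [h, zero_smul])
        exact (Submodule.smul_mem_iff _ hr).1 hx1)
    rw [h2, finrank_bot, add_zero, finrank_span_singleton h0] at h1
    exact h1
  choose nx h1 h2 h3 using hnext
  let G : ℕ → T := fun n => nx^[n] ⟨⊥, Groth.L08.isSubcomod_bot⟩
  have hG : ∀ n, G (n + 1) = nx (G n) := fun n => Function.iterate_succ_apply' nx n _
  have hdim : ∀ n, n ≤ Module.finrank k V → Module.finrank k (G n).1 = n := by
    intro n
    induction n with
    | zero => intro _; exact finrank_bot k V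
    | succ n ih =>
      intro hn
      have hne : (G n).1 ≠ ⊤ := fun h => by
        have := ih (by omega)
        rw [h, finrank_top] at this
        omega
      rw [hG, h3 _ hne, ih (by omega)]
  refine ⟨fun i => (G i.val).1, rfl, Submodule.eq_top_of_finrank_eq ?_, fun i => (G i.val).2,
    fun i => ⟨?_, ?_, fun v hv => ?_⟩⟩
  · exact hdim _ le_rfl
  · change (G i.val).1 ≤ (G (i.val + 1)).1
    rw [hG]; exact h1 _
  · change Module.finrank k (G (i.val + 1)).1 = Module.finrank k (G i.val).1 + 1
    rw [hdim _ (by omega), hdim _ (by omega)]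
  · change v ∈ (G (i.val + 1)).1 at hv
    rw [hG] at hv
    exact Groth.L08.step_iff_range.1 (h2 _) v hv

end Groth.Agent.S12067
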