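import Groth.Statements.S1207
import Groth.Agent.L20.KrullIntersection

set_option autoImplicit false
universe u
open FlatMor

namespace Groth.Agent.S1207

/-- Let A be a local ring and I, J ideals of A with J finitely generated, J ≠ A, and I ⊆ J^n for all n ≥
1. Then every prime p not containing J which is maximal among the primes not containing J (a closed
point of Spec A ∖ V(J)) contains I. (The published statement leaves the hypothesis J ≠ A implicit;
for J = A the assertion fails.) -/
theorem result (A : Type u) [CommRing A] [IsLocalRing A] (I J : Ideal A) (hJ : J.FG) (hJ1 : J ≠ ⊤)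
    (hI : ∀ n : ℕ, 1 ≤ n → I ≤ J ^ n) (p : Ideal A) [p.IsPrime] (hp : ¬ J ≤ p)
    (hmax : ∀ (p' : Ideal A), p'.IsPrime → p ≤ p' → ¬ J ≤ p' → p' = p) : I ≤ p := by
  intro f hf
  let q := Ideal.Quotient.mk p
  have hJm : J ≤ IsLocalRing.maximalIdeal A := IsLocalRing.le_maximalIdeal hJ1
  have hpm : p ≤ IsLocalRing.maximalIdeal A := IsLocalRing.le_maximalIdeal (Ideal.IsPrime.ne_top inferInstance)
  rw [← Ideal.Quotient.eq_zero_iff_mem]
  have hnu : ¬ IsUnit (q f) := fun hu => by
    obtain ⟨b, hb⟩ := isUnit_iff_exists_inv.mp hu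
    obtain ⟨b, rfl⟩ := Ideal.Quotient.mk_surjective b
    rw [← map_mul, ← map_one q, Ideal.Quotient.eq] at hb
    have hfm : f * b ∈ IsLocalRing.maximalIdeal A := Ideal.mul_mem_right _ _ (hJm (by simpa using hI 1 le_rfl hf))
    exact (IsLocalRing.maximalIdeal.isMaximal A).ne_top ((Ideal.eq_top_iff_one _).mpr
      (by simpa using sub_mem hfm (hpm hb)))
  by_contra h0
  refine h0 (Groth.L20.eq_zero_of_mem_all_pow (q f) hnu fun P hP hfP => ?_)
  have hPc : (P.comap q).IsPrime := Ideal.IsPrime.comap q
  have hle : p ≤ P.comap q := fun x hx => by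
    rw [Ideal.mem_comap, Ideal.Quotient.eq_zero_iff_mem.mpr hx]; exact zero_mem P
  have hJP : J ≤ P.comap q := by
    by_contra hJP
    have := hmax _ hPc hle hJP
    exact h0 (Ideal.Quotient.eq_zero_iff_mem.mpr (this ▸ hfP))
  exact ⟨J.map q, hJ.map q, Ideal.map_le_iff_le_comap.mpr hJP, fun n hn => by
    rw [← Ideal.map_pow]; exact Ideal.mem_map_of_mem q (hI n hn hf)⟩

end Groth.Agent.S1207
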