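import Groth.Statements.S12071
import Mathlib.GroupTheory.SpecificGroups.Dihedral
import Mathlib.Algebra.Group.Subgroup.ZPowers.Basic
import Mathlib.RingTheory.Int.Basic
import Mathlib.GroupTheory.Archimedean
import Mathlib.Tactic.Convert

set_option autoImplicit false
open RootD

namespace Groth.Agent.S12071

/-- Let G be the group generated by two elements x, y subject to x² = y² = 1 (the infinite dihedral
group; here Mathlib's DihedralGroup 0 with x = sr 0 and y = sr 1, so that x y = r 1). Then every
normal subgroup of G containing neither x nor y is generated by an element (x y)^n with n > 0; such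
a subgroup is cyclic, generated by r n. (The published statement does not exclude the trivial
subgroup, for which no n > 0 works; this row assumes the subgroup nontrivial.) -/
theorem result (N : Subgroup (DihedralGroup 0)) [N.Normal]
    (hN : N ≠ ⊥) (hx : DihedralGroup.sr (0 : ZMod 0) ∉ N) (hy : DihedralGroup.sr (1 : ZMod 0) ∉ N) :
    ∃ n : ℕ, 0 < n ∧ N = Subgroup.zpowers (DihedralGroup.r (n : ZMod 0)) := by
  have cast : ∀ i : ZMod 0, ∃ z : ℤ, Int.cast z = i := ZMod.intCast_surjective
  have nosr : ∀ i : ZMod 0, DihedralGroup.sr i ∉ N := by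
    intro i hi
    obtain ⟨z, rfl⟩ := cast i
    have hc : ∀ j : ℤ, DihedralGroup.sr (Int.cast (z - 2 * j)) ∈ N := by
      intro j
      have := Subgroup.Normal.conj_mem inferInstance _ hi (DihedralGroup.r (Int.cast j))
      simp only [DihedralGroup.r_mul_sr, DihedralGroup.inv_r, DihedralGroup.sr_mul_r] at this
      convert this using 2
      push_cast
      ring
    obtain ⟨j, hj | hj⟩ := Int.even_or_odd' z
    · have := hc j
      rw [show z - 2 * j = 0 by omega, Int.cast_zero] at this
      exact hx this
    · have := hc j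
      rw [show z - 2 * j = 1 by omega, Int.cast_one] at this
      exact hy this
  let K : AddSubgroup ℤ :=
    { carrier := {i | DihedralGroup.r (Int.cast i) ∈ N}
      zero_mem' := one_mem N
      add_mem' := fun {a b} ha hb => by
        have := mul_mem (show DihedralGroup.r (Int.cast a) ∈ N from ha)
          (show DihedralGroup.r (Int.cast b) ∈ N from hb)
        simpa [DihedralGroup.r_mul_r] using this
      neg_mem' := fun {a} ha => by
        have := inv_mem (show DihedralGroup.r (Int.cast a) ∈ N from ha)
        simpa [DihedralGroup.inv_r] using this }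
  obtain ⟨g, hg⟩ := Int.subgroup_cyclic K
  rw [← AddSubgroup.zmultiples_eq_closure] at hg
  have hK : ∀ i : ℤ, DihedralGroup.r (Int.cast i) ∈ N ↔ ∃ q : ℤ, q * g = i := fun i => by
    show i ∈ K ↔ _
    rw [hg, AddSubgroup.mem_zmultiples_iff]
    simp
  have hg0 : g ≠ 0 := by
    intro h0
    apply hN
    rw [eq_bot_iff]
    rintro (i | i) hi
    · obtain ⟨i, rfl⟩ := cast i
      obtain ⟨q, hq⟩ := (hK i).1 hi
      rw [h0, mul_zero] at hq
      rw [Subgroup.mem_bot, DihedralGroup.one_def, ← hq]
      simp
    · exact absurd hi (nosr i)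
  refine ⟨g.natAbs, Int.natAbs_pos.2 hg0, ?_⟩
  have hpow : ∀ q : ℤ, DihedralGroup.r ((g.natAbs : ℕ) : ZMod 0) ^ q = DihedralGroup.r (Int.cast (q * (g.natAbs : ℤ))) := by
    intro q
    rw [DihedralGroup.r_zpow]
    congr 1
    rw [Int.cast_mul, Int.cast_natCast, mul_comm]
  ext x
  rw [Subgroup.mem_zpowers_iff]
  constructor
  · intro hx'
    cases x with
    | r i =>
      obtain ⟨i, rfl⟩ := cast i
      obtain ⟨q, hq⟩ := (hK i).1 hx'
      rcases Int.natAbs_eq g with e | e
      · exact ⟨q, by rw [hpow, ← e, hq]⟩
      · exact ⟨-q, by rw [hpow]; congr 1; have : (g.natAbs : ℤ) = -g := by omega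
                      rw [this, neg_mul_neg, hq]⟩
    | sr i => exact absurd hx' (nosr i)
  · rintro ⟨q, rfl⟩
    rw [hpow]
    refine (hK _).2 ?_
    rcases Int.natAbs_eq g with e | e
    · exact ⟨q, by rw [← e]⟩
    · exact ⟨-q, by have : (g.natAbs : ℤ) = -g := by omega
                    rw [this]; ring⟩


end Groth.Agent.S12071
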