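import Groth.Statements.S12072
import Groth.Agent.L08.Borel.GenImage
-- import your own Groth.Agent.* helpers here

set_option autoImplicit false
set_option backward.isDefEq.respectTransparency.types false
set_option linter.style.haveILetI false
set_option backward.isDefEq.respectTransparency.types false
set_option linter.style.haveILetI false
universe u
open CategoryTheory MonoidalCategory CartesianMonoidalCategory MonObj GrpObj AlgebraicGeometry
open SGA3x

namespace Groth.Agent.S12072

/-- Let G and H be smooth connected algebraic groups (not necessarily affine) over an algebraically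
closed field k and v : G → H a surjective homomorphism. Then the Cartan subgroups of H are the
images of the Cartan subgroups of G: if C is a Cartan subgroup of G and c′ : C′ → H a subgroup
scheme with a flat surjective homomorphism C → C′ over v (so C′ = v(C)), then C′ is a Cartan
subgroup of H; and every Cartan subgroup C′ of H arises in this way from some Cartan subgroup C of
G. -/
theorem result (k : Type u) [Field k] [IsAlgClosed k]
    (G H : Over (Spec (CommRingCat.of k))) [GrpObj G] [GrpObj H]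
    [Smooth G.hom] [QuasiCompact G.hom] [ConnectedSpace ↥G.left]
    [Smooth H.hom] [QuasiCompact H.hom] [ConnectedSpace ↥H.left]
    (v : G ⟶ H) [IsMonHom v] [Surjective v.left] :
    (∀ (C : Over (Spec (CommRingCat.of k))) [GrpObj C] (c : C ⟶ G), SGA3x.IsCartanOver k c →
      ∀ (C' : Over (Spec (CommRingCat.of k))) [GrpObj C'] (c' : C' ⟶ H) [IsMonHom c'] [Mono c'] (w : C ⟶ C') [IsMonHom w]
        [Flat w.left] [Surjective w.left], w ≫ c' = c ≫ v → SGA3x.IsCartanOver k c') ∧
    (∀ (C' : Over (Spec (CommRingCat.of k))) [GrpObj C'] (c' : C' ⟶ H), SGA3x.IsCartanOver k c' →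
      ∃ (C : Over (Spec (CommRingCat.of k))) (_ : GrpObj C) (c : C ⟶ G) (w : C ⟶ C'), SGA3x.IsCartanOver k c ∧ IsMonHom w ∧
        Flat w.left ∧ Surjective w.left ∧ w ≫ c' = c ≫ v) := by
  haveI : LocallyOfFiniteType G.hom := inferInstance
  haveI : LocallyOfFiniteType H.hom := inferInstance
  constructor
  · intro C _ c hC C' _ c' _ _ w _ _ _ hw
    obtain ⟨-, -, T, gT, i, hi, hic⟩ := hC
    have hiM := Groth.L08.Borel.isMaxTorus_of_isMaximalTorus hi
    haveI := hiM.1; haveI := hiM.2.1
    obtain ⟨a1, a2, a3, -, -⟩ := Groth.L08.Borel.torus_props hiM.2.2.1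
    haveI := a1; haveI := a2; haveI := a3
    haveI : QuasiCompact T.hom := quasiCompact_of_compactSpace _
    obtain ⟨T', gT', p, i', hp, hi', hpi, hpf, hps, -, hic'⟩ := Groth.L08.AbelianGrp.exists_image (i ≫ v)
    haveI := hp; haveI := hi'; haveI := hpf; haveI := hps; haveI := hic'
    haveI : Mono i' := Groth.L08.mono_of_closedImmersion i'
    exact ⟨‹_›, ‹_›, T', gT', i',
      Groth.L08.Borel.isMaximalTorus_of_isMaxTorus (Groth.L08.Borel.isMaxTorus_image_gen v hiM i' p hpi).1,
      Groth.L08.Borel.isCentralizerOf_image v hiM hic i' p hpi c' w hw⟩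
  · intro C' _ c' hC'
    obtain ⟨hcm, hcmono, T₂, gT₂, i₂, hi₂, hic₂⟩ := hC'
    haveI := hcm; haveI := hcmono
    have hi₂M := Groth.L08.Borel.isMaxTorus_of_isMaximalTorus hi₂
    obtain ⟨T, gT, iT, hT⟩ := Groth.L08.Borel.exists_maxTorus_gen G
    haveI := hT.1; haveI := hT.2.1
    obtain ⟨a1, a2, a3, -, -⟩ := Groth.L08.Borel.torus_props hT.2.2.1
    haveI := a1; haveI := a2; haveI := a3
    haveI : QuasiCompact T.hom := quasiCompact_of_compactSpace _
    obtain ⟨T', gT', p, i', hp, hi', hpi, hpf, hps, -, hic'⟩ := Groth.L08.AbelianGrp.exists_image (iT ≫ v)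
    haveI := hp; haveI := hi'; haveI := hpf; haveI := hps; haveI := hic'
    haveI : Mono i' := Groth.L08.mono_of_closedImmersion i'
    obtain ⟨h, e, he⟩ := Groth.L08.Borel.exists_maxTorus_conj_gen
      (Groth.L08.Borel.isMaxTorus_image_gen v hT i' p hpi).1 hi₂M
    obtain ⟨g, hg⟩ := Groth.L08.Borel.exists_pt_lift v h (v.left.surjective _)
    have hTg := Groth.L08.Borel.isMaxTorus_conjBy hT g
    haveI := hTg.1; haveI := hTg.2.1
    haveI : IsMonHom (AGF.conjBy h i') := Groth.L08.Borel.isMonHom_conjBy h i'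
    haveI : Mono (AGF.conjBy h i') := Groth.L08.Borel.mono_conjBy h i'
    have hpg : p ≫ AGF.conjBy h i' = AGF.conjBy g iT ≫ v := by
      rw [Groth.L08.Borel.comp_conjBy, hpi, Groth.L08.Borel.conjBy_comp, hg]
    obtain ⟨C, gC, c, hc, hcl, hcs, -⟩ := Groth.L08.Borel.exists_centralizer_gen (AGF.conjBy g iT) hTg.2.2.1
    haveI := hc.1; haveI := hc.2.1; haveI := hcl; haveI := hcs
    haveI : QuasiCompact C.hom := by rw [← Over.w c]; infer_instance
    obtain ⟨C₁, g₁, q, c₁, hq, hc₁, hqc, hqf, hqs, -, hc₁c⟩ := Groth.L08.AbelianGrp.exists_image (c ≫ v)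
    haveI := hq; haveI := hc₁; haveI := hqf; haveI := hqs; haveI := hc₁c
    haveI : Mono c₁ := Groth.L08.mono_of_closedImmersion c₁
    have hC₁ := Groth.L08.Borel.isCentralizerOf_of_iso e he
      (Groth.L08.Borel.isCentralizerOf_image v hTg hc (AGF.conjBy h i') p hpg c₁ q hqc)
    obtain ⟨a, ha⟩ := (hic₂.2.2 C₁ c₁).2 fun X' x s => (hC₁.2.2 C₁ c₁).1 ⟨𝟙 C₁, Category.id_comp c₁⟩ X' x s
    obtain ⟨b, hb⟩ := (hC₁.2.2 C' c').2 fun X' x s => (hic₂.2.2 C' c').1 ⟨𝟙 C', Category.id_comp c'⟩ X' x s
    haveI : IsIso a := ⟨b, by rw [← cancel_mono c₁, Category.assoc, hb, ha, Category.id_comp],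
      by rw [← cancel_mono c', Category.assoc, ha, hb, Category.id_comp]⟩
    haveI : IsIso a.left := inferInstanceAs (IsIso ((Over.forget _).map a))
    haveI : IsMonHom a := Groth.L08.Borel.isMonHom_of_comp_mono a c' c₁ ha
    exact ⟨C, gC, c, q ≫ a, ⟨hc.1, hc.2.1, T, gT, AGF.conjBy g iT,
      Groth.L08.Borel.isMaximalTorus_of_isMaxTorus hTg, hc⟩, inferInstance,
      inferInstanceAs (Flat (q.left ≫ a.left)), inferInstanceAs (Surjective (q.left ≫ a.left)),
      by rw [Category.assoc, ha, hqc]⟩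

end Groth.Agent.S12072
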