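import Groth.Statements.S12076
import Mathlib.Algebra.Order.Group.PiLex
import Mathlib.Data.Prod.Lex
import Mathlib.Algebra.Order.Monoid.Prod

set_option autoImplicit false
open RootD

namespace Groth.Agent.S12076

/-- Let Δ be a system of simple roots (a base b of a root pairing P over ℤ) and Γ₀ the subgroup
generated by the roots. Then Γ₀ has a structure of totally ordered group for which the roots > 0 are
exactly the positive roots defined by Δ and for which the height (the additive function with value 1
on each simple root) is monotone. The order is given here by its positive cone C ⊆ Γ₀: 0 ∉ C, C + C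
⊆ C, and for every x ≠ 0 exactly one of x, −x lies in C (x < y meaning y − x ∈ C). -/
theorem result {ι M N : Type*} [AddCommGroup M] [AddCommGroup N]
    (P : RootPairing ι ℤ M N) [Finite ι] (b : P.Base) :
    ∃ C : Set ↥(Submodule.span ℤ (Set.range P.root)),
      0 ∉ C ∧ (∀ x ∈ C, ∀ y ∈ C, x + y ∈ C) ∧ (∀ x, x ≠ 0 → (x ∈ C ∨ -x ∈ C)) ∧ (∀ x ∈ C, -x ∉ C) ∧
      (∀ i : ι, (⟨P.root i, Submodule.subset_span (Set.mem_range_self i)⟩ : ↥(Submodule.span ℤ (Set.range P.root))) ∈ C ↔
        b.IsPos i) ∧
      ∀ φ : ↥(Submodule.span ℤ (Set.range P.root)) →+ ℤ,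
        (∀ j ∈ b.support, φ ⟨P.root j, Submodule.subset_span (Set.mem_range_self j)⟩ = 1) →
        ∀ x y : ↥(Submodule.span ℤ (Set.range P.root)), y - x ∈ C → φ x ≤ φ y := by
  classical
  let B := b.toWeightBasisInt
  let φ₀ : ↥(Submodule.span ℤ (Set.range P.root)) →ₗ[ℤ] ℤ := B.constr ℤ fun _ => (1 : ℤ)
  let e := Fintype.equivFin b.support
  let key : ↥(Submodule.span ℤ (Set.range P.root)) → Lex (ℤ × Lex (Fin (Fintype.card b.support) → ℤ)) :=
    fun x => toLex (φ₀ x, toLex fun k => B.repr x (e.symm k))
  have key_add : ∀ x y, key (x + y) = key x + key y := fun x y => by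
    simp only [key, map_add]
    rfl
  have key_zero : key 0 = 0 := by
    simp only [key, map_zero]
    rfl
  have key_neg : ∀ x, key (-x) = -key x := fun x => by
    refine eq_neg_of_add_eq_zero_left ?_
    rw [← key_add, neg_add_cancel, key_zero]
  have key_inj : ∀ x, key x = 0 → x = 0 := fun x hx => by
    have h2 := congr_arg (fun z => ofLex (ofLex z).2) hx
    apply B.repr.injective
    ext k
    have := congr_fun h2 (e k)
    simpa [key] using! this
  have hroot : ∀ i, φ₀ ⟨P.root i, Submodule.subset_span (Set.mem_range_self i)⟩ = b.height i := by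
    intro i
    obtain ⟨f, hf₀, hf₁, hf₂⟩ := b.exists_root_eq_sum_int i
    have hx : (⟨P.root i, Submodule.subset_span (Set.mem_range_self i)⟩ : ↥(Submodule.span ℤ (Set.range P.root))) =
        ∑ k : b.support, f k • B k := by
      apply Subtype.ext
      simp only [B, Submodule.coe_sum, Submodule.coe_smul, RootPairing.Base.coe_toWeightBasisInt_apply]
      rw [hf₂, ← Finset.sum_coe_sort]
    rw [hx, RootPairing.Base.height_eq_sum hf₂]
    simp only [map_sum, map_smul, φ₀, Module.Basis.constr_basis, smul_eq_mul, mul_one]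
    exact Finset.sum_coe_sort b.support f
  refine ⟨{x | 0 < key x}, ?_, fun x hx y hy => ?_, fun x hx => ?_, fun x hx hnx => ?_, fun i => ?_, ?_⟩
  · rw [Set.mem_ofPred_eq, key_zero]; exact lt_irrefl _
  · rw [Set.mem_ofPred_eq, key_add]; exact add_pos hx hy
  · rw [Set.mem_ofPred_eq, Set.mem_ofPred_eq, key_neg, neg_pos]
    exact (lt_trichotomy 0 (key x)).imp id fun h => h.resolve_left fun h0 => hx (key_inj x h0.symm)
  · rw [Set.mem_ofPred_eq, key_neg, neg_pos] at hnx
    exact lt_asymm hx hnx
  · rw [Set.mem_ofPred_eq, RootPairing.Base.isPos_iff, ← hroot i]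
    have hne : φ₀ ⟨P.root i, Submodule.subset_span (Set.mem_range_self i)⟩ ≠ 0 := by
      rw [hroot i]; exact b.height_ne_zero i
    rw [Prod.Lex.lt_iff]
    exact ⟨fun h => h.elim id fun h' => absurd h'.1.symm hne, fun h => Or.inl h⟩
  · intro φ hφ x y hxy
    have heq : φ.toIntLinearMap = φ₀ := B.ext fun k => by
      rw [Module.Basis.constr_basis]
      have hk := hφ k k.2
      simpa [B, RootPairing.Base.toWeightBasisInt] using hk
    rw [Set.mem_ofPred_eq, Prod.Lex.lt_iff] at hxy
    have h1 : 0 ≤ φ₀ (y - x) := hxy.elim le_of_lt fun h => h.1.le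
    rw [← heq] at h1
    simpa using h1

end Groth.Agent.S12076
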