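import Groth.Statements.S12077
import Groth.Agent.L01.AllRoots
import Mathlib.Algebra.Category.Ring.FilteredColimits
import Mathlib.CategoryTheory.Functor.OfSequence
import Mathlib.CategoryTheory.Limits.ConcreteCategory.Basic
import Mathlib.Algebra.Polynomial.Lifts
import Mathlib.Algebra.Polynomial.RingDivision
import Mathlib.Algebra.Polynomial.Roots
import Mathlib.Algebra.Category.Ring.Colimits

set_option autoImplicit false
universe u
open Polynomial
open CAlg

namespace Groth.Agent.S12077

theorem eval₂_comp_root {R S T : Type u} [CommRing R] [CommRing S] [CommRing T] [Algebra R S]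
    (f : S →+* T) (P : Polynomial R) (t : S) (h : Polynomial.aeval t P = 0) :
    Polynomial.eval₂ (f.comp (algebraMap R S)) (f t) P = 0 := by
  rw [← Polynomial.hom_eval₂, ← Polynomial.aeval_def, h, map_zero]

/-- the tower -/
noncomputable def tower (A : Type u) [CommRing A] : ℕ → CommRingCat.{u}
  | 0 => CommRingCat.of A
  | n + 1 => CommRingCat.of (Groth.L01.AllRoots.AR (tower A n))

open CategoryTheory in
/-- transition maps -/
noncomputable def towerMap (A : Type u) [CommRing A] (n : ℕ) : tower A n ⟶ tower A (n + 1) :=
  CommRingCat.ofHom (algebraMap (tower A n) (Groth.L01.AllRoots.AR (tower A n)))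

open CategoryTheory in
theorem exists_eval₂_tower (A : Type u) [CommRing A] (n : ℕ) {T : Type u} [CommRing T]
    (g : (tower A (n + 1) : Type u) →+* T) (h : (tower A n : Type u) →+* T)
    (hgh : ∀ x, g ((towerMap A n).hom x) = h x)
    (G : Polynomial (tower A n : Type u)) (hG : G.Monic) (hd : 0 < G.natDegree) :
    ∃ t, Polynomial.eval₂ h (g t) G = 0 := by
  obtain ⟨t, ht⟩ := Groth.L01.AllRoots.exists_root (tower A n) G hG hd
  refine ⟨t, ?_⟩
  rw [show h = g.comp (towerMap A n).hom from RingHom.ext fun x => (hgh x).symm]
  exact (Polynomial.hom_eval₂ G (towerMap A n).hom g t).symm.trans ((congrArg g ht).trans (map_zero g))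

open CategoryTheory Limits in
theorem exists_hom_all_roots (A : Type u) [CommRing A] :
    ∃ (B : CommRingCat.{u}) (f : A →+* B), Function.Injective f ∧
      ∀ g : Polynomial B, g.Monic → 0 < g.natDegree → ∃ b, g.IsRoot b := by
  classical
  let F : ℕ → CommRingCat.{u} := tower A
  let φ : ∀ n, F n ⟶ F (n + 1) := towerMap A
  let X := Functor.ofSequence φ
  haveI : PreservesFilteredColimitsOfSize.{0, 0} (forget CommRingCat.{u}) :=
    preservesFilteredColimitsOfSize_shrink _
  have hinj : ∀ (i j : ℕ) (h : i ≤ j), Function.Injective (X.map (homOfLE h)) := by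
    intro i j h
    induction j, h using Nat.le_induction with
    | base => rw [show homOfLE (le_refl i) = 𝟙 i from Subsingleton.elim _ _, CategoryTheory.Functor.map_id]; exact fun x y hxy => hxy
    | succ j h ih =>
      rw [← homOfLE_comp h (Nat.le_succ j), CategoryTheory.Functor.map_comp,
        show X.map (homOfLE (Nat.le_succ j)) = φ j from Functor.ofSequence_map_homOfLE_succ φ j]
      exact fun x y hxy => ih (Groth.L01.AllRoots.algebraMap_injective (F j) hxy)
  refine ⟨colimit X, (colimit.ι X 0).hom, ?_, ?_⟩
  · intro x y hxy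
    obtain ⟨k, a, b, hk⟩ := (Concrete.colimit_rep_eq_iff_exists X (i := 0) (j := 0) (x : X.obj 0) (y : X.obj 0)).mp hxy
    rw [show a = homOfLE a.le from Subsingleton.elim _ _,
      show b = homOfLE a.le from Subsingleton.elim _ _] at hk
    exact hinj 0 k _ hk
  · have hmap : ∀ (i j : ℕ) (h : i ≤ j) (x : X.obj i),
        colimit.ι X j (X.map (homOfLE h) x) = colimit.ι X i x := fun i j h x => by
      rw [← CommRingCat.comp_apply, colimit.w]
    have hlift : ∀ g : Polynomial (colimit X : CommRingCat.{u}),
        ∃ n, g ∈ Polynomial.lifts (colimit.ι X n).hom := by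
      intro g
      have hmono : ∀ (i j : ℕ), i ≤ j → ∀ p, p ∈ Polynomial.lifts (colimit.ι X i).hom →
          p ∈ Polynomial.lifts (colimit.ι X j).hom := by
        intro i j h p hp
        obtain ⟨q, rfl⟩ := hp
        refine ⟨q.map (X.map (homOfLE h)).hom, ?_⟩
        show Polynomial.map _ (Polynomial.map _ q) = Polynomial.map _ q
        rw [Polynomial.map_map]
        congr 1
        exact RingHom.ext (hmap i j h)
      induction g using Polynomial.induction_on' with
      | add p q hp hq =>
        obtain ⟨i, hi⟩ := hp
        obtain ⟨j, hj⟩ := hq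
        exact ⟨max i j, add_mem (hmono i _ (le_max_left _ _) p hi) (hmono j _ (le_max_right _ _) q hj)⟩
      | monomial m c =>
        obtain ⟨i, x, rfl⟩ := Concrete.colimit_exists_rep X c
        exact ⟨i, Polynomial.monomial m x, Polynomial.map_monomial _⟩
    intro g hg hd
    rcases subsingleton_or_nontrivial (colimit X : CommRingCat.{u}) with hs | hs
    · exact ⟨0, Subsingleton.elim _ _⟩
    obtain ⟨n, hn⟩ := hlift g
    obtain ⟨G, hG, hGd, hGm⟩ := Polynomial.lifts_and_degree_eq_and_monic hn hg
    have hGd' : 0 < G.natDegree := by rw [Polynomial.natDegree_eq_of_degree_eq hGd]; exact hd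
    obtain ⟨t, ht⟩ := exists_eval₂_tower A n (colimit.ι X (n + 1)).hom (colimit.ι X n).hom
      (fun x => by
        have h2 := hmap n (n + 1) (Nat.le_succ n) x
        rw [show X.map (homOfLE (Nat.le_succ n)) = φ n from Functor.ofSequence_map_homOfLE_succ φ n] at h2
        exact h2) G hGm hGd'
    exact ⟨_, by rw [← hG, Polynomial.IsRoot, Polynomial.eval_map]; exact ht⟩



/-- Every commutative ring `A` admits an injective ring map into an absolutely integrally closed
commutative ring `B`, that is, one over which every monic polynomial is a product of linear factors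
`X - b`. (Only the existence of such an extension is stated, not the finer structure of the
construction.) -/
theorem result (A : Type u) [CommRing A] :
    ∃ (B : Type u) (_ : CommRing B) (_ : Algebra A B), Function.Injective (algebraMap A B) ∧
      ∀ f : B[X], f.Monic → ∃ s : Multiset B, f = (s.map fun b => X - C b).prod := by
  classical
  obtain ⟨B, f, hinj, hroot⟩ := exists_hom_all_roots A
  letI : Algebra A B := f.toAlgebra
  refine ⟨B, inferInstance, inferInstance, hinj, fun g hg => ?_⟩
  rcases subsingleton_or_nontrivial (B : Type u) with hs | hs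
  · exact ⟨0, Subsingleton.elim _ _⟩
  induction hn : g.natDegree generalizing g with
  | zero => exact ⟨0, by rw [Multiset.map_zero, Multiset.prod_zero]; exact hg.natDegree_eq_zero.mp hn⟩
  | succ n ih =>
    obtain ⟨b, hb⟩ := hroot g hg (by omega)
    obtain ⟨q, hq⟩ := Polynomial.dvd_iff_isRoot.mpr hb
    have hqm : q.Monic := (monic_X_sub_C b).of_mul_monic_left (hq ▸ hg)
    have hdeg : q.natDegree = n := by
      have h2 := (monic_X_sub_C b).natDegree_mul hqm
      rw [← hq, hn, natDegree_X_sub_C] at h2
      omega
    obtain ⟨s, hs⟩ := ih q hqm hdeg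
    exact ⟨b ::ₘ s, by rw [Multiset.map_cons, Multiset.prod_cons, ← hs, hq]⟩


end Groth.Agent.S12077
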