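import Groth.Statements.S12078
import Mathlib.RingTheory.PrincipalIdealDomain
import Mathlib.LinearAlgebra.Matrix.NonsingularInverse
import Mathlib.LinearAlgebra.Matrix.Notation

set_option autoImplicit false
universe u
open CAlg

namespace Groth.Agent.S12078

/-- An elementary divisor domain is Bézout. Here `R` is a domain such that for all `n, m ≥ 1` and every
`n × m` matrix `A` there are invertible matrices `U` (`n × n`) and `V` (`m × m`) with `U * A * V`
zero off the diagonal and with diagonal entries `f 0 ∣ f 1 ∣ f 2 ∣ …`; the conclusion is that every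
finitely generated ideal of `R` is principal. -/
theorem result (R : Type u) [CommRing R] [IsDomain R]
    (hR : ∀ n m : ℕ, 1 ≤ n → 1 ≤ m → ∀ A : Matrix (Fin n) (Fin m) R,
      ∃ (U : (Matrix (Fin n) (Fin n) R)ˣ) (V : (Matrix (Fin m) (Fin m) R)ˣ) (f : ℕ → R),
        (∀ k : ℕ, f k ∣ f (k + 1)) ∧
        ∀ (i : Fin n) (j : Fin m), ((U : Matrix (Fin n) (Fin n) R) * A * (V : Matrix (Fin m) (Fin m) R)) i j =
          if (i : ℕ) = (j : ℕ) then f i else 0) :
    IsBezout R := by
  classical
  rw [IsBezout.iff_span_pair_isPrincipal]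
  intro x y
  obtain ⟨U, V, f, hf, hA⟩ := hR 1 2 le_rfl one_le_two (!![x, y])
  refine ⟨f 0, ?_⟩
  set u := (U : Matrix (Fin 1) (Fin 1) R) 0 0 with hu
  have huU : IsUnit u := by
    have := (Matrix.isUnit_iff_isUnit_det _).mp U.isUnit
    rwa [Matrix.det_fin_one] at this
  have e1 : (U : Matrix (Fin 1) (Fin 1) R) * !![x, y] * (V : Matrix (Fin 2) (Fin 2) R) =
      !![f 0, 0] := by
    ext i j
    rw [hA]
    fin_cases i; fin_cases j <;> simp
  refine le_antisymm ?_ ?_
  · have h := congrArg (fun M : Matrix (Fin 1) (Fin 2) R =>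
        M * ((V⁻¹ : (Matrix (Fin 2) (Fin 2) R)ˣ) : Matrix (Fin 2) (Fin 2) R)) e1
    simp only [Matrix.mul_assoc, Units.mul_inv, Matrix.mul_one] at h
    have h0 := congrFun (congrFun h 0) 0
    have h1 := congrFun (congrFun h 0) 1
    simp [Matrix.mul_apply, Fin.sum_univ_two, ← hu] at h0 h1
    rw [Ideal.span_le]
    rintro z (rfl | rfl)
    · exact (Ideal.unit_mul_mem_iff_mem (Ideal.span {f 0}) huU).mp
        (h0 ▸ Ideal.mul_mem_right _ _ (Ideal.mem_span_singleton_self _))
    · exact (Ideal.unit_mul_mem_iff_mem (Ideal.span {f 0}) huU).mp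
        (h1 ▸ Ideal.mul_mem_right _ _ (Ideal.mem_span_singleton_self _))
  · rw [Submodule.span_singleton_le_iff_mem]
    have h := congrFun (congrFun e1 0) 0
    simp [Matrix.mul_apply, Fin.sum_univ_two, ← hu] at h
    rw [← h]
    exact add_mem (Ideal.mul_mem_right _ _ (Ideal.mul_mem_left _ _ (Ideal.subset_span (by simp))))
      (Ideal.mul_mem_right _ _ (Ideal.mul_mem_left _ _ (Ideal.subset_span (by simp))))

end Groth.Agent.S12078
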