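import Groth.Statements.S12079
import Mathlib.LinearAlgebra.Contraction
import Mathlib.RingTheory.Flat.Basic
import Mathlib.RingTheory.TensorProduct.Finite
import Mathlib.Algebra.Module.FinitePresentation
import Mathlib.LinearAlgebra.Isomorphisms

set_option autoImplicit false
universe u
open TensorProduct
open CAlg

namespace Groth.Agent.S12079

theorem nat {R : Type u} [CommRing R] {P P' N L : Type u} [AddCommGroup P] [Module R P]
    [AddCommGroup P'] [Module R P'] [AddCommGroup N] [Module R N] [AddCommGroup L] [Module R L]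
    (g : P' →ₗ[R] P) (z : (P →ₗ[R] N) ⊗[R] L) :
    TensorProduct.rTensorHomToHomRTensor (RingHom.id R) P' N L ((LinearMap.lcomp R N g).rTensor L z) =
      TensorProduct.rTensorHomToHomRTensor (RingHom.id R) P N L z ∘ₗ g := by
  induction z with
  | zero => simp
  | tmul f l => ext x; simp
  | add a b ha hb => rw [map_add, map_add, map_add, LinearMap.add_comp, ha, hb]


/-- For a finitely presented `R`-module `M`, any `R`-module `N` and a flat `R`-module `L`, the canonical
map `Hom_R(M, N) ⊗_R L → Hom_R(M, N ⊗_R L)` sending `f ⊗ l` to `m ↦ f m ⊗ l` is bijective. -/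
theorem result (R : Type u) [CommRing R]
    (M N L : Type u) [AddCommGroup M] [Module R M] [AddCommGroup N] [Module R N] [AddCommGroup L] [Module R L]
    [Module.FinitePresentation R M] [Module.Flat R L] :
    Function.Bijective (TensorProduct.rTensorHomToHomRTensor (RingHom.id R) M N L) := by
  obtain ⟨n, π, hπ⟩ := Module.Finite.exists_fin' R M
  obtain ⟨m, ψ, hψ⟩ := (Submodule.fg_iff_exists_fin_linearMap R (Fin n → R)).1 (Module.FinitePresentation.fg_ker π hπ)
  have hfree : ∀ k : ℕ, Function.Bijective
      (TensorProduct.rTensorHomToHomRTensor (RingHom.id R) (Fin k → R) N L) := fun k => by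
    rw [← rTensorHomEquivHomRTensor_toLinearMap]
    exact (rTensorHomEquivHomRTensor R (Fin k → R) N L).bijective
  have hinj : Function.Injective (LinearMap.lcomp R N π) := fun a b h =>
    LinearMap.ext fun x => by
      obtain ⟨y, rfl⟩ := hπ x
      exact LinearMap.congr_fun h y
  have hex : Function.Exact (LinearMap.lcomp R N π) (LinearMap.lcomp R N ψ) := by
    intro f
    constructor
    · intro hf
      have hle : LinearMap.ker π ≤ LinearMap.ker f := by
        rw [← hψ]
        rintro _ ⟨y, rfl⟩
        exact LinearMap.congr_fun hf y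
      refine ⟨(LinearMap.ker π).liftQ f hle ∘ₗ (π.quotKerEquivOfSurjective hπ).symm.toLinearMap, ?_⟩
      ext x
      simp [LinearMap.lcomp_apply]
    · rintro ⟨g, rfl⟩
      refine LinearMap.ext fun x => ?_
      have : π (ψ x) = 0 := LinearMap.mem_ker.1 (hψ ▸ LinearMap.mem_range_self ψ x)
      simp [LinearMap.lcomp_apply, this]
  have hex' := Module.Flat.rTensor_exact L hex
  have hinj' := Module.Flat.rTensor_preserves_injective_linearMap (M := L) _ hinj
  constructor
  · rw [injective_iff_map_eq_zero]
    intro x hx
    exact (injective_iff_map_eq_zero _).1 hinj' x ((injective_iff_map_eq_zero _).1 (hfree n).1 _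
      (by rw [nat, hx, LinearMap.zero_comp]))
  · intro h
    obtain ⟨y, hy⟩ := (hfree n).2 (h ∘ₗ π)
    have h0 : (LinearMap.lcomp R N ψ).rTensor L y = 0 := (injective_iff_map_eq_zero _).1 (hfree m).1 _
      (by
        rw [nat, hy]
        refine LinearMap.ext fun x => ?_
        have : π (ψ x) = 0 := LinearMap.mem_ker.1 (hψ ▸ LinearMap.mem_range_self ψ x)
        simp [this])
    obtain ⟨x, rfl⟩ := (hex' y).1 h0
    rw [nat] at hy
    exact ⟨x, LinearMap.ext fun t => by obtain ⟨t', rfl⟩ := hπ t; exact LinearMap.congr_fun hy t'⟩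

end Groth.Agent.S12079
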