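import Groth.Statements.S12080
import Mathlib.RingTheory.LocalProperties.FinitePresentation
import Mathlib.RingTheory.PicardGroup
import Mathlib.RingTheory.Ideal.Operations
import Mathlib.Tactic.LinearCombination
import Mathlib.LinearAlgebra.Contraction

set_option autoImplicit false
universe u
open TensorProduct
open CAlg

namespace Groth.Agent.S12080

/-- (1) ⇒ (2): let `M` be a finite locally free `R`-module of rank `1`, i.e. there is a set `s ⊆ R`
generating the unit ideal with `M_f ≅ R_f` as `R_f`-modules for every `f ∈ s`. Then the evaluation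
map `Hom_R(M, R) ⊗_R M → R` is bijective, so `M` is invertible with inverse its dual. -/
theorem result (R : Type u) [CommRing R] (M : Type u) [AddCommGroup M]
    [Module R M] (s : Set R) (hs : Ideal.span s = ⊤)
    (hfree : ∀ f ∈ s, Nonempty (LocalizedModule.Away f M ≃ₗ[Localization.Away f] Localization.Away f)) :
    Module.Invertible R M := by
  classical
  haveI : Module.FinitePresentation R M :=
    Module.FinitePresentation.of_localizationSpan s hs fun g =>
      Module.FinitePresentation.of_equiv (hfree g.1 g.2).some.symm
  have hcomm : ∀ (φ : Module.Dual R M) (m n : M), φ n • m = φ m • n := by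
    intro φ m n
    rw [← sub_eq_zero]
    set d := φ n • m - φ m • n
    have hker : LinearMap.ker (LinearMap.toSpanSingleton R M d) = ⊤ := by
      rw [← Ideal.radical_eq_top, eq_top_iff, ← hs, Ideal.span_le]
      intro f hf
      obtain ⟨e⟩ := hfree f hf
      let ι := LocalizedModule.mkLinearMap (Submonoid.powers f) M
      let α := Algebra.linearMap R (Localization.Away f)
      let Φ : LocalizedModule.Away f M →ₗ[Localization.Away f] Localization.Away f :=
        (IsLocalizedModule.map (Submonoid.powers f) ι α φ).extendScalarsOfIsLocalization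
          (Submonoid.powers f) _
      have hΦ : ∀ x, algebraMap R (Localization.Away f) (φ x) = e (ι x) * Φ (e.symm 1) := fun x => by
        have h1 : Φ (ι x) = algebraMap R _ (φ x) := IsLocalizedModule.map_apply _ ι α φ x
        rw [← h1, ← smul_eq_mul, ← map_smul, ← map_smul, smul_eq_mul, mul_one,
          LinearEquiv.symm_apply_apply]
      have hd : ι d = 0 := e.injective (by
        rw [map_zero, map_sub, map_smul, map_smul, map_sub,
          ← algebraMap_smul (Localization.Away f) (φ n) (ι m),
          ← algebraMap_smul (Localization.Away f) (φ m) (ι n), map_smul, map_smul, smul_eq_mul,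
          smul_eq_mul, hΦ, hΦ]
        ring)
      obtain ⟨⟨_, k, rfl⟩, hc⟩ := (IsLocalizedModule.eq_zero_iff (Submonoid.powers f) ι).1 hd
      exact ⟨k, hc⟩
    simpa using (LinearMap.ker_eq_top.1 hker ▸ rfl : LinearMap.toSpanSingleton R M d 1 = 0)
  have hsurj : LinearMap.range (contractLeft R M) = ⊤ := by
    rw [← Ideal.radical_eq_top, eq_top_iff, ← hs, Ideal.span_le]
    intro f hf
    obtain ⟨e⟩ := hfree f hf
    let ι := LocalizedModule.mkLinearMap (Submonoid.powers f) M
    let α := Algebra.linearMap R (Localization.Away f)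
    obtain ⟨φ, ⟨_, j, rfl⟩, hφ⟩ := Module.FinitePresentation.exists_lift_of_isLocalizedModule
      (Submonoid.powers f) α ((e.toLinearMap.restrictScalars R) ∘ₗ ι)
    obtain ⟨⟨m, ⟨_, k, rfl⟩⟩, hm⟩ := IsLocalizedModule.surj (Submonoid.powers f) ι (e.symm 1)
    have h1 : e (ι m) = algebraMap R _ (f ^ k) := by
      rw [← hm, Submonoid.smul_def]
      change e ((f ^ k) • e.symm 1) = _
      rw [← algebraMap_smul (Localization.Away f) (f ^ k) (e.symm 1), map_smul,
        LinearEquiv.apply_symm_apply, smul_eq_mul, mul_one]
    have h2 : algebraMap R (Localization.Away f) (φ m) = algebraMap R _ (f ^ (j + k)) := by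
      have := LinearMap.congr_fun hφ m
      rw [pow_add, map_mul, ← h1]
      exact this.trans (Algebra.smul_def (f ^ j) (e (ι m)))
    obtain ⟨⟨_, l, rfl⟩, hl⟩ := (IsLocalization.eq_iff_exists (Submonoid.powers f) _).1 h2
    refine ⟨l + (j + k), ?_⟩
    rw [pow_add]
    exact ⟨f ^ l • (φ ⊗ₜ m), by simpa using hl⟩
  have hsym : ∀ (φ ψ : Module.Dual R M) (n : M), ψ n • φ = φ n • ψ := fun φ ψ n => LinearMap.ext fun y => by
    have := congrArg φ (hcomm ψ n y)
    simp only [map_smul, smul_eq_mul] at this
    simp only [LinearMap.smul_apply, smul_eq_mul]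
    linear_combination -this
  have hkey : ∀ (w : Module.Dual R M ⊗[R] M) (φ : Module.Dual R M) (n : M),
      contractLeft R M w • (φ ⊗ₜ[R] n) = φ n • w := by
    intro w φ n
    induction w with
    | zero => simp
    | tmul ψ x =>
      rw [contractLeft_apply, ← TensorProduct.tmul_smul, ← hcomm ψ x n, TensorProduct.tmul_smul,
        TensorProduct.smul_tmul', hsym φ ψ n, ← TensorProduct.smul_tmul']
    | add a b ha hb => rw [map_add, add_smul, ha, hb, smul_add]
  obtain ⟨w₀, hw₀⟩ : ∃ w, contractLeft R M w = 1 := LinearMap.range_eq_top.1 hsurj 1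
  refine ⟨⟨?_, LinearMap.range_eq_top.1 hsurj⟩⟩
  have hinv : ∀ z, contractLeft R M z • w₀ = z := by
    intro z
    induction z with
    | zero => simp
    | tmul φ n => rw [contractLeft_apply, ← hkey w₀ φ n, hw₀, one_smul]
    | add a b ha hb => rw [map_add, add_smul, ha, hb]
  exact Function.LeftInverse.injective (g := fun r => r • w₀) hinv

end Groth.Agent.S12080
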