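import Groth.Statements.S12081
import Groth.Agent.L05.Mil.Algebra

set_option autoImplicit false
universe u
open TensorProduct
open EtAlg

namespace Groth.Agent.S12081

/-- Let `B' = B ×_A A'` be a fibre square of rings with `A' → A` surjective with kernel `I`, let `J =
Ker(B' → B)`, let `D'` be a `B'`-algebra and `C' = D' ⊗_{B'} A'`. Then the ideal `I C'` is, as a
subset of `C'`, the image of the ideal `J D'` under `D' → C'`; that is, the map `J D' → I C'` is
surjective. -/
theorem result (B' B A' A : Type u) [CommRing B'] [CommRing B] [CommRing A'] [CommRing A]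
    [Algebra B' B] [Algebra B' A'] [Algebra B A] [Algebra A' A] [Algebra B' A] [IsScalarTower B' B A] [IsScalarTower B' A' A]
    (hsq : EtMil.IsFibreSquare B' B A' A)
    (D' C' : Type u) [CommRing D'] [CommRing C'] [Algebra B' D'] [Algebra A' C']
    [Algebra D' C'] [Algebra B' C'] [IsScalarTower B' A' C'] [IsScalarTower B' D' C'] [Algebra.IsPushout B' A' D' C'] :
    (algebraMap D' C') '' ((RingHom.ker (algebraMap B' B)).map (algebraMap B' D') : Set D') =
      ((RingHom.ker (algebraMap A' A)).map (algebraMap A' C') : Set C') := by
  exact Groth.L05.Mil.image_map_ker_eq (Groth.L05.Mil.liftKer_of_isFibreSquare hsq)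

end Groth.Agent.S12081
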