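import Groth.Statements.S12082
import Groth.Agent.L07.SyntFieldExtra

set_option autoImplicit false
set_option linter.style.haveILetI false
universe u
open Synt

namespace Groth.Agent.S12082

/-- Let `S = k[x_1, …, x_n]/I` over a field `k`, `q` a prime of `S` with preimage `q'` in the polynomial
ring, `c` the natural number with `c + ht(q) = ht(q')`, and `J` the extension of `I` to the local
ring `R = k[x_1, …, x_n]_{q'}`. Any `c` elements of `J` whose images generate `J / q' J` form a
regular sequence in `R`. -/
theorem result (k : Type u) [Field k] (n : ℕ)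
    (I : Ideal (MvPolynomial (Fin n) k)) (q : Ideal (MvPolynomial (Fin n) k ⧸ I)) [q.IsPrime] (c : ℕ)
    (hc : (c : ℕ∞) + q.height = (q.comap (Ideal.Quotient.mk I)).height)
    (f : Fin c → Localization.AtPrime (q.comap (Ideal.Quotient.mk I)))
    (hf : ∀ i, f i ∈ I.map (algebraMap _ (Localization.AtPrime (q.comap (Ideal.Quotient.mk I)))))
    (hgen : Ideal.span (Set.range f) ⊔
        IsLocalRing.maximalIdeal (Localization.AtPrime (q.comap (Ideal.Quotient.mk I))) *
          I.map (algebraMap _ (Localization.AtPrime (q.comap (Ideal.Quotient.mk I)))) =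
      I.map (algebraMap _ (Localization.AtPrime (q.comap (Ideal.Quotient.mk I))))) :
    RingTheory.Sequence.IsRegular (Localization.AtPrime (q.comap (Ideal.Quotient.mk I))) (List.ofFn f) := by
  classical
  let Q := q.comap (Ideal.Quotient.mk I)
  let R := Localization.AtPrime Q
  haveI : IsRegularLocalRing R := IsRegularRing.isRegularLocalRing_localization Q
  haveI : IsNoetherianRing (MvPolynomial (Fin n) k ⧸ I) := inferInstance
  obtain ⟨a, ha⟩ := ENat.ne_top_iff_exists.mp (Ideal.height_ne_top (Ideal.IsPrime.ne_top (inferInstance : Q.IsPrime)))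
  obtain ⟨b, hb⟩ := ENat.ne_top_iff_exists.mp (Ideal.height_ne_top (Ideal.IsPrime.ne_top ‹q.IsPrime›))
  have habc : c + b = a := by
    have hc' : (c : ℕ∞) + q.height = Q.height := hc
    rw [← ha, ← hb] at hc'
    exact_mod_cast hc'
  have hR : ringKrullDim R = (a : WithBot ℕ∞) := by
    rw [IsLocalization.AtPrime.ringKrullDim_eq_height Q R, ← ha]; rfl
  have hQ : ringKrullDim (R ⧸ I.map (algebraMap _ R)) = (b : WithBot ℕ∞) := by
    rw [Groth.L07.Synt.ringKrullDim_quotient_map, ← hb]; rfl
  have hJ : I.map (algebraMap _ R) ≤ IsLocalRing.maximalIdeal R := by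
    rw [← Localization.AtPrime.map_eq_maximalIdeal]
    exact Ideal.map_mono fun y hy => by
      show Ideal.Quotient.mk I y ∈ q
      rw [Ideal.Quotient.eq_zero_iff_mem.mpr hy]; exact zero_mem _
  have hle : Ideal.span (Set.range f) ≤ I.map (algebraMap _ R) :=
    Ideal.span_le.mpr (by rintro _ ⟨i, rfl⟩; exact hf i)
  have heq : Ideal.span (Set.range f) = I.map (algebraMap _ R) :=
    le_antisymm hle (Submodule.le_of_le_smul_of_le_jacobson_bot (I := IsLocalRing.maximalIdeal R)
      (IsNoetherian.noetherian _) (IsLocalRing.maximalIdeal_le_jacobson _) hgen.ge)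
  exact (Groth.L07.Synt.regular_of_dim hJ hR hQ habc).1 _
    (by rw [Groth.L07.RegIdeal.ofList_ofFn, heq]) (List.length_ofFn)

end Groth.Agent.S12082
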