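import Groth.Statements.S12083
import Groth.Agent.L03.RelFP
import Mathlib.RingTheory.IsTensorProduct
import Mathlib.RingTheory.Ideal.Quotient.Operations
-- import your own Groth.Agent.* helpers here

set_option autoImplicit false
universe u
open CAlg

namespace Groth.Agent.S12083

/-- Let `R → A` be a finite type ring map with a surjective presentation `α : R[x_1, …, x_n] → A` and
`M` an `A`-module finitely presented relative to `R` (finitely presented as an `R[x_1, …,
x_n]`-module through `α`). For a ring map `R → R'` let `A' = R' ⊗_R A` (a pushout square) and `γ :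
R'[z_1, …, z_k] → A'` any surjective presentation. Then `A' ⊗_A M = R' ⊗_R M` is finitely presented
relative to `R'`, i.e. finitely presented as an `R'[z_1, …, z_k]`-module through `γ`. -/
theorem result {R A R' A' : Type u} [CommRing R] [CommRing A] [CommRing R'] [CommRing A']
    [Algebra R A] [Algebra R R'] [Algebra A A'] [Algebra R' A'] [Algebra R A'] [IsScalarTower R A A'] [IsScalarTower R R' A']
    [Algebra.IsPushout R A R' A'] [Algebra.FiniteType R A] (M : Type u) [AddCommGroup M] [Module A M] {n k : ℕ}
    (α : MvPolynomial (Fin n) R →ₐ[R] A) (hα : Function.Surjective α)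
    (hM : @Module.FinitePresentation (MvPolynomial (Fin n) R) M _ _ (Module.compHom M α.toRingHom))
    (γ : MvPolynomial (Fin k) R' →ₐ[R'] A') (hγ : Function.Surjective γ) :
    @Module.FinitePresentation (MvPolynomial (Fin k) R') (TensorProduct A A' M) _ _
      (Module.compHom (TensorProduct A A' M) γ.toRingHom) := by
  classical
  let _ : Algebra (MvPolynomial (Fin n) R) (MvPolynomial (Fin n) R') :=
    (MvPolynomial.map (algebraMap R R')).toAlgebra
  let τ : MvPolynomial (Fin n) R' →ₐ[R'] A' :=
    MvPolynomial.aeval fun i => algebraMap A A' (α (MvPolynomial.X i))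
  have hc : ∀ p : MvPolynomial (Fin n) R,
      τ (MvPolynomial.map (algebraMap R R') p) = algebraMap A A' (α p) := by
    have : (τ.restrictScalars R).comp (MvPolynomial.mapAlgHom (Algebra.ofId R R')) =
        (IsScalarTower.toAlgHom R A A').comp α := by
      refine MvPolynomial.algHom_ext fun i => ?_
      simp [τ]
    exact fun p => DFunLike.congr_fun this p
  have hτ : Function.Surjective τ := by
    intro a
    induction a using (Algebra.IsPushout.out (R := R) (S := A) (R' := R') (S' := A')).inductionOn with
    | zero => exact ⟨0, map_zero _⟩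
    | tmul x => exact ⟨MvPolynomial.C x, MvPolynomial.algHom_C _ _⟩
    | smul a y hy =>
      obtain ⟨p, rfl⟩ := hα a
      obtain ⟨q, rfl⟩ := hy
      exact ⟨MvPolynomial.map (algebraMap R R') p * q, by rw [map_mul, hc, Algebra.smul_def]⟩
    | add y z hy hz =>
      obtain ⟨p, rfl⟩ := hy
      obtain ⟨q, rfl⟩ := hz
      exact ⟨p + q, map_add _ _ _⟩
  have hker : RingHom.ker τ.toRingHom ≤
      (RingHom.ker α.toRingHom).map (algebraMap (MvPolynomial (Fin n) R) (MvPolynomial (Fin n) R')) := by
    intro x hx
    set J := (RingHom.ker α.toRingHom).map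
      (algebraMap (MvPolynomial (Fin n) R) (MvPolynomial (Fin n) R'))
    let m : MvPolynomial (Fin n) R →ₐ[R] MvPolynomial (Fin n) R' ⧸ J :=
      ((Ideal.Quotient.mkₐ R' J).restrictScalars R).comp (MvPolynomial.mapAlgHom (Algebra.ofId R R'))
    have hm : ∀ p ∈ RingHom.ker α.toRingHom, m p = 0 := fun p hp =>
      Ideal.Quotient.eq_zero_iff_mem.2 (Ideal.mem_map_of_mem _ hp)
    let f : A →ₐ[R] MvPolynomial (Fin n) R' ⧸ J :=
      (Ideal.Quotient.liftₐ _ m hm).comp (Ideal.quotientKerAlgEquivOfSurjective hα).symm.toAlgHom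
    have hf : ∀ p, f (α p) = m p := by
      intro p
      have : (Ideal.quotientKerAlgEquivOfSurjective hα).symm (α p) = Ideal.Quotient.mk _ p := by
        rw [AlgEquiv.symm_apply_eq]; rfl
      show Ideal.Quotient.liftₐ _ m hm ((Ideal.quotientKerAlgEquivOfSurjective hα).symm (α p)) = _
      rw [this]; rfl
    let g : R' →ₐ[R] MvPolynomial (Fin n) R' ⧸ J := (Algebra.ofId R' _).restrictScalars R
    let ψ := Algebra.pushoutDesc A' f g fun _ _ => mul_comm _ _
    have h2 : ψ.toRingHom.comp τ.toRingHom = Ideal.Quotient.mk J := by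
      refine MvPolynomial.ringHom_ext (fun r => ?_) fun i => ?_
      · show ψ (τ (MvPolynomial.C r)) = _
        rw [MvPolynomial.algHom_C, Algebra.pushoutDesc_right]
        rfl
      · show ψ (τ (MvPolynomial.X i)) = _
        rw [MvPolynomial.aeval_X, Algebra.pushoutDesc_left, hf]
        simp [m]
    have h3 := DFunLike.congr_fun h2 x
    rw [RingHom.comp_apply, RingHom.mem_ker.1 hx, map_zero] at h3
    exact Ideal.Quotient.eq_zero_iff_mem.1 h3.symm
  refine (Groth.L03.RelFP.fpVia_mvPolynomial_iff (M := TensorProduct A A' M) τ hτ γ hγ).1 ?_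
  exact Groth.L03.RelFP.fpVia_tensor α.toRingHom τ.toRingHom hα hc hτ hker hM

end Groth.Agent.S12083
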