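import Groth.Statements.S12085
import Mathlib.RingTheory.Extension.Presentation.Core
import Mathlib.RingTheory.Unramified.Basic
import Mathlib.RingTheory.Kaehler.Basic
import Mathlib.Algebra.MvPolynomial.PDeriv

set_option autoImplicit false
universe u
open TensorProduct
open CAlg

namespace Groth.Agent.S12085

variable {_unused : Unit}
open MvPolynomial

section
variable {R S : Type u} [CommRing R] [CommRing S] [Algebra R S] {n m : ℕ}

/-- For an unramified presentation the Jacobian rows span. -/
theorem exists_cert (P : Algebra.Presentation R S (Fin n) (Fin m)) [Algebra.FormallyUnramified R S] (i : Fin n) :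
    ∃ (a : Fin m → MvPolynomial (Fin n) R) (b : Fin n → Fin m → MvPolynomial (Fin n) R), ∀ l,
      (if l = i then 1 else 0) - ∑ j, a j * pderiv l (P.relation j) = ∑ j, b l j * P.relation j := by
  classical
  set N : Submodule S (Fin n → S) := Submodule.span S (Set.range fun j => fun l => aeval P.val (pderiv l (P.relation j))) with hN
  let d : MvPolynomial (Fin n) R → (Fin n → S) ⧸ N := fun f => Submodule.Quotient.mk fun l => aeval P.val (pderiv l f)
  have hadd : ∀ a b, d (a + b) = d a + d b := fun a b => by
    simp only [d, ← Submodule.Quotient.mk_add]; congr 1; funext l; simp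
  have hmul : ∀ a b, d (a * b) = aeval P.val a • d b + aeval P.val b • d a := fun a b => by
    simp only [d, ← Submodule.Quotient.mk_smul, ← Submodule.Quotient.mk_add]; congr 1; funext l
    simp [Derivation.leibniz]
  have hsmul : ∀ (r : R) a, d (r • a) = r • d a := fun r a => by
    simp only [d, ← Submodule.Quotient.mk_smul]; congr 1; funext l
    simp
  have hz : ∀ f, aeval P.val f = 0 → d f = 0 := by
    intro f hf
    have hf' : f ∈ Ideal.span (Set.range P.relation) := by
      rw [P.span_range_relation_eq_ker, P.ker_eq_ker_aeval_val]; exact hf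
    obtain ⟨w, rfl⟩ := Ideal.mem_span_range_iff_exists_fun.mp hf'
    have hsum : d (∑ j, w j * P.relation j) = ∑ j, d (w j * P.relation j) :=
      map_sum (⟨⟨d, by simpa [hadd] using hadd 0 0⟩, hadd⟩ : MvPolynomial (Fin n) R →+ (Fin n → S) ⧸ N) _ _
    rw [hsum]
    refine Finset.sum_eq_zero fun j _ => ?_
    rw [hmul, P.aeval_val_relation, zero_smul, add_zero]
    refine (congrArg (aeval P.val (w j) • ·) ?_).trans (smul_zero _)
    exact (Submodule.Quotient.mk_eq_zero _).mpr (Submodule.subset_span ⟨j, rfl⟩)
  have hc : ∀ f g, aeval P.val f = aeval P.val g → d f = d g := fun f g h => by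
    rw [← sub_add_cancel f g, hadd, hz (f - g) (by rw [map_sub, h, sub_self]), zero_add]
  have hsec : ∀ s, aeval P.val (P.σ s) = s := fun s => P.aeval_val_σ s
  let δ : Derivation R S ((Fin n → S) ⧸ N) := Derivation.mk'
    { toFun := fun s => d (P.σ s)
      map_add' := fun a b => by rw [← hadd]; exact hc _ _ (by rw [map_add, hsec, hsec, hsec])
      map_smul' := fun r a => by rw [RingHom.id_apply, ← hsmul]; exact hc _ _ (by rw [map_smul, hsec, hsec]) }
    fun a b => by
      show d (P.σ (a * b)) = a • d (P.σ b) + b • d (P.σ a)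
      rw [hc (P.σ (a * b)) (P.σ a * P.σ b) (by rw [map_mul, hsec, hsec, hsec]), hmul, hsec, hsec]
  have h0 : δ (P.val i) = 0 := by
    have : KaehlerDifferential.D R S (P.val i) = 0 := Subsingleton.elim _ _
    rw [← δ.liftKaehlerDifferential_comp_D, this, map_zero]
  have h1 : d (X i) = 0 := by
    rw [← h0]; exact hc _ _ (by rw [aeval_X, hsec])
  obtain ⟨a, ha⟩ := (Submodule.mem_span_range_iff_exists_fun S).mp ((Submodule.Quotient.mk_eq_zero _).mp h1)
  refine ⟨fun j => P.σ (a j), ?_⟩
  have : ∀ l, ∃ b : Fin m → MvPolynomial (Fin n) R,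
      (if l = i then 1 else 0) - ∑ j, P.σ (a j) * pderiv l (P.relation j) = ∑ j, b j * P.relation j := by
    intro l
    have h2 : ((if l = i then 1 else 0) - ∑ j, P.σ (a j) * pderiv l (P.relation j) : MvPolynomial (Fin n) R) ∈
        Ideal.span (Set.range P.relation) := by
      rw [P.span_range_relation_eq_ker, P.ker_eq_ker_aeval_val, RingHom.mem_ker, map_sub, map_sum]
      have h3 := congrFun ha l
      simp only [Finset.sum_apply, Pi.smul_apply, smul_eq_mul] at h3
      simp only [map_mul, hsec, h3]
      rcases eq_or_ne l i with rfl | hl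
      · simp [pderiv_X_self]
      · simp [hl, pderiv_X_of_ne (Ne.symm hl)]
    obtain ⟨b, hb⟩ := Ideal.mem_span_range_iff_exists_fun.mp h2
    exact ⟨b, hb.symm⟩
  choose b hb using this
  exact ⟨b, hb⟩

/-- Unramifiedness from a certificate. -/
theorem unramified_of_cert {R₀ S₀ : Type u} [CommRing R₀] [CommRing S₀] [Algebra R₀ S₀]
    (π : MvPolynomial (Fin n) R₀ →ₐ[R₀] S₀) (hπ : Function.Surjective π) (f : Fin m → MvPolynomial (Fin n) R₀)
    (hπf : ∀ j, π (f j) = 0) (a : Fin n → Fin m → MvPolynomial (Fin n) R₀)
    (h : ∀ i l, π ((if l = i then 1 else 0) - ∑ j, a i j * pderiv l (f j)) = 0) :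
    Algebra.FormallyUnramified R₀ S₀ := by
  classical
  let v : Fin n → Ω[S₀⁄R₀] := fun i => KaehlerDifferential.D R₀ S₀ (π (X i))
  have chain : ∀ g : MvPolynomial (Fin n) R₀,
      KaehlerDifferential.D R₀ S₀ (π g) = ∑ l, π (pderiv l g) • v l := by
    intro g
    induction g using MvPolynomial.induction_on with
    | C r =>
      have : KaehlerDifferential.D R₀ S₀ (π (C r)) = 0 := by
        rw [show π (C r) = algebraMap R₀ S₀ r from π.commutes r]; exact Derivation.map_algebraMap _ r
      simp [this]
    | add p q hp hq => simp only [map_add, hp, hq, add_smul, Finset.sum_add_distrib]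
    | mul_X p k hp =>
      have hk : (∑ l, π (pderiv l (X k)) • v l) = v k := by
        rw [Finset.sum_eq_single k (fun l _ hl => by simp [pderiv_X_of_ne (Ne.symm hl)]) (by simp)]
        simp
      calc KaehlerDifferential.D R₀ S₀ (π (p * X k))
          = π p • v k + π (X k) • KaehlerDifferential.D R₀ S₀ (π p) := by
            rw [map_mul, Derivation.leibniz]
        _ = π p • (∑ l, π (pderiv l (X k)) • v l)
              + π (X k) • ∑ l, π (pderiv l p) • v l := by rw [hk, hp]
        _ = _ := by
            rw [Finset.smul_sum, Finset.smul_sum, ← Finset.sum_add_distrib]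
            refine Finset.sum_congr rfl fun l _ => ?_
            rw [smul_smul, smul_smul, ← add_smul, ← map_mul, ← map_mul, ← map_add, Derivation.leibniz]
            rfl
  have hv : ∀ i, v i = 0 := by
    intro i
    have hf : ∀ j, ∑ l, π (pderiv l (f j)) • v l = 0 := fun j => by
      rw [← chain, hπf, map_zero]
    have h1 : ∀ l, (if l = i then (1 : S₀) else 0) = ∑ j, π (a i j) * π (pderiv l (f j)) := by
      intro l
      have := sub_eq_zero.mp ((map_sub π _ _).symm.trans (h i l))
      rw [map_sum] at this
      simp only [map_mul] at this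
      rw [← this]
      split_ifs <;> simp
    have h2 : v i = ∑ l, (if l = i then (1 : S₀) else 0) • v l := by simp [ite_smul]
    rw [h2]
    simp only [h1, Finset.sum_smul]
    rw [Finset.sum_comm]
    refine Finset.sum_eq_zero fun j _ => ?_
    simp only [mul_smul, ← Finset.smul_sum, hf, smul_zero]
  rw [Algebra.formallyUnramified_iff]
  refine subsingleton_of_forall_eq 0 fun w => ?_
  have hw : w ∈ Submodule.span S₀ (Set.range (KaehlerDifferential.D R₀ S₀)) := by
    rw [KaehlerDifferential.span_range_derivation]; trivial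
  induction hw using Submodule.span_induction with
  | mem x hx =>
    obtain ⟨s, rfl⟩ := hx
    obtain ⟨g, rfl⟩ := hπ s
    rw [chain]; simp [hv]
  | zero => rfl
  | add x y _ _ hx hy => rw [hx, hy, add_zero]
  | smul c x _ hx => rw [hx, smul_zero]

end

open CAlg in

/-- If `R → S` is G-unramified (of finite presentation and formally unramified), then there are a finite
type `ℤ`-algebra `R₀`, a ring map `R₀ → R` and a G-unramified ring map `R₀ → S₀` such that `S ≅ R
⊗_{R₀} S₀` as `R`-algebras (existence of an isomorphism). -/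
theorem result (R : Type u) [CommRing R] (S : Type u) [CommRing S]
    [Algebra R S] [Algebra.FinitePresentation R S] [Algebra.FormallyUnramified R S] :
    ∃ (R₀ : Type u) (_ : CommRing R₀) (_ : Algebra.FiniteType ℤ R₀) (S₀ : Type u) (_ : CommRing S₀)
      (_ : Algebra R₀ S₀) (_ : Algebra.FinitePresentation R₀ S₀) (_ : Algebra.FormallyUnramified R₀ S₀)
      (_ : Algebra R₀ R), Nonempty (R ⊗[R₀] S₀ ≃ₐ[R] S) := by
  classical
  let n := Algebra.Presentation.ofFinitePresentationVars R S
  let m := Algebra.Presentation.ofFinitePresentationRels R S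
  let P : Algebra.Presentation R S (Fin n) (Fin m) := Algebra.Presentation.ofFinitePresentation R S
  choose a b hab using fun i => exists_cert P i
  let T : Set R := P.coeffs ∪ (⋃ i, ⋃ j, ((a i j).coeffs : Set R)) ∪ (⋃ i, ⋃ l, ⋃ j, ((b i l j).coeffs : Set R))
  have hT : T.Finite := ((P.finite_coeffs).union (Set.finite_iUnion fun _ => Set.finite_iUnion fun _ => Finset.finite_toSet _)).union
    (Set.finite_iUnion fun _ => Set.finite_iUnion fun _ => Set.finite_iUnion fun _ => Finset.finite_toSet _)
  let R₀ : Subalgebra ℤ R := Algebra.adjoin ℤ T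
  have hrange : Set.range (algebraMap R₀ R) = (R₀ : Set R) := Subalgebra.setRange_algebraMap _
  have : P.HasCoeffs R₀ := ⟨fun x hx => by
    rw [hrange]; exact Algebra.subset_adjoin (Or.inl (Or.inl hx))⟩
  have hinj : Function.Injective (MvPolynomial.map (σ := Fin n) (algebraMap R₀ R)) :=
    MvPolynomial.map_injective _ Subtype.val_injective
  have ha : ∀ i j, a i j ∈ Set.range (MvPolynomial.map (algebraMap R₀ R)) := fun i j => by
    rw [MvPolynomial.mem_range_map_iff_coeffs_subset, hrange]
    exact fun x hx => Algebra.subset_adjoin (Or.inl (Or.inr (Set.mem_iUnion₂.mpr ⟨i, j, hx⟩)))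
  have hb : ∀ i l j, b i l j ∈ Set.range (MvPolynomial.map (algebraMap R₀ R)) := fun i l j => by
    rw [MvPolynomial.mem_range_map_iff_coeffs_subset, hrange]
    exact fun x hx => Algebra.subset_adjoin (Or.inr (Set.mem_iUnion.mpr ⟨i, Set.mem_iUnion₂.mpr ⟨l, j, hx⟩⟩))
  choose a₀ ha₀ using ha
  choose b₀ hb₀ using hb
  have hun : Algebra.FormallyUnramified R₀ (P.ModelOfHasCoeffs R₀) := by
    refine unramified_of_cert (Ideal.Quotient.mkₐ R₀ _) Ideal.Quotient.mk_surjective (P.relationOfHasCoeffs R₀)
      (fun j => Ideal.Quotient.eq_zero_iff_mem.mpr (Ideal.subset_span ⟨j, rfl⟩)) a₀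
      fun i l => Ideal.Quotient.eq_zero_iff_mem.mpr (Ideal.mem_span_range_iff_exists_fun.mpr ⟨b₀ i l, ?_⟩)
    apply hinj
    rw [map_sum, map_sub, map_sum]
    simp only [map_mul, hb₀, ha₀, MvPolynomial.pderiv_map.symm, P.map_relationOfHasCoeffs R₀]
    rw [← hab i l]
    split_ifs <;> simp
  exact ⟨R₀, inferInstance, .adjoin_of_finite hT, P.ModelOfHasCoeffs R₀, inferInstance, inferInstance, inferInstance, hun,
    inferInstance, ⟨P.tensorModelOfHasCoeffsEquiv R₀⟩⟩

end Groth.Agent.S12085
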