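import Groth.Statements.S12086
import Groth.Agent.L10.KFlat.Res

set_option autoImplicit false
universe u
open CategoryTheory CategoryTheory.Limits MonoidalCategory CategoryTheory.Pretriangulated
open DRing

namespace Groth.Agent.S12086

/-- Let `(K₁•, K₂•, K₃•)` be a distinguished triangle in the homotopy category `K(R)` of complexes of
`R`-modules. If two out of the three complexes are K-flat (tensoring with them carries acyclic
complexes to acyclic complexes), then so is the third. -/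
theorem result (R : Type u) [CommRing R]
    (T : Pretriangulated.Triangle (HomotopyCategory (ModuleCat.{u} R) (ComplexShape.up ℤ)))
    (hT : T ∈ Pretriangulated.distinguishedTriangles) :
    ((∀ L : DRing.Cx R, (∀ i : ℤ, IsZero (L.homology i)) → ∀ i : ℤ, IsZero ((L ⊗ T.obj₁.as).homology i)) → (∀ L : DRing.Cx R, (∀ i : ℤ, IsZero (L.homology i)) → ∀ i : ℤ, IsZero ((L ⊗ T.obj₂.as).homology i)) → (∀ L : DRing.Cx R, (∀ i : ℤ, IsZero (L.homology i)) → ∀ i : ℤ, IsZero ((L ⊗ T.obj₃.as).homology i))) ∧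
    ((∀ L : DRing.Cx R, (∀ i : ℤ, IsZero (L.homology i)) → ∀ i : ℤ, IsZero ((L ⊗ T.obj₁.as).homology i)) → (∀ L : DRing.Cx R, (∀ i : ℤ, IsZero (L.homology i)) → ∀ i : ℤ, IsZero ((L ⊗ T.obj₃.as).homology i)) → (∀ L : DRing.Cx R, (∀ i : ℤ, IsZero (L.homology i)) → ∀ i : ℤ, IsZero ((L ⊗ T.obj₂.as).homology i))) ∧
    ((∀ L : DRing.Cx R, (∀ i : ℤ, IsZero (L.homology i)) → ∀ i : ℤ, IsZero ((L ⊗ T.obj₂.as).homology i)) → (∀ L : DRing.Cx R, (∀ i : ℤ, IsZero (L.homology i)) → ∀ i : ℤ, IsZero ((L ⊗ T.obj₃.as).homology i)) → (∀ L : DRing.Cx R, (∀ i : ℤ, IsZero (L.homology i)) → ∀ i : ℤ, IsZero ((L ⊗ T.obj₁.as).homology i))) := by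
  obtain ⟨X, Y, f, ⟨e⟩⟩ := hT
  have h : ∀ {K L : HomotopyCategory (ModuleCat.{u} R) (ComplexShape.up ℤ)}, (K ≅ L) →
      (DRing.IsKFlat R K.as ↔ DRing.IsKFlat R L.as) := fun {K L} e =>
    let u : HomotopyEquiv K.as L.as := HomotopyCategory.homotopyEquivOfIso e
    ⟨Groth.L10.KFlat.of_homotopyEquiv u, Groth.L10.KFlat.of_homotopyEquiv u.symm⟩
  have key := Groth.L10.KFlat.two_of_three_split (CochainComplex.mappingCone.triangleRotateShortComplexSplitting f)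
  have e1 := h (Pretriangulated.Triangle.π₁.mapIso e)
  have e2 := h (Pretriangulated.Triangle.π₂.mapIso e)
  have e3 := h (Pretriangulated.Triangle.π₃.mapIso e)
  have eX : DRing.IsKFlat R X ↔ DRing.IsKFlat R (X⟦(1 : ℤ)⟧) :=
    ⟨Groth.L10.KFlat.shift X 1, fun hX => Groth.L10.KFlat.of_iso
      ((shiftEquiv (DRing.Cx R) (1 : ℤ)).unitIso.app X).symm
      (Groth.L10.KFlat.shift _ (-1) hX)⟩
  refine ⟨fun h1 h2 => e3.2 ?_, fun h1 h3 => e2.2 ?_, fun h2 h3 => e1.2 ?_⟩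
  · exact key.2.1 (e2.1 h2) (eX.1 (e1.1 h1))
  · exact key.2.2 (e3.1 h3) (eX.1 (e1.1 h1))
  · exact eX.2 (key.1 (e2.1 h2) (e3.1 h3))

end Groth.Agent.S12086
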