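import Groth.Statements.S12087
import Groth.Agent.Lead.FlatPerfectH
import Groth.Agent.Lead.RpushHD
import Groth.Agent.L17.ProperCoh
import Groth.Agent.L17.Strat.GenBase
import Groth.Agent.L10.DRing.Coherent
import Groth.Agent.L29.DCoh.TildeAlg

set_option linter.style.haveILetI false
set_option backward.isDefEq.respectTransparency false
set_option backward.isDefEq.respectTransparency.types false
attribute [local instance] HasDerivedCategory.standard


set_option autoImplicit false
universe u
open CategoryTheory CategoryTheory.Limits AlgebraicGeometry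
open Perf

namespace Groth.Agent.S12087

set_option maxHeartbeats 1600000 in
/-- Let `R` be a coherent ring (every finitely generated ideal is finitely presented), `X` a scheme of
finite presentation over `R` (quasi-compact, quasi-separated, locally of finite presentation over
`Spec R`), and `G` an `O_X`-module of finite presentation that is flat over `R` and whose support is
proper over `R`. Then each `H^i(X, G)` is a coherent `R`-module, that is (over a coherent ring) a
finitely presented `R`-module. -/
theorem result (R : Type u) [CommRing R]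
    (hR : ∀ I : Ideal R, I.FG → Module.FinitePresentation R I)
    (X : Scheme.{u}) [X.Over (Spec (CommRingCat.of R))]
    [QuasiCompact (X ↘ Spec (CommRingCat.of R))] [QuasiSeparated (X ↘ Spec (CommRingCat.of R))]
    [LocallyOfFinitePresentation (X ↘ Spec (CommRingCat.of R))]
    (G : X.Modules) (hG : CohB1.IsFP G) (hflat : FlatMod.IsFlatOver (X ↘ Spec (CommRingCat.of R)) G)
    (hsupp : ClSub.IsProperOver (X ↘ Spec (CommRingCat.of R)) (CohB1.support G)) (i : ℕ) :
    Module.FinitePresentation R (Coh.HH X G i) := by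
  let f := X ↘ Spec (CommRingCat.of R)
  have hq := Groth.L17.Strat.isQCoh_of_isFP G hG
  haveI := hq
  haveI := Groth.L29.DC.RpushQC.hasRpush f
  haveI := Groth.L17.PushQCoh.hasInjectiveResolutions X
  haveI := Groth.L18.TildeF.tilde_preservesFiniteLimits (R := CommRingCat.of R)
  have hP := Groth.Lead.FlatPerfect.isPerfect_Rpush_inD f G hG hq hflat hsupp
  obtain ⟨K₀, ⟨e₀⟩⟩ := (Groth.L29.DC.TildeD.isQCohD_iff _).1 (Groth.L29.DC.PCQCoh.isQCohD_of_perfect hP)
  have h1 := Groth.L29.DC.pc_of_perfect hP ((i : ℤ) - 1)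
  have h2 : DCoh.IsPseudoCoherentD ((i : ℤ) - 1) ((DCoh.tildeD (CommRingCat.of R)).obj K₀) :=
    Groth.L29.DC.isPseudoCoherentD_of_iso e₀.symm h1
  have hpc := Groth.L29.DC.TildeAlg.pc_of_tilde h2
  haveI hfp : Module.FinitePresentation R ((Groth.L02.PC.HH (i : ℤ)).obj K₀) :=
    (Groth.L10.DR.finite_and_fp_of_pc hR hpc).2 _ (by omega)
  obtain ⟨eH⟩ := Groth.Lead.RpushHD.nonempty_HD_Rpush_inD f G i
  obtain ⟨eΓ⟩ := Groth.L17.ProperCoh.nonempty_Γ_Rpush_equiv (R := CommRingCat.of R) f G i
  let e : (moduleSpecΓFunctor (R := CommRingCat.of R)).obj ((Coh.Rpush f i).obj G) ≅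
      (Groth.L02.PC.HH (i : ℤ)).obj K₀ :=
    (moduleSpecΓFunctor (R := CommRingCat.of R)).mapIso
      (eH.symm ≪≫ ((DerivedCategory.homologyFunctor _ (i : ℤ)).mapIso e₀).symm ≪≫
        Groth.L29.DC.TildeAlg.hdIso K₀ i) ≪≫
      ((tilde.toTildeΓNatIso (R := CommRingCat.of R)).app ((Groth.L02.PC.HH (i : ℤ)).obj K₀)).symm
  exact Module.FinitePresentation.of_equiv (eΓ.trans e.toLinearEquiv).symm


end Groth.Agent.S12087
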