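import Groth.Statements.S12089
import Groth.Agent.L10.RelPC.TensorPullGen

set_option linter.style.haveILetI false
set_option backward.defeqAttrib.useBackward true
set_option backward.isDefEq.respectTransparency false
set_option backward.isDefEq.respectTransparency.types false

set_option autoImplicit false
universe u
open CategoryTheory CategoryTheory.Limits AlgebraicGeometry
attribute [local instance] HasDerivedCategory.standard
open FlatMor

namespace Groth.Agent.S12089

/-- Let `f : X ⟶ Y` and `g : Y ⟶ S` be locally of finite type with `f` pseudo-coherent (`O_X` in degree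
`0` is `n`-pseudo-coherent relative to `f` for every `n`), `m` an integer and `E` an object of
`D(O_Y)` which is `m`-pseudo-coherent relative to `g` (cover-and-chart form). Then, the derived
pullback `Lf^*` being assumed to exist, `Lf^* E` is `m`-pseudo-coherent relative to `f ≫ g`. No
boundedness of `E` is assumed. -/
theorem result {X Y S : Scheme.{u}} (f : X ⟶ Y) (g : Y ⟶ S)
    [LocallyOfFiniteType f] [LocallyOfFiniteType g] (hf : ∀ n : ℤ, DerSch.IsNPseudoCoherent f n) [DCoh.HasLpull f]
    (m : ℤ) (E : DCoh.D Y) (hE : DerSch.IsPseudoCoherentRel g m E) :
    DerSch.IsPseudoCoherentRel (f ≫ g) m ((DCoh.Lpull f).obj E) := by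
  exact Groth.L10.TensorPullGen.rel_Lpull_pc f g hf hE

end Groth.Agent.S12089
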