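import Groth.Statements.S12090
import Groth.Agent.L29.RelPC.BCMain

set_option autoImplicit false
set_option backward.isDefEq.respectTransparency false
universe u
open CategoryTheory CategoryTheory.Limits AlgebraicGeometry
attribute [local instance] HasDerivedCategory.standard
open FlatMor

namespace Groth.Agent.S12090

/-- For a flat base change: let `f : X ⟶ S` be locally of finite type, `h : S' ⟶ S` flat, `X' = X ×_S
S'` with projections `g : X' ⟶ X` and `f' : X' ⟶ S'`, `m` an integer and `E` in `D(O_X)` that is
`m`-pseudo-coherent relative to `f` (cover-and-chart form). Then, `Lg^*` being assumed to exist,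
`Lg^* E` is `m`-pseudo-coherent relative to `f'`. (The published statement asks only that `X` and
`S'` be tor independent over `S`; flatness of `h` implies it. No boundedness of `E` is assumed.) -/
theorem result {X S S' : Scheme.{u}} (f : X ⟶ S) [LocallyOfFiniteType f]
    (h : S' ⟶ S) [Flat h] [DCoh.HasLpull (pullback.fst f h)] (m : ℤ) (E : DCoh.D X)
    (hE : DerSch.IsPseudoCoherentRel f m E) :
    DerSch.IsPseudoCoherentRel (pullback.snd f h) m ((DCoh.Lpull (pullback.fst f h)).obj E) := by
  exact Groth.L29.RelPC.rel_baseChange (IsPullback.of_hasPullback f h) hE

end Groth.Agent.S12090
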