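import Groth.Statements.S12091
import Mathlib.RingTheory.Extension.Basic
import Mathlib.RingTheory.Extension.Generators
import Mathlib.LinearAlgebra.SymmetricAlgebra.Basic
import Mathlib.Algebra.MvPolynomial.Derivation
import Mathlib.LinearAlgebra.TensorProduct.Tower

set_option autoImplicit false
universe u
open TensorProduct MvPolynomial
open FlatMor

namespace Groth.Agent.S12091

/-- Let `x_1, …, x_m` generate the `A`-module `M`, let `K ⊆ A^m` be the module of relations, `C =
Sym_A(M)` and `α : A[y_1, …, y_m] → C` the presentation with `y_j ↦ x_j`, with kernel `J`. Then the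
`C`-linear map `C ⊗_A K → J/J²` sending `1 ⊗ k` to the class of `Σ_j k_j y_j` is surjective, and it
is bijective when `M` is a projective `A`-module (so that then `J/J² ≅ K ⊗_A C` and the naive
cotangent complex of `α` is `K ⊗_A C → ⊕_j C dy_j`). (The published statement asserts `J/J² ≅ K ⊗_A
C` for every `M`. For `A = ℤ`, `M = (ℤ/2)²`, `m = 2` and the two unit vectors, `K = 2ℤ²` and the
element `y_2 ⊗ (2, 0) - y_1 ⊗ (0, 2)` of `C ⊗_A K` is non-zero but maps to the class of `y_2 · 2y_1
- y_1 · 2y_2 = 0`; in degree `2` the graded piece of `J/J²` has `8` elements and that of `K ⊗_A C`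
has `16`. The published degree-by-degree computation does show that `J` is generated by the linear
forms coming from `K`, which is the surjectivity, and it is valid as written when `0 → K → A^m → M →
0` splits, which is the projective case.) -/
theorem result (A : Type u) [CommRing A] (M : Type u)
    [AddCommGroup M] [Module A M] (m : ℕ) (x : Fin m → M)
    (hx : Function.Surjective (Fintype.linearCombination A x))
    (G : Algebra.Generators A (SymmetricAlgebra A M) (Fin m))
    (hG : ∀ j, G.val j = SymmetricAlgebra.ι A M (x j)) :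
    ∃ e : SymmetricAlgebra A M ⊗[A] (LinearMap.ker (Fintype.linearCombination A x)) →ₗ[SymmetricAlgebra A M]
        G.toExtension.Cotangent,
      (∀ (k : LinearMap.ker (Fintype.linearCombination A x))
        (hk : (∑ j, C ((k : Fin m → A) j) * X j : MvPolynomial (Fin m) A) ∈ G.toExtension.ker),
        e (1 ⊗ₜ k) = Algebra.Extension.Cotangent.mk ⟨_, hk⟩) ∧
      Function.Surjective e ∧ (Module.Projective A M → Function.Bijective e) := by
  classical
  let L := Fintype.linearCombination A x
  let α : MvPolynomial (Fin m) A →+* SymmetricAlgebra A M := algebraMap G.toExtension.Ring (SymmetricAlgebra A M)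
  have hα : ∀ p : MvPolynomial (Fin m) A, α p = MvPolynomial.aeval G.val p := fun p => G.algebraMap_apply p
  have hαker : ∀ p : MvPolynomial (Fin m) A, p ∈ G.toExtension.ker ↔ α p = 0 := fun p => Iff.rfl
  let ℓ : (Fin m → A) →ₗ[A] MvPolynomial (Fin m) A := Fintype.linearCombination A fun j => MvPolynomial.X j
  have hℓ : ∀ v, ℓ v = ∑ j, C (v j) * X j := fun v => by
    simp only [ℓ, Fintype.linearCombination_apply, MvPolynomial.smul_eq_C_mul]
  have hαℓ : ∀ v, α (ℓ v) = SymmetricAlgebra.ι A M (L v) := fun v => by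
    simp only [hα, ℓ, L, Fintype.linearCombination_apply, map_sum, map_smul, MvPolynomial.aeval_X, hG]
  have hmem : ∀ k : LinearMap.ker L, ℓ k ∈ G.toExtension.ker := fun k => by
    rw [hαker, hαℓ, LinearMap.mem_ker.1 k.2, map_zero]
  -- the kernel is generated by the linear forms
  have hgen : G.toExtension.ker ≤ Ideal.span (Set.range fun k : LinearMap.ker L => ℓ k) := by
    let J : Ideal (MvPolynomial (Fin m) A) := Ideal.span (Set.range fun k : LinearMap.ker L => ℓ k)
    let q : (Fin m → A) →ₗ[A] MvPolynomial (Fin m) A ⧸ J := (Ideal.Quotient.mkₐ A J).toLinearMap.comp ℓ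
    have hq : LinearMap.ker L ≤ LinearMap.ker q := fun k hk =>
      Ideal.Quotient.eq_zero_iff_mem.2 (Ideal.subset_span ⟨⟨k, hk⟩, rfl⟩)
    let lam : M →ₗ[A] MvPolynomial (Fin m) A ⧸ J :=
      ((LinearMap.ker L).liftQ q hq).comp (L.quotKerEquivOfSurjective hx).symm.toLinearMap
    have hlam : ∀ v, lam (L v) = q v := fun v => by
      change (LinearMap.ker L).liftQ q hq ((L.quotKerEquivOfSurjective hx).symm (L v)) = _
      rw [show L v = L.quotKerEquivOfSurjective hx (Submodule.Quotient.mk v) from rfl, LinearEquiv.symm_apply_apply,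
        Submodule.liftQ_apply]
    have h : (SymmetricAlgebra.lift lam).comp (MvPolynomial.aeval G.val) = Ideal.Quotient.mkₐ A J := by
      refine MvPolynomial.algHom_ext fun j => ?_
      rw [AlgHom.comp_apply, MvPolynomial.aeval_X, hG, SymmetricAlgebra.lift_ι_apply,
        show x j = L (Pi.single j 1) by simp [L], hlam]
      simp [q, ℓ]
    have key : ∀ p : MvPolynomial (Fin m) A, α p = 0 → p ∈ J := fun p hp => by
      rw [hα] at hp
      refine Ideal.Quotient.eq_zero_iff_mem.1 ((DFunLike.congr_fun h p).symm.trans ?_)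
      rw [AlgHom.comp_apply, hp, map_zero]
    exact fun p hp => key p ((hαker p).1 hp)
  let cm : LinearMap.ker L →ₗ[A] G.toExtension.Cotangent :=
    { toFun := fun k => Algebra.Extension.Cotangent.mk ⟨ℓ k, hmem k⟩
      map_add' := fun a b => by
        rw [← map_add]
        refine congrArg _ (Subtype.ext ?_)
        exact map_add ℓ (a : Fin m → A) b
      map_smul' := fun a k => by
        rw [RingHom.id_apply, ← algebraMap_smul G.toExtension.Ring a
          (Algebra.Extension.Cotangent.mk (P := G.toExtension) ⟨ℓ k, hmem k⟩), ← map_smul]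
        refine congrArg _ (Subtype.ext ?_)
        exact (map_smul ℓ a (k : Fin m → A)).trans (Algebra.smul_def a (ℓ k)) }
  let e := cm.liftBaseChange (SymmetricAlgebra A M)
  have hαsurj : ∀ c, ∃ q : MvPolynomial (Fin m) A, α q = c := G.toExtension.algebraMap_surjective
  have he : ∀ (q : MvPolynomial (Fin m) A) (k : LinearMap.ker L) (h : q * ℓ k ∈ G.toExtension.ker),
      e (α q ⊗ₜ k) = Algebra.Extension.Cotangent.mk ⟨q * ℓ k, h⟩ := by
    intro q k h
    rw [LinearMap.liftBaseChange_tmul]
    change α q • Algebra.Extension.Cotangent.mk (P := G.toExtension) ⟨ℓ k, hmem k⟩ = _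
    rw [show α q = algebraMap G.toExtension.Ring (SymmetricAlgebra A M) q from rfl, algebraMap_smul, ← map_smul]
    rfl
  have hsurj : Function.Surjective e := by
    intro z
    obtain ⟨⟨p, hp⟩, rfl⟩ := Algebra.Extension.Cotangent.mk_surjective z
    have hp' := hgen hp
    revert hp
    induction hp' using Submodule.span_induction with
    | mem p hp' =>
      obtain ⟨k, rfl⟩ := hp'
      intro hp
      refine ⟨1 ⊗ₜ k, ?_⟩
      rw [← map_one α, he 1 k (by rw [one_mul]; exact hmem k)]
      exact congrArg _ (Subtype.ext (one_mul _))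
    | zero => exact fun hp => ⟨0, (map_zero e).trans (map_zero Algebra.Extension.Cotangent.mk).symm⟩
    | add a b ha hb iha ihb =>
      intro hp
      have ha' : a ∈ G.toExtension.ker := (Ideal.span_le.2 (by rintro _ ⟨k, rfl⟩; exact hmem k)) ha
      have hb' : b ∈ G.toExtension.ker := (Ideal.span_le.2 (by rintro _ ⟨k, rfl⟩; exact hmem k)) hb
      obtain ⟨u, hu⟩ := iha ha'
      obtain ⟨v, hv⟩ := ihb hb'
      refine ⟨u + v, ?_⟩
      rw [map_add, hu, hv, ← map_add]
      rfl
    | smul r a ha iha =>
      intro hp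
      have ha' : a ∈ G.toExtension.ker := (Ideal.span_le.2 (by rintro _ ⟨k, rfl⟩; exact hmem k)) ha
      obtain ⟨u, hu⟩ := iha ha'
      refine ⟨α r • u, ?_⟩
      rw [map_smul, hu, show α r = algebraMap G.toExtension.Ring (SymmetricAlgebra A M) r from rfl, algebraMap_smul,
        ← map_smul]
      rfl
  refine ⟨e, fun k hk => ?_, hsurj, fun hM => ⟨?_, hsurj⟩⟩
  · rw [← map_one α, he 1 k (by rw [one_mul]; exact hmem k)]
    exact congrArg _ (Subtype.ext ((one_mul _).trans (hℓ _)))
  -- injectivity for projective modules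
  haveI := hM
  obtain ⟨s, hs⟩ := Module.projective_lifting_property L LinearMap.id hx
  let π : (Fin m → A) →ₗ[A] LinearMap.ker L :=
    (LinearMap.id - s.comp L).codRestrict _ fun v => by
      rw [LinearMap.mem_ker, LinearMap.sub_apply, map_sub, LinearMap.comp_apply, LinearMap.id_apply,
        show L (s (L v)) = L v from LinearMap.congr_fun hs (L v), sub_self]
  have hπ : ∀ k : LinearMap.ker L, π k = k := fun k => Subtype.ext (by
    rw [LinearMap.codRestrict_apply, LinearMap.sub_apply, LinearMap.comp_apply, LinearMap.mem_ker.1 k.2, map_zero,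
      sub_zero, LinearMap.id_apply])
  letI : Module (MvPolynomial (Fin m) A) (SymmetricAlgebra A M ⊗[A] LinearMap.ker L) :=
    Module.compHom _ α
  haveI : IsScalarTower A (MvPolynomial (Fin m) A) (SymmetricAlgebra A M ⊗[A] LinearMap.ker L) := ⟨fun a q t => by
    change α (a • q) • t = a • α q • t
    rw [hα, hα, map_smul, smul_assoc]⟩
  let D := MvPolynomial.mkDerivation A fun j => (1 : SymmetricAlgebra A M) ⊗ₜ[A] π (Pi.single j 1)
  have hDℓ : ∀ v, D (ℓ v) = (1 : SymmetricAlgebra A M) ⊗ₜ π v := fun v => by
    conv_rhs => rw [← (Pi.basisFun A (Fin m)).sum_repr v, map_sum, TensorProduct.tmul_sum]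
    simp only [ℓ, Fintype.linearCombination_apply, map_sum, map_smul, D, Derivation.map_smul, MvPolynomial.mkDerivation_X, TensorProduct.tmul_smul,
      Pi.basisFun_repr, Pi.basisFun_apply]
  have hDmul : ∀ p q, D (p * q) = α p • D q + α q • D p := fun p q => D.leibniz p q
  have hD2 : ∀ p ∈ G.toExtension.ker ^ 2, D p = 0 := by
    intro p hp
    rw [pow_two] at hp
    exact Submodule.mul_induction_on hp
      (fun a ha b hb => (hDmul a b).trans (by rw [(hαker a).1 ha, (hαker b).1 hb, zero_smul, zero_smul, add_zero]))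
      (fun a b ha hb => (map_add D a b).trans ((congrArg₂ (· + ·) ha hb).trans (add_zero _)))
  have key : ∀ z, ∃ (p : MvPolynomial (Fin m) A) (hp : p ∈ G.toExtension.ker),
      e z = Algebra.Extension.Cotangent.mk ⟨p, hp⟩ ∧ D p = z := by
    intro z
    induction z using TensorProduct.induction_on with
    | zero => exact ⟨0, zero_mem _, (map_zero e).trans (map_zero Algebra.Extension.Cotangent.mk).symm, map_zero D⟩
    | add a b ha hb =>
      obtain ⟨p, hp, h1, h2⟩ := ha
      obtain ⟨q, hq, h1', h2'⟩ := hb
      refine ⟨p + q, add_mem hp hq, ?_, by rw [map_add, h2, h2']⟩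
      rw [map_add, h1, h1', ← map_add]
      rfl
    | tmul c k =>
      obtain ⟨q, rfl⟩ := hαsurj c
      refine ⟨q * ℓ k, Ideal.mul_mem_left _ q (hmem k), he q k _, ?_⟩
      rw [hDmul, (hαker _).1 (hmem k), zero_smul, add_zero, hDℓ, hπ, TensorProduct.smul_tmul', smul_eq_mul, mul_one]
  refine (injective_iff_map_eq_zero e).2 fun z hz => ?_
  obtain ⟨p, hp, h1, h2⟩ := key z
  rw [hz, eq_comm, Algebra.Extension.Cotangent.mk_eq_zero_iff] at h1
  rw [← h2, hD2 p h1]

end Groth.Agent.S12091
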