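import Groth.Statements.S12092
import Groth.Agent.L10.DRing.LocalAmp

set_option autoImplicit false
set_option backward.defeqAttrib.useBackward true
set_option backward.isDefEq.respectTransparency false
universe u
open CategoryTheory
attribute [local instance] HasDerivedCategory.standard
open DRing MonoidalCategory

namespace Groth.Agent.S12092

/-- (3) ⇒ (1): let `A → B` be a ring map and `K•` a complex of `B`-modules. Suppose that for every
maximal ideal `m ⊆ B`, with `p` its inverse image in `A`, the localization `K•_m`, viewed as a
complex of `A_p`-modules, has tor amplitude in `[a, b]`. Then `K•`, regarded over `A` by restriction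
of scalars, has tor amplitude in `[a, b]`. (Tor amplitude in the frozen sense: isomorphic in the
derived category to a complex of flat modules vanishing outside `[a, b]`.) -/
theorem result (A B : Type u) [CommRing A] [CommRing B]
    [Algebra A B] (K : DRing.Cx B) (a b : ℤ)
    (h3 : ∀ (m : Ideal B) [m.IsMaximal],
      DRing.HasTorAmplitudeIn (Localization.AtPrime (m.comap (algebraMap A B))) a b
        (DRing.toD ((DRing.restrictCx (Localization.localRingHom (m.comap (algebraMap A B)) m (algebraMap A B) rfl)).obj
          (((ModuleCat.extendScalars (algebraMap B (Localization.AtPrime m))).mapHomologicalComplex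
            (ComplexShape.up ℤ)).obj K)))) :
    DRing.HasTorAmplitudeIn A a b (DRing.toD ((DRing.restrictCx (algebraMap A B)).obj K)) := by
  let ρ := algebraMap A B
  refine (Groth.L10.LocalAmp.amp_restrict_iff K a b).2 fun N P hP eP i hi => ?_
  refine Groth.L10.LocalAmp.isZero_of_local _ i fun m hm => ?_
  let p : Ideal A := m.comap ρ
  let ψ : B →+* Localization.AtPrime m := algebraMap B (Localization.AtPrime m)
  let χ := Localization.localRingHom p m ρ rfl
  let : Algebra A (Localization.AtPrime m) := (ψ.comp ρ).toAlgebra
  have hc : ψ.comp ρ = χ.comp (algebraMap A (Localization.AtPrime p)) :=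
    RingHom.ext fun x => (Localization.localRingHom_to_map p m ρ rfl x).symm
  refine (Groth.L10.LocalAmp.test_ext (A := A) (B := B) (C := Localization.AtPrime m) ψ rfl P K i).1 ?_
  let e := Groth.L10.LocalAmp.resComp (algebraMap A (Localization.AtPrime p)) χ (ψ.comp ρ) hc
    ((_root_.DTen.extCx ψ).obj K)
  refine (Groth.L10.AmpTest.iso_homology (whiskerRightIso e P) i).2 ?_
  refine (Groth.L10.LocalAmp.test_iff P _ i).2 ((Groth.L10.AmpTest.braid_homology _ _ i).2 ?_)
  obtain ⟨N', ⟨eN⟩⟩ := Groth.L10.LocalAmp.exists_single _ (Groth.L10.LocalAmp.ext_single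
    (B := Localization.AtPrime p) (Groth.L10.LocalAmp.single_homology eP))
  exact (Groth.L10.AmpTest.amp_iff_test _ a b).1 (h3 m) N' _
    (Groth.L10.DTen.isKFlat_ext _ hP) eN i hi

end Groth.Agent.S12092
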