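import Groth.Statements.S12093
import Groth.Agent.L10.DRing.TorLowerBound

set_option autoImplicit false
set_option backward.defeqAttrib.useBackward true
set_option backward.isDefEq.respectTransparency false
universe u
open CategoryTheory CategoryTheory.Limits MonoidalCategory
attribute [local instance] HasDerivedCategory.standard
open DRing

namespace Groth.Agent.S12093

/-- Let `K•` be a complex of `R`-modules (for which `− ⊗^L_R K•` is assumed to exist) and `a` an
integer. Then `K•` has tor amplitude in `[a, ∞)`, i.e. `H^i(M ⊗^L_R K•) = 0` for every `R`-module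
`M` and every `i < a`, if and only if `K•` is quasi-isomorphic to a K-flat complex `E•` (tensoring
with `E•` preserves acyclic complexes) with flat terms and `E^i = 0` for `i < a`. -/
theorem result (R : Type u) [CommRing R] (a : ℤ) (K : DRing.Cx R)
    [DRing.HasLTensorCx R K] :
    (∀ (M : ModuleCat.{u} R) (i : ℤ), i < a →
        Subsingleton (Dual.HD R ((DRing.LTensorCx R K).obj
          (DRing.toD ((CochainComplex.singleFunctor (ModuleCat.{u} R) 0).obj M))) i)) ↔
      ∃ E : DRing.Cx R, (∀ L : DRing.Cx R, (∀ i : ℤ, IsZero (L.homology i)) → ∀ i : ℤ, IsZero ((L ⊗ E).homology i)) ∧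
        DRing.TermwiseFlat E ∧ (∀ i : ℤ, i < a → IsZero (E.X i)) ∧ Nonempty (DRing.toD E ≅ DRing.toD K) := by
  constructor
  · intro h
    obtain ⟨E, hE, hEf, ⟨eE⟩⟩ := Groth.L10.KFlatLBC.exists_rep_flat (DRing.toD K)
    have htz : ∀ i, i < a → Groth.L10.DR.TZ E i := fun i hi N => by
      obtain ⟨P, hP, -, ⟨eP⟩⟩ := Groth.L10.KFlatLBC.exists_rep_flat
        (DRing.toD ((HomologicalComplex.single (ModuleCat.{u} R) (ComplexShape.up ℤ) 0).obj N))
      obtain ⟨e1⟩ := Groth.L10.AmpTest.compute K hP eP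
      refine (Groth.L10.AmpTest.isZero_tensor_module hE hP eP eE.symm i).1
        ((Groth.L10.AmpTest.braid_homology P K i).1 ?_)
      exact (Groth.L10.DR.HH_iso_zero e1.symm i).1 (@ModuleCat.isZero_of_subsingleton R _ _ (h N i hi))
    obtain ⟨e'⟩ := Groth.L10.DR.toD_truncGE_iso a fun i hi => Groth.L10.DR.tz_homology (htz i hi)
    exact ⟨E.truncGE a, Groth.L10.TorLowerBound.isKFlat_truncGE hE hEf a (htz _ (by omega)),
      Groth.L10.DR.flat_truncGE hEf a (htz _ (by omega)),
      fun i hi => CochainComplex.isZero_of_isStrictlyGE (E.truncGE a) a i hi, ⟨e'.symm ≪≫ eE⟩⟩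
  · rintro ⟨E, hE, hEf, hEz, ⟨eE⟩⟩ M i hi
    obtain ⟨P, hP, -, ⟨eP⟩⟩ := Groth.L10.KFlatLBC.exists_rep_flat
      (DRing.toD ((HomologicalComplex.single (ModuleCat.{u} R) (ComplexShape.up ℤ) 0).obj M))
    obtain ⟨e1⟩ := Groth.L10.AmpTest.compute K hP eP
    refine @ModuleCat.subsingleton_of_isZero R _ _ ((Groth.L10.DR.HH_iso_zero e1.symm i).2
      ((Groth.L10.AmpTest.braid_homology P K i).2 ?_))
    exact (Groth.L10.AmpTest.isZero_tensor_module hE hP eP eE.symm i).2
      (Groth.L10.AmpTest.isZero_homology_of_X ((MonoidalCategory.tensorRight M).map_isZero (hEz i hi)))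

end Groth.Agent.S12093
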