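import Groth.Statements.S12095
import Mathlib.Algebra.Polynomial.Module.Basic
import Mathlib.Algebra.DirectSum.Module
import Mathlib.RingTheory.GradedAlgebra.HomogeneousLocalization
import Mathlib.Algebra.Module.LocalizedModule.Basic

set_option autoImplicit false
universe u
open CAlg

namespace Groth.Agent.S12095

/-- Let `R'` be an `R`-algebra of finite type, `M` a finite `R'`-module, and `S` an `ℕ`-graded
`R`-algebra with `f ∈ S_1` and a ring isomorphism `e : S_(f) ≅ R'` compatible with the maps from
`R`. Then there is a finite graded `S`-module `N` whose degree-zero localization `N_(f)` (the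
elements `n / f^k` of `N_f` with `n` homogeneous of degree `k`) is identified with `M`: an
`R`-linear bijection `e' : N_(f) → M` with `e'(a · x) = e(a) · e'(x)` for all `a ∈ S_(f)`. (The
published lemma produces `S`, `f` and `N` together from `R'` and `M`; here `N` is produced for any
such `S`, `f`, `e`, which the same construction gives.) -/
theorem result (R R' : Type u) [CommRing R] [CommRing R']
    [Algebra R R'] [Algebra.FiniteType R R']
    (M : Type u) [AddCommGroup M] [Module R' M] [Module R M] [IsScalarTower R R' M] [Module.Finite R' M]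
    (S : Type u) [CommRing S] [Algebra R S] (𝒜 : ℕ → Submodule R S) [GradedAlgebra 𝒜] (f : S) (hf : f ∈ 𝒜 1)
    (e : HomogeneousLocalization.Away 𝒜 f ≃+* R')
    (he : ∀ r : R, (e.symm (algebraMap R R' r)).val = algebraMap S (Localization.Away f) (algebraMap R S r)) :
    ∃ (N : Type u) (_ : AddCommGroup N) (_ : Module S N) (_ : Module R N) (_ : IsScalarTower R S N)
      (ℳ : ℕ → Submodule R N) (_ : DirectSum.Decomposition ℳ) (_ : SetLike.GradedSMul 𝒜 ℳ)
      (Nf : Submodule R (LocalizedModule (Submonoid.powers f) N)) (e' : ↥Nf ≃ₗ[R] M),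
      Module.Finite S N ∧
      (∀ x, x ∈ Nf ↔ ∃ k : ℕ, ∃ n ∈ ℳ k, f ^ k • x = LocalizedModule.mk n 1) ∧
      (∀ (a : HomogeneousLocalization.Away 𝒜 f) (x y : ↥Nf),
        a.val • (x : LocalizedModule (Submonoid.powers f) N) = y → e' y = e a • e' x) := by
  classical
  let mkA : ∀ (d : ℕ) (a : S), a ∈ 𝒜 d → HomogeneousLocalization.Away 𝒜 f := fun d a ha =>
    HomogeneousLocalization.Away.mk 𝒜 hf d a (by simpa using ha)
  have hval : ∀ d a ha, (mkA d a ha).val = Localization.mk a (⟨f ^ d, d, rfl⟩ : Submonoid.powers f) := fun d a ha => rfl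
  let F : ∀ d, ↥(𝒜 d) →+ Polynomial R' := fun d =>
    { toFun := fun a => Polynomial.monomial d (e (mkA d a.1 a.2))
      map_zero' := by
        have h : mkA d ((0 : 𝒜 d) : S) (0 : 𝒜 d).2 = 0 := HomogeneousLocalization.val_injective _ (by
          simp only [hval, HomogeneousLocalization.val_zero, Submodule.coe_zero, Localization.mk_zero])
        rw [h, map_zero, map_zero]
      map_add' := fun a b => by
        have h : mkA d ((a + b : 𝒜 d) : S) (a + b).2 = mkA d a.1 a.2 + mkA d b.1 b.2 :=
          HomogeneousLocalization.val_injective _ (by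
            simp only [HomogeneousLocalization.val_add, hval, Localization.add_mk_self, Submodule.coe_add])
        rw [h, map_add, map_add] }
  let φ : S →+* Polynomial R' := (DirectSum.toSemiring F (by
      show Polynomial.monomial 0 (e (mkA 0 (1 : S) SetLike.GradedOne.one_mem)) = 1
      have h : mkA 0 (1 : S) SetLike.GradedOne.one_mem = 1 := HomogeneousLocalization.val_injective _ (by
        rw [hval 0 1 SetLike.GradedOne.one_mem, HomogeneousLocalization.val_one, ← Localization.mk_one]
        congr 1
        exact Subtype.ext (pow_zero f))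
      rw [h, map_one]
      rfl) (fun {i j} a b => by
      show Polynomial.monomial (i + j) (e (mkA (i + j) (a.1 * b.1) (SetLike.mul_mem_graded a.2 b.2))) =
        Polynomial.monomial i (e (mkA i a.1 a.2)) * Polynomial.monomial j (e (mkA j b.1 b.2))
      have h : mkA (i + j) (a.1 * b.1) (SetLike.mul_mem_graded a.2 b.2) = mkA i a.1 a.2 * mkA j b.1 b.2 :=
        HomogeneousLocalization.val_injective _ (by
          simp only [HomogeneousLocalization.val_mul, hval, Localization.mk_mul]
          congr 1
          exact Subtype.ext (pow_add f i j))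
      rw [h, map_mul, Polynomial.monomial_mul_monomial])).comp (DirectSum.decomposeRingEquiv 𝒜).toRingHom
  have hφ : ∀ d (a : S) (ha : a ∈ 𝒜 d), φ a = Polynomial.monomial d (e (mkA d a ha)) := by
    intro d a ha
    have h : (DirectSum.decomposeRingEquiv 𝒜).toRingHom a = DirectSum.of _ d ⟨a, ha⟩ :=
      DirectSum.decompose_of_mem 𝒜 ha
    simp only [φ, RingHom.comp_apply]
    rw [h, DirectSum.toSemiring_of]
    rfl
  have hφf : φ f = Polynomial.X := by
    rw [hφ 1 f hf]
    have h : mkA 1 f hf = 1 := HomogeneousLocalization.val_injective _ (by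
      rw [hval 1 f hf, HomogeneousLocalization.val_one,
        show (⟨f ^ 1, 1, rfl⟩ : Submonoid.powers f) = ⟨f, 1, pow_one f⟩ from Subtype.ext (pow_one f)]
      exact Localization.mk_self (⟨f, 1, pow_one f⟩ : Submonoid.powers f))
    rw [h, map_one]
    rfl
  have hφR : ∀ r : R, φ (algebraMap R S r) = Polynomial.C (algebraMap R R' r) := by
    intro r
    rw [hφ 0 _ (SetLike.algebraMap_mem_graded 𝒜 r)]
    have h : mkA 0 _ (SetLike.algebraMap_mem_graded 𝒜 r) = e.symm (algebraMap R R' r) :=
      HomogeneousLocalization.val_injective _ (by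
        rw [hval 0 _ (SetLike.algebraMap_mem_graded 𝒜 r), he, ← Localization.mk_one_eq_algebraMap]
        congr 1
        exact Subtype.ext (pow_zero f))
    rw [h, e.apply_symm_apply, Polynomial.monomial_zero_left]
  letI instP : Module S (PolynomialModule R' M) := Module.compHom _ φ
  have hsmul : ∀ (s : S) (p : PolynomialModule R' M), s • p = φ s • p := fun _ _ => rfl
  haveI : IsScalarTower R S (PolynomialModule R' M) := IsScalarTower.of_algebraMap_smul fun r p => by
    rw [hsmul, hφR, ← Polynomial.algebraMap_eq, algebraMap_smul, algebraMap_smul]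
  obtain ⟨G, hG⟩ := (inferInstance : Module.Finite R' M).fg_top
  let W : Submodule S (PolynomialModule R' M) :=
    Submodule.span S (PolynomialModule.single R' 0 '' (G : Set M))
  haveI : Module.Finite S W := Module.Finite.iff_fg.2 (Submodule.fg_span ((G.finite_toSet).image _))
  let ℳ : ℕ → Submodule R W := fun d =>
    { carrier := {n | ∀ j, j ≠ d → (n : PolynomialModule R' M).coeff j = 0}
      add_mem' := fun ha hb j hj => by simp [ha j hj, hb j hj]
      zero_mem' := fun j hj => by simp
      smul_mem' := fun r n hn j hj => by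
        show r • (n : PolynomialModule R' M).coeff j = 0
        rw [hn j hj, smul_zero] }
  have hmem : ∀ d (n : W), n ∈ ℳ d → (n : PolynomialModule R' M) =
      PolynomialModule.single R' d ((n : PolynomialModule R' M).coeff d) := by
    intro d n hn
    refine PolynomialModule.coeff_injective (R := R') (Finsupp.ext fun j => ?_)
    show _ = (PolynomialModule.lsingle R' d _).coeff j
    rw [PolynomialModule.lsingle_apply]
    split_ifs with h
    · rw [h]
    · exact hn j (Ne.symm h)
  have hsingle : ∀ d (n : W) (m : M), (n : PolynomialModule R' M) = PolynomialModule.single R' d m → n ∈ ℳ d := by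
    intro d n m h j hj
    rw [h]
    show (PolynomialModule.lsingle R' d m).coeff j = 0
    rw [PolynomialModule.lsingle_apply, if_neg (Ne.symm hj)]
  have hact : ∀ i (a : S) (ha : a ∈ 𝒜 i) d (n : W), n ∈ ℳ d → ((a • n : W) : PolynomialModule R' M) =
      PolynomialModule.single R' (i + d) (e (mkA i a ha) • (n : PolynomialModule R' M).coeff d) := by
    intro i a ha d n hn
    rw [Submodule.coe_smul]
    conv_lhs => rw [hmem d n hn]
    rw [hsmul, hφ i a ha, PolynomialModule.monomial_smul_single]
  haveI hgr : SetLike.GradedSMul 𝒜 ℳ := ⟨fun {i d} a n ha hn => hsingle _ _ _ (hact i a ha d n hn)⟩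
  have htop : ∀ x : W, x ∈ ⨆ d, ℳ d := by
    rintro ⟨x, hx⟩
    induction hx using Submodule.span_induction with
    | mem z hz =>
      obtain ⟨g, hg, rfl⟩ := hz
      exact Submodule.mem_iSup_of_mem 0 (hsingle 0 _ g rfl)
    | zero => exact zero_mem _
    | add a b ha hb iha ihb => exact add_mem iha ihb
    | smul s a ha ih =>
      show s • (⟨a, ha⟩ : W) ∈ ⨆ d, ℳ d
      generalize (⟨a, ha⟩ : W) = n at ih ⊢
      induction s using DirectSum.Decomposition.inductionOn 𝒜 with
      | zero => rw [zero_smul]; exact zero_mem _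
      | add a b iha ihb => rw [add_smul]; exact add_mem iha ihb
      | homogeneous b =>
        rename_i i
        induction ih using Submodule.iSup_induction' with
        | mem d y hy => exact Submodule.mem_iSup_of_mem (i + d) (hgr.smul_mem b.2 hy)
        | zero => rw [smul_zero]; exact zero_mem _
        | add a b _ _ iha ihb => rw [smul_add]; exact add_mem iha ihb
  have hind : iSupIndep ℳ := by
    intro d
    rw [Submodule.disjoint_def]
    intro x hx hx'
    have h : (x : PolynomialModule R' M).coeff d = 0 := by
      have hle : (⨆ j, ⨆ (_ : j ≠ d), ℳ j) ≤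
          ({ carrier := {n : W | (n : PolynomialModule R' M).coeff d = 0}
             add_mem' := fun {a b} (ha : _ = _) (hb : _ = _) => by simp [ha, hb]
             zero_mem' := by simp
             smul_mem' := fun r n (hn : _ = _) => by
               show r • (n : PolynomialModule R' M).coeff d = 0
               rw [hn, smul_zero] } : Submodule R W) :=
        iSup₂_le fun j hj n hn => hn d (Ne.symm hj)
      exact hle hx'
    apply Subtype.ext
    refine PolynomialModule.coeff_injective (R := R') (Finsupp.ext fun j => ?_)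
    by_cases hj : j = d
    · rw [hj, h]; rfl
    · rw [hx j hj]; rfl
  letI : DirectSum.Decomposition ℳ := (DirectSum.isInternal_submodule_of_iSupIndep_of_iSup_eq_top hind
    (eq_top_iff.2 fun x _ => htop x)).chooseDecomposition
  -- the evaluation
  let π : S →+* R' := (Polynomial.evalRingHom 1).comp φ
  letI : Module S M := Module.compHom M π
  haveI : IsScalarTower R S M := IsScalarTower.of_algebraMap_smul fun r m => by
    show π (algebraMap R S r) • m = r • m
    rw [show π (algebraMap R S r) = algebraMap R R' r by simp [π, hφR], algebraMap_smul]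
  have hπf : π f = 1 := by simp [π, hφf]
  have hπ : ∀ i (a : S) (ha : a ∈ 𝒜 i), π a = e (mkA i a ha) := fun i a ha => by simp [π, hφ i a ha]
  have heval : ∀ (p : Polynomial R') (q : PolynomialModule R' M),
      PolynomialModule.eval (1 : R') (p • q) = p.eval 1 • PolynomialModule.eval (1 : R') q :=
    fun p q => PolynomialModule.eval_smul p q 1
  let ψ : W →ₗ[S] M :=
    { toFun := fun n => PolynomialModule.eval (1 : R') (n : PolynomialModule R' M)
      map_add' := fun a b => map_add _ _ _
      map_smul' := fun s n => by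
        rw [Submodule.coe_smul, hsmul, heval]
        rfl }
  have hψ : ∀ d (n : W), n ∈ ℳ d → ψ n = (n : PolynomialModule R' M).coeff d := fun d n hn => by
    show PolynomialModule.eval (1 : R') (n : PolynomialModule R' M) = _
    conv_lhs => rw [hmem d n hn]
    rw [PolynomialModule.eval_single, one_pow, one_smul]
  have hunit : ∀ x : Submonoid.powers f, IsUnit (algebraMap S (Module.End S M) x) := by
    rintro ⟨_, k, rfl⟩
    rw [show algebraMap S (Module.End S M) (f ^ k) = 1 from LinearMap.ext fun m => by
      show π (f ^ k) • m = m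
      rw [map_pow, hπf, one_pow, one_smul]]
    exact isUnit_one
  let Ψ : LocalizedModule (Submonoid.powers f) W →ₗ[S] M := LocalizedModule.lift _ ψ hunit
  have hΨ : ∀ n : W, Ψ (LocalizedModule.mk n 1) = ψ n := fun n =>
    LinearMap.congr_fun (LocalizedModule.lift_comp _ ψ hunit) n
  have hfsmul : ∀ (k : ℕ) (z : M), f ^ k • z = z := fun k z => by
    show π (f ^ k) • z = z
    rw [map_pow, hπf, one_pow, one_smul]
  have hshift : ∀ (j k : ℕ) (n : W), n ∈ ℳ k → f ^ j • n ∈ ℳ (j + k) := fun j k n hn =>
    hgr.smul_mem (by simpa using SetLike.pow_mem_graded j hf) hn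
  let Nf : Submodule R (LocalizedModule (Submonoid.powers f) W) :=
    { carrier := {x | ∃ k : ℕ, ∃ n ∈ ℳ k, f ^ k • x = LocalizedModule.mk n 1}
      add_mem' := by
        rintro x y ⟨k, n, hn, hx⟩ ⟨l, n', hn', hy⟩
        refine ⟨l + k, f ^ l • n + f ^ k • n', add_mem (hshift l k n hn)
          (by rw [add_comm l k]; exact hshift k l n' hn'), ?_⟩
        rw [smul_add, ← LocalizedModule.mkLinearMap_apply, map_add, map_smul, map_smul,
          LocalizedModule.mkLinearMap_apply, LocalizedModule.mkLinearMap_apply, ← hx, ← hy, smul_smul, smul_smul,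
          ← pow_add, ← pow_add, add_comm k l]
      zero_mem' := ⟨0, 0, zero_mem _, by rw [smul_zero, LocalizedModule.zero_mk]⟩
      smul_mem' := by
        rintro r x ⟨k, n, hn, hx⟩
        refine ⟨k, r • n, Submodule.smul_mem _ r hn, ?_⟩
        rw [smul_comm, hx, ← LocalizedModule.mkLinearMap_apply, ← LocalizedModule.mkLinearMap_apply,
          LinearMap.map_smul_of_tower] }
  have hval' : ∀ (x : LocalizedModule (Submonoid.powers f) W) (k : ℕ) (n : W),
      f ^ k • x = LocalizedModule.mk n 1 → Ψ x = ψ n := fun x k n h => by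
    rw [← hΨ, ← h, map_smul, hfsmul]
  let E : ↥Nf →ₗ[R] M := (Ψ.restrictScalars R).comp Nf.subtype
  have hEinj : Function.Injective E := fun x y hxy => by
    obtain ⟨k, n, hn, h⟩ := x.2
    obtain ⟨l, n', hn', h'⟩ := y.2
    have hm₂ : f ^ k • n' ∈ ℳ (l + k) := by rw [add_comm l k]; exact hshift k l n' hn'
    have h1 : ψ (f ^ l • n) = ψ (f ^ k • n') := by
      rw [map_smul, map_smul, hfsmul, hfsmul, ← hval' _ k n h, ← hval' _ l n' h']
      exact hxy
    rw [hψ (l + k) _ (hshift l k n hn), hψ (l + k) _ hm₂] at h1
    have h2 : f ^ l • n = f ^ k • n' := Subtype.ext (by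
      rw [hmem (l + k) _ (hshift l k n hn), hmem (l + k) _ hm₂, h1])
    have h3 : f ^ (l + k) • (x : LocalizedModule (Submonoid.powers f) W) = f ^ (l + k) • (y : LocalizedModule (Submonoid.powers f) W) := by
      rw [pow_add, mul_smul, h, mul_comm, mul_smul, h', ← LocalizedModule.mkLinearMap_apply,
        ← LocalizedModule.mkLinearMap_apply, ← map_smul, ← map_smul, h2]
    exact Subtype.ext (((Module.End.isUnit_iff _).1 (IsLocalizedModule.map_units
      (LocalizedModule.mkLinearMap (Submonoid.powers f) W) (⟨f ^ (l + k), l + k, rfl⟩ : Submonoid.powers f))).1 h3)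
  let V : Submodule R' M :=
    { carrier := {m | ∃ k : ℕ, ∃ n ∈ ℳ k, ψ n = m}
      add_mem' := by
        rintro _ _ ⟨k, n, hn, rfl⟩ ⟨l, n', hn', rfl⟩
        refine ⟨l + k, f ^ l • n + f ^ k • n', add_mem (hshift l k n hn)
          (by rw [add_comm l k]; exact hshift k l n' hn'), ?_⟩
        rw [map_add, map_smul, map_smul, hfsmul, hfsmul]
      zero_mem' := ⟨0, 0, zero_mem _, map_zero _⟩
      smul_mem' := by
        rintro r _ ⟨k, n, hn, rfl⟩
        obtain ⟨j, a, ha, hr⟩ := HomogeneousLocalization.Away.mk_surjective 𝒜 hf (e.symm r)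
        have ha' : a ∈ 𝒜 j := by simpa using ha
        refine ⟨j + k, a • n, hgr.smul_mem ha' hn, ?_⟩
        rw [map_smul]
        show π a • ψ n = r • ψ n
        rw [hπ j a ha', show mkA j a ha' = e.symm r from hr, e.apply_symm_apply] }
  have hEsurj : Function.Surjective E := fun m => by
    have hm : m ∈ V := by
      refine (hG ▸ Submodule.span_le.2 ?_ : (⊤ : Submodule R' M) ≤ V) Submodule.mem_top
      intro g hg
      refine ⟨0, ⟨_, Submodule.subset_span ⟨g, hg, rfl⟩⟩, hsingle 0 _ g rfl, ?_⟩
      show PolynomialModule.eval (1 : R') (PolynomialModule.single R' 0 g) = g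
      rw [PolynomialModule.eval_single, pow_zero, one_smul]
    obtain ⟨k, n, hn, rfl⟩ := hm
    have hx : f ^ k • LocalizedModule.mk n (⟨f ^ k, k, rfl⟩ : Submonoid.powers f) = LocalizedModule.mk n 1 := by
      rw [LocalizedModule.smul'_mk, LocalizedModule.mk_eq]
      exact ⟨1, by simp [Submonoid.smul_def]⟩
    exact ⟨⟨_, k, n, hn, hx⟩, hval' _ k n hx⟩
  refine ⟨W, inferInstance, inferInstance, inferInstance, inferInstance, ℳ, inferInstance, hgr, Nf,
    LinearEquiv.ofBijective E ⟨hEinj, hEsurj⟩, inferInstance, fun x => Iff.rfl, fun a x y hxy => ?_⟩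
  obtain ⟨j, s, hs, rfl⟩ := HomogeneousLocalization.Away.mk_surjective 𝒜 hf a
  have hs' : s ∈ 𝒜 j := by simpa using hs
  have h1 : f ^ j • (y : LocalizedModule (Submonoid.powers f) W) = s • (x : LocalizedModule (Submonoid.powers f) W) := by
    rw [← hxy, ← algebraMap_smul (Localization (Submonoid.powers f)) (f ^ j), smul_smul,
      ← algebraMap_smul (Localization (Submonoid.powers f)) s (x : LocalizedModule (Submonoid.powers f) W)]
    congr 1
    rw [HomogeneousLocalization.Away.val_mk, Localization.mk_eq_mk', mul_comm]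
    exact IsLocalization.mk'_spec _ s (⟨f ^ j, j, rfl⟩ : Submonoid.powers f)
  show Ψ y = e (HomogeneousLocalization.Away.mk 𝒜 hf j s hs) • Ψ x
  rw [← hfsmul j (Ψ y), ← map_smul, h1, map_smul]
  show π s • Ψ x = _
  rw [hπ j s hs']


end Groth.Agent.S12095
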