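import Groth.Statements.S12096
import Groth.Agent.L20.AffineBlowup

set_option autoImplicit false
universe u
open BlowUp

namespace Groth.Agent.S12096

/-- Néron's blowup is compatible with localization. For a ring `A`, an ideal `I`, elements `π, a ∈ A`,
`A' = A[I/π] ⊆ A_π` the affine blowup algebra and `(A_a)' = A_a[I A_a/π]` that of the localization,
the canonical map `A' → (A_a)'` (the restriction of `A_π → (A_a)_π`, given here as a datum with that
compatibility) identifies `(A_a)'` with the localization `A'_a`. In Néron's situation (`I` the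
inverse image of the maximal ideal of `Λ`, `π` a uniformizer, `a ∉ I`) this reads: the Néron blowup
of `A_a` is `A'_a`; the identity holds for arbitrary `A, I, π, a`. -/
theorem result (A : Type u) [CommRing A] (I : Ideal A) (π a : A) (hπ : π ∈ I)
    (ψ : BlowUp.affineAlgebra A I π →+*
      BlowUp.affineAlgebra (Localization.Away a) (I.map (algebraMap A (Localization.Away a))) (algebraMap A (Localization.Away a) π))
    (hψ : ∀ x : BlowUp.affineAlgebra A I π,
      ((ψ x : BlowUp.affineAlgebra (Localization.Away a) (I.map (algebraMap A (Localization.Away a))) (algebraMap A (Localization.Away a) π)) :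
          Localization.Away (algebraMap A (Localization.Away a) π)) =
        Localization.awayMap (algebraMap A (Localization.Away a)) π (x : Localization.Away π)) :
    letI := ψ.toAlgebra
    IsLocalization.Away (algebraMap A (BlowUp.affineAlgebra A I π) a)
      (BlowUp.affineAlgebra (Localization.Away a) (I.map (algebraMap A (Localization.Away a))) (algebraMap A (Localization.Away a) π)) := by
  let f := algebraMap A (Localization.Away a)
  let B := BlowUp.affineAlgebra (Localization.Away a) (I.map f) (f π)
  letI := ψ.toAlgebra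
  have hc : ∀ r : A, ((ψ (algebraMap A (BlowUp.affineAlgebra A I π) r) : B) : Localization.Away (f π)) =
      algebraMap (Localization.Away a) _ (f r) := fun r => by
    rw [hψ]; exact IsLocalization.map_eq _ r
  constructor
  constructor
  · rintro ⟨_, k, rfl⟩
    show IsUnit (ψ (algebraMap A _ a ^ k))
    rw [map_pow]
    refine IsUnit.pow k ?_
    have h1 : ψ (algebraMap A _ a) = algebraMap (Localization.Away a) B (f a) := Subtype.ext (hc a)
    rw [h1]
    exact (IsLocalization.Away.algebraMap_isUnit a).map _
  · rintro ⟨z, hz⟩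
    obtain ⟨n, y, hy, rfl⟩ := Groth.L20.exists_mk'_of_mem_affineAlgebra (Ideal.mem_map_of_mem _ hπ) hz
    rw [← Ideal.map_pow] at hy
    obtain ⟨⟨⟨x, hx⟩, ⟨_, k, rfl⟩⟩, he⟩ :=
      (IsLocalization.mem_map_algebraMap_iff (Submonoid.powers a) (Localization.Away a)).mp hy
    let q : BlowUp.affineAlgebra A I π := ⟨_, Groth.L20.mk'_mem_affineAlgebra hx⟩
    refine ⟨⟨q, ⟨_, k, rfl⟩⟩, ?_⟩
    apply Subtype.ext
    have e1 := (hψ q).trans (Groth.L20.awayMap_mk' f n x)
    have e2 : ((ψ (algebraMap A _ a ^ k) : B) : Localization.Away (f π)) = algebraMap (Localization.Away a) _ (f (a ^ k)) := by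
      rw [← map_pow, hc]
    have e3 : f x = y * f (a ^ k) := he.symm
    show (IsLocalization.mk' (Localization.Away (f π)) y (⟨f π ^ n, n, rfl⟩ : Submonoid.powers (f π))) *
      ((ψ (algebraMap A _ a ^ k) : B) : Localization.Away (f π)) = ((ψ q : B) : Localization.Away (f π))
    rw [e1, e2, e3, mul_comm, IsLocalization.mul_mk'_eq_mk'_of_mul, mul_comm]
  · intro u v huv
    have h0 : Localization.awayMap f π ((u : Localization.Away π) - v) = 0 := by
      rw [map_sub, ← hψ, ← hψ, sub_eq_zero]
      exact congrArg Subtype.val huv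
    obtain ⟨n, x, hx, hux⟩ := Groth.L20.exists_mk'_of_mem_affineAlgebra hπ (sub_mem u.2 v.2)
    rw [hux, Groth.L20.awayMap_mk', Groth.L20.mk'_eq_zero_iff_pow] at h0
    obtain ⟨m, hm⟩ := h0
    rw [← map_pow, ← map_mul, IsLocalization.map_eq_zero_iff (Submonoid.powers a)] at hm
    obtain ⟨⟨_, k, rfl⟩, hk⟩ := hm
    refine ⟨⟨_, k, rfl⟩, ?_⟩
    apply Subtype.ext
    show algebraMap A (Localization.Away π) a ^ k * (u : Localization.Away π) = algebraMap A (Localization.Away π) a ^ k * v
    rw [← sub_eq_zero, ← mul_sub, hux, ← map_pow, IsLocalization.mul_mk'_eq_mk'_of_mul, Groth.L20.mk'_eq_zero_iff_pow]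
    exact ⟨m, by rw [← hk]; ring⟩

end Groth.Agent.S12096
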