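import Groth.Statements.S12097
import Groth.Agent.L20.AffineBlowup

set_option autoImplicit false
universe u
open BlowUp

namespace Groth.Agent.S12097

/-- Néron's blowup is compatible with closed immersions. For a surjective ring map `B → A` with kernel
`J`, an ideal `I ⊆ B` containing `π`, and the affine blowup algebras `B' = B[I/π] ⊆ B_π`, `A' =
A[IA/π] ⊆ A_π`, the canonical map `B' → A'` (the restriction of `B_π → A_π`, given as a datum with
that compatibility) is surjective with kernel the elements `x` such that `π^n x ∈ J B'` for some
`n`: `A'` is the quotient of `B'/JB'` by its `π`-power torsion. In Néron's situation (`I` the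
inverse image of the maximal ideal of `Λ`, `π` a uniformizer) this is the printed functoriality; the
identity holds for any surjection. -/
theorem result (B A : Type u) [CommRing B] [CommRing A] [Algebra B A]
    (hq : Function.Surjective (algebraMap B A)) (I : Ideal B) (π : B) (hπ : π ∈ I)
    (ψ : BlowUp.affineAlgebra B I π →+* BlowUp.affineAlgebra A (I.map (algebraMap B A)) (algebraMap B A π))
    (hψ : ∀ x : BlowUp.affineAlgebra B I π,
      ((ψ x : BlowUp.affineAlgebra A (I.map (algebraMap B A)) (algebraMap B A π)) : Localization.Away (algebraMap B A π)) =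
        Localization.awayMap (algebraMap B A) π (x : Localization.Away π)) :
    Function.Surjective ψ ∧
      ∀ x : BlowUp.affineAlgebra B I π, x ∈ RingHom.ker ψ ↔
        ∃ n : ℕ, algebraMap B (BlowUp.affineAlgebra B I π) π ^ n * x ∈
          (RingHom.ker (algebraMap B A)).map (algebraMap B (BlowUp.affineAlgebra B I π)) := by
  constructor
  · rintro ⟨z, hz⟩
    obtain ⟨n, y, hy, rfl⟩ := Groth.L20.exists_mk'_of_mem_affineAlgebra
      (Ideal.mem_map_of_mem _ hπ) hz
    rw [← Ideal.map_pow] at hy
    obtain ⟨x, hx, rfl⟩ := (Ideal.mem_map_iff_of_surjective _ hq).mp hy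
    exact ⟨⟨_, Groth.L20.mk'_mem_affineAlgebra hx⟩, Subtype.ext (by rw [hψ]; exact Groth.L20.awayMap_mk' _ n x)⟩
  · intro x
    constructor
    · intro hx
      have h0 : Localization.awayMap (algebraMap B A) π (x : Localization.Away π) = 0 := by
        rw [← hψ, show ψ x = 0 from hx]; rfl
      obtain ⟨n, b, hb, hxb⟩ := Groth.L20.exists_mk'_of_mem_affineAlgebra hπ x.2
      rw [hxb, Groth.L20.awayMap_mk', Groth.L20.mk'_eq_zero_iff_pow] at h0
      obtain ⟨m, hm⟩ := h0
      refine ⟨m + n, ?_⟩
      have h1 : algebraMap B (BlowUp.affineAlgebra B I π) π ^ (m + n) * x =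
          algebraMap B (BlowUp.affineAlgebra B I π) (π ^ m * b) := by
        apply Subtype.ext
        change algebraMap B (Localization.Away π) π ^ (m + n) * (x : Localization.Away π) =
          algebraMap B (Localization.Away π) (π ^ m * b)
        rw [hxb, pow_add, mul_assoc, ← map_pow _ π n,
          IsLocalization.mk'_spec' _ b (⟨π ^ n, n, rfl⟩ : Submonoid.powers π), map_mul, map_pow]
      rw [h1]
      exact Ideal.mem_map_of_mem _ (by rw [RingHom.mem_ker, map_mul, map_pow, hm])
    · rintro ⟨n, hn⟩
      have hc : ∀ j : B, ((ψ (algebraMap B (BlowUp.affineAlgebra B I π) j) : _) : Localization.Away (algebraMap B A π)) =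
          algebraMap A _ (algebraMap B A j) := fun j => by
        rw [hψ]; exact IsLocalization.map_eq _ j
      have hker : (RingHom.ker (algebraMap B A)).map (algebraMap B (BlowUp.affineAlgebra B I π)) ≤ RingHom.ker ψ := by
        rw [Ideal.map_le_iff_le_comap]
        intro j hj
        apply Subtype.ext
        rw [hc, show algebraMap B A j = 0 from hj, map_zero]
        rfl
      have h1 := congrArg Subtype.val (hker hn : ψ _ = 0)
      rw [map_mul, map_pow] at h1
      simp only [MulMemClass.coe_mul, SubmonoidClass.coe_pow, hc] at h1
      apply Subtype.ext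
      exact ((IsLocalization.Away.algebraMap_isUnit (algebraMap B A π)).pow n).mul_right_eq_zero.mp (h1.trans (by rfl))

end Groth.Agent.S12097
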