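import Groth.Statements.S12099
import Groth.Agent.L13.PCoh.Coherent

set_option autoImplicit false
universe v u
open CategoryTheory CategoryTheory.Limits
open PCoh

namespace Groth.Agent.S12099

open CategoryTheory.Pretriangulated

/-- Punctual site: let C be an abelian category and C₀ a strictly full additive subcategory,
quasi-liftable in C. For an exact sequence F → G → H → 0 with F of C₀-finite type and G precoherent
relative to C₀ (every morphism from a C₀-object into G has kernel of C₀-finite type), H is
precoherent relative to C₀. -/
theorem result {C : Type u} [Category.{v} C] [Abelian C]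
    (P : ObjectProperty C) [P.IsClosedUnderIsomorphisms] [P.ContainsZero] (hsum : ∀ X Y : C, P X → P Y → P (X ⨯ Y))
    (hql : PCoh.IsQuasiLiftable P)
    (S : ShortComplex C) (hS : S.Exact) (hg : Epi S.g)
    (hF : PCoh.IsOfFiniteType P S.X₁) (hG : ∀ (E : C) (u : E ⟶ S.X₂), P E → PCoh.IsOfFiniteType P (kernel u)) :
    ∀ (E : C) (u : E ⟶ S.X₃), P E → PCoh.IsOfFiniteType P (kernel u) := by
  exact Groth.L13.PCoh.prec_X₃ P hsum hql hS hg hF hG

end Groth.Agent.S12099
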