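import Groth.Statements.S12101
import Groth.Agent.L13.PCoh.Limit

set_option autoImplicit false
universe w v u
open CategoryTheory CategoryTheory.Limits
open PCoh

namespace Groth.Agent.S12101

/-- Let C be an abelian category and C₀ a strictly full additive subcategory, quasi-stable under kernels
of epimorphisms and quasi-liftable; let E be a strictly pseudo-coherent cochain complex (bounded
above, all terms in C₀), F a cochain complex whose image in D(C) is pseudo-coherent, and u : E ⟶ F
an n-quasi-isomorphism (an isomorphism on H^j for j > n, an epimorphism on H^n). Then u = v ≫ u'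
with u' : E' ⟶ F a quasi-isomorphism, E' strictly pseudo-coherent, and v : E ⟶ E' a monomorphism in
each degree which is an isomorphism in every degree ≥ n. (The source obtains v equal to the identity
in degrees ≥ n; stated here up to isomorphism in those degrees.) -/
theorem result {C : Type u} [Category.{v} C] [Abelian C] [HasDerivedCategory.{w} C]
    (P : ObjectProperty C) [P.IsClosedUnderIsomorphisms] [P.ContainsZero] (hsum : ∀ X Y : C, P X → P Y → P (X ⨯ Y))
    (hqs : PCoh.IsQuasiStableUnderKernels P) (hql : PCoh.IsQuasiLiftable P)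
    (n : ℤ) (E F : CochainComplex C ℤ) (hE : PCoh.IsStrictPCAll P E)
    (hF : PCoh.IsPC P (DerivedCategory.Q.obj F))
    (u : E ⟶ F) (hiso : ∀ j : ℤ, n < j → IsIso (HomologicalComplex.homologyMap u j))
    (hepi : Epi (HomologicalComplex.homologyMap u n)) :
    ∃ (E' : CochainComplex C ℤ) (v : E ⟶ E') (u' : E' ⟶ F), v ≫ u' = u ∧ PCoh.IsStrictPCAll P E' ∧ QuasiIso u' ∧
      (∀ j : ℤ, Mono (v.f j)) ∧ (∀ j : ℤ, n ≤ j → IsIso (v.f j)) := by
  exact Groth.L13.PCoh.completeAll P hsum hql u hE n ((Groth.L13.PCoh.approx_Q_iff u n).2 ⟨hiso, hepi⟩)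
    fun k => Groth.L13.PCoh.crit P hsum hqs hql (hF k)

end Groth.Agent.S12101
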