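import Groth.Statements.S12102
import Groth.Agent.L13.PCoh.Devissage

set_option autoImplicit false
universe w v u
open CategoryTheory CategoryTheory.Limits
open PCoh

namespace Groth.Agent.S12102

open CategoryTheory.Pretriangulated

/-- `F` has an `n`-step presentation by objects of `C₀`, recursively. -/
def FP {C : Type u} [Category.{v} C] [Abelian C] (P : ObjectProperty C) : ℕ → C → Prop
  | 0, F => PCoh.IsOfFiniteType P F
  | n + 1, F => ∃ (E : C) (π : E ⟶ F), P E ∧ Epi π ∧ FP P n (kernel π)

theorem fp_of_iso {C : Type u} [Category.{v} C] [Abelian C] (P : ObjectProperty C) :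
    ∀ (n : ℕ) {F G : C}, (F ≅ G) → FP P n F → FP P n G
  | 0, _, _, e, h => Groth.L13.PCoh.ft_of_iso P e h
  | n + 1, _, _, e, ⟨E, π, hE, hπ, h⟩ =>
    ⟨E, π ≫ e.hom, hE, epi_comp _ _, fp_of_iso P n (kernelCompMono π e.hom).symm h⟩

theorem fp_iff_isN {C : Type u} [Category.{v} C] [Abelian C] [HasDerivedCategory.{w} C]
    (P : ObjectProperty C) [P.IsClosedUnderIsomorphisms] [P.ContainsZero] (hsum : ∀ X Y : C, P X → P Y → P (X ⨯ Y))
    (hqs : PCoh.IsQuasiStableUnderKernels P) (hql : PCoh.IsQuasiLiftable P) :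
    ∀ (n : ℕ) (F : C), FP P n F ↔
      Groth.L13.PCoh.IsN P (-(n : ℤ)) ((DerivedCategory.singleFunctor C 0).obj F)
  | 0, F => (Groth.L13.PCoh.isN_zero_single_iff P hsum hqs hql F).symm
  | n + 1, F => by
    have key : ∀ (E : C) (π : E ⟶ F), P E → Epi π →
        (Groth.L13.PCoh.IsN P (-((n + 1 : ℕ) : ℤ)) ((DerivedCategory.singleFunctor C 0).obj F) ↔
          Groth.L13.PCoh.IsN P (-(n : ℤ)) ((DerivedCategory.singleFunctor C 0).obj (kernel π))) := by
      intro E π hE hπ
      have hS : (ShortComplex.mk (kernel.ι π) π (kernel.condition π)).ShortExact :=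
        { exact := ShortComplex.exact_of_f_is_kernel _ (kernelIsKernel π) }
      have hE' := fun k => Groth.L13.PCoh.isN_single_prop P k hE 0
      have he : (-((n + 1 : ℕ) : ℤ)) + 1 = -(n : ℤ) := by omega
      constructor
      · intro h
        have := Groth.L13.PCoh.isN_obj₁ P hsum hqs hql hS.singleTriangle_distinguished (hE' _) h
        rwa [he] at this
      · intro h
        exact Groth.L13.PCoh.isN_obj₃ P hsum hqs hql hS.singleTriangle_distinguished (he ▸ h) (hE' _)
    constructor
    · rintro ⟨E, π, hE, hπ, h⟩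
      exact (key E π hE hπ).2 ((fp_iff_isN P hsum hqs hql n _).1 h)
    · intro h
      obtain ⟨E, π, hE, hπ⟩ := (Groth.L13.PCoh.isN_zero_single_iff P hsum hqs hql F).1 (h.mono P (by omega))
      exact ⟨E, π, hE, hπ, (fp_iff_isN P hsum hqs hql n _).2 ((key E π hE hπ).1 h)⟩

open scoped ZeroObject in
theorem fp_iff_exists {C : Type u} [Category.{v} C] [Abelian C] (P : ObjectProperty C)
    [P.IsClosedUnderIsomorphisms] :
    ∀ (n : ℕ) (F : C), FP P n F ↔
      ∃ K : ChainComplex C ℕ, Nonempty (K.X 0 ≅ F) ∧ (∀ j : ℕ, j ≤ n → K.ExactAt j) ∧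
        (∀ j : ℕ, n + 1 < j → IsZero (K.X j)) ∧ (∀ j : ℕ, 1 ≤ j → j ≤ n + 1 → P (K.X j))
  | 0, F => by
    constructor
    · rintro ⟨E, π, hE, hπ⟩
      let Z : ChainComplex C ℕ := (HomologicalComplex.single C (ComplexShape.down ℕ) 0).obj E
      refine ⟨Z.augment (X := F) ((HomologicalComplex.singleObjXSelf (ComplexShape.down ℕ) 0 E).hom ≫ π)
        (by rw [HomologicalComplex.single_obj_d, zero_comp]), ⟨Iso.refl _⟩, fun j hj => ?_,
        fun j hj => ?_, fun j hj1 hj2 => ?_⟩
      · obtain rfl : j = 0 := by omega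
        rw [HomologicalComplex.exactAt_iff' _ 1 0 0 (by simp) (by simp)]
        refine (ShortComplex.exact_iff_epi _ rfl).2 ?_
        exact epi_comp (HomologicalComplex.singleObjXSelf (ComplexShape.down ℕ) 0 E).hom π
      · match j with
        | k + 1 => exact HomologicalComplex.isZero_single_obj_X (ComplexShape.down ℕ) 0 E k (by omega)
      · obtain rfl : j = 1 := by omega
        exact P.prop_of_iso (HomologicalComplex.singleObjXSelf (ComplexShape.down ℕ) 0 E).symm hE
    · rintro ⟨K, ⟨e⟩, hex, -, hP⟩
      have h0 := (K.exactAt_iff' 1 0 0 (by simp) (by simp)).1 (hex 0 le_rfl)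
      haveI : Epi (K.d 1 0) := h0.epi_f (K.shape 0 0 (by simp))
      exact ⟨K.X 1, K.d 1 0 ≫ e.hom, hP 1 le_rfl le_rfl, epi_comp _ _⟩
  | n + 1, F => by
    constructor
    · rintro ⟨E, π, hE, hπ, h⟩
      obtain ⟨K, ⟨e⟩, hex, hz, hP⟩ := (fp_iff_exists P n _).1 h
      haveI : Epi (K.d 1 0) := ((K.exactAt_iff' 1 0 0 (by simp) (by simp)).1 (hex 0 (by omega))).epi_f
        (K.shape 0 0 (by simp))
      let L₁ : ChainComplex C ℕ := (ChainComplex.truncate.obj K).augment (X := E) (K.d 1 0 ≫ e.hom ≫ kernel.ι π)
        (by exact (K.d_comp_d_assoc 2 1 0 _).trans zero_comp)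
      refine ⟨L₁.augment (X := F) π ?_, ⟨Iso.refl _⟩, fun j hj => ?_, fun j hj => ?_, fun j hj1 hj2 => ?_⟩
      · change (K.d 1 0 ≫ e.hom ≫ kernel.ι π) ≫ π = 0
        simp
      · match j with
        | 0 =>
          rw [HomologicalComplex.exactAt_iff' _ 1 0 0 (by simp) (by simp)]
          refine (ShortComplex.exact_iff_epi _ rfl).2 ?_
          exact hπ
        | 1 =>
          rw [HomologicalComplex.exactAt_iff' _ 2 1 0 (by simp) (by simp),
            ShortComplex.exact_iff_exact_up_to_refinements]
          intro A x hx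
          change A ⟶ E at x
          change x ≫ π = 0 at hx
          obtain ⟨A', p, hp, y, hy⟩ := surjective_up_to_refinements_of_epi (K.d 1 0) (kernel.lift π x hx ≫ e.inv)
          refine ⟨A', p, hp, y, ?_⟩
          change p ≫ x = y ≫ K.d 1 0 ≫ e.hom ≫ kernel.ι π
          rw [← reassoc_of% hy]
          simp
        | 2 =>
          have h1 := (K.exactAt_iff' 2 1 0 (by simp) (by simp)).1 (hex 1 (by omega))
          rw [ShortComplex.exact_iff_exact_up_to_refinements] at h1
          rw [HomologicalComplex.exactAt_iff' _ 3 2 1 (by simp) (by simp),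
            ShortComplex.exact_iff_exact_up_to_refinements]
          intro A x hx
          change A ⟶ K.X 1 at x
          change x ≫ K.d 1 0 ≫ e.hom ≫ kernel.ι π = 0 at hx
          have hx' : x ≫ K.d 1 0 = 0 := by
            rw [← cancel_mono (e.hom ≫ kernel.ι π)]
            simp only [Category.assoc, zero_comp]
            exact hx
          exact h1 x hx'
        | k + 3 =>
          have h1 := (K.exactAt_iff' (k + 3) (k + 2) (k + 1) (by simp) (by simp)).1 (hex (k + 2) (by omega))
          rw [HomologicalComplex.exactAt_iff' _ (k + 4) (k + 3) (k + 2) (by simp) (by simp)]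
          exact h1
      · match j with
        | k + 2 => exact hz (k + 1) (by omega)
      · match j with
        | 1 => exact hE
        | k + 2 => exact hP (k + 1) (by omega) (by omega)
    · rintro ⟨K, ⟨e⟩, hex, hz, hP⟩
      haveI : Epi (K.d 1 0) := ((K.exactAt_iff' 1 0 0 (by simp) (by simp)).1 (hex 0 (by omega))).epi_f
        (K.shape 0 0 (by simp))
      refine ⟨K.X 1, K.d 1 0 ≫ e.hom, hP 1 le_rfl (by omega), epi_comp _ _,
        fp_of_iso P n (kernelCompMono (K.d 1 0) e.hom).symm ((fp_iff_exists P n _).2 ?_)⟩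
      let T := ChainComplex.truncate.obj (ChainComplex.truncate.obj K)
      refine ⟨T.augment (X := kernel (K.d 1 0)) (kernel.lift _ (K.d 2 1) (K.d_comp_d _ _ _)) ?_, ⟨Iso.refl _⟩,
        fun j hj => ?_, fun j hj => ?_, fun j hj1 hj2 => ?_⟩
      · rw [← cancel_mono (kernel.ι (K.d 1 0)), Category.assoc, kernel.lift_ι, zero_comp]
        exact K.d_comp_d _ _ _
      · match j with
        | 0 =>
          rw [HomologicalComplex.exactAt_iff' _ 1 0 0 (by simp) (by simp)]
          refine (ShortComplex.exact_iff_epi _ rfl).2 ?_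
          exact ((K.exactAt_iff' 2 1 0 (by simp) (by simp)).1 (hex 1 (by omega))).epi_kernelLift
        | 1 =>
          have h1 := (K.exactAt_iff' 3 2 1 (by simp) (by simp)).1 (hex 2 (by omega))
          rw [ShortComplex.exact_iff_exact_up_to_refinements] at h1
          rw [HomologicalComplex.exactAt_iff' _ 2 1 0 (by simp) (by simp),
            ShortComplex.exact_iff_exact_up_to_refinements]
          intro A x hx
          change A ⟶ K.X 2 at x
          change x ≫ kernel.lift (K.d 1 0) (K.d 2 1) _ = 0 at hx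
          refine h1 x ?_
          have := hx =≫ kernel.ι _
          rw [Category.assoc, kernel.lift_ι, zero_comp] at this
          exact this
        | k + 2 =>
          have h1 := (K.exactAt_iff' (k + 4) (k + 3) (k + 2) (by simp) (by simp)).1 (hex (k + 3) (by omega))
          rw [HomologicalComplex.exactAt_iff' _ (k + 3) (k + 2) (k + 1) (by simp) (by simp)]
          exact h1
      · match j with
        | k + 1 => exact hz (k + 2) (by omega)
      · match j with
        | k + 1 => exact hP (k + 2) (by omega) (by omega)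


/-- Let C be an abelian category and C₀ a strictly full additive subcategory, quasi-stable under kernels
of epimorphisms and quasi-liftable; let F be an object of C and n a natural number. Then F is of
n-C₀-finite presentation (there is an exact sequence E_{n+1} → ⋯ → E_1 → F → 0 with all E_j in C₀;
encoded as an ℕ-indexed chain complex K with K_0 ≅ F, exact at the indices 0, …, n, zero beyond
index n + 1, and K_1, …, K_{n+1} in C₀) if and only if F placed in degree 0 is (−n)-pseudo-coherent
(isomorphic in D(C) to a strictly (−n)-pseudo-coherent complex). -/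
theorem result {C : Type u} [Category.{v} C] [Abelian C] [HasDerivedCategory.{w} C]
    (P : ObjectProperty C) [P.IsClosedUnderIsomorphisms] [P.ContainsZero] (hsum : ∀ X Y : C, P X → P Y → P (X ⨯ Y))
    (hqs : PCoh.IsQuasiStableUnderKernels P) (hql : PCoh.IsQuasiLiftable P)
    (F : C) (n : ℕ) :
    (∃ K : ChainComplex C ℕ, Nonempty (K.X 0 ≅ F) ∧ (∀ j : ℕ, j ≤ n → K.ExactAt j) ∧
        (∀ j : ℕ, n + 1 < j → IsZero (K.X j)) ∧ (∀ j : ℕ, 1 ≤ j → j ≤ n + 1 → P (K.X j))) ↔
      (∃ E : CochainComplex C ℤ, PCoh.IsStrictPC P (-(n : ℤ)) E ∧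
        Nonempty (DerivedCategory.Q.obj E ≅ (DerivedCategory.singleFunctor C 0).obj F)) := by
  exact (fp_iff_exists P n F).symm.trans (fp_iff_isN P hsum hqs hql n F)

end Groth.Agent.S12102
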