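import Groth.Statements.S12105
import Groth.Agent.L10.PresheafSS

set_option autoImplicit false
universe u
open CategoryTheory
open CohSite

namespace Groth.Agent.S12105

open CategoryTheory.Limits in
/-- On a small site (C, J), for a presheaf of sets R on C and an abelian sheaf M there is a bounded E_2
spectral sequence of abelian groups with E_2^{p,q} isomorphic to H^p(R, H^q(M)) — the cohomology, in
the topos of presheaves (sheaves for the trivial topology), of the presheaf V ↦ H^q(V, M) with
respect to R, i.e. the p-th Ext out of the free abelian presheaf on R — for p, q ≥ 0 and zero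
otherwise, with abutment data whose filtrations are finite on H^n(aR, M), the cohomology of M with
respect to the sheaf of sets associated to R (n ≥ 0; zero for n < 0). The E_2 identifications and
abutment isomorphisms are asserted to exist only, not pinned to the canonical maps, so edge maps and
functoriality in R and M are not part of this statement. -/
theorem result {C : Type u} [SmallCategory C]
    (J : GrothendieckTopology C) (R : Cᵒᵖ ⥤ Type u) (M : Sheaf J AddCommGrpCat.{u}) :
    ∃ (E : E₂CohomologicalSpectralSequence AddCommGrpCat.{u})
      (a : SpSeq.Abutment E (fun n : ℤ =>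
        if 0 ≤ n then AddCommGrpCat.of (CohCx.HK ((presheafToSheaf J (Type u)).obj R) M n.toNat)
        else AddCommGrpCat.of PUnit.{u + 1})),
      (∀ n, a.IsFinite n) ∧ SpSeq.IsBounded E ∧
      ∀ p q : ℤ, Nonempty ((E.page 2 le_rfl).X (p, q) ≅
        (if 0 ≤ p ∧ 0 ≤ q then
          AddCommGrpCat.of (CohCx.HK (J := (⊥ : GrothendieckTopology C)) ⟨R, Presheaf.isSheaf_bot _⟩
            ⟨M.cohomologyPresheaf q.toNat, Presheaf.isSheaf_bot _⟩ p.toNat)
         else AddCommGrpCat.of PUnit.{u + 1})) := by
  exact Groth.L10.PresheafSS.exists_spectralSequence J R M

end Groth.Agent.S12105
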