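import Groth.Statements.S12106
import Groth.Agent.L10.TopCech

set_option autoImplicit false
universe u
open CategoryTheory
open CohSite

namespace Groth.Agent.S12106

open CategoryTheory.Limits in
/-- In the topos of sheaves of sets on a small site, let F be an abelian sheaf such that for every
epimorphism of sheaves of sets K' ⟶ K the Čech cohomology groups H^q(K'/K, F), computed from the
complex H^0(K', F) → H^0(K' ×_K K', F) → ⋯, vanish for all q > 0. Then F is flasque (totally
acyclic: H^q(K, F) = 0 for every sheaf of sets K and every q > 0). (An epimorphic family (X_i → X)
is replaced here by the single epimorphism from its coproduct, which has the same Čech complex; no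
vanishing of H^q(U, F) on the objects of the site is assumed, it follows.) -/
theorem result {C : Type u} [SmallCategory C] {J : GrothendieckTopology C}
    (F : Sheaf J AddCommGrpCat.{u})
    (h : ∀ (K' K : Sheaf J (Type u)) (f : K' ⟶ K), Epi f →
      ∀ q : ℕ, IsZero ((CohCx.cechNerveCx F f).homology (q + 1))) :
    CohCx.IsTotallyAcyclic F := by
  exact Groth.L10.Nerve.CechAcyclic.isTotallyAcyclic fun K' K f hf n z hz =>
    (Groth.L10.Nerve.isZero_cechNerveCx_iff F f n).1 (h K' K f hf n) z hz

end Groth.Agent.S12106
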