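import Groth.Statements.S12107
import Groth.Agent.L09.Closed

set_option autoImplicit false
universe u
open CategoryTheory
open SGA4

namespace Groth.Agent.S12107
open CategoryTheory Category Limits SGA4 Groth.L09.Closed

open CategoryTheory.Limits in
/-- In the topos of sheaves of sets on a small site, let U be an open (a subobject of the final object)
and, for an object X, let X_CU be the pushout of U ← U × X → X along the two projections. For a
morphism m : X ⟶ X' let k : X_CU ⟶ X'_CU be the induced morphism (compatible with the maps from U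
and with m). Then the square with sides m, k and the canonical maps X ⟶ X_CU, X' ⟶ X'_CU is
cartesian if and only if id_U × m : U × X ⟶ U × X' is an isomorphism (that is, m restricts to an
isomorphism over U). -/
theorem result {C : Type u} [SmallCategory C] (J : GrothendieckTopology C)
    (U : Sheaf J (Type u)) (hU : SGA4.IsOpen U) {X X' : Sheaf J (Type u)} (m : X ⟶ X')
    (k : pushout (prod.fst : U ⨯ X ⟶ U) (prod.snd : U ⨯ X ⟶ X) ⟶
      pushout (prod.fst : U ⨯ X' ⟶ U) (prod.snd : U ⨯ X' ⟶ X'))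
    (hk₁ : pushout.inl (prod.fst : U ⨯ X ⟶ U) (prod.snd : U ⨯ X ⟶ X) ≫ k =
      pushout.inl (prod.fst : U ⨯ X' ⟶ U) (prod.snd : U ⨯ X' ⟶ X'))
    (hk₂ : pushout.inr (prod.fst : U ⨯ X ⟶ U) (prod.snd : U ⨯ X ⟶ X) ≫ k =
      m ≫ pushout.inr (prod.fst : U ⨯ X' ⟶ U) (prod.snd : U ⨯ X' ⟶ X')) :
    IsPullback m (pushout.inr (prod.fst : U ⨯ X ⟶ U) (prod.snd : U ⨯ X ⟶ X))
        (pushout.inr (prod.fst : U ⨯ X' ⟶ U) (prod.snd : U ⨯ X' ⟶ X')) k ↔
      IsIso (prod.map (𝟙 U) m) := by

  let e := (isPushout hU X).isoPushout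
  let e' := (isPushout hU X').isoPushout
  have hcl : (Cl U).map m ≫ e'.hom = e.hom ≫ k := by
    refine (isPushout hU X).hom_ext ?_ ?_
    · have h1 : κ₀ U X ≫ (Cl U).map m = κ₀ U X' := hom_to_closed_unique hU (cl_mem hU X') (𝟙 U) _ _
      rw [← assoc, h1, ← assoc, (isPushout hU X).inl_isoPushout_hom, hk₁]
      exact (isPushout hU X').inl_isoPushout_hom
    · rw [← assoc, ← (η U).naturality m, ← assoc, (isPushout hU X).inr_isoPushout_hom, hk₂, Functor.id_map, assoc]
      exact congrArg (m ≫ ·) (isPushout hU X').inr_isoPushout_hom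
  have c1 := (id_comp (pushout.inr (prod.fst : U ⨯ X ⟶ U) (prod.snd : U ⨯ X ⟶ X)))
  constructor
  · intro h
    rw [isIso_prodMap_iff]
    refine fun c => bijective_of_isPullback_cl hU (h.of_iso (Iso.refl _) (Iso.refl _) e.symm e'.symm ?_ ?_ ?_ ?_) c
    · simp
    · rw [Iso.refl_hom, id_comp, Iso.symm_hom, Iso.comp_inv_eq]; exact (isPushout hU X).inr_isoPushout_hom.symm
    · rw [Iso.refl_hom, id_comp, Iso.symm_hom, Iso.comp_inv_eq]; exact (isPushout hU X').inr_isoPushout_hom.symm
    · rw [Iso.symm_hom, Iso.symm_hom, Iso.comp_inv_eq, assoc, hcl, Iso.inv_hom_id_assoc]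
  · intro h
    refine (isPullback_cl hU m ((isIso_prodMap_iff m).1 h)).of_iso (Iso.refl _) (Iso.refl _) e e' ?_ ?_ ?_ hcl
    · simp
    · rw [Iso.refl_hom, id_comp]; exact (isPushout hU X).inr_isoPushout_hom
    · rw [Iso.refl_hom, id_comp]; exact (isPushout hU X').inr_isoPushout_hom

end Groth.Agent.S12107
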