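import Groth.Statements.S12108
import Groth.Prelude.Def_SGA4a
import Groth.Agent.L09.ShfRel
import Groth.Agent.L09.CoprodTopos
import Mathlib.CategoryTheory.Sites.Canonical
import Mathlib.CategoryTheory.Limits.Shapes.Pullback.HasPullback
import Mathlib.CategoryTheory.Limits.Preserves.Shapes.Products

set_option autoImplicit false
open CategoryTheory CategoryTheory.Limits
universe u
open SGA4

namespace Groth.Agent.S12108
open CategoryTheory CategoryTheory.Limits Opposite

/-- Let `(C, J)` be a small site, `X` an object and `s i : Y i ⟶ X` a family of morphisms indexed by a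
small type. The following are equivalent: (i) the family is covering, for every `i` the diagonal of
presheaves `h_{Y i} ⟶ h_{Y i} ×_{h_X} h_{Y i}` becomes an isomorphism under the associated-sheaf
functor, and for all `i ≠ j` the sheaf associated to the presheaf `h_{Y i} ×_{h_X} h_{Y j}` is an
initial object; (ii) the associated sheaf of `X`, with the maps induced by the `s i`, is a coproduct
of the associated sheaves of the `Y i` in sheaves of sets. -/
theorem result
    {C : Type u} [SmallCategory C] (J : GrothendieckTopology C) {X : C} {ι : Type u}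
    (Y : ι → C) (s : ∀ i, Y i ⟶ X) :
    (Sieve.ofArrows Y s ∈ J X ∧
      (∀ i, IsIso ((presheafToSheaf J (Type u)).map (pullback.diagonal (yoneda.map (s i))))) ∧
      (∀ i j, i ≠ j → Nonempty (IsInitial ((presheafToSheaf J (Type u)).obj
        (pullback (yoneda.map (s i)) (yoneda.map (s j))))))) ↔
    Nonempty (IsColimit (Cofan.mk ((presheafToSheaf J (Type u)).obj (yoneda.obj X))
      (fun i => (presheafToSheaf J (Type u)).map (yoneda.map (s i))))) := by
  let L := presheafToSheaf J (Type u)
  constructor
  · rintro ⟨hcov, hdiag, hinit⟩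
    refine Groth.L09.CoprodTopos.isColimit_sheafify_of_locallyBijective (fun i => yoneda.obj (Y i)) (fun i => yoneda.map (s i))
      (fun U (x : U ⟶ X) => ⟨_, J.pullback_stable x hcov, fun V k hk => ?_⟩)
      (fun i U y y' e => ?_) (fun i j hij U y y' e => ?_)
    · rw [Sieve.pullback_apply, Sieve.mem_ofArrows_iff] at hk
      obtain ⟨i, a, ha⟩ := hk
      exact ⟨i, a, ha.symm⟩
    · obtain ⟨z, hz₁, hz₂⟩ := Groth.L09.ShfRel.exists_pullback_elt
        (IsPullback.of_hasPullback (yoneda.map (s i)) (yoneda.map (s i))) (op U) y y' e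
      have hW : J.W (pullback.diagonal (yoneda.map (s i))) := (J.W_iff _).mpr (hdiag i)
      have := hW.isLocallySurjective
      refine ⟨_, Presheaf.imageSieve_mem J (pullback.diagonal (yoneda.map (s i))) z, fun V k ⟨t, ht⟩ => ?_⟩
      have e1 := congrArg ((pullback.fst (yoneda.map (s i)) (yoneda.map (s i))).app (op V)) ht
      have e2 := congrArg ((pullback.snd (yoneda.map (s i)) (yoneda.map (s i))).app (op V)) ht
      rw [NatTrans.naturality_apply (pullback.fst (yoneda.map (s i)) (yoneda.map (s i))) k.op z, hz₁] at e1
      rw [NatTrans.naturality_apply (pullback.snd (yoneda.map (s i)) (yoneda.map (s i))) k.op z, hz₂] at e2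
      have d1 := ConcreteCategory.congr_hom (NatTrans.congr_app (pullback.diagonal_fst (yoneda.map (s i))) (op V)) t
      have d2 := ConcreteCategory.congr_hom (NatTrans.congr_app (pullback.diagonal_snd (yoneda.map (s i))) (op V)) t
      exact (e1.symm.trans d1).trans (d2.symm.trans e2)
    · obtain ⟨z, -, -⟩ := Groth.L09.ShfRel.exists_pullback_elt
        (IsPullback.of_hasPullback (yoneda.map (s i)) (yoneda.map (s j))) (op U) y y' e
      obtain ⟨hI⟩ := hinit i j hij
      let E : Cᵒᵖ ⥤ Type u := (Functor.const _).obj PEmpty
      obtain ⟨hE⟩ := Groth.L09.CoprodTopos.psh_isInitial_of_isEmpty (P := E) (fun _ => inferInstanceAs (IsEmpty PEmpty))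
      have : PreservesColimitsOfSize.{0, 0} L := (sheafificationAdjunction J (Type u)).leftAdjoint_preservesColimits
      have hE' : IsInitial (L.obj E) := IsInitial.isInitialObj L _ hE
      let g : E ⟶ pullback (yoneda.map (s i)) (yoneda.map (s j)) := hE.to _
      have hg : IsIso (L.map g) := ⟨⟨hI.to _, hE'.hom_ext _ _, hI.hom_ext _ _⟩⟩
      have := ((J.W_iff g).mpr hg).isLocallySurjective
      refine J.superset_covering ?_ (Presheaf.imageSieve_mem J g z)
      rintro V k ⟨t, -⟩
      exact PEmpty.elim t
  · rintro ⟨hc⟩
    have hd := Groth.L09.CoprodTopos.shf_coproductDisjoint (fun i => L.obj (yoneda.obj (Y i)))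
    have hm : ∀ i, Mono (L.map (yoneda.map (s i))) := fun i => CoproductDisjoint.mono_inj hc i
    refine ⟨?_, fun i => ?_, fun i j hij => ?_⟩
    · let σ := Sigma.desc (fun i => yoneda.map (s i))
      have : PreservesColimitsOfSize.{u, u} L := (sheafificationAdjunction J (Type u)).leftAdjoint_preservesColimits
      have hc' := isColimitCofanMkObjOfIsColimit L _ _ (coproductIsCoproduct (fun i => yoneda.obj (Y i)))
      have heq : L.map σ = (hc'.coconePointUniqueUpToIso hc).hom := by
        refine hc'.hom_ext fun ⟨i⟩ => ?_
        rw [IsColimit.comp_coconePointUniqueUpToIso_hom]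
        exact (L.map_comp _ _).symm.trans (congrArg L.map (Sigma.ι_desc _ _))
      have hW : J.W σ := (J.W_iff σ).mpr (show IsIso (L.map σ) by rw [heq]; infer_instance)
      have := hW.isLocallySurjective
      refine J.superset_covering ?_ (Presheaf.imageSieve_mem J σ (U := op X) (𝟙 X : X ⟶ X))
      rintro V k ⟨t, ht⟩
      obtain ⟨i, a, ha⟩ := Groth.L09.CoprodTopos.types_cofan_exists
        (isColimitOfPreserves ((evaluation Cᵒᵖ (Type u)).obj (op V)) (coproductIsCoproduct (fun i => yoneda.obj (Y i)))) t
      rw [Sieve.mem_ofArrows_iff]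
      refine ⟨i, a, ?_⟩
      have h1 := ConcreteCategory.congr_hom (NatTrans.congr_app (Sigma.ι_desc (fun i => yoneda.map (s i)) i) (op V)) a
      subst ha
      exact ((h1.symm.trans ht).trans (Category.comp_id k)).symm
    · have hp := (IsPullback.of_hasPullback (yoneda.map (s i)) (yoneda.map (s i))).map L
      have := hm i
      have : IsIso (L.map (pullback.fst (yoneda.map (s i)) (yoneda.map (s i)))) := hp.isIso_fst_of_mono
      have h2 : L.map (pullback.diagonal (yoneda.map (s i))) ≫ L.map (pullback.fst (yoneda.map (s i)) (yoneda.map (s i))) = 𝟙 _ := by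
        rw [← L.map_comp, pullback.diagonal_fst, L.map_id]
      exact IsIso.of_isIso_fac_right h2
    · have hp := (IsPullback.of_hasPullback (yoneda.map (s i)) (yoneda.map (s j))).map L
      exact CoproductDisjoint.nonempty_isInitial_of_ne hc hij _ hp.isLimit

end Groth.Agent.S12108
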