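import Groth.Statements.S6136
import Groth.Agent.L09.LanInd
import Groth.Prelude.Def_SGA4a
import Mathlib.CategoryTheory.Subobject.Basic
import Mathlib.CategoryTheory.Limits.Shapes.Diagonal
import Mathlib.CategoryTheory.Preadditive.Injective.Basic
import Mathlib.CategoryTheory.Sites.LocallyBijective
import Mathlib.CategoryTheory.Sites.Limits

set_option autoImplicit false
open CategoryTheory CategoryTheory.Limits
universe u
open SGA4

namespace Groth.Agent.S6136
open CategoryTheory Category Functor Limits Opposite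

/-- Fully faithful case. Let `u : C ⥤ C'` be a functor between small categories and `u_!` the left Kan
extension functor on presheaves of sets, whose restriction to ind-representable presheaves is the
induced functor `Ind C ⥤ Ind C'`. Then `u` is full and faithful if and only if `u_!` is bijective on
morphisms between ind-representable presheaves. -/
theorem result
    {C : Type u} [SmallCategory C] {C' : Type u} [SmallCategory C'] (u : C ⥤ C') :
    (u.Full ∧ u.Faithful) ↔ ∀ (F G : Cᵒᵖ ⥤ Type u), IsIndObject F → IsIndObject G →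
      Function.Bijective (fun φ : F ⟶ G => (u.op.lan : (Cᵒᵖ ⥤ Type u) ⥤ (C'ᵒᵖ ⥤ Type u)).map φ) := by
  constructor
  · rintro ⟨_, _⟩ F G _ hG
    let adj := u.op.lanAdjunction (Type u)
    have : IsIso (adj.unit.app G) := by
      have : ∀ Z, IsIso ((adj.unit.app G).app Z) := fun Z =>
        (isIso_iff_bijective _).mpr ⟨Groth.L09.LanInd.unit_injective u hG Z, Groth.L09.LanInd.unit_surjective u hG Z⟩
      exact NatIso.isIso_of_isIso_app _
    have hh : (fun φ : F ⟶ G => (u.op.lan : (Cᵒᵖ ⥤ Type u) ⥤ (C'ᵒᵖ ⥤ Type u)).map φ) =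
        (adj.homEquiv _ _).symm ∘ (fun φ : F ⟶ G => φ ≫ adj.unit.app G) := by
      funext φ
      apply (adj.homEquiv _ _).injective
      rw [Function.comp_apply, Equiv.apply_symm_apply, adj.homEquiv_unit]
      exact (adj.unit.naturality φ).symm
    rw [hh]
    refine (Equiv.bijective _).comp ⟨fun a b hab => (cancel_mono (adj.unit.app G)).mp hab, fun y => ⟨y ≫ CategoryTheory.inv (adj.unit.app G), ?_⟩⟩
    exact (assoc _ _ _).trans ((congrArg (y ≫ ·) (IsIso.inv_hom_id _)).trans (comp_id y))
  · intro h
    refine ⟨⟨fun {X Y} k => ?_⟩, ⟨fun {X Y} a b hab => ?_⟩⟩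
    · obtain ⟨φ, hφ⟩ := (h _ _ (isIndObject_yoneda X) (isIndObject_yoneda Y)).2
        (Groth.L09.LanInd.toYoneda u X ≫ yoneda.map k ≫ CategoryTheory.inv (Groth.L09.LanInd.toYoneda u Y))
      obtain ⟨c, rfl⟩ := yoneda.map_surjective φ
      refine ⟨c, yoneda.map_injective ((cancel_epi (Groth.L09.LanInd.toYoneda u X)).mp ?_)⟩
      rw [← Groth.L09.LanInd.map_toYoneda]
      refine (congrArg (· ≫ Groth.L09.LanInd.toYoneda u Y) hφ).trans ?_
      simp
    · apply yoneda.map_injective
      apply (h _ _ (isIndObject_yoneda X) (isIndObject_yoneda Y)).1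
      refine (cancel_mono (Groth.L09.LanInd.toYoneda u Y)).mp ?_
      rw [Groth.L09.LanInd.map_toYoneda, Groth.L09.LanInd.map_toYoneda, hab]

end Groth.Agent.S6136
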