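import Groth.Statements.S12109
import Groth.Agent.L09.LanInd
import Groth.Agent.S6136
import Groth.Agent.L09.IndRetract
import Mathlib.CategoryTheory.Limits.Indization.FilteredColimits
import Mathlib.CategoryTheory.Limits.Indization.IndObject
import Mathlib.CategoryTheory.Functor.KanExtension.Adjunction
import Mathlib.CategoryTheory.Limits.Types.Colimits
import Mathlib.CategoryTheory.Limits.Preserves.FunctorCategory

set_option autoImplicit false
open CategoryTheory CategoryTheory.Limits
universe u
open SGA4

namespace Groth.Agent.S12109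
open CategoryTheory Category Limits Opposite

/-- Let `u : C ⥤ C'` be a functor between small categories and `u_!` the left Kan extension functor on
presheaves of sets, whose restriction to ind-representable presheaves is the induced functor `Ind C
⥤ Ind C'`. Then `Ind(u)` is an equivalence — `u_!` is bijective on morphisms between
ind-representable presheaves on `C` and every ind-representable presheaf on `C'` is isomorphic to
`u_! F` for some ind-representable `F` — if and only if `u` is full and faithful and every object of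
`C'` is a retract (direct factor) of an object `u X`. -/
theorem result
    {C : Type u} [SmallCategory C] {C' : Type u} [SmallCategory C'] (u : C ⥤ C') :
    ((∀ (F G : Cᵒᵖ ⥤ Type u), IsIndObject F → IsIndObject G →
        Function.Bijective (fun φ : F ⟶ G => (u.op.lan : (Cᵒᵖ ⥤ Type u) ⥤ (C'ᵒᵖ ⥤ Type u)).map φ)) ∧
      (∀ G' : C'ᵒᵖ ⥤ Type u, IsIndObject G' →
        ∃ F : Cᵒᵖ ⥤ Type u, IsIndObject F ∧
          Nonempty ((u.op.lan : (Cᵒᵖ ⥤ Type u) ⥤ (C'ᵒᵖ ⥤ Type u)).obj F ≅ G'))) ↔
    ((u.Full ∧ u.Faithful) ∧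
      ∀ X' : C', ∃ (X : C) (i : X' ⟶ u.obj X) (r : u.obj X ⟶ X'), i ≫ r = 𝟙 X') := by
  let L := (u.op.lan : (Cᵒᵖ ⥤ Type u) ⥤ (C'ᵒᵖ ⥤ Type u))
  let adj := u.op.lanAdjunction (Type u)
  have : PreservesColimitsOfSize.{u, u} L := adj.leftAdjoint_preservesColimits
  constructor
  · rintro ⟨hbij, hes⟩
    refine ⟨(Groth.Agent.S6136.result u).mpr hbij, fun X' => ?_⟩
    obtain ⟨F, hF, ⟨θ⟩⟩ := hes (yoneda.obj X') (isIndObject_yoneda X')
    obtain ⟨P⟩ := hF.nonempty_presentation
    have hc := isColimitOfPreserves (L ⋙ (evaluation _ (Type u)).obj (op X')) P.isColimit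
    obtain ⟨k, z, hz⟩ := Types.jointly_surjective _ hc (θ.inv.app (op X') (𝟙 X'))
    let i : X' ⟶ u.obj (P.F.obj k) := (Groth.L09.LanInd.toYoneda u (P.F.obj k)).app (op X') z
    obtain ⟨r, hr⟩ := yoneda.map_surjective (CategoryTheory.inv (Groth.L09.LanInd.toYoneda u (P.F.obj k)) ≫
      L.map (P.ι.app k) ≫ θ.hom)
    refine ⟨P.F.obj k, i, r, ?_⟩
    have h1 := ConcreteCategory.congr_hom (NatTrans.congr_app hr (op X')) i
    have h2 : (CategoryTheory.inv (Groth.L09.LanInd.toYoneda u (P.F.obj k))).app (op X') i = z :=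
      ConcreteCategory.congr_hom (NatTrans.congr_app (IsIso.hom_inv_id (Groth.L09.LanInd.toYoneda u (P.F.obj k))) (op X')) z
    refine h1.trans ?_
    refine (congrArg (fun w => θ.hom.app (op X') ((L.map (P.ι.app k)).app (op X') w)) h2).trans ?_
    exact (congrArg (θ.hom.app (op X')) hz).trans (ConcreteCategory.congr_hom (NatTrans.congr_app θ.inv_hom_id (op X')) (𝟙 X'))
  · rintro ⟨⟨_, _⟩, hret⟩
    refine ⟨(Groth.Agent.S6136.result u).mp ⟨inferInstance, inferInstance⟩, fun G' hG' => ?_⟩
    let R := (Functor.whiskeringLeft Cᵒᵖ C'ᵒᵖ (Type u)).obj u.op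
    have nat : ∀ {A B : C'ᵒᵖ ⥤ Type u} (f : A ⟶ B),
        L.map (R.map f) ≫ adj.counit.app B = adj.counit.app A ≫ f := fun f => adj.counit.naturality f
    have hε : ∀ X' : C', IsIso (adj.counit.app (yoneda.obj X')) := fun X' => by
      obtain ⟨X, i, r, hir⟩ := hret X'
      let e : yoneda.obj X ⟶ R.obj (yoneda.obj (u.obj X)) :=
        yonedaEquiv.symm (𝟙 (u.obj X) : (yoneda.obj (u.obj X)).obj (op (u.obj X)))
      have : IsIso e := by
        have : ∀ Z, IsIso (e.app Z) := fun Z => (isIso_iff_bijective _).mpr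
          ⟨fun a b hab => u.map_injective ((comp_id _).symm.trans (Eq.trans hab (comp_id _))),
           fun g => ⟨u.preimage g, (comp_id _).trans (u.map_preimage g)⟩⟩
        exact NatIso.isIso_of_isIso_app _
      have h0 : L.map e ≫ adj.counit.app (yoneda.obj (u.obj X)) = Groth.L09.LanInd.toYoneda u X :=
        (adj.homEquiv_counit _ _ e).symm
      have : IsIso (L.map e ≫ adj.counit.app (yoneda.obj (u.obj X))) := by rw [h0]; infer_instance
      have : IsIso (adj.counit.app (yoneda.obj (u.obj X))) := IsIso.of_isIso_comp_left (L.map e) _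
      refine ⟨yoneda.map i ≫ CategoryTheory.inv (adj.counit.app (yoneda.obj (u.obj X))) ≫ L.map (R.map (yoneda.map r)), ?_, ?_⟩
      · refine (reassoc_of% (nat (yoneda.map i)).symm) _ |>.trans ?_
        rw [IsIso.hom_inv_id_assoc, ← L.map_comp, ← R.map_comp, ← yoneda.map_comp, hir]
        erw [yoneda.map_id, R.map_id, L.map_id]
        rfl
      · rw [assoc, assoc, nat, IsIso.inv_hom_id_assoc, ← yoneda.map_comp, hir, yoneda.map_id]
        rfl
    obtain ⟨P⟩ := hG'.nonempty_presentation
    refine ⟨R.obj G', ?_, ⟨@asIso _ _ _ _ (adj.counit.app G') ?_⟩⟩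
    · have hc : IsColimit (R.mapCocone P.cocone) := isColimitOfPreserves R P.coconeIsColimit
      refine (isIndObject_colimit _ _ fun j => ?_).map ((colimit.isColimit _).coconePointUniqueUpToIso hc).hom
      obtain ⟨X, i, r, hir⟩ := hret (P.F.obj j)
      let ι' : R.obj (yoneda.obj (P.F.obj j)) ⟶ yoneda.obj X :=
        { app := fun Z => ↾fun g => u.preimage (g ≫ i)
          naturality := fun Z W k => by
            ext g
            apply u.map_injective
            show u.map (u.preimage ((u.map k.unop ≫ g) ≫ i)) = u.map (k.unop ≫ u.preimage (g ≫ i))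
            simp }
      refine Groth.L09.IndRetract.isIndObject_of_retract ι' (yonedaEquiv.symm (r : (yoneda.obj (P.F.obj j)).obj (op (u.obj X)))) ?_
      ext Z g
      show u.map (u.preimage (g ≫ i)) ≫ r = g
      rw [u.map_preimage, assoc, hir]
      exact comp_id g
    · let α : (P.F ⋙ yoneda) ⋙ R ⋙ L ≅ P.F ⋙ yoneda :=
        NatIso.ofComponents (fun j => @asIso _ _ _ _ (adj.counit.app (yoneda.obj (P.F.obj j))) (hε _))
          (fun f => adj.counit.naturality _)
      have : PreservesColimitsOfShape P.I (R ⋙ L) := inferInstance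
      have hc := isColimitOfPreserves (R ⋙ L) P.coconeIsColimit
      have he : adj.counit.app G' = (hc.coconePointsIsoOfNatIso P.coconeIsColimit α).hom :=
        hc.hom_ext fun j => by
          refine Eq.trans ?_ (IsColimit.comp_coconePointsIsoOfNatIso_hom hc P.coconeIsColimit α j).symm
          exact adj.counit.naturality (P.ι.app j)
      rw [he]
      infer_instance

end Groth.Agent.S12109
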