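import Groth.Statements.S1211
import Groth.Agent.L20.RG.Charts

set_option autoImplicit false
universe u
open FlatMor

set_option backward.isDefEq.respectTransparency.types false
namespace Groth.Agent.S1211

open TensorProduct in
/-- Ring form, X = Spec S and S = Spec R affine: let S be a finite type R-algebra, N a finite S-module
and q a prime of S over p with N_q flat over R. Then there is an étale R-algebra R' with a prime p'
over p having the same residue field such that, writing A for the local ring of R' at p', S_A and
N_A for the base changes: some element g of S_A outside every prime over both q and the maximal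
ideal of A has the localization of N_A at g flat over A. -/
theorem result {R S : Type u} [CommRing R] [CommRing S] [Algebra R S] [Algebra.FiniteType R S]
    (N : Type u) [AddCommGroup N] [Module S N] [Module R N] [IsScalarTower R S N] [Module.Finite S N]
    (p : Ideal R) [p.IsPrime] (q : Ideal S) [q.IsPrime] [q.LiesOver p] (hflat : FlatCA.FlatAt R q N) :
    ∃ (R' : Type u) (_ : CommRing R') (_ : Algebra R R') (p' : Ideal R') (_ : p'.IsPrime), FlatCA.IsEtaleNhd R R' p p' ∧
      ∀ (SA NA : Type u) [CommRing SA] [Algebra R SA] [Algebra S SA] [Algebra (Localization.AtPrime p') SA]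
        [IsScalarTower R S SA] [IsScalarTower R (Localization.AtPrime p') SA]
        [Algebra.IsPushout R S (Localization.AtPrime p') SA]
        [AddCommGroup NA] [Module SA NA] [Module S NA] [IsScalarTower S SA NA]
        [Module (Localization.AtPrime p') NA] [IsScalarTower (Localization.AtPrime p') SA NA]
        (f : N →ₗ[S] NA), IsBaseChange SA f →
        ∃ g : SA, (∀ (Q : Ideal SA) [Q.IsPrime], Q.LiesOver q → Q.LiesOver (IsLocalRing.maximalIdeal (Localization.AtPrime p')) → g ∉ Q) ∧
          Module.Flat (Localization.AtPrime p') (LocalizedModule (Submonoid.powers g) NA) := by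
  obtain ⟨R', S', _, _, _, _, _, _, _, _, p', _, fu, hp, hS, hfu, ⟨q', _, hq'p, hq'⟩, -, H⟩ :=
    Groth.L20.RG.exists_free_local_ft N p q hflat
  haveI := hp.1
  haveI := hS
  haveI := hq'p
  refine ⟨R', inferInstance, inferInstance, p', inferInstance, hp, ?_⟩
  intro SA NA _ _ _ _ _ _ _ _ _ _ _ _ _ f hf
  have hm' := Groth.L20.RG.trivRes_atPrime p'
  have hm := Groth.L20.RG.TrivRes.trans hp.2 hm'
  haveI := hm.liesOver
  obtain ⟨C, _, _, _, _, _, _, _, _, _, _, _, hpush, het, hpt, -⟩ :=
    Groth.L20.RG.exists_chart_local (R := R) (S := S) (R' := R') (S' := S') (A := Localization.AtPrime p') (SA := SA)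
      p p' (IsLocalRing.maximalIdeal (Localization.AtPrime p')) hm hm'
  haveI := hpush
  haveI := het
  obtain ⟨x, _, hxm, hxq, hxt⟩ := hpt q' inferInstance inferInstance
  have hu : IsUnit (algebraMap R' (Localization.AtPrime p') fu) := IsLocalization.map_units _ (⟨fu, hfu⟩ : p'.primeCompl)
  obtain ⟨g, hg⟩ := Groth.L20.RG.exists_isBaseChange_comp (C := C) f hf
  haveI := hq'.liesOver
  haveI hxo : x.LiesOver q' := (hxt inferInstance).liesOver
  have hH := H (Localization.AtPrime p') hm' hu C (TensorProduct SA C NA) g hg
  let Q₀ := x.comap (algebraMap SA C)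
  haveI : x.LiesOver Q₀ := ⟨rfl⟩
  obtain ⟨g₀, hg₀, hflat₀, himg⟩ := Groth.L20.RG.exists_flat_open (C := C) (NA := NA) hH Q₀ x
  refine ⟨g₀, fun Q _ hQq hQm => ?_, hflat₀⟩
  rw [Groth.L20.RG.unique_over (R := R) (S := S) p q (IsLocalRing.maximalIdeal (Localization.AtPrime p')) hm Q Q₀ hQq
    hQm ⟨?_⟩ ⟨?_⟩]
  · exact hg₀
  · refine (hq'.liesOver.over).trans ?_
    rw [Ideal.under_def, Ideal.under_def, ← hxq, Ideal.comap_comap, Ideal.comap_comap, ← IsScalarTower.algebraMap_eq,
      ← IsScalarTower.algebraMap_eq]
  · refine hxm.over.trans ?_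
    rw [Ideal.under_def, Ideal.under_def, Ideal.comap_comap, ← IsScalarTower.algebraMap_eq]

end Groth.Agent.S1211
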