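import Groth.Statements.S12113
import Groth.Agent.L28.Ext.Basic
-- import your own Groth.Agent.* helpers here

set_option autoImplicit false
universe u

set_option linter.style.haveILetI false
open CategoryTheory CategoryTheory.Limits MonoidalCategory CartesianMonoidalCategory MonObj AlgebraicGeometry
open SGA7

namespace Groth.Agent.S12113

/-- Group schemes, fppf site: over a base scheme S, let P and G be S-group schemes with G commutative,
and let u : G → E, v : E → P and u' : G → E', v' : E' → P be homomorphisms forming sequences 1 → G →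
E → P → 1 and 1 → G → E' → P → 1 exact for the fppf topology. Suppose every morphism of S-schemes P
×_S P → G trivial on P × e_P and on e_P × P is trivial. Let f : E → E' be a morphism of S-schemes
over P (f ≫ v' = v) and under G (u ≫ f = u'), preserving the unit section, and compatible with left
and right translations by G: for all points g of G and x of E with values in any S-scheme, f(u(g) x)
= u'(g) f(x) and f(x u(g)) = f(x) u'(g). Then f is a homomorphism of S-group schemes: such
extensions have no non-multiplicative morphisms of their underlying rigidified bitorsors. (The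
published statement is for sheaves of groups on an arbitrary topos and phrased as full faithfulness
of the functor from extensions to rigidified bitorsors; this row is the case of representable
sheaves on the fppf site of S, with G commutative so that the defect of multiplicativity descends to
P ×_S P as in the printed argument. Morphisms to a group scheme form a group; trivial means equal to
its unit.) -/
theorem result (S : Scheme.{u})
    (P G E E' : Over S) [GrpObj P] [GrpObj G] [GrpObj E] [GrpObj E'] [IsCommMonObj G]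
    (u : G ⟶ E) (v : E ⟶ P) (hex : NonAbH1.IsExactSeq Scheme.fppfPrecoverage u v)
    (u' : G ⟶ E') (v' : E' ⟶ P) (hex' : NonAbH1.IsExactSeq Scheme.fppfPrecoverage u' v')
    (hPP : ∀ c : P ⊗ P ⟶ G, lift (𝟙 P) (toUnit P ≫ η[P]) ≫ c = 1 → lift (toUnit P ≫ η[P]) (𝟙 P) ≫ c = 1 → c = 1)
    (f : E ⟶ E') (hv : f ≫ v' = v) (hu : u ≫ f = u') (h1 : η[E] ≫ f = η[E'])
    (hl : ∀ (T : Over S) (g : T ⟶ G) (x : T ⟶ E), ((g ≫ u) * x) ≫ f = (g ≫ u') * (x ≫ f))
    (hr : ∀ (T : Over S) (g : T ⟶ G) (x : T ⟶ E), (x * (g ≫ u)) ≫ f = (x ≫ f) * (g ≫ u')) :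
    IsMonHom f := by
  haveI := hex.1
  haveI := hex.2.1
  haveI := hex'.1
  haveI := hex'.2.1
  obtain ⟨d, hd⟩ := Groth.L28.Ext.exists_of_comp_eq_one hex'
    (x := ((fst E E ≫ f) * (snd E E ≫ f))⁻¹ * ((fst E E * snd E E) ≫ f)) (by
      simp only [mul_comp, GrpObj.inv_comp, Category.assoc, hv, inv_mul_cancel])
  have hdT : ∀ {T : Over S} (x y : T ⟶ E),
      (x * y) ≫ f = (x ≫ f) * (y ≫ f) * (lift x y ≫ d ≫ u') := fun x y => by
    simp only [hd, comp_mul, GrpObj.comp_inv, ← Category.assoc, lift_fst, lift_snd, mul_inv_cancel_left]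
  have hcomm : ∀ {T : Over S} (g h : T ⟶ G), (g ≫ u') * (h ≫ u') = (h ≫ u') * (g ≫ u') := fun g h => by
    rw [← mul_comp, ← mul_comp, _root_.mul_comm]
  obtain ⟨c, hc⟩ := Groth.L28.Ext.descend
    (Groth.L28.Ext.cov_tensor (Groth.L28.Ext.cov_v hex) (Groth.L28.Ext.cov_v hex)) d fun T a b hab => by
    obtain ⟨g, hg⟩ := Groth.L28.Ext.exists_of_comp_eq hex (a := a ≫ fst E E) (b := b ≫ fst E E) (by
      have := congrArg (· ≫ fst P P) hab
      simpa using this)
    obtain ⟨g', hg'⟩ := Groth.L28.Ext.exists_of_comp_eq hex (a := a ≫ snd E E) (b := b ≫ snd E E) (by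
      have := congrArg (· ≫ snd P P) hab
      simpa using this)
    have key : ∀ (x : T ⟶ E ⊗ E), x = lift (x ≫ fst E E) (x ≫ snd E E) := fun x => by simp
    apply Groth.L28.Ext.comp_u_injective hex'
    rw [key a, key b, ← hg, ← hg', Category.assoc, Category.assoc]
    generalize a ≫ fst E E = x, a ≫ snd E E = y
    obtain ⟨g'', hg''⟩ := Groth.L28.Ext.exists_of_comp_eq_one hex (x := y⁻¹ * (g ≫ u) * y) (by
      simp only [mul_comp, GrpObj.inv_comp, Category.assoc, hex.2.2.1, comp_one, _root_.mul_one, inv_mul_cancel])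
    have hconj : (g ≫ u') * (y ≫ f) = (y ≫ f) * (g'' ≫ u') := by
      rw [← hl, ← hr, hg'', _root_.mul_assoc, mul_inv_cancel_left]
    have e : ((x * (g ≫ u)) * (y * (g' ≫ u))) ≫ f =
        (x ≫ f) * (y ≫ f) * (lift x y ≫ d ≫ u') * (g'' ≫ u') * (g' ≫ u') := by
      rw [show (x * (g ≫ u)) * (y * (g' ≫ u)) = (x * y) * ((g'' * g') ≫ u) by
        rw [mul_comp, hg'']; group, hr, hdT, mul_comp, ← _root_.mul_assoc]
    rw [hdT, hr, hr] at e
    have e2 : (x ≫ f) * (g ≫ u') * ((y ≫ f) * (g' ≫ u')) =
        (x ≫ f) * (y ≫ f) * ((g'' ≫ u') * (g' ≫ u')) := by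
      rw [_root_.mul_assoc, ← _root_.mul_assoc (g ≫ u'), hconj, _root_.mul_assoc, ← _root_.mul_assoc (x ≫ f)]
    rw [e2, _root_.mul_assoc _ (g'' ≫ u') (g' ≫ u'), _root_.mul_assoc _ (lift x y ≫ d ≫ u'),
      _root_.mul_assoc ((x ≫ f) * (y ≫ f))] at e
    have e3 := mul_left_cancel e
    rw [← mul_comp g'' g' u', ← Category.assoc (lift x y), hcomm] at e3
    simp only [Category.assoc] at e3
    exact (mul_left_cancel e3).symm
  have hc1 : c = 1 := by
    refine hPP c ?_ ?_
    · apply Groth.L28.Ext.cancel (Groth.L28.Ext.cov_v hex)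
      rw [comp_one]
      apply Groth.L28.Ext.comp_u_injective hex'
      have e1 : v ≫ lift (𝟙 P) (toUnit P ≫ η[P]) ≫ c = lift (𝟙 E) (1 : E ⟶ E) ≫ d := by
        rw [← hc, lift_map_assoc, ← Category.assoc, comp_lift, Category.id_comp, Category.comp_id, one_comp,
          Hom.one_def, ← Category.assoc v, comp_toUnit]
      rw [e1, Category.assoc, one_comp]
      have h := hdT (𝟙 E) (1 : E ⟶ E)
      rw [_root_.mul_one, show (1 : E ⟶ E) ≫ f = 1 by rw [Hom.one_def, Category.assoc, h1]; rfl,
        _root_.mul_one] at h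
      exact mul_eq_left.1 h.symm
    · apply Groth.L28.Ext.cancel (Groth.L28.Ext.cov_v hex)
      rw [comp_one]
      apply Groth.L28.Ext.comp_u_injective hex'
      have e1 : v ≫ lift (toUnit P ≫ η[P]) (𝟙 P) ≫ c = lift (1 : E ⟶ E) (𝟙 E) ≫ d := by
        rw [← hc, lift_map_assoc, ← Category.assoc, comp_lift, Category.id_comp, Category.comp_id, one_comp,
          Hom.one_def, ← Category.assoc v, comp_toUnit]
      rw [e1, Category.assoc, one_comp]
      have h := hdT (1 : E ⟶ E) (𝟙 E)
      rw [_root_.one_mul, show (1 : E ⟶ E) ≫ f = 1 by rw [Hom.one_def, Category.assoc, h1]; rfl,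
        _root_.one_mul] at h
      exact mul_eq_left.1 h.symm
  refine ⟨h1, ?_⟩
  have hd1 : d = 1 := by rw [← hc, hc1, comp_one]
  have h := hdT (fst E E) (snd E E)
  rw [hd1, one_comp, comp_one, _root_.mul_one] at h
  rw [show μ[E] = fst E E * snd E E by rw [Hom.mul_def, lift_fst_snd, Category.id_comp], h, Hom.mul_def]
  congr 1

end Groth.Agent.S12113
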