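import Groth.Statements.S12114
import Groth.Agent.L06.EtDlChain
import Mathlib.AlgebraicGeometry.AffineSpace
import Mathlib.AlgebraicGeometry.Morphisms.QuasiFinite
import Mathlib.AlgebraicGeometry.Morphisms.Flat

set_option autoImplicit false
set_option maxSynthPendingDepth 3
set_option linter.style.haveILetI false
universe u
open CategoryTheory CategoryTheory.Limits AlgebraicGeometry
open EtDl

namespace Groth.Agent.S12114

/-- Let k be an algebraically closed field, X a k-scheme of finite type whose local rings are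
Cohen–Macaulay, and u, v : X ⟶ 𝔸^ι_k (ι a finite index type) two k-morphisms which are locally
quasi-finite and flat. Every closed point x of X has an open neighbourhood U together with a finite
chain of k-morphisms w_0, …, w_m : U ⟶ 𝔸^ι_k (morphisms over Spec k, U carrying the structure map of
X), each locally quasi-finite and flat, with w_0 = u|_U, w_m = v|_U and such that w_{j+1} differs
from w_j in at most one coordinate function. (The published statement asks only for morphisms w_j,
which would make the assertion trivial; the printed argument produces w_j that are quasi-finite and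
flat near x, via systems of parameters of the local ring, and that is what is stated here.) -/
theorem result (k : Type u) [Field k] [IsAlgClosed k]
    (X : Scheme.{u}) [X.Over (Spec (CommRingCat.of k))] [LocallyOfFiniteType (X ↘ Spec (CommRingCat.of k))]
    [QuasiCompact (X ↘ Spec (CommRingCat.of k))]
    (hCM : ∀ y : X, LocCoh.IsCohenMacaulayLocalRing (X.presheaf.stalk y)) (ι : Type u) [Finite ι]
    (u v : X ⟶ AffineSpace ι (Spec (CommRingCat.of k)))
    (hu : u ≫ (AffineSpace ι (Spec (CommRingCat.of k)) ↘ Spec (CommRingCat.of k)) = X ↘ Spec (CommRingCat.of k))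
    (hv : v ≫ (AffineSpace ι (Spec (CommRingCat.of k)) ↘ Spec (CommRingCat.of k)) = X ↘ Spec (CommRingCat.of k))
    [LocallyQuasiFinite u] [Flat u] [LocallyQuasiFinite v] [Flat v] (x : X) (hx : IsClosed ({x} : Set X)) :
    ∃ (U : X.Opens), x ∈ U ∧ ∃ (m : ℕ) (w : Fin (m + 1) → ((U : Scheme.{u}) ⟶ AffineSpace ι (Spec (CommRingCat.of k)))),
      w 0 = U.ι ≫ u ∧ w (Fin.last m) = U.ι ≫ v ∧
      (∀ j : Fin (m + 1), LocallyQuasiFinite (w j) ∧ Flat (w j) ∧
        w j ≫ (AffineSpace ι (Spec (CommRingCat.of k)) ↘ Spec (CommRingCat.of k)) = U.ι ≫ (X ↘ Spec (CommRingCat.of k))) ∧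
      (∀ j : Fin m, ∃ i : ι, ∀ i' : ι, i' ≠ i →
        (w j.castSucc).appTop (AffineSpace.coord (Spec (CommRingCat.of k)) i') =
          (w j.succ).appTop (AffineSpace.coord (Spec (CommRingCat.of k)) i')) := by
  classical
  set s := X ↘ Spec (CommRingCat.of k) with hs
  obtain ⟨U₀, hU₀, hxU₀, -⟩ := X.isBasis_affineOpens.exists_subset_of_mem_open (Set.mem_univ x) isOpen_univ
  obtain ⟨V, hV, rfl⟩ := hU₀
  obtain ⟨A, j, hj, q, hq⟩ : ∃ (A : CommRingCat.{u}) (j : Spec A ⟶ X) (_ : IsOpenImmersion j) (q : Spec A), j q = x :=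
    ⟨_, IsAffineOpen.fromSpec hV, IsAffineOpen.isOpenImmersion_fromSpec hV, IsAffineOpen.primeIdealOf hV ⟨x, hxU₀⟩, IsAffineOpen.fromSpec_primeIdealOf hV ⟨x, hxU₀⟩⟩
  obtain ⟨φ, hφ⟩ := Spec.map_surjective (j ≫ s)
  letI : Algebra k A := φ.hom.toAlgebra
  haveI : Algebra.FiniteType k A := by
    have h : LocallyOfFiniteType (Spec.map φ) := hφ ▸ inferInstance
    exact RingHom.finiteType_algebraMap.1 ((HasRingHomProperty.Spec_iff (P := @LocallyOfFiniteType)).1 h)
  haveI hqm : q.asIdeal.IsMaximal := by
    refine (PrimeSpectrum.isClosed_singleton_iff_isMaximal q).1 ?_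
    have h := hx.preimage j.continuous
    have he : j ⁻¹' {x} = {q} := Set.ext fun y =>
      ⟨fun hy => j.isOpenEmbedding.injective (hy.trans hq.symm), fun hy => by rw [hy]; exact hq⟩
    rwa [he] at h
  obtain ⟨c, hc⟩ := Groth.L06.EtDlChain.exists_point (k := k) q.asIdeal
  haveI : (RingHom.ker c).IsPrime := (Groth.L06.EtDlChain.ker_isMaximal c).isPrime
  have hCMq : LocCoh.IsCohenMacaulayLocalRing (Localization.AtPrime (RingHom.ker c)) := by
    have h := L02.CMMor.cm_of_ringEquiv
      ((asIso (j.stalkMap q) ≪≫ Spec.stalkIso A q).commRingCatIsoToRingEquiv) (hCM (j q))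
    have e : ∀ (I J : Ideal A) [I.IsPrime] [J.IsPrime], I = J →
        LocCoh.IsCohenMacaulayLocalRing (Localization.AtPrime I) →
        LocCoh.IsCohenMacaulayLocalRing (Localization.AtPrime J) := by
      intro I J _ _ hIJ h
      subst hIJ
      exact h
    exact e q.asIdeal _ hc.symm h
  let G : (ι → A) → (Spec A ⟶ AffineSpace ι (Spec (CommRingCat.of k))) := fun a =>
    Spec.map (CommRingCat.ofHom (MvPolynomial.aeval a : MvPolynomial ι k →ₐ[k] A).toRingHom) ≫
      (AffineSpace.SpecIso ι (CommRingCat.of k)).inv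
  have hGover : ∀ a, G a ≫ (AffineSpace ι (Spec (CommRingCat.of k)) ↘ Spec (CommRingCat.of k)) = j ≫ s := by
    intro a
    simp only [G, Category.assoc, AffineSpace.SpecIso_inv_over, ← Spec.map_comp, ← hφ]
    congr 1
    ext r
    exact (MvPolynomial.aeval a : MvPolynomial ι k →ₐ[k] A).commutes r
  have hGcoord : ∀ a i, (G a).appTop (AffineSpace.coord (Spec (CommRingCat.of k)) i) =
      (Scheme.ΓSpecIso A).inv (a i) := by
    intro a i
    simp only [G, Scheme.Hom.comp_appTop]
    rw [CommRingCat.comp_apply]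
    erw [AffineSpace.SpecIso_inv_appTop_coord]
    rw [← CommRingCat.comp_apply, ← Scheme.ΓSpecIso_inv_naturality, CommRingCat.comp_apply]
    congr 1
    exact MvPolynomial.aeval_X _ _
  -- a given morphism comes from a good tuple
  have hgood : ∀ (u' : X ⟶ AffineSpace ι (Spec (CommRingCat.of k))),
      u' ≫ (AffineSpace ι (Spec (CommRingCat.of k)) ↘ Spec (CommRingCat.of k)) = s →
      LocallyQuasiFinite u' → Flat u' →
      ∃ a : ι → A, G a = j ≫ u' ∧ Groth.L06.EtDlChain.Good c a ∧
        ringKrullDim (Localization.AtPrime (RingHom.ker c)) = (Nat.card ι : WithBot ℕ∞) := by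
    intro u' hu' hqf hfl
    let a : ι → A := fun i =>
      (Scheme.ΓSpecIso A).hom ((j ≫ u').appTop (AffineSpace.coord (Spec (CommRingCat.of k)) i))
    have hGa : G a = j ≫ u' := by
      refine AffineSpace.hom_ext ?_ fun i => ?_
      · rw [hGover, Category.assoc, hu']
      · rw [hGcoord]
        show (Scheme.ΓSpecIso A).inv ((Scheme.ΓSpecIso A).hom _) = _
        rw [← CommRingCat.comp_apply, Iso.hom_inv_id]
        rfl
    letI : Algebra (MvPolynomial ι k) A := (MvPolynomial.aeval a : MvPolynomial ι k →ₐ[k] A).toRingHom.toAlgebra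
    haveI : IsScalarTower k (MvPolynomial ι k) A := IsScalarTower.of_algebraMap_eq fun r =>
      ((MvPolynomial.aeval a : MvPolynomial ι k →ₐ[k] A).commutes r).symm
    have e : Spec.map (CommRingCat.ofHom (MvPolynomial.aeval a : MvPolynomial ι k →ₐ[k] A).toRingHom) =
        (j ≫ u') ≫ (AffineSpace.SpecIso ι (CommRingCat.of k)).hom := by
      rw [← hGa]; simp [G]
    haveI : Algebra.QuasiFinite (MvPolynomial ι k) A := by
      have h : LocallyQuasiFinite (Spec.map (CommRingCat.ofHom
          (MvPolynomial.aeval a : MvPolynomial ι k →ₐ[k] A).toRingHom)) := by rw [e]; infer_instance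
      exact RingHom.quasiFinite_algebraMap.1 ((HasRingHomProperty.Spec_iff (P := @LocallyQuasiFinite)).1 h)
    haveI : Module.Flat (MvPolynomial ι k) A := by
      have h : Flat (Spec.map (CommRingCat.ofHom
          (MvPolynomial.aeval a : MvPolynomial ι k →ₐ[k] A).toRingHom)) := by rw [e]; infer_instance
      exact RingHom.flat_algebraMap_iff.1 ((HasRingHomProperty.Spec_iff (P := @Flat)).1 h)
    exact ⟨a, hGa, Groth.L06.EtDlChain.good_of_quasiFinite c a rfl,
      Groth.L06.EtDlChain.dim_eq_of_flat c⟩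
  obtain ⟨a, hGa, ha, hdim⟩ := hgood u hu inferInstance inferInstance
  obtain ⟨b, hGb, hb, -⟩ := hgood v hv inferInstance inferInstance
  haveI : IsNoetherianRing A := Algebra.FiniteType.isNoetherianRing k A
  obtain ⟨m, f, hf0, hfm, hf, hstep⟩ := Groth.L06.EtDlChain.exists_chain_fin c a b ha hb
  choose g hg hgood' using fun t => Groth.L06.EtDlChain.exists_notMem c hCMq hdim (f t) (hf t)
  let g₀ : A := ∏ t, g t
  have hg₀ : g₀ ∉ RingHom.ker c := by
    rw [Ideal.IsPrime.prod_mem_iff]
    rintro ⟨t, -, ht⟩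
    exact hg t ht
  let l : Spec (CommRingCat.of (Localization.Away g₀)) ⟶ X :=
    Spec.map (CommRingCat.ofHom (algebraMap A (Localization.Away g₀))) ≫ j
  haveI : IsOpenImmersion (Spec.map (CommRingCat.ofHom (algebraMap A (Localization.Away g₀)))) :=
    IsOpenImmersion.of_isLocalization g₀
  haveI : IsOpenImmersion l := inferInstance
  let e := l.isoOpensRange
  let W : (ι → A) → ((l.opensRange : Scheme.{u}) ⟶ AffineSpace ι (Spec (CommRingCat.of k))) := fun t =>
    e.inv ≫ Spec.map (CommRingCat.ofHom (algebraMap A (Localization.Away g₀))) ≫ G t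
  have hW : ∀ (t : ι → A) (u' : X ⟶ AffineSpace ι (Spec (CommRingCat.of k))),
      G t = j ≫ u' → W t = l.opensRange.ι ≫ u' := by
    intro t u' h
    show e.inv ≫ _ ≫ G t = _
    rw [h, ← Category.assoc (Spec.map _) j u', ← Category.assoc e.inv,
      show e.inv ≫ Spec.map (CommRingCat.ofHom (algebraMap A (Localization.Away g₀))) ≫ j =
        l.opensRange.ι from Scheme.Hom.isoOpensRange_inv_comp l]
  refine ⟨l.opensRange, ?_, m, fun t => W (f t), ?_, ?_, fun t => ⟨?_, ?_, ?_⟩, fun t => ?_⟩
  · have hqD : q ∈ PrimeSpectrum.basicOpen g₀ := by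
      show g₀ ∉ q.asIdeal
      rw [← hc]; exact hg₀
    replace hqD : q ∈ ((PrimeSpectrum.basicOpen g₀ : TopologicalSpace.Opens (PrimeSpectrum A)) : Set (PrimeSpectrum A)) := hqD
    rw [← PrimeSpectrum.localization_away_comap_range (Localization.Away g₀) g₀] at hqD
    obtain ⟨y, hy⟩ := hqD
    refine ⟨y, ?_⟩
    show j (Spec.map (CommRingCat.ofHom (algebraMap A (Localization.Away g₀))) y) = x
    rw [← hq]
    exact congrArg (fun z => j z) hy
  · show W (f 0) = _
    rw [hf0]; exact hW a u hGa
  · show W (f (Fin.last m)) = _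
    rw [hfm]; exact hW b v hGb
  · obtain ⟨h, hh⟩ : g t ∣ g₀ := Finset.dvd_prod_of_mem _ (Finset.mem_univ t)
    have hp := (hgood' t h).1
    rw [← hh] at hp
    have : LocallyQuasiFinite (Spec.map (CommRingCat.ofHom ((algebraMap A (Localization.Away g₀)).comp
        (MvPolynomial.aeval (f t) : MvPolynomial ι k →ₐ[k] A).toRingHom))) :=
      (HasRingHomProperty.Spec_iff (P := @LocallyQuasiFinite)).2 hp
    rw [CommRingCat.ofHom_comp, Spec.map_comp] at this
    show LocallyQuasiFinite (e.inv ≫ _ ≫ _ ≫ _)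
    rw [← Category.assoc (Spec.map (CommRingCat.ofHom (algebraMap A _)))]
    infer_instance
  · obtain ⟨h, hh⟩ : g t ∣ g₀ := Finset.dvd_prod_of_mem _ (Finset.mem_univ t)
    have hp := (hgood' t h).2
    rw [← hh] at hp
    have : Flat (Spec.map (CommRingCat.ofHom ((algebraMap A (Localization.Away g₀)).comp
        (MvPolynomial.aeval (f t) : MvPolynomial ι k →ₐ[k] A).toRingHom))) :=
      (HasRingHomProperty.Spec_iff (P := @Flat)).2 hp
    rw [CommRingCat.ofHom_comp, Spec.map_comp] at this
    show Flat (e.inv ≫ _ ≫ _ ≫ _)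
    rw [← Category.assoc (Spec.map (CommRingCat.ofHom (algebraMap A _)))]
    infer_instance
  · show (e.inv ≫ _ ≫ G (f t)) ≫ _ = _
    rw [Category.assoc, Category.assoc, hGover, ← Category.assoc (Spec.map _) j s, ← Category.assoc e.inv,
      show e.inv ≫ Spec.map (CommRingCat.ofHom (algebraMap A (Localization.Away g₀))) ≫ j =
        l.opensRange.ι from Scheme.Hom.isoOpensRange_inv_comp l]
  · obtain ⟨i, hi⟩ := hstep t
    refine ⟨i, fun i' hi' => ?_⟩
    simp only [W, Scheme.Hom.comp_appTop, CommRingCat.comp_apply, hGcoord, hi i' hi']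

end Groth.Agent.S12114
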