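import Groth.Statements.S12116
import Groth.Agent.L27.FinBC.Main

set_option autoImplicit false
set_option linter.style.haveILetI false
set_option backward.isDefEq.respectTransparency.types false
universe u
open CategoryTheory CategoryTheory.Limits AlgebraicGeometry
open SGA4h

namespace Groth.Agent.S12116

/-- Let S be a locally Noetherian scheme, n invertible on S, f : X ⟶ S a quasi-compact quasi-separated
morphism which is locally acyclic (vanishing-cycle varieties have the prime-to-the-characteristic
cohomology of a point), s a point of S and R a strict henselisation of O_{S,s} with geometric point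
s̄ = Spec κ(R) ⟶ S. Assume (b): for every geometric point t of Spec R (a separably closed field Ω
under R), with S' = Spec of the integral closure of R in Ω (the normalisation of the closure of t)
and X' = X ×_S S', the restriction map H^q(X', ℤ/n) → H^q(X'_{s'}, ℤ/n) to the fibre over any point
s' of S' above the closed point of Spec R is bijective for every q — these restrictions are the
cospecialisation maps H^q(X_t, ℤ/n) → H^q(X_{s̄}, ℤ/n) read through the canonical identifications
H^q(X_t, ℤ/n) ≅ H^q(X', ℤ/n) and X'_{s'} → X_{s̄} a universal homeomorphism. Then for every q the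
base change map at s̄, (R^q f_* ℤ/n)_{s̄} → H^q(X_{s̄}, ℤ/n), written as the degree-q base change
morphism along s̄ : Spec κ(R) ⟶ S (a sheaf on a separably closed point is its global sections), is
an isomorphism. (The published statement takes the points t with algebraically closed residue
fields; allowing separably closed ones only strengthens hypothesis (b). The published chapter works
throughout with quasi-compact quasi-separated schemes; here only f is assumed quasi-compact and
quasi-separated, which is what the printed argument uses — the stalk of R^q f_* and the cohomology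
of the fibre must commute with filtered colimits of sheaves — and without it the conclusion fails
already in degree 0 for an infinite disjoint union X over a point.) -/
theorem result {X S : Scheme.{u}} [IsLocallyNoetherian S]
    (f : X ⟶ S) [QuasiCompact f] [QuasiSeparated f] (hf : EtRest.IsLocallyAcyclic f) (n : ℕ)
    (hn : IsUnit (n : Γ(S, ⊤)))
    (s : S) (R : Type u) [CommRing R] [IsLocalRing R] [Algebra (S.presheaf.stalk s) R]
    [IsLocalHom (algebraMap (S.presheaf.stalk s) R)] [Hensel.IsStrictHenselization (S.presheaf.stalk s) R]
    (hb : ∀ (Ω : Type u) [Field Ω] [IsSepClosed Ω] [Algebra R Ω]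
      (s' : ↥(Spec (CommRingCat.of ↥(integralClosure R Ω))))
      (_ : (Spec.map (CommRingCat.ofHom (algebraMap R ↥(integralClosure R Ω)))).base s' = IsLocalRing.closedPoint R)
      [PreservesFiniteLimits (EtCoh.pull
        (pullback.fst (pullback.snd f (Spec.map (CommRingCat.ofHom (algebraMap R ↥(integralClosure R Ω))) ≫ Hens2.specOf S s R)) ((Spec (CommRingCat.of ↥(integralClosure R Ω))).fromSpecResidueField s')))]
      (q : ℕ),
      Function.Bijective (EtCore.Hpull
        (pullback.fst (pullback.snd f (Spec.map (CommRingCat.ofHom (algebraMap R ↥(integralClosure R Ω))) ≫ Hens2.specOf S s R)) ((Spec (CommRingCat.of ↥(integralClosure R Ω))).fromSpecResidueField s'))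
        (EtCoh.const (pullback f (Spec.map (CommRingCat.ofHom (algebraMap R ↥(integralClosure R Ω))) ≫ Hens2.specOf S s R)) (ZMod n)) q))
    [PreservesFiniteLimits (EtCoh.pull (pullback.fst f (Hens2.geomPt S s R)))] (q : ℕ) :
    IsIso (EtBC.bcQ f (Hens2.geomPt S s R) (pullback.snd f (Hens2.geomPt S s R)) (pullback.fst f (Hens2.geomPt S s R))
      pullback.condition q (EtCoh.const X (ZMod n))) := by
  exact Groth.L27.FinBC.isIso_bcQ_geomPt f (EtCoh.const X (ZMod n)) s R (Groth.L27.FinBC.specHyp_of_bijective f (EtCoh.const X (ZMod n)) s R (fun Ω _ _ _ s' hs' _ q => Groth.L27.LimBC.bijective_Hpull_congr _ (EtCore.pullConst _ (ZMod n)).symm q (hb Ω s' hs' q))) _ _ (IsPullback.of_hasPullback _ _) q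

end Groth.Agent.S12116
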