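import Groth.Statements.S12117
import Groth.Agent.L27.FinBC.Main

set_option autoImplicit false
set_option linter.style.haveILetI false
set_option backward.isDefEq.respectTransparency.types false
universe u
open CategoryTheory CategoryTheory.Limits AlgebraicGeometry
open SGA4h

namespace Groth.Agent.S12117

/-- Let f : X ⟶ S be a morphism of quasi-compact quasi-separated schemes and F an abelian étale sheaf on
X. Assume: for every point s of S, every strict henselisation R of O_{S,s}, every separably closed
field Ω under R (a geometric point t of Spec R), with S' = Spec of the integral closure of R in Ω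
(the normalisation of the closure of t; a strictly local scheme whose closed point is radicial over
s) and X' = X ×_S S' with F' the inverse image of F, the restriction H^q(X', F') → H^q(X'_{s'},
F'|X'_{s'}) to the fibre over any point s' of S' above the closed point of Spec R is bijective for
every q (S' being strictly local, H^q(X', F') is the stalk of R^q f'_* F' at its closed point and
this restriction is the base change map of f' : X' ⟶ S' at that point). Then the formation of the
higher direct images of F commutes with every finite base change: for every finite g : S₁ ⟶ S and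
cartesian square X₁ = X ×_S S₁, the degree-q base change map g⁻¹R^q f_* F → R^q f₁_* g₁⁻¹F is an
isomorphism for every q. (When f is locally acyclic relative to F the restriction H^q(X', F') →
H^q(X_t, F|X_t) is bijective and the hypothesis says exactly that every cospecialisation map of F is
an isomorphism; local acyclicity itself plays no role in the implication and is not assumed.) -/
theorem result {X S : Scheme.{u}}
    [CompactSpace ↥X] [QuasiSeparatedSpace ↥X] [CompactSpace ↥S] [QuasiSeparatedSpace ↥S]
    (f : X ⟶ S) (F : EtCoh.Ab X)
    (hb : ∀ (s : S) (R : Type u) [CommRing R] [IsLocalRing R] [Algebra (S.presheaf.stalk s) R]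
      [IsLocalHom (algebraMap (S.presheaf.stalk s) R)] [Hensel.IsStrictHenselization (S.presheaf.stalk s) R]
      (Ω : Type u) [Field Ω] [IsSepClosed Ω] [Algebra R Ω]
      (s' : ↥(Spec (CommRingCat.of ↥(integralClosure R Ω))))
      (_ : (Spec.map (CommRingCat.ofHom (algebraMap R ↥(integralClosure R Ω)))).base s' = IsLocalRing.closedPoint R)
      [PreservesFiniteLimits (EtCoh.pull (pullback.fst (pullback.snd f (Spec.map (CommRingCat.ofHom (algebraMap R ↥(integralClosure R Ω))) ≫ Hens2.specOf S s R)) ((Spec (CommRingCat.of ↥(integralClosure R Ω))).fromSpecResidueField s')))] (q : ℕ),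
      Function.Bijective (EtCore.Hpull (pullback.fst (pullback.snd f (Spec.map (CommRingCat.ofHom (algebraMap R ↥(integralClosure R Ω))) ≫ Hens2.specOf S s R)) ((Spec (CommRingCat.of ↥(integralClosure R Ω))).fromSpecResidueField s'))
        ((EtCoh.pull (pullback.fst f (Spec.map (CommRingCat.ofHom (algebraMap R ↥(integralClosure R Ω))) ≫ Hens2.specOf S s R))).obj F) q))
    {S₁ X₁ : Scheme.{u}} (g : S₁ ⟶ S) [IsFinite g] (f₁ : X₁ ⟶ S₁) (g₁ : X₁ ⟶ X) (hsq : IsPullback g₁ f₁ f g)
    [PreservesFiniteLimits (EtCoh.pull g₁)] (q : ℕ) :
    IsIso (EtBC.bcQ f g f₁ g₁ hsq.w q F) := by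
  haveI : QuasiCompact f := quasiCompact_of_compactSpace f
  haveI : QuasiSeparated f := QuasiSeparated.of_comp f (terminal.from S)
  exact Groth.L27.FinBC.isIso_bcQ_integral f F g f₁ g₁ hsq (fun s R _ _ _ _ _ => Groth.L27.FinBC.specHyp_of_bijective f F s R (fun Ω _ _ _ s' hs' _ q => hb s R Ω s' hs' q)) q

end Groth.Agent.S12117
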