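import Groth.Statements.S12118
import Mathlib.Algebra.Module.Submodule.Pointwise
import Mathlib.RingTheory.Ideal.Operations
-- import your own Groth.Agent.* helpers here

set_option autoImplicit false
universe u v
open EGA41

namespace Groth.Agent.S12118

/-- Let A be a commutative ring, M an A-module, (M_k)_{k ≥ 0} a decreasing filtration of M by submodules
with M_0 = M and ⋂_k M_k = 0, and f an element of A which is a non-zero-divisor on every graded
piece M_k/M_{k+1} (equivalently on the associated graded module). Then (i) f is a non-zero-divisor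
on M, and (ii) M_k ∩ fM = fM_k for every k ≥ 0. -/
theorem result {A : Type u} [CommRing A] {M : Type v} [AddCommGroup M] [Module A M]
    (F : ℕ → Submodule A M) (hanti : Antitone F) (h0 : F 0 = ⊤) (hsep : ⨅ k, F k = ⊥) (f : A)
    (hreg : ∀ k : ℕ, IsSMulRegular (↥(F k) ⧸ Submodule.comap (F k).subtype (F (k + 1))) f) :
    IsSMulRegular M f ∧ ∀ k : ℕ, F k ⊓ (Ideal.span {f} • (⊤ : Submodule A M)) = Ideal.span {f} • F k := by
  have step : ∀ k, ∀ m ∈ F k, f • m ∈ F (k + 1) → m ∈ F (k + 1) := by
    intro k m hm hfm
    have : f • (Submodule.Quotient.mk (⟨m, hm⟩ : ↥(F k)) : ↥(F k) ⧸ Submodule.comap (F k).subtype (F (k + 1))) = f • 0 := by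
      rw [smul_zero, ← Submodule.Quotient.mk_smul, Submodule.Quotient.mk_eq_zero]
      exact hfm
    exact (Submodule.Quotient.mk_eq_zero (Submodule.comap (F k).subtype (F (k + 1)))).1 (hreg k this)
  have key : ∀ k m, f • m ∈ F k → m ∈ F k := by
    intro k
    induction k with
    | zero => intro m _; rw [h0]; trivial
    | succ k ih => intro m h; exact step k m (ih m (hanti (Nat.le_succ k) h)) h
  refine ⟨IsSMulRegular.of_right_eq_zero_of_smul fun m hm => ?_, fun k => le_antisymm ?_ ?_⟩
  · have : m ∈ ⨅ k, F k := Submodule.mem_iInf _ |>.2 fun k => key k m (by rw [hm]; exact Submodule.zero_mem _)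
    rwa [hsep, Submodule.mem_bot] at this
  · rintro x ⟨hxk, hxf⟩
    rw [SetLike.mem_coe, Submodule.ideal_span_singleton_smul] at hxf
    obtain ⟨m, -, rfl⟩ := hxf
    exact Submodule.smul_mem_smul (Ideal.mem_span_singleton_self f) (key k m hxk)
  · refine le_inf (Submodule.smul_le_right) (Submodule.smul_mono le_rfl le_top)

end Groth.Agent.S12118
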