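import Groth.Statements.S12119
import Groth.Agent.L01.FlatCx.Len
import Groth.Agent.L01.FlatCx.Local

set_option autoImplicit false
universe u
open FlatCx

namespace Groth.Agent.S12119

open CategoryTheory CategoryTheory.Limits
open scoped TensorProduct
open Groth.L01.FlatCx

open IsLocalRing in
lemma exact_aux {A : Type u} [CommRing A] [IsArtinianRing A] [IsLocalRing A]
    (P : ChainComplex (ModuleCat.{u} A) ℤ) (hP : ∀ i, Module.Flat A (P.X i)) (p : ℤ)
    (hd : Module.length A ((CohIII.TFun P p).obj (ModuleCat.of A (ResidueField A))) ≠ ⊤)
    (hj : Module.length A ((CohIII.TFun P p).obj (ModuleCat.of A A)) =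
      Module.length A ((CohIII.TFun P p).obj (ModuleCat.of A (ResidueField A))) * Module.length A A) :
    Function.Surjective ((CohIII.TFun P p).map
        (ModuleCat.ofHom (Algebra.linearMap A (ResidueField A)))).hom ∧
      Module.Flat A ((CohIII.TFun P p).obj (ModuleCat.of A A) : Type u) ∧
      (CohIII.TFun P p).PreservesEpimorphisms ∧ (CohIII.TFun P p).PreservesMonomorphisms := by
  have hex := fun I => Len.exact_of_length_eq (CohIII.TFun P p) (halfExact_TFun P p hP) hd hj I
  have hs : Function.Surjective ((CohIII.TFun P p).map
      (ModuleCat.ofHom (Algebra.linearMap A (ResidueField A)))).hom := (hex (maximalIdeal A)).2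
  have := preservesEpi_of_surjective (surjective_of_artinian (gen_TFun P p) (halfExact_TFun P p hP) hs)
  have hflat : Module.Flat A ((CohIII.TFun P p).obj (ModuleCat.of A A) : Type u) := by
    refine Module.Flat.iff_lTensor_injective.mpr fun I _ => ?_
    intro a b hab
    refine (bijective_of_preservesEpi P p hP (ModuleCat.of A I)).1 ((hex I).1 ?_)
    exact (tMap_natural _ (ModuleCat.ofHom I.subtype) a).trans
      ((congrArg (tMap (CohIII.TFun P p) (ModuleCat.of A A)) hab).trans
        (tMap_natural _ (ModuleCat.ofHom I.subtype) b).symm)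
  exact ⟨hs, hflat, this, (preservesMono_iff_flat_obj P p hP).mpr hflat⟩


/-- Let A be a commutative Artinian local ring with residue field k, P a chain complex of flat A-modules
(terms not necessarily finitely generated), T_i(M) = H_i(P ⊗_A M), and suppose T_p(k) has finite
length d. If length T_p(A) = d · length A (lengths in ℕ∞), then T_p(A) → T_p(k), induced by the
projection A → k, is surjective and T_p(A) is a flat A-module. -/
theorem result {A : Type u} [CommRing A] [IsArtinianRing A]
    [IsLocalRing A] (P : ChainComplex (ModuleCat.{u} A) ℤ) (hP : ∀ i, Module.Flat A (P.X i)) (p : ℤ)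
    (hd : Module.length A (CohIII.T P p (ModuleCat.of A (IsLocalRing.ResidueField A))) ≠ ⊤)
    (hj : Module.length A (CohIII.T P p (ModuleCat.of A A)) =
      Module.length A (CohIII.T P p (ModuleCat.of A (IsLocalRing.ResidueField A))) * Module.length A A) :
    Function.Surjective ((CohIII.TFun P p).map
        (ModuleCat.ofHom (Algebra.linearMap A (IsLocalRing.ResidueField A)))).hom ∧
      Module.Flat A (CohIII.T P p (ModuleCat.of A A)) := by
  obtain ⟨h1, h2, -, -⟩ := exact_aux P hP p hd hj
  exact ⟨h1, h2⟩

end Groth.Agent.S12119
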