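import Groth.Statements.S1212
import Groth.Agent.L20.FiberModule
import Groth.Agent.L20.AssocSup

set_option autoImplicit false
universe u
open FlatMor

namespace Groth.Agent.S1212

open TensorProduct IsLocalRing in
/-- Let R be a local ring, S an R-algebra and N an S-module which is projective as an R-module, such
that the closed fibre ring of S is Noetherian and the closed fibre module of N is finite over it.
Then every prime q of S, over p in R, which is an associated prime (the annihilator of an element)
of the S-module N ⊗_R κ(p) satisfies q + 𝔪_R S ≠ S. -/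
theorem result {R S : Type u} [CommRing R] [IsLocalRing R] [CommRing S] [Algebra R S]
    (N : Type u) [AddCommGroup N] [Module S N] [Module R N] [IsScalarTower R S N] [Module.Projective R N]
    [IsNoetherianRing ((maximalIdeal R).Fiber S)]
    [Module.Finite ((maximalIdeal R).Fiber S) (FlatCA.fiberMod (maximalIdeal R) S N)]
    (p : Ideal R) [p.IsPrime] (q : Ideal S) [q.IsPrime] [q.LiesOver p]
    (hq : q ∈ FlatCA.ass S (N ⊗[R] p.ResidueField)) :
    q ⊔ (maximalIdeal R).map (algebraMap R S) ≠ ⊤ := by
  intro htop
  obtain ⟨f, hf, hfm⟩ := Groth.L20.exists_mem_of_not_ne_top (not_not.mpr htop)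
  refine Groth.L20.false_of_mem_ass hq hf fun z hz => ?_
  apply Groth.L20.rTensor_injective_of_sub_smul_mem (maximalIdeal R)
    ((LinearMap.lsmul S N f).restrictScalars R) 1
    (fun h => (maximalIdeal.isMaximal R).ne_top ((Ideal.eq_top_iff_one _).mpr h))
    (fun x => by
      simpa using Groth.L20.smul_sub_mem_of_sub_mem (maximalIdeal R) f 1 (by rwa [map_one]) x)
    (fun a ha x hx => ?_)
  · rw [map_zero, ← Groth.L20.smul_eq_rTensor, hz]
  · have hu : IsUnit a := IsLocalRing.notMem_maximalIdeal.mp ha
    exact hu.smul_eq_zero.mp hx

end Groth.Agent.S1212
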