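import Groth.Statements.S12120
import Groth.Agent.L01.FlatCx.Rank

set_option autoImplicit false
universe u
open FlatCx

namespace Groth.Agent.S12120

open CategoryTheory CategoryTheory.Limits
open scoped TensorProduct
open Groth.L01.FlatCx

lemma hi' (j : ℤ) : (ComplexShape.down ℤ).prev j = j + 1 := (ComplexShape.down ℤ).prev_eq' rfl
lemma hk' (j : ℤ) : (ComplexShape.down ℤ).next j = j - 1 := (ComplexShape.down ℤ).next_eq' (by simp)
lemma hkj' (j : ℤ) : (ComplexShape.down ℤ).prev (j - 1) = j := (ComplexShape.down ℤ).prev_eq' (by simp)


/-- Let P be a chain complex of flat A-modules over a commutative ring A, B any commutative A-algebra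
and P_B the base-changed complex. If the functor M ↦ H_p(P ⊗_A M) on A-modules takes surjections to
surjections (resp. injections to injections), then so does N ↦ H_p(P_B ⊗_B N) on B-modules. (The
converse for B faithfully flat over A is a separate statement.) -/
theorem result {A : Type u} [CommRing A]
    (P : ChainComplex (ModuleCat.{u} A) ℤ) (hP : ∀ i, Module.Flat A (P.X i)) (B : Type u) [CommRing B]
    [Algebra A B] (p : ℤ) :
    ((CohIII.TFun P p).PreservesEpimorphisms →
        (CohIII.TFun (CohIII.bcCx (algebraMap A B) P) p).PreservesEpimorphisms) ∧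
      ((CohIII.TFun P p).PreservesMonomorphisms →
        (CohIII.TFun (CohIII.bcCx (algebraMap A B) P) p).PreservesMonomorphisms) := by
  have hB : ∀ i, Module.Flat B ((bc B P).X i) := flat_bc B P hP
  have key : ∀ i j : ℤ, Module.Flat A (Coker P i j) → Module.Flat B (Coker (bc B P) i j) := by
    intro i j _
    obtain ⟨e⟩ := nonempty_coker_bc B P i j
    exact Module.Flat.of_linearEquiv e
  rw [preservesEpi_iff P (hk' p) (hkj' p) hP, preservesEpi_iff (bc B P) (hk' p) (hkj' p) hB,
    preservesMono_iff P (hi' p) hP, preservesMono_iff (bc B P) (hi' p) hB]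
  exact ⟨key _ _, key _ _⟩

end Groth.Agent.S12120
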