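import Groth.Statements.S12135
import Groth.Agent.L06.ProCons

set_option autoImplicit false
set_option linter.style.haveILetI false
universe u
open EGA41

namespace Groth.Agent.S12135

open CategoryTheory AlgebraicGeometry Topology TopologicalSpace Groth.L19.Limit Groth.L06.ProCons Groth.L06.Spectral

theorem cc_iff {X : Scheme.{u}} [QuasiSeparatedSpace X] {C : Set X} :
    CC C ↔ IsClosed[constructibleTopology X] C := by
  constructor
  · intro h
    refine (@isOpen_compl_iff _ _ (constructibleTopology X)).mp
      ((@isOpen_iff_forall_mem_open _ (constructibleTopology X) _).mpr fun x hx => ?_)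
    obtain ⟨_, ⟨(U : X.Opens), hU, rfl⟩, hxU, -⟩ :=
      X.isBasis_affineOpens.exists_subset_of_mem_open (Set.mem_univ x) isOpen_univ
    haveI := spectralSpace_opens hU
    obtain ⟨T, hT, hxT, hTC⟩ := exists_isConstructible_subset
      (s := (U.ι ⁻¹' Cᶜ : Set (U : Scheme.{u})))
      (by rw [Set.preimage_compl]; exact @IsClosed.isOpen_compl _ (constructibleTopology (U : Scheme.{u})) _ (h U hU))
      (x := (⟨x, hxU⟩ : U)) hx
    refine ⟨U.ι '' T, Set.image_subset_iff.mpr hTC, ?_, ⟨_, hxT, rfl⟩⟩
    have hT' : IsConstructible (U.ι '' T) := hT.image_of_isOpenEmbedding U.ι.isOpenEmbedding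
      (by rw [Scheme.Opens.range_ι]; exact hU.isCompact.isRetrocompact U.2)
    obtain ⟨S, -, hS', hTS⟩ := Groth.L06.Constr.exists_finite_sdiff hT'
    rw [hTS]
    refine @isOpen_biUnion _ _ (constructibleTopology X) _ _ fun p hp => ?_
    have e : p.1 \ p.2 = (p.1 ∩ U) \ (p.2 ∩ U) := by
      ext y
      have : y ∈ p.1 \ p.2 → y ∈ U := fun hy => by
        have : y ∈ U.ι '' T := hTS ▸ Set.mem_biUnion hp hy
        obtain ⟨w, -, rfl⟩ := this
        exact w.2
      simp only [Set.mem_sdiff, Set.mem_inter_iff]
      tauto
    rw [e]
    refine @IsOpen.inter _ (constructibleTopology X) _ _ ?_ ?_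
    · exact ((hS' p hp).1.2 hU.isCompact U.2).isOpen_constructibleTopology_of_isOpen ((hS' p hp).1.1.inter U.2)
    · exact @IsClosed.isOpen_compl _ (constructibleTopology X) _
        (isClopen_cons ((hS' p hp).2.1.inter U.2) ((hS' p hp).2.2 hU.isCompact U.2)).1
  · intro h U hU
    haveI := spectralSpace_opens hU
    refine @IsClosed.preimage _ _ (constructibleTopology (U : Scheme.{u})) (constructibleTopology X) _ ?_ _ h
    apply continuous_generateFrom_iff.mpr
    rintro s (⟨h1, h2⟩ | ⟨h1, h2⟩)
    · refine IsCompact.isOpen_constructibleTopology_of_isOpen ?_ (h1.preimage U.ι.continuous)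
      rw [U.ι.isOpenEmbedding.isInducing.isCompact_iff, Set.image_preimage_eq_inter_range, Scheme.Opens.range_ι]
      exact h2.inter_of_isOpen hU.isCompact h1 U.2
    · refine IsCompact.isOpen_constructibleTopology_of_isClosed ?_ (h1.preimage U.ι.continuous)
      rw [← Set.preimage_compl, U.ι.isOpenEmbedding.isInducing.isCompact_iff,
        Set.image_preimage_eq_inter_range, Scheme.Opens.range_ι]
      exact h2.inter_of_isOpen hU.isCompact h1.isOpen_compl U.2

theorem isCompact_cons_affine {X : Scheme.{u}} [QuasiSeparatedSpace X] {U : X.Opens} (hU : IsAffineOpen U) :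
    @IsCompact X (constructibleTopology X) U := by
  haveI := spectralSpace_opens hU
  have hc : Continuous[constructibleTopology (U : Scheme.{u}), constructibleTopology X] U.ι :=
    (@continuous_iff_isClosed _ _ (constructibleTopology (U : Scheme.{u})) (constructibleTopology X) _).mpr
      fun C hC => (cc_iff.mpr hC) U hU
  have := @IsCompact.image _ _ (constructibleTopology (U : Scheme.{u})) (constructibleTopology X)
    Set.univ U.ι (@CompactSpace.isCompact_univ _ (constructibleTopology (U : Scheme.{u})) compactSpace_cons) hc
  rwa [Set.image_univ, Scheme.Opens.range_ι] at this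

open AlgebraicGeometry Topology in
/-- Let f : X → Y be a morphism of schemes with X and Y quasi-separated, and let X^cons, Y^cons denote
the underlying sets with the constructible topology (generated by the quasi-compact open subsets and
their complements; for quasi-separated schemes the open sets are exactly the ind-constructible
subsets). Then f is quasi-compact if and only if the map X^cons → Y^cons underlying f is proper
(continuous and universally closed). (The published statement is for arbitrary schemes with the
ind-constructible topology; this row covers the quasi-separated case, where that topology is the one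
used here.) -/
theorem result {X Y : Scheme.{u}} [QuasiSeparatedSpace X]
    [QuasiSeparatedSpace Y] (f : X ⟶ Y) :
    QuasiCompact f ↔ @IsProperMap X Y (constructibleTopology X) (constructibleTopology Y) f := by

  have hle : ∀ Z : Scheme.{u}, constructibleTopology Z ≤ (inferInstance : TopologicalSpace Z) :=
    fun Z => cons_le
  constructor
  · intro hf
    haveI := hf
    have hcont : Continuous[constructibleTopology X, constructibleTopology Y] f :=
      (@continuous_iff_isClosed _ _ (constructibleTopology X) (constructibleTopology Y) _).mpr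
        fun C hC => cc_iff.mp ((cc_iff.mpr hC).preimage f)
    refine (@isProperMap_iff_isClosedMap_and_compact_fibers X Y (constructibleTopology X)
      (constructibleTopology Y) _).mpr ⟨hcont, fun C hC => cc_iff.mp (cc_image f (cc_iff.mpr hC)), fun y => ?_⟩
    obtain ⟨_, ⟨(V : Y.Opens), hV, rfl⟩, hyV, -⟩ :=
      Y.isBasis_affineOpens.exists_subset_of_mem_open (Set.mem_univ y) isOpen_univ
    have hW : ∀ x : X, ∃ W : X.Opens, IsAffineOpen W ∧ x ∈ W := fun x => by
      obtain ⟨_, ⟨(W : X.Opens), hW, rfl⟩, hxW, -⟩ :=
        X.isBasis_affineOpens.exists_subset_of_mem_open (Set.mem_univ x) isOpen_univ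
      exact ⟨W, hW, hxW⟩
    choose W hW hxW using hW
    obtain ⟨t, ht⟩ := (f.isCompact_preimage hV.isCompact).elim_finite_subcover
      (fun x : X => (W x : Set X)) (fun x => (W x).2) fun x _ => Set.mem_iUnion.mpr ⟨x, hxW x⟩
    refine @IsCompact.of_isClosed_subset X (constructibleTopology X) _ _
      (@Finset.isCompact_biUnion X _ (constructibleTopology X) t _ fun x _ => isCompact_cons_affine (hW x))
      ?_ fun x hx => ht ?_
    · refine @IsClosed.preimage _ _ (constructibleTopology X) (constructibleTopology Y) _ hcont _ (cc_iff.mp ?_)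
      intro U hU
      haveI := spectralSpace_opens hU
      by_cases hyU : y ∈ U
      · rw [show (U.ι ⁻¹' {y} : Set (U : Scheme.{u})) = {⟨y, hyU⟩} from
          Set.ext fun w => ⟨fun h => U.ι.isOpenEmbedding.injective h, fun h => h ▸ rfl⟩]
        exact isClosed_cons_singleton _
      · rw [show (U.ι ⁻¹' {y} : Set (U : Scheme.{u})) = ∅ from
          Set.eq_empty_of_forall_notMem fun w (h : w.1 = y) => hyU (h ▸ w.2)]
        exact @isClosed_empty _ (constructibleTopology (U : Scheme.{u}))
    · show f x ∈ V
      rw [show f x = y from hx]; exact hyV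
  · intro hp
    refine ⟨fun V hVo hVc => isCompact_of_le (hle X) ?_⟩
    refine @IsProperMap.isCompact_preimage X Y (constructibleTopology X) (constructibleTopology Y) f hp _ ?_
    have hW : ∀ x : Y, ∃ W : Y.Opens, IsAffineOpen W ∧ x ∈ W := fun x => by
      obtain ⟨_, ⟨(W : Y.Opens), hW, rfl⟩, hxW, -⟩ :=
        Y.isBasis_affineOpens.exists_subset_of_mem_open (Set.mem_univ x) isOpen_univ
      exact ⟨W, hW, hxW⟩
    choose W hW hxW using hW
    obtain ⟨t, ht⟩ := hVc.elim_finite_subcover
      (fun x : Y => (W x : Set Y)) (fun x => (W x).2) fun x _ => Set.mem_iUnion.mpr ⟨x, hxW x⟩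
    exact @IsCompact.of_isClosed_subset Y (constructibleTopology Y) _ _
      (@Finset.isCompact_biUnion Y _ (constructibleTopology Y) t _ fun x _ => isCompact_cons_affine (hW x))
      (isClopen_cons hVo hVc).1 ht

end Groth.Agent.S12135
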