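import Groth.Statements.S12123
import Mathlib.AlgebraicGeometry.Properties
import Mathlib.Topology.Connected.Separation
import Mathlib.Topology.Separation.Hausdorff
import Mathlib.Topology.Compactness.LocallyCompact
-- import your own Groth.Agent.* helpers here

set_option autoImplicit false
universe u
open EGA41 TopologicalSpace

namespace Groth.Agent.S12123

open AlgebraicGeometry Topology in
/-- Let X be a quasi-separated scheme and X^cons its underlying set with the constructible topology,
generated by the quasi-compact open subsets and their complements (for X quasi-separated this is the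
topology whose open sets are the ind-constructible subsets). Then X^cons is a Hausdorff, locally
compact, totally disconnected space. (The published statement also asserts that X^cons is Hausdorff
only if X is quasi-separated; for the topology used here that converse fails when X is not
quasi-separated, where the two constructible topologies differ, so it is not part of this row.) -/
theorem result (X : Scheme.{u}) [QuasiSeparatedSpace X] :
    T2Space (WithConstructibleTopology X) ∧ LocallyCompactSpace (WithConstructibleTopology X) ∧
      TotallyDisconnectedSpace (WithConstructibleTopology X) := by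
  have : TotallySeparatedSpace (WithConstructibleTopology X) := by
    refine totallySeparatedSpace_iff_exists_isClopen.2 fun a b hab => ?_
    set x : X := WithTopology.ofTopology a with hx
    set y : X := WithTopology.ofTopology b with hy
    have hxy : x ≠ y := fun h => hab (congrArg (WithTopology.toTopology _) h)
    obtain ⟨U, hU, hxor⟩ := exists_isOpen_xor_mem hxy
    have key : ∀ z ∈ U, ∃ V : Set (WithConstructibleTopology X), IsClopen V ∧
        (WithTopology.toTopology _ z) ∈ V ∧ ∀ w, w ∈ V → WithTopology.ofTopology w ∈ U := by
      intro z hz
      obtain ⟨_, ⟨(W : X.Opens), hW, rfl⟩, hzW, hWU⟩ := X.isBasis_affineOpens.exists_subset_of_mem_open hz hU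
      refine ⟨WithTopology.ofTopology ⁻¹' (W : Set X), ⟨?_, ?_⟩, hzW, fun w hw => hWU hw⟩
      · rw [WithConstructibleTopology.isClosed_iff, ← @isOpen_compl_iff X _ (constructibleTopology X)]
        exact IsCompact.isOpen_constructibleTopology_of_isClosed (s := (W : Set X)ᶜ) (by rw [compl_compl]; exact hW.isCompact)
          W.2.isClosed_compl
      · rw [WithConstructibleTopology.isOpen_iff]
        exact IsCompact.isOpen_constructibleTopology_of_isOpen (s := (W : Set X)) hW.isCompact W.2
    rcases hxor with ⟨hxU, hyU⟩ | ⟨hyU, hxU⟩
    · obtain ⟨V, hV, hzV, hVU⟩ := key x hxU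
      exact ⟨V, hV, hzV, fun h => hyU (hVU b h)⟩
    · obtain ⟨V, hV, hzV, hVU⟩ := key y hyU
      exact ⟨Vᶜ, hV.compl, fun h => hxU (hVU a h), by simpa using hzV⟩
  have : WeaklyLocallyCompactSpace (WithConstructibleTopology X) := by
    refine ⟨fun a => ?_⟩
    set x : X := WithTopology.ofTopology a
    obtain ⟨_, ⟨(W : X.Opens), hW, rfl⟩, hxW, -⟩ := X.isBasis_affineOpens.exists_subset_of_mem_open (Set.mem_univ x) isOpen_univ
    have : IsAffine W.toScheme := hW
    let g : WithConstructibleTopology W.toScheme → WithConstructibleTopology X :=
      fun w => WithTopology.toTopology _ (W.ι (WithTopology.ofTopology w))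
    have hg : Continuous g := by
      refine @Continuous.comp _ X _ _ (constructibleTopology X) _ (fun w => W.ι (WithTopology.ofTopology w))
        (WithTopology.toTopology _) (WithTopology.continuous_toTopology _) ?_
      refine continuous_generateFrom_iff.2 fun s hs => ?_
      rw [WithConstructibleTopology.isOpen_iff]
      have hcpt : ∀ t : Set X, IsOpen t → IsCompact t → IsCompact (W.ι ⁻¹' t) := by
        intro t ht htc
        rw [W.ι.isOpenEmbedding.isEmbedding.isCompact_iff, Set.image_preimage_eq_inter_range, Scheme.Opens.range_ι]
        exact QuasiSeparatedSpace.inter_isCompact t W ht htc W.2 hW.isCompact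
      rcases hs with ⟨ho, hc⟩ | ⟨hcl, hc⟩
      · exact IsCompact.isOpen_constructibleTopology_of_isOpen (hcpt s ho hc) (ho.preimage W.ι.continuous)
      · refine IsCompact.isOpen_constructibleTopology_of_isClosed ?_ (hcl.preimage W.ι.continuous)
        exact hcpt sᶜ hcl.isOpen_compl hc
    refine ⟨Set.range g, isCompact_range hg, Filter.mem_of_superset (IsOpen.mem_nhds
      (s := WithTopology.ofTopology ⁻¹' (W : Set X)) ?_ hxW) fun w hw => ⟨WithTopology.toTopology _ ⟨_, hw⟩, rfl⟩⟩
    rw [WithConstructibleTopology.isOpen_iff]
    exact IsCompact.isOpen_constructibleTopology_of_isOpen (s := (W : Set X)) hW.isCompact W.2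
  exact ⟨inferInstance, inferInstance, inferInstance⟩

end Groth.Agent.S12123
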