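import Groth.Statements.S12125
import Groth.Agent.L01.NagataN2

set_option autoImplicit false
universe u
open EGA4

namespace Groth.Agent.S12125

theorem isFractionRing_adjoin {R : Type u} [CommRing R] [IsDomain R] {L : Type u} [Field L] [Algebra R L]
    [Algebra (FractionRing R) L] [IsScalarTower R (FractionRing R) L] {ι : Type u} [Fintype ι]
    (b : Module.Basis ι (FractionRing R) L) : IsFractionRing (Algebra.adjoin R (Set.range b)) L := by
  classical
  let B := Algebra.adjoin R (Set.range b)
  haveI : FaithfulSMul B L := (faithfulSMul_iff_algebraMap_injective _ _).mpr Subtype.val_injective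
  refine IsFractionRing.of_field B L fun y => ?_
  obtain ⟨⟨d, hd⟩, hdz⟩ := IsLocalization.exist_integer_multiples_of_finite (nonZeroDivisors R) (fun i => b.repr y i)
  choose r hr using hdz
  refine ⟨∑ i, r i • ⟨b i, Algebra.subset_adjoin ⟨i, rfl⟩⟩, algebraMap R B d, ?_⟩
  have hd0 : algebraMap R L d ≠ 0 := by
    rw [IsScalarTower.algebraMap_apply R (FractionRing R) L]
    exact (map_ne_zero_iff _ (RingHom.injective _)).mpr
      ((map_ne_zero_iff _ (IsFractionRing.injective R _)).mpr (nonZeroDivisors.ne_zero hd))
  rw [← IsScalarTower.algebraMap_apply R B L, eq_div_iff hd0, map_sum]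
  conv_lhs => rw [← b.sum_repr y, Finset.sum_mul]
  refine Finset.sum_congr rfl fun i _ => ?_
  rw [Algebra.smul_def, Algebra.smul_def, map_mul, ← IsScalarTower.algebraMap_apply R B L,
    IsScalarTower.algebraMap_apply R (FractionRing R) L (r i), hr i]
  simp only [Algebra.smul_def, map_mul, ← IsScalarTower.algebraMap_apply]
  change _ = _ * b i
  ring


/-- Let A be a Noetherian ring. Then every quotient of A by a prime ideal is N-2 (i.e. A is a Nagata
ring) if and only if (1) for every maximal ideal m of A every quotient of A_m by a prime ideal is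
N-2, and (2) for every prime p of A, writing B = A/p with fraction field K, for every finite purely
inseparable field extension K' of K and every sub-B-algebra B' of K' which is a finite B-module and
has K' as its fraction field, there is a nonzero element f of B' such that B'_f is an integrally
closed domain. -/
theorem result (A : Type u) [CommRing A] [IsNoetherianRing A] :
    CAlg.IsNagata A ↔
      ((∀ (m : Ideal A) [m.IsMaximal] (P : Ideal (Localization.AtPrime m)) [P.IsPrime],
          CAlg.IsN2 (Localization.AtPrime m ⧸ P)) ∧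
        ∀ (p : Ideal A) [p.IsPrime] (K' : Type u) [Field K'] [Algebra (A ⧸ p) K']
          [Algebra (FractionRing (A ⧸ p)) K'] [IsScalarTower (A ⧸ p) (FractionRing (A ⧸ p)) K']
          [FiniteDimensional (FractionRing (A ⧸ p)) K'] [IsPurelyInseparable (FractionRing (A ⧸ p)) K']
          (B' : Subalgebra (A ⧸ p) K'), Module.Finite (A ⧸ p) B' → IsFractionRing B' K' →
            ∃ f : B', f ≠ 0 ∧ IsIntegrallyClosed (Localization.Away f)) := by
  classical
  refine ⟨fun hA => ⟨fun m _ P _ => (Groth.L01.NagataAdjoin.isNagata_localization hA m.primeCompl _).2 P,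
    fun p _ K' _ _ _ _ _ _ B' hfin hfrac => ?_⟩, fun ⟨h1, h2⟩ => ⟨inferInstance, fun p _ => ?_⟩⟩
  · haveI := hfin
    haveI := hfrac
    letI : Algebra A B' := Algebra.compHom B' (Ideal.Quotient.mk p)
    haveI : IsScalarTower A (A ⧸ p) B' := IsScalarTower.of_algebraMap_eq fun _ => rfl
    haveI : Module.Finite A B' := Module.Finite.trans (A ⧸ p) B'
    have hN := Groth.L01.Nagata.isNagata_of_finite (S := B') hA
    exact Groth.L01.NagataCriteria.exists_normal_away_of_isN1 K'
      (Groth.L01.N2.isN1_of_isN2 _ (Groth.L01.Nagata.isN2_of_isNagata hN))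
  · refine Groth.L01.N2.isN2_of_purelyInseparable (A ⧸ p) fun K' _ _ _ _ hfd hpi => ?_
    haveI := hfd
    haveI := hpi
    obtain ⟨s, b, hb⟩ := FiniteDimensional.exists_is_basis_integral (A ⧸ p) (FractionRing (A ⧸ p)) K'
    let B' := Algebra.adjoin (A ⧸ p) (Set.range b)
    haveI hfin : Module.Finite (A ⧸ p) B' := Algebra.finite_adjoin_of_finite_of_isIntegral (Set.finite_range b)
      (by rintro _ ⟨i, rfl⟩; exact hb i)
    haveI : IsFractionRing B' K' := isFractionRing_adjoin b
    obtain ⟨f, hf, hn⟩ := h2 p K' B' hfin inferInstance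
    letI : Algebra A B' := Algebra.compHom B' (Ideal.Quotient.mk p)
    haveI : IsScalarTower A (A ⧸ p) B' := IsScalarTower.of_algebraMap_eq fun _ => rfl
    haveI : Module.Finite A B' := Module.Finite.trans (A ⧸ p) B'
    haveI : IsNoetherianRing B' := IsNoetherianRing.of_finite A B'
    have hN1 : CAlg.IsN1 B' := Groth.L01.NagataCriteria.isN1_of_local hf hn fun m _ => by
      obtain ⟨M, hM, hle⟩ := (m.comap (algebraMap A B')).exists_le_maximal (Ideal.comap_ne_top _ (Ideal.IsMaximal.ne_top ‹_›))
      haveI := hM
      exact Groth.L01.N2.isN1_of_isN2 _ (Groth.L01.Nagata.isN2_of_isNagata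
        (Groth.L01.NagataCriteria.isNagata_atPrime_of_finiteType M ⟨inferInstance, fun P _ => h1 M P⟩ m hle))
    haveI : Module.Finite B' (integralClosure B' K') := (Groth.L03.Japanese.isN1_iff K').mp hN1
    haveI : Module.Finite (A ⧸ p) (integralClosure B' K') := Module.Finite.trans B' _
    let e : integralClosure B' K' →ₗ[A ⧸ p] integralClosure (A ⧸ p) K' :=
      { toFun := fun z => ⟨z, isIntegral_trans (R := A ⧸ p) (A := B') z.1 z.2⟩
        map_add' := fun _ _ => rfl
        map_smul' := fun _ _ => rfl }
    exact Module.Finite.of_surjective e fun z => ⟨⟨z, z.2.tower_top⟩, rfl⟩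

end Groth.Agent.S12125
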