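import Groth.Statements.S12126
import Groth.Agent.L01.DimFormulaLocal

set_option autoImplicit false
universe u
open CAlg

namespace Groth.Agent.S12126

/-- Let A be a Noetherian local domain with maximal ideal m and residue field k, B a domain containing A
which is an A-algebra of finite type, q a prime ideal of B over m and k' the residue field of B_q.
If for every sub-A-algebra A' of finite type of the polynomial ring B[T] and every maximal ideal m'
of A' lying over m the local ring A'_{m'} is catenary, then ht(q) + trdeg_k k' = dim(A) + trdeg_A B,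
stated with heights and transcendence degrees as cardinals (the transcendence degree of B over A is
that of the fraction fields, and that of k' over k is that of B/q over A/m). -/
theorem result (R : Type u) [CommRing R] [IsDomain R]
    [IsNoetherianRing R] [IsLocalRing R] (S : Type u) [CommRing S] [IsDomain S] [Algebra R S]
    [FaithfulSMul R S] [Algebra.FiniteType R S] (q : Ideal S) [q.IsPrime]
    [q.LiesOver (IsLocalRing.maximalIdeal R)]
    (hcat : ∀ A' : Subalgebra R (Polynomial S), A'.FG →
      ∀ (m' : Ideal A') [m'.IsMaximal], m'.LiesOver (IsLocalRing.maximalIdeal R) →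
        CAlg.IsCatenary (Localization.AtPrime m')) :
    (q.height : Cardinal.{u}) + Algebra.trdeg (R ⧸ IsLocalRing.maximalIdeal R) (S ⧸ q) =
      ((IsLocalRing.maximalIdeal R).height : Cardinal.{u}) + Algebra.trdeg R S := by
  obtain ⟨s, hs⟩ := (Algebra.FiniteType.out : (⊤ : Subalgebra R S).FG)
  refine Groth.L01.DimFormulaLocal.dim_formula_local_aux (IsLocalRing.maximalIdeal R) s.card S
    (fun i => (s.equivFin.symm i : S)) ?_ ?_ q
  · rw [← hs]
    congr 1
    ext y
    exact ⟨fun ⟨i, hi⟩ => hi ▸ (s.equivFin.symm i).2, fun hy => ⟨s.equivFin ⟨y, hy⟩, by simp⟩⟩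
  intro T _ _ _ φ hφ Q P hQ hP hQP hmP
  haveI : IsNoetherianRing T := Algebra.FiniteType.isNoetherianRing R T
  haveI : IsDomain T := hφ.isDomain φ
  obtain ⟨M, hM, hPM⟩ := Ideal.exists_le_maximal P hP.ne_top
  let e : T ≃ₐ[R] φ.range := AlgEquiv.ofInjective φ hφ
  let M' : Ideal φ.range := M.comap (e.symm : φ.range ≃ₐ[R] T)
  haveI : M'.IsMaximal := Ideal.comap_isMaximal_of_surjective _ e.symm.surjective
  have hover : M'.LiesOver (IsLocalRing.maximalIdeal R) := ⟨by
    refine (IsLocalRing.maximalIdeal.isMaximal R).eq_of_le (Ideal.IsPrime.under _ M').ne_top fun a ha => ?_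
    show e.symm (algebraMap R φ.range a) ∈ M
    rw [AlgEquiv.commutes]
    exact hPM (hmP ha)⟩
  have hfg : φ.range.FG :=
    φ.range.fg_top.mp (Algebra.FiniteType.equiv ‹Algebra.FiniteType R T› e).out
  have hc := hcat φ.range hfg M' hover
  letI : Algebra T (Localization.AtPrime M') :=
    ((algebraMap φ.range (Localization.AtPrime M')).comp e.toRingEquiv.toRingHom).toAlgebra
  haveI : IsLocalization M.primeCompl (Localization.AtPrime M') := by
    have h := IsLocalization.isLocalization_of_base_ringEquiv M'.primeCompl (Localization.AtPrime M') e.toRingEquiv.symm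
    convert h using 1
    · ext x
      constructor
      · intro hx
        exact ⟨e x, fun h' => hx (by
          rw [← e.symm_apply_apply x]
          exact h'), e.symm_apply_apply x⟩
      · rintro ⟨y, hy, rfl⟩
        exact hy
    · rfl
  exact Groth.L01.DimFormulaLocal.height_map_mk_add_eq_local M (Localization.AtPrime M') hc hQP hPM


end Groth.Agent.S12126
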