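import Groth.Statements.S12127
import Groth.Agent.L07.QCons

set_option autoImplicit false
set_option linter.style.haveILetI false
universe u
open EGA43

namespace Groth.Agent.S12127

/-- Let f : X → Y be a quasi-homeomorphism, i.e. a continuous map such that U ↦ f⁻¹(U) is a bijection
from the open subsets of Y onto the open subsets of X. Call a subset quasi-constructible when it is
a finite union of locally closed subsets, and locally quasi-constructible when every point of the
space has an open neighbourhood V whose intersection with it is quasi-constructible in V. Then Z ↦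
f⁻¹(Z) induces a bijection from the quasi-constructible subsets of Y onto those of X, and from the
locally quasi-constructible subsets of Y onto those of X. -/
theorem result {X Y : Type u}
    [TopologicalSpace X] [TopologicalSpace Y] (f : X → Y) (hf : Continuous f)
    (hq : Function.Bijective (fun U : TopologicalSpace.Opens Y =>
      (⟨f ⁻¹' (U : Set Y), U.isOpen.preimage hf⟩ : TopologicalSpace.Opens X))) :
    Set.BijOn (fun Z : Set Y => f ⁻¹' Z)
        {Z : Set Y | ∃ T : Set (Set Y), T.Finite ∧ (∀ t ∈ T, IsLocallyClosed t) ∧ Z = ⋃₀ T}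
        {Z : Set X | ∃ T : Set (Set X), T.Finite ∧ (∀ t ∈ T, IsLocallyClosed t) ∧ Z = ⋃₀ T} ∧
      Set.BijOn (fun Z : Set Y => f ⁻¹' Z)
        {Z : Set Y | ∀ y : Y, ∃ V : Set Y, IsOpen V ∧ y ∈ V ∧
          ∃ T : Set (Set V), T.Finite ∧ (∀ t ∈ T, IsLocallyClosed t) ∧ (Subtype.val ⁻¹' Z : Set V) = ⋃₀ T}
        {Z : Set X | ∀ x : X, ∃ V : Set X, IsOpen V ∧ x ∈ V ∧
          ∃ T : Set (Set V), T.Finite ∧ (∀ t ∈ T, IsLocallyClosed t) ∧ (Subtype.val ⁻¹' Z : Set V) = ⋃₀ T} := by
  have hd := Groth.L07.QCons.dense_of_injective (f := f) fun U V hU hV h =>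
    congrArg (fun O : TopologicalSpace.Opens Y => (O : Set Y))
      (hq.1 (a₁ := ⟨U, hU⟩) (a₂ := ⟨V, hV⟩) (TopologicalSpace.Opens.ext h))
  have ho : ∀ O : Set X, IsOpen O → ∃ O' : Set Y, IsOpen O' ∧ f ⁻¹' O' = O := fun O hO =>
    let ⟨U, hU⟩ := hq.2 ⟨O, hO⟩; ⟨U, U.isOpen, congrArg (fun O : TopologicalSpace.Opens X => (O : Set X)) hU⟩
  refine ⟨⟨fun Z (hZ : Groth.L07.QCons.QC Z) => hZ.preimage hf,
      fun A (hA : Groth.L07.QCons.QC A) B (hB : Groth.L07.QCons.QC B) h =>
        Groth.L07.QCons.eq_of_preimage hd hA.lqc hB.lqc h,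
      fun A hA => Groth.L07.QCons.exists_qc ho hA⟩, ?_, ?_, ?_⟩
  · intro Z hZ
    exact Groth.L07.QCons.lqc_iff_sub.mp (Groth.L07.QCons.LQC.preimage hf (Groth.L07.QCons.lqc_iff_sub.mpr hZ))
  · intro A hA B hB h
    exact Groth.L07.QCons.eq_of_preimage hd (Groth.L07.QCons.lqc_iff_sub.mpr hA) (Groth.L07.QCons.lqc_iff_sub.mpr hB) h
  · intro A hA
    obtain ⟨A', h1, h2⟩ := Groth.L07.QCons.exists_lqc hd ho (Groth.L07.QCons.lqc_iff_sub.mpr hA)
    exact ⟨A', Groth.L07.QCons.lqc_iff_sub.mp h1, h2⟩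

end Groth.Agent.S12127
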