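import Groth.Agent.L18.CurveDimension
import Groth.Statements.S12129
-- import your own Groth.Agent.* helpers here

set_option autoImplicit false
universe u
open EGA2

namespace Groth.Agent.S12129

open AlgebraicGeometry CategoryTheory in
/-- Let X be a scheme of finite type over a field k. Then the local ring of X at every closed point has
dimension one if and only if the irreducible closed subsets of X other than its irreducible
components are exactly the (singletons of) closed points of X — that is, every irreducible closed
subset which is not an irreducible component is a closed point, and no closed point is by itself an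
irreducible component. -/
theorem result (k : Type u) [Field k] (X : Scheme.{u})
    [X.Over (Spec (CommRingCat.of k))] [LocallyOfFiniteType (X ↘ (Spec (CommRingCat.of k)))]
    [QuasiCompact (X ↘ (Spec (CommRingCat.of k)))] :
    (∀ x : X, IsClosed ({x} : Set X) → ringKrullDim (X.presheaf.stalk x) = 1) ↔
      ((∀ F : Set X, IsClosed F → IsIrreducible F → F ∉ irreducibleComponents (X : Type u) →
          ∃ x : X, IsClosed ({x} : Set X) ∧ F = {x}) ∧
        ∀ x : X, IsClosed ({x} : Set X) → ({x} : Set X) ∉ irreducibleComponents (X : Type u)) := by
  haveI : CompactSpace X := QuasiCompact.compactSpace_of_compactSpace (X ↘ (Spec (CommRingCat.of k)))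
  exact Groth.L18.CurveDim.forall_dim_eq_one_iff

end Groth.Agent.S12129
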