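import Groth.Statements.S1213
import Groth.Agent.L20.FiberModule
import Groth.Agent.L20.AssocSup

set_option autoImplicit false
universe u
open scoped Classical
open FlatMor

namespace Groth.Agent.S1213

open TensorProduct IsLocalRing in
/-- Let R be a local ring, S an R-algebra and N an S-module which, as an R-module, is an internal direct
sum of finite R-submodules. Then for every R-module M and every prime q of S which is the
annihilator of an element of the S-module N ⊗_R M we have q + 𝔪_R S ≠ S. -/
theorem result {R S : Type u} [CommRing R] [IsLocalRing R] [CommRing S] [Algebra R S]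
    (N : Type u) [AddCommGroup N] [Module S N] [Module R N] [IsScalarTower R S N]
    (ι : Type u) (F : ι → Submodule R N) (hF : DirectSum.IsInternal F) (hfin : ∀ i, Module.Finite R (F i))
    (M : Type u) [AddCommGroup M] [Module R M]
    (q : Ideal S) [q.IsPrime] (hq : q ∈ FlatCA.ass S (N ⊗[R] M)) :
    q ⊔ (maximalIdeal R).map (algebraMap R S) ≠ ⊤ := by
  classical
  intro htop
  obtain ⟨f, hf, hfm⟩ := Groth.L20.exists_mem_of_not_ne_top (not_not.mpr htop)
  refine Groth.L20.false_of_mem_ass hq hf fun z hz => ?_
  apply Groth.L20.rTensor_injective_of_isInternal F hF hfin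
    ((LinearMap.lsmul S N f).restrictScalars R)
    (fun x => by
      simpa using Groth.L20.smul_sub_mem_of_sub_mem (maximalIdeal R) f 1 (by rwa [map_one]) x)
  rw [map_zero, ← Groth.L20.smul_eq_rTensor, hz]

end Groth.Agent.S1213
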