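import Groth.Statements.S12130
import Groth.Agent.L05.CurveNorm.Scheme

set_option autoImplicit false
universe u
open Unram17

namespace Groth.Agent.S12130

open CategoryTheory AlgebraicGeometry in
/-- Let k be a field and X an integral k-scheme of finite type of dimension ≤ 1. Then there is a finite
purely inseparable field extension k' of k such that the reduced closed subscheme Z = (X_{k'})_red
of the base change X_{k'} is integral and the normalization of Z is smooth over k'. (The published
statement is for an arbitrary k-scheme of finite type of dimension ≤ 1, with the normalization of a
reduced scheme with finitely many irreducible components; this row states the case X integral, where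
Z is integral because X_{k'} → X is a homeomorphism. The instance hypotheses on the morphism from
the generic point inside the existential always hold and only serve to form the normalization.) -/
theorem result (k : Type u) [Field k]
    (X : Scheme.{u}) [X.Over (Spec (CommRingCat.of k))] [IsIntegral X]
    [LocallyOfFiniteType (X ↘ Spec (CommRingCat.of k))] [QuasiCompact (X ↘ Spec (CommRingCat.of k))]
    (hdim : topologicalKrullDim X ≤ 1) :
    ∃ (k' : Type u) (_ : Field k') (_ : Algebra k k'), FiniteDimensional k k' ∧ IsPurelyInseparable k k' ∧
      ∃ (_ : IsIntegral (Curv2.bc k X k').nilradical.subscheme)
        (_ : QuasiCompact ((Curv2.bc k X k').nilradical.subscheme.fromSpecStalk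
              (genericPoint (Curv2.bc k X k').nilradical.subscheme)))
        (_ : QuasiSeparated ((Curv2.bc k X k').nilradical.subscheme.fromSpecStalk
              (genericPoint (Curv2.bc k X k').nilradical.subscheme))),
        Smooth (Curv2.normalizationι (Curv2.bc k X k').nilradical.subscheme ≫
          (Curv2.bc k X k').nilradical.subschemeι ≫ Curv2.bcSnd k X k') := by
  exact Groth.L05.CurveNorm.exists_smooth_normalization k X hdim

end Groth.Agent.S12130
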