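import Groth.Statements.S12132
import Groth.Agent.L22.QuotLength
import Mathlib.RingTheory.KrullDimension.Regular
-- import your own Groth.Agent.* helpers here

set_option autoImplicit false
universe u
open AssSch

namespace Groth.Agent.S12132

/-- Let B be a Noetherian local ring (the local ring of X at the generic point z of an irreducible
component Z of the support of F/tF), t an element of its maximal ideal, and M a finite B-module (the
stalk F_z) such that the support of M has positive dimension (Z is not an irreducible component of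
Supp F) and M/tM has finite length (z is a maximal point of Supp(F/tF)). Then the length of M/tM is
at least the sum, over the primes p of B minimal over the annihilator of M (the generic points of
the irreducible components of Supp F through z), of the lengths of the B_p-modules M_p; and the two
are equal if and only if t is a non-zero-divisor on M and for every such p the image of t generates
the maximal ideal of B/p (so that B/p is a discrete valuation ring with uniformizer t). -/
theorem result {B : Type u} [CommRing B] [IsNoetherianRing B]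
    [IsLocalRing B] (t : B) (ht : t ∈ IsLocalRing.maximalIdeal B)
    (M : Type u) [AddCommGroup M] [Module B M] [Module.Finite B M]
    (hdim : 0 < Module.supportDim B M)
    (hfin : Module.length B (M ⧸ (Ideal.span {t} • (⊤ : Submodule B M))) ≠ ⊤) :
    (∑ᶠ p : (Module.annihilator B M).minimalPrimes,
        haveI : p.1.IsPrime := p.2.1.1
        Module.length (Localization.AtPrime p.1) (LocalizedModule p.1.primeCompl M)) ≤
      Module.length B (M ⧸ (Ideal.span {t} • (⊤ : Submodule B M))) ∧
    ((∑ᶠ p : (Module.annihilator B M).minimalPrimes,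
        haveI : p.1.IsPrime := p.2.1.1
        Module.length (Localization.AtPrime p.1) (LocalizedModule p.1.primeCompl M)) =
      Module.length B (M ⧸ (Ideal.span {t} • (⊤ : Submodule B M))) ↔
    IsSMulRegular M t ∧
      ∀ p : (Module.annihilator B M).minimalPrimes,
        Ideal.map (Ideal.Quotient.mk p.1) (IsLocalRing.maximalIdeal B) =
          Ideal.span {Ideal.Quotient.mk p.1 t}) := by
  classical
  set Q := M ⧸ (Ideal.span {t} • (⊤ : Submodule B M)) with hQ
  have hQm : ∀ p ∈ Module.support B Q, p.asIdeal = IsLocalRing.maximalIdeal B := by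
    intro p hp
    have hA : IsArtinian B Q := (isFiniteLength_iff_isNoetherian_isArtinian.mp (Module.length_ne_top_iff.mp hfin)).2
    obtain ⟨N, hN⟩ := monotone_stabilizes_iff_artinian.mpr hA
      ⟨fun n => OrderDual.toDual ((IsLocalRing.maximalIdeal B) ^ n • (⊤ : Submodule B Q)), fun a b hab =>
        Submodule.smul_mono_left (Ideal.pow_le_pow_right hab)⟩
    have h1 : IsLocalRing.maximalIdeal B ^ N • (⊤ : Submodule B Q) ≤
        IsLocalRing.maximalIdeal B • (IsLocalRing.maximalIdeal B ^ N • (⊤ : Submodule B Q)) := by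
      rw [← Submodule.smul_assoc, smul_eq_mul, ← pow_succ']
      exact (congrArg OrderDual.ofDual (hN (N + 1) (Nat.le_succ N))).le
    have h2 := Submodule.eq_bot_of_le_smul_of_le_jacobson_bot _ _ (IsNoetherian.noetherian _) h1
      (IsLocalRing.maximalIdeal_le_jacobson _)
    have h3 : IsLocalRing.maximalIdeal B ^ N ≤ Module.annihilator B Q := fun a ha =>
      Module.mem_annihilator.mpr fun q => (Submodule.mem_bot B).mp (h2 ▸ Submodule.smul_mem_smul ha Submodule.mem_top)
    rw [Module.support_eq_zeroLocus] at hp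
    exact ((IsLocalRing.maximalIdeal.isMaximal B).eq_of_le p.2.ne_top
      (p.2.le_of_pow_le (h3.trans hp))).symm
  have h0 : ∀ p ∈ Module.support B M, t ∈ p.asIdeal → p.asIdeal = IsLocalRing.maximalIdeal B := by
    intro p hp htp
    refine hQm p ?_
    exact (Set.ext_iff.mp (Module.support_quotient (M := M) (Ideal.span {t})) p).mpr
      ⟨hp, by simpa [PrimeSpectrum.mem_zeroLocus] using htp⟩
  have h1 : Module.supportDim B M ≤ 1 := by
    refine (Module.supportDim_le_supportDim_quotSMulTop_succ ht).trans ?_
    have hz : Module.supportDim B (QuotSMulTop t M) ≤ 0 := by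
      haveI : Subsingleton (Module.support B (QuotSMulTop t M)) := ⟨fun a b => Subtype.ext (PrimeSpectrum.ext (by
        have e : Module.support B (QuotSMulTop t M) = Module.support B Q :=
          (Submodule.quotEquivOfEq _ _ (Submodule.ideal_span_singleton_smul t ⊤).symm).support_eq
        rw [hQm a.1 (e ▸ a.2), hQm b.1 (e ▸ b.2)]))⟩
      exact Order.krullDim_nonpos_of_subsingleton
    exact (add_le_add_left hz 1).trans (by rw [zero_add])
  have hsupp : ∀ p : PrimeSpectrum B, p ∈ Groth.L22.QuotLength.supp' (R := B) M ↔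
      p.asIdeal ∈ (Module.annihilator B M).minimalPrimes := by
    intro p
    have hann : ∀ q : PrimeSpectrum B, q ∈ Module.support B M ↔ Module.annihilator B M ≤ q.asIdeal :=
      fun q => by rw [Module.support_eq_zeroLocus]; rfl
    constructor
    · intro hp
      exact ⟨⟨p.2, (hann p).1 hp.1⟩, fun J hJ hle => (congrArg PrimeSpectrum.asIdeal
        (Groth.L22.QuotLength.isMin_of_mem_supp' h1 hp (q := ⟨J, hJ.1⟩) ((hann _).2 hJ.2) hle)).ge⟩
    · intro hp
      refine ⟨(hann p).2 hp.1.2, fun hm => hdim.not_ge ?_⟩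
      haveI : Subsingleton (Module.support B M) := ⟨fun a b => by
        have key : ∀ c : Module.support B M, c.1.asIdeal = IsLocalRing.maximalIdeal B := fun c => by
          refine le_antisymm (IsLocalRing.le_maximalIdeal c.1.2.ne_top) ?_
          exact hm ▸ hp.2 ⟨c.1.2, (hann c.1).1 c.2⟩ (hm ▸ IsLocalRing.le_maximalIdeal c.1.2.ne_top)
        exact Subtype.ext (PrimeSpectrum.ext ((key a).trans (key b).symm))⟩
      exact Order.krullDim_nonpos_of_subsingleton
  have key := Groth.L22.QuotLength.length_quot_eq M t h1 h0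
  have hfs := Groth.L22.QuotLength.finite_supp' (R := B) M h1
  rw [finsum_mem_eq_finite_toFinset_sum _ hfs,
    show Module.length B (M ⧸ LinearMap.range (LinearMap.lsmul B M t)) = Module.length B Q from
      (Submodule.quotEquivOfEq _ _ (by
        rw [Submodule.ideal_span_singleton_smul]
        ext z
        simp [Submodule.mem_smul_pointwise_iff_exists, LinearMap.mem_range])).length_eq] at key
  let e : (Module.annihilator B M).minimalPrimes ≃ {p // p ∈ hfs.toFinset} :=
    { toFun := fun p => ⟨⟨p.1, p.2.1.1⟩, hfs.mem_toFinset.mpr ((hsupp _).mpr p.2)⟩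
      invFun := fun p => ⟨p.1.asIdeal, (hsupp _).mp (hfs.mem_toFinset.mp p.2)⟩
      left_inv := fun p => rfl
      right_inv := fun p => rfl }
  have hlhs : (∑ᶠ p : (Module.annihilator B M).minimalPrimes,
      haveI : p.1.IsPrime := p.2.1.1
      Module.length (Localization.AtPrime p.1) (LocalizedModule p.1.primeCompl M)) =
      ∑ p ∈ hfs.toFinset, Groth.L22.QuotLength.locLen M p := by
    rw [← Finset.sum_coe_sort, ← finsum_eq_sum_of_fintype]
    exact finsum_comp_equiv e (f := fun p => Groth.L22.QuotLength.locLen M p.1)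
  rw [hlhs]
  have hord : ∀ p : PrimeSpectrum B, 1 ≤ Ring.ord (B ⧸ p.asIdeal) (Ideal.Quotient.mk p.asIdeal t) ∧
      (Ring.ord (B ⧸ p.asIdeal) (Ideal.Quotient.mk p.asIdeal t) = 1 ↔
        Ideal.map (Ideal.Quotient.mk p.asIdeal) (IsLocalRing.maximalIdeal B) =
          Ideal.span {Ideal.Quotient.mk p.asIdeal t}) := by
    intro p
    have hle : Ideal.span {Ideal.Quotient.mk p.asIdeal t} ≤
        Ideal.map (Ideal.Quotient.mk p.asIdeal) (IsLocalRing.maximalIdeal B) :=
      (Ideal.span_singleton_le_iff_mem _).mpr (Ideal.mem_map_of_mem _ ht)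
    have hmax : (Ideal.map (Ideal.Quotient.mk p.asIdeal) (IsLocalRing.maximalIdeal B)).IsMaximal := by
      refine (Ideal.map_eq_top_or_isMaximal_of_surjective _ Ideal.Quotient.mk_surjective
        (IsLocalRing.maximalIdeal.isMaximal B)).resolve_left fun h => ?_
      have := congrArg (Ideal.comap (Ideal.Quotient.mk p.asIdeal)) h
      rw [Ideal.comap_map_of_surjective _ Ideal.Quotient.mk_surjective, ← RingHom.ker_eq_comap_bot,
        Ideal.mk_ker, sup_eq_left.mpr (IsLocalRing.le_maximalIdeal p.2.ne_top), Ideal.comap_top] at this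
      exact (IsLocalRing.maximalIdeal.isMaximal B).ne_top this
    rw [Ring.ord]
    refine ⟨Order.one_le_iff_pos.mpr (Module.length_pos_iff.mpr (Ideal.Quotient.nontrivial_iff.mpr fun h =>
      hmax.ne_top (top_le_iff.mp (h ▸ hle)))), ?_⟩
    rw [Module.length_eq_one_iff, isSimpleModule_iff_isCoatom]
    exact ⟨fun h => (Ideal.isMaximal_def.mpr h).eq_of_le hmax.ne_top hle |>.symm, fun h => h ▸ Ideal.isMaximal_def.mp hmax⟩
  have hpos : ∀ p ∈ hfs.toFinset, 1 ≤ Groth.L22.QuotLength.locLen M p := by
    intro p hp
    haveI := Module.mem_support_iff.mp (hfs.mem_toFinset.mp hp).1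
    exact Order.one_le_iff_pos.mpr Module.length_pos
  have hle' : ∀ p ∈ hfs.toFinset, Groth.L22.QuotLength.locLen M p ≤ Groth.L22.QuotLength.term t M p :=
    fun p _ => le_mul_of_one_le_left' (hord p).1
  have hreg : Module.length B (LinearMap.ker (LinearMap.lsmul B M t)) = 0 ↔ IsSMulRegular M t := by
    rw [Module.length_eq_zero_iff, Submodule.subsingleton_iff_eq_bot, LinearMap.ker_eq_bot]
    rfl
  have hsumle := Finset.sum_le_sum hle'
  have htot : ∑ p ∈ hfs.toFinset, Groth.L22.QuotLength.term t M p ≤ Module.length B Q :=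
    key ▸ le_add_self
  refine ⟨hsumle.trans htot, ?_⟩
  constructor
  · intro heq
    have hT : ∑ p ∈ hfs.toFinset, Groth.L22.QuotLength.term t M p = Module.length B Q :=
      le_antisymm htot (heq ▸ hsumle)
    refine ⟨hreg.mp ?_, fun p => ?_⟩
    · rw [hT] at key
      exact (WithTop.add_right_cancel hfin ((zero_add _).trans key)).symm
    · have hp : (⟨p.1, p.2.1.1⟩ : PrimeSpectrum B) ∈ hfs.toFinset := hfs.mem_toFinset.mpr ((hsupp _).mpr p.2)
      refine (hord ⟨p.1, p.2.1.1⟩).2.mp ?_
      by_contra hne
      have hlt : Groth.L22.QuotLength.locLen M ⟨p.1, p.2.1.1⟩ < Groth.L22.QuotLength.term t M ⟨p.1, p.2.1.1⟩ := by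
        have hl := hpos _ hp
        have hfinl : Groth.L22.QuotLength.locLen M ⟨p.1, p.2.1.1⟩ ≠ ⊤ :=
          ne_top_of_le_ne_top hfin (((hle' _ hp).trans (Finset.single_le_sum (fun _ _ => zero_le) hp)).trans htot)
        have h2 : 2 ≤ Ring.ord (B ⧸ p.1) (Ideal.Quotient.mk p.1 t) :=
          Order.add_one_le_of_lt (lt_of_le_of_ne (hord ⟨p.1, p.2.1.1⟩).1 (Ne.symm hne))
        refine lt_of_lt_of_le ?_ (mul_le_mul_left h2 _)
        obtain ⟨a, ha⟩ := ENat.ne_top_iff_exists.mp hfinl
        rw [← ha] at hl ⊢
        rw [two_mul]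
        norm_cast at hl ⊢
        omega
      have hnt : (∑ q ∈ hfs.toFinset.erase ⟨p.1, p.2.1.1⟩, Groth.L22.QuotLength.locLen M q) ≠ ⊤ :=
        ne_top_of_le_ne_top hfin ((Finset.sum_le_sum_of_subset (Finset.erase_subset _ _)).trans (hsumle.trans htot))
      refine (lt_self_iff_false (Module.length B Q)).mp (lt_of_lt_of_le ?_ htot)
      rw [← heq, ← Finset.add_sum_erase _ _ hp, ← Finset.add_sum_erase _ _ hp]
      exact lt_of_lt_of_le (WithTop.add_lt_add_right hnt hlt)
        (add_le_add_right (Finset.sum_le_sum fun q hq => hle' q (Finset.mem_of_mem_erase hq)) _)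
  · rintro ⟨hr, hp⟩
    rw [key, hreg.mpr hr, zero_add]
    refine Finset.sum_congr rfl fun p hp' => ?_
    rw [Groth.L22.QuotLength.term, (hord p).2.mpr (hp ⟨p.asIdeal, (hsupp p).mp (hfs.mem_toFinset.mp hp')⟩), one_mul]

end Groth.Agent.S12132
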