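import Groth.Statements.S12134
import Groth.Agent.L07.GrStrata

set_option autoImplicit false
set_option linter.style.haveILetI false
universe u
open scoped TensorProduct
open EGA43

namespace Groth.Agent.S12134

open AlgebraicGeometry CategoryTheory in
/-- Suppose A₀ is a Noetherian ring and B₀ is a finitely generated A₀-algebra; fix an ideal J₀ ⊆ B₀ and
a finite B₀-module M₀. Then Spec A₀ admits finitely many affine subschemes S_1, …, S_m — presented
as immersions Spec A_i → Spec A₀ — whose underlying sets are mutually disjoint with union all of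
Spec A₀, such that each S_i is open in S_i ∪ S_{i+1} ∪ … ∪ S_m, and such that for each i, setting
N_i = A_i ⊗_{A₀} M₀, the graded module associated to the J₀-adic filtration on N_i is A_i-flat.
Concretely, for every n the A_i-module J₀ⁿN_i / J₀ⁿ⁺¹N_i is flat, where this quotient is encoded as
the image of J₀ⁿN_i inside N_i / J₀ⁿ⁺¹N_i, and J₀ⁿN_i denotes the image in N_i of A_i ⊗_{A₀} J₀ⁿM₀. -/
theorem result {A₀ : Type u} [CommRing A₀] [IsNoetherianRing A₀]
    {B₀ : Type u} [CommRing B₀] [Algebra A₀ B₀] [Algebra.FiniteType A₀ B₀] (J₀ : Ideal B₀)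
    (M₀ : Type u) [AddCommGroup M₀] [Module B₀ M₀] [Module A₀ M₀] [IsScalarTower A₀ B₀ M₀]
    [Module.Finite B₀ M₀] :
    ∃ (m : ℕ) (A : Fin m → Type u) (_ : ∀ i, CommRing (A i)) (_ : ∀ i, Algebra A₀ (A i)),
      (∀ i, IsImmersion (Spec.map (CommRingCat.ofHom (algebraMap A₀ (A i))))) ∧
      (∀ i j, i ≠ j → Disjoint (Set.range (Spec.map (CommRingCat.ofHom (algebraMap A₀ (A i)))))
        (Set.range (Spec.map (CommRingCat.ofHom (algebraMap A₀ (A j)))))) ∧
      (⋃ i, Set.range (Spec.map (CommRingCat.ofHom (algebraMap A₀ (A i)))) = Set.univ) ∧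
      (∀ i, ∃ U : Set (Spec (CommRingCat.of A₀)), IsOpen U ∧
        U ∩ (⋃ j, ⋃ (_ : i ≤ j), Set.range (Spec.map (CommRingCat.ofHom (algebraMap A₀ (A j))))) =
          Set.range (Spec.map (CommRingCat.ofHom (algebraMap A₀ (A i))))) ∧
      ∀ i (n : ℕ), Module.Flat (A i)
        ↥(Submodule.map
            (LinearMap.range (LinearMap.baseChange (A i)
              ((J₀ ^ (n + 1) • (⊤ : Submodule B₀ M₀)).restrictScalars A₀).subtype)).mkQ
            (LinearMap.range (LinearMap.baseChange (A i)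
              ((J₀ ^ n • (⊤ : Submodule B₀ M₀)).restrictScalars A₀).subtype))) := by
  obtain ⟨m, s, hlt, hun, -, hfl⟩ := Groth.L07.GrStrata.exists_strata (A := A₀) J₀ M₀ ⊥
  have hr := fun i => Groth.L07.GrStrata.range_stratum (I := (s i).1) (A := A₀) (s i).2
  refine ⟨m, fun i => Localization.Away (Ideal.Quotient.mk (s i).1 (s i).2), fun _ => inferInstance,
    fun _ => inferInstance, fun i => Groth.L07.GrStrata.isImmersion_stratum (A := A₀) _, fun i j hij => ?_, ?_,
    fun i => ?_, hfl⟩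
  · refine Set.disjoint_left.mpr fun x hx hx' => ?_
    replace hx := (hr i).le hx
    replace hx' := (hr j).le hx'
    rcases lt_or_gt_of_ne hij with h | h
    · exact hx.2 (Set.singleton_subset_iff.mp (hlt i j h hx'.1))
    · exact hx'.2 (Set.singleton_subset_iff.mp (hlt j i h hx.1))
  · refine Set.eq_univ_of_forall fun x => ?_
    obtain ⟨i, hi⟩ := Set.mem_iUnion.mp (hun.ge (show (x : PrimeSpectrum A₀) ∈ PrimeSpectrum.zeroLocus
      ((⊥ : Ideal A₀) : Set A₀) by rw [PrimeSpectrum.zeroLocus_bot]; trivial))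
    exact Set.mem_iUnion.mpr ⟨i, (hr i).ge hi⟩
  · refine ⟨(PrimeSpectrum.basicOpen (s i).2 : Set (PrimeSpectrum A₀)), (PrimeSpectrum.basicOpen (s i).2).2, ?_⟩
    ext x
    constructor
    · rintro ⟨hx, hx'⟩
      obtain ⟨j, hj⟩ := Set.mem_iUnion.mp hx'
      obtain ⟨hij, hj⟩ := Set.mem_iUnion.mp hj
      rcases hij.lt_or_eq with h | h
      · have h1 := (hr j).le hj
        exact absurd (Set.singleton_subset_iff.mp (hlt i j h h1.1)) hx
      · subst h; exact hj
    · intro hx
      exact ⟨((hr i).le hx).2, Set.mem_iUnion.mpr ⟨i, Set.mem_iUnion.mpr ⟨le_rfl, hx⟩⟩⟩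

end Groth.Agent.S12134
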