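import Groth.Agent.L18.RelSpecGlue
import Groth.Statements.S12142
-- import your own Groth.Agent.* helpers here

set_option autoImplicit false
universe u
open CategoryTheory CategoryTheory.Limits AlgebraicGeometry TopologicalSpace Opposite
open scoped HomogeneousIdeal
noncomputable section
open EGA2

namespace Groth.Agent.S12142

/-- Let g : S' → S be a morphism of schemes, A a quasi-coherent O_S-algebra and B = g^*A, presented as a
quasi-coherent O_{S'}-algebra with a g-morphism u : A → g_*B whose squares of rings over affine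
opens U' ⊆ g⁻¹(U) are pushouts; let h = Spec(u) : Spec(B) → Spec(A) be the induced morphism of
relative spectra (chartwise Spec of A(U) → B(U')). Then h and the structure morphisms form a
cartesian square: Spec(g^*A) is the fibre product Spec(A) ×_S S'. -/
theorem result {S S' : Scheme.{u}} (g : S' ⟶ S)
    (A : RelSpec.QCAlg S) (B : RelSpec.QCAlg S') (u : RelSpec.QHom g A B) (hu : RelSpec.IsQBaseChange u)
    (h : B.spec ⟶ A.spec) (hh : RelSpec.IsSpecQMap u h) :
    IsPullback h B.π A.π g := by
  refine IsPullback.flip ?_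
  let 𝒰 : Scheme.OpenCover.{u} S' :=
    { I₀ := Groth.L18.RSGlue.Pair g
      X := fun j => Spec Γ(S', j.U')
      f := fun j => j.hU'.fromSpec
      mem₀ := by
        rw [Scheme.presieve₀_mem_precoverage_iff]
        refine ⟨fun y => ?_, fun j => inferInstance⟩
        obtain ⟨p, hp, -, -⟩ := Groth.L18.RSGlue.exists_pair_le g y ⊤ ⊤ trivial trivial
        exact ⟨p, by rw [p.hU'.range_fromSpec]; exact hp⟩ }
  refine Scheme.isPullback_of_openCover _ _ _ _ 𝒰 fun j => ?_
  obtain ⟨U, hU, U', hU', hle⟩ := j
  have h1 := isPullback_SpecMap_of_isPushout _ _ _ _ (hu U hU U' hU' hle)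
  have h2 : IsPullback (A.ι U hU) (Spec.map (A.str.app (op U))) A.π hU.fromSpec := by
    refine (IsOpenImmersion.isPullback (Spec.map (A.str.app (op U))) (A.ι U hU) hU.fromSpec A.π (A.ι_π U hU) ?_).flip
    rw [hU.opensRange_fromSpec, A.π_preimage U hU]
  have h4 : IsPullback (B.ι U' hU') (Spec.map (B.str.app (op U'))) B.π hU'.fromSpec := by
    refine (IsOpenImmersion.isPullback (Spec.map (B.str.app (op U'))) (B.ι U' hU') hU'.fromSpec B.π (B.ι_π U' hU') ?_).flip
    rw [hU'.opensRange_fromSpec, B.π_preimage U' hU']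
  have h3 : IsPullback (Spec.map (B.str.app (op U'))) (B.ι U' hU' ≫ h) (hU'.fromSpec ≫ g) A.π := by
    rw [hh U hU U' hU' hle, ← hU.SpecMap_appLE_fromSpec g hU' hle]
    exact (h1.flip.paste_horiz h2).flip
  refine h3.of_iso h4.isoPullback (Iso.refl _) (Iso.refl _) (Iso.refl _) ?_ ?_ ?_ ?_
  · rw [Iso.refl_hom, Category.comp_id]
    exact h4.isoPullback_hom_snd.symm
  · rw [Iso.refl_hom, Category.comp_id]
    exact (congrArg (· ≫ h) h4.isoPullback_hom_fst).symm.trans (Category.assoc _ _ _)
  · simp [𝒰]
  · simp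

end Groth.Agent.S12142
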