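import Groth.Agent.L18.QMap.Props
import Groth.Statements.S12147
-- import your own Groth.Agent.* helpers here

set_option autoImplicit false
universe u
open CategoryTheory CategoryTheory.Limits AlgebraicGeometry TopologicalSpace Opposite
open scoped HomogeneousIdeal
noncomputable section
open EGA2

namespace Groth.Agent.S12147

/-- Let q : X → Y be a morphism, L an invertible O_X-module with 𝒮L = ⊕ L^{⊗n} (whose Proj, with its
charts, is X), v : 𝒯 → 𝒮 a graded homomorphism of quasi-coherent positively graded O_Y-algebras, ψ♭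
= u : 𝒮 → q_*𝒮L a graded q-morphism and ψ'♭ = u' its composite with v. Then the open of definition
G(ψ') of r_{L,ψ'} is contained in the open of definition G(ψ) of r_{L,ψ}; in particular, if r_{L,ψ'}
is everywhere defined then so is r_{L,ψ}. -/
theorem result {Y X P PL : Scheme.{u}} (q : X ⟶ Y)
    (L : X.Modules) (hL : PicF.IsInvertible L) (hLq : Coh.IsQCoh L)
    (𝒮 : RelProj.QCGrAlg Y) (𝒮L : RelProj.QCGrAlg X) (j : L ⟶ 𝒮L.toModule) (hj : RelProj.IsGrSymAlg L 𝒮L j)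
    (u : RelProj.QGrHom q 𝒮 𝒮L)
    (p : P ⟶ Y) (chart : ∀ (U : Y.Opens) (hU : IsAffineOpen U), (((p ⁻¹ᵁ U : P.Opens) : Scheme.{u}) ≅ Proj (𝒮.deg U hU)))
    (hP : RelProj.IsRelProj 𝒮 p chart)
    (pL : PL ⟶ X) (chartL : ∀ (U : X.Opens) (hU : IsAffineOpen U), (((pL ⁻¹ᵁ U : PL.Opens) : Scheme.{u}) ≅ Proj (𝒮L.deg U hU)))
    (hPL : RelProj.IsRelProj 𝒮L pL chartL)
    (𝒯 : RelProj.QCGrAlg Y) (v : 𝒯.toQCAlg ⟶ 𝒮.toQCAlg) (hv : RelProj.IsGradedHom v)
    (u' : RelProj.QGrHom q 𝒯 𝒮L) (hu' : ∀ U : Y.Opens, u'.app U = v.hom.app (op U) ≫ u.app U) :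
    RelProj.domQ u' pL chartL ≤ RelProj.domQ u pL chartL := by
  intro x hx
  obtain ⟨⟨⟨⟨U, hU⟩, ⟨U', hU'⟩⟩, hle⟩, w, hw, rfl⟩ := Opens.mem_iSup.mp hx
  obtain ⟨f, hf, hfw⟩ := (RelCone.mem_domOpen _ _).mp hw
  refine Opens.mem_iSup.mpr ⟨⟨(⟨U, hU⟩, ⟨U', hU'⟩), hle⟩, w, (RelCone.mem_domOpen _ _).mpr
    ⟨RelProj.gradedHomAt v hv U hU f, Groth.L18.Cone.map_mem_irrelevant (RelProj.gradedHomAt v hv U hU) hf, ?_⟩, rfl⟩
  have e : u'.gradedAt U hU U' hU' hle f = u.gradedAt U hU U' hU' hle (RelProj.gradedHomAt v hv U hU f) := by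
    show (𝒮L.presheaf.map (homOfLE hle).op).hom ((u'.app U).hom f) = _
    rw [hu' U]
    rfl
  rw [← e]
  exact hfw

end Groth.Agent.S12147
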