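import Groth.Statements.S1215
import Groth.Agent.L20.RG.HenselML

set_option autoImplicit false
universe u
open FlatMor

set_option backward.isDefEq.respectTransparency.types false
open IsLocalRing
namespace Groth.Agent.S1215

/-- Let A → B be a local homomorphism of local rings which is essentially of finite type, with A
henselian, and N a finite B-module flat over A. Then N is a Mittag-Leffler A-module. (The source
moreover writes N as a filtered colimit of free A-modules with transition maps injective modulo 𝔪_A;
only the Mittag-Leffler conclusion is stated here.) -/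
theorem result {A B : Type u} [CommRing A] [HenselianLocalRing A] [CommRing B] [IsLocalRing B] [Algebra A B]
    [IsLocalHom (algebraMap A B)] [Algebra.EssFiniteType A B]
    (N : Type u) [AddCommGroup N] [Module B N] [Module A N] [IsScalarTower A B N] [Module.Finite B N] [Module.Flat A N] :
    CAlg.IsMittagLeffler A N := by
  classical
  obtain ⟨S, _, _, _, _, _, T, hloc⟩ : ∃ (S : Type u) (_ : CommRing S) (_ : Algebra A S) (_ : Algebra S B)
      (_ : IsScalarTower A S B) (_ : Algebra.FiniteType A S) (T : Submonoid S), IsLocalization T B :=
    ⟨Algebra.EssFiniteType.subalgebra A B, inferInstance, inferInstance, inferInstance, inferInstance, inferInstance,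
      Algebra.EssFiniteType.submonoid A B, Algebra.EssFiniteType.isLocalization A B⟩
  haveI := hloc
  let q : Ideal S := (maximalIdeal B).comap (algebraMap S B)
  haveI hq : IsLocalization q.primeCompl B := IsLocalization.of_le T q.primeCompl
    (fun t ht (h : algebraMap S B t ∈ maximalIdeal B) => h (IsLocalization.map_units B (⟨t, ht⟩ : T)))
    (fun t (ht : algebraMap S B t ∉ maximalIdeal B) => not_not.mp ht)
  haveI : q.LiesOver (maximalIdeal A) := ⟨by
    rw [Ideal.under, Ideal.comap_comap, ← IsScalarTower.algebraMap_eq]
    exact (((local_hom_TFAE (algebraMap A B)).out 0 4 rfl rfl).mp ‹IsLocalHom (algebraMap A B)› :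
      (maximalIdeal B).comap (algebraMap A B) = maximalIdeal A).symm⟩
  letI : Module S N := Module.compHom N (algebraMap S B)
  haveI : IsScalarTower S B N := IsScalarTower.of_algebraMap_smul fun _ _ => rfl
  haveI : IsScalarTower A S N := IsScalarTower.of_algebraMap_smul fun a m => by
    rw [← algebraMap_smul B (algebraMap A S a) m, ← IsScalarTower.algebraMap_apply, algebraMap_smul]
  obtain ⟨N₀, hfin, hN₀⟩ := Groth.L20.RG.exists_finite_model_of_isLocalization q.primeCompl (B := B) N
  haveI := hfin
  haveI := hN₀
  let e := (IsLocalizedModule.iso q.primeCompl N₀.subtype).restrictScalars A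
  exact Groth.L20.RG.isMittagLeffler_of_univInj e.symm.toLinearMap (fun Q _ _ => (e.symm.lTensor Q).injective)
    (Groth.L20.RG.isMittagLeffler_of_henselian q N₀ (Module.Flat.of_linearEquiv e))

end Groth.Agent.S1215
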