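import Groth.Agent.L18.QMap.Props
import Groth.Statements.S12166
-- import your own Groth.Agent.* helpers here

set_option autoImplicit false
universe u
open CategoryTheory CategoryTheory.Limits AlgebraicGeometry TopologicalSpace Opposite
open scoped HomogeneousIdeal
noncomputable section
open EGA2

namespace Groth.Agent.S12166

/-- Let φ : 𝒜 → ℬ be a graded homomorphism of quasi-coherent positively graded O_Y-algebras which is a
(TN)-isomorphism (φ : 𝒜_k → ℬ_k bijective for all large k, on sections over affine opens), PA =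
Proj(𝒜), PB = Proj(ℬ) with their charts. Then Proj(φ) is defined on all of PB and is an isomorphism
PB → PA. -/
theorem result {Y PA PB : Scheme.{u}} (𝒜 ℬ : RelProj.QCGrAlg Y)
    (φ : 𝒜.toQCAlg ⟶ ℬ.toQCAlg) (hφ : RelProj.IsGradedHom φ)
    (hTN : ∃ n : ℕ, ∀ k, n ≤ k → ∀ (U : Y.Opens) (hU : IsAffineOpen U),
      (∀ x ∈ 𝒜.deg U hU k, (φ.hom.app (op U)).hom x = 0 → x = 0) ∧
        ∀ y ∈ ℬ.deg U hU k, ∃ x ∈ 𝒜.deg U hU k, (φ.hom.app (op U)).hom x = y)
    (pA : PA ⟶ Y) (chartA : ∀ (U : Y.Opens) (hU : IsAffineOpen U), (((pA ⁻¹ᵁ U : PA.Opens) : Scheme.{u}) ≅ Proj (𝒜.deg U hU)))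
    (hA : RelProj.IsRelProj 𝒜 pA chartA)
    (pB : PB ⟶ Y) (chartB : ∀ (U : Y.Opens) (hU : IsAffineOpen U), (((pB ⁻¹ᵁ U : PB.Opens) : Scheme.{u}) ≅ Proj (ℬ.deg U hU)))
    (hB : RelProj.IsRelProj ℬ pB chartB) :
    RelProj.domQ (RelProj.QGrHom.ofHom φ hφ) pB chartB = ⊤ ∧
      ∀ h : PB ⟶ PA, RelProj.IsProjQMap (RelProj.QGrHom.ofHom φ hφ) pA chartA pB chartB h → IsIso h := by
  obtain ⟨n, hn⟩ := hTN
  have hsurj : ∀ (U : Y.Opens) (hU : IsAffineOpen U) (hle : U ≤ (𝟙 Y) ⁻¹ᵁ U) (k : ℕ), n ≤ k →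
      ∀ y ∈ ℬ.deg U hU k, ∃ x ∈ 𝒜.deg U hU k, (RelProj.QGrHom.ofHom φ hφ).gradedAt U hU U hU hle x = y := by
    intro U hU hle k hk y hy
    obtain ⟨x, hx, e⟩ := (hn k hk U hU).2 y hy
    exact ⟨x, hx, (Groth.L18.QMap.gradedAt_ofHom_apply φ hφ U hU hle x).trans e⟩
  have hinj : ∀ (U : Y.Opens) (hU : IsAffineOpen U) (hle : U ≤ (𝟙 Y) ⁻¹ᵁ U) (k : ℕ), n ≤ k →
      ∀ x ∈ 𝒜.deg U hU k, (RelProj.QGrHom.ofHom φ hφ).gradedAt U hU U hU hle x = 0 → x = 0 := by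
    intro U hU hle k hk x hx e
    exact (hn k hk U hU).1 x hx ((Groth.L18.QMap.gradedAt_ofHom_apply φ hφ U hU hle x).symm.trans e)
  refine ⟨Groth.L18.QMap.domQ_eq_top _ fun y => ?_, fun h hh => ?_⟩
  · obtain ⟨⟨U, hU⟩, hy⟩ := Opens.mem_iSup.mp ((iSup_affineOpens_eq_top Y).ge (trivial : y ∈ (⊤ : Y.Opens)))
    exact ⟨U, hU, U, hU, le_rfl, hy, Groth.L18.QMap.domOpen_eq_top_of_eventually _ (hsurj U hU le_rfl)⟩
  · refine Groth.L18.QMap.property_of_isProjQMap _ hA hB hh (MorphismProperty.isomorphisms Scheme) (fun U hU => hU)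
      fun U hU d hd f hf => ?_
    have hb := (⟨Groth.L18.QMap.away_map_injective_of_eventually _ hd f hf (hinj U hU le_rfl),
      Groth.L18.QMap.away_map_surjective_of_eventually _ hd f hf (hsurj U hU le_rfl)⟩ :
        Function.Bijective (HomogeneousLocalization.Away.map ((RelProj.QGrHom.ofHom φ hφ).gradedAt U hU U hU le_rfl) f))
    have : IsIso (CommRingCat.ofHom (HomogeneousLocalization.Away.map ((RelProj.QGrHom.ofHom φ hφ).gradedAt U hU U hU le_rfl) f)) :=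
      (ConcreteCategory.isIso_iff_bijective _).mpr hb
    show IsIso (Spec.map (CommRingCat.ofHom (HomogeneousLocalization.Away.map ((RelProj.QGrHom.ofHom φ hφ).gradedAt U hU U hU le_rfl) f)))
    infer_instance

end Groth.Agent.S12166
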