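import Groth.Statements.S1218
import Groth.Agent.L20.RG.UnivPureFt

set_option autoImplicit false
universe u
open FlatMor

set_option backward.isDefEq.respectTransparency.types false
namespace Groth.Agent.S1218

/-- Ring form, X = Spec B affine: let B be a finite type A-algebra, N a finite B-module and p a prime of
A such that N is flat over A at every prime of B lying over p. If N is pure along the fibre over p
then N is universally pure along the fibre over p. -/
theorem result {A B : Type u} [CommRing A] [CommRing B] [Algebra A B] [Algebra.FiniteType A B]
    (N : Type u) [AddCommGroup N] [Module B N] [Module A N] [IsScalarTower A B N] [Module.Finite B N] (p : Ideal A) [p.IsPrime]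
    (hflat : ∀ (q : Ideal B) [q.IsPrime], q.LiesOver p → FlatCA.FlatAt A q N)
    (hpure : FlatCA.IsPureAlong A B N p) : FlatCA.IsUnivPureAlong A B N p := by
  exact Groth.L20.RG.isUnivPureAlong_of_flat_of_isPureAlong N p hflat hpure

end Groth.Agent.S1218
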