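import Groth.Statements.S12188
import Groth.Agent.L05.Glue.Algebra

set_option autoImplicit false
universe u
open TensorProduct
open EtAlg

namespace Groth.Agent.S12188

/-- Glueing along a glueing pair detects flat morphisms of affine schemes, stated for coordinate rings.
Let (R → R', f) be a glueing pair and φ : A → B a homomorphism of R-algebras with A and B glueable
as R-modules. Then φ is flat exactly when both induced maps A_f → B_f and R' ⊗_R A → R' ⊗_R B are
flat. -/
theorem result (R : Type u) [CommRing R] (R' : Type u) [CommRing R'] [Algebra R R'] (f : R)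
    (hRR' : EtGlue.IsGlueingPair R R' f) (A B : Type u) [CommRing A] [Algebra R A] [CommRing B] [Algebra R B]
    (hA : EtGlue.IsGlueable R R' f A) (hB : EtGlue.IsGlueable R R' f B) (φ : A →ₐ[R] B) :
    φ.toRingHom.Flat ↔ (Localization.awayMap φ.toRingHom (algebraMap R A f)).Flat ∧
      (Algebra.TensorProduct.map (AlgHom.id R R') φ).toRingHom.Flat := by
  letI := Algebra.TensorProduct.rightAlgebra (R := R) (A := R') (B := A)
  exact Groth.L05.Glue.detect (R' := R') (f := f) φ RingHom.Flat.isStableUnderBaseChange RingHom.Flat.respectsIso
    (fun {_} {_} h₁ h₂ => Groth.L05.Glue.flat_of_both B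
      (Groth.L05.Glue.isGlueingPair_algebra hRR' hA) h₁ h₂)

end Groth.Agent.S12188
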