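import Groth.Statements.S12192
import Groth.Agent.L23.EtaleGlue

set_option autoImplicit false
set_option backward.isDefEq.respectTransparency.types false
set_option linter.style.haveILetI false
universe u
open CategoryTheory CategoryTheory.Limits AlgebraicGeometry
open AlgSp

namespace Groth.Agent.S12192

/-- Let f : Y' → Y be a proper morphism between algebraic spaces over the scheme S, i : Z → Y a closed
immersion, E = Z ×_Y Y', and assume f is an isomorphism over the open complement of Z. Let V₁, V₂ be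
etale over Y, with base changes V₁', V₂' to Y' and W₁, W₂ to Z, and let P₁ be the base change of V₁
to E (through both V₁' and W₁). Then a morphism m' : V₁' → V₂' over Y' and a morphism n : W₁ → W₂
over Z inducing the same morphism P₁ → V₂ are the base changes of exactly one morphism V₁ → V₂ over
Y. (The published statement asserts that the functor sending a space etale over Y to its base
changes to Y' and to Z, glued along E, is an equivalence of categories onto such glueing data; this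
row states that it is fully faithful.) -/
theorem result {S : Scheme.{u}}
    {Y Y' Z E U U' V₁ V₂ V₁' V₂' W₁ W₂ P₁ : AlgSp.Space S} (f : Y' ⟶ Y)
    (hf : AlgSp.IsProperMor f.hom) (i : Z ⟶ Y) (hi : AlgSp.RepWith @IsClosedImmersion i.hom) (j : E ⟶ Y')
    (g : E ⟶ Z) (hE : IsPullback j.hom g.hom f.hom i.hom) (jU : U ⟶ Y)
    (hjU : AlgSp.RepWith @IsOpenImmersion jU.hom)
    (hU : Set.range (AlgSp.Points.map jU.hom) = (Set.range (AlgSp.Points.map i.hom))ᶜ) (fU : U' ⟶ U)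
    (jU' : U' ⟶ Y') (hU' : IsPullback jU'.hom fU.hom f.hom jU.hom) [IsIso fU]
    (v₁ : V₁ ⟶ Y) (v₂ : V₂ ⟶ Y) (hv₁ : AlgSp.IsEtaleMor v₁.hom) (hv₂ : AlgSp.IsEtaleMor v₂.hom)
    (a₁ : V₁' ⟶ V₁) (p₁ : V₁' ⟶ Y') (ha₁ : IsPullback a₁.hom p₁.hom v₁.hom f.hom)
    (a₂ : V₂' ⟶ V₂) (p₂ : V₂' ⟶ Y') (ha₂ : IsPullback a₂.hom p₂.hom v₂.hom f.hom)
    (b₁ : W₁ ⟶ V₁) (q₁ : W₁ ⟶ Z) (hb₁ : IsPullback b₁.hom q₁.hom v₁.hom i.hom)
    (b₂ : W₂ ⟶ V₂) (q₂ : W₂ ⟶ Z) (hb₂ : IsPullback b₂.hom q₂.hom v₂.hom i.hom)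
    (r₁ : P₁ ⟶ V₁') (s₁ : P₁ ⟶ W₁) (e₁ : P₁ ⟶ E)
    (hr₁ : IsPullback r₁.hom e₁.hom p₁.hom j.hom) (hs₁ : IsPullback s₁.hom e₁.hom q₁.hom g.hom)
    (hP₁ : r₁ ≫ a₁ = s₁ ≫ b₁)
    (m' : V₁' ⟶ V₂') (hm' : m' ≫ p₂ = p₁) (n : W₁ ⟶ W₂) (hn : n ≫ q₂ = q₁)
    (hmn : r₁ ≫ m' ≫ a₂ = s₁ ≫ n ≫ b₂) :
    ∃! m : V₁ ⟶ V₂, m ≫ v₂ = v₁ ∧ a₁ ≫ m = m' ≫ a₂ ∧ b₁ ≫ m = n ≫ b₂ := by
  have hYs := Y.property
  let sqP := IsPullback.of_hasPullback v₁.hom v₂.hom
  have hP : AlgSp.IsAlgSpace (pullback v₁.hom v₂.hom) := Groth.L23.isAlgSpace_of_isPullback hYs.diag V₁.property V₂.property sqP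
  have hπ := Groth.L23.locP_of_isPullback Groth.L23.etLocal_etale V₂.property hYs V₁.property sqP.flip
    ((Groth.L23.isEtaleMor_iff_locP V₂.property hYs _).1 hv₂)
  have eP₁ : r₁.hom ≫ a₁.hom = s₁.hom ≫ b₁.hom := congrArg InducedCategory.Hom.hom hP₁
  have out : IsPullback r₁.hom (s₁.hom ≫ q₁.hom) (a₁.hom ≫ v₁.hom) i.hom := by
    have := hr₁.paste_vert hE
    rwa [← ha₁.w, ← hs₁.w] at this
  have sq : IsPullback r₁.hom s₁.hom a₁.hom b₁.hom := IsPullback.of_bot out eP₁ hb₁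
  let jV := pullback.fst v₁.hom jU.hom
  have hjV : AlgSp.RepWith @IsOpenImmersion jV :=
    Groth.L23.repWith_of_isPullback (IsPullback.of_hasPullback v₁.hom jU.hom).flip hjU
  have : IsIso (pullback.snd a₁.hom jV) := by
    have o := (IsPullback.of_hasPullback a₁.hom jV).paste_vert (IsPullback.of_hasPullback v₁.hom jU.hom)
    rw [ha₁.w] at o
    let k := hU'.lift (pullback.fst a₁.hom jV ≫ p₁.hom) (pullback.snd a₁.hom jV ≫ pullback.snd v₁.hom jU.hom)
      (by rw [Category.assoc]; exact o.w)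
    have hk₁ : k ≫ jU'.hom = pullback.fst a₁.hom jV ≫ p₁.hom := hU'.lift_fst _ _ _
    have hk₂ : k ≫ fU.hom = pullback.snd a₁.hom jV ≫ pullback.snd v₁.hom jU.hom := hU'.lift_snd _ _ _
    rw [← hk₂] at o
    have top := IsPullback.of_bot o hk₁.symm hU'
    have o2 : IsPullback (pullback.snd a₁.hom jV ≫ jV) k v₁.hom (fU.hom ≫ jU.hom) := by
      have o1 := top.paste_horiz ha₁
      rwa [pullback.condition, hU'.w] at o1
    have sq2 := IsPullback.of_right o2 hk₂.symm (IsPullback.of_hasPullback v₁.hom jU.hom)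
    have : IsIso fU.hom := inferInstanceAs (IsIso ((ObjectProperty.ι _).map fU))
    exact sq2.isIso_fst_of_isIso
  have hcov : ∀ v : AlgSp.Points V₁.obj, v ∈ Set.range (AlgSp.Points.map b₁.hom) ∨
      v ∈ Set.range (AlgSp.Points.map jV) := fun v => by
    by_cases h : AlgSp.Points.map v₁.hom v ∈ Set.range (AlgSp.Points.map i.hom)
    · exact Or.inl (Groth.L23.EtaleGlue.mem_range_of_pullback hb₁ h)
    · refine Or.inr (Groth.L23.EtaleGlue.mem_range_of_pullback (IsPullback.of_hasPullback v₁.hom jU.hom) ?_)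
      rw [hU]; exact h
  have em : m'.hom ≫ p₂.hom = p₁.hom := congrArg InducedCategory.Hom.hom hm'
  have en : n.hom ≫ q₂.hom = q₁.hom := congrArg InducedCategory.Hom.hom hn
  have emn : r₁.hom ≫ m'.hom ≫ a₂.hom = s₁.hom ≫ n.hom ≫ b₂.hom := congrArg InducedCategory.Hom.hom hmn
  let σ' : V₁'.obj ⟶ pullback v₁.hom v₂.hom := pullback.lift a₁.hom (m'.hom ≫ a₂.hom) (by
    rw [Category.assoc, ha₂.w, reassoc_of% em, ha₁.w])
  let τ : W₁.obj ⟶ pullback v₁.hom v₂.hom := pullback.lift b₁.hom (n.hom ≫ b₂.hom) (by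
    rw [Category.assoc, hb₂.w, reassoc_of% en, hb₁.w])
  obtain ⟨σ, ⟨h₁, h₂, h₃⟩, hu⟩ := Groth.L23.EtaleGlue.existsUnique_section hP V₁.property V₁'.property W₁.property hπ
    (Groth.L23.isProperMor_of_isPullback Y'.property hYs V₁.property ha₁.flip hf)
    (Groth.L23.repWith_of_isPullback hb₁.flip hi) sq hjV hcov σ' τ
    (pullback.lift_fst _ _ _) (pullback.lift_fst _ _ _) (by
      apply pullback.hom_ext
      · rw [Category.assoc, Category.assoc, pullback.lift_fst, pullback.lift_fst, eP₁]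
      · rw [Category.assoc, Category.assoc, pullback.lift_snd, pullback.lift_snd, emn])
  refine ⟨InducedCategory.homMk (σ ≫ pullback.snd v₁.hom v₂.hom), ⟨InducedCategory.hom_ext ?_,
    InducedCategory.hom_ext ?_, InducedCategory.hom_ext ?_⟩, fun m hm => InducedCategory.hom_ext ?_⟩
  · show (σ ≫ pullback.snd _ _) ≫ v₂.hom = v₁.hom
    rw [Category.assoc, ← pullback.condition, reassoc_of% h₁]
  · show a₁.hom ≫ σ ≫ pullback.snd _ _ = m'.hom ≫ a₂.hom
    rw [reassoc_of% h₂, pullback.lift_snd]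
  · show b₁.hom ≫ σ ≫ pullback.snd _ _ = n.hom ≫ b₂.hom
    rw [reassoc_of% h₃, pullback.lift_snd]
  · have e₁ : m.hom ≫ v₂.hom = v₁.hom := congrArg InducedCategory.Hom.hom hm.1
    have e₂ : a₁.hom ≫ m.hom = m'.hom ≫ a₂.hom := congrArg InducedCategory.Hom.hom hm.2.1
    have e₃ : b₁.hom ≫ m.hom = n.hom ≫ b₂.hom := congrArg InducedCategory.Hom.hom hm.2.2
    have := hu (pullback.lift (𝟙 _) m.hom (by rw [Category.id_comp, e₁])) ⟨pullback.lift_fst _ _ _, ?_, ?_⟩
    · show m.hom = σ ≫ pullback.snd _ _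
      rw [← this, pullback.lift_snd]
    · apply pullback.hom_ext
      · rw [Category.assoc, pullback.lift_fst, pullback.lift_fst, Category.comp_id]
      · rw [Category.assoc, pullback.lift_snd, pullback.lift_snd, e₂]
    · apply pullback.hom_ext
      · rw [Category.assoc, pullback.lift_fst, pullback.lift_fst, Category.comp_id]
      · rw [Category.assoc, pullback.lift_snd, pullback.lift_snd, e₃]

end Groth.Agent.S12192
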