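import Groth.Statements.S12195
import Groth.Agent.L23.InfSpace2

set_option autoImplicit false
set_option backward.isDefEq.respectTransparency.types false
universe u
open CategoryTheory CategoryTheory.Limits AlgebraicGeometry
open AlgSp

namespace Groth.Agent.S12195

/-- Let a : F ⟶ G be a representable, surjective and etale morphism of fppf sheaves on (Sch/S) and b : G
⟶ H a morphism such that a ≫ b is formally smooth. Consider a solid infinitesimal lifting square for
b: a square-zero thickening T = Spec (A/I) ⊂ T' = Spec A of affine schemes over S, a morphism T ⟶ G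
and a morphism T' ⟶ H making the square commute. Then for every point t of T' there exist an affine
scheme U', an etale morphism U' ⟶ T' whose image contains t, and a morphism U' ⟶ G lying over T' ⟶ H
whose restriction to T ×_{T'} U' agrees with the given T ⟶ G (stated for every scheme V mapping
compatibly to T and U'). (The published statement is for transformations of arbitrary presheaves of
sets on (Sch/S)_fppf; this row takes fppf sheaves, the case of algebraic spaces.) -/
theorem result {S : Scheme.{u}} {F G H : AlgSp.Sp S} (a : F ⟶ G)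
    (b : G ⟶ H) (ha : AlgSp.RepWith @Etale a) (ha' : AlgSp.RepWith @Surjective a)
    (hab : AlgSp.IsFormallySmoothMor (a ≫ b)) (sq : AlgSp.InfSq b) (t : ↥sq.ptT'.left) :
    ∃ (U' : Over S) (g : U' ⟶ sq.ptT') (l : (AlgSp.yon S).obj U' ⟶ G),
      IsAffine U'.left ∧ Etale g.left ∧ (∃ u : ↥U'.left, g.left u = t) ∧
        l ≫ b = (AlgSp.yon S).map g ≫ sq.bot ∧
          ∀ (V : Over S) (p : V ⟶ sq.ptT) (q : V ⟶ U'), p ≫ sq.j = q ≫ g →
            (AlgSp.yon S).map q ≫ l = (AlgSp.yon S).map p ≫ sq.top := by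
  obtain ⟨_, _⟩ := sq.firstOrder.1
  have sP := ha.1.isPullback sq.top
  have hρ : Etale (ha.1.snd sq.top).left := Groth.L23.repWith_prop ha sP
  have hρs : Surjective (ha.1.snd sq.top).left := Groth.L23.repWith_prop ha' sP
  obtain ⟨t₀, rfl⟩ := sq.j.left.surjective t
  obtain ⟨π, rfl⟩ := (ha.1.snd sq.top).left.surjective t₀
  obtain ⟨V₁, P₁, e, m, j₁, he, haff, sq₁, hr⟩ :=
    Groth.L23.exists_local_etale_lift (ha.1.snd sq.top).left sq.j.left sq.firstOrder.1 π
  let W : Over S := Over.mk (e ≫ sq.ptT'.hom)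
  let eW : W ⟶ sq.ptT' := Over.homMk e rfl
  let W₀ : Over S := Over.mk (j₁ ≫ W.hom)
  let jW : W₀ ⟶ W := Over.homMk j₁ rfl
  let mW : W₀ ⟶ ha.1.pullback sq.top := Over.homMk m (by
    show m ≫ _ = j₁ ≫ e ≫ sq.ptT'.hom
    rw [← Over.w (ha.1.snd sq.top), ← Over.w sq.j, ← Category.assoc, ← Category.assoc, sq₁.w, Category.assoc])
  have sqW : IsPullback (mW ≫ ha.1.snd sq.top) jW sq.j eW :=
    IsPullback.of_map (Over.forget S) (Over.OverMorphism.ext sq₁.w) sq₁
  have : IsAffine W.left := haff
  obtain ⟨l, hl₁, hl₂⟩ := Groth.L23.exists_lift_affine hab jW (Groth.L23.isFirstOrder_of_isPullback sq.firstOrder sq₁.flip)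
    ((yon S).map mW ≫ ha.1.fst sq.top) ((yon S).map eW ≫ sq.bot) (by
      rw [Category.assoc, ← Category.assoc (ha.1.fst sq.top) a b, sP.w, ← Category.assoc, ← Category.assoc,
        ← Functor.map_comp, Category.assoc, sq.comm, ← Functor.map_comp_assoc, ← Functor.map_comp_assoc,
        sqW.w])
  refine ⟨W, eW, l ≫ a, haff, he, hr, (Category.assoc _ _ _).trans hl₂, fun V p q hpq => ?_⟩
  obtain ⟨z, hz₁, hz₂⟩ : ∃ z : V ⟶ W₀, z ≫ (mW ≫ ha.1.snd sq.top) = p ∧ z ≫ jW = q :=
    ⟨sqW.lift p q hpq, sqW.lift_fst _ _ _, sqW.lift_snd _ _ _⟩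
  rw [← hz₁, ← hz₂, Functor.map_comp, Category.assoc, reassoc_of% hl₁, sP.w, Functor.map_comp_assoc,
    Functor.map_comp_assoc]

end Groth.Agent.S12195
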