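import Groth.Statements.S12198
import Groth.Agent.L23.GpdLargest

set_option autoImplicit false
set_option backward.isDefEq.respectTransparency.types false
set_option linter.style.haveILetI false
universe u
open CategoryTheory CategoryTheory.Limits AlgebraicGeometry
open AlgSp AlgSp.GroupoidSp

namespace Groth.Agent.S12198

/-- Let B be an algebraic space over S, (U, R, s, t, c) a groupoid in algebraic spaces over B and G → U
its stabilizer group algebraic space. Let τ be one of the topologies fppf, etale, smooth and P a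
property of morphisms between algebraic spaces, τ-local on the base, and assume that {s : R → U} and
{t : R → U} are coverings for τ. Let W ⊂ U be the largest open subspace such that G_W → W has P,
characterised by: for an open subspace W' ⊂ U the base change G ×_U W' → W' has P if and only if W'
⊂ W. Then W is an R-invariant open subspace of U. (The published statement also allows the syntomic
topology, which is not available here.) -/
theorem result {S : Scheme.{u}} {B : AlgSp.Sp S} (hB : AlgSp.IsAlgSpace B)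
    (G : AlgSp.GroupoidSp B) (hU : AlgSp.IsAlgSpace G.U) (hR : AlgSp.IsAlgSpace G.R)
    (τ : AlgSp.CovNotion S) (hτ : τ = AlgSp.IsFppfCover ∨ τ = AlgSp.IsEtCover ∨ τ = AlgSp.IsSmCover)
    (P : MorphismProperty (AlgSp.Sp S)) (hP : AlgSp.IsLocalOnBase τ P)
    (hs : τ (fun _ : PUnit.{u + 1} => G.R) (fun _ => G.s)) (ht : τ (fun _ : PUnit.{u + 1} => G.R) (fun _ => G.t))
    {W : AlgSp.Sp S} (hWsp : AlgSp.IsAlgSpace W) (w : W ⟶ G.U) [Mono w] (hw : AlgSp.RepWith @IsOpenImmersion w)
    (hmax : ∀ (W' : AlgSp.Sp S) (w' : W' ⟶ G.U), AlgSp.IsAlgSpace W' → AlgSp.RepWith @IsOpenImmersion w' →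
      (P (pullback.snd G.stabilizerToU w') ↔ ∃ k : W' ⟶ W, k ≫ w = w')) :
    G.IsInvariant w := by
  rcases hτ with rfl | rfl | rfl
  · exact Groth.L23.Gpd.isInvariant_of_largest G Groth.L23.LargestOpen.covClass_flat_lfp hP hU hR (hs.1 ⟨⟩) (ht.1 ⟨⟩) (Groth.L23.isAlgSpace_of_isPullback (Groth.L23.isAlgSpace_of_isPullback hB.diag hU hU (IsPullback.of_hasPullback G.pU G.pU)).diag hR hU (IsPullback.of_hasPullback G.j G.diag)) G.stabilizerToU _ (IsPullback.of_hasPullback G.stabilizerToU G.t) (Classical.choose_spec (Groth.L23.Gpd.exists_isPullback_conj G)) hWsp w hw hmax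
  · exact Groth.L23.Gpd.isInvariant_of_largest G Groth.L23.LargestOpen.covClass_etale hP hU hR (hs.1 ⟨⟩) (ht.1 ⟨⟩) (Groth.L23.isAlgSpace_of_isPullback (Groth.L23.isAlgSpace_of_isPullback hB.diag hU hU (IsPullback.of_hasPullback G.pU G.pU)).diag hR hU (IsPullback.of_hasPullback G.j G.diag)) G.stabilizerToU _ (IsPullback.of_hasPullback G.stabilizerToU G.t) (Classical.choose_spec (Groth.L23.Gpd.exists_isPullback_conj G)) hWsp w hw hmax
  · exact Groth.L23.Gpd.isInvariant_of_largest G Groth.L23.LargestOpen.covClass_smooth hP hU hR (hs.1 ⟨⟩) (ht.1 ⟨⟩) (Groth.L23.isAlgSpace_of_isPullback (Groth.L23.isAlgSpace_of_isPullback hB.diag hU hU (IsPullback.of_hasPullback G.pU G.pU)).diag hR hU (IsPullback.of_hasPullback G.j G.diag)) G.stabilizerToU _ (IsPullback.of_hasPullback G.stabilizerToU G.t) (Classical.choose_spec (Groth.L23.Gpd.exists_isPullback_conj G)) hWsp w hw hmax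

end Groth.Agent.S12198
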