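import Groth.Statements.S1220
import Groth.Agent.L20.RG.PureDescent
import Groth.Agent.L20.RG.PureProj

set_option autoImplicit false
universe u
open FlatMor

set_option backward.isDefEq.respectTransparency.types false
open TensorProduct
namespace Groth.Agent.S1220

/-- Ring form, X = Spec B affine: let B be a finitely presented A-algebra and N a finitely presented
B-module flat over A. Then the set of points p of Spec A such that N is pure along the fibre over p
is open. -/
theorem result {A B : Type u} [CommRing A] [CommRing B] [Algebra A B] [Algebra.FinitePresentation A B]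
    (N : Type u) [AddCommGroup N] [Module B N] [Module A N] [IsScalarTower A B N] [Module.FinitePresentation B N] [Module.Flat A N] :
    IsOpen {p : PrimeSpectrum A | FlatCA.IsPureAlong A B N p.asIdeal} := by
  refine isOpen_iff_forall_mem_open.mpr fun p hp => ?_
  obtain ⟨D, _, _, p'', hp'', hover, het, hproj⟩ := Groth.L20.RG.exists_projective_nhd N p.asIdeal hp
  refine ⟨Set.range (PrimeSpectrum.comap (algebraMap A D)), ?_,
    (PrimeSpectrum.isOpenMap_comap_of_hasGoingDown_of_finitePresentation (R := A) (S := D)).isOpen_range,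
    ⟨⟨p'', hp''⟩, PrimeSpectrum.ext hover.over.symm⟩⟩
  rintro _ ⟨P, rfl⟩
  haveI : P.asIdeal.LiesOver (PrimeSpectrum.comap (algebraMap A D) P).asIdeal := ⟨rfl⟩
  obtain ⟨B', _, _, _, _, _, _, _, _⟩ : ∃ (B' : Type u) (_ : CommRing B') (_ : Algebra B B') (_ : Algebra D B')
      (_ : Algebra A B') (_ : IsScalarTower A B B') (_ : IsScalarTower A D B') (_ : Algebra.IsPushout A B D B'),
      True := by
    letI : Algebra B (D ⊗[A] B) := Algebra.TensorProduct.rightAlgebra
    haveI : IsScalarTower A B (D ⊗[A] B) := Algebra.TensorProduct.right_isScalarTower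
    exact ⟨D ⊗[A] B, inferInstance, inferInstance, inferInstance, inferInstance, inferInstance, inferInstance,
      Algebra.IsPushout.symm inferInstance, trivial⟩
  haveI : Algebra.IsPushout A D B B' := Algebra.IsPushout.symm inferInstance
  haveI : Algebra.FiniteType D B' :=
    Algebra.FiniteType.equiv inferInstance (Algebra.IsPushout.equiv A D B B')
  haveI : SMulCommClass B D B' := ⟨fun s a c => by simp only [Algebra.smul_def]; ring⟩
  haveI : SMulCommClass B A B' := ⟨fun s a c => by simp only [Algebra.smul_def]; ring⟩
  haveI : IsScalarTower D B' (B' ⊗[B] N) := TensorProduct.isScalarTower_left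
  haveI : IsScalarTower A D (B' ⊗[B] N) := TensorProduct.isScalarTower_left
  haveI : Module.Projective D (B' ⊗[B] N) := Module.Projective.of_equiv
    (Groth.L20.isBaseChange_restrictScalars (R := A) (S := B) (R' := D) (S' := B')
      (TensorProduct.isBaseChange B N B')).equiv
  haveI : Module.Flat A (Localization.AtPrime P.asIdeal) := Module.Flat.trans A D (Localization.AtPrime P.asIdeal)
  have huniv := Groth.L20.RG.isUnivPureAlong_descent (A := A) N (B' ⊗[B] N) (TensorProduct.mk B B' N 1)
    (PrimeSpectrum.comap (algebraMap A D) P).asIdeal P.asIdeal (TensorProduct.isBaseChange B N B')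
    (Groth.L20.RG.isUnivPure_of_projective (B' ⊗[B] N) P.asIdeal)
  intro A₂ B₂ N₂ _ _ _ _ _ _ _ _ _ _ _ _ _ _ f₂ t' t _ _ Q _ _
  exact huniv A₂ B₂ N₂ f₂ t' t Q

end Groth.Agent.S1220
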