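import Groth.Statements.S12200
import Groth.Agent.L20.SpaceLocal.Fpqc
import Groth.Agent.S10623

set_option autoImplicit false
universe u
open CategoryTheory CategoryTheory.Limits AlgebraicGeometry
open AlgSp

set_option backward.isDefEq.respectTransparency.types false

namespace Groth.Agent.S12200

/-- The property of a morphism of algebraic spaces over S of being formally smooth (existence of dotted
arrows in all infinitesimal lifting squares along square-zero thickenings of affine schemes) is
local on the base for the fpqc topology: for an fpqc covering {Y_i → Y} by algebraic spaces and the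
base changes X_i → Y_i of f : X → Y, f is formally smooth exactly when every X_i → Y_i is. -/
theorem result {S : Scheme.{u}} :
    AlgSp.IsLocalOnBase (S := S) AlgSp.IsFpqcCover AlgSp.IsFormallySmoothMor := by
  intro ι Y Yi g hY hYi hcov X f hX Xi p q hXi sq
  have e : ∀ {A B : AlgSp.Sp S} (hA : AlgSp.IsAlgSpace A) (hB : AlgSp.IsAlgSpace B) (φ : A ⟶ B),
      AlgSp.IsFormallySmoothMor φ ↔ AlgSp.LocP @MoreMor.IsFormallySmoothHom φ := fun {A B} hA hB φ =>
    (Groth.Agent.S10623.result (X := ⟨A, hA⟩) (Y := ⟨B, hB⟩) ⟨φ⟩).1
  rw [e hX hY f]
  simp only [fun i => e (hXi i) (hYi i) (p i)]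
  exact Groth.L23.isLocalOnBase_fpqc_locP Groth.L20.SpaceLocal.etLocal_formallySmoothHom Yi g hY hYi
    hcov f hX Xi p q hXi sq

end Groth.Agent.S12200
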