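import Groth.Statements.S12205
import Groth.Agent.L01.TorNilp

set_option autoImplicit false
universe u
open CategoryTheory
open scoped TensorProduct
open CAlg

namespace Groth.Agent.S12205

/-- Let I be an ideal of a commutative ring R and M an R-module such that M/IM is flat over R/I and
Tor_1^R(R/I, M) = 0. Then Tor_1^R(N, M) = 0 for every R-module N annihilated by I^m for some m ≥ 0.
Here Tor_1^R(N, M) is the first left derived functor of N ⊗_R − evaluated at M. -/
theorem result (R : Type u) [CommRing R] (I : Ideal R) (M : Type u)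
    [AddCommGroup M] [Module R M] [Module.Flat (R ⧸ I) ((R ⧸ I) ⊗[R] M)]
    (h : Limits.IsZero (((CategoryTheory.Tor (ModuleCat.{u} R) 1).obj (ModuleCat.of R (R ⧸ I))).obj (ModuleCat.of R M)))
    (N : Type u) [AddCommGroup N] [Module R N] (m : ℕ) (hN : ∀ a : R, a ∈ I ^ m → ∀ x : N, a • x = 0) :
    Limits.IsZero (((CategoryTheory.Tor (ModuleCat.{u} R) 1).obj (ModuleCat.of R N)).obj (ModuleCat.of R M)) := by
  obtain ⟨K, G, _, _, _, _, _, e, π, he, hex, hπ⟩ := Groth.L01.PdRes.exists_cover (R := R) M
  obtain ⟨f⟩ := Groth.L28.Kun.nonempty_tor_one (R ⧸ I) e π he hex hπ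
  haveI : Subsingleton (DRing.Tor R 1 (R ⧸ I) M) := ModuleCat.subsingleton_of_isZero h
  have h0 : Function.Injective (e.lTensor (R ⧸ I)) := by
    haveI : Subsingleton (LinearMap.ker (e.lTensor (R ⧸ I))) := f.symm.injective.subsingleton
    exact LinearMap.ker_eq_bot.mp (Submodule.subsingleton_iff_eq_bot.mp inferInstance)
  obtain ⟨g⟩ := Groth.L28.Kun.nonempty_tor_one N e π he hex hπ
  haveI : Subsingleton (LinearMap.ker (e.lTensor N)) := Submodule.subsingleton_iff_eq_bot.mpr
    (LinearMap.ker_eq_bot.mpr (Groth.L01.TorNilp.injective_of_killed_pow I e π hex hπ h0 m N hN))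
  haveI : Subsingleton (DRing.Tor R 1 N M) := g.injective.subsingleton
  exact ModuleCat.isZero_of_subsingleton _

end Groth.Agent.S12205
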