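import Groth.Statements.S12209
import Mathlib.RingTheory.Flat.EquationalCriterion
import Mathlib.Algebra.Colimit.Ring

set_option autoImplicit false
universe u
open CAlg

namespace Groth.Agent.S12209

/-- Let (R_i) be a system of commutative rings over a nonempty directed preorder, with colimit R, and
let M be an R-module which is flat as an R_i-module for every i (the R_i-module structure being
restriction of scalars along R_i → R). Then M is flat as an R-module. -/
theorem result {ι : Type u} [Preorder ι] [Nonempty ι] [IsDirectedOrder ι]
    (G : ι → Type u) [∀ i, CommRing (G i)] (f : ∀ i j, i ≤ j → G i →+* G j)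
    [DirectedSystem G fun i j h => f i j h]
    (M : Type u) [AddCommGroup M] [Module (Ring.DirectLimit G fun i j h => f i j h) M]
    (hflat : ∀ i, letI : Module (G i) M := Module.compHom M (Ring.DirectLimit.of G (fun i j h => f i j h) i);
      Module.Flat (G i) M) :
    Module.Flat (Ring.DirectLimit G fun i j h => f i j h) M := by
  classical
  refine Module.Flat.of_forall_isTrivialRelation fun {l c x} hcx => ?_
  have hlift : ∀ s : Finset (Fin l), ∃ i, ∃ d : Fin l → G i, ∀ a ∈ s,
      Ring.DirectLimit.of G (fun i j h => f i j h) i (d a) = c a := by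
    intro s
    induction s using Finset.induction_on with
    | empty => exact ⟨Classical.arbitrary ι, 0, by simp⟩
    | insert a s _ ih =>
      obtain ⟨i, d, hd⟩ := ih
      obtain ⟨j, e, he⟩ := Ring.DirectLimit.exists_of (c a)
      obtain ⟨k, hik, hjk⟩ := exists_ge_ge i j
      refine ⟨k, fun b => if b = a then f j k hjk e else f i k hik (d b), fun b hb => ?_⟩
      dsimp only
      by_cases hba : b = a
      · rw [if_pos hba, Ring.DirectLimit.of_f, he, hba]
      · rw [if_neg hba, Ring.DirectLimit.of_f, hd b ((Finset.mem_insert.1 hb).resolve_left hba)]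
  obtain ⟨i, d, hd⟩ := hlift Finset.univ
  let φ := Ring.DirectLimit.of G (fun i j h => f i j h) i
  letI : Module (G i) M := Module.compHom M φ
  haveI : Module.Flat (G i) M := hflat i
  have h0 : ∑ a, d a • x a = 0 := by
    refine Eq.trans (Finset.sum_congr rfl fun a _ => ?_) hcx
    change φ (d a) • x a = _
    rw [hd a (Finset.mem_univ a)]
  obtain ⟨k, a, y, hy, ha⟩ := Module.Flat.isTrivialRelation_of_sum_smul_eq_zero h0
  refine ⟨k, fun p q => φ (a p q), y, fun p => (hy p).trans rfl, fun q => ?_⟩
  have := congrArg φ (ha q)
  rw [map_sum, map_zero] at this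
  refine Eq.trans (Finset.sum_congr rfl fun p _ => ?_) this
  rw [map_mul, hd p (Finset.mem_univ p)]

end Groth.Agent.S12209
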