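
import Groth.Statements.S12210
import Groth.Agent.L22.LocalDim

set_option autoImplicit false
universe u
open CategoryTheory CategoryTheory.Limits AlgebraicGeometry
open Divisors

namespace Groth.Agent.S12210

/-- Let X be locally Noetherian and U an open subscheme whose inclusion is an affine morphism. If ξ is a
point outside U which is maximal under generization among points outside U (a generic point of an
irreducible component of the complement) and ξ lies in the closure of U, then the local ring of X at
ξ has dimension exactly one. (The case X separated and U an affine open is the corresponding special
case, since then the inclusion of U is affine.) -/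
theorem result (X : Scheme.{u}) [IsLocallyNoetherian X]
    (U : X.Opens) [IsAffineHom U.ι] (ξ : X) (hξ : ξ ∉ U) (hgen : ∀ y : X, y ∉ U → y ⤳ ξ → y = ξ)
    (hcl : ξ ∈ closure (U : Set X)) :
    ringKrullDim (X.presheaf.stalk ξ) = 1 := by
  exact le_antisymm (Groth.L22.LocalDim.dim_le_one_of_isAffineHom U hξ hgen)
    (Groth.L22.LocalDim.one_le_dim_of_mem_closure hξ hcl)

end Groth.Agent.S12210
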