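import Groth.Statements.S12212
import Groth.Agent.L01.SamuelLimit
import Groth.Agent.L22.QuotLength
import Mathlib.RingTheory.KrullDimension.NonZeroDivisors

set_option autoImplicit false
universe u
open IntMult

namespace Groth.Agent.S12212

open Groth.L06 Groth.L01.Samuel Groth.L01.SamuelLimit Groth.L22.QuotLength

open scoped nonZeroDivisors

theorem eq_of_dim {A : Type u} [CommRing A] (d : ℕ) (q p : PrimeSpectrum A) (hqp : q ≤ p)
    (hq : ringKrullDim (A ⧸ q.asIdeal) ≤ d) (hp : ringKrullDim (A ⧸ p.asIdeal) = d) : q = p := by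
  by_contra hne
  have hlt : ¬ p.asIdeal ≤ q.asIdeal := fun h => hne (le_antisymm hqp h)
  obtain ⟨x, hxp, hxq⟩ := SetLike.not_le_iff_exists.mp hlt
  let r := Ideal.Quotient.mk q.asIdeal x
  have hr : r ∈ (A ⧸ q.asIdeal)⁰ :=
    mem_nonZeroDivisors_of_ne_zero fun h => hxq (Ideal.Quotient.eq_zero_iff_mem.mp h)
  have h1 := ringKrullDim_quotient_succ_le_of_nonZeroDivisor hr
  have h2 : ringKrullDim (A ⧸ p.asIdeal) ≤ ringKrullDim ((A ⧸ q.asIdeal) ⧸ Ideal.span {r}) :=
    ringKrullDim_le_of_surjective (Ideal.Quotient.lift _ (Ideal.Quotient.factor hqp) fun z hz => by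
      obtain ⟨w, rfl⟩ := Ideal.mem_span_singleton'.mp hz
      rw [map_mul, Ideal.Quotient.factor_mk, Ideal.Quotient.eq_zero_iff_mem.mpr hxp, mul_zero])
      fun z => by
        obtain ⟨z, rfl⟩ := Ideal.Quotient.mk_surjective z
        exact ⟨Ideal.Quotient.mk _ (Ideal.Quotient.mk _ z), rfl⟩
  have h3 := (add_le_add h2 le_rfl).trans (h1.trans hq)
  rw [hp] at h3
  have : d + 1 ≤ d := by exact_mod_cast h3
  omega

/-- the summand -/
noncomputable def summand {A : Type u} [CommRing A] (d : ℕ) (e : PrimeSpectrum A → ℝ) (M : Type u)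
    [AddCommGroup M] [Module A M] (p : PrimeSpectrum A) : ℝ :=
  ∑ᶠ (_ : ringKrullDim (A ⧸ p.asIdeal) = d), ((locLen M p).toNat : ℝ) * e p

theorem main {A : Type u} [CommRing A] [IsNoetherianRing A] [IsLocalRing A] {I : Ideal A} (hI : IsDef I)
    (d : ℕ) (e : PrimeSpectrum A → ℝ)
    (he : ∀ p : PrimeSpectrum A, ringKrullDim (A ⧸ p.asIdeal) = d →
      Filter.Tendsto (fun t : ℕ => (HilbertSamuel.hs I (A ⧸ p.asIdeal) t : ℝ) / (t : ℝ) ^ d) Filter.atTop (nhds (e p)))
    (M : Type u) [AddCommGroup M] [Module A M] [hM : Module.Finite A M] (hd : Module.supportDim A M ≤ d) :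
    (∀ p : PrimeSpectrum A, ringKrullDim (A ⧸ p.asIdeal) = d → locLen M p ≠ ⊤) ∧
    (Function.support (summand d e M)).Finite ∧
    Filter.Tendsto (fun t : ℕ => (HilbertSamuel.hs I M t : ℝ) / (t : ℝ) ^ d) Filter.atTop
      (nhds (∑ᶠ p, summand d e M p)) := by
  classical
  revert hd
  induction hM using IsNoetherianRing.induction_on_isQuotientEquivQuotientPrime A with
  | subsingleton N =>
    intro _
    have h0 : ∀ p : PrimeSpectrum A, locLen N p = 0 := fun p =>
      locLen_eq_zero (by rw [Module.support_eq_empty]; exact Set.notMem_empty p)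
    have hs0 : summand d e N = 0 := funext fun p => by simp [summand, h0]
    refine ⟨fun p _ => by simp [h0], by simp [hs0], ?_⟩
    have hz : ∀ t, HilbertSamuel.hs I N t = 0 := fun t => by
      show (lq (I ^ t) N).toNat = 0
      rw [lq_eq_zero]; rfl
    simp [hz, hs0]
  | quotient N q eq =>
    intro hd
    have hlen : ∀ p : PrimeSpectrum A, locLen N p = locLen (A ⧸ q.asIdeal) p := fun p =>
      le_antisymm (by
        rw [locLen, locLen]
        exact Module.length_le_of_injective (LocalizedModule.map p.asIdeal.primeCompl eq.toLinearMap)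
          (LocalizedModule.map_injective _ _ eq.injective)) (by
        rw [locLen, locLen]
        exact Module.length_le_of_injective (LocalizedModule.map p.asIdeal.primeCompl eq.symm.toLinearMap)
          (LocalizedModule.map_injective _ _ eq.symm.injective))
    have hdq : ringKrullDim (A ⧸ q.asIdeal) ≤ d := by
      rwa [Module.supportDim_eq_of_equiv eq, Module.supportDim_quotient_eq_ringKrullDim] at hd
    have hother : ∀ p : PrimeSpectrum A, p ≠ q → ringKrullDim (A ⧸ p.asIdeal) = d → locLen N p = 0 := fun p hne hp => by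
      rw [hlen]
      refine locLen_eq_zero fun h => hne ?_
      rw [Module.support_eq_zeroLocus, Ideal.annihilator_quotient] at h
      exact (eq_of_dim d q p h hdq hp).symm
    have hq1 : locLen N q = 1 := (hlen q).trans (locLen_quotient q)
    have hsum : ∀ p : PrimeSpectrum A, p ≠ q → summand d e N p = 0 := fun p hne => by
      rw [summand, finsum_eq_if]
      split_ifs with h
      · simp [hother p hne h]
      · rfl
    refine ⟨fun p hp => ?_, (Set.finite_singleton q).subset fun p hp => ?_, ?_⟩
    · by_cases hpq : p = q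
      · rw [hpq, hq1]; exact ENat.one_ne_top
      · simp [hother p hpq hp]
    · exact Set.mem_singleton_iff.mpr (by_contra fun h => hp (hsum p h))
    · rw [finsum_eq_single _ q hsum, summand, finsum_eq_if, hq1]
      have hcong : ∀ t, HilbertSamuel.hs I N t = HilbertSamuel.hs I (A ⧸ q.asIdeal) t := fun t =>
        congrArg ENat.toNat (lq_congr (I ^ t) eq)
      simp only [hcong]
      split_ifs with h
      · simpa using he q h
      · obtain ⟨ε, -, hε, -, hlim⟩ := exists_tendsto (A ⧸ q.asIdeal) hI
          (d := d) (by rwa [Module.supportDim_quotient_eq_ringKrullDim])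
        rwa [hε (by rw [Module.supportDim_quotient_eq_ringKrullDim]; exact lt_of_le_of_ne hdq h)] at hlim
  | exact N₁ N₂ N₃ f g hf hg hfg h₁ h₃ =>
    intro hd
    obtain ⟨t₁, s₁, l₁⟩ := h₁ ((Module.supportDim_le_of_injective f hf).trans hd)
    obtain ⟨t₃, s₃, l₃⟩ := h₃ ((Module.supportDim_le_of_surjective g hg).trans hd)
    have hfun : summand d e N₂ = fun p => summand d e N₁ p + summand d e N₃ p := funext fun p => by
      simp only [summand, finsum_eq_if]
      split_ifs with h
      · rw [locLen_add f g hf hg hfg p, ENat.toNat_add (t₁ p h) (t₃ p h), Nat.cast_add, add_mul]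
      · rw [add_zero]
    refine ⟨fun p h => by simp [locLen_add f g hf hg hfg p, t₁ p h, t₃ p h], ?_, ?_⟩
    · rw [hfun]
      exact (s₁.union s₃).subset (Function.support_add _ _)
    · rw [hfun, finsum_add_distrib s₁ s₃]
      exact tendsto_add hI f g hf hfg.linearMap_ker_eq.symm hg l₁ l₃


/-- Suppose A is a local Noetherian ring with an ideal of definition I, take M to be a finite A-module,
and fix d with dim Supp(M) ≤ d. Then e_I(M, d) equals Σ_p length_{A_p}(M_p) · e_I(A/p, d), where p
ranges over the primes satisfying dim(A/p) = d (all but finitely many summands vanish); here e_I(N,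
d) denotes the limit of d! · length_A(N/I^t N)/t^d, and the formal version says: assuming these
limits e_p exist for the A-modules A/p, the limit attached to M is the sum shown. -/
theorem result (A : Type u) [CommRing A] [IsNoetherianRing A] [IsLocalRing A]
    (I : Ideal A) (hI : I ≤ IsLocalRing.maximalIdeal A ∧ ∃ n : ℕ, IsLocalRing.maximalIdeal A ^ n ≤ I)
    (M : Type u) [AddCommGroup M] [Module A M] [Module.Finite A M]
    (d : ℕ) (hd : Module.supportDim A M ≤ d) (e : PrimeSpectrum A → ℝ)
    (he : ∀ p : PrimeSpectrum A, ringKrullDim (A ⧸ p.asIdeal) = d →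
      Filter.Tendsto (fun t : ℕ => (d.factorial : ℝ) *
        ((Module.length A ((A ⧸ p.asIdeal) ⧸ (I ^ t • (⊤ : Submodule A (A ⧸ p.asIdeal))))).toNat : ℝ) / (t : ℝ) ^ d)
        Filter.atTop (nhds (e p))) :
    Filter.Tendsto (fun t : ℕ => (d.factorial : ℝ) * ((Module.length A (M ⧸ (I ^ t • (⊤ : Submodule A M)))).toNat : ℝ) / (t : ℝ) ^ d) Filter.atTop
      (nhds (∑ᶠ (p : PrimeSpectrum A) (_ : ringKrullDim (A ⧸ p.asIdeal) = d),
        ((Module.length (Localization.AtPrime p.asIdeal) (LocalizedModule p.asIdeal.primeCompl M)).toNat : ℝ) * e p)) := by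
  classical
  obtain ⟨-, hfin, hl⟩ := main hI d (fun p => (d.factorial : ℝ)⁻¹ * e p) (fun p hp => by
    refine ((he p hp).const_mul ((d.factorial : ℝ)⁻¹)).congr fun t => ?_
    show _ = ((Module.length A ((A ⧸ p.asIdeal) ⧸ (I ^ t • (⊤ : Submodule A (A ⧸ p.asIdeal))))).toNat : ℝ) / _
    have : (d.factorial : ℝ) ≠ 0 := by exact_mod_cast d.factorial_ne_zero
    field_simp) M hd
  have h := hl.const_mul (d.factorial : ℝ)
  rw [mul_finsum] at h
  refine Filter.Tendsto.congr (fun t => (mul_div_assoc _ _ _).symm) ?_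
  refine cast (congrArg (fun x => Filter.Tendsto _ Filter.atTop (nhds x)) (finsum_congr fun p => ?_)) h
  rw [summand, finsum_eq_if, finsum_eq_if]
  split_ifs
  · rw [mul_left_comm, ← mul_assoc (d.factorial : ℝ), mul_inv_cancel₀ (by exact_mod_cast d.factorial_ne_zero), one_mul]
    rfl
  · rw [mul_zero]

end Groth.Agent.S12212
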