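import Groth.Statements.S12214
import Groth.Agent.L20.RG.FlatOpenFp

set_option autoImplicit false
universe u
open FlatMor

set_option backward.isDefEq.respectTransparency.types false
namespace Groth.Agent.S12214

/-- Let R → S be a ring map of finite presentation, M a finite S-module, and assume R has finitely many
weakly associated primes. Then for every g ∈ S whose basic open D(g) is contained in the flat locus
U = {q : M_q is flat over R}, the localization M_g is a finitely presented S_g-module which is flat
over R. (Openness of U is the companion statement.) -/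
theorem result {R S : Type u} [CommRing R] [CommRing S] [Algebra R S]
    [Algebra.FinitePresentation R S] (hR : (FlatCA.weakAss R R).Finite)
    (M : Type u) [AddCommGroup M] [Module S M] [Module R M] [IsScalarTower R S M] [Module.Finite S M]
    (g : S) (hg : ∀ (q : Ideal S) [q.IsPrime], g ∉ q → FlatCA.FlatAt R q M) :
    Module.FinitePresentation (Localization.Away g) (LocalizedModule (Submonoid.powers g) M) ∧
      Module.Flat R (LocalizedModule (Submonoid.powers g) M) := by
  classical
  let T := Submonoid.powers g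
  have hflat : Module.Flat R (LocalizedModule T M) :=
    (Groth.L20.RG.flat_away_iff g).mpr fun Q _ hQ => hg Q hQ
  refine ⟨?_, hflat⟩
  obtain ⟨n, π₀, hπ₀⟩ := Module.Finite.exists_fin' S M
  have hloc := fun q : (PrimeSpectrum.basicOpen g : Set (PrimeSpectrum S)) =>
    Groth.L20.RG.exists_fp_flat_away hR M q.1.asIdeal (hg q.1.asIdeal q.2)
  choose a ha hfp _ using hloc
  obtain ⟨s, hs⟩ := (PrimeSpectrum.isCompact_basicOpen g).elim_finite_subcover
    (fun q => (PrimeSpectrum.basicOpen (a q) : Set (PrimeSpectrum S))) (fun q => (PrimeSpectrum.basicOpen (a q)).isOpen)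
    (fun q hq => Set.mem_iUnion.2 ⟨⟨q, hq⟩, ha ⟨q, hq⟩⟩)
  choose F hF hFgen using fun q => Groth.L20.RG.exists_finset_ker π₀ hπ₀ (Submonoid.powers (a q)) (hfp q)
  let K₀ : Submodule S (Fin n → S) := Submodule.span S (s.biUnion F : Set (Fin n → S))
  haveI : Module.FinitePresentation S ((Fin n → S) ⧸ K₀) :=
    Module.finitePresentation_of_surjective K₀.mkQ K₀.mkQ_surjective (by rw [Submodule.ker_mkQ]; exact ⟨s.biUnion F, rfl⟩)
  have hKle : K₀ ≤ LinearMap.ker π₀ := Submodule.span_le.mpr fun x hx => by
    obtain ⟨q, -, hq⟩ := Finset.mem_biUnion.mp hx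
    exact hF q x hq
  let π : ((Fin n → S) ⧸ K₀) →ₗ[S] M := K₀.liftQ π₀ hKle
  have hker : ∀ x, π x = 0 → ∃ k : ℕ, g ^ k • x = 0 := by
    intro x hx
    obtain ⟨v, rfl⟩ := K₀.mkQ_surjective x
    have : g ∈ (K₀.colon ({v} : Set (Fin n → S))).radical := by
      rw [← Ideal.sInf_minimalPrimes]
      refine Submodule.mem_sInf.2 fun P hP => ?_
      by_contra hgP
      obtain ⟨q, hqs, hqP⟩ := Set.mem_iUnion₂.1 (hs (show (⟨P, hP.isPrime⟩ : PrimeSpectrum S) ∈ _ from hgP))
      obtain ⟨_, ⟨k, rfl⟩, hk⟩ := hFgen q v hx
      refine hqP (hP.isPrime.mem_of_pow_mem k (hP.le (Submodule.mem_colon_singleton.mpr ?_)))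
      exact Submodule.span_mono (fun y hy => Finset.mem_biUnion.2 ⟨q, hqs, hy⟩) hk
    obtain ⟨k, hk⟩ := Ideal.mem_radical_iff.1 this
    exact ⟨k, by rw [← map_smul, Submodule.mkQ_apply, Submodule.Quotient.mk_eq_zero]; exact Submodule.mem_colon_singleton.mp hk⟩
  let πT := LocalizedModule.map T π
  have hbij : Function.Bijective πT := by
    refine ⟨(injective_iff_map_eq_zero _).mpr fun y hy => ?_, LocalizedModule.map_surjective T π fun y => ?_⟩
    · induction y using LocalizedModule.induction_on with
      | h x t =>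
        rw [LocalizedModule.map_mk, ← LocalizedModule.zero_mk (S := T) t, LocalizedModule.mk_eq] at hy
        obtain ⟨c, hc⟩ := hy
        simp only [smul_zero, Submonoid.smul_def] at hc
        rw [smul_smul, ← map_smul] at hc
        obtain ⟨k, hk⟩ := hker _ hc
        rw [← LocalizedModule.zero_mk (S := T) t, LocalizedModule.mk_eq]
        refine ⟨⟨g ^ k, k, rfl⟩ * c, ?_⟩
        simp only [smul_zero, Submonoid.smul_def, Submonoid.coe_mul]
        rw [smul_smul, mul_assoc, mul_smul, hk]
    · obtain ⟨v, hv⟩ := hπ₀ y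
      exact ⟨K₀.mkQ v, hv⟩
  exact Module.FinitePresentation.of_equiv (LinearEquiv.ofBijective πT hbij)

end Groth.Agent.S12214
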