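import Groth.Statements.S12215
import Groth.Agent.L15.WeakAss
import Mathlib.AlgebraicGeometry.Modules.Tilde

set_option autoImplicit false
universe u
open CategoryTheory CategoryTheory.Limits AlgebraicGeometry
open Divisors

namespace Groth.Agent.S12215

/-- Let M be a module over a ring A, M~ the associated quasi-coherent module on Spec A and p a prime of
A. Then p is weakly associated to M — p is minimal among the prime ideals containing the annihilator
of some element of M — if and only if the point p of Spec A is weakly associated to M~, i.e. some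
element of the stalk of M~ at p has annihilator whose radical is the maximal ideal of the local
ring. -/
theorem result (A : CommRingCat.{u}) (M : ModuleCat.{u} A) (p : Spec A) :
    p.asIdeal ∈ FlatCA.weakAss A M ↔ Curv2.IsWeakAssPoint (tilde M) p := by
  have hV := isAffineOpen_top (Spec A)
  let φ : Γ(Spec A, ⊤) →+* A := (Scheme.ΓSpecIso A).hom.hom
  have hφ : Function.Surjective φ := fun a => ⟨(Scheme.ΓSpecIso A).inv.hom a,
    ConcreteCategory.congr_hom (Scheme.ΓSpecIso A).inv_hom_id a⟩
  have hp : (hV.primeIdealOf ⟨p, trivial⟩).asIdeal = p.asIdeal.comap φ := by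
    have h1 : hV.fromSpec (hV.primeIdealOf ⟨p, trivial⟩) = p := hV.fromSpec_primeIdealOf _
    rw [IsAffineOpen.fromSpec_top] at h1
    have h2 := congrArg (fun q => (Spec A).isoSpec.hom q) h1
    simp only [← Scheme.Hom.comp_apply, Iso.inv_hom_id] at h2
    replace h2 : hV.primeIdealOf ⟨p, trivial⟩ = (Spec A).isoSpec.hom p := h2
    rw [h2]
    show ((Spec A).toSpecΓ p).asIdeal = _
    rw [← SpecMap_ΓSpecIso_hom]
    rfl
  let τ : M → Γ(tilde M, ⊤) := fun m => (show Γ(tilde M, ⊤) from (tilde.toOpen M ⊤).hom m)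
  have hτ : Function.Bijective τ := ConcreteCategory.bijective_of_isIso (tilde.isoTop M).hom
  have hsmul : ∀ (r : Γ(Spec A, ⊤)) (m : M), r • τ m = τ (φ r • m) := by
    intro r m
    refine Eq.symm ?_
    refine ((tilde.toOpen M ⊤).hom.map_smul (φ r) m).trans ?_
    refine (Scheme.Modules.smul_Spec_def (φ r) _).trans ?_
    refine congrArg (· • τ m) ?_
    have h1 : (Scheme.ΓSpecIso A).inv (φ r) = r :=
      ConcreteCategory.congr_hom (Scheme.ΓSpecIso A).hom_inv_id r
    rw [h1]
    exact ConcreteCategory.congr_hom ((Spec A).presheaf.map_id _) r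
  have hcolon : ∀ m : M, Submodule.colon (⊥ : Submodule Γ(Spec A, ⊤) Γ(tilde M, ⊤)) {τ m} =
      (Submodule.span A {m}).annihilator.comap φ := fun m => by
    ext r
    rw [Groth.L15.WeakAss.mem_colon, hsmul, Ideal.mem_comap, Submodule.mem_annihilator_span_singleton]
    refine ⟨fun h => hτ.1 (h.trans ?_), fun h => ?_⟩
    · exact (map_zero (tilde.toOpen M ⊤).hom).symm
    · rw [h]; exact map_zero (tilde.toOpen M ⊤).hom
  constructor
  · rintro ⟨m, hm⟩
    refine Groth.L15.WeakAss.isWeakAssPoint_of_minimal (tilde M) hV (x := p) trivial (τ m) ?_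
    rw [hp, hcolon, Ideal.comap_minimalPrimes_eq_of_surjective hφ]
    exact ⟨_, hm, rfl⟩
  · intro h
    obtain ⟨n, hn⟩ := Groth.L15.WeakAss.exists_minimal_of_isWeakAssPoint (tilde M) hV (x := p) trivial h
    obtain ⟨m, rfl⟩ := hτ.2 n
    rw [hp, hcolon, Ideal.comap_minimalPrimes_eq_of_surjective hφ] at hn
    obtain ⟨q, hq, hqe⟩ := hn
    refine ⟨m, ?_⟩
    rwa [← Ideal.comap_injective_of_surjective φ hφ hqe]


end Groth.Agent.S12215
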