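import Groth.Statements.S12217
import Groth.Agent.L21.GorensteinSocle
import Groth.Agent.L21.GorensteinAscend
import Groth.Agent.L01.CompletionExt

set_option autoImplicit false
universe u
open Curves

namespace Groth.Agent.S12217

/-- In this form A is the local ring of the curve at the point, and a Gorenstein scheme has Gorenstein
local rings. Let k be an algebraically closed field and A a Gorenstein local ring whose completion
with respect to its maximal ideal is isomorphic to the multicross ring with n ≥ 2 branches, the
subring of (k[[t]])^n consisting of the n-tuples of power series having a common constant term. Then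
n = 2: a Gorenstein multicross singularity is a node. The isomorphism is given as an injective ring
map from the completion to (k[[t]])^n with that subring as its range. -/
theorem result (k : Type u) [Field k] [IsAlgClosed k]
    (A : Type u) [CommRing A] [LocCoh.IsGorensteinLocalRing A] (n : ℕ) (hn : 2 ≤ n)
    (φ : AdicCompletion (IsLocalRing.maximalIdeal A) A →+* (Fin n → PowerSeries k))
    (hinj : Function.Injective φ)
    (hrange : Set.range φ = {f : Fin n → PowerSeries k | ∀ i j : Fin n, PowerSeries.constantCoeff (f i) = PowerSeries.constantCoeff (f j)}) :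
    n = 2 := by
  classical
  by_contra hne
  set R := AdicCompletion (IsLocalRing.maximalIdeal A) A
  haveI : IsNoetherianRing R := Groth.L01.AnalUnram.isNoetherianRing_completion A
  haveI : Module.FaithfullyFlat A R := Groth.L01.CompletionExt.faithfullyFlat A
  haveI : LocCoh.IsGorensteinLocalRing R :=
    Groth.L21.GorensteinAscend.isGorensteinLocalRing_of_map_maximalIdeal A R
      (Groth.L01.AnalUnram.completion_map_maximalIdeal A)
  let i0 : Fin n := ⟨0, by omega⟩
  have mem : ∀ f : Fin n → PowerSeries k, f ∈ Set.range φ ↔
      ∀ i j, PowerSeries.constantCoeff (f i) = PowerSeries.constantCoeff (f j) := fun f => by rw [hrange]; rfl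
  have hcon : ∀ (r : R) (i j : Fin n), PowerSeries.constantCoeff (φ r i) = PowerSeries.constantCoeff (φ r j) :=
    fun r => (mem (φ r)).1 ⟨r, rfl⟩
  have hmax : ∀ r ∈ IsLocalRing.maximalIdeal R, ∀ i, PowerSeries.constantCoeff (φ r i) = 0 := by
    intro r hr i
    by_contra h
    have hu : ∀ j, IsUnit (φ r j) := fun j =>
      PowerSeries.isUnit_iff_constantCoeff.2 (isUnit_iff_ne_zero.2 (by rw [hcon r j i]; exact h))
    choose w hw using fun j => (hu j).exists_right_inv
    obtain ⟨s, hs⟩ := (mem w).2 fun a b => by
      have ha := congrArg (PowerSeries.constantCoeff) (hw a)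
      have hb := congrArg (PowerSeries.constantCoeff) (hw b)
      rw [map_mul, map_one, hcon r a b] at ha
      rw [map_mul, map_one] at hb
      exact mul_left_cancel₀ (by rw [hcon r b i]; exact h) (ha.trans hb.symm)
    refine (IsLocalRing.mem_maximalIdeal r).1 hr (IsUnit.of_mul_eq_one s (hinj ?_))
    rw [map_mul, map_one, hs]
    exact funext hw
  obtain ⟨x, hx⟩ := (mem fun _ => PowerSeries.X).2 fun i j => rfl
  have hxm : x ∈ IsLocalRing.maximalIdeal R := by
    rw [IsLocalRing.mem_maximalIdeal]
    intro h
    have := (h.map φ).map (Pi.evalRingHom (fun _ : Fin n => PowerSeries k) i0)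
    rw [hx] at this
    exact PowerSeries.X_prime.not_isUnit this
  have hxr : x ∈ nonZeroDivisors R := by
    rw [mem_nonZeroDivisors_iff_right]
    intro r hr
    refine hinj (funext fun i => ?_)
    have := congrFun (congrArg φ hr) i
    rw [map_mul, map_zero, Pi.mul_apply, hx, Pi.zero_apply] at this
    rw [map_zero, Pi.zero_apply]
    exact (mul_eq_zero.1 this).resolve_right PowerSeries.X_ne_zero
  have hpick : ∀ i : Fin n, ∃ y : R, φ y = Pi.single i PowerSeries.X ∧
      ∀ r ∈ IsLocalRing.maximalIdeal R, x ∣ r * y := by
    intro i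
    obtain ⟨y, hy⟩ := (mem (Pi.single i PowerSeries.X)).2 fun a b => by
      have : ∀ c, PowerSeries.constantCoeff ((Pi.single i PowerSeries.X : Fin n → PowerSeries k) c) = 0 := fun c => by
        by_cases hc : c = i
        · subst hc; simp
        · simp [hc]
      rw [this, this]
    refine ⟨y, hy, fun r hr => ?_⟩
    obtain ⟨c, hc⟩ := (mem (Pi.single i (φ r i))).2 fun a b => by
      have : ∀ c, PowerSeries.constantCoeff ((Pi.single i (φ r i) : Fin n → PowerSeries k) c) = 0 := fun c => by
        by_cases hc : c = i
        · subst hc; simpa using hmax r hr c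
        · simp [hc]
      rw [this, this]
    refine ⟨c, hinj (funext fun j => ?_)⟩
    rw [map_mul, map_mul, Pi.mul_apply, Pi.mul_apply, hy, hx, hc]
    by_cases hj : j = i
    · subst hj; rw [Pi.single_eq_same, Pi.single_eq_same, mul_comm]
    · rw [Pi.single_eq_of_ne hj, Pi.single_eq_of_ne hj, mul_zero, mul_zero]
  let i1 : Fin n := ⟨1, by omega⟩
  let i2 : Fin n := ⟨2, by omega⟩
  obtain ⟨y, hy, hy'⟩ := hpick i0
  obtain ⟨z, hz, hz'⟩ := hpick i1
  obtain ⟨a, b, hab, c, hc⟩ := Groth.L21.GorensteinSocle.socle_dependent hxm hxr hy' hz'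
  have hc' : ∀ i, φ a i * (Pi.single i0 PowerSeries.X : Fin n → PowerSeries k) i +
      φ b i * (Pi.single i1 PowerSeries.X : Fin n → PowerSeries k) i = PowerSeries.X * φ c i := fun i => by
    have := congrFun (congrArg φ hc) i
    rwa [map_add, map_mul, map_mul, map_mul, Pi.add_apply, Pi.mul_apply, Pi.mul_apply, Pi.mul_apply, hy, hz, hx] at this
  have h20 : i2 ≠ i0 := by simp [i2, i0]
  have h21 : i2 ≠ i1 := by simp [i2, i1]
  have h10 : i1 ≠ i0 := by simp [i1, i0]
  have e2 : φ c i2 = 0 := by
    have := hc' i2
    rw [Pi.single_eq_of_ne h20, Pi.single_eq_of_ne h21, mul_zero, mul_zero, add_zero] at this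
    exact (mul_eq_zero.1 this.symm).resolve_left PowerSeries.X_ne_zero
  have ea : φ a i0 = φ c i0 := by
    have := hc' i0
    rw [Pi.single_eq_same, Pi.single_eq_of_ne h10.symm, mul_zero, add_zero, mul_comm] at this
    exact mul_left_cancel₀ PowerSeries.X_ne_zero this
  have eb : φ b i1 = φ c i1 := by
    have := hc' i1
    rw [Pi.single_eq_same, Pi.single_eq_of_ne h10, mul_zero, zero_add, mul_comm] at this
    exact mul_left_cancel₀ PowerSeries.X_ne_zero this
  have hc0 : ∀ i, PowerSeries.constantCoeff (φ c i) = 0 := fun i => by rw [hcon c i i2, e2, map_zero]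
  rcases hab with h | h
  · have := ((h.map φ).map (Pi.evalRingHom (fun _ : Fin n => PowerSeries k) i0)).map PowerSeries.constantCoeff
    change IsUnit (PowerSeries.constantCoeff (φ a i0)) at this
    rw [ea, hc0] at this
    exact not_isUnit_zero this
  · have := ((h.map φ).map (Pi.evalRingHom (fun _ : Fin n => PowerSeries k) i1)).map PowerSeries.constantCoeff
    change IsUnit (PowerSeries.constantCoeff (φ b i1)) at this
    rw [eb, hc0] at this
    exact not_isUnit_zero this

end Groth.Agent.S12217
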