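import Groth.Statements.S12220
import Groth.Agent.L04.Formal.QuotientLimit

set_option autoImplicit false
universe u
open CategoryTheory
open Dual2

namespace Groth.Agent.S12220

/-- Let A be a Noetherian ring with a dualizing complex, I an ideal with cd(A, I) ≤ d, M a finite
A-module, T ⊆ V(I) a subset stable under specialization, and s ≥ 0, subject to two depth conditions
— (4) for primes p ⊆ r ⊆ q with p ∉ V(I), r ∈ V(I) ∖ T, q ∈ T, either depth(M_p) ≥ s or depth(M_p) +
dim((A/p)_q) > d + s; (6) for q ∈ T and the I-adic completions A', M' of A_q, M_q, depth(M'_{p'}) >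
s for every prime p' of A' not containing IA' with V(p') ∩ V(IA') the closed point. Then for every i
≤ s the inverse system (H^i_T(M/I^nM))_n of local cohomology modules with supports in T satisfies
the Mittag-Leffler condition: for each n the images of H^i_T(M/I^lM) → H^i_T(M/I^nM) are the same
for all large l. -/
theorem result (A : Type u) [CommRing A] [IsNoetherianRing A] (hdc : ∃ ω : Dual.D A, Dual.IsDualizing A ω) (I : Ideal A) (d : ℕ) (hcd : LocCoh.CdLE A I d) (M : Type u) [AddCommGroup M] [Module A M] [Module.Finite A M] (T : Set (PrimeSpectrum A)) (hTI : T ⊆ PrimeSpectrum.zeroLocus (I : Set A)) (hT : StableUnderSpecialization T) (s : ℕ) (h4 : ∀ p r q : PrimeSpectrum A, p ≤ r → r ≤ q → ¬ I ≤ p.asIdeal → I ≤ r.asIdeal → r ∉ T → q ∈ T → (s : ℕ∞) ≤ LocCoh.depth (Localization.AtPrime p.asIdeal) (LocalizedModule p.asIdeal.primeCompl M) ∨ ((d + s : ℕ) : WithBot ℕ∞) < (LocCoh.depth (Localization.AtPrime p.asIdeal) (LocalizedModule p.asIdeal.primeCompl M) : WithBot ℕ∞) + Formal2.dimBetween A p.asIdeal q.asIdeal)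 (h6 : ∀ q : PrimeSpectrum A, q ∈ T → ∀ p' : PrimeSpectrum (AdicCompletion (I.map (algebraMap A (Localization.AtPrime q.asIdeal))) (Localization.AtPrime q.asIdeal)), ¬ (I.map (algebraMap A (AdicCompletion (I.map (algebraMap A (Localization.AtPrime q.asIdeal))) (Localization.AtPrime q.asIdeal)))) ≤ p'.asIdeal → (∀ q' : PrimeSpectrum (AdicCompletion (I.map (algebraMap A (Localization.AtPrime q.asIdeal))) (Localization.AtPrime q.asIdeal)), p' ≤ q' → (I.map (algebraMap A (AdicCompletion (I.map (algebraMap A (Localization.AtPrime q.asIdeal))) (Localization.AtPrime q.asIdeal)))) ≤ q'.asIdeal → q'.asIdeal.IsMaximal) → (s : ℕ∞) < LocCoh.depth (Localization.AtPrime p'.asIdeal) (LocalizedModule p'.asIdeal.primeCompl (AdicCompletion (I.map (algebraMap A (Localization.AtPrime q.asIdeal))) (LocalizedModule q.asIdeal.primeCompl M)))) (i : ℕ) (hi : i ≤ s) (n : ℕ) :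
    ∃ (k : ℕ) (hk : n ≤ k), ∀ (l : ℕ) (hl : k ≤ l),
      Set.range ((localCohomology.ofDiagram (Dual2.idealsInDiagram T) i).map (ModuleCat.ofHom (AdicCompletion.transitionMap I M (hk.trans hl : n ≤ l)))).hom =
        Set.range ((localCohomology.ofDiagram (Dual2.idealsInDiagram T) i).map (ModuleCat.ofHom (AdicCompletion.transitionMap I M hk))).hom := by

    obtain ⟨ω, hω⟩ := hdc
    exact Groth.L04.QuotLim.isML (Groth.L04.QuotLim.pz_of_hyp (Groth.L04.ProZero.hyp_mk hω hcd hTI
        (fun p r q a b c e f g => h4 p r q a b c e f g) (fun q hq => h6 q hq))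
      (i + 1) (Nat.succ_le_succ hi)) n

end Groth.Agent.S12220
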