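import Groth.Statements.S12221
import Groth.Agent.L29.Formal.FlatHatStalk
import Groth.Agent.L29.Formal.GradedLevels

set_option autoImplicit false
set_option backward.isDefEq.respectTransparency false
universe u
open CategoryTheory AlgebraicGeometry Opposite
open Algz

namespace Groth.Agent.S12221

/-- Let A be a Noetherian ring, I ⊆ 𝔞 ideals, U the complement of V(𝔞) in Spec A and (F_n) an object of
Coh(U, IO_U), indexed here from 0. Assume that for some Noetherian local ring R with maximal ideal 𝔪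
and some ring map φ : R → A we have (1) I = 𝔪A, (2) for every point y of U lying in V(I) the
completed stalk F_y^∧ is flat as an R-module (through R → A → O_{U,y} → O_{U,y}^∧), and (3) the
cohomology groups H^0(U, F_0), H^1(U, F_0) are finitely generated over A. Then (F_n) has a canonical
extension to Spec A. -/
theorem result (A : Type u) [CommRing A] [IsNoetherianRing A] (I 𝔞 : Ideal A) (hI𝔞 : I ≤ 𝔞)
    (G : ℕᵒᵖ ⥤ (↑(LocCoh.puncturedOpen A 𝔞) : Scheme.{u}).Modules) (hG : Formal.IsCohFormal I G)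
    (R : Type u) [CommRing R] [IsNoetherianRing R] [IsLocalRing R] (φ : R →+* A)
    (h1 : I = Ideal.map φ (IsLocalRing.maximalIdeal R))
    (h2 : ∀ (y : (↑(LocCoh.puncturedOpen A 𝔞) : Scheme.{u})), (LocCoh.puncturedOpen A 𝔞).ι.base y ∈ PrimeSpectrum.zeroLocus (R := A) I →
      letI : Module R ↥(Algz.hatStalk I G y) := Module.compHom ↥(Algz.hatStalk I G y)
        ((algebraMap ((↑(LocCoh.puncturedOpen A 𝔞) : Scheme.{u}).presheaf.stalk y) (Algz.hatRing I y)).comp ((Algz.toStalk A (↑(LocCoh.puncturedOpen A 𝔞) : Scheme.{u}) y).comp φ));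
      Module.Flat R ↥(Algz.hatStalk I G y))
    (h3 : Module.Finite A (Coh.HH (↑(LocCoh.puncturedOpen A 𝔞) : Scheme.{u}) (G.obj (op 0)) 0) ∧ Module.Finite A (Coh.HH (↑(LocCoh.puncturedOpen A 𝔞) : Scheme.{u}) (G.obj (op 0)) 1)) :
    Algz.CanonicallyExtends A I (LocCoh.puncturedOpen A 𝔞) G := by
  classical
  haveI : IsNoetherianRing (CommRingCat.of A) := ‹IsNoetherianRing A›
  let U := LocCoh.puncturedOpen A 𝔞
  haveI : IsLocallyNoetherian (U : Scheme.{u}) := isLocallyNoetherian_of_isOpenImmersion U.ι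
  obtain ⟨s, hs⟩ := (IsNoetherian.noetherian (IsLocalRing.maximalIdeal R) : (IsLocalRing.maximalIdeal R).FG)
  let a : Fin s.card → A := fun i => φ (s.equivFin.symm i)
  have hI : I = Ideal.span (Set.range a) := by
    rw [h1, ← hs, Ideal.map_span]
    congr 1
    ext x
    constructor
    · rintro ⟨z, hz, rfl⟩
      exact ⟨s.equivFin ⟨z, hz⟩, by simp [a]⟩
    · rintro ⟨i, rfl⟩
      exact ⟨_, (s.equivFin.symm i).2, rfl⟩
  haveI := h3.1
  haveI := h3.2
  refine Groth.L29.Graded.canonicallyExtends hG a hI (Groth.L29.Graded.split_of_isIso hG a hI fun n => ?_)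
  obtain ⟨N, b, hb, hind⟩ := Groth.L29.FlatHat.exists_basis R (n + 1)
  have hbI : ∀ j, φ (b j) ∈ I ^ (n + 1) := fun j => by
    rw [h1, ← Ideal.map_pow]
    exact Ideal.mem_map_of_mem φ (hb ▸ Ideal.subset_span ⟨j, rfl⟩)
  refine ⟨N, fun j => φ (b j), hbI, Groth.L29.Graded.isIso_Qb hG a hI n _ hbI (fun y => ?_) fun y m hm j => ?_⟩
  · refine le_trans (le_of_eq ?_) le_sup_left
    rw [Algz.stalkIdeal, h1, Ideal.map_map, ← Ideal.map_pow, ← hb, Ideal.map_span, ← Set.range_comp]
    rfl
  by_cases hy : U.ι.base y ∈ PrimeSpectrum.zeroLocus (R := A) I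
  · exact Groth.L29.FlatHat.mem_smul_top_of_relation hG a hI y φ h1 (h2 y hy) n N b hind m hm j
  · obtain ⟨c, hc, hcy⟩ := Set.not_subset.1 hy
    have hu : IsUnit (Algz.toStalk A (U : Scheme.{u}) y c) := by
      change IsUnit ((U : Scheme.{u}).presheaf.germ ⊤ y trivial
        (((U : Scheme.{u}) ↘ Spec (CommRingCat.of A)).appTop ((Scheme.ΓSpecIso (CommRingCat.of A)).inv c)))
      rw [← Scheme.mem_basicOpen_top]
      have hpre : ((U : Scheme.{u}) ↘ Spec (CommRingCat.of A)) ⁻¹ᵁ
          ((Spec (CommRingCat.of A)).basicOpen ((Scheme.ΓSpecIso (CommRingCat.of A)).inv c)) =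
          (U : Scheme.{u}).basicOpen _ := Scheme.preimage_basicOpen _ _
      refine hpre.le ?_
      change ((U : Scheme.{u}) ↘ Spec (CommRingCat.of A)) y ∈
        (Spec (CommRingCat.of A)).basicOpen ((Scheme.ΓSpecIso (CommRingCat.of A)).inv c)
      rw [basicOpen_eq_of_affine]
      exact hcy
    rw [Ideal.eq_top_of_isUnit_mem (Algz.stalkIdeal I y) (Ideal.mem_map_of_mem _ hc) hu, Submodule.top_smul]
    trivial

end Groth.Agent.S12221
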