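import Groth.Statements.S12222
import Groth.Agent.L05.Hensel.LocalCriteria

set_option autoImplicit false
universe u
open Hensel

namespace Groth.Agent.S12222

/-- (11) ⇒ (1): let R be a local ring such that every finite-type R-algebra S can be written as a
product A × B with A finite over R and R → B quasi-finite at no prime lying over the maximal ideal —
concretely, S has an idempotent e with S/(1 − e) finite over R and R → S/(e) quasi-finite at no
prime over the maximal ideal. Then R is henselian. -/
theorem result (R : Type u) [CommRing R] [IsLocalRing R]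
    (h : ∀ (S : Type u) [CommRing S] [Algebra R S] [Algebra.FiniteType R S],
      ∃ e : S, IsIdempotentElem e ∧ Module.Finite R (S ⧸ Ideal.span ({1 - e} : Set S)) ∧
        ∀ (q : Ideal (S ⧸ Ideal.span ({e} : Set S))) [q.IsPrime],
          q.LiesOver (IsLocalRing.maximalIdeal R) → ¬ Algebra.QuasiFiniteAt R q) :
    HenselianLocalRing R := by
  refine Groth.L05.henselianLocalRing_of_finiteType_split fun S _ _ _ => ?_
  obtain ⟨e, he, hfin, hqf⟩ := h S
  refine ⟨e, he, hfin, fun q _ heq hover hq => ?_⟩
  set π := Ideal.Quotient.mk (Ideal.span ({e} : Set S))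
  have hle : RingHom.ker π ≤ q := by
    rw [Ideal.mk_ker, Ideal.span_singleton_le_iff_mem]
    exact heq
  have : (q.map π).IsPrime := Ideal.map_isPrime_of_surjective Ideal.Quotient.mk_surjective hle
  have hcomap : (q.map π).comap π = q := by
    rw [Ideal.comap_map_of_surjective _ Ideal.Quotient.mk_surjective, ← RingHom.ker_eq_comap_bot,
      sup_eq_left.mpr hle]
  refine hqf (q.map π) ⟨?_⟩ ?_
  · have : IsLocalRing.maximalIdeal R = q.under R := hover.over
    rw [this, Ideal.under_def, Ideal.under_def]
    conv_lhs => rw [← hcomap]
    rw [Ideal.comap_comap]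
    rfl
  · exact Algebra.QuasiFiniteAt.of_surjectiveOnStalks q (Ideal.Quotient.mkₐ R _)
      (RingHom.surjectiveOnStalks_of_surjective Ideal.Quotient.mk_surjective) _ hcomap.symm

end Groth.Agent.S12222
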