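import Groth.Statements.S12226
import Groth.Agent.S6039
import Groth.Agent.S1575

set_option autoImplicit false
universe u
open CategoryTheory CategoryTheory.Limits AlgebraicGeometry TopologicalSpace
open LocCoh

namespace Groth.Agent.S12226

theorem bijective_map_eq {X : Scheme.{u}} (N : X.Modules) {A B : X.Opens} (h : A = B) (e : B ⟶ A) :
    Function.Bijective (N.presheaf.map e.op) := by
  subst h
  rw [show e = 𝟙 _ from Subsingleton.elim _ _, op_id, N.presheaf.map_id]
  exact Function.bijective_id

theorem bijective_push_restrict_inf {X : Scheme.{u}} (U : X.Opens) (N : (U : Scheme.{u}).Modules) (V : X.Opens) :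
    Function.Bijective (((Coh.push U.ι).obj N).presheaf.map (homOfLE (inf_le_left : V ⊓ U ≤ V)).op) := by
  refine bijective_map_eq N (A := U.ι ⁻¹ᵁ V) (B := U.ι ⁻¹ᵁ (V ⊓ U)) ?_ (homOfLE (fun x hx => hx.1))
  ext x
  exact ⟨fun hx => ⟨hx, x.2⟩, fun hx => hx.1⟩

theorem isIso_unit {X : Scheme.{u}} [IsLocallyNoetherian X] (U : X.Opens) (G : X.Modules) (hG : Coh.IsCoh G)
    (hd : ∀ x : ↥X, x ∉ U → (2 : ℕ∞) ≤ LocCoh.depth (X.presheaf.stalk x) (G.presheaf.stalk x)) :
    IsIso ((Scheme.Modules.restrictAdjunction U.ι).unit.app G) := by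
  rw [Scheme.Modules.Hom.isIso_iff_isIso_app]
  intro V
  rw [Scheme.Modules.restrictAdjunction_unit_app_app, ConcreteCategory.isIso_iff_bijective]
  have h := Groth.Agent.S1575.result X G hG U hd V
  have heq : U.ι ''ᵁ (U.ι ⁻¹ᵁ V) = V ⊓ U := by
    rw [AlgebraicGeometry.Scheme.Hom.image_preimage_eq_opensRange_inf, Scheme.Opens.opensRange_ι, inf_comm]
  have hcomp : (homOfLE (U.ι.image_preimage_le V) : U.ι ''ᵁ (U.ι ⁻¹ᵁ V) ⟶ V) =
      homOfLE heq.le ≫ homOfLE (inf_le_left : V ⊓ U ≤ V) := Subsingleton.elim _ _
  rw [hcomp, op_comp, Functor.map_comp]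
  exact (bijective_map_eq G heq.symm (homOfLE heq.le)).comp h

/-- Let j : U → X be the inclusion of an open subscheme of a Noetherian scheme X and F a coherent
O_X-module such that F' = j_*(F|_U) is coherent. Then (a) for every point x of X outside U the stalk
F'_x has depth at least 2 over O_{X,x}, and (b) F → F' is the unique map with these properties: for
every coherent O_X-module G and every map φ : F → G whose restriction to U is an isomorphism and
such that depth(G_x) ≥ 2 for all x outside U, there is exactly one map ψ : G → F' whose composite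
with φ is the canonical map F → j_*(F|_U), and this ψ is an isomorphism. (The compatibility of this
construction with flat base change is not part of this statement.) -/
theorem result (X : Scheme.{u}) [IsNoetherian X] (U : X.Opens)
    (F : X.Modules) (hF : Coh.IsCoh F) (hF' : Coh.IsCoh ((Coh.push U.ι).obj (F.restrict U.ι))) :
    (∀ x : ↥X, x ∉ U → (2 : ℕ∞) ≤ LocCoh.depth (X.presheaf.stalk x)
        (((Coh.push U.ι).obj (F.restrict U.ι)).presheaf.stalk x)) ∧
    ∀ (G : X.Modules) (hG : Coh.IsCoh G) (φ : F ⟶ G),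
      IsIso ((Scheme.Modules.restrictFunctor U.ι).map φ) →
      (∀ x : ↥X, x ∉ U → (2 : ℕ∞) ≤ LocCoh.depth (X.presheaf.stalk x) (G.presheaf.stalk x)) →
        (∃! ψ : G ⟶ (Coh.push U.ι).obj (F.restrict U.ι),
            φ ≫ ψ = (Scheme.Modules.restrictAdjunction U.ι).unit.app F) ∧
          ∀ ψ : G ⟶ (Coh.push U.ι).obj (F.restrict U.ι),
            φ ≫ ψ = (Scheme.Modules.restrictAdjunction U.ι).unit.app F → IsIso ψ := by

    refine ⟨?_, ?_⟩
    · intro x hx
      exact (Groth.Agent.S6039.result X U ((Coh.push U.ι).obj (F.restrict U.ι)) hF').2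
        (fun V => bijective_push_restrict_inf U (F.restrict U.ι) V) x hx
    · intro G hG φ hφ hd
      let adj := Scheme.Modules.restrictAdjunction U.ι
      have hiff : ∀ ψ : G ⟶ (Coh.push U.ι).obj (F.restrict U.ι), φ ≫ ψ = adj.unit.app F →
          ψ = (adj.homEquiv G _) (inv ((Scheme.Modules.restrictFunctor U.ι).map φ)) := by
        intro ψ h
        rw [← Equiv.symm_apply_eq]
        refine (IsIso.eq_inv_of_hom_inv_id ?_)
        rw [← Adjunction.homEquiv_naturality_left_symm, h]
        exact (adj.homEquiv _ _).injective (by rw [Equiv.apply_symm_apply]; exact (adj.homEquiv_id F).symm)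
      refine ⟨⟨(adj.homEquiv G _) (inv ((Scheme.Modules.restrictFunctor U.ι).map φ)), ?_, hiff⟩, fun ψ h => ?_⟩
      · change φ ≫ _ = adj.unit.app F
        rw [← Adjunction.homEquiv_naturality_left, IsIso.hom_inv_id]
        exact adj.homEquiv_id F
      · rw [hiff ψ h, Adjunction.homEquiv_unit]
        have := isIso_unit U G hG hd
        infer_instance

end Groth.Agent.S12226
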