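import Groth.Statements.S12227
import Mathlib.Algebra.Homology.DerivedCategory.Fractions
-- import your own Groth.Agent.* helpers here

set_option autoImplicit false
universe w v u
open CategoryTheory CategoryTheory.Limits
open CohDer

namespace Groth.Agent.S12227

/-- Full faithfulness of K⁻(A)[Qis⁻¹] → D⁻(A), written in terms of roofs. Let A be an abelian category
and K, L complexes which are zero above some degree, viewed in the homotopy category. Then every
morphism Qh(K) → Qh(L) in the derived category is Qh(s)⁻¹ ≫ Qh(f) for some quasi-isomorphism s : K'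
→ K and map f : K' → L of K(A) with K' again zero above some degree; and two maps f₁, f₂ : K → L of
K(A) become equal in D(A) only if s ≫ f₁ = s ≫ f₂ for some quasi-isomorphism s : K' → K with K' zero
above some degree. (That the kernel of K⁻(A) → D(A) consists of the acyclic complexes and that the
essential image is D⁻(A) are separate statements.) -/
theorem result {A : Type u} [Category.{v} A] [Abelian A] [HasDerivedCategory.{w} A]
    (K L : HomotopyCategory A (ComplexShape.up ℤ)) (a b : ℤ) [CochainComplex.IsStrictlyLE K.as a] [CochainComplex.IsStrictlyLE L.as b] :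
    (∀ φ : DerivedCategory.Qh.obj K ⟶ DerivedCategory.Qh.obj L,
      ∃ (K' : HomotopyCategory A (ComplexShape.up ℤ)) (n : ℤ) (_ : CochainComplex.IsStrictlyLE K'.as n) (s : K' ⟶ K) (f : K' ⟶ L),
        HomotopyCategory.quasiIso A (ComplexShape.up ℤ) s ∧ DerivedCategory.Qh.map s ≫ φ = DerivedCategory.Qh.map f) ∧
    (∀ f₁ f₂ : K ⟶ L, DerivedCategory.Qh.map f₁ = DerivedCategory.Qh.map f₂ →
      ∃ (K' : HomotopyCategory A (ComplexShape.up ℤ)) (n : ℤ) (_ : CochainComplex.IsStrictlyLE K'.as n) (s : K' ⟶ K),
        HomotopyCategory.quasiIso A (ComplexShape.up ℤ) s ∧ s ≫ f₁ = s ≫ f₂) := by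
  classical
  obtain ⟨(K : CochainComplex A ℤ), rfl⟩ := HomotopyCategory.quotient_obj_surjective K
  obtain ⟨(L : CochainComplex A ℤ), rfl⟩ := HomotopyCategory.quotient_obj_surjective L
  have : CochainComplex.IsStrictlyLE K a := ‹CochainComplex.IsStrictlyLE ((HomotopyCategory.quotient _ _).obj K).as a›
  let θ := DerivedCategory.quotientCompQhIso A
  refine ⟨fun φ => ?_, fun f₁ f₂ h => ?_⟩
  · obtain ⟨K', hK', s, hs, g, fac⟩ := DerivedCategory.right_fac_of_isStrictlyLE
      (θ.inv.app K ≫ φ ≫ θ.hom.app L) a
    refine ⟨(HomotopyCategory.quotient _ _).obj K', a, hK', (HomotopyCategory.quotient _ _).map s,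
      (HomotopyCategory.quotient _ _).map g, ?_, ?_⟩
    · rw [HomotopyCategory.quotient_map_mem_quasiIso_iff, HomologicalComplex.mem_quasiIso_iff]
      exact (DerivedCategory.isIso_Q_map_iff_quasiIso (C := A) s).1 hs
    · rw [← cancel_mono (θ.hom.app L), ← cancel_epi (θ.inv.app K')]
      have hs' := θ.hom.naturality s
      have hg' := θ.hom.naturality g
      simp only [Functor.comp_map] at hs' hg'
      erw [hg', Iso.inv_hom_id_app_assoc]
      have h3 : DerivedCategory.Q.map g = DerivedCategory.Q.map s ≫ (θ.inv.app K ≫ φ ≫ θ.hom.app L) := by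
        rw [fac, IsIso.hom_inv_id_assoc]
      rw [h3]
      have hs'' : DerivedCategory.Q.map s ≫ θ.inv.app K = θ.inv.app K' ≫ DerivedCategory.Qh.map ((HomotopyCategory.quotient _ _).map s) :=
        θ.inv.naturality s
      rw [reassoc_of% hs'']
      simp only [Category.assoc]
  · obtain ⟨K₀, s₀, hs₀, heq⟩ := (MorphismProperty.map_eq_iff_precomp DerivedCategory.Qh
      (HomotopyCategory.quasiIso A (ComplexShape.up ℤ)) _ _).1 h
    obtain ⟨(K₀ : CochainComplex A ℤ), rfl⟩ := HomotopyCategory.quotient_obj_surjective K₀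
    obtain ⟨s₀, rfl⟩ := (HomotopyCategory.quotient _ _).map_surjective s₀
    rw [HomotopyCategory.quotient_map_mem_quasiIso_iff, HomologicalComplex.mem_quasiIso_iff] at hs₀
    have : K₀.IsLE a := (HomologicalComplex.isSupported_iff_of_quasiIso s₀ (ComplexShape.embeddingUpIntLE a)).2 inferInstance
    refine ⟨(HomotopyCategory.quotient _ _).obj (K₀.truncLE a), a,
      inferInstanceAs ((K₀.truncLE a).IsStrictlyLE a), (HomotopyCategory.quotient _ _).map (K₀.ιTruncLE a ≫ s₀), ?_, ?_⟩
    · rw [HomotopyCategory.quotient_map_mem_quasiIso_iff, HomologicalComplex.mem_quasiIso_iff]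
      exact inferInstanceAs (QuasiIso (K₀.ιTruncLE a ≫ s₀))
    · rw [Functor.map_comp, Category.assoc, Category.assoc, heq]

end Groth.Agent.S12227
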