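import Groth.Statements.S12228
import Mathlib.Algebra.Homology.DerivedCategory.Fractions
import Mathlib.Algebra.Homology.HomotopyCategory.MappingCocone
import Groth.Agent.L17.AcyclicMap
-- import your own Groth.Agent.* helpers here

set_option autoImplicit false
universe w v u
open CategoryTheory CategoryTheory.Limits
open CohDer

namespace Groth.Agent.S12228

/-- Full faithfulness of Kᵇ(A)[Qis⁻¹] → Dᵇ(A), written in terms of roofs. Let A be an abelian category
and K, L bounded complexes (zero outside a finite range of degrees), viewed in the homotopy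
category. Then every morphism Qh(K) → Qh(L) in the derived category is Qh(f) ≫ Qh(t)⁻¹ for some map
f : K → L' and quasi-isomorphism t : L → L' of K(A) with L' again bounded; and two maps f₁, f₂ : K →
L of K(A) become equal in D(A) only if f₁ ≫ t = f₂ ≫ t for some quasi-isomorphism t : L → L' with L'
bounded. -/
theorem result {A : Type u} [Category.{v} A] [Abelian A] [HasDerivedCategory.{w} A]
    (K L : HomotopyCategory A (ComplexShape.up ℤ)) (a b a' b' : ℤ) [CochainComplex.IsStrictlyGE K.as a] [CochainComplex.IsStrictlyLE K.as b]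
    [CochainComplex.IsStrictlyGE L.as a'] [CochainComplex.IsStrictlyLE L.as b'] :
    (∀ φ : DerivedCategory.Qh.obj K ⟶ DerivedCategory.Qh.obj L,
      ∃ (L' : HomotopyCategory A (ComplexShape.up ℤ)) (m n : ℤ) (_ : CochainComplex.IsStrictlyGE L'.as m) (_ : CochainComplex.IsStrictlyLE L'.as n) (f : K ⟶ L') (t : L ⟶ L'),
        HomotopyCategory.quasiIso A (ComplexShape.up ℤ) t ∧ φ ≫ DerivedCategory.Qh.map t = DerivedCategory.Qh.map f) ∧
    (∀ f₁ f₂ : K ⟶ L, DerivedCategory.Qh.map f₁ = DerivedCategory.Qh.map f₂ →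
      ∃ (L' : HomotopyCategory A (ComplexShape.up ℤ)) (m n : ℤ) (_ : CochainComplex.IsStrictlyGE L'.as m) (_ : CochainComplex.IsStrictlyLE L'.as n) (t : L ⟶ L'),
        HomotopyCategory.quasiIso A (ComplexShape.up ℤ) t ∧ f₁ ≫ t = f₂ ≫ t) := by
  classical
  obtain ⟨(K : CochainComplex A ℤ), rfl⟩ := HomotopyCategory.quotient_obj_surjective K
  obtain ⟨(L : CochainComplex A ℤ), rfl⟩ := HomotopyCategory.quotient_obj_surjective L
  have : CochainComplex.IsStrictlyLE K b := ‹CochainComplex.IsStrictlyLE ((HomotopyCategory.quotient _ _).obj K).as b›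
  have : CochainComplex.IsStrictlyGE L a' := ‹CochainComplex.IsStrictlyGE ((HomotopyCategory.quotient _ _).obj L).as a'›
  have : CochainComplex.IsStrictlyLE L b' := ‹CochainComplex.IsStrictlyLE ((HomotopyCategory.quotient _ _).obj L).as b'›
  let θ := DerivedCategory.quotientCompQhIso A
  have : K.IsStrictlyLE (max b b') := CochainComplex.isStrictlyLE_of_le K b _ (le_max_left _ _)
  have : L.IsStrictlyLE (max b b') := CochainComplex.isStrictlyLE_of_le L b' _ (le_max_right _ _)
  refine ⟨fun φ => ?_, fun f₁ f₂ h => ?_⟩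
  · obtain ⟨L', h1, h2, g, s, hs, fac⟩ := DerivedCategory.left_fac_of_isStrictlyLE_of_isStrictlyGE a' (max b b')
      (θ.inv.app K ≫ φ ≫ θ.hom.app L)
    refine ⟨(HomotopyCategory.quotient _ _).obj L', a', max b b', h1, h2, (HomotopyCategory.quotient _ _).map g,
      (HomotopyCategory.quotient _ _).map s, ?_, ?_⟩
    · rw [HomotopyCategory.quotient_map_mem_quasiIso_iff, HomologicalComplex.mem_quasiIso_iff]
      exact (DerivedCategory.isIso_Q_map_iff_quasiIso (C := A) s).1 hs
    · rw [← cancel_mono (θ.hom.app L'), ← cancel_epi (θ.inv.app K), Category.assoc]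
      have hs' := θ.hom.naturality s
      have hg' := θ.hom.naturality g
      simp only [Functor.comp_map] at hs' hg'
      erw [hs', hg', Iso.inv_hom_id_app_assoc]
      have h3 : DerivedCategory.Q.map g = (θ.inv.app K ≫ φ ≫ θ.hom.app L) ≫ DerivedCategory.Q.map s := by
        rw [fac, Category.assoc, IsIso.inv_hom_id, Category.comp_id]
      rw [h3, Category.assoc, Category.assoc]
  · obtain ⟨d, hd⟩ := (HomotopyCategory.quotient _ _).map_surjective (f₁ - f₂)
    have hd0 : DerivedCategory.Qh.map ((HomotopyCategory.quotient _ _).map d) = DerivedCategory.Qh.map 0 := by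
      rw [hd, Functor.map_sub, h, sub_self, Functor.map_zero]
    obtain ⟨L₀, t₀, ht₀, hdt⟩ := (MorphismProperty.map_eq_iff_postcomp DerivedCategory.Qh
      (HomotopyCategory.quasiIso A (ComplexShape.up ℤ)) _ _).1 hd0
    obtain ⟨(L₀ : CochainComplex A ℤ), rfl⟩ := HomotopyCategory.quotient_obj_surjective L₀
    obtain ⟨t₀, rfl⟩ := (HomotopyCategory.quotient _ _).map_surjective t₀
    rw [zero_comp, ← Functor.map_comp] at hdt
    rw [HomotopyCategory.quotient_map_mem_quasiIso_iff, HomologicalComplex.mem_quasiIso_iff] at ht₀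
    let u : L ⟶ L₀.truncGE a' := t₀ ≫ L₀.πTruncGE a'
    have hu : QuasiIso u := by
      have : L₀.IsGE a' := (HomologicalComplex.isSupported_iff_of_quasiIso t₀ (ComplexShape.embeddingUpIntGE a')).1 inferInstance
      exact inferInstanceAs (QuasiIso (t₀ ≫ L₀.πTruncGE a'))
    have hdu : (HomotopyCategory.quotient _ _).map (d ≫ u) = 0 := by
      rw [← Category.assoc, Functor.map_comp, hdt, zero_comp]
    let n := max b b' + 1
    have : K.IsStrictlyLE n := CochainComplex.isStrictlyLE_of_le K b n (by omega)
    let Tr := (CochainComplex.mappingCone.triangleh u).invRotate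
    have hTr := Pretriangulated.inv_rot_of_distTriang _ (HomotopyCategory.mappingCone_triangleh_distinguished u)
    obtain ⟨e, he⟩ := Pretriangulated.Triangle.coyoneda_exact₂ _ hTr ((HomotopyCategory.quotient _ _).map d)
      ((Functor.map_comp _ _ _).symm.trans hdu)
    let P := (CochainComplex.mappingCone u)⟦(-1 : ℤ)⟧
    let i : (HomotopyCategory.quotient A (ComplexShape.up ℤ)).obj P ≅ Tr.obj₁ :=
      ((HomotopyCategory.quotient A (ComplexShape.up ℤ)).commShiftIso (-1 : ℤ)).app _
    obtain ⟨p, hp⟩ := (HomotopyCategory.quotient _ _).map_surjective (i.hom ≫ Tr.mor₁)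
    obtain ⟨e₀, he₀⟩ := (HomotopyCategory.quotient _ _).map_surjective (e ≫ i.inv)
    have hP : P.IsStrictlyGE a' := (CochainComplex.isStrictlyGE_iff _ _).2 fun j hj =>
      (CochainComplex.mappingCone.isZero_X_iff u _).2
        ⟨L.isZero_of_isStrictlyGE a' (j + -1 + 1) (by omega), (L₀.truncGE a').isZero_of_isStrictlyGE a' (j + -1) (by omega)⟩
    let P' := P.truncLE n
    let e₁ : K ⟶ P' := inv (K.ιTruncLE n) ≫ CochainComplex.truncLEMap e₀ n
    have he₁ : e₁ ≫ P.ιTruncLE n = e₀ := by simp [e₁]
    let p' : P' ⟶ L := P.ιTruncLE n ≫ p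
    have hP' : ∀ j, P'.ExactAt j := by
      have hPex : ∀ j, P.ExactAt j := fun j => by
        rw [HomologicalComplex.exactAt_iff_isZero_homology]
        refine IsZero.of_iso ?_ (((HomologicalComplex.homologyFunctor A (ComplexShape.up ℤ) 0).shiftIso (-1 : ℤ) j (-1 + j) rfl).app _)
        exact (HomologicalComplex.exactAt_iff_isZero_homology _ _).1
          ((Groth.L17.GrothSS.quasiIso_iff_cone u).1 hu (-1 + j))
      intro j
      by_cases hj : j ≤ n
      · have := (CochainComplex.quasiIsoAt_ιTruncLE P n j hj)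
        exact (quasiIsoAt_iff_exactAt' (P.ιTruncLE n) j (hPex j)).1 this
      · exact HomologicalComplex.exactAt_of_isSupported P' (ComplexShape.embeddingUpIntLE n) j
          (fun k hk => hj (by simp at hk; omega))
    refine ⟨(HomotopyCategory.quotient _ _).obj (CochainComplex.mappingCone p'), a' - 1, n,
      ?_, ?_,
        (HomotopyCategory.quotient _ _).map (CochainComplex.mappingCone.inr p'), ?_, ?_⟩
    · refine (CochainComplex.isStrictlyGE_iff _ _).2 fun j hj => (CochainComplex.mappingCone.isZero_X_iff p' j).2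
        ⟨?_, L.isZero_of_isStrictlyGE a' j (by omega)⟩
      exact P'.isZero_of_isStrictlyGE a' (j + 1) (by omega)
    · exact (CochainComplex.isStrictlyLE_iff _ _).2 fun j hj => (CochainComplex.mappingCone.isZero_X_iff p' j).2
        ⟨P'.isZero_of_isStrictlyLE n (j + 1) (by omega), L.isZero_of_isStrictlyLE b' j (by omega)⟩
    · rw [HomotopyCategory.quotient_map_mem_quasiIso_iff, HomologicalComplex.mem_quasiIso_iff]
      have hq : HomotopyCategory.quasiIso A (ComplexShape.up ℤ)
          ((HomotopyCategory.quotient _ _).map (CochainComplex.mappingCone.inr p')) := by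
        rw [HomotopyCategory.quasiIso_eq_trW_subcategoryAcyclic]
        refine ((HomotopyCategory.subcategoryAcyclic A).trW_iff_of_distinguished' _
          (HomotopyCategory.mappingCone_triangleh_distinguished p')).2 ?_
        exact (HomotopyCategory.quotient_obj_mem_subcategoryAcyclic_iff_exactAt _).2 hP'
      rwa [HomotopyCategory.quotient_map_mem_quasiIso_iff, HomologicalComplex.mem_quasiIso_iff] at hq
    · rw [← sub_eq_zero, ← Preadditive.sub_comp, ← hd]
      have e1 : (HomotopyCategory.quotient _ _).map d = (HomotopyCategory.quotient _ _).map (e₁ ≫ p') := by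
        rw [show e₁ ≫ p' = e₀ ≫ p from (Category.assoc _ _ _).symm.trans (congrArg (· ≫ p) he₁)]
        refine he.trans (Eq.trans ?_ ((HomotopyCategory.quotient A (ComplexShape.up ℤ)).map_comp e₀ p).symm)
        refine Eq.trans ?_ (congrArg₂ (· ≫ ·) he₀ hp).symm
        exact (by rw [Category.assoc, Iso.inv_hom_id_assoc] : e ≫ Tr.mor₁ = (e ≫ i.inv) ≫ i.hom ≫ Tr.mor₁)
      rw [e1, Functor.map_comp, Category.assoc]
      have h0 : (HomotopyCategory.quotient A (ComplexShape.up ℤ)).map p' ≫
          (HomotopyCategory.quotient A (ComplexShape.up ℤ)).map (CochainComplex.mappingCone.inr p') = 0 :=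
        Pretriangulated.comp_distTriang_mor_zero₁₂ _ (HomotopyCategory.mappingCone_triangleh_distinguished p')
      exact (congrArg (_ ≫ ·) h0).trans comp_zero

end Groth.Agent.S12228
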