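import Groth.Statements.S12229
import Groth.Agent.L17.RightDerivedPlus
import Mathlib.Algebra.Homology.DerivedCategory.ShortExact
import Mathlib.CategoryTheory.Abelian.Exact

set_option autoImplicit false
universe w w' v v' u u'
open CategoryTheory CategoryTheory.Limits
open CohDer

namespace Groth.Agent.S12229

/-- Let F : C → D be a left exact functor between abelian categories with C having enough injectives,
and let 0 → X₁ → X₂ → X₃ → 0 be a short exact sequence of bounded below complexes of C (maps f, g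
with f a monomorphism, g an epimorphism and ker g = im f, degreewise). Then there is a long exact
cohomology sequence … → H^i(RF X₁) → H^i(RF X₂) → H^i(RF X₃) → H^{i+1}(RF X₁) → …: for every i the
induced sequence is exact at H^i(RF X₂), and there is a connecting morphism H^i(RF X₃) → H^{i+1}(RF
X₁) with exactness at H^i(RF X₃) and at H^{i+1}(RF X₁). Here RF is the right derived functor on the
bounded below derived category and H^i is computed in D(D); exactness is expressed as equality of
kernel and image subobjects. Existence of such a connecting morphism only; the canonical one coming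
from the distinguished triangle of the short exact sequence is not named. -/
theorem result {C : Type u} [Category.{v} C] [Abelian C] [HasDerivedCategory.{w} C]
    [EnoughInjectives C] {D : Type u'} [Category.{v'} D] [Abelian D] [HasDerivedCategory.{w'} D]
    (F : C ⥤ D) [F.Additive] [PreservesFiniteLimits F]
    {X₁ X₂ X₃ : CochainComplex.Plus C} (f : X₁ ⟶ X₂) (g : X₂ ⟶ X₃)
    (hf : Mono ((CochainComplex.Plus.ι C).map f)) (hg : Epi ((CochainComplex.Plus.ι C).map g))
    (hex : kernelSubobject ((CochainComplex.Plus.ι C).map g) = imageSubobject ((CochainComplex.Plus.ι C).map f))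
    (i : ℤ) :
    let Φ := HomotopyCategory.Plus.quotient C ⋙ DerivedCategory.Plus.Qh ⋙ F.rightDerivedFunctorPlus ⋙
      DerivedCategory.Plus.ι ⋙ DerivedCategory.homologyFunctor D i
    let Ψ := HomotopyCategory.Plus.quotient C ⋙ DerivedCategory.Plus.Qh ⋙ F.rightDerivedFunctorPlus ⋙
      DerivedCategory.Plus.ι ⋙ DerivedCategory.homologyFunctor D (i + 1)
    kernelSubobject (Φ.map g) = imageSubobject (Φ.map f) ∧
      ∃ δ : Φ.obj X₃ ⟶ Ψ.obj X₁,
        kernelSubobject δ = imageSubobject (Φ.map g) ∧ kernelSubobject (Ψ.map f) = imageSubobject δ := by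
  open CategoryTheory.Pretriangulated in
  intro Φ Ψ
  have hS : (ShortComplex.mk ((CochainComplex.Plus.ι C).map f) ((CochainComplex.Plus.ι C).map g)
      (by
        have h : imageSubobject ((CochainComplex.Plus.ι C).map f) ≤
            kernelSubobject ((CochainComplex.Plus.ι C).map g) := hex ▸ le_rfl
        rw [← imageSubobject_arrow_comp ((CochainComplex.Plus.ι C).map f),
          ← Subobject.ofLE_arrow h, Category.assoc, Category.assoc,
          kernelSubobject_arrow_comp, comp_zero, comp_zero])).ShortExact :=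
    { exact := (ShortComplex.exact_iff_image_eq_kernel _).2 hex.symm
      mono_f := hf
      epi_g := hg }
  let P : CochainComplex.Plus C ⥤ DerivedCategory.Plus C :=
    HomotopyCategory.Plus.quotient C ⋙ DerivedCategory.Plus.Qh
  let δ : P.obj X₃ ⟶ (P.obj X₁)⟦(1 : ℤ)⟧ :=
    DerivedCategory.Plus.ι.preimage (DerivedCategory.triangleOfSESδ hS ≫
      (DerivedCategory.Plus.ι.commShiftIso (1 : ℤ)).inv.app (P.obj X₁))
  have hd : Triangle.mk (P.map f) (P.map g) δ ∈ distTriang (DerivedCategory.Plus C) := by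
    change DerivedCategory.Plus.ι.mapTriangle.obj (Triangle.mk (P.map f) (P.map g) δ) ∈
      distTriang (DerivedCategory C)
    refine isomorphic_distinguished _ (DerivedCategory.triangleOfSES_distinguished hS) _ ?_
    refine Triangle.isoMk _ _ (Iso.refl _) (Iso.refl _) (Iso.refl _) ?_ ?_ ?_
    · exact (Category.comp_id _).trans (Category.id_comp _).symm
    · exact (Category.comp_id _).trans (Category.id_comp _).symm
    · refine ((congrArg (_ ≫ ·) (CategoryTheory.Functor.map_id _ _)).trans
        (Category.comp_id _)).trans (Eq.trans ?_ (Category.id_comp _).symm)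
      change DerivedCategory.Plus.ι.map δ ≫
        (DerivedCategory.Plus.ι.commShiftIso (1 : ℤ)).hom.app (P.obj X₁) =
        DerivedCategory.triangleOfSESδ hS
      rw [Functor.map_preimage, Category.assoc]
      exact (congrArg (DerivedCategory.triangleOfSESδ hS ≫ ·) (Iso.inv_hom_id_app
        (DerivedCategory.Plus.ι.commShiftIso (1 : ℤ)) (P.obj X₁))).trans (Category.comp_id _)
  let T := (Groth.L17.GrothSS.RK F).mapTriangle.obj (Triangle.mk (P.map f) (P.map g) δ)
  have hT : T ∈ distTriang _ := (Groth.L17.GrothSS.RK F).map_distinguished _ hd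
  let H := HomotopyCategory.homologyFunctor D (.up ℤ) 0
  let eΦ : Φ ≅ P ⋙ Groth.L17.GrothSS.HH F i :=
    Functor.isoWhiskerLeft P (Groth.L17.GrothSS.homologyRightDerivedPlusIso F i)
  let eΨ : Ψ ≅ P ⋙ Groth.L17.GrothSS.HH F (i + 1) :=
    Functor.isoWhiskerLeft P (Groth.L17.GrothSS.homologyRightDerivedPlusIso F (i + 1))
  have nΦ : ∀ {A B : CochainComplex.Plus C} (a : A ⟶ B), eΦ.hom.app A ≫
      (Groth.L17.GrothSS.HH F i).map (P.map a) = Φ.map a ≫ eΦ.hom.app B :=
    fun a => (eΦ.hom.naturality a).symm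
  have h₂ := H.homologySequence_exact₂ T hT i
  have h₃ := H.homologySequence_exact₃ T hT i (i + 1) rfl
  have h₁ := H.homologySequence_exact₁ T hT i (i + 1) rfl
  let δ₀ : (Groth.L17.GrothSS.HH F i).obj (P.obj X₃) ⟶
      (Groth.L17.GrothSS.HH F (i + 1)).obj (P.obj X₁) := H.homologySequenceδ T i (i + 1) rfl
  let δ' : Φ.obj X₃ ⟶ Ψ.obj X₁ := eΦ.hom.app X₃ ≫ δ₀ ≫ eΨ.inv.app X₁
  have hδ : eΦ.hom.app X₃ ≫ δ₀ = δ' ≫ eΨ.hom.app X₁ := by
    simp only [δ', Category.assoc, Iso.inv_hom_id_app]
    exact (congrArg (_ ≫ ·) (Category.comp_id _)).symm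
  have c₂ : ∀ {A B E A' B' E' : D} {a : A ⟶ B} {b : B ⟶ E} {a' : A' ⟶ B'} {b' : B' ⟶ E'}
      {w : a' ≫ b' = 0}, (ShortComplex.mk a' b' w).Exact → ∀ (u : A ≅ A') (v : B ≅ B') (z : E ≅ E'),
      u.hom ≫ a' = a ≫ v.hom → v.hom ≫ b' = b ≫ z.hom →
      kernelSubobject b = imageSubobject a := by
    intro A B E A' B' E' a b a' b' w hexact u v z h h'
    have w' : a ≫ b = 0 := by
      rw [← cancel_mono z.hom, Category.assoc, ← h', ← Category.assoc, ← h, Category.assoc, w,
        comp_zero, zero_comp]
    exact ((ShortComplex.exact_iff_image_eq_kernel (ShortComplex.mk a b w')).1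
      ((ShortComplex.exact_iff_of_iso (ShortComplex.isoMk u v z h h')).2 hexact)).symm
  refine ⟨c₂ h₂ (eΦ.app X₁) (eΦ.app X₂) (eΦ.app X₃) (nΦ f) (nΦ g), δ', ?_, ?_⟩
  · exact c₂ h₃ (eΦ.app X₂) (eΦ.app X₃) (eΨ.app X₁) (nΦ g) hδ
  · exact c₂ h₁ (eΦ.app X₃) (eΨ.app X₁) (eΨ.app X₂) hδ (eΨ.hom.naturality f).symm
end Groth.Agent.S12229
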