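import Groth.Statements.S12231
import Groth.Agent.L20.RG.DevBaseChange

set_option autoImplicit false
set_option linter.style.haveILetI false
set_option backward.isDefEq.respectTransparency.types false
universe u
open TensorProduct
open FlatMor

set_option backward.isDefEq.respectTransparency.types false
namespace Groth.Agent.S12231

/-- All schemes are affine here, as in the ambient rendering of a one-step dévissage. Let R → S be a
ring map of finite type, N a finite S-module, p a prime of R and (C, D, G, n) a one-step dévissage
of N/S/R over p — C a finitely presented quotient of S with a finite C-module G identified with N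
over S, D an R-algebra smooth of relative dimension n with geometrically irreducible fibres and a
finite map D → C over R, n the dimension of the support of the fibre module of N over p. Let R → R'
be a ring map, p' a prime of R' over p, and let S', C', D' be the base changes of S, C, D to R'
(pushout squares, with the R'-algebra maps S' → C' ← D' induced from S → C ← D) and N' = N ⊗_S S',
G' = G ⊗_C C' (base-change maps f, g). Then (C', D', G', n) is a one-step dévissage of N'/S'/R' over
p'. -/
theorem result
    (R S : Type u) [CommRing R] [CommRing S] [Algebra R S] [Algebra.FiniteType R S]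
    (N : Type u) [AddCommGroup N] [Module S N] [Module R N] [IsScalarTower R S N] [Module.Finite S N]
    (p : Ideal R) [p.IsPrime]
    (C D G : Type u) [CommRing C] [CommRing D] [Algebra S C] [Algebra R C] [IsScalarTower R S C]
    [Algebra R D] [Algebra D C] [IsScalarTower R D C] [AddCommGroup G] [Module C G] [Module S G]
    [IsScalarTower S C G] (n : ℕ)
    (h : FlatCA.IsOneStepDevissage R S N p C D G n)
    (R' : Type u) [CommRing R'] [Algebra R R'] (p' : Ideal R') [p'.IsPrime] [p'.LiesOver p]
    (S' C' D' : Type u) [CommRing S'] [CommRing C'] [CommRing D']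
    [Algebra R' S'] [Algebra R S'] [Algebra S S'] [IsScalarTower R R' S'] [IsScalarTower R S S']
    [Algebra.IsPushout R R' S S']
    [Algebra R' C'] [Algebra R C'] [Algebra C C'] [IsScalarTower R R' C'] [IsScalarTower R C C']
    [Algebra.IsPushout R R' C C']
    [Algebra R' D'] [Algebra R D'] [Algebra D D'] [IsScalarTower R R' D'] [IsScalarTower R D D']
    [Algebra.IsPushout R R' D D']
    [Algebra S' C'] [IsScalarTower R' S' C'] [Algebra S C'] [IsScalarTower S S' C'] [IsScalarTower S C C']
    [Algebra D' C'] [IsScalarTower R' D' C'] [Algebra D C'] [IsScalarTower D D' C'] [IsScalarTower D C C']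
    (N' : Type u) [AddCommGroup N'] [Module S' N'] [Module R' N'] [IsScalarTower R' S' N']
    [Module S N'] [IsScalarTower S S' N'] (f : N →ₗ[S] N') (hf : IsBaseChange S' f)
    (G' : Type u) [AddCommGroup G'] [Module C' G'] [Module S' G'] [IsScalarTower S' C' G']
    [Module C G'] [IsScalarTower C C' G'] (g : G →ₗ[C] G') (hg : IsBaseChange C' g) :
    FlatCA.IsOneStepDevissage R' S' N' p' C' D' G' n := by
  obtain ⟨⟨e⟩, hsurj, hfp, hDC, hCG, hn, hirr, hdim⟩ := h
  haveI := hfp
  haveI := hDC
  haveI := hCG
  haveI : IsScalarTower R S' C' := IsScalarTower.of_algebraMap_eq fun r => by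
    rw [IsScalarTower.algebraMap_apply R R' S', ← IsScalarTower.algebraMap_apply R' S' C', ← IsScalarTower.algebraMap_apply R R' C']
  haveI : IsScalarTower R D' C' := IsScalarTower.of_algebraMap_eq fun r => by
    rw [IsScalarTower.algebraMap_apply R R' D', ← IsScalarTower.algebraMap_apply R' D' C', ← IsScalarTower.algebraMap_apply R R' C']
  haveI : Algebra.IsPushout S S' C C' := by
    haveI : Algebra.IsPushout R S R' S' := Algebra.IsPushout.symm inferInstance
    haveI : IsScalarTower R C C' := inferInstance
    exact Algebra.IsPushout.symm ((Algebra.IsPushout.comp_iff R S R' S').mp (Algebra.IsPushout.symm inferInstance))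
  haveI : Algebra.IsPushout D D' C C' := by
    haveI : Algebra.IsPushout R D R' D' := Algebra.IsPushout.symm inferInstance
    exact Algebra.IsPushout.symm ((Algebra.IsPushout.comp_iff R D R' D').mp (Algebra.IsPushout.symm inferInstance))
  have hb : IsBaseChange S' ((TensorProduct.mk C C' G 1).restrictScalars S) :=
    haveI : Algebra.IsPushout S C S' C' := Algebra.IsPushout.symm inferInstance
    Groth.L20.RG.isBaseChange_mk_of_isPushout (A := S) (D := C) S' C' G
  haveI := Groth.L20.RG.smooth_of_relDim hn
  have hn' : FlatCA.SmoothRelDim n R' D' := Groth.L20.RG.smoothRelDim_baseChange hn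
  haveI := Groth.L20.RG.smooth_of_relDim hn'
  refine ⟨⟨hf.equiv.symm ≪≫ₗ (e.baseChange S S' _ _) ≪≫ₗ hb.equiv ≪≫ₗ hg.equiv.restrictScalars S'⟩, ?_, ?_, ?_, ?_,
    hn', ?_, (Groth.L20.RG.supportDim_fiberMod_baseChange (R := R) p' p hf).trans hdim⟩
  · intro a
    induction a using (Algebra.IsPushout.out : IsBaseChange S' (IsScalarTower.toAlgHom S C C').toLinearMap).inductionOn with
    | zero => exact ⟨0, map_zero _⟩
    | tmul a =>
      obtain ⟨s, rfl⟩ := hsurj a
      exact ⟨algebraMap S S' s, by
        show _ = algebraMap C C' (algebraMap S C s)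
        rw [← IsScalarTower.algebraMap_apply, ← IsScalarTower.algebraMap_apply]⟩
    | smul s a ha =>
      obtain ⟨t, ht⟩ := ha
      exact ⟨s * t, by rw [map_mul, ht, Algebra.smul_def]⟩
    | add a b ha hb =>
      obtain ⟨t, ht⟩ := ha
      obtain ⟨t', ht'⟩ := hb
      exact ⟨t + t', by rw [map_add, ht, ht']⟩
  · exact Algebra.FinitePresentation.equiv (Algebra.IsPushout.equiv S S' C C')
  · exact Module.Finite.equiv (Algebra.IsPushout.equiv D D' C C').toLinearEquiv
  · exact Module.Finite.equiv hg.equiv
  · exact Groth.L20.RG.geomIrredFibres_of_domFib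
      ((Groth.L20.RG.DomFib.of_smooth_geomIrredFibres hirr).of_isPushout R' D')

end Groth.Agent.S12231
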