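import Groth.Statements.S12233
import Groth.Agent.L20.LocalCriterion
import Mathlib.RingTheory.IsTensorProduct
import Mathlib.RingTheory.Localization.BaseChange
import Mathlib.RingTheory.Flat.Localization

set_option autoImplicit false
universe u
open scoped TensorProduct
open CAlg

namespace Groth.Agent.S12233

open TensorProduct LinearMap

set_option maxHeartbeats 1000000
set_option synthInstance.maxHeartbeats 200000

/-- If `M/IM` is flat over `R/I`, the kernel of `N ⊗ I ⊗ M → N ⊗ M` is generated by the kernels of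
`I ⊗ M → M` and of `N ⊗ I → N`. -/
lemma kernel_generation {R : Type u} [CommRing R] (I : Ideal R)
    {M : Type u} [AddCommGroup M] [Module R M] [Module.Flat (R ⧸ I) ((R ⧸ I) ⊗[R] M)]
    {N : Type u} [AddCommGroup N] [Module R N] {Z : Type u} [AddCommGroup Z] [Module R Z]
    (Φ : N ⊗[R] (↥I ⊗[R] M) →ₗ[R] Z)
    (hK : ∀ z, (TensorProduct.lid R M) (I.subtype.rTensor M z) = 0 → ∀ n : N, Φ (n ⊗ₜ[R] z) = 0)
    (hN : ∀ t : N ⊗[R] ↥I, (TensorProduct.rid R N) (I.subtype.lTensor N t) = 0 →
      ∀ m : M, Φ ((TensorProduct.assoc R N ↥I M) (t ⊗ₜ[R] m)) = 0)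
    (k : N ⊗[R] (↥I ⊗[R] M))
    (hk : (((TensorProduct.lid R M).toLinearMap ∘ₗ I.subtype.rTensor M).lTensor N) k = 0) :
    Φ k = 0 := by
  classical
  set μ : ↥I ⊗[R] M →ₗ[R] M := (TensorProduct.lid R M).toLinearMap ∘ₗ I.subtype.rTensor M with hμ
  set π : (N →₀ R) →ₗ[R] N := Finsupp.linearCombination R id with hπdef
  have hπ : Function.Surjective π := fun n => ⟨Finsupp.single n 1, by simp [π]⟩
  set L : Submodule R (N →₀ R) := LinearMap.ker π with hL
  set G := LinearMap.range ((TensorProduct.rid R (N →₀ R)).toLinearMap ∘ₗ I.subtype.lTensor (N →₀ R))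
    with hG
  have hexL : Function.Exact L.subtype π := LinearMap.exact_subtype_ker_map π
  obtain ⟨khat, rfl⟩ := LinearMap.rTensor_surjective (↥I ⊗[R] M) hπ k
  have h1 : π.rTensor M (μ.lTensor (N →₀ R) khat) = 0 := by
    rw [← hk, ← comp_apply, ← comp_apply, rTensor_comp_lTensor, lTensor_comp_rTensor]
  obtain ⟨l, hl⟩ := ((rTensor_exact (M := ↥(LinearMap.ker π)) M hexL hπ) _).mp h1
  set q : L →ₗ[R] (N →₀ R) ⧸ G := G.mkQ ∘ₗ L.subtype with hq
  have hGkill : ∀ a ∈ I, ∀ x : (N →₀ R) ⧸ G, a • x = 0 := by
    intro a ha x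
    obtain ⟨x, rfl⟩ := G.mkQ_surjective x
    rw [← map_smul, Submodule.mkQ_apply, Submodule.Quotient.mk_eq_zero]
    exact ⟨x ⊗ₜ[R] (⟨a, ha⟩ : I), by simp⟩
  have hGμ : ∀ x, (G.mkQ).rTensor M (μ.lTensor (N →₀ R) x) = 0 := by
    intro x
    induction x using TensorProduct.induction_on with
    | zero => simp
    | add a b ha hb => rw [map_add, map_add, ha, hb, add_zero]
    | tmul n z =>
      induction z using TensorProduct.induction_on with
      | zero => simp
      | add a b ha hb => rw [tmul_add, map_add, map_add, ha, hb, add_zero]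
      | tmul i m =>
        show G.mkQ n ⊗ₜ[R] ((i : R) • m) = 0
        rw [← smul_tmul, hGkill i i.2, zero_tmul]
  have h2 : q.rangeRestrict.rTensor M l = 0 := by
    apply Groth.L20.rTensor_injective_of_killed (M := M) I hGkill
      (LinearMap.range q).subtype Subtype.val_injective
    rw [map_zero, ← rTensor_comp_apply,
      show (LinearMap.range q).subtype ∘ₗ q.rangeRestrict = q from rfl,
      hq, rTensor_comp_apply, hl, hGμ]
  set incl : ↥(L ⊓ G) →ₗ[R] ↥L := Submodule.inclusion inf_le_left with hincl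
  have hexq : Function.Exact incl q.rangeRestrict := by
    intro x
    have hx : q.rangeRestrict x = 0 ↔ (x : N →₀ R) ∈ G := by
      rw [← Submodule.Quotient.mk_eq_zero G, ← Subtype.val_inj]
      rfl
    rw [hx]
    exact ⟨fun h => ⟨⟨x, x.2, h⟩, rfl⟩, fun ⟨y, hy⟩ => hy ▸ y.2.2⟩
  obtain ⟨a, rfl⟩ := (rTensor_exact (M := ↥(L ⊓ G)) (N := ↥L) M hexq
    (surjective_rangeRestrict q) _).mp h2
  -- `a` lifts to a tensor killed by `Φ`
  have key : ∀ a : ↥(L ⊓ G) ⊗[R] M, ∃ d : (N →₀ R) ⊗[R] (↥I ⊗[R] M),
      μ.lTensor (N →₀ R) d = L.subtype.rTensor M (incl.rTensor M a) ∧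
      Φ (π.rTensor _ d) = 0 := by
    intro a
    induction a using TensorProduct.induction_on with
    | zero => exact ⟨0, by simp⟩
    | add x y hx hy =>
      obtain ⟨d, hd, hd'⟩ := hx
      obtain ⟨e, he, he'⟩ := hy
      exact ⟨d + e, by simp [hd, he], by simp [hd', he']⟩
    | tmul li m =>
      have hli : (li : N →₀ R) ∈ G := li.2.2
      obtain ⟨c, hc⟩ := hli
      refine ⟨(TensorProduct.assoc R (N →₀ R) ↥I M) (c ⊗ₜ[R] m), ?_, ?_⟩
      · rw [rTensor_tmul, rTensor_tmul]
        show _ = (li : N →₀ R) ⊗ₜ[R] m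
        rw [← hc]
        clear hc
        induction c using TensorProduct.induction_on with
        | zero => simp
        | add x y hx hy => simp only [add_tmul, map_add, hx, hy]
        | tmul n i =>
          simp [μ, smul_tmul]
      · have : π.rTensor (↥I ⊗[R] M) ((TensorProduct.assoc R (N →₀ R) ↥I M) (c ⊗ₜ[R] m)) =
            (TensorProduct.assoc R N ↥I M) ((π.rTensor ↥I c) ⊗ₜ[R] m) := by
          clear hc
          induction c using TensorProduct.induction_on with
          | zero => simp
          | add x y hx hy => simp only [add_tmul, map_add, hx, hy]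
          | tmul n i => simp
        rw [this]
        clear this
        apply hN
        have : (TensorProduct.rid R N) (I.subtype.lTensor N (π.rTensor ↥I c)) =
            π ((TensorProduct.rid R (N →₀ R)) (I.subtype.lTensor (N →₀ R) c)) := by
          clear hc
          induction c using TensorProduct.induction_on with
          | zero => simp
          | add x y hx hy => simp only [map_add, hx, hy]
          | tmul n i => simp
        rw [this]
        rw [show (TensorProduct.rid R (N →₀ R)) (I.subtype.lTensor (N →₀ R) c) = (li : N →₀ R)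
          from hc]
        exact li.2.1
  obtain ⟨d, hd, hd'⟩ := key a
  have hdiff : μ.lTensor (N →₀ R) (khat - d) = 0 := by
    rw [map_sub, hd, ← hl, sub_self]
  obtain ⟨w, hw⟩ := (Module.Flat.lTensor_exact (N := ↥(LinearMap.ker μ)) (N →₀ R) (LinearMap.exact_subtype_ker_map μ) _).mp hdiff
  have hk' : khat = d + (LinearMap.ker μ).subtype.lTensor (N →₀ R) w := by
    rw [hw]; abel
  rw [hk', map_add, map_add, hd', zero_add]
  clear hw hk'
  induction w using TensorProduct.induction_on with
  | zero => simp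
  | add x y hx hy => rw [map_add, map_add, map_add, hx, hy, add_zero]
  | tmul n z =>
    rw [lTensor_tmul, rTensor_tmul]
    exact hK z.1 z.2 _

/-- Tensoring with a flat module: the kernel is generated by the kernel. -/
lemma eq_zero_of_ker_tmul {T A X Y : Type u} [CommRing T] [AddCommGroup A] [Module T A]
    [Module.Flat T A] [AddCommGroup X] [Module T X] [AddCommGroup Y] [Module T Y] (u : X →ₗ[T] Y)
    (h : ∀ k, u k = 0 → ∀ s : A, s ⊗ₜ[T] k = 0) (z : A ⊗[T] X) (hz : u.lTensor A z = 0) : z = 0 := by
  obtain ⟨w, rfl⟩ := (Module.Flat.lTensor_exact (N := ↥(LinearMap.ker u)) A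
    (LinearMap.exact_subtype_ker_map u) z).mp hz
  clear hz
  induction w using TensorProduct.induction_on with
  | zero => simp
  | add x y hx hy => rw [map_add, hx, hy, add_zero]
  | tmul s k => exact h k.1 k.2 s

section Transfer

variable {R S R' S' : Type u} [CommRing R] [CommRing S] [CommRing R'] [CommRing S']
  [Algebra R S] [Algebra R R'] [Algebra S S'] [Algebra R' S'] [Algebra R S']
  [IsScalarTower R S S'] [IsScalarTower R R' S']
  [Algebra (S ⊗[R] R') S'] [IsScalarTower S (S ⊗[R] R') S']

attribute [local instance] Algebra.TensorProduct.rightAlgebra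

variable [IsScalarTower R' (S ⊗[R] R') S']
  {M M' : Type u} [AddCommGroup M] [Module S M] [Module R M] [IsScalarTower R S M]
  [AddCommGroup M'] [Module S' M'] [Module R' M'] [IsScalarTower R' S' M']
  [Module S M'] [IsScalarTower S S' M'] [Module R M'] [IsScalarTower R R' M']
  [IsScalarTower R S M'] (f : M →ₗ[S] M') (hf : IsBaseChange S' f)

variable (R R') in
/-- `P = (S ⊗ R') ⊗_S M` is `R' ⊗_R M`. -/
noncomputable def e0 : (S ⊗[R] R') ⊗[S] M ≃ₗ[R'] R' ⊗[R] M :=
  Algebra.IsPushout.cancelBaseChange R R' S (S ⊗[R] R') M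

variable (R R') in
/-- `S' ⊗_T P` is `M'`. -/
noncomputable def e1 : S' ⊗[S ⊗[R] R'] ((S ⊗[R] R') ⊗[S] M) ≃ₗ[S'] M' :=
  (AlgebraTensorModule.cancelBaseChange S (S ⊗[R] R') S' S' M) ≪≫ₗ hf.equiv

variable (R R') in
/-- The comparison of `M' ⊗ N` with `S' ⊗_T (P ⊗ N)`. -/
noncomputable def bigE (N : Type u) [AddCommGroup N] [Module R' N] :
    S' ⊗[S ⊗[R] R'] (((S ⊗[R] R') ⊗[S] M) ⊗[R'] N) ≃ₗ[S'] M' ⊗[R'] N :=
  (AlgebraTensorModule.assoc R' (S ⊗[R] R') S' S' ((S ⊗[R] R') ⊗[S] M) N).symm ≪≫ₗ
    AlgebraTensorModule.congr (e1 R R' f hf) (LinearEquiv.refl R' N)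

lemma bigE_tmul (N : Type u) [AddCommGroup N] [Module R' N] (m : M) (n : N) :
    bigE R R' f hf N (1 ⊗ₜ (((1 : S ⊗[R] R') ⊗ₜ[S] m) ⊗ₜ[R'] n)) = f m ⊗ₜ[R'] n := by
  simp [bigE, e1, hf.equiv_tmul]

variable (R R' S M) in
/-- `P ⊗ N` is `N ⊗_R M`. -/
noncomputable def theta (N : Type u) [AddCommGroup N] [Module R' N] [Module R N]
    [IsScalarTower R R' N] : ((S ⊗[R] R') ⊗[S] M) ⊗[R'] N ≃ₗ[R'] N ⊗[R] M :=
  TensorProduct.congr (e0 R R') (LinearEquiv.refl R' N) ≪≫ₗ TensorProduct.comm R' _ _ ≪≫ₗ
    AlgebraTensorModule.cancelBaseChange R R' R' N M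

lemma theta_tmul (N : Type u) [AddCommGroup N] [Module R' N] [Module R N]
    [IsScalarTower R R' N] (m : M) (n : N) :
    theta R S R' M N (((1 : S ⊗[R] R') ⊗ₜ[S] m) ⊗ₜ[R'] n) = n ⊗ₜ[R] m := by
  simp [theta, e0]

lemma theta_natural {N N' : Type u} [AddCommGroup N] [Module R' N] [Module R N]
    [IsScalarTower R R' N] [AddCommGroup N'] [Module R' N'] [Module R N']
    [IsScalarTower R R' N'] (v : N →ₗ[R'] N') (x : ((S ⊗[R] R') ⊗[S] M) ⊗[R'] N) :
    theta R S R' M N' (v.lTensor _ x) = (v.restrictScalars R).rTensor M (theta R S R' M N x) := by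
  induction x using TensorProduct.induction_on with
  | zero => simp
  | add x y hx hy => simp only [map_add, hx, hy]
  | tmul p n =>
    obtain ⟨y, rfl⟩ := (e0 R R').symm.surjective p
    simp only [theta, LinearEquiv.trans_apply, lTensor_tmul, congr_tmul, LinearEquiv.apply_symm_apply,
      LinearEquiv.refl_apply, comm_tmul]
    induction y using TensorProduct.induction_on with
    | zero => simp
    | add x y hx hy => simp only [tmul_add, map_add, hx, hy]
    | tmul r m => simp

lemma bigE_natural {N N' : Type u} [AddCommGroup N] [Module R' N] [AddCommGroup N'] [Module R' N']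
    (v : N →ₗ[R'] N') (z : S' ⊗[S ⊗[R] R'] (((S ⊗[R] R') ⊗[S] M) ⊗[R'] N)) :
    v.lTensor M' (bigE R R' f hf N z) = bigE R R' f hf N'
      ((AlgebraTensorModule.lTensor (S ⊗[R] R') ((S ⊗[R] R') ⊗[S] M) v).lTensor S' z) := by
  induction z using TensorProduct.induction_on with
  | zero => simp
  | add x y hx hy => simp only [map_add, hx, hy]
  | tmul s y =>
    induction y using TensorProduct.induction_on with
    | zero => simp
    | add x y hx hy => simp only [tmul_add, map_add, hx, hy]
    | tmul p n => simp [bigE]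

lemma lTensor_injective_of_killed (hS' : Module.Flat (S ⊗[R] R') S') (I : Ideal R)
    [Module.Flat (R ⧸ I) ((R ⧸ I) ⊗[R] M)]
    {N N' : Type u} [AddCommGroup N] [Module R' N] [AddCommGroup N'] [Module R' N']
    (hN' : ∀ a ∈ I, ∀ x : N', algebraMap R R' a • x = 0)
    (v : N →ₗ[R'] N') (hv : Function.Injective v) (hfv : IsBaseChange S' f) :
    Function.Injective (v.lTensor M') := by
  letI : Module R N := Module.compHom N (algebraMap R R')
  letI : Module R N' := Module.compHom N' (algebraMap R R')
  haveI : IsScalarTower R R' N := IsScalarTower.of_algebraMap_smul fun _ _ => rfl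
  haveI : IsScalarTower R R' N' := IsScalarTower.of_algebraMap_smul fun _ _ => rfl
  have h0 : Function.Injective ((v.restrictScalars R).rTensor M) :=
    Groth.L20.rTensor_injective_of_killed (M := M) I (fun a ha x => hN' a ha x) _ hv
  have h1 : Function.Injective
      (AlgebraTensorModule.lTensor (S ⊗[R] R') ((S ⊗[R] R') ⊗[S] M) v) := by
    intro x y hxy
    apply (theta R S R' M N).injective
    apply h0
    have hxy' : v.lTensor _ x = v.lTensor _ y := hxy
    rw [← theta_natural, ← theta_natural, hxy']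
  intro x y hxy
  obtain ⟨x, rfl⟩ := (bigE R R' f hfv N).surjective x
  obtain ⟨y, rfl⟩ := (bigE R R' f hfv N).surjective y
  rw [bigE_natural, bigE_natural] at hxy
  rw [Module.Flat.lTensor_preserves_injective_linearMap _ h1
    ((bigE R R' f hfv N').injective hxy)]

lemma key_injective (hS' : Module.Flat (S ⊗[R] R') S') (I : Ideal R)
    [Module.Flat (R ⧸ I) ((R ⧸ I) ⊗[R] M)] (hfv : IsBaseChange S' f)
    (h3 : ∀ x : ↥I ⊗[R] M, (Submodule.subtype I).rTensor M x = 0 →
      (TensorProduct.mapOfCompatibleSMul R' R R ↥(I.map (algebraMap R R')) M')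
        ((TensorProduct.map (Algebra.idealMap R' I) (f.restrictScalars R)) x) = 0) :
    Function.Injective ((I.map (algebraMap R R')).subtype.lTensor M') := by
  set I' := I.map (algebraMap R R') with hI'
  set uT := AlgebraTensorModule.lTensor (S ⊗[R] R') ((S ⊗[R] R') ⊗[S] M) I'.subtype with huT
  rw [injective_iff_map_eq_zero]
  intro z hz
  obtain ⟨z, rfl⟩ := (bigE R R' f hfv I').surjective z
  rw [bigE_natural, LinearEquiv.map_eq_zero_iff] at hz
  rw [LinearEquiv.map_eq_zero_iff]
  have h9 := eq_zero_of_ker_tmul (T := S ⊗[R] R') (A := S') (X := ((S ⊗[R] R') ⊗[S] M) ⊗[R'] ↥I') (Y := ((S ⊗[R] R') ⊗[S] M) ⊗[R'] R') uT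
  refine h9 (fun k hk => ?_) z hz
  clear h9
  suffices h : ∀ k, uT k = 0 → (1 : S') ⊗ₜ[S ⊗[R] R'] k = (0 : S' ⊗[S ⊗[R] R']
      (((S ⊗[R] R') ⊗[S] M) ⊗[R'] I')) by
    intro s
    rw [← mul_one s, ← smul_eq_mul, ← smul_tmul', h k hk, smul_zero]
  clear hk k
  intro k hk
  apply (bigE R R' f hfv I').injective
  rw [map_zero]
  -- `J : I' ⊗_R M → M' ⊗ I'`
  set J : ↥I' ⊗[R] M →ₗ[R] M' ⊗[R'] ↥I' :=
    TensorProduct.lift (LinearMap.mk₂ R (fun i m => f m ⊗ₜ[R'] i)
      (fun i i' m => tmul_add _ _ _) (fun a i m => tmul_smul _ _ _)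
      (fun i m m' => by simp only [map_add, add_tmul])
      (fun a i m => by
        show f (a • m) ⊗ₜ[R'] i = a • (f m ⊗ₜ[R'] i)
        rw [LinearMap.map_smul_of_tower f]; exact (smul_tmul' a (f m) i).symm)) with hJ
  have hJk : ∀ y, bigE R R' f hfv I' (1 ⊗ₜ (theta R S R' M I').symm y) = J y := by
    intro y
    induction y using TensorProduct.induction_on with
    | zero => simp
    | add x y hx hy => simp only [map_add, tmul_add, hx, hy]
    | tmul i m =>
      have : (theta R S R' M I').symm (i ⊗ₜ[R] m) = ((1 : S ⊗[R] R') ⊗ₜ[S] m) ⊗ₜ[R'] i := by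
        rw [LinearEquiv.symm_apply_eq, theta_tmul]
      rw [this, bigE_tmul]
      simp [J]
  rw [← (theta R S R' M I').symm_apply_apply k, hJk]
  set y := theta R S R' M I' k with hy
  have hy0 : (I'.subtype.restrictScalars R).rTensor M y = 0 := by
    rw [hy, ← theta_natural]
    have : I'.subtype.lTensor _ k = 0 := hk
    rw [this, map_zero]
  -- lift `y` to `R' ⊗ (I ⊗ M)`
  set mulI : R' ⊗[R] ↥I →ₗ[R] ↥I' :=
    TensorProduct.lift (LinearMap.mk₂ R (fun r i => r • Algebra.idealMap R' I i)
      (fun r r' i => add_smul _ _ _) (fun a r i => smul_assoc _ _ _)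
      (fun r i i' => by simp only [map_add, smul_add])
      (fun a r i => by rw [map_smul, smul_comm])) with hmulI
  have hmulIval : ∀ t, ((mulI t : ↥I') : R') =
      (TensorProduct.rid R R') (I.subtype.lTensor R' t) := by
    intro t
    induction t using TensorProduct.induction_on with
    | zero => simp
    | add x y hx hy => simp [hx, hy]
    | tmul r i =>
      simp [mulI, Algebra.idealMap, Algebra.smul_def, mul_comm]
      rfl
  have hsurj : Function.Surjective mulI := by
    rintro ⟨x, hx⟩
    suffices ∃ t, ((mulI t : ↥I') : R') = x by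
      obtain ⟨t, ht⟩ := this
      exact ⟨t, Subtype.ext ht⟩
    induction hx using Submodule.span_induction with
    | mem x hx =>
      obtain ⟨i, hi, rfl⟩ := hx
      exact ⟨1 ⊗ₜ ⟨i, hi⟩, by rw [hmulIval]; simp [Algebra.smul_def]⟩
    | zero => exact ⟨0, by simp⟩
    | add a b _ _ ha hb =>
      obtain ⟨t, rfl⟩ := ha
      obtain ⟨t', rfl⟩ := hb
      exact ⟨t + t', by simp⟩
    | smul r a _ ha =>
      obtain ⟨t, rfl⟩ := ha
      refine ⟨(LinearMap.mulLeft R r).rTensor I t, ?_⟩
      rw [hmulIval, hmulIval]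
      clear * - t
      induction t using TensorProduct.induction_on with
      | zero => simp
      | add a b ha hb => simp only [map_add, ha, hb, smul_add]
      | tmul r' i => simp
  obtain ⟨t, ht⟩ := LinearMap.rTensor_surjective M hsurj y
  set Φ : R' ⊗[R] (↥I ⊗[R] M) →ₗ[R] M' ⊗[R'] ↥I' :=
    J ∘ₗ mulI.rTensor M ∘ₗ (TensorProduct.assoc R R' ↥I M).symm.toLinearMap with hΦ
  have hyΦ : J y = Φ ((TensorProduct.assoc R R' ↥I M) t) := by
    simp [Φ, ht]
  rw [hyΦ]
  refine kernel_generation I Φ ?_ ?_ _ ?_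
  · intro z hz n
    have h := h3 z ((LinearEquiv.map_eq_zero_iff _).mp hz)
    have e : ∀ z : ↥I ⊗[R] M, Φ (n ⊗ₜ[R] z) = n • (TensorProduct.comm R' ↥I' M')
        ((TensorProduct.mapOfCompatibleSMul R' R R ↥(I.map (algebraMap R R')) M')
          ((TensorProduct.map (Algebra.idealMap R' I) (f.restrictScalars R)) z)) := by
      intro z
      induction z using TensorProduct.induction_on with
      | zero => simp
      | add a b ha hb => simp only [map_add, tmul_add, smul_add, ha, hb]
      | tmul i m => simp [Φ, J, mulI, I', tmul_smul]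
    rw [e, h, map_zero, smul_zero]
  · intro t ht m
    have : mulI t = 0 := Subtype.ext (by rw [hmulIval, ht]; rfl)
    simp [Φ, this]
  · rw [← hy0, ← ht]
    clear ht hyΦ
    induction t using TensorProduct.induction_on with
    | zero => simp
    | add a b ha hb => simp only [map_add, ha, hb]
    | tmul s m =>
      induction s using TensorProduct.induction_on with
      | zero => simp
      | add a b ha hb => simp only [add_tmul, map_add, ha, hb]
      | tmul r i =>
        have : ((mulI (r ⊗ₜ[R] i) : ↥I') : R') = (i : R) • r := by rw [hmulIval]; simp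
        simp [this, smul_tmul]

end Transfer



/-- Let R → S, R → R', S → S' and R' → S' be local homomorphisms of Noetherian local rings forming a
commutative square, I ⊊ R an ideal, M a finite S-module, I' = IR' and M' = M ⊗_S S' (given through a
base-change map f : M → M'). Assume (1) S' is a localization of S ⊗_R R' via the induced map, (2)
M/IM is flat over R/I, and (3) the map Tor_1^R(M, R/I) → Tor_1^{R'}(M', R'/I') is zero — with
Tor_1(−, R/I) computed as the kernel of I ⊗_R M → M, this says that every element of that kernel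
goes to zero under the natural map I ⊗_R M → I' ⊗_{R'} M'. Then M' is flat over R'. -/
theorem result
    (R S R' S' : Type u) [CommRing R] [CommRing S] [CommRing R'] [CommRing S']
    [IsLocalRing R] [IsLocalRing S] [IsLocalRing R'] [IsLocalRing S']
    [IsNoetherianRing R] [IsNoetherianRing S] [IsNoetherianRing R'] [IsNoetherianRing S']
    [Algebra R S] [Algebra R R'] [Algebra S S'] [Algebra R' S'] [Algebra R S']
    [IsScalarTower R S S'] [IsScalarTower R R' S']
    [IsLocalHom (algebraMap R S)] [IsLocalHom (algebraMap R R')] [IsLocalHom (algebraMap S S')]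
    [IsLocalHom (algebraMap R' S')]
    (I : Ideal R) (hI : I ≠ ⊤) (M : Type u) [AddCommGroup M] [Module S M] [Module R M] [IsScalarTower R S M]
    [Module.Finite S M]
    (M' : Type u) [AddCommGroup M'] [Module S' M'] [Module R' M'] [IsScalarTower R' S' M']
    [Module S M'] [IsScalarTower S S' M'] [Module R M'] [IsScalarTower R R' M'] [IsScalarTower R S M']
    (f : M →ₗ[S] M') (hf : IsBaseChange S' f)
    (h1 : ∃ W : Submonoid (S ⊗[R] R'),
      letI : Algebra (S ⊗[R] R') S' :=
        (Algebra.TensorProduct.lift (IsScalarTower.toAlgHom R S S') (IsScalarTower.toAlgHom R R' S')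
          (fun s r => Commute.all _ _)).toRingHom.toAlgebra;
      IsLocalization W S')
    (h2 : Module.Flat (R ⧸ I) ((R ⧸ I) ⊗[R] M))
    (h3 : ∀ x : ↥I ⊗[R] M, (Submodule.subtype I).rTensor M x = 0 →
      (TensorProduct.mapOfCompatibleSMul R' R R ↥(I.map (algebraMap R R')) M')
        ((TensorProduct.map (Algebra.idealMap R' I) (f.restrictScalars R)) x) = 0) :
    Module.Flat R' M' := by
  obtain ⟨W, hW⟩ := h1
  letI algT : Algebra (S ⊗[R] R') S' :=
    (Algebra.TensorProduct.lift (IsScalarTower.toAlgHom R S S') (IsScalarTower.toAlgHom R R' S')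
      (fun s r => Commute.all _ _)).toRingHom.toAlgebra
  letI : Algebra R' (S ⊗[R] R') := Algebra.TensorProduct.rightAlgebra
  haveI : IsScalarTower S (S ⊗[R] R') S' := IsScalarTower.of_algebraMap_eq fun s => by
    simp [RingHom.algebraMap_toAlgebra, Algebra.TensorProduct.algebraMap_apply]
  haveI : IsScalarTower R' (S ⊗[R] R') S' := IsScalarTower.of_algebraMap_eq fun r => by
    simp [RingHom.algebraMap_toAlgebra, Algebra.TensorProduct.rightAlgebra]
  haveI hflatS : Module.Flat (S ⊗[R] R') S' := IsLocalization.flat S' W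
  haveI := h2
  haveI : Module.Finite S' M' := Module.Finite.equiv hf.equiv
  have hI' : I.map (algebraMap R R') ≠ ⊤ := fun h =>
    (IsLocalRing.maximalIdeal.isMaximal R').ne_top (top_le_iff.mp (h ▸
      (Ideal.map_mono (IsLocalRing.le_maximalIdeal hI)).trans
        (((IsLocalRing.local_hom_TFAE (algebraMap R R')).out 0 2).mp (inferInstance : IsLocalHom (algebraMap R R')))))
  haveI : Module.Flat (R' ⧸ I.map (algebraMap R R'))
      ((R' ⧸ I.map (algebraMap R R')) ⊗[R'] M') := by
    set I' := I.map (algebraMap R R')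
    rw [Module.Flat.iff_rTensor_injective']
    intro K
    have hinj := lTensor_injective_of_killed f hflatS I (N := K) (N' := R' ⧸ I')
      (fun a ha x => by
        obtain ⟨x, rfl⟩ := Ideal.Quotient.mk_surjective x
        rw [Algebra.smul_def, Ideal.Quotient.algebraMap_eq, ← map_mul,
          Ideal.Quotient.eq_zero_iff_mem]
        exact I'.mul_mem_right _ (Ideal.mem_map_of_mem _ ha))
      (K.subtype.restrictScalars R') Subtype.val_injective hf
    rw [lTensor_inj_iff_rTensor_inj] at hinj
    let eK := AlgebraTensorModule.cancelBaseChange R' (R' ⧸ I') (R' ⧸ I') K M'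
    let eQ := AlgebraTensorModule.cancelBaseChange R' (R' ⧸ I') (R' ⧸ I') (R' ⧸ I') M'
    have hcomm : ∀ x, eQ (K.subtype.rTensor _ x) =
        (K.subtype.restrictScalars R').rTensor M' (eK x) := by
      intro x
      induction x using TensorProduct.induction_on with
      | zero => simp
      | add a b ha hb => simp only [map_add, ha, hb]
      | tmul k y =>
        induction y using TensorProduct.induction_on with
        | zero => simp
        | add a b ha hb => simp only [tmul_add, map_add, ha, hb]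
        | tmul q m => simp [eK, eQ]
    intro x y hxy
    apply eK.injective
    apply hinj
    rw [← hcomm, ← hcomm, hxy]
  exact Groth.L20.flat_of_lTensor_injective_of_flat_quotient S' (I.map (algebraMap R R')) hI'
    (key_injective f hflatS I hf h3)


end Groth.Agent.S12233
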