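import Groth.Statements.S1224
import Groth.Agent.L20.FiberAss
import Mathlib.RingTheory.Ideal.GoingUp

set_option autoImplicit false
universe u
open FlatMor

namespace Groth.Agent.S1224

/-- Ring form, X = Spec B affine, where proper support means finite support: let B be a finite type
A-algebra and N a finite B-module such that B modulo the annihilator of N is finite over A. Then N
is universally pure relative to Spec A. -/
theorem result {A B : Type u} [CommRing A] [CommRing B] [Algebra A B] [Algebra.FiniteType A B]
    (N : Type u) [AddCommGroup N] [Module B N] [Module A N] [IsScalarTower A B N] [Module.Finite B N]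
    [Module.Finite A (B ⧸ Module.annihilator B N)] : FlatCA.IsUnivPure A B N := by
  intro p _ A' B' N' _ _ _ _ _ _ _ _ _ _ _ _ _ _ f t' t _ _ P _ himp
  obtain ⟨hpush, hf, htt, -, hPt, hass, hno⟩ := himp
  have : P.LiesOver t' := hPt
  obtain ⟨z, hz⟩ := (Groth.L20.fiberIdeal_mem_associatedPrimes_iff t' N' P).mp hass
  let J : Ideal B' := (Module.annihilator B N).map (algebraMap B B')
  have hJP : J ≤ P := by
    rw [Ideal.map_le_iff_le_comap]
    intro b hb
    rw [Ideal.mem_comap, hz]
    refine ⟨1, ?_⟩
    have hkill : ∀ x : N', algebraMap B B' b • x = 0 := by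
      intro x
      induction x using hf.inductionOn with
      | zero => exact smul_zero _
      | tmul n => rw [algebraMap_smul, ← map_smul, Module.mem_annihilator.mp hb n, map_zero]
      | smul c n ih => rw [smul_comm, ih, smul_zero]
      | add x y hx hy => rw [smul_add, hx, hy, add_zero]
    have hkz : ∀ w : TensorProduct A' N' t'.ResidueField, algebraMap B B' b • w = 0 := by
      intro w
      induction w using TensorProduct.induction_on with
      | zero => exact smul_zero _
      | tmul x y => rw [TensorProduct.smul_tmul', hkill, TensorProduct.zero_tmul]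
      | add x y hx hy => rw [smul_add, hx, hy, add_zero]
    rw [pow_one]
    exact hkz z
  obtain ⟨s, hs⟩ := (Module.Finite.fg_top : (⊤ : Submodule A (B ⧸ Module.annihilator B N)).FG)
  have hfin : Module.Finite A' (B' ⧸ J) := by
    classical
    let ι : (B ⧸ Module.annihilator B N) →ₐ[A] (B' ⧸ J) :=
      Ideal.Quotient.liftₐ _ ((Ideal.Quotient.mkₐ A J).comp (IsScalarTower.toAlgHom A B B'))
        fun b hb => Ideal.Quotient.eq_zero_iff_mem.mpr (Ideal.mem_map_of_mem _ hb)
    have hι : ∀ x, ι x ∈ Submodule.span A' ((s.image ι : Finset (B' ⧸ J)) : Set (B' ⧸ J)) := by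
      intro x
      have hx : x ∈ Submodule.span A (s : Set (B ⧸ Module.annihilator B N)) := by rw [hs]; trivial
      induction hx using Submodule.span_induction with
      | mem y hy => exact Submodule.subset_span (Finset.mem_coe.mpr (Finset.mem_image_of_mem _ hy))
      | zero => rw [map_zero]; exact zero_mem _
      | add _ _ _ _ ha hb => rw [map_add]; exact add_mem ha hb
      | smul a _ _ ha => rw [map_smul]; exact Submodule.smul_of_tower_mem _ a ha
    refine ⟨⟨s.image ι, eq_top_iff.mpr ?_⟩⟩
    rintro y -
    obtain ⟨y, rfl⟩ := Ideal.Quotient.mk_surjective y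
    induction y using (hpush.symm).out.inductionOn with
    | zero => rw [map_zero]; exact zero_mem _
    | tmul b => exact hι (Ideal.Quotient.mk _ b)
    | smul a y ih =>
      rw [show Ideal.Quotient.mk J (a • y) = a • Ideal.Quotient.mk J y from rfl]
      exact Submodule.smul_mem _ a ih
    | add x y hx hy => rw [map_add]; exact add_mem hx hy
  let P₁ : Ideal (B' ⧸ J) := P.map (Ideal.Quotient.mk J)
  have hP₁c : P₁.comap (Ideal.Quotient.mk J) = P := by
    rw [Ideal.comap_map_of_surjective _ Ideal.Quotient.mk_surjective, ← RingHom.ker_eq_comap_bot, Ideal.mk_ker, sup_eq_left]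
    exact hJP
  have : P₁.IsPrime := Ideal.map_isPrime_of_surjective Ideal.Quotient.mk_surjective (by rwa [Ideal.mk_ker])
  have h1 : P₁.comap (algebraMap A' (B' ⧸ J)) ≤ t := by
    rw [IsScalarTower.algebraMap_eq A' B' (B' ⧸ J), ← Ideal.comap_comap,
      Ideal.Quotient.algebraMap_eq, hP₁c]
    exact hPt.over.ge.trans htt
  obtain ⟨Q, hQge, hQp, hQ⟩ := Ideal.exists_ideal_over_prime_of_isIntegral t P₁ h1
  refine hno (Q.comap (Ideal.Quotient.mk J)) (hP₁c.ge.trans (Ideal.comap_mono hQge)) ⟨?_⟩
  rw [Ideal.under_def, Ideal.comap_comap, ← Ideal.Quotient.algebraMap_eq, ← IsScalarTower.algebraMap_eq, hQ]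

end Groth.Agent.S1224
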