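import Groth.Statements.S12244
import Groth.Agent.L20.RG.DevBaseChange

set_option autoImplicit false
set_option linter.style.haveILetI false
set_option backward.isDefEq.respectTransparency.types false
universe u
open FlatMor

set_option backward.isDefEq.respectTransparency.types false
namespace Groth.Agent.S12244

open TensorProduct in
/-- All schemes are affine. Let R → S be of finite type, N a finite S-module, p ⊆ R and q ⊆ S primes, 𝒟
a complete dévissage of N/S/R over p in the prelude's algebraic form and 𝒜 a datum making it a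
complete dévissage at q (primes qB_i ⊆ B_i over p with purely transcendental residue fields, unique
primes qA_i ⊆ A_i over them, threaded through q and through the maps B_i → A_{i+1}, relative
dimensions d_i of R → B_i equal to the local dimension of the fibre support of M_i at qB_i). Let R →
R' be a ring map and p' a prime over p with κ(p) → κ(p') bijective, S' the base change of S, N' = N
⊗_S S', and q' a prime of S' over q and over p'. Let 𝒟' be a complete dévissage of N'/S'/R' over p'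
of the same length whose rings A'_i, B'_i (i below the length) are base changes of A_i, B_i along R
→ R' compatibly with B_i → A_i, B_i → A_{i+1}, S → A_0 and S' → A'_0, and whose modules M'_i are
base changes of M_i along A_i → A'_i compatibly with N ≅ M_0 and N' ≅ M'_0. Assume moreover that at
every index at or beyond the length the ring B'_i has a prime over p' and A'_i a prime over that one
(the structure's families run over all natural numbers and constrain nothing at those indices, while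
a datum at a point asks for such primes at every index; the condition touches only this
unconstrained tail and holds, for instance, when the tail repeats the last genuine step — without it
the zero ring could sit there and no datum would exist). Then 𝒟' is a complete dévissage at q' with
the same relative dimensions: there is a datum 𝒜' for (𝒟', q') with d' = d whose primes qB'_i, qA'_i
lie over qB_i, qA_i for every step i below the length. -/
theorem result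
    (R S : Type u) [CommRing R] [CommRing S] [Algebra R S] [Algebra.FiniteType R S]
    (N : Type u) [AddCommGroup N] [Module S N] [Module.Finite S N]
    (p : Ideal R) [p.IsPrime] (q : Ideal S) [q.IsPrime] (𝒟 : FlatCA.CompleteDevissage R S N p)
    (𝒜 : FlatCA.CompleteDevissageAt R S N p q 𝒟)
    (R' : Type u) [CommRing R'] [Algebra R R'] (p' : Ideal R') [p'.IsPrime] [hp' : p'.LiesOver p]
    (hκ : Function.Bijective (Ideal.ResidueField.mapₐ p p' (Algebra.ofId R R') hp'.over))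
    (S' : Type u) [CommRing S'] [Algebra R' S'] [Algebra R S'] [Algebra S S'] [IsScalarTower R R' S']
    [IsScalarTower R S S'] [Algebra.IsPushout R R' S S']
    (N' : Type u) [AddCommGroup N'] [Module S' N'] [Module S N'] [IsScalarTower S S' N']
    (f : N →ₗ[S] N') (hf : IsBaseChange S' f)
    (q' : Ideal S') [q'.IsPrime] [q'.LiesOver q] [q'.LiesOver p']
    (𝒟' : FlatCA.CompleteDevissage R' S' N' p') (hn : 𝒟'.n = 𝒟.n)
    (htail : ∀ i, 𝒟.n ≤ i → ∃ (Q : Ideal (𝒟'.B i)) (P : Ideal (𝒟'.A i)),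
      Q.IsPrime ∧ P.IsPrime ∧ Q.LiesOver p' ∧ P.LiesOver Q)
    [aA : ∀ i : Fin 𝒟.n, Algebra (𝒟.A i) (𝒟'.A i)] [rA : ∀ i : Fin 𝒟.n, Algebra R (𝒟'.A i)]
      [∀ i : Fin 𝒟.n, IsScalarTower R (R') (𝒟'.A i)] [∀ i : Fin 𝒟.n, IsScalarTower R (𝒟.A i) (𝒟'.A i)]
      [aB : ∀ i : Fin 𝒟.n, Algebra (𝒟.B i) (𝒟'.B i)] [rB : ∀ i : Fin 𝒟.n, Algebra R (𝒟'.B i)]
      [∀ i : Fin 𝒟.n, IsScalarTower R (R') (𝒟'.B i)] [∀ i : Fin 𝒟.n, IsScalarTower R (𝒟.B i) (𝒟'.B i)]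
      [bA : ∀ i : Fin 𝒟.n, Algebra (𝒟.B i) (𝒟'.A i)] [∀ i : Fin 𝒟.n, IsScalarTower (𝒟.B i) (𝒟.A i) (𝒟'.A i)]
      [∀ i : Fin 𝒟.n, IsScalarTower (𝒟.B i) (𝒟'.B i) (𝒟'.A i)]
      [bA' : ∀ i : Fin 𝒟.n, Algebra (𝒟.B i) (𝒟'.A (i + 1))]
      [∀ i : Fin 𝒟.n, IsScalarTower (𝒟.B i) (𝒟'.B i) (𝒟'.A (i + 1))]
      [sA : Algebra S (𝒟'.A 0)] [IsScalarTower S (S') (𝒟'.A 0)]
      [mA : ∀ i : Fin 𝒟.n, Module (𝒟.A i) (𝒟'.M i)] [∀ i : Fin 𝒟.n, IsScalarTower (𝒟.A i) (𝒟'.A i) (𝒟'.M i)]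
      (gM : ∀ i : Fin 𝒟.n, 𝒟.M i →ₗ[𝒟.A i] 𝒟'.M i)
    (hbc : (letI := aA ⟨0, 𝒟.pos⟩; IsScalarTower S (𝒟.A 0) (𝒟'.A 0)) ∧
      (∀ x : N, 𝒟'.isoN (f x) = gM ⟨0, 𝒟.pos⟩ (𝒟.isoN x)) ∧
      (∀ (i : Fin 𝒟.n) (h : (i : ℕ) + 1 < 𝒟.n),
        letI := aA ⟨i + 1, h⟩; IsScalarTower (𝒟.B i) (𝒟.A (i + 1)) (𝒟'.A (i + 1))) ∧
      ∀ i : Fin 𝒟.n,
        Algebra.IsPushout R R' (𝒟.A i) (𝒟'.A i) ∧ Algebra.IsPushout R R' (𝒟.B i) (𝒟'.B i) ∧
        IsBaseChange (𝒟'.A i) (gM i)) :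
    ∃ 𝒜' : FlatCA.CompleteDevissageAt R' S' N' p' q' 𝒟', 𝒜'.d = 𝒜.d ∧
      ∀ i : Fin 𝒟.n, (𝒜'.qB i).LiesOver (𝒜.qB i) ∧ (𝒜'.qA i).LiesOver (𝒜.qA i) := by
  classical
  obtain ⟨hS0, hiso, hlink, hall⟩ := hbc
  have hp : Groth.L20.RG.TrivRes R p p' := ⟨hp', hκ⟩
  haveI hqBp : ∀ i, (𝒜.qB i).LiesOver p := 𝒜.overB
  haveI : ∀ i, (𝒜.qB i).IsPrime := 𝒜.hqB
  haveI : ∀ i, (𝒜.qA i).IsPrime := 𝒜.hqA
  haveI : ∀ i, (𝒜.qA i).LiesOver (𝒜.qB i) := 𝒜.overA
  haveI hqAp : ∀ i, (𝒜.qA i).LiesOver p := fun i => Ideal.LiesOver.trans (𝒜.qA i) (𝒜.qB i) p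
  haveI : q.LiesOver p := ⟨by
    rw [← 𝒜.q0, Ideal.under_def, Ideal.comap_comap, ← IsScalarTower.algebraMap_eq]
    exact Ideal.over_def (𝒜.qA 0) p⟩
  have hB : ∀ i : Fin 𝒟.n, ∃ (Q : Ideal (𝒟'.B i)) (_ : Q.IsPrime), Q.LiesOver p' ∧ Q.LiesOver (𝒜.qB i) ∧
      ∀ (Q' : Ideal (𝒟'.B i)) [Q'.IsPrime], Q'.LiesOver p' → Q'.LiesOver (𝒜.qB i) → Q' = Q := fun i =>
    haveI := (hall i).2.1
    Groth.L20.RG.exists_point_of_isPushout (B := R) (A := 𝒟.B i) (B' := R') (A' := 𝒟'.B i) p (𝒜.qB i) p' hp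
  have hA : ∀ i : Fin 𝒟.n, ∃ (Q : Ideal (𝒟'.A i)) (_ : Q.IsPrime), Q.LiesOver p' ∧ Q.LiesOver (𝒜.qA i) ∧
      ∀ (Q' : Ideal (𝒟'.A i)) [Q'.IsPrime], Q'.LiesOver p' → Q'.LiesOver (𝒜.qA i) → Q' = Q := fun i =>
    haveI := (hall i).1
    Groth.L20.RG.exists_point_of_isPushout (B := R) (A := 𝒟.A i) (B' := R') (A' := 𝒟'.A i) p (𝒜.qA i) p' hp
  choose QB hQBprime hQBp hQBq hQBu using hB
  choose QA hQAprime hQAp hQAq hQAu using hA
  have hcontr : ∀ i : Fin 𝒟.n, (QA i).comap (algebraMap (𝒟'.B i) (𝒟'.A i)) = QB i := fun i => by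
    haveI := hQAprime i
    refine hQBu i _ ⟨?_⟩ ⟨?_⟩
    · rw [Ideal.under_def, Ideal.comap_comap, ← IsScalarTower.algebraMap_eq]
      exact (hQAp i).over
    · rw [Ideal.under_def, Ideal.comap_comap, ← IsScalarTower.algebraMap_eq,
        IsScalarTower.algebraMap_eq (𝒟.B i) (𝒟.A i) (𝒟'.A i), ← Ideal.comap_comap]
      exact (Ideal.over_def (𝒜.qA i) (𝒜.qB i)).trans (congrArg _ (hQAq i).over)
  choose TQ TP hT using htail
  let qB' : ∀ i, Ideal (𝒟'.B i) := fun i => if h : i < 𝒟.n then QB ⟨i, h⟩ else TQ i (not_lt.mp h)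
  let qA' : ∀ i, Ideal (𝒟'.A i) := fun i => if h : i < 𝒟.n then QA ⟨i, h⟩ else TP i (not_lt.mp h)
  have eB : ∀ i (h : i < 𝒟.n), qB' i = QB ⟨i, h⟩ := fun i h => dif_pos h
  have eA : ∀ i (h : i < 𝒟.n), qA' i = QA ⟨i, h⟩ := fun i h => dif_pos h
  haveI hpB : ∀ i, (qB' i).IsPrime := fun i => by
    by_cases h : i < 𝒟.n
    · rw [eB i h]; exact hQBprime ⟨i, h⟩
    · rw [show qB' i = TQ i (not_lt.mp h) from dif_neg h]; exact (hT i _).1
  haveI hpA : ∀ i, (qA' i).IsPrime := fun i => by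
    by_cases h : i < 𝒟.n
    · rw [eA i h]; exact hQAprime ⟨i, h⟩
    · rw [show qA' i = TP i (not_lt.mp h) from dif_neg h]; exact (hT i _).2.1
  haveI hoB : ∀ i, (qB' i).LiesOver p' := fun i => by
    by_cases h : i < 𝒟.n
    · rw [eB i h]; exact hQBp ⟨i, h⟩
    · rw [show qB' i = TQ i (not_lt.mp h) from dif_neg h]; exact (hT i _).2.2.1
  have hoA : ∀ i, (qA' i).LiesOver (qB' i) := fun i => by
    by_cases h : i < 𝒟.n
    · rw [eA i h, eB i h]; exact ⟨(hcontr ⟨i, h⟩).symm⟩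
    · rw [show qA' i = TP i (not_lt.mp h) from dif_neg h, show qB' i = TQ i (not_lt.mp h) from dif_neg h]
      exact (hT i _).2.2.2
  refine ⟨{ qB := qB', qA := qA', hqB := hpB, hqA := hpA, overB := hoB, overA := hoA, d := 𝒜.d
            pureTrans := ?_, uniq := ?_, q0 := ?_, qStep := ?_, relDim := ?_, locDim := ?_ }, rfl, fun i => ?_⟩
  · intro k hk
    obtain ⟨i, rfl⟩ : ∃ i : Fin 𝒟.n, (i : ℕ) = k := ⟨⟨k, hn ▸ hk⟩, rfl⟩
    haveI := (hall i).2.1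
    haveI : (qB' i).LiesOver (𝒜.qB i) := (eB i i.2).symm ▸ hQBq i
    exact Groth.L20.RG.purelyTranscendental_transport hp
      (Groth.L20.RG.trivRes_of_isPushout (R := R) p' p hp (𝒜.qB i) (qB' i)) (𝒜.pureTrans i i.2)
  · intro k hk Q _ hQ
    obtain ⟨i, rfl⟩ : ∃ i : Fin 𝒟.n, (i : ℕ) = k := ⟨⟨k, hn ▸ hk⟩, rfl⟩
    haveI := hQ
    haveI : (qB' i).LiesOver (𝒜.qB i) := (eB i i.2).symm ▸ hQBq i
    rw [eA i i.2]
    refine hQAu i Q (Ideal.LiesOver.trans Q (qB' i) p') ⟨(𝒜.uniq i i.2 (Q.comap _) ⟨?_⟩).symm⟩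
    rw [Ideal.under_def, Ideal.comap_comap, ← IsScalarTower.algebraMap_eq, IsScalarTower.algebraMap_eq (𝒟.B i) (𝒟'.B i) (𝒟'.A i),
      ← Ideal.comap_comap]
    exact (Ideal.over_def (qB' i) (𝒜.qB i)).trans (congrArg _ (Ideal.over_def Q (qB' i)))
  · obtain ⟨Q, _, -, -, hQu⟩ := Groth.L20.RG.exists_point_of_isPushout (B := R) (A := S) (B' := R') (A' := S') p q p' hp
    letI := aA ⟨0, 𝒟.pos⟩
    haveI := hS0
    refine (hQu _ ⟨?_⟩ ⟨?_⟩).trans (hQu q' inferInstance inferInstance).symm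
    · rw [Ideal.under_def, Ideal.comap_comap, ← IsScalarTower.algebraMap_eq]
      exact (Ideal.LiesOver.trans (qA' 0) (qB' 0) p' : (qA' 0).LiesOver p').over
    · rw [Ideal.under_def, Ideal.comap_comap, ← IsScalarTower.algebraMap_eq, IsScalarTower.algebraMap_eq S (𝒟.A 0) (𝒟'.A 0),
        ← Ideal.comap_comap, eA 0 𝒟.pos]
      exact 𝒜.q0.symm.trans (congrArg _ (hQAq ⟨0, 𝒟.pos⟩).over)
  · intro k hk
    obtain ⟨i, rfl⟩ : ∃ i : Fin 𝒟.n, (i : ℕ) = k := ⟨⟨k, by omega⟩, rfl⟩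
    have hk' : (i : ℕ) + 1 < 𝒟.n := by omega
    letI := aA ⟨i + 1, hk'⟩
    haveI := hlink i hk'
    haveI := hpA ((i : ℕ) + 1)
    rw [eB i i.2]
    refine hQBu i _ ⟨?_⟩ ⟨?_⟩
    · rw [Ideal.under_def, Ideal.comap_comap, ← IsScalarTower.algebraMap_eq]
      exact (Ideal.LiesOver.trans (qA' ((i : ℕ) + 1)) (qB' ((i : ℕ) + 1)) p' : (qA' ((i : ℕ) + 1)).LiesOver p').over
    · rw [Ideal.under_def, Ideal.comap_comap, ← IsScalarTower.algebraMap_eq,
        IsScalarTower.algebraMap_eq (𝒟.B i) (𝒟.A ((i : ℕ) + 1)) (𝒟'.A ((i : ℕ) + 1)), ← Ideal.comap_comap, eA _ hk']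
      exact (𝒜.qStep i hk').symm.trans (congrArg _ (hQAq ⟨i + 1, hk'⟩).over)
  · intro k hk
    obtain ⟨i, rfl⟩ : ∃ i : Fin 𝒟.n, (i : ℕ) = k := ⟨⟨k, hn ▸ hk⟩, rfl⟩
    haveI := (hall i).2.1
    exact Groth.L20.RG.smoothRelDim_baseChange (𝒜.relDim i i.2)
  · intro k hk
    obtain ⟨i, rfl⟩ : ∃ i : Fin 𝒟.n, (i : ℕ) = k := ⟨⟨k, hn ▸ hk⟩, rfl⟩
    haveI := (hall i).1
    haveI := (hall i).2.1
    haveI := 𝒟.finiteBA i i.2
    haveI := 𝒟.finiteM i i.2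
    haveI : Module.Finite (𝒟.B i) (𝒟.M i) := Module.Finite.trans (𝒟.A i) (𝒟.M i)
    haveI : IsScalarTower R (𝒟'.B i) (𝒟'.A i) := IsScalarTower.of_algebraMap_eq fun r => by
      rw [IsScalarTower.algebraMap_apply R R' (𝒟'.B i), ← IsScalarTower.algebraMap_apply R' (𝒟'.B i) (𝒟'.A i),
        ← IsScalarTower.algebraMap_apply R R' (𝒟'.A i)]
    haveI : Algebra.IsPushout (𝒟.B i) (𝒟.A i) (𝒟'.B i) (𝒟'.A i) := by
      haveI : Algebra.IsPushout R (𝒟.B i) R' (𝒟'.B i) := Algebra.IsPushout.symm inferInstance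
      exact (Algebra.IsPushout.comp_iff R (𝒟.B i) R' (𝒟'.B i)).mp (Algebra.IsPushout.symm inferInstance)
    letI : Module (𝒟.B i) (𝒟'.M i) := Module.compHom _ (algebraMap (𝒟.B i) (𝒟'.B i))
    haveI : IsScalarTower (𝒟.B i) (𝒟'.B i) (𝒟'.M i) := IsScalarTower.of_algebraMap_smul fun _ _ => rfl
    haveI : IsScalarTower (𝒟.B i) (𝒟.A i) (𝒟'.M i) := IsScalarTower.of_algebraMap_smul fun b m => by
      rw [← algebraMap_smul (𝒟'.A i) (algebraMap (𝒟.B i) (𝒟.A i) b) m, ← IsScalarTower.algebraMap_apply,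
        IsScalarTower.algebraMap_apply (𝒟.B i) (𝒟'.B i) (𝒟'.A i), algebraMap_smul]
      rfl
    haveI : (qB' i).LiesOver (𝒜.qB i) := (eB i i.2).symm ▸ hQBq i
    exact Groth.L20.RG.exists_localDim_baseChange (R := R) p' p hp
      (Groth.L20.isBaseChange_restrictScalars (R := 𝒟.B i) (S := 𝒟.A i) (R' := 𝒟'.B i) (S' := 𝒟'.A i) (hall i).2.2)
      (𝒜.qB i) (qB' i) _ (𝒜.locDim i i.2)
  · refine ⟨show (qB' i).LiesOver (𝒜.qB i) from ?_, show (qA' i).LiesOver (𝒜.qA i) from ?_⟩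
    · rw [eB i i.2]; exact hQBq i
    · rw [eA i i.2]; exact hQAq i

end Groth.Agent.S12244
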