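import Groth.Statements.S12245
import Groth.Agent.L20.RG.GeomOpen
import Groth.Agent.L20.RG.OneStepDim
import Groth.Agent.L20.RG.EtalePiece

set_option autoImplicit false
set_option linter.style.haveILetI false
set_option backward.isDefEq.respectTransparency.types false
universe u
open FlatMor

set_option backward.isDefEq.respectTransparency.types false
namespace Groth.Agent.S12245

open Groth.L20.RG in
/-- Residue extensions trivial in a composite are trivial at the first stage. -/
theorem trivRes_of_comp {A B C : Type u} [CommRing A] [CommRing B] [CommRing C] [Algebra A B] [Algebra B C]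
    [Algebra A C] [IsScalarTower A B C] {a : Ideal A} {b : Ideal B} {c : Ideal C} [a.IsPrime] [b.IsPrime] [c.IsPrime]
    (h : TrivRes A a c) (hba : b.LiesOver a) (hcb : c.LiesOver b) : TrivRes A a b := by
  obtain ⟨hca, hb⟩ := h
  let f := Ideal.ResidueField.mapₐ a b (Algebra.ofId A B) hba.over
  let g := Ideal.ResidueField.mapₐ b c (Algebra.ofId B C) hcb.over
  have hfg : ∀ x, g (f x) = Ideal.ResidueField.mapₐ a c (Algebra.ofId A C) hca.over x := by
    have : g.toRingHom.comp f.toRingHom = (Ideal.ResidueField.mapₐ a c (Algebra.ofId A C) hca.over).toRingHom := by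
      refine Ideal.ResidueField.ringHom_ext ?_
      ext r
      show g (f (algebraMap A _ r)) = Ideal.ResidueField.mapₐ a c (Algebra.ofId A C) hca.over (algebraMap A _ r)
      rw [AlgHom.commutes, AlgHom.commutes, IsScalarTower.algebraMap_apply A B b.ResidueField, AlgHom.commutes,
        ← IsScalarTower.algebraMap_apply]
    exact fun x => congrFun (congrArg DFunLike.coe this) x
  refine ⟨hba, f.toRingHom.injective, fun y => ?_⟩
  obtain ⟨x, hx⟩ := hb.2 (g y)
  exact ⟨x, g.toRingHom.injective ((hfg x).trans hx)⟩

open Groth.L20.RG in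
/-- In a one-step dévissage the generic point of the fibre lies in the support. -/
theorem mem_support_generic {R S C D N G : Type u} [CommRing R] [CommRing S] [CommRing C] [CommRing D] [Algebra R S]
    [Algebra S C] [Algebra R C] [IsScalarTower R S C] [Algebra R D] [Algebra D C] [IsScalarTower R D C]
    [AddCommGroup N] [Module S N] [Module.Finite S N] [AddCommGroup G] [Module C G] [Module S G]
    [IsScalarTower S C G] [Module D G] [IsScalarTower D C G] [Module.Finite D C] [Module.Finite C G] (e : N ≃ₗ[S] G)
    (hsurj : Function.Surjective (algebraMap S C)) {n : ℕ} (hn : FlatCA.SmoothRelDim n R D) (hdom : DomFib R D)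
    (p : Ideal R) [p.IsPrime] [(p.map (algebraMap R D)).IsPrime]
    (hdim : Module.supportDim (p.Fiber S) (FlatCA.fiberMod p S N) = n) :
    (⟨p.map (algebraMap R D), inferInstance⟩ : PrimeSpectrum D) ∈ Module.support D G := by
  haveI := smooth_of_relDim hn
  letI : Module R G := Module.compHom G (algebraMap R C)
  haveI : IsScalarTower R C G := IsScalarTower.of_algebraMap_smul fun _ _ => rfl
  haveI : IsScalarTower R S G := IsScalarTower.of_algebraMap_smul fun r g => by
    rw [← algebraMap_smul C (algebraMap R S r) g, ← IsScalarTower.algebraMap_apply]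
    rfl
  haveI : IsScalarTower R D G := IsScalarTower.of_algebraMap_smul fun r g => by
    rw [← algebraMap_smul C (algebraMap R D r) g, ← IsScalarTower.algebraMap_apply]
    rfl
  haveI : Module.Finite D G := Module.Finite.trans C G
  haveI : Module.Finite S C := Module.Finite.of_surjective (Algebra.linearMap S C) hsurj
  haveI : Module.Finite S G := Module.Finite.trans C G
  let eN : FlatCA.fiberMod p S N ≃ₗ[p.Fiber S] FlatCA.fiberMod p S G :=
    letI : Algebra S (p.Fiber S) := Algebra.TensorProduct.rightAlgebra
    TensorProduct.AlgebraTensorModule.congr (LinearEquiv.refl (p.Fiber S) (p.Fiber S)) e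
  have hG : Module.supportDim (p.Fiber D) (FlatCA.fiberMod p D G) = n := by
    rw [supportDim_fiberMod (S := D) (C := C) p G, ← supportDim_fiberMod (S := S) (C := C) p G,
      ← Module.supportDim_eq_of_equiv eN, hdim]
  by_contra hξG
  exact (supportDim_fiberMod_lt p hn hdom G (Module.notMem_support_iff'.mp hξG)).ne hG

attribute [local instance] Algebra.TensorProduct.rightAlgebra

open TensorProduct AlgebraicGeometry in
/-- All schemes are affine. Let R → S be of finite type, N a finite S-module, p ⊆ R and q ⊆ S primes
with q over p, and (C, D, G, n; z, y) a one-step dévissage of N/S/R at q (one-step dévissage over p;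
z a prime of C over q and over the prime y of D, unique over y; κ(y)/κ(p) purely transcendental;
local dimension of the fibre support at q equal to n). Let (R, p) → (R', p') and (D, y) → (D', y')
be elementary étale ring maps at those primes (étale, prime over prime, trivial residue field
extension) with D' an R'-algebra compatibly with D and R, and y' over p'. Then there are: an
elementary étale ring map (R', p') → (R'', p''); an R''-algebra D'' which is an affine open of the
base change of D' to R'' (an open immersion on spectra out of a pushout T of D' along R' → R''),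
compatibly with D' and R'', with a prime y'' over y' and over p''; the base change C'' of C along D
→ D'' with a prime z'' over z and y'' and the base change G'' of G to C''; an elementary étale ring
map (S, q) → (S'', q'') with S'' an R''-algebra compatibly with R → S and a surjection S'' → C''
compatible with S → C and with D'' → C'' over R'', z'' lying over q''; and the base change N'' of N
to S'' — such that (C'', D'', G'', n; z'', y'') is a one-step dévissage of N''/S''/R'' at q''
(including the four pointed conditions). -/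
theorem result
    (R S : Type u) [CommRing R] [CommRing S] [Algebra R S] [Algebra.FiniteType R S]
    (N : Type u) [AddCommGroup N] [Module S N] [Module R N] [IsScalarTower R S N] [Module.Finite S N]
    (p : Ideal R) [p.IsPrime] (q : Ideal S) [q.IsPrime] [q.LiesOver p]
    (C D G : Type u) [CommRing C] [CommRing D] [Algebra S C] [Algebra R C] [IsScalarTower R S C]
    [Algebra R D] [Algebra D C] [IsScalarTower R D C] [AddCommGroup G] [Module C G] [Module S G]
    [IsScalarTower S C G] (n : ℕ)
    (h : FlatCA.IsOneStepDevissage R S N p C D G n)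
    (z : Ideal C) [z.IsPrime] (y : Ideal D) [y.IsPrime] [z.LiesOver q] [z.LiesOver y] [y.LiesOver p]
    (h1 : ∃ (ξ : PrimeSpectrum (p.Fiber S)) (hξ : ξ ∈ Module.support (p.Fiber S) (FlatCA.fiberMod p S N)),
      ξ.asIdeal = FlatCA.fiberIdeal p q ∧
      FlatMor.localDim (Module.support (p.Fiber S) (FlatCA.fiberMod p S N)) ⟨ξ, hξ⟩ = n)
    (h3 : ∀ (z₁ : Ideal C) [z₁.IsPrime], z₁.LiesOver y → z₁ = z)
    (h4 : FlatCA.PurelyTranscendental p y)
    (R' : Type u) [CommRing R'] [Algebra R R'] (p' : Ideal R') [p'.IsPrime] (hR' : FlatCA.IsEtaleNhd R R' p p')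
    (D' : Type u) [CommRing D'] [Algebra D D'] [Algebra R' D'] [Algebra R D'] [IsScalarTower R R' D']
    [IsScalarTower R D D'] (y' : Ideal D') [y'.IsPrime] (hD' : FlatCA.IsEtaleNhd D D' y y') [y'.LiesOver p'] :
    ∃ (R'' : Type u) (_ : CommRing R'') (_ : Algebra R' R'') (_ : Algebra R R'') (_ : IsScalarTower R R' R'')
      (p'' : Ideal R'') (_ : p''.IsPrime),
      FlatCA.IsEtaleNhd R' R'' p' p'' ∧
    ∃ (T : Type u) (_ : CommRing T) (_ : Algebra R' T) (_ : Algebra R'' T) (_ : Algebra D' T)
      (_ : IsScalarTower R' R'' T) (_ : IsScalarTower R' D' T),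
      Algebra.IsPushout R' R'' D' T ∧
    ∃ (D'' : Type u) (_ : CommRing D'') (_ : Algebra T D'') (_ : Algebra D' D'') (_ : Algebra R'' D'')
      (_ : Algebra D D'') (_ : Algebra R D'') (_ : IsScalarTower D' T D'') (_ : IsScalarTower R'' T D'')
      (_ : IsScalarTower D D' D'') (_ : IsScalarTower R R'' D'') (_ : IsScalarTower R D D'')
      (y'' : Ideal D'') (_ : y''.IsPrime) (_ : y''.LiesOver y') (_ : y''.LiesOver p''),
      IsOpenImmersion (Spec.map (CommRingCat.ofHom (algebraMap T D''))) ∧
    ∃ (C'' : Type u) (_ : CommRing C'') (_ : Algebra C C'') (_ : Algebra D'' C'') (_ : Algebra D C'')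
      (_ : Algebra R'' C'') (_ : IsScalarTower D D'' C'') (_ : IsScalarTower D C C'') (_ : IsScalarTower R'' D'' C'')
      (z'' : Ideal C'') (_ : z''.IsPrime) (_ : z''.LiesOver z) (_ : z''.LiesOver y''),
      Algebra.IsPushout D D'' C C'' ∧
    ∃ (G'' : Type u) (_ : AddCommGroup G'') (_ : Module C'' G'') (_ : Module C G'') (_ : IsScalarTower C C'' G'')
      (gG : G →ₗ[C] G''), IsBaseChange C'' gG ∧
    ∃ (S'' : Type u) (_ : CommRing S'') (_ : Algebra S S'') (_ : Algebra R'' S'') (_ : Algebra R S'')
      (_ : IsScalarTower R S S'') (_ : IsScalarTower R R'' S'') (q'' : Ideal S'') (_ : q''.IsPrime)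
      (_ : Algebra S'' C'') (_ : Algebra S C'') (_ : IsScalarTower S S'' C'') (_ : IsScalarTower S C C'')
      (_ : IsScalarTower R'' S'' C'') (_ : Module S'' G'') (_ : IsScalarTower S'' C'' G''),
      FlatCA.IsEtaleNhd S S'' q q'' ∧ z''.LiesOver q'' ∧
    ∃ (N'' : Type u) (_ : AddCommGroup N'') (_ : Module S'' N'') (_ : Module S N'') (_ : IsScalarTower S S'' N'')
      (_ : Module R'' N'') (_ : IsScalarTower R'' S'' N'') (gN : N →ₗ[S] N''), IsBaseChange S'' gN ∧
      FlatCA.IsOneStepDevissage R'' S'' N'' p'' C'' D'' G'' n ∧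
      (∃ (ξ : PrimeSpectrum (p''.Fiber S'')) (hξ : ξ ∈ Module.support (p''.Fiber S'') (FlatCA.fiberMod p'' S'' N'')),
        ξ.asIdeal = FlatCA.fiberIdeal p'' q'' ∧
        FlatMor.localDim (Module.support (p''.Fiber S'') (FlatCA.fiberMod p'' S'' N'')) ⟨ξ, hξ⟩ = n) ∧
      (∀ (z₂ : Ideal C'') [z₂.IsPrime], z₂.LiesOver y'' → z₂ = z'') ∧
      FlatCA.PurelyTranscendental p'' y'' := by
  obtain ⟨⟨e⟩, hsurj, hfpC, hDC, hCG, hn, hirr, hdim⟩ := h
  haveI := hfpC
  haveI := hR'.1
  haveI := hD'.1
  haveI := hDC
  haveI := hCG
  haveI := Groth.L20.RG.smooth_of_relDim hn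
  have hdom := Groth.L20.RG.DomFib.of_smooth_geomIrredFibres hirr
  haveI : y'.LiesOver y := hD'.2.1
  have hpt' : FlatCA.PurelyTranscendental p' y' :=
    Groth.L20.RG.purelyTranscendental_transport (p := p) (b := y) hR'.2 hD'.2 h4
  obtain ⟨R'', _, _, p'', _, hR'', T, _, _, _, _, _, _, hTpush, D'', _, _, _, _, _, _, y'', _, hy''p, hopen, hn'', hrel,
    hirr''⟩ := Groth.L20.RG.exists_geom_open hn y p' y' hpt'
  haveI := hy''p
  haveI := hR''.1
  haveI := hn''.1
  haveI hy''y' : y''.LiesOver y' := hn''.2.1
  letI : Algebra R R'' := ((algebraMap R' R'').comp (algebraMap R R')).toAlgebra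
  haveI : IsScalarTower R R' R'' := IsScalarTower.of_algebraMap_eq' rfl
  letI : Algebra D D'' := ((algebraMap D' D'').comp (algebraMap D D')).toAlgebra
  haveI : IsScalarTower D D' D'' := IsScalarTower.of_algebraMap_eq' rfl
  letI : Algebra R' D'' := ((algebraMap R'' D'').comp (algebraMap R' R'')).toAlgebra
  haveI : IsScalarTower R' R'' D'' := IsScalarTower.of_algebraMap_eq' rfl
  haveI : IsScalarTower R' D' D'' := IsScalarTower.of_algebraMap_eq fun r => by
    rw [IsScalarTower.algebraMap_apply R' R'' D'', IsScalarTower.algebraMap_apply R'' T D'',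
      ← IsScalarTower.algebraMap_apply R' R'' T, IsScalarTower.algebraMap_apply R' D' T,
      ← IsScalarTower.algebraMap_apply D' T D'']
  letI : Algebra R D'' := ((algebraMap R'' D'').comp (algebraMap R R'')).toAlgebra
  haveI : IsScalarTower R R'' D'' := IsScalarTower.of_algebraMap_eq' rfl
  haveI : IsScalarTower R D D'' := IsScalarTower.of_algebraMap_eq fun r => by
    rw [IsScalarTower.algebraMap_apply R R'' D'', IsScalarTower.algebraMap_apply R R' R'',
      ← IsScalarTower.algebraMap_apply R' R'' D'', IsScalarTower.algebraMap_apply R' D' D'',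
      IsScalarTower.algebraMap_apply D D' D'', ← IsScalarTower.algebraMap_apply R R' D',
      IsScalarTower.algebraMap_apply R D D']
  have hnR : FlatCA.IsEtaleNhd R R'' p p'' := Groth.L20.RG.isEtaleNhd_trans hR' hR''
  have hnD : FlatCA.IsEtaleNhd D D'' y y'' := Groth.L20.RG.isEtaleNhd_trans hD' hn''
  haveI := hnR.1
  haveI := hnD.1
  haveI : y''.LiesOver y := hnD.2.1
  haveI : p''.LiesOver p := hnR.2.1
  have hpt'' : FlatCA.PurelyTranscendental p'' y'' :=
    Groth.L20.RG.purelyTranscendental_transport (p := p') (b := y') hR''.2 hn''.2 hpt'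
  -- the base change of `C`
  let C'' := D'' ⊗[D] C
  obtain ⟨z'', _, hz''y, hCn, huniq''⟩ := Groth.L20.RG.exists_nbhd_pushout (B := C) y z y'' hnD
  haveI := hz''y
  haveI := hCn.1
  haveI : z''.LiesOver z := hCn.2.1
  have huniq : ∀ (z₂ : Ideal C'') [z₂.IsPrime], z₂.LiesOver y'' → z₂ = z'' := fun z₂ _ hz₂ => by
    haveI := hz₂
    haveI : z₂.LiesOver y := Ideal.LiesOver.trans z₂ y'' y
    have : (z₂.under C).LiesOver y := ⟨by rw [Ideal.under_under]; exact Ideal.over_def z₂ y⟩
    exact huniq'' z₂ hz₂ ⟨(h3 _ this).symm⟩
  haveI : IsScalarTower R C C'' := IsScalarTower.of_algebraMap_eq fun r => by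
    show algebraMap R D'' r ⊗ₜ[D] (1 : C) = (1 : D'') ⊗ₜ[D] algebraMap R C r
    rw [IsScalarTower.algebraMap_apply R D D'', IsScalarTower.algebraMap_apply R D C]
    exact Algebra.TensorProduct.tmul_one_eq_one_tmul (R := D) (A := D'') (B := C) _
  letI : Algebra S C'' := ((algebraMap C C'').comp (algebraMap S C)).toAlgebra
  haveI : IsScalarTower S C C'' := IsScalarTower.of_algebraMap_eq' rfl
  obtain ⟨S'', _, _, _, _, _, _, _, _, _, hEt, hsurj'', hpush⟩ :=
    Groth.L20.RG.exists_etale_piece (R := R) (S := S) (C := C) (C' := C'') (R' := R'') hsurj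
  haveI := hEt
  let q'' : Ideal S'' := z''.comap (algebraMap S'' C'')
  haveI : q''.IsPrime := Ideal.comap_isPrime _ _
  haveI : z''.LiesOver q'' := ⟨rfl⟩
  haveI : z''.LiesOver p'' := Ideal.LiesOver.trans z'' y'' p''
  haveI : q''.LiesOver p'' := ⟨by rw [Ideal.under_def, Ideal.comap_comap, ← IsScalarTower.algebraMap_eq]; exact Ideal.over_def z'' p''⟩
  haveI : z''.LiesOver q := Ideal.LiesOver.trans z'' z q
  haveI : q''.LiesOver q := ⟨by rw [Ideal.under_def, Ideal.comap_comap, ← IsScalarTower.algebraMap_eq]; exact Ideal.over_def z'' q⟩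
  have hzq : Groth.L20.RG.TrivRes S q z :=
    ⟨inferInstance, (RingHom.surjectiveOnStalks_of_surjective hsurj).residueFieldMap_bijective _ _ _⟩
  have hSn : FlatCA.IsEtaleNhd S S'' q q'' := ⟨hEt, trivRes_of_comp (hzq.trans hCn.2) inferInstance inferInstance⟩
  -- the modules
  let G'' := C'' ⊗[C] G
  let gG : G →ₗ[C] G'' := TensorProduct.mk C C'' G 1
  have hgG : IsBaseChange C'' gG := TensorProduct.isBaseChange C G C''
  haveI : IsScalarTower S'' C'' G'' := inferInstance
  haveI : IsScalarTower S C G'' := inferInstance
  haveI : IsScalarTower S S'' G'' := inferInstance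
  let N'' := S'' ⊗[S] N
  let gN : N →ₗ[S] N'' := TensorProduct.mk S S'' N 1
  haveI : IsScalarTower R'' S'' N'' := inferInstance
  haveI : Algebra.IsPushout S C S'' C'' := hpush.symm
  let e'' : N'' ≃ₗ[S''] G'' := (LinearEquiv.baseChange S S'' N G e) ≪≫ₗ
    (Groth.L20.isBaseChange_restrictScalars (R := S) (S := C) (R' := S'') (S' := C'') hgG).equiv
  haveI : Algebra.FinitePresentation S'' C'' :=
    Algebra.FinitePresentation.equiv (Algebra.IsPushout.equiv S S'' C C'')
  haveI : Algebra.FiniteType R'' S'' := by
    haveI : Algebra.FiniteType R S'' := Algebra.FiniteType.trans (inferInstance : Algebra.FiniteType R S) inferInstance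
    exact Algebra.FiniteType.of_restrictScalars_finiteType R R'' S''
  haveI := Groth.L20.RG.smooth_of_relDim hrel
  have hdom'' := Groth.L20.RG.DomFib.of_smooth_geomIrredFibres hirr''
  haveI := Groth.L20.RG.flat_of_smooth_relDim hn
  haveI := Groth.L20.RG.flat_of_smooth_relDim hrel
  haveI := Groth.L20.RG.isPrime_map_of_domFib hdom p
  haveI := Groth.L20.RG.isPrime_map_of_domFib hdom'' p''
  -- the generic point of the fibre is in the support
  letI : Module D G := Module.compHom G (algebraMap D C)
  haveI : IsScalarTower D C G := IsScalarTower.of_algebraMap_smul fun _ _ => rfl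
  haveI : Module.Finite D G := Module.Finite.trans C G
  have hgen : (⟨p.map (algebraMap R D), inferInstance⟩ : PrimeSpectrum D) ∈ Module.support D G :=
    mem_support_generic e hsurj hn hdom p hdim
  have hgen'' : (⟨p''.map (algebraMap R'' D''), inferInstance⟩ : PrimeSpectrum D'') ∈ Module.support D'' G'' := by
    rw [← (Groth.L20.RG.isBaseChange_mk_of_isPushout (A := D) (D := C) D'' C'' G).equiv.support_eq,
      Groth.L20.FibreSupport.mem_support_baseChange]
    refine Module.mem_support_mono (p := ⟨p.map (algebraMap R D), inferInstance⟩) ?_ hgen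
    show p.map (algebraMap R D) ≤ (p''.map (algebraMap R'' D'')).comap (algebraMap D D'')
    rw [Ideal.map_le_iff_le_comap, Ideal.comap_comap, ← IsScalarTower.algebraMap_eq,
      IsScalarTower.algebraMap_eq R R'' D'', ← Ideal.comap_comap]
    exact (Ideal.over_def p'' p).le.trans (Ideal.comap_mono Ideal.le_comap_map)
  obtain ⟨hdim'', h1''⟩ := Groth.L20.RG.oneStep_dim e'' hsurj'' hrel hdom'' p'' hgen'' q'' z'' y'' huniq
  exact ⟨R'', inferInstance, inferInstance, inferInstance, inferInstance, p'', inferInstance, hR'',
    T, inferInstance, inferInstance, inferInstance, inferInstance, inferInstance, inferInstance, hTpush,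
    D'', inferInstance, inferInstance, inferInstance, inferInstance, inferInstance, inferInstance, inferInstance,
    inferInstance, inferInstance, inferInstance, inferInstance, y'', inferInstance, inferInstance, inferInstance, hopen,
    C'', inferInstance, inferInstance, inferInstance, inferInstance, inferInstance, inferInstance, inferInstance,
    inferInstance, z'', inferInstance, inferInstance, inferInstance, inferInstance,
    G'', inferInstance, inferInstance, inferInstance, inferInstance, gG, hgG,
    S'', inferInstance, inferInstance, inferInstance, inferInstance, inferInstance, inferInstance, q'', inferInstance,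
    inferInstance, inferInstance, inferInstance, inferInstance, inferInstance, inferInstance, inferInstance, hSn, inferInstance,
    N'', inferInstance, inferInstance, inferInstance, inferInstance, inferInstance, inferInstance, gN,
    TensorProduct.isBaseChange S N S'',
    ⟨⟨e''⟩, hsurj'', inferInstance, inferInstance, inferInstance, hrel, hirr'', hdim''⟩, h1'', huniq, hpt''⟩

end Groth.Agent.S12245
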