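import Groth.Statements.S12247
import Groth.Agent.L20.RG.DevShrinkData

set_option autoImplicit false
set_option linter.style.haveILetI false
set_option backward.isDefEq.respectTransparency.types false
set_option linter.unusedVariables false
universe u
open FlatMor

set_option backward.isDefEq.respectTransparency.types false
namespace Groth.Agent.S12247

open TensorProduct in
/-- All schemes are affine and standard opens are rendered as localizations away from one element. Let R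
→ S be of finite type, N a finite S-module, p ⊆ R and q ⊆ S primes, and (𝒟, 𝒜) a complete dévissage
of N/S/R at q in the prelude's algebraic form, of length m (rings A_i, smooth R-algebras B_i,
modules M_i, maps α_i, points qA_i, qB_i, relative dimensions d_i, for i < m). Then for every w in
the last smooth algebra B_{m-1} outside its point qB_{m-1} there is a standard shrinking whose last
smooth piece is D(w) restricted over the shrunken base: g ∉ p and hX ∉ q, compatible structures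
making S[1/hX] and N[1/hX] live over R[1/g], and a complete dévissage (𝒟', 𝒜') of N[1/hX] over
S[1/hX] relative to R[1/g] at the extended prime of q, of the same length, ranks and relative
dimensions, whose rings A'_i, B'_i are localizations of A_i, B_i away from single elements a_i ∉
qA_i, b_i ∉ qB_i with b_{m-1} the product of w and the image of g (as algebras compatible with R →
R[1/g], with B_i → A_i, B_i → A_{i+1}, S → A_0 and S[1/hX] → A'_0), whose modules M'_i are the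
corresponding localizations of M_i (compatibly with N ≅ M_0), whose points lie over the qA_i, qB_i,
and with the image of α_i generating the image of α'_i. (The cokernel identifications of 𝒟' are not
pinned.) -/
theorem result
    (R S : Type u) [CommRing R] [CommRing S] [Algebra R S] [Algebra.FiniteType R S]
    (N : Type u) [AddCommGroup N] [Module S N] [Module.Finite S N]
    (p : Ideal R) [p.IsPrime] (q : Ideal S) [q.IsPrime] (𝒟 : FlatCA.CompleteDevissage R S N p)
    (𝒜 : FlatCA.CompleteDevissageAt R S N p q 𝒟)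
    (w : 𝒟.B (𝒟.n - 1)) (hw : w ∉ 𝒜.qB (𝒟.n - 1)) :
    ∃ (g : R) (hX : S), g ∉ p ∧ hX ∉ q ∧
      ∃ (_ : Algebra (Localization.Away g) (Localization.Away hX)) (_ : IsScalarTower R (Localization.Away g) (Localization.Away hX))
        (_ : Module (Localization.Away g) (LocalizedModule (Submonoid.powers hX) N)) (_ : IsScalarTower (Localization.Away g) (Localization.Away hX) (LocalizedModule (Submonoid.powers hX) N))
        (_ : (Ideal.map (algebraMap R (Localization.Away g)) p).IsPrime) (_ : (Ideal.map (algebraMap S (Localization.Away hX)) q).IsPrime)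
        (𝒟' : FlatCA.CompleteDevissage (Localization.Away g) (Localization.Away hX) (LocalizedModule (Submonoid.powers hX) N) (Ideal.map (algebraMap R (Localization.Away g)) p))
        (𝒜' : FlatCA.CompleteDevissageAt (Localization.Away g) (Localization.Away hX) (LocalizedModule (Submonoid.powers hX) N) (Ideal.map (algebraMap R (Localization.Away g)) p) (Ideal.map (algebraMap S (Localization.Away hX)) q) 𝒟')
        (a : ∀ i : Fin 𝒟.n, 𝒟.A i) (b : ∀ i : Fin 𝒟.n, 𝒟.B i)
      (aA : ∀ i : Fin 𝒟.n, Algebra (𝒟.A i) (𝒟'.A i)) (rA : ∀ i : Fin 𝒟.n, Algebra R (𝒟'.A i))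
      (_t1 : ∀ i : Fin 𝒟.n, IsScalarTower R (Localization.Away g) (𝒟'.A i)) (_t2 : ∀ i : Fin 𝒟.n, IsScalarTower R (𝒟.A i) (𝒟'.A i))
      (aB : ∀ i : Fin 𝒟.n, Algebra (𝒟.B i) (𝒟'.B i)) (rB : ∀ i : Fin 𝒟.n, Algebra R (𝒟'.B i))
      (_t3 : ∀ i : Fin 𝒟.n, IsScalarTower R (Localization.Away g) (𝒟'.B i)) (_t4 : ∀ i : Fin 𝒟.n, IsScalarTower R (𝒟.B i) (𝒟'.B i))
      (bA : ∀ i : Fin 𝒟.n, Algebra (𝒟.B i) (𝒟'.A i)) (_t5 : ∀ i : Fin 𝒟.n, IsScalarTower (𝒟.B i) (𝒟.A i) (𝒟'.A i))
      (_t6 : ∀ i : Fin 𝒟.n, IsScalarTower (𝒟.B i) (𝒟'.B i) (𝒟'.A i))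
      (bA' : ∀ i : Fin 𝒟.n, Algebra (𝒟.B i) (𝒟'.A (i + 1)))
      (_t7 : ∀ i : Fin 𝒟.n, IsScalarTower (𝒟.B i) (𝒟'.B i) (𝒟'.A (i + 1)))
      (sA : Algebra S (𝒟'.A 0)) (_t8 : IsScalarTower S (Localization.Away hX) (𝒟'.A 0))
      (mA : ∀ i : Fin 𝒟.n, Module (𝒟.A i) (𝒟'.M i)) (_t9 : ∀ i : Fin 𝒟.n, IsScalarTower (𝒟.A i) (𝒟'.A i) (𝒟'.M i))
      (gM : ∀ i : Fin 𝒟.n, 𝒟.M i →ₗ[𝒟.A i] 𝒟'.M i),
        𝒟'.n = 𝒟.n ∧ 𝒟'.r = 𝒟.r ∧ 𝒜'.d = 𝒜.d ∧
        (letI := aA ⟨0, 𝒟.pos⟩; IsScalarTower S (𝒟.A 0) (𝒟'.A 0)) ∧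
      (∀ x : N, 𝒟'.isoN (LocalizedModule.mkLinearMap (Submonoid.powers hX) N x) = gM ⟨0, 𝒟.pos⟩ (𝒟.isoN x)) ∧
      (∀ (i : Fin 𝒟.n) (h : (i : ℕ) + 1 < 𝒟.n),
        letI := aA ⟨i + 1, h⟩; IsScalarTower (𝒟.B i) (𝒟.A (i + 1)) (𝒟'.A (i + 1))) ∧
        b ⟨𝒟.n - 1, Nat.sub_one_lt_of_lt 𝒟.pos⟩ = w * algebraMap R (𝒟.B (𝒟.n - 1)) g ∧
        ∀ i : Fin 𝒟.n,
          a i ∉ 𝒜.qA i ∧ b i ∉ 𝒜.qB i ∧
          IsLocalization.Away (a i) (𝒟'.A i) ∧ IsLocalization.Away (b i) (𝒟'.B i) ∧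
          IsLocalizedModule (Submonoid.powers (a i)) (gM i) ∧
          (𝒜'.qA i).LiesOver (𝒜.qA i) ∧ (𝒜'.qB i).LiesOver (𝒜.qB i) ∧
          LinearMap.range (𝒟'.α i) =
            Submodule.span (𝒟'.B i) ((gM i) '' (LinearMap.range (𝒟.α i) : Set (𝒟.M i))) := by
  classical
  haveI := 𝒜.hqB
  let c : ∀ i, 𝒟.B i := Function.update (fun i => (1 : 𝒟.B i)) (𝒟.n - 1) w
  have hc : ∀ i, i < 𝒟.n → c i ∉ 𝒜.qB i := fun i _ => by
    rcases eq_or_ne i (𝒟.n - 1) with rfl | hne
    · simpa [c] using hw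
    · simpa [c, Function.update_of_ne hne] using fun h => Ideal.IsPrime.ne_top (I := 𝒜.qB i) inferInstance ((Ideal.eq_top_iff_one _).mpr h)
  have hdvd : ∀ i, i + 1 < 𝒟.n →
      algebraMap (𝒟.B i) (𝒟.A (i + 1)) (c i) ∣ algebraMap (𝒟.B (i + 1)) (𝒟.A (i + 1)) (c (i + 1)) := fun i hi => by
    simp [c, Function.update_of_ne (show i ≠ 𝒟.n - 1 by omega)]
  obtain ⟨g, hX, e, hg, hXq, -, hgX, hlast, he, hrange, hlink, hsrc⟩ :=
    Groth.L20.RG.exists_shrink_data 𝒟 𝒜 1 (fun h => Ideal.IsPrime.ne_top inferInstance ((Ideal.eq_top_iff_one q).mpr h)) c hc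
      (by rw [map_one]; exact one_dvd _) hdvd
  obtain ⟨m, hm⟩ : ∃ m, 𝒟.n = m + 1 := ⟨𝒟.n - 1, by have := 𝒟.pos; omega⟩
  let R' := Localization.Away g
  let S' := Localization.Away hX
  let N' := LocalizedModule (Submonoid.powers hX) N
  have hgS : IsUnit (algebraMap R S' g) := by
    rw [IsScalarTower.algebraMap_apply R S S']
    exact IsLocalization.Away.isUnit_of_dvd hX hgX
  letI aRS : Algebra R' S' := (IsLocalization.Away.lift g hgS).toAlgebra
  haveI tRS : IsScalarTower R R' S' := IsScalarTower.of_algebraMap_eq fun x => (IsLocalization.Away.lift_eq g hgS x).symm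
  letI mRN : Module R' N' := Module.compHom N' (algebraMap R' S')
  haveI tRSN : IsScalarTower R' S' N' := IsScalarTower.of_algebraMap_smul fun _ _ => rfl
  haveI hp' : (Ideal.map (algebraMap R R') p).IsPrime :=
    IsLocalization.isPrime_of_isPrime_disjoint (Submonoid.powers g) R' p inferInstance
      ((Ideal.disjoint_powers_iff_notMem g (Ideal.IsPrime.isRadical inferInstance)).mpr hg)
  haveI hq' : (Ideal.map (algebraMap S S') q).IsPrime :=
    IsLocalization.isPrime_of_isPrime_disjoint (Submonoid.powers hX) S' q inferInstance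
      ((Ideal.disjoint_powers_iff_notMem hX (Ideal.IsPrime.isRadical inferInstance)).mpr hXq)
  haveI : (Ideal.map (algebraMap R R') p).LiesOver p := ⟨(IsLocalization.under_map_of_isPrime_disjoint
    (Submonoid.powers g) R' inferInstance ((Ideal.disjoint_powers_iff_notMem g (Ideal.IsPrime.isRadical inferInstance)).mpr hg)).symm⟩
  have hqq : (Ideal.map (algebraMap S S') q).comap (algebraMap S S') = q :=
    IsLocalization.under_map_of_isPrime_disjoint (Submonoid.powers hX) S' inferInstance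
      ((Ideal.disjoint_powers_iff_notMem hX (Ideal.IsPrime.isRadical inferInstance)).mpr hXq)
  obtain ⟨𝒟', 𝒜', ⟨T⟩⟩ := Groth.L20.RG.exists_devLoc R' g hg (Ideal.map (algebraMap R R') p)
    (Groth.L20.RG.isEtaleNhd_away p hg _).2 m 𝒟 𝒜 e hm he hrange hlink hX hsrc S' N'
    (LocalizedModule.mkLinearMap (Submonoid.powers hX) N) (IsLocalizedModule.isBaseChange (Submonoid.powers hX) S' _)
    (Ideal.map (algebraMap S S') q) hqq
  refine ⟨g, hX, hg, hXq, aRS, tRS, mRN, tRSN, hp', hq', 𝒟', 𝒜',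
    fun i => algebraMap (𝒟.B i) (𝒟.A i) (e i * algebraMap R (𝒟.B i) g), fun i => e i * algebraMap R (𝒟.B i) g,
    fun i => (T.steps i i.2).φA.toAlgebra,
    fun i => ((algebraMap R' (𝒟'.A i)).comp (algebraMap R R')).toAlgebra,
    fun i => @IsScalarTower.of_algebraMap_eq' _ _ _ _ _ _ _ _ (_) rfl,
    fun i => @IsScalarTower.of_algebraMap_eq' _ _ _ _ _ _ _ (_) (_) (T.steps i i.2).commA.symm,
    fun i => (T.steps i i.2).φB.toAlgebra,
    fun i => ((algebraMap R' (𝒟'.B i)).comp (algebraMap R R')).toAlgebra,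
    fun i => @IsScalarTower.of_algebraMap_eq' _ _ _ _ _ _ _ _ (_) rfl,
    fun i => @IsScalarTower.of_algebraMap_eq' _ _ _ _ _ _ _ (_) (_) (T.steps i i.2).commB.symm,
    fun i => ((T.steps i i.2).φA.comp (algebraMap (𝒟.B i) (𝒟.A i))).toAlgebra,
    fun i => @IsScalarTower.of_algebraMap_eq' _ _ _ _ _ _ _ (_) (_) rfl,
    fun i => @IsScalarTower.of_algebraMap_eq' _ _ _ _ _ _ (_) _ (_) (T.steps i i.2).commBA,
    fun i => ((algebraMap (𝒟'.B i) (𝒟'.A (i + 1))).comp (T.steps i i.2).φB).toAlgebra,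
    fun i => @IsScalarTower.of_algebraMap_eq' _ _ _ _ _ _ (_) _ (_) rfl,
    ((algebraMap S' (𝒟'.A 0)).comp (algebraMap S S')).toAlgebra,
    @IsScalarTower.of_algebraMap_eq' _ _ _ _ _ _ _ _ (_) rfl,
    fun i => Module.compHom _ (T.steps i i.2).φA, ?_,
    fun i => Groth.L20.RG.linMap (T.steps i i.2).φA (T.steps i i.2).g (T.steps i i.2).semilin,
    T.len, funext T.rank, funext T.dim, ?_, fun x => T.isoN x, ?_, by simp [hlast, c], fun i => ?_⟩
  · intro i
    letI := (T.steps i i.2).φA.toAlgebra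
    letI := Module.compHom (𝒟'.M i) (T.steps i i.2).φA
    exact IsScalarTower.of_algebraMap_smul fun _ _ => rfl
  · exact @IsScalarTower.of_algebraMap_eq' _ _ _ _ _ _ _ (_) (_) T.src.symm
  · intro i h
    exact @IsScalarTower.of_algebraMap_eq' _ _ _ _ _ _ _ (_) (_) (T.link i h).symm
  · haveI := 𝒜.hqB i
    haveI := 𝒜.hqA i
    haveI := 𝒜.overB i
    haveI := 𝒜.overA i
    have hgB : algebraMap R (𝒟.B i) g ∉ 𝒜.qB i := fun h => hg ((Ideal.mem_of_liesOver (𝒜.qB i) p g).mpr h)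
    have hb : e i * algebraMap R (𝒟.B i) g ∉ 𝒜.qB i := fun h => (Ideal.IsPrime.mem_or_mem' h).elim (he i i.2) hgB
    exact ⟨fun h => hb ((Ideal.mem_of_liesOver (𝒜.qA i) (𝒜.qB i) _).mpr h), hb, (T.steps i i.2).locA, (T.steps i i.2).locB,
      (T.steps i i.2).isLoc, @Ideal.LiesOver.mk _ _ _ _ (_) _ _ (T.steps i i.2).ptA.symm,
      @Ideal.LiesOver.mk _ _ _ _ (_) _ _ (T.steps i i.2).ptB.symm, (T.steps i i.2).range⟩

end Groth.Agent.S12247
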