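import Groth.Statements.S12249
import Groth.Agent.L12.Criteria


set_option autoImplicit false
universe u v
open CategoryTheory
open Deform

namespace Groth.Agent.S12249

/-- Let k be an algebraically closed field and F a set-valued functor on local Artinian k-algebras with
residue field k such that F(k) is a single point. If F has a semiuniversal formal element and its
tangent space F(k[ε]) is reduced to one element, then F(A) consists of exactly one element for every
A: F is the constant one-point functor h_k. -/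
theorem result
    {k : Type u} [Field k] [IsAlgClosed k]
    (F : ArtFun.Art k k ⥤ Type v) (h0 : ArtFun.H0 F) (hF : ArtFun.HasHull F)
    (ht : Subsingleton (ArtFun.TangentSpace F)) (A : ArtFun.Art k k) :
    Nonempty (F.obj A) ∧ Subsingleton (F.obj A) := by
  obtain ⟨H⟩ := hF
  have hb : ∀ ⦃C : ArtFun.Art k k⦄, Nonempty (F.obj C) := fun C => by
    obtain ⟨x⟩ := h0.1
    exact ⟨F.map (⟨Algebra.ofId k C, AlgHom.ext fun c => C.res.commutes c⟩ : ArtFun.Art.base k k ⟶ C) x⟩
  refine ⟨@hb A, ⟨?_⟩⟩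
  intro y y'
  obtain ⟨φ, rfl⟩ := Groth.L12.miniversal_surjective H.family H.miniversal A y
  obtain ⟨ψ, rfl⟩ := Groth.L12.miniversal_surjective H.family H.miniversal A y'
  suffices H' : ∀ ⦃A B : ArtFun.Art k k⦄ (μ : B ⟶ A), Function.Surjective μ →
      ∀ φ ψ : ArtFun.HomSet H.ring.carrier H.ring.res B,
      ArtFun.HomSet.map μ φ = ArtFun.HomSet.map μ ψ → φ = ψ by
    rw [H' (ArtFun.Art.toBase A) (Groth.L12.toBase_surjective A) φ ψ
      (by rw [Groth.L12.basePt_eq (ArtFun.HomSet.map _ φ), Groth.L12.basePt_eq (ArtFun.HomSet.map _ ψ)])]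
  intro A B μ hμ
  refine Groth.L12.surjective_induction (fun A B μ => ∀ φ ψ : ArtFun.HomSet H.ring.carrier H.ring.res B,
      ArtFun.HomSet.map μ φ = ArtFun.HomSet.map μ ψ → φ = ψ) ?_ ?_ ?_ μ hμ
  · exact fun A B e he φ ψ h => (Groth.L12.map_bijective_of_isIso (ArtFun.hR H.ring.carrier H.ring.res) e).1 h
  · intro A B μ hμ φ ψ h
    obtain ⟨S⟩ := Groth.L12.nonempty_smallSquare hμ
    obtain ⟨δ, hδ₁, hδ₂, -⟩ := S.exists_diag
    obtain ⟨z, hz₁, hz₂⟩ := S.exists_over (F := ArtFun.hR H.ring.carrier H.ring.res)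
      (Groth.L12.rs_hR H.ring.res).hbar φ ψ h
    have : z = (ArtFun.hR H.ring.carrier H.ring.res).map δ φ := S.ext_act (Groth.L12.rs_hR H.ring.res).heps
      (by rw [hz₁, Groth.L12.map_map, hδ₁, Groth.L12.map_id'])
      (H.miniversal.2.1 (@Subsingleton.elim _ ht _ _))
    rw [← hz₂, this, Groth.L12.map_map, hδ₂, Groth.L12.map_id']
  · intro A B C p q hp hq y y' h
    exact hp y y' (hq _ _ h)
end Groth.Agent.S12249
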