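import Groth.Statements.S1225
import Groth.Agent.L20.RG.AssCover

set_option autoImplicit false
universe u
open FlatMor

set_option backward.isDefEq.respectTransparency.types false
namespace Groth.Agent.S1225

open IsLocalRing in
/-- Ring form, X = Spec B affine: let A be a local ring, B a finite type A-algebra and N a finite
B-module which is flat over A and pure along the closed fibre. Then a B-linear map φ from N to any
B-module is injective if and only if its localization at q is injective for every prime q of B over
𝔪_A whose extension to the closed fibre ring is an associated prime of the closed fibre module. -/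
theorem result {A B : Type u} [CommRing A] [IsLocalRing A] [CommRing B] [Algebra A B] [Algebra.FiniteType A B]
    (N : Type u) [AddCommGroup N] [Module B N] [Module A N] [IsScalarTower A B N] [Module.Finite B N] [Module.Flat A N]
    (hpure : FlatCA.IsPureAlong A B N (maximalIdeal A))
    (N' : Type u) [AddCommGroup N'] [Module B N'] (φ : N →ₗ[B] N') :
    Function.Injective φ ↔ ∀ (q : Ideal B) [q.IsPrime], q.LiesOver (maximalIdeal A) →
      FlatCA.fiberIdeal (maximalIdeal A) q ∈ associatedPrimes ((maximalIdeal A).Fiber B) (FlatCA.fiberMod (maximalIdeal A) B N) →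
      Function.Injective (LocalizedModule.map q.primeCompl φ) := by
  constructor
  · intro hφ q _ _ _
    exact LocalizedModule.map_injective _ φ hφ
  intro h
  refine (injective_iff_map_eq_zero _).mpr fun z hz => ?_
  by_contra hne
  obtain ⟨P, hP, hle⟩ := Groth.L03.WeakAss.exists_mem_weakAss_of_ne_zero (R := B) hne
  haveI := Groth.L03.WeakAss.isPrime_of_mem_weakAss hP
  let t' := P.comap (algebraMap A B)
  haveI : P.LiesOver t' := ⟨rfl⟩
  rw [← Groth.L20.WeakAssFinite.weakAss_congr (TensorProduct.AlgebraTensorModule.rid A B N)] at hP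
  have hass := Groth.L20.RG.fiberIdeal_mem_of_weakAss N A inferInstance hP t'
  obtain ⟨q, hq, hPq, hqm⟩ : ∃ q : Ideal B, q.IsPrime ∧ P ≤ q ∧ q.LiesOver (maximalIdeal A) := by
    by_contra hno
    exact hpure A B N LinearMap.id t' (maximalIdeal A) P ⟨inferInstance, Groth.L20.RG.trivRes_id (maximalIdeal A)⟩
      ⟨⟨IsBaseChange.linearMap A B⟩, (IsBaseChange.ofEquiv (LinearEquiv.refl B N) : IsBaseChange B (LinearEquiv.refl B N).toLinearMap),
        IsLocalRing.le_maximalIdeal (Ideal.IsPrime.ne_top'), ⟨(Ideal.comap_id _).symm⟩, ⟨rfl⟩, hass,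
        fun P' hP' hle' hover => hno ⟨P', hP', hle', hover⟩⟩
  haveI := hq
  haveI := hqm
  obtain ⟨P₀, hP₀, hPP₀, -⟩ := Groth.L20.RG.exists_le_weakAss_fibre N A (maximalIdeal A) q
    (Groth.L20.FibreCrit.flat_localizedModule_of_flat q.primeCompl) hP hPq
  haveI := Groth.L03.WeakAss.isPrime_of_mem_weakAss hP₀
  haveI := Groth.L20.RG.liesOver_of_mem_weakAss_fibre (maximalIdeal A) N hP₀
  have hinj := h P₀ inferInstance ((Groth.L20.RG.fiberIdeal_mem_ass_iff_weakAss _ N P₀).mpr hP₀)
  have h0 : LocalizedModule.mk z (1 : P₀.primeCompl) = 0 := hinj (by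
    rw [map_zero, LocalizedModule.map_mk, hz, LocalizedModule.zero_mk])
  rw [← LocalizedModule.zero_mk (S := P₀.primeCompl) 1, LocalizedModule.mk_eq] at h0
  obtain ⟨s, hs⟩ := h0
  simp only [one_smul, smul_zero] at hs
  exact s.2 (hPP₀ (hle (Groth.L03.WeakAss.mem_annE.2 hs)))

end Groth.Agent.S1225
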