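import Groth.Statements.S12252
import Groth.Agent.L12.CRingHom


set_option autoImplicit false
universe u v
open CategoryTheory
open Deform

namespace Groth.Agent.S12252

/-- Let k be an algebraically closed field, Λ a complete local Noetherian k-algebra with residue field k
and F a set-valued functor on local Artinian Λ-algebras with residue field k. If (R, u) and (S, v)
both prorepresent F (complete local Noetherian Λ-algebras with residue field k carrying universal
families), then there is a unique isomorphism of Λ-algebras R ≅ S, compatible with the augmentations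
to k, along which the universal family of R is transported to that of S. -/
theorem result
    {k Λ : Type u} [Field k] [IsAlgClosed k] [CommRing Λ] [IsLocalRing Λ] [IsNoetherianRing Λ]
    [IsAdicComplete (IsLocalRing.maximalIdeal Λ) Λ] [Algebra k Λ] [Algebra Λ k] [IsScalarTower k Λ k]
    {F : ArtFun.Art Λ k ⥤ Type v} (P Q : ArtFun.ProRep F) :
    ∃! e : P.ring.carrier ≃ₐ[Λ] Q.ring.carrier,
      ∃ he : Q.ring.res.comp e.toAlgHom = P.ring.res, P.family.along e.toAlgHom he = Q.family := by
  obtain ⟨g, hg, hgu⟩ := Groth.L12.exists_along_eq (Groth.L12.universal_app_bijective P.family P.universal).1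
    P.family (fun B A μ hμ φ y hy => by
      obtain ⟨ψ, rfl⟩ := (P.universal B).2 y
      exact ⟨ψ, (P.universal A).1 (by rw [P.family.natural, hy]), rfl⟩) Q.ring Q.family.toFormalElt
  obtain ⟨g', hg', hg'u⟩ := Groth.L12.exists_along_eq (Groth.L12.universal_app_bijective P.family P.universal).1
    Q.family (fun B A μ hμ φ y hy => by
      obtain ⟨ψ, rfl⟩ := (Q.universal B).2 y
      exact ⟨ψ, (Q.universal A).1 (by rw [Q.family.natural, hy]), rfl⟩) P.ring P.family.toFormalElt
  have h₁ : g'.comp g = AlgHom.id Λ P.ring.carrier := Groth.L12.universal_hom_ext P.family P.universal _ _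
    (by rw [← AlgHom.comp_assoc, hg', hg]) (AlgHom.comp_id _) (by
      rw [Groth.L12.toFormalElt_along_comp _ _ hg _ hg', hgu, ← Groth.L12.toFormalElt_along, hg'u, Groth.L12.along_id])
  have h₂ : g.comp g' = AlgHom.id Λ Q.ring.carrier := Groth.L12.universal_hom_ext Q.family Q.universal _ _
    (by rw [← AlgHom.comp_assoc, hg, hg']) (AlgHom.comp_id _) (by
      rw [Groth.L12.toFormalElt_along_comp _ _ hg' _ hg, hg'u, ← Groth.L12.toFormalElt_along, hgu, Groth.L12.along_id])
  refine ⟨AlgEquiv.ofAlgHom g g' h₂ h₁, ⟨hg, Groth.L12.family_eq_of_toFormalElt hgu⟩, fun e ⟨he, hee⟩ => ?_⟩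
  exact AlgEquiv.coe_toAlgHom_injective (Groth.L12.universal_hom_ext P.family P.universal _ _ he hg
    ((congrArg ArtFun.Family.toFormalElt hee).trans hgu.symm))
end Groth.Agent.S12252
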