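import Groth.Statements.S12254
import Groth.Agent.L14.DefLift.AutOmega

set_option autoImplicit false
universe u
open CategoryTheory CategoryTheory.Limits AlgebraicGeometry
open Deform

namespace Groth.Agent.S12254

/-- Let k be an algebraically closed field and X a projective k-scheme, given with a closed immersion
into some P^n_k over k. Then the space of infinitesimal automorphisms H^0(X, T_X) =
Hom_{O_X}(Ω_{X/k}, O_X) vanishes if and only if, for every local Artinian k-algebra A with residue
field k and every deformation of X over A (a scheme flat over Spec A together with a morphism from X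
identifying X with the closed fibre), the only automorphism of the total space over Spec A
compatible with the inclusion of X is the identity. -/
theorem result
    {k : Type u} [Field k] [IsAlgClosed k] (X : Scheme.{u}) (x : X ⟶ Spec (CommRingCat.of k))
    [LocallyOfFiniteType x] [IsSeparated x] [QuasiCompact x]
    (hproj : ∃ (n : ℕ) (c : X ⟶ CohB1.ProjSpaceOver n (Spec (CommRingCat.of k))),
      IsClosedImmersion c ∧ c ≫ CohB1.ProjSpaceOver.toBase n (Spec (CommRingCat.of k)) = x) :
    Subsingleton (Omega.sheaf x ⟶ Coh.structureModule X) ↔
      ∀ (A : ArtFun.Art k k) (ξ : ArtFun.DefSch X x A) (e : ξ.Iso ξ), e.iso.hom = 𝟙 ξ.total := by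
  rw [← Groth.L14.DefLift.derZero_iff x]
  exact ⟨fun h A ξ e => Groth.L14.DefLift.hom_eq_id h ξ e, Groth.L14.DefLift.derZero_of_rigid⟩

end Groth.Agent.S12254
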