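import Groth.Statements.S12261
import Groth.Agent.L14.LocHilb.Finite

set_option autoImplicit false
universe u
open CategoryTheory CategoryTheory.Limits AlgebraicGeometry
open Deform

namespace Groth.Agent.S12261

/-- Let k be an algebraically closed field, Y a separated k-scheme of finite type and X ⊆ Y the closed
subscheme of a quasi-coherent ideal sheaf I₀; assume X is projective over k, i.e. X admits a closed
immersion over k into some projective space P^n_k. Then the local Hilbert functor of X in Y (closed
subschemes of Y ×_k Spec A flat over Spec A restricting to X on the closed fibre, for A local
Artinian with residue field k) is prorepresentable by a complete local Noetherian k-algebra with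
residue field k. (The published statement assumes only that the space of global sections of the
normal sheaf of X in Y is finite-dimensional, X projective being the named instance; this row states
the projective case.) -/
theorem result
    {k : Type u} [Field k] [IsAlgClosed k] (Y : Scheme.{u}) (y : Y ⟶ Spec (CommRingCat.of k))
    [LocallyOfFiniteType y] [IsSeparated y] [QuasiCompact y] (I₀ : Y.IdealSheafData)
    (hproj : ∃ (n : ℕ) (c : I₀.subscheme ⟶ CohB1.ProjSpaceOver n (Spec (CommRingCat.of k))),
      IsClosedImmersion c ∧ c ≫ CohB1.ProjSpaceOver.toBase n (Spec (CommRingCat.of k)) = I₀.subschemeι ≫ y) :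
    ArtFun.IsProrepresentable (ArtFun.localHilb Y y I₀) := by
  obtain ⟨n, c, hc, hcx⟩ := hproj
  haveI : IsProper (I₀.subschemeι ≫ y) := hcx ▸ inferInstance
  exact Groth.L14.LocHilb.isProrep_of_proper I₀

end Groth.Agent.S12261
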