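import Groth.Statements.S12268
import Groth.Agent.L14.DefLift.HullDim

set_option autoImplicit false
universe u
open CategoryTheory CategoryTheory.Limits AlgebraicGeometry
open Deform

namespace Groth.Agent.S12268

/-- Let k be an algebraically closed field and B₀ a k-algebra with a finite presentation P =
k[X_i]/(f_s); let T¹ = T¹(B₀/k, B₀) and T² = T²(B₀/k, B₀) be the first and second cotangent modules
computed from P, and assume T¹ is finite-dimensional over k. Then for every semiuniversal formal
deformation of Spec B₀ — a complete local Noetherian k-algebra R̄ with residue field k carrying a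
miniversal family for the functor Def_{B₀} of isomorphism classes of deformations — one has dim R̄ ≤
dim_k T¹; if T² is finite-dimensional as well, dim_k T¹ ≤ dim R̄ + dim_k T²; and dim R̄ = dim_k T¹
holds exactly when Spec B₀ is unobstructed, i.e. Def_{B₀}(B) → Def_{B₀}(A) is surjective for every
surjection B → A of local Artinian k-algebras with residue field k. (The published statement writes
the lower bound as dim_k T¹ − dim_k T² ≤ dim R̄, empty when T² is infinite-dimensional, and allows a
localisation of the polynomial ring as ambient algebra.) -/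
theorem result
    {k : Type u} [Field k] [IsAlgClosed k] (B₀ : Type u) [CommRing B₀] [Algebra k B₀] {ι σ : Type u} [Finite ι] [Finite σ]
    (P : Algebra.Presentation k B₀ ι σ)
    [Module.Finite k (CotT.T1 P B₀)] (H : ArtFun.Hull (ArtFun.defFunctor (Λ := k) (Spec (CommRingCat.of B₀)) (Spec.map (CommRingCat.ofHom (algebraMap k B₀))))) :
    ringKrullDim H.ring.carrier ≤ ((Module.finrank k (CotT.T1 P B₀) : ℕ∞) : WithBot ℕ∞) ∧
      (Module.Finite k (CotT.T2 P B₀) →
        ((Module.finrank k (CotT.T1 P B₀) : ℕ∞) : WithBot ℕ∞) ≤
          ringKrullDim H.ring.carrier + ((Module.finrank k (CotT.T2 P B₀) : ℕ∞) : WithBot ℕ∞)) ∧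
      (ringKrullDim H.ring.carrier = ((Module.finrank k (CotT.T1 P B₀) : ℕ∞) : WithBot ℕ∞) ↔
        ArtFun.IsSmoothFunctor (ArtFun.defFunctor (Λ := k) (Spec (CommRingCat.of B₀)) (Spec.map (CommRingCat.ofHom (algebraMap k B₀))))) := by
  exact Groth.L14.DefLift.hull_bounds P H

end Groth.Agent.S12268
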