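import Groth.Statements.S1227
import Mathlib.LinearAlgebra.DirectSum.Finsupp
import Mathlib.Algebra.Module.Projective
import Mathlib.LinearAlgebra.TensorProduct.RightExactness

set_option autoImplicit false
universe u
open FlatMor

namespace Groth.Agent.S1227

open TensorProduct in
/-- Let u be a surjective linear map from a projective A-module M to an A-module N. Then there is an
ideal I of A such that for every A-algebra B, the base change u ⊗ 1 from B ⊗ M to B ⊗ N is bijective
if and only if the image of I in B is zero. -/
theorem result {A : Type u} [CommRing A] {M N : Type u} [AddCommGroup M] [Module A M] [Module.Projective A M]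
    [AddCommGroup N] [Module A N] (u : M →ₗ[A] N) (hu : Function.Surjective u) :
    ∃ I : Ideal A, ∀ (B : Type u) [CommRing B] [Algebra A B],
      Function.Bijective (u.baseChange B) ↔ I.map (algebraMap A B) = ⊥ := by
  classical
  obtain ⟨σ, hσ⟩ := Module.Projective.out (R := A) (P := M)
  let r : (M →₀ A) →ₗ[A] M := Finsupp.linearCombination A id
  have hrσ : r ∘ₗ σ = LinearMap.id := LinearMap.ext hσ
  refine ⟨Ideal.span {a | ∃ k i, u k = 0 ∧ σ k i = a}, fun B _ _ => ?_⟩
  have hex : Function.Exact ((LinearMap.ker u).subtype.baseChange B) (u.baseChange B) :=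
    lTensor_exact B (LinearMap.exact_subtype_ker_map u) hu
  have hsurj : Function.Surjective (u.baseChange B) := LinearMap.lTensor_surjective B hu
  have hcoord : ∀ (x : M →₀ A) (i : M),
      TensorProduct.finsuppScalarRight A A B M ((1 : B) ⊗ₜ[A] x) i = algebraMap A B (x i) := by
    intro x i
    simp [Algebra.algebraMap_eq_smul_one]
  constructor
  · intro hbij
    rw [Ideal.map_span, Ideal.span_eq_bot]
    rintro _ ⟨_, ⟨k, i, hk, rfl⟩, rfl⟩
    have h0 : (1 : B) ⊗ₜ[A] k = 0 := hbij.1 (by simp [hk])
    rw [← hcoord, show (1 : B) ⊗ₜ[A] σ k = σ.lTensor B ((1 : B) ⊗ₜ[A] k) from rfl, h0, map_zero,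
      map_zero, Finsupp.zero_apply]
  · intro hI
    refine ⟨?_, hsurj⟩
    rw [injective_iff_map_eq_zero]
    intro z hz
    obtain ⟨w, rfl⟩ := (hex z).mp hz
    clear hz
    induction w using TensorProduct.induction_on with
    | zero => simp
    | add a b ha hb => rw [map_add, ha, hb, add_zero]
    | tmul b k =>
      obtain ⟨k, hk⟩ := k
      have h1 : (1 : B) ⊗ₜ[A] σ k = 0 := by
        apply (TensorProduct.finsuppScalarRight A A B M).injective
        ext1 i
        rw [hcoord, map_zero, Finsupp.zero_apply, ← Ideal.mem_bot, ← hI]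
        exact Ideal.mem_map_of_mem _ (Ideal.subset_span ⟨k, i, hk, rfl⟩)
      have h2 : (1 : B) ⊗ₜ[A] k = 0 := by
        have := congrArg (r.lTensor B) h1
        rwa [LinearMap.lTensor_tmul, map_zero, show r (σ k) = k from LinearMap.congr_fun hrσ k] at this
      rw [LinearMap.baseChange_tmul, Submodule.subtype_apply,
        show b ⊗ₜ[A] k = b • ((1 : B) ⊗ₜ[A] k) by simp [TensorProduct.smul_tmul'], h2, smul_zero]

end Groth.Agent.S1227
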