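import Groth.Statements.S12275
import Groth.Agent.L14.DefLift.LocTriv.Ext

set_option autoImplicit false
universe u
open CategoryTheory CategoryTheory.Limits AlgebraicGeometry
open scoped TensorProduct
attribute [local instance] HasDerivedCategory.standard
open DefT

namespace Groth.Agent.S12275

/-- Let k be an algebraically closed field and X₀ a separated k-scheme of finite type, smooth over k,
with tangent sheaf T = Hom_{O_{X₀}}(Ω_{X₀/k}, O_{X₀}) (the sheaf Hom, assumed to exist as the right
adjoint of tensoring with Ω_{X₀/k}). Let C' → C be a surjection of local Artinian k-algebras with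
residue field k whose kernel J is annihilated by the maximal ideal of C', and let X be a deformation
of X₀ over C (a scheme flat over Spec C with a morphism from X₀ identifying X₀ with the closed
fibre). By an extension of X over C' we mean a deformation X' of X₀ over C' equipped with an
isomorphism of deformations (over Spec C and under X₀) from the base change of X' to C onto X; two
extensions are equivalent when there is an isomorphism of deformations X' ≅ X'' over C' whose base
change to C carries the first identification to the second. If at least one extension exists, then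
the set of equivalence classes of extensions of X over C' is in bijection with H^1(X₀, T) ⊗_k J.
(The published statement says that this set is a torsor under H^1(X₀, T ⊗ J) for X₀ nonsingular;
this row asserts only the existence of a bijection, and also assumes X₀ separated, which the printed
argument uses when it treats intersections of affine opens as affine.) -/
theorem result
    {k : Type u} [Field k] [IsAlgClosed k] (X₀ : Scheme.{u}) [X₀.Over (Spec (CommRingCat.of k))]
    [LocallyOfFiniteType (X₀ ↘ Spec (CommRingCat.of k))]
    [IsSeparated (X₀ ↘ Spec (CommRingCat.of k))] [QuasiCompact (X₀ ↘ Spec (CommRingCat.of k))]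
    [Smooth (X₀ ↘ Spec (CommRingCat.of k))]
    [DCoh.HasSheafHom (Omega.sheaf (X₀ ↘ Spec (CommRingCat.of k)))]
    {C' C : ArtFun.Art k k} (p : C' ⟶ C) (hp : ArtFun.Art.IsSemismallExt p)
    (𝒳 : ArtFun.DefSch X₀ (X₀ ↘ Spec (CommRingCat.of k)) C)
    (hne : ∃ 𝒳' : ArtFun.DefSch X₀ (X₀ ↘ Spec (CommRingCat.of k)) C', Nonempty ((𝒳'.baseChange p).Iso 𝒳)) :
    Nonempty (Quot (fun a b : (Σ 𝒳' : ArtFun.DefSch X₀ (X₀ ↘ Spec (CommRingCat.of k)) C', (𝒳'.baseChange p).Iso 𝒳) =>
        ∃ ψ : a.1.Iso b.1, ((ψ.baseChange p).trans b.2).iso = a.2.iso) ≃
      (Coh.HH X₀ ((DCoh.sheafHom (Omega.sheaf (X₀ ↘ Spec (CommRingCat.of k)))).obj (Coh.structureModule X₀)) 1 ⊗[k]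
        ↥(RingHom.ker p.toAlgHom))) := by
  exact Groth.L14.LocTriv.nonempty_ext_equiv hp hne

end Groth.Agent.S12275
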