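import Groth.Statements.S12279
import Groth.Agent.L12.VBLift.Small

set_option autoImplicit false
universe u
open CategoryTheory CategoryTheory.Limits AlgebraicGeometry
open scoped TensorProduct
attribute [local instance] HasDerivedCategory.standard
open DefT

namespace Groth.Agent.S12279

/-- Let k be a field and X₀ a k-scheme; let C' → C be a surjection of local Artinian k-algebras with
residue field k whose kernel J is annihilated by the maximal ideal of C', X' a deformation of X₀
over C' (a scheme flat over Spec C' with a morphism from X₀ identifying X₀ with the closed fibre)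
and X = X' ×_{Spec C'} Spec C its base change. Let F be a finite locally free O_X-module, F₀ its
restriction to X₀ and End F₀ = Hom_{O_{X₀}}(F₀, F₀) its sheaf of endomorphisms (the sheaf Hom,
assumed to exist as the right adjoint of tensoring with F₀). If H^1(X₀, End F₀) = 0, then any two
finite locally free O_{X'}-modules F' and F'' whose restrictions to X are both isomorphic to F are
isomorphic. (The published statement says that the set of extensions of F over X', when non-empty,
is a torsor under H^1(X₀, End F₀ ⊗ J), for deformations over arbitrary local Artin rings; this row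
states the consequence when H^1(X₀, End F₀) = 0, over local Artinian k-algebras, and compares the
extensions only as O_{X'}-modules.) -/
theorem result
    {k : Type u} [Field k] (X₀ : Scheme.{u}) (x : X₀ ⟶ Spec (CommRingCat.of k))
    {C' C : ArtFun.Art k k} (p : C' ⟶ C) (hp : ArtFun.Art.IsSemismallExt p)
    (X' : ArtFun.DefSch X₀ x C')
    (F : (X'.baseChange p).total.Modules) (hF : FlatMod.IsFinLocFree F)
    [DCoh.HasSheafHom ((Scheme.Modules.pullback (X'.baseChange p).i).obj F)]
    (h1 : Subsingleton (Coh.HH X₀ ((DCoh.sheafHom ((Scheme.Modules.pullback (X'.baseChange p).i).obj F)).obj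
        ((Scheme.Modules.pullback (X'.baseChange p).i).obj F)) 1))
    (F' F'' : X'.total.Modules) (hF' : FlatMod.IsFinLocFree F') (hF'' : FlatMod.IsFinLocFree F'')
    (e' : Nonempty ((Scheme.Modules.pullback (pullback.fst X'.f (ArtFun.Art.specMap p))).obj F' ≅ F))
    (e'' : Nonempty ((Scheme.Modules.pullback (pullback.fst X'.f (ArtFun.Art.specMap p))).obj F'' ≅ F)) :
    Nonempty (F' ≅ F'') := by
  haveI : HasExt.{u} X'.total.Modules := by
    haveI := Groth.L00.Tensor.grothendieckAbelian_modules X'.total
    exact CategoryTheory.hasExt_of_enoughInjectives _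
  haveI : HasExt.{u} X₀.Modules := by
    haveI := Groth.L00.Tensor.grothendieckAbelian_modules X₀
    exact CategoryTheory.hasExt_of_enoughInjectives _
  letI : Algebra C' C := p.toAlgHom.toRingHom.toAlgebra
  letI a₀ : Algebra C' k := C'.res.toRingHom.toAlgebra
  haveI : IsClosedImmersion (ArtFun.Art.specMap p) := IsClosedImmersion.spec_of_surjective _ hp.1
  haveI : IsClosedImmersion (ArtFun.Art.specRes C') := IsClosedImmersion.spec_of_surjective _ C'.res_surjective
  haveI : IsClosedImmersion (pullback.fst X'.f (ArtFun.Art.specMap p)) :=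
    MorphismProperty.of_isPullback (P := @IsClosedImmersion)
      (IsPullback.of_hasPullback X'.f (ArtFun.Art.specMap p)).flip inferInstance
  haveI : IsClosedImmersion X'.i :=
    MorphismProperty.of_isPullback (P := @IsClosedImmersion) X'.isPullback.flip inferInstance
  have hm : RingHom.ker (C'.res : C' →+* k) = IsLocalRing.maximalIdeal C' :=
    IsLocalRing.eq_maximalIdeal (RingHom.ker_isMaximal_of_surjective _ C'.res_surjective)
  haveI : (RingHom.ker (algebraMap C' k)).IsMaximal :=
    RingHom.ker_isMaximal_of_surjective (C'.res : C' →+* k) C'.res_surjective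
  have hmJ : RingHom.ker (algebraMap C' k) * RingHom.ker (algebraMap C' C) = ⊥ :=
    Eq.trans (congrArg (· * RingHom.ker (algebraMap C' C)) hm) hp.2
  have hle : RingHom.ker (algebraMap C' C) ≤ RingHom.ker (algebraMap C' k) := by
    refine le_trans (IsLocalRing.le_maximalIdeal ?_) hm.ge
    exact RingHom.ker_ne_top _
  obtain ⟨S⟩ := Groth.L12.LineLift.exists_small (A := C') (B := C) (k := k) hp.1 C'.res_surjective hmJ hle
    X'.f (X'.baseChange p).f (pullback.fst X'.f (ArtFun.Art.specMap p))
    (IsPullback.of_hasPullback X'.f (ArtFun.Art.specMap p)) x X'.i X'.isPullback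
  obtain ⟨e'⟩ := e'
  obtain ⟨e''⟩ := e''
  let c : Scheme.Modules.pullback (pullback.fst X'.f (ArtFun.Art.specMap p)) ⋙
      Scheme.Modules.pullback (X'.baseChange p).i ≅ Scheme.Modules.pullback X'.i :=
    Scheme.Modules.pullbackComp _ _ ≪≫ Scheme.Modules.pullbackCongr (ArtFun.DefSch.baseChange_i_fst X' p)
  have hF₀ := Groth.L29.LocFree.pullback (X'.baseChange p).i hF
  obtain ⟨d⟩ := Groth.Agent.S12483.result X₀ _ ((Scheme.Modules.pullback (X'.baseChange p).i).obj F) hF₀ 1
  exact Groth.L12.VBLift.nonempty_iso_of_small S (X'.baseChange p).i (ArtFun.DefSch.baseChange_i_fst X' p)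
    hF' hF''
    ((c.app F').symm ≪≫ (Scheme.Modules.pullback (X'.baseChange p).i).mapIso e')
    ((c.app F'').symm ≪≫ (Scheme.Modules.pullback (X'.baseChange p).i).mapIso e'')
    (@Equiv.subsingleton _ _ d.toEquiv h1) (e' ≪≫ e''.symm)

end Groth.Agent.S12279
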