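import Groth.Statements.S1228
import Groth.Agent.L20.RG.PureProj
import Mathlib.LinearAlgebra.TensorProduct.RightExactness

set_option autoImplicit false
universe u
open FlatMor

set_option backward.isDefEq.respectTransparency.types false
namespace Groth.Agent.S1228

open TensorProduct in
/-- Ring form, S = Spec A and X = Spec B affine, test schemes affine: let B be a finitely presented
A-algebra, N a finitely presented B-module which is flat over A and pure relative to Spec A, and u a
surjective B-linear map from N to a B-module N'. Then the functor 'u becomes an isomorphism after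
base change' is represented by a closed subscheme of Spec A: there is an ideal I of A such that for
every A-algebra A' the base change A' ⊗_A N → A' ⊗_A N' is bijective if and only if IA' = 0. If N'
is finitely presented then I is finitely generated. -/
theorem result {A B : Type u} [CommRing A] [CommRing B] [Algebra A B] [Algebra.FinitePresentation A B]
    (N : Type u) [AddCommGroup N] [Module B N] [Module A N] [IsScalarTower A B N] [Module.FinitePresentation B N] [Module.Flat A N]
    (hpure : FlatCA.IsPure A B N)
    (N' : Type u) [AddCommGroup N'] [Module B N'] [Module A N'] [IsScalarTower A B N'] (u : N →ₗ[B] N') (hu : Function.Surjective u) :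
    ∃ I : Ideal A, (∀ (A' : Type u) [CommRing A'] [Algebra A A'],
        Function.Bijective ((u.restrictScalars A).baseChange A') ↔ I.map (algebraMap A A') = ⊥) ∧
      (Module.FinitePresentation B N' → I.FG) := by
  classical
  haveI : Module.Projective A N := Groth.L20.RG.projective_of_isPure N hpure
  obtain ⟨sec, hsec⟩ := Module.projective_def.mp (inferInstance : Module.Projective A N)
  obtain ⟨G, hG, hGfin⟩ : ∃ G : Set N, Submodule.span B G = LinearMap.ker u ∧
      (Module.FinitePresentation B N' → G.Finite) := by
    by_cases h : Module.FinitePresentation B N'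
    · obtain ⟨F, hF⟩ := Module.FinitePresentation.fg_ker u hu
      exact ⟨F, hF, fun _ => F.finite_toSet⟩
    · exact ⟨LinearMap.ker u, Submodule.span_eq _, fun h' => absurd h' h⟩
  let cs : Set A := ⋃ k ∈ G, (fun n => sec k n) '' ((sec k).support : Set N)
  refine ⟨Ideal.span cs, fun A' _ _ => ?_, fun h => ?_⟩
  swap
  · have hfin : cs.Finite :=
      Set.Finite.biUnion (hGfin h) fun k _ => (sec k).support.finite_toSet.image (fun n => sec k n)
    exact ⟨hfin.toFinset, by rw [Set.Finite.coe_toFinset]⟩
  have hsurj : Function.Surjective ((u.restrictScalars A).baseChange A') :=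
    LinearMap.lTensor_surjective A' (g := u.restrictScalars A) hu
  have hex : Function.Exact ((LinearMap.ker u).subtype.restrictScalars A |>.lTensor A') ((u.restrictScalars A).lTensor A') :=
    lTensor_exact A' (fun y => LinearMap.exact_subtype_ker_map u y) hu
  constructor
  · intro hbij
    rw [Ideal.map_span, Ideal.span_eq_bot]
    rintro _ ⟨c, hc, rfl⟩
    obtain ⟨k, hk, n, -, rfl⟩ : ∃ k ∈ G, ∃ n ∈ ((sec k).support : Set N), sec k n = c := by simpa [cs] using hc
    have hk0 : (1 : A') ⊗ₜ[A] k = 0 := hbij.1 (by
      rw [map_zero, LinearMap.baseChange_tmul, LinearMap.restrictScalars_apply,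
        LinearMap.mem_ker.mp (hG.le (Submodule.subset_span hk)), TensorProduct.tmul_zero])
    have := congrArg (TensorProduct.rid A A') (congrArg (((Finsupp.lapply n).comp sec).lTensor A') hk0)
    simpa [Algebra.smul_def] using this
  · intro hI
    refine ⟨(injective_iff_map_eq_zero _).mpr fun z hz => ?_, hsurj⟩
    obtain ⟨w, rfl⟩ := (hex z).1 hz
    clear hz
    induction w using TensorProduct.induction_on with
    | zero => exact map_zero _
    | add a b ha hb => rw [map_add, ha, hb, add_zero]
    | tmul a k =>
      rw [LinearMap.lTensor_tmul]
      have hb : ∀ x : N, x ∈ Submodule.span B G → ∀ a : A', a ⊗ₜ[A] x = 0 := fun x hx => by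
        induction hx using Submodule.span_induction with
        | mem x hx =>
          intro a
          rw [← hsec x, Finsupp.linearCombination_apply, Finsupp.sum, TensorProduct.tmul_sum]
          refine Finset.sum_eq_zero fun n hn => ?_
          have hc : algebraMap A A' (sec x n) = 0 := Ideal.mem_bot.mp (hI ▸ Ideal.mem_map_of_mem _
            (Ideal.subset_span (Set.mem_iUnion₂.2 ⟨x, hx, n, hn, rfl⟩)))
          rw [id_eq, ← TensorProduct.smul_tmul, Algebra.smul_def, hc, zero_mul, TensorProduct.zero_tmul]
        | zero => intro a; exact TensorProduct.tmul_zero _ _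
        | add x y _ _ hx hy => intro a; rw [TensorProduct.tmul_add, hx, hy, add_zero]
        | smul b x _ hx =>
          intro a
          have := congrArg (((LinearMap.lsmul B N b).restrictScalars A).lTensor A') (hx a)
          simpa using this
      exact hb k.1 (hG.ge k.2) a

end Groth.Agent.S1228
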