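import Groth.Statements.S12281
import Groth.Agent.L14.LocHilb.Lift.Codim2Smooth
import Groth.Agent.L14.LocHilb.Lift.Hilb
import Groth.Agent.L16.ProjSpace.Basic

set_option autoImplicit false
universe u
open CategoryTheory CategoryTheory.Limits AlgebraicGeometry
open scoped TensorProduct
attribute [local instance] HasDerivedCategory.standard
open DefT

namespace Groth.Agent.S12281

/-- Let k be an algebraically closed field, X = P^n_k, and (H, Z) a Hilbert scheme of X over k: H is a
locally Noetherian k-scheme and Z ⊆ X ×_k H a closed subscheme, proper and flat over H, such that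
every closed subscheme of X ×_k T proper and flat over a locally Noetherian k-scheme T is the
pull-back of Z along a unique k-morphism T → H. Let Y ⊆ X be a closed subscheme, regarded as a
k-scheme through X, with ideal sheaf I and normal sheaf N = Hom_{O_Y}(I/I², O_Y) (the sheaf Hom,
assumed to exist as the right adjoint of tensoring with I/I²), and let y ∈ H be the k-point
classifying Y (the pull-back of Z along Spec k → H is Y). If Y is Cohen–Macaulay of codimension 2 in
X (every local ring of Y is Cohen–Macaulay and dim O_{X,y'} = dim O_{Y,y'} + 2 at every point y' of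
Y) and H^1(Y, N) = 0, then H is nonsingular at y: the local ring O_{H,y} is regular. (The published
statement assumes 'no local obstructions to deformations of Y' and H^1(Y, N) = 0; this row is the
case, named in the text, where the first hypothesis holds because Y is Cohen–Macaulay of codimension
2.) -/
theorem result
    {k : Type u} [Field k] [IsAlgClosed k] (n : ℕ)
    (H : Over (Spec (CommRingCat.of k))) (Z : FGA.HilbSet (CohB1.ProjSpaceOver.toBase n (Spec (CommRingCat.of k))) H) (hH : FGA.HilbRepresentedBy (CohB1.ProjSpaceOver.toBase n (Spec (CommRingCat.of k))) H Z)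
    (Y : Scheme.{u}) (i : Y ⟶ CohB1.ProjSpaceOver n (Spec (CommRingCat.of k))) [IsClosedImmersion i]
    (hCM : ∀ y' : Y, LocCoh.IsCohenMacaulayLocalRing (Y.presheaf.stalk y'))
    (hcodim : ∀ y' : Y, ringKrullDim (Y.presheaf.stalk y') + 2 = ringKrullDim ((CohB1.ProjSpaceOver n (Spec (CommRingCat.of k))).presheaf.stalk (i.base y')))
    [DCoh.HasSheafHom (Omega.conormal i)]
    (y : Over.mk (𝟙 (Spec (CommRingCat.of k))) ⟶ H)
    (hy : FGA.hilbPull (CohB1.ProjSpaceOver.toBase n (Spec (CommRingCat.of k))) y Z.1 = i.ker.comap (pullback.fst (CohB1.ProjSpaceOver.toBase n (Spec (CommRingCat.of k))) (Over.mk (𝟙 (Spec (CommRingCat.of k)))).hom))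
    (h1 : Subsingleton (Coh.HH Y ((DCoh.sheafHom (Omega.conormal i)).obj (Coh.structureModule Y)) 1)) :
    IsRegularLocalRing (H.left.presheaf.stalk (y.left.base (IsLocalRing.closedPoint k))) := by
  exact Groth.L14.LocHilbLift.regular_stalk_of_smooth _ Z hH i.ker y hy
    (Groth.L14.LocHilbLift.isSmoothFunctor_of_codim_two i hCM hcodim
      (Groth.L14.LocHilbLift.subsingleton_HH_homMod i 1 h1))

end Groth.Agent.S12281
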