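import Groth.Statements.S12288
import Groth.Agent.L12.CotTExamples


set_option autoImplicit false
universe u w m
open scoped TensorProduct
open DefT

namespace Groth.Agent.S12288

/-- Let A be a local ring and A → B a surjective ring homomorphism whose kernel is generated by a
regular sequence a_1, …, a_r on A (each a_i is a non-zero-divisor on A/(a_1, …, a_{i-1}) and the
ideal is proper). Then T^2(B/A, M) = 0 for every B-module M, the module being computed from the
choice-free presentation of B over A. -/
theorem result
    (A B : Type u) [CommRing A] [IsLocalRing A] [CommRing B] [Algebra A B]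
    (hs : Function.Surjective (algebraMap A B)) (rs : List A) (hreg : RingTheory.Sequence.IsRegular A rs)
    (hI : RingHom.ker (algebraMap A B) = Ideal.ofList rs) (M : Type u) [AddCommGroup M] [Module B M] :
    Subsingleton (CotT.T2 (CotT.canon A B) M) := by
  refine Groth.L12.CotTLib.quotient_regular_vanish hs (fun i : Fin rs.length => rs.get i) ?_
    (Groth.L07.RegSeq.koszulH1Zero_of_isWeaklyRegular ?_) M
  · rw [hI, ← Groth.L07.QReg.ofList_ofFn]
    exact (congrArg Ideal.ofList (List.ofFn_get rs)).symm
  · exact (List.ofFn_get rs).symm ▸ hreg.toIsWeaklyRegular
end Groth.Agent.S12288
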