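import Groth.Statements.S12289
import Groth.Agent.L12.CotTBasic


set_option autoImplicit false
universe u w m
open scoped TensorProduct
open DefT

namespace Groth.Agent.S12289

/-- Let k be a commutative ring and B a k-algebra presented as R/I with R = k[x_i] a polynomial ring
(any set of variables) and chosen generators of I, and let M be a B-module; T^0(B/k, M) and T^1(B/k,
M) are computed from this presentation. Then the sequence 0 → T^0(B/k, M) → Hom_B(Ω_{R/k} ⊗_R B, M)
→ Hom_B(I/I², M) → T^1(B/k, M) → 0 is exact, where the middle map is composition with the conormal
map d : I/I² → Ω_{R/k} ⊗_R B and the last map sends φ to the class of φ ∘ (F/IF → I/I²): the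
submodule T^0(B/k, M) of Hom_B(Ω_{R/k} ⊗ B, M) is the kernel of composition with d, the kernel of
Hom_B(I/I², M) → T^1(B/k, M) is the image of composition with d, and Hom_B(I/I², M) → T^1(B/k, M) is
surjective. (The published statement takes finitely many variables over a field and adds that the
same holds over any base ring; this row allows any base ring and any set of variables.) -/
theorem result
    (k B : Type u) [CommRing k] [CommRing B] [Algebra k B] (ι σ : Type w) (P : Algebra.Presentation k B ι σ)
    (M : Type m) [AddCommGroup M] [Module B M] :
    LinearMap.ker (CotT.d1Star P M) = LinearMap.ker (LinearMap.lcomp B M P.toExtension.cotangentComplex) ∧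
    LinearMap.ker (CotT.homToT1 P M) = LinearMap.range (LinearMap.lcomp B M P.toExtension.cotangentComplex) ∧
    Function.Surjective (CotT.homToT1 P M) := by
  exact ⟨Groth.L12.CotTLib.ker_d1Star P M, Groth.L12.CotTLib.ker_homToT1 P M,
    Groth.L12.CotTLib.homToT1_surjective P M⟩
end Groth.Agent.S12289
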