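import Groth.Statements.S12297
import Groth.Agent.L12.CotTLoc
import Groth.Agent.L12.CotTSmooth


set_option autoImplicit false
universe u w m
open scoped TensorProduct
open DefT

namespace Groth.Agent.S12297

/-- Let k be an algebraically closed field, B a finitely generated k-algebra, m a maximal ideal of B and
B_m the localization, a local k-algebra with residue field k. Then B_m is a regular local ring if
and only if T^1(B_m/k, M) = 0 for all B_m-modules M, and in that case T^2(B_m/k, M) = 0 for all M as
well; the T^i are computed from the choice-free presentation of B_m over k. (The published statement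
is for a local k-algebra with residue field k, k algebraically closed, proved by localization from
the finitely generated case; this row states it for the localizations of finitely generated
k-algebras at maximal ideals, the case that proof covers.) -/
theorem result
    (k B : Type u) [Field k] [IsAlgClosed k] [CommRing B] [Algebra k B] [Algebra.FiniteType k B]
    (m : Ideal B) [m.IsMaximal] :
    (IsRegularLocalRing (Localization.AtPrime m) ↔
      ∀ (M : Type u) [AddCommGroup M] [Module (Localization.AtPrime m) M],
        Subsingleton (CotT.T1 (CotT.canon k (Localization.AtPrime m)) M)) ∧
    (IsRegularLocalRing (Localization.AtPrime m) →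
      ∀ (M : Type u) [AddCommGroup M] [Module (Localization.AtPrime m) M],
        Subsingleton (CotT.T2 (CotT.canon k (Localization.AtPrime m)) M)) := by
  have key : Algebra.FormallySmooth k (Localization.AtPrime m) ↔ IsRegularLocalRing (Localization.AtPrime m) :=
    Groth.L12.CotTLib.isSmoothAt_iff_regular_of_isMaximal m
  refine ⟨key.symm.trans ⟨fun _ M _ _ => Groth.L12.CotTLib.T1_subsingleton_of_formallySmooth _ M,
    fun h => Groth.L12.CotTLib.formallySmooth_of_T1 _ (h _)⟩, fun h M _ _ => ?_⟩
  haveI : Algebra.IsSmoothAt k m := key.2 h
  haveI : Algebra.FinitePresentation k B := Algebra.FinitePresentation.of_finiteType.1 ‹_›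
  obtain ⟨f, hf, hsm⟩ := Algebra.IsSmoothAt.exists_notMem_smooth k m
  have hle : Submonoid.powers f ≤ m.primeCompl := Submonoid.powers_le.2 hf
  letI : Algebra (Localization.Away f) (Localization.AtPrime m) :=
    IsLocalization.localizationAlgebraOfSubmonoidLe (Localization.Away f) (Localization.AtPrime m) _ _ hle
  haveI : IsScalarTower B (Localization.Away f) (Localization.AtPrime m) :=
    IsLocalization.localization_isScalarTower_of_submonoid_le (Localization.Away f) (Localization.AtPrime m) _ _ hle
  haveI : IsScalarTower k (Localization.Away f) (Localization.AtPrime m) := IsScalarTower.of_algebraMap_eq fun c => by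
    rw [IsScalarTower.algebraMap_apply k B (Localization.Away f) c,
      ← IsScalarTower.algebraMap_apply B (Localization.Away f) (Localization.AtPrime m),
      ← IsScalarTower.algebraMap_apply k B (Localization.AtPrime m)]
  haveI := IsLocalization.isLocalization_of_submonoid_le (Localization.Away f) (Localization.AtPrime m)
    (Submonoid.powers f) m.primeCompl hle
  letI : Module (Localization.Away f) M := Module.compHom M (algebraMap (Localization.Away f) (Localization.AtPrime m))
  haveI : IsScalarTower (Localization.Away f) (Localization.AtPrime m) M := IsScalarTower.of_compHom _ _ M
  exact Groth.L12.CotTLib.T2_subsingleton_of_tower k (Localization.Away f) (Localization.AtPrime m) M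
    (Groth.L12.CotTLib.T2_subsingleton_of_smooth M)
    (Groth.L12.CotTLib.T2_localization (m.primeCompl.map (algebraMap B (Localization.Away f))) _ M)
end Groth.Agent.S12297
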