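import Groth.Statements.S12299
import Groth.Agent.L12.CRingHom


set_option autoImplicit false
universe u v
open CategoryTheory
open ArtFun

namespace Groth.Agent.S12299

/-- Let k be an algebraically closed field, F a set-valued functor on local Artinian k-algebras with
residue field k, and (R, ξ) a miniversal family for F, with R a complete local Noetherian k-algebra
with residue field k: the morphism h_R → F has the lifting property along surjections and is
bijective on the dual numbers. Let S be a complete local Noetherian k-algebra with residue field k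
and g₁, g₂ : R → S two k-algebra maps compatible with the augmentations along which ξ induces the
same formal family over S (the same compatible sequence in the F(S/m^(n+1))). Then g₁ and g₂ induce
the same map R → S/m_S², so the map R/m_R² → S/m_S² attached to a formal family over S is well
defined. (Coefficient rings are taken Noetherian here.) -/
theorem result
    {k : Type u} [Field k] [IsAlgClosed k] {F : ArtFun.Art k k ⥤ Type v}
    (R : ArtFun.CRing k k) (ξ : ArtFun.Family R.carrier R.res F) (hξ : ArtFun.IsMiniversal ξ)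
    (S : ArtFun.CRing k k) (g₁ g₂ : R.carrier →ₐ[k] S.carrier)
    (hg₁ : S.res.comp g₁ = R.res) (hg₂ : S.res.comp g₂ = R.res)
    (h : (ξ.along g₁ hg₁).toFormalElt = (ξ.along g₂ hg₂).toFormalElt) :
    (S.truncHom 1).1.comp g₁ = (S.truncHom 1).1.comp g₂ := by
  have key : ∀ φ ψ : ArtFun.HomSet R.carrier R.res (S.trunc 1), ξ.app _ φ = ξ.app _ ψ → φ = ψ := by
    intro φ ψ e
    refine Subtype.ext (AlgHom.ext fun r => ?_)
    by_contra hne
    have hE : IsLocalRing.maximalIdeal (S.trunc 1) ^ 2 = ⊥ := by
      have h1 : IsLocalRing.maximalIdeal (S.trunc 1) ≤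
          (IsLocalRing.maximalIdeal S.carrier).map (Ideal.Quotient.mk (ArtFun.CRing.mpow S 1)) :=
        ArtFun.CRing.maximalIdeal_quot_le S 1
      exact le_bot_iff.1 ((Ideal.pow_right_mono h1 2).trans
        (le_of_eq ((Ideal.map_pow _ _ 2).symm.trans (Ideal.map_quotient_self _))))
    obtain ⟨g, hg, -⟩ := Groth.L12.exists_dual_functional hE
      (⟨Algebra.ofId k (S.trunc 1), AlgHom.ext fun c => (S.trunc 1).res.commutes c⟩ : ArtFun.Art.base k k ⟶ S.trunc 1)
      (e₀ := φ.1 r - ψ.1 r) (((S.trunc 1).mem_maximalIdeal_iff _).2 (by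
        rw [map_sub, ← AlgHom.comp_apply, φ.2, ← AlgHom.comp_apply, ψ.2, sub_self])) (sub_ne_zero.2 hne)
    have h2 : ArtFun.HomSet.map g φ = ArtFun.HomSet.map g ψ := hξ.2.1 (by rw [ξ.natural, ξ.natural, e])
    rw [map_sub, show g (φ.1 r) = g (ψ.1 r) from DFunLike.congr_fun (congrArg Subtype.val h2) r, sub_self] at hg
    exact zero_ne_one hg
  exact congrArg Subtype.val (key ⟨(S.truncHom 1).1.comp g₁, by rw [← AlgHom.comp_assoc, (S.truncHom 1).2, hg₁]⟩
    ⟨(S.truncHom 1).1.comp g₂, by rw [← AlgHom.comp_assoc, (S.truncHom 1).2, hg₂]⟩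
    (congrArg (fun u : ArtFun.FormalElt F S => u.elt 1) h))
end Groth.Agent.S12299
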