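import Groth.Statements.S1230
import Groth.Agent.L20.RG.AssCover

set_option autoImplicit false
universe u
open FlatMor

set_option backward.isDefEq.respectTransparency.types false
namespace Groth.Agent.S1230

open TensorProduct in
/-- Ring form, X = Spec B, X' = Spec B' affine: let B be a finite type A-algebra, N a finite B-module
flat over A, and B' a flat B-algebra such that every prime q of B, over p in A, whose extension to
the fibre ring over p is an associated prime of the fibre module of N is the contraction of a prime
of B'. Then the canonical map N → B' ⊗_B N is injective and remains injective after tensoring over A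
with any A-algebra. -/
theorem result {A B B' : Type u} [CommRing A] [CommRing B] [CommRing B'] [Algebra A B] [Algebra B B'] [Algebra A B'] [IsScalarTower A B B']
    [Algebra.FiniteType A B] [Module.Flat B B']
    (N : Type u) [AddCommGroup N] [Module B N] [Module A N] [IsScalarTower A B N] [Module.Finite B N] [Module.Flat A N]
    (h : ∀ (p : Ideal A) (q : Ideal B) [p.IsPrime] [q.IsPrime] [q.LiesOver p],
      FlatCA.fiberIdeal p q ∈ associatedPrimes (p.Fiber B) (FlatCA.fiberMod p B N) →
      ∃ q' : Ideal B', q'.IsPrime ∧ q'.comap (algebraMap B B') = q) :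
    ∀ (A' : Type u) [CommRing A'] [Algebra A A'],
      Function.Injective (((TensorProduct.mk B B' N 1).restrictScalars A).baseChange A') := by
  intro A' _ _
  refine (injective_iff_map_eq_zero _).mpr fun z hz => ?_
  let w := TensorProduct.comm A A' N z
  let θ : A' ⊗[A] (B' ⊗[B] N) →ₗ[A] B' ⊗[B] (N ⊗[A] A') :=
    ((TensorProduct.AlgebraTensorModule.assoc A B B B' N A').toLinearMap.restrictScalars A) ∘ₗ
      (TensorProduct.comm A A' (B' ⊗[B] N)).toLinearMap
  have hθ : ∀ y : A' ⊗[A] N, θ (((TensorProduct.mk B B' N 1).restrictScalars A).baseChange A' y) =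
      (1 : B') ⊗ₜ[B] (TensorProduct.comm A A' N y) := fun y => by
    induction y using TensorProduct.induction_on with
    | zero => simp
    | add a b ha hb => simp only [map_add, TensorProduct.tmul_add, ha, hb]
    | tmul a n => simp [θ]
  have hw1 : (1 : B') ⊗ₜ[B] w = 0 := by rw [← hθ, hz, map_zero]
  by_contra hne
  have hw : w ≠ 0 := fun h0 => hne ((LinearEquiv.map_eq_zero_iff _).mp h0)
  obtain ⟨P, hP, hle⟩ := Groth.L03.WeakAss.exists_mem_weakAss_of_ne_zero (R := B) hw
  haveI := Groth.L03.WeakAss.isPrime_of_mem_weakAss hP
  haveI : P.LiesOver (P.comap (algebraMap A B)) := ⟨rfl⟩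
  obtain ⟨q', hq', hq'P⟩ := h (P.comap (algebraMap A B)) P
    (Groth.L20.RG.fiberIdeal_mem_of_weakAss N A' inferInstance hP _)
  haveI := hq'
  exact Groth.L20.RG.one_tmul_ne_zero_of_le q' (by rw [hq'P]; exact hle) hw1

end Groth.Agent.S1230
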