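import Groth.Statements.S12304
import Groth.Agent.L14.LocHilb.StalkCpl

set_option autoImplicit false
universe u
open CategoryTheory CategoryTheory.Limits AlgebraicGeometry
open ArtFun

namespace Groth.Agent.S12304

/-- Let k be an algebraically closed field, M a locally Noetherian k-scheme and x₀ : Spec k → M a
k-rational point. For a local Artinian k-algebra A with residue field k consider the k-morphisms
Spec A → M whose restriction along the closed point Spec k → Spec A is x₀ (the local functor of M at
x₀, a morphism A → B acting by composition with Spec B → Spec A). This functor is pro-representable: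
there are a complete local Noetherian k-algebra R with residue field k and bijections, natural in A,
between the augmentation-compatible k-algebra maps R → A and these morphisms. (The published
statement is phrased for the fine moduli scheme M of a moduli problem, whose local functor at the
point of a given object is this one; M is taken locally Noetherian here so that the coefficient ring
is Noetherian.) -/
theorem result
    {k : Type u} [Field k] [IsAlgClosed k] (M : Scheme.{u}) (m : M ⟶ Spec (CommRingCat.of k))
    [IsLocallyNoetherian M] (x₀ : Spec (CommRingCat.of k) ⟶ M) (hx₀ : x₀ ≫ m = 𝟙 _) :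
    ∃ (R : ArtFun.CRing k k)
      (e : ∀ A : ArtFun.Art k k, ArtFun.HomSet R.carrier R.res A ≃
        {g : ArtFun.Art.spec A ⟶ M // g ≫ m = ArtFun.Art.specMap (ArtFun.Art.ofBase A) ∧ ArtFun.Art.specRes A ≫ g = x₀}),
      ∀ (A B : ArtFun.Art k k) (h : A ⟶ B) (φ : ArtFun.HomSet R.carrier R.res A),
        ((e B) (ArtFun.HomSet.map h φ)).1 = ArtFun.Art.specMap h ≫ ((e A) φ).1 := by
  exact Groth.L14.LocHilb.exists_prorep_point M m x₀ hx₀

end Groth.Agent.S12304
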