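import Groth.Statements.S12309
import Groth.Agent.L14.DefLift.AutLift
import Groth.Agent.L12.Criteria

set_option autoImplicit false
universe u
open CategoryTheory AlgebraicGeometry
open SGA7

namespace Groth.Agent.S12309

/-- Suppose Λ is a Noetherian local ring, complete for its maximal ideal, whose residue field is k (so
that Λ → k is surjective), and work with functors defined on local Artinian Λ-algebras having
residue field k. Take a k-scheme X₀ and assume its deformation functor (sending A to isomorphism
classes of schemes flat over Spec A whose closed fibre is X₀) admits a hull. The deformation functor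
is then pro-representable exactly when the following holds: given any surjective morphism p : A' → A
and any deformation X' of X₀ over A', every automorphism of the base change of X' along p arises by
restricting some automorphism of X' (automorphisms being taken over Spec A' and inducing the
identity on X₀), i.e. the restriction map is surjective. (In the published version the assertion is
stated for X₀ proper over k, or affine of finite type with only finitely many non-smooth points,
cases in which a hull exists; here the existence of a hull is assumed outright, as that is all the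
printed proof relies on.) -/
theorem result (Λ k : Type u) [CommRing Λ] [IsLocalRing Λ] [IsNoetherianRing Λ]
    [IsAdicComplete (IsLocalRing.maximalIdeal Λ) Λ] [Field k] [Algebra Λ k]
    (hk : Function.Surjective (algebraMap Λ k))
    (X : Scheme.{u}) (x : X ⟶ Spec (CommRingCat.of k))
    (hX : ArtFun.HasHull (ArtFun.defFunctor (Λ := Λ) X x)) :
    ArtFun.IsProrepresentable (ArtFun.defFunctor (Λ := Λ) X x) ↔
      ∀ (A' A : ArtFun.Art Λ k) (p : A' ⟶ A), Function.Surjective p →
        ∀ ξ' : ArtFun.DefSch (Λ := Λ) X x A',
          Function.Surjective (fun e : ξ'.Iso ξ' => e.baseChange p) := by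
  constructor
  · rintro ⟨P⟩ A' A p hp ξ'
    obtain ⟨-, hl⟩ := Groth.L12.universal_app_bijective P.family P.universal
    obtain ⟨B, p₁, p₂, hfp⟩ := Groth.L12.exists_isFibreProd_of_surjective p p hp
    exact Groth.L14.DefLift.surjective_baseChange_aut hfp hp (hl p₁ p₂ p p hfp).1 ξ'
  · intro h
    obtain ⟨⟨R, ξ, hv, hd⟩⟩ := hX
    have h4 : ArtFun.HSq (ArtFun.defFunctor (Λ := Λ) X x) := fun B A A' p₁ p₂ f hfp hs =>
      ⟨Groth.L14.DefLift.cmp_injective hfp hs.1 fun ξ' => h _ _ f hs.1 ξ',
        Groth.L14.DefLift.s1_sch X x p₁ p₂ f f hfp hs.1⟩
    exact ⟨⟨R, ξ, Groth.L12.family_universal R ξ hv (Groth.L14.DefLift.h0_sch X x)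
      (Groth.L14.DefLift.heps_sch X x) h4 hd.1⟩⟩

end Groth.Agent.S12309
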