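import Groth.Statements.S12310
import Groth.Agent.L14.DefLift.Scheme
import Groth.Agent.L14.DefLift.LCI

set_option autoImplicit false
universe u
open CategoryTheory AlgebraicGeometry
open SGA7

namespace Groth.Agent.S12310

/-- Suppose Λ is a Noetherian local ring, complete for its maximal-ideal-adic topology, whose residue
field is k (so Λ → k is surjective), and work with functors defined on local Artinian Λ-algebras
having residue field k. Take a finite-type k-algebra A₀ that is a local complete intersection over k
(meaning it admits a presentation as a quotient of a polynomial algebra in finitely many variables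
whose kernel is Koszul-regular), and put X₀ = Spec A₀. Then X₀ has a smooth deformation functor (the
functor of isomorphism classes of schemes flat over Spec A whose closed fibre is X₀): given any
surjection A' → A, each deformation over A can be lifted to one over A'. -/
theorem result (Λ k : Type u) [CommRing Λ] [IsLocalRing Λ] [IsNoetherianRing Λ]
    [IsAdicComplete (IsLocalRing.maximalIdeal Λ) Λ] [Field k] [Algebra Λ k]
    (hk : Function.Surjective (algebraMap Λ k))
    (A₀ : Type u) [CommRing A₀] [Algebra k A₀] (hA : LCI.IsLCI k A₀) :
    ArtFun.IsSmoothFunctor (ArtFun.defFunctor (Λ := Λ) (Spec (CommRingCat.of A₀))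
      (Spec.map (CommRingCat.ofHom (algebraMap k A₀)))) := by
  classical
  obtain ⟨-, n, π, hπ, hK⟩ := hA
  let e : MvPolynomial (ULift.{u} (Fin n)) k ≃ₐ[k] MvPolynomial (Fin n) k := MvPolynomial.renameEquiv k Equiv.ulift
  let π₀ : MvPolynomial (ULift.{u} (Fin n)) k →ₐ[k] A₀ := π.comp e.toAlgHom
  have hker : RingHom.ker π₀ = (RingHom.ker π.toRingHom).map e.symm.toRingEquiv.toRingHom := by
    ext a
    constructor
    · intro ha
      have h1 : e a ∈ RingHom.ker π.toRingHom := ha
      have := Ideal.mem_map_of_mem e.symm.toRingEquiv.toRingHom h1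
      rwa [show e.symm.toRingEquiv.toRingHom (e a) = a from e.symm_apply_apply a] at this
    · intro ha
      obtain ⟨b, hb, rfl⟩ := (Ideal.mem_map_iff_of_surjective e.symm.toRingEquiv.toRingHom e.symm.surjective).mp ha
      show π (e (e.symm b)) = 0
      rw [e.apply_symm_apply]
      exact hb
  have hK' : LCI.IsKoszulRegularIdeal (RingHom.ker π₀) := by
    rw [hker, Groth.L07.KoszulIdeal.isKoszulRegularIdeal_iff]
    intro p hp hle
    refine Groth.L07.KoszulIdeal.RegAt.map _ (RingHom.Flat.of_bijective e.symm.bijective) p ?_
    exact Groth.L07.KoszulIdeal.isKoszulRegularIdeal_iff.mp hK _ (Ideal.map_le_iff_le_comap.mp hle)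
  obtain ⟨s, hs⟩ := IsNoetherian.noetherian (RingHom.ker π₀)
  intro A' A μ hμ
  let f : ↥s → MvPolynomial (ULift.{u} (Fin n)) k := Subtype.val
  have hf : Ideal.span (Set.range f) = RingHom.ker π₀ := by rw [Subtype.range_coe_subtype]; exact hs
  exact Groth.L14.DefLift.surjective_map π₀ (hπ.comp e.surjective) f hf
    (Groth.L14.DefLift.unobstructed_of_koszulRegular π₀ f hf (hf.symm ▸ hK')) μ hμ

end Groth.Agent.S12310
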