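import Groth.Statements.S12314
-- import your own Groth.Agent.* helpers here

set_option autoImplicit false
universe u
open CategoryTheory CategoryTheory.Limits AlgebraicGeometry MonObj
open SGA7

namespace Groth.Agent.S12314

open MonObj CartesianMonoidalCategory AbDual in
theorem compat_pow {S : Scheme.{u}} {A : Over S} [GrpObj A] [IsCommMonObj A] {l : ℕ} {T : Over S}
    (z : TateMod A l T) (k a : ℕ) :
    l ^ a • (z : ℕ → Additive (T ⟶ A)) (k + a) = (z : ℕ → Additive (T ⟶ A)) k := by
  induction a with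
  | zero => simp
  | succ a ih => rw [pow_succ, mul_nsmul', ← Nat.add_assoc, z.compat, ih]

open MonObj CartesianMonoidalCategory AbDual in
theorem eq_zero_of_nsmul {S : Scheme.{u}} {A : Over S} [GrpObj A] [IsCommMonObj A] {l : ℕ} (hl : l.Prime)
    {T : Over S} {n : ℕ} (hn : 0 < n) (z : TateMod A l T) (h : n • z = 0) : z = 0 := by
  obtain ⟨a, m, hm, rfl⟩ := Nat.exists_eq_pow_mul_and_not_dvd hn.ne' l hl.ne_one
  refine TateMod.ext fun k => ?_
  have h1 : m • (z : ℕ → Additive (T ⟶ A)) k = 0 := by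
    have h2 : (l ^ a * m) • (z : ℕ → Additive (T ⟶ A)) (k + a) = 0 :=
      congrArg (fun w : TateMod A l T => (w : ℕ → Additive (T ⟶ A)) (k + a)) h
    rwa [mul_comm, mul_nsmul', compat_pow] at h2
  have h3 : l ^ k • (z : ℕ → Additive (T ⟶ A)) k = 0 := z.torsion k
  have hco : Nat.Coprime (l ^ k) m := Nat.Coprime.pow_left k ((hl.coprime_iff_not_dvd).2 hm)
  exact AddMonoid.addOrderOf_eq_one_iff.1
    (Nat.eq_one_of_dvd_coprimes hco (addOrderOf_dvd_iff_nsmul_eq_zero.2 h3) (addOrderOf_dvd_iff_nsmul_eq_zero.2 h1))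

open MonObj CartesianMonoidalCategory AbDual in
theorem tate_comp {S : Scheme.{u}} {A B : Over S} [GrpObj A] [IsCommMonObj A] [GrpObj B] [IsCommMonObj B] {l : ℕ}
    {T : Over S} (u : A ⟶ B) [IsMonHom u] (v : B ⟶ A) [IsMonHom v] (n : ℕ) (h : u ≫ v = (𝟙 A) ^ n)
    (x : TateMod A l T) : tateMap (l := l) (T := T) v (tateMap u x) = n • x := by
  refine TateMod.ext fun k => ?_
  have hp : ∀ (g : T ⟶ A) (m : ℕ), g ≫ (𝟙 A) ^ m = g ^ m := fun g m => by
    induction m with
    | zero => rw [pow_zero, pow_zero, MonObj.comp_one]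
    | succ m ih => rw [pow_succ, pow_succ, MonObj.comp_mul, ih, Category.comp_id]
  exact ((congrArg Additive.ofMul (((Category.assoc _ _ _)).trans
    ((congrArg (_ ≫ ·) h).trans (hp _ n))) :) : _ = n • (x : ℕ → Additive (T ⟶ A)) k)

/-- Let R be a henselian discrete valuation ring with fraction field K and residue field k, Ω a
separable closure of K, W a valuation subring of Ω lying over R, A and C abelian varieties over K
(proper, geometrically integral commutative group schemes), and u : C → A an isogeny, in the form: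
there are a homomorphism v : A → C and an integer n > 0 with v ∘ u = n and u ∘ v = n. Let ℓ be a
prime invertible in k and consider the ℓ-adic Tate modules of the Ω-points of C and A; call an
element fixed when all its components are fixed by the inertia group at W (for such ℓ the fixed part
is the inertia invariants). Then T_ℓ(u) maps the fixed part of T_ℓ(C) into the fixed part of T_ℓ(A)
and induces an isogeny between them: T_ℓ(u) is injective, and n times every fixed element of T_ℓ(A)
is the image of a fixed element of T_ℓ(C). (The case of a prime equal to the residue characteristic,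
where the fixed part is defined through the Néron model, is not stated.) -/
theorem result (R K Ω : Type u) [CommRing R] [IsDomain R] [IsDiscreteValuationRing R] [HenselianLocalRing R]
    [Field K] [Algebra R K] [IsFractionRing R K] [Field Ω] [Algebra K Ω] [IsSepClosure K Ω]
    (W : ValuationSubring Ω) (hW : SGA7.LiesOver K R W)
    (A C : Over (Spec (CommRingCat.of K))) [GrpObj A] [IsCommMonObj A] [IsProper A.hom] [GeometricallyIntegral A.hom]
    [GrpObj C] [IsCommMonObj C] [IsProper C.hom] [GeometricallyIntegral C.hom]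
    (u : C ⟶ A) [IsMonHom u] (v : A ⟶ C) [IsMonHom v] (n : ℕ) (hn : 0 < n)
    (huv : u ≫ v = (𝟙 C) ^ n) (hvu : v ≫ u = (𝟙 A) ^ n)
    (l : ℕ) (hl : l.Prime) (hlp : (l : IsLocalRing.ResidueField R) ≠ 0) :
    (∀ z : AbDual.TateMod C l (SGA7.pt Ω),
      (∀ (τ : Ω ≃ₐ[K] Ω) (m : ℕ), SGA7.IsInertia W τ →
        SGA7.galAct τ (AbDual.TateMod.component C l (SGA7.pt Ω) m z).toMul =
          (AbDual.TateMod.component C l (SGA7.pt Ω) m z).toMul) →
      (∀ (τ : Ω ≃ₐ[K] Ω) (m : ℕ), SGA7.IsInertia W τ →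
        SGA7.galAct τ (AbDual.TateMod.component A l (SGA7.pt Ω) m (AbDual.tateMap u z)).toMul =
          (AbDual.TateMod.component A l (SGA7.pt Ω) m (AbDual.tateMap u z)).toMul)) ∧
    (∀ z : AbDual.TateMod C l (SGA7.pt Ω), AbDual.tateMap (l := l) (T := SGA7.pt Ω) u z = 0 → z = 0) ∧
    (∀ y : AbDual.TateMod A l (SGA7.pt Ω),
      (∀ (τ : Ω ≃ₐ[K] Ω) (m : ℕ), SGA7.IsInertia W τ →
        SGA7.galAct τ (AbDual.TateMod.component A l (SGA7.pt Ω) m y).toMul =
          (AbDual.TateMod.component A l (SGA7.pt Ω) m y).toMul) →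
      ∃ z : AbDual.TateMod C l (SGA7.pt Ω),
        (∀ (τ : Ω ≃ₐ[K] Ω) (m : ℕ), SGA7.IsInertia W τ →
        SGA7.galAct τ (AbDual.TateMod.component C l (SGA7.pt Ω) m z).toMul =
          (AbDual.TateMod.component C l (SGA7.pt Ω) m z).toMul) ∧
        AbDual.tateMap (l := l) (T := SGA7.pt Ω) u z = n • y) := by
  have hgal : ∀ {B D : Over (Spec (CommRingCat.of K))} (τ : Ω ≃ₐ[K] Ω) (w : SGA7.Pts Ω B) (g : B ⟶ D),
      w ≫ g = SGA7.galAct τ w ≫ g → SGA7.galAct τ (w ≫ g) = w ≫ g := fun τ w g h =>
    ((Category.assoc _ _ _).symm).trans h.symm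
  refine ⟨fun z hz τ m hτ => hgal τ _ u (congrArg (· ≫ u) (hz τ m hτ).symm), fun z hz => ?_, fun y hy => ?_⟩
  · refine eq_zero_of_nsmul hl hn z ?_
    rw [← tate_comp u v n huv z, hz, map_zero]
  · exact ⟨AbDual.tateMap (l := l) (T := SGA7.pt Ω) v y,
      fun τ m hτ => hgal τ _ v (congrArg (· ≫ v) (hy τ m hτ).symm), tate_comp v u n hvu y⟩

end Groth.Agent.S12314
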