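import Groth.Statements.S12316
import Groth.Agent.L12.Torsor

set_option autoImplicit false
universe u v
open CategoryTheory
open SGA7

namespace Groth.Agent.S12316

/-- Suppose Λ is a Noetherian local ring, complete for its maximal ideal, whose residue field is k (so Λ
→ k is surjective), and work with functors defined on the category of local Artinian Λ-algebras
having residue field k. Take morphisms φ : F → G and ψ : G → H of such functors. Assume that each of
F(k), G(k), H(k) consists of a single point; that for G the comparison map on fibre products A₁ ×_A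
A₂ is surjective as soon as A₂ → A is surjective, and is bijective for products of the form A' ×_k
k[ε]; that for H the comparison map is bijective on every fibre product A₁ ×_A A₂ with A₂ → A
surjective; and that the induced map on tangent spaces G(k[ε]) → H(k[ε]) coming from ψ is injective.
Under these assumptions, φ ≫ ψ is smooth if and only if both φ and ψ are smooth. (The published
statement is for functors of cofibred groupoids with G semi-homogeneous and H homogeneous; this row
is the case of set-valued functors.) -/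
theorem result (Λ k : Type u) [CommRing Λ] [IsLocalRing Λ] [IsNoetherianRing Λ]
    [IsAdicComplete (IsLocalRing.maximalIdeal Λ) Λ] [Field k] [Algebra Λ k]
    (hk : Function.Surjective (algebraMap Λ k))
    {F G H : ArtFun.Art Λ k ⥤ Type v} (φ : F ⟶ G) (ψ : G ⟶ H)
    (hF : ArtFun.H0 F) (hG : ArtFun.H0 G ∧ ArtFun.S1 G ∧ ArtFun.Heps G) (hH0 : ArtFun.H0 H)
    (hH : ∀ ⦃B A A' A'' : ArtFun.Art Λ k⦄ (p' : B ⟶ A') (p'' : B ⟶ A'') (f' : A' ⟶ A) (f'' : A'' ⟶ A)
      (h : ArtFun.Art.IsFibreProd p' p'' f' f''), Function.Surjective f'' → Function.Bijective (ArtFun.cmp H h))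
    (hψ : Function.Injective (ArtFun.TangentSpace.map ψ)) :
    ArtFun.IsSmooth (φ ≫ ψ) ↔ (ArtFun.IsSmooth φ ∧ ArtFun.IsSmooth ψ) := by
  refine ⟨fun h => ?_, fun h => Groth.L12.smooth_comp h.1 h.2⟩
  obtain ⟨hG0, hG1, hG2⟩ := hG
  have hHs : ArtFun.HSq H := fun _ _ _ p₁ p₂ f hh hs => hH p₁ p₂ f f hh hs.1
  have hφ : ArtFun.IsSmooth φ := Groth.L12.isSmooth_of_small φ fun B A μ hμ => by
    refine (Groth.L12.relCmp_surj_iff φ μ).2 fun x y e => ?_
    obtain ⟨z, hz₁, hz₂⟩ := (Groth.L12.relCmp_surj_iff _ μ).1 (h μ hμ.1) x (ψ.app B y) (by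
      change ψ.app A (φ.app A x) = _
      rw [e, Groth.L12.nat_apply])
    change ψ.app B (φ.app B z) = ψ.app B y at hz₂
    obtain ⟨S⟩ := Groth.L12.nonempty_smallSquare hμ
    obtain ⟨w, hw₁, hw₂⟩ := S.exists_over (F := G)
      (fun _ _ _ _ p' p'' f' f'' hh hs => hG1 p' p'' f' f'' hh hs.1) (φ.app B z) y
      (by rw [← Groth.L12.nat_apply, hz₁, e])
    obtain ⟨δ, hδ₁, hδ₂, hδ₃⟩ := S.exists_diag
    have hv₁ : G.map S.p₁ (G.map δ (φ.app B z)) = φ.app B z := by
      rw [Groth.L12.map_map, hδ₁, Groth.L12.map_id']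
    have hv₂ : G.map S.p₂ (G.map δ (φ.app B z)) = φ.app B z := by
      rw [Groth.L12.map_map, hδ₂, Groth.L12.map_id']
    have hwv : ψ.app S.P w = ψ.app S.P (G.map δ (φ.app B z)) := S.ext_over hHs
      (by rw [← Groth.L12.nat_apply, ← Groth.L12.nat_apply, hw₁, hv₁])
      (by rw [← Groth.L12.nat_apply, ← Groth.L12.nat_apply, hw₂, hv₂, hz₂])
    have hwv' : w = G.map δ (φ.app B z) := S.ext_act hG2 (hw₁.trans hv₁.symm) (hψ (by
      change ψ.app _ (G.map S.g w) = ψ.app _ (G.map S.g (G.map δ (φ.app B z)))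
      rw [Groth.L12.nat_apply, Groth.L12.nat_apply, hwv]))
    exact ⟨z, hz₁, by rw [← hw₂, hwv', hv₂]⟩
  refine ⟨hφ, Groth.L12.smooth_of_comp (fun A => Groth.L12.surjective_app_of_smooth φ hφ
    (fun y => ⟨hF.1.some, @Subsingleton.elim _ hG0.2 _ _⟩) A) h⟩

end Groth.Agent.S12316
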