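import Groth.Statements.S12320
import Groth.Agent.L28.ArtFun.Obs

set_option autoImplicit false
universe u v
open CategoryTheory
open SGA7

namespace Groth.Agent.S12320

/-- Suppose Λ is a Noetherian local ring, complete for its maximal ideal, whose residue field is k (so
that Λ → k is onto), and work with functors defined on the category of local Artinian Λ-algebras
having residue field k. Take such a functor F for which F(k) is a singleton, for which the
comparison map F(A₁ ×_A A₂) → F(A₁) ×_{F(A)} F(A₂) is surjective as soon as A₂ → A is surjective,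
and for which this map is bijective in the case A' ×_k k[ε]. Call an element a ∈ F(R) versal for
small prolongations of the base point when, given any object R₀ whose augmentation R₀ → k is a small
extension and any b ∈ F(R₀), some morphism R → R₀ sends a to b. Assume a ∈ F(R) has this versality
property, that π₁ : R₁ → R is a small extension together with a₁ ∈ F(R₁) whose image is a, and that
g : R' → R is a morphism together with a' ∈ F(R') whose image is a. Then a morphism f : R' → R₁
satisfying f ≫ π₁ = g and sending a' to a₁ exists exactly when some morphism f : R' → R₁ satisfying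
f ≫ π₁ = g exists at all. (The published statement concerns semi-homogeneous cofibred groupoids;
this row treats only the set-valued functor case.) -/
theorem result (Λ k : Type u) [CommRing Λ] [IsLocalRing Λ] [IsNoetherianRing Λ]
    [IsAdicComplete (IsLocalRing.maximalIdeal Λ) Λ] [Field k] [Algebra Λ k]
    (hk : Function.Surjective (algebraMap Λ k))
    (F : ArtFun.Art Λ k ⥤ Type v) (hF : ArtFun.H0 F ∧ ArtFun.S1 F ∧ ArtFun.Heps F)
    {R R₁ R' : ArtFun.Art Λ k} (π₁ : R₁ ⟶ R) (hπ : ArtFun.Art.IsSmallExt π₁) (g : R' ⟶ R)
    (a : F.obj R) (a₁ : F.obj R₁) (a' : F.obj R') (h₁ : F.map π₁ a₁ = a) (h' : F.map g a' = a)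
    (hvers : ∀ (R₀ : ArtFun.Art Λ k), ArtFun.Art.IsSmallExt (ArtFun.Art.toBase R₀) →
      ∀ b : F.obj R₀, ∃ φ : R ⟶ R₀, F.map φ a = b) :
    (∃ f : R' ⟶ R₁, f ≫ π₁ = g ∧ F.map f a' = a₁) ↔ (∃ f : R' ⟶ R₁, f ≫ π₁ = g) := by
  refine ⟨fun ⟨f, hf, _⟩ => ⟨f, hf⟩, fun ⟨f, hf⟩ => ?_⟩
  exact Groth.L28.exists_map_over hF.1 hF.2.1 hF.2.2 π₁ hπ g a a₁ a' h₁ h' hvers f hf

end Groth.Agent.S12320
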