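import Groth.Statements.S1239
import Groth.Agent.L20.RG.FlatOpenFp

set_option autoImplicit false
universe u
open FlatMor

set_option backward.isDefEq.respectTransparency.types false
open Groth.L03.WeakAss in
/-- Density of the open set covers the weakly associated primes. -/
theorem exists_notMem {A : Type u} [CommRing A] {n : ℕ} (f : Fin n → A)
    (hdense : Function.Injective (RingHom.pi (fun i => algebraMap A (Localization.Away (f i)))))
    {p : Ideal A} (hp : p ∈ FlatCA.weakAss A A) : ∃ i, f i ∉ p := by
  classical
  haveI := isPrime_of_mem_weakAss hp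
  obtain ⟨z, h1, h2⟩ := Groth.L20.RG.mem_weakAss_iff_exists.1 hp
  by_contra! hall
  choose s hs k hk using fun i => h2 (f i) (hall i)
  let σ := ∏ i, s i
  have hσ : σ ∉ p := fun h => by
    obtain ⟨i, -, hi⟩ := (Ideal.IsPrime.prod_mem_iff).mp h
    exact hs i hi
  refine h1 σ hσ (hdense ?_)
  rw [map_zero]
  funext i
  refine (IsLocalization.map_eq_zero_iff (Submonoid.powers (f i)) (Localization.Away (f i)) _).mpr
    ⟨⟨f i ^ k i, k i, rfl⟩, ?_⟩
  have := hk i
  rw [smul_eq_mul] at this
  show f i ^ k i * (σ • z) = 0
  rw [smul_eq_mul, show σ = (∏ j ∈ Finset.univ.erase i, s j) * s i from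
    (Finset.prod_erase_mul _ _ (Finset.mem_univ i)).symm]
  calc f i ^ k i * ((∏ j ∈ Finset.univ.erase i, s j) * s i * z)
      = (∏ j ∈ Finset.univ.erase i, s j) * (s i * f i ^ k i * z) := by ring
    _ = 0 := by rw [this, mul_zero]

namespace Groth.Agent.S1239

/-- Ring form, X = Spec B, S = Spec A affine; a retrocompact open of Spec A is a finite union of basic
opens: let B be a finitely presented A-algebra and N a finite B-module which is flat over A. Let
f_1, …, f_n be elements of A such that the map from A to the product of the localizations A_{f_i} is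
injective (the open D(f_1) ∪ … ∪ D(f_n) is scheme-theoretically dense). If each localization N_{f_i}
is finitely presented over B_{f_i}, then N is finitely presented over B. -/
theorem result {A B : Type u} [CommRing A] [CommRing B] [Algebra A B] [Algebra.FinitePresentation A B]
    (N : Type u) [AddCommGroup N] [Module B N] [Module A N] [IsScalarTower A B N] [Module.Finite B N] [Module.Flat A N]
    {n : ℕ} (f : Fin n → A)
    (hdense : Function.Injective (RingHom.pi (fun i => algebraMap A (Localization.Away (f i)))))
    (hfp : ∀ i, Module.FinitePresentation (Localization.Away (algebraMap A B (f i)))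
      (LocalizedModule (Submonoid.powers (algebraMap A B (f i))) N)) :
    Module.FinitePresentation B N := by
  classical
  have hloc : ∀ q : PrimeSpectrum B, ∃ g : B, g ∉ q.asIdeal ∧
      Module.FinitePresentation (Localization.Away g) (LocalizedModule (Submonoid.powers g) N) := by
    intro q
    obtain ⟨N₀, _, _, _, _, _, π, hπ, hker, a, ha, hflat₀⟩ :=
      Groth.L20.RG.exists_model (R := A) N q.asIdeal (Groth.L20.FibreCrit.flat_localizedModule_of_flat q.asIdeal.primeCompl)
    have hF := fun i => Groth.L20.RG.exists_finset_ker π hπ (Submonoid.powers (algebraMap A B (f i))) (hfp i)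
    choose F hF0 hFgen using hF
    choose s hs hsx using fun (i : Fin n) (x : F i) => hker x (hF0 i x x.2)
    let G : Fin n → B := fun i => ∏ x, s i x
    have hG : ∀ i, G i ∉ q.asIdeal := fun i h => by
      obtain ⟨x, -, hx⟩ := (Ideal.IsPrime.prod_mem_iff).mp h
      exact hs i x hx
    have hGkill : ∀ i, ∀ y ∈ Submodule.span B (F i : Set N₀), G i • y = 0 := fun i y hy => by
      induction hy using Submodule.span_induction with
      | mem y hy =>
        show (∏ x, s i x) • y = 0
        rw [← Finset.prod_erase_mul _ _ (Finset.mem_univ (⟨y, hy⟩ : F i)), mul_smul, hsx i ⟨y, hy⟩, smul_zero]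
      | zero => exact smul_zero _
      | add a b _ _ ha hb => rw [smul_add, ha, hb, add_zero]
      | smul c a _ ha => rw [smul_comm, ha, smul_zero]
    refine ⟨a * ∏ i, G i, fun h => (Ideal.IsPrime.mem_or_mem inferInstance h).elim ha fun h => ?_, ?_⟩
    · obtain ⟨i, -, hi⟩ := (Ideal.IsPrime.prod_mem_iff).mp h
      exact hG i hi
    refine (Groth.L20.RG.fp_flat_of_ker π hπ (Dvd.intro _ rfl) hflat₀ fun x hx =>
      Groth.L20.RG.exists_pow_smul_of_weakAss fun P hP hle => ?_).1
    haveI := Groth.L03.WeakAss.isPrime_of_mem_weakAss hP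
    by_cases haP : a ∈ P
    · exact P.mul_mem_right _ haP
    haveI : P.LiesOver (P.comap (algebraMap A B)) := ⟨rfl⟩
    rw [← Groth.L20.WeakAssFinite.weakAss_congr (TensorProduct.AlgebraTensorModule.rid A B N₀)] at hP
    obtain ⟨h1, -⟩ := Groth.L20.RG.of_mem_weakAss_tensor N₀ A (P.comap (algebraMap A B)) P (hflat₀ P haP) hP
    obtain ⟨i, hi⟩ := exists_notMem f hdense h1
    obtain ⟨t, ⟨k, rfl⟩, ht⟩ := hFgen i x hx
    have h2 : G i * algebraMap A B (f i) ^ k ∈ P := hle (Groth.L03.WeakAss.mem_annE.2 (by
      rw [mul_smul]; exact hGkill i _ ht))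
    exact P.mul_mem_left _ (P.prod_mem (Finset.mem_univ i)
      ((Ideal.IsPrime.mem_or_mem inferInstance h2).resolve_right fun h => hi (Ideal.IsPrime.mem_of_pow_mem (I := P) inferInstance k h)))
  choose g hg hfpg using hloc
  refine Module.FinitePresentation.of_localizationSpan (Set.range g) ?_ ?_
  · by_contra hne
    obtain ⟨m, hm, hle⟩ := Ideal.exists_le_maximal _ hne
    exact hg ⟨m, hm.isPrime⟩ (hle (Ideal.subset_span ⟨⟨m, hm.isPrime⟩, rfl⟩))
  · rintro ⟨_, q, rfl⟩
    exact hfpg q

end Groth.Agent.S1239
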