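import Groth.Statements.S19581
import Groth.Agent.L26.AbDual.CartierPair
import Groth.Agent.L26.AbDual.DegreeTower
import Groth.Agent.L00.TransIsog
import Groth.Agent.S14133

set_option autoImplicit false
universe u
open CategoryTheory CategoryTheory.Limits MonoidalCategory CartesianMonoidalCategory MonObj GrpObj AlgebraicGeometry
open AbDual

namespace Groth.Agent.S19581

set_option maxHeartbeats 1000000

attribute [local instance] Groth.L08.Cube.clMonoid Groth.Agent.AV.InterPic.picLaw

open Groth.Agent.AV Groth.Agent.ThetaPairing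

/-- Let X and Y be abelian varieties over a field k (proper, smooth, geometrically connected commutative
k-group schemes) with dual abelian varieties X^t, Y^t presented through φ_X, φ_Y for the fppf
topology, and let f : X → Y be an isogeny, i.e. a surjective homomorphism with finite kernel; let
the kernel be Spec A for a finite-dimensional commutative and cocommutative Hopf algebra A, embedded
in X by a homomorphism i whose square against the unit section of Y is cartesian. Let f^t : Y^t →
X^t be the transpose homomorphism and let Spec B, for a finite-dimensional commutative Hopf algebra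
B, be its kernel through a homomorphism j. Then B is isomorphic, as a bialgebra over k, to the dual
Hopf algebra Hom_k(A, k) of A; that is, Ker(f^t) is isomorphic to the Cartier dual of Ker(f). (The
published statement gives a canonical isomorphism; only the existence of an isomorphism is stated
here. That f^t is again an isogeny is a separate statement.) -/
theorem result (k : Type u) [Field k]
    (X Y Xt Yt : Over (Spec (CommRingCat.of k))) [GrpObj X] [IsCommMonObj X] [GrpObj Y] [IsCommMonObj Y]
    [GrpObj Xt] [IsCommMonObj Xt] [GrpObj Yt] [IsCommMonObj Yt]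
    [IsProper X.hom] [Smooth X.hom] [GeometricallyConnected X.hom] [IsProper Y.hom] [Smooth Y.hom] [GeometricallyConnected Y.hom]
    [IsProper Xt.hom] [Smooth Xt.hom] [GeometricallyConnected Xt.hom] [IsProper Yt.hom] [Smooth Yt.hom] [GeometricallyConnected Yt.hom]
    (φX : ∀ T : Over (Spec (CommRingCat.of k)), PicF.Cl (PicF.XT X.hom T) → (T ⟶ Xt))
    (φY : ∀ T : Over (Spec (CommRingCat.of k)), PicF.Cl (PicF.XT Y.hom T) → (T ⟶ Yt))
    (hX : AbDual.IsDualAV Scheme.fppfPrecoverage X Xt φX) (hY : AbDual.IsDualAV Scheme.fppfPrecoverage Y Yt φY)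
    (f : X ⟶ Y) [IsMonHom f] [Surjective f.left]
    (A : Type u) [CommRing A] [HopfAlgebra k A] [Coalgebra.IsCocomm k A] [FiniteDimensional k A]
    (i : CoactBr.sp k A ⟶ X) [IsMonHom i] (hA : AlgGrp.IsKernel i f)
    (ft : Yt ⟶ Xt) [IsMonHom ft] (hft : AbDual.IsTranspose f φX φY ft)
    (B : Type u) [CommRing B] [HopfAlgebra k B] [FiniteDimensional k B]
    (j : CoactBr.sp k B ⟶ Yt) [IsMonHom j] (hB : AlgGrp.IsKernel j ft) :
    Nonempty (B ≃ₐc[k] CartDual.D k A) := by
  haveI : GeometricallyReduced X.hom := geometricallyReduced_of_smooth X.hom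
  haveI : GeometricallyReduced Y.hom := geometricallyReduced_of_smooth Y.hom
  haveI : GeometricallyReduced Xt.hom := geometricallyReduced_of_smooth Xt.hom
  haveI : GeometricallyReduced Yt.hom := geometricallyReduced_of_smooth Yt.hom
  haveI : GeometricallyIntegral X.hom := Groth.L08.Cube.geometricallyIntegral_of_group X
  haveI : GeometricallyIntegral Y.hom := Groth.L08.Cube.geometricallyIntegral_of_group Y
  haveI : GeometricallyIntegral Xt.hom := Groth.L08.Cube.geometricallyIntegral_of_group Xt
  haveI : GeometricallyIntegral Yt.hom := Groth.L08.Cube.geometricallyIntegral_of_group Yt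
  have hfin : ∀ (R : Type u) [CommRing R] [Algebra k R] [Module.Finite k R], IsFinite (CoactBr.sp k R).hom := fun R _ _ _ =>
    (IsFinite.SpecMap_iff (CommRingCat.ofHom (algebraMap k R))).2 (RingHom.finite_algebraMap.2 inferInstance)
  haveI : IsFinite (CoactBr.sp k A).hom := hfin A
  haveI : IsFinite (CoactBr.sp k B).hom := hfin B
  obtain ⟨hff, hffl⟩ := Groth.L00.TransIsog.isFinite_flat f i hA
  haveI := hff
  haveI := hffl
  obtain ⟨E, hR, hL, hND⟩ := Groth.Agent.WeilPairing.exists_weil hX hY f ft hft i hA j hB
  have hjm : ∀ {T : Over (Spec (CommRingCat.of k))} (y : T ⟶ CoactBr.sp k B), y ≫ j = 1 → y = 1 := fun {T} y h =>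
    hB.hom_ext (by rw [h, MonObj.one_comp]) (toUnit_unique _ _)
  -- the degrees
  obtain ⟨d, hd⟩ : ∃ d, ∀ y : ↥Y.left, Scheme.Hom.finrank f.left y = d :=
    ⟨_, Groth.Agent.LamPull.finrank_const f⟩
  obtain ⟨htf, htfl, hts, htd⟩ :=
    Groth.Agent.S14133.result k X Xt Y Yt φX hX φY hY f d hd ft hft
  haveI := htf
  haveI := htfl
  have hrank : ∀ (R : Type u) [CommRing R] [Algebra k R] [Module.Finite k R] (s : PrimeSpectrum k),
      Scheme.Hom.finrank (CoactBr.sp k R).hom s = Module.finrank k R := fun R _ _ _ s =>
    (Scheme.Hom.finrank_SpecMap_algebraMap k R s).trans (by rw [Module.rankAtStalk_eq_finrank_of_free]; rfl)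
  have hdim : Module.finrank k B = Module.finrank k A := by
    rw [← hrank A (IsLocalRing.closedPoint k), ← hrank B (IsLocalRing.closedPoint k)]
    exact (Groth.Agent.DegTower.kernel_finrank ft j hB _).2.trans
      ((htd _).trans ((hd _).symm.trans (Groth.Agent.DegTower.kernel_finrank f i hA _).2.symm))
  exact Groth.Agent.CartierPair.nonempty_bialgEquiv
    (fun y n n' => hR y n n' (n * n') (MonObj.mul_comp _ _ i))
    (fun y y' n => hL y y' (y * y') n (MonObj.mul_comp _ _ j))
    (fun y h => hjm y (hND y h)) hdim

end Groth.Agent.S19581
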