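import Groth.Statements.S1241
import Groth.Agent.L20.RG.ProjNhd
import Groth.Agent.L20.RG.FibreCover

set_option autoImplicit false
universe u
open FlatMor

set_option backward.isDefEq.respectTransparency.types false
open TensorProduct in
set_option backward.isDefEq.respectTransparency.types false in
/-- Base change of a local piece to a common neighbourhood. -/
theorem chart {R S R₁ S₁ R' : Type u} [CommRing R] [CommRing S] [CommRing R₁] [CommRing S₁] [CommRing R']
    [Algebra R S] [Algebra R R₁] [Algebra S S₁] [Algebra R₁ S₁] [Algebra R S₁] [IsScalarTower R R₁ S₁]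
    [IsScalarTower R S S₁] [Algebra R R'] [Algebra R₁ R'] [IsScalarTower R R₁ R'] [Algebra.Etale R R₁]
    [Algebra.Etale R R'] [Algebra.Etale S S₁]
    (N : Type u) [AddCommGroup N] [Module S N] (p₁ : Ideal R₁) [p₁.IsPrime] (p' : Ideal R') [p'.IsPrime]
    (h : Groth.L20.RG.TrivRes R₁ p₁ p')
    (H : ∀ (N' : Type u) [AddCommGroup N'] [Module S₁ N'] [Module S N'] [IsScalarTower S S₁ N'] [Module R₁ N']
        [IsScalarTower R₁ S₁ N'] (g : N →ₗ[S] N'), IsBaseChange S₁ g → Module.Projective R₁ N') :
    ∃ (C : Type u) (_ : CommRing C) (_ : Algebra S C) (_ : Algebra R' C) (_ : SMulCommClass S R' C),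
      Algebra.Etale S C ∧ (∀ r, algebraMap R' C (algebraMap R R' r) = algebraMap S C (algebraMap R S r)) ∧
      (∀ Qs : Ideal S₁, Qs.IsPrime → Qs.LiesOver p₁ →
        ∃ x : Ideal C, x.IsPrime ∧ x.comap (algebraMap S C) = Qs.comap (algebraMap S S₁)) ∧
      Module.Projective R' (C ⊗[S] N) := by
  haveI : Algebra.Etale R₁ R' := Algebra.Etale.of_restrictScalars R R₁ R'
  letI : Algebra S₁ (R' ⊗[R₁] S₁) := Algebra.TensorProduct.rightAlgebra
  let C := R' ⊗[R₁] S₁
  letI : Algebra S C := ((algebraMap S₁ C).comp (algebraMap S S₁)).toAlgebra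
  haveI : IsScalarTower S S₁ C := IsScalarTower.of_algebraMap_eq' rfl
  haveI : SMulCommClass S R' C := ⟨fun s a c => by simp only [Algebra.smul_def]; ring⟩
  haveI : SMulCommClass S R₁ S₁ := ⟨fun s a c => by simp only [Algebra.smul_def]; ring⟩
  haveI : SMulCommClass S R₁ C := ⟨fun s a c => by simp only [Algebra.smul_def]; ring⟩
  haveI : SMulCommClass S₁ R' C := ⟨fun s a c => by simp only [Algebra.smul_def]; ring⟩
  haveI : Algebra.Etale S₁ C := Groth.L20.RG.etale_pushout
  refine ⟨C, inferInstance, inferInstance, inferInstance, inferInstance, Algebra.Etale.comp S S₁ C, fun r => ?_, ?_, ?_⟩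
  · rw [IsScalarTower.algebraMap_apply R R₁ R', ← IsScalarTower.algebraMap_apply R₁ R' C,
      IsScalarTower.algebraMap_apply R₁ S₁ C, ← IsScalarTower.algebraMap_apply R R₁ S₁,
      IsScalarTower.algebraMap_apply R S S₁, ← IsScalarTower.algebraMap_apply S S₁ C]
  · intro Qs _ hQs
    obtain ⟨x, hx, -, hxQ, -⟩ := Groth.L20.RG.exists_point_pushout p₁ Qs p' h
    refine ⟨x, hx, ?_⟩
    rw [IsScalarTower.algebraMap_eq S S₁ C, ← Ideal.comap_comap]
    exact congrArg (Ideal.comap _) hxQ.liesOver.over.symm
  · let N₁ := S₁ ⊗[S] N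
    haveI : IsScalarTower R₁ S₁ N₁ := TensorProduct.isScalarTower_left
    haveI := H N₁ (TensorProduct.mk S S₁ N 1) (TensorProduct.isBaseChange S N S₁)
    haveI : Algebra.IsPushout R₁ S₁ R' C := Algebra.IsPushout.symm inferInstance
    haveI : IsScalarTower R' C (C ⊗[S₁] N₁) := TensorProduct.isScalarTower_left
    haveI : IsScalarTower R₁ C (C ⊗[S₁] N₁) := TensorProduct.isScalarTower_left
    have hbc : IsBaseChange R' ((TensorProduct.mk S₁ C N₁ 1).restrictScalars R₁) :=
      Groth.L20.isBaseChange_restrictScalars (R := R₁) (S := S₁) (R' := R') (S' := C) (TensorProduct.isBaseChange S₁ N₁ C)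
    haveI : IsScalarTower R' C (C ⊗[S] N) := TensorProduct.isScalarTower_left
    exact Module.Projective.of_equiv
      (hbc.equiv.trans ((AlgebraTensorModule.cancelBaseChange S S₁ C C N).restrictScalars R'))

namespace Groth.Agent.S1241

open TensorProduct in
/-- Ring form, X = Spec S and S = Spec R affine: let S be a finitely presented R-algebra, N a finitely
presented S-module and p a prime of R such that N_q is flat over R for every prime q of S over p.
Then there are an étale R-algebra R' with a prime p' over p having the same residue field, and an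
étale S-algebra S' with a compatible R'-algebra structure, such that every prime of S over p is the
contraction of a prime of S' and S' ⊗_S N is a projective R'-module. -/
theorem result {R S : Type u} [CommRing R] [CommRing S] [Algebra R S] [Algebra.FinitePresentation R S]
    (N : Type u) [AddCommGroup N] [Module S N] [Module R N] [IsScalarTower R S N] [Module.FinitePresentation S N]
    (p : Ideal R) [p.IsPrime] (hflat : ∀ (q : Ideal S) [q.IsPrime], q.LiesOver p → FlatCA.FlatAt R q N) :
    ∃ (R' S' : Type u) (_ : CommRing R') (_ : CommRing S') (_ : Algebra R R') (_ : Algebra S S') (_ : Algebra R' S')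
      (_ : Algebra R S') (_ : IsScalarTower R R' S') (_ : IsScalarTower R S S')
      (p' : Ideal R') (_ : p'.IsPrime),
      FlatCA.IsEtaleNhd R R' p p' ∧ Algebra.Etale S S' ∧
      (∀ (q : Ideal S) [q.IsPrime], q.LiesOver p → ∃ q' : Ideal S', q'.IsPrime ∧ q'.comap (algebraMap S S') = q) ∧
      Module.Projective R' (RestrictScalars R' S' (S' ⊗[S] N)) := by
  classical
  let T := {q : PrimeSpectrum S // q.asIdeal.LiesOver p}
  have hloc := fun t : T => haveI := t.2; Groth.L20.RG.exists_projective_local N p t.1.asIdeal (hflat t.1.asIdeal t.2)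
  choose R₁ S₁ cR cS aR aS aRS aRS' tR tS pR hpR hn het _hq hU H using hloc
  obtain ⟨R', _, _, p', _, hR', k, j, hj, hcov⟩ := Groth.L20.RG.exists_fibre_refinement (R := R) (S := S) p T
    (fun t => t.1) (fun q hq => ⟨⟨q, hq⟩, rfl⟩) R₁ S₁ pR (fun _ => 1) hn
    (fun t => Ideal.one_notMem (pR t)) hU
  choose aj tj htr _hu using hj
  have hch := fun i => by
    letI := aj i
    haveI := tj i
    haveI := (hn (j i)).1
    haveI := hR'.1
    haveI := het (j i)
    exact chart (R := R) (S := S) (R₁ := R₁ (j i)) (S₁ := S₁ (j i)) (R' := R') N (pR (j i)) p' (htr i) (H (j i))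
  choose C cC aSC aRC cCl hCet hCcomp hCpt hCproj using hch
  letI : Algebra S (∀ i, C i) := Pi.algebra _ _
  letI : Algebra R' (∀ i, C i) := Pi.algebra _ _
  letI : Algebra R (∀ i, C i) := ((algebraMap S (∀ i, C i)).comp (algebraMap R S)).toAlgebra
  haveI : IsScalarTower R S (∀ i, C i) := IsScalarTower.of_algebraMap_eq' rfl
  haveI : IsScalarTower R R' (∀ i, C i) := IsScalarTower.of_algebraMap_eq fun r => funext fun i => (hCcomp i r).symm
  haveI := hCet
  refine ⟨R', ∀ i, C i, inferInstance, inferInstance, inferInstance, inferInstance, inferInstance, inferInstance,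
    inferInstance, inferInstance, p', inferInstance, hR', inferInstance, ?_, ?_⟩
  · intro q _ hqp
    obtain ⟨i, Qs, hQsp, hQsc, hQsR⟩ := hcov ⟨q, inferInstance⟩ hqp
    obtain ⟨x, _, hxc⟩ := hCpt i Qs hQsp hQsR
    refine ⟨x.comap (Pi.evalRingHom C i), inferInstance, ?_⟩
    show (x.comap (Pi.evalRingHom C i)).comap (algebraMap S (∀ i, C i)) = q
    rw [Ideal.comap_comap, show (Pi.evalRingHom C i).comp (algebraMap S (∀ i, C i)) = algebraMap S (C i) from rfl,
      hxc]
    exact hQsc
  · haveI : SMulCommClass S R' (∀ i, C i) := ⟨fun s a c => by simp only [Algebra.smul_def]; ring⟩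
    haveI : IsScalarTower R' (∀ i, C i) ((∀ i, C i) ⊗[S] N) := TensorProduct.isScalarTower_left
    haveI : ∀ i, IsScalarTower R' (C i) (C i ⊗[S] N) := fun i => TensorProduct.isScalarTower_left
    haveI := hCproj
    let e : (∀ i, C i) ⊗[S] N ≃ₗ[R'] ∀ i, C i ⊗[S] N :=
      { Groth.L20.RG.piTensorEquiv C with
        map_smul' := fun a z => funext fun i => by
          show Groth.L20.RG.piTensorEquiv C (a • z) i = a • Groth.L20.RG.piTensorEquiv C z i
          rw [← algebraMap_smul (∀ i, C i) a z, Groth.L20.RG.piTensorEquiv_smul]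
          exact algebraMap_smul (C i) a _ }
    haveI : Module.Projective R' (∀ i, C i ⊗[S] N) :=
      Module.Projective.of_equiv (DFinsupp.linearEquivFunOnFintype (R := R') (M := fun i => C i ⊗[S] N))
    haveI : Module.Projective R' ((∀ i, C i) ⊗[S] N) := Module.Projective.of_equiv e.symm
    exact Groth.L20.RG.projective_restrictScalars

end Groth.Agent.S1241
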