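import Groth.Statements.S12417
-- import your own Groth.Agent.* helpers here

set_option autoImplicit false
universe u
open CategoryTheory AlgebraicGeometry
open Props

namespace Groth.Agent.S12417

/-- Let X be a quasi-compact quasi-separated scheme and P a property of opens of X such that (a) P holds
for every affine open, and (b) whenever a quasi-compact open U has a finite affine open covering U =
V_1 ∪ … ∪ V_n with P holding for every intersection V_i ∩ V_j, P holds for U. Then P holds for every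
quasi-compact open of X. -/
theorem result (X : Scheme.{u}) [CompactSpace X] [QuasiSeparatedSpace X]
    (P : X.Opens → Prop) (ha : ∀ U : X.Opens, IsAffineOpen U → P U)
    (hb : ∀ (U : X.Opens) (n : ℕ) (V : Fin n → X.Opens), IsCompact (U : Set X) →
      (∀ i, IsAffineOpen (V i)) → ⨆ i, V i = U → (∀ i j, P (V i ⊓ V j)) → P U)
    (U : X.Opens) (hU : IsCompact (U : Set X)) : P U := by
  classical
  have step : ∀ W : X.Opens, IsAffineOpen W → ∀ V : X.Opens, V ≤ W → IsCompact (V : Set X) → P V := by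
    intro W hW V hVW hV
    have hx : ∀ x : V, ∃ g : Γ(X, W), X.basicOpen g ≤ V ∧ x.1 ∈ X.basicOpen g := fun x =>
      hW.exists_basicOpen_le x (hVW x.2)
    choose g hg hgx using hx
    obtain ⟨t, ht⟩ := hV.elim_finite_subcover (fun x : V => (X.basicOpen (g x) : Set X))
      (fun x => (X.basicOpen (g x)).2) (fun y hy => Set.mem_iUnion.mpr ⟨⟨y, hy⟩, hgx ⟨y, hy⟩⟩)
    refine hb V t.card (fun i => X.basicOpen (g (t.equivFin.symm i))) hV
      (fun i => hW.basicOpen _) (le_antisymm (iSup_le fun i => hg _) ?_) (fun i j => ?_)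
    · intro y hy
      obtain ⟨x, hxt, hyx⟩ := Set.mem_iUnion₂.mp (ht hy)
      refine TopologicalSpace.Opens.mem_iSup.mpr ⟨t.equivFin ⟨x, hxt⟩, ?_⟩
      rw [Equiv.symm_apply_apply]
      exact hyx
    · rw [← Scheme.basicOpen_mul]
      exact ha _ (hW.basicOpen _)
  have hx : ∀ x : U, ∃ W : X.Opens, IsAffineOpen W ∧ x.1 ∈ W ∧ W ≤ U := fun x => by
    obtain ⟨W, hW, hxW, hWU⟩ := TopologicalSpace.Opens.isBasis_iff_nbhd.mp X.isBasis_affineOpens x.2
    exact ⟨W, hW, hxW, hWU⟩
  choose W hW hxW hWU using hx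
  obtain ⟨t, ht⟩ := hU.elim_finite_subcover (fun x : U => (W x : Set X))
    (fun x => (W x).2) (fun y hy => Set.mem_iUnion.mpr ⟨⟨y, hy⟩, hxW ⟨y, hy⟩⟩)
  refine hb U t.card (fun i => W (t.equivFin.symm i)) hU (fun i => hW _)
    (le_antisymm (iSup_le fun i => hWU _) ?_) (fun i j => ?_)
  · intro y hy
    obtain ⟨x, hxt, hyx⟩ := Set.mem_iUnion₂.mp (ht hy)
    refine TopologicalSpace.Opens.mem_iSup.mpr ⟨t.equivFin ⟨x, hxt⟩, ?_⟩
    rw [Equiv.symm_apply_apply]
    exact hyx
  · exact step _ (hW _) _ inf_le_left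
      (QuasiSeparatedSpace.inter_isCompact _ _ (W _).2 (hW _).isCompact (W _).2 (hW _).isCompact)

end Groth.Agent.S12417
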