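import Groth.Statements.S12418
import Mathlib.RingTheory.Ideal.Colon

set_option autoImplicit false
universe u
open CAlg

namespace Groth.Agent.S12418

/-- Let R be a Noetherian ring and b ∈ R; for x outside the ideal (b) put I_x = ((b) : x), the ideal of
r with r x ∈ (b). If s ∉ (b) and I_s is maximal among the I_x (x ∉ (b)), then I_s is prime. -/
theorem result {R : Type u} [CommRing R] [IsNoetherianRing R]
    (b s : R) (hs : s ∉ Ideal.span {b})
    (hmax : ∀ x : R, x ∉ Ideal.span {b} →
      Submodule.colon (Ideal.span {b}) (Ideal.span {s}) ≤ Submodule.colon (Ideal.span {b}) (Ideal.span {x}) →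
      Submodule.colon (Ideal.span {b}) (Ideal.span {x}) = Submodule.colon (Ideal.span {b}) (Ideal.span {s})) :
    (Submodule.colon (Ideal.span {b}) (Ideal.span ({s} : Set R))).IsPrime := by
  refine ⟨fun htop => hs ?_, fun {x y} hxy => ?_⟩
  · have : (1 : R) ∈ Submodule.colon (Ideal.span {b}) (Ideal.span ({s} : Set R)) := htop ▸ Submodule.mem_top
    simpa using Submodule.mem_colon.mp this s (Ideal.mem_span_singleton_self s)
  · by_contra! hc
    have hxs : x * s ∉ Ideal.span {b} := fun h => hc.1 <| Submodule.mem_colon.mpr fun p hp => by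
      obtain ⟨c, rfl⟩ := Ideal.mem_span_singleton'.mp hp
      rw [smul_eq_mul, mul_left_comm]
      exact Ideal.mul_mem_left _ c h
    have hle : Submodule.colon (Ideal.span {b}) (Ideal.span {s}) ≤
        Submodule.colon (Ideal.span {b}) (Ideal.span ({x * s} : Set R)) := fun z hz =>
      Submodule.mem_colon.mpr fun p hp => by
        obtain ⟨c, rfl⟩ := Ideal.mem_span_singleton'.mp hp
        exact Submodule.mem_colon.mp hz _ (Ideal.mem_span_singleton'.mpr ⟨c * x, by ring⟩)
    have heq := hmax (x * s) hxs hle
    apply hc.2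
    rw [← heq]
    refine Submodule.mem_colon.mpr fun p hp => ?_
    obtain ⟨c, rfl⟩ := Ideal.mem_span_singleton'.mp hp
    exact (show y • (c * (x * s)) = (x * y) • (c * s) by simp [smul_eq_mul]; ring) ▸
      Submodule.mem_colon.mp hxy _ (Ideal.mem_span_singleton'.mpr ⟨c, rfl⟩)

end Groth.Agent.S12418
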