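import Groth.Statements.S12420
import Groth.Agent.L01.AnalUnram
import Groth.Agent.L01.CompletionExt
import Groth.Agent.L01.AdicNoeth
import Groth.Agent.L12.CRingBasic
import Mathlib.RingTheory.EssentialFiniteness
import Mathlib.RingTheory.Flat.Localization

set_option autoImplicit false
universe u
open CAlg

namespace Groth.Agent.S12420

/-- Let φ : A → A' be an injective local homomorphism of Noetherian local rings, essentially of finite
type, such that the adic completion of A at its maximal ideal m is an integral domain. Then every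
power m^j contains φ⁻¹(m'^n) for some n, m' the maximal ideal of A': the m-adic topology of A is
induced from the m'-adic topology of A'. (Equivalently, the induced homomorphism of completions Â →
Â' is injective, which is how the published statement phrases the conclusion; the inclusion of
ideals is what its proof establishes.) -/
theorem result (A A' : Type u) [CommRing A]
    [CommRing A'] [IsNoetherianRing A] [IsNoetherianRing A'] [IsLocalRing A] [IsLocalRing A'] [Algebra A A']
    (hinj : Function.Injective (algebraMap A A')) [IsLocalHom (algebraMap A A')] [Algebra.EssFiniteType A A']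
    [IsDomain (AdicCompletion (IsLocalRing.maximalIdeal A) A)] (j : ℕ) :
    ∃ n : ℕ, ((IsLocalRing.maximalIdeal A') ^ n).comap (algebraMap A A') ≤ (IsLocalRing.maximalIdeal A) ^ j := by
  classical
  let Ah := AdicCompletion (IsLocalRing.maximalIdeal A) A
  haveI : IsNoetherianRing Ah := Groth.L01.AnalUnram.isNoetherianRing_completion A
  haveI : Module.FaithfullyFlat A Ah := Groth.L01.CompletionExt.faithfullyFlat A
  have hmA := Groth.L01.AnalUnram.completion_map_maximalIdeal A
  haveI : IsAdicComplete (IsLocalRing.maximalIdeal Ah) Ah := by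
    rw [← hmA]
    exact AdicCompletion.isAdicComplete_self _ (IsNoetherian.noetherian _)
  haveI : IsDomain A := (FaithfulSMul.algebraMap_injective A Ah).isDomain
  -- a prime of A' lying over zero
  obtain ⟨q, hq, hqA⟩ := Ideal.exists_comap_eq_of_mem_minimalPrimes_of_injective
    (f := algebraMap A A') hinj ⊥ (by rw [minimalPrimes_eq_minimals]; exact ⟨Ideal.isPrime_bot, fun _ _ _ => bot_le⟩)
  haveI : q.IsPrime := hq
  let C := A' ⧸ q
  haveI : IsLocalRing C := IsLocalRing.of_surjective' (Ideal.Quotient.mk q) Ideal.Quotient.mk_surjective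
  haveI : Algebra.EssFiniteType A C :=
    Algebra.EssFiniteType.comp A A' C
  have hinjC : Function.Injective (algebraMap A C) := by
    rw [injective_iff_map_eq_zero]
    intro a ha
    have h1 : algebraMap A A' a ∈ q := Ideal.Quotient.eq_zero_iff_mem.mp ha
    have h2 : a ∈ q.under A := h1
    rw [Ideal.under_def, hqA] at h2
    exact h2
  have hmC : ∀ a : A, a ∈ IsLocalRing.maximalIdeal A → algebraMap A C a ∈ IsLocalRing.maximalIdeal C := fun a ha => by
    rw [← IsLocalRing.map_maximalIdeal_of_surjective (Ideal.Quotient.mk q) Ideal.Quotient.mk_surjective]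
    exact Ideal.mem_map_of_mem _ (map_nonunit (algebraMap A A') a ha)
  -- the point of `Ah ⊗ C`
  let T := TensorProduct A Ah C
  haveI : IsNoetherianRing T := Algebra.EssFiniteType.isNoetherianRing Ah T
  let κ := IsLocalRing.ResidueField C
  have hkill : ∀ x : A, x ∈ IsLocalRing.maximalIdeal A → algebraMap A κ x = 0 := fun x hx => by
    rw [IsScalarTower.algebraMap_apply A C κ]
    exact (IsLocalRing.residue_eq_zero_iff _).mpr (hmC x hx)
  let e₁ : Ah →ₐ[A] κ := (Ideal.Quotient.liftₐ (IsLocalRing.maximalIdeal A) (Algebra.ofId A κ) hkill).comp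
    (AdicCompletion.evalOneₐ (IsLocalRing.maximalIdeal A))
  let τ : T →ₐ[A] κ := Algebra.TensorProduct.lift e₁ (IsScalarTower.toAlgHom A C κ) (fun _ _ => Commute.all _ _)
  let N : Ideal T := RingHom.ker τ
  haveI : N.IsPrime := RingHom.ker_isPrime _
  let R := Localization.AtPrime N
  let ψ : Ah →+* R := (algebraMap T R).comp Algebra.TensorProduct.includeLeftRingHom
  let χ : C →+* R := (algebraMap T R).comp (Algebra.TensorProduct.includeRight : C →ₐ[A] T).toRingHom
  have hψm : ∀ z ∈ IsLocalRing.maximalIdeal Ah, ψ z ∈ IsLocalRing.maximalIdeal R := by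
    intro z hz
    rw [← Localization.AtPrime.map_eq_maximalIdeal]
    refine Ideal.mem_map_of_mem _ ?_
    show τ (z ⊗ₜ 1) = 0
    rw [Algebra.TensorProduct.lift_tmul, map_one, mul_one]
    rw [← hmA] at hz
    induction hz using Submodule.span_induction with
    | mem x hx => obtain ⟨a, ha, rfl⟩ := hx; rw [AlgHom.commutes]; exact hkill a ha
    | zero => exact map_zero _
    | add x y _ _ h1 h2 => rw [map_add, h1, h2, add_zero]
    | smul a x _ h1 => rw [smul_eq_mul, map_mul, h1, mul_zero]
  have hχm : ∀ z ∈ IsLocalRing.maximalIdeal C, χ z ∈ IsLocalRing.maximalIdeal R := by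
    intro z hz
    rw [← Localization.AtPrime.map_eq_maximalIdeal]
    refine Ideal.mem_map_of_mem _ ?_
    show τ (1 ⊗ₜ z) = 0
    rw [Algebra.TensorProduct.lift_tmul, map_one, one_mul]
    exact (IsLocalRing.residue_eq_zero_iff _).mpr hz
  -- the completion injects
  have hψ : Function.Injective ψ := by
    rw [injective_iff_map_eq_zero]
    intro a ha
    by_contra ha0
    obtain ⟨⟨s, hs⟩, hsa⟩ := (IsLocalization.map_eq_zero_iff N.primeCompl R _).mp ha
    refine hs ?_
    have hreg : ∀ t : T, (a ⊗ₜ[A] (1 : C)) * t = 0 → t = 0 := by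
      let K := FractionRing A
      let L := FractionRing C
      haveI : FaithfulSMul A L := (faithfulSMul_iff_algebraMap_injective A L).mpr (by
        rw [IsScalarTower.algebraMap_eq A C L]
        exact (IsFractionRing.injective C L).comp hinjC)
      letI : Algebra K L := FractionRing.liftAlgebra A L
      haveI : IsScalarTower A K L := inferInstance
      haveI : Module.Flat A L := Module.Flat.trans A K L
      let ν : TensorProduct A Ah L →ₗ[A] TensorProduct A Ah L := (LinearMap.mulLeft A a).rTensor L
      have hν : Function.Injective ν := by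
        refine Module.Flat.rTensor_preserves_injective_linearMap (M := L) _ ?_
        exact fun x y h => mul_left_cancel₀ ha0 h
      have hι : Function.Injective ((IsScalarTower.toAlgHom A C L).toLinearMap.lTensor Ah) :=
        Module.Flat.lTensor_preserves_injective_linearMap _ (IsFractionRing.injective C L)
      intro t ht
      refine hι (hν ?_)
      have hcomm : ∀ t : T, ν ((IsScalarTower.toAlgHom A C L).toLinearMap.lTensor Ah t) =
          (IsScalarTower.toAlgHom A C L).toLinearMap.lTensor Ah ((a ⊗ₜ[A] (1 : C)) * t) := fun t => by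
        induction t using TensorProduct.induction_on with
        | zero => simp
        | tmul x y => rw [Algebra.TensorProduct.tmul_mul_tmul, one_mul]; rfl
        | add x y hx hy => rw [map_add, map_add, hx, hy, mul_add, map_add]
      rw [hcomm, ht]
      simp
    have : s = 0 := hreg s (by
      exact (mul_comm _ _).trans hsa)
    rw [this]
    exact zero_mem _
  -- Chevalley
  let J : ℕ → Ideal Ah := fun n => (IsLocalRing.maximalIdeal R ^ n).comap ψ
  have hJ : ⨅ i, J i = ⊥ := by
    rw [eq_bot_iff]
    intro z hz
    refine hψ ?_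
    rw [map_zero]
    have h1 : ψ z ∈ ⨅ i, IsLocalRing.maximalIdeal R ^ i := by
      rw [Submodule.mem_iInf] at hz ⊢
      exact hz
    haveI : IsNoetherianRing R := IsLocalization.isNoetherianRing N.primeCompl R inferInstance
    have h2 := Ideal.iInf_pow_eq_bot_of_isLocalRing (R := R) (IsLocalRing.maximalIdeal R)
      (IsLocalRing.maximalIdeal.isMaximal R).ne_top
    exact h2.le h1
  obtain ⟨n, hn⟩ := Groth.L12.chevalley J (fun i k hik => Ideal.comap_mono (Ideal.pow_le_pow_right hik))
    (fun n => ⟨n, fun z hz => by
      refine (Ideal.map_le_iff_le_comap (f := ψ)).mp ?_ hz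
      rw [Ideal.map_pow]
      exact Ideal.pow_right_mono (Ideal.map_le_iff_le_comap.mpr hψm) n⟩) j
  rw [hJ, bot_sup_eq] at hn
  refine ⟨n, fun a ha => ?_⟩
  rw [← Ideal.comap_map_eq_self_of_faithfullyFlat (B := Ah) (IsLocalRing.maximalIdeal A ^ j), Ideal.mem_comap,
    Ideal.map_pow, hmA]
  refine hn ?_
  show ψ (algebraMap A Ah a) ∈ IsLocalRing.maximalIdeal R ^ n
  have hagree : ψ (algebraMap A Ah a) = χ (algebraMap A C a) := by
    show algebraMap T R (algebraMap A Ah a ⊗ₜ 1) = algebraMap T R (1 ⊗ₜ algebraMap A C a)
    exact congrArg _ (((Algebra.TensorProduct.includeLeft : Ah →ₐ[A] T).commutes a).trans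
      ((Algebra.TensorProduct.includeRight : C →ₐ[A] T).commutes a).symm)
  rw [hagree]
  have h1 : algebraMap A C a ∈ IsLocalRing.maximalIdeal C ^ n := by
    rw [← IsLocalRing.map_maximalIdeal_of_surjective (Ideal.Quotient.mk q) Ideal.Quotient.mk_surjective, ← Ideal.map_pow]
    exact Ideal.mem_map_of_mem _ ha
  refine (Ideal.map_le_iff_le_comap (f := χ)).mp ?_ h1
  rw [Ideal.map_pow]
  exact Ideal.pow_right_mono (Ideal.map_le_iff_le_comap.mpr hχm) n

end Groth.Agent.S12420
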