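import Groth.Statements.S12426
import Groth.Agent.L18.BirBlow.Main

set_option autoImplicit false
universe u
open AlgebraicGeometry CategoryTheory CategoryTheory.Limits
open BlowUp

namespace Groth.Agent.S12426

/-- Let X be an integral Noetherian scheme with an ample invertible module M, X′ an integral scheme and
f : X′ → X a projective birational morphism: f factors as a closed immersion X′ → P^N_X followed by
the projection (for X quasi-compact with an ample invertible module this is the same as projective)
and f is an isomorphism over some nonempty open subset of X. Then X′ is X-isomorphic to the blow-up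
of X in some closed subscheme: there is an ideal sheaf I on X such that f has the universal property
of the blowing-up of X in I. -/
theorem result
    {X' X : Scheme.{u}} [IsIntegral X'] [IsIntegral X] [AlgebraicGeometry.IsNoetherian X]
    (M : X.Modules) (hM : CohB1.IsAmple M)
    (f : X' ⟶ X) (N : ℕ) (i : X' ⟶ CohB1.ProjSpaceOver N X) [IsClosedImmersion i]
    (hi : i ≫ CohB1.ProjSpaceOver.toBase N X = f)
    (hbir : ∃ U : X.Opens, (U : Set X).Nonempty ∧ IsIso (f ∣_ U)) :
    ∃ I : X.IdealSheafData, BlowUp.IsBlowUp f I := by
  obtain ⟨hgen, hsurj⟩ := Groth.L18.BirBlow.birational_of_isIso_restrict f hbir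
  exact Groth.L18.BirBlow.exists_isBlowUp M hM f N i hi hgen hsurj

end Groth.Agent.S12426
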