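import Groth.Statements.S12429
import Groth.Agent.L03.Ruled.Push
import Groth.Agent.L26.Weil.Axes
import Groth.Agent.L17.ThickBasic
import Groth.Agent.L23.SchKer
-- import your own Groth.Agent.* helpers here

set_option autoImplicit false
universe u
open CategoryTheory CategoryTheory.Limits AlgebraicGeometry
open Surf

namespace Groth.Agent.S12429

open Groth.L22.Inter Groth.L22.Nef Groth.L22.Big
set_option backward.isDefEq.respectTransparency false
set_option linter.style.haveILetI false

/-- Let π : X → C be a ruled surface over an algebraically closed field k: X a surface (integral, of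
dimension two, all local rings regular, with a closed immersion into some P^n_k over k), C a curve
(integral, proper over k, of dimension one, all local rings regular), π a surjective k-morphism
whose fibre over every closed point is isomorphic to P^1_k and which admits a section σ. Let L be an
invertible O_X-module, the sheaf of a divisor D, with D.f = n for every closed fibre f = π⁻¹(y),
written (L·I_f) = −n for the ideal I_f = m_y·O_X of the fibre and the intersection number (L·M) =
χ(O) − χ(L) − χ(M) + χ(L ⊗ M). Then π_*L is a locally free O_C-module of rank n + 1. Moreover π_*O_X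
= O_C: for every open U of C the map O_C(U) → O_X(π⁻¹U) is bijective. -/
theorem result (k : Type u) [Field k] [IsAlgClosed k] (X : Scheme.{u}) [X.Over (Spec (CommRingCat.of k))]
    [IsIntegral X] (hdim : topologicalKrullDim X = 2) (hreg : ∀ x : X, IsRegularLocalRing (X.presheaf.stalk x))
    (hproj : ∃ (n : ℕ) (ι : X ⟶ CohB1.ProjSpace n k), IsClosedImmersion ι ∧ ι ≫ CohB1.ProjSpace.toSpec n k = (X ↘ (Spec (CommRingCat.of k))))
    (C : Scheme.{u}) [C.Over (Spec (CommRingCat.of k))]
    [IsIntegral C] [IsProper (C ↘ (Spec (CommRingCat.of k)))] (hdimC : topologicalKrullDim C = 1)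
    (hregC : ∀ x : C, IsRegularLocalRing (C.presheaf.stalk x))
    (π : X ⟶ C) (hπ : π ≫ (C ↘ (Spec (CommRingCat.of k))) = (X ↘ (Spec (CommRingCat.of k)))) (hsurj : Function.Surjective π)
    (hfib : ∀ y : C, IsClosed ({y} : Set C) → Nonempty (pullback π (C.fromSpecResidueField y) ≅ CohB1.ProjSpace 1 k))
    (σ : C ⟶ X) (hσ : σ ≫ π = 𝟙 C)
    [HasInjectiveResolutions X.Modules] (n : ℕ) (L : X.Modules) (hL : PicF.IsInvertible L)
    (hdeg : ∀ (y : C) (hy : IsClosed ({y} : Set C)), FGA.intNum k X 2 ![L, (ClSub.idealMod ((Scheme.IdealSheafData.vanishingIdeal ⟨{y}, hy⟩).comap π))] (Coh.structureModule X) = -(n : ℤ)) :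
    FlatMod.IsFinLocFreeOfRank (n + 1) ((Coh.push π).obj L) ∧
      ∀ U : C.Opens, Function.Bijective (π.app U).hom := by
  obtain ⟨m, ι, hιc, hι⟩ := hproj
  haveI := hιc
  haveI : IsProper (CohB1.ProjSpace.toSpec m k) := Groth.L16.ProjSpace.isProper_toSpec m k
  haveI : IsProper (X ↘ Spec (CommRingCat.of k)) := by rw [← hι]; infer_instance
  haveI := Groth.L21.RR.isNoetherian_of_proper (X := X) k
  haveI := Groth.L21.RR.isNoetherian_of_proper (X := C) k
  haveI : π.IsOver (Spec (CommRingCat.of k)) := ⟨hπ⟩
  haveI : Surjective π := ⟨hsurj⟩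
  haveI : Smooth (C ↘ Spec (CommRingCat.of k)) :=
    Groth.L26.Weil.smooth_of_regular_closed _ fun x _ => hregC x
  have hd : topologicalKrullDim X = (2 : ℕ) := hdim.trans Nat.cast_ofNat.symm
  have hkerf : ∀ (y : C) (hy : IsClosed ({y} : Set C)),
      (π.fiberι y).ker = (Scheme.IdealSheafData.vanishingIdeal ⟨{y}, hy⟩).comap π := fun y hy => by
    haveI : IsClosedImmersion (C.fromSpecResidueField y) := isClosed_singleton_iff_isClosedImmersion.mp hy
    have hker : (C.fromSpecResidueField y).ker = Scheme.IdealSheafData.vanishingIdeal ⟨{y}, hy⟩ := by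
      rw [Groth.L23.SchKer.ker_eq_vanishingIdeal]
      congr 1
      refine TopologicalSpace.Closeds.ext ?_
      show closure (Set.range (C.fromSpecResidueField y)) = {y}
      rw [Scheme.range_fromSpecResidueField, hy.closure_eq]
    rw [← hker]
    exact Groth.L17.Thick.ker_of_isPullback (IsPullback.of_hasPullback π (C.fromSpecResidueField y))
  have hn' : ∀ (y : C), IsClosed ({y} : Set C) → ii k L (ClSub.idealMod (π.fiberι y).ker) = -(n : ℚ) := fun y hy => by
    rw [hkerf y hy, ← intNum_eq_ii k hd.le, hdeg y hy]
    push_cast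
    rfl
  have hdeg' : ∀ (y : C), IsClosed ({y} : Set C) → ii k L (ClSub.idealMod (π.fiberι y).ker) ≤ 0 := fun y hy => by
    rw [hn' y hy]
    simp
  exact ⟨Groth.L03.Ruled.isFinLocFreeOfRank_push hd hreg hdimC π hfib hL hdeg' n hn',
    fun U => Groth.L03.Ruled.bijective_app hd hreg hdimC π hfib σ hσ U⟩

end Groth.Agent.S12429
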