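import Groth.Statements.S12431
import Groth.Agent.L21.Bundle.SelfExt

set_option autoImplicit false
set_option backward.isDefEq.respectTransparency false
set_option backward.isDefEq.respectTransparency.types false
universe u
open CategoryTheory CategoryTheory.Limits AlgebraicGeometry
open Curves

namespace Groth.Agent.S12431

/-- Uniqueness, e = 0 case: let C be an elliptic curve over an algebraically closed field k — integral,
proper over k, of dimension one, all local rings regular, of genus 1 — and let E and E′ be locally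
free O_C-modules of rank 2 which are normalized (H^0(C, E) ≠ 0 while H^0(C, E ⊗ M) = 0 for every
invertible M of negative degree; likewise for E′), indecomposable (not isomorphic to a direct sum of
two invertible modules) and of degree 0, where deg E = χ(E) − 2χ(O_C). Then E and E′ are isomorphic:
there is exactly one elliptic ruled surface with invariant e = 0 and indecomposable E. -/
theorem result (k : Type u) [Field k] [IsAlgClosed k] (C : Scheme.{u}) [C.Over (Spec (CommRingCat.of k))]
    [IsIntegral C] [IsProper (C ↘ (Spec (CommRingCat.of k)))] (hdimC : topologicalKrullDim C = 1)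
    (hregC : ∀ x : C, IsRegularLocalRing (C.presheaf.stalk x)) (hg : Curv2.genus k C = 1)
    (E : C.Modules) (hE : FlatMod.IsFinLocFreeOfRank 2 E)
    (hE0 : Nontrivial (Coh.HH C E 0))
    (hEneg : ∀ M : C.Modules, PicF.IsInvertible M → Curv2.deg k C M 1 < 0 → Subsingleton (Coh.HH C (CohB1.tensorMod E M) 0))
    (hEind : ∀ L₁ L₂ : C.Modules, PicF.IsInvertible L₁ → PicF.IsInvertible L₂ → IsEmpty (E ≅ L₁ ⊞ L₂))
    (hEdeg : Curv2.deg k C E 2 = 0)
    (E' : C.Modules) (hE' : FlatMod.IsFinLocFreeOfRank 2 E')
    (hE'0 : Nontrivial (Coh.HH C E' 0))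
    (hE'neg : ∀ M : C.Modules, PicF.IsInvertible M → Curv2.deg k C M 1 < 0 → Subsingleton (Coh.HH C (CohB1.tensorMod E' M) 0))
    (hE'ind : ∀ L₁ L₂ : C.Modules, PicF.IsInvertible L₁ → PicF.IsInvertible L₂ → IsEmpty (E' ≅ L₁ ⊞ L₂))
    (hE'deg : Curv2.deg k C E' 2 = 0) :
    Nonempty (E ≅ E') := by
  haveI := Groth.L21.RR.isNoetherian_of_proper (X := C) k
  haveI : Smooth (C ↘ Spec (CommRingCat.of k)) := Groth.L26.Weil.smooth_of_regular_closed _ fun x _ => hregC x
  have h0 : Groth.L21.RR.h k 0 (Coh.structureModule C) = 1 := Groth.L21.RR.h0_eq_one_of_isAlgClosed k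
  obtain ⟨i, q, w, hS, hns⟩ := Groth.L21.Bundle.exists_selfExt k hregC hdimC h0 hg hE hE0 hEneg hEind hEdeg
  obtain ⟨i', q', w', hS', hns'⟩ := Groth.L21.Bundle.exists_selfExt k hregC hdimC h0 hg hE' hE'0 hE'neg hE'ind hE'deg
  exact Groth.L21.Bundle.nonempty_iso_selfExt k hregC hdimC hg i q w hS i' q' w' hS' hns hns'

end Groth.Agent.S12431
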