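import Groth.Statements.S12432
import Groth.Agent.L21.Duality.Nondegenerate
import Groth.Agent.L21.Duality.SpecialApps
import Groth.Agent.L26.Weil.Axes

set_option autoImplicit false
set_option backward.isDefEq.respectTransparency false
universe u
open CategoryTheory CategoryTheory.Limits AlgebraicGeometry
open Curves

namespace Groth.Agent.S12432

/-- In degree d = 6 the curve is canonical. Take k algebraically closed and suppose X is a curve over k
(integral, proper over k, one-dimensional, with every local ring regular), equipped with a closed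
immersion i : X → P^3_k over k whose image lies in no plane — that is, any nonzero global section of
O(1) on P^3_k pulls back to a nonzero global section of i^*O(1). Assume the hyperplane section is
special, meaning H^1(X, i^*O(1)) ≠ 0, and that deg i^*O(1) = 6. Then i^*O(1) is isomorphic to the
canonical sheaf Ω_{X/k}, and X has genus 4 (so X is a canonical curve of genus 4; the isomorphism is
asserted to exist as O_X-modules). -/
theorem result (k : Type u) [Field k] [IsAlgClosed k] (X : Scheme.{u}) [X.Over (Spec (CommRingCat.of k))]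
    [IsIntegral X] [IsProper (X ↘ (Spec (CommRingCat.of k)))] (hdim : topologicalKrullDim X = 1)
    (hreg : ∀ x : X, IsRegularLocalRing (X.presheaf.stalk x))
    (i : X ⟶ CohB1.ProjSpace 3 k) [IsClosedImmersion i] (hi : i ≫ CohB1.ProjSpace.toSpec 3 k = (X ↘ (Spec (CommRingCat.of k))))
    (hplane : ∀ s : LinSer.Sect (CohB1.ProjSpace 3 k) (Twist.twistProjSpace 3 k 1), s ≠ 0 →
      OmegaSh.pullSect i (Twist.twistProjSpace 3 k 1) ⊤ s ≠ 0)
    (hspecial : Nontrivial (Coh.HH X ((Scheme.Modules.pullback i).obj (Twist.twistProjSpace 3 k 1)) 1))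
    (hdeg : Curv2.deg k X ((Scheme.Modules.pullback i).obj (Twist.twistProjSpace 3 k 1)) 1 = 6) :
    Nonempty (((Scheme.Modules.pullback i).obj (Twist.twistProjSpace 3 k 1)) ≅ Omega.sheaf (X ↘ (Spec (CommRingCat.of k)))) ∧ Curv2.genus k X = 4 := by
  haveI : Smooth (X ↘ Spec (CommRingCat.of k)) :=
    Groth.L26.Weil.smooth_of_regular_closed (X ↘ Spec (CommRingCat.of k)) fun x _ => hreg x
  haveI := Groth.L21.RR.isNoetherian_of_proper (X := X) k
  have h0 := Groth.L21.RR.h0_eq_one_of_isAlgClosed (X := X) k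
  have hL := Groth.L18.Ample.isInvertible_pullback i (Groth.L16.ProjTwist.isInvertible_twistProjSpace 3 k 1)
  have h4 := Groth.L21.Duality.succ_le_h0_pullback_twist i hi hplane
  have h1 : 1 ≤ Groth.L21.RR.h k 1 ((Scheme.Modules.pullback i).obj (Twist.twistProjSpace 3 k 1)) := by
    haveI := hspecial
    haveI := Groth.L21.RR.finite_HH' k (Groth.L16.ProperFinite.isCoh_of_isInvertible hL) 1
    exact Module.finrank_pos
  have hcl := Groth.L21.Duality.clifford (k := k) hdim h0 hL (by omega) h1
  suffices hiso : Nonempty (((Scheme.Modules.pullback i).obj (Twist.twistProjSpace 3 k 1)) ≅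
      Omega.sheaf (X ↘ (Spec (CommRingCat.of k)))) by
    refine ⟨hiso, ?_⟩
    obtain ⟨e⟩ := hiso
    have h5 := (Groth.L21.Duality.omega_invariants (k := k) (X := X) hdim).2.2 h0
    rw [← Groth.L21.Duality.deg_congr (k := k) e, hdeg] at h5
    omega
  by_contra hK
  have hO : IsEmpty (((Scheme.Modules.pullback i).obj (Twist.twistProjSpace 3 k 1)) ≅ Coh.structureModule X) :=
    ⟨fun e => by
      rw [Groth.L21.Duality.deg_congr (k := k) e, Groth.L21.Duality.deg_structureModule] at hdeg
      omega⟩
  obtain ⟨N, s, hs, ⟨e⟩⟩ := Groth.L21.Duality.clifford_equality (k := k) hdim h0 hL (by omega) h1 hO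
    (not_nonempty_iff.1 hK) (by omega)
  rw [show Groth.L21.RR.h k 0 ((Scheme.Modules.pullback i).obj (Twist.twistProjSpace 3 k 1)) - 1 = 2 + 1 by omega] at e
  obtain ⟨P, Q, hP, hQ, ⟨c⟩⟩ := Groth.L21.Duality.exists_two_points_of_deg_two (k := k) hdim h0 hs.1 hs.2.1
    (Groth.L21.Duality.le_h0_of_isLinSer hs)
  have hdrop := (Groth.L21.RR.veryAmple_iff k hdim hL).1 ⟨3, i, inferInstance, hi, ⟨Iso.refl _⟩⟩ P Q hP hQ
  have hN2 := Groth.L21.Duality.succ_le_h0_tensorPow (k := k) hdim h0 hs.1 (Groth.L21.Duality.le_h0_of_isLinSer hs) 2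
  rw [Groth.L21.RR.h_congr k (Groth.L00.Tensor.tensorIso e (Iso.refl _) ≪≫
    Groth.L00.Tensor.tensorAssoc (CohB1.tensorPow N 2) N _ ≪≫ Groth.L00.Tensor.tensorIso (Iso.refl _) c ≪≫
    Groth.L00.Tensor.tensorUnitRight _) 0] at hdrop
  omega

end Groth.Agent.S12432
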