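import Groth.Statements.S12435
import Groth.Agent.L18.VeryAmpleDescent
-- import your own Groth.Agent.* helpers here

set_option autoImplicit false
universe u
open CategoryTheory CategoryTheory.Limits AlgebraicGeometry
open Desc

namespace Groth.Agent.S12435

open Groth.L18

/-- Relative very ampleness restricts to affine opens of the base, in the `ℙⁿ` form. -/
theorem pn_restrict {X Y : Scheme.{u}} (f : X ⟶ Y) [LocallyOfFiniteType f] [QuasiCompact f]
    {L : X.Modules} (hL : PicF.IsInvertible L) (h : RelProj.IsRelVeryAmple f L)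
    {U : Y.Opens} (hU : IsAffineOpen U) :
    RelAmple.IsRelVeryAmplePn (f ∣_ U) (L.restrict (f ⁻¹ᵁ U).ι) := by
  haveI : IsAffine U.toScheme := hU
  have h1 := PBundle.isRelVeryAmple_baseChange (isPullback_morphismRestrict f U).flip h
  exact Groth.L12.CurveFam.isRelVeryAmplePn_of_isRelVeryAmple _ _
    (Ample.isInvertible_restrict hL _)
    (PBundle.isRelVeryAmple_of_iso ((Scheme.Modules.restrictFunctorIsoPullback _).app L) h1)

/-- Relative very ampleness glued from the local `ℙⁿ` forms. -/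
theorem va_of_local {X Y : Scheme.{u}} (f : X ⟶ Y) [QuasiCompact f] {L : X.Modules} (hL : PicF.IsInvertible L)
    (h : ∀ y : Y, ∃ U : Y.Opens, y ∈ U ∧ RelAmple.IsRelVeryAmplePn (f ∣_ U) (L.restrict (f ⁻¹ᵁ U).ι)) :
    RelProj.IsRelVeryAmple f L :=
  PBundle.isRelVeryAmple_of_openCover hL fun y => by
    obtain ⟨U, hy, hU⟩ := h y
    exact ⟨U, hy, PBundle.isRelVeryAmple_of_Pn _ hU⟩


/-- Let f : X → Y be a morphism of finite type, g : Y′ → Y faithfully flat and quasi-compact, X′ = X ×_Y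
Y′ with projections f′ : X′ → Y′ and g′ : X′ → X, and L an invertible O_X-module (locally isomorphic
to O_X). Then L is very ample for f — every point of Y has an open neighbourhood U with an immersion
of f⁻¹(U) into some P^n_U over U under which O(1) pulls back to L — if and only if g′^*L is very
ample for f′ in the same sense. (The published statement has X, Y over a base S and base change
along a faithfully flat quasi-compact S′ → S; the case S = Y stated here is equivalent.) -/
theorem result {X Y Y' : Scheme.{u}} (f : X ⟶ Y)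
    [LocallyOfFiniteType f] [QuasiCompact f] (g : Y' ⟶ Y) [Surjective g] [Flat g] [QuasiCompact g]
    (L : X.Modules) (hL : PicF.IsInvertible L) :
    (∀ y : Y, ∃ U : Y.Opens, y ∈ U ∧ RelAmple.IsRelVeryAmplePn (f ∣_ U) (L.restrict (f ⁻¹ᵁ U).ι)) ↔
      ∀ y' : Y', ∃ U' : Y'.Opens, y' ∈ U' ∧
        RelAmple.IsRelVeryAmplePn (pullback.snd f g ∣_ U')
          (((Scheme.Modules.pullback (pullback.fst f g)).obj L).restrict (pullback.snd f g ⁻¹ᵁ U').ι) := by
  constructor
  · intro h y'
    obtain ⟨_, ⟨U', hU', rfl⟩, hy', -⟩ :=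
      Y'.isBasis_affineOpens.exists_subset_of_mem_open (Set.mem_univ y') isOpen_univ
    exact ⟨U', hy', pn_restrict _ (Ample.isInvertible_pullback _ hL)
      (PBundle.isRelVeryAmple_baseChange (IsPullback.of_hasPullback f g) (va_of_local f hL h)) hU'⟩
  · intro h y
    obtain ⟨U, hU, hy⟩ : ∃ U : Y.Opens, IsAffineOpen U ∧ y ∈ U := by
      obtain ⟨_, ⟨U, hU, rfl⟩, hy, -⟩ :=
        Y.isBasis_affineOpens.exists_subset_of_mem_open (Set.mem_univ y) isOpen_univ
      exact ⟨U, hU, hy⟩
    refine ⟨U, hy, ?_⟩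
    have hva := va_of_local (pullback.snd f g) (Ample.isInvertible_pullback _ hL) h
    haveI : IsAffine U.toScheme := hU
    haveI : CompactSpace U.toScheme := isCompact_iff_compactSpace.1 hU.isCompact
    haveI : CompactSpace (g ⁻¹ᵁ U).toScheme := QuasiCompact.compactSpace_of_compactSpace (g ∣_ U)
    haveI : CompactSpace (f ⁻¹ᵁ U).toScheme := QuasiCompact.compactSpace_of_compactSpace (f ∣_ U)
    let 𝒰 := (g ⁻¹ᵁ U).toScheme.affineCover.finiteSubcover
    haveI : ∀ i, IsAffine (𝒰.X i) := fun i => inferInstanceAs (IsAffine ((g ⁻¹ᵁ U).toScheme.affineCover.X _))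
    let k : (∐ 𝒰.X) ⟶ U.toScheme := Sigma.desc 𝒰.f ≫ g ∣_ U
    haveI : Surjective (Sigma.desc 𝒰.f) := ⟨fun x => by
      obtain ⟨z, hz⟩ := 𝒰.covers x
      refine ⟨(Sigma.ι 𝒰.X (𝒰.idx x)).base z, ?_⟩
      rw [← Scheme.Hom.comp_apply, Sigma.ι_desc]
      exact hz⟩
    haveI : Flat (Sigma.desc 𝒰.f) := IsZariskiLocalAtSource.sigmaDesc fun i => inferInstance
    haveI : Surjective (g ∣_ U) := IsZariskiLocalAtTarget.restrict (P := @Surjective) inferInstance U
    haveI : Flat (g ∣_ U) := IsZariskiLocalAtTarget.restrict (P := @Flat) inferInstance U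
    let T := ∐ 𝒰.X
    let f₀ : (f ⁻¹ᵁ U).toScheme ⟶ Spec (CommRingCat.of Γ(U.toScheme, ⊤)) := f ∣_ U ≫ U.toScheme.isoSpec.hom
    letI : Algebra Γ(U.toScheme, ⊤) Γ(T, ⊤) := k.appTop.hom.toAlgebra
    let q := Spec.map (CommRingCat.ofHom (algebraMap Γ(U.toScheme, ⊤) Γ(T, ⊤)))
    have hq : q = T.isoSpec.inv ≫ k ≫ U.toScheme.isoSpec.hom := by
      rw [← Scheme.isoSpec_inv_naturality_assoc, Iso.inv_hom_id, Category.comp_id]
      rfl
    haveI : Flat q := by rw [hq]; infer_instance
    haveI : Surjective q := by rw [hq]; infer_instance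
    haveI : Module.Flat Γ(U.toScheme, ⊤) Γ(T, ⊤) := by
      have h1 : Flat q := inferInstance
      rw [HasRingHomProperty.Spec_iff (P := @Flat)] at h1
      exact RingHom.flat_algebraMap_iff.1 h1
    haveI : Module.FaithfullyFlat Γ(U.toScheme, ⊤) Γ(T, ⊤) :=
      .of_comap_surjective q.surjective
    let Y₀ := pullback f₀ q
    let h' : Spec (CommRingCat.of Γ(T, ⊤)) ⟶ Y' := T.isoSpec.inv ≫ Sigma.desc 𝒰.f ≫ (g ⁻¹ᵁ U).ι
    have hbase : h' ≫ g = q ≫ U.toScheme.isoSpec.inv ≫ U.ι := by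
      rw [hq]
      simp only [h', k, Category.assoc, Iso.hom_inv_id_assoc, morphismRestrict_ι]
    have mid : IsPullback (f ⁻¹ᵁ U).ι f₀ f (U.toScheme.isoSpec.inv ≫ U.ι) := by
      have h1 : IsPullback (𝟙 _) f₀ (f ∣_ U) U.toScheme.isoSpec.inv :=
        IsPullback.of_horiz_isIso ⟨by simp [f₀]⟩
      simpa using h1.paste_horiz (isPullback_morphismRestrict f U).flip
    have big : IsPullback (pullback.fst f₀ q ≫ (f ⁻¹ᵁ U).ι) (pullback.snd f₀ q) f
        (q ≫ U.toScheme.isoSpec.inv ≫ U.ι) :=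
      (IsPullback.of_hasPullback f₀ q).paste_horiz mid
    rw [← hbase] at big
    let l : Y₀ ⟶ pullback f g := pullback.lift (pullback.fst f₀ q ≫ (f ⁻¹ᵁ U).ι) (pullback.snd f₀ q ≫ h')
      (by rw [Category.assoc _ h', ← big.w])
    have hl : l ≫ pullback.fst f g = pullback.fst f₀ q ≫ (f ⁻¹ᵁ U).ι := pullback.lift_fst _ _ _
    have top : IsPullback l (pullback.snd f₀ q) (pullback.snd f g) h' :=
      IsPullback.of_right (by rw [hl]; exact big) (pullback.lift_snd _ _ _) (IsPullback.of_hasPullback f g)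
    have hL₀ : PicF.IsInvertible (L.restrict (f ⁻¹ᵁ U).ι) := Ample.isInvertible_restrict hL _
    haveI : LocallyOfFiniteType (pullback.snd f₀ q) := inferInstance
    haveI : QuasiCompact (pullback.snd f₀ q) := inferInstance
    obtain ⟨n, i, hii, hi, ⟨τ⟩⟩ := Groth.L12.CurveFam.exists_pup_of_isRelVeryAmplePn (pullback.snd f₀ q)
      (Groth.L12.CurveFam.isRelVeryAmplePn_of_isRelVeryAmple _ _
        (Ample.isInvertible_pullback _ (Ample.isInvertible_pullback _ hL))
        (PBundle.isRelVeryAmple_baseChange top hva))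
    haveI := hii
    obtain ⟨N, r, hr, hrp, ⟨σ⟩⟩ := VeryAmpleDescent.exists_immersion_of_pullback f₀ (pullback.snd f₀ q)
      (pullback.fst f₀ q) (IsPullback.of_hasPullback f₀ q) hL₀ i hi
      (τ ≪≫ (Scheme.Modules.pullbackComp l (pullback.fst f g)).app L ≪≫
        (Scheme.Modules.pullbackCongr hl).app L ≪≫
        ((Scheme.Modules.pullbackComp (pullback.fst f₀ q) (f ⁻¹ᵁ U).ι).app L).symm ≪≫
        (Scheme.Modules.pullback (pullback.fst f₀ q)).mapIso
          ((Scheme.Modules.restrictFunctorIsoPullback _).app L).symm)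
    haveI := hr
    obtain ⟨e, he, ⟨ε⟩⟩ := Groth.L22.VeryAmple.exists_iso_over N U.toScheme
    refine ⟨N, r ≫ e.hom, inferInstance, ?_, ⟨(((Scheme.Modules.pullbackComp r e.hom).app _).symm ≪≫
      (Scheme.Modules.pullback r).mapIso ε ≪≫ σ).symm⟩⟩
    show (r ≫ e.hom) ≫ CohB1.ProjSpaceOver.toBase N U.toScheme = f ∣_ U
    rw [Category.assoc, he, ← Category.assoc, hrp, Category.assoc, Iso.hom_inv_id, Category.comp_id]

end Groth.Agent.S12435
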