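import Groth.Statements.S12436
import Groth.Agent.L03.SurfNum.Fibre
import Groth.Agent.L03.SurfNum.CurveDegree
import Groth.Agent.L03.BlowPt.PtDeg
import Groth.Agent.L03.SurfAdj.Tools
import Groth.Agent.L26.Weil.Axes
import Groth.Agent.L16.ProjSpace.Basic
import Groth.Agent.L16.ProjSpace.Dim
-- import your own Groth.Agent.* helpers here

set_option autoImplicit false
universe u
open CategoryTheory CategoryTheory.Limits AlgebraicGeometry
open Surf

namespace Groth.Agent.S12436

open Groth.L22.Inter Groth.L22.Nef Groth.L22.Big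
set_option backward.isDefEq.respectTransparency false
set_option linter.style.haveILetI false

/-- Let π : X → C be a ruled surface over an algebraically closed field k — X a surface (integral, of
dimension two, all local rings regular, with a closed immersion into some P^n_k over k), C a curve
(integral, proper over k, of dimension one, all local rings regular), π a surjective k-morphism with
every closed fibre isomorphic to P^1_k, σ a section — let C₀ = σ(C) with ideal sheaf ker σ, and let
f = π⁻¹(y) be the fibre over a closed point y, with ideal m_y·O_X. Then C₀.f = 1 and f² = 0; in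
terms of the intersection number (L·M) = χ(O) − χ(L) − χ(M) + χ(L ⊗ M) of the ideal sheaves,
(I_{C₀}·I_f) = 1 and (I_f·I_f) = 0. -/
theorem result (k : Type u) [Field k] [IsAlgClosed k] (X : Scheme.{u}) [X.Over (Spec (CommRingCat.of k))]
    [IsIntegral X] (hdim : topologicalKrullDim X = 2) (hreg : ∀ x : X, IsRegularLocalRing (X.presheaf.stalk x))
    (hproj : ∃ (n : ℕ) (ι : X ⟶ CohB1.ProjSpace n k), IsClosedImmersion ι ∧ ι ≫ CohB1.ProjSpace.toSpec n k = (X ↘ (Spec (CommRingCat.of k))))
    (C : Scheme.{u}) [C.Over (Spec (CommRingCat.of k))]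
    [IsIntegral C] [IsProper (C ↘ (Spec (CommRingCat.of k)))] (hdimC : topologicalKrullDim C = 1)
    (hregC : ∀ x : C, IsRegularLocalRing (C.presheaf.stalk x))
    (π : X ⟶ C) (hπ : π ≫ (C ↘ (Spec (CommRingCat.of k))) = (X ↘ (Spec (CommRingCat.of k)))) (hsurj : Function.Surjective π)
    (hfib : ∀ y : C, IsClosed ({y} : Set C) → Nonempty (pullback π (C.fromSpecResidueField y) ≅ CohB1.ProjSpace 1 k))
    (σ : C ⟶ X) (hσ : σ ≫ π = 𝟙 C)
    [HasInjectiveResolutions X.Modules] (y : C) (hy : IsClosed ({y} : Set C)) :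
    FGA.intNum k X 2 ![ClSub.idealMod σ.ker, (ClSub.idealMod ((Scheme.IdealSheafData.vanishingIdeal ⟨{y}, hy⟩).comap π))] (Coh.structureModule X) = 1 ∧
      FGA.intNum k X 2 ![(ClSub.idealMod ((Scheme.IdealSheafData.vanishingIdeal ⟨{y}, hy⟩).comap π)), (ClSub.idealMod ((Scheme.IdealSheafData.vanishingIdeal ⟨{y}, hy⟩).comap π))] (Coh.structureModule X) = 0 := by
  obtain ⟨n, ι, hιc, hι⟩ := hproj
  haveI := hιc
  haveI : IsProper (CohB1.ProjSpace.toSpec n k) := Groth.L16.ProjSpace.isProper_toSpec n k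
  haveI : IsProper (X ↘ Spec (CommRingCat.of k)) := by rw [← hι]; infer_instance
  haveI := Groth.L21.RR.isNoetherian_of_proper (X := X) k
  haveI := Groth.L21.RR.isNoetherian_of_proper (X := C) k
  haveI : π.IsOver (Spec (CommRingCat.of k)) := ⟨hπ⟩
  haveI : Surjective π := ⟨hsurj⟩
  haveI : Smooth (C ↘ Spec (CommRingCat.of k)) :=
    Groth.L26.Weil.smooth_of_regular_closed _ fun x _ => hregC x
  have hd : topologicalKrullDim X = (2 : ℕ) := hdim.trans Nat.cast_ofNat.symm
  have hdC : topologicalKrullDim C = (1 : ℕ) := hdimC.trans Nat.cast_one.symm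
  haveI : C.IsSeparated := ⟨by rw [← terminal.comp_from (C ↘ Spec (CommRingCat.of k))]; infer_instance⟩
  haveI : X.IsSeparated := ⟨by rw [← terminal.comp_from (X ↘ Spec (CommRingCat.of k))]; infer_instance⟩
  haveI : IsClosedImmersion σ := by
    haveI : IsClosedImmersion (σ ≫ π) := by rw [hσ]; infer_instance
    exact IsClosedImmersion.of_comp σ π
  haveI : IsClosedImmersion (C.fromSpecResidueField y) := isClosed_singleton_iff_isClosedImmersion.mp hy
  have hker : (C.fromSpecResidueField y).ker = Scheme.IdealSheafData.vanishingIdeal ⟨{y}, hy⟩ := by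
    rw [Groth.L23.SchKer.ker_eq_vanishingIdeal]
    congr 1
    refine TopologicalSpace.Closeds.ext ?_
    show closure (Set.range (C.fromSpecResidueField y)) = {y}
    rw [Scheme.range_fromSpecResidueField, hy.closure_eq]
  have hkerf : (π.fiberι y).ker = (Scheme.IdealSheafData.vanishingIdeal ⟨{y}, hy⟩).comap π := by
    rw [← hker]
    exact Groth.L17.Thick.ker_of_isPullback (IsPullback.of_hasPullback π (C.fromSpecResidueField y))
  obtain ⟨hIf, hIy, hsupp, ⟨α⟩⟩ := Groth.L03.SurfNum.fibre_ideal k hdimC π hy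
  obtain ⟨hIs, -⟩ := Groth.L03.SurfNum.CurveDegree.invertible_ker k σ hd hreg hdC
  have hσo : σ ≫ (X ↘ Spec (CommRingCat.of k)) = C ↘ Spec (CommRingCat.of k) := by
    rw [← hπ, ← Category.assoc, hσ, Category.id_comp]
  rw [← hkerf]
  refine ⟨?_, ?_⟩
  · have h1 := Groth.L03.SurfNum.CurveDegree.deg_pullback k σ hd hreg hdC hIf
    have heu : Curv2.euler k C (ClSub.idealMod (C.fromSpecResidueField y).ker) -
        Curv2.euler k C (Coh.structureModule C) = -1 := by
      have h2 := Groth.L03.SurfAdj.euler_quotMod k _ hIy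
      have h3 : Curv2.euler k C (ClSub.quotMod (C.fromSpecResidueField y).ker) = 1 := by
        rw [hker]
        exact Groth.L03.BlowPt.ptDeg_eq_one hy k
      omega
    let e : (Scheme.Modules.pullback σ).obj (ClSub.idealMod (π.fiberι y).ker) ≅
        ClSub.idealMod (C.fromSpecResidueField y).ker :=
      (Scheme.Modules.pullback σ).mapIso α.symm ≪≫ (Scheme.Modules.pullbackComp σ π).app _ ≪≫
        (Scheme.Modules.pullbackCongr hσ).app _ ≪≫ (Scheme.Modules.pullbackId C).app _
    have hov : (⟨σ ≫ (X ↘ (Spec (CommRingCat.of k)))⟩ : C.Over (Spec (CommRingCat.of k))) =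
        ‹C.Over (Spec (CommRingCat.of k))› := by
      obtain ⟨g⟩ := ‹C.Over (Spec (CommRingCat.of k))›
      exact congrArg (fun z => (⟨z⟩ : C.Over (Spec (CommRingCat.of k)))) hσo
    rw [hov] at h1
    rw [Curv2.deg, Groth.L03.Euler.euler_iso e, Nat.cast_one, one_mul, heu] at h1
    rw [← intNum_eq_ii k hd.le] at h1
    have h4 : ((FGA.intNum k X 2 ![ClSub.idealMod σ.ker, ClSub.idealMod (π.fiberι y).ker] (Coh.structureModule X) : ℤ) : ℚ) =
        ((1 : ℤ) : ℚ) := by push_cast at h1 ⊢; linarith
    exact_mod_cast h4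
  · obtain ⟨LF, hLF, ⟨e⟩⟩ := Groth.L08.Cube.exists_inverse hIf
    obtain ⟨φ₀⟩ := hfib y hy
    let φ : π.fiber y ≅ CohB1.ProjSpace 1 k := φ₀
    haveI : IsIntegral (CohB1.ProjSpace 1 k) := Groth.L16.ProjSpace.isIntegral 1 k
    haveI : Nonempty (π.fiber y) := ⟨φ.inv (genericPoint (CohB1.ProjSpace 1 k))⟩
    haveI : IsIntegral (π.fiber y) := isIntegral_of_isOpenImmersion φ.hom
    haveI : IsClosedImmersion (π.fiberι y) := inferInstanceAs (IsClosedImmersion (pullback.fst π (C.fromSpecResidueField y)))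
    haveI : Nonempty (π.fiberι y).ker.subscheme := ⟨(π.fiberι y).toImage (genericPoint (π.fiber y))⟩
    haveI : IsIntegral (π.fiberι y).ker.subscheme := isIntegral_of_isOpenImmersion (inv (π.fiberι y).toImage)
    have hdF : topologicalKrullDim ((π.fiberι y).ker.support : Set X) = 1 := by
      rw [dim_support (π.fiberι y).ker, dim_closure_image (π.fiberι y).ker.subschemeι,
        IsHomeomorph.topologicalKrullDim_eq _ (asIso (inv (π.fiberι y).toImage)).hom.homeomorph.isHomeomorph,
        IsHomeomorph.topologicalKrullDim_eq _ φ.hom.homeomorph.isHomeomorph,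
        Groth.L16.ProjSpace.topologicalKrullDim_eq_of_field 1 k, Nat.cast_one]
    have h1 := Groth.L03.SurfNum.fibre_deg_zero k hdimC π hy (LF := LF) ⟨Groth.L00.Tensor.tensorComm _ _ ≪≫ e⟩
      (π.fiberι y).ker hdF hsupp.le
    rw [Groth.L03.SurfNum.altT_quotMod_eq k hLF _ hIf] at h1
    have h2 := Groth.L03.SurfNum.Gram.ii_inverse k hd.le hIf hLF hIf e
    rw [ii_comm k] at h1
    have h4 : ((FGA.intNum k X 2 ![ClSub.idealMod (π.fiberι y).ker, ClSub.idealMod (π.fiberι y).ker] (Coh.structureModule X) : ℤ) : ℚ) =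
        ((0 : ℤ) : ℚ) := by rw [intNum_eq_ii k hd.le]; push_cast; linarith
    exact_mod_cast h4

end Groth.Agent.S12436
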