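import Groth.Statements.S12438
import Groth.Agent.L16.HwFun.Irred

set_option autoImplicit false
universe u
open CategoryTheory MonoidalCategory CartesianMonoidalCategory MonObj GrpObj AlgebraicGeometry
open scoped TensorProduct
open AGF

namespace Groth.Agent.S12438

/-- Let k be an algebraically closed field of characteristic zero, G a connected reductive linear
algebraic group over k, B a Borel subgroup with unipotent radical U, T a maximal torus of G inside
B, and ω, ω′ characters of T. Write E(ω) for the space of global functions f on G with f(x·u) = f(x)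
for u in U and f(x·t) = ω(t)·f(x) for t in T, and assume E(ω) and E(ω′) are nonzero (equivalently ω
and ω′ are dominant). Then the multiplication map E(ω) ⊗ E(ω′) → E(ω + ω′) is surjective: every
function in the weight space of the product character ω·ω′ is a finite sum of products a·b with a ∈
E(ω) and b ∈ E(ω′). -/
theorem result (k : Type u) [Field k] [IsAlgClosed k] [CharZero k]
    (G : Over (Spec (CommRingCat.of k))) [GrpObj G] (hG : Red.IsReductiveOver k G)
    (Bo : Over (Spec (CommRingCat.of k))) [GrpObj Bo] (iB : Bo ⟶ G) (hB : Red.IsBorelOver k iB)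
    (U : Over (Spec (CommRingCat.of k))) [GrpObj U] (u : U ⟶ Bo) (hU : Par.IsUnipotentRadical u)
    (T : Over (Spec (CommRingCat.of k))) [GrpObj T] (t : T ⟶ Bo) [IsMonHom t] (hT : AGF.IsMaxTorus (t ≫ iB))
    (ω ω' : T ⟶ Red.Gm (Spec (CommRingCat.of k))) [IsMonHom ω] [IsMonHom ω']
    (hω : ∃ a : Γ(G.left, ⊤), a ≠ 0 ∧ (((G ◁ (u ≫ iB)) ≫ μ[G]).left.appTop a = (fst G U).left.appTop a ∧
        ((G ◁ (t ≫ iB)) ≫ μ[G]).left.appTop a = (fst G T).left.appTop a * (snd G T).left.appTop (Red.gmFn ω)))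
    (hω' : ∃ b : Γ(G.left, ⊤), b ≠ 0 ∧ (((G ◁ (u ≫ iB)) ≫ μ[G]).left.appTop b = (fst G U).left.appTop b ∧
        ((G ◁ (t ≫ iB)) ≫ μ[G]).left.appTop b = (fst G T).left.appTop b * (snd G T).left.appTop (Red.gmFn ω')))
    (f : Γ(G.left, ⊤)) (hf : (((G ◁ (u ≫ iB)) ≫ μ[G]).left.appTop f = (fst G U).left.appTop f ∧
        ((G ◁ (t ≫ iB)) ≫ μ[G]).left.appTop f = (fst G T).left.appTop f * (snd G T).left.appTop (Red.gmFn ω * Red.gmFn ω'))) :
    ∃ s : Finset (Γ(G.left, ⊤) × Γ(G.left, ⊤)),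
      (∀ p ∈ s, (((G ◁ (u ≫ iB)) ≫ μ[G]).left.appTop p.1 = (fst G U).left.appTop p.1 ∧
        ((G ◁ (t ≫ iB)) ≫ μ[G]).left.appTop p.1 = (fst G T).left.appTop p.1 * (snd G T).left.appTop (Red.gmFn ω)) ∧ (((G ◁ (u ≫ iB)) ≫ μ[G]).left.appTop p.2 = (fst G U).left.appTop p.2 ∧
        ((G ◁ (t ≫ iB)) ≫ μ[G]).left.appTop p.2 = (fst G T).left.appTop p.2 * (snd G T).left.appTop (Red.gmFn ω'))) ∧
      f = ∑ p ∈ s, p.1 * p.2 := by
  classical
  obtain ⟨hGa, hGs, hGc, -⟩ := id hG
  haveI := hGa; haveI := hGs; haveI := hGc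
  haveI := hB.1; haveI := hB.2.1; haveI := hB.2.2.1; haveI := hB.2.2.2.1
  haveI := hU.1; haveI := hU.2.1; haveI := hU.2.2.2.1
  haveI : IsAffine Bo.left := isAffine_of_isAffineHom iB.left
  haveI : IsAffine U.left := isAffine_of_isAffineHom u.left
  obtain ⟨hUc, hUn, hUsol⟩ := Groth.L25.Observable.props_of_unipotentRadical hB.2.2.2.2.1 u hU
  haveI := hUc; haveI := hUsol
  obtain ⟨hTa, hTs, -, -, -⟩ := Groth.L08.Borel.torus_props hT.2.2.1
  haveI := hTa; haveI := hTs
  haveI : IsMonHom (t ≫ iB) := inferInstance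
  -- a splitting with this torus
  have hTmax := Groth.L08.Borel.isMaximalTorus_of_isMaxTorus hT
  have hGr : Red.IsReductive G := Groth.L16.HwFun.reductive_of_over hG
  obtain ⟨n, ⟨eT⟩⟩ := Groth.L08.Borel.exists_laurent_of_torus hT.2.2.1
  obtain ⟨R⟩ := Groth.L14.Splitting.exists_rootData_local hGr (t ≫ iB) hTmax
    (eT ≪≫ (Groth.L25.Bridge.dsIso k (Fin n → ℤ)).symm)
  let D : Red.SplitRed G := R.splitRed (fun _ => trivial) hGr hTmax
  haveI : IsMonHom D.i := inferInstanceAs (IsMonHom (t ≫ iB))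
  obtain ⟨bs, hbs⟩ := Groth.L14.TypeR.exists_base_borel D (Groth.L16.Weights.isBorel_of_isBorelOver hB) t rfl
  haveI : Finite D.idx := Finite.of_fintype _
  obtain ⟨U', _, iU', hU'm, hd, -, ⟨g, -, hg⟩, -⟩ := Groth.L16.HwFun.exists_hw_data D bs hB hU t rfl
    fun a ha => Groth.L16.Weights.posRoots_subset_roots D hB t rfl bs hbs
      ((Groth.L25.ParabolicSet.isPos_iff_mem D.P bs a).1 ha)
  haveI := hU'm
  obtain ⟨A, _, _, ψ, hft, hred, hψm, hψi⟩ := Groth.L25.Observable.exists_chart G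
  haveI := hft; haveI := hred; haveI := hψm; haveI := hψi
  haveI : IsDomain A := Groth.L25.Observable.isDomain ψ
  haveI : IsAffine (G ⊗ U).left := inferInstanceAs (IsAffine (Limits.pullback G.hom U.hom))
  haveI : IsAffine (G ⊗ T).left := inferInstanceAs (IsAffine (Limits.pullback G.hom T.hom))
  haveI : Smooth (G ⊗ U).hom := inferInstanceAs (Smooth (Limits.pullback.fst G.hom U.hom ≫ G.hom))
  haveI : Smooth (G ⊗ T).hom := inferInstanceAs (Smooth (Limits.pullback.fst G.hom T.hom ≫ G.hom))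
  have hR : ∀ {X : Over (Spec (CommRingCat.of k))} (i : X ⟶ G) (z : VecGrp.pt k k ⟶ G ⊗ X),
      z ≫ (G ◁ i) ≫ μ[G] = (z ≫ fst G X) * ((z ≫ snd G X) ≫ i) := fun i z => by
    rw [Hom.mul_def, ← Category.assoc]; congr 1; ext <;> simp
  let E : Γ(T.left, ⊤) → Submodule k A := fun c =>
    Groth.L16.HwFun.ind ψ (t ≫ iB) (u ≫ iB) fun s => Groth.L25.Observable.val s⁻¹ c
  let S : A →ₐ[k] A := HopfAlgebra.antipodeAlgHom k A
  -- from functions to the module
  have toE : ∀ (c : Γ(T.left, ⊤)) (f : Γ(G.left, ⊤)),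
      ((G ◁ (u ≫ iB)) ≫ μ[G]).left.appTop f = (fst G U).left.appTop f →
      ((G ◁ (t ≫ iB)) ≫ μ[G]).left.appTop f = (fst G T).left.appTop f * (snd G T).left.appTop c →
      ∃ φ ∈ E c, Groth.L25.Observable.fn ψ (S φ) = f := by
    intro c f h1 h2
    obtain ⟨a, rfl⟩ := Groth.L25.Observable.fn_surjective ψ f
    have hSS : S (S a) = a := Groth.L25.Observable.eq_of_forall_ev ψ fun x => by
      rw [← Groth.L25.Observable.ev_inv, ← Groth.L25.Observable.ev_inv, _root_.inv_inv]
    refine ⟨S a, ⟨fun y x => ?_, fun s x => ?_⟩, by rw [hSS]⟩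
    · have h := congrArg (Groth.L25.Observable.val (lift x⁻¹ y⁻¹)) h1
      rw [← Groth.L25.Observable.val_comp, ← Groth.L25.Observable.val_comp, hR, lift_fst, lift_snd,
        Groth.L25.Observable.val_fn, Groth.L25.Observable.val_fn] at h
      rw [← Groth.L25.Observable.ev_inv, ← Groth.L25.Observable.ev_inv, _root_.mul_inv_rev, ← GrpObj.inv_comp, h]
    · have h := congrArg (Groth.L25.Observable.val (lift x⁻¹ s⁻¹)) h2
      rw [Groth.L25.Observable.val_mul, ← Groth.L25.Observable.val_comp, ← Groth.L25.Observable.val_comp,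
        ← Groth.L25.Observable.val_comp, hR, lift_fst, lift_snd,
        Groth.L25.Observable.val_fn, Groth.L25.Observable.val_fn] at h
      rw [← Groth.L25.Observable.ev_inv, ← Groth.L25.Observable.ev_inv, _root_.mul_inv_rev, ← GrpObj.inv_comp, h,
        mul_comm]
  -- and back
  have ofE : ∀ (c : Γ(T.left, ⊤)), ∀ φ ∈ E c,
      ((G ◁ (u ≫ iB)) ≫ μ[G]).left.appTop (Groth.L25.Observable.fn ψ (S φ)) =
        (fst G U).left.appTop (Groth.L25.Observable.fn ψ (S φ)) ∧
      ((G ◁ (t ≫ iB)) ≫ μ[G]).left.appTop (Groth.L25.Observable.fn ψ (S φ)) =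
        (fst G T).left.appTop (Groth.L25.Observable.fn ψ (S φ)) * (snd G T).left.appTop c := by
    intro c φ hφ
    constructor <;> refine Groth.L25.Observable.eq_of_forall_val fun z => ?_
    · rw [← Groth.L25.Observable.val_comp, ← Groth.L25.Observable.val_comp, hR,
        Groth.L25.Observable.val_fn, Groth.L25.Observable.val_fn, ← Groth.L25.Observable.ev_inv,
        ← Groth.L25.Observable.ev_inv, _root_.mul_inv_rev, ← GrpObj.inv_comp, hφ.1]
    · rw [Groth.L25.Observable.val_mul, ← Groth.L25.Observable.val_comp, ← Groth.L25.Observable.val_comp,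
        ← Groth.L25.Observable.val_comp, hR,
        Groth.L25.Observable.val_fn, Groth.L25.Observable.val_fn, ← Groth.L25.Observable.ev_inv,
        ← Groth.L25.Observable.ev_inv, _root_.mul_inv_rev, ← GrpObj.inv_comp, hφ.2]
      simp only [_root_.inv_inv]
      exact mul_comm _ _
  obtain ⟨a, ha0, ha⟩ := hω
  obtain ⟨b, hb0, hb⟩ := hω'
  obtain ⟨α, hα, hαa⟩ := toE _ _ ha.1 ha.2
  obtain ⟨β, hβ, hβb⟩ := toE _ _ hb.1 hb.2
  obtain ⟨φ, hφ, hφf⟩ := toE _ _ hf.1 hf.2
  let P : Submodule k A := Submodule.span k {x | ∃ p ∈ E (Red.gmFn ω), ∃ q ∈ E (Red.gmFn ω'), p * q = x}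
  have hPE : P ≤ E (Red.gmFn ω * Red.gmFn ω') := Submodule.span_le.2 fun x ⟨p, hp, q, hq, e⟩ => by
    subst e
    have h := Groth.L16.HwFun.mul_mem_ind ψ (t ≫ iB) (u ≫ iB) hp hq
    exact ⟨h.1, fun s x => (h.2 s x).trans (by simp only [Groth.L25.Observable.val_mul])⟩
  have hPst : ∀ g, ∀ x ∈ P, Groth.L25.Observable.Rt (Groth.L25.Observable.ev ψ g).ofConv x ∈ P := by
    intro g x hx
    induction hx using Submodule.span_induction with
    | mem y hy =>
      obtain ⟨p, hp, q, hq, rfl⟩ := hy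
      exact Submodule.subset_span ⟨_, Groth.L16.HwFun.Rt_mem_ind ψ _ _ hp g, _,
        Groth.L16.HwFun.Rt_mem_ind ψ _ _ hq g, (map_mul _ _ _).symm⟩
    | zero => rw [map_zero]; exact zero_mem _
    | add _ _ _ _ hy hz => rw [map_add]; exact add_mem hy hz
    | smul c _ _ hy => rw [map_smul]; exact P.smul_mem c hy
  have hz : ∀ {x : A} {y : Γ(G.left, ⊤)}, Groth.L25.Observable.fn ψ (S x) = y → y ≠ 0 → x ≠ 0 := by
    intro x y h hy hx
    refine hy ?_
    rw [← h, hx, map_zero, ← Groth.L25.Observable.fnHom_apply, map_zero]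
  have hP0 : P ≠ ⊥ := (Submodule.ne_bot_iff _).2
    ⟨α * β, Submodule.subset_span ⟨α, hα, β, hβ, rfl⟩, mul_ne_zero (hz hαa ha0) (hz hβb hb0)⟩
  have hmem : φ ∈ P := Groth.L16.HwFun.le_of_stable ψ (t ≫ iB) (u ≫ iB) hG hUn hd hg P hPE hPst hP0 hφ
  obtain ⟨F, hF, hsum⟩ : ∃ F : A →₀ A, (∀ q, F q ∈ E (Red.gmFn ω) ∧ (F q ≠ 0 → q ∈ E (Red.gmFn ω'))) ∧
      φ = F.sum fun q p => p * q := by
    clear hφf hφ
    induction hmem using Submodule.span_induction with
    | mem x hx =>
      obtain ⟨p, hp, q, hq, rfl⟩ := hx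
      refine ⟨Finsupp.single q p, fun r => ?_, by rw [Finsupp.sum_single_index (zero_mul q)]⟩
      rw [Finsupp.single_apply]
      split
      · next h => exact ⟨hp, fun _ => h ▸ hq⟩
      · exact ⟨zero_mem _, fun h => absurd rfl h⟩
    | zero => exact ⟨0, fun r => ⟨zero_mem _, fun h => absurd rfl h⟩, Finsupp.sum_zero_index.symm⟩
    | add x y _ _ hx hy =>
      obtain ⟨F, hF, rfl⟩ := hx
      obtain ⟨F', hF', rfl⟩ := hy
      refine ⟨F + F', fun r => ⟨add_mem (hF r).1 (hF' r).1, fun h => ?_⟩,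
        (Finsupp.sum_add_index' (fun q => zero_mul q) (fun q p p' => add_mul p p' q)).symm⟩
      by_cases h1 : F r = 0
      · exact (hF' r).2 fun h2 => h (by rw [Finsupp.add_apply, h1, h2, add_zero])
      · exact (hF r).2 h1
    | smul c x _ hx =>
      obtain ⟨F, hF, rfl⟩ := hx
      refine ⟨c • F, fun r => ⟨Submodule.smul_mem _ c (hF r).1, fun h => (hF r).2 fun h1 => h (by
        rw [Finsupp.smul_apply, h1, smul_zero])⟩, ?_⟩
      rw [Finsupp.sum_smul_index' (fun q => zero_mul q), Finsupp.smul_sum]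
      exact Finsupp.sum_congr fun q _ => (smul_mul_assoc c (F q) q).symm
  have hinj : ∀ x y : A, Groth.L25.Observable.fn ψ (S x) = Groth.L25.Observable.fn ψ (S y) → x = y := fun x y h =>
    Groth.L25.Observable.eq_of_forall_ev ψ fun z => by
      have h' := congrArg (Groth.L25.Observable.val z⁻¹) h
      rwa [Groth.L25.Observable.val_fn, Groth.L25.Observable.val_fn, ← Groth.L25.Observable.ev_inv,
        ← Groth.L25.Observable.ev_inv, _root_.inv_inv] at h'
  refine ⟨F.support.image fun q => (Groth.L25.Observable.fn ψ (S (F q)), Groth.L25.Observable.fn ψ (S q)),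
    fun p hp => ?_, ?_⟩
  · obtain ⟨q, hq, rfl⟩ := Finset.mem_image.1 hp
    exact ⟨ofE _ _ (hF q).1, ofE _ _ ((hF q).2 (Finsupp.mem_support_iff.1 hq))⟩
  · rw [Finset.sum_image fun q _ q' _ h => hinj q q' (congrArg Prod.snd h), ← hφf, hsum, Finsupp.sum, map_sum,
      ← Groth.L25.Observable.fnHom_apply, map_sum]
    exact Finset.sum_congr rfl fun q _ => by rw [map_mul, map_mul]; rfl
end Groth.Agent.S12438
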