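import Groth.Statements.S12439
import Groth.Agent.L28.ChainNN.Basic

set_option autoImplicit false
universe u
open Variety

namespace Groth.Agent.S12439

/-- Let k be a field, A an integral domain which is a finitely generated k-algebra of Krull dimension d,
and q_{h(1)} ⊊ … ⊊ q_{h(r)} a chain of prime ideals with dim A/q_{h(i)} = d − h(i), where 0 ≤ h(i) ≤
d. Then (1) there is a finite injective k-algebra homomorphism φ : k[T_1, …, T_d] → A with
φ⁻¹(q_{h(i)}) = (T_1, …, T_{h(i)}) for every i (variables indexed from 0 below: the ideal generated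
by the T_l with l < h(i)); and (2) for every such φ the given chain extends to a chain of primes q_0
⊊ … ⊊ q_d of A with φ⁻¹(q_j) = (T_1, …, T_j) for all j ≤ d. -/
theorem result (k A : Type u) [Field k]
    [CommRing A] [IsDomain A] [Algebra k A] [Algebra.FiniteType k A] (d : ℕ) (hd : ringKrullDim A = (d : WithBot ℕ∞))
    (r : ℕ) (q : Fin r → PrimeSpectrum A) (hq : StrictMono q) (h : Fin r → ℕ) (hh : ∀ i, h i ≤ d)
    (hdim : ∀ i, ringKrullDim (A ⧸ (q i).asIdeal) = ((d - h i : ℕ) : WithBot ℕ∞)) :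
    (∃ φ : MvPolynomial (Fin d) k →ₐ[k] A, φ.toRingHom.Finite ∧ Function.Injective φ ∧
      ∀ i, (q i).asIdeal.comap φ = Ideal.span (MvPolynomial.X '' {l : Fin d | (l : ℕ) < h i})) ∧
    (∀ φ : MvPolynomial (Fin d) k →ₐ[k] A, φ.toRingHom.Finite → Function.Injective φ →
      (∀ i, (q i).asIdeal.comap φ = Ideal.span (MvPolynomial.X '' {l : Fin d | (l : ℕ) < h i})) →
      ∃ Q : ℕ → PrimeSpectrum A,
        (∀ j, j ≤ d → (Q j).asIdeal.comap φ = Ideal.span (MvPolynomial.X '' {l : Fin d | (l : ℕ) < j})) ∧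
        (∀ j, j < d → Q j < Q (j + 1)) ∧ (∀ i, Q (h i) = q i)) := by
  classical
  refine ⟨?_, fun φ hfin hinj hqh => ?_⟩
  · obtain ⟨d', g, hginj, hgfin, hd', -⟩ := Groth.L22.AffineDim.exists_normalization k A
    obtain rfl : d' = d := by
      rw [hd] at hd'
      exact_mod_cast hd'.symm
    haveI : ∀ i, ((q i).asIdeal.comap g).IsPrime := fun i => Ideal.comap_isPrime _ _
    obtain ⟨φ₀, hφ₀, hφq⟩ := Groth.L28.ChainNN.exists_coord_chain d' r
      (fun i => (q i).asIdeal.comap g) this
      (fun i j hij => Ideal.comap_mono (hq.monotone hij))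
    have hint : (g.comp φ₀).toRingHom.IsIntegral :=
      RingHom.IsIntegral.trans _ _ hφ₀ hgfin.to_isIntegral
    have hinj' : Function.Injective (g.comp φ₀) :=
      hginj.comp (Groth.L28.ChainNN.injective_of_isIntegral _ hφ₀)
    refine ⟨g.comp φ₀, hint.to_finite ?_, hinj', fun i => ?_⟩
    · have : RingHom.FiniteType (algebraMap k A) := RingHom.finiteType_algebraMap.mpr inferInstance
      rw [← show (g.comp φ₀).toRingHom.comp (algebraMap k _) = algebraMap k _ from
        (g.comp φ₀).comp_algebraMap] at this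
      exact this.of_comp_finiteType
    obtain ⟨t, ht, htq⟩ := hφq i
    have hc : (q i).asIdeal.comap (g.comp φ₀) = Groth.L28.ChainNN.lin k d' t := by
      rw [← htq]
      exact (Ideal.comap_comap _ _).symm
    suffices hti : t = h i by rw [← hti]; exact hc
    letI := (g.comp φ₀).toRingHom.toAlgebra
    haveI : Algebra.IsIntegral (MvPolynomial (Fin d') k) A := ⟨hint⟩
    haveI : (q i).asIdeal.IsPrime := (q i).2
    haveI : Algebra.IsIntegral (MvPolynomial (Fin d') k ⧸
        (q i).asIdeal.comap (algebraMap (MvPolynomial (Fin d') k) A)) (A ⧸ (q i).asIdeal) := inferInstance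
    have hdeq : ringKrullDim (A ⧸ (q i).asIdeal) =
        ringKrullDim (MvPolynomial (Fin d') k ⧸ (q i).asIdeal.comap (algebraMap (MvPolynomial (Fin d') k) A)) :=
      Groth.L22.AffineDim.ringKrullDim_eq_of_isIntegral Ideal.algebraMap_quotient_injective
    have e : (q i).asIdeal.comap (algebraMap (MvPolynomial (Fin d') k) A) =
        Groth.L28.ChainNN.lin k d' t := hc
    rw [hdim i, ringKrullDim_eq_of_ringEquiv (Ideal.quotEquivOfEq e),
      Groth.L28.ChainNN.ringKrullDim_quotient_lin ht] at hdeq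
    have h2 : d' - h i = d' - t := by exact_mod_cast hdeq
    have := hh i
    omega
  · obtain ⟨Q, hQc, hQle, hQq, -⟩ := Groth.L28.ChainNN.exists_chain φ hfin.to_isIntegral hinj q hq h hh hqh d 0
      (zero_add d)
    refine ⟨Q, fun j hj => hQc j (Nat.zero_le j) hj, fun j hj => ?_, fun i => hQq i (Nat.zero_le _)⟩
    refine lt_of_le_of_ne (hQle j (Nat.zero_le j) hj) fun he => ?_
    have h1 := hQc j (Nat.zero_le j) hj.le
    rw [he, hQc (j + 1) (Nat.zero_le _) hj] at h1
    exact (Nat.lt_succ_self j).not_ge (Groth.L28.ChainNN.le_of_lin_le hj h1.le)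

end Groth.Agent.S12439
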