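import Groth.Statements.S1244
import Mathlib.AlgebraicGeometry.ZariskisMainTheorem
import Mathlib.RingTheory.Jacobson.Ideal

set_option autoImplicit false
universe u
open FlatMor

namespace Groth.Agent.S1244

open AlgebraicGeometry CategoryTheory in
/-- Let A be the limit of an inverse system of rings (A_n) indexed by the natural numbers whose
transition maps are surjective with locally nilpotent kernels. Let T → Spec A be a monomorphism of
schemes which is locally of finite type. If each Spec A_n → Spec A factors through T, then T → Spec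
A is an isomorphism. -/
theorem result {A : Type u} [CommRing A] (A' : ℕ → Type u) [∀ n, CommRing (A' n)]
    (φ : ∀ n, A' (n + 1) →+* A' n) (π : ∀ n, A →+* A' n) (hlim : FlatCA.IsRingLimit A A' φ π)
    (hsurj : ∀ n, Function.Surjective (φ n)) (hnil : ∀ n, ∀ x ∈ RingHom.ker (φ n), IsNilpotent x)
    {T : Scheme.{u}} (h : T ⟶ Spec (CommRingCat.of A)) [Mono h] [LocallyOfFiniteType h]
    (hsec : ∀ n, ∃ g : Spec (CommRingCat.of (A' n)) ⟶ T, g ≫ h = Spec.map (CommRingCat.ofHom (π n))) :
    IsIso h := by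
  obtain ⟨hφπ, hext, hglue⟩ := hlim
  choose g hg using hsec
  let K := fun n => Spec.map (CommRingCat.ofHom (φ n))
  have hgK : ∀ n, K n ≫ g (n + 1) = g n := fun n => by
    rw [← cancel_mono h, Category.assoc, hg, hg, ← Spec.map_comp, ← CommRingCat.ofHom_comp, hφπ]
  obtain ⟨O, hgO, hOc⟩ : ∃ O : T.Opens, Set.range (g 0) ⊆ O ∧ IsCompact (O : Set T) := by
    choose W hW hxW _h using fun x : T => exists_isAffineOpen_mem_and_subset (x := x) (U := ⊤) trivial
    obtain ⟨P, hP⟩ := (isCompact_range (g 0).continuous).elim_finite_subcover (fun x => (W x : Set T))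
      (fun x => (W x).isOpen) (fun x _ => Set.mem_iUnion.2 ⟨x, hxW x⟩)
    refine ⟨⨆ x ∈ P, W x, fun y hy => ?_, ?_⟩
    · obtain ⟨x, hx, hyx⟩ := Set.mem_iUnion₂.1 (hP hy)
      exact TopologicalSpace.Opens.mem_iSup.2 ⟨x, TopologicalSpace.Opens.mem_iSup.2 ⟨hx, hyx⟩⟩
    · simp only [TopologicalSpace.Opens.iSup_mk, TopologicalSpace.Opens.carrier_eq_coe, TopologicalSpace.Opens.coe_iSup]
      exact P.isCompact_biUnion fun x _ => (hW x).isCompact
  have hK : ∀ n, Function.Surjective (K n) := fun n => by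
    intro p
    have hp : RingHom.ker (φ n) ≤ (PrimeSpectrum.asIdeal p) := fun x hx => by
      obtain ⟨k, hk⟩ := hnil n x hx
      exact (PrimeSpectrum.isPrime p).mem_of_pow_mem k (hk ▸ Ideal.zero_mem _)
    have : p ∈ Set.range (PrimeSpectrum.comap (φ n)) := by
      rw [range_comap_of_surjective _ _ (hsurj n)]
      exact (PrimeSpectrum.mem_zeroLocus _ _).2 hp
    exact this
  have hgn : ∀ n, Set.range (g n) ⊆ Set.range O.ι := by
    intro n
    rw [Scheme.Opens.range_ι]
    induction n with
    | zero => exact hgO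
    | succ n ih =>
      rintro _ ⟨p, rfl⟩
      obtain ⟨q, rfl⟩ := hK n p
      rw [← Scheme.Hom.comp_apply, hgK]
      exact ih ⟨q, rfl⟩
  haveI : CompactSpace O.toScheme := isCompact_iff_compactSpace.mp hOc
  let h₀ := O.ι ≫ h
  haveI : Mono h₀ := mono_comp _ _
  haveI : QuasiCompact h₀ := (quasiCompact_iff_compactSpace (f := h₀)).mpr inferInstance
  haveI : IsSeparated h₀ := inferInstance
  haveI : LocallyQuasiFinite h₀ := inferInstance
  haveI : IsAffine h₀.normalization := isAffine_of_isAffineHom h₀.fromNormalization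
  let N := h₀.normalization
  let j := h₀.toNormalization
  haveI : IsOpenImmersion j := inferInstance
  let l := fun n => IsOpenImmersion.lift O.ι (g n) (hgn n)
  have hlK : ∀ n, K n ≫ l (n + 1) = l n := fun n => by
    rw [← cancel_mono O.ι, Category.assoc, IsOpenImmersion.lift_fac, IsOpenImmersion.lift_fac, hgK]
  let v := fun n => l n ≫ j ≫ N.isoSpec.hom
  let β := fun n => Spec.preimage (v n)
  have hβ : ∀ n, β (n + 1) ≫ CommRingCat.ofHom (φ n) = β n := fun n => by
    refine Spec.map_injective ?_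
    rw [Spec.map_comp, Spec.map_preimage, Spec.map_preimage]
    exact (Category.assoc _ _ _).symm.trans (congrArg (· ≫ j ≫ N.isoSpec.hom) (hlK n))
  choose σf hσf using fun b : Γ(N, ⊤) => hglue (fun n => (β n).hom b) (fun n => congr($(hβ n) b))
  let σ : Γ(N, ⊤) →+* A :=
    { toFun := σf
      map_one' := hext _ _ fun n => by rw [hσf, map_one, map_one]
      map_mul' := fun x y => hext _ _ fun n => by simp only [hσf, map_mul]
      map_zero' := hext _ _ fun n => by rw [hσf, map_zero, map_zero]
      map_add' := fun x y => hext _ _ fun n => by simp only [hσf, map_add] }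
  let s₁ : Spec (CommRingCat.of A) ⟶ N := Spec.map (CommRingCat.ofHom σ) ≫ N.isoSpec.inv
  have hs₁ : ∀ n, Spec.map (CommRingCat.ofHom (π n)) ≫ s₁ = l n ≫ j := fun n => by
    rw [← cancel_mono N.isoSpec.hom]
    simp only [s₁, Category.assoc, Iso.inv_hom_id, Category.comp_id]
    rw [← Spec.map_comp, ← Spec.map_preimage (l n ≫ j ≫ N.isoSpec.hom)]
    congr 1
    ext b
    exact hσf b n
  have hid : s₁ ≫ h₀.fromNormalization = 𝟙 _ := by
    obtain ⟨ψ, hψ⟩ : ∃ ψ, Spec.map ψ = s₁ ≫ h₀.fromNormalization := ⟨_, Spec.map_preimage _⟩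
    rw [← hψ, ← Spec.map_id]
    congr 1
    ext a
    refine hext _ _ fun n => ?_
    have e : Spec.map (ψ ≫ CommRingCat.ofHom (π n)) = Spec.map (CommRingCat.ofHom (π n)) := by
      rw [Spec.map_comp, hψ, reassoc_of% (hs₁ n), h₀.toNormalization_fromNormalization,
        IsOpenImmersion.lift_fac_assoc, hg]
    exact congr($(Spec.map_injective e) a)
  have hrad : RingHom.ker (π 0) ≤ (⊥ : Ideal A).jacobson := by
    intro x hx
    rw [Ideal.mem_jacobson_bot]
    intro y
    have hu : ∀ n, IsUnit (π n (x * y + 1)) := by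
      intro n
      induction n with
      | zero => rw [map_add, map_mul, (RingHom.mem_ker).1 hx, zero_mul, zero_add, map_one]; exact isUnit_one
      | succ n ih =>
        obtain ⟨c, hc⟩ := hsurj n (↑ih.unit⁻¹)
        have hk : π (n + 1) (x * y + 1) * c - 1 ∈ RingHom.ker (φ n) := by
          rw [RingHom.mem_ker, map_sub, map_mul, map_one, hc, ← RingHom.comp_apply (φ n), hφπ, IsUnit.mul_val_inv,
            sub_self]
        have := (hnil n _ hk).isUnit_one_add
        rw [add_sub_cancel] at this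
        exact isUnit_of_mul_isUnit_left this
    obtain ⟨z, hz⟩ := hglue (fun n => (↑(hu n).unit⁻¹ : A' n)) (fun n => (hu n).mul_right_cancel (by
        rw [IsUnit.val_inv_mul]
        conv_lhs => arg 2; rw [← hφπ n, RingHom.comp_apply]
        rw [← map_mul, IsUnit.val_inv_mul, map_one]))
    refine IsUnit.of_mul_eq_one z (hext _ _ fun n => ?_)
    rw [map_mul, hz, map_one, IsUnit.mul_val_inv]
  have hr : Set.range s₁ ⊆ Set.range j := by
    rintro _ ⟨p, rfl⟩
    obtain ⟨m, hm, hpm⟩ := Ideal.exists_le_maximal _ (PrimeSpectrum.isPrime p).ne_top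
    let q : Spec (CommRingCat.of A) := (⟨m, hm.isPrime⟩ : PrimeSpectrum A)
    have hqp : p ⤳ q := (PrimeSpectrum.le_iff_specializes p q).1 hpm
    have hq : q ∈ Set.range (PrimeSpectrum.comap (π 0)) := by
      rw [range_comap_of_surjective _ _ (fun y => ?_)]
      · exact (PrimeSpectrum.mem_zeroLocus _ _).2 fun x hx => (Ideal.mem_sInf.1 (hrad hx)) ⟨bot_le, hm⟩
      · have hs : ∀ n, ∀ z : A' n, ∃ z' : A' (n + 1), φ n z' = z := hsurj
        choose nx hnx using hs
        let sq : ∀ n, A' n := fun n => Nat.rec y (fun k zk => nx k zk) n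
        obtain ⟨a, ha⟩ := hglue sq (fun n => hnx n _)
        exact ⟨a, ha 0⟩
    obtain ⟨q₀, hq₀⟩ := hq
    exact (hqp.map s₁.continuous).mem_open j.opensRange.isOpen
      (by
        rw [show s₁ q = s₁ (Spec.map (CommRingCat.ofHom (π 0)) q₀) from congrArg s₁ hq₀.symm,
          ← Scheme.Hom.comp_apply, hs₁, Scheme.Hom.comp_apply]
        exact ⟨_, rfl⟩)
  let s := IsOpenImmersion.lift j s₁ hr ≫ O.ι
  have hs : s ≫ h = 𝟙 _ := by
    rw [← hid, ← IsOpenImmersion.lift_fac j s₁ hr, Category.assoc, Category.assoc,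
      h₀.toNormalization_fromNormalization]
  exact ⟨s, by rw [← cancel_mono h, Category.assoc, hs, Category.comp_id, Category.id_comp], hs⟩

end Groth.Agent.S1244
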