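import Groth.Statements.S12443
import Mathlib.CategoryTheory.Adjunction.FullyFaithful
-- import your own Groth.Agent.* helpers here

set_option autoImplicit false
universe u
open CategoryTheory TopologicalSpace
open ShSp

set_option backward.isDefEq.respectTransparency false
set_option linter.style.haveILetI false

namespace Groth.Agent.S12443

theorem fullyFaithful {U X : TopCat.{u}} (j : U ⟶ X) (hj : Topology.IsOpenEmbedding j) :
    (TopCat.Sheaf.pushforward (Type u) j).Full ∧ (TopCat.Sheaf.pushforward (Type u) j).Faithful := by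
  have e : ∀ V : (TopologicalSpace.Opens U)ᵒᵖ, V = (TopologicalSpace.Opens.map j).op.obj (hj.isOpenMap.functor.op.obj V) :=
    fun V => congrArg Opposite.op (TopologicalSpace.Opens.map_functor_eq' j hj V.unop).symm
  refine ⟨⟨fun {A B} φ => ⟨⟨⟨fun V =>
    A.obj.map (eqToHom (e V)) ≫ φ.hom.app (hj.isOpenMap.functor.op.obj V) ≫ B.obj.map (eqToHom (e V).symm),
    fun V W f => ?_⟩⟩, ?_⟩⟩, ⟨fun {A B} a b h => ?_⟩⟩
  · have h := φ.hom.naturality (hj.isOpenMap.functor.op.map f)
    change A.obj.map ((TopologicalSpace.Opens.map j).op.map (hj.isOpenMap.functor.op.map f)) ≫ _ =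
      _ ≫ B.obj.map ((TopologicalSpace.Opens.map j).op.map (hj.isOpenMap.functor.op.map f)) at h
    simp only [Category.assoc]
    rw [← Functor.map_comp_assoc, show f ≫ eqToHom (e W) = eqToHom (e V) ≫
        (TopologicalSpace.Opens.map j).op.map (hj.isOpenMap.functor.op.map f) from Subsingleton.elim _ _,
      Functor.map_comp_assoc]
    refine (congrArg (A.obj.map (eqToHom (e V)) ≫ ·) ((Category.assoc _ _ _).symm.trans
      ((congrArg (· ≫ B.obj.map (eqToHom (e W).symm)) h).trans (Category.assoc _ _ _)))).trans ?_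
    rw [← Functor.map_comp, ← Functor.map_comp]
    exact congrArg (fun k => A.obj.map (eqToHom (e V)) ≫ φ.hom.app (hj.isOpenMap.functor.op.obj V) ≫ B.obj.map k) (Subsingleton.elim _ _)
  · refine Sheaf.hom_ext (NatTrans.ext (funext fun W => ?_))
    obtain ⟨W⟩ := W
    let W' := hj.isOpenMap.functor.obj ((TopologicalSpace.Opens.map j).obj W)
    have hle : W' ≤ W := by
      rintro _ ⟨x, hx, rfl⟩
      exact hx
    have h := φ.hom.naturality (homOfLE hle).op
    change A.obj.map ((TopologicalSpace.Opens.map j).op.map (homOfLE hle).op) ≫ _ =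
      _ ≫ B.obj.map ((TopologicalSpace.Opens.map j).op.map (homOfLE hle).op) at h
    change A.obj.map (eqToHom (e _)) ≫ φ.hom.app (Opposite.op W') ≫ B.obj.map (eqToHom (e _).symm) = φ.hom.app (Opposite.op W)
    rw [show eqToHom (e (Opposite.op ((TopologicalSpace.Opens.map j).obj W))) =
      (TopologicalSpace.Opens.map j).op.map (homOfLE hle).op from Subsingleton.elim _ _]
    refine (Category.assoc _ _ _).symm.trans ((congrArg (· ≫ _) h).trans ?_)
    refine (Category.assoc _ _ _).trans ?_
    rw [← Functor.map_comp]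
    exact (congrArg (fun k => φ.hom.app (Opposite.op W) ≫ B.obj.map k) (Subsingleton.elim _ (𝟙 _))).trans
      ((congrArg (φ.hom.app (Opposite.op W) ≫ ·) (B.obj.map_id _)).trans (Category.comp_id _))
  · refine Sheaf.hom_ext (NatTrans.ext (funext fun V => ?_))
    have h' := congrArg (fun (k : (TopCat.Sheaf.pushforward (Type u) j).obj A ⟶ (TopCat.Sheaf.pushforward (Type u) j).obj B) =>
      k.hom.app (hj.isOpenMap.functor.op.obj V)) h
    change a.hom.app _ = b.hom.app _ at h'
    rw [← cancel_mono (B.obj.map (eqToHom (e V))), ← a.hom.naturality, ← b.hom.naturality]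
    exact congrArg (A.obj.map (eqToHom (e V)) ≫ ·) h'

/-- Let j : U → X be the inclusion of an open subset (an open embedding) and F a sheaf of sets on U.
Then the counit j⁻¹ j_* F → F is an isomorphism, i.e. j⁻¹ j_* is the identity on sheaves on U. -/
theorem result {U X : TopCat.{u}} (j : U ⟶ X) (hj : Topology.IsOpenEmbedding j)
    (F : U.Sheaf (Type u)) :
    IsIso ((TopCat.Sheaf.pullbackPushforwardAdjunction (Type u) j).counit.app F) := by
  haveI := (fullyFaithful j hj).1
  haveI := (fullyFaithful j hj).2
  infer_instance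

end Groth.Agent.S12443
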