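import Groth.Agent.L18.CatenarySpace
import Groth.Agent.S12444
import Groth.Statements.S12445
-- import your own Groth.Agent.* helpers here

set_option autoImplicit false
universe u
open CategoryTheory AlgebraicGeometry
open Props

namespace Groth.Agent.S12445

/-- (1) ⇔ (3) ⇔ (4): for a scheme S, the underlying topological space of S is catenary if and only if
the coordinate ring of every affine open of S is a catenary ring, if and only if S is covered by
affine opens with catenary coordinate rings. (Clause (2), openness of catenarity, and the final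
assertion on locally closed subschemes are the topological statement for open coverings and locally
closed subspaces.) -/
theorem result (S : Scheme.{u}) :
    (PtTop.IsCatenarySpace S ↔ ∀ U : S.affineOpens, CAlg.IsCatenary Γ(S, U)) ∧
    (PtTop.IsCatenarySpace S ↔
      ∀ s : S, ∃ U : S.affineOpens, s ∈ (U : S.Opens) ∧ CAlg.IsCatenary Γ(S, U)) := by
  have hU : ∀ U : S.affineOpens, CAlg.IsCatenary Γ(S, U) ↔ PtTop.IsCatenarySpace ↥(U : S.Opens) :=
    fun U => Groth.L18.Cat.isCatenary_affineOpen_iff S U U.2
  have h := Groth.Agent.S12444.result ↥S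
  have all : PtTop.IsCatenarySpace S → ∀ U : S.affineOpens, CAlg.IsCatenary Γ(S, U) := fun hS U =>
    (hU U).mpr (h.2 hS ((U : S.Opens) : Set S) (U : S.Opens).2.isLocallyClosed)
  have some' : (∀ s : S, ∃ U : S.affineOpens, s ∈ (U : S.Opens) ∧ CAlg.IsCatenary Γ(S, U)) →
      PtTop.IsCatenarySpace S := fun hc =>
    h.1.mpr fun s => by
      obtain ⟨U, hs, hc⟩ := hc s
      exact ⟨(U : S.Opens), hs, (hU U).mp hc⟩
  have pick : ∀ s : S, ∃ U : S.affineOpens, s ∈ (U : S.Opens) := fun s => by
    obtain ⟨U, hU', hs, -⟩ := exists_isAffineOpen_mem_and_subset (U := ⊤) (x := s) trivial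
    exact ⟨⟨U, hU'⟩, hs⟩
  refine ⟨⟨all, fun hc => some' fun s => ?_⟩, ⟨fun hS s => ?_, some'⟩⟩
  · obtain ⟨U, hs⟩ := pick s
    exact ⟨U, hs, hc U⟩
  · obtain ⟨U, hs⟩ := pick s
    exact ⟨U, hs, all hS U⟩

end Groth.Agent.S12445
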