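import Groth.Statements.S1245
import Groth.Agent.L20.RG.Impurity

set_option autoImplicit false
set_option linter.style.haveILetI false
set_option backward.isDefEq.respectTransparency.types false
universe u
open FlatMor

set_option backward.isDefEq.respectTransparency.types false
namespace Groth.Agent.S1245

/-- Ring form, X = Spec B affine, base change rings affine: let B be a finite type A-algebra, N a finite
B-module and p a prime of A. If there is an impurity of N above p, then there is one whose base
change A → A' is of finite presentation and whose point t is a closed point of the fibre of Spec A'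
over p (the extension of t to the fibre ring is maximal). -/
theorem result {A B : Type u} [CommRing A] [CommRing B] [Algebra A B] [Algebra.FiniteType A B]
    (N : Type u) [AddCommGroup N] [Module B N] [Module.Finite B N] (p : Ideal A) [p.IsPrime]
    (h : FlatCA.HasImpurity A B N p (fun _ _ _ _ => True)) :
    FlatCA.HasImpurity A B N p (fun A' _ _ t => Algebra.FinitePresentation A A' ∧ (FlatCA.fiberIdeal p t).IsMaximal) := by
  classical
  obtain ⟨A₁, _, _, t', t, _, _, n, s, a, b, hw, hle, hp, hs, ha, -⟩ := Groth.L20.RG.exists_wit h
  let A₂ := MvPolynomial (Option (Fin n)) A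
  let φ : A₂ →ₐ[A] A₁ := MvPolynomial.aeval fun o => o.elim s a
  letI : Algebra A₂ A₁ := φ.toRingHom.toAlgebra
  haveI : IsScalarTower A A₂ A₁ := IsScalarTower.of_algebraMap_eq' φ.comp_algebraMap.symm
  have hφ : ∀ o, algebraMap A₂ A₁ (MvPolynomial.X o) = o.elim s a := fun o => MvPolynomial.aeval_X _ _
  rw [show s = algebraMap A₂ A₁ (MvPolynomial.X none) from (hφ none).symm,
    show a = fun k => algebraMap A₂ A₁ (MvPolynomial.X (some k)) from funext fun k => (hφ (some k)).symm] at hw
  have hs₂ : MvPolynomial.X none ∉ t.under A₂ := by
    rw [Ideal.under_def, Ideal.mem_comap, hφ]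
    exact hs
  haveI : (t.under A₂).LiesOver p := ⟨by rw [Ideal.under_under]; exact hp.over⟩
  obtain ⟨m, hm, htm, hmp, hsm, hmax⟩ := Groth.L20.RG.exists_maximal_fiber p (t.under A₂) hs₂
  exact ((Groth.L20.RG.wit_iff (t'.under A₂) t' _ _ b).mp hw).hasImpurity p m ((Ideal.comap_mono hle).trans htm) hmp hsm
    (fun k => htm (show algebraMap A₂ A₁ (MvPolynomial.X (some k)) ∈ t by rw [hφ]; exact ha k))
    ⟨inferInstance, hmax⟩

end Groth.Agent.S1245
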