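import Groth.Agent.L18.LocFreeTilde
import Groth.Statements.S12451
-- import your own Groth.Agent.* helpers here

set_option autoImplicit false
universe u
open CategoryTheory AlgebraicGeometry
open Props

namespace Groth.Agent.S12451

/-- For a commutative ring R and an R-module M, the associated quasi-coherent module M~ on Spec R is a
finite locally free O-module exactly when M is finitely generated and projective over R
(equivalently, a finite locally free R-module). -/
theorem result {R : CommRingCat.{u}} (M : ModuleCat.{u} R) :
    FlatMod.IsFinLocFree (tilde M) ↔ Module.Finite R M ∧ Module.Projective R M := by
  exact Groth.L18.LFP.isFinLocFree_tilde_iff M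

end Groth.Agent.S12451
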