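import Groth.Statements.S12452
import Groth.Agent.L20.ShEmbed

set_option autoImplicit false
universe u
open CategoryTheory TopologicalSpace Opposite
open ShSp

set_option backward.isDefEq.respectTransparency.types false
namespace Groth.Agent.S12452

/-- For sheaves of sets, let f : X → Y be a continuous map, F a sheaf of sets on X, G a sheaf of sets on
Y, and B_X, B_Y bases for the topologies of X and Y. Suppose given, for every V in B_Y and U in B_X
with U ⊆ f⁻¹V, a map φ_V^U : G(V) → F(U), compatibly with restrictions. Then there is exactly one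
morphism of sheaves ψ : G → f_*F (an f-map G → F) such that G(V) → F(f⁻¹V) → F(U) equals φ_V^U for
every such pair. -/
theorem result {X Y : TopCat.{u}} (f : X ⟶ Y) (F : X.Sheaf (Type u)) (G : Y.Sheaf (Type u))
    {BX : Set (Opens X)} (hBX : Opens.IsBasis BX) {BY : Set (Opens Y)} (hBY : Opens.IsBasis BY)
    (φ : ∀ (V : BY) (U : BX), (U : Opens X) ≤ (Opens.map f).obj V →
      (G.presheaf.obj (op (V : Opens Y)) → F.presheaf.obj (op (U : Opens X))))
    (hφ : ∀ (V V' : BY) (U U' : BX) (hUV : (U : Opens X) ≤ (Opens.map f).obj V)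
      (hU'V' : (U' : Opens X) ≤ (Opens.map f).obj V') (hV : (V' : Opens Y) ≤ V) (hU : (U' : Opens X) ≤ U)
      (s : G.presheaf.obj (op (V : Opens Y))),
      F.presheaf.map (homOfLE hU).op (φ V U hUV s) = φ V' U' hU'V' (G.presheaf.map (homOfLE hV).op s)) :
    ∃! ψ : G ⟶ (TopCat.Sheaf.pushforward (Type u) f).obj F,
      ∀ (V : BY) (U : BX) (hUV : (U : Opens X) ≤ (Opens.map f).obj V) (s : G.presheaf.obj (op (V : Opens Y))),
        F.presheaf.map (homOfLE hUV).op (ψ.1.app (op (V : Opens Y)) s) = φ V U hUV s := by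
  classical
  have hfam : ∀ (W : Opens Y) (s : G.obj.obj (op W)), ∃! t : F.obj.obj (op ((Opens.map f).obj W)),
      ∀ (V : BY) (U : BX) (hVW : (V : Opens Y) ≤ W) (hUV : (U : Opens X) ≤ (Opens.map f).obj V),
        Groth.L27.TopSets.res F (hUV.trans fun x hx => hVW hx) t = φ V U hUV (Groth.L27.TopSets.res G hVW s) := by
    intro W s
    let ι := {p : BY × BX // (p.1 : Opens Y) ≤ W ∧ (p.2 : Opens X) ≤ (Opens.map f).obj p.1}
    let sf : ∀ j : ι, F.obj.obj (op (j.1.2 : Opens X)) := fun j => φ j.1.1 j.1.2 j.2.2 (Groth.L27.TopSets.res G j.2.1 s)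
    have hle : ∀ j : ι, (j.1.2 : Opens X) ≤ (Opens.map f).obj W := fun j x hx => j.2.1 (j.2.2 hx)
    have hcov : (Opens.map f).obj W ≤ iSup fun j : ι => (j.1.2 : Opens X) := by
      intro x hx
      obtain ⟨V, hV, hxV, hVW⟩ := Opens.isBasis_iff_nbhd.1 hBY (show f x ∈ W from hx)
      obtain ⟨U, hU, hxU, hUV⟩ := Opens.isBasis_iff_nbhd.1 hBX (show x ∈ (Opens.map f).obj V from hxV)
      exact Opens.mem_iSup.2 ⟨⟨(⟨V, hV⟩, ⟨U, hU⟩), hVW, hUV⟩, hxU⟩
    have hcomp : TopCat.Presheaf.IsCompatible F.obj (fun j : ι => (j.1.2 : Opens X)) sf := by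
      intro a b
      change Groth.L27.TopSets.res F inf_le_left (sf a) = Groth.L27.TopSets.res F inf_le_right (sf b)
      let κ := {p : BY × BX // (p.1 : Opens Y) ≤ (a.1.1 : Opens Y) ⊓ b.1.1 ∧
        (p.2 : Opens X) ≤ (a.1.2 : Opens X) ⊓ b.1.2 ∧ (p.2 : Opens X) ≤ (Opens.map f).obj p.1}
      refine TopCat.Sheaf.eq_of_locally_eq' F (fun k : κ => (k.1.2 : Opens X)) _
        (fun k => homOfLE k.2.2.1) ?_ _ _ ?_
      · intro x hx
        obtain ⟨V, hV, hxV, hVW⟩ := Opens.isBasis_iff_nbhd.1 hBY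
          (show f x ∈ (a.1.1 : Opens Y) ⊓ b.1.1 from ⟨a.2.2 hx.1, b.2.2 hx.2⟩)
        obtain ⟨U, hU, hxU, hUV⟩ := Opens.isBasis_iff_nbhd.1 hBX
          (show x ∈ (Opens.map f).obj V ⊓ ((a.1.2 : Opens X) ⊓ b.1.2) from ⟨hxV, hx⟩)
        exact Opens.mem_iSup.2 ⟨⟨(⟨V, hV⟩, ⟨U, hU⟩), hVW, hUV.trans inf_le_right, hUV.trans inf_le_left⟩, hxU⟩
      · intro k
        change Groth.L27.TopSets.res F k.2.2.1 (Groth.L27.TopSets.res F inf_le_left (sf a)) = Groth.L27.TopSets.res F k.2.2.1 (Groth.L27.TopSets.res F inf_le_right (sf b))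
        have ha := hφ a.1.1 k.1.1 a.1.2 k.1.2 a.2.2 k.2.2.2 (k.2.1.trans inf_le_left) (k.2.2.1.trans inf_le_left)
          (Groth.L27.TopSets.res G a.2.1 s)
        have hb := hφ b.1.1 k.1.1 b.1.2 k.1.2 b.2.2 k.2.2.2 (k.2.1.trans inf_le_right) (k.2.2.1.trans inf_le_right)
          (Groth.L27.TopSets.res G b.2.1 s)
        rw [Groth.L20.ShEmbed.res_res, Groth.L20.ShEmbed.res_res]
        refine ha.trans (Eq.trans ?_ hb.symm)
        change φ _ _ _ (Groth.L27.TopSets.res G _ (Groth.L27.TopSets.res G _ s)) = φ _ _ _ (Groth.L27.TopSets.res G _ (Groth.L27.TopSets.res G _ s))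
        rw [Groth.L20.ShEmbed.res_res, Groth.L20.ShEmbed.res_res]
    obtain ⟨t, ht, hu⟩ := TopCat.Sheaf.existsUnique_gluing' F (fun j : ι => (j.1.2 : Opens X)) _
      (fun j => homOfLE (hle j)) hcov sf hcomp
    exact ⟨t, fun V U hVW hUV => ht ⟨(V, U), hVW, hUV⟩, fun t' ht' => hu t' fun j => ht' _ _ j.2.1 j.2.2⟩
  choose g hg hgu using hfam
  have hnat : ∀ (W W' : Opens Y) (h : W' ≤ W) (s : G.obj.obj (op W)),
      g W' (Groth.L27.TopSets.res G h s) = Groth.L27.TopSets.res F (fun x hx => h hx) (g W s) := by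
    intro W W' h s
    symm
    refine hgu W' (Groth.L27.TopSets.res G h s) _ fun V U hVW hUV => ?_
    refine (Groth.L20.ShEmbed.res_res F _ _ _).trans ((hg W s V U (hVW.trans h) hUV).trans ?_)
    exact congrArg (φ V U hUV) (Groth.L20.ShEmbed.res_res G _ _ _).symm
  refine ⟨⟨⟨fun W => TypeCat.ofHom (g W.unop), fun {W W'} k => ?_⟩⟩, fun V U hUV s => ?_, fun ψ hψ => ?_⟩
  · ext s
    have hle : W'.unop ≤ W.unop := k.unop.le
    rw [show k = (homOfLE hle).op from Subsingleton.elim _ _]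
    exact hnat W.unop W'.unop hle s
  · exact (hg V s V U le_rfl hUV).trans (congrArg (φ V U hUV) (Groth.L20.ShEmbed.res_self G _ s))
  · refine Groth.L20.ShEmbed.hom_ext fun W s => hgu W s _ fun V U hVW hUV => ?_
    refine Eq.trans ?_ (hψ V U hUV (Groth.L27.TopSets.res G hVW s))
    have h := Groth.L20.ShEmbed.res_app ψ hVW s
    change Groth.L27.TopSets.res F _ (ψ.hom.app (op W) s) = Groth.L27.TopSets.res F hUV (ψ.hom.app (op (V : Opens Y)) (Groth.L27.TopSets.res G hVW s))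
    rw [← h]
    exact (Groth.L20.ShEmbed.res_res F (show (Opens.map f).obj (V : Opens Y) ≤ (Opens.map f).obj W from fun x hx => hVW hx) hUV _).symm

end Groth.Agent.S12452
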