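import Groth.Statements.S12456
import Groth.Agent.L19.Thick.Basic

set_option autoImplicit false
set_option backward.isDefEq.respectTransparency.types false
set_option backward.isDefEq.respectTransparency false
universe u
open CategoryTheory AlgebraicGeometry
open OmegaSh

namespace Groth.Agent.S12456

/-- Let i : Z → X be an immersion, written as the closed subscheme of an open U ⊆ X cut out by an ideal
sheaf I followed by the inclusion of U. Then the first order infinitesimal neighbourhood of Z in X —
the closed subscheme of U cut out by I² — together with Z ⊂ V(I²) and V(I²) → U → X is a universal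
first order thickening of Z over X. (The inequality I² ≤ I is carried as an argument h; it always
holds.) -/
theorem result {X : Scheme.{u}} (U : X.Opens) (I : (U : Scheme.{u}).IdealSheafData)
    (h : I ^ 2 ≤ I) :
    OmegaSh.IsUnivThickening (I.subschemeι ≫ U.ι) (Scheme.IdealSheafData.inclusion h)
      ((I ^ 2).subschemeι ≫ U.ι) := by
  have hh : Scheme.IdealSheafData.inclusion h ≫ (I ^ 2).subschemeι = I.subschemeι :=
    Scheme.IdealSheafData.inclusion_subschemeι h
  generalize hincl : Scheme.IdealSheafData.inclusion h = incl at hh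
  have : IsClosedImmersion incl := by
    have : IsClosedImmersion (incl ≫ (I ^ 2).subschemeι) := by rw [hh]; infer_instance
    exact IsClosedImmersion.of_comp _ (I ^ 2).subschemeι
  have hker : incl.ker = I.comap (I ^ 2).subschemeι := by
    rw [Groth.L17.Thick.ker_of_comp_mono incl _ _ hh, Scheme.IdealSheafData.ker_subschemeι]
  have hsq : incl.ker * incl.ker = ⊥ := by
    rw [hker, ← Groth.L22.Ideals.comap_mul, ← pow_two, eq_bot_iff,
      ← Scheme.IdealSheafData.le_map_iff_comap_le, Scheme.IdealSheafData.map_bot,
      Scheme.IdealSheafData.ker_subschemeι]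
  have hsupp : (I ^ 2).support = I.support := by
    rw [Scheme.IdealSheafData.support_pow _ _ two_ne_zero]
  have : Surjective incl := ⟨fun y => by
    have hy : (I ^ 2).subschemeι y ∈ Set.range I.subschemeι := by
      rw [Scheme.IdealSheafData.range_subschemeι, ← hsupp, ← Scheme.IdealSheafData.range_subschemeι]
      exact ⟨y, rfl⟩
    obtain ⟨x, hx⟩ := hy
    refine ⟨x, (I ^ 2).subschemeι.isEmbedding.injective ?_⟩
    rw [← Scheme.Hom.comp_apply, hh, hx]⟩
  refine ⟨Groth.L19.Thick.mk_firstOrder hsq, by rw [reassoc_of% hh],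
    fun T T' t b a ht htb => ?_⟩
  obtain ⟨⟨_, _⟩, htsq⟩ := ht
  have hr : Set.range b ⊆ Set.range U.ι := by
    rw [Scheme.Opens.range_ι]
    rintro _ ⟨y, rfl⟩
    obtain ⟨x, rfl⟩ := t.surjective y
    rw [← Scheme.Hom.comp_apply, htb, Scheme.Hom.comp_apply]
    exact (I.subschemeι (a x)).2
  have hb : t ≫ IsOpenImmersion.lift U.ι b hr = a ≫ I.subschemeι := by
    rw [← cancel_mono U.ι, Category.assoc, IsOpenImmersion.lift_fac, htb, Category.assoc]
  have hle : (I ^ 2).subschemeι.ker ≤ (IsOpenImmersion.lift U.ι b hr).ker := by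
    rw [Scheme.IdealSheafData.ker_subschemeι, ← Scheme.IdealSheafData.map_bot,
      Scheme.IdealSheafData.le_map_iff_comap_le, pow_two, Groth.L22.Ideals.comap_mul, ← htsq]
    have : I.comap (IsOpenImmersion.lift U.ι b hr) ≤ t.ker := by
      rw [← Scheme.IdealSheafData.le_map_iff_comap_le, Scheme.IdealSheafData.map_ker, hb]
      refine le_trans ?_ (Scheme.Hom.le_ker_comp a I.subschemeι)
      rw [Scheme.IdealSheafData.ker_subschemeι]
    exact fun V => by
      rw [Scheme.IdealSheafData.ideal_mul, Scheme.IdealSheafData.ideal_mul]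
      exact Ideal.mul_mono (this V) (this V)
  refine ⟨IsClosedImmersion.lift _ _ hle, ⟨?_, ?_⟩, fun a₂ h₂ => ?_⟩
  · rw [← cancel_mono (I ^ 2).subschemeι, Category.assoc, IsClosedImmersion.lift_fac, hb,
      Category.assoc, hh]
  · rw [← Category.assoc, IsClosedImmersion.lift_fac, IsOpenImmersion.lift_fac]
  · rw [← cancel_mono ((I ^ 2).subschemeι ≫ U.ι), ← Category.assoc, ← Category.assoc]
    rw [IsClosedImmersion.lift_fac, IsOpenImmersion.lift_fac, Category.assoc]
    exact h₂.2

end Groth.Agent.S12456
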