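import Groth.Statements.S12458
import Groth.Agent.L19.VanishFibre.Main

set_option autoImplicit false
set_option backward.isDefEq.respectTransparency.types false
set_option backward.isDefEq.respectTransparency false
set_option linter.style.haveILetI false
universe u
open CategoryTheory AlgebraicGeometry
open Lim

namespace Groth.Agent.S12458

/-- Let f : X → Y be proper and y ∈ Y a point whose fibre X_y has dimension at most d. Then there is an
affine open neighbourhood V of y such that for the restriction f⁻¹(V) → V the higher direct images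
R^i of every quasi-coherent module on f⁻¹(V) vanish for all i > d. (f⁻¹(V) and V are then
quasi-compact and quasi-separated, so the pair satisfies the hypotheses of the top-degree base
change statement; its conclusions (a)–(c) are that statement applied to this pair. The published
statement assumes dim X_y = d; at most d is what its proof uses.) -/
theorem result {X Y : Scheme.{u}} (f : X ⟶ Y) [IsProper f]
    (y : Y) (d : ℕ) (hd : topologicalKrullDim ↥(f.fiber y) ≤ d) :
    ∃ V : Y.Opens, y ∈ V ∧ IsAffineOpen V ∧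
      ∀ (M : (↑(f ⁻¹ᵁ V) : Scheme.{u}).Modules) (i : ℕ), Coh.IsQCoh M → d < i →
        Limits.IsZero ((Coh.RpushAb (f ∣_ V) i).obj (Coh.toAb M)) := by
  obtain ⟨V, hy, hV, h⟩ := Groth.L19.VanishFibre.exists_nhd_vanishing f y hd
  refine ⟨V, hy, hV, fun M i hM hi => ?_⟩
  haveI := hM
  haveI := Groth.L17.PushQCoh.hasInjectiveResolutions (↑(f ⁻¹ᵁ V) : Scheme.{u})
  haveI : IsAffine V.toScheme := hV
  obtain ⟨e⟩ := Groth.L17.nonempty_toAb_Rpush_iso (f ∣_ V) M i
  refine Limits.IsZero.of_iso ?_ e.symm
  refine Functor.map_isZero (Groth.L21.Mod.toAbSh V.toScheme) ?_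
  rw [Groth.L21.Mod.isZero_iff_support_eq_empty, Set.eq_empty_iff_forall_notMem]
  intro z hz
  haveI : Coh.IsQCoh (Groth.L17.BC.FV (f ∣_ V) (V := ⊤) M) := Scheme.Modules.isQuasicoherent_restrictFunctor _ M
  haveI : IsIso ((f ∣_ V) ⁻¹ᵁ ⊤).ι := show IsIso ((↑(f ⁻¹ᵁ V) : Scheme.{u}).topIso.hom) from inferInstance
  exact hz (Groth.L19.VanishFibre.subsingleton_stalk_Rpush_of_affine (f ∣_ V) M
    (isAffineOpen_top V.toScheme) (show z ∈ (⊤ : V.toScheme.Opens) from trivial) i
    (h _ ((f ∣_ V) ⁻¹ᵁ ⊤).ι _ i hi))

end Groth.Agent.S12458
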