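import Groth.Statements.S1246
import Groth.Agent.L20.RG.ImpurityHensel

set_option autoImplicit false
set_option linter.style.haveILetI false
set_option backward.isDefEq.respectTransparency.types false
universe u
open FlatMor

set_option backward.isDefEq.respectTransparency.types false
namespace Groth.Agent.S1246

/-- Ring form, X = Spec B affine: let B be a finite type A-algebra, N a finite B-module and p a prime of
A. If there is an impurity of N above p whose base change A → A' is of finite type and quasi-finite
at the point t, then there is an impurity of N above p for which (A', t) is an elementary étale ring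
map at p. -/
theorem result {A B : Type u} [CommRing A] [CommRing B] [Algebra A B] [Algebra.FiniteType A B]
    (N : Type u) [AddCommGroup N] [Module B N] [Module.Finite B N] (p : Ideal A) [p.IsPrime]
    (h : FlatCA.HasImpurity A B N p (fun A' _ _ t => ∃ _ : t.IsPrime, Algebra.FiniteType A A' ∧ Algebra.QuasiFiniteAt A t)) :
    FlatCA.HasImpurity A B N p (fun A' _ _ t => ∃ _ : t.IsPrime, FlatCA.IsEtaleNhd A A' p t) := by
  obtain ⟨A₁, _, _, t', t, _, _, n, s, a, b, hw, hle, hp, hs, ha, _, hft, hqf⟩ := Groth.L20.RG.exists_wit h
  haveI := hp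
  haveI := hft
  haveI := hqf
  haveI : p.LiesOver p := ⟨rfl⟩
  obtain ⟨A', B', N', i1, i2, i3, i4, i5, i6, i7, i8, i9, i10, i11, i12, i13, i14, f, u', u, hu', hu, P, hP, himp, _, aA, tA, hn⟩ :=
    Groth.L20.RG.hasImpurity_etale_of_quasiFinite p (L := A) p t' t hle hw hs ha
  refine ⟨A', B', N', i1, i2, i3, i4, i5, i6, i7, i8, i9, i10, i11, i12, i13, i14, f, u', u, hu', hu, P, hP, himp, hu, ?_⟩
  have : aA = i3 := Algebra.algebra_ext _ _ fun r =>
    (@IsScalarTower.algebraMap_apply A A A' _ _ _ (Algebra.id A) aA i3 tA r).symm
  subst this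
  exact hn

end Groth.Agent.S1246
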