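import Groth.Statements.S12462
import Groth.Agent.L06.SpectralFinite

set_option autoImplicit false
universe u
open CategoryTheory CategoryTheory.Limits
open SpecSp

namespace Groth.Agent.S12462

/-- A spectral space is a directed inverse limit of finite sober topological spaces. Precisely: for X
spectral there exist a nonempty directed preordered index set J, a functor from the opposite of J to
topological spaces whose values are finite sober (T0, every irreducible closed subset has a generic
point) spaces, and a limit cone of it whose vertex is isomorphic to X. -/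
theorem result (X : Type u) [TopologicalSpace X] [SpectralSpace X] :
    ∃ (J : Type u) (_ : Preorder J) (_ : Nonempty J) (_ : IsDirected J (· ≤ ·)) (F : Jᵒᵖ ⥤ TopCat.{u})
      (c : Cone F), Nonempty (IsLimit c) ∧
        (∀ j : Jᵒᵖ, Finite (F.obj j) ∧ T0Space (F.obj j) ∧ QuasiSober (F.obj j)) ∧
        Nonempty (c.pt ≅ TopCat.of X) := by
  open Groth.L06.Spectral in
  classical
  obtain ⟨hl⟩ := nonempty_isLimit_finCone X
  refine ⟨Finset (CO X), inferInstance, inferInstance, inferInstance, finSystem X, finCone X, ⟨hl⟩,
    fun s => ?_, ⟨Iso.refl _⟩⟩
  have hfin : Finite (FinObj X s.unop) := inferInstance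
  haveI := t0Space_piProp (↥s.unop)
  haveI hT0 : T0Space (FinObj X s.unop) := inferInstance
  refine ⟨hfin, hT0, ?_⟩
  have := @spectralSpace_of_finer_compact (FinObj X s.unop) instTopologicalSpaceSubtype hT0 ⊥
    (@Finite.compactSpace _ ⊥ hfin) {t | IsOpen t} (TopologicalSpace.generateFrom_setOfPred_isOpen _).symm
    (fun t _ => @isClopen_discrete _ ⊥ (@DiscreteTopology.mk _ ⊥ rfl) t)
  exact this.toQuasiSober

end Groth.Agent.S12462
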