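import Groth.Statements.S12463
import Groth.Agent.L06.WedgeDVR


set_option autoImplicit false
set_option maxSynthPendingDepth 3
set_option linter.style.haveILetI false
universe u
open Variety

namespace Groth.Agent.S12463

/-- Let (A, m) be a strictly henselian reduced Nagata local ring of dimension one with δ-invariant equal
to the number of geometric branches minus one, and A' the integral closure of A in its total ring of
fractions. Then A is a wedge of discrete valuation rings: for every maximal ideal m' of A' the
localization A'_{m'} is a discrete valuation ring whose residue field is the image of A, and A
consists exactly of the elements of A' congruent to an element of A modulo every maximal ideal of A'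
(the displayed inclusion; the reverse inclusion is trivial). (The inequality δ ≥ branches − 1 of the
published statement holds for every reduced Nagata local ring of dimension one and is not restated.) -/
theorem result (A : Type u) [CommRing A] [HenselianLocalRing A]
    [IsSepClosed (IsLocalRing.ResidueField A)] [IsReduced A] (hN : CAlg.IsNagata A) (hdim : ringKrullDim A = 1)
    (heq : Curv2.deltaInv A + 1 = Brnch.numGeomBranches A) :
    (∀ m' : MaximalSpectrum ↥(integralClosure A (FractionRing A)),
        (∃ _ : IsDomain (Localization.AtPrime m'.asIdeal), IsDiscreteValuationRing (Localization.AtPrime m'.asIdeal)) ∧
        Function.Surjective (⇑(IsLocalRing.residue (Localization.AtPrime m'.asIdeal)) ∘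
          ⇑(algebraMap ↥(integralClosure A (FractionRing A)) (Localization.AtPrime m'.asIdeal)) ∘
          ⇑(algebraMap A ↥(integralClosure A (FractionRing A))))) ∧
    ∀ a' : ↥(integralClosure A (FractionRing A)),
      (∃ a : A, ∀ m' : MaximalSpectrum ↥(integralClosure A (FractionRing A)),
          a' - algebraMap A _ a ∈ m'.asIdeal) →
      a' ∈ (algebraMap A ↥(integralClosure A (FractionRing A))).range := by
  exact Groth.L06.WedgeDVR.main A hN hdim heq

end Groth.Agent.S12463
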