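import Groth.Statements.S12464
import Groth.Agent.L23.BigSite.BaseChange

set_option autoImplicit false
set_option backward.isDefEq.respectTransparency.types false
universe v' u' u
open CategoryTheory AlgebraicGeometry
open BigSite

namespace Groth.Agent.S12464

/-- Let g' : T' → T, f' : T' → S', f : T → S, g : S' → S be a cartesian square of schemes. Then g_big⁻¹
∘ f_big,* ≅ f'_big,* ∘ g'_big⁻¹ as functors from sheaves on Sch/T to sheaves on Sch/S', both for the
big Zariski sites and for the big étale sites. (Existence of natural isomorphisms; the published one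
sends both sides to U' ↦ F(U' ×_{S'} T').) -/
theorem result {S T S' T' : Scheme.{u}} (f : T ⟶ S) (g : S' ⟶ S) (g' : T' ⟶ T) (f' : T' ⟶ S') (hsq : IsPullback g' f' f g)
    (A : Type u') [Category.{v'} A] :
    Nonempty (BigSite.pushBig Scheme.zariskiPrecoverage f A ⋙ BigSite.pullBig Scheme.zariskiPrecoverage g A ≅
        BigSite.pullBig Scheme.zariskiPrecoverage g' A ⋙ BigSite.pushBig Scheme.zariskiPrecoverage f' A) ∧
      Nonempty (BigSite.pushBig Scheme.etalePrecoverage f A ⋙ BigSite.pullBig Scheme.etalePrecoverage g A ≅
        BigSite.pullBig Scheme.etalePrecoverage g' A ⋙ BigSite.pushBig Scheme.etalePrecoverage f' A) := ⟨Groth.L23.Big.nonempty_pull_push f g g' f' hsq _ A, Groth.L23.Big.nonempty_pull_push f g g' f' hsq _ A⟩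

end Groth.Agent.S12464
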