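import Groth.Statements.S12466
import Groth.Agent.L05.PtSeq.SncCrit

set_option autoImplicit false
set_option linter.style.haveILetI false
set_option backward.isDefEq.respectTransparency false
universe u
open CategoryTheory CategoryTheory.Limits AlgebraicGeometry
open Resolve

namespace Groth.Agent.S12466

open TopologicalSpace Groth.L05.PtSeq
open Groth.L03.BlowPt (ptI exc)

theorem nonClosed_finite {W : Scheme.{u}} [IsIntegral W] (hW : IsRegSurf W) (I : W.IdealSheafData) (hI : I ≠ ⊥) :
    {η : W | η ∈ (I.support : Set W) ∧ ¬ IsClosed ({η} : Set W)}.Finite := by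
  haveI := hW.noeth
  refine (finite_isolated (I.support.isClosed)).subset fun η ⟨hη, hcl⟩ => ⟨hη, fun w hw hwη => ?_⟩
  by_contra hne
  obtain ⟨p, hp, hpη⟩ : ∃ p, η ⤳ p ∧ p ≠ η := by
    by_contra h
    push Not at h
    exact hcl (closure_subset_iff_isClosed.1 fun p hp => h p (specializes_iff_mem_closure.2 hp))
  have h1 := Groth.L03.BlowPt.Factor.dim_add_one_le (genericPoint_specializes w)
    (fun e => genericPoint_notMem_support hI (e ▸ hw))
  have h2 := Groth.L03.BlowPt.Factor.dim_add_one_le hwη hne
  have h3 := Groth.L03.BlowPt.Factor.dim_add_one_le hp hpη.symm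
  rw [dim_stalk_genericPoint, zero_add] at h1
  have h4 := (Groth.L13.ModFibre.ringKrullDim_stalk_le_topologicalKrullDim p).trans hW.dim
  exact absurd (((add_le_add ((add_le_add h1 le_rfl).trans h2) le_rfl).trans h3).trans h4) (by decide)

/-- The curves in the support. -/
theorem exists_curve {W : Scheme.{u}} [IsIntegral W] (hW : IsRegSurf W) {η : W}
    (hne : η ≠ genericPoint W) (hcl : ¬ IsClosed ({η} : Set W)) :
    ∃ (J : W.IdealSheafData) (_ : IsIntegral J.subscheme), (J.support : Set W) = closure {η} ∧
      J.subschemeι (genericPoint J.subscheme) = η ∧ topologicalKrullDim J.subscheme = 1 := by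
  haveI := hW.noeth
  obtain ⟨Z, ι, hZ, hι, hr, hg⟩ := exists_closure_subscheme η
  haveI := hι
  haveI : Nonempty ι.image := ⟨ι.toImage (genericPoint Z)⟩
  haveI hint : IsIntegral ι.ker.subscheme := isIntegral_of_isOpenImmersion (inv ι.toImage)
  have hsupp : (ι.ker.support : Set W) = closure {η} := by
    rw [Scheme.Hom.support_ker, hr, closure_closure]
  have hgen : ι.ker.subschemeι (genericPoint ι.ker.subscheme) = η := by
    have h := (genericPoint_spec ι.ker.subscheme).image ι.ker.subschemeι.continuous
    rw [Set.image_univ, ι.ker.range_subschemeι, hsupp, closure_closure] at h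
    exact h.eq isGenericPoint_closure
  haveI : IsLocallyNoetherian ι.ker.subscheme := LocallyOfFiniteType.isLocallyNoetherian ι.ker.subschemeι
  refine ⟨ι.ker, hint, hsupp, hgen, le_antisymm (dim_le_of_stalks fun c => ?_) (one_le_dim fun h => hcl ?_)⟩
  · haveI := hW.reg (ι.ker.subschemeι c)
    haveI := Groth.L01.isDomain_of_regular (W.presheaf.stalk (ι.ker.subschemeι c))
    have hnb : RingHom.ker (ι.ker.subschemeι.stalkMap c).hom ≠ ⊥ := by
      rw [Groth.L20.Infinitesimal.ker_stalkMap, ← stI_eq_sI]
      refine stI_ne_bot (fun h => hne ?_) _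
      rw [Scheme.IdealSheafData.ker_subschemeι, hsupp] at h
      exact ((specializes_iff_mem_closure.2 h).antisymm (genericPoint_specializes η)).eq
    obtain ⟨a, ha, ha0⟩ := Submodule.exists_mem_ne_zero_of_ne_bot hnb
    have h1 : ringKrullDim (W.presheaf.stalk (ι.ker.subschemeι c) ⧸ RingHom.ker (ι.ker.subschemeι.stalkMap c).hom) + 1 ≤
        ringKrullDim (W.presheaf.stalk (ι.ker.subschemeι c)) :=
      (add_le_add (ringKrullDim_le_of_surjective
        (Ideal.Quotient.factor ((Ideal.span_singleton_le_iff_mem _).2 ha)) (Ideal.Quotient.factor_surjective _))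
        le_rfl).trans (ringKrullDim_quotient_succ_le_of_nonZeroDivisor (mem_nonZeroDivisors_of_ne_zero ha0))
    rw [ringKrullDim_eq_of_ringEquiv (RingHom.quotientKerEquivOfSurjective
      (ι.ker.subschemeι.stalkMap_surjective c))] at h1
    have h2 := h1.trans ((Groth.L13.ModFibre.ringKrullDim_stalk_le_topologicalKrullDim _).trans hW.dim)
    generalize ringKrullDim (ι.ker.subscheme.presheaf.stalk c) = d at h2 ⊢
    cases d with
    | bot => exact bot_le
    | coe d =>
      cases d with
      | top => exact absurd h2 (by decide)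
      | coe d =>
        have h3 : d + 1 ≤ 2 := ENat.coe_le_coe.1 (WithBot.coe_le_coe.1 h2)
        have h4 : d ≤ 1 := by omega
        exact_mod_cast h4
  · rw [← hgen, ← Set.image_singleton]
    exact ι.ker.subschemeι.isClosedMap _ h


/-- Let X be an integral Noetherian scheme which is regular of dimension two and Z ⊂ X a closed
subscheme with ideal I ≠ 0 such that every integral closed subscheme of dimension one contained in Z
has finite normalization. Then there is a finite sequence of blowings up in closed points g : X' → X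
such that the inverse image ideal I·O_{X'} is the ideal of an effective Cartier divisor supported on
a strict normal crossings divisor, i.e. for every point p of its support there are an affine open U
∋ p, a regular system of parameters x_1, …, x_d of O_{X',p} (d = dim O_{X',p}, the x_i generating
the maximal ideal) and 1 ≤ r ≤ d such that the radical of the inverse image ideal, taken in
O_{X',p}, is generated by x_1⋯x_r. (The published statement takes X any regular scheme of dimension
two, hence only locally Noetherian, and Z any proper closed subscheme whose one-dimensional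
irreducible components have finite normalization; this row takes X integral and Noetherian. For the
disjoint union of a regular surface and a regular curve, with Z the curve, no sequence of blowings
up in closed points makes the inverse image of Z an effective Cartier divisor (the
largest-Cartier-divisor step of the proof needs every piece of X of dimension exactly two), and a
finite sequence of blowings up in single closed points can resolve Z only when X is quasi-compact,
since a non-quasi-compact regular surface may carry a curve with infinitely many singular points.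
The quasi-compactness and quasi-separatedness binders in the hypothesis on the components of Z
always hold.) -/
theorem result (X : Scheme.{u}) [IsIntegral X] [IsNoetherian X]
    (hreg : ∀ x : X, IsRegularLocalRing (X.presheaf.stalk x)) (hdim : topologicalKrullDim X = 2)
    (I : X.IdealSheafData) (hI : I ≠ ⊥)
    (hZ : ∀ (J : X.IdealSheafData) [IsIntegral J.subscheme]
      [QuasiCompact (J.subscheme.fromSpecStalk (genericPoint ↥J.subscheme))]
      [QuasiSeparated (J.subscheme.fromSpecStalk (genericPoint ↥J.subscheme))],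
      (J.support : Set X) ⊆ I.support → topologicalKrullDim ↥J.subscheme = 1 →
        IsFinite (Curv2.normalizationι J.subscheme)) :
    ∃ (X' : Scheme.{u}) (g : X' ⟶ X), Models.IsContractionSeq g ∧ BlowUp.IsEffCartierIdeal (I.comap g) ∧
      ∀ p : X', p ∈ ((I.comap g).support : Set X') →
        ∃ (U : X'.affineOpens) (hp : p ∈ (U : X'.Opens)) (d r : ℕ) (x : Fin d → X'.presheaf.stalk p),
          1 ≤ r ∧ r ≤ d ∧ ringKrullDim (X'.presheaf.stalk p) = (d : WithBot ℕ∞) ∧
          Ideal.span (Set.range x) = IsLocalRing.maximalIdeal (X'.presheaf.stalk p) ∧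
          ((I.comap g).radical.ideal U).map (X'.presheaf.germ (U : X'.Opens) p hp).hom =
            Ideal.span {∏ i : Fin d, if (i : ℕ) < r then x i else 1} := by
  classical
  have hX : IsRegSurf X := ⟨‹_›, ‹_›, hreg, hdim.le⟩
  have hXgen : ¬ IsClosed ({genericPoint X} : Set X) := fun hcl => by
    haveI : Subsingleton X := ⟨fun a c => ((genericPoint_specializes a).mem_closed hcl rfl).trans
      ((genericPoint_specializes c).mem_closed hcl rfl).symm⟩
    haveI : DiscreteTopology X := Subsingleton.discreteTopology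
    have h1 := topologicalKrullDim_zero_of_discreteTopology X
    rw [hdim] at h1
    exact absurd h1 (by decide)
  -- resolve the curves in the support
  have hT := nonClosed_finite hX I hI
  haveI := hT.to_subtype
  obtain ⟨n, ⟨σ⟩⟩ := Finite.exists_equiv_fin {η : X | η ∈ (I.support : Set X) ∧ ¬ IsClosed ({η} : Set X)}
  choose J hJint hJs hJg hJd using fun i : Fin n => exists_curve hX
    (η := (σ.symm i).1) (fun e => genericPoint_notMem_support hI (e ▸ (σ.symm i).2.1)) (σ.symm i).2.2
  haveI := hJint
  haveI : ∀ i, IsLocallyNoetherian (J i).subscheme := fun i =>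
    LocallyOfFiniteType.isLocallyNoetherian (J i).subschemeι
  haveI : ∀ i, CompactSpace (J i).subscheme := fun i =>
    QuasiCompact.compactSpace_of_compactSpace (J i).subschemeι
  haveI : ∀ i, AlgebraicGeometry.IsNoetherian (J i).subscheme := fun i => ⟨⟩
  haveI : ∀ i, QuasiCompact ((J i).subscheme.fromSpecStalk (genericPoint (J i).subscheme)) := fun i =>
    (quasiCompact_iff _).2 fun U _ _ =>
      haveI : Subsingleton ↥(Spec ((J i).subscheme.presheaf.stalk (genericPoint (J i).subscheme))) :=
        inferInstanceAs (Subsingleton (PrimeSpectrum (J i).subscheme.functionField))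
      Set.subsingleton_of_subsingleton.isCompact
  have hfin : ∀ i, IsFinite (Curv2.normalizationι (J i).subscheme) := fun i => hZ (J i) (by
    rw [hJs i]; exact (closure_minimal (Set.singleton_subset_iff.2 (σ.symm i).2.1) I.support.isClosed)) (hJd i)
  obtain ⟨X₁, G₁, hG₁, hC⟩ := Groth.Agent.S7374.exists_regular X (fun i => (J i).subscheme)
    (fun i => (J i).subschemeι) hJd hfin n
  choose C g f hg hf hw hCreg using hC
  obtain ⟨hX₁, hG₁c, hi₁, hG₁gen, hX₁gen⟩ := seq_surface hG₁ hX hXgen
  haveI := hi₁; haveI := hX₁.noeth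
  have hI₁ : I.comap G₁ ≠ ⊥ := fun h => by
    refine genericPoint_notMem_support hI ?_
    have h' : genericPoint X₁ ∈ ((I.comap G₁).support : Set X₁) := by
      rw [h, Scheme.IdealSheafData.support_bot]; trivial
    rw [Scheme.IdealSheafData.support_comap] at h'
    rw [← hG₁gen]; exact h'
  obtain ⟨X₂, g₂, hg₂, hI₂C⟩ := exists_invertible hX₁.reg hX₁.dim _ hI₁
  have hG₂ : IsPtBlowupSeq (g₂ ≫ G₁) := ptSeq_comp (contractionSeq_ptSeq hg₂) hG₁
  rw [← Scheme.IdealSheafData.comap_comp] at hI₂C
  obtain ⟨hX₂, -, hi₂, hG₂gen, hX₂gen⟩ := seq_surface hG₂ hX hXgen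
  haveI := hi₂; haveI := hX₂.noeth
  have hI₂ : I.comap (g₂ ≫ G₁) ≠ ⊥ := fun h => by
    refine genericPoint_notMem_support hI ?_
    have h' : genericPoint X₂ ∈ ((I.comap (g₂ ≫ G₁)).support : Set X₂) := by
      rw [h, Scheme.IdealSheafData.support_bot]; trivial
    rw [Scheme.IdealSheafData.support_comap] at h'
    rw [← hG₂gen]; exact h'
  -- the curves in the total transform
  obtain ⟨hexc, hinj⟩ := exists_crv_of_closed hG₂ hX hXgen
  have hsupp₂ : ((I.comap (g₂ ≫ G₁)).support : Set X₂) = (g₂ ≫ G₁) ⁻¹' (I.support : Set X) := by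
    rw [Scheme.IdealSheafData.support_comap]; rfl
  have hcrv : ∀ η : {η : X₂ | η ∈ ((I.comap (g₂ ≫ G₁)).support : Set X₂) ∧ ¬ IsClosed ({η} : Set X₂)},
      ∃ K : Crv X₂, K.f (genericPoint K.C) = η.1 := by
    rintro ⟨η, hηS, hη⟩
    by_cases hcl : IsClosed ({(g₂ ≫ G₁) η} : Set X)
    · exact hexc η hη hcl
    · rw [hsupp₂] at hηS
      let i : Fin n := σ ⟨(g₂ ≫ G₁) η, hηS, hcl⟩
      obtain ⟨hiC, hNC, hgp, hbir, hgg, hC0, hCd, -⟩ := seq_curve (hJd i) (hfin i) (hg i)
      haveI := hiC; haveI := hNC
      let K₁ : Crv X₁ := ⟨C i, f i, hiC, hNC, hCd.le, hC0, hCreg i i.isLt, hf i⟩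
      obtain ⟨K, hK⟩ := K₁.exists_lift (contractionSeq_ptSeq hg₂)
      refine ⟨K, (hinj η _ hcl ?_).symm⟩
      rw [Scheme.Hom.comp_apply g₂ G₁ (K.f (genericPoint K.C)), hK]
      show _ = G₁ (f i (genericPoint (C i)))
      rw [← Scheme.Hom.comp_apply (f i) G₁, hw i, Scheme.Hom.comp_apply (g i), hgg, hJg i]
      simp [i]
  choose Kf hKf using hcrv
  have hT₂ := nonClosed_finite hX₂ _ hI₂
  haveI := hT₂.to_subtype
  obtain ⟨N, ⟨τ⟩⟩ := Finite.exists_equiv_fin
    {η : X₂ | η ∈ ((I.comap (g₂ ≫ G₁)).support : Set X₂) ∧ ¬ IsClosed ({η} : Set X₂)}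
  have hcfg : Cfg ((I.comap (g₂ ≫ G₁)).support : Set X₂) (fun i => Kf (τ.symm i)) :=
    ⟨fun i j e => τ.symm.injective (Subtype.ext ((hKf _).symm.trans (e.trans (hKf _)))),
      fun i => by rw [hKf]; exact (τ.symm i).2.1,
      fun η hη hcl => ⟨τ ⟨η, hη, hcl⟩, by rw [hKf]; simp⟩⟩
  -- make it normal crossing
  obtain ⟨X₃, g₃, hg₃, M, K', hK', hnice⟩ := exists_nice _ _ hX₂ hX₂gen _ (Closeds.isClosed _)
    (fun i => Kf (τ.symm i)) hcfg rfl rfl
  have hG₃ : IsPtBlowupSeq (g₃ ≫ g₂ ≫ G₁) := ptSeq_comp hg₃ hG₂
  obtain ⟨hX₃, hG₃c, hi₃, hG₃gen, hX₃gen⟩ := seq_surface hG₃ hX hXgen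
  haveI := hi₃
  have hI₃C : BlowUp.IsEffCartierIdeal (I.comap (g₃ ≫ g₂ ≫ G₁)) := by
    rw [Scheme.IdealSheafData.comap_comp]
    exact seq_isEffCartier_comap (seq_surface hg₃ hX₂ hX₂gen).2.1 hI₂C
  have hI₃ : I.comap (g₃ ≫ g₂ ≫ G₁) ≠ ⊥ := fun h => by
    refine genericPoint_notMem_support hI ?_
    have h' : genericPoint X₃ ∈ ((I.comap (g₃ ≫ g₂ ≫ G₁)).support : Set X₃) := by
      rw [h, Scheme.IdealSheafData.support_bot]; trivial
    rw [Scheme.IdealSheafData.support_comap] at h'
    rw [← hG₃gen]; exact h'
  refine ⟨X₃, g₃ ≫ g₂ ≫ G₁, hG₃c, hI₃C, fun p hp => exists_snc hX₃ hX₃gen _ hI₃ hI₃C K' ?_ hnice p hp⟩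
  have hS : ((I.comap (g₃ ≫ g₂ ≫ G₁)).support : Set X₃) =
      g₃ ⁻¹' ((I.comap (g₂ ≫ G₁)).support : Set X₂) := by
    rw [Scheme.IdealSheafData.comap_comp, Scheme.IdealSheafData.support_comap]; rfl
  rw [hS]; exact hK'

end Groth.Agent.S12466
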