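import Groth.Agent.L18.PBundle.Segre
import Groth.Agent.L18.PBundle.VeryAmpleOps
import Groth.Agent.L08.Cube.Inverse
import Groth.Agent.L29.LocFree
import Groth.Statements.S12469
-- import your own Groth.Agent.* helpers here

set_option autoImplicit false
universe u
open CategoryTheory CategoryTheory.Limits AlgebraicGeometry TopologicalSpace Opposite
open scoped HomogeneousIdeal
open EGA2

namespace Groth.Agent.S12469

/-- Let q : X → Y be a morphism of schemes, L an invertible O_X-module and K an invertible O_Y-module.
Then L is very ample relative to q (isomorphic to the inverse image of O(1) along a Y-immersion of X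
into the projective bundle P(E) of a quasi-coherent O_Y-module E) if and only if L ⊗ q^*K is. -/
theorem result {X Y : Scheme.{u}} (q : X ⟶ Y) (L : X.Modules)
    (hL : PicF.IsInvertible L) (K : Y.Modules) (hK : PicF.IsInvertible K) :
    RelProj.IsRelVeryAmple q L ↔
      RelProj.IsRelVeryAmple q (CohB1.tensorMod L ((Scheme.Modules.pullback q).obj K)) := by
  have hK' := Groth.L18.Ample.isInvertible_pullback q hK
  refine ⟨fun h => Groth.L18.PBundle.isRelVeryAmple_tensor_of_epi hL h hK'
    (Groth.L21.Extend.isQCoh_of_isInvertible hK) (𝟙 _) inferInstance, fun h => ?_⟩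
  obtain ⟨N, hN, ⟨ε⟩⟩ := Groth.L08.Cube.exists_inverse hK
  have h2 := Groth.L18.PBundle.isRelVeryAmple_tensor_of_epi (Groth.L18.GenLoc.isInvertible_tensor hL hK') h
    (Groth.L18.Ample.isInvertible_pullback q hN) (Groth.L21.Extend.isQCoh_of_isInvertible hN) (𝟙 _) inferInstance
  exact Groth.L18.PBundle.isRelVeryAmple_of_iso
    ((Groth.L00.Tensor.tensorAssoc L _ _ ≪≫ Groth.L00.Tensor.tensorIso (Iso.refl L)
      (Groth.L29.DC.PullTensor.pullTensor q K N ≪≫ (Scheme.Modules.pullback q).mapIso ε ≪≫
        Groth.L29.LocFree.pullbackUnitIso q) ≪≫ Groth.L00.Tensor.tensorUnitRight L).symm) h2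

end Groth.Agent.S12469
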