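import Groth.Statements.S1247
import Groth.Agent.S1245
import Groth.Agent.L20.RG.ImpurityNoeth

set_option autoImplicit false
set_option linter.style.haveILetI false
set_option backward.isDefEq.respectTransparency.types false
universe u
open FlatMor

set_option backward.isDefEq.respectTransparency.types false
namespace Groth.Agent.S1247

/-- Ring form, X = Spec B and S = Spec A affine with A Noetherian: let B be a finite type A-algebra, N a
finite B-module and p a prime of A. If there is an impurity of N above p then there is one whose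
base change A → A' is of finite type and quasi-finite at the point t. -/
theorem result {A B : Type u} [CommRing A] [IsNoetherianRing A] [CommRing B] [Algebra A B] [Algebra.FiniteType A B]
    (N : Type u) [AddCommGroup N] [Module B N] [Module.Finite B N] (p : Ideal A) [p.IsPrime]
    (h : FlatCA.HasImpurity A B N p (fun _ _ _ _ => True)) :
    FlatCA.HasImpurity A B N p (fun A' _ _ t => ∃ _ : t.IsPrime, Algebra.FiniteType A A' ∧ Algebra.QuasiFiniteAt A t) := by
  obtain ⟨A₁, _, _, t', t, _, _, n, s, a, b, hw, hle, hp, hs, ha, hfp, hmax⟩ :=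
    Groth.L20.RG.exists_wit (Groth.Agent.S1245.result N p h)
  haveI := hp
  haveI := hfp
  have hclosed : ∀ τ : Ideal A₁, τ.IsPrime → τ.LiesOver p → t ≤ τ → τ = t := fun τ hτ hτp hle' => by
    haveI := hτ
    haveI := hτp
    rw [← Groth.L20.comap_fiberIdeal p t, ← Groth.L20.comap_fiberIdeal p τ,
      hmax.eq_of_le (Groth.L20.isPrime_fiberIdeal p τ).ne_top (Ideal.map_mono hle')]
  haveI : p.LiesOver p := ⟨rfl⟩
  obtain ⟨A₂, _, aA, aL, tow, u', u, _, _, s₂, a₂, hft, hup, hqf, hule, hw₂, hs₂, ha₂⟩ :=
    Groth.L20.RG.exists_quasiFinite_wit (L := A) p t' t hclosed hle hw hs ha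
  have : aL = aA := Algebra.algebra_ext _ _ fun r =>
    (@IsScalarTower.algebraMap_apply A A A₂ _ _ _ (Algebra.id A) aL aA tow r).symm
  subst this
  exact hw₂.hasImpurity p u hule hup hs₂ ha₂ ⟨inferInstance, hft, hqf⟩

end Groth.Agent.S1247
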