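import Groth.Agent.L18.PBundle.Taut
import Groth.Agent.L18.PBundle.UPExist
import Groth.Agent.L18.SymInvertible
import Groth.Statements.S12472
-- import your own Groth.Agent.* helpers here

set_option autoImplicit false
universe u
open CategoryTheory CategoryTheory.Limits AlgebraicGeometry TopologicalSpace Opposite
open scoped HomogeneousIdeal
open EGA2

namespace Groth.Agent.S12472

/-- Let Y be a scheme and L an invertible O_Y-module. Then L is very ample relative to the identity
morphism of Y: there are a quasi-coherent O_Y-module E and a Y-immersion i of Y into the projective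
bundle P(E) with L isomorphic to i^*O_{P(E)}(1). -/
theorem result (Y : Scheme.{u}) (L : Y.Modules) (hL : PicF.IsInvertible L) :
    RelProj.IsRelVeryAmple (𝟙 Y) L := by
  have hE : Coh.IsQCoh L := Groth.L21.Extend.isQCoh_of_isInvertible hL
  obtain ⟨P, p, chart, hP⟩ := Groth.L18.RP.exists_isRelProj (Groth.L18.SymSheaf.symGr L)
  have hj := Groth.L18.SymSheaf.isGrSymAlg L
  obtain ⟨O1, lam, hO1⟩ := Groth.L18.PBundle.exists_twist hP 1
  obtain ⟨φ, hφ⟩ := Groth.L18.PBundle.exists_taut hj hP hE hO1
  haveI : IsIso p := Groth.L18.SymInv.isIso_relProj hj hL hP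
  obtain ⟨r, hr, τ, -⟩ := Groth.L18.PBundle.exists_morphism hj hE hP hO1 hφ hL
    ((Scheme.Modules.pullbackId Y).hom.app L) inferInstance
  have : r = inv p := IsIso.eq_inv_of_inv_hom_id hr
  refine ⟨L, hE, _, _, hj, P, p, chart, hP, O1, lam, hO1, r, ?_, hr, ⟨τ.symm⟩⟩
  rw [this]
  infer_instance

end Groth.Agent.S12472
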