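import Groth.Agent.L18.PBundle.VeryAmpleOps
import Groth.Statements.S12476
-- import your own Groth.Agent.* helpers here

set_option autoImplicit false
universe u
open CategoryTheory CategoryTheory.Limits AlgebraicGeometry TopologicalSpace Opposite
open scoped HomogeneousIdeal
open EGA2

namespace Groth.Agent.S12476

/-- Let f : X → Y and g : Y → Z be morphisms of schemes and L an invertible O_X-module which is very
ample relative to the composite X → Y → Z (isomorphic to the inverse image of O(1) along a
Z-immersion of X into the projective bundle of a quasi-coherent O_Z-module). Then L is very ample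
relative to f. -/
theorem result {X Y Z : Scheme.{u}} (f : X ⟶ Y) (g : Y ⟶ Z) (L : X.Modules)
    (hL : PicF.IsInvertible L) (hva : RelProj.IsRelVeryAmple (f ≫ g) L) : RelProj.IsRelVeryAmple f L := by
  exact Groth.L18.PBundle.isRelVeryAmple_of_comp hva

end Groth.Agent.S12476
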