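import Groth.Statements.S12482
import Groth.Agent.L07.QuasiRegular

set_option autoImplicit false
universe u
open Dual

namespace Groth.Agent.S12482

/-- Let `A` be a commutative ring, `x_1, …, x_p` a sequence of elements of `A` such that each `x_i` is a
non-zero-divisor on `A/(x_1, …, x_{i-1})`, and `J` the ideal generated by the `x_i`. Then `J/J²` is
a free `(A/J)`-module with basis the classes of the `x_i`: there is a basis of `J/J²` over `A/J`,
indexed by `1, …, p`, whose `i`-th vector is the class of `x_i`. (The other assertions of the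
published statement, on the Koszul complex and on Ext and Tor against `A/J`, are stated separately.) -/
theorem result (A : Type u) [CommRing A] (p : ℕ) (x : Fin p → A)
    (hreg : RingTheory.Sequence.IsWeaklyRegular A (List.ofFn x)) :
    ∃ b : Module.Basis (Fin p) (A ⧸ Ideal.span (Set.range x)) (Ideal.span (Set.range x)).Cotangent,
      ∀ i, b i = (Ideal.span (Set.range x)).toCotangent ⟨x i, Ideal.subset_span (Set.mem_range_self i)⟩ := by
  set J := Ideal.span (Set.range x) with hJ
  let v : Fin p → J.Cotangent := fun i => J.toCotangent ⟨x i, Ideal.subset_span (Set.mem_range_self i)⟩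
  have hqr := Groth.L07.QReg.isQuasiRegular_of_isWeaklyRegular hreg
  have hsum : ∀ c : Fin p → A, ∑ i, (Ideal.Quotient.mk J (c i)) • v i =
      J.toCotangent ⟨∑ i, c i * x i, J.sum_mem fun i _ => J.mul_mem_left _
        (Ideal.subset_span (Set.mem_range_self i))⟩ := by
    intro c
    have : ∀ i, (Ideal.Quotient.mk J (c i)) • v i =
        J.toCotangent (c i • ⟨x i, Ideal.subset_span (Set.mem_range_self i)⟩) := by
      intro i; rw [map_smul]; rfl
    rw [Finset.sum_congr rfl fun i _ => this i, ← map_sum]
    congr 1
    ext
    simp [smul_eq_mul]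
  have hli : LinearIndependent (A ⧸ J) v := by
    rw [Fintype.linearIndependent_iff]
    intro g hg i
    choose c hc using fun j => Ideal.Quotient.mk_surjective (g j)
    have hmem : ∑ j, c j * x j ∈ J ^ 2 := by
      have := hsum c
      simp only [hc, hg] at this
      exact (J.toCotangent_eq_zero _).mp this.symm
    let P : MvPolynomial (Fin p) A := ∑ j, MvPolynomial.C (c j) * MvPolynomial.X j
    have hP : P.IsHomogeneous 1 := MvPolynomial.IsHomogeneous.sum _ _ _ fun j _ =>
      (MvPolynomial.isHomogeneous_X _ j).C_mul _
    have h1 := hqr 1 P hP (by simpa [P] using hmem) (Finsupp.single i 1)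
    rw [← hc i, Ideal.Quotient.eq_zero_iff_mem]
    simpa [P, MvPolynomial.coeff_sum, MvPolynomial.coeff_C_mul, MvPolynomial.coeff_X,
      Finsupp.single_left_inj] using h1
  refine ⟨Module.Basis.mk hli ?_, fun i => Module.Basis.mk_apply _ _ i⟩
  rintro y -
  obtain ⟨⟨z, hz⟩, rfl⟩ := J.toCotangent_surjective y
  obtain ⟨c, rfl⟩ := Ideal.mem_span_range_iff_exists_fun.mp (hJ ▸ hz)
  rw [← hsum c]
  exact Submodule.sum_mem _ fun i _ => Submodule.smul_mem _ _ (Submodule.subset_span ⟨i, rfl⟩)

end Groth.Agent.S12482
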