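import Groth.Agent.L18.PBundle.Embed
import Groth.Statements.S12485
-- import your own Groth.Agent.* helpers here

set_option autoImplicit false
universe u
open CategoryTheory CategoryTheory.Limits AlgebraicGeometry TopologicalSpace Opposite
open scoped HomogeneousIdeal
open EGA2

namespace Groth.Agent.S12485

/-- Let q : X → Y be a morphism of schemes and L an invertible O_X-module. Suppose there are a
quasi-coherent graded O_Y-algebra 𝒮 generated by its degree-one part, its relative homogeneous
spectrum p : P = Proj(𝒮) → Y (given with its charts over affine opens) with twisting sheaf O_P(1)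
(given with its chart identifications), and an immersion i : X → P with i ≫ p = q such that L is
isomorphic to i^*O_P(1). Then L is very ample relative to q: there are a quasi-coherent O_Y-module E
and a Y-immersion of X into the projective bundle P(E) along which O_{P(E)}(1) pulls back to a
module isomorphic to L. -/
theorem result {X Y P : Scheme.{u}} (q : X ⟶ Y) (L : X.Modules)
    (hL : PicF.IsInvertible L) (𝒮 : RelProj.QCGrAlg Y) (h𝒮 : 𝒮.IsGenDegOne) (p : P ⟶ Y)
    (chart : ∀ (U : Y.Opens) (hU : IsAffineOpen U), ((p ⁻¹ᵁ U : P.Opens) : Scheme.{u}) ≅ Proj (𝒮.deg U hU))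
    (hP : RelProj.IsRelProj 𝒮 p chart) (O1 : P.Modules)
    (lam : ∀ (U : Y.Opens) (hU : IsAffineOpen U),
      O1 ⟶ (Scheme.Modules.pushforward (RelProj.emb p chart U hU)).obj (GrTwist.twist (𝒮.deg U hU) 1))
    (hO1 : RelProj.IsRelTwist 𝒮 p chart 1 O1 lam) (i : X ⟶ P) [IsImmersion i] (hi : i ≫ p = q)
    (e : L ≅ (Scheme.Modules.pullback i).obj O1) : RelProj.IsRelVeryAmple q L := by
  exact Groth.L18.PBundle.isRelVeryAmple_of_immersion h𝒮 hP hO1 i hi e

end Groth.Agent.S12485
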