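import Groth.Statements.S12491
import Groth.Agent.S0564
import Groth.Agent.L04.RegularPd
import Groth.Agent.L04.LC.Torsion
import Mathlib.RingTheory.LocalRing.Module
import Mathlib.RingTheory.Ideal.Height

set_option autoImplicit false
universe u
open VBPn


namespace Groth.Agent.S12491
open CategoryTheory

theorem le_pred {B : Type u} [CommRing B] {X F Y : Type u} [AddCommGroup X] [Module B X] [AddCommGroup F]
    [Module B F] [AddCommGroup Y] [Module B Y] (f : X →ₗ[B] F) (g : F →ₗ[B] Y) (hf : Function.Injective f)
    (hg : Function.Surjective g) (hex : Function.Exact f g) [Module.Projective B F] (n : ℕ)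
    (h : HasProjectiveDimensionLT (ModuleCat.of B Y) (n + 2)) :
    HasProjectiveDimensionLT (ModuleCat.of B X) (n + 1) := by
  have hS := Groth.L04.LC.ses_shortExact (R := B) f g hf hg hex
  exact (hS.hasProjectiveDimensionLT_X₃_iff n
    ((IsProjective.iff_projective (R := B) F).1 inferInstance)).1 h

theorem projective_zero {B : Type u} [CommRing B] (k : ℕ) (N : ℕ → Type u) [∀ i, AddCommGroup (N i)]
    [∀ i, Module B (N i)] (hproj : ∀ i, 1 ≤ i → i ≤ k → Module.Projective B (N i))
    (d : ∀ i, N i →ₗ[B] N (i + 1)) (hinj : Function.Injective (d 0))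
    (hex : ∀ i, i + 1 < k → LinearMap.range (d i) = LinearMap.ker (d (i + 1)))
    (hgl : ∀ M : ModuleCat.{u} B, HasProjectiveDimensionLE M k) : Module.Projective B (N 0) := by
  -- `C j = coker (d j)` for `j + 1 ≤ k`
  have key : ∀ t j, j + t + 1 = k →
      HasProjectiveDimensionLT (ModuleCat.of B (N (j + 1) ⧸ LinearMap.range (d j))) (j + 2) := by
    intro t
    induction t with
    | zero =>
      intro j hj
      subst hj
      exact hgl _
    | succ t ih =>
      intro j hj
      haveI := hproj (j + 1 + 1) (by omega) (by omega)
      have h := ih (j + 1) (by omega)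
      refine le_pred ((LinearMap.range (d j)).liftQ (d (j + 1)) (hex j (by omega)).le)
        (LinearMap.range (d (j + 1))).mkQ ?_ (Submodule.mkQ_surjective _) ?_ (j + 1) h
      · rw [← LinearMap.ker_eq_bot, Submodule.ker_liftQ_eq_bot _ _ _ (hex j (by omega)).ge]
      · rw [LinearMap.exact_iff, Submodule.ker_mkQ, Submodule.range_liftQ]
  rcases Nat.eq_zero_or_pos k with rfl | hk
  · have h := hgl (ModuleCat.of B (N 0))
    exact (IsProjective.iff_projective (R := B) (N 0)).2 (projective_iff_hasProjectiveDimensionLT_one.2 h)
  haveI := hproj 1 le_rfl hk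
  have h := key (k - 1) 0 (by omega)
  exact (IsProjective.iff_projective (R := B) (N 0)).2 (projective_iff_hasProjectiveDimensionLT_one.2
    (le_pred (d 0) (LinearMap.range (d 0)).mkQ hinj (Submodule.mkQ_surjective _)
      (by rw [LinearMap.exact_iff, Submodule.ker_mkQ]) 0 h))

end Groth.Agent.S12491

open CategoryTheory

namespace Groth.Agent.S12491

/-- Let A be a regular local ring, k ≥ 0, and N_0, N_1, … A-modules with N_0 finitely generated and N_1,
…, N_k finitely generated and free, with linear maps d_i : N_i → N_{i+1} such that d_0 is injective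
and the sequence 0 → N_0 → N_1 → ⋯ → N_k is exact. Then for every prime ideal p of A of height at
most k the localization of N_0 at p is a free module over A_p. The published statement is for a
coherent analytic sheaf on a complex manifold that is locally a k-th syzygy sheaf and says its set
of non-free stalks has codimension greater than k; this row is the statement at one stalk, over any
regular local ring. -/
theorem result (A : Type u) [CommRing A] [IsRegularLocalRing A]
    (k : ℕ) (N : ℕ → Type u) [∀ i, AddCommGroup (N i)] [∀ i, Module A (N i)] [Module.Finite A (N 0)]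
    (hfree : ∀ i, 1 ≤ i → i ≤ k → Module.Free A (N i) ∧ Module.Finite A (N i))
    (d : ∀ i, N i →ₗ[A] N (i + 1)) (hinj : Function.Injective (d 0))
    (hex : ∀ i, i + 1 < k → LinearMap.range (d i) = LinearMap.ker (d (i + 1)))
    (p : Ideal A) [p.IsPrime] (hp : p.height ≤ k) :
    Module.Free (Localization.AtPrime p) (LocalizedModule p.primeCompl (N 0)) := by
  let B := Localization.AtPrime p
  haveI : IsRegularLocalRing B := Groth.Agent.S0564.result A p
  obtain ⟨e, he⟩ := Groth.L01.exists_dim_eq_nat (R := B)
  have hek : e ≤ k := by
    have h := IsLocalization.AtPrime.ringKrullDim_eq_height p B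
    rw [he] at h
    have : (e : ℕ∞) ≤ k := by
      have h' : ((e : ℕ∞) : WithBot ℕ∞) = (p.height : WithBot ℕ∞) := h
      exact (WithBot.coe_inj.1 h').le.trans hp
    exact_mod_cast this
  let S := p.primeCompl
  haveI hmf : Module.Finite B (LocalizedModule S (N 0)) := inferInstance
  have hgl : ∀ M : ModuleCat.{u} B, HasProjectiveDimensionLE M k := fun M => by
    haveI := Groth.L04.hasProjectiveDimensionLE_of_regularLocal he M
    exact hasProjectiveDimensionLT_of_ge M (e + 1) (k + 1) (by omega)
  haveI : Module.Projective B (LocalizedModule S (N 0)) := by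
    refine Groth.Agent.S12491.projective_zero k (fun i => LocalizedModule S (N i)) (fun i h1 h2 => ?_)
      (fun i => LocalizedModule.map S (d i)) (LocalizedModule.map_injective S _ hinj) (fun i hi => ?_) hgl
    · haveI := (hfree i h1 h2).1
      infer_instance
    · have h := LinearMap.exact_iff.1 (LocalizedModule.map_exact S _ _ (LinearMap.exact_iff.2 (hex i hi).symm)) |>.symm
      exact SetLike.ext fun x => SetLike.ext_iff.1 h x
  exact Module.free_of_flat_of_isLocalRing

end Groth.Agent.S12491
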