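import Mathlib.RingTheory.Flat.EquationalCriterion
import Mathlib.RingTheory.Derivation.Basic
import Groth.Statements.S12498
import Groth.Agent.L12.DefTriv


set_option autoImplicit false
universe u
open Deform

namespace Groth.Agent.S12498

/-- Let k be an algebraically closed field, A a local Artinian k-algebra with residue field k, and t a
nonzero element of the maximal ideal m_A annihilated by m_A, so that A → A/tA is a small extension.
Let B be a flat A-algebra (a deformation over A of its closed fibre B_0 = B/m_A B), and σ an
A-algebra automorphism of B/tB inducing the identity on B_0. Fix an A-algebra automorphism τ of B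
inducing σ (so τ induces the identity on B_0). Then the A-algebra automorphisms η of B inducing σ
correspond bijectively to the k-derivations d of B_0 through the rule η = τ + t·d, meaning η(b) =
τ(b) + t b′ for all b ∈ B and all b′ ∈ B lifting d applied to the image of b in B_0: every such η
determines a unique d, and every d comes from some such η. (The published statement phrases the
conclusion as a free and transitive action of Der_k(B_0, B_0) on the nonempty set of lifts of σ; the
condition that σ induces the identity on B_0 is expressed here through the chosen lift τ.) -/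
theorem result
    {k : Type u} [Field k] [IsAlgClosed k]
    {A : Type u} [CommRing A] [Algebra k A] [IsLocalRing A] [IsArtinianRing A]
    (hres : ∀ a : A, ∃ c : k, a - algebraMap k A c ∈ IsLocalRing.maximalIdeal A)
    (t : A) (ht : t ∈ IsLocalRing.maximalIdeal A) (ht0 : t ≠ 0)
    (htm : ∀ a ∈ IsLocalRing.maximalIdeal A, a * t = 0)
    {B : Type u} [CommRing B] [Algebra A B] [Module.Flat A B] [Algebra k B] [IsScalarTower k A B]
    (σ : (B ⧸ Ideal.span {algebraMap A B t}) ≃ₐ[A] (B ⧸ Ideal.span {algebraMap A B t}))
    (τ : B ≃ₐ[A] B)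
    (hτ : ∀ b : B, Ideal.Quotient.mk (Ideal.span {algebraMap A B t}) (τ b) =
      σ (Ideal.Quotient.mk (Ideal.span {algebraMap A B t}) b))
    (hτ0 : ∀ b : B, τ b - b ∈ (IsLocalRing.maximalIdeal A).map (algebraMap A B)) :
    (∀ η : B ≃ₐ[A] B, (∀ b : B, Ideal.Quotient.mk (Ideal.span {algebraMap A B t}) (η b) =
        σ (Ideal.Quotient.mk (Ideal.span {algebraMap A B t}) b)) →
      ∃! d : Derivation k (B ⧸ (IsLocalRing.maximalIdeal A).map (algebraMap A B))
          (B ⧸ (IsLocalRing.maximalIdeal A).map (algebraMap A B)),
        ∀ b b' : B, Ideal.Quotient.mk ((IsLocalRing.maximalIdeal A).map (algebraMap A B)) b' =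
            d (Ideal.Quotient.mk ((IsLocalRing.maximalIdeal A).map (algebraMap A B)) b) →
          η b = τ b + algebraMap A B t * b') ∧
    (∀ d : Derivation k (B ⧸ (IsLocalRing.maximalIdeal A).map (algebraMap A B))
        (B ⧸ (IsLocalRing.maximalIdeal A).map (algebraMap A B)),
      ∃ η : B ≃ₐ[A] B, (∀ b : B, Ideal.Quotient.mk (Ideal.span {algebraMap A B t}) (η b) =
          σ (Ideal.Quotient.mk (Ideal.span {algebraMap A B t}) b)) ∧
        ∀ b b' : B, Ideal.Quotient.mk ((IsLocalRing.maximalIdeal A).map (algebraMap A B)) b' =
            d (Ideal.Quotient.mk ((IsLocalRing.maximalIdeal A).map (algebraMap A B)) b) →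
          η b = τ b + algebraMap A B t * b') := by
  classical
  have htt : t * t = 0 := htm t ht
  obtain ⟨m, hmdef⟩ : ∃ m, m = (IsLocalRing.maximalIdeal A).map (algebraMap A B) := ⟨_, rfl⟩
  rw [← hmdef] at hτ0 ⊢
  have hann : ∀ c : B, algebraMap A B t * c = 0 ↔ c ∈ m := fun c => by
    subst hmdef
    constructor
    · intro h
      obtain ⟨l, a, y, hay, hfa⟩ := Module.Flat.isTrivialRelation_of_sum_smul_eq_zero
        (R := A) (f := fun _ : Unit => t) (x := fun _ : Unit => c) (by simpa [Algebra.smul_def] using h)
      rw [show c = _ from hay ()]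
      refine Ideal.sum_mem _ fun j _ => ?_
      rw [Algebra.smul_def]
      refine Ideal.mul_mem_right _ _ (Ideal.mem_map_of_mem _ ?_)
      rw [IsLocalRing.mem_maximalIdeal]
      intro hu
      exact ht0 (hu.mul_left_eq_zero.1 (by simpa using hfa j))
    · intro h
      rw [Ideal.map] at h
      refine Submodule.span_induction ?_ (mul_zero _) ?_ ?_ h
      · rintro - ⟨a, ha, rfl⟩
        rw [← map_mul, mul_comm, htm a ha, map_zero]
      · intro x y _ _ hx hy
        rw [mul_add, hx, hy, add_zero]
      · intro r x _ hx
        rw [smul_eq_mul, mul_left_comm, hx, mul_zero]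
  have hT : algebraMap A B t ∈ m := by
    rw [← hann, ← map_mul, htt, map_zero]
  have hτm : ∀ b : B, Ideal.Quotient.mk m (τ b) = Ideal.Quotient.mk m b := fun b =>
    Ideal.Quotient.eq.2 (hτ0 b)
  constructor
  · intro η hη
    have hex : ∀ b, ∃ c, algebraMap A B t * c = η b - τ b := fun b => by
      obtain ⟨c, hc⟩ := Ideal.mem_span_singleton'.1 (Ideal.Quotient.eq.1 ((hη b).trans (hτ b).symm))
      exact ⟨c, by rw [mul_comm]; exact hc⟩
    choose c hc using hex
    have huniq : ∀ b x, algebraMap A B t * x = η b - τ b → Ideal.Quotient.mk m (c b) = Ideal.Quotient.mk m x := fun b x hx => by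
      rw [Ideal.Quotient.eq, ← hann, mul_sub, hc, hx, sub_self]
    have hηm : ∀ b, Ideal.Quotient.mk m (η b) = Ideal.Quotient.mk m b := fun b => by
      rw [← hτm b, Ideal.Quotient.eq, ← hc b]
      exact Ideal.mul_mem_right _ _ hT
    let δ : B →+ (B ⧸ m) :=
      { toFun := fun b => Ideal.Quotient.mk m (c b)
        map_zero' := (huniq 0 0 (by simp)).trans (map_zero _)
        map_add' := fun x y => (huniq (x + y) (c x + c y) (by rw [mul_add, hc, hc, map_add, map_add]; ring)).trans
          (map_add _ _ _) }
    have hδker : ∀ b ∈ m, δ b = 0 := fun b hb => by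
      rw [hmdef, Ideal.map] at hb
      have hmul : ∀ r x : B, δ (r * x) = Ideal.Quotient.mk m r * δ x + Ideal.Quotient.mk m x * δ r := fun r x => by
        refine (huniq (r * x) (η r * c x + τ x * c r) ?_).trans ?_
        · rw [mul_add, mul_left_comm, hc, mul_left_comm, hc, map_mul, map_mul]
          ring
        · rw [map_add, map_mul, map_mul, hηm, hτm]
          rfl
      refine (Submodule.span_induction (p := fun x _ => δ x = 0 ∧ Ideal.Quotient.mk m x = 0) ?_ ⟨map_zero _, map_zero _⟩ ?_ ?_ hb).1
      · rintro - ⟨a, ha, rfl⟩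
        refine ⟨(huniq _ 0 (by simp)).trans (map_zero _), Ideal.Quotient.eq_zero_iff_mem.2 ?_⟩
        rw [hmdef]
        exact Ideal.mem_map_of_mem _ ha
      · intro x y _ _ hx hy
        exact ⟨by rw [map_add, hx.1, hy.1, add_zero], by rw [map_add, hx.2, hy.2, add_zero]⟩
      · intro r x _ hx
        refine ⟨?_, by rw [smul_eq_mul, map_mul, hx.2, mul_zero]⟩
        rw [smul_eq_mul, hmul, hx.1, hx.2, mul_zero, zero_mul, add_zero]
    have hwd : ∀ x y, Ideal.Quotient.mk m x = Ideal.Quotient.mk m y → δ x = δ y := fun x y h => by
      rw [← sub_eq_zero, ← map_sub]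
      exact hδker _ (Ideal.Quotient.eq.1 h)
    let d' : (B ⧸ m) → (B ⧸ m) := fun z => δ (Function.surjInv Ideal.Quotient.mk_surjective z)
    have hd' : ∀ b, d' (Ideal.Quotient.mk m b) = δ b := fun b =>
      hwd _ _ (Function.surjInv_eq Ideal.Quotient.mk_surjective _)
    let dl : (B ⧸ m) →ₗ[k] (B ⧸ m) :=
      { toFun := d'
        map_add' := fun x y => by
          obtain ⟨x, rfl⟩ := Ideal.Quotient.mk_surjective x
          obtain ⟨y, rfl⟩ := Ideal.Quotient.mk_surjective y
          rw [← map_add, hd', hd', hd', map_add]
        map_smul' := fun r x => by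
          obtain ⟨x, rfl⟩ := Ideal.Quotient.mk_surjective x
          rw [← Ideal.Quotient.mk_eq_mk, ← Submodule.Quotient.mk_smul, Ideal.Quotient.mk_eq_mk,
            Ideal.Quotient.mk_eq_mk, hd', hd', RingHom.id_apply]
          refine (huniq (r • x) (r • c x) ?_).trans (Submodule.Quotient.mk_smul m r (c x))
          rw [mul_smul_comm, hc, smul_sub, ← algebraMap_smul A r x, map_smul, map_smul, algebraMap_smul, algebraMap_smul] }
    have hdl : ∀ b, dl (Ideal.Quotient.mk m b) = δ b := hd'
    refine ⟨Derivation.mk' dl fun x y => ?_, fun b b' hb' => ?_, fun d hd => ?_⟩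
    · obtain ⟨x, rfl⟩ := Ideal.Quotient.mk_surjective x
      obtain ⟨y, rfl⟩ := Ideal.Quotient.mk_surjective y
      rw [← map_mul, hdl, hdl, hdl, smul_eq_mul, smul_eq_mul]
      refine (huniq (x * y) (η x * c y + τ y * c x) ?_).trans ?_
      · rw [mul_add, mul_left_comm, hc, mul_left_comm, hc, map_mul, map_mul]
        ring
      · rw [map_add, map_mul, map_mul, hηm, hτm]
        rfl
    · have h1 : Ideal.Quotient.mk m b' = Ideal.Quotient.mk m (c b) := hb'.trans (hd' b)
      have h2 := (hann (b' - c b)).2 (Ideal.Quotient.eq.1 h1)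
      rw [mul_sub, hc] at h2
      linear_combination -h2
    · refine Derivation.ext fun x => ?_
      obtain ⟨b, rfl⟩ := Ideal.Quotient.mk_surjective x
      obtain ⟨b', hb'⟩ := Ideal.Quotient.mk_surjective (d (Ideal.Quotient.mk m b))
      have h1 := hd b b' hb'
      rw [← hb']
      exact ((hdl b).trans (huniq b b' (by rw [h1]; ring))).symm
  · intro d
    choose c hc using fun b => Ideal.Quotient.mk_surjective (d (Ideal.Quotient.mk m b))
    have huniq : ∀ b x, Ideal.Quotient.mk m x = d (Ideal.Quotient.mk m b) →
        algebraMap A B t * c b = algebraMap A B t * x := fun b x hx => by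
      rw [← sub_eq_zero, ← mul_sub, hann, ← Ideal.Quotient.eq, hc, hx]
    have hTT : algebraMap A B t * algebraMap A B t = 0 := by rw [← map_mul, htt, map_zero]
    let e : B →ₐ[A] B :=
      { toFun := fun b => τ b + algebraMap A B t * c b
        map_one' := by
          rw [huniq 1 0 (by rw [map_zero, map_one, Derivation.map_one_eq_zero]), mul_zero, add_zero, map_one]
        map_mul' := fun x y => by
          rw [huniq (x * y) (τ x * c y + τ y * c x) (by
            rw [map_add, map_mul, map_mul, hτm, hτm, hc, hc, map_mul, Derivation.leibniz, smul_eq_mul, smul_eq_mul]),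
            map_mul]
          linear_combination -(c x * c y) * hTT
        map_zero' := by
          rw [huniq 0 0 (by rw [map_zero, map_zero]), mul_zero, add_zero, map_zero]
        map_add' := fun x y => by
          rw [huniq (x + y) (c x + c y) (by rw [map_add, map_add, map_add, hc, hc]), map_add]
          ring
        commutes' := fun a => by
          rw [huniq (algebraMap A B a) 0 ?_, mul_zero, add_zero, AlgEquiv.commutes]
          obtain ⟨r, hr⟩ := hres a
          have h1 : Ideal.Quotient.mk m (algebraMap A B a) = algebraMap k (B ⧸ m) r := by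
            rw [IsScalarTower.algebraMap_apply k B (B ⧸ m), IsScalarTower.algebraMap_apply k A B,
              Ideal.Quotient.algebraMap_eq, Ideal.Quotient.eq, ← map_sub, hmdef]
            exact Ideal.mem_map_of_mem _ hr
          rw [h1, Derivation.map_algebraMap, map_zero] }
    have he : ∀ b, e b = τ b + algebraMap A B t * c b := fun b => rfl
    have hbij : Function.Bijective e := by
      have h := Groth.L12.bijective_of_congr_id t htt (τ.symm.toAlgHom.comp e) fun b => by
        change τ.symm (e b) - b ∈ _
        rw [he, map_add, AlgEquiv.symm_apply_apply, map_mul, AlgEquiv.commutes, add_sub_cancel_left]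
        exact Ideal.mul_mem_right _ _ (Ideal.mem_span_singleton_self _)
      have h2 : (e : B → B) = τ ∘ (τ.symm.toAlgHom.comp e) := funext fun b => (τ.apply_symm_apply (e b)).symm
      rw [h2]
      exact τ.bijective.comp h
    refine ⟨AlgEquiv.ofBijective e hbij, fun b => ?_, fun b b' hb' => ?_⟩
    · rw [← hτ b, Ideal.Quotient.eq]
      change e b - τ b ∈ _
      rw [he, add_sub_cancel_left]
      exact Ideal.mul_mem_right _ _ (Ideal.mem_span_singleton_self _)
    · change e b = _
      rw [he, huniq b b' hb']
end Groth.Agent.S12498
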