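import Groth.Statements.S1250
import Groth.Agent.L20.RG.Transfer

set_option autoImplicit false
universe u
open FlatMor

set_option backward.isDefEq.respectTransparency.types false
set_option linter.style.haveILetI false
namespace Groth.Agent.S1250

/-- Given an elementary dévissage E of N at q over p in dimension n, the following are equivalent: N_q
is flat over R; G_z is flat over R'; G_y (G viewed as a D-module) is flat over R'. Also equivalent
to each other: N becomes flat over R on some basic open D(g) ∋ q of Spec S; G becomes flat over R'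
on some basic open of Spec C containing z; G as a D-module becomes flat over R' on some basic open
of Spec D containing y. -/
theorem result {R S : Type u} [CommRing R] [CommRing S] [Algebra R S] [Algebra.FiniteType R S]
    (N : Type u) [AddCommGroup N] [Module S N] [Module R N] [IsScalarTower R S N] [Module.Finite S N]
    (p : Ideal R) [p.IsPrime] (q : Ideal S) [q.IsPrime] [q.LiesOver p] (n : ℕ) (E : FlatCA.ElemDevissage R S N p q n) :
    [FlatCA.FlatAt R q N, FlatCA.FlatAt E.R' E.z E.G, FlatCA.FlatAt E.R' E.y E.G].TFAE ∧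
    [∃ g : S, g ∉ q ∧ Module.Flat R (LocalizedModule (Submonoid.powers g) N),
     ∃ g : E.C, g ∉ E.z ∧ Module.Flat E.R' (LocalizedModule (Submonoid.powers g) E.G),
     ∃ g : E.D, g ∉ E.y ∧ Module.Flat E.R' (LocalizedModule (Submonoid.powers g) E.G)].TFAE := by
  haveI hS : Algebra.Etale S E.S' := E.etaleS.1
  haveI hR : Algebra.Etale R E.R' := E.etaleR.1
  haveI : Module.Flat S E.S' := Algebra.Smooth.flat S E.S'
  haveI := E.finiteDC
  haveI hqq : E.q'.LiesOver q := E.etaleS.2.1
  letI : Module R E.N' := Module.compHom E.N' (algebraMap R E.S')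
  letI : Module E.R' E.N' := Module.compHom E.N' (algebraMap E.R' E.S')
  haveI : IsScalarTower R E.S' E.N' := IsScalarTower.of_algebraMap_smul fun _ _ => rfl
  haveI : IsScalarTower E.R' E.S' E.N' := IsScalarTower.of_algebraMap_smul fun _ _ => rfl
  haveI : IsScalarTower R E.R' E.N' := IsScalarTower.of_algebraMap_smul fun r m => by
    show algebraMap E.R' E.S' (algebraMap R E.R' r) • m = algebraMap R E.S' r • m
    rw [← IsScalarTower.algebraMap_apply]
  haveI : IsScalarTower E.R' E.S' E.G := IsScalarTower.of_algebraMap_smul fun r g => by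
    rw [← algebraMap_smul E.C (algebraMap E.R' E.S' r) g, ← IsScalarTower.algebraMap_apply, algebraMap_smul]
  -- `N'` and `G`
  have key : ∀ (T : Submonoid E.S') (T' : Submonoid E.C), T' = T.map (algebraMap E.S' E.C) →
      (Module.Flat R (LocalizedModule T E.N') ↔ Module.Flat E.R' (LocalizedModule T' E.G)) := by
    intro T T' hT
    haveI := Groth.L20.RG.isScalarTower_localizedModule (R := R) (R' := E.R') (M := E.N') T
    rw [Groth.L20.RG.flat_iff_of_etale (R' := E.R'), Groth.L20.RG.flat_localized_iff_of_equiv E.iso T]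
    exact Groth.L20.RG.flat_localized_iff_of_surjective T T' hT
  have hz : E.z.primeCompl = E.q'.primeCompl.map (algebraMap E.S' E.C) := by
    ext c
    constructor
    · intro hc
      obtain ⟨s, rfl⟩ := E.surjC c
      exact ⟨s, fun h => hc ((Ideal.mem_of_liesOver E.z E.q' s).mp h), rfl⟩
    · rintro ⟨s, hs, rfl⟩ h
      exact hs ((Ideal.mem_of_liesOver E.z E.q' s).mpr h)
  have hlift : ∀ g : E.C, g ∉ E.z → ∃ s : E.S', s ∉ E.q' ∧ algebraMap E.S' E.C s = g := fun g hg => by
    obtain ⟨s, rfl⟩ := E.surjC g
    exact ⟨s, fun h => hg ((Ideal.mem_of_liesOver E.z E.q' s).mp h), rfl⟩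
  refine ⟨?_, ?_⟩
  · tfae_have 1 ↔ 2 := by
      unfold FlatCA.FlatAt
      rw [← key E.q'.primeCompl E.z.primeCompl hz]
      constructor
      · intro h
        haveI : Module.Flat R (LocalizedModule (E.q'.comap (algebraMap S E.S')).primeCompl N) := by
          have : E.q'.comap (algebraMap S E.S') = q := (Ideal.LiesOver.over (P := E.q') (p := q)).symm
          convert h
        exact Groth.L20.AboveClosed.flat_of_flat_below E.f E.isBaseChange E.q'
      · intro h
        exact Groth.L20.AboveClosed.flat_of_flat_above E.f E.isBaseChange E.q' q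
          (Ideal.LiesOver.over (P := E.q') (p := q)).symm
    tfae_have 3 → 2 := fun h => by
      unfold FlatCA.FlatAt at h ⊢
      haveI : Module.Flat E.R' (LocalizedModule (E.z.comap (algebraMap E.D E.C)).primeCompl E.G) := by
        have : E.z.comap (algebraMap E.D E.C) = E.y := (Ideal.LiesOver.over (P := E.z) (p := E.y)).symm
        convert h
      exact Groth.L20.AboveClosed.flat_above_of_flat (B' := E.D) E.z
    tfae_have 2 → 3 := fun h => by
      refine Groth.L20.AboveClosed.flat_of_forall_above (C' := E.C) E.y fun Q _ hQ => ?_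
      obtain rfl := E.uniq Q ⟨hQ.symm⟩
      exact h
    tfae_finish
  · tfae_have 1 → 2 := fun ⟨g, hgq, hg⟩ => by
      let g' := algebraMap S E.S' g
      have hg' : g' ∉ E.q' := fun h => hgq ((Ideal.mem_of_liesOver E.q' q g).mpr h)
      refine ⟨algebraMap E.S' E.C g', fun h => hg' ((Ideal.mem_of_liesOver E.z E.q' g').mpr h), ?_⟩
      rw [← key (Submonoid.powers g') _ (Submonoid.map_powers _ g').symm, Groth.L20.RG.flat_away_iff]
      intro Q _ hQ
      haveI := (Groth.L20.RG.flat_away_iff g).mp hg (Q.comap (algebraMap S E.S')) hQ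
      exact Groth.L20.AboveClosed.flat_of_flat_below E.f E.isBaseChange Q
    tfae_have 2 → 1 := fun ⟨g, hgz, hg⟩ => by
      obtain ⟨s, hs, rfl⟩ := hlift g hgz
      rw [← key (Submonoid.powers s) _ (Submonoid.map_powers _ s).symm, Groth.L20.RG.flat_away_iff] at hg
      obtain ⟨h, hhq, hh⟩ := Groth.L20.RG.exists_basicOpen_image q E.q' hs
      refine ⟨h, hhq, (Groth.L20.RG.flat_away_iff h).mpr fun Q _ hQ => ?_⟩
      obtain ⟨Q', hQ'p, hQ'Q, hQ's⟩ := hh Q hQ
      haveI := hQ'p
      haveI := hg Q' hQ's
      exact Groth.L20.AboveClosed.flat_of_flat_above E.f E.isBaseChange Q' Q (Ideal.LiesOver.over (P := Q') (p := Q)).symm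
    tfae_have 3 → 2 := fun ⟨h, hhy, hh⟩ => by
      refine ⟨algebraMap E.D E.C h, fun h' => hhy ((Ideal.mem_of_liesOver E.z E.y h).mpr h'), ?_⟩
      rw [Groth.L20.RG.flat_away_iff] at hh ⊢
      intro Q _ hQ
      haveI := hh (Q.comap (algebraMap E.D E.C)) hQ
      exact Groth.L20.AboveClosed.flat_above_of_flat (B' := E.D) Q
    tfae_have 2 → 3 := fun ⟨g, hgz, hg⟩ => by
      obtain ⟨h, hhy, hdvd⟩ := Groth.L20.RG.exists_notMem_dvd E.y E.z E.uniq hgz
      refine ⟨h, hhy, (Groth.L20.RG.flat_away_iff h).mpr fun P _ hP =>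
        Groth.L20.AboveClosed.flat_of_forall_above (C' := E.C) P fun Q _ hQ => ?_⟩
      refine (Groth.L20.RG.flat_away_iff g).mp hg Q fun hgQ => hP ?_
      rw [← hQ]
      show algebraMap E.D E.C h ∈ Q
      exact Ideal.mem_of_dvd Q hdvd hgQ
    tfae_finish


end Groth.Agent.S1250
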