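import Groth.Statements.S12500
import Groth.Agent.L26.DimOne.GaBridge
import Groth.Agent.L25.Bridge.Lift
import Groth.Agent.S7976
import Groth.Agent.S1627
import Groth.Agent.L26.AV.Isogeny
import Groth.Agent.L08.Cube.SliceFibre

set_option autoImplicit false
universe u
open CategoryTheory AlgebraicGeometry
open Neron

namespace Groth.Agent.S12500

set_option maxHeartbeats 1600000
set_option backward.isDefEq.respectTransparency.types false
open CategoryTheory.Limits

/-- Let k be an algebraically closed field and G a k-group scheme whose underlying scheme is integral,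
separated and of finite type over k and has dimension one. Then either G is isomorphic to G_a as a
k-group scheme, or G is isomorphic to G_m as a k-group scheme, or G is proper over k and its group
law is commutative. (The published third alternative says G is an elliptic curve, i.e. a smooth
proper curve of genus one whose group-variety law is the elliptic-curve addition with origin the
identity; this row records properness and the commutativity that the printed proof establishes.) -/
theorem result (k : Type u) [Field k] [IsAlgClosed k]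
    (G : Over (Spec (CommRingCat.of k))) [GrpObj G] [IsIntegral G.left]
    [IsSeparated G.hom] [LocallyOfFiniteType G.hom] [QuasiCompact G.hom]
    (hdim : topologicalKrullDim ↥G.left = 1) :
    Nonempty (Grp.mk G ≅ Grp.mk (Red.Ga (Spec (CommRingCat.of k)))) ∨
      Nonempty (Grp.mk G ≅ Grp.mk (Red.Gm (Spec (CommRingCat.of k)))) ∨
      (IsProper G.hom ∧ IsCommMonObj G) := by
  letI : G.left.Over (Spec (CommRingCat.of k)) := ⟨G.hom⟩
  haveI : IsSeparated (G.left ↘ Spec (CommRingCat.of k)) := ‹IsSeparated G.hom›
  haveI : LocallyOfFiniteType (G.left ↘ Spec (CommRingCat.of k)) := ‹LocallyOfFiniteType G.hom›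
  haveI : QuasiCompact (G.left ↘ Spec (CommRingCat.of k)) := ‹QuasiCompact G.hom›
  rcases Groth.Agent.S1627.result k G.left hdim with haff | ⟨d, c, hc, hck⟩
  · haveI := haff
    obtain ⟨A, _, _, ⟨e⟩⟩ := Groth.L25.Bridge.exists_hopf G
    let eo : G ≅ Groth.L25.Bridge.P k A := (Grp.forget _).mapIso e
    let es : G.left ≅ Spec (CommRingCat.of A) := (Over.forget _).mapIso eo
    haveI : IsIntegral (Spec (CommRingCat.of A)) := .of_isIso es.hom
    haveI : IsDomain A := (affine_isIntegral_iff (CommRingCat.of A)).1 inferInstance
    haveI : LocallyOfFiniteType (Spec.map (CommRingCat.ofHom (algebraMap k A))) := by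
      have h : es.inv ≫ G.hom = Spec.map (CommRingCat.ofHom (algebraMap k A)) := Over.w eo.inv
      rw [← h]; infer_instance
    haveI : Algebra.FiniteType k A :=
      RingHom.finiteType_algebraMap.1 ((HasRingHomProperty.Spec_iff (P := @LocallyOfFiniteType) (φ := CommRingCat.ofHom (algebraMap k A))).1 inferInstance)
    have hA : ringKrullDim A = 1 := by
      rw [← PrimeSpectrum.topologicalKrullDim_eq_ringKrullDim, ← hdim]
      exact ((es.hom.homeomorph).isHomeomorph.topologicalKrullDim_eq).symm
    rcases Groth.Agent.S7976.result k A (fun x hx => IsIdempotentElem.iff_eq_zero_or_one.1 hx) hA with ⟨f⟩ | ⟨f⟩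
    · obtain ⟨f⟩ := f
      exact Or.inr (Or.inl ⟨e ≪≫ Groth.L25.Bridge.mapIso f.symm ≪≫ (Groth.L25.Bridge.dsIso k ℤ).symm ≪≫
        (Iso.refl _ : Grp.mk (Red.DS (Spec (CommRingCat.of k)) ℤ) ≅ Grp.mk (Red.Gm (Spec (CommRingCat.of k))))⟩)
    · obtain ⟨f⟩ := f
      exact Or.inl ⟨e ≪≫ Groth.L25.Bridge.mapIso f.symm ≪≫ (Groth.L26.DimOne.gaIso k).symm⟩
  · haveI := hc
    haveI : IsProper G.hom := by
      change IsProper (G.left ↘ Spec (CommRingCat.of k))
      rw [← hck]; infer_instance
    haveI : GeometricallyIntegral G.hom := Groth.L08.Cube.geometricallyIntegral_of_isAlgClosed G.hom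
    exact Or.inr (Or.inr ⟨inferInstance, isCommMonObj_of_isProper_of_geometricallyIntegral G⟩)

end Groth.Agent.S12500
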