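import Groth.Statements.S12508
import Groth.Agent.L29.DCoh.QCohColim

set_option autoImplicit false
set_option backward.isDefEq.respectTransparency false
universe u
open CategoryTheory CategoryTheory.Limits AlgebraicGeometry
attribute [local instance] HasDerivedCategory.standard
open Perf

namespace Groth.Agent.S12508

/-- Let f : X ⟶ Y be a quasi-compact quasi-separated morphism of schemes and assume the unbounded
derived direct image Rf_* exists. Let J be a small filtered category and C : J ⥤ (cochain complexes
of O_X-modules) a diagram such that every complex C_j has quasi-coherent cohomology sheaves in all
degrees, with colimit colim C in the category of complexes. Then for every integer i, applying H^i ∘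
Rf_* to the colimit cocone yields a colimit cocone of O_Y-modules. (The published corollary is
stated for any plump subcategory of modules stable under filtered colimits on which Rf_* is bounded
above; the accompanying remark says that the quasi-coherent modules qualify, over a quasi-compact
base by the boundedness of Rf_* on complexes with quasi-coherent cohomology and over any base by
working over affine opens; this row is that case.) -/
theorem result {X Y : Scheme.{u}} (f : X ⟶ Y) [QuasiCompact f]
    [QuasiSeparated f] [DCoh.HasRpush f] {J : Type u} [SmallCategory J] [IsFiltered J]
    (C : J ⥤ CochainComplex X.Modules ℤ) [HasColimit C] (hC : ∀ j : J, DCoh.IsQCohD (DCoh.toD X (C.obj j))) (i : ℤ) :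
    Nonempty (IsColimit ((DerivedCategory.Q ⋙ DCoh.Rpush f ⋙ DerivedCategory.homologyFunctor Y.Modules i).mapCocone
      (colimit.cocone C))) := by
  exact Groth.L29.DC.QCohColim.isColimit_G0_qcoh f C (colimit.cocone C) (colimit.isColimit C) hC i

end Groth.Agent.S12508
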