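import Groth.Statements.S1251
import Groth.Agent.L20.RG.TransferFp
import Groth.Agent.L20.RG.StepFacts

set_option autoImplicit false
universe u
open FlatMor

set_option backward.isDefEq.respectTransparency.types false
set_option linter.style.haveILetI false
namespace Groth.Agent.S1251

/-- Given an elementary dévissage E of N at q over p in dimension n, with S of finite presentation over
R: the finite map D → C is of finite presentation; the following are equivalent: N_q is a finitely
presented S_q-module; G_z is a finitely presented C_z-module; G_y is a finitely presented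
D_y-module. Also equivalent to each other: N is finitely presented on some basic open of Spec S
containing q; G is finitely presented on some basic open of Spec C containing z; G as a D-module is
finitely presented on some basic open of Spec D containing y. -/
theorem result {R S : Type u} [CommRing R] [CommRing S] [Algebra R S] [Algebra.FinitePresentation R S]
    (N : Type u) [AddCommGroup N] [Module S N] [Module R N] [IsScalarTower R S N] [Module.Finite S N]
    (p : Ideal R) [p.IsPrime] (q : Ideal S) [q.IsPrime] [q.LiesOver p] (n : ℕ) (E : FlatCA.ElemDevissage R S N p q n) :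
    Algebra.FinitePresentation E.D E.C ∧
    [Module.FinitePresentation (Localization.AtPrime q) (LocalizedModule q.primeCompl N),
     Module.FinitePresentation (Localization.AtPrime E.z) (LocalizedModule E.z.primeCompl E.G),
     Module.FinitePresentation (Localization.AtPrime E.y) (LocalizedModule E.y.primeCompl E.G)].TFAE ∧
    [∃ g : S, g ∉ q ∧ Module.FinitePresentation (Localization.Away g) (LocalizedModule (Submonoid.powers g) N),
     ∃ g : E.C, g ∉ E.z ∧ Module.FinitePresentation (Localization.Away g) (LocalizedModule (Submonoid.powers g) E.G),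
     ∃ g : E.D, g ∉ E.y ∧ Module.FinitePresentation (Localization.Away g) (LocalizedModule (Submonoid.powers g) E.G)].TFAE := by
  haveI hS : Algebra.Etale S E.S' := E.etaleS.1
  haveI hR : Algebra.Etale R E.R' := E.etaleR.1
  haveI hqq : E.q'.LiesOver q := E.etaleS.2.1
  haveI : Module.Flat S E.S' := Algebra.Smooth.flat S E.S'
  haveI := E.finiteDC
  haveI := E.fpC
  haveI : Algebra.FinitePresentation R E.S' := Algebra.FinitePresentation.trans R S E.S'
  haveI : Algebra.FiniteType R E.R' := inferInstance
  haveI : Algebra.FinitePresentation E.R' E.S' := Algebra.FinitePresentation.of_restrict_scalars_finitePresentation R E.R' E.S'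
  haveI : Algebra.FinitePresentation E.R' E.C := Algebra.FinitePresentation.trans E.R' E.S' E.C
  haveI : Algebra.Smooth E.R' E.D := Groth.L20.RG.smooth_of_relDim E.smooth
  haveI hDC : Algebra.FinitePresentation E.D E.C := Algebra.FinitePresentation.of_restrict_scalars_finitePresentation E.R' E.D E.C
  haveI : Module.Finite E.S' E.C := Module.Finite.of_surjective (Algebra.linearMap E.S' E.C) E.surjC
  have huniq : ∀ (z₁ : Ideal E.C) [z₁.IsPrime], z₁.LiesOver E.q' → z₁ = E.z := fun z₁ _ h₁ => by
    refine Ideal.comap_injective_of_surjective _ E.surjC ?_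
    exact (h₁.over).symm.trans (Ideal.LiesOver.over (P := E.z) (p := E.q'))
  refine ⟨hDC, ?_, ?_⟩
  · tfae_have 1 ↔ 2 := by
      letI := Localization.AtPrime.algebraOfLiesOver q E.q'
      haveI : Module.Flat E.S' (Localization.AtPrime E.q') := IsLocalization.flat _ E.q'.primeCompl
      haveI : Module.Flat S (Localization.AtPrime E.q') := Module.Flat.trans S E.S' _
      haveI : Module.Flat (Localization.AtPrime q) (Localization.AtPrime E.q') :=
        (Module.flat_iff_of_isLocalization (Localization.AtPrime q) q.primeCompl _).2 inferInstance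
      haveI : Module.FaithfullyFlat (Localization.AtPrime q) (Localization.AtPrime E.q') :=
        Module.FaithfullyFlat.of_flat_of_isLocalHom
      rw [Groth.L20.RG.fpLoc_iff, Groth.L20.RG.fpLoc_iff,
        ← Groth.L20.RG.fp_atPrime_iff E.q' E.z huniq, ← Groth.L20.RG.fp_congr E.iso,
        ← Groth.L20.RG.fp_baseChange_iff E.f E.isBaseChange]
      exact ⟨Groth.L20.RG.fp_of_algebra _ _, Groth.L20.RG.fp_descent _ _⟩
    tfae_have 3 ↔ 2 := by
      rw [Groth.L20.RG.fpLoc_iff, Groth.L20.RG.fpLoc_iff, Groth.L20.RG.fp_atPrime_iff E.y E.z E.uniq]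
    tfae_finish
  · simp only [Groth.L20.RG.fpLoc_iff]
    tfae_have 1 → 2 := fun ⟨g, hgq, hg⟩ => by
      let g' := algebraMap S E.S' g
      have hg' : g' ∉ E.q' := fun h => hgq ((Ideal.mem_of_liesOver E.q' q g).mpr h)
      refine ⟨algebraMap E.S' E.C g', fun h => hg' ((Ideal.mem_of_liesOver E.z E.q' g').mpr h), ?_⟩
      rw [← Groth.L20.RG.fp_away_iff g', ← Groth.L20.RG.fp_congr E.iso, ← Groth.L20.RG.fp_baseChange_iff E.f E.isBaseChange]
      exact Groth.L20.RG.fp_away_baseChange g hg
    tfae_have 2 → 1 := fun ⟨g, hgz, hg⟩ => by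
      obtain ⟨s, rfl⟩ := E.surjC g
      rw [← Groth.L20.RG.fp_away_iff s, ← Groth.L20.RG.fp_congr E.iso, ← Groth.L20.RG.fp_baseChange_iff E.f E.isBaseChange] at hg
      obtain ⟨h, hhq, hh⟩ := Groth.L20.RG.exists_basicOpen_image q E.q' (g := s)
        fun hs => hgz ((Ideal.mem_of_liesOver E.z E.q' s).mp hs)
      exact ⟨h, hhq, Groth.L20.RG.fp_away_descent s h hh hg⟩
    tfae_have 3 → 2 := fun ⟨h, hhy, hh⟩ =>
      ⟨algebraMap E.D E.C h, fun h' => hhy ((Ideal.mem_of_liesOver E.z E.y h).mpr h'),
        (Groth.L20.RG.fp_away_iff h).mp hh⟩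
    tfae_have 2 → 3 := fun ⟨g, hgz, hg⟩ => by
      obtain ⟨h, hhy, hdvd⟩ := Groth.L20.RG.exists_notMem_dvd E.y E.z E.uniq hgz
      exact ⟨h, hhy, (Groth.L20.RG.fp_away_iff h).mpr (Groth.L20.RG.fp_away_of_dvd hdvd hg)⟩
    tfae_finish


end Groth.Agent.S1251
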