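import Groth.Statements.S12510
import Groth.Agent.L29.DCoh.TensorAssoc

set_option autoImplicit false
set_option backward.isDefEq.respectTransparency false
universe u
open CategoryTheory
attribute [local instance] HasDerivedCategory.standard
open DCoh

namespace Groth.Agent.S12510

open AlgebraicGeometry in
/-- For schemes and with the complex L K-flat. Let X be a scheme and K, L cochain complexes of
O_X-modules with L K-flat, so that K ⊗^L L is the total tensor complex K ⊗ L; take the derived
tensor functors − ⊗^L K, − ⊗^L L, − ⊗^L (K ⊗ L) and their right adjoints RHom under their existence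
binders. Then the functors RHom(K ⊗ L, −) and RHom(K, RHom(L, −)) from D(O_X) to itself are
isomorphic. (The published statement is a natural isomorphism of triangulated functors in all three
variables on a ringed space; this row asserts the existence of an isomorphism of functors in the
last variable, which refines the objectwise statement.) -/
theorem result {X : Scheme.{u}} (K L : CochainComplex X.Modules ℤ) (hL : DCoh.IsKFlat L)
    [DCoh.HasLTensorCx K] [DCoh.HasRSheafHom K] [DCoh.HasLTensorCx L] [DCoh.HasRSheafHom L]
    [DCoh.HasLTensorCx ((DCoh.tensorCx.obj K).obj L)] [DCoh.HasRSheafHom ((DCoh.tensorCx.obj K).obj L)] :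
    Nonempty (DCoh.RSheafHom ((DCoh.tensorCx.obj K).obj L) ≅ DCoh.RSheafHom L ⋙ DCoh.RSheafHom K) := by
  exact Groth.L29.DC.Assoc.nonempty_RSheafHom_comp K L hL

end Groth.Agent.S12510
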