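import Groth.Statements.S12515
import Groth.Agent.L26.FF.Quadratic
import Groth.Agent.L26.FF.Hyperelliptic

set_option autoImplicit false
open FunFld

namespace Groth.Agent.S12515

/-- If `char k ≠ 2` and `K` has degree `2` over the rational function field `k(x)`, then `K = k(x)(y)`
for some `y` with `y² = f(x)`, `f` a squarefree polynomial over `k`. -/
theorem result (k K : Type*) [Field k] [Field K] (h2 : ringChar k ≠ 2)
    [Algebra (RatFunc k) K] (hdeg : Module.finrank (RatFunc k) K = 2) :
    ∃ (y : K) (f : Polynomial k), Squarefree f ∧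
      y ^ 2 = algebraMap (RatFunc k) K (algebraMap (Polynomial k) (RatFunc k) f) ∧
      IntermediateField.adjoin (RatFunc k) ({y} : Set K) = ⊤ := by
  obtain ⟨z, b, c, hz, hm, heq⟩ := Groth.Agent.QuadExt.exists_quadratic hdeg
  let a : RatFunc k := b ^ 2 - 4 * c
  have h2F : (2 : RatFunc k) ≠ 0 := by
    rw [← map_ofNat (algebraMap k (RatFunc k)), _root_.map_ne_zero]
    exact Ring.two_ne_zero h2
  have h2K : (2 : K) ≠ 0 := by rw [← map_ofNat (algebraMap (RatFunc k) K), _root_.map_ne_zero]; exact h2F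
  have hy : (2 * z + algebraMap _ K b) ^ 2 = algebraMap (RatFunc k) K a := by
    simp only [a, map_sub, map_pow, map_mul, map_ofNat]
    linear_combination 4 * heq
  have hyr : 2 * z + algebraMap _ K b ∉ Set.range (algebraMap (RatFunc k) K) := by
    rintro ⟨e, he⟩
    exact hz ⟨(e - b) / 2, by rw [map_div₀, map_sub, he, map_ofNat]; field_simp; ring⟩
  have ha0 : a.num * a.denom ≠ 0 := by
    refine mul_ne_zero (RatFunc.num_ne_zero fun h0 => hyr ?_) a.denom_ne_zero
    rw [h0, map_zero] at hy
    exact ⟨0, by rw [map_zero, pow_eq_zero_iff two_ne_zero |>.1 hy]⟩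
  obtain ⟨h, f, hf, hfe⟩ := Groth.Agent.QuadExt.exists_sq_mul_squarefree ha0
  let φ := algebraMap (Polynomial k) (RatFunc k)
  have hh : φ h ≠ 0 := (map_ne_zero_iff _ (RatFunc.algebraMap_injective k)).2 fun hh => ha0 (by rw [hfe, hh]; ring)
  have hden : φ a.denom ≠ 0 := (map_ne_zero_iff _ (RatFunc.algebraMap_injective k)).2 a.denom_ne_zero
  refine ⟨(2 * z + algebraMap _ K b) * algebraMap _ K (φ a.denom / φ h), f, hf, ?_, Groth.Agent.QuadExt.adjoin_eq_top hdeg ?_⟩
  · rw [mul_pow, hy, ← map_pow, ← map_mul]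
    congr 1
    have h1 : φ a.num / φ a.denom = a := RatFunc.num_div_denom a
    have h2' : φ a.num * φ a.denom = φ h ^ 2 * φ f := by rw [← map_mul, hfe, map_mul, map_pow]
    show a * (φ a.denom / φ h) ^ 2 = φ f
    have h3 : φ a.num = a * φ a.denom := by rw [← div_eq_iff hden, h1]
    rw [h3] at h2'
    field_simp
    linear_combination h2'
  · rintro ⟨e, he⟩
    exact hyr ⟨e / (φ a.denom / φ h), by
      rw [map_div₀, he, mul_div_assoc, div_self ((_root_.map_ne_zero _).2 (div_ne_zero hden hh)), mul_one]⟩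

end Groth.Agent.S12515
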