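import Groth.Statements.S12518
import Groth.Agent.L26.FF.ASReduce
import Groth.Agent.L26.FF.Hyperelliptic
import Groth.Agent.S12517

set_option autoImplicit false
open FunFld

namespace Groth.Agent.S12518

open Groth.Agent.FF WithZero in
theorem exists_factor {k : Type*} [Field k] {f : Polynomial k} (hf : f ≠ 0) {P₀ : FunFld.Place k (RatFunc k)}
    (hlt : P₀.1 (algebraMap (Polynomial k) (RatFunc k) f) < 1) :
    ∃ p, Irreducible p ∧ p ∣ f ∧ P₀.1 (algebraMap (Polynomial k) (RatFunc k) p) < 1 := by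
  induction f using UniqueFactorizationMonoid.induction_on_prime with
  | h₁ => exact absurd rfl hf
  | h₂ x hx =>
    exfalso
    obtain ⟨c, hc, rfl⟩ := Polynomial.isUnit_iff.1 hx
    rw [← Polynomial.algebraMap_eq, ← IsScalarTower.algebraMap_apply, val_const P₀ hc.ne_zero] at hlt
    exact lt_irrefl _ hlt
  | h₃ a p ha hp ih =>
    by_cases h : P₀.1 (algebraMap (Polynomial k) (RatFunc k) p) < 1
    · exact ⟨p, hp.irreducible, dvd_mul_right p a, h⟩
    · obtain ⟨q, hq, hqa, hqv⟩ := ih ha (by
        rw [map_mul, map_mul] at hlt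
        exact (le_mul_of_one_le_left' (not_lt.1 h)).trans_lt hlt)
      exact ⟨q, hq, hqa.mul_left p, hqv⟩

open Groth.Agent.FF in
theorem pole_odd {k : Type*} [Field k] [CharP k 2] [PerfectField k] {N D : Polynomial k} (hN : N ≠ 0) (hD0 : D ≠ 0)
    (hcop : IsCoprime N D) (hD : Groth.Agent.ASReduce.OddMult D)
    (hinf : N.natDegree ≤ D.natDegree ∨ Odd (N.natDegree - D.natDegree)) (P : FunFld.Place k (RatFunc k))
    (h : P.ord (algebraMap (Polynomial k) (RatFunc k) N / algebraMap (Polynomial k) (RatFunc k) D) < 0) :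
    Odd (P.ord (algebraMap (Polynomial k) (RatFunc k) N / algebraMap (Polynomial k) (RatFunc k) D)) := by
  have hn : algebraMap (Polynomial k) (RatFunc k) N ≠ 0 := (map_ne_zero_iff _ (RatFunc.algebraMap_injective k)).2 hN
  have hd : algebraMap (Polynomial k) (RatFunc k) D ≠ 0 := (map_ne_zero_iff _ (RatFunc.algebraMap_injective k)).2 hD0
  rw [div_eq_mul_inv, Groth.Agent.FF.ord_mul P hn (inv_ne_zero hd), Groth.Agent.FF.ord_inv] at h ⊢
  by_cases hX : P.ord (RatFunc.X : RatFunc k) < 0
  · rw [ord_eq_of_val P (val_inf_poly hX hN), ord_eq_of_val P (val_inf_poly hX hD0)] at h ⊢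
    rcases hinf with h' | h'
    · omega
    · rw [show -(N.natDegree : ℤ) + -(-(D.natDegree : ℤ)) = -((N.natDegree - D.natDegree : ℕ) : ℤ) by omega]
      exact h'.natCast.neg
  have hle : ∀ g : Polynomial k, P.1 (algebraMap (Polynomial k) (RatFunc k) g) ≤ 1 := fun g => by
    induction g using Polynomial.induction_on' with
    | add a b ha hb => rw [map_add]; exact P.1.map_add_le ha hb
    | monomial n a =>
      rw [← Polynomial.C_mul_X_pow_eq_monomial, map_mul, map_pow, RatFunc.algebraMap_X, map_mul, map_pow,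
        ← Polynomial.algebraMap_eq, ← IsScalarTower.algebraMap_apply k (Polynomial k) (RatFunc k)]
      exact mul_le_one' (P.2.1 a) (pow_le_one' ((val_le_one_iff P RatFunc.X_ne_zero).2 (not_lt.1 hX)) n)
  have hN' : 0 ≤ P.ord (algebraMap (Polynomial k) (RatFunc k) N) := (val_le_one_iff P hn).1 (hle N)
  have hDlt : P.1 (algebraMap (Polynomial k) (RatFunc k) D) < 1 := (val_lt_one_iff P hd).2 (by omega)
  obtain ⟨p, hp, hpD, hpv⟩ := exists_factor hD0 hDlt
  obtain ⟨h1, h2⟩ := val_fin_poly hp hpv
  obtain ⟨g, hpg, hDg⟩ : ∃ g, ¬ p ∣ g ∧ D = p ^ multiplicity p D * g := by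
    obtain ⟨g, hg, hg'⟩ := (FiniteMultiplicity.of_prime_left hp.prime hD0).exists_eq_pow_mul_and_not_dvd
    exact ⟨g, hg', hg⟩
  have hNp : ¬ p ∣ N := fun hd' => hp.not_isUnit (hcop.isUnit_of_dvd' hd' hpD)
  rw [ord_eq_of_val P (show P.1 (algebraMap (Polynomial k) (RatFunc k) N) = WithZero.exp (0 : ℤ) by rw [h2 N hNp, WithZero.exp_zero]),
    ord_eq_of_val P (show P.1 (algebraMap (Polynomial k) (RatFunc k) D) = WithZero.exp (-(multiplicity p D : ℤ)) by
      conv_lhs => rw [hDg, map_mul, map_pow, map_mul, map_pow, h1, h2 g hpg, mul_one, ← WithZero.exp_nsmul]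
      simp)]
  rcases Nat.even_or_odd (multiplicity p D) with ⟨m, hm⟩ | ho
  · exfalso
    rcases m with _ | m
    · rw [hm, pow_zero, one_mul] at hDg
      exact hpg (hDg ▸ hpD)
    · exact hpg (hD p m g hp (by rw [hDg]; congr 2; omega))
  · rw [neg_neg, neg_zero, zero_add]
    exact ho.natCast.neg

/-- If `k` is perfect of characteristic `2` and `K` is a separable extension of degree `2` of `k(x)`,
then `K = k(x)(y)` for some `y` with `y² + y = f(x)` such that every pole of `f`, at any place of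
`k(x)/k` including the infinite one, has odd order. -/
theorem result (k K : Type*) [Field k] [Field K] [PerfectField k] (h2 : ringChar k = 2)
    [Algebra k K] [Algebra (RatFunc k) K] [IsScalarTower k (RatFunc k) K]
    (hdeg : Module.finrank (RatFunc k) K = 2) [Algebra.IsSeparable (RatFunc k) K] :
    ∃ (y : K) (f : RatFunc k), y ^ 2 + y = algebraMap (RatFunc k) K f ∧
      IntermediateField.adjoin (RatFunc k) ({y} : Set K) = ⊤ ∧
      ∀ P : FunFld.Place k (RatFunc k), P.ord f < 0 → Odd (P.ord f) := by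
  have : CharP k 2 := h2 ▸ ringChar.charP k
  obtain ⟨y, f, hy, htop⟩ := Groth.Agent.S12517.result k K h2 hdeg
  obtain ⟨a, N, D, hD0, hcop, hD, hinf, hf⟩ := Groth.Agent.ASReduce.exists_reduced f
  have : CharP K 2 := charP_of_injective_algebraMap (algebraMap k K).injective 2
  refine ⟨y + algebraMap _ K a, f + a ^ 2 + a, ?_, ?_, fun P hP => ?_⟩
  · rw [map_add, map_add, map_pow, ← hy, CharTwo.add_sq]; ring
  · refine Groth.Agent.QuadExt.adjoin_eq_top hdeg ?_
    rintro ⟨e, he⟩
    have hmem : y ∈ (⊥ : IntermediateField (RatFunc k) K) :=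
      IntermediateField.mem_bot.2 ⟨e - a, by rw [map_sub, he, add_sub_cancel_right]⟩
    rw [IntermediateField.adjoin_simple_eq_bot_iff.2 hmem] at htop
    have := IntermediateField.finrank_bot (F := RatFunc k) (E := K)
    rw [htop, IntermediateField.finrank_top', hdeg] at this
    omega
  · rw [hf] at hP ⊢
    rcases eq_or_ne N 0 with rfl | hN
    · simp [FunFld.Place.ord] at hP
    · exact pole_odd hN hD0 hcop hD hinf P hP

end Groth.Agent.S12518
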