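import Groth.Statements.S1252
import Groth.Agent.L20.RG.Induction
import Groth.Agent.L20.RG.Complete

set_option autoImplicit false
universe u
open FlatMor

set_option backward.isDefEq.respectTransparency.types false
namespace Groth.Agent.S1252

/-- Existence of a complete dévissage after étale localization, in affine algebraic form. Let S be a
finite type R-algebra, N a finite S-module, p a prime of R and q a prime of S over p such that the
point of the fibre ring S ⊗_R κ(p) given by q lies in the support of the fibre module N ⊗_R κ(p) (a
condition the published statement leaves implicit). Then there are an étale R-algebra R' with a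
prime p' over p and an étale S-algebra S' with a prime q' over q, both with trivial residue field
extensions, and a compatible R'-algebra structure on S' with q' lying over p', such that for the
base change N' of N to S' (any module N' with an S-linear map N → N' exhibiting it as the base
change), N'/S'/R' admits a complete dévissage at q' (FlatCA.HasCompleteDevissageAt). -/
theorem result {R S : Type u} [CommRing R] [CommRing S] [Algebra R S] [Algebra.FiniteType R S]
    (N : Type u) [AddCommGroup N] [Module S N] [Module R N] [IsScalarTower R S N] [Module.Finite S N]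
    (p : Ideal R) [p.IsPrime] (q : Ideal S) [q.IsPrime] [q.LiesOver p]
    (hsupp : ∃ x ∈ Module.support (p.Fiber S) (FlatCA.fiberMod p S N), x.asIdeal = FlatCA.fiberIdeal p q) :
    ∃ (R' S' : Type u) (_ : CommRing R') (_ : CommRing S') (_ : Algebra R R') (_ : Algebra S S') (_ : Algebra R' S')
      (_ : Algebra R S') (_ : IsScalarTower R R' S') (_ : IsScalarTower R S S')
      (p' : Ideal R') (q' : Ideal S') (_ : p'.IsPrime) (_ : q'.IsPrime),
      FlatCA.IsEtaleNhd R R' p p' ∧ FlatCA.IsEtaleNhd S S' q q' ∧ q'.LiesOver p' ∧
      ∀ (N' : Type u) [AddCommGroup N'] [Module S' N'] [Module S N'] [IsScalarTower S S' N']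
        (f : N →ₗ[S] N'), IsBaseChange S' f → FlatCA.HasCompleteDevissageAt R' S' N' p' q' := by
  classical
  obtain ⟨x, hx, hxq⟩ := hsupp
  have hq : (⟨q, inferInstance⟩ : PrimeSpectrum S) ∈ Module.support S N := by
    letI : Algebra S (p.Fiber S) := Algebra.TensorProduct.rightAlgebra
    have h := (Groth.L20.FibreSupport.mem_support_baseChange S (p.Fiber S) N x).mp hx
    convert h using 1
    refine PrimeSpectrum.ext ?_
    rw [PrimeSpectrum.comap_asIdeal, hxq]
    exact (Groth.L20.comap_fiberIdeal p q).symm
  obtain ⟨R', S', _, _, _, _, _, _, _, _, p', q', _, _, hp', hq', hqp, H⟩ :=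
    Groth.L20.RG.exists_hasDev N p q hq
  haveI := hqp
  obtain ⟨f, hf, Hf⟩ := (H (TensorProduct S S' N) (TensorProduct.mk S S' N 1)
    (TensorProduct.isBaseChange S N S')).exists_complete
  obtain ⟨p'', _, hp''⟩ := Groth.L20.RG.exists_prime_away p' hf
  haveI := hp''
  have hn : FlatCA.IsEtaleNhd R' (Localization.Away f) p' p'' := Groth.L20.RG.isEtaleNhd_away p' hf p''
  obtain ⟨q'', _, hq''p, hq''n, -⟩ := Groth.L20.RG.exists_nbhd_pushout p' q' p'' hn
  let R'' := Localization.Away f
  let S'' := TensorProduct R' R'' S'
  letI : Algebra S' S'' := Algebra.TensorProduct.rightAlgebra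
  haveI : IsScalarTower R R' R'' := inferInstance
  letI : Algebra S S'' := ((algebraMap S' S'').comp (algebraMap S S')).toAlgebra
  haveI : IsScalarTower S S' S'' := IsScalarTower.of_algebraMap_eq' rfl
  haveI : IsScalarTower R R'' S'' := inferInstance
  haveI : IsScalarTower R S S'' := IsScalarTower.of_algebraMap_eq fun r => by
    rw [IsScalarTower.algebraMap_apply R R'' S'', IsScalarTower.algebraMap_apply R R' R'',
      ← IsScalarTower.algebraMap_apply R' R'' S'', IsScalarTower.algebraMap_apply R' S' S'',
      ← IsScalarTower.algebraMap_apply R R' S', IsScalarTower.algebraMap_apply R S S',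
      ← IsScalarTower.algebraMap_apply S S' S'']
  refine ⟨R'', S'', inferInstance, inferInstance, inferInstance, inferInstance, inferInstance, inferInstance,
    inferInstance, inferInstance, p'', q'', inferInstance, inferInstance, Groth.L20.RG.isEtaleNhd_trans hp' hn,
    Groth.L20.RG.isEtaleNhd_trans hq' hq''n, hq''p, ?_⟩
  intro N' _ _ _ _ g hg
  letI : Module S' N' := Module.compHom N' (algebraMap S' S'')
  haveI : IsScalarTower S' S'' N' := IsScalarTower.of_algebraMap_smul fun _ _ => rfl
  haveI : IsScalarTower S S' N' := IsScalarTower.of_algebraMap_smul fun s m => by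
    show algebraMap S' S'' (algebraMap S S' s) • m = s • m
    rw [← IsScalarTower.algebraMap_apply, algebraMap_smul]
  have h0 := TensorProduct.isBaseChange S N S'
  haveI := hq''p
  refine Hf R'' p'' hn.2 (IsLocalization.Away.algebraMap_isUnit f) S'' N' (h0.lift g) (IsBaseChange.of_comp h0 ?_)
    q'' hq''n.2.1.over.symm
  have : (h0.lift g).restrictScalars S ∘ₗ TensorProduct.mk S S' N 1 = g := h0.lift_comp g
  rw [this]
  exact hg

end Groth.Agent.S1252
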