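import Groth.Statements.S12521
import Groth.Agent.L26.FF.FundFF
import Groth.Agent.L26.FF.Inertia
import Groth.Agent.L26.FF.RatFuncFF

set_option autoImplicit false
open FunFld

namespace Groth.Agent.S12521

open Groth.Agent.FF
open scoped Pointwise

/-- For a finite Galois extension `K'/K` of a geometric function field of one variable, a place `Q` of
`K'` with residue field separable over `k`, and `K₁` the inertia field of `Q` (fixed field of the
inertia group), `K'/K₁` is totally ramified at `Q`: the place of `K₁` under `Q` has ramification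
index `[K' : K₁]`. (The published hypothesis is that the residue field of `Q` is separable over the
residue field of the place of `K` below `Q`; this row assumes the stronger condition that the
residue field of `Q` is separable over `k`.) -/
theorem result (k K K' : Type*) [Field k] [Field K] [Field K'] [Algebra k K] [Algebra K K'] [Algebra k K']
    [IsScalarTower k K K'] [FiniteDimensional K K'] (hK : FunFld.IsFunctionField k K) (hg : FunFld.IsGeometric k K)
    [IsGalois K K'] (Q : FunFld.Place k K') [Algebra.IsSeparable k (IsLocalRing.ResidueField Q.O)] :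
    let K₁ : IntermediateField K K' := IntermediateField.fixedField
        (((Q.O).inertiaSubgroup K).map ((Q.O).decompositionSubgroup K).subtype)
    ∃ Q₁ : FunFld.Place k K₁, FunFld.IsOverWith Q Q₁ (Module.finrank K₁ K') := by
  classical
  intro K₁
  have : IsScalarTower k K₁ K' := IsScalarTower.of_algebraMap_eq fun c => rfl
  have hK₁ : IsFF k K₁ := isFF_ext hK.1
  obtain ⟨Q₁, e, he⟩ := exists_below hK₁ Q
  -- the automorphisms over `K₁` are in the inertia group
  have hin : ∀ τ : K' ≃ₐ[K₁] K', ∃ g : (Q.O).decompositionSubgroup K,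
      g ∈ (Q.O).inertiaSubgroup K ∧ g.1 = τ.restrictScalars K := fun τ => by
    have h1 : τ.restrictScalars K ∈ IntermediateField.fixingSubgroup K₁ := by
      rw [IntermediateField.mem_fixingSubgroup_iff]
      intro x hx
      exact τ.commutes ⟨x, hx⟩
    rw [IntermediateField.fixingSubgroup_fixedField] at h1
    obtain ⟨g, hg, hgτ⟩ := Subgroup.mem_map.1 h1
    exact ⟨g, hg, hgτ⟩
  have hfix : ∀ τ : K' ≃ₐ[K₁] K', galPlace τ Q = Q := fun τ => by
    obtain ⟨g, -, hg⟩ := hin τ
    refine place_ext_O ?_
    rw [galPlace_O]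
    have h1 : (g.1 : K' ≃ₐ[K] K') • Q.O = Q.O := g.2
    rw [hg] at h1
    exact h1
  have huniq : (finite_over (K' := K') hK₁ Q₁).toFinset = {Q} := by
    ext Q'
    rw [Set.Finite.mem_toFinset, Finset.mem_singleton]
    refine ⟨fun h => ?_, fun h => h ▸ ⟨e, he⟩⟩
    obtain ⟨τ, rfl⟩ := exists_galPlace_eq hK₁ ⟨e, he⟩ h
    exact hfix τ
  have hsum := sum_ramIdx_ff (K' := K') hK₁ Q₁
  rw [huniq, Finset.sum_singleton, ramIdx_eq he] at hsum
  -- the residue fields agree
  let ψ : Q₁.O →+* Q.O := ((algebraMap K₁ K').comp Q₁.O.subtype).codRestrict Q.O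
    fun a => (he.le_one_iff _).2 a.2
  have hlocal : IsLocalHom ψ := ⟨fun a ha => by
    by_contra hna
    exact (Valuation.Integer.not_isUnit_iff_valuation_lt_one.2
      ((he.lt_one_iff _).2 (Valuation.Integer.not_isUnit_iff_valuation_lt_one.1 hna)) : ¬ IsUnit (ψ a)) ha⟩
  let f : IsLocalRing.ResidueField Q₁.O →ₗ[k] IsLocalRing.ResidueField Q.O :=
    { toFun := IsLocalRing.ResidueField.map ψ
      map_add' := map_add _
      map_smul' := fun c x => by
        obtain ⟨b, rfl⟩ := IsLocalRing.residue_surjective x
        show IsLocalRing.ResidueField.map ψ (IsLocalRing.residue Q₁.O (c • b)) =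
          IsLocalRing.residue Q.O (c • ψ b)
        rw [← RingHom.comp_apply (IsLocalRing.ResidueField.map ψ), IsLocalRing.ResidueField.map_comp_residue]
        refine congrArg (IsLocalRing.residue _) (Subtype.ext ?_)
        rw [Algebra.smul_def c b, Algebra.smul_def c (ψ b)]
        show algebraMap K₁ K' (algebraMap k K₁ c * (b : K₁)) = algebraMap k K' c * algebraMap K₁ K' (b : K₁)
        rw [map_mul, ← IsScalarTower.algebraMap_apply] }
  have hsurj : Function.Surjective f := fun a => by
    obtain ⟨b, hb⟩ := fixed_mem_range hK₁ he ψ (fun _ => rfl) (a := a) fun g => by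
      obtain ⟨g', hg', hgg⟩ := hin g.1
      obtain ⟨b, rfl⟩ := IsLocalRing.residue_surjective a
      have h1 : MulSemiringAction.toRingAut ((Q.O).decompositionSubgroup K) (IsLocalRing.ResidueField Q.O) g' = 1 := hg'
      have h2 := RingEquiv.congr_fun h1 (IsLocalRing.residue Q.O b)
      refine Eq.trans ?_ h2
      show IsLocalRing.residue Q.O (g • b) = IsLocalRing.residue Q.O (g' • b)
      refine congrArg (IsLocalRing.residue Q.O) (Subtype.ext ?_)
      show g.1 (b : K') = g'.1 (b : K')
      rw [hgg]
      rfl
    exact ⟨b, hb⟩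
  have := finite_residueField hK₁ Q₁
  have hle : Q.deg ≤ Q₁.deg := LinearMap.finrank_le_finrank_of_surjective hsurj
  have hge := deg_le_deg hK₁ ⟨e, he⟩
  have hdeq : Q.deg = Q₁.deg := le_antisymm hle hge
  rw [hdeq] at hsum
  refine ⟨Q₁, ?_⟩
  rw [← Nat.eq_of_mul_eq_mul_right (one_le_deg hK₁ Q₁) hsum]
  exact he

end Groth.Agent.S12521
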