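import Groth.Statements.S12524
import Groth.Agent.L01.DvrPowSer

set_option autoImplicit false
universe u v
open CAlg

namespace Groth.Agent.S12524

open IsLocalRing in
/-- Let `A` be a complete discrete valuation ring with maximal ideal `m`, containing a field `K` such
that `K → A → A/m` is bijective (a coefficient field), and let `x` be any generator of `m`. Then the
`K`-algebra map `K[X] → A`, `X ↦ x`, extends to a bijective `K`-algebra map `φ : K⟦X⟧ → A`,
characterised by `φ(∑ aᵢ Xⁱ) ≡ ∑_{i<n} aᵢ xⁱ (mod mⁿ)` for every `n`. -/
theorem result (K : Type u) (A : Type v) [Field K]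
    [CommRing A] [IsDomain A] [IsDiscreteValuationRing A] [Algebra K A]
    [IsAdicComplete (maximalIdeal A) A]
    (hK : Function.Bijective ((residue A).comp (algebraMap K A)))
    (x : A) (hx : maximalIdeal A = Ideal.span {x}) :
    ∃ φ : PowerSeries K →ₐ[K] A, φ PowerSeries.X = x ∧ Function.Bijective φ ∧
      ∀ (f : PowerSeries K) (n : ℕ),
        φ f - (Finset.range n).sum (fun i => algebraMap K A (PowerSeries.coeff i f) * x ^ i) ∈
          maximalIdeal A ^ n := Groth.L01.DvrPowSer.exists_bijective K A hK x hx

end Groth.Agent.S12524
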