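import Groth.Statements.S12526
import Groth.Agent.L26.FF.IntClosure

set_option autoImplicit false
universe u v
open FunFld

namespace Groth.Agent.S12526

open Groth.Agent.FF

/-- Let `K/k` be a geometric function field of one variable, `P` a place of `K`, `k'/k` finite and `K' =
k' ⊗_k K`; let `R` be the integral closure of `O_P` in `K'` and `R̃ = k' ⊗_k O_P = O_P[k']`. Then
`R/R̃` is finite-dimensional over `k`, and `R̃` contains a nonzero ideal of `R`. -/
theorem result (k k' : Type u) (K K' : Type v) [Field k] [Field k'] [Field K] [Field K']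
    [Algebra k k'] [FiniteDimensional k k'] [Algebra k K] [Algebra K K'] [Algebra k' K'] [Algebra k K']
    [IsScalarTower k k' K'] [IsScalarTower k K K']
    (h : Function.Bijective (Algebra.TensorProduct.productMap
      (IsScalarTower.toAlgHom k k' K') (IsScalarTower.toAlgHom k K K')))
    (hK : FunFld.IsFunctionField k K) (hg : FunFld.IsGeometric k K)
    (P : FunFld.Place k K) [Algebra P.O K'] [IsScalarTower P.O K K'] :
    (∃ V : Submodule k K', FiniteDimensional k V ∧ ∀ r ∈ integralClosure P.O K',
        ∃ s ∈ Algebra.adjoin P.O (Set.range (algebraMap k' K')), r - s ∈ V) ∧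
    (∃ c ∈ integralClosure P.O K', c ≠ 0 ∧ ∀ r ∈ integralClosure P.O K',
        c * r ∈ Algebra.adjoin P.O (Set.range (algebraMap k' K'))) := by
  classical
  have hfd : FiniteDimensional K K' := by
    let f : TensorProduct k K k' →ₐ[K] K' :=
      Algebra.TensorProduct.lift (Algebra.ofId K K') (IsScalarTower.toAlgHom k k' K') fun _ _ => Commute.all _ _
    refine Module.Finite.of_surjective f.toLinearMap fun z => ?_
    obtain ⟨w, rfl⟩ := h.2 z
    refine ⟨Algebra.TensorProduct.comm k k' K w, ?_⟩
    show f (Algebra.TensorProduct.comm k k' K w) = _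
    induction w using TensorProduct.induction_on with
    | zero => simp
    | tmul a b => simp [f, mul_comm, Algebra.ofId_apply]
    | add x y hx hy => rw [map_add, map_add, map_add, hx, hy]
  set R' := Algebra.adjoin P.O (Set.range (algebraMap k' K'))
  have halg : ∀ a : P.O, algebraMap P.O K' a = algebraMap K K' (a : K) := fun a =>
    IsScalarTower.algebraMap_apply P.O K K' a
  obtain ⟨t, ht0, ht⟩ := exists_val_eq P (-1)
  -- denominators
  have hden : ∀ z : K', ∃ N : ℕ, ∀ M, N ≤ M → algebraMap K K' (t ^ M) * z ∈ R' := fun z => by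
    obtain ⟨w, rfl⟩ := h.2 z
    induction w using TensorProduct.induction_on with
    | zero => exact ⟨0, fun M _ => by rw [map_zero, mul_zero]; exact zero_mem _⟩
    | tmul c x =>
      refine ⟨(-P.ord x).toNat, fun M hM => ?_⟩
      have hv : P.1 (t ^ M * x) ≤ 1 := by
        rcases eq_or_ne x 0 with rfl | hx
        · simp
        rw [map_mul, map_pow, ht, val_eq_exp P hx, ← WithZero.exp_nsmul, ← WithZero.exp_add, exp_le_one']
        rw [nsmul_eq_mul]
        omega
      rw [Algebra.TensorProduct.productMap_apply_tmul, IsScalarTower.toAlgHom_apply, IsScalarTower.toAlgHom_apply,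
        show algebraMap K K' (t ^ M) * (algebraMap k' K' c * algebraMap K K' x) =
          algebraMap P.O K' ⟨t ^ M * x, hv⟩ * algebraMap k' K' c by rw [halg, map_mul]; ring]
      exact mul_mem (R'.algebraMap_mem _) (Algebra.subset_adjoin ⟨c, rfl⟩)
    | add x y hx hy =>
      obtain ⟨N₁, h₁⟩ := hx
      obtain ⟨N₂, h₂⟩ := hy
      refine ⟨max N₁ N₂, fun M hM => ?_⟩
      rw [map_add, mul_add]
      exact add_mem (h₁ M (le_of_max_le_left hM)) (h₂ M (le_of_max_le_right hM))
  obtain ⟨z, hzR, -, hzspan⟩ := exists_integral_basis (K' := K') hK P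
  choose N hN using fun i => hden (z i)
  let M := Finset.univ.sup N
  have hc : ∀ r : K', IsIntegral P.O r → algebraMap K K' (t ^ M) * r ∈ R' := fun r hr => by
    obtain ⟨c, hc1, rfl⟩ := hzspan r ((isIntegral_iff hK.1 P r).1 hr)
    rw [Finset.mul_sum]
    refine sum_mem fun i _ => ?_
    rw [Algebra.smul_def, mul_left_comm, ← halg ⟨c i, hc1 i⟩]
    exact mul_mem (R'.algebraMap_mem _) (hN i M (Finset.le_sup (Finset.mem_univ i)))
  refine ⟨?_, algebraMap K K' (t ^ M), ?_, (map_ne_zero _).2 (pow_ne_zero _ ht0), hc⟩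
  swap
  · have htM : P.1 (t ^ M) ≤ 1 := by rw [map_pow, ht]; exact pow_le_one₀ zero_le (exp_le_one'.2 (by omega))
    rw [mem_integralClosure_iff, ← halg ⟨t ^ M, htM⟩]
    exact isIntegral_algebraMap
  -- representatives of the residue field
  have := finite_residueField hK.1 P
  let bres := Module.finBasis k (IsLocalRing.ResidueField P.O)
  choose u hu using fun l => IsLocalRing.residue_surjective (R := P.O) (bres l)
  have hstep : ∀ a : K, P.1 a ≤ 1 → ∃ c : _ → k, P.1 (a - ∑ l, c l • (u l : K)) < 1 := fun a ha => by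
    refine ⟨fun l => bres.repr (resMap P ⟨a, ha⟩) l, ?_⟩
    have h1 : resMap P (⟨a, ha⟩ - ∑ l, bres.repr (resMap P ⟨a, ha⟩) l • u l) = 0 := by
      rw [map_sub, map_sum]
      simp only [map_smul]
      simp only [show ∀ l, resMap P (u l) = bres l from hu]
      exact sub_eq_zero.2 (bres.sum_repr _).symm
    have h2 := (residue_eq_zero P _).1 h1
    rwa [show ((⟨a, ha⟩ - ∑ l, bres.repr (resMap P ⟨a, ha⟩) l • u l : P.O) : K) =
      a - ∑ l, bres.repr (resMap P ⟨a, ha⟩) l • (u l : K) by
        rw [show ∀ x y : P.O, ((x - y : P.O) : K) = (x : K) - y from fun _ _ => rfl, AddSubmonoidClass.coe_finsetSum]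
        exact congrArg (a - ·) (Finset.sum_congr rfl fun l _ => by
          rw [Algebra.smul_def, Algebra.smul_def]; rfl)] at h2
  let V : Submodule k K' := Submodule.span k (Set.range fun p : Fin M × Fin (Module.finrank k (IsLocalRing.ResidueField P.O)) × Fin (Module.finrank K K') =>
    algebraMap K K' (t ^ (p.1 : ℕ) * (u p.2.1 : K)) * z p.2.2)
  have happrox : ∀ (i) (m : ℕ), m ≤ M → ∀ a : K, P.1 a ≤ 1 → ∃ v ∈ V, ∃ a' : K,
      P.1 a' ≤ WithZero.exp (-(m : ℤ)) ∧ a • z i = v + a' • z i := fun i m => by
    induction m with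
    | zero => exact fun _ a ha => ⟨0, zero_mem _, a, by simpa using ha, by rw [zero_add]⟩
    | succ m ih =>
      intro hm a ha
      obtain ⟨v, hv, a', ha', e⟩ := ih (by omega) a ha
      have h1 : P.1 (a' * (t ^ m)⁻¹) ≤ 1 := by
        rw [map_mul, map_inv₀, map_pow, ht, ← WithZero.exp_nsmul, ← WithZero.exp_neg]
        refine (mul_le_mul' ha' le_rfl).trans_eq ?_
        rw [← WithZero.exp_add]
        simp
      obtain ⟨c, hc'⟩ := hstep _ h1
      refine ⟨v + ∑ l, c l • (algebraMap K K' (t ^ m * (u l : K)) * z i), add_mem hv (sum_mem fun l _ =>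
        Submodule.smul_mem _ _ (Submodule.subset_span ⟨(⟨m, by omega⟩, l, i), rfl⟩)),
        t ^ m * (a' * (t ^ m)⁻¹ - ∑ l, c l • (u l : K)), ?_, ?_⟩
      · rw [map_mul, map_pow, ht, ← WithZero.exp_nsmul]
        refine (mul_le_mul' le_rfl (lt_one_le_exp hc')).trans_eq ?_
        rw [← WithZero.exp_add]
        congr 1
        rw [nsmul_eq_mul]
        push_cast
        ring
      · rw [e, add_assoc]
        congr 1
        simp only [Algebra.smul_def, map_mul, map_sub, map_sum, map_inv₀]
        simp only [← IsScalarTower.algebraMap_apply, Finset.mul_sum, Finset.sum_mul, mul_sub, sub_mul]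
        rw [← add_sub_assoc, eq_comm, sub_eq_iff_eq_add, add_comm]
        congr 1
        · field_simp [(map_ne_zero (algebraMap K K')).2 (pow_ne_zero m ht0)]
          rw [mul_assoc, mul_div_cancel_left₀ _ ((map_ne_zero (algebraMap K K')).2 (pow_ne_zero m ht0))]
        · exact Finset.sum_congr rfl fun l _ => by ring
  refine ⟨V, FiniteDimensional.span_of_finite k (Set.finite_range _), fun r hr => ?_⟩
  obtain ⟨c, hc1, rfl⟩ := hzspan r ((isIntegral_iff hK.1 P r).1 hr)
  choose v hv a' ha' he using fun i => happrox i M le_rfl (c i) (hc1 i)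
  refine ⟨∑ i, a' i • z i, sum_mem fun i _ => ?_, ?_⟩
  · have h1 : P.1 (a' i * (t ^ M)⁻¹) ≤ 1 := by
      rw [map_mul, map_inv₀, map_pow, ht, ← WithZero.exp_nsmul, ← WithZero.exp_neg]
      refine (mul_le_mul' (ha' i) le_rfl).trans_eq ?_
      rw [← WithZero.exp_add]
      simp
    rw [Algebra.smul_def, show algebraMap K K' (a' i) * z i =
      algebraMap P.O K' ⟨_, h1⟩ * (algebraMap K K' (t ^ M) * z i) by
        rw [halg, ← mul_assoc, ← map_mul, inv_mul_cancel_right₀ (pow_ne_zero M ht0)]]
    exact mul_mem (R'.algebraMap_mem _) (hN i M (Finset.le_sup (Finset.mem_univ i)))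
  · rw [← Finset.sum_sub_distrib]
    exact sum_mem fun i _ => by rw [he i, add_sub_cancel_right]; exact hv i

end Groth.Agent.S12526
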