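import Groth.Statements.S12527
import Groth.Agent.L26.FF.FiniteSingular

set_option autoImplicit false
universe u v
open scoped TensorProduct
open FunFld

namespace Groth.Agent.S12527

/-- A geometric function field of one variable `K/k` has at most finitely many singular places, i.e.
places `P` for which, for some finite extension `k'/k`, the integral closure of `O_P` in `k' ⊗_k K`
is strictly larger than `k' ⊗_k O_P`. The existence of a purely inseparable finite `k'` making `k'
⊗_k K` nonsingular is not stated. -/
theorem result (k : Type u) (K : Type v) [Field k] [Field K] [Algebra k K]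
    (hK : FunFld.IsFunctionField k K) (hg : FunFld.IsGeometric k K) :
    {P : FunFld.Place k K | ∃ (k' : Type u) (_ : Field k') (_ : Algebra k k'), FiniteDimensional k k' ∧
      integralClosure (P.O.toSubring.map (Algebra.TensorProduct.includeRight : K →ₐ[k] k' ⊗[k] K).toRingHom) (k' ⊗[k] K) ≠
        Algebra.adjoin (P.O.toSubring.map (Algebra.TensorProduct.includeRight : K →ₐ[k] k' ⊗[k] K).toRingHom)
          (Set.range (Algebra.TensorProduct.includeLeftRingHom : k' →+* k' ⊗[k] K))}.Finite := by
  classical
  obtain ⟨T, hT⟩ := Groth.Agent.FF.finite_singular hK hg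
  refine T.finite_toSet.subset fun P hP => ?_
  obtain ⟨k', hk1, hk2, hfin, hne⟩ := hP
  by_contra hPT
  refine hne ?_
  have hfld := hg k' hfin
  letI : Field (k' ⊗[k] K) := hfld.toField
  letI : Algebra K (k' ⊗[k] K) := Algebra.TensorProduct.rightAlgebra
  haveI : IsScalarTower k K (k' ⊗[k] K) := Algebra.TensorProduct.right_isScalarTower
  exact hT P (fun h => hPT h) k' (k' ⊗[k] K) (fun z => ⟨z, by
    induction z using TensorProduct.induction_on with
    | zero => exact map_zero _
    | tmul a b =>
      rw [Algebra.TensorProduct.productMap_apply_tmul]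
      show (a ⊗ₜ[k] (1 : K)) * ((1 : k') ⊗ₜ[k] b) = a ⊗ₜ[k] b
      rw [Algebra.TensorProduct.tmul_mul_tmul, mul_one, one_mul]
    | add a b ha hb => rw [map_add, ha, hb]⟩)

end Groth.Agent.S12527
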