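import Groth.Statements.S12535
import Groth.Agent.L26.FF.Hyperelliptic

set_option autoImplicit false
open FunFld

namespace Groth.Agent.S12535

open Groth.Agent.FF WithZero in
theorem exists_factor {k : Type*} [Field k] {f : Polynomial k} (hf : f ≠ 0) {P₀ : FunFld.Place k (RatFunc k)}
    (hlt : P₀.1 (algebraMap (Polynomial k) (RatFunc k) f) < 1) :
    ∃ p, Irreducible p ∧ p ∣ f ∧ P₀.1 (algebraMap (Polynomial k) (RatFunc k) p) < 1 := by
  induction f using UniqueFactorizationMonoid.induction_on_prime with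
  | h₁ => exact absurd rfl hf
  | h₂ x hx =>
    exfalso
    obtain ⟨c, hc, rfl⟩ := Polynomial.isUnit_iff.1 hx
    rw [← Polynomial.algebraMap_eq, ← IsScalarTower.algebraMap_apply, val_const P₀ hc.ne_zero] at hlt
    exact lt_irrefl _ hlt
  | h₃ a p ha hp ih =>
    by_cases h : P₀.1 (algebraMap (Polynomial k) (RatFunc k) p) < 1
    · exact ⟨p, hp.irreducible, dvd_mul_right p a, h⟩
    · obtain ⟨q, hq, hqa, hqv⟩ := ih ha (by
        rw [map_mul, map_mul] at hlt
        exact (le_mul_of_one_le_left' (not_lt.1 h)).trans_lt hlt)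
      exact ⟨q, hq, hqa.mul_left p, hqv⟩

/-- Let `char k ≠ 2`, `K` of degree `2` over `k(x)`, and `y ∈ K` with `y² = f(x)`, `f` a squarefree
polynomial of degree `≥ 1`. Then a place `P` of `K` is a zero of `y` exactly when it lies over a
finite place of `k(x)` where `f` has a zero, and in that case `ord_P(y) = 1`: the divisor of zeros
of `y` is `Σ P_i`, one place over each irreducible factor of `f`, with multiplicity one. -/
theorem result (k K : Type*) [Field k] [Field K] (h2 : ringChar k ≠ 2) [Algebra k K]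
    [Algebra (RatFunc k) K] [IsScalarTower k (RatFunc k) K]
    (hdeg : Module.finrank (RatFunc k) K = 2) (y : K) (f : Polynomial k) (hf : Squarefree f)
    (hd : 1 ≤ f.natDegree)
    (heq : y ^ 2 = algebraMap (RatFunc k) K (algebraMap (Polynomial k) (RatFunc k) f)) (P : FunFld.Place k K) :
    (0 < P.ord y → P.ord y = 1) ∧
    (0 < P.ord y ↔ ∃ P₀ : FunFld.Place k (RatFunc k), FunFld.IsOver P P₀ ∧ 0 ≤ P₀.ord (RatFunc.X : RatFunc k) ∧
      0 < P₀.ord (algebraMap (Polynomial k) (RatFunc k) f)) := by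
  open Groth.Agent.FF WithZero in
  have := finite_of_deg_two hdeg
  open Groth.Agent.FF WithZero in
  have hu : algebraMap (Polynomial k) (RatFunc k) f ≠ 0 := (map_ne_zero_iff _ (RatFunc.algebraMap_injective k)).2 hf.ne_zero
  open Groth.Agent.FF WithZero in
  obtain ⟨P₀, e, he⟩ := exists_below (k := k) (K := RatFunc k) isFF_ratFunc P
  open Groth.Agent.FF WithZero in
  have h2eq := val_eq_of_sq he hu heq
  have hepos : (0 : ℤ) < e := by exact_mod_cast he.pos
  have hfin : 0 < P₀.ord (algebraMap (Polynomial k) (RatFunc k) f) → 0 ≤ P₀.ord (RatFunc.X : RatFunc k) := by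
    intro hpos
    by_contra h
    have := Groth.Agent.FF.ord_eq_of_val P₀ (Groth.Agent.FF.val_inf_poly (not_le.1 h) hf.ne_zero)
    omega
  refine ⟨fun hy => ?_, fun hy => ?_, ?_⟩
  · have hpos : 0 < P₀.ord (algebraMap (Polynomial k) (RatFunc k) f) := by
      by_contra h
      have := mul_nonpos_of_nonneg_of_nonpos hepos.le (not_lt.1 h)
      omega
    obtain ⟨p, hp, hpf, hpv⟩ := exists_factor hf.ne_zero ((Groth.Agent.FF.val_lt_one_iff P₀ hu).2 hpos)
    have hQ := ((Groth.Agent.FF.ram_finite_hyperelliptic hdeg hf heq hp hpf hpv).2 P ⟨e, he⟩).1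
    obtain ⟨-, rfl⟩ := he.unique hQ
    obtain ⟨g, rfl⟩ := hpf
    have hpg : ¬ p ∣ g := fun ⟨r, hr⟩ => hp.not_isUnit (hf p ⟨r, by rw [hr]; ring⟩)
    obtain ⟨h1, h2'⟩ := Groth.Agent.FF.val_fin_poly hp hpv
    have hv : P₀.1 (algebraMap (Polynomial k) (RatFunc k) (p * g)) = WithZero.exp (-1 : ℤ) := by
      rw [map_mul, map_mul, h1, h2' g hpg, mul_one]
    rw [Groth.Agent.FF.ord_eq_of_val P₀ hv] at h2eq
    omega
  · refine ⟨P₀, ⟨e, he⟩, ?_⟩
    have hpos : 0 < P₀.ord (algebraMap (Polynomial k) (RatFunc k) f) := by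
      by_contra h
      have := mul_nonpos_of_nonneg_of_nonpos hepos.le (not_lt.1 h)
      omega
    exact ⟨hfin hpos, hpos⟩
  · rintro ⟨P₁, ⟨e', he'⟩, -, hpos⟩
    obtain ⟨rfl, rfl⟩ := he.unique he'
    have := Int.mul_pos hepos hpos
    omega

end Groth.Agent.S12535
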