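import Groth.Statements.S12536
import Groth.Agent.L21.CurveDual.Restrict
import Groth.Agent.L21.CurveDual.CM

set_option autoImplicit false
set_option backward.isDefEq.respectTransparency false
universe u
open CategoryTheory CategoryTheory.Limits AlgebraicGeometry Opposite
attribute [local instance] HasDerivedCategory.standard
open Dual3

namespace Groth.Agent.S12536

/-- Let `X` be proper and reduced over a field `k`, of pure dimension `1`, with dualizing module `ω =
H^{-1}(a(O))` (`a` right adjoint to `Rf_*` on `D_QCoh`, `O` the structure sheaf of `Spec k` in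
degree `0`), and let `U ⊆ X` be an open subscheme containing every non-closed point. Then `ω →
j_*(ω|_U)` is injective: for every open `V`, restriction of sections `ω(V) → ω(V ∩ U)` is injective.
(The published statement takes `U` to be the dense open smooth locus of a generically smooth `X`;
this row allows any open `U` containing the generic points, which is what the printed proof uses:
the kernel is supported at finitely many closed points.) -/
theorem result (k : Type u) [Field k] (X : Scheme.{u}) (f : X ⟶ Spec (CommRingCat.of k))
    [IsProper f] [IsReduced X]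
    (hdim : ∀ Z ∈ irreducibleComponents X, topologicalKrullDim ↥Z = (1 : WithBot ℕ∞))
    [DCoh.HasRpush f] (hf : DCoh.RpushPreservesQCoh f)
    (a : DCoh.DQCoh (Spec (CommRingCat.of k)) ⥤ DCoh.DQCoh X) (adj : DCoh.RpushQ f hf ⊣ a)
    (O : DCoh.DQCoh (Spec (CommRingCat.of k)))
    (hO : Nonempty (O.obj ≅ DCoh.inD (Spec (CommRingCat.of k)) (Coh.structureModule (Spec (CommRingCat.of k)))))
    (U : X.Opens) (hU : ∀ x : X, ¬ IsClosed ({x} : Set X) → x ∈ U) (V : X.Opens) :
    Function.Injective ((DCoh.HD (a.obj O).obj (-(1 : ℤ))).presheaf.map (homOfLE (inf_le_left : V ⊓ U ≤ V)).op) := by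
  letI : X.Over (Spec (CommRingCat.of k)) := ⟨f⟩
  haveI : IsProper (X ↘ Spec (CommRingCat.of k)) := ‹IsProper f›
  have hd : topologicalKrullDim X ≤ 1 := Groth.L21.CurveDual.dim_le_one k fun Z hZ => by rw [hdim Z hZ]; rfl
  obtain ⟨ω, t, ht, ⟨e⟩⟩ := Groth.L21.CurveDual.exists_isRDual_adj hd hf a adj O hO
  exact Groth.L21.CurveDual.injective_restrict_of_iso ht e U hU V

end Groth.Agent.S12536
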