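import Groth.Statements.S12542
import Groth.Agent.L14.HM.Gen.Main

set_option autoImplicit false
universe u
open TensorProduct LaurentPolynomial
open GIT

namespace Groth.Agent.S12542

/-- Let k be an algebraically closed field of characteristic zero and G = Spec A a linearly reductive
affine algebraic group (A a finitely generated commutative Hopf algebra whose finite-dimensional
comodules are all semisimple) acting linearly on affine ι-space, and let v ≠ 0 be a vector. Then v
is semistable (some invariant homogeneous polynomial of positive degree is non-zero at v) if and
only if μ(v, λ) ≥ 0 for every one-parameter subgroup λ of G, where μ(v, λ) = m means that t^m · (v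
moved by λ(t)) tends to a non-zero vector as t → 0. (The published result concerns a reductive group
acting on any proper scheme with an ample linearised invertible sheaf; this row is the case of
projective space with the hyperplane bundle, to which the published proof reduces, stated on the
affine cone.) -/
theorem result (k : Type u) [Field k] [IsAlgClosed k] [CharZero k]
    (A : Type u) [CommRing A] [HopfAlgebra k A] [Algebra.FiniteType k A] (hG : HopfRep.IsLinearlyReductive k A)
    (ι : Type u) [Fintype ι] [HopfRep.Comod k A (MvPolynomial ι k)] [GLin.IsCoactAlg k A (MvPolynomial ι k)]
    (hlin : GLin.IsLinear k A ι) (v : ι → k) (hv : v ≠ 0) :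
    GLin.IsSemistableVec k A v ↔
      ∀ (lam : A →ₐc[k] k[T;T⁻¹]) (m : ℤ), GLin.IsMu k A lam v m → 0 ≤ m :=
  Groth.L14.HM.Gen.isSemistableVec_iff_mu hG hlin v hv

end Groth.Agent.S12542
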