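import Groth.Statements.S12545
import Groth.Agent.Lead.MuFun
-- import your own Groth.Agent.* helpers here

set_option autoImplicit false
universe u
open TensorProduct LaurentPolynomial
open GIT

namespace Groth.Agent.S12545

/-- Let a commutative bialgebra A over a field k coact linearly on affine ι-space, let λ be a
one-parameter subgroup (a bialgebra map to the Laurent polynomial ring) and v ≠ 0 a vector; write
μ(v, λ) = m when t^m · (v moved by λ(t)) extends to the affine line with non-zero value at t = 0.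
Then v moved by λ(t) has no limit as t → 0 exactly when μ(v, λ) > 0, has a limit different from the
origin exactly when μ(v, λ) = 0, and tends to the origin exactly when μ(v, λ) < 0. -/
theorem result (k : Type u) [Field k] (A : Type u) [CommRing A] [Bialgebra k A]
    (ι : Type u) [Fintype ι] [HopfRep.Comod k A (MvPolynomial ι k)] [GLin.IsCoactAlg k A (MvPolynomial ι k)]
    (hlin : GLin.IsLinear k A ι) (lam : A →ₐc[k] k[T;T⁻¹]) (v : ι → k) (hv : v ≠ 0) :
    (¬ GLin.HasLimit k A lam (GLin.vecPt k ι v) ↔ ∃ m : ℤ, GLin.IsMu k A lam v m ∧ 0 < m) ∧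
      ((GLin.HasLimit k A lam (GLin.vecPt k ι v) ∧
          ¬ GLin.IsLimit k A lam (GLin.vecPt k ι v) (GLin.vecPt k ι (fun _ => (0 : k)))) ↔
        GLin.IsMu k A lam v 0) ∧
      (GLin.IsLimit k A lam (GLin.vecPt k ι v) (GLin.vecPt k ι (fun _ => (0 : k))) ↔
        ∃ m : ℤ, GLin.IsMu k A lam v m ∧ m < 0) := by
  obtain ⟨m, hm, hu⟩ := Groth.Lead.MuFun.existsUnique_isMu lam hv
  obtain ⟨h1, i₀, h2⟩ := (Groth.Lead.MuFun.isMu_iff lam v m).1 hm
  have hlim := Groth.Lead.MuFun.hasLimit_iff lam v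
  have horig := Groth.Lead.MuFun.isLimit_origin_iff lam v
  have hL : GLin.HasLimit k A lam (GLin.vecPt k ι v) ↔ m ≤ 0 := by
    rw [hlim]
    exact ⟨fun h => by have := h i₀ _ h2; omega, fun h i n hn => by have := h1 i n hn; omega⟩
  have hO : GLin.IsLimit k A lam (GLin.vecPt k ι v) (GLin.vecPt k ι (fun _ => (0 : k))) ↔ m < 0 := by
    rw [horig]
    exact ⟨fun h => by have := h i₀ _ h2; omega, fun h i n hn => by have := h1 i n hn; omega⟩
  refine ⟨?_, ?_, ?_⟩
  · rw [hL, not_le]
    exact ⟨fun h => ⟨m, hm, h⟩, fun ⟨m', hm', h⟩ => (hu m' hm') ▸ h⟩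
  · rw [hL, hO, not_lt]
    exact ⟨fun h => (le_antisymm h.1 h.2) ▸ hm, fun h => by have := hu 0 h; omega⟩
  · rw [hO]
    exact ⟨fun h => ⟨m, hm, h⟩, fun ⟨m', hm', h⟩ => (hu m' hm') ▸ h⟩

end Groth.Agent.S12545
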