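import Groth.Statements.S12546
import Groth.Agent.L14.HM.Binary

set_option autoImplicit false
universe u
open TensorProduct LaurentPolynomial
open GIT

namespace Groth.Agent.S12546

/-- Let k be an algebraically closed field of characteristic zero and let SL_2 act by substitution on
binary forms of degree d, a form being the point a = (a_0, …, a_d) with F = Σ_i (d choose i) a_i
x^(d−i) y^i. For a ≠ 0: a is stable (closed orbit, finite stabiliser) if and only if every non-zero
linear form ℓ and every m with ℓ^m dividing F satisfy 2m < d, i.e. F has no root on the projective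
line of multiplicity d/2 or more. -/
theorem result (k : Type u) [Field k] [IsAlgClosed k] [CharZero k]
    (d : ℕ) (a : Fin (d + 1) → k) (ha : a ≠ 0) :
    @GLin.IsStableVec k _ (CoordGrp.SLn 2 k) _ _ (CoordGrp.FormIdx 2 d) (GLin.comodAlong ((CoordGrp.SLn.mkHom 2 k).comp (CoordGrp.Mat.toGLn 2 k)) (CoordGrp.formsCoact k 2 d))
      (GLin.isCoactAlg_comodAlong ((CoordGrp.SLn.mkHom 2 k).comp (CoordGrp.Mat.toGLn 2 k)) (CoordGrp.formsCoact k 2 d)
        (CoordGrp.formsCoact_isCoactAlg k 2 d))
      (CoordGrp.binVec d a) ↔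
      ∀ ℓ : MvPolynomial (Fin 2) k, ℓ.IsHomogeneous 1 → ℓ ≠ 0 →
        ∀ m : ℕ, ℓ ^ m ∣ CoordGrp.formPoly (CoordGrp.binVec d a) → 2 * m < d := by
  classical
  have ha' : CoordGrp.binVec d a ≠ 0 := fun h => ha (funext fun i => by
    have h1 := congrFun h (CoordGrp.binIdx d i)
    rwa [CoordGrp.binVec_binIdx] at h1)
  have hF := Groth.L14.HM.formPoly_isHomogeneous (CoordGrp.binVec d a)
  refine ⟨fun hst ℓ hℓ _ m hdvd => ?_, fun h => Groth.L14.HM.isStableVec_of_strict (n := 1) (m := d) _
    (Groth.L14.HM.strict_binary hF (Groth.L14.HM.formPoly_ne_zero ha') h)⟩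
  by_contra hge
  obtain ⟨M, hM, he⟩ := Groth.L14.HM.exists_coeff_eq_zero hF hℓ hdvd
  refine Groth.L14.HM.not_isStableVec_of_weights (n := 1) (m := d) (Nat.cast_ne_zero.2 d.factorial_ne_zero)
    _ M hM ![-1, 1] (by decide) (fun h => by simpa using congrFun h 1) (fun e hc => ?_) hst
  obtain ⟨h1, h2⟩ := he e hc
  rw [Groth.L14.HM.wt_binary h2]
  omega

end Groth.Agent.S12546
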