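import Groth.Statements.S12549
import Mathlib.Algebra.BigOperators.Intervals
import Mathlib.Algebra.BigOperators.Fin
import Mathlib.Data.Real.Basic
import Mathlib.Data.Fintype.Basic
import Mathlib.Tactic.Linarith
import Mathlib.Tactic.FieldSimp
import Mathlib.Tactic.LinearCombination
import Mathlib.Tactic.Ring

set_option autoImplicit false
universe u
open GIT

namespace Groth.Agent.S12549

open Finset

/-- Twice the sum of `(s - i)₊` over an initial segment. -/
theorem two_sum_tsub (L s : ℕ) :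
    ((s ≤ L → 2 * ∑ i ∈ range L, ((s - i : ℕ) : ℝ) = s * (s + 1)) ∧
      (L ≤ s → 2 * ∑ i ∈ range L, ((s - i : ℕ) : ℝ) = L * (2 * s - L + 1))) := by
  induction L with
  | zero => simp +contextual
  | succ L ih =>
    rw [sum_range_succ, mul_add]
    constructor
    · intro h
      rcases Nat.lt_or_ge s (L + 1) with h' | h'
      · rw [ih.1 (by omega), show s - L = 0 by omega]
        simp
      · obtain rfl : s = L + 1 := by omega
        rw [ih.2 (by omega), Nat.cast_sub (by omega)]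
        push_cast
        ring
    · intro h
      rw [ih.2 (by omega), Nat.cast_sub (by omega)]
      push_cast
      ring

theorem sum_trapezoid_tsub (N s : ℕ) (hs : s ≤ N) :
    ∑ x ∈ range N, (((s - x : ℕ) : ℝ) + ((s - (x + 1) : ℕ) : ℝ)) = (s : ℝ) ^ 2 := by
  have h1 := (two_sum_tsub N s).1 hs
  have h2 := (two_sum_tsub (N + 1) s).1 (by omega)
  rw [sum_range_succ'] at h2
  rw [sum_add_distrib]
  simp only [Nat.sub_zero] at h2
  nlinarith

/-- The upper bounds of the weights. -/
def ub (n g i : ℕ) : ℕ := if i ≤ n - g then i else i + g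

/-- The functional evaluated on the hinge with corner `s` is positive. -/
theorem hinge_pos (n g s : ℕ) (hg : 1 ≤ g) (hn : 2 * g ≤ n) (hs1 : 1 ≤ s) (hs : s ≤ n + g) :
    0 < 2 * ((n + g : ℕ) : ℝ) * ∑ i ∈ range (n + 1), ((s - ub n g i : ℕ) : ℝ) - (n + 1 : ℝ) * (s : ℝ) ^ 2 := by
  obtain ⟨c, hc⟩ : ∃ c, n + 1 = c + g := ⟨n + 1 - g, by omega⟩
  rw [hc, sum_range_add, mul_add]
  have e1 : ∑ i ∈ range c, ((s - ub n g i : ℕ) : ℝ) = ∑ i ∈ range c, ((s - i : ℕ) : ℝ) :=
    sum_congr rfl fun i hi => by rw [ub, if_pos]; have := mem_range.1 hi; omega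
  have e2 : ∑ i ∈ range g, ((s - ub n g (c + i) : ℕ) : ℝ) = ∑ i ∈ range g, (((s - (n + 1)) - i : ℕ) : ℝ) :=
    sum_congr rfl fun i hi => by
      rw [ub, if_neg (by omega)]
      congr 1
      omega
  rw [e1, e2]
  have hN : ((n + g : ℕ) : ℝ) = n + g := by push_cast; ring
  have hcR : (c : ℝ) = n + 1 - g := by
    have : ((n + 1 : ℕ) : ℝ) = ((c + g : ℕ) : ℝ) := by rw [hc]
    push_cast at this
    linarith
  have hg' : (1 : ℝ) ≤ g := by exact_mod_cast hg
  have hn' : 2 * (g : ℝ) ≤ n := by exact_mod_cast hn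
  have hs' : (1 : ℝ) ≤ s := by exact_mod_cast hs1
  have hN' : (0 : ℝ) ≤ (n + g : ℝ) := by positivity
  have hsN : (s : ℝ) ≤ n + g := by exact_mod_cast hs
  rcases Nat.lt_or_ge (n + 1) s with h | h
  · have h2 := (two_sum_tsub g (s - (n + 1))).1 (by omega)
    have h1 := (two_sum_tsub c s).2 (by omega)
    rw [Nat.cast_sub h.le] at h2
    push_cast at h2
    have ht : (n : ℝ) + 1 + 1 ≤ s := by exact_mod_cast (show n + 1 + 1 ≤ s by omega)
    rw [hN]
    have A : ((n : ℝ) + g) * (2 * ∑ i ∈ range c, ((s - i : ℕ) : ℝ)) = ((n : ℝ) + g) * (c * (2 * s - c + 1)) := by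
      rw [h1]
    have B : ((n : ℝ) + g) * (2 * ∑ i ∈ range g, (((s - (n + 1)) - i : ℕ) : ℝ)) =
        ((n : ℝ) + g) * ((s - (n + 1)) * (s - (n + 1) + 1)) := by rw [h2]
    rw [hcR] at A
    have key : ((n : ℝ) + g) * (2 * ∑ i ∈ range c, ((s - i : ℕ) : ℝ)) +
        ((n : ℝ) + g) * (2 * ∑ i ∈ range g, (((s - (n + 1)) - i : ℕ) : ℝ)) - (n + 1) * (s : ℝ) ^ 2 =
        ((n : ℝ) + g) * g * (n + 1 - 2 * g) + ((n : ℝ) + g - s) * ((n : ℝ) + g) + (g - 1) * ((n : ℝ) + g - s) ^ 2 := by
      linear_combination A + B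
    have hpos : 0 < ((n : ℝ) + g) * g * (n + 1 - 2 * g) :=
      mul_pos (mul_pos (by linarith) (by linarith)) (by linarith)
    have h3 := mul_nonneg (sub_nonneg.2 hsN) hN'
    have h4 := mul_nonneg (sub_nonneg.2 hg') (sq_nonneg ((n : ℝ) + g - s))
    linarith
  · have h0 : ∑ i ∈ range g, (((s - (n + 1)) - i : ℕ) : ℝ) = 0 :=
      sum_eq_zero fun i _ => by rw [show s - (n + 1) - i = 0 by omega]; simp
    rw [h0, hN]
    rcases Nat.lt_or_ge s c with h' | h'
    · have h1 := (two_sum_tsub c s).1 h'.le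
      have A : ((n : ℝ) + g) * (2 * ∑ i ∈ range c, ((s - i : ℕ) : ℝ)) = ((n : ℝ) + g) * (s * (s + 1)) := by rw [h1]
      nlinarith [A, mul_nonneg (sub_nonneg.2 hg') (sq_nonneg (s : ℝ)), mul_pos (by linarith : (0:ℝ) < n + g) (by linarith : (0:ℝ) < s)]
    · have h1 := (two_sum_tsub c s).2 h'
      have hsc : (c : ℝ) ≤ s := by exact_mod_cast h'
      have hsu : (s : ℝ) ≤ n + 1 := by exact_mod_cast h
      have A : ((n : ℝ) + g) * (2 * ∑ i ∈ range c, ((s - i : ℕ) : ℝ)) = ((n : ℝ) + g) * (c * (2 * s - c + 1)) := by rw [h1]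
      rw [hcR] at A hsc
      nlinarith [A, mul_nonneg (sub_nonneg.2 hsc) (sub_nonneg.2 hsu), mul_nonneg (sub_nonneg.2 hg') (sub_nonneg.2 hn'),
        mul_nonneg (sub_nonneg.2 hn') (sub_nonneg.2 hsu), mul_nonneg (sub_nonneg.2 hg') (sub_nonneg.2 hsu),
        mul_nonneg (mul_nonneg (sub_nonneg.2 hg') (sub_nonneg.2 hg')) (sub_nonneg.2 hn'),
        mul_nonneg (sub_nonneg.2 hn') (sub_nonneg.2 hn')]

/-- A function on `[0, N]` as a combination of hinges. -/
theorem hinge_decomp (N : ℕ) (F : ℕ → ℝ) (x : ℕ) (hx : x ≤ N) :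
    F x = F N + ∑ s ∈ range N,
      (if s + 1 = N then F (N - 1) - F N else F (s + 2) - 2 * F (s + 1) + F s) * ((s + 1 - x : ℕ) : ℝ) := by
  set w : ℕ → ℝ := fun s => if s + 1 = N then F (N - 1) - F N else F (s + 2) - 2 * F (s + 1) + F s with hw
  have htel : ∀ k y, y + k + 1 = N → ∑ s ∈ Ico y N, w s = F y - F (y + 1) := by
    intro k
    induction k with
    | zero =>
      intro y hy
      obtain rfl : N = y + 1 := by omega
      simp [hw]
    | succ k ih =>
      intro y hy
      rw [sum_eq_sum_Ico_succ_bot (by omega), ih (y + 1) (by omega), hw]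
      simp only [if_neg (show y + 1 ≠ N by omega)]
      ring
  obtain ⟨k, hk⟩ := Nat.exists_eq_add_of_le hx
  induction k generalizing x with
  | zero =>
    obtain rfl : x = N := by omega
    rw [sum_eq_zero, add_zero]
    exact fun s hs => by have := mem_range.1 hs; rw [show s + 1 - x = 0 by omega]; simp
  | succ k ih =>
    have h1 := ih (x + 1) (by omega) (by omega)
    have h2 := htel k x (by omega)
    have h3 : ∑ s ∈ range N, w s * ((s + 1 - x : ℕ) : ℝ) =
        ∑ s ∈ range N, w s * ((s + 1 - (x + 1) : ℕ) : ℝ) + ∑ s ∈ Ico x N, w s := by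
      rw [← sum_range_add_sum_Ico _ (show x ≤ N by omega), ← sum_range_add_sum_Ico _ (show x ≤ N by omega)]
      have z1 : ∑ s ∈ range x, w s * ((s + 1 - x : ℕ) : ℝ) = 0 :=
        sum_eq_zero fun s hs => by have := mem_range.1 hs; rw [show s + 1 - x = 0 by omega]; simp
      have z2 : ∑ s ∈ range x, w s * ((s + 1 - (x + 1) : ℕ) : ℝ) = 0 :=
        sum_eq_zero fun s hs => by have := mem_range.1 hs; rw [show s + 1 - (x + 1) = 0 by omega]; simp
      rw [z1, z2, zero_add, zero_add, ← sum_add_distrib]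
      refine sum_congr rfl fun s hs => ?_
      have := (mem_Ico.1 hs).1
      rw [show s + 1 - x = (s + 1 - (x + 1)) + 1 by omega]
      push_cast
      ring
    change F x = F N + ∑ s ∈ range N, w s * _
    change F (x + 1) = F N + ∑ s ∈ range N, w s * _ at h1
    rw [h3, h2]
    linarith

/-- Convex decreasing functions with nonnegative integral have positive weighted sums. -/
theorem weighted_sum_pos (n g : ℕ) (hg : 1 ≤ g) (hn : 2 * g ≤ n) (F : ℕ → ℝ)
    (hconv : ∀ x, x + 1 < n + g → F (x + 1) - F x ≤ F (x + 2) - F (x + 1))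
    (hdec : ∀ x, x < n + g → F (x + 1) ≤ F x) (hne : F (n + g) < F 0) :
    (n + 1 : ℝ) * ∑ x ∈ range (n + g), (F x + F (x + 1)) <
      2 * ((n + g : ℕ) : ℝ) * ∑ i ∈ range (n + 1), F (ub n g i) := by
  set N := n + g with hNdef
  let w : ℕ → ℝ := fun s => if s + 1 = N then F (N - 1) - F N else F (s + 2) - 2 * F (s + 1) + F s
  have hw : ∀ s ∈ range N, 0 ≤ w s := fun s hs => by
    have := mem_range.1 hs
    by_cases h : s + 1 = N
    · simp only [w, if_pos h]
      have := hdec s this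
      rw [h] at this
      rw [show N - 1 = s by omega]
      linarith
    · simp only [w, if_neg h]
      have := hconv s (by omega)
      linarith
  have hwpos : ∃ s ∈ range N, 0 < w s := by
    by_contra! h
    have := hinge_decomp N F 0 (by omega)
    rw [sum_eq_zero fun s hs => ?_] at this
    · linarith
    · rw [show (if s + 1 = N then F (N - 1) - F N else F (s + 2) - 2 * F (s + 1) + F s) = w s from rfl,
        le_antisymm (h s hs) (hw s hs), zero_mul]
  have hub : ∀ i ∈ range (n + 1), ub n g i ≤ N := fun i hi => by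
    have := mem_range.1 hi
    unfold ub
    split_ifs <;> omega
  have e1 : ∑ i ∈ range (n + 1), F (ub n g i) =
      (n + 1) * F N + ∑ s ∈ range N, w s * ∑ i ∈ range (n + 1), ((s + 1 - ub n g i : ℕ) : ℝ) := by
    rw [sum_congr rfl fun i hi => hinge_decomp N F _ (hub i hi), sum_add_distrib, sum_const, card_range, sum_comm]
    simp only [← mul_sum, nsmul_eq_mul]
    push_cast
    rfl
  have e2 : ∑ x ∈ range N, (F x + F (x + 1)) = 2 * N * F N + ∑ s ∈ range N, w s * ((s + 1 : ℕ) : ℝ) ^ 2 := by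
    rw [sum_congr rfl fun x hx => by
      rw [hinge_decomp N F x (mem_range.1 hx).le, hinge_decomp N F (x + 1) (mem_range.1 hx)],
      sum_congr rfl fun x _ => (add_add_add_comm _ _ _ _), sum_add_distrib, sum_const, card_range, nsmul_eq_mul]
    congr 1
    · ring
    · rw [sum_congr rfl fun x _ => (sum_add_distrib).symm, sum_comm]
      refine sum_congr rfl fun s hs => ?_
      rw [← sum_trapezoid_tsub N (s + 1) (mem_range.1 hs), mul_sum]
      exact sum_congr rfl fun x _ => by ring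
  rw [e1, e2, mul_add, mul_add, mul_sum, mul_sum]
  refine add_lt_add_of_le_of_lt (le_of_eq (by ring)) ?_
  obtain ⟨s₀, hs₀, hs₀'⟩ := hwpos
  refine sum_lt_sum (fun s hs => ?_) ⟨s₀, hs₀, ?_⟩
  · have h := hinge_pos n g (s + 1) hg hn (by omega) (by have := mem_range.1 hs; omega)
    have := mul_le_mul_of_nonneg_left (sub_pos.1 h).le (hw s hs)
    nlinarith
  · have h := hinge_pos n g (s₀ + 1) hg hn (by omega) (by have := mem_range.1 hs₀; omega)
    have := mul_lt_mul_of_pos_left (sub_pos.1 h) hs₀'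
    nlinarith

/-- The value of a chain. -/
def chainSum {n : ℕ} (e : Fin (n + 1) → ℕ) (r : Fin (n + 1) → ℝ) {μ : ℕ} (c : Fin (μ + 1) → Fin (n + 1)) : ℝ :=
  ∑ j : Fin μ, ((e (c j.succ) : ℝ) - (e (c j.castSucc) : ℝ)) * (r (c j.succ) + r (c j.castSucc))

theorem chainSum_cons {n : ℕ} (e : Fin (n + 1) → ℕ) (r : Fin (n + 1) → ℝ) {μ : ℕ} (i : Fin (n + 1))
    (c : Fin (μ + 1) → Fin (n + 1)) :
    chainSum e r (Fin.cons i c : Fin (μ + 1 + 1) → Fin (n + 1)) =
      ((e (c 0) : ℝ) - e i) * (r (c 0) + r i) + chainSum e r c := by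
  rw [chainSum, Fin.sum_univ_succ]
  simp [chainSum, ← Fin.succ_castSucc]

/-- The lower convex hull of the points `(e j, r j)`. -/
theorem exists_hull (n N : ℕ) (e : Fin (n + 1) → ℕ) (hen : e (Fin.last n) = N) (hmono : Monotone e)
    (r : Fin (n + 1) → ℝ) (hanti : Antitone r) (d : ℕ) :
    ∀ i : Fin (n + 1), n - i = d → (∀ j, i < j → e i < e j) →
    ∃ (μ : ℕ) (c : Fin (μ + 1) → Fin (n + 1)) (F : ℕ → ℝ), StrictMono c ∧ c 0 = i ∧ c (Fin.last μ) = Fin.last n ∧
      F (e i) = r i ∧ (∀ j, i ≤ j → F (e j) ≤ r j) ∧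
      (∀ x, e i ≤ x → x + 1 < N → F (x + 1) - F x ≤ F (x + 2) - F (x + 1)) ∧
      (∀ x, e i ≤ x → x < N → F (x + 1) ≤ F x) ∧
      chainSum e r c = ∑ x ∈ Ico (e i) N, (F x + F (x + 1)) ∧
      (e i < N → ∃ j, i < j ∧ F (e i + 1) - F (e i) = (r j - r i) / ((e j : ℝ) - e i)) := by
  classical
  induction d using Nat.strong_induction_on with
  | _ d ih =>
  intro i hid htop
  by_cases hi : i = Fin.last n
  · subst hi
    refine ⟨0, fun _ => Fin.last n, fun _ => r (Fin.last n), Fin.strictMono_iff_lt_succ.2 fun k => k.elim0, rfl, rfl, rfl, ?_, ?_, ?_, ?_, ?_⟩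
    · intro j hj; rw [Fin.last_le_iff.1 hj]
    · intros; simp
    · intros; simp
    · simp [chainSum, hen]
    · intro h; omega
  · have hil : i < Fin.last n := lt_of_le_of_ne (Fin.le_last i) hi
    obtain ⟨j₁, hj₁, hmin⟩ := (univ.filter fun j => i < j).exists_min_image
      (fun j => (r j - r i) / ((e j : ℝ) - e i)) ⟨Fin.last n, by simpa using hil⟩
    simp only [mem_filter, mem_univ, true_and] at hj₁ hmin
    let Lv := univ.filter fun j => e j = e j₁
    have hLv : Lv.Nonempty := ⟨j₁, by simp [Lv]⟩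
    set j₂ := Lv.max' hLv with hj₂
    have he₂ : e j₂ = e j₁ := (mem_filter.1 (Lv.max'_mem hLv)).2
    have h12 : j₁ ≤ j₂ := Lv.le_max' _ (by simp [Lv])
    have hij : i < j₂ := lt_of_lt_of_le hj₁ h12
    have htop₂ : ∀ j, j₂ < j → e j₂ < e j := fun j hj => by
      refine lt_of_le_of_ne (hmono hj.le) fun h => ?_
      exact absurd (Lv.le_max' j (by simp [Lv, ← h, he₂])) (not_le.2 hj)
    have hpos : ∀ j, i < j → (0 : ℝ) < (e j : ℝ) - e i := fun j hj => sub_pos.2 (by exact_mod_cast htop j hj)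
    set s := (r j₂ - r i) / ((e j₂ : ℝ) - e i) with hs
    have hsmin : ∀ j, i < j → s ≤ (r j - r i) / ((e j : ℝ) - e i) := fun j hj => by
      refine le_trans ?_ (hmin j hj)
      rw [hs, he₂]
      exact div_le_div_of_nonneg_right (sub_le_sub_right (hanti h12) _) (hpos j₁ hj₁).le
    obtain ⟨μ, c, F, hc, hc0, hcl, hF0, hFle, hFconv, hFdec, hFsum, hFslope⟩ :=
      ih (n - j₂) (by have := Fin.lt_def.1 hij; have := j₂.isLt; omega) j₂ rfl htop₂
    let G : ℕ → ℝ := fun x => if x ≤ e j₂ then r i + s * ((x : ℝ) - e i) else F x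
    have hGj : G (e j₂) = r j₂ := by
      simp only [G, le_rfl, if_true, hs]
      field_simp [(hpos j₂ hij).ne']
      ring
    have hGF : ∀ x, e j₂ ≤ x → G x = F x := fun x hx => by
      rcases eq_or_lt_of_le hx with rfl | hx'
      · rw [hGj, hF0]
      · simp [G, not_le.2 hx']
    have hstep : ∀ x, x < e j₂ → G (x + 1) - G x = s := fun x hx => by
      simp only [G, if_pos hx.le, if_pos (Nat.succ_le_of_lt hx)]
      push_cast
      ring
    have hlt := htop j₂ hij
    have hs0 : s ≤ 0 := div_nonpos_of_nonpos_of_nonneg (sub_nonpos.2 (hanti hij.le)) (hpos j₂ hij).le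
    have hN : e j₂ ≤ N := hen ▸ hmono (Fin.le_last _)
    refine ⟨μ + 1, Fin.cons i c, G, ?_, Fin.cons_zero _ _, ?_, ?_, ?_, ?_, ?_, ?_, ?_⟩
    · refine Fin.strictMono_iff_lt_succ.2 fun k => ?_
      refine Fin.cases ?_ (fun k => ?_) k
      · simpa [hc0] using hij
      · simp only [← Fin.succ_castSucc, Fin.cons_succ]
        exact hc Fin.castSucc_lt_succ
    · rw [← Fin.succ_last, Fin.cons_succ, hcl]
    · simp [G, hlt.le]
    · intro j hj
      rcases le_or_gt (e j) (e j₂) with h | h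
      · rcases eq_or_lt_of_le hj with rfl | hj'
        · simp [G, hlt.le]
        · simp only [G, if_pos h]
          have := mul_le_mul_of_nonneg_right (hsmin j hj') (hpos j hj').le
          rw [div_mul_cancel₀ _ (hpos j hj').ne'] at this
          linarith
      · rw [hGF _ h.le]
        exact hFle j (le_of_not_gt fun h' => absurd (hmono h'.le) (not_le.2 h))
    · intro x hx hxN
      rcases Nat.lt_or_ge (x + 1) (e j₂) with h | h
      · rw [hstep x (by omega), show x + 2 = x + 1 + 1 from rfl, hstep (x + 1) h]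
      · rcases Nat.lt_or_ge x (e j₂) with h' | h'
        · obtain ⟨l, hl, hslope⟩ := hFslope (by omega)
          rw [hstep x h', hGF (x + 2) (by omega), hGF (x + 1) h, show x + 1 = e j₂ by omega,
            show x + 2 = e j₂ + 1 by omega, hslope, le_div_iff₀ (sub_pos.2 (by exact_mod_cast htop₂ l hl))]
          have h1 := hsmin l (hij.trans hl)
          rw [le_div_iff₀ (hpos l (hij.trans hl))] at h1
          have h2 : s * ((e j₂ : ℝ) - e i) = r j₂ - r i := div_mul_cancel₀ _ (hpos j₂ hij).ne'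
          nlinarith
        · rw [hGF _ h', hGF _ (by omega), hGF _ (by omega)]
          exact hFconv x h' hxN
    · intro x hx hxN
      rcases Nat.lt_or_ge x (e j₂) with h | h
      · have := hstep x h
        linarith
      · rw [hGF _ h, hGF _ (by omega)]
        exact hFdec x h hxN
    · rw [chainSum_cons, hc0, hFsum, ← sum_Ico_consecutive _ hlt.le hN]
      congr 1
      · have key : ∀ L : ℕ, e i + L ≤ e j₂ → ∑ x ∈ Ico (e i) (e i + L), (G x + G (x + 1)) = L * (2 * r i + s * L) := by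
          intro L
          induction L with
          | zero => simp
          | succ L ihL =>
            intro hL
            rw [show e i + (L + 1) = (e i + L) + 1 from rfl, sum_Ico_succ_top (by omega), ihL (by omega)]
            simp only [G, if_pos (show e i + L ≤ e j₂ by omega), if_pos (show e i + L + 1 ≤ e j₂ by omega)]
            push_cast
            ring
        have := key (e j₂ - e i) (by omega)
        rw [Nat.add_sub_cancel' hlt.le, Nat.cast_sub hlt.le] at this
        rw [this]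
        have h2 : s * ((e j₂ : ℝ) - e i) = r j₂ - r i := div_mul_cancel₀ _ (hpos j₂ hij).ne'
        linear_combination -((e j₂ : ℝ) - e i) * h2
      · refine sum_congr rfl fun x hx => ?_
        have := (mem_Ico.1 hx).1
        rw [hGF _ this, hGF _ (by omega)]
    · intro _
      exact ⟨j₂, hij, hstep _ hlt⟩


/-- Let g ≥ 1 and n ≥ 2g, and let e_0, …, e_n be natural numbers with e_0 = 0, e_n = n + g, e_0 ≤ … ≤
e_n, e_i ≤ i for i ≤ n − g and e_i ≤ i + g for all i. Then for all real r_0 ≥ r_1 ≥ … ≥ r_n with Σ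
r_i = 0, not all zero, some chain 0 = c_0 < c_1 < … < c_μ = n has Σ_j (e_(c_(j+1)) − e_(c_j)) ·
(r_(c_(j+1)) + r_(c_j)) < 0. -/
theorem result (n g : ℕ) (hg : 1 ≤ g) (hn : 2 * g ≤ n)
    (e : Fin (n + 1) → ℕ) (he0 : e 0 = 0) (hen : e (Fin.last n) = n + g) (hmono : Monotone e)
    (hle : ∀ i : Fin (n + 1), (i : ℕ) ≤ n - g → e i ≤ (i : ℕ)) (hle' : ∀ i : Fin (n + 1), e i ≤ (i : ℕ) + g)
    (r : Fin (n + 1) → ℝ) (hanti : Antitone r) (hsum : ∑ i, r i = 0) (hr : r ≠ 0) :
    ∃ (μ : ℕ) (c : Fin (μ + 1) → Fin (n + 1)), StrictMono c ∧ c 0 = 0 ∧ c (Fin.last μ) = Fin.last n ∧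
      ∑ j : Fin μ, ((e (c j.succ) : ℝ) - (e (c j.castSucc) : ℝ)) * (r (c j.succ) + r (c j.castSucc)) < 0 := by
  classical
  let Lv := Finset.univ.filter fun j => e j = 0
  have hLv : Lv.Nonempty := ⟨0, by simp [Lv, he0]⟩
  set i₀ := Lv.max' hLv with hi₀
  have he₀ : e i₀ = 0 := (Finset.mem_filter.1 (Lv.max'_mem hLv)).2
  have htop : ∀ j, i₀ < j → e i₀ < e j := fun j hj => by
    rw [he₀]
    refine Nat.pos_of_ne_zero fun h => ?_
    exact absurd (Lv.le_max' j (by simp [Lv, h])) (not_le.2 hj)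
  obtain ⟨μ, c, F, hc, hc0, hcl, hF0, hFle, hFconv, hFdec, hFsum, -⟩ :=
    exists_hull n (n + g) e hen hmono r hanti _ i₀ rfl htop
  rw [he₀] at hF0 hFconv hFdec hFsum
  by_contra! hno
  have hS : 0 ≤ ∑ x ∈ Finset.range (n + g), (F x + F (x + 1)) := by
    rw [Finset.range_eq_Ico, ← hFsum]
    by_cases h0 : i₀ = 0
    · exact hno μ c hc (hc0.trans h0) hcl
    · have := hno (μ + 1) (Fin.cons 0 c) (Fin.strictMono_iff_lt_succ.2 fun k => by
        refine Fin.cases ?_ (fun k => ?_) k
        · simpa [hc0] using Fin.pos_iff_ne_zero.2 h0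
        · simp only [← Fin.succ_castSucc, Fin.cons_succ]
          exact hc Fin.castSucc_lt_succ) (Fin.cons_zero _ _) (by rw [← Fin.succ_last, Fin.cons_succ, hcl])
      change 0 ≤ chainSum e r _ at this
      rwa [chainSum_cons, hc0, he₀, he0, sub_self, zero_mul, zero_add] at this
  have hmonoF : ∀ x y, x ≤ y → y ≤ n + g → F y ≤ F x := by
    intro x y hxy hy
    induction y, hxy using Nat.le_induction with
    | base => exact le_rfl
    | succ y hxy ih => exact (hFdec y (Nat.zero_le _) (by omega)).trans (ih (by omega))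
  have hpt : ∀ i : Fin (n + 1), F (ub n g i) ≤ r i := by
    intro i
    have hub : e i ≤ ub n g i ∧ ub n g i ≤ n + g := by
      have := i.isLt
      unfold ub
      split_ifs with h
      · exact ⟨hle i h, by omega⟩
      · exact ⟨hle' i, by omega⟩
    refine (hmonoF _ _ hub.1 hub.2).trans ?_
    rcases le_or_gt i₀ i with h | h
    · exact hFle i h
    · rw [show e i = 0 from Nat.le_zero.1 (he₀ ▸ hmono h.le), hF0]
      exact hanti h.le
  have hsumF : ∑ i ∈ Finset.range (n + 1), F (ub n g i) ≤ 0 := by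
    rw [← Fin.sum_univ_eq_sum_range, ← hsum]
    exact Finset.sum_le_sum fun i _ => hpt i
  rcases (hmonoF 0 (n + g) (Nat.zero_le _) le_rfl).lt_or_eq with hne | heq
  · have h := weighted_sum_pos n g hg hn F (fun x => hFconv x (Nat.zero_le _)) (fun x => hFdec x (Nat.zero_le _)) hne
    have h1 : 0 ≤ ((n : ℝ) + 1) * ∑ x ∈ Finset.range (n + g), (F x + F (x + 1)) := mul_nonneg (by positivity) hS
    have h2 := mul_nonpos_iff.2 (Or.inl ⟨(by positivity : (0 : ℝ) ≤ 2 * ((n + g : ℕ) : ℝ)), hsumF⟩)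
    linarith
  · have hconst : ∀ x ≤ n + g, F x = F 0 := fun x hx =>
      le_antisymm (hmonoF 0 x (Nat.zero_le _) hx) (heq ▸ hmonoF x (n + g) hx le_rfl)
    have hF : 0 ≤ F 0 := by
      rw [Finset.sum_congr rfl fun x hx => by
        rw [hconst x (Finset.mem_range.1 hx).le, hconst (x + 1) (Finset.mem_range.1 hx)]] at hS
      rw [Finset.sum_const, Finset.card_range, nsmul_eq_mul] at hS
      have : (0 : ℝ) < ((n + g : ℕ) : ℝ) := by exact_mod_cast (by omega : 0 < n + g)
      nlinarith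
    have hr0 : ∀ i, 0 ≤ r i := fun i => by
      refine le_trans ?_ (hpt i)
      rw [hconst]
      · exact hF
      · have := i.isLt
        unfold ub
        split_ifs <;> omega
    exact hr (funext fun i => (Finset.sum_eq_zero_iff_of_nonneg (fun j _ => hr0 j)).1 hsum i (Finset.mem_univ i))

end Groth.Agent.S12549
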