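import Groth.Statements.S1255
import Groth.Agent.L20.RG.PureCover
import Groth.Agent.S1226

set_option autoImplicit false
set_option linter.style.haveILetI false
set_option backward.isDefEq.respectTransparency.types false
universe u
open TensorProduct
open FlatMor

set_option backward.isDefEq.respectTransparency.types false
namespace Groth.Agent.S1255

/-- Ring form, all schemes affine: let B be an A-algebra of finite type, N a finite B-module and p a
prime of A such that N is flat over A at every prime of B over p. Let (A, p) → (A', p') be an
elementary étale ring map and B' an étale B-algebra which is compatibly an A'-algebra of finite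
type, with base change N' of N to B', such that N' is pure along the fibre over p' and every prime q
of B over p whose extension to the fibre ring over p is an associated prime of the fibre module of N
is the contraction of a prime of B' lying over p'. Let B_{A'} and N_{A'} be the base changes of B
and N to A' (any models), with the induced map B_{A'} → B'. Then N is pure along the fibre over p if
and only if: for every prime t' ⊆ p' of A' and every prime Q of B_{A'} over t' whose extension to
the fibre ring over t' is an associated prime of the fibre module of N_{A'}, Q is the contraction of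
a prime of B'. (The published statement asks in its covering hypothesis only that the image of Spec
B' in Spec B contain the associated primes of the fibre module of N over p, without requiring the
covering primes of B' to lie over p'. That is not enough when Spec A' has a second point over p —
with Spec A' = Spec A ⊔ Spec A and Spec B' over the other copy the "only if" fails — so the
hypothesis is stated here in the stronger form: the covering primes of B' lie over p'.) -/
theorem result {A B : Type u} [CommRing A] [CommRing B] [Algebra A B] [Algebra.FiniteType A B]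
    (N : Type u) [AddCommGroup N] [Module B N] [Module A N] [IsScalarTower A B N] [Module.Finite B N] (p : Ideal A) [p.IsPrime]
    (hflat : ∀ (q : Ideal B) [q.IsPrime], q.LiesOver p → FlatCA.FlatAt A q N)
    (A' : Type u) [CommRing A'] [Algebra A A'] (p' : Ideal A') [p'.IsPrime] (het : FlatCA.IsEtaleNhd A A' p p')
    (B' : Type u) [CommRing B'] [Algebra B B'] [Algebra A' B'] [Algebra A B'] [IsScalarTower A B B'] [IsScalarTower A A' B']
    [Algebra.Etale B B'] [Algebra.FiniteType A' B']
    (N' : Type u) [AddCommGroup N'] [Module B' N'] [Module B N'] [IsScalarTower B B' N'] [Module A' N'] [IsScalarTower A' B' N']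
    (f : N →ₗ[B] N') (hf : IsBaseChange B' f)
    (hpure : FlatCA.IsPureAlong A' B' N' p')
    (hcov : ∀ (q : Ideal B) [q.IsPrime], q.LiesOver p →
      FlatCA.fiberIdeal p q ∈ associatedPrimes (p.Fiber B) (FlatCA.fiberMod p B N) →
      ∃ q' : Ideal B', q'.IsPrime ∧ q'.comap (algebraMap B B') = q ∧ q'.comap (algebraMap A' B') = p')
    (BA NA : Type u) [CommRing BA] [Algebra B BA] [Algebra A' BA] [Algebra A BA] [IsScalarTower A B BA] [IsScalarTower A A' BA]
    [Algebra.IsPushout A B A' BA] [Algebra BA B'] [IsScalarTower B BA B'] [IsScalarTower A' BA B']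
    [AddCommGroup NA] [Module BA NA] [Module B NA] [IsScalarTower B BA NA] [Module A' NA] [IsScalarTower A' BA NA]
    (fA : N →ₗ[B] NA) (hfA : IsBaseChange BA fA) :
    FlatCA.IsPureAlong A B N p ↔
      ∀ (t' : Ideal A') [t'.IsPrime], t' ≤ p' → ∀ (Q : Ideal BA) [Q.IsPrime], Q.LiesOver t' →
        FlatCA.fiberIdeal t' Q ∈ associatedPrimes (t'.Fiber BA) (FlatCA.fiberMod t' BA NA) →
        ∃ Q' : Ideal B', Q'.IsPrime ∧ Q'.comap (algebraMap BA B') = Q := by
  haveI : p'.LiesOver p := het.2.1
  haveI : Algebra.Etale A A' := het.1
  haveI : Module.Finite BA NA := Module.Finite.equiv hfA.equiv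
  haveI : Algebra.FiniteType A' BA := Groth.L20.RG.finiteType_pushout (R := A) (S := B)
  haveI : Algebra.IsPushout A A' B BA := Algebra.IsPushout.symm inferInstance
  haveI : Algebra.Etale B BA := Algebra.Etale.of_equiv (Algebra.IsPushout.equiv A B A' BA)
  haveI : Algebra.Etale BA B' := Algebra.Etale.of_restrictScalars B BA B'
  letI : Module A NA := Module.compHom NA (algebraMap A A')
  haveI : IsScalarTower A A' NA := IsScalarTower.of_algebraMap_smul fun _ _ => rfl
  haveI : IsScalarTower A B NA := IsScalarTower.of_algebraMap_smul fun a m => by
    show algebraMap A B a • m = algebraMap A A' a • m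
    rw [← algebraMap_smul BA (algebraMap A B a) m, ← algebraMap_smul BA (algebraMap A A' a) m,
      ← IsScalarTower.algebraMap_apply, ← IsScalarTower.algebraMap_apply]
  letI : Module BA N' := Module.compHom N' (algebraMap BA B')
  haveI : IsScalarTower BA B' N' := IsScalarTower.of_algebraMap_smul fun _ _ => rfl
  haveI : IsScalarTower B BA N' := IsScalarTower.of_algebraMap_smul fun b m => by
    show algebraMap BA B' (algebraMap B BA b) • m = b • m
    rw [← IsScalarTower.algebraMap_apply, algebraMap_smul]
  constructor
  · intro hp
    have hNA : FlatCA.IsPureAlong A' BA NA p' := Groth.Agent.S1226.result N p A' BA NA fA hfA p' hp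
    intro t' _ ht' Q _ hQt hass
    haveI := hQt
    refine Groth.L20.RG.exists_lift_of_pure NA p' (fun x _ hx => ?_) (fun P hP => ?_) hNA t' ht' Q
      ((Groth.L20.RG.fiberIdeal_mem_ass_iff_weakAss t' NA Q).mp hass)
    · haveI := hx
      let q := x.comap (algebraMap B BA)
      have hq : q.LiesOver p := ⟨by
        rw [Ideal.under_def, Ideal.comap_comap, ← IsScalarTower.algebraMap_eq, IsScalarTower.algebraMap_eq A A' BA,
          ← Ideal.comap_comap, ← Ideal.under_def (A := A') (P := x), ← hx.over]
        exact Ideal.over_def p' p⟩
      haveI : Module.Flat A (LocalizedModule q.primeCompl N) := hflat q hq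
      exact Groth.L20.flat_localizedModule_of_isBaseChange (R := A) (S := B) (R' := A') (S' := BA) fA
        (Groth.L20.isBaseChange_restrictScalars (R := A) (S := B) (R' := A') (S' := BA) hfA) q.primeCompl x.primeCompl
        fun b hb h => hb h
    · haveI := Groth.L03.WeakAss.isPrime_of_mem_weakAss hP
      haveI : P.LiesOver p' := Groth.L20.RG.liesOver_of_mem_weakAss_fibre p' NA hP
      let q := P.comap (algebraMap B BA)
      have hqw : q ∈ FlatCA.weakAss B (N ⊗[A] p.ResidueField) :=
        Groth.L20.RG.mem_weakAss_fibre_comap N NA fA hfA p' p P hP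
      haveI hq : q.LiesOver p := Groth.L20.RG.liesOver_of_mem_weakAss_fibre p N hqw
      obtain ⟨q', hq', hq'q, hq'p⟩ := hcov q hq ((Groth.L20.RG.fiberIdeal_mem_ass_iff_weakAss p N q).mpr hqw)
      haveI := hq'
      let P₁ := q'.comap (algebraMap BA B')
      haveI : P₁.LiesOver p' := ⟨by
        rw [Ideal.under_def, Ideal.comap_comap, ← IsScalarTower.algebraMap_eq, hq'p]⟩
      refine ⟨q', hq', Groth.L20.RG.point_pushout_unique p q p' het.2 P₁ P ⟨?_⟩ ⟨rfl⟩⟩
      rw [Ideal.under_def, Ideal.comap_comap, ← IsScalarTower.algebraMap_eq, hq'q]
  · intro H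
    refine Groth.L20.RG.isPureAlong_descent N NA fA p p' hfA ?_
    refine Groth.L20.RG.pure_of_lift NA p' N' (hfA.lift f) (IsBaseChange.of_comp hfA ?_) hpure
      fun t' _ ht' Q _ hQt hQ => ?_
    · rw [hfA.lift_comp]
      exact hf
    · haveI := hQt
      exact H t' ht' Q hQt ((Groth.L20.RG.fiberIdeal_mem_ass_iff_weakAss t' NA Q).mpr hQ)

end Groth.Agent.S1255
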