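import Groth.Statements.S12550
import Mathlib.LinearAlgebra.FiniteDimensional.Lemmas

set_option autoImplicit false
universe u
open GIT

namespace Groth.Agent.S12550

/-- Let V be a finite-dimensional vector space over a field K and x_0, …, x_m non-zero vectors, a
configuration of m + 1 points of the projective space P(V). If for every subspace L with 0 ≠ L ≠ V
the number of indices i with x_i ∈ L, multiplied by dim V, is less than dim L · (m + 1) (the
configuration is stable), then no two proper subspaces L', L'' with L' ∩ L'' = 0 contain between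
them all the x_i. -/
theorem result (K : Type u) [Field K]
    (V : Type u) [AddCommGroup V] [Module K V] [FiniteDimensional K V]
    (m : ℕ) (x : Fin (m + 1) → V) (hx : ∀ i, x i ≠ 0)
    (hst : ∀ L : Submodule K V, L ≠ ⊥ → L ≠ ⊤ →
      Set.ncard {i : Fin (m + 1) | x i ∈ L} * Module.finrank K V < Module.finrank K L * (m + 1)) :
    ¬ ∃ L' L'' : Submodule K V, L' ≠ ⊤ ∧ L'' ≠ ⊤ ∧ Disjoint L' L'' ∧ ∀ i, x i ∈ L' ∨ x i ∈ L'' := by
  classical
  rintro ⟨L', L'', h', h'', hdisj, hall⟩
  have hb : ∀ L : Submodule K V, L ≠ ⊤ →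
      Set.ncard {i : Fin (m + 1) | x i ∈ L} * Module.finrank K V ≤ Module.finrank K L * (m + 1) ∧
        (L ≠ ⊥ → Set.ncard {i : Fin (m + 1) | x i ∈ L} * Module.finrank K V < Module.finrank K L * (m + 1)) := by
    intro L hL
    refine ⟨?_, fun h => hst L h hL⟩
    by_cases h : L = ⊥
    · have : {i : Fin (m + 1) | x i ∈ L} = ∅ := by
        ext i; simp [h, hx i]
      simp [this]
    · exact (hst L h hL).le
  have hne : L' ≠ ⊥ ∨ L'' ≠ ⊥ := by
    by_contra h
    push Not at h
    obtain ⟨h1, h2⟩ := h
    rcases hall 0 with h | h <;> simp_all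
  have hcard : m + 1 ≤ Set.ncard {i : Fin (m + 1) | x i ∈ L'} + Set.ncard {i : Fin (m + 1) | x i ∈ L''} := by
    refine le_trans ?_ (Set.ncard_union_le _ _)
    rw [show {i : Fin (m + 1) | x i ∈ L'} ∪ {i | x i ∈ L''} = Set.univ from Set.eq_univ_of_forall hall]
    simp [Set.ncard_univ]
  have hdim := Submodule.finrank_add_finrank_le_of_disjoint hdisj
  obtain ⟨M, hM⟩ : ∃ M, M = m + 1 := ⟨_, rfl⟩
  simp only [← hM] at hb hcard
  have h1 := Nat.mul_le_mul_right (Module.finrank K V) hcard
  have h2 := Nat.mul_le_mul_right M hdim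
  rw [add_mul] at h1 h2
  rw [mul_comm (Module.finrank K V) M] at h2
  rcases hne with h | h
  · have := (hb L' h').2 h; have := (hb L'' h'').1; omega
  · have := (hb L'' h'').2 h; have := (hb L' h').1; omega

end Groth.Agent.S12550
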