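import Groth.Statements.S12551
import Groth.Agent.L14.HM.Limit
import Groth.Agent.L14.HM.Perm

set_option autoImplicit false
universe u
open TensorProduct LaurentPolynomial
open GIT

namespace Groth.Agent.S12551

/-- Let k be an algebraically closed field of characteristic zero and let SL_3 act by substitution on
ternary quartic forms, the point a having the form F = Σ_e (4; e) a_e x^e. Then a fails to be stable
(closed orbit and finite stabiliser) if and only if there is a matrix M of determinant 1 such that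
the form F'(x) = F(Mx) = Σ b_ij x_0^(4−i−j) x_1^i x_2^j has b_00 = b_10 = b_01 = b_20 = b_11 = 0 and
in addition b_02 = 0 or b_30 = 0: in suitable coordinates the quartic curve has a triple point at
(1:0:0), or a tacnode there with tangent line x_2 = 0. -/
theorem result (k : Type u) [Field k] [IsAlgClosed k] [CharZero k]
    (a : CoordGrp.FormIdx 3 4 → k) :
    ¬ @GLin.IsStableVec k _ (CoordGrp.SLn 3 k) _ _ (CoordGrp.FormIdx 3 4) (GLin.comodAlong ((CoordGrp.SLn.mkHom 3 k).comp (CoordGrp.Mat.toGLn 3 k)) (CoordGrp.formsCoact k 3 4))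
      (GLin.isCoactAlg_comodAlong ((CoordGrp.SLn.mkHom 3 k).comp (CoordGrp.Mat.toGLn 3 k)) (CoordGrp.formsCoact k 3 4)
        (CoordGrp.formsCoact_isCoactAlg k 3 4))
      a ↔
      ∃ M : Matrix (Fin 3) (Fin 3) k, M.det = 1 ∧
        ∃ F' : MvPolynomial (Fin 3) k,
          F' = MvPolynomial.aeval (fun i : Fin 3 => ∑ j : Fin 3, MvPolynomial.C (M i j) * MvPolynomial.X j)
              (CoordGrp.formPoly a) ∧
          (∀ ij : ℕ × ℕ, ij ∈ ({(0, 0), (1, 0), (0, 1), (2, 0), (1, 1)} : Finset (ℕ × ℕ)) →
            F'.coeff (Finsupp.single 0 (4 - ij.1 - ij.2) + Finsupp.single 1 ij.1 + Finsupp.single 2 ij.2) = 0) ∧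
          (F'.coeff (Finsupp.single 0 2 + Finsupp.single 2 2) = 0 ∨
            F'.coeff (Finsupp.single 0 1 + Finsupp.single 1 3) = 0) := by
  classical
  have hm : ((Nat.factorial 4 : ℕ) : k) ≠ 0 := Nat.cast_ne_zero.2 (Nat.factorial_ne_zero 4)
  have hcoef : ∀ (M : Matrix (Fin 3) (Fin 3) k) (e : Fin 3 →₀ ℕ),
      (Groth.L14.PointSet.sub M (CoordGrp.formPoly a)).coeff e ≠ 0 → e 0 + e 1 + e 2 = 4 := by
    intro M e he
    have h1 : Groth.L14.PointSet.formB (Groth.L14.PointSet.act M a) =
        Groth.L14.PointSet.sub M (CoordGrp.formPoly a) := by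
      rw [Groth.L14.PointSet.formB_act, Algebra.algebraMap_self, MvPolynomial.map_id]
    rw [← h1, Groth.L14.PointSet.formB, MvPolynomial.coeff_sum] at he
    obtain ⟨l, -, hl⟩ := Finset.exists_ne_zero_of_sum_ne_zero he
    rw [MvPolynomial.coeff_monomial] at hl
    have hle : l.1 = e := by by_contra hne; exact hl (if_neg hne)
    have h2 : l.1.degree = 4 := l.2
    rw [hle, Finsupp.degree_eq_sum, Fin.sum_univ_three] at h2
    exact h2
  have hmon : ∀ (e : Fin 3 →₀ ℕ) (i j : ℕ), e 0 + e 1 + e 2 = 4 → e 1 = i → e 2 = j →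
      e = Finsupp.single 0 (4 - i - j) + Finsupp.single 1 i + Finsupp.single 2 j := by
    intro e i j h h1 h2
    ext t
    fin_cases t <;> simp <;> omega
  constructor
  · intro hns
    obtain ⟨M, G, _, _, _, g, hM, hanti, hsum, hne, hle⟩ :=
      Groth.L14.HM.exists_sorted (fun h => hns (Groth.L14.HM.isStableVec_of_strict a h))
    refine ⟨M, hM, _, rfl, ?_, ?_⟩
    all_goals
      have h01 : g 1 ≤ g 0 := hanti (by decide)
      have h12 : g 2 ≤ g 1 := hanti (by decide)
      rw [Fin.sum_univ_three] at hsum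
      have h0 : 0 < g 0 := by
        by_contra hcon
        push Not at hcon
        have a1 : g 1 ≤ 0 := h01.trans hcon
        have a2 : g 2 ≤ 0 := h12.trans a1
        have e0 : g 0 = 0 := le_antisymm hcon (by
          rw [show g 0 = -(g 1 + g 2) from eq_neg_of_add_eq_zero_left (by rw [← add_assoc]; exact hsum)]
          exact neg_nonneg.2 (add_nonpos a1 a2))
        have e2 : g 2 = -g 1 := eq_neg_of_add_eq_zero_right (by rwa [e0, zero_add] at hsum)
        have e1 : g 1 = 0 := le_antisymm a1 (neg_nonpos.1 (e2 ▸ a2))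
        exact hne (funext fun t => by fin_cases t <;> simp [e0, e1, e2])
      have hg2 : g 2 = -(g 0 + g 1) := eq_neg_of_add_eq_zero_right hsum
      have h2 : 0 < g 0 + g 1 := by
        by_contra hcon
        push Not at hcon
        have a2 : 0 ≤ g 2 := by rw [hg2]; exact neg_nonneg.2 hcon
        exact absurd (add_nonpos hcon le_rfl) (not_le.2 (add_pos_of_pos_of_nonneg
          (add_pos_of_pos_of_nonneg h0 (a2.trans h12)) le_rfl))
      have hwt : ∀ (i j : ℕ), i + j ≤ 4 → 0 < (4 - i - j) • g 0 + i • g 1 + j • g 2 →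
          (Groth.L14.PointSet.sub M (CoordGrp.formPoly a)).coeff
            (Finsupp.single 0 (4 - i - j) + Finsupp.single 1 i + Finsupp.single 2 j) = 0 := by
        intro i j _ hpos
        by_contra hc
        refine absurd (hle _ hc) (not_le.2 ?_)
        simpa [Groth.L14.HM.wt, Fin.sum_univ_three] using hpos
    · intro ij hij
      simp only [Finset.mem_insert, Finset.mem_singleton] at hij
      rcases hij with rfl | rfl | rfl | rfl | rfl
      · refine hwt 0 0 (by omega) ?_
        simpa using nsmul_pos h0 (by norm_num : (4 : ℕ) ≠ 0)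
      · refine hwt 1 0 (by omega) ?_
        have e : (4 - 1 - 0) • g 0 + 1 • g 1 + 0 • g 2 = 2 • g 0 + (g 0 + g 1) := by
          simp only [show (4 - 1 - 0 : ℕ) = 3 from rfl, zero_nsmul]; abel
        rw [e]; exact add_pos (nsmul_pos h0 (by norm_num)) h2
      · refine hwt 0 1 (by omega) ?_
        have e : (4 - 0 - 1) • g 0 + 0 • g 1 + 1 • g 2 = g 0 + (g 0 - g 1) := by
          simp only [hg2, show (4 - 0 - 1 : ℕ) = 3 from rfl, zero_nsmul]; abel
        rw [e]; exact add_pos_of_pos_of_nonneg h0 (sub_nonneg.2 h01)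
      · refine hwt 2 0 (by omega) ?_
        have e : (4 - 2 - 0) • g 0 + 2 • g 1 + 0 • g 2 = (g 0 + g 1) + (g 0 + g 1) := by
          simp only [show (4 - 2 - 0 : ℕ) = 2 from rfl, zero_nsmul]; abel
        rw [e]; exact add_pos h2 h2
      · refine hwt 1 1 (by omega) ?_
        have e : (4 - 1 - 1) • g 0 + 1 • g 1 + 1 • g 2 = g 0 := by
          simp only [hg2, show (4 - 1 - 1 : ℕ) = 2 from rfl, zero_nsmul]; abel
        rw [e]; exact h0
    · by_cases h1 : 0 ≤ g 1
      · right
        have hpos : 0 < (4 - 3 - 0) • g 0 + 3 • g 1 + 0 • g 2 := by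
          have e : (4 - 3 - 0) • g 0 + 3 • g 1 + 0 • g 2 = g 0 + 3 • g 1 := by
            simp only [show (4 - 3 - 0 : ℕ) = 1 from rfl, zero_nsmul]; abel
          rw [e]; exact add_pos_of_pos_of_nonneg h0 (nsmul_nonneg h1 3)
        simpa [Groth.L14.PointSet.sub] using hwt 3 0 (by omega) hpos
      · left
        have hpos : 0 < (4 - 0 - 2) • g 0 + 0 • g 1 + 2 • g 2 := by
          have e : (4 - 0 - 2) • g 0 + 0 • g 1 + 2 • g 2 = 2 • -g 1 := by
            simp only [hg2, show (4 - 0 - 2 : ℕ) = 2 from rfl, zero_nsmul]; abel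
          rw [e]; exact nsmul_pos (neg_pos.2 (not_le.1 h1)) (by norm_num)
        simpa [Groth.L14.PointSet.sub] using hwt 0 2 (by omega) hpos
  · rintro ⟨M, hM, F', rfl, hz, h2⟩
    have hz' : ∀ i j : ℕ, (i, j) ∈ ({(0, 0), (1, 0), (0, 1), (2, 0), (1, 1)} : Finset (ℕ × ℕ)) →
        ∀ e : Fin 3 →₀ ℕ, (Groth.L14.PointSet.sub M (CoordGrp.formPoly a)).coeff e ≠ 0 →
          ¬ (e 1 = i ∧ e 2 = j) := by
      intro i j hij e he hc
      rw [hmon e i j (hcoef M e he) hc.1 hc.2] at he
      exact he (hz (i, j) hij)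
    rcases h2 with h2 | h2
    · refine Groth.L14.HM.not_isStableVec_of_weights hm a M hM ![-3, 1, 2] (by simp [Fin.sum_univ_three])
        (fun h => by simpa using congrFun h 1) fun e he => ?_
      have := hz' 0 0 (by decide) e he; have := hz' 1 0 (by decide) e he; have := hz' 0 1 (by decide) e he
      have := hz' 2 0 (by decide) e he; have := hz' 1 1 (by decide) e he
      have hd := hcoef M e he
      have : ¬ (e 1 = 0 ∧ e 2 = 2) := fun hc => he (by
        rw [hmon e 0 2 hd hc.1 hc.2]
        simpa [Groth.L14.PointSet.sub] using h2)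
      simp [Groth.L14.HM.wt, Fin.sum_univ_three]
      omega
    · refine Groth.L14.HM.not_isStableVec_of_weights hm a M hM ![-1, 0, 1] (by simp [Fin.sum_univ_three])
        (fun h => by simpa using congrFun h 0) fun e he => ?_
      have := hz' 0 0 (by decide) e he; have := hz' 1 0 (by decide) e he; have := hz' 0 1 (by decide) e he
      have := hz' 2 0 (by decide) e he; have := hz' 1 1 (by decide) e he
      have hd := hcoef M e he
      have : ¬ (e 1 = 3 ∧ e 2 = 0) := fun hc => he (by
        rw [hmon e 3 0 hd hc.1 hc.2]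
        simpa [Groth.L14.PointSet.sub] using h2)
      simp [Groth.L14.HM.wt, Fin.sum_univ_three]
      omega

end Groth.Agent.S12551
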