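import Groth.Agent.L18.GIT.BasePolytope
import Groth.Statements.S12552
-- import your own Groth.Agent.* helpers here

set_option autoImplicit false
universe u
open GIT

namespace Groth.Agent.S12552

/-- Let V be a finite-dimensional vector space over a field K and x_0, …, x_m non-zero vectors, a
configuration of m + 1 points of P(V); a set S of dim V indices with (x_j)_(j ∈ S) linearly
independent is a determinant section non-zero at the configuration. Then the configuration is stable
(for every subspace L with 0 ≠ L ≠ V, the number of i with x_i ∈ L times dim V is less than dim L ·
(m + 1)) if and only if there are integers N ≥ N_0 > 0 such that for each index i some non-empty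
finite multiset of such sets S contains every index j ≠ i exactly N times and the index i exactly N
− N_0 times (a monomial in the determinant sections, non-zero at the configuration, of multidegree
(N, …, N − N_0, …, N) with the N − N_0 in place i). -/
theorem result (K : Type u) [Field K]
    (V : Type u) [AddCommGroup V] [Module K V] [FiniteDimensional K V]
    (m : ℕ) (x : Fin (m + 1) → V) (hx : ∀ i, x i ≠ 0) :
    (∀ L : Submodule K V, L ≠ ⊥ → L ≠ ⊤ →
        Set.ncard {i : Fin (m + 1) | x i ∈ L} * Module.finrank K V < Module.finrank K L * (m + 1)) ↔
      ∃ N N₀ : ℕ, 0 < N₀ ∧ N₀ ≤ N ∧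
        ∀ i : Fin (m + 1), ∃ P : Multiset (Finset (Fin (m + 1))), P ≠ 0 ∧
          (∀ S ∈ P, S.card = Module.finrank K V ∧ LinearIndependent K (fun j : S => x j)) ∧
          ∀ j : Fin (m + 1),
            Multiset.card (P.filter (fun S => j ∈ S)) = if j = i then N - N₀ else N := by
  exact Groth.L18.BasePolytope.stable_iff K m x hx

end Groth.Agent.S12552
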