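import Groth.Statements.S12553
import Groth.Agent.Lead.MuDiag
-- import your own Groth.Agent.* helpers here

set_option autoImplicit false
universe u
open TensorProduct LaurentPolynomial
open GIT

namespace Groth.Agent.S12553

/-- Let k be a field and T = Spec A a diagonalizable affine group (A a commutative Hopf algebra spanned
by its group-like elements, e.g. a torus) acting linearly on affine ι-space. Then there are finitely
many characters χ_1, …, χ_N of T (group-like elements of A) such that every vector v ≠ 0 has a
non-empty set I of indices for which, for every one-parameter subgroup λ of T with λ(χ_j) = t^(e_j),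
the numerical function μ(v, λ) (the m for which t^m · (v moved by λ(t)) tends to a non-zero vector)
equals the maximum of −e_j over j ∈ I: μ is the maximum of finitely many linear functionals on
one-parameter subgroups. (The published proposition concerns a maximal torus of a reductive group
acting on a proper scheme with an ample linearised invertible sheaf; this row is the case of
projective space with the hyperplane bundle, for any diagonalizable group acting linearly, stated on
the affine cone.) -/
theorem result (k : Type u) [Field k]
    (A : Type u) [CommRing A] [HopfAlgebra k A] (hdiag : HopfRep.IsDiagonalizable k A)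
    (ι : Type u) [Fintype ι] [HopfRep.Comod k A (MvPolynomial ι k)] [GLin.IsCoactAlg k A (MvPolynomial ι k)]
    (hlin : GLin.IsLinear k A ι) :
    ∃ (N : ℕ) (χ : Fin N → A), (∀ j, IsGroupLikeElem k (χ j)) ∧
      ∀ v : ι → k, v ≠ 0 → ∃ I : Finset (Fin N), I.Nonempty ∧
        ∀ (lam : A →ₐc[k] k[T;T⁻¹]) (e : Fin N → ℤ), (∀ j, lam (χ j) = LaurentPolynomial.T (e j)) →
          ∀ m : ℤ, GLin.IsMu k A lam v m ↔ ((∀ j ∈ I, -e j ≤ m) ∧ ∃ j ∈ I, m = -e j) := by
  exact Groth.Lead.MuFun.exists_weights_isMu hdiag hlin

end Groth.Agent.S12553
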