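import Groth.Statements.S12555
import Groth.Agent.L08.LinRed
-- import your own Groth.Agent.* helpers here

set_option autoImplicit false
universe u
open TensorProduct
open GIT

namespace Groth.Agent.S12555
open Groth.L08 TensorProduct

/-- Let k be a field, G = Spec A a linearly reductive affine group (A a commutative Hopf algebra whose
finite-dimensional comodules are all semisimple) and V a representation of G of any dimension (an
A-comodule). Then there is exactly one linear map E : V → V commuting with the coaction, with E ∘ E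
= E, and with E x = x exactly for the invariant vectors x. -/
theorem result (k : Type u) [Field k] (A : Type u) [CommRing A] [HopfAlgebra k A]
    (hG : HopfRep.IsLinearlyReductive k A) (V : Type u) [AddCommGroup V] [Module k V] [HopfRep.Comod k A V] :
    ∃! E : V →ₗ[k] V, Hoch.IsComodHom A E ∧ E ∘ₗ E = E ∧ ∀ x : V, E x = x ↔ x ∈ HopfRep.fixedPts k A V := by
  classical
  obtain ⟨α, hα⟩ := exists_isIntegral hG
  have hsub : HopfRep.IsSubcomod (k := k) (A := A) (HopfRep.fixedPts k A V) := by
    rw [isSubcomod_iff]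
    intro φ v hv
    have hv' : HopfRep.Comod.coact (k := k) (A := A) v = v ⊗ₜ[k] (1 : A) := hv
    have : fAct V φ v = φ 1 • v := by
      rw [fAct_apply, hv']; simp
    rw [this]
    exact Submodule.smul_mem _ _ hv
  obtain ⟨H, hH, hc⟩ := isSemisimpleComod_of_isLinearlyReductive hG V _ hsub
  let E : V →ₗ[k] V :=
    (HopfRep.fixedPts k A V).subtype ∘ₗ (HopfRep.fixedPts k A V).projectionOnto H hc
  have hmem : ∀ x, E x ∈ HopfRep.fixedPts k A V := fun x => Submodule.coe_mem _
  have hfix : ∀ x ∈ HopfRep.fixedPts k A V, E x = x := fun x hx => by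
    simp only [E, LinearMap.comp_apply]
    rw [Submodule.projectionOnto_apply_left hc ⟨x, hx⟩]
    rfl
  have hker : ∀ x ∈ H, E x = 0 := fun x hx => by
    simp only [E, LinearMap.comp_apply]
    rw [Submodule.projectionOnto_apply_right hc ⟨x, hx⟩, map_zero]
  have hE : Hoch.IsComodHom A E := by
    rw [isComodHom_iff]
    intro φ v
    obtain ⟨p, hp, q, hq, rfl⟩ :=
      Submodule.mem_sup.1 (hc.sup_eq_top ▸ Submodule.mem_top : v ∈ HopfRep.fixedPts k A V ⊔ H)
    simp only [map_add, hfix p hp, hker q hq, hfix _ ((isSubcomod_iff.1 hsub) φ p hp),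
      hker _ ((isSubcomod_iff.1 hH) φ q hq), map_zero, add_zero]
  have hEq : ∀ E' : V →ₗ[k] V, (Hoch.IsComodHom A E' ∧ E' ∘ₗ E' = E' ∧
      ∀ x : V, E' x = x ↔ x ∈ HopfRep.fixedPts k A V) → E' = rey V α := by
    rintro E' ⟨h1, h2, h3⟩
    refine LinearMap.ext fun x => ?_
    have hx : E' x ∈ HopfRep.fixedPts k A V := (h3 _).1 (LinearMap.congr_fun h2 x)
    rw [← hα.rey_eq hx, ← rey_natural h1, (h3 _).2 (hα.rey_mem x)]
  have hspec : Hoch.IsComodHom A E ∧ E ∘ₗ E = E ∧ ∀ x : V, E x = x ↔ x ∈ HopfRep.fixedPts k A V :=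
    ⟨hE, LinearMap.ext fun x => hfix _ (hmem x), fun x => ⟨fun h => h ▸ hmem x, hfix x⟩⟩
  exact ⟨E, hspec, fun E' hE' => (hEq E' hE').trans (hEq E hspec).symm⟩

end Groth.Agent.S12555
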