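import Groth.Statements.S1256
import Groth.Agent.L20.RG.Cover

set_option autoImplicit false
universe u
open FlatMor

set_option backward.isDefEq.respectTransparency.types false
namespace Groth.Agent.S1256

/-- Ring form, X = Spec B and S = Spec A affine: let B be a finite type A-algebra, N a finite B-module
and p a prime of A. Then there is an étale A-algebra A' with a prime p' over p having the same
residue field such that, for the base changes B_{A'}, N_{A'} (any models), there are finitely many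
étale B_{A'}-algebras C_i with base changes N_i of N_{A'}, each N_i/C_i/A' admitting a complete
dévissage over p', such that every prime of B_{A'} over p' is the contraction of a prime of some
C_i. -/
theorem result {A B : Type u} [CommRing A] [CommRing B] [Algebra A B] [Algebra.FiniteType A B]
    (N : Type u) [AddCommGroup N] [Module B N] [Module.Finite B N] (p : Ideal A) [p.IsPrime] :
    ∃ (A' : Type u) (_ : CommRing A') (_ : Algebra A A') (p' : Ideal A') (_ : p'.IsPrime), FlatCA.IsEtaleNhd A A' p p' ∧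
      ∀ (BA NA : Type u) [CommRing BA] [Algebra B BA] [Algebra A' BA] [Algebra A BA] [IsScalarTower A B BA] [IsScalarTower A A' BA]
        [Algebra.IsPushout A B A' BA]
        [AddCommGroup NA] [Module BA NA] [Module B NA] [IsScalarTower B BA NA]
        (fA : N →ₗ[B] NA), IsBaseChange BA fA →
        ∃ (k : ℕ) (C : Fin k → Type u) (_ : ∀ i, CommRing (C i)) (_ : ∀ i, Algebra BA (C i)) (_ : ∀ i, Algebra A' (C i))
          (_ : ∀ i, IsScalarTower A' BA (C i))
          (Nc : Fin k → Type u) (_ : ∀ i, AddCommGroup (Nc i)) (_ : ∀ i, Module (C i) (Nc i)) (_ : ∀ i, Module BA (Nc i))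
          (_ : ∀ i, IsScalarTower BA (C i) (Nc i)) (g : ∀ i, NA →ₗ[BA] Nc i),
          (∀ i, Algebra.Etale BA (C i) ∧ IsBaseChange (C i) (g i) ∧ Nonempty (FlatCA.CompleteDevissage A' (C i) (Nc i) p')) ∧
          ∀ (Q : Ideal BA) [Q.IsPrime], Q.LiesOver p' → ∃ (i : Fin k) (Q' : Ideal (C i)), Q'.IsPrime ∧ Q'.comap (algebraMap BA (C i)) = Q := by
  classical
  let T := {q : PrimeSpectrum B // q.asIdeal.LiesOver p}
  have hloc := fun q : T => @Groth.L20.RG.exists_local A B _ _ _ _ N _ _ _ p _ q.1.asIdeal _ q.2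
  choose R S cR cS aAR aBS aRS aAS tARS tABS pR hpR f hnb het hf hU Hd using hloc
  choose U hUo hUq hUc using hU
  have hcpt : IsCompact (PrimeSpectrum.comap (algebraMap A B) ⁻¹' {(⟨p, inferInstance⟩ : PrimeSpectrum A)}) := by
    haveI : CompactSpace ↥(PrimeSpectrum.comap (algebraMap A B) ⁻¹' {(⟨p, inferInstance⟩ : PrimeSpectrum A)}) :=
      (PrimeSpectrum.preimageHomeomorphFiber A B ⟨p, inferInstance⟩).symm.compactSpace
    exact isCompact_iff_compactSpace.mpr inferInstance
  obtain ⟨s, hs⟩ := hcpt.elim_finite_subcover U hUo (fun q hq => Set.mem_iUnion.mpr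
    ⟨⟨q, ⟨(congrArg PrimeSpectrum.asIdeal hq).symm⟩⟩, hUq _⟩)
  let e := s.equivFin.symm
  obtain ⟨A', _, _, p', _, hA', Hc⟩ := Groth.L20.RG.exists_common p s.card (fun i => R (e i).1) (fun i => pR (e i).1)
    (fun i => hnb _) (fun i => f (e i).1) (fun i => hf _)
  choose aR tR hpt hu using Hc
  refine ⟨A', inferInstance, inferInstance, p', inferInstance, hA', ?_⟩
  intro BA NA _ _ _ _ _ _ _ _ _ _ _ fA hfA
  haveI := hA'.1
  have hch := fun i => by
    letI := aR i
    haveI := tR i
    haveI := (hnb (e i).1).1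
    haveI := het (e i).1
    exact Groth.L20.RG.exists_chart (A := A) (B := B) (R := R (e i).1) (S := S (e i).1) (A' := A') (BA := BA) p
      (pR (e i).1) p' hA'.2 (hpt i)
  choose C cC aBAC aAC aSC aRC aBC tABAC tRAC tRSC tBSC tBBAC hpush hEt hcov using hch
  refine ⟨s.card, C, cC, aBAC, aAC, tABAC, fun i => TensorProduct B (C i) N, fun i => inferInstance,
    fun i => inferInstance, fun i => inferInstance, fun i => inferInstance, ?_⟩
  haveI : ∀ i, IsScalarTower B BA (TensorProduct B (C i) N) := fun i =>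
    IsScalarTower.of_algebraMap_smul fun b m => by
      rw [← algebraMap_smul (C i) (algebraMap B BA b) m, ← IsScalarTower.algebraMap_apply, algebraMap_smul]
  refine ⟨fun i => hfA.lift (TensorProduct.mk B (C i) N 1), fun i => ⟨hEt i, ?_, ?_⟩, ?_⟩
  · refine IsBaseChange.of_comp hfA ?_
    have : (hfA.lift (TensorProduct.mk B (C i) N 1)).restrictScalars B ∘ₗ fA = TensorProduct.mk B (C i) N 1 :=
      hfA.lift_comp _
    rw [this]
    exact TensorProduct.isBaseChange B N (C i)
  · letI := aR i
    haveI := hpush i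
    exact ⟨(Hd (e i).1 A' p' (hpt i) (hu i) (C i) _ (TensorProduct.mk B (C i) N 1) (TensorProduct.isBaseChange B N (C i))).choose⟩
  · intro Q _ hQ
    let q₁ : PrimeSpectrum B := PrimeSpectrum.comap (algebraMap B BA) ⟨Q, inferInstance⟩
    have hq₁ : q₁.asIdeal.LiesOver p := ⟨by
      show p = (Q.comap (algebraMap B BA)).comap (algebraMap A B)
      rw [Ideal.comap_comap, ← IsScalarTower.algebraMap_eq, IsScalarTower.algebraMap_eq A A' BA, ← Ideal.comap_comap,
        ← Ideal.under_def (A := A'), ← hQ.over]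
      exact hA'.2.1.over⟩
    obtain ⟨j, hjs, hj⟩ := Set.mem_iUnion₂.mp (hs (show q₁ ∈ PrimeSpectrum.comap (algebraMap A B) ⁻¹'
      {(⟨p, inferInstance⟩ : PrimeSpectrum A)} from PrimeSpectrum.ext hq₁.over.symm))
    obtain ⟨i, hi⟩ : ∃ i, e i = ⟨j, hjs⟩ := ⟨e.symm ⟨j, hjs⟩, e.apply_symm_apply _⟩
    have hij : (e i).1 = j := congrArg Subtype.val hi
    obtain ⟨Qs, hQs, hQq, hQp⟩ := hUc (e i).1 q₁ (hij ▸ hj) hq₁
    obtain ⟨Q', hQ', hQQ⟩ := hcov i Q hQ Qs hQs hQq hQp
    exact ⟨i, Q', hQ', hQQ⟩

end Groth.Agent.S1256
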