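import Groth.Statements.S12570
import Groth.Agent.L26.Res.Residue
import Groth.Agent.L26.FF.Ext
import Groth.Agent.S12571

set_option autoImplicit false
universe u v w
open FunFld

namespace Groth.Agent.S12570

open WithZero Groth.Agent.FF

/-- For a place `Q` of a finite separable extension `K'` of a geometric function field of one variable
`K/k`, lying over `P` with ramification index `e`, both places having Laurent expansions over `k` in
local parameters (separable places), and `x` with `dx` of finite order above and below: the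
different exponent `d(Q|P)`, computed on `dx`, is `e - 1` if `char K` does not divide `e`, and is `≥
e` otherwise. (The published statement allows any finite extension along which differentials of `K`
pull back injectively; this row takes `K'` separable over `K`.) -/
theorem result (k : Type u) (K K' : Type v) [Field k] [Field K] [Field K'] [Algebra k K] [Algebra K K'] [Algebra k K']
    [IsScalarTower k K K'] [FiniteDimensional K K'] [Algebra.IsSeparable K K']
    (hK : FunFld.IsFunctionField k K) (hg : FunFld.IsGeometric k K)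
    (F F' : Type w) [Field F] [Algebra k F] [Field F'] [Algebra k F']
    (P : FunFld.Place k K) (Q : FunFld.Place k K') (e : ℕ) (he : FunFld.IsOverWith Q P e)
    (φ : K →ₐ[k] LaurentSeries F) (hφ : LocRes.IsExpansionAt P.1 φ)
    (ψ : K' →ₐ[k] LaurentSeries F') (hψ : LocRes.IsExpansionAt Q.1 ψ)
    (x : K) (hx : LocRes.vDiff φ 1 x ≠ 0) (hx' : LocRes.vDiff ψ 1 (algebraMap K K' x) ≠ 0) :
    (¬ (ringChar K ∣ e) → LocRes.diffExp φ ψ e x = (e : ℤ) - 1) ∧
    (ringChar K ∣ e → (e : ℤ) ≤ LocRes.diffExp φ ψ e x) := by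
  classical
  obtain ⟨t, -, ht⟩ := exists_val_eq P (-1)
  have htv : LocRes.vDiff φ 1 t = 1 := Groth.Agent.Res.vDiff_uniformizer hφ ht
  have hdx : KaehlerDifferential.D k K x ≠ 0 := fun h => hx (by
    rw [Groth.Agent.Res.vDiff_eq, Groth.Agent.Res.D_map_eq_zero φ h, map_zero, mul_zero])
  have hdt : KaehlerDifferential.D k K t ≠ 0 := fun h => by
    rw [Groth.Agent.Res.vDiff_eq, Groth.Agent.Res.D_map_eq_zero φ h, map_zero, mul_zero] at htv
    exact zero_ne_one htv
  set t' := algebraMap K K' t with ht'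
  have ht'v : LocRes.vDiff ψ 1 t' ≠ 0 := by
    obtain ⟨c, hc⟩ := Groth.Agent.Res.exists_smul_D hK hg hdt x
    intro h0
    refine hx' ?_
    have h3 := Groth.Agent.Res.D_map_smul (ψ.comp (IsScalarTower.toAlgHom k K K')) hc
    simp only [AlgHom.comp_apply, IsScalarTower.coe_toAlgHom', ← ht'] at h3
    rw [Groth.Agent.Res.vDiff_eq, map_one, map_one, one_mul] at h0 ⊢
    rw [← h3, map_mul, h0, mul_zero]
  rw [Groth.Agent.S12571.result k K K' hK hg F F' P Q e he φ hφ ψ hψ x hx hx' t
    (by rw [htv]; exact one_ne_zero) ht'v]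
  have hdiff : LocRes.diffExp φ ψ e t = LocRes.ordDiff ψ 1 t' := by
    rw [LocRes.diffExp, show LocRes.ordDiff φ 1 t = 0 by rw [LocRes.ordDiff, htv, WithZero.log_one, neg_zero],
      mul_zero, sub_zero]
  rw [hdiff]
  have hv : Valued.v (ψ t') = exp (-(e : ℤ)) := by
    rw [Groth.Agent.Res.val_map hψ, ht', he t, ht, ← exp_nsmul]; simp
  have hlow := (LaurentSeries.valuation_le_iff_coeff_lt_eq_zero F').1 hv.le
  have hne : (ψ t').coeff (e : ℤ) ≠ 0 := fun h0 => by
    have : Valued.v (ψ t') ≤ exp (-((e : ℤ) + 1)) := (LaurentSeries.valuation_le_iff_coeff_lt_eq_zero F').2 fun i hi => by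
      rcases eq_or_lt_of_le (show i ≤ (e : ℤ) by omega) with rfl | h
      · exact h0
      · exact hlow i h
    rw [hv, exp_le_exp] at this
    omega
  have hval : LocRes.vDiff ψ 1 t' = Valued.v (LocRes.D F' (ψ t')) := by
    rw [Groth.Agent.Res.vDiff_eq, map_one, map_one, one_mul]
  have hchar : ringChar K ∣ e ↔ (e : F') = 0 := by
    rw [← ringChar.spec K, ← map_natCast (algebraMap k K), ← map_natCast (algebraMap k F'),
      map_eq_zero, map_eq_zero]
  obtain ⟨m, hm⟩ : ∃ m : ℤ, LocRes.vDiff ψ 1 t' = exp m := ⟨_, Groth.Agent.Res.vDiff_eq_exp ht'v⟩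
  have hord : LocRes.ordDiff ψ 1 t' = -m := by rw [LocRes.ordDiff, hm, log_exp]
  rw [hord]
  have hcoef : ∀ i : ℤ, i < (e : ℤ) - 1 → (LocRes.D F' (ψ t')).coeff i = 0 := fun i hi => by
    rw [LocRes.D_coeff, hlow (i + 1) (by omega), smul_zero]
  have htop : (LocRes.D F' (ψ t')).coeff ((e : ℤ) - 1) = (e : F') * (ψ t').coeff (e : ℤ) := by
    rw [LocRes.D_coeff, sub_add_cancel, zsmul_eq_mul, Int.cast_natCast]
  refine ⟨fun hdvd => ?_, fun hdvd => ?_⟩
  · have h1 : m ≤ -((e : ℤ) - 1) := by
      rw [← exp_le_exp, ← hm, hval]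
      exact (LaurentSeries.valuation_le_iff_coeff_lt_eq_zero F').2 hcoef
    by_contra hcon
    have h2 : Valued.v (LocRes.D F' (ψ t')) ≤ exp (-(e : ℤ)) := by
      rw [← hval, hm, exp_le_exp]; omega
    have h3 := (LaurentSeries.valuation_le_iff_coeff_lt_eq_zero F').1 h2 ((e : ℤ) - 1) (by omega)
    rw [htop] at h3
    exact mul_ne_zero (fun h => hdvd (hchar.2 h)) hne h3
  · have h1 : m ≤ -(e : ℤ) := by
      rw [← exp_le_exp, ← hm, hval]
      refine (LaurentSeries.valuation_le_iff_coeff_lt_eq_zero F').2 fun i hi => ?_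
      rcases eq_or_lt_of_le (show i ≤ (e : ℤ) - 1 by omega) with rfl | h
      · rw [htop, hchar.1 hdvd, zero_mul]
      · exact hcoef i h
    omega

end Groth.Agent.S12570
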