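import Groth.Statements.S12573
import Groth.Agent.S12571
import Groth.Agent.L26.FF.ASChar2

set_option autoImplicit false
universe u v w
open FunFld

namespace Groth.Agent.S12573

open Groth.Agent.FF
open scoped LaurentSeries

/-- For a place `Q` of a finite separable extension `K'` of a geometric function field of one variable
`K/k`, lying over `P` with ramification index `e = [K' : K]`, both places with Laurent expansions
over `k` in local parameters, and any local parameter `s` at `Q` with minimal polynomial `f` over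
`K`: `v_Q(f'(s)) = d(Q|P)` (computed on `dx`). -/
theorem result (k : Type u) (K K' : Type v) [Field k] [Field K] [Field K'] [Algebra k K] [Algebra K K'] [Algebra k K']
    [IsScalarTower k K K'] [FiniteDimensional K K'] [Algebra.IsSeparable K K']
    (hK : FunFld.IsFunctionField k K) (hg : FunFld.IsGeometric k K)
    (F F' : Type w) [Field F] [Algebra k F] [Field F'] [Algebra k F']
    (P : FunFld.Place k K) (Q : FunFld.Place k K') (e : ℕ) (he : FunFld.IsOverWith Q P e)
    (φ : K →ₐ[k] LaurentSeries F) (hφ : LocRes.IsExpansionAt P.1 φ)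
    (ψ : K' →ₐ[k] LaurentSeries F') (hψ : LocRes.IsExpansionAt Q.1 ψ)
    (x : K) (hx : LocRes.vDiff φ 1 x ≠ 0) (hx' : LocRes.vDiff ψ 1 (algebraMap K K' x) ≠ 0)
    (hn : e = Module.finrank K K') (s : K') (hs : Q.1 s = WithZero.exp (-1)) :
    Q.ord (Polynomial.aeval s (Polynomial.derivative (minpoly K s))) = LocRes.diffExp φ ψ e x := by
  classical
  obtain ⟨t, ht0, ht⟩ := exists_val_eq P (-1)
  have htφ : LocRes.vDiff φ 1 t = 1 := Res.vDiff_uniformizer hφ ht
  have hDt : KaehlerDifferential.D k K t ≠ 0 := fun h => by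
    rw [Res.vDiff_eq, Res.D_map_eq_zero φ h, map_zero, mul_zero] at htφ
    exact zero_ne_one htφ
  choose c hc using fun z : K => Res.exists_smul_D hK hg hDt z
  have hψc : ∀ z : K, ψ (algebraMap K K' (c z)) * LocRes.D F' (ψ (algebraMap K K' t)) =
      LocRes.D F' (ψ (algebraMap K K' z)) := fun z => by
    have := Res.D_map_smul (ψ.comp (IsScalarTower.toAlgHom k K K')) (hc z)
    simpa only [AlgHom.comp_apply, IsScalarTower.coe_toAlgHom'] using this
  have hφc : ∀ z : K, P.1 (c z) = Valued.v (LocRes.D F (φ z)) := fun z => by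
    rw [← Res.D_map_smul φ (hc z), map_mul, Res.val_map hφ]
    rw [Res.vDiff_eq, map_one, map_one, one_mul] at htφ
    rw [htφ, mul_one]
  have htψ : LocRes.vDiff ψ 1 (algebraMap K K' t) ≠ 0 := fun h => hx' (by
    rw [Res.vDiff_eq, map_one, map_one, one_mul] at h ⊢
    rw [← hψc x, map_mul, h, mul_zero])
  rw [Groth.Agent.S12571.result k K K' hK hg F F' P Q e he φ hφ ψ hψ x hx hx' t (by rw [htφ]; exact one_ne_zero) htψ,
    LocRes.diffExp]
  have hord0 : LocRes.ordDiff φ 1 t = 0 := by rw [LocRes.ordDiff, htφ, WithZero.log_one, neg_zero]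
  rw [hord0, mul_zero, sub_zero]
  -- the minimal polynomial is an Eisenstein polynomial
  set f := minpoly K s with hf
  have hint : IsIntegral K s := .of_finite K s
  have hepos := he.pos
  have hterm : ∀ i : ℕ, Q.1 (algebraMap K K' (f.coeff i) * s ^ i) = P.1 (f.coeff i) ^ e * WithZero.exp (-(i : ℤ)) := fun i => by
    rw [map_mul, map_pow, he, hs, ← WithZero.exp_nsmul]; simp
  have hdist : ∀ i j : ℕ, i ≤ e → j ≤ e → f.coeff i ≠ 0 →
      Q.1 (algebraMap K K' (f.coeff i) * s ^ i) = Q.1 (algebraMap K K' (f.coeff j) * s ^ j) →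
      i = j ∨ (i = 0 ∧ j = e) ∨ (i = e ∧ j = 0) := by
    intro i j hi hj hi0 h
    rw [hterm, hterm] at h
    have hj0 : f.coeff j ≠ 0 := fun h0 => by
      rw [h0, map_zero, zero_pow hepos.ne', zero_mul] at h
      exact mul_ne_zero (pow_ne_zero _ (val_ne_zero P hi0)) WithZero.exp_ne_zero h
    rw [val_eq_exp P hi0, val_eq_exp P hj0, ← WithZero.exp_nsmul, ← WithZero.exp_nsmul, ← WithZero.exp_add,
      ← WithZero.exp_add] at h
    have h' := congrArg WithZero.log h
    simp only [WithZero.log_exp, nsmul_eq_mul] at h'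
    have hdvd : (e : ℤ) ∣ (j : ℤ) - i := ⟨P.ord (f.coeff i) - P.ord (f.coeff j), by linarith⟩
    rcases lt_trichotomy i j with h1 | h1 | h1
    · have := Int.le_of_dvd (by omega) hdvd
      exact .inr (.inl ⟨by omega, by omega⟩)
    · exact .inl h1
    · have := Int.le_of_dvd (by omega) (dvd_sub_comm.1 hdvd)
      exact .inr (.inr ⟨by omega, by omega⟩)
  have hsum : ∑ i ∈ Finset.range (f.natDegree + 1), algebraMap K K' (f.coeff i) * s ^ i = 0 := by
    have := minpoly.aeval K s
    rw [← hf, Polynomial.aeval_eq_sum_range] at this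
    simpa [Algebra.smul_def] using this
  have hle : f.natDegree ≤ e := hn ▸ minpoly.natDegree_le s
  have hone : f.coeff f.natDegree = 1 := (minpoly.monic hint).coeff_natDegree
  obtain ⟨i₀, hi₀, hmax⟩ := Finset.exists_max_image (Finset.range (f.natDegree + 1))
    (fun i => Q.1 (algebraMap K K' (f.coeff i) * s ^ i)) ⟨0, by simp⟩
  have hpos₀ : f.coeff i₀ ≠ 0 := fun h0 => by
    have := hmax f.natDegree (by simp)
    rw [h0, map_zero, zero_mul, map_zero, hterm, hone, map_one, one_pow, one_mul] at this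
    exact WithZero.exp_ne_zero (le_zero_iff.1 this)
  obtain ⟨j₀, hj₀, hne, heq⟩ : ∃ j ∈ Finset.range (f.natDegree + 1), j ≠ i₀ ∧
      Q.1 (algebraMap K K' (f.coeff i₀) * s ^ i₀) = Q.1 (algebraMap K K' (f.coeff j) * s ^ j) := by
    by_contra hc'
    push Not at hc'
    have := Q.1.map_sum_eq_of_lt hi₀ (f := fun i => algebraMap K K' (f.coeff i) * s ^ i) fun j hj => by
      rw [Finset.mem_sdiff, Finset.mem_singleton] at hj
      exact lt_of_le_of_ne (hmax j hj.1) (Ne.symm (hc' j hj.1 hj.2))
    rw [hsum, map_zero, hterm] at this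
    exact mul_ne_zero (pow_ne_zero _ (val_ne_zero P hpos₀)) WithZero.exp_ne_zero this.symm
  rw [Finset.mem_range] at hi₀ hj₀
  obtain ⟨hdeg, hval⟩ : f.natDegree = e ∧ Q.1 (algebraMap K K' (f.coeff 0)) = WithZero.exp (-(e : ℤ)) ∧
      ∀ i ≤ e, Q.1 (algebraMap K K' (f.coeff i) * s ^ i) ≤ WithZero.exp (-(e : ℤ)) := by
    rcases hdist i₀ j₀ (by omega) (by omega) hpos₀ heq with h | ⟨rfl, h⟩ | ⟨h, rfl⟩
    · exact absurd h.symm hne
    · have hd : f.natDegree = e := by omega
      have h2 : Q.1 (algebraMap K K' (f.coeff 0) * s ^ 0) = WithZero.exp (-(e : ℤ)) := by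
        rw [heq, h, hterm, ← hd, hone, map_one, one_pow, one_mul]
      refine ⟨hd, by simpa using h2, fun i hi => (hmax i (Finset.mem_range.2 (by omega))).trans_eq h2⟩
    · have hd : f.natDegree = e := by omega
      have h2 : Q.1 (algebraMap K K' (f.coeff i₀) * s ^ i₀) = WithZero.exp (-(e : ℤ)) := by
        rw [h, hterm, ← hd, hone, map_one, one_pow, one_mul]
      refine ⟨hd, by rw [heq] at h2; simpa using h2, fun i hi => (hmax i (Finset.mem_range.2 (by omega))).trans_eq h2⟩
  obtain ⟨h0, hall⟩ := hval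
  have hP0 : P.1 (f.coeff 0) = WithZero.exp (-1 : ℤ) := by
    rw [he] at h0
    refine (pow_left_inj₀ zero_le zero_le hepos.ne').1 (h0.trans ?_)
    rw [← WithZero.exp_nsmul]; simp
  have hPi : ∀ i ≤ e, P.1 (f.coeff i) ≤ 1 := fun i hi => by
    rcases eq_or_lt_of_le hi with rfl | hlt
    · rw [← hdeg, hone, map_one]
    · refine not_lt.1 fun h => ?_
      have h2 := hall i hi
      rw [hterm] at h2
      have h3 : WithZero.exp (-(e : ℤ)) < P.1 (f.coeff i) ^ e * WithZero.exp (-(i : ℤ)) := by
        refine lt_of_lt_of_le (WithZero.exp_lt_exp.2 (show -(e : ℤ) < -(i : ℤ) by omega)) ?_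
        exact le_mul_of_one_le_left zero_le (one_le_pow₀ h.le)
      exact absurd h2 (not_le.2 h3)
  have hci : ∀ i ≤ e, P.1 (c (f.coeff i)) ≤ 1 := fun i hi => by
    rw [hφc]; exact Res.v_D_le_one (by rw [Res.val_map hφ]; exact hPi i hi)
  have hc0 : P.1 (c (f.coeff 0)) = 1 := by
    rw [hφc]
    have := Res.vDiff_uniformizer hφ hP0
    rwa [Res.vDiff_eq, map_one, map_one, one_mul] at this
  set W := ∑ i ∈ Finset.range (e + 1), algebraMap K K' (c (f.coeff i)) * s ^ i with hW
  have hWv : Q.1 W = 1 := by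
    have h00 : Q.1 (algebraMap K K' (c (f.coeff 0)) * s ^ 0) = 1 := by rw [pow_zero, mul_one, he, hc0, one_pow]
    rw [hW, Q.1.map_sum_eq_of_lt (j := 0) (by simp), h00]
    intro i hi
    rw [Finset.mem_sdiff, Finset.mem_singleton, Finset.mem_range] at hi
    rw [h00, map_mul, map_pow, hs, he]
    refine (mul_le_of_le_one_left zero_le (pow_le_one₀ zero_le (hci i (by omega)))).trans_lt (pow_lt_one₀ zero_le ?_ hi.2)
    rw [← WithZero.exp_zero, WithZero.exp_lt_exp]; norm_num
  have hkey : ψ (Polynomial.aeval s (Polynomial.derivative f)) * LocRes.D F' (ψ s) +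
      ψ W * LocRes.D F' (ψ (algebraMap K K' t)) = 0 := by
    have h1 : LocRes.D F' (ψ (∑ i ∈ Finset.range (f.natDegree + 1), algebraMap K K' (f.coeff i) * s ^ i)) = 0 := by
      rw [hsum, map_zero, map_zero]
    rw [map_sum, map_sum] at h1
    have hder : Polynomial.aeval s (Polynomial.derivative f) =
        ∑ i ∈ Finset.range (f.natDegree + 1), (i : K') * algebraMap K K' (f.coeff i) * s ^ (i - 1) := by
      conv_lhs => rw [Polynomial.as_sum_range_C_mul_X_pow f, Polynomial.derivative_sum, map_sum]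
      refine Finset.sum_congr rfl fun i _ => ?_
      rw [Polynomial.derivative_C_mul_X_pow, map_mul, map_pow, Polynomial.aeval_X, Polynomial.aeval_C, map_mul, map_natCast]
      ring
    rw [hder, hW, ← hdeg, map_sum, map_sum, Finset.sum_mul, Finset.sum_mul, ← Finset.sum_add_distrib, ← h1]
    refine Finset.sum_congr rfl fun i _ => ?_
    rw [map_mul, map_mul, map_natCast, map_mul, map_pow, map_mul, map_pow, Derivation.leibniz,
      Derivation.leibniz_pow, smul_eq_mul, smul_eq_mul, smul_eq_mul, nsmul_eq_mul, ← hψc (f.coeff i)]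
    ring
  have hv := congrArg Valued.v (eq_neg_of_add_eq_zero_left hkey)
  rw [Valuation.map_neg, map_mul, map_mul, Res.val_map hψ, Res.val_map hψ, hWv, one_mul] at hv
  have hs1 := Res.vDiff_uniformizer hψ hs
  rw [Res.vDiff_eq, map_one, map_one, one_mul] at hs1
  rw [hs1, mul_one] at hv
  rw [FunFld.Place.ord, LocRes.ordDiff, hv, Res.vDiff_eq, map_one, map_one, one_mul]

end Groth.Agent.S12573
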