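import Groth.Statements.S12575
import Groth.Agent.L26.FF.Different

set_option autoImplicit false
universe u v w
open FunFld

namespace Groth.Agent.S12575

open Groth.Agent.FF

/-- Let `Q` be a place of a finite separable extension `K' = K(y)` of a geometric function field of one
variable `K/k`, over `P` with ramification index `e` and residue degree `1`, both with Laurent
expansions over `k` in local parameters, with `y` integral over `O_P` and `g` its minimal polynomial
over `K`. Then `v_Q(g'(y)) ≥ d(Q|P)`, and when equality holds `O_Q` is the localisation of `O_P[y]`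
at `Q`. -/
theorem result (k : Type u) (K K' : Type v) [Field k] [Field K] [Field K'] [Algebra k K] [Algebra K K'] [Algebra k K']
    [IsScalarTower k K K'] [FiniteDimensional K K'] [Algebra.IsSeparable K K']
    (hK : FunFld.IsFunctionField k K) (hg : FunFld.IsGeometric k K)
    (F F' : Type w) [Field F] [Algebra k F] [Field F'] [Algebra k F']
    (P : FunFld.Place k K) (Q : FunFld.Place k K') (e : ℕ) (he : FunFld.IsOverWith Q P e)
    (φ : K →ₐ[k] LaurentSeries F) (hφ : LocRes.IsExpansionAt P.1 φ)
    (ψ : K' →ₐ[k] LaurentSeries F') (hψ : LocRes.IsExpansionAt Q.1 ψ)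
    (x : K) (hx : LocRes.vDiff φ 1 x ≠ 0) (hx' : LocRes.vDiff ψ 1 (algebraMap K K' x) ≠ 0)
    [P.1.HasExtension Q.1]
    (hf : Function.Surjective (algebraMap (IsLocalRing.ResidueField P.O) (IsLocalRing.ResidueField Q.O)))
    [Algebra P.O K'] [IsScalarTower P.O K K']
    (y : K') (hy : IntermediateField.adjoin K ({y} : Set K') = ⊤) (hyi : IsIntegral P.O y) :
    LocRes.diffExp φ ψ e x ≤ Q.ord (Polynomial.aeval y (Polynomial.derivative (minpoly K y))) ∧
    (Q.ord (Polynomial.aeval y (Polynomial.derivative (minpoly K y))) = LocRes.diffExp φ ψ e x →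
      ∀ z : K', Q.1 z ≤ 1 → ∃ a ∈ Algebra.adjoin P.O ({y} : Set K'), ∃ b ∈ Algebra.adjoin P.O ({y} : Set K'),
        Q.1 b = 1 ∧ z * b = a) := by
  classical
  obtain ⟨-, y0, hy0, hy0v⟩ := trace_dual_spec hK hg he hφ hψ hx hx' hf
  set g' := Polynomial.aeval y (Polynomial.derivative (minpoly K y))
  have hg0 : g' ≠ 0 := (Algebra.IsSeparable.isSeparable K y).aeval_derivative_ne_zero (minpoly.aeval K y)
  have ha0 : g' * y0 ∈ Algebra.adjoin P.O ({y} : Set K') :=
    (dual_adjoin_iff hy hyi y0).1 fun a ha => hy0 a (adjoin_isIntegral hyi ha)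
  have hv : Q.1 (g' * y0) = WithZero.exp (LocRes.diffExp φ ψ e x - Q.ord g') := by
    rw [map_mul, hy0v, val_eq_exp Q hg0, ← WithZero.exp_add]
    congr 1
    ring
  refine ⟨?_, fun heq z hz => ?_⟩
  · have h := (isIntegral_iff hK.1 P _).1 (adjoin_isIntegral hyi ha0) Q ⟨e, he⟩
    rw [hv, exp_le_one'] at h
    omega
  · let S := insert Q (finite_over (K' := K') hK.1 P).toFinset
    obtain ⟨h, hh⟩ := approx_val S fun R => min 0 (R.ord z)
    have hmem : ∀ R : FunFld.Place k K', FunFld.IsOver R P → R.1 h = WithZero.exp (min 0 (R.ord z)) := fun R hR =>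
      hh R (Finset.mem_insert_of_mem ((Set.Finite.mem_toFinset _).2 hR))
    have hhint : IsIntegral P.O h := (isIntegral_iff hK.1 P h).2 fun R hR => by
      rw [hmem R hR, exp_le_one']; omega
    have hzh : IsIntegral P.O (z * h) := (isIntegral_iff hK.1 P _).2 fun R hR => by
      rcases eq_or_ne z 0 with rfl | hz0
      · simp
      rw [map_mul, val_eq_exp R hz0, hmem R hR, ← WithZero.exp_add, exp_le_one']
      omega
    have hcond : ∀ u : K', IsIntegral P.O u → g' * (y0 * u) ∈ Algebra.adjoin P.O ({y} : Set K') := fun u hu =>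
      (dual_adjoin_iff hy hyi _).1 fun a ha => by
        rw [mul_assoc]; exact hy0 _ (hu.mul (adjoin_isIntegral hyi ha))
    refine ⟨g' * (y0 * (z * h)), hcond _ hzh, g' * (y0 * h), hcond _ hhint, ?_, by ring⟩
    have hQh : Q.1 h = 1 := by
      rw [hmem Q ⟨e, he⟩, exp_eq_one']
      rcases eq_or_ne z 0 with rfl | hz0
      · simp [FunFld.Place.ord]
      · have := (val_le_one_iff Q hz0).1 hz
        omega
    rw [← mul_assoc, map_mul, hv, heq, sub_self, WithZero.exp_zero, one_mul, hQh]

end Groth.Agent.S12575
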