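import Groth.Statements.S12576
import Groth.Agent.L26.FF.FundFF
import Groth.Agent.L26.FF.RR
import Groth.Agent.L26.Res.Residue
import Groth.Agent.S11010

set_option autoImplicit false
universe u v w
open FunFld

namespace Groth.Agent.S12576

open Groth.Agent.FF
open scoped LaurentSeries

theorem finite_of_expansion {k K F : Type*} [Field k] [Field K] [Algebra k K] [Field F] [Algebra k F]
    (hK : IsFF k K) {P : FunFld.Place k K} {φ : K →ₐ[k] F⸨X⸩} (hφ : LocRes.IsExpansionAt P.1 φ) :
    FiniteDimensional k F := by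
  have hR : Module.Finite k (IsLocalRing.ResidueField P.O) := finite_residueField hK P
  let b := Module.finBasis k (IsLocalRing.ResidueField P.O)
  choose u hu using fun l => IsLocalRing.residue_surjective (R := P.O) (b l)
  have hzero : ∀ z : K, P.1 z < 1 → (φ z).coeff 0 = 0 := fun z hz =>
    (LaurentSeries.valuation_le_iff_coeff_lt_eq_zero F (D := 1)).1
      (by rw [hφ.1]; exact lt_one_le_exp hz) 0 (by norm_num)
  have hC : ∀ (c : k) (z : K), (φ (c • z)).coeff 0 = c • (φ z).coeff 0 := fun c z => by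
    rw [Algebra.smul_def c z, map_mul, φ.commutes, HahnSeries.algebraMap_apply', PowerSeries.algebraMap_apply,
      HahnSeries.ofPowerSeries_C, HahnSeries.C_mul_eq_smul, HahnSeries.coeff_smul, Algebra.smul_def]
    simp [Algebra.smul_def]
  refine ⟨⟨(Set.finite_range fun l => (φ (u l : K)).coeff 0).toFinset, ?_⟩⟩
  rw [Set.Finite.coe_toFinset, eq_top_iff]
  intro a _
  obtain ⟨f, hf, rfl⟩ := hφ.2.1 a
  let c := b.repr (IsLocalRing.residue P.O ⟨f, hf⟩)
  have h1 : resMap P (⟨f, hf⟩ - ∑ l, c l • u l) = 0 := by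
    rw [map_sub, map_sum]
    simp only [map_smul, show ∀ l, resMap P (u l) = b l from hu]
    exact sub_eq_zero.2 (b.sum_repr _).symm
  have h2 := (residue_eq_zero P _).1 h1
  have h3 : ((⟨f, hf⟩ - ∑ l, c l • u l : P.O) : K) = f - ∑ l, c l • (u l : K) := by
    rw [show ∀ x y : P.O, ((x - y : P.O) : K) = (x : K) - y from fun _ _ => rfl, AddSubmonoidClass.coe_finsetSum]
    exact congrArg (f - ·) (Finset.sum_congr rfl fun l _ => by rw [Algebra.smul_def, Algebra.smul_def]; rfl)
  rw [h3] at h2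
  have h4 := hzero _ h2
  rw [map_sub, HahnSeries.coeff_sub, sub_eq_zero, map_sum, HahnSeries.coeff_sum] at h4
  rw [h4]
  exact Submodule.sum_mem _ fun l _ => by
    rw [hC]; exact Submodule.smul_mem _ _ (Submodule.subset_span ⟨l, rfl⟩)

theorem finrank_tower' {F E A : Type*} [Field F] [Field E] [Field A] [Algebra F E] [Algebra E A] [Algebra F A]
    (h : ∀ c, algebraMap F A c = algebraMap E A (algebraMap F E c)) :
    Module.finrank F A = Module.finrank F E * Module.finrank E A :=
  haveI := IsScalarTower.of_algebraMap_eq h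
  (Module.finrank_mul_finrank F E A).symm

theorem deg_div_spec {k K : Type*} [Field k] [Field K] [Algebra k K] (hK : FunFld.IsFunctionField k K)
    (hg : FunFld.IsGeometric k K) (F : FunFld.Place k K → Type*) [∀ P, Field (F P)] [∀ P, Algebra k (F P)]
    (φ : ∀ P, K →ₐ[k] (F P)⸨X⸩) (hφ : ∀ P, LocRes.IsExpansionAt P.1 (φ P)) (x : K)
    (hx : ∀ P, LocRes.vDiff (φ P) 1 x ≠ 0) :
    ∃ C : FunFld.Divisor k K, (∀ P, C P = LocRes.ordDiff (φ P) 1 x) ∧ C.deg = 2 * (FunFld.genus k K : ℤ) - 2 := by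
  have := fun P => finite_of_expansion hK.1 (hφ P)
  obtain ⟨z, hz, -⟩ := id hK.1
  obtain ⟨P₀, -⟩ := exists_zero hK.1 hz
  have hD : KaehlerDifferential.D k K x ≠ 0 := fun h => hx P₀ (by
    rw [Groth.Agent.Res.vDiff_eq, Groth.Agent.Res.D_map_eq_zero (φ P₀) h, map_zero, mul_zero])
  obtain ⟨-, hω, C, hC, hdiv⟩ := Groth.Agent.Res.resW_spec hK hg φ hφ one_ne_zero hD
  exact ⟨C, hC, (ell_canonical hK ⟨_, hω, hdiv⟩).2⟩

/-- For a geometric function field of one variable `K/k` and a finite separable extension `K'` with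
constant field `k'`, `[k':k] (2g_{K'} - 2) = [K':K] (2g_K - 2) + [k':k] deg 𝒟_{K'/K}`, the degree of
the different being `∑_Q d(Q|P) deg_{k'} Q`; stated, cleared of denominators, through Laurent
expansions at every place of `K` over `k` and of `K'` over `k'` (all places separable) with the
different exponents computed on `dx`. (The published statement allows any finite extension along
which differentials pull back injectively; this row takes `K'` separable over `K`.) -/
theorem result (k k' : Type u) (K K' : Type v) [Field k] [Field k'] [Field K] [Field K']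
    [Algebra k k'] [Algebra k K] [Algebra K K'] [Algebra k' K'] [Algebra k K']
    [IsScalarTower k k' K'] [IsScalarTower k K K'] [FiniteDimensional k k'] [FiniteDimensional K K']
    [Algebra.IsSeparable K K']
    (hK : FunFld.IsFunctionField k K) (hg : FunFld.IsGeometric k K) (hK' : FunFld.IsFunctionField k' K')
    (F : FunFld.Place k K → Type w) [∀ P, Field (F P)] [∀ P, Algebra k (F P)]
    (φ : ∀ P, K →ₐ[k] LaurentSeries (F P)) (hφ : ∀ P, LocRes.IsExpansionAt P.1 (φ P))
    (F' : FunFld.Place k' K' → Type w) [∀ Q, Field (F' Q)] [∀ Q, Algebra k' (F' Q)]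
    (ψ : ∀ Q, K' →ₐ[k'] LaurentSeries (F' Q)) (hψ : ∀ Q, LocRes.IsExpansionAt Q.1 (ψ Q))
    (below : FunFld.Place k' K' → FunFld.Place k K) (e : FunFld.Place k' K' → ℕ)
    (he : ∀ Q (z : K), Q.1 (algebraMap K K' z) = (below Q).1 z ^ e Q)
    (x : K) (hx : ∀ P, LocRes.vDiff (φ P) 1 x ≠ 0) (hx' : ∀ Q, LocRes.vDiff (ψ Q) 1 (algebraMap K K' x) ≠ 0) :
    (Function.support fun Q => LocRes.diffExp (φ (below Q)) (ψ Q) (e Q) x).Finite ∧
    (Module.finrank k k' : ℤ) * (2 * (FunFld.genus k' K' : ℤ) - 2) =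
      (Module.finrank K K' : ℤ) * (2 * (FunFld.genus k K : ℤ) - 2) +
      (Module.finrank k k' : ℤ) * ∑ᶠ Q, LocRes.diffExp (φ (below Q)) (ψ Q) (e Q) x * (Q.deg : ℤ) := by
  classical
  have hg' := Groth.Agent.S11010.result k k' K K' hK hg hK'
  obtain ⟨C, hC, hCdeg⟩ := deg_div_spec hK hg F φ hφ x hx
  obtain ⟨C', hC', hCdeg'⟩ := deg_div_spec hK' hg' F' ψ hψ (algebraMap K K' x) hx'
  have hFF' : IsFF k K' := isFF_ext hK.1
  -- the places of `K'` over `k`
  let ι : FunFld.Place k' K' → FunFld.Place k K' := fun Q => ⟨Q.1, fun c => by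
    rw [IsScalarTower.algebraMap_apply k k' K']; exact Q.2.1 _, Q.2.2⟩
  have hιinj : Function.Injective ι := fun A B hAB => Subtype.ext (congrArg Subtype.val hAB :)
  have hιsurj : Function.Surjective ι := fun R => ⟨⟨R.1, fun c => by
    rcases eq_or_ne c 0 with rfl | hc
    · simp
    · exact ((val_eq_one_iff R ((map_ne_zero _).2 hc)).2 (ord_algebraic
        ((Algebra.IsAlgebraic.isAlgebraic (R := k) c).algebraMap) R)).le, R.2.2⟩, rfl⟩
  have hdeg : ∀ Q, (ι Q).deg = Module.finrank k k' * Q.deg := fun Q => by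
    let : Algebra k (IsLocalRing.ResidueField Q.O) := FunFld.Place.algRes (ι Q)
    refine finrank_tower' (A := IsLocalRing.ResidueField Q.O) fun c => ?_
    show IsLocalRing.residue Q.O _ = IsLocalRing.residue Q.O _
    congr 1
    exact Subtype.ext (IsScalarTower.algebraMap_apply k k' K' c)
  have hbelow : ∀ Q, FunFld.IsOverWith (ι Q) (below Q) (e Q) := fun Q z => he Q z
  let Sg : Finset (FunFld.Place k' K') := C.support.biUnion fun P =>
    ((finite_over (K' := K') hK.1 P).preimage (hιinj.injOn)).toFinset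
  have hmemSg : ∀ Q, C (below Q) ≠ 0 → Q ∈ Sg := fun Q h => by
    simp only [Sg, Finset.mem_biUnion, Set.Finite.mem_toFinset, Set.mem_preimage]
    exact ⟨below Q, Finsupp.mem_support_iff.2 h, e Q, hbelow Q⟩
  let S := C'.support ∪ Sg
  have hd : ∀ Q, LocRes.diffExp (φ (below Q)) (ψ Q) (e Q) x = C' Q - (e Q : ℤ) * C (below Q) := fun Q => by
    rw [LocRes.diffExp, ← hC' Q, ← hC (below Q)]
  have hsupp : ∀ Q, Q ∉ S → LocRes.diffExp (φ (below Q)) (ψ Q) (e Q) x = 0 := fun Q hQ => by
    simp only [S, Finset.mem_union, not_or] at hQ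
    rw [hd, Finsupp.notMem_support_iff.1 hQ.1, not_not.1 fun h => hQ.2 (hmemSg Q h), mul_zero, sub_zero]
  refine ⟨S.finite_toSet.subset fun Q hQ => by_contra fun h => hQ (hsupp Q h), ?_⟩
  rw [finsum_eq_sum_of_support_subset (s := S) _ fun Q hQ => by_contra fun h => hQ (by
    show LocRes.diffExp _ _ _ _ * _ = 0
    rw [hsupp Q h, zero_mul])]
  have hC'sum : C'.deg = ∑ Q ∈ S, C' Q * (Q.deg : ℤ) := deg_eq_sum Finset.subset_union_left
  have hfib : ∀ P, ∑ Q ∈ S.filter (fun Q => below Q = P), (e Q : ℤ) * (C P * ((Module.finrank k k' : ℤ) * Q.deg)) =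
      C P * ((Module.finrank K K' : ℤ) * P.deg) := fun P => by
    rcases eq_or_ne (C P) 0 with h0 | h0
    · simp [h0]
    have himg : (S.filter fun Q => below Q = P).image ι = (finite_over (K' := K') hK.1 P).toFinset := by
      ext R
      simp only [Finset.mem_image, Finset.mem_filter, Set.Finite.mem_toFinset]
      constructor
      · rintro ⟨Q, ⟨-, rfl⟩, rfl⟩
        exact ⟨e Q, hbelow Q⟩
      · rintro ⟨e', he'⟩
        obtain ⟨Q, rfl⟩ := hιsurj R
        have hP : below Q = P := (FunFld.IsOverWith.unique (hbelow Q) he').1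
        exact ⟨Q, ⟨Finset.mem_union_right _ (hmemSg Q (by rw [hP]; exact h0)), hP⟩, rfl⟩
    have hsum := sum_ramIdx_ff (K' := K') hK.1 P
    rw [← himg, Finset.sum_image hιinj.injOn] at hsum
    have hsum' := congrArg (fun n : ℕ => (n : ℤ)) hsum
    simp only [Nat.cast_sum, Nat.cast_mul] at hsum'
    rw [← hsum', Finset.mul_sum]
    refine Finset.sum_congr rfl fun Q hQ => ?_
    obtain ⟨-, rfl⟩ := Finset.mem_filter.1 hQ
    rw [ramIdx_eq (hbelow Q), hdeg Q, Nat.cast_mul]
    ring
  have htot : (Module.finrank k k' : ℤ) * ∑ Q ∈ S, (e Q : ℤ) * C (below Q) * (Q.deg : ℤ) =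
      (Module.finrank K K' : ℤ) * C.deg := by
    rw [Finset.mul_sum, deg_eq_sum (D := C) (s := C.support ∪ S.image below) Finset.subset_union_left,
      Finset.mul_sum, ← Finset.sum_fiberwise_of_maps_to (t := C.support ∪ S.image below) (g := below)
        (fun Q hQ => Finset.mem_union_right _ (Finset.mem_image_of_mem _ hQ))]
    refine Finset.sum_congr rfl fun P _ => ?_
    rw [show (Module.finrank K K' : ℤ) * (C P * (P.deg : ℤ)) = C P * ((Module.finrank K K' : ℤ) * P.deg) by ring,
      ← hfib P]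
    refine Finset.sum_congr rfl fun Q hQ => ?_
    rw [(Finset.mem_filter.1 hQ).2]
    ring
  rw [← hCdeg', ← hCdeg, ← htot, hC'sum, ← mul_add, ← Finset.sum_add_distrib]
  congr 1
  exact Finset.sum_congr rfl fun Q _ => by rw [hd]; ring

end Groth.Agent.S12576
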