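import Groth.Statements.S12583
import Groth.Agent.L26.FF.PBasis
import Groth.Agent.L26.FF.Hasse
import Groth.Agent.L26.Res.Residue
import Mathlib.RingTheory.LaurentSeries
import Mathlib.RingTheory.Polynomial.Basic

set_option autoImplicit false
universe u v w
open FunFld

namespace Groth.Agent.S12583

open Groth.Agent.FF
open scoped LaurentSeries
open PowerSeries (C)

theorem coeff_eq_zero_of_le {F : Type*} [Field F] {f : F⸨X⸩} {M i : ℤ}
    (h : Valued.v f ≤ WithZero.exp (-M)) (hi : i < M) : f.coeff i = 0 :=
  (LaurentSeries.valuation_le_iff_coeff_lt_eq_zero F).1 h i hi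

theorem hasseDeriv_le {F : Type*} [Field F] {f : F⸨X⸩} {M : ℤ} (h : Valued.v f ≤ WithZero.exp (-M)) (n : ℕ) :
    Valued.v (LaurentSeries.hasseDeriv F n f) ≤ WithZero.exp (-(M - n)) :=
  (LaurentSeries.valuation_le_iff_coeff_lt_eq_zero F).2 fun i hi => by
    rw [LaurentSeries.hasseDeriv_coeff, coeff_eq_zero_of_le h (by omega), smul_zero]

theorem hasseDeriv_single_mul {F : Type*} [Field F] (c : ℤ) (r : F) (g : F⸨X⸩) (n : ℕ) :
    LaurentSeries.hasseDeriv F n (HahnSeries.single c r * g) =
      ∑ ij ∈ Finset.HasAntidiagonal.antidiagonal n, LaurentSeries.hasseDeriv F ij.1 (HahnSeries.single c r) *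
        LaurentSeries.hasseDeriv F ij.2 g := by
  ext m
  rw [LaurentSeries.hasseDeriv_coeff, HahnSeries.coeff_single_mul, HahnSeries.coeff_sum]
  have h : ∀ ij ∈ Finset.HasAntidiagonal.antidiagonal n, (LaurentSeries.hasseDeriv F ij.1 (HahnSeries.single c r) *
      LaurentSeries.hasseDeriv F ij.2 g).coeff m =
      (Ring.choose c ij.1 * Ring.choose (m + n - c) ij.2) • (r * g.coeff (m + n - c)) := fun ij hij => by
    rw [Finset.HasAntidiagonal.mem_antidiagonal] at hij
    rw [LaurentSeries.hasseDeriv_single, HahnSeries.coeff_single_mul, LaurentSeries.hasseDeriv_coeff,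
      show m - (c - (ij.1 : ℤ)) + (ij.2 : ℤ) = m + n - c by omega]
    simp only [zsmul_eq_mul, Int.cast_mul]
    ring
  rw [Finset.sum_congr rfl h, ← Finset.sum_smul, ← Ring.add_choose_eq n (Commute.all _ _),
    show c + (m + n - c) = m + n by ring]

theorem hasseDeriv_mul {F : Type*} [Field F] (f g : F⸨X⸩) (n : ℕ) :
    LaurentSeries.hasseDeriv F n (f * g) =
      ∑ ij ∈ Finset.HasAntidiagonal.antidiagonal n, LaurentSeries.hasseDeriv F ij.1 f * LaurentSeries.hasseDeriv F ij.2 g := by
  classical
  let δ : F⸨X⸩ →+ F⸨X⸩ := AddMonoidHom.mk' (fun u => LaurentSeries.hasseDeriv F n (u * g) -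
    ∑ ij ∈ Finset.HasAntidiagonal.antidiagonal n, LaurentSeries.hasseDeriv F ij.1 u * LaurentSeries.hasseDeriv F ij.2 g)
    fun u v => by
      simp only [add_mul, map_add, Finset.sum_add_distrib]
      abel
  have hsingle : ∀ (c : ℤ) (r : F), δ (HahnSeries.single c r) = 0 := fun c r =>
    sub_eq_zero.2 (hasseDeriv_single_mul c r g n)
  refine sub_eq_zero.1 (HahnSeries.ext (funext fun m => ?_))
  show (δ f).coeff m = 0
  set Ng : ℤ := -g.order
  have hg : Valued.v g ≤ WithZero.exp (-(-Ng)) :=
    (LaurentSeries.valuation_le_iff_coeff_lt_eq_zero F).2 fun i hi => HahnSeries.coeff_eq_zero_of_lt_order (by omega)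
  set M : ℤ := m + Ng + 2 * n + 1
  let head : F⸨X⸩ := ∑ i ∈ Finset.Ico f.order M, HahnSeries.single i (f.coeff i)
  have htail : Valued.v (f - head) ≤ WithZero.exp (-M) :=
    (LaurentSeries.valuation_le_iff_coeff_lt_eq_zero F).2 fun i hi => by
      rw [HahnSeries.coeff_sub, HahnSeries.coeff_sum]
      have hz : ∀ x : ℤ, x ≠ i → (HahnSeries.single x (f.coeff x)).coeff i = 0 := fun x hx =>
        HahnSeries.coeff_single_of_ne (Ne.symm hx)
      by_cases h : i ∈ Finset.Ico f.order M
      · rw [Finset.sum_eq_single_of_mem i h (fun x _ hx => hz x hx), HahnSeries.coeff_single_same, sub_self]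
      · rw [Finset.sum_eq_zero (fun x hx => hz x (fun he : x = i => h (by rw [← he]; exact hx))), sub_zero]
        exact HahnSeries.coeff_eq_zero_of_lt_order (by rw [Finset.mem_Ico] at h; omega)
  rw [show f = (f - head) + head by ring, map_add, map_sum, Finset.sum_eq_zero (fun i _ => hsingle i _), add_zero]
  show (LaurentSeries.hasseDeriv F n ((f - head) * g) -
    ∑ ij ∈ Finset.HasAntidiagonal.antidiagonal n, LaurentSeries.hasseDeriv F ij.1 (f - head) * LaurentSeries.hasseDeriv F ij.2 g).coeff m = 0
  have hprod : Valued.v ((f - head) * g) ≤ WithZero.exp (-(M - Ng)) := by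
    rw [map_mul, show -(M - Ng) = -M + -(-Ng) by ring, WithZero.exp_add]
    exact mul_le_mul' htail hg
  rw [HahnSeries.coeff_sub, LaurentSeries.hasseDeriv_coeff, coeff_eq_zero_of_le hprod (by omega), smul_zero,
    HahnSeries.coeff_sum, zero_sub, neg_eq_zero]
  refine Finset.sum_eq_zero fun ij hij => ?_
  rw [Finset.HasAntidiagonal.mem_antidiagonal] at hij
  refine coeff_eq_zero_of_le (M := (M - ij.1) + (-Ng - ij.2)) ?_ (by omega)
  rw [map_mul, neg_add, WithZero.exp_add]
  exact mul_le_mul' (hasseDeriv_le htail _) (hasseDeriv_le hg _)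

/-- The Taylor series homomorphism of Laurent series. -/
noncomputable def taylorHom (F : Type*) [Field F] : F⸨X⸩ →+* PowerSeries F⸨X⸩ where
  toFun f := PowerSeries.mk fun n => LaurentSeries.hasseDeriv F n f
  map_one' := by
    ext1 n
    rw [PowerSeries.coeff_mk, PowerSeries.coeff_one, ← HahnSeries.single_zero_one, LaurentSeries.hasseDeriv_single]
    cases n with
    | zero => simp
    | succ n => simp [Ring.choose_zero_succ]
  map_mul' f g := by
    ext1 n
    simp only [PowerSeries.coeff_mk, PowerSeries.coeff_mul, hasseDeriv_mul]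
  map_zero' := by ext1 n; simp
  map_add' f g := by ext1 n; simp

theorem algebraMap_laurent {k F : Type*} [Field k] [Field F] [Algebra k F] (c : k) :
    algebraMap k F⸨X⸩ c = HahnSeries.single 0 (algebraMap k F c) := by
  rw [HahnSeries.algebraMap_apply', PowerSeries.algebraMap_apply, HahnSeries.ofPowerSeries_C]
  rfl

/-- At a separable place `P` of a geometric function field of one variable `K/k` with local parameter
`t`, if `x ∈ O_P` has expansion `∑ a_m t^m` then the Hasse derivative `D_t^{(n)}(x)` expands as the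
series with coefficients `C(m,n) a_m` in degree `m - n`; in particular `D_t^{(n)}(O_P) ⊆ O_P`. Here
`φ` is a Laurent expansion over `k` at `P` with `φ t = X` and `H` is the total Hasse derivative with
respect to `t`. -/
theorem result (k : Type u) (K : Type v) [Field k] [Field K] [Algebra k K] (hK : FunFld.IsFunctionField k K) (hg : FunFld.IsGeometric k K)
    (P : FunFld.Place k K) (F : Type w) [Field F] [Algebra k F]
    (φ : K →ₐ[k] LaurentSeries F) (hφ : LocRes.IsExpansionAt P.1 φ)
    (t : K) (ht : φ t = HahnSeries.single 1 1)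
    (H : K →ₐ[k] PowerSeries K) (hH : LocRes.IsHasseFamily t H)
    (x : K) (hx : P.1 x ≤ 1) (n : ℕ) :
    φ (LocRes.hasseD H n x) = LaurentSeries.hasseDeriv F n (φ x) := by
  classical
  let G1 : K →+* PowerSeries F⸨X⸩ := (PowerSeries.map φ.toRingHom).comp H.toRingHom
  let G2 : K →+* PowerSeries F⸨X⸩ := (taylorHom F).comp φ.toRingHom
  have hHc : ∀ c : k, H (algebraMap k K c) = C (algebraMap k K c) := fun c => by
    rw [AlgHom.commutes, PowerSeries.algebraMap_apply]
  have hconst : ∀ c : k, G1 (algebraMap k K c) = G2 (algebraMap k K c) := fun c => by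
    show PowerSeries.map φ.toRingHom (H (algebraMap k K c)) = taylorHom F (φ (algebraMap k K c))
    rw [hHc, PowerSeries.map_C]
    show C (φ (algebraMap k K c)) = _
    rw [φ.commutes, algebraMap_laurent]
    ext1 m
    show _ = PowerSeries.coeff m (PowerSeries.mk fun n => LaurentSeries.hasseDeriv F n _)
    rw [PowerSeries.coeff_mk, PowerSeries.coeff_C, LaurentSeries.hasseDeriv_single]
    cases m with
    | zero => simp
    | succ m => simp [Ring.choose_zero_succ]
  have htt : G1 t = G2 t := by
    show PowerSeries.map φ.toRingHom (H t) = taylorHom F (φ t)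
    rw [hH.1, map_add, PowerSeries.map_C, PowerSeries.map_X]
    show C (φ t) + PowerSeries.X = _
    rw [ht]
    ext1 m
    show _ = PowerSeries.coeff m (PowerSeries.mk fun n => LaurentSeries.hasseDeriv F n _)
    rw [PowerSeries.coeff_mk, map_add, PowerSeries.coeff_C, PowerSeries.coeff_X, LaurentSeries.hasseDeriv_single]
    rcases m with _ | _ | m
    · simp
    · simp [← HahnSeries.single_zero_one]
    · rw [if_neg (by omega), if_neg (by omega), add_zero,
        show Ring.choose (1 : ℤ) (m + 1 + 1) = 0 by
          rw [show (1 : ℤ) = ((1 : ℕ) : ℤ) from rfl, Ring.choose_natCast, Nat.choose_eq_zero_of_lt (by omega), Nat.cast_zero],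
        zero_smul, map_zero]
  -- the equaliser is a field containing `k(t)`
  let E : IntermediateField k K :=
    { carrier := {z | G1 z = G2 z}
      mul_mem' := fun {a b} ha hb => by
        show G1 (a * b) = G2 (a * b)
        rw [map_mul, map_mul, show G1 a = G2 a from ha, show G1 b = G2 b from hb]
      one_mem' := by show G1 1 = G2 1; rw [map_one, map_one]
      add_mem' := fun {a b} ha hb => by
        show G1 (a + b) = G2 (a + b)
        rw [map_add, map_add, show G1 a = G2 a from ha, show G1 b = G2 b from hb]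
      zero_mem' := by show G1 0 = G2 0; rw [map_zero, map_zero]
      algebraMap_mem' := hconst
      inv_mem' := fun a ha => by
        show G1 a⁻¹ = G2 a⁻¹
        rcases eq_or_ne a 0 with rfl | h0
        · simp
        · refine left_inv_eq_right_inv (a := G1 a) ?_ ?_
          · rw [← map_mul, inv_mul_cancel₀ h0, map_one]
          · rw [show G1 a = G2 a from ha, ← map_mul, mul_inv_cancel₀ h0, map_one] }
  have hv : P.1 t = WithZero.exp (-1 : ℤ) := by
    rw [← Res.val_map hφ, ht]
    simpa using LaurentSeries.valuation_single_zpow F 1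
  have ht0 : t ≠ 0 := fun h0 => by
    rw [h0, map_zero] at hv; exact WithZero.exp_ne_zero hv.symm
  have htr : Transcendental k t := transcendental_of_val_lt_one P ht0 (by rw [hv, exp_lt_one']; omega)
  have := finite_over_adjoin hK.1 htr
  have hsep : Algebra.IsSeparable (IntermediateField.adjoin k ({t} : Set K)) K := by
    refine (isSeparable_iff_D_ne_zero hK hg).2 fun h0 => ?_
    have h1 := Res.vDiff_uniformizer hφ hv
    rw [Res.vDiff_eq, Res.D_map_eq_zero φ h0, map_zero, mul_zero] at h1
    exact zero_ne_one h1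
  have hle : IntermediateField.adjoin k ({t} : Set K) ≤ E :=
    IntermediateField.adjoin_le_iff.2 (Set.singleton_subset_iff.2 htt)
  have hall : ∀ z : K, G1 z = G2 z := fun z => by
    let f := minpoly (IntermediateField.adjoin k ({t} : Set K)) z
    let ψ := G1.comp (algebraMap (IntermediateField.adjoin k ({t} : Set K)) K)
    have hψ : ψ = G2.comp (algebraMap (IntermediateField.adjoin k ({t} : Set K)) K) :=
      RingHom.ext fun a => hle a.2
    have h1 : (f.map ψ).eval (G1 z) = 0 := by
      rw [Polynomial.eval_map, ← Polynomial.hom_eval₂, ← Polynomial.aeval_def, minpoly.aeval, map_zero]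
    have h2 : (f.map ψ).eval (G2 z) = 0 := by
      rw [hψ, Polynomial.eval_map, ← Polynomial.hom_eval₂, ← Polynomial.aeval_def, minpoly.aeval, map_zero]
    obtain ⟨w, hw⟩ := Polynomial.binomExpansion (f.map ψ) (G2 z) (G1 z - G2 z)
    rw [add_sub_cancel, h1, h2, zero_add, sq, ← mul_assoc, ← add_mul] at hw
    have hc1 : ∀ a, PowerSeries.constantCoeff (G1 a) = φ a := fun a => by
      show PowerSeries.constantCoeff (PowerSeries.map φ.toRingHom (H a)) = φ a
      rw [← PowerSeries.coeff_zero_eq_constantCoeff_apply, PowerSeries.coeff_map, PowerSeries.coeff_zero_eq_constantCoeff_apply, hH.2]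
      rfl
    have hc2 : ∀ a, PowerSeries.constantCoeff (G2 a) = φ a := fun a => by
      show PowerSeries.constantCoeff (PowerSeries.mk fun n => LaurentSeries.hasseDeriv F n (φ a)) = φ a
      rw [PowerSeries.constantCoeff_mk, LaurentSeries.hasseDeriv_zero]
      rfl
    have hd : (Polynomial.aeval z (Polynomial.derivative f)) ≠ 0 :=
      (Algebra.IsSeparable.isSeparable _ z).aeval_derivative_ne_zero (minpoly.aeval _ z)
    have hu : IsUnit ((f.map ψ).derivative.eval (G2 z) + w * (G1 z - G2 z)) := by
      rw [PowerSeries.isUnit_iff_constantCoeff, map_add, map_mul, map_sub, hc1, hc2, sub_self, mul_zero, add_zero,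
        Polynomial.derivative_map, hψ, Polynomial.eval_map, ← Polynomial.hom_eval₂, hc2, ← Polynomial.aeval_def]
      exact ((map_ne_zero φ).2 hd).isUnit
    exact sub_eq_zero.1 (hu.mul_right_eq_zero.1 hw.symm)
  have h := congrArg (PowerSeries.coeff n) (hall x)
  simpa [G1, G2, taylorHom, PowerSeries.coeff_map] using h

end Groth.Agent.S12583
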