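import Groth.Statements.S12584
import Groth.Agent.L26.FF.HyperGenus
import Groth.Agent.L26.FF.ASDiff

set_option autoImplicit false
universe u v w
open FunFld

namespace Groth.Agent.S12584

open Groth.Agent.FF
open scoped LaurentSeries

section
open Polynomial WithZero
variable {k K : Type*} [Field k] [Field K] [Algebra k K] [Algebra (RatFunc k) K] [IsScalarTower k (RatFunc k) K]
  {G : Type*} [Field G] [Algebra k G]

local notation "φₚ" => algebraMap k[X] (RatFunc k)

theorem cast_small (h2 : ringChar k ≠ 2) {e : ℕ} (h0 : 0 < e) (he : e ≤ 2) : ((e : ℤ) : G) ≠ 0 := by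
  obtain rfl | rfl : e = 1 ∨ e = 2 := by omega
  · simp
  · simp only [Nat.cast_ofNat, Int.cast_ofNat]
    exact two_ne_zero' (k := k) G h2

theorem e_le_two (hdeg : Module.finrank (RatFunc k) K = 2) {P : FunFld.Place k K} {p : FunFld.Place k (RatFunc k)}
    {e : ℕ} (he : FunFld.IsOverWith P p e) : e ≤ 2 := by
  classical
  have := finite_of_deg_two hdeg
  obtain ⟨hfin, hsum⟩ := finite_over_and_sum (K' := K) (isFunctionField_ratFunc (k := k)) p
  have h := hsum hfin.toFinset (fun Q => hfin.mem_toFinset)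
  have h1 : FunFld.ramIdx P p * P.deg ≤ ∑ Q ∈ hfin.toFinset, FunFld.ramIdx Q p * Q.deg :=
    Finset.single_le_sum (f := fun Q => FunFld.ramIdx Q p * Q.deg) (fun _ _ => Nat.zero_le _) (hfin.mem_toFinset.2 ⟨e, he⟩)
  rw [h, hdeg, ramIdx_eq he] at h1
  exact Nat.le_of_mul_le_mul_right ((Nat.mul_le_mul_left e (deg_le_deg (isFF_ratFunc (k := k)) ⟨e, he⟩)).trans h1)
    (one_le_deg (isFF_ratFunc (k := k)) p)

theorem v_Dx_inf (h2 : ringChar k ≠ 2) (hdeg : Module.finrank (RatFunc k) K = 2) {P : FunFld.Place k K}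
    {p : FunFld.Place k (RatFunc k)} {e : ℕ} (he : FunFld.IsOverWith P p e) {ψ : K →ₐ[k] G⸨X⸩}
    (hψ : LocRes.IsExpansionAt P.1 ψ) (hX : p.ord (RatFunc.X : RatFunc k) < 0) :
    Valued.v (LocRes.D G (ψ (algebraMap (RatFunc k) K RatFunc.X))) = exp ((e : ℤ) + 1) := by
  refine v_D_eq ?_ (cast_small h2 he.pos (e_le_two hdeg he))
  rw [Res.val_map hψ, he, val_eq_exp p RatFunc.X_ne_zero, (inf_place hX).1, ← exp_nsmul]
  simp

theorem exists_prime_at {p : FunFld.Place k (RatFunc k)} (hX : p.1 (RatFunc.X : RatFunc k) ≤ 1) :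
    ∃ π : k[X], Irreducible π ∧ p.1 (φₚ π) < 1 := by
  obtain ⟨t, ht0, ht⟩ := exists_val_eq p (-1)
  by_contra hc
  push Not at hc
  have hle : ∀ g : k[X], p.1 (φₚ g) ≤ 1 := fun g => by
    induction g using Polynomial.induction_on' with
    | add u v hu hv => rw [map_add]; exact p.1.map_add_le hu hv
    | monomial n c =>
      rw [← C_mul_X_pow_eq_monomial, map_mul, map_pow, RatFunc.algebraMap_X, map_mul, map_pow,
        ← Polynomial.algebraMap_eq, ← IsScalarTower.algebraMap_apply k k[X] (RatFunc k)]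
      exact mul_le_one' (p.2.1 c) (pow_le_one' hX n)
  have hge : ∀ g : k[X], g ≠ 0 → p.1 (φₚ g) = 1 := fun g => by
    induction g using UniqueFactorizationMonoid.induction_on_prime with
    | h₁ => exact fun h => absurd rfl h
    | h₂ u hu =>
      intro _
      obtain ⟨c, hc, rfl⟩ := Polynomial.isUnit_iff.1 hu
      rw [← Polynomial.algebraMap_eq, ← IsScalarTower.algebraMap_apply, val_const p hc.ne_zero]
    | h₃ a π ha hπ ih =>
      intro _
      rw [map_mul, map_mul, ih ha, mul_one]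
      exact le_antisymm (hle π) (hc π hπ.irreducible)
  rw [← RatFunc.num_div_denom t, map_div₀, hge _ (RatFunc.num_ne_zero ht0), hge _ t.denom_ne_zero, div_one] at ht
  exact absurd ht.symm (by rw [exp_eq_one']; norm_num)

theorem v_Dx_fin (h2 : ringChar k ≠ 2) (hdeg : Module.finrank (RatFunc k) K = 2) {P : FunFld.Place k K}
    {p : FunFld.Place k (RatFunc k)} {e : ℕ} (he : FunFld.IsOverWith P p e) {ψ : K →ₐ[k] G⸨X⸩}
    (hψ : LocRes.IsExpansionAt P.1 ψ) {π : k[X]} (hπ : Irreducible π) (hπv : p.1 (φₚ π) < 1) :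
    Valued.v (LocRes.D G (ψ (algebraMap (RatFunc k) K RatFunc.X))) = exp (1 - (e : ℤ)) := by
  obtain ⟨h1, hu⟩ := val_fin_poly hπ hπv
  have hv : Valued.v (LocRes.D G (ψ (algebraMap (RatFunc k) K (φₚ π)))) = exp (1 - (e : ℤ)) := by
    rw [show (1 : ℤ) - e = -(e : ℤ) + 1 by ring]
    refine v_D_eq ?_ (by rw [Int.cast_neg, neg_ne_zero]; exact cast_small h2 he.pos (e_le_two hdeg he))
    rw [Res.val_map hψ, he, h1, ← exp_nsmul]; simp
  rw [AS2.D_poly, map_mul, Res.val_map hψ, he] at hv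
  have hd : derivative π ≠ 0 := fun h => by
    rw [h, map_zero, map_zero, zero_pow he.pos.ne', zero_mul] at hv
    exact exp_ne_zero hv.symm
  rwa [hu _ (fun hdvd => (degree_derivative_lt hπ.ne_zero).not_ge (degree_le_of_dvd hdvd hd)), one_pow, one_mul] at hv

end

/-- For `char k ≠ 2` and `K` of degree `2` over `k(x)` with `y² = f(x)`, `f` squarefree of degree `≥ 1`,
the forms `x^i dx/y`, `0 ≤ i < g`, are a `k`-basis of the regular differential forms: each is
regular, and every regular `z dx` has `z = a(x)/y` with `deg a < g`; regularity read through Laurent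
expansions over `k` at every place (all places separable). -/
theorem result (k : Type u) (K : Type v) [Field k] [Field K] [Algebra k K] [Algebra (RatFunc k) K] [IsScalarTower k (RatFunc k) K]
    (hK : FunFld.IsFunctionField k K) (hdeg : Module.finrank (RatFunc k) K = 2) (h2 : ringChar k ≠ 2)
    (y : K) (f : Polynomial k) (hf : Squarefree f) (hd : 1 ≤ f.natDegree)
    (heq : y ^ 2 = algebraMap (RatFunc k) K (algebraMap (Polynomial k) (RatFunc k) f))
    (F : FunFld.Place k K → Type w) [∀ P, Field (F P)] [∀ P, Algebra k (F P)] [∀ P, FiniteDimensional k (F P)]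
    (φ : ∀ P, K →ₐ[k] LaurentSeries (F P)) (hφ : ∀ P, LocRes.IsExpansionAt P.1 (φ P)) :
    (∀ i : ℕ, i < FunFld.genus k K → ∀ P,
      LocRes.vDiff (φ P) (algebraMap (RatFunc k) K RatFunc.X ^ i / y) (algebraMap (RatFunc k) K RatFunc.X) ≤ 1) ∧
    ∀ z : K, (∀ P, LocRes.vDiff (φ P) z (algebraMap (RatFunc k) K RatFunc.X) ≤ 1) →
      ∃ a : Polynomial k, a.degree < (FunFld.genus k K : WithBot ℕ) ∧
        z = algebraMap (RatFunc k) K (algebraMap (Polynomial k) (RatFunc k) a) / y := by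
  classical
  open Polynomial WithZero in
  have := finite_of_deg_two hdeg
  have hR : FunFld.IsFunctionField k (RatFunc k) := isFunctionField_ratFunc
  rw [genus_hyperelliptic h2 hdeg hf hd heq]
  set φp := algebraMap (Polynomial k) (RatFunc k) with hφp
  set ι := algebraMap (RatFunc k) K with hι
  set x := ι RatFunc.X with hx
  set n := f.natDegree with hn
  have hf0 : φp f ≠ 0 := (map_ne_zero_iff _ (RatFunc.algebraMap_injective k)).2 hf.ne_zero
  have hy0 : y ≠ 0 := fun h => by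
    rw [h, zero_pow two_ne_zero, eq_comm, map_eq_zero_iff _ ι.injective] at heq
    exact hf0 heq
  have hyr : y ∉ Set.range ι := by
    rintro ⟨r, hr⟩
    exact not_sq hf hd r (ι.injective (by rw [map_pow, hr, heq]))
  have hord2 : ∀ {P : FunFld.Place k K} {p : FunFld.Place k (RatFunc k)} {e : ℕ}, FunFld.IsOverWith P p e →
      2 * P.ord y = e * p.ord (φp f) := fun he => val_eq_of_sq he hf0 heq
  have hvdiff : ∀ (P : FunFld.Place k K) (z : K),
      LocRes.vDiff (φ P) z x = P.1 z * Valued.v (LocRes.D (F P) (φ P x)) := fun P z => by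
    rw [Res.vDiff_eq, Res.val_map (hφ P)]
  refine ⟨fun i hi P => ?_, fun z hz => ?_⟩
  · obtain ⟨p, e, he⟩ := exists_below hR.1 P
    have hpos := he.pos
    have hxy : x ^ i / y ≠ 0 := div_ne_zero (pow_ne_zero _ ((_root_.map_ne_zero _).2 RatFunc.X_ne_zero)) hy0
    have hy1 := hord2 he
    rw [hvdiff]
    by_cases hX : p.ord (RatFunc.X : RatFunc k) < 0
    · have hxord : P.ord x = -(e : ℤ) := by rw [hx, hι, he.ord, (inf_place hX).1]; ring
      rw [v_Dx_inf h2 hdeg he (hφ P) hX, map_div₀, map_pow, val_eq_exp P ((_root_.map_ne_zero _).2 RatFunc.X_ne_zero : x ≠ 0),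
        val_eq_exp P hy0, ← WithZero.exp_nsmul, ← WithZero.exp_sub, ← WithZero.exp_add, exp_le_one', hxord]
      rw [ord_eq_of_val p (val_inf_poly hX hf.ne_zero), ← hn] at hy1
      simp only [nsmul_eq_mul]
      have h3 : 2 * (i : ℤ) + 3 ≤ n := by omega
      by_cases h4 : 2 * (i : ℤ) + 3 = n
      · have he2 := e_le_two hdeg he
        obtain rfl : e = 2 := by
          rcases (show e = 1 ∨ e = 2 by omega) with rfl | rfl
          · push_cast at hy1; omega
          · rfl
        push_cast at hy1 ⊢; omega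
      · have h6 : 0 ≤ (e : ℤ) * ((n : ℤ) - 2 * i - 4) := mul_nonneg (by positivity) (by omega)
        have h7 : (1 : ℤ) ≤ e := by exact_mod_cast hpos
        linarith
    · have hX1 : p.1 (RatFunc.X : RatFunc k) ≤ 1 := (val_le_one_iff p RatFunc.X_ne_zero).2 (not_lt.1 hX)
      obtain ⟨π, hπ, hπv⟩ := exists_prime_at hX1
      rw [v_Dx_fin h2 hdeg he (hφ P) hπ hπv, map_div₀, map_pow]
      have hxle : P.1 x ≤ 1 := (he.le_one_iff _).2 hX1
      refine (mul_le_mul_left (div_le_div_of_nonneg_right (pow_le_one' hxle i) zero_le) _).trans ?_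
      rw [one_div, val_eq_exp P hy0, ← WithZero.exp_neg, ← WithZero.exp_add, exp_le_one', neg_neg]
      obtain ⟨h1, hu⟩ := val_fin_poly hπ hπv
      by_cases hdvd : π ∣ f
      · obtain ⟨g, hg⟩ := hdvd
        have hpg : ¬ π ∣ g := fun ⟨r, hr⟩ => hπ.not_isUnit (hf π ⟨r, by rw [hg, hr]; ring⟩)
        have hv : p.1 (φp f) = WithZero.exp (-1 : ℤ) := by rw [hφp, hg, map_mul, map_mul, h1, hu g hpg, mul_one]
        rw [ord_eq_of_val p hv] at hy1
        omega
      · rw [(val_eq_one_iff p hf0).1 (hu f hdvd)] at hy1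
        omega
  -- the converse
  have hv : ∀ (P : FunFld.Place k K) (p : FunFld.Place k (RatFunc k)) (e : ℕ), FunFld.IsOverWith P p e →
      Valued.v (LocRes.D (F P) (φ P x)) =
        WithZero.exp (if p.ord (RatFunc.X : RatFunc k) < 0 then (e : ℤ) + 1 else 1 - (e : ℤ)) := by
    intro P p e he
    split_ifs with hX
    · exact v_Dx_inf h2 hdeg he (hφ P) hX
    · obtain ⟨π, hπ, hπv⟩ := exists_prime_at ((val_le_one_iff p RatFunc.X_ne_zero).2 (not_lt.1 hX))
      exact v_Dx_fin h2 hdeg he (hφ P) hπ hπv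
  obtain ⟨a, b, hab⟩ := AS2.decomp hdeg hyr z
  -- the conjugation
  have htop := QuadExt.adjoin_eq_top hdeg hyr
  have hint : IsIntegral (RatFunc k) y := .of_finite _ y
  let B : PowerBasis (RatFunc k) K := (IntermediateField.adjoin.powerBasis hint).map
    ((IntermediateField.equivOfEq htop).trans IntermediateField.topEquiv)
  have hmin : minpoly (RatFunc k) y = Polynomial.X ^ 2 - Polynomial.C (φp f) := (minpoly.eq_of_irreducible_of_monic
    (X_pow_sub_C_irreducible_of_prime Nat.prime_two (not_sq hf hd)) (by simp [heq, hι, hφp])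
    (Polynomial.monic_X_pow_sub_C _ two_ne_zero)).symm
  have hgen : B.gen = y := rfl
  let σ₀ : K →ₐ[RatFunc k] K := B.lift (-y) (by rw [hgen, hmin]; simp [heq, hι, hφp])
  let σ : K ≃ₐ[RatFunc k] K := AlgEquiv.ofBijective σ₀ (Algebra.IsAlgebraic.algHom_bijective σ₀)
  have hσy : σ y = -y := by
    show σ₀ y = -y
    conv_lhs => rw [← hgen]
    exact B.lift_gen _ _
  have hhalf : ∀ (Q : FunFld.Place k K), Q.1 (2 : K)⁻¹ = 1 := fun Q => by
    rw [← map_ofNat (algebraMap k K), ← map_inv₀, val_const Q (inv_ne_zero (Ring.two_ne_zero h2))]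
  have h2K := two_ne_zero' (k := k) K h2
  have hbound : ∀ (P : FunFld.Place k K) (p : FunFld.Place k (RatFunc k)) (e : ℕ), FunFld.IsOverWith P p e →
      P.1 (ι a) ≤ WithZero.exp (-(if p.ord (RatFunc.X : RatFunc k) < 0 then (e : ℤ) + 1 else 1 - (e : ℤ))) ∧
      P.1 (ι b * y) ≤ WithZero.exp (-(if p.ord (RatFunc.X : RatFunc k) < 0 then (e : ℤ) + 1 else 1 - (e : ℤ))) := by
    intro P p e he
    set c : ℤ := if p.ord (RatFunc.X : RatFunc k) < 0 then (e : ℤ) + 1 else 1 - (e : ℤ) with hc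
    have key : ∀ Q : FunFld.Place k K, FunFld.IsOverWith Q p e → Q.1 z ≤ WithZero.exp (-c) := fun Q hQ => by
      have := hz Q
      rw [hvdiff, hv Q p e hQ, ← hc, ← le_div_iff₀ WithZero.exp_pos, one_div, ← WithZero.exp_neg] at this
      exact this
    have k1 := key P he
    have k2 := key (galPlace σ.symm P) (galPlace_isOverWith σ.symm he)
    rw [galPlace_apply, AlgEquiv.symm_symm, hab, map_add, map_mul, AlgEquiv.commutes, AlgEquiv.commutes, hσy] at k2
    rw [hab] at k1
    refine ⟨?_, ?_⟩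
    · rw [show ι a = (2 : K)⁻¹ * ((ι a + ι b * y) + (ι a + ι b * -y)) by field_simp; ring, map_mul, hhalf, one_mul]
      exact P.1.map_add_le k1 k2
    · rw [show ι b * y = (2 : K)⁻¹ * ((ι a + ι b * y) - (ι a + ι b * -y)) by field_simp; ring, map_mul, hhalf, one_mul]
      exact P.1.map_sub_le k1 k2
  -- polynomials
  have hpolyof : ∀ r : RatFunc k, (∀ p : FunFld.Place k (RatFunc k), ¬ p.ord (RatFunc.X : RatFunc k) < 0 → p.1 r ≤ 1) →
      ∃ g, r = φp g := by
    intro r hr
    refine ⟨r.num, ?_⟩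
    have hdd : r.denom.natDegree = 0 := by
      by_contra hcc
      obtain ⟨p, hp⟩ := exists_zero (isFF_ratFunc (k := k))
        (transcendental_algebraMap_poly (k := k) (p := r.denom) (Nat.pos_of_ne_zero hcc))
      have hnX : ¬ p.ord (RatFunc.X : RatFunc k) < 0 := fun h => by
        rw [val_inf_poly h r.denom_ne_zero, exp_lt_one'] at hp; omega
      obtain ⟨π, hπ, hπv⟩ := exists_prime_at ((val_le_one_iff p RatFunc.X_ne_zero).2 (not_lt.1 hnX))
      obtain ⟨h1, hu⟩ := val_fin_poly hπ hπv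
      have hπd : π ∣ r.denom := by
        by_contra hn'
        rw [hu _ hn'] at hp; exact lt_irrefl _ hp
      have hπn : ¬ π ∣ r.num := fun h => hπ.not_isUnit ((RatFunc.isCoprime_num_denom r).isUnit_of_dvd' h hπd)
      have h3 := hr p hnX
      rw [← RatFunc.num_div_denom r, map_div₀, hu _ hπn,
        div_le_one₀ (zero_lt_iff.2 (val_ne_zero p ((map_ne_zero_iff _ (RatFunc.algebraMap_injective k)).2 r.denom_ne_zero)))] at h3
      exact not_lt.2 h3 hp
    conv_lhs => rw [← RatFunc.num_div_denom r, (RatFunc.monic_denom r).natDegree_eq_zero.1 hdd, map_one, div_one]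
  obtain ⟨pinf, hinf⟩ := AS2.exists_inf (k := k)
  obtain ⟨Q, eQ, hQ⟩ := AS2.exists_over (K := K) hR pinf
  have hbP : ∀ (p : FunFld.Place k (RatFunc k)), ∃ (P : FunFld.Place k K) (e : ℕ), FunFld.IsOverWith P p e :=
    fun p => AS2.exists_over (K := K) hR p
  have ha : a = 0 := by
    by_contra ha0
    obtain ⟨g, rfl⟩ := hpolyof a fun p hp => by
      obtain ⟨P, e, he⟩ := hbP p
      have h := (val_le_exp_iff P ((_root_.map_ne_zero _).2 ha0 : ι a ≠ 0)).1 (hbound P p e he).1
      rw [if_neg hp, hι, he.ord] at h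
      refine (val_le_one_iff p ha0).2 (not_lt.1 fun hlt => ?_)
      have := he.pos
      have h5 : (e : ℤ) * p.ord a ≤ (e : ℤ) * (-1) := mul_le_mul_of_nonneg_left (by omega) (by positivity)
      linarith
    have hg0 : g ≠ 0 := fun h => ha0 (by rw [h, map_zero])
    have h := (val_le_exp_iff Q ((_root_.map_ne_zero _).2 ha0 : ι (φp g) ≠ 0)).1 (hbound Q pinf eQ hQ).1
    rw [if_pos hinf, hι, hQ.ord, ord_eq_of_val pinf (val_inf_poly hinf hg0)] at h
    have h5 : (eQ : ℤ) * -(g.natDegree : ℤ) ≤ 0 := mul_nonpos_of_nonneg_of_nonpos (by positivity) (by omega)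
    have := hQ.pos
    linarith
  rcases eq_or_ne b 0 with hb | hb
  · refine ⟨0, by rw [Polynomial.degree_zero]; exact WithBot.bot_lt_coe _, ?_⟩
    rw [hab, ha, hb]; simp
  have hby : ι b * y ≠ 0 := mul_ne_zero ((_root_.map_ne_zero _).2 hb) hy0
  obtain ⟨g, hg⟩ := hpolyof (b * φp f) fun p hp => by
    obtain ⟨P, e, he⟩ := hbP p
    have h := (val_le_exp_iff P hby).1 (hbound P p e he).2
    rw [if_neg hp, ord_mul P ((_root_.map_ne_zero _).2 hb) hy0, hι, he.ord] at h
    refine (val_le_one_iff p (mul_ne_zero hb hf0)).2 (not_lt.1 fun hlt => ?_)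
    rw [ord_mul p hb hf0] at hlt
    have hy1 := hord2 he
    have hfnn : 0 ≤ p.ord (φp f) := by
      obtain ⟨π, hπ, hπv⟩ := exists_prime_at ((val_le_one_iff p RatFunc.X_ne_zero).2 (not_lt.1 hp))
      obtain ⟨h1, hu⟩ := val_fin_poly hπ hπv
      by_cases hdvd : π ∣ f
      · obtain ⟨r, hr⟩ := hdvd
        have hpg : ¬ π ∣ r := fun ⟨u, hu'⟩ => hπ.not_isUnit (hf π ⟨u, by rw [hr, hu']; ring⟩)
        rw [ord_eq_of_val p (n := -1) (by rw [hφp, hr, map_mul, map_mul, h1, hu r hpg, mul_one])]; norm_num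
      · rw [(val_eq_one_iff p hf0).1 (hu f hdvd)]
    have hpe := he.pos
    have h5 : (e : ℤ) * (p.ord b + p.ord (φp f)) ≤ (e : ℤ) * (-1) := mul_le_mul_of_nonneg_left (by omega) (by positivity)
    have h6 : (0 : ℤ) ≤ (e : ℤ) * p.ord (φp f) := mul_nonneg (by positivity) hfnn
    linarith
  have hgb : ι b * y = ι (φp g) / y := by
    rw [eq_div_iff hy0, mul_assoc, ← sq, heq, ← map_mul]
    exact congrArg ι hg
  refine ⟨g, ?_, by rw [hab, ha, map_zero, zero_add, hgb]⟩
  have hg0 : g ≠ 0 := fun h => mul_ne_zero hb hf0 (by rw [hg, h, map_zero])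
  have h := (val_le_exp_iff Q hby).1 (hbound Q pinf eQ hQ).2
  rw [if_pos hinf, ord_mul Q ((_root_.map_ne_zero _).2 hb) hy0, hι, hQ.ord] at h
  have h2' := congrArg pinf.ord hg
  rw [ord_mul pinf hb hf0, ord_eq_of_val pinf (val_inf_poly hinf hg0),
    ord_eq_of_val pinf (val_inf_poly hinf hf.ne_zero), ← hn] at h2'
  have hy1 := hord2 hQ
  rw [ord_eq_of_val pinf (val_inf_poly hinf hf.ne_zero), ← hn] at hy1
  rw [show pinf.ord b = (n : ℤ) - g.natDegree by omega] at h
  have hpe := hQ.pos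
  have h3 : 2 * (g.natDegree : ℤ) + 3 ≤ n := by
    by_contra hc
    have h5 : (eQ : ℤ) * ((n : ℤ) - 2 * g.natDegree) ≤ (eQ : ℤ) * 2 :=
      mul_le_mul_of_nonneg_left (by omega) (by positivity)
    linarith
  rw [Polynomial.degree_eq_natDegree hg0, Nat.cast_lt]
  omega

end Groth.Agent.S12584
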