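import Groth.Statements.S12587
import Groth.Agent.L26.FF.ASDiff

set_option autoImplicit false
universe u v w
open FunFld

namespace Groth.Agent.S12587

open Groth.Agent.FF

/-- For `k` perfect of characteristic `2` and `K = k(x, y)` with `y² + y = f(x)`, all poles of `f` of
odd order `2d_i - 1` at `p_i`, and `q = ∏ p_i^{d_i}` over the finite poles, the forms `x^i dx/q(x)`,
`0 ≤ i < g`, are a `k`-basis of the regular differential forms; regularity read through Laurent
expansions over `k` at every place; `q` is pinned up to a constant by its orders at the finite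
places. -/
theorem result (k : Type u) (K : Type v) [Field k] [Field K] [Algebra k K] [Algebra (RatFunc k) K] [IsScalarTower k (RatFunc k) K]
    (hK : FunFld.IsFunctionField k K) (hdeg : Module.finrank (RatFunc k) K = 2) [PerfectField k] (h2 : ringChar k = 2)
    [Algebra.IsSeparable (RatFunc k) K]
    (y : K) (hy : y ∉ Set.range (algebraMap (RatFunc k) K)) (f : RatFunc k)
    (heq : y ^ 2 + y = algebraMap (RatFunc k) K f)
    (hodd : ∀ p : FunFld.Place k (RatFunc k), 1 < p.1 f → Odd (p.ord f))
    (q : Polynomial k) (hq0 : q ≠ 0)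
    (hq : ∀ p : FunFld.Place k (RatFunc k), p.1 RatFunc.X ≤ 1 →
      p.ord (algebraMap (Polynomial k) (RatFunc k) q) = if 1 < p.1 f then (1 - p.ord f) / 2 else 0)
    (F : FunFld.Place k K → Type w) [∀ P, Field (F P)] [∀ P, Algebra k (F P)] [∀ P, FiniteDimensional k (F P)]
    (φ : ∀ P, K →ₐ[k] LaurentSeries (F P)) (hφ : ∀ P, LocRes.IsExpansionAt P.1 (φ P)) :
    (∀ i : ℕ, i < FunFld.genus k K → ∀ P,
      LocRes.vDiff (φ P) (algebraMap (RatFunc k) K (RatFunc.X ^ i / algebraMap (Polynomial k) (RatFunc k) q))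
        (algebraMap (RatFunc k) K RatFunc.X) ≤ 1) ∧
    ∀ z : K, (∀ P, LocRes.vDiff (φ P) z (algebraMap (RatFunc k) K RatFunc.X) ≤ 1) →
      ∃ a : Polynomial k, a.degree < (FunFld.genus k K : WithBot ℕ) ∧
        z = algebraMap (RatFunc k) K (algebraMap (Polynomial k) (RatFunc k) a / algebraMap (Polynomial k) (RatFunc k) q) := by
  classical
  have : CharP k 2 := h2 ▸ ringChar.charP k
  have hR : FunFld.IsFunctionField k (RatFunc k) := isFunctionField_ratFunc
  have hsgn : ∀ p : FunFld.Place k (RatFunc k), 1 < p.1 f ↔ p.ord f < 0 := fun p => by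
    rcases eq_or_ne f 0 with rfl | hf
    · simp [ord_zero]
    · rw [← not_le, val_le_one_iff p hf, not_le]
  have hodd' : ∀ p : FunFld.Place k (RatFunc k), p.ord f < 0 → Odd (p.ord f) := fun p hp => hodd p ((hsgn p).2 hp)
  let E : FunFld.Divisor k (RatFunc k) := (FunFld.div k f).mapRange (fun n => if n < 0 then (1 - n) / 2 else 0) rfl
  have hE : ∀ p, E p = if p.ord f < 0 then (1 - p.ord f) / 2 else 0 := fun p => by
    simp [E, Finsupp.mapRange_apply, div_apply hR.1]
  obtain ⟨pinf, hinf⟩ := AS2.exists_inf (k := k)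
  obtain ⟨hreg, hell, hdegE⟩ := AS2.regular_iff hK hdeg hy heq hodd' hE hinf F φ hφ
  set g := FunFld.genus k K
  set Q := algebraMap (Polynomial k) (RatFunc k) q with hQ
  have hQ0 : Q ≠ 0 := (map_ne_zero_iff _ (RatFunc.algebraMap_injective k)).2 hq0
  have hfin : ∀ p : FunFld.Place k (RatFunc k), p ≠ pinf → p.1 RatFunc.X ≤ 1 := fun p hp => by
    by_contra hc
    exact hp (AS2.inf_unique (not_le.1 fun h => hc ((val_le_one_iff p RatFunc.X_ne_zero).2 h)) hinf)
  have hQinf : pinf.1 Q = WithZero.exp (q.natDegree : ℤ) := val_inf_poly hinf hq0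
  have hEq : E = FunFld.div k Q + Finsupp.single pinf ((q.natDegree : ℤ) + E pinf) := Finsupp.ext fun p => by
    rw [Finsupp.add_apply, div_apply hR.1, Finsupp.single_apply]
    rcases eq_or_ne p pinf with rfl | hp
    · rw [if_pos rfl, ord_eq_of_val p hQinf]; ring
    · rw [if_neg (Ne.symm hp), add_zero, hE, hq p (hfin p hp)]
      simp only [hsgn]
  have hdq : (q.natDegree : ℤ) + E pinf = (g : ℤ) + 1 := by
    rw [← hdegE]
    conv_rhs => rw [hEq, deg_add, deg_div hR.1, zero_add, deg_single, (inf_place hinf).2]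
    simp
  let η : Polynomial.degreeLT k g →ₗ[k] RatFunc k :=
    (LinearMap.mulRight k Q⁻¹) ∘ₗ (IsScalarTower.toAlgHom k (Polynomial k) (RatFunc k)).toLinearMap ∘ₗ
      (Polynomial.degreeLT k g).subtype
  have hη : ∀ a, η a = algebraMap (Polynomial k) (RatFunc k) (a : Polynomial k) / Q := fun a => (div_eq_mul_inv _ _).symm
  have hinj : Function.Injective η := fun a b h => by
    rw [hη, hη, div_left_inj' hQ0] at h
    exact Subtype.ext (RatFunc.algebraMap_injective k h)
  have hmem : ∀ a, η a ∈ FunFld.L (E - Finsupp.single pinf 2) := fun a p => by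
    rw [hη, map_div₀, Finsupp.sub_apply, Finsupp.single_apply]
    rcases eq_or_ne p pinf with rfl | hp
    · rw [if_pos rfl, hQinf]
      rcases eq_or_ne (a : Polynomial k) 0 with h | h
      · simp [h]
      · rw [val_inf_poly hinf h, ← WithZero.exp_sub, WithZero.exp_le_exp]
        have := Polynomial.mem_degreeLT.1 a.2
        rw [Polynomial.degree_eq_natDegree h, Nat.cast_lt] at this
        omega
    · rw [if_neg (Ne.symm hp), sub_zero, val_eq_exp p hQ0, div_le_iff₀ WithZero.exp_pos, ← WithZero.exp_add,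
        hE, hq p (hfin p hp)]
      simp only [hsgn, add_neg_cancel, WithZero.exp_zero]
      refine (?_ : p.1 (algebraMap (Polynomial k) (RatFunc k) (a : Polynomial k)) ≤ 1)
      induction (a : Polynomial k) using Polynomial.induction_on' with
      | add u v hu hv => rw [map_add]; exact p.1.map_add_le hu hv
      | monomial n c =>
        rw [← Polynomial.C_mul_X_pow_eq_monomial, map_mul, map_pow, RatFunc.algebraMap_X, map_mul, map_pow,
          ← Polynomial.algebraMap_eq, ← IsScalarTower.algebraMap_apply k (Polynomial k) (RatFunc k)]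
        exact mul_le_one' (p.2.1 c) (pow_le_one' (hfin p hp) n)
  have hrange : LinearMap.range η = FunFld.L (E - Finsupp.single pinf 2) := by
    have := finite_L hR.1 (E - Finsupp.single pinf 2)
    refine Submodule.eq_of_le_of_finrank_eq ?_ ?_
    · rintro r ⟨a, rfl⟩; exact hmem a
    · rw [LinearMap.finrank_range_of_inj hinj, (Polynomial.degreeLTEquiv k g).finrank_eq, Module.finrank_fin_fun]
      exact_mod_cast hell.symm
  refine ⟨fun i hi P => ?_, fun z hz => ?_⟩
  · refine (hreg _).2 ⟨_, hmem ⟨Polynomial.X ^ i, Polynomial.mem_degreeLT.2 ((Polynomial.degree_X_pow_le i).trans_lt (Nat.cast_lt.2 hi))⟩, ?_⟩ P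
    rw [hη, map_pow, RatFunc.algebraMap_X]
  · obtain ⟨r, hr, rfl⟩ := (hreg z).1 hz
    rw [← hrange] at hr
    obtain ⟨a, rfl⟩ := hr
    exact ⟨a, Polynomial.mem_degreeLT.1 a.2, congrArg _ (hη a)⟩

end Groth.Agent.S12587
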