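import Groth.Statements.S12588
import Groth.Agent.L26.FF.ASChar2
import Groth.Agent.L26.FF.RatDiff

set_option autoImplicit false
universe u v w
open FunFld

namespace Groth.Agent.S12588

open Groth.Agent.FF
open scoped LaurentSeries

/-- For `k` perfect of characteristic `2`, `K` separable of degree `2` over `k(x)` with `y² + y = f(x)`,
and a place `p` of `k(x)` where `f` has a pole whose order `2d - 1` is odd: a place `P` of `K` above
`p` with ramification index `e` (necessarily `e = 2`, `P` unique) has different exponent `d(P|p) =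
2d = 1 - ord_p(f)`; the exponent is computed on `dz` through Laurent expansions over `k` at `p` and
`P`. -/
theorem result (k : Type u) (K : Type v) [Field k] [Field K] [Algebra k K] [Algebra (RatFunc k) K] [IsScalarTower k (RatFunc k) K]
    (hK : FunFld.IsFunctionField k K) (hdeg : Module.finrank (RatFunc k) K = 2) [PerfectField k] (h2 : ringChar k = 2)
    [Algebra.IsSeparable (RatFunc k) K]
    (y : K) (hy : y ∉ Set.range (algebraMap (RatFunc k) K)) (f : RatFunc k)
    (heq : y ^ 2 + y = algebraMap (RatFunc k) K f)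
    (p : FunFld.Place k (RatFunc k)) (hp : 1 < p.1 f) (hodd : Odd (p.ord f))
    (P : FunFld.Place k K) (e : ℕ) (he : FunFld.IsOverWith P p e)
    (F F' : Type w) [Field F] [Algebra k F] [Field F'] [Algebra k F']
    (φ : RatFunc k →ₐ[k] LaurentSeries F) (hφ : LocRes.IsExpansionAt p.1 φ)
    (ψ : K →ₐ[k] LaurentSeries F') (hψ : LocRes.IsExpansionAt P.1 ψ)
    (z : RatFunc k) (hz : LocRes.vDiff φ 1 z ≠ 0) (hz' : LocRes.vDiff ψ 1 (algebraMap (RatFunc k) K z) ≠ 0) :
    LocRes.diffExp φ ψ e z = 1 - p.ord f := by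
  have : CharP k 2 := h2 ▸ ringChar.charP k
  have : CharP K 2 := charP_of_injective_algebraMap (algebraMap k K).injective 2
  have : CharP F 2 := charP_of_injective_algebraMap (algebraMap k F).injective 2
  have : CharP F' 2 := charP_of_injective_algebraMap (algebraMap k F').injective 2
  have := AS2.finite_of_deg (F := RatFunc k) (K := K) hdeg
  have hR : FunFld.IsFunctionField k (RatFunc k) := isFunctionField_ratFunc
  have hf0 : f ≠ 0 := fun h => by rw [h, map_zero] at hp; exact not_lt.2 zero_le hp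
  have hneg : p.ord f < 0 := not_le.1 fun h => not_lt.2 ((val_le_one_iff p hf0).2 h) hp
  obtain ⟨rfl, hPy, -⟩ := (AS2.odd_ram (K := K) hR hdeg heq hneg hodd).2 P e he
  have hy0 : y ≠ 0 := fun h => hy ⟨0, by rw [map_zero, h]⟩
  have hcast : ∀ (G : Type w) [Field G] [CharP G 2], ((-p.ord f : ℤ) : G) ≠ 0 := fun G _ _ => by
    rw [Ne, CharP.intCast_eq_zero_iff G 2]
    obtain ⟨r, hr⟩ := hodd
    omega
  have hφf : LocRes.vDiff φ 1 f = WithZero.exp (-p.ord f + 1) := by
    rw [Res.vDiff_eq, map_one, map_one, one_mul]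
    exact v_D_eq (by rw [Res.val_map hφ, val_eq_exp p hf0]) (hcast F)
  have hψf : LocRes.vDiff ψ 1 (algebraMap (RatFunc k) K f) = WithZero.exp (-p.ord f + 1) := by
    have h1 : LocRes.D F' (ψ (algebraMap (RatFunc k) K f)) = LocRes.D F' (ψ y) := by
      have : CharP F'⸨X⸩ 2 := charP_of_injective_algebraMap (algebraMap F' F'⸨X⸩).injective 2
      rw [← heq, map_add, map_pow, map_add, sq, Derivation.leibniz, CharTwo.add_self_eq_zero, zero_add]
    rw [Res.vDiff_eq, map_one, map_one, one_mul, h1]
    exact v_D_eq (by rw [Res.val_map hψ, val_eq_exp P hy0, hPy]) (hcast F')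
  have hdf : KaehlerDifferential.D k (RatFunc k) f ≠ 0 := fun h => by
    rw [Res.vDiff_eq, Res.D_map_eq_zero φ h, map_zero, mul_zero] at hφf
    exact WithZero.exp_ne_zero hφf.symm
  obtain ⟨c, hc⟩ := exists_smul_D_rat hdf z
  have hc0 : c ≠ 0 := fun h => hz (by
    rw [Res.vDiff_eq, ← Res.D_map_smul φ hc, h, map_zero, zero_mul, map_zero, mul_zero])
  have h1 : LocRes.vDiff φ 1 z = p.1 c * LocRes.vDiff φ 1 f := by
    rw [Res.vDiff_eq, Res.vDiff_eq, map_one, map_one, one_mul, one_mul, ← Res.D_map_smul φ hc, map_mul,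
      Res.val_map hφ]
  have h2' : LocRes.vDiff ψ 1 (algebraMap (RatFunc k) K z) =
      P.1 (algebraMap (RatFunc k) K c) * LocRes.vDiff ψ 1 (algebraMap (RatFunc k) K f) := by
    rw [Res.vDiff_eq, Res.vDiff_eq, map_one, map_one, one_mul, one_mul]
    have := Res.D_map_smul (ψ.comp (IsScalarTower.toAlgHom k (RatFunc k) K)) hc
    simp only [AlgHom.comp_apply, IsScalarTower.coe_toAlgHom'] at this
    rw [← this, map_mul, Res.val_map hψ]
  simp only [LocRes.diffExp, LocRes.ordDiff, h1, h2', hφf, hψf,
    he c, val_eq_exp p hc0, ← WithZero.exp_nsmul, ← WithZero.exp_add, WithZero.log_exp]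
  simp only [nsmul_eq_mul]
  push_cast
  ring

end Groth.Agent.S12588
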