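import Groth.Statements.S12589
import Groth.Agent.L26.FF.IntClosure
import Groth.Agent.L26.FF.Approx

set_option autoImplicit false
universe u v
open FunFld

namespace Groth.Agent.S12589

open Groth.Agent.FF

/-- If a place `P` of a geometric function field of one variable `K/k` is nonsingular with respect to
the finite extension `k'/k` (the integral closure of `O_P` in `K' = k' ⊗_k K` is `O_P[k']`) and `Q`
is a place of `K'` above `P`, then `F_Q = k' F_P`. -/
theorem result (k k' : Type u) (K K' : Type v) [Field k] [Field k'] [Field K] [Field K']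
    [Algebra k k'] [FiniteDimensional k k'] [Algebra k K] [Algebra K K'] [Algebra k' K'] [Algebra k K']
    [IsScalarTower k k' K'] [IsScalarTower k K K']
    (h : Function.Bijective (Algebra.TensorProduct.productMap
      (IsScalarTower.toAlgHom k k' K') (IsScalarTower.toAlgHom k K K')))
    (hK : FunFld.IsFunctionField k K) (hg : FunFld.IsGeometric k K)
    (P : FunFld.Place k K) [Algebra P.O K'] [IsScalarTower P.O K K']
    (hns : (integralClosure P.O K').toSubring = (Algebra.adjoin P.O (Set.range (algebraMap k' K'))).toSubring)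
    (Q : FunFld.Place k K') [P.1.HasExtension Q.1] (hk' : ∀ c : k', Q.1 (algebraMap k' K' c) ≤ 1) :
    Algebra.adjoin (IsLocalRing.ResidueField P.O)
      (Set.range fun c : k' => IsLocalRing.residue Q.O ⟨algebraMap k' K' c, hk' c⟩) = ⊤ := by
  classical
  have hfd : FiniteDimensional K K' := by
    let f : TensorProduct k K k' →ₐ[K] K' :=
      Algebra.TensorProduct.lift (Algebra.ofId K K') (IsScalarTower.toAlgHom k k' K') fun _ _ => Commute.all _ _
    refine Module.Finite.of_surjective f.toLinearMap fun z => ?_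
    obtain ⟨w, rfl⟩ := h.2 z
    refine ⟨Algebra.TensorProduct.comm k k' K w, ?_⟩
    show f (Algebra.TensorProduct.comm k k' K w) = _
    induction w using TensorProduct.induction_on with
    | zero => simp
    | tmul a b => simp [f, mul_comm, Algebra.ofId_apply]
    | add x y hx hy =>
      rw [map_add, map_add, map_add, hx, hy]
  obtain ⟨P', e, he⟩ := exists_below hK.1 Q
  have hPP : P = P' := eq_of_le fun z hz =>
    (he.le_one_iff z).1 ((Valuation.HasExtension.val_map_le_one_iff P.1 Q.1 z).2 hz)
  subst hPP
  set A := Algebra.adjoin (IsLocalRing.ResidueField P.O)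
    (Set.range fun c : k' => IsLocalRing.residue Q.O ⟨algebraMap k' K' c, hk' c⟩)
  have hall : ∀ w ∈ Algebra.adjoin P.O (Set.range (algebraMap k' K')),
      ∃ hw : Q.1 w ≤ 1, IsLocalRing.residue Q.O ⟨w, hw⟩ ∈ A := fun w hw => by
    induction hw using Algebra.adjoin_induction with
    | mem v hv =>
      obtain ⟨c, rfl⟩ := hv
      exact ⟨hk' c, Algebra.subset_adjoin ⟨c, rfl⟩⟩
    | algebraMap a =>
      have h1 : algebraMap P.O K' a = algebraMap K K' (a : K) := IsScalarTower.algebraMap_apply P.O K K' a
      refine ⟨h1 ▸ (he.le_one_iff _).2 a.2, ?_⟩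
      have h2 : IsLocalRing.residue Q.O (algebraMap P.O Q.O a) ∈ A := by
        rw [← Valuation.HasExtension.algebraMap_residue_eq_residue_algebraMap]
        exact A.algebraMap_mem _
      convert h2 using 2
      exact Subtype.ext h1
    | add u v _ _ hu hv =>
      obtain ⟨hu1, hu2⟩ := hu
      obtain ⟨hv1, hv2⟩ := hv
      refine ⟨Q.O.add_mem _ _ hu1 hv1, ?_⟩
      have := add_mem hu2 hv2
      rwa [← map_add] at this
    | mul u v _ _ hu hv =>
      obtain ⟨hu1, hu2⟩ := hu
      obtain ⟨hv1, hv2⟩ := hv
      refine ⟨Q.O.mul_mem _ _ hu1 hv1, ?_⟩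
      have := mul_mem hu2 hv2
      rwa [← map_mul] at this
  refine eq_top_iff.2 fun b _ => ?_
  obtain ⟨⟨z, hz⟩, rfl⟩ := IsLocalRing.residue_surjective (R := Q.O) b
  let S := insert Q (finite_over (K' := K') hK.1 P).toFinset
  obtain ⟨s, hs⟩ := approx S (fun R => if R = Q then z else 0) 1
  have hsQ : Q.1 (s - z) ≤ WithZero.exp (-1) := by simpa using hs Q (Finset.mem_insert_self _ _)
  have hsQ1 : Q.1 s ≤ 1 := by
    rw [← sub_add_cancel s z]
    exact Q.1.map_add_le (hsQ.trans (exp_le_one'.2 (by omega))) hz
  have hint : IsIntegral P.O s := (isIntegral_iff hK.1 P s).2 fun R hR => by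
    by_cases hRQ : R = Q
    · subst hRQ; exact hsQ1
    · have := hs R (Finset.mem_insert_of_mem ((Set.Finite.mem_toFinset _).2 hR))
      rw [if_neg hRQ, sub_zero] at this
      exact this.trans (exp_le_one'.2 (by omega))
  have hmem : s ∈ Algebra.adjoin P.O (Set.range (algebraMap k' K')) := by
    rw [← Subalgebra.mem_toSubring, ← hns]
    exact hint
  obtain ⟨hw, hres⟩ := hall s hmem
  convert hres using 1
  refine ((IsLocalRing.residue_eq_zero_iff _).2 ?_ |> fun h0 => (sub_eq_zero.1 ((map_sub _ _ _).symm.trans h0)).symm)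
  rw [IsLocalRing.mem_maximalIdeal, mem_nonunits_iff]
  exact Valuation.Integer.not_isUnit_iff_valuation_lt_one.2 (hsQ.trans_lt (exp_lt_one'.2 (by omega)))

end Groth.Agent.S12589
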