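import Groth.Statements.S1259
import Groth.Agent.L20.RG.FibreCover

set_option autoImplicit false
universe u
open FlatMor

set_option backward.isDefEq.respectTransparency.types false
namespace Groth.Agent.S1259

open TensorProduct IsLocalRing in
/-- Ring form, X = Spec S and S = Spec R affine: let S be a finite type R-algebra, N a finite S-module
and p a prime of R such that N_q is flat over R for every prime q of S over p. Then there is an
étale R-algebra R' with a prime p' over p having the same residue field such that, writing A for the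
local ring of R' at p' and S_A, N_A for the base changes: there is an étale S_A-algebra C such that
every prime of S over p is the contraction of a prime of C over the maximal ideal of A, and C ⊗ N_A
is a free A-module. -/
theorem result {R S : Type u} [CommRing R] [CommRing S] [Algebra R S] [Algebra.FiniteType R S]
    (N : Type u) [AddCommGroup N] [Module S N] [Module R N] [IsScalarTower R S N] [Module.Finite S N]
    (p : Ideal R) [p.IsPrime] (hflat : ∀ (q : Ideal S) [q.IsPrime], q.LiesOver p → FlatCA.FlatAt R q N) :
    ∃ (R' : Type u) (_ : CommRing R') (_ : Algebra R R') (p' : Ideal R') (_ : p'.IsPrime), FlatCA.IsEtaleNhd R R' p p' ∧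
      ∀ (SA NA : Type u) [CommRing SA] [Algebra R SA] [Algebra S SA] [Algebra (Localization.AtPrime p') SA]
        [IsScalarTower R S SA] [IsScalarTower R (Localization.AtPrime p') SA]
        [Algebra.IsPushout R S (Localization.AtPrime p') SA]
        [AddCommGroup NA] [Module SA NA] [Module S NA] [IsScalarTower S SA NA]
        (f : N →ₗ[S] NA), IsBaseChange SA f →
        ∃ (C : Type u) (_ : CommRing C) (_ : Algebra SA C) (_ : Algebra (Localization.AtPrime p') C)
          (_ : IsScalarTower (Localization.AtPrime p') SA C) (_ : Algebra S C) (_ : IsScalarTower S SA C),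
          Algebra.Etale SA C ∧
          (∀ (q : Ideal S) [q.IsPrime], q.LiesOver p → ∃ x' : Ideal C, x'.IsPrime ∧ x'.comap (algebraMap S C) = q ∧
            x'.LiesOver (maximalIdeal (Localization.AtPrime p'))) ∧
          Module.Free (Localization.AtPrime p') (RestrictScalars (Localization.AtPrime p') C (C ⊗[SA] NA)) := by
  classical
  let T := {q : PrimeSpectrum S // q.asIdeal.LiesOver p}
  have hloc := fun t : T => haveI := t.2; Groth.L20.RG.exists_free_local_ft N p t.1.asIdeal (hflat t.1.asIdeal t.2)
  choose R₁ S₁ cR cS aR aS aRS aRS' tR tS pR hpR fu hn het hfu _hq hU H using hloc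
  obtain ⟨R', _, _, p', _, hR', k, j, hj, hcov⟩ := Groth.L20.RG.exists_fibre_refinement (R := R) (S := S) p T
    (fun t => t.1) (fun q hq => ⟨⟨q, hq⟩, rfl⟩) R₁ S₁ pR fu hn hfu hU
  choose aj tj htr hu using hj
  refine ⟨R', inferInstance, inferInstance, p', inferInstance, hR', ?_⟩
  intro SA NA _ _ _ _ _ _ _ _ _ _ _ fA hfA
  let A := Localization.AtPrime p'
  have hm := Groth.L20.RG.TrivRes.trans hR'.2 (Groth.L20.RG.trivRes_atPrime p')
  haveI := hm.liesOver
  have hch := fun i => by
    letI := aj i
    haveI := tj i
    haveI := (hn (j i)).1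
    haveI := het (j i)
    haveI : IsScalarTower (R₁ (j i)) R' (Localization.AtPrime p') := inferInstance
    haveI : IsScalarTower R (R₁ (j i)) (Localization.AtPrime p') := IsScalarTower.of_algebraMap_smul fun r x => by
      rw [← algebraMap_smul R' (algebraMap R (R₁ (j i)) r) x, ← IsScalarTower.algebraMap_apply, algebraMap_smul]
    exact Groth.L20.RG.exists_chart_local (R := R) (S := S) (R' := R₁ (j i)) (S' := S₁ (j i))
      (A := Localization.AtPrime p') (SA := SA) p (pR (j i)) (IsLocalRing.maximalIdeal (Localization.AtPrime p')) hm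
      (Groth.L20.RG.TrivRes.trans (htr i) (Groth.L20.RG.trivRes_atPrime p'))
  choose C cC aSAC aAC aS'C aR'C aSC tASA tRA tRS tSS tSSA hpush hCet hx hQ using hch
  have hH : ∀ i, Module.Free (Localization.AtPrime p') (TensorProduct SA (C i) NA) := fun i => by
    letI := aj i
    obtain ⟨g, hg⟩ := Groth.L20.RG.exists_isBaseChange_comp (C := C i) fA hfA
    haveI : IsScalarTower (R₁ (j i)) R' (Localization.AtPrime p') := inferInstance
    haveI := hpush i
    refine H (j i) (Localization.AtPrime p') (Groth.L20.RG.TrivRes.trans (htr i) (Groth.L20.RG.trivRes_atPrime p')) ?_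
      (C i) (TensorProduct SA (C i) NA) g hg
    rw [IsScalarTower.algebraMap_apply (R₁ (j i)) R' (Localization.AtPrime p')]
    exact (hu i).map _
  letI : Algebra S (∀ i, C i) := Pi.algebra _ _
  haveI : IsScalarTower S SA (∀ i, C i) := IsScalarTower.of_algebraMap_eq fun s => funext fun i =>
    IsScalarTower.algebraMap_apply S SA (C i) s
  haveI : IsScalarTower (Localization.AtPrime p') SA (∀ i, C i) := IsScalarTower.of_algebraMap_eq fun s => funext fun i =>
    IsScalarTower.algebraMap_apply (Localization.AtPrime p') SA (C i) s
  haveI := hCet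
  refine ⟨∀ i, C i, inferInstance, inferInstance, inferInstance, inferInstance, inferInstance, inferInstance,
    inferInstance,  ?_, Groth.L20.RG.free_restrictScalars (Groth.L20.RG.free_pi C hH)⟩
  intro q _ hqp
  obtain ⟨i, Qs, hQsp, hQsc, hQsR⟩ := hcov ⟨q, inferInstance⟩ hqp
  obtain ⟨x, _, hxm, hxc, -⟩ := hx i Qs hQsp hQsR
  refine ⟨x.comap (Pi.evalRingHom C i), inferInstance, ?_, ⟨?_⟩⟩
  · show (x.comap (Pi.evalRingHom C i)).comap (algebraMap S (∀ i, C i)) = q
    rw [Ideal.comap_comap, show (Pi.evalRingHom C i).comp (algebraMap S (∀ i, C i)) = algebraMap S (C i) from rfl,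
      IsScalarTower.algebraMap_eq S (S₁ (j i)) (C i), ← Ideal.comap_comap, hxc]
    exact hQsc
  · refine hxm.over.trans ?_
    rw [Ideal.under_def, Ideal.under_def, Ideal.comap_comap]
    rfl

end Groth.Agent.S1259
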