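import Groth.Statements.S12591
import Groth.Agent.L26.FF.ConstBase
import Groth.Agent.L26.FF.Closed

set_option autoImplicit false
universe u v
open FunFld

namespace Groth.Agent.S12591

open Groth.Agent.FF
open scoped TensorProduct

/-- Every place `P` of a geometric function field of one variable `K/k` has a splitting field of finite
degree over `k`: a finite extension `k'` such that every place of `k' ⊗_k K` above `P` has degree
one over `k'`. (The finiteness of the set of singular places and the existence of a purely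
inseparable `k'` making `k' ⊗_k K` nonsingular are not stated here.) -/
theorem result (k : Type u) (K : Type v) [Field k] [Field K] [Algebra k K]
    (hK : FunFld.IsFunctionField k K) (hg : FunFld.IsGeometric k K) (P : FunFld.Place k K) :
    ∃ (k' : Type u) (_ : Field k') (_ : Algebra k k'), FiniteDimensional k k' ∧
      ∀ (K' : Type v) [Field K'] [Algebra K K'] [Algebra k' K'] [Algebra k K']
        [IsScalarTower k k' K'] [IsScalarTower k K K'],
        Function.Bijective (Algebra.TensorProduct.productMap
          (IsScalarTower.toAlgHom k k' K') (IsScalarTower.toAlgHom k K K')) →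
        ∀ Q : FunFld.Place k' K', P.1.HasExtension Q.1 → Q.deg = 1 := by
  classical
  let kb := AlgebraicClosure k
  have hfld := isField_tensor_of_isAlgebraic hg kb
  let : Field (kb ⊗[k] K) := hfld.toField
  let : Algebra K (kb ⊗[k] K) := Algebra.TensorProduct.rightAlgebra
  have : IsScalarTower k K (kb ⊗[k] K) := IsScalarTower.of_algebraMap_eq fun c =>
    ((Algebra.TensorProduct.includeRight (R := k) (A := kb) (B := K)).commutes c).symm
  let L := kb ⊗[k] K
  have hid : ∀ z : kb ⊗[k] K, Algebra.TensorProduct.productMap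
      (IsScalarTower.toAlgHom k kb L) (IsScalarTower.toAlgHom k K L) z = z := fun z => by
    induction z using TensorProduct.induction_on with
    | zero => exact map_zero _
    | tmul a b =>
      rw [Algebra.TensorProduct.productMap_apply_tmul]
      show (a ⊗ₜ[k] (1 : K)) * ((1 : kb) ⊗ₜ[k] b) = a ⊗ₜ b
      rw [Algebra.TensorProduct.tmul_mul_tmul, mul_one, one_mul]
    | add a b ha hb => rw [map_add, ha, hb]
  have hinj : Function.Injective (Algebra.TensorProduct.productMap
      (IsScalarTower.toAlgHom k kb L) (IsScalarTower.toAlgHom k K L)) := fun a b hab => by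
    rw [← hid a, ← hid b]; exact hab
  have hsurj : Function.Surjective (Algebra.TensorProduct.productMap
      (IsScalarTower.toAlgHom k kb L) (IsScalarTower.toAlgHom k K L)) := fun a => ⟨a, hid a⟩
  have hFF : IsFF kb L := isFF_const hsurj hK.1
  have hKb : FunFld.IsFunctionField kb L := ⟨hFF, fun z hz => by
    have hd := IsAlgClosed.degree_eq_one_of_irreducible _ (minpoly.irreducible hz.isIntegral)
    have hd1 := Polynomial.natDegree_eq_of_degree_eq_some (n := 1) (by rw [hd]; rfl)
    rw [minpoly.natDegree_eq_one_iff] at hd1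
    exact hd1⟩
  -- a function with a pole at `P`
  obtain ⟨y, hy0, hy⟩ := exists_val_eq P 1
  have hytr : Transcendental k y := by
    intro halg
    have := ord_algebraic halg P
    rw [ord_eq_of_val P hy] at this
    omega
  have := finite_over_adjoin hK.1 hytr
  have hyb : Transcendental kb (algebraMap K L y) := transcendental_const hytr
  have := (finite_adjoin_const hsurj y).1
  have hge := finrank_adjoin_const_ge hinj hytr hyb
  let D := poles kb (algebraMap K L y)
  choose u m hu₁ hm hu using fun R : FunFld.Place kb L => exists_only_pole hKb R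
  choose t ht0 ht using fun R : FunFld.Place kb L => exists_val_eq R (-1)
  choose s₁ h₁ using fun R => tensor_mem_adjoin hsurj (t R)
  choose s₂ h₂ using fun R => tensor_mem_adjoin hsurj (u R)
  let k' := IntermediateField.adjoin k (↑(D.support.biUnion fun R => s₁ R ∪ s₂ R) : Set kb)
  have hk'fin : FiniteDimensional k k' :=
    IntermediateField.finiteDimensional_adjoin fun z _ => (Algebra.IsAlgebraic.isAlgebraic z).isIntegral
  refine ⟨k', inferInstance, inferInstance, hk'fin, ?_⟩
  intro K' _ _ _ _ _ _ hbij Q hQ
  have : Algebra.IsAlgebraic k k' := Algebra.IsAlgebraic.of_finite k k'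
  let e := AlgEquiv.ofBijective (Algebra.TensorProduct.productMap
    (IsScalarTower.toAlgHom k k' K') (IsScalarTower.toAlgHom k K K')) hbij
  let ι : K' →+* L := ((Algebra.TensorProduct.map k'.val (AlgHom.id k K)).comp e.symm.toAlgHom).toRingHom
  have hιK : ∀ x : K, ι (algebraMap K K' x) = algebraMap K L x := fun x => by
    have : e.symm (algebraMap K K' x) = (1 : k') ⊗ₜ x := by
      rw [AlgEquiv.symm_apply_eq]; simp [e]
    show Algebra.TensorProduct.map k'.val (AlgHom.id k K) (e.symm (algebraMap K K' x)) = _
    rw [this]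
    rfl
  have hιk : ∀ c : k', ι (algebraMap k' K' c) = algebraMap kb L c := fun c => by
    have : e.symm (algebraMap k' K' c) = c ⊗ₜ (1 : K) := by
      rw [AlgEquiv.symm_apply_eq]; simp [e]
    show Algebra.TensorProduct.map k'.val (AlgHom.id k K) (e.symm (algebraMap k' K' c)) = _
    rw [this]
    rfl
  have hrange : ∀ z ∈ Algebra.adjoin K (algebraMap kb L '' (k' : Set kb)), z ∈ ι.range := fun z hz => by
    induction hz using Algebra.adjoin_induction with
    | mem v hv =>
      obtain ⟨c, hc, rfl⟩ := hv
      exact ⟨algebraMap k' K' ⟨c, hc⟩, hιk _⟩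
    | algebraMap x => exact ⟨algebraMap K K' x, hιK x⟩
    | add a b _ _ ha hb => exact add_mem ha hb
    | mul a b _ _ ha hb => exact mul_mem ha hb
  have htu : ∀ R ∈ D.support, t R ∈ ι.range ∧ u R ∈ ι.range := fun R hR =>
    ⟨hrange _ (h₁ R _ fun c hc => IntermediateField.subset_adjoin k _ (by
        simp only [Finset.coe_biUnion, Set.mem_iUnion, Finset.coe_union, Set.mem_union]
        exact ⟨R, hR, Or.inl hc⟩)),
      hrange _ (h₂ R _ fun c hc => IntermediateField.subset_adjoin k _ (by
        simp only [Finset.coe_biUnion, Set.mem_iUnion, Finset.coe_union, Set.mem_union]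
        exact ⟨R, hR, Or.inr hc⟩))⟩
  -- the restrictions of the poles
  have hρ : ∀ R ∈ D.support, ∃ S : FunFld.Place k' K', ∀ z : K', S.1 z = R.1 (ι z) := fun R hR => by
    obtain ⟨t', ht'⟩ := (htu R hR).1
    refine ⟨⟨R.1.comap ι, fun c => ?_, fun g => ?_⟩, fun z => rfl⟩
    · show R.1 (ι _) ≤ 1
      rw [hιk]
      exact R.2.1 _
    · rcases eq_or_ne g 0 with rfl | hg
      · exact ⟨0, map_zero _⟩
      · refine ⟨t' ^ (-WithZero.log g), ?_⟩
        show R.1 (ι _) = g
        rw [map_zpow₀, ht', map_zpow₀, ht R, ← WithZero.exp_zsmul, smul_eq_mul, neg_mul_neg, mul_one,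
          WithZero.exp_log hg]
  have : Nonempty (FunFld.Place k' K') := ⟨Q⟩
  choose! ρ hρ using hρ
  have hy' : Transcendental k' (algebraMap K K' y) := transcendental_const hytr
  have hFF' : IsFF k' K' := isFF_const hbij.2 hK.1
  obtain ⟨hfin', hle⟩ := finite_adjoin_const hbij.2 y
  let D' := poles k' (algebraMap K K' y)
  have hDρ : ∀ R ∈ D.support, D' (ρ R) = D R := fun R hR => by
    simp only [D, D', poles_apply hFF', poles_apply hFF]
    show max (- -WithZero.log ((ρ R).1 _)) 0 = max (- -WithZero.log (R.1 _)) 0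
    rw [hρ R hR, hιK]
  have hinjρ : Set.InjOn ρ ↑D.support := fun R hR R' hR' hRR => by
    obtain ⟨u', hu'⟩ := (htu R hR).2
    by_contra hne
    have h3 := DFunLike.congr_fun (hu R) R'
    rw [poles_apply hFF, Finsupp.single_eq_of_ne (Ne.symm hne)] at h3
    have h4 := DFunLike.congr_fun (hu R) R
    rw [poles_apply hFF, Finsupp.single_eq_same] at h4
    have h5 : R.1 (u R) = R'.1 (u R) := by
      rw [← hu', ← hρ R hR u', hRR, hρ R' hR' u']
    have h6 : R.ord (u R) = R'.ord (u R) := by
      simp only [FunFld.Place.ord, h5]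
    have := hm R
    omega
  have hsub : D.support.image ρ ⊆ D'.support := Finset.image_subset_iff.2 fun R hR => by
    rw [Finsupp.mem_support_iff, hDρ R hR]
    exact Finsupp.mem_support_iff.1 hR
  have hnn : ∀ S, 0 ≤ D' S := fun S => poles_nonneg _ S
  have htotal : D'.deg ≤ ∑ R ∈ D.support, D R := by
    have h1 : D'.deg = (Module.finrank (IntermediateField.adjoin k' ({algebraMap K K' y} : Set K')) K' : ℤ) :=
      deg_poles hFF' hy'
    have h2 : D.deg = (Module.finrank (IntermediateField.adjoin kb ({algebraMap K L y} : Set L)) L : ℤ) :=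
      deg_poles hFF hyb
    have h3 : D.deg = ∑ R ∈ D.support, D R := by
      rw [deg_eq_sum (Finset.Subset.refl _)]
      exact Finset.sum_congr rfl fun R _ => by rw [deg_eq_one hKb R, Nat.cast_one, mul_one]
    rw [h1, ← h3, h2]
    exact_mod_cast hle.trans hge
  have hsum : D'.deg = ∑ S ∈ D'.support \ D.support.image ρ, D' S * (S.deg : ℤ) +
      ∑ R ∈ D.support, D R * ((ρ R).deg : ℤ) := by
    rw [deg_eq_sum (Finset.Subset.refl _), ← Finset.sum_sdiff hsub, Finset.sum_image hinjρ]
    congr 1
    exact Finset.sum_congr rfl fun R hR => by rw [hDρ R hR]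
  have hQpole : Q ∈ D'.support := by
    rw [Finsupp.mem_support_iff, poles_apply hFF']
    have h1 : 1 < Q.1 (algebraMap K K' y) := by
      refine not_le.1 fun h1 => ?_
      have := (Valuation.HasExtension.val_map_le_one_iff P.1 Q.1 y).1 h1
      rw [hy, exp_le_one'] at this
      omega
    rw [val_eq_exp Q ((map_ne_zero _).2 hy0), one_lt_exp'] at h1
    omega
  have hDpos : ∀ R ∈ D.support, 1 ≤ D R := fun R hR => by
    have := poles_nonneg (k := kb) (algebraMap K L y) R
    have := Finsupp.mem_support_iff.1 hR
    simp only [Finsupp.zero_apply, D] at *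
    omega
  have hge1 : ∀ R ∈ D.support, D R ≤ D R * ((ρ R).deg : ℤ) := fun R hR =>
    le_mul_of_one_le_right (le_trans zero_le_one (hDpos R hR)) (by exact_mod_cast one_le_deg hFF' _)
  by_cases hQi : Q ∈ D.support.image ρ
  · obtain ⟨R, hR, rfl⟩ := Finset.mem_image.1 hQi
    have h1 : 0 ≤ ∑ S ∈ D'.support \ D.support.image ρ, D' S * (S.deg : ℤ) :=
      Finset.sum_nonneg fun S _ => mul_nonneg (hnn S) (by positivity)
    have h2 := (Finset.sum_eq_sum_iff_of_le hge1).1 (le_antisymm (Finset.sum_le_sum hge1) (by omega)) R hR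
    have h3 : ((ρ R).deg : ℤ) = 1 := by
      refine mul_left_cancel₀ (by have := hDpos R hR; omega : D R ≠ 0) ?_
      rw [mul_one]
      exact h2.symm
    exact_mod_cast h3
  · exfalso
    have h1 : D' Q * (Q.deg : ℤ) ≤ ∑ S ∈ D'.support \ D.support.image ρ, D' S * (S.deg : ℤ) :=
      Finset.single_le_sum (f := fun S => D' S * (S.deg : ℤ)) (fun S _ => mul_nonneg (hnn S) (by positivity))
        (Finset.mem_sdiff.2 ⟨hQpole, hQi⟩)
    have h2 : 1 ≤ D' Q * (Q.deg : ℤ) := by
      have h3 : 0 < D' Q := lt_of_le_of_ne (hnn Q) (Ne.symm (Finsupp.mem_support_iff.1 hQpole))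
      have h4 : (1 : ℤ) ≤ (Q.deg : ℤ) := by exact_mod_cast one_le_deg hFF' Q
      nlinarith
    have h5 := Finset.sum_le_sum hge1
    omega

end Groth.Agent.S12591
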