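import Groth.Statements.S12592
import Groth.Agent.L26.FF.SplittingPlaces
import Groth.Agent.L26.Zeta.ConstExt

set_option autoImplicit false
universe u v
open FunFld

namespace Groth.Agent.S12592

open Groth.Agent.FF
attribute [local instance 2000] Algebra.toModule

/-- For a nonsingular place `P` of a geometric function field of one variable `K/k` and a finite
extension `k'/k` that is a splitting field for `P`, the scalar extension `k' ⊗_k K` has exactly
`[F_P^{sep} : k]` places above `P`, each with ramification index `[F_P : F_P^{sep}]`. (Part (2), on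
the scalar extension to an algebraic closure, is not stated.) -/
theorem result (k k' : Type u) (K K' : Type v) [Field k] [Field k'] [Field K] [Field K']
    [Algebra k k'] [FiniteDimensional k k'] [Algebra k K] [Algebra K K'] [Algebra k' K'] [Algebra k K']
    [IsScalarTower k k' K'] [IsScalarTower k K K']
    (h : Function.Bijective (Algebra.TensorProduct.productMap
      (IsScalarTower.toAlgHom k k' K') (IsScalarTower.toAlgHom k K K')))
    (hK : FunFld.IsFunctionField k K) (hg : FunFld.IsGeometric k K) (P : FunFld.Place k K)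
    (hns : ∀ (k'' : Type u) [Field k''] [Algebra k k''] [FiniteDimensional k k'']
      (K'' : Type v) [Field K''] [Algebra K K''] [Algebra k'' K''] [Algebra k K'']
      [IsScalarTower k k'' K''] [IsScalarTower k K K''],
      Function.Bijective (Algebra.TensorProduct.productMap
        (IsScalarTower.toAlgHom k k'' K'') (IsScalarTower.toAlgHom k K K'')) →
      integralClosure (P.O.toSubring.map (algebraMap K K'')) K'' =
        Algebra.adjoin (P.O.toSubring.map (algebraMap K K'')) (Set.range (algebraMap k'' K'')))
    (hsplit : ∀ Q : FunFld.Place k' K', (∃ e : ℕ, ∀ z : K, Q.1 (algebraMap K K' z) = P.1 z ^ e) → Q.deg = 1) :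
    {Q : FunFld.Place k' K' | ∃ e : ℕ, ∀ z : K, Q.1 (algebraMap K K' z) = P.1 z ^ e}.Finite ∧
    {Q : FunFld.Place k' K' | ∃ e : ℕ, ∀ z : K, Q.1 (algebraMap K K' z) = P.1 z ^ e}.ncard =
      Field.finSepDegree k (IsLocalRing.ResidueField P.O) ∧
    ∀ Q : FunFld.Place k' K', (∃ e : ℕ, ∀ z : K, Q.1 (algebraMap K K' z) = P.1 z ^ e) →
      ∀ z : K, Q.1 (algebraMap K K' z) = P.1 z ^ Module.finrank (separableClosure k (IsLocalRing.ResidueField P.O)) (IsLocalRing.ResidueField P.O) := by
  classical
  let toK : FunFld.Place k' K' → FunFld.Place k K' := fun Q => ⟨Q.1, fun c => by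
    rw [IsScalarTower.algebraMap_apply k k' K']; exact Q.2.1 _, Q.2.2⟩
  let ofK : FunFld.Place k K' → FunFld.Place k' K' := fun Q => ⟨Q.1, val_const_le Q, Q.2.2⟩
  have hFfin : FiniteDimensional k (IsLocalRing.ResidueField P.O) := finite_residueField hK.1 P
  have hdegP : P.deg = Module.finrank k (IsLocalRing.ResidueField P.O) := rfl
  have hval : ∀ Q : FunFld.Place k K', FunFld.IsOver Q P → ∀ z : K', Q.1 z ≤ 1 →
      ∃ c : k', Q.1 (z - algebraMap k' K' c) < 1 := fun Q hQ z hz =>
    exists_value (ofK Q) (hsplit (ofK Q) hQ) hz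
  have hdegQ : ∀ Q : FunFld.Place k K', FunFld.IsOver Q P → Q.deg = Module.finrank k k' := fun Q hQ => by
    have h1 : (ofK Q).deg = 1 := hsplit (ofK Q) hQ
    letI : Algebra k (IsLocalRing.ResidueField (ofK Q).O) := FunFld.Place.algRes Q
    have h2 : Q.deg = Module.finrank k k' * (ofK Q).deg := by
      refine Groth.Agent.Zeta.finrank_tower (A := IsLocalRing.ResidueField (ofK Q).O) fun c => ?_
      show IsLocalRing.residue (ofK Q).O _ = IsLocalRing.residue (ofK Q).O _
      congr 1
      apply Subtype.ext
      exact IsScalarTower.algebraMap_apply k k' K' c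
    rw [h2, h1, mul_one]
  obtain ⟨hfin, hcard, hram⟩ := places_over_of_split h hK P (IsLocalRing.ResidueField P.O)
    { IsLocalRing.residue P.O with commutes' := fun c => rfl } IsLocalRing.residue_surjective
    (fun a => (IsLocalRing.residue_eq_zero_iff a).trans Valuation.Integer.not_isUnit_iff_valuation_lt_one)
    hdegP (hns k' K' h) hval hdegQ
  have hset : {Q : FunFld.Place k' K' | ∃ e : ℕ, ∀ z : K, Q.1 (algebraMap K K' z) = P.1 z ^ e} =
      toK ⁻¹' {Q | FunFld.IsOver Q P} := rfl
  have hinj : Function.Injective toK := fun A B e => Subtype.ext (Subtype.ext_iff.1 e :)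
  refine ⟨hset ▸ hfin.preimage hinj.injOn, ?_, ?_⟩
  · rw [hset, Set.ncard_preimage_of_injective_subset_range hinj
      (fun Q _ => ⟨ofK Q, rfl⟩), Set.ncard_eq_toFinset_card _ hfin, hcard, Field.finSepDegree_eq]
    rfl
  · intro Q hQ
    exact hram (toK Q) hQ

end Groth.Agent.S12592
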