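import Groth.Statements.S12593
import Groth.Agent.L26.FF.ConstBase

set_option autoImplicit false
universe u v
open FunFld

namespace Groth.Agent.S12593

open Groth.Agent.FF

/-- Every divisor of `K̄ = k̄ ⊗_k K`, for a geometric function field of one variable `K/k`, is defined
over a finite extension `k'` of `k`; stated for a single place `Q` of `K̄/k̄`: for some finite `k' ⊆
k̄`, the field `K' = k'K ⊆ K̄` contains a local parameter at `Q` and `Q` is the only place of `K̄`
above its restriction to `K'` (so `Q` is the conorm of the point `Q ∩ K'`). -/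
theorem result (k kbar : Type u) (K Kbar : Type v) [Field k] [Field kbar] [Field K] [Field Kbar]
    [Algebra k kbar] [IsAlgClosure k kbar] [Algebra k K] [Algebra K Kbar] [Algebra kbar Kbar] [Algebra k Kbar]
    [IsScalarTower k kbar Kbar] [IsScalarTower k K Kbar]
    (h : Function.Bijective (Algebra.TensorProduct.productMap
      (IsScalarTower.toAlgHom k kbar Kbar) (IsScalarTower.toAlgHom k K Kbar)))
    (hK : FunFld.IsFunctionField k K) (hg : FunFld.IsGeometric k K) (Q : FunFld.Place kbar Kbar) :
    ∃ k' : IntermediateField k kbar, FiniteDimensional k k' ∧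
      (∃ z ∈ Algebra.adjoin K (Set.range fun c : k' => algebraMap kbar Kbar c), Q.1 z = WithZero.exp (-1)) ∧
      ∀ Q' : FunFld.Place kbar Kbar,
        (∃ e : ℕ, ∀ z ∈ Algebra.adjoin K (Set.range fun c : k' => algebraMap kbar Kbar c), Q'.1 z = Q.1 z ^ e) → Q' = Q := by
  classical
  have := IsAlgClosure.isAlgClosed k (K := kbar)
  have : Algebra.IsAlgebraic k kbar := IsAlgClosure.isAlgebraic
  have hFF : IsFF kbar Kbar := isFF_const h.2 hK.1
  have hKb : FunFld.IsFunctionField kbar Kbar := ⟨hFF, fun z hz => by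
    have hd := IsAlgClosed.degree_eq_one_of_irreducible _ (minpoly.irreducible hz.isIntegral)
    have hd1 := Polynomial.natDegree_eq_of_degree_eq_some (n := 1) (by rw [hd]; rfl)
    rw [minpoly.natDegree_eq_one_iff] at hd1
    exact hd1⟩
  obtain ⟨u, m, -, hm, hu⟩ := exists_only_pole hKb Q
  obtain ⟨t, ht0, ht⟩ := exists_val_eq Q (-1)
  obtain ⟨s₁, h₁⟩ := tensor_mem_adjoin h.2 t
  obtain ⟨s₂, h₂⟩ := tensor_mem_adjoin h.2 u
  let k' := IntermediateField.adjoin k (↑(s₁ ∪ s₂) : Set kbar)
  have himg : (Set.range fun c : k' => algebraMap kbar Kbar c) = algebraMap kbar Kbar '' (k' : Set kbar) := by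
    ext z; simp
  refine ⟨k', IntermediateField.finiteDimensional_adjoin fun z _ => (Algebra.IsAlgebraic.isAlgebraic z).isIntegral,
    ⟨t, ?_, ht⟩, fun Q' hQ' => ?_⟩
  · rw [himg]
    exact h₁ _ fun c hc => IntermediateField.subset_adjoin k _ (by simp [Finset.mem_coe.1 hc])
  · obtain ⟨e, he⟩ := hQ'
    rw [himg] at he
    have humem : u ∈ Algebra.adjoin K (algebraMap kbar Kbar '' (k' : Set kbar)) :=
      h₂ _ fun c hc => IntermediateField.subset_adjoin k _ (by simp [Finset.mem_coe.1 hc])
    have he0 : e ≠ 0 := fun h0 => by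
      have := he 0 (zero_mem _)
      rw [h0, pow_zero, map_zero] at this
      exact zero_ne_one this
    have hQu : 1 < Q.1 u := by
      have h3 := DFunLike.congr_fun hu Q
      rw [poles_apply hFF, Finsupp.single_eq_same] at h3
      have hu0 : u ≠ 0 := fun h0 => by rw [h0, ord_zero] at h3; omega
      rw [val_eq_exp Q hu0, one_lt_exp']
      omega
    have hQ'u : 1 < Q'.1 u := by rw [he u humem]; exact one_lt_pow₀ hQu he0
    by_contra hne
    have h3 := DFunLike.congr_fun hu Q'
    rw [poles_apply hFF, Finsupp.single_eq_of_ne hne] at h3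
    have hu0 : u ≠ 0 := fun h0 => by rw [h0, map_zero] at hQ'u; exact not_lt_zero hQ'u
    rw [val_eq_exp Q' hu0, one_lt_exp'] at hQ'u
    omega

end Groth.Agent.S12593
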