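import Groth.Statements.S12595
import Groth.Agent.L26.FF.Wronski

set_option autoImplicit false
open FunFld

namespace Groth.Agent.S12595

open Groth.Agent.FF

/-- Over an algebraically closed constant field, let `φ` be a birational projective map of the function
field `K` (the ratios `φ i / φ 0` generate `K`), `τ` a `k`-endomorphism of `K` and `H` a total Hasse
derivative. Then the first `τ`-order of `φ` is positive — the column `φ` of `0`-th Hasse derivatives
lies in the `K`-span of the leading column `τ(φ)` — exactly when `τ` is the identity. -/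
theorem result
    (k K : Type*) [Field k] [IsAlgClosed k] [Field K] [Algebra k K]
    (hK : FunFld.IsFunctionField k K) {n : ℕ} (φ : Fin (n + 1) → K) (h0 : φ 0 ≠ 0)
    (hbir : IntermediateField.adjoin k (Set.range fun i => φ i / φ 0) = ⊤)
    (τ : K →ₐ[k] K) (s : K) (H : K →ₐ[k] PowerSeries K) (hH : LocRes.IsHasseFamily s H) :
    ¬ FunFld.IsJump K (FunFld.hcol τ H φ) 1 ↔ τ = AlgHom.id k K := by
  rw [isJump_iff, not_not]
  have hspan : colSpan (FunFld.hcol τ H φ) 1 = Submodule.span K {FunFld.hcol τ H φ 0} := by
    rw [colSpan_succ, colSpan_zero, bot_sup_eq]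
  rw [hspan]
  constructor
  · intro h
    obtain ⟨a, ha⟩ := Submodule.mem_span_singleton.1 h
    have hi : ∀ i, a * τ (φ i) = φ i := fun i => (congrFun ha i).trans (hasseD_zero hH (φ i))
    have hfix : ∀ i, τ (φ i / φ 0) = φ i / φ 0 := fun i => by
      have hτ0 : τ (φ 0) ≠ 0 := (map_ne_zero_iff τ τ.toRingHom.injective).2 h0
      have ha0 : a ≠ 0 := fun h0' => h0 (by rw [← hi 0, h0', zero_mul])
      rw [map_div₀]
      conv_rhs => rw [← hi i, ← hi 0, mul_div_mul_left _ _ ha0]
    have hext : ∀ z ∈ IntermediateField.adjoin k (Set.range fun i => φ i / φ 0), τ z = z := by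
      intro z hz
      induction hz using IntermediateField.adjoin_induction with
      | mem z hz => obtain ⟨i, rfl⟩ := hz; exact hfix i
      | algebraMap c => exact τ.commutes c
      | add a b _ _ ha hb => rw [map_add, ha, hb]
      | inv a _ ha => rw [map_inv₀, ha]
      | mul a b _ _ ha hb => rw [map_mul, ha, hb]
    exact AlgHom.ext fun z => hext z (by rw [hbir]; trivial)
  · rintro rfl
    rw [Submodule.mem_span_singleton]
    exact ⟨1, funext fun i => by
      show (1 : K) * φ i = LocRes.hasseD H 0 (φ i)
      rw [one_mul, hasseD_zero hH]⟩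

end Groth.Agent.S12595
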