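import Groth.Statements.S12596
import Groth.Agent.L26.FF.Wronski

set_option autoImplicit false
open FunFld

namespace Groth.Agent.S12596

open Groth.Agent.FF

/-- Over an algebraically closed constant field, replacing a projective map `φ` by `Aφ` for an
invertible matrix `A` over `k` does not change the `τ`-order sequence, and multiplies every
generalized Wronskian determinant `det [τ(φ) | D^(I₁) φ | ⋯ | D^(Iₙ) φ]` (Hasse derivatives taken
with `H`) by `det A`. -/
theorem result
    (k K : Type*) [Field k] [IsAlgClosed k] [Field K] [Algebra k K]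
    (hK : FunFld.IsFunctionField k K) {n : ℕ} (φ : Fin (n + 1) → K) (hφ : LinearIndependent k φ)
    (τ : K →ₐ[k] K) (s : K) (H : K →ₐ[k] PowerSeries K) (hH : LocRes.IsHasseFamily s H)
    (A : Matrix (Fin (n + 1)) (Fin (n + 1)) k) (hA : A.det ≠ 0)
    (φ' : Fin (n + 1) → K) (hφ' : ∀ i, φ' i = ∑ j, A i j • φ j) :
    (∀ J : Fin n → ℕ, FunFld.IsOrders K (FunFld.hcol τ H φ') J ↔ FunFld.IsOrders K (FunFld.hcol τ H φ) J) ∧
    ∀ I : Fin n → ℕ, (FunFld.wrMat τ H φ' I).det = algebraMap k K A.det * (FunFld.wrMat τ H φ I).det := by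
  let A' : Matrix (Fin (n + 1)) (Fin (n + 1)) K := A.map (algebraMap k K)
  have hdet : A'.det = algebraMap k K A.det := (RingHom.map_det (algebraMap k K) A).symm
  have hlin : ∀ (f : K →ₗ[k] K) i, f (φ' i) = A'.mulVec (fun l => f (φ l)) i := fun f i => by
    rw [hφ' i, map_sum]
    exact Finset.sum_congr rfl fun l _ => (map_smul f (A i l) (φ l)).trans (Algebra.smul_def _ _)
  have hc : ∀ j, FunFld.hcol τ H φ' j = A'.mulVec (FunFld.hcol τ H φ j) := by
    intro j
    funext i
    rcases j with _ | j
    · exact hlin τ.toLinearMap i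
    · exact hlin (((PowerSeries.coeff (R := K) j).restrictScalars k).comp H.toLinearMap) i
  have hinj : Function.Injective A'.mulVecLin := Matrix.mulVec_injective_iff_isUnit.2
    ((Matrix.isUnit_iff_isUnit_det A').2 (isUnit_iff_ne_zero.2 (by
      rw [hdet]; exact (map_ne_zero _).2 hA)))
  refine ⟨fun J => ?_, fun I => ?_⟩
  · have hj : ∀ j, FunFld.IsJump K (FunFld.hcol τ H φ') j ↔ FunFld.IsJump K (FunFld.hcol τ H φ) j := by
      intro j
      have e : colSpan (FunFld.hcol τ H φ') j = (colSpan (FunFld.hcol τ H φ) j).map A'.mulVecLin := by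
        rw [colSpan, colSpan, Submodule.map_span, ← Set.image_comp]
        congr 1
        exact Set.image_congr fun l _ => hc l
      rw [isJump_iff, isJump_iff, e, hc]
      exact not_congr (hinj.mem_set_image (s := (colSpan (FunFld.hcol τ H φ) j : Set _)))
    simp only [FunFld.IsOrders, hj]
  · rw [wrMat_eq, wrMat_eq, ← hdet, ← Matrix.det_mul]
    congr 1
    refine Matrix.ext fun i l => ?_
    show FunFld.hcol τ H φ' (colIdx I l) i = _
    rw [hc]
    rfl

end Groth.Agent.S12596
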