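import Groth.Statements.S1260
import Groth.Agent.L20.RG.FibreCover

set_option autoImplicit false
universe u
open FlatMor

set_option backward.isDefEq.respectTransparency.types false
namespace Groth.Agent.S1260

open TensorProduct in
/-- Ring form, X = Spec S and S = Spec R affine: let S be a finitely presented R-algebra, N a finite
S-module and p a prime of R with N_q flat over R for all primes q of S over p. Then there is an
étale R-algebra R' with a prime p' over p having the same residue field such that, writing A for the
local ring of R' at p' and S_A, N_A for the base changes: every prime Q of S_A over the maximal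
ideal of A has a basic open neighbourhood D(g) on which N_A is finitely presented over (S_A)_g and
flat over A. -/
theorem result {R S : Type u} [CommRing R] [CommRing S] [Algebra R S] [Algebra.FinitePresentation R S]
    (N : Type u) [AddCommGroup N] [Module S N] [Module R N] [IsScalarTower R S N] [Module.Finite S N]
    (p : Ideal R) [p.IsPrime] (hflat : ∀ (q : Ideal S) [q.IsPrime], q.LiesOver p → FlatCA.FlatAt R q N) :
    ∃ (R' : Type u) (_ : CommRing R') (_ : Algebra R R') (p' : Ideal R') (_ : p'.IsPrime), FlatCA.IsEtaleNhd R R' p p' ∧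
      ∀ (SA NA : Type u) [CommRing SA] [Algebra R SA] [Algebra S SA] [Algebra (Localization.AtPrime p') SA]
        [IsScalarTower R S SA] [IsScalarTower R (Localization.AtPrime p') SA]
        [Algebra.IsPushout R S (Localization.AtPrime p') SA]
        [AddCommGroup NA] [Module SA NA] [Module S NA] [IsScalarTower S SA NA]
        [Module (Localization.AtPrime p') NA] [IsScalarTower (Localization.AtPrime p') SA NA]
        (f : N →ₗ[S] NA), IsBaseChange SA f →
        ∀ (Q : Ideal SA) [Q.IsPrime], Q.LiesOver (IsLocalRing.maximalIdeal (Localization.AtPrime p')) →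
        ∃ g : SA, g ∉ Q ∧
          Module.FinitePresentation (Localization.Away g) (LocalizedModule (Submonoid.powers g) NA) ∧
          Module.Flat (Localization.AtPrime p') (LocalizedModule (Submonoid.powers g) NA) := by
  classical
  let T := {q : PrimeSpectrum S // q.asIdeal.LiesOver p}
  have hloc := fun t : T => haveI := t.2; Groth.L20.RG.exists_free_local N p t.1.asIdeal (hflat t.1.asIdeal t.2)
  choose R₁ S₁ cR cS aR aS aRS aRS' tR tS pR hpR fu hn het hfu _hq hU H using hloc
  obtain ⟨R', _, _, p', _, hR', k, j, hj, hcov⟩ := Groth.L20.RG.exists_fibre_refinement (R := R) (S := S) p T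
    (fun t => t.1) (fun q hq => ⟨⟨q, hq⟩, rfl⟩) R₁ S₁ pR fu hn hfu hU
  choose aj tj htr hu using hj
  refine ⟨R', inferInstance, inferInstance, p', inferInstance, hR', ?_⟩
  intro SA NA _ _ _ _ _ _ _ _ _ _ _ _ _ fA hfA
  let A := Localization.AtPrime p'
  have hm := Groth.L20.RG.TrivRes.trans hR'.2 (Groth.L20.RG.trivRes_atPrime p')
  haveI := hm.liesOver
  have hch := fun i => by
    letI := aj i
    haveI := tj i
    haveI := (hn (j i)).1
    haveI := het (j i)
    haveI : IsScalarTower (R₁ (j i)) R' (Localization.AtPrime p') := inferInstance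
    haveI : IsScalarTower R (R₁ (j i)) (Localization.AtPrime p') := IsScalarTower.of_algebraMap_smul fun r x => by
      rw [← algebraMap_smul R' (algebraMap R (R₁ (j i)) r) x, ← IsScalarTower.algebraMap_apply, algebraMap_smul]
    exact Groth.L20.RG.exists_chart_local (R := R) (S := S) (R' := R₁ (j i)) (S' := S₁ (j i))
      (A := Localization.AtPrime p') (SA := SA) p (pR (j i)) (IsLocalRing.maximalIdeal (Localization.AtPrime p')) hm
      (Groth.L20.RG.TrivRes.trans (htr i) (Groth.L20.RG.trivRes_atPrime p'))
  choose C cC aSAC aAC aS'C aR'C aSC tASA tRA tRS tSS tSSA hpush hCet hx hQ using hch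
  have hH : ∀ i, Module.FinitePresentation (C i) (TensorProduct SA (C i) NA) ∧ Module.Free (Localization.AtPrime p') (TensorProduct SA (C i) NA) := fun i => by
    letI := aj i
    obtain ⟨g, hg⟩ := Groth.L20.RG.exists_isBaseChange_comp (C := C i) fA hfA
    haveI : IsScalarTower (R₁ (j i)) R' (Localization.AtPrime p') := inferInstance
    haveI := hpush i
    refine H (j i) (Localization.AtPrime p') (Groth.L20.RG.TrivRes.trans (htr i) (Groth.L20.RG.trivRes_atPrime p')) ?_
      (C i) (TensorProduct SA (C i) NA) g hg
    rw [IsScalarTower.algebraMap_apply (R₁ (j i)) R' (Localization.AtPrime p')]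
    exact (hu i).map _
  intro Q _ hQm
  haveI := hQm
  obtain ⟨i, Qs, hQsp, hQsc, hQsR⟩ := hcov (PrimeSpectrum.comap (algebraMap S SA) ⟨Q, inferInstance⟩) ⟨by
    show p = (Q.comap (algebraMap S SA)).comap (algebraMap R S)
    rw [Ideal.comap_comap, ← IsScalarTower.algebraMap_eq, IsScalarTower.algebraMap_eq R (Localization.AtPrime p') SA,
      ← Ideal.comap_comap, ← Ideal.under_def (A := Localization.AtPrime p'), ← hQm.over]
    exact hm.liesOver.over⟩
  haveI := hCet i
  obtain ⟨x, hxp, hxQ⟩ := hQ i Q hQm Qs hQsp hQsc hQsR
  haveI : x.LiesOver Q := ⟨hxQ.symm⟩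
  obtain ⟨g₀, hg₀, hflat₀, himg⟩ := Groth.L20.RG.exists_flat_open (C := C i) (NA := NA) (hH i).2 Q x
  exact ⟨g₀, hg₀, Groth.L20.RG.fp_open (hH i).1 g₀ himg, hflat₀⟩

end Groth.Agent.S1260
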