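import Groth.Statements.S12602
import Groth.Agent.L26.FF.Wronski

set_option autoImplicit false
open FunFld

namespace Groth.Agent.S12602

open Groth.Agent.FF

/-- Over an algebraically closed constant field, for a birational projective map `φ = (φ₀, …, φₙ)`, `n ≥
1`, with orders `j₁ < ⋯ < jₙ`, and `τ ≠ 1`, the `τ`-orders of `φ` are `(0, j₁, …, j_{m-1}, j_{m+1},
…, jₙ)` for some `m`: the jump indices of `[τ(φ) | D^(0) φ | D^(1) φ | ⋯]` after the leading column
are `0` and the `jₗ` with `l ≠ m`. -/
theorem result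
    (k K : Type*) [Field k] [IsAlgClosed k] [Field K] [Algebra k K]
    (hK : FunFld.IsFunctionField k K) {n : ℕ} (hn : 0 < n) (φ : Fin (n + 1) → K) (hφ : LinearIndependent k φ)
    (h0 : φ 0 ≠ 0) (hbir : IntermediateField.adjoin k (Set.range fun i => φ i / φ 0) = ⊤)
    (τ : K →ₐ[k] K) (hτ : τ ≠ AlgHom.id k K) (s : K) (H : K →ₐ[k] PowerSeries K) (hH : LocRes.IsHasseFamily s H)
    (J : Fin n → ℕ) (hJ : FunFld.IsOrders K (FunFld.hcol (AlgHom.id k K) H φ) J) :
    ∃ m : Fin n, ∀ j : ℕ,
      FunFld.IsJump K (FunFld.hcol τ H φ) (j + 1) ↔ (j = 0 ∨ ∃ l, l ≠ m ∧ J l = j) := by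
  classical
  have hφ0 : φ ≠ 0 := fun h => h0 (congrFun h 0)
  -- the basic columns
  set c := FunFld.hcol (AlgHom.id k K) H φ with hcdef
  set c' := FunFld.hcol τ H φ with hc'def
  set v := c' 0
  have hv0 : v ≠ 0 := hcol_zero_ne τ H hφ0
  have hc10 : c 1 = c 0 := funext fun i => hasseD_zero hH (φ i)
  have hτ1 : v ∉ colSpan c 2 := by
    intro hv
    have hsp : colSpan c 2 = Submodule.span K {c 0} := by
      rw [colSpan_succ, colSpan_succ, colSpan_zero, bot_sup_eq, hc10, sup_idem]
    rw [hsp, Submodule.mem_span_singleton] at hv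
    obtain ⟨a, ha⟩ := hv
    refine hτ ?_
    have hfix : ∀ i, τ (φ i / φ 0) = φ i / φ 0 := fun i => by
      have h1 : ∀ l, a * φ l = τ (φ l) := fun l => congrFun ha l
      have ha0 : a ≠ 0 := fun h => hv0 (by rw [← ha, h, zero_smul])
      rw [map_div₀, ← h1, ← h1, mul_div_mul_left _ _ ha0]
    have hext : ∀ z ∈ IntermediateField.adjoin k (Set.range fun i => φ i / φ 0), τ z = z := by
      intro z hz
      induction hz using IntermediateField.adjoin_induction with
      | mem z hz => obtain ⟨i, rfl⟩ := hz; exact hfix i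
      | algebraMap c => exact τ.commutes c
      | add a b _ _ ha hb => rw [map_add, ha, hb]
      | inv a _ ha => rw [map_inv₀, ha]
      | mul a b _ _ ha hb => rw [map_mul, ha, hb]
    exact AlgHom.ext fun z => hext z (by rw [hbir]; trivial)
  -- spans with the leading column replaced
  have hU : ∀ j, 2 ≤ j → colSpan c' j = Submodule.span K {v} ⊔ colSpan c j := by
    intro j hj
    induction j, hj using Nat.le_induction with
    | base =>
      rw [colSpan_succ, colSpan_succ, colSpan_succ (c := c), colSpan_succ (c := c), colSpan_zero,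
        colSpan_zero, bot_sup_eq, bot_sup_eq, ← hc10, sup_idem]
      rfl
    | succ j hj ih =>
      obtain ⟨i, rfl⟩ : ∃ i, j = i + 1 := ⟨j - 1, by omega⟩
      rw [colSpan_succ, colSpan_succ (c := c), ih, sup_assoc]
      rfl
  have htop : ∃ N, v ∈ colSpan c N := by
    have hsp := sum_col_eq_zero (τ := AlgHom.id k K) (indep_hasse hK hφ hH)
    have hv : v ∈ Submodule.span K (Set.range c) := by rw [hsp]; trivial
    obtain ⟨a, hav⟩ := Finsupp.mem_span_range_iff_exists_finsupp.1 hv
    refine ⟨a.support.sup id + 1, hav ▸ sum_mem fun l hl => Submodule.smul_mem _ _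
      (mem_colSpan c (Nat.lt_succ_of_le (Finset.le_sup (f := id) hl)))⟩
  set N := Nat.find htop
  have hN : v ∈ colSpan c N := Nat.find_spec htop
  have hN3 : 3 ≤ N := by
    by_contra h
    exact hτ1 (colSpan_mono c (by omega) hN)
  obtain ⟨M, hMN⟩ : ∃ M, N = M + 1 := ⟨N - 1, by omega⟩
  have hMlt : v ∉ colSpan c M := Nat.find_min htop (by omega)
  have hMjump : FunFld.IsJump K c M := by
    intro hc
    refine hMlt ?_
    rw [hMN, colSpan_succ, sup_eq_left.2 ((Submodule.span_singleton_le_iff_mem _ (colSpan c M)).2 hc)] at hN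
    exact hN
  obtain ⟨m, hm⟩ : ∃ m, J m = M - 1 := by
    have := (hJ.2 (M - 1)).2 (by rwa [Nat.sub_add_cancel (by omega)])
    exact this
  refine ⟨m, fun j => ?_⟩
  rcases Nat.eq_zero_or_pos j with rfl | hj
  · refine iff_of_true ?_ (Or.inl rfl)
    show c' 1 ∉ colSpan c' 1
    rw [colSpan_succ, colSpan_zero, bot_sup_eq]
    intro h
    obtain ⟨a, ha⟩ := Submodule.mem_span_singleton.1 h
    rcases eq_or_ne a 0 with rfl | ha0
    · rw [zero_smul] at ha
      exact h0 ((hasseD_zero hH (φ 0)).symm.trans (congrFun ha 0).symm)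
    · refine hτ1 ?_
      have e : v = a⁻¹ • c 1 := by
        rw [show c 1 = c' 1 from rfl, ← ha, smul_smul, inv_mul_cancel₀ ha0, one_smul]
      rw [e]
      exact Submodule.smul_mem _ _ (mem_colSpan c (by omega))
  have key : FunFld.IsJump K c' (j + 1) ↔ FunFld.IsJump K c (j + 1) ∧ j + 1 ≠ M := by
    rw [isJump_iff, isJump_iff, hU (j + 1) (by omega), show c' (j + 1) = c (j + 1) from rfl]
    constructor
    · intro h
      refine ⟨fun h' => h (Submodule.mem_sup_right h'), fun hjM => h ?_⟩
      rw [hjM]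
      rw [hMN, colSpan_succ, Submodule.mem_sup] at hN
      obtain ⟨u, hu, w, hw, huw⟩ := hN
      obtain ⟨a, rfl⟩ := Submodule.mem_span_singleton.1 hw
      have ha : a ≠ 0 := fun h0 => hMlt (by
        rw [h0, zero_smul, add_zero] at huw
        exact huw ▸ hu)
      have e : c M = a⁻¹ • (v - u) := by
        rw [← huw, add_sub_cancel_left, smul_smul, inv_mul_cancel₀ ha, one_smul]
      rw [e]
      exact Submodule.smul_mem _ _ (sub_mem (Submodule.mem_sup_left (Submodule.mem_span_singleton_self v))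
        (Submodule.mem_sup_right hu))
    · rintro ⟨h, hjM⟩ hmem
      rcases lt_or_gt_of_ne hjM with hlt | hgt
      · rw [Submodule.mem_sup] at hmem
        obtain ⟨w, hw, u, hu, hwu⟩ := hmem
        obtain ⟨a, rfl⟩ := Submodule.mem_span_singleton.1 hw
        rcases eq_or_ne a 0 with rfl | ha
        · rw [zero_smul, zero_add] at hwu
          exact h (hwu ▸ hu)
        · refine hMlt (colSpan_mono c (show j + 2 ≤ M by omega) ?_)
          have e : v = a⁻¹ • (c (j + 1) - u) := by
            rw [← hwu, add_sub_cancel_right, smul_smul, inv_mul_cancel₀ ha, one_smul]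
          rw [e]
          exact Submodule.smul_mem _ _ (sub_mem (mem_colSpan c (by omega))
            (colSpan_mono c (by omega) hu))
      · refine h ((sup_le ?_ le_rfl : Submodule.span K {v} ⊔ colSpan c (j + 1) ≤ _) hmem)
        rw [Submodule.span_singleton_le_iff_mem]
        exact colSpan_mono c (by omega) hN
  rw [key, ← hJ.2 j]
  constructor
  · rintro ⟨⟨l, rfl⟩, hne⟩
    exact Or.inr ⟨l, fun h => hne (by rw [h, hm]; omega), rfl⟩
  · rintro (h | ⟨l, hlm, rfl⟩)
    · omega
    · refine ⟨⟨l, rfl⟩, fun h => hlm (hJ.1.injective ?_)⟩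
      omega

end Groth.Agent.S12602
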