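import Groth.Statements.S12607
import Groth.Agent.L26.FF.OrdersAt

set_option autoImplicit false
open FunFld

namespace Groth.Agent.S12607

open Groth.Agent.FF

/-- Over an algebraically closed constant field, let `φ = (φ₀, …, φₙ)` be an effective projective map
normalized at the place `P`, `t` a local parameter at `P` and `j'₁ < ⋯ < j'ₙ` the orders of `φ` at
`P`, `j'₀ = 0`. Then the span of `φ` has a basis `φ'₀, …, φ'ₙ` with `φ'ₗ = t^(j'ₗ) · (1 + higher
order terms)` at `P`; in particular `j` is one of the `j'ₗ` exactly when some function in the span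
of `φ` has order `j` at `P`. -/
theorem result
    (k K : Type*) [Field k] [IsAlgClosed k] [Field K] [Algebra k K]
    (hK : FunFld.IsFunctionField k K) (P : FunFld.Place k K) {n : ℕ} (φ : Fin (n + 1) → K) (hφ : LinearIndependent k φ)
    (heff : (1 : K) ∈ Submodule.span k (Set.range φ)) (hnorm : ∀ i, P.1 (φ i) ≤ 1)
    (t : K) (ht : P.1 t = WithZero.exp (-1))
    (Ht : K →ₐ[k] PowerSeries K) (hHt : LocRes.IsHasseFamily t Ht)
    (J' : Fin n → ℕ) (hJ' : FunFld.IsOrders (IsLocalRing.ResidueField P.O) (FunFld.hcolAt P Ht φ) J') :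
    (∃ φ' : Fin (n + 1) → K,
      Submodule.span k (Set.range φ') = Submodule.span k (Set.range φ) ∧
      P.1 (φ' 0) = 1 ∧ FunFld.evalP P (φ' 0) = 1 ∧
      ∀ l : Fin n, P.1 (φ' l.succ) = WithZero.exp (-(J' l : ℤ)) ∧
        FunFld.evalP P (φ' l.succ / t ^ J' l) = 1) ∧
    ∀ j : ℕ, (j = 0 ∨ j ∈ Set.range J') ↔
      ∃ f ∈ Submodule.span k (Set.range φ), P.1 f = WithZero.exp (-(j : ℤ)) := by
  obtain ⟨-, ⟨φ', -, hs, hv, he, hl⟩, hiff⟩ := adapted_basis hK hφ heff hnorm ht hHt hJ'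
  exact ⟨⟨φ', hs, hv, he, hl⟩, hiff⟩

end Groth.Agent.S12607
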