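import Groth.Statements.S12608
import Groth.Agent.L26.FF.DiffUse

set_option autoImplicit false
open FunFld

namespace Groth.Agent.S12608

open Groth.Agent.FF

/-- Over an algebraically closed constant field, let `φ = (φ₀, …, φₙ)` be an effective projective map
normalized at the place `P`, `t` a local parameter at `P`, `j₁, …, jₙ` the orders of `φ` and `j'₁,
…, j'ₙ` the orders of `φ` at `P`. Then `jₗ ≤ j'ₗ` for all `l`, and the following are equivalent: all
`j'ₗ = jₗ`; the Wronskian `w_t(φ)` does not vanish at `P`; the Weierstrass divisor `W(φ)` has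
coefficient `0` at `P` (the divisor of `dt` in it read through a family of Laurent expansions). -/
theorem result
    (k K : Type*) [Field k] [IsAlgClosed k] [Field K] [Algebra k K]
    (hK : FunFld.IsFunctionField k K) (P : FunFld.Place k K) {n : ℕ} (φ : Fin (n + 1) → K) (hφ : LinearIndependent k φ)
    (heff : (1 : K) ∈ Submodule.span k (Set.range φ)) (hnorm : ∀ i, P.1 (φ i) ≤ 1)
    (t : K) (ht : P.1 t = WithZero.exp (-1))
    (Ht : K →ₐ[k] PowerSeries K) (hHt : LocRes.IsHasseFamily t Ht)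
    (J : Fin n → ℕ) (hJ : FunFld.IsOrders K (FunFld.hcol (AlgHom.id k K) Ht φ) J)
    (J' : Fin n → ℕ) (hJ' : FunFld.IsOrders (IsLocalRing.ResidueField P.O) (FunFld.hcolAt P Ht φ) J')
    (Φ : FunFld.Place k K → (K →ₐ[k] LaurentSeries k))
    (hΦ : ∀ P : FunFld.Place k K, LocRes.IsExpansionAt P.1 (Φ P)) :
    (∀ l, J l ≤ J' l) ∧
    ((∀ l, J' l = J l) ↔ FunFld.evalP P (FunFld.wrMat (AlgHom.id k K) Ht φ J).det ≠ 0) ∧
    ((∀ l, J' l = J l) ↔ FunFld.wDiv (AlgHom.id k K) Ht Φ t φ J P = 0) := by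
  have hP : FunFld.IsFixedPt (AlgHom.id k K) P := fun z hz => hz
  have h1' := (adapted_basis hK hφ heff hnorm ht hHt hJ').1
  have hφ0 : φ ≠ 0 := fun h => hφ.ne_zero 0 (congrFun h 0)
  have hdet := det_wrMat_ne_zero (AlgHom.id k K) Ht hφ0 hJ
  have hle : ∀ l, J l ≤ J' l := by
    have h := ((wr_at_fixed hK hP hφ heff hnorm ht hHt hJ' J').2 (Or.inl fun l => h1' l)).2
      (by rw [binom_self_det hJ'.1]; exact one_ne_zero)
    have hne : (FunFld.wrMat (AlgHom.id k K) Ht φ J').det ≠ 0 := fun h0 => by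
      rw [h0, map_zero] at h
      exact WithZero.exp_ne_zero h.symm
    rw [wrMat_eq] at hne
    exact isOrders_of_det (hcol_zero_ne _ Ht hφ0) hJ hJ'.1 hne
  have hW : FunFld.wDiv (AlgHom.id k K) Ht Φ t φ J P = P.ord (FunFld.wrMat (AlgHom.id k K) Ht φ J).det := by
    rw [wDiv_apply hK hΦ hφ hHt hJ ht hHt one_ne_zero, one_smul, mapDiv_zero_at hK.1 hφ.ne_zero heff hnorm,
      mapDiv_fixed_zero hK hP hφ.ne_zero heff hnorm]
    ring
  obtain ⟨hb, hiff⟩ := wr_at_fixed hK hP hφ heff hnorm ht hHt hJ' J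
  have hb' := hb
  rw [val_le_exp_iff P hdet] at hb'
  have key : (∀ l, J' l = J l) ↔ P.ord (FunFld.wrMat (AlgHom.id k K) Ht φ J).det = 0 := by
    constructor
    · intro h
      obtain rfl : J' = J := funext h
      have h2 := (hiff (Or.inl fun l => h1' l)).2 (by rw [binom_self_det hJ'.1]; exact one_ne_zero)
      rw [val_eq_exp P hdet, WithZero.exp_inj] at h2
      simpa using h2
    · intro h l
      by_contra hne
      have : ∑ _l : Fin n, (0 : ℤ) < ∑ l, ((J' l : ℤ) - J l) :=
        Finset.sum_lt_sum (fun i _ => by have := hle i; omega)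
          ⟨l, Finset.mem_univ l, by have := hle l; omega⟩
      rw [Finset.sum_const_zero] at this
      omega
  refine ⟨hle, key.trans ?_, by rw [hW]; exact key⟩
  have hint : P.1 (FunFld.wrMat (AlgHom.id k K) Ht φ J).det ≤ 1 := hb.trans (exp_le_one'.2 (by
    have : (0 : ℤ) ≤ ∑ l, ((J' l : ℤ) - J l) := Finset.sum_nonneg fun i _ => by have := hle i; omega
    omega))
  rw [evalP_eq hK hint, map_ne_zero, ne_eq, valAt_eq_zero_iff, not_lt, ← val_eq_one_iff P hdet]
  exact ⟨fun h => h.ge, fun h => le_antisymm hint h⟩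

end Groth.Agent.S12608
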