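import Groth.Statements.S12610
import Groth.Agent.L26.FF.DiffUse

set_option autoImplicit false
open FunFld

namespace Groth.Agent.S12610

open Groth.Agent.FF

/-- Over an algebraically closed constant field, for a birational projective map `φ`, a `k`-endomorphism
`τ ≠ 1` and a place `P` fixed by `τ`, the place `P` is a Weierstrass point of `φ` with respect to
`τ`: the Weierstrass divisor `W(φ, τ) = [w_s(φ, τ)] + [τ(φ)] + n[φ] + j(φ, τ)[ds]` has positive
coefficient at `P` (the divisor of `ds` read through a family of Laurent expansions). -/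
theorem result
    (k K : Type*) [Field k] [IsAlgClosed k] [Field K] [Algebra k K]
    (hK : FunFld.IsFunctionField k K) {n : ℕ} (φ : Fin (n + 1) → K) (hφ : LinearIndependent k φ)
    (h0 : φ 0 ≠ 0) (hbir : IntermediateField.adjoin k (Set.range fun i => φ i / φ 0) = ⊤)
    (τ : K →ₐ[k] K) (hτ : τ ≠ AlgHom.id k K) (P : FunFld.Place k K) (hP : FunFld.IsFixedPt τ P)
    (s : K) (H : K →ₐ[k] PowerSeries K) (hH : LocRes.IsHasseFamily s H)
    (J : Fin n → ℕ) (hJ : FunFld.IsOrders K (FunFld.hcol τ H φ) J)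
    (Φ : FunFld.Place k K → (K →ₐ[k] LaurentSeries k))
    (hΦ : ∀ P : FunFld.Place k K, LocRes.IsExpansionAt P.1 (Φ P)) :
    0 < FunFld.wDiv τ H Φ s φ J P := by
  obtain ⟨t, Ht, ht, hHt⟩ := exists_local hK hH P
  obtain ⟨y, hy, hyφ, heff, hnorm, hM, -⟩ := exists_normalised hK hφ P
  have hφ0 : φ ≠ 0 := fun h => hφ.ne_zero 0 (congrFun h 0)
  obtain ⟨hJt, -⟩ := det_variable hK hH hHt hφ0 hJ
  obtain ⟨hJy, -⟩ := det_scale hHt hφ0 hJt hy
  obtain ⟨l₀, hl₀⟩ := zero_mem_orders hH hφ.ne_zero hJ fun h => hτ (eq_id_of_ratio h0 hbir h)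
  have hdet := det_wrMat_ne_zero τ Ht (fun h => hyφ.ne_zero 0 (congrFun h 0)) hJy
  rw [wDiv_apply hK hΦ hφ hH hJ ht hHt hy, hM, mapDiv_fixed_zero hK hP hyφ.ne_zero heff hnorm,
    mul_zero, add_zero, add_zero, ← val_lt_one_iff P hdet]
  set M := FunFld.wrMat τ Ht (y • φ) J
  have hint : ∀ i c, P.1 (M i c) ≤ 1 := fun i => Fin.cases (fixed_le_one hK hP (hnorm i))
    fun l => hasseD_integral hK ht hHt _ (hnorm i)
  let M' : Matrix (Fin (n + 1)) (Fin (n + 1)) P.O := Matrix.of fun i c => ⟨M i c, hint i c⟩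
  have h1 : M.det = ((M'.det : P.O) : K) := (RingHom.map_det P.O.subtype M').symm
  rw [h1, ← valAt_eq_zero_iff hK, ← AlgHom.coe_toRingHom, RingHom.map_det]
  refine Matrix.det_zero_of_column_eq (i := 0) (j := l₀.succ) (Fin.succ_ne_zero l₀).symm fun i => ?_
  show valAt hK P ⟨τ ((y • φ) i), _⟩ = valAt hK P ⟨LocRes.hasseD Ht (J l₀) ((y • φ) i), _⟩
  have e : (⟨LocRes.hasseD Ht (J l₀) ((y • φ) i), hasseD_integral hK ht hHt _ (hnorm i)⟩ : P.O) = ⟨(y • φ) i, hnorm i⟩ :=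
    Subtype.ext (by
      show LocRes.hasseD Ht (J l₀) _ = (y • φ) i
      rw [hl₀]
      exact hasseD_zero hHt _)
  rw [e, ← sub_eq_zero, ← map_sub, valAt_eq_zero_iff]
  have h2 := val_sub_valAt_lt hK ⟨(y • φ) i, hnorm i⟩
  have h3 := hP _ h2
  rw [map_sub, AlgHom.commutes] at h3
  have h4 := P.1.map_sub_lt h3 h2
  rwa [sub_sub_sub_cancel_right] at h4

end Groth.Agent.S12610
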