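import Groth.Statements.S12611
import Groth.Agent.L26.FF.OrdersUse

set_option autoImplicit false
open FunFld

namespace Groth.Agent.S12611

open Groth.Agent.FF

/-- Over an algebraically closed constant field of characteristic `0` or greater than `deg φ`, a
birational projective map `φ = (φ₀, …, φₙ)` is classical: its orders are `(1, 2, …, n)`, and for a
`k`-endomorphism `τ ≠ 1` its `τ`-orders are `(0, 1, …, n-1)`. (The published statement has no
fixed-point hypothesis for `τ ≠ 1` and is false without one: on a smooth plane cubic in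
characteristic `0`, pulling back along multiplication by `-2` gives `τ`-orders `(0, 2)`. This row
assumes `τ` has a strong fixed point — a place whose maximal ideal `τ` maps into its square — which
is what the proof uses, through the equality criterion for Wronskian orders at such a point.) -/
theorem result
    (k K : Type*) [Field k] [IsAlgClosed k] [Field K] [Algebra k K]
    (hK : FunFld.IsFunctionField k K) {n : ℕ} (φ : Fin (n + 1) → K) (hφ : LinearIndependent k φ)
    (h0 : φ 0 ≠ 0) (hbir : IntermediateField.adjoin k (Set.range fun i => φ i / φ 0) = ⊤)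
    (hchar : ringChar k = 0 ∨ (FunFld.mapDiv k φ).deg < ringChar k)
    (τ : K →ₐ[k] K) (s : K) (H : K →ₐ[k] PowerSeries K) (hH : LocRes.IsHasseFamily s H) :
    (τ = AlgHom.id k K → FunFld.IsOrders K (FunFld.hcol τ H φ) (fun l : Fin n => (l : ℕ) + 1)) ∧
    (τ ≠ AlgHom.id k K → (∃ P : FunFld.Place k K, FunFld.IsStrongFixedPt τ P) →
      FunFld.IsOrders K (FunFld.hcol τ H φ) (fun l : Fin n => (l : ℕ))) := by
  classical
  have hne : ∀ i, φ i ≠ 0 := hφ.ne_zero
  -- the orders computed near a fixed place
  have key : ∀ (P : FunFld.Place k K) (I : Fin n → ℕ), StrictMono I → FunFld.IsFixedPt τ P →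
      ((∀ l, 0 < I l) ∨ FunFld.IsStrongFixedPt τ P) →
      (∀ J : Fin n → ℕ, StrictMono J → (∀ l, 1 ≤ J l) → (∀ l, (J l : ℤ) ≤ (FunFld.mapDiv k φ).deg) →
        (FunFld.binomMat k J I).det ≠ 0) →
      ∃ J : Fin n → ℕ, FunFld.IsOrders K (FunFld.hcol τ H φ) J ∧ (∀ l, J l ≤ I l) ∧
        (τ = AlgHom.id k K → ∀ l, 1 ≤ J l) := by
    intro P I hI hfix hcase hdet
    obtain ⟨t, ht0, ht⟩ := exists_val_eq P (-1)
    obtain ⟨j, hj⟩ := exists_minimal φ P
    set y := (φ j)⁻¹ with hy
    have hy0 : y ≠ 0 := inv_ne_zero (hne j)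
    have hyφ : LinearIndependent k (y • φ) :=
      hφ.map' (LinearMap.mulLeft k y) (LinearMap.ker_eq_bot.2 (mul_right_injective₀ hy0))
    have heff : (1 : K) ∈ Submodule.span k (Set.range (y • φ)) :=
      Submodule.subset_span ⟨j, inv_mul_cancel₀ (hne j)⟩
    have hnorm : ∀ i, P.1 ((y • φ) i) ≤ 1 := fun i => by
      rw [Pi.smul_apply, smul_eq_mul, hy, ← div_eq_inv_mul, map_div₀]
      exact div_le_one_of_le₀ (hj i) zero_le
    have hd : LocRes.hasseD H 1 t ≠ 0 := fun h0 => by
      let δ : K →ₗ[k] K := ((PowerSeries.coeff (R := K) 1).restrictScalars k).comp H.toLinearMap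
      have hδ : δ = 0 := deriv_eq_zero hK (leibniz_coeff_one hH.2) ht h0
      have h1 : PowerSeries.coeff 1 (H s) = 0 := LinearMap.congr_fun hδ s
      rw [hH.1] at h1
      simp at h1
    obtain ⟨Ht, hHt⟩ := exists_family (detBy_family hK hH) hH hd
    obtain ⟨J', hJ'⟩ := exists_ordersAt hK ht hHt hyφ heff hnorm
    obtain ⟨h1, -, hiff⟩ := adapted_basis hK hyφ heff hnorm ht hHt hJ'
    have hle : ∀ l, (J' l : ℤ) ≤ (FunFld.mapDiv k φ).deg := fun l => by
      obtain ⟨f, hf, hfv⟩ := (hiff (J' l)).1 (Or.inr ⟨l, rfl⟩)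
      have := order_le_deg hK hyφ.ne_zero heff hf hfv
      rwa [mapDiv_smul hK.1 hne hy0, deg_sub, deg_div hK.1, sub_zero] at this
    have h := ((wr_at_fixed hK hfix hyφ heff hnorm ht hHt hJ' I).2 hcase).2 (hdet J' hJ'.1 h1 hle)
    have hdet' : (FunFld.wrMat τ Ht (y • φ) I).det ≠ 0 := fun h0 => by
      rw [h0, map_zero] at h
      exact WithZero.exp_ne_zero h.symm
    rw [wrMat_eq] at hdet'
    have hc0 : FunFld.hcol τ Ht (y • φ) 0 ≠ 0 :=
      hcol_zero_ne τ Ht fun h0 => hyφ.ne_zero 0 (congrFun h0 0)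
    obtain ⟨J, hJ⟩ := exists_orders hK hφ τ hH
    have hsc : FunFld.IsOrders K (FunFld.hcol τ Ht (y • φ)) J := by
      have e1 : ∀ l, FunFld.IsJump K (FunFld.hcol τ Ht (y • φ)) l ↔ FunFld.IsJump K (FunFld.hcol τ Ht φ) l :=
        fun l => isJump_transfer (fun j => by
          split_ifs
          · exact (map_ne_zero τ).2 hy0
          · exact hy0) (scale_triangular τ hHt φ y) l
      have e2 : ∀ l, FunFld.IsJump K (FunFld.hcol τ Ht φ) l ↔ FunFld.IsJump K (FunFld.hcol τ H φ) l :=
        fun l => isJump_transfer (fun j => pow_ne_zero _ (hasseD_one_ne_zero hK hH hHt))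
          (variable_triangular hK τ hH hHt φ) l
      exact ⟨hJ.1, fun l => by rw [e1, e2]; exact hJ.2 l⟩
    refine ⟨J, hJ, fun l => isOrders_of_det hc0 hsc hI hdet' l, fun hτ l => ?_⟩
    by_contra h0
    have h2 := (hJ.2 0).1 ⟨l, by omega⟩
    refine h2 ?_
    have e : FunFld.hcol τ H φ 1 = FunFld.hcol τ H φ 0 := funext fun i => by
      show LocRes.hasseD H 0 (φ i) = τ (φ i)
      rw [hasseD_zero hH, hτ, AlgHom.coe_id, id]
    show FunFld.hcol τ H φ 1 ∈ colSpan (FunFld.hcol τ H φ) 1
    rw [e]
    exact mem_colSpan _ Nat.zero_lt_one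
  have hbound : ∀ J : Fin n → ℕ, StrictMono J → (∀ l, 1 ≤ J l) → ∀ l : Fin n, (l : ℕ) + 1 ≤ J l := by
    intro J hJ h1 l
    obtain ⟨l, hl⟩ := l
    induction l with
    | zero => exact h1 _
    | succ l ih =>
      have := hJ (show (⟨l, by omega⟩ : Fin n) < ⟨l + 1, hl⟩ from Nat.lt_succ_self l)
      have := ih (by omega)
      show l + 1 + 1 ≤ _
      simp only at this ⊢
      omega
  have hprime : ∀ (B : ℕ), (B : ℤ) ≤ (FunFld.mapDiv k φ).deg → ∀ p : ℕ, p.Prime → (p : k) = 0 → B < p :=
    fun B hB p hp hpk => by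
      have hdvd := (ringChar.spec k p).1 hpk
      rcases hchar with h0' | hlt
      · rw [h0', zero_dvd_iff] at hdvd
        exact absurd hdvd hp.ne_zero
      · rcases hp.eq_one_or_self_of_dvd _ hdvd with h1 | h1
        · exact absurd h1 CharP.ringChar_ne_one
        · omega
  refine ⟨fun hτ => ?_, fun _ hfix => ?_⟩
  · obtain ⟨P, -⟩ := exists_place_notMem hK ∅
    have hfixP : FunFld.IsFixedPt τ P := fun z hz => by rwa [hτ, AlgHom.coe_id, id]
    obtain ⟨J, hJ, hJI, hJ1⟩ := key P (fun l => (l : ℕ) + 1) (fun a b h => Nat.succ_lt_succ h) hfixP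
      (Or.inl fun l => Nat.succ_pos _) fun J hJ h1 hle => by
        rcases Nat.eq_zero_or_pos n with rfl | hn
        · simp
        have hB := hle ⟨n - 1, by omega⟩
        let a : Fin (n + 1) → ℕ := Fin.cases 0 J
        have ha : Function.Injective a := by
          intro x z
          rcases Fin.eq_zero_or_eq_succ x with rfl | ⟨x, rfl⟩ <;>
            rcases Fin.eq_zero_or_eq_succ z with rfl | ⟨z, rfl⟩ <;>
            intro h
          · rfl
          · have := h1 z
            change 0 = J z at h
            omega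
          · have := h1 x
            change J x = 0 at h
            omega
          · change J x = J z at h
            rw [hJ.injective h]
        have hn' := hbound J hJ h1 ⟨n - 1, by omega⟩
        have h2 := det_binom_consecutive (R := k) a ha (J ⟨n - 1, by omega⟩)
          (Fin.cases (Nat.zero_le _)
            fun r => hJ.monotone (show r ≤ (⟨n - 1, _⟩ : Fin n) from Nat.le_sub_one_of_lt r.2))
          (by simp only at hn'; omega) (hprime _ hB)
        rw [Matrix.det_succ_row_zero, Fin.sum_univ_succ, Finset.sum_eq_zero, add_zero] at h2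
        · have e : (FunFld.binomMat k a fun s : Fin (n + 1) => (s : ℕ)).submatrix Fin.succ (0 : Fin (n + 1)).succAbove =
              FunFld.binomMat k J fun l : Fin n => (l : ℕ) + 1 := by
            ext i l
            simp [FunFld.binomMat, a]
          rw [e] at h2
          exact fun h0 => h2 (by rw [h0, mul_zero])
        · intro l _
          simp [FunFld.binomMat, a]
    have e : J = fun l : Fin n => (l : ℕ) + 1 := funext fun l =>
      le_antisymm (hJI l) (hbound J hJ.1 (hJ1 hτ) l)
    exact e ▸ hJ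
  · obtain ⟨P, hP⟩ := hfix
    have hfixP : FunFld.IsFixedPt τ P := fun z hz => (hP z hz).trans_lt (exp_lt_one'.2 (by norm_num))
    obtain ⟨J, hJ, hJI, -⟩ := key P (fun l => (l : ℕ)) (fun a b h => h) hfixP
      (Or.inr hP) fun J hJ h1 hle => by
        rcases Nat.eq_zero_or_pos n with rfl | hn
        · simp
        · have hB := hle ⟨n - 1, by omega⟩
          refine det_binom_consecutive J hJ.injective (J ⟨n - 1, by omega⟩)
            (fun r => hJ.monotone (show r ≤ (⟨n - 1, _⟩ : Fin n) from Nat.le_sub_one_of_lt r.2)) ?_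
            (hprime _ hB)
          have := hbound J hJ h1 ⟨n - 1, by omega⟩
          simp only at this
          omega
    have e : J = fun l : Fin n => (l : ℕ) := funext fun l => le_antisymm (hJI l) (by
      have := hbound (fun l => J l + 1) (fun a b h => Nat.succ_lt_succ (hJ.1 h)) (fun _ => Nat.succ_pos _) l
      omega)
    exact e ▸ hJ

end Groth.Agent.S12611
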