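import Groth.Statements.S12614
import Groth.Agent.L26.FF.DiffUse
import Mathlib.LinearAlgebra.Dimension.OrzechProperty

set_option autoImplicit false
open FunFld

namespace Groth.Agent.S12614

open Groth.Agent.FF

/-- Over an algebraically closed constant field, the Weierstrass divisor `W_s(φ, τ) = [w_s(φ, τ)] +
[τ(φ)] + n[φ] + j(φ, τ)[ds]` does not depend on the separating variable `s` and does not change when
`φ` is replaced by an equivalent map `y · Aφ` (`A` invertible over `k`, `y ≠ 0`). Divisors of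
differentials are read through a fixed family of Laurent expansions. -/
theorem result
    (k K : Type*) [Field k] [IsAlgClosed k] [Field K] [Algebra k K]
    (hK : FunFld.IsFunctionField k K) {n : ℕ} (φ : Fin (n + 1) → K) (hφ : LinearIndependent k φ)
    (τ : K →ₐ[k] K) (s : K) (Hs : K →ₐ[k] PowerSeries K) (hHs : LocRes.IsHasseFamily s Hs)
    (t : K) (Ht : K →ₐ[k] PowerSeries K) (hHt : LocRes.IsHasseFamily t Ht)
    (J : Fin n → ℕ) (hJ : FunFld.IsOrders K (FunFld.hcol τ Hs φ) J)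
    (A : Matrix (Fin (n + 1)) (Fin (n + 1)) k) (hA : A.det ≠ 0) (y : K) (hy : y ≠ 0)
    (φ' : Fin (n + 1) → K) (hφ' : ∀ i, φ' i = y * ∑ j, A i j • φ j)
    (Φ : FunFld.Place k K → (K →ₐ[k] LaurentSeries k))
    (hΦ : ∀ P : FunFld.Place k K, LocRes.IsExpansionAt P.1 (Φ P)) :
    FunFld.wDiv τ Ht Φ t φ' J = FunFld.wDiv τ Hs Φ s φ J := by
  refine Finsupp.ext fun P => ?_
  obtain ⟨u, Hu, hu, hHu⟩ := exists_local hK hHs P
  let ψ : Fin (n + 1) → K := y • φ
  have hψ : LinearIndependent k ψ :=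
    hφ.map' (LinearMap.mulLeft k y) (LinearMap.ker_eq_bot.2 (mul_right_injective₀ hy))
  have hφ'ψ : ∀ i, φ' i = ∑ j, A i j • ψ j := fun i => by
    rw [hφ' i, Finset.mul_sum]
    exact Finset.sum_congr rfl fun j _ => mul_smul_comm _ _ _
  obtain ⟨-, hspan⟩ := change_basis τ Ht A hA hφ'ψ
  have hφ'li : LinearIndependent k φ' := by
    rw [linearIndependent_iff_card_eq_finrank_span, Set.finrank, hspan, finrank_span_eq_card hψ]
  have hφ0 : φ ≠ 0 := fun h => hφ.ne_zero 0 (congrFun h 0)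
  obtain ⟨hJt, -⟩ := det_variable hK hHs hHt hφ0 hJ
  obtain ⟨hJy, -⟩ := det_scale hHt hφ0 hJt hy
  have hJ' := ((change_basis τ Ht A hA hφ'ψ).1 J).2 hJy
  rw [wDiv_apply hK hΦ hφ'li hHt hJ' hu hHu one_ne_zero, one_smul,
    wDiv_apply hK hΦ hφ hHs hJ hu hHu hy]
  have hdetψ : (FunFld.wrMat τ Hu ψ J).det ≠ 0 := by
    obtain ⟨hJu, -⟩ := det_variable hK hHs hHu hφ0 hJ
    obtain ⟨hJyu, -⟩ := det_scale hHu hφ0 hJu hy
    exact det_wrMat_ne_zero τ Hu (fun h => hψ.ne_zero 0 (congrFun h 0)) hJyu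
  have hc : algebraMap k K A.det ≠ 0 := (map_ne_zero _).2 hA
  rw [det_change_basis τ Hu A hφ'ψ J, ord_mul P hc hdetψ, ord_const, zero_add,
    mapDiv_congr_span hK.1 hψ.ne_zero hφ'li.ne_zero hspan]
  have hspanτ : Submodule.span k (Set.range (⇑τ ∘ φ')) = Submodule.span k (Set.range (⇑τ ∘ ψ)) := by
    simp only [Set.range_comp, ← AlgHom.coe_toLinearMap, ← Submodule.map_span, hspan]
  rw [mapDiv_congr_span (φ' := ⇑τ ∘ φ') (φ := ⇑τ ∘ ψ) hK.1 (fun i => (map_ne_zero τ).2 (hψ.ne_zero i))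
    (fun i => (map_ne_zero τ).2 (hφ'li.ne_zero i)) hspanτ]

end Groth.Agent.S12614
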