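import Groth.Statements.S12616
import Groth.Agent.L26.FF.CoordChange
import Groth.Agent.L26.FF.Diff
import Groth.Agent.L26.FF.Model

set_option autoImplicit false
open FunFld

namespace Groth.Agent.S12616

open Groth.Agent.FF WithZero

/-- Over an algebraically closed constant field, the adjoint divisor `Δ(φ) = (e - 3)[φ] - [dx/f̂_y]` of
an effective plane map `φ = (1 : x : y)` of degree `e`, with a homogeneous relation `f` of the same
degree `e` satisfying `f(1, x, y) = 0`, depends only on the equivalence class of `φ`: it is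
unchanged under a change of projective coordinates `X = AX'`, with `x' = u₁/u₀`, `y' = u₂/u₀`, `u =
A⁻¹(1, x, y)ᵗ`, `f'(X') = f(AX')`. Here `dx ≠ 0`, both `f̂_y` and `f̂'_{y'}` are nonzero, and
divisors of differentials are read through a family of Laurent expansions. (The published statement
takes `f` to be the minimal relation of `x` and `y` for a plane model `K = k(x, y)`, where the
degree of the map equals the degree of `f`; this row assumes only that `f` is homogeneous of degree
equal to the degree of the map, which is all the change-of-coordinates computation uses — when the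
two degrees differ the two sides differ by a multiple of the divisor of `u₀`.) -/
theorem result
    (k K : Type*) [Field k] [IsAlgClosed k] [Field K] [Algebra k K]
    (hK : FunFld.IsFunctionField k K) (f : MvPolynomial (Fin 3) k) (e : ℕ) (hf : f.IsHomogeneous e)
    (x y : K) (hfxy : MvPolynomial.aeval ![(1 : K), x, y] f = 0)
    (hdx : KaehlerDifferential.D k K x ≠ 0)
    (he : (FunFld.mapDiv k ![(1 : K), x, y]).deg = e)
    (A : Matrix (Fin 3) (Fin 3) k) (hA : A.det ≠ 0)
    (u : Fin 3 → K) (hu : ∀ i, ∑ j, algebraMap k K (A i j) * u j = ![(1 : K), x, y] i)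
    (hu0 : u 0 ≠ 0)
    (hfy : (MvPolynomial.aeval ![(1 : K), x, y] (MvPolynomial.pderiv 2 f)) ≠ 0)
    (hfy' : (MvPolynomial.aeval ![(1 : K), u 1 / u 0, u 2 / u 0] (MvPolynomial.pderiv 2 (MvPolynomial.aeval (fun i : Fin 3 => ∑ j, MvPolynomial.C (A i j) * MvPolynomial.X j) f))) ≠ 0)
    (Φ : FunFld.Place k K → (K →ₐ[k] LaurentSeries k))
    (hΦ : ∀ P : FunFld.Place k K, LocRes.IsExpansionAt P.1 (Φ P)) :
    ((FunFld.mapDiv k ![(1 : K), x, y]).deg - 3) • FunFld.mapDiv k ![(1 : K), x, y] -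
        FunFld.divDiff Φ (MvPolynomial.aeval ![(1 : K), x, y] (MvPolynomial.pderiv 2 f))⁻¹ x =
      ((FunFld.mapDiv k ![(1 : K), u 1 / u 0, u 2 / u 0]).deg - 3) •
          FunFld.mapDiv k ![(1 : K), u 1 / u 0, u 2 / u 0] -
        FunFld.divDiff Φ (MvPolynomial.aeval ![(1 : K), u 1 / u 0, u 2 / u 0] (MvPolynomial.pderiv 2 (MvPolynomial.aeval (fun i : Fin 3 => ∑ j, MvPolynomial.C (A i j) * MvPolynomial.X j) f)))⁻¹ (u 1 / u 0) := by
  classical
  set ψ : Fin 3 → K := ![(1 : K), u 1 / u 0, u 2 / u 0] with hψd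
  set φ : Fin 3 → K := ![(1 : K), x, y] with hφd
  -- divisors of maps
  have hbound : ∀ (w : Fin 3 → K), w 0 = 1 → ∀ (P : FunFld.Place k K) (m : ℤ),
      FunFld.mapDiv k w P ≤ m ↔ ∀ i, P.1 (w i) ≤ exp m := by
    intro w hw P m
    constructor
    · intro h i
      rcases eq_or_ne (w i) 0 with h0 | h0
      · rw [h0, map_zero]; exact zero_le
      · rw [val_eq_exp P h0, exp_le_exp]
        have := neg_mapDiv_le hK.1 w P i
        omega
    · intro h
      have h0 := h 0
      rw [hw, map_one, ← exp_zero, exp_le_exp] at h0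
      obtain ⟨i, hi⟩ := exists_ord_eq hK.1 w P
      rcases eq_or_ne (w i) 0 with hw0 | hw0
      · rw [hw0, ord_zero] at hi; omega
      · have := h i
        rw [val_eq_exp P hw0, exp_le_exp] at this
        omega
  have hψu : ∀ j, u j = u 0 * ψ j := fun j => by fin_cases j <;> simp [hψd] <;> field_simp
  have hMat : (A.map (algebraMap k K)).mulVec u = φ := funext fun i => hu i
  have hMdet : IsUnit (A.map (algebraMap k K)).det := by
    rw [show A.map (algebraMap k K) = (algebraMap k K).mapMatrix A from rfl, ← RingHom.map_det]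
    exact isUnit_iff_ne_zero.2 ((map_ne_zero _).2 hA)
  have hinv : (A⁻¹.map (algebraMap k K)).mulVec φ = u := by
    rw [← hMat, Matrix.mulVec_mulVec, ← Matrix.map_mul,
      Matrix.nonsing_inv_mul A (isUnit_iff_ne_zero.2 hA), Matrix.map_one _ (map_zero _) (map_one _),
      Matrix.one_mulVec]
  have hcomb : ∀ (B : Matrix (Fin 3) (Fin 3) k) (v w : Fin 3 → K) (P : FunFld.Place k K) (m : ℤ),
      (B.map (algebraMap k K)).mulVec v = w → (∀ j, P.1 (v j) ≤ exp m) → ∀ i, P.1 (w i) ≤ exp m := by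
    intro B v w P m hB hv i
    rw [← hB, Matrix.mulVec, dotProduct]
    refine P.1.map_sum_le fun j _ => ?_
    rw [Matrix.map_apply, map_mul]
    exact (mul_le_of_le_one_left' (P.2.1 _)).trans (hv j)
  have hM : FunFld.mapDiv k ψ = FunFld.mapDiv k φ + FunFld.div k (u 0) := by
    refine Finsupp.ext fun P => ?_
    rw [Finsupp.add_apply, div_apply hK.1]
    have hiff : ∀ m : ℤ, FunFld.mapDiv k φ P ≤ m ↔ FunFld.mapDiv k ψ P ≤ m + P.ord (u 0) := fun m => by
      rw [hbound φ rfl, hbound ψ rfl]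
      have e : ∀ j, P.1 (u j) ≤ exp m ↔ P.1 (ψ j) ≤ exp (m + P.ord (u 0)) := fun j => by
        rw [hψu j, map_mul, val_eq_exp P hu0, ← le_div_iff₀' exp_pos, ← exp_sub, sub_neg_eq_add]
      simp only [← e]
      exact ⟨hcomb _ _ _ P m hinv, hcomb _ _ _ P m hMat⟩
    have h1 := (hiff _).1 le_rfl
    have h2 := (hiff (FunFld.mapDiv k ψ P - P.ord (u 0))).2 (by omega)
    omega
  -- the differentials
  set fy := MvPolynomial.aeval φ (MvPolynomial.pderiv 2 f) with hfyd
  set fy' := MvPolynomial.aeval ψ (MvPolynomial.pderiv 2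
    (MvPolynomial.aeval (fun i : Fin 3 => ∑ j, MvPolynomial.C (A i j) * MvPolynomial.X j) f)) with hfyd'
  set c := algebraMap k K A.det * (u 0)⁻¹ ^ ((e : ℤ) - 3) with hcd
  have hc : c ≠ 0 := mul_ne_zero ((map_ne_zero _).2 hA) (zpow_ne_zero _ (inv_ne_zero hu0))
  have hω : fy⁻¹ • KaehlerDifferential.D k K x = (c * fy'⁻¹) • KaehlerDifferential.D k K (u 1 / u 0) :=
    omega_change (KaehlerDifferential.D k K) f e hf x y hfxy A u hu hu0 hfy hfy'
  have hrel : (fy * (c * fy'⁻¹)) • KaehlerDifferential.D k K (u 1 / u 0) = KaehlerDifferential.D k K x := by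
    rw [mul_smul, ← hω, smul_smul, mul_inv_cancel₀ hfy, one_smul]
  have hdx' : KaehlerDifferential.D k K (u 1 / u 0) ≠ 0 := fun h => hdx (by rw [← hrel, h, smul_zero])
  have hg : FunFld.IsGeometric k K := isGeometric_algClosed
  have hf1 := Groth.Agent.Res.ordDiff_finite (F := fun _ => k) hK hg Φ hΦ (inv_ne_zero hfy) hdx
  have hf2 := Groth.Agent.Res.ordDiff_finite (F := fun _ => k) hK hg Φ hΦ (inv_ne_zero hfy') hdx'
  have hdeg : (FunFld.mapDiv k ψ).deg = e := by rw [hM, deg_add, deg_div hK.1, he, add_zero]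
  rw [hdeg, he, FunFld.divDiff, dif_pos hf1, FunFld.divDiff, dif_pos hf2]
  refine Finsupp.ext fun P => ?_
  simp only [Finsupp.sub_apply, Finsupp.smul_apply, smul_eq_mul, Finsupp.ofSupportFinite_coe]
  rw [hM, Finsupp.add_apply, div_apply hK.1]
  have hpc : P.ord c = -(((e : ℤ) - 3) * P.ord (u 0)) := by
    rw [Place.ord, hcd, map_mul, map_zpow₀, val_const P hA, one_mul, map_inv₀, WithZero.log_zpow,
      WithZero.log_inv, Place.ord, smul_eq_mul]
  have hd := Groth.Agent.Res.D_map_smul (Φ P) hrel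
  have hv : LocRes.vDiff (Φ P) fy⁻¹ x = P.1 c * LocRes.vDiff (Φ P) fy'⁻¹ (u 1 / u 0) := by
    rw [Groth.Agent.Res.vDiff_eq, Groth.Agent.Res.vDiff_eq, ← hd, map_mul (Valued.v),
      ← mul_assoc, ← map_mul (Valued.v), ← map_mul (Φ P), Groth.Agent.Res.val_map (hΦ P),
      Groth.Agent.Res.val_map (hΦ P), inv_mul_cancel_left₀ hfy, map_mul, mul_assoc]
  have hne : LocRes.vDiff (Φ P) fy'⁻¹ (u 1 / u 0) ≠ 0 :=
    (Groth.Agent.Res.vDiff_ne_zero_iff hK hg (hΦ P) _ _).2 ⟨inv_ne_zero hfy', hdx'⟩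
  rw [LocRes.ordDiff, LocRes.ordDiff, hv, WithZero.log_mul (val_ne_zero P hc) hne,
    show WithZero.log (P.1 c) = -(P.ord c) by rw [Place.ord, neg_neg], hpc]
  ring

end Groth.Agent.S12616
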