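import Groth.Statements.S12617
import Groth.Agent.L26.FF.OrdersAt
import Groth.Agent.S11066

set_option autoImplicit false
open FunFld

namespace Groth.Agent.S12617

open Groth.Agent.FF

/-- Over an algebraically closed constant field, if the effective projective map `φ = (φ₀, …, φₙ)`, `n ≥
1`, normalized at `P`, is nonsingular at `P`, then its first order at `P` is `1`. -/
theorem result
    (k K : Type*) [Field k] [IsAlgClosed k] [Field K] [Algebra k K]
    (hK : FunFld.IsFunctionField k K) (P : FunFld.Place k K) {n : ℕ} (hn : 0 < n) (φ : Fin (n + 1) → K)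
    (hφ : LinearIndependent k φ)
    (heff : (1 : K) ∈ Submodule.span k (Set.range φ)) (hnorm : ∀ i, P.1 (φ i) ≤ 1) (hns : FunFld.IsNonsingularAt φ P)
    (t : K) (ht : P.1 t = WithZero.exp (-1))
    (Ht : K →ₐ[k] PowerSeries K) (hHt : LocRes.IsHasseFamily t Ht)
    (J' : Fin n → ℕ) (hJ' : FunFld.IsOrders (IsLocalRing.ResidueField P.O) (FunFld.hcolAt P Ht φ) J') :
    J' ⟨0, hn⟩ = 1 := by
  obtain ⟨h1, -, hiff⟩ := adapted_basis hK hφ heff hnorm ht hHt hJ'
  obtain ⟨u, hu, hu1⟩ := (Groth.Agent.S11066.result k K hK φ P heff hnorm).1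
    ⟨t, hns t (by rw [ht, exp_le_one']; norm_num), ht⟩
  rcases (hiff 1).2 ⟨u, hu, by simpa using hu1⟩ with h | ⟨l, hl⟩
  · exact absurd h one_ne_zero
  · have := h1 ⟨0, hn⟩
    have := hJ'.1.monotone (show (⟨0, hn⟩ : Fin n) ≤ l from Nat.zero_le _)
    omega

end Groth.Agent.S12617
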