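import Groth.Statements.S12619
import Groth.Agent.L04.LocTrace

set_option autoImplicit false
set_option linter.style.haveILetI false
universe u v
open LocRes WithZero

namespace Groth.Agent.S12619

/-- Let `F` be a field with a discrete valuation `v`, `K` a perfect field and `φ : F → K((X))` a
`K`-algebra expansion at `v` in a local parameter (it carries `v` to the `X`-adic valuation, the
valuation ring maps onto the coefficient field `K`, and `v` is normalised) which is moreover
surjective — so `F` is complete and `K` is a coefficient field of its valuation ring. Let `E` be a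
finite separable extension of `F`, `w` a valuation of `E` extending `v` up to equivalence, and `L` a
field between `K` and `E`, finite over `K`, with an `L`-algebra expansion `ψ : E → L((X))` at `w` in
a local parameter (so `L` is a coefficient field of the valuation ring of `w` containing `K`; it is
then the algebraic closure of `K` in `E`). Then for `x ∈ F` and `y ∈ E`, the trace from `L` to `K`
of the residue of `y dx` at `w` equals the residue at `v` of `tr_{E/F}(y) dx`, the residues being
the `X⁻¹`-coefficients of `ψ(y)·(ψ x)′` and of `φ(tr y)·(φ x)′`. (The published statement constructs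
`L` as the algebraic closure of `K` in `E` and defines residues intrinsically; here the coefficient
fields and expansions are data and the residues are read through them.) -/
theorem result (K L : Type u) (F E : Type v) [Field K] [PerfectField K] [Field L]
    [Field F] [Field E] [Algebra K F] [Algebra F E] [Algebra K E] [IsScalarTower K F E]
    [FiniteDimensional F E] [Algebra.IsSeparable F E]
    [Algebra K L] [Algebra L E] [IsScalarTower K L E] [FiniteDimensional K L]
    (v : Valuation F (WithZero (Multiplicative ℤ))) (w : Valuation E (WithZero (Multiplicative ℤ)))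
    [v.HasExtension w]
    (φ : F →ₐ[K] LaurentSeries K) (hφ : LocRes.IsExpansionAt v φ) (hφs : Function.Surjective φ)
    (ψ : E →ₐ[L] LaurentSeries L) (hψ : LocRes.IsExpansionAt w ψ)
    (x : F) (y : E) :
    Algebra.trace K L (LocRes.resExp ψ y (algebraMap F E x)) =
      LocRes.resExp φ (Algebra.trace F E y) x := by
  classical
  obtain ⟨hv, -, tv, htv⟩ := hφ
  obtain ⟨hw, -, tw, htw⟩ := hψ
  have hφi : Function.Injective φ := φ.toRingHom.injective
  let φe : F ≃ₐ[K] LaurentSeries K := AlgEquiv.ofBijective φ ⟨hφi, hφs⟩
  have hφe : ∀ g, φ (φe.symm g) = g := fun g => φe.apply_symm_apply g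
  have hφe' : ∀ a, φe.symm (φ a) = a := fun a => φe.symm_apply_apply a
  let σ : LaurentSeries K →+* LaurentSeries L :=
    (ψ.toRingHom.comp (algebraMap F E)).comp φe.symm.toRingEquiv.toRingHom
  have hσ' : ∀ a, σ (φ a) = ψ (algebraMap F E a) := fun a => by
    show ψ (algebraMap F E (φe.symm (φ a))) = _
    rw [hφe']
  have hvC : ∀ c : K, φ (algebraMap K F c) = HahnSeries.C c := fun c => by
    rw [LocRes.map_algebraMap]; rfl
  have hψC : ∀ c : L, ψ (algebraMap L E c) = HahnSeries.C c := fun c => by
    rw [LocRes.map_algebraMap]; rfl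
  have hC : ∀ c, σ (HahnSeries.C c) = HahnSeries.C (algebraMap K L c) := fun c => by
    rw [← hvC, hσ', ← IsScalarTower.algebraMap_apply, IsScalarTower.algebraMap_apply K L E, hψC]
  have hext := (Valuation.HasExtension.val_isEquiv_comap (vR := v) (vA := w))
  have hσmem : ∀ g ∈ Groth.Agent.Res.lau K K 0, σ g ∈ Groth.Agent.Res.lau K L 0 := fun g hg => by
    rw [Groth.Agent.Res.mem_lau_iff, neg_zero, exp_zero] at hg ⊢
    rw [← hφe g, hv] at hg
    rw [← hφe g, hσ', hw]
    exact (Valuation.IsEquiv.le_one_iff_le_one hext).1 hg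
  set π := σ (HahnSeries.single (1 : ℤ) (1 : K)) with hπdef
  set a₁ := φe.symm (HahnSeries.single (1 : ℤ) (1 : K))
  have ha₁ : v a₁ = exp (-1 : ℤ) := by
    rw [← hv, hφe]
    exact_mod_cast LaurentSeries.valuation_single_zpow K 1
  have hπv : Valued.v π = w (algebraMap F E a₁) := by
    rw [hπdef, ← hφe (HahnSeries.single (1 : ℤ) (1 : K)), hσ', hw]
  have hπlt : w (algebraMap F E a₁) < 1 := (Valuation.IsEquiv.lt_one_iff_lt_one hext).1 (by rw [ha₁, ← exp_zero, exp_lt_exp]; norm_num)
  have hπne : w (algebraMap F E a₁) ≠ 0 := by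
    rw [ne_eq, Valuation.zero_iff, map_eq_zero]
    intro h0
    rw [h0, map_zero] at ha₁
    exact exp_ne_zero ha₁.symm
  set n := WithZero.log (w (algebraMap F E a₁))
  have hn : w (algebraMap F E a₁) = exp n := (exp_log hπne).symm
  have hnlt : n < 0 := by rw [hn, ← exp_zero, exp_lt_exp] at hπlt; exact hπlt
  set e := (-n).toNat
  have hπ : Valued.v π = exp (-(e : ℤ)) := by
    rw [hπv, hn, show -((e : ℕ) : ℤ) = n by omega]
  have he : 1 ≤ e := by omega
  set s := ψ tw
  have hs : Valued.v s = exp (-1 : ℤ) := by rw [hw, htw]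
  let b := Module.finBasis K L
  let zE : Fin (Module.finrank K L) × Fin e → E := fun p => algebraMap L E (b p.1) * tw ^ (p.2 : ℕ)
  have hz : ∀ p, ψ (zE p) = Groth.L04.LocTrace.zz b s p := fun p => by
    rw [map_mul, hψC, map_pow]
    rfl
  have hcomb : ∀ c : Fin (Module.finrank K L) × Fin e → F,
      ψ (∑ p, c p • zE p) = Groth.L04.LocTrace.comb σ b s (fun p => φ (c p)) := fun c => by
    rw [map_sum]
    refine Finset.sum_congr rfl fun p _ => ?_
    rw [Algebra.smul_def, map_mul, hz, hσ']
  have hli : LinearIndependent F zE := Fintype.linearIndependent_iff.2 fun c hc p => hφi (by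
    have := congrFun (Groth.L04.LocTrace.eq_zero_of_comb hC hσmem hπ he hs
      (b := b) (g := fun q => φ (c q)) (by rw [← hcomb, hc, map_zero])) p
    rw [map_zero]
    exact this)
  have hspan : ⊤ ≤ Submodule.span F (Set.range zE) := fun u _ => by
    obtain ⟨g, hg⟩ := Groth.L04.LocTrace.comb_surjective hC hσmem hπ he hs (b := b) (ψ u)
    refine (Submodule.mem_span_range_iff_exists_fun F).2 ⟨fun p => φe.symm (g p), ψ.toRingHom.injective ?_⟩
    show ψ _ = ψ u
    rw [hcomb]
    simp only [hφe, hg]
  let B := Module.Basis.mk hli hspan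
  letI : Module K (LaurentSeries L) := Algebra.toModule
  letI : Module K (LaurentSeries K) := Algebra.toModule
  let Φ : (Fin (Module.finrank K L) × Fin e → LaurentSeries K) →ₗ[K] LaurentSeries L :=
    { toFun := Groth.L04.LocTrace.comb σ b s
      map_add' := Groth.L04.LocTrace.comb_add
      map_smul' := Groth.L04.LocTrace.comb_smul hC }
  have hΦ : Function.Bijective Φ := ⟨(injective_iff_map_eq_zero Φ).2 fun g hg =>
      Groth.L04.LocTrace.eq_zero_of_comb hC hσmem hπ he hs hg,
    Groth.L04.LocTrace.comb_surjective hC hσmem hπ he hs⟩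
  have hy : ∀ j, ψ y * Groth.L04.LocTrace.zz b s j =
      ∑ i, σ (φ (Algebra.leftMulMatrix B y i j)) * Groth.L04.LocTrace.zz b s i := fun j => by
    have h1 : y * zE j = ∑ i, Algebra.leftMulMatrix B y i j • zE i := by
      simp only [Algebra.leftMulMatrix_eq_repr_mul]
      conv_lhs => rw [← B.sum_repr (y * zE j)]
      simp [B]
    rw [← hz, ← map_mul, h1, hcomb]
    rfl
  have key := Groth.L04.LocTrace.res_trace σ (Groth.L04.LocTrace.zz b s) (LinearEquiv.ofBijective Φ hΦ)
    (fun g => rfl) (fun g => ⟨Groth.L04.LocTrace.mem_of_comb_mem hC hσmem hπ he hs,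
      Groth.L04.LocTrace.comb_mem hσmem hs⟩) (ψ y) _ hy (φ x)
  rw [hσ'] at key
  unfold LocRes.resExp
  rw [key, Algebra.trace_eq_matrix_trace B, Matrix.trace, map_sum]
  rfl

end Groth.Agent.S12619
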