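import Groth.Statements.S1262
import Groth.Agent.L20.RG.FibreCover
import Groth.Agent.L20.RG.FlatFp

set_option autoImplicit false
universe u
open FlatMor

set_option backward.isDefEq.respectTransparency.types false
namespace Groth.Agent.S1262

/-- Ring form, X = Spec S affine: let S be a finite type R-algebra, N a finite S-module and p a prime of
R. Then the set of points x of the fibre Spec(κ(p) ⊗ S) such that N is flat over R at the prime of S
under x is open in the fibre. -/
theorem result {R S : Type u} [CommRing R] [CommRing S] [Algebra R S] [Algebra.FiniteType R S]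
    (N : Type u) [AddCommGroup N] [Module S N] [Module R N] [IsScalarTower R S N] [Module.Finite S N]
    (p : Ideal R) [p.IsPrime] :
    IsOpen {x : PrimeSpectrum (p.Fiber S) |
      FlatCA.FlatAt R (x.asIdeal.comap (Algebra.TensorProduct.includeRight (R := R) (A := p.ResidueField) (B := S)).toRingHom) N} := by
  classical
  rw [isOpen_iff_forall_mem_open]
  intro x hx
  let q := x.asIdeal.comap (Algebra.TensorProduct.includeRight (R := R) (A := p.ResidueField) (B := S)).toRingHom
  have hover : ∀ y : PrimeSpectrum (p.Fiber S),
      (y.asIdeal.comap (Algebra.TensorProduct.includeRight (R := R) (A := p.ResidueField) (B := S)).toRingHom).LiesOver p :=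
    fun y => ⟨by
      have := congrArg PrimeSpectrum.asIdeal ((PrimeSpectrum.preimageEquivFiber R S ⟨p, inferInstance⟩).symm y).2
      exact this.symm⟩
  haveI : q.LiesOver p := hover x
  obtain ⟨R', S', _, _, _, _, _, _, _, _, p', _, f, hp, hS, hf, -, ⟨U, hU, hqU, hUc⟩, H⟩ :=
    Groth.L20.RG.exists_free_local_ft N p q hx
  haveI := hp.1
  haveI := hS
  refine ⟨PrimeSpectrum.comap (Algebra.TensorProduct.includeRight (R := R) (A := p.ResidueField) (B := S)).toRingHom ⁻¹' U,
    fun y hy => ?_, hU.preimage (PrimeSpectrum.continuous_comap _), hqU⟩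
  obtain ⟨Qs, hQs, hQsq, hQsp⟩ := hUc _ hy (hover y)
  haveI := hQs
  haveI := hQsp
  obtain ⟨A, _, _, _, hA, hAflat, hu⟩ : ∃ (A : Type u) (_ : CommRing A) (_ : IsLocalRing A) (_ : Algebra R' A),
      Groth.L20.RG.TrivRes R' p' (IsLocalRing.maximalIdeal A) ∧ Module.Flat R' A ∧ IsUnit (algebraMap R' A f) :=
    ⟨Localization.AtPrime p', inferInstance, inferInstance, inferInstance, Groth.L20.RG.trivRes_atPrime p',
      IsLocalization.flat _ p'.primeCompl, IsLocalization.map_units _ (⟨f, hf⟩ : p'.primeCompl)⟩
  obtain ⟨C, _, _, _, _, _, _, hpush, Qc, _, hQp, hQq⟩ :=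
    Groth.L20.RG.exists_pushout_point (A := A) p' Qs (IsLocalRing.maximalIdeal A) hA
  haveI := hpush
  letI : Algebra S C := ((algebraMap S' C).comp (algebraMap S S')).toAlgebra
  haveI : IsScalarTower S S' C := IsScalarTower.of_algebraMap_eq' rfl
  haveI : SMulCommClass S A C := ⟨fun s a c => by simp only [Algebra.smul_def]; ring⟩
  haveI := H A hA hu C (TensorProduct S C N) (TensorProduct.mk S C N 1) (TensorProduct.isBaseChange S N C)
  letI : Algebra R A := ((algebraMap R' A).comp (algebraMap R R')).toAlgebra
  haveI : IsScalarTower R R' A := IsScalarTower.of_algebraMap_eq' rfl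
  haveI := hAflat
  haveI : Module.Flat R R' := Algebra.Smooth.flat R R'
  haveI : Module.Flat R A := Module.Flat.trans R R' A
  letI : Algebra R C := ((algebraMap A C).comp (algebraMap R A)).toAlgebra
  haveI : IsScalarTower R A C := IsScalarTower.of_algebraMap_eq' rfl
  haveI : IsScalarTower R S C := IsScalarTower.of_algebraMap_eq fun r => by
    rw [IsScalarTower.algebraMap_apply R A C, IsScalarTower.algebraMap_apply R R' A,
      ← IsScalarTower.algebraMap_apply R' A C, IsScalarTower.algebraMap_apply R' S' C,
      ← IsScalarTower.algebraMap_apply R R' S', IsScalarTower.algebraMap_apply R S S',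
      ← IsScalarTower.algebraMap_apply S S' C]
  haveI : IsScalarTower R A (TensorProduct S C N) := IsScalarTower.of_algebraMap_smul fun r m => by
    rw [← algebraMap_smul C (algebraMap R A r) m, ← IsScalarTower.algebraMap_apply, algebraMap_smul]
  haveI : IsScalarTower R C (TensorProduct S C N) := inferInstance
  haveI : Module.Flat R (TensorProduct S C N) := Module.Flat.trans R A _
  haveI : Module.Flat R (LocalizedModule Qc.primeCompl (TensorProduct S C N)) :=
    Groth.L20.FibreCrit.flat_localizedModule_of_flat Qc.primeCompl
  haveI hpush' : Algebra.IsPushout R' S' A C := Algebra.IsPushout.symm hpush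
  haveI : Module.Flat S' C := Module.Flat.isBaseChange R' S' A C hpush'.out
  haveI : Module.Flat S S' := Algebra.Smooth.flat S S'
  haveI : Module.Flat S C := Module.Flat.trans S S' C
  refine Groth.L20.AboveClosed.flat_of_flat_above (TensorProduct.mk S C N 1) (TensorProduct.isBaseChange S N C) Qc _ ?_
  rw [IsScalarTower.algebraMap_eq S S' C, ← Ideal.comap_comap, ← Ideal.under_def (A := S'), ← hQq.liesOver.over]
  exact hQsq

end Groth.Agent.S1262
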