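import Groth.Statements.S12620
import Mathlib.RingTheory.LaurentSeries
import Mathlib.RingTheory.PowerSeries.Inverse

set_option autoImplicit false
universe u v w
open LocRes

namespace Groth.Agent.S12620

/-- Let `K` be a field with a valuation `w` into `ℤ ∪ {0}` and `φ : K → F((X))` a `k`-algebra expansion
at `w` in a local parameter (valuation-compatible, valuation ring onto the coefficient field `F`,
`w` normalised). Then for every nonzero `f` the residue of the logarithmic differential `f⁻¹ df`
read through `φ` — the `X⁻¹`-coefficient of `φ(f)⁻¹ · (φ f)′` — is the order of `f` at `w` (the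
integer `n` with `w f = exp (-n)`), viewed in `F`. (The published statement is for a complete field
with a perfect coefficient field and its intrinsic residue; read through an expansion neither
completeness nor perfectness plays a role.) -/
theorem result {k : Type u} {K : Type v} {F : Type w} [CommRing k] [Field K] [Field F]
    [Algebra k K] [Algebra k F]
    (w : Valuation K (WithZero (Multiplicative ℤ))) (φ : K →ₐ[k] LaurentSeries F)
    (hφ : LocRes.IsExpansionAt w φ) (f : K) (hf : f ≠ 0) :
    LocRes.resExp φ f⁻¹ f = ((-WithZero.log (w f) : ℤ) : F) := by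
  obtain ⟨hv, -, -⟩ := hφ
  have hg : φ f ≠ 0 := fun h => hf (RingHom.injective φ.toRingHom (h.trans (map_zero φ).symm))
  have hlog : ((-WithZero.log (w f) : ℤ)) = (φ f).order := by
    rw [← hv f]
    have hG : Valued.v ((φ f).powerSeriesPart : LaurentSeries F) = (1 : WithZero (Multiplicative ℤ)) := by
      have h0 : PowerSeries.constantCoeff (φ f).powerSeriesPart ≠ 0 := by
        rw [← PowerSeries.coeff_zero_eq_constantCoeff_apply, LaurentSeries.powerSeriesPart_coeff,
          Nat.cast_zero, add_zero]
        exact fun h => hg (HahnSeries.coeff_order_eq_zero.1 h)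
      have h1 := (LaurentSeries.val_le_one_iff_eq_coe F
        ((φ f).powerSeriesPart : LaurentSeries F)).2 ⟨_, rfl⟩
      have h2 := (LaurentSeries.val_le_one_iff_eq_coe F
        (((φ f).powerSeriesPart)⁻¹ : PowerSeries F)).2 ⟨_, rfl⟩
      refine le_antisymm h1 ?_
      rw [← map_one (Valued.v : Valuation (LaurentSeries F) (WithZero (Multiplicative ℤ))),
        ← PowerSeries.coe_one, ← PowerSeries.mul_inv_cancel _ h0, PowerSeries.coe_mul, map_mul]
      exact mul_le_of_le_one_right' h2
    conv_lhs => rw [← LaurentSeries.single_order_mul_powerSeriesPart (φ f), map_mul, hG, mul_one,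
      LaurentSeries.valuation_single_zpow, WithZero.log_exp, neg_neg]
  rw [hlog]
  have h0 : PowerSeries.constantCoeff (φ f).powerSeriesPart ≠ 0 := by
    rw [← PowerSeries.coeff_zero_eq_constantCoeff_apply, LaurentSeries.powerSeriesPart_coeff,
      Nat.cast_zero, add_zero]
    exact fun h => hg (HahnSeries.coeff_order_eq_zero.1 h)
  unfold LocRes.resExp
  rw [map_inv₀, LocRes.D_apply, LocRes.res_apply]
  generalize hn : (φ f).order = n
  generalize hG : (φ f).powerSeriesPart = G at h0
  have hgeq : φ f = HahnSeries.single n (1 : F) * (G : LaurentSeries F) := by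
    rw [← hn, ← hG, LaurentSeries.single_order_mul_powerSeriesPart]
  have hinv : (φ f)⁻¹ = HahnSeries.single (-n) (1 : F) * ((G⁻¹ : PowerSeries F) : LaurentSeries F) := by
    refine inv_eq_of_mul_eq_one_right ?_
    rw [hgeq, mul_mul_mul_comm, HahnSeries.single_mul_single, add_neg_cancel, mul_one,
      ← PowerSeries.coe_mul, PowerSeries.mul_inv_cancel _ h0, PowerSeries.coe_one, mul_one]
    rfl
  rw [hinv, hgeq, LocRes.derivative_single_mul, LocRes.derivative_coe, mul_add, mul_mul_mul_comm,
    mul_mul_mul_comm (HahnSeries.single (-n) (1 : F)) _ (HahnSeries.single (n - 1) (n • (1 : F))),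
    HahnSeries.single_mul_single, HahnSeries.single_mul_single, neg_add_cancel, mul_one, one_mul,
    ← PowerSeries.coe_mul, ← PowerSeries.coe_mul, PowerSeries.inv_mul_cancel _ h0, PowerSeries.coe_one,
    mul_one, HahnSeries.coeff_add, HahnSeries.coeff_single_mul, show -1 - (0 : ℤ) = -1 by ring,
    PowerSeries.coeff_coe, if_pos (by norm_num), mul_zero, zero_add,
    show -n + (n - 1) = (-1 : ℤ) by ring, HahnSeries.coeff_single_same, zsmul_one]


end Groth.Agent.S12620
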