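import Groth.Statements.S12621
import Mathlib.RingTheory.Localization.AtPrime.Basic
import Mathlib.Algebra.CharP.Algebra
import Mathlib.Algebra.MvPolynomial.CommRing
import Mathlib.Algebra.MvPolynomial.Eval
import Mathlib.RingTheory.MvPolynomial.Basic

set_option autoImplicit false
universe u v w
open LocRes

namespace Groth.Agent.S12621

variable {_unused : Unit}

open HahnSeries

lemma D_zpow {R : Type w} [CommRing R] (U : (LaurentSeries R)ˣ) (n : ℤ) :
    LocRes.D R ((U ^ n : (LaurentSeries R)ˣ) : LaurentSeries R) =
      n • (((U ^ (n - 1) : (LaurentSeries R)ˣ) : LaurentSeries R) * LocRes.D R (U : LaurentSeries R)) := by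
  have step : ∀ i : ℤ, LocRes.D R ((U ^ (i + 1) : (LaurentSeries R)ˣ) : LaurentSeries R) =
      ((U ^ i : (LaurentSeries R)ˣ) : LaurentSeries R) * LocRes.D R (U : LaurentSeries R) +
      (U : LaurentSeries R) * LocRes.D R ((U ^ i : (LaurentSeries R)ˣ) : LaurentSeries R) := by
    intro i
    rw [zpow_add_one, Units.val_mul, Derivation.leibniz, smul_eq_mul, smul_eq_mul]
  have hU : ∀ i : ℤ, (U : LaurentSeries R) * ((U ^ (i - 1) : (LaurentSeries R)ˣ) : LaurentSeries R) =
      ((U ^ i : (LaurentSeries R)ˣ) : LaurentSeries R) := by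
    intro i
    rw [← Units.val_mul, mul_self_zpow]
    congr 2
    ring
  induction n using Int.induction_on with
  | zero => simp [Derivation.map_one_eq_zero]
  | succ n ih =>
    rw [step, ih, mul_smul_comm, ← mul_assoc, hU, add_sub_cancel_right, add_smul, one_smul, add_comm]
  | pred n ih =>
    have h := step (-(n : ℤ) - 1)
    rw [sub_add_cancel, ih] at h
    have h2 : (U : LaurentSeries R) * LocRes.D R ((U ^ (-(n : ℤ) - 1) : (LaurentSeries R)ˣ) : LaurentSeries R)
        = (U : LaurentSeries R) * ((-(n : ℤ) - 1) • (((U ^ (-(n : ℤ) - 1 - 1) : (LaurentSeries R)ˣ) : LaurentSeries R)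
            * LocRes.D R (U : LaurentSeries R))) := by
      rw [mul_smul_comm, ← mul_assoc, hU, sub_smul, one_smul]
      exact eq_sub_of_add_eq ((add_comm _ _).trans h.symm)
    exact U.isUnit.mul_left_cancel h2

/-- Coefficientwise map of Laurent series. -/
noncomputable def lmap {R S : Type w} [CommRing R] [CommRing S] (f : R →+* S) :
    LaurentSeries R →+* LaurentSeries S where
  toFun x := x.map f
  map_one' := by ext n; simp only [HahnSeries.map_coeff, HahnSeries.coeff_one]; split_ifs <;> simp
  map_mul' x y := HahnSeries.map_mul (f : R →ₙ+* S)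
  map_zero' := by ext n; simp
  map_add' x y := by ext n; simp

lemma res_zpow {R F : Type w} [CommRing R] [IsDomain R] [CharZero R] [Field F] (π : R →+* F)
    (U : (LaurentSeries R)ˣ) (n : ℤ) (hn : n ≠ 0) :
    ((lmap π (U : LaurentSeries R)) ^ (n - 1) * LocRes.D F (lmap π (U : LaurentSeries R))).coeff (-1) = 0 := by
  have h := congrArg (fun x : LaurentSeries R => x.coeff (-1)) (D_zpow U n)
  simp only [LocRes.D_coeff, neg_add_cancel, zero_smul, HahnSeries.coeff_smul] at h
  have h0 : (((U ^ (n - 1) : (LaurentSeries R)ˣ) : LaurentSeries R) *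
      LocRes.D R (U : LaurentSeries R)).coeff (-1) = 0 := by
    rw [eq_comm, zsmul_eq_mul, mul_eq_zero] at h
    exact h.resolve_left (Int.cast_ne_zero.2 hn)
  have hD : LocRes.D F (lmap π (U : LaurentSeries R)) = lmap π (LocRes.D R (U : LaurentSeries R)) := by
    ext i
    rw [LocRes.D_coeff]
    show (i + 1) • π _ = π ((LocRes.D R (U : LaurentSeries R)).coeff i)
    rw [LocRes.D_coeff, map_zsmul]
  have hz : (lmap π (U : LaurentSeries R)) ^ (n - 1) = lmap π ((U ^ (n - 1) : (LaurentSeries R)ˣ) : LaurentSeries R) := by
    have := map_zpow (Units.map (lmap π).toMonoidHom) U (n - 1)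
    have := congrArg Units.val this
    rw [Units.val_zpow_eq_zpow_val] at this
    exact this.symm
  rw [hD, hz, ← map_mul]
  show π _ = 0
  rw [h0, map_zero]

lemma res_main (F : Type w) [Field F] (g : LaurentSeries F) (hg : g ≠ 0) (n : ℤ) (hn : n ≠ 0) :
    (g ^ (n - 1) * LocRes.D F g).coeff (-1) = 0 := by
  let π0 : MvPolynomial F ℤ →+* F := MvPolynomial.eval₂Hom (Int.castRingHom F) id
  let p := RingHom.ker π0
  haveI : p.IsPrime := RingHom.ker_isPrime π0
  let R := Localization.AtPrime p
  haveI : IsDomain R := IsLocalization.isDomain_localization (Ideal.primeCompl_le_nonZeroDivisors p)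
  haveI : CharZero R := charZero_of_injective_algebraMap
    (IsLocalization.injective R (Ideal.primeCompl_le_nonZeroDivisors p))
  let π : R →+* F := IsLocalization.lift (M := p.primeCompl) (S := R) (g := π0) fun y =>
    isUnit_iff_ne_zero.2 fun h => y.2 h
  have hs : ∀ c : F, π (algebraMap (MvPolynomial F ℤ) R (MvPolynomial.X c)) = c := fun c => by
    rw [IsLocalization.lift_eq]; simp [π0]
  let u : PowerSeries F := g.powerSeriesPart
  let v : PowerSeries R := PowerSeries.mk fun i => algebraMap (MvPolynomial F ℤ) R (MvPolynomial.X (PowerSeries.coeff i u))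
  have hv : IsUnit v := by
    rw [PowerSeries.isUnit_iff_constantCoeff]
    have hc : MvPolynomial.X (PowerSeries.coeff 0 u) ∈ p.primeCompl := by
      intro h
      have h' : PowerSeries.coeff 0 u = 0 := by simpa [π0] using (RingHom.mem_ker.1 h)
      rw [LaurentSeries.powerSeriesPart_coeff, Nat.cast_zero, add_zero] at h'
      exact HahnSeries.coeff_orderTop_ne (x := g) (g := g.order) (HahnSeries.order_eq_orderTop_of_ne_zero hg).symm h'
    have := IsLocalization.map_units R (⟨_, hc⟩ : p.primeCompl)
    rw [← PowerSeries.coeff_zero_eq_constantCoeff_apply, PowerSeries.coeff_mk]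
    exact this
  have hX : IsUnit (single g.order (1 : R) : LaurentSeries R) :=
    IsUnit.of_mul_eq_one (single (-g.order) (1 : R)) (by rw [single_mul_single, add_neg_cancel, mul_one]; rfl)
  have hU : IsUnit (single g.order (1 : R) * (v : LaurentSeries R)) :=
    hX.mul (hv.map (HahnSeries.ofPowerSeries ℤ R))
  have hg' : lmap π (hU.unit : LaurentSeries R) = g := by
    rw [IsUnit.unit_spec, map_mul]
    conv_rhs => rw [← g.single_order_mul_powerSeriesPart]
    congr 1
    · ext i
      show π _ = _
      simp only [HahnSeries.coeff_single]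
      split_ifs <;> simp
    · ext i
      show π _ = _
      rw [PowerSeries.coeff_coe, PowerSeries.coeff_coe]
      split_ifs with h
      · simp
      · rw [PowerSeries.coeff_mk, hs]
  have := res_zpow π hU.unit n hn
  rwa [hg'] at this

open LocRes in


/-- For a `k`-algebra homomorphism `φ : K → F((X))` from a field into formal Laurent series over a
field, an element `f` of `K` and a nonzero integer `n`, the residue of `f^(n-1) df` read through `φ`
— the `X⁻¹`-coefficient of `φ(f)^(n-1) · (φ f)′` — vanishes, in every characteristic (also when the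
characteristic divides `n`). (The published statement is for the intrinsic residue of a complete
field with a perfect coefficient field; read through an expansion it is this identity of Laurent
series, and no property of `φ` is needed.) -/
theorem result {k : Type u} {K : Type v} {F : Type w} [CommRing k] [Field K] [Field F]
    [Algebra k K] [Algebra k F]
    (φ : K →ₐ[k] LaurentSeries F) (f : K) (n : ℤ) (hn : n ≠ 0) :
    LocRes.resExp φ (f ^ (n - 1)) f = 0 := by
  by_cases hf : f = 0
  · subst hf
    simp [LocRes.resExp]
  · show (φ (f ^ (n - 1)) * LocRes.D F (φ f)).coeff (-1) = 0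
    rw [map_zpow₀]
    exact res_main F (φ f) ((map_ne_zero φ).2 hf) n hn


end Groth.Agent.S12621
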