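import Groth.Statements.S12624
import Groth.Agent.L01.PDiff

set_option autoImplicit false
universe u v
open CAlg

namespace Groth.Agent.S12624

/-- For a perfect field `K` of characteristic `p > 0` and a commutative `K`-algebra `A`, put `δ_i(x) =
x^(p^i - 1) dx` in `Ω_{A/K}` and let the subsets `Σ^i ⊆ Ω_{A/K}` be given by `Σ^0 = {0}` and
`Σ^(i+1) = {δ_i(x) + σ | x ∈ A, σ ∈ Σ^i}`; then each `Σ^i` is the underlying set of a `K`-submodule
of `Ω_{A/K}` (closed under addition and under multiplication by elements of `K`; the latter uses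
that `K` is perfect). -/
theorem result (K : Type u) (A : Type v) [Field K] [PerfectField K] (p : ℕ) [Fact p.Prime] [CharP K p]
    [CommRing A] [Algebra K A] (i : ℕ) :
    ∃ S : Submodule K (Ω[A⁄K]), (S : Set (Ω[A⁄K])) = W4bk4bump814p2.sigma K A p i := by
  refine ⟨{ (Groth.L01.PDiff.G p K A i) with smul_mem' := ?_ }, (Groth.L01.PDiff.sigma_eq p K A i).symm⟩
  intro c ω hω
  change c • ω ∈ Groth.L01.PDiff.G p K A i
  induction hω using AddSubgroup.closure_induction with
  | mem z hz =>
    obtain ⟨j, hj, x, rfl⟩ := Set.mem_iUnion₂.1 hz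
    haveI : ExpChar K p := ExpChar.prime Fact.out
    obtain ⟨e, rfl⟩ : ∃ e : K, e ^ p ^ j = c := by
      refine ⟨(iterateFrobeniusEquiv K p j).symm c, ?_⟩
      rw [← iterateFrobeniusEquiv_def]
      exact (iterateFrobeniusEquiv K p j).apply_symm_apply c
    have h : W4bk4bump814p2.delta K A p j (algebraMap K A e * x) =
        e ^ p ^ j • W4bk4bump814p2.delta K A p j x := by
      rw [Groth.L01.PDiff.delta_mul p K A j (Nat.one_le_pow _ _ (Nat.Prime.pos Fact.out)),
        show W4bk4bump814p2.delta K A p j (algebraMap K A e) = 0 by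
          simp [W4bk4bump814p2.delta], smul_zero, add_zero, ← map_pow, algebraMap_smul]
    rw [← h]
    exact Groth.L01.PDiff.delta_mem p (Finset.mem_range.1 hj) _
  | zero => rw [smul_zero]; exact zero_mem _
  | add a b _ _ ha hb => rw [smul_add]; exact add_mem ha hb
  | neg a _ ha => rw [smul_neg]; exact neg_mem ha

end Groth.Agent.S12624
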