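import Groth.Statements.S12626
import Groth.Agent.L01.PDiff

set_option autoImplicit false
universe u v
open CAlg

namespace Groth.Agent.S12626

/-- For a perfect field `K` of characteristic `p > 0` and a commutative `K`-algebra `A`, put `δ_i(x) =
x^(p^i - 1) dx` in `Ω_{A/K}` and let the subsets `Σ^i ⊆ Ω_{A/K}` be given by `Σ^0 = {0}` and
`Σ^(i+1) = {δ_i(x) + σ | x ∈ A, σ ∈ Σ^i}`; then `Σ^i` is stable under multiplication by `p^i`-th
powers of elements of `A`: for `x ∈ A` and `ω ∈ Σ^i`, `x^(p^i) ω ∈ Σ^i`. This stability is what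
turns the rule `x · [ω] = [x^(p^i) ω]` into an `A`-module structure on the quotient `Ω_{A/K} / Σ^i`
(the row states the stability; that `x ↦ [δ_i(x)]` is then a derivation is a direct computation and
is not restated). -/
theorem result (K : Type u) (A : Type v) [Field K] [PerfectField K] (p : ℕ) [Fact p.Prime] [CharP K p]
    [CommRing A] [Algebra K A] (i : ℕ) (x : A)
    (ω : Ω[A⁄K]) (hω : ω ∈ W4bk4bump814p2.sigma K A p i) :
    (x ^ (p ^ i)) • ω ∈ W4bk4bump814p2.sigma K A p i := by
  rw [Groth.L01.PDiff.sigma_eq] at hω ⊢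
  induction hω using AddSubgroup.closure_induction with
  | mem z hz =>
    obtain ⟨j, hj, y, rfl⟩ := Set.mem_iUnion₂.1 hz
    have hj' : j < i := Finset.mem_range.1 hj
    obtain ⟨m, hm⟩ : ∃ m, i = j + (m + 1) := ⟨i - j - 1, by omega⟩
    have hpA : (p : A) = 0 := by
      rw [← map_natCast (algebraMap K A) p, CharP.cast_eq_zero, map_zero]
    have h0 : W4bk4bump814p2.delta K A p j (x ^ p ^ (m + 1)) = 0 := by
      simp [W4bk4bump814p2.delta, Derivation.leibniz_pow, ← Nat.cast_smul_eq_nsmul A, pow_succ, hpA]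
    have h : W4bk4bump814p2.delta K A p j (x ^ p ^ (m + 1) * y) =
        x ^ p ^ i • W4bk4bump814p2.delta K A p j y := by
      rw [Groth.L01.PDiff.delta_mul p K A j (Nat.one_le_pow _ _ (Nat.Prime.pos Fact.out)), h0,
        smul_zero, add_zero, ← pow_mul, ← pow_add, hm, add_comm j]
    rw [← h]
    exact Groth.L01.PDiff.delta_mem p hj' _
  | zero => rw [smul_zero]; exact zero_mem _
  | add a b _ _ ha hb => rw [smul_add]; exact add_mem ha hb
  | neg a _ ha => rw [smul_neg]; exact neg_mem ha

end Groth.Agent.S12626
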