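import Groth.Statements.S12627
import Groth.Agent.L08.EtaleHom
import Groth.Agent.L08.Centre.Rigid
import Groth.Agent.L08.FibreTranslate
import Groth.Agent.L21.SmoothCurveDim
import Groth.Agent.L23.LocalDimEtale
import Mathlib.AlgebraicGeometry.ZariskisMainTheorem

set_option autoImplicit false
set_option backward.isDefEq.respectTransparency.types false
set_option linter.style.haveILetI false
universe u
open CategoryTheory CategoryTheory.Limits MonoidalCategory CartesianMonoidalCategory MonObj GrpObj AlgebraicGeometry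
open AbVar

namespace Groth.Agent.S12627

/-- Let `k` be an algebraically closed field and `E₁`, `E₂` elliptic curves over `k`, i.e. group schemes
over `Spec k` whose underlying schemes are proper, smooth, integral and one-dimensional. If `φ, φ' :
E₁ → E₂` are homomorphisms with `φ` finite, surjective and étale (a separable isogeny) and `φ'` not
étale (the zero homomorphism or an inseparable isogeny), then their sum under the group law of `E₂`
— the composite of `(φ, φ')` with the multiplication of `E₂` — is finite, surjective and étale, i.e.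
again a separable isogeny. (The published statement is for arbitrary morphisms `φ, φ'` and takes
`φ'` inseparable; this row takes homomorphisms, the case its proof treats — a morphism of elliptic
curves is a homomorphism followed by a translation, which changes neither the hypotheses nor the
conclusion — and allows `φ'` to be the zero map, that case being immediate.) -/
theorem result (k : Type u) [Field k] [IsAlgClosed k]
    (E₁ E₂ : Over (Spec (CommRingCat.of k)))
    [GrpObj E₁] [IsProper E₁.hom] [Smooth E₁.hom] [IsIntegral E₁.left] (hE₁ : topologicalKrullDim E₁.left = 1)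
    [GrpObj E₂] [IsProper E₂.hom] [Smooth E₂.hom] [IsIntegral E₂.left] (hE₂ : topologicalKrullDim E₂.left = 1)
    (φ φ' : E₁ ⟶ E₂) [IsMonHom φ] [IsMonHom φ'] [IsFinite φ.left] [Surjective φ.left] [Etale φ.left]
    (hφ' : ¬ Etale φ'.left) :
    IsFinite (φ * φ').left ∧ Surjective (φ * φ').left ∧ Etale (φ * φ').left := by
  haveI := Groth.L21.SmoothCurve.smoothOfRelativeDimension_one E₁.hom hE₁
  haveI := Groth.L21.SmoothCurve.smoothOfRelativeDimension_one E₂.hom hE₂
  have hΓ : Function.Surjective E₂.hom.appTop.hom := (Groth.L08.FibreTranslate.bijective_appTop E₂ η[E₂]).2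
  have hc := Groth.L08.Centre.central hΓ (𝟙 E₂)
  simp only [Category.comp_id] at hc
  haveI : IsCommMonObj E₂ := ⟨by
    rw [show μ[E₂] = fst E₂ E₂ * snd E₂ E₂ by rw [Hom.mul_def, lift_fst_snd, Category.id_comp],
      MonObj.comp_mul, braiding_hom_fst, braiding_hom_snd]
    exact hc.symm⟩
  haveI : IsMonHom (φ * φ') := by
    refine ⟨?_, ?_⟩
    · rw [MonObj.comp_mul, IsMonHom.one_hom, IsMonHom.one_hom]
      show _ = (η[E₂] : 𝟙_ _ ⟶ E₂)
      rw [← Category.id_comp η[E₂], ← toUnit_unique (toUnit _) (𝟙 _), ← Hom.one_def, _root_.one_mul]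
    · have mulHom : ∀ (ψ : E₁ ⟶ E₂) [IsMonHom ψ], μ[E₁] ≫ ψ = (fst E₁ E₁ ≫ ψ) * (snd E₁ E₁ ≫ ψ) := by
        intro ψ _
        rw [IsMonHom.mul_hom, Hom.mul_def, ← lift_fst_comp_snd_comp]
      rw [MonObj.comp_mul, mulHom φ, mulHom φ', ← lift_fst_comp_snd_comp, ← Hom.mul_def, MonObj.comp_mul,
        MonObj.comp_mul, _root_.mul_mul_mul_comm]
  obtain ⟨t, ht, hne, -⟩ := Groth.L08.EtaleHom.exists_line (G := E₁)
  have h1 : t ≫ φ ≠ 1 := Groth.L08.EtaleHom.ne_one_of_etale φ t ht hne
  have h2 : t ≫ φ' = 1 := by
    by_contra h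
    exact hφ' (Groth.L08.EtaleHom.etale_of_ne_one φ' t ht h)
  haveI hE : Etale (φ * φ').left := Groth.L08.EtaleHom.etale_of_ne_one (φ * φ') t ht
    (by rwa [MonObj.comp_mul, h2, _root_.mul_one])
  haveI : IsProper ((φ * φ').left ≫ E₂.hom) := by rw [Over.w]; infer_instance
  haveI : IsProper (φ * φ').left := IsProper.of_comp (φ * φ').left E₂.hom
  haveI : LocallyQuasiFinite (φ * φ').left := Groth.L23.lqf_of_etale _
  refine ⟨(IsFinite.iff_isProper_and_locallyQuasiFinite _).2 ⟨inferInstance, inferInstance⟩, ⟨?_⟩, hE⟩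
  refine Set.range_eq_univ.1 ?_
  refine IsClopen.eq_univ ⟨(φ * φ').left.isClosedMap.isClosed_range, ?_⟩ (Set.range_nonempty _)
  exact (φ * φ').left.isOpenMap.isOpen_range

end Groth.Agent.S12627
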