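import Groth.Statements.S1263
import Groth.Agent.S1210
import Groth.Agent.L20.RG.FreeNhd

set_option autoImplicit false
universe u
open FlatMor

set_option backward.isDefEq.respectTransparency.types false
namespace Groth.Agent.S1263

/-- Ring form, X = Spec S and S = Spec R affine: let S be a finite type R-algebra and q a prime of S
over p with S_q flat over R. Then there is an étale R-algebra R' with a prime p' over p having the
same residue field such that, writing A for the local ring of R' at p' and S_A for the base change
(any model): some g ∈ S_A outside every prime over both q and the maximal ideal of A has (S_A)_g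
flat and of finite presentation over A. -/
theorem result {R S : Type u} [CommRing R] [CommRing S] [Algebra R S] [Algebra.FiniteType R S]
    (p : Ideal R) [p.IsPrime] (q : Ideal S) [q.IsPrime] [q.LiesOver p] (hflat : Module.Flat R (Localization.AtPrime q)) :
    ∃ (R' : Type u) (_ : CommRing R') (_ : Algebra R R') (p' : Ideal R') (_ : p'.IsPrime), FlatCA.IsEtaleNhd R R' p p' ∧
      ∀ (SA : Type u) [CommRing SA] [Algebra R SA] [Algebra S SA] [Algebra (Localization.AtPrime p') SA]
        [IsScalarTower R S SA] [IsScalarTower R (Localization.AtPrime p') SA]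
        [Algebra.IsPushout R S (Localization.AtPrime p') SA],
        ∃ g : SA, (∀ (Q : Ideal SA) [Q.IsPrime], Q.LiesOver q → Q.LiesOver (IsLocalRing.maximalIdeal (Localization.AtPrime p')) → g ∉ Q) ∧
          Module.Flat (Localization.AtPrime p') (Localization.Away g) ∧
          Algebra.FinitePresentation (Localization.AtPrime p') (Localization.Away g) := by
  obtain ⟨k, φ, hφ⟩ := Algebra.FiniteType.iff_quotient_mvPolynomial''.mp (inferInstance : Algebra.FiniteType R S)
  let P := MvPolynomial (Fin k) R
  letI : Algebra P S := φ.toRingHom.toAlgebra
  haveI : IsScalarTower R P S := IsScalarTower.of_algebraMap_eq' φ.comp_algebraMap.symm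
  haveI : Module.Finite P S := Module.Finite.of_surjective (Algebra.linearMap P S) hφ
  let q₀ := q.comap (algebraMap P S)
  haveI : q₀.LiesOver p := ⟨by
    rw [Ideal.under_def, Ideal.comap_comap, ← IsScalarTower.algebraMap_eq]
    exact Ideal.over_def q p⟩
  have hf0 : FlatCA.FlatAt R q₀ S := by
    rw [Groth.L20.RG.flatAt_iff_of_surjective hφ S q]
    unfold FlatCA.FlatAt
    haveI := hflat
    exact Module.Flat.of_linearEquiv ((IsLocalizedModule.linearEquiv q.primeCompl
      (LocalizedModule.mkLinearMap q.primeCompl S) (Algebra.linearMap S (Localization.AtPrime q))).restrictScalars R)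
  obtain ⟨R', _, _, p', _, hp, H⟩ := Groth.Agent.S1210.result (R := R) (S := P) S p q₀ hf0
  refine ⟨R', inferInstance, inferInstance, p', inferInstance, hp, ?_⟩
  intro SA _ _ _ _ _ _ _
  let A := Localization.AtPrime p'
  letI : Algebra P (TensorProduct R A P) := Algebra.TensorProduct.rightAlgebra
  let PA := TensorProduct R A P
  letI : Algebra P SA := ((algebraMap S SA).comp (algebraMap P S)).toAlgebra
  haveI : IsScalarTower P S SA := IsScalarTower.of_algebraMap_eq' rfl
  haveI : IsScalarTower R P SA := IsScalarTower.of_algebraMap_eq fun r => by
    rw [IsScalarTower.algebraMap_apply P S SA, ← IsScalarTower.algebraMap_apply R P S,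
      ← IsScalarTower.algebraMap_apply R S SA]
  let χ : PA →ₐ[A] SA :=
    Algebra.TensorProduct.lift (Algebra.ofId A SA) (IsScalarTower.toAlgHom R P SA) fun _ _ => Commute.all _ _
  letI : Algebra PA SA := χ.toRingHom.toAlgebra
  haveI : IsScalarTower A PA SA := IsScalarTower.of_algebraMap_eq' χ.comp_algebraMap.symm
  haveI : IsScalarTower P PA SA := IsScalarTower.of_algebraMap_eq fun s => by
    show algebraMap P SA s = χ ((1 : A) ⊗ₜ[R] s)
    erw [Algebra.TensorProduct.lift_tmul, map_one, one_mul]
    rfl
  haveI : IsScalarTower R PA SA := ⟨fun r x y => by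
    show (χ.restrictScalars R) (r • x) * y = r • (χ x * y)
    rw [map_smul, smul_mul_assoc]
    rfl⟩
  haveI h1 : Algebra.IsPushout R P A PA := Algebra.IsPushout.symm inferInstance
  haveI : Algebra.IsPushout P S PA SA := (Algebra.IsPushout.comp_iff R P A PA).mp inferInstance
  have hbc : IsBaseChange PA ((Algebra.linearMap S SA).restrictScalars P) := by
    haveI hsym : Algebra.IsPushout P PA S SA := Algebra.IsPushout.symm inferInstance
    exact hsym.out
  obtain ⟨g₀, hg₀, hfp, hfl⟩ := H PA SA _ hbc
  let g := algebraMap PA SA g₀
  refine ⟨g, fun Q _ hQq hQm hgQ => ?_, ?_, ?_⟩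
  · refine hg₀ (Q.comap (algebraMap PA SA)) ⟨?_⟩ ⟨?_⟩ hgQ
    · show q₀ = _
      rw [Ideal.under_def, Ideal.comap_comap, ← IsScalarTower.algebraMap_eq, IsScalarTower.algebraMap_eq P S SA,
        ← Ideal.comap_comap, ← Ideal.under_def (A := S), ← hQq.over]
    · rw [Ideal.under_def, Ideal.comap_comap, ← IsScalarTower.algebraMap_eq]
      exact hQm.over
  all_goals
    haveI : IsLocalization (Algebra.algebraMapSubmonoid SA (Submonoid.powers g₀)) (Localization.Away g) := by
      rw [show Algebra.algebraMapSubmonoid SA (Submonoid.powers g₀) = Submonoid.powers g from Submonoid.map_powers _ g₀]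
      infer_instance
    haveI : IsLocalizedModule (Submonoid.powers g₀)
        (IsScalarTower.toAlgHom PA SA (Localization.Away g)).toLinearMap :=
      isLocalizedModule_iff_isLocalization.mpr inferInstance
  · let e := IsLocalizedModule.iso (Submonoid.powers g₀) (IsScalarTower.toAlgHom PA SA (Localization.Away g)).toLinearMap
    haveI := hfl
    exact Module.Flat.of_linearEquiv (e.restrictScalars A).symm
  · haveI : Algebra.IsPushout R A P PA := inferInstance
    haveI : Algebra.FinitePresentation A (Localization.Away g₀) := inferInstance
    have hu : IsUnit (algebraMap PA (Localization.Away g) g₀) := by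
      rw [IsScalarTower.algebraMap_apply PA SA (Localization.Away g)]
      exact IsLocalization.Away.algebraMap_isUnit g
    letI : Algebra (Localization.Away g₀) (Localization.Away g) := (IsLocalization.Away.lift g₀ hu).toAlgebra
    haveI : IsScalarTower PA (Localization.Away g₀) (Localization.Away g) :=
      IsScalarTower.of_algebraMap_eq fun x => (IsLocalization.Away.lift_eq g₀ hu x).symm
    haveI : IsScalarTower A (Localization.Away g₀) (Localization.Away g) := IsScalarTower.of_algebraMap_eq fun r => by
      rw [IsScalarTower.algebraMap_apply A PA (Localization.Away g₀), ← IsScalarTower.algebraMap_apply PA,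
        ← IsScalarTower.algebraMap_apply A PA]
    let e : LocalizedModule (Submonoid.powers g₀) SA ≃ₗ[Localization.Away g₀] Localization.Away g :=
      (IsLocalizedModule.iso (Submonoid.powers g₀) (IsScalarTower.toAlgHom PA SA (Localization.Away g)).toLinearMap)
        |>.extendScalarsOfIsLocalization (Submonoid.powers g₀) (Localization.Away g₀)
    haveI := hfp
    haveI : Module.FinitePresentation (Localization.Away g₀) (Localization.Away g) := Module.FinitePresentation.of_equiv e
    exact Algebra.FinitePresentation.trans A (Localization.Away g₀) (Localization.Away g)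

end Groth.Agent.S1263
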