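import Groth.Statements.S12631
import Groth.Agent.L26.Res.Residue

set_option autoImplicit false
universe u v w
open FunFld

namespace Groth.Agent.S12631

open Groth.Agent.Res Groth.Agent.FF

/-- Let `K/k` be a geometric function field of one variable of genus one all of whose places carry a
Laurent expansion over `k` in a local parameter (so every place is separable), and `v ∈ K` with `dv
≠ 0`. Then there is a nonzero `u ∈ K` whose differential `u dv` has divisor zero — the order of
`φ_P(u) · (φ_P v)′` is `0` at every place `P` — and such a `u` is unique up to a factor from `k`.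
(The published statement concerns elliptic curves over algebraically closed fields; this row is the
form for any constant field under the stated separability of all places.) -/
theorem result (k : Type u) (K : Type v) [Field k] [Field K] [Algebra k K]
    (hK : FunFld.IsFunctionField k K) (hg : FunFld.IsGeometric k K) (h1 : FunFld.genus k K = 1)
    (F : FunFld.Place k K → Type w) [∀ P, Field (F P)] [∀ P, Algebra k (F P)] [∀ P, FiniteDimensional k (F P)]
    (φ : ∀ P, K →ₐ[k] LaurentSeries (F P)) (hφ : ∀ P, LocRes.IsExpansionAt P.1 (φ P))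
    (v : K) (hv : KaehlerDifferential.D k K v ≠ 0) :
    (∃ u : K, u ≠ 0 ∧ ∀ P, LocRes.vDiff (φ P) u v = 1) ∧
      ∀ u u' : K, u ≠ 0 → (∀ P, LocRes.vDiff (φ P) u v = 1) → (∀ P, LocRes.vDiff (φ P) u' v = 1) →
        ∃ c : k, u' = c • u := by
  classical
  obtain ⟨-, h0, C, hC, hdiv⟩ := resW_spec hK hg φ hφ one_ne_zero hv
  obtain ⟨hl, hd⟩ := ell_canonical hK ⟨_, h0, hdiv⟩
  rw [h1] at hl hd
  have hne : ∀ P, LocRes.vDiff (φ P) 1 v ≠ 0 := fun P =>
    (vDiff_ne_zero_iff hK hg (hφ P) 1 v).2 ⟨one_ne_zero, hv⟩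
  have hchar : ∀ y : K, y ≠ 0 → ((∀ P, LocRes.vDiff (φ P) y v = 1) ↔ FunFld.div k y + C = 0) := by
    intro y hy
    have e : ∀ P : FunFld.Place k K, LocRes.vDiff (φ P) y v = WithZero.exp (-(P.ord y + C P)) := fun P => by
      rw [hC P, neg_add, WithZero.exp_add, ← vDiff_eq_exp (hne P), ← val_eq_exp P hy, vDiff_eq, vDiff_eq,
        val_map (hφ P), map_one, map_one, one_mul]
    rw [Finsupp.ext_iff]
    refine forall_congr' fun P => ?_
    rw [e, exp_eq_one', Finsupp.add_apply, div_apply hK.1, Finsupp.zero_apply]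
    omega
  have hL : ∀ y : K, y ≠ 0 → (y ∈ FunFld.L C ↔ FunFld.div k y + C = 0) := by
    intro y hy
    rw [mem_L_iff_div hK.1 hy]
    refine ⟨fun h => ?_, fun h => by rw [h]⟩
    by_contra hne'
    obtain ⟨P, hP⟩ := Finsupp.ne_iff.1 hne'
    have hpos : Finsupp.single P (1 : ℤ) ≤ FunFld.div k y + C := fun Q => by
      have := h Q
      rw [Finsupp.zero_apply] at this hP
      rw [Finsupp.single_apply]
      split_ifs with h'
      · subst h'; omega
      · exact this
    have h2 := deg_mono hpos
    rw [deg_single, deg_add, deg_div hK.1, hd] at h2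
    have h3 : (1 : ℤ) ≤ P.deg := by exact_mod_cast one_le_deg hK.1 P
    omega
  obtain ⟨u, hu, hu0⟩ := exists_ne_zero_of_ell_pos (show 0 < FunFld.ell C by omega)
  refine ⟨⟨u, hu0, (hchar u hu0).2 ((hL u hu0).1 hu)⟩, fun w w' hw hwo hwo' => ?_⟩
  have hw'0 : w' ≠ 0 := fun h => by
    obtain ⟨P⟩ := nonempty_place hK
    have := hwo' P
    rw [h, vDiff_eq, map_zero, map_zero, zero_mul] at this
    exact zero_ne_one this
  have hmem : w ∈ FunFld.L C := (hL w hw).2 ((hchar w hw).1 hwo)
  have hmem' : w' ∈ FunFld.L C := (hL w' hw'0).2 ((hchar w' hw'0).1 hwo')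
  obtain ⟨c, hc⟩ := exists_smul_eq_of_finrank_eq_one hl (x := (⟨w, hmem⟩ : FunFld.L C))
    (fun h => hw (congrArg Subtype.val h)) ⟨w', hmem'⟩
  exact ⟨c, (congrArg Subtype.val hc).symm⟩

end Groth.Agent.S12631
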