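import Groth.Statements.S12660
import Groth.Agent.L22.Chern.Compat
-- import your own Groth.Agent.* helpers here

set_option autoImplicit false
universe u
open CategoryTheory CategoryTheory.Limits AlgebraicGeometry
open Cyc

namespace Groth.Agent.S12660

/-- Chern class caps commute with flat pullback: for f : X → Y flat of relative dimension c, E finite
locally free of rank r on Y and α a k-cycle on Y, f^*(c_j(E) ∩ α) = c_j(f^*E) ∩ f^*α in
CH_{k+c-j}(X). Flat pullbacks of cycles are taken coefficientwise (Cyc.pullFun); the caps of f^*E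
are taken through the base-changed bundle P' = X ×_Y P (a cartesian square) with O_{P'}(1) the
pullback of O_P(1) and the induced dimension function on P'. (The published statement writes the
same letter for the rank of E and the relative dimension of f; the two are independent here, as in
its proof.) Setting: (X, δ) with Cyc.IsSetup stands for a scheme locally of finite type over the
base (S, δ) (X locally Noetherian with universally catenary local rings, δ a dimension function); (p
: P → X, O_P(1), q) is the projective bundle of E given by its universal property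
(KRR.IsProjBundle), p is proper and δP is the induced dimension function (Cyc.DeltaCompat); a tuple
γ with Cyc.IsChernCap represents (c_0(E) ∩ α, …, c_r(E) ∩ α) through the defining relation Σ_i
(-1)^i c_1(O_P(1))^i ∩ p^*(γ_{r-i}) ∼_rat 0 on P, and classes are compared up to rational
equivalence of representing cycles. -/
theorem result (X Y : Scheme.{u}) (δX : X → ℤ) (δY : Y → ℤ) (hX : Cyc.IsSetup X δX) (hY : Cyc.IsSetup Y δY) (f : X ⟶ Y) [Flat f] [LocallyOfFiniteType f] (c : ℕ) (hc : Cyc.HasRelDim f c) (hf : Cyc.DeltaCompat f δX δY) (r : ℕ) (E : Y.Modules) (hPE : FlatMod.IsFinLocFreeOfRank r E) (P : Scheme.{u}) (π : P ⟶ Y) (O1 : P.Modules) (q : (Scheme.Modules.pullback π).obj E ⟶ O1) (hP : KRR.IsProjBundle π E O1 q) [IsProper π] (δP : P → ℤ) (hPs : Cyc.IsSetup P δP) (hπ : Cyc.DeltaCompat π δP δY) (P' : Scheme.{u}) (π' : P' ⟶ X) (f' : P' ⟶ P) (hsq : IsPullback f' π' π f) (δP' : P' → ℤ) (hPs' : Cyc.IsSetup P' δP') (hπ' : Cyc.DeltaCompat π' δP' δX) (k : ℤ) (α : AlgebraicCycle Y ℤ) (hα : α ∈ Cyc.Zk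 Y δY k) (αX : AlgebraicCycle X ℤ) (hαX : ⇑αX = Cyc.pullFun f δX δY c ⇑α) (γ : Fin (r + 1) → AlgebraicCycle Y ℤ) (hγ : Cyc.IsChernCap π δY δP O1 r k α γ) (γ' : Fin (r + 1) → AlgebraicCycle X ℤ) (hγ' : Cyc.IsChernCap π' δX δP' ((Scheme.Modules.pullback f').obj O1) r (k + c) αX γ') (β : Fin (r + 1) → AlgebraicCycle X ℤ) (hβ : ∀ j, ⇑(β j) = Cyc.pullFun f δX δY c ⇑(γ j)) (j : Fin (r + 1)) : Cyc.RatEquiv δX (k + c - ((j : ℕ) : ℤ)) (β j) (γ' j) := by
  haveI := hX.1
  haveI := hY.1
  haveI := hPs.1
  haveI := hPs'.1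
  haveI : IsProper π' := MorphismProperty.of_isPullback hsq ‹IsProper π›
  have hrf := Groth.L22.Cyc.shift_of_deltaCompat f hc hf
  have hαX' : αX = Groth.L22.Chern.pullC f hrf α := DFunLike.coe_injective (hαX.trans (Groth.L22.Chern.pullC_coe f hrf α).symm)
  have hβ' : ∀ i, β i = Groth.L22.Chern.pullC f hrf (γ i) := fun i =>
    DFunLike.coe_injective ((hβ i).trans (Groth.L22.Chern.pullC_coe f hrf (γ i)).symm)
  rw [hβ' j]
  cases r with
  | zero =>
    obtain rfl : j = 0 := Subsingleton.elim (α := Fin 1) _ _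
    rw [hγ.1, hγ'.1, hαX']
    show Cyc.RatEquivZero δX _ _
    rw [sub_self]
    exact (Groth.L22.Chern.ratGroup hX.2.2 _).zero_mem
  | succ n =>
    have h1 := Groth.L22.Chern.isChernCap_pull hX.2.2 hY.2.2 hPs.2.2 hPs'.2.2 hP hPE hπ hπ' hsq hc hf hγ
    have hP' := Groth.L22.Bundle.isProjBundle_baseChange q hP hsq
    have hPE' := Groth.L22.Chern.rank_pullback f hPE
    exact Groth.L22.Chern.unique hX.2.2 hPs'.2.2 hπ' (Groth.L22.Bundle.isInvertible_of_one hP'.invertible)
      (Groth.L22.Bundle.delta_of_fibGen hPs'.2.2 hπ' hP' hPE') hP' hPE'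
      (α' := αX) ((Groth.L22.Chern.ratEquiv_iff (hδ := hX.2.2)).2 (by rw [hαX', sub_self]; exact zero_mem _))
      h1 hγ' j

end Groth.Agent.S12660
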