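import Groth.Statements.S12661
import Groth.Agent.L22.Chern.Gysin
-- import your own Groth.Agent.* helpers here

set_option autoImplicit false
universe u
open CategoryTheory CategoryTheory.Limits AlgebraicGeometry
open Cyc

namespace Groth.Agent.S12661

/-- Chern class caps commute with the Gysin map of an effective Cartier divisor: for E finite locally
free of rank r on X, (L, s, i : D → X) with L invertible, s a global section of L and i the closed
immersion of its zero scheme Z(s) (Cyc.IsZeroSchemeOf), and α ∈ CH_k(X): c_j(E|_D) ∩ i^*α =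
i^*(c_j(E) ∩ α) in CH_{k-1-j}(D). The Gysin map i^* : Z_k(X) → CH_{k-1}(D) is computed on
coefficient functions as c_1(L) ∩ - with the rational sections s where s is nonzero and a nonzero
fallback w elsewhere (Cyc.gysinChoice), restricted to the points of D; the caps of E|_D are taken
through P_D = D ×_X P (a cartesian square) with the pullback of O_P(1), D and P_D carrying the
restricted dimension functions. Setting: (X, δ) with Cyc.IsSetup stands for a scheme locally of
finite type over the base (S, δ) (X locally Noetherian with universally catenary local rings, δ a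
dimension function); (p : P → X, O_P(1), q) is the projective bundle of E given by its universal
property (KRR.IsProjBundle), p is proper and δP is the induced dimension function (Cyc.DeltaCompat);
a tuple γ with Cyc.IsChernCap represents (c_0(E) ∩ α, …, c_r(E) ∩ α) through the defining relation
Σ_i (-1)^i c_1(O_P(1))^i ∩ p^*(γ_{r-i}) ∼_rat 0 on P, and classes are compared up to rational
equivalence of representing cycles. -/
theorem result (X : Scheme.{u}) (δ : X → ℤ) (hX : Cyc.IsSetup X δ) (r : ℕ) (E : X.Modules) (hPE : FlatMod.IsFinLocFreeOfRank r E) (P : Scheme.{u}) (p : P ⟶ X) (O1 : P.Modules) (q : (Scheme.Modules.pullback p).obj E ⟶ O1) (hP : KRR.IsProjBundle p E O1 q) [IsProper p] (δP : P → ℤ) (hPs : Cyc.IsSetup P δP) (hδ : Cyc.DeltaCompat p δP δ) (L : X.Modules) (hL : PicF.IsInvertible L) (s : L.presheaf.obj (Opposite.op ⊤)) (D : Scheme.{u}) (i : D ⟶ X) [IsClosedImmersion i] (hD : Cyc.IsZeroSchemeOf i L s) (PD : Scheme.{u}) (pD : PD ⟶ D) (i' : PD ⟶ P) (hsq : IsPullback i' pD p i) (w : (ξ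 : X) → Cyc.secFibre L ξ) (hw : ∀ ξ, w ξ ≠ 0) (k : ℤ) (α : AlgebraicCycle X ℤ) (hα : α ∈ Cyc.Zk X δ k) (γ : Fin (r + 1) → AlgebraicCycle X ℤ) (hγ : Cyc.IsChernCap p δ δP O1 r k α γ) (αD : AlgebraicCycle D ℤ) (hαD : ∀ d, αD d = Cyc.c1CapFun δ L ⇑α (Cyc.gysinChoice L s w) (i d)) (γ' : Fin (r + 1) → AlgebraicCycle D ℤ) (hγ' : Cyc.IsChernCap pD (fun d => δ (i d)) (fun y => δP (i' y)) ((Scheme.Modules.pullback i').obj O1) r (k - 1) αD γ') (ζ : Fin (r + 1) → AlgebraicCycle D ℤ) (hζ : ∀ j d, ζ j d = Cyc.c1CapFun δ L ⇑(γ j) (Cyc.gysinChoice L s w) (i d)) (j : Fin (r + 1)) : Cyc.RatEquiv (fun d => δ (i d)) (k - 1 - ((j : ℕ) : ℤ)) (ζ j) (γ' j) := by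
  haveI := hX.1
  haveI := hPs.1
  haveI : IsLocallyNoetherian D := LocallyOfFiniteType.isLocallyNoetherian i
  haveI : IsClosedImmersion i' := MorphismProperty.of_isPullback hsq.flip ‹IsClosedImmersion i›
  haveI : IsProper pD := MorphismProperty.of_isPullback hsq ‹IsProper p›
  haveI : IsLocallyNoetherian PD := LocallyOfFiniteType.isLocallyNoetherian i'
  haveI : IsLocallyNoetherian (↑(pullback p i) : Scheme.{u}) :=
    LocallyOfFiniteType.isLocallyNoetherian (pullback.fst p i)
  have hdX := hX.2.2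
  have hdP := hPs.2.2
  have hdD := Groth.L22.Cyc.isDimFun_closedImmersion i hdX
  have hαD' : αD = Groth.L22.Chern.gys i hdX hL s hw α := Function.locallyFinsuppWithin.ext fun d => by
    rw [hαD, Groth.L22.Chern.gys_apply]
  have hζ' : ∀ j, ζ j = Groth.L22.Chern.gys i hdX hL s hw (γ j) := fun j => Function.locallyFinsuppWithin.ext fun d => by
    rw [hζ, Groth.L22.Chern.gys_apply]
  rw [hζ' j]
  cases r with
  | zero =>
    obtain rfl : j = 0 := Subsingleton.elim (α := Fin 1) _ _
    rw [hγ.1, hγ'.1, hαD']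
    show Cyc.RatEquivZero _ _ _
    rw [sub_self]
    exact (Groth.L22.Chern.ratGroup hdD _).zero_mem
  | succ n =>
    have hR := Groth.L22.Chern.isChernCap_gysin hdX hdP hδ hP hPE hL s i hD hw hγ
    have hdPD := Groth.L22.Cyc.isDimFun_closedImmersion i' hdP
    have hdR := Groth.L22.Cyc.isDimFun_closedImmersion (pullback.fst p i) hdP
    have hPB' := Groth.L22.Bundle.isProjBundle_baseChange q hP hsq
    have hPR := Groth.L22.Bundle.isProjBundle_baseChange q hP (IsPullback.of_hasPullback p i)
    have hE' := Groth.L22.Chern.rank_pullback i hPE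
    have hcl := Groth.L22.C1.deltaCompat_closedImmersion i δ
    have hδ' : Cyc.DeltaCompat pD (fun y => δP (i' y)) fun d => δ (i d) :=
      Groth.L22.Bundle.deltaCompat_cancel pD i (hsq.w ▸ Groth.L22.Bundle.deltaCompat_comp i' p hδ) hcl
    have hδR : Cyc.DeltaCompat (pullback.snd p i) (fun z => δP (pullback.fst p i z)) fun d => δ (i d) :=
      Groth.L22.Bundle.deltaCompat_cancel (pullback.snd p i) i
        (pullback.condition (f := p) (g := i) ▸ Groth.L22.Bundle.deltaCompat_comp (pullback.fst p i) p hδ) hcl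
    let e := hsq.isoPullback
    have he1 : e.hom ≫ pullback.fst p i = i' := hsq.isoPullback_hom_fst
    have he2 : e.hom ≫ pullback.snd p i = pD := hsq.isoPullback_hom_snd
    have hsq' : IsPullback e.hom pD (pullback.snd p i) (𝟙 D) :=
      IsPullback.of_horiz_isIso ⟨by rw [he2, Category.comp_id]⟩
    have hid : Cyc.DeltaCompat (𝟙 D) (fun d => δ (i d)) fun d => δ (i d) := fun d => ⟨0,
      (Groth.L22.Bundle.rtrdeg_eq_zero (𝟙 D) d).trans Nat.cast_zero.symm, by simp⟩
    have hrd : Cyc.HasRelDim (𝟙 D) 0 := Groth.L22.Cyc.hasRelDim_of_rtrdeg _ fun x _ => by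
      rw [Groth.L22.Bundle.rtrdeg_eq_zero, Nat.cast_zero]
    have h := Groth.L22.Chern.isChernCap_pull hdD hdD hdR hdPD hPR hE' hδR hδ' hsq' hrd hid hR
    have hpid : ∀ A : AlgebraicCycle D ℤ,
        Groth.L22.Chern.pullC (𝟙 D) (Groth.L22.Cyc.shift_of_deltaCompat (𝟙 D) hrd hid) A = A := fun A =>
      Function.locallyFinsuppWithin.ext fun d => by
        rw [Groth.L22.Chern.pullC_apply, Groth.L22.Bundle.mult_openImmersion (𝟙 D) d]
        simp
    simp only [hpid] at h
    rw [show (k - 1 : ℤ) + ((0 : ℕ) : ℤ) = k - 1 by simp] at h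
    have hpD : Groth.L22.Chern.Shift pD (fun y => δP (i' y)) (fun d => δ (i d)) (n : ℤ) :=
      Groth.L22.Bundle.delta_of_fibGen hdPD hδ' hPB' hE'
    have hO := Groth.L22.Bundle.isInvertible_of_one hP.invertible
    have hM := Groth.L22.Bundle.isInvertible_of_one hPB'.invertible
    have h' := Groth.L22.Chern.isChernCap_iso hdPD hpD
      ((Scheme.Modules.pullbackComp e.hom (pullback.fst p i)).app O1 ≪≫ (Scheme.Modules.pullbackCongr he1).app O1)
      (Groth.L18.Ample.isInvertible_pullback e.hom (Groth.L18.Ample.isInvertible_pullback _ hO)) hM h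
    exact Groth.L22.Chern.unique hdD hdPD hδ' hM hpD hPB' hE' (α' := αD)
      ((Groth.L22.Chern.ratEquiv_iff (hδ := hdD)).2 (by rw [hαD', sub_self]; exact zero_mem _)) h' hγ' j

end Groth.Agent.S12661
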