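import Groth.Statements.S12663
import Groth.Agent.L22.Chern.Snoc
-- import your own Groth.Agent.* helpers here

set_option autoImplicit false
universe u
open CategoryTheory CategoryTheory.Limits AlgebraicGeometry
open Cyc

namespace Groth.Agent.S12663

/-- If E, F are finite locally free of ranks m + 1, m on X sitting in a short exact sequence 0 → O_X → E
→ F → 0, then c_{m+1}(E) = 0 and c_j(E) = c_j(F) for j = 0, …, m, as cap operations: for every
k-cycle α, c_{m+1}(E) ∩ α ∼_rat 0 and c_j(E) ∩ α ∼_rat c_j(F) ∩ α. Setting: (X, δ) with Cyc.IsSetup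
stands for a scheme locally of finite type over the base (S, δ) (X locally Noetherian with
universally catenary local rings, δ a dimension function); (p : P → X, O_P(1), q) is the projective
bundle of E given by its universal property (KRR.IsProjBundle), p is proper and δP is the induced
dimension function (Cyc.DeltaCompat); a tuple γ with Cyc.IsChernCap represents (c_0(E) ∩ α, …,
c_r(E) ∩ α) through the defining relation Σ_i (-1)^i c_1(O_P(1))^i ∩ p^*(γ_{r-i}) ∼_rat 0 on P, and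
classes are compared up to rational equivalence of representing cycles. -/
theorem result (X : Scheme.{u}) (δ : X → ℤ) (hX : Cyc.IsSetup X δ) (m : ℕ) (E : X.Modules) (hPE : FlatMod.IsFinLocFreeOfRank (m + 1) E) (P : Scheme.{u}) (p : P ⟶ X) (O1 : P.Modules) (q : (Scheme.Modules.pullback p).obj E ⟶ O1) (hP : KRR.IsProjBundle p E O1 q) [IsProper p] (δP : P → ℤ) (hPs : Cyc.IsSetup P δP) (hδ : Cyc.DeltaCompat p δP δ) (F : X.Modules) (hQE : FlatMod.IsFinLocFreeOfRank m F) (Q : Scheme.{u}) (p' : Q ⟶ X) (O1' : Q.Modules) (q' : (Scheme.Modules.pullback p').obj F ⟶ O1') (hQ : KRR.IsProjBundle p' F O1' q') [IsProper p'] (δQ : Q → ℤ) (hQs : Cyc.IsSetup Q δQ) (hδ' : Cyc.DeltaCompat p' δQ δ) (a : Coh.structureModule X ⟶ E) (b : E ⟶ F) (hab : a ≫ b = 0) (hex : (ShortComplex.mk a b hab).ShortExact) (k : ℤ) (α : AlgebraicCycle X ℤ) (hα : α ∈ Cyc.Zk X δ k) (γ : Fin (m + 2) → AlgebraicCycle X ℤ) (hγ : Cyc.IsChernCap p δ δP O1 (m + 1) k α γ) (γ' : Fin (m + 1) → AlgebraicCycle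 X ℤ) (hγ' : Cyc.IsChernCap p' δ δQ O1' m k α γ') : Cyc.RatEquivZero δ (k - ((m : ℤ) + 1)) (γ (Fin.last (m + 1))) ∧ ∀ j : Fin (m + 1), Cyc.RatEquiv δ (k - ((j : ℕ) : ℤ)) (γ (Fin.castSucc j)) (γ' j) := by
  haveI := hX.1
  haveI := hPs.1
  have hp := Groth.L22.Bundle.delta_of_fibGen hPs.2.2 hδ hP hPE
  have hLI := Groth.L22.Bundle.isInvertible_of_one hP.invertible
  obtain ⟨γs, hγs⟩ : ∃ γs : Fin (m + 1) → AlgebraicCycle X ℤ,
      Cyc.IsChernCap p δ δP O1 (m + 1) k α (Fin.snoc γs (0 : AlgebraicCycle X ℤ)) ∧ γs = γ' := by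
    cases m with
    | zero =>
      refine ⟨fun _ => α, Groth.L22.Chern.isChernCap_snoc_zero hP hQ a b hab hex hPE hQE hX hPs hδ hα,
        funext fun j => ?_⟩
      obtain rfl : j = 0 := Subsingleton.elim (α := Fin 1) _ _
      exact hγ'.1.symm
    | succ n => exact ⟨γ', Groth.L22.Chern.isChernCap_snoc hP hQ a b hab hex hPE hQE hX hPs hQs hδ hδ' hγ', rfl⟩
  obtain ⟨hγs, rfl⟩ := hγs
  have hu := fun j => Groth.L22.Chern.unique hX.2.2 hPs.2.2 hδ hLI hp hP hPE
    ((Groth.L22.Chern.ratEquiv_iff (hδ := hX.2.2)).2 (by rw [sub_self]; exact zero_mem _)) hγ hγs j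
  refine ⟨?_, fun j => ?_⟩
  · have h := hu (Fin.last (m + 1))
    rw [Fin.snoc_last, sub_zero, Fin.val_last, Nat.cast_add, Nat.cast_one] at h
    exact h
  · have h := hu (Fin.castSucc j)
    rw [Fin.snoc_castSucc, Fin.val_castSucc] at h
    exact h


end Groth.Agent.S12663
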