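import Groth.Statements.S12665
import Groth.Agent.L22.Chern.Whitney
-- import your own Groth.Agent.* helpers here

set_option autoImplicit false
universe u
open CategoryTheory CategoryTheory.Limits AlgebraicGeometry
open Cyc

namespace Groth.Agent.S12665

/-- For a short exact sequence 0 → E₁ → E → E₂ → 0 of finite locally free modules of ranks r₁, r₁ + r₂,
r₂ on X, c(E) = c(E₁) c(E₂), that is c_j(E) ∩ α ∼_rat Σ_{a+b=j} c_a(E₁) ∩ (c_b(E₂) ∩ α) for every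
k-cycle α and every j; the inner caps are represented by a tuple for E₂ over α and, for each of its
components, a tuple for E₁ over it. Setting: (X, δ) with Cyc.IsSetup stands for a scheme locally of
finite type over the base (S, δ) (X locally Noetherian with universally catenary local rings, δ a
dimension function); (p : P → X, O_P(1), q) is the projective bundle of E given by its universal
property (KRR.IsProjBundle), p is proper and δP is the induced dimension function (Cyc.DeltaCompat);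
a tuple γ with Cyc.IsChernCap represents (c_0(E) ∩ α, …, c_r(E) ∩ α) through the defining relation
Σ_i (-1)^i c_1(O_P(1))^i ∩ p^*(γ_{r-i}) ∼_rat 0 on P, and classes are compared up to rational
equivalence of representing cycles. -/
theorem result (X : Scheme.{u}) (δ : X → ℤ) (hX : Cyc.IsSetup X δ) (r₁ r₂ : ℕ) (E₁ : X.Modules) (hP₁E : FlatMod.IsFinLocFreeOfRank r₁ E₁) (P₁ : Scheme.{u}) (p₁ : P₁ ⟶ X) (O₁ : P₁.Modules) (q₁ : (Scheme.Modules.pullback p₁).obj E₁ ⟶ O₁) (hP₁ : KRR.IsProjBundle p₁ E₁ O₁ q₁) [IsProper p₁] (δ₁ : P₁ → ℤ) (hP₁s : Cyc.IsSetup P₁ δ₁) (hδ₁ : Cyc.DeltaCompat p₁ δ₁ δ) (E : X.Modules) (hPE : FlatMod.IsFinLocFreeOfRank (r₁ + r₂) E) (P : Scheme.{u}) (p : P ⟶ X) (O1 : P.Modules) (q : (Scheme.Modules.pullback p).obj E ⟶ O1) (hP : KRR.IsProjBundle p E O1 q) [IsProper p] (δP : P → ℤ) (hPs : Cyc.IsSetup P δP) (hδ : Cyc.DeltaCompat p δP δ) (E₂ : X.Modules) (hP₂E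 : FlatMod.IsFinLocFreeOfRank r₂ E₂) (P₂ : Scheme.{u}) (p₂ : P₂ ⟶ X) (O₂ : P₂.Modules) (q₂ : (Scheme.Modules.pullback p₂).obj E₂ ⟶ O₂) (hP₂ : KRR.IsProjBundle p₂ E₂ O₂ q₂) [IsProper p₂] (δ₂ : P₂ → ℤ) (hP₂s : Cyc.IsSetup P₂ δ₂) (hδ₂ : Cyc.DeltaCompat p₂ δ₂ δ) (a : E₁ ⟶ E) (b : E ⟶ E₂) (hab : a ≫ b = 0) (hex : (ShortComplex.mk a b hab).ShortExact) (k : ℤ) (α : AlgebraicCycle X ℤ) (hα : α ∈ Cyc.Zk X δ k) (γ₂ : Fin (r₂ + 1) → AlgebraicCycle X ℤ) (hγ₂ : Cyc.IsChernCap p₂ δ δ₂ O₂ r₂ k α γ₂) (ε : Fin (r₂ + 1) → Fin (r₁ + 1) → AlgebraicCycle X ℤ) (hε : ∀ b : Fin (r₂ + 1), Cyc.IsChernCap p₁ δ δ₁ O₁ r₁ (k - ((b : ℕ) : ℤ)) (γ₂ b) (ε b)) (γ : Fin (r₁ + r₂ + 1) → AlgebraicCycle X ℤ) (hγ : Cyc.IsChernCap p δ δP O1 (r₁ + r₂) k α γ) (j : Fin (r₁ + r₂ + 1)) : Cyc.RatEquiv δ (k - ((j : ℕ) : ℤ)) (γ j) (∑ a : Fin (r₁ + 1), ∑ b : Fin (r₂ + 1), if (a : ℕ) + (b : ℕ) = (j : ℕ) then ε b a else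 0) := by
  haveI := hX.1
  have hz : ∀ (a : Fin (r₁ + 1)) (b : Fin (r₂ + 1)), (if (a : ℕ) + (b : ℕ) = (j : ℕ) then ε b a else 0) ∈ Cyc.Zk X δ (k - ((j : ℕ) : ℤ)) := fun a b => by
    split_ifs with h
    · have := (hε b).2.1 a
      rwa [show k - ((b : ℕ) : ℤ) - ((a : ℕ) : ℤ) = k - ((j : ℕ) : ℤ) by rw [← h]; push_cast; ring] at this
    · exact (ChowOps.zk X δ _).zero_mem
  have hm : ∀ a : Fin (r₁ + 1), (∑ b : Fin (r₂ + 1), if (a : ℕ) + (b : ℕ) = (j : ℕ) then ε b a else 0) ∈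
      Cyc.Zk X δ (k - ((j : ℕ) : ℤ)) := fun a => (ChowOps.zk X δ _).sum_mem fun b _ => hz a b
  refine (Groth.L22.Chern.ratEquiv_iff (hδ := hX.2.2)).2 (Groth.L22.Chern.rat_of_emb_eq hX.2.2 (hγ.2.1 j)
    ((ChowOps.zk X δ _).sum_mem fun a _ => hm a) ?_)
  rw [← Groth.L22.Chern.C_emb hX hPE hP hδ hα hγ j, Groth.L22.Chern.C_whitney hX hP₁E hP₂E hPE a b hab hex,
    Groth.L22.Chern.emb_sum _ (fun a _ => hm a)]
  simp only [Groth.L22.Chern.emb_sum _ (fun b _ => hz _ b)]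
  let F : ℕ × ℕ → Groth.L22.Chern.Tot X δ := fun p =>
    Groth.L22.Chern.C hX hP₁E p.1 (Groth.L22.Chern.C hX hP₂E p.2 (Groth.L22.Chern.emb δ k α))
  have hterm : ∀ (a : Fin (r₁ + 1)) (b : Fin (r₂ + 1)),
      Groth.L22.Chern.emb δ (k - ((j : ℕ) : ℤ)) (if (a : ℕ) + (b : ℕ) = (j : ℕ) then ε b a else 0) =
        if (a : ℕ) + (b : ℕ) = (j : ℕ) then F ((a : ℕ), (b : ℕ)) else 0 := fun a b => by
    split_ifs with h
    · show _ = Groth.L22.Chern.C hX hP₁E a (Groth.L22.Chern.C hX hP₂E b (Groth.L22.Chern.emb δ k α))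
      rw [Groth.L22.Chern.C_emb hX hP₂E hP₂ hδ₂ hα hγ₂ b,
        Groth.L22.Chern.C_emb hX hP₁E hP₁ hδ₁ (hγ₂.2.1 b) (hε b) a,
        show k - ((b : ℕ) : ℤ) - ((a : ℕ) : ℤ) = k - ((j : ℕ) : ℤ) by rw [← h]; push_cast; ring]
    · exact Groth.L22.Chern.emb_zero _
  simp only [hterm]
  rw [Fin.sum_univ_eq_sum_range (fun a : ℕ => ∑ b : Fin (r₂ + 1), if a + (b : ℕ) = (j : ℕ) then F (a, (b : ℕ)) else 0)]
  simp only [fun a : ℕ => Fin.sum_univ_eq_sum_range (fun b : ℕ => if a + b = (j : ℕ) then F (a, b) else 0) (r₂ + 1)]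
  rw [← Finset.sum_product', ← Finset.sum_filter]
  refine (AddMonoidHom.finsetSum_apply _ _ _).trans (Finset.sum_subset (fun p hp => ?_) fun p hp hp' => ?_).symm
  · simpa using (Finset.mem_filter.1 hp).2
  · have hpj : p.1 + p.2 = (j : ℕ) := by simpa using hp
    have : r₁ < p.1 ∨ r₂ < p.2 := by
      by_contra hc
      push Not at hc
      exact hp' (Finset.mem_filter.2 ⟨Finset.mem_product.2 ⟨Finset.mem_range.2 (by omega), Finset.mem_range.2 (by omega)⟩, hpj⟩)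
    rcases this with h | h
    · show Groth.L22.Chern.C hX hP₁E p.1 _ = 0
      rw [Groth.L22.Chern.C_of_lt hX hP₁E h]; rfl
    · show Groth.L22.Chern.C hX hP₁E p.1 (Groth.L22.Chern.C hX hP₂E p.2 _) = 0
      rw [Groth.L22.Chern.C_of_lt hX hP₂E h]; exact map_zero _

end Groth.Agent.S12665
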