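import Groth.Statements.S12666
import Groth.Agent.L22.Chern.Tensor
-- import your own Groth.Agent.* helpers here

set_option autoImplicit false
universe u
open CategoryTheory CategoryTheory.Limits AlgebraicGeometry
open Cyc

namespace Groth.Agent.S12666

/-- For E finite locally free of rank r and L invertible on X, c_i(E ⊗ L) = Σ_{j=0}^{i} C(r-i+j, j)
c_{i-j}(E) c_1(L)^j for i ≤ r, as cap operations on every k-cycle α: c_i(E ⊗ L) ∩ α ∼_rat Σ_j
C(r-i+j, j) c_1(L)^j ∩ (c_{i-j}(E) ∩ α), where c_1(L)^j ∩ - is the j-fold iterated cap on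
coefficient functions with any nonzero rational sections (Cyc.c1PowFun) and E ⊗ L is the tensor
product of O_X-modules (CohB1.tensorMod). Setting: (X, δ) with Cyc.IsSetup stands for a scheme
locally of finite type over the base (S, δ) (X locally Noetherian with universally catenary local
rings, δ a dimension function); (p : P → X, O_P(1), q) is the projective bundle of E given by its
universal property (KRR.IsProjBundle), p is proper and δP is the induced dimension function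
(Cyc.DeltaCompat); a tuple γ with Cyc.IsChernCap represents (c_0(E) ∩ α, …, c_r(E) ∩ α) through the
defining relation Σ_i (-1)^i c_1(O_P(1))^i ∩ p^*(γ_{r-i}) ∼_rat 0 on P, and classes are compared up
to rational equivalence of representing cycles. -/
theorem result (X : Scheme.{u}) (δ : X → ℤ) (hX : Cyc.IsSetup X δ) (r : ℕ) (E : X.Modules) (hPE : FlatMod.IsFinLocFreeOfRank r E) (P : Scheme.{u}) (p : P ⟶ X) (O1 : P.Modules) (q : (Scheme.Modules.pullback p).obj E ⟶ O1) (hP : KRR.IsProjBundle p E O1 q) [IsProper p] (δP : P → ℤ) (hPs : Cyc.IsSetup P δP) (hδ : Cyc.DeltaCompat p δP δ) (L : X.Modules) (hL : PicF.IsInvertible L) (hP'E : FlatMod.IsFinLocFreeOfRank r (CohB1.tensorMod E L)) (P' : Scheme.{u}) (p' : P' ⟶ X) (O1' : P'.Modules) (q' : (Scheme.Modules.pullback p').obj (CohB1.tensorMod E L) ⟶ O1') (hP' : KRR.IsProjBundle p' (CohB1.tensorMod E L) O1' q') [IsProper p'] (δP' : P' → ℤ) (hPs' : Cyc.IsSetup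 P' δP') (hδ' : Cyc.DeltaCompat p' δP' δ) (k : ℤ) (α : AlgebraicCycle X ℤ) (hα : α ∈ Cyc.Zk X δ k) (γ : Fin (r + 1) → AlgebraicCycle X ℤ) (hγ : Cyc.IsChernCap p δ δP O1 r k α γ) (γ' : Fin (r + 1) → AlgebraicCycle X ℤ) (hγ' : Cyc.IsChernCap p' δ δP' O1' r k α γ') (t : ℕ → (ξ : X) → Cyc.secFibre L ξ) (ht : ∀ m ξ, t m ξ ≠ 0) (i : Fin (r + 1)) (ζ : Fin (r + 1) → AlgebraicCycle X ℤ) (hζ : ∀ j : Fin (r + 1), (j : ℕ) ≤ (i : ℕ) → ⇑(ζ j) = Cyc.c1PowFun δ L t j ⇑(γ ⟨(i : ℕ) - (j : ℕ), Nat.lt_of_le_of_lt (Nat.sub_le _ _) i.isLt⟩)) : Cyc.RatEquiv δ (k - ((i : ℕ) : ℤ)) (γ' i) (∑ j : Fin (r + 1), if (j : ℕ) ≤ (i : ℕ) then ((Nat.choose (r - i + j) j : ℕ) : ℤ) • ζ j else 0) := by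
  haveI := hX.1
  haveI := hPs.1
  haveI := hPs'.1
  refine (Groth.L22.Chern.ratEquiv_iff (hδ := hX.2.2)).2 ?_
  have hζ' : ∀ (j : Fin (r + 1)) (h : (j : ℕ) ≤ (i : ℕ)), ζ j = Groth.L22.Chern.cap hX.2.2 hL ht j
      (γ ⟨(i : ℕ) - (j : ℕ), Nat.lt_of_le_of_lt (Nat.sub_le _ _) i.isLt⟩) := fun j h =>
    DFunLike.coe_injective ((hζ j h).trans (Groth.L22.Chern.cap_coe _ _ _ _ _).symm)
  cases r with
  | zero =>
    obtain rfl : i = 0 := Subsingleton.elim (α := Fin 1) _ _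
    rw [Fin.sum_univ_one]
    simp only [Fin.val_zero, le_refl, if_true]
    rw [hζ' 0 le_rfl, hγ'.1]
    simp [Groth.L22.Chern.cap_zero, show γ ⟨0, Nat.zero_lt_one⟩ = α from hγ.1, show γ 0 = α from hγ.1]
  | succ n =>
    have h := Groth.L22.Chern.unique hX.2.2 hPs'.2.2 hδ' (Groth.L22.Bundle.isInvertible_of_one hP'.invertible)
      (Groth.L22.Bundle.delta_of_fibGen hPs'.2.2 hδ' hP' hP'E) hP' hP'E (α := α) (α' := α)
      ((Groth.L22.Chern.ratEquiv_iff (hδ := hX.2.2)).2 (by rw [sub_self]; exact zero_mem _)) hγ'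
      (Groth.L22.Chern.isChernCap_twist hX hPE hP'E hL (Iso.refl _) hP hP' hδ hδ' (ht 0) hγ) i
    have h2 : (∑ j ∈ Finset.range ((i : ℕ) + 1), ((n + 1 - (i : ℕ) + j).choose j : ℤ) •
        Groth.L22.Chern.pw hX.2.2 hL (ht 0) j (γ ⟨(i : ℕ) - j, by omega⟩)) -
        (∑ j : Fin (n + 1 + 1), if (j : ℕ) ≤ (i : ℕ) then ((Nat.choose (n + 1 - (i : ℕ) + (j : ℕ)) (j : ℕ) : ℕ) : ℤ) • ζ j else 0) ∈
        Groth.L22.Chern.ratGroup hX.2.2 (k - ((i : ℕ) : ℤ)) := by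
      rw [show (∑ j ∈ Finset.range ((i : ℕ) + 1), ((n + 1 - (i : ℕ) + j).choose j : ℤ) •
        Groth.L22.Chern.pw hX.2.2 hL (ht 0) j (γ ⟨(i : ℕ) - j, by omega⟩)) =
        ∑ j : Fin (n + 1 + 1), if (j : ℕ) ≤ (i : ℕ) then ((n + 1 - (i : ℕ) + (j : ℕ)).choose (j : ℕ) : ℤ) •
          Groth.L22.Chern.pw hX.2.2 hL (ht 0) j (γ ⟨(i : ℕ) - j, by omega⟩) else 0 by
        rw [Fin.sum_univ_eq_sum_range (fun j : ℕ => if j ≤ (i : ℕ) then ((n + 1 - (i : ℕ) + j).choose j : ℤ) •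
          Groth.L22.Chern.pw hX.2.2 hL (ht 0) j (γ ⟨(i : ℕ) - j, by omega⟩) else 0) (n + 1 + 1), ← Finset.sum_filter]
        refine Finset.sum_congr ?_ fun _ _ => rfl
        ext j
        simp only [Finset.mem_range, Finset.mem_filter]
        omega, ← Finset.sum_sub_distrib]
      refine sum_mem fun j _ => ?_
      by_cases hji : (j : ℕ) ≤ (i : ℕ)
      · rw [if_pos hji, if_pos hji, ← smul_sub, hζ' j hji]
        refine zsmul_mem ?_ _
        have h3 := Groth.L22.Chern.cap_change hX.2.2 hL (t := fun _ => t 0) (fun _ => ht 0) ht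
          (hγ.2.1 ⟨(i : ℕ) - (j : ℕ), by omega⟩) (j : ℕ)
        rwa [show k - (((i : ℕ) - (j : ℕ) : ℕ) : ℤ) - ((j : ℕ) : ℤ) = k - ((i : ℕ) : ℤ) by omega] at h3
      · rw [if_neg hji, if_neg hji, sub_self]
        exact zero_mem _
    simpa using add_mem h h2

end Groth.Agent.S12666
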