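import Groth.Statements.S12668
import Groth.Agent.L22.Chern.TensorClass
-- import your own Groth.Agent.* helpers here

set_option autoImplicit false
universe u
open CategoryTheory CategoryTheory.Limits AlgebraicGeometry
open Cyc

namespace Groth.Agent.S12668

/-- For E, F finite locally free of ranks r, s on X, c_1(E ⊗ F) = r c_1(F) + s c_1(E), as cap operations
on every k-cycle α; E ⊗ F is the tensor product of O_X-modules (CohB1.tensorMod), of rank rs, and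
enters through its own projective bundle. Stated for r, s ≥ 1. Setting: (X, δ) with Cyc.IsSetup
stands for a scheme locally of finite type over the base (S, δ) (X locally Noetherian with
universally catenary local rings, δ a dimension function); (p : P → X, O_P(1), q) is the projective
bundle of E given by its universal property (KRR.IsProjBundle), p is proper and δP is the induced
dimension function (Cyc.DeltaCompat); a tuple γ with Cyc.IsChernCap represents (c_0(E) ∩ α, …,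
c_r(E) ∩ α) through the defining relation Σ_i (-1)^i c_1(O_P(1))^i ∩ p^*(γ_{r-i}) ∼_rat 0 on P, and
classes are compared up to rational equivalence of representing cycles. -/
theorem result (X : Scheme.{u}) (δ : X → ℤ) (hX : Cyc.IsSetup X δ) (r s : ℕ) (hr : 1 ≤ r) (hs : 1 ≤ s) (E : X.Modules) (hPE : FlatMod.IsFinLocFreeOfRank r E) (P : Scheme.{u}) (p : P ⟶ X) (O1 : P.Modules) (q : (Scheme.Modules.pullback p).obj E ⟶ O1) (hP : KRR.IsProjBundle p E O1 q) [IsProper p] (δP : P → ℤ) (hPs : Cyc.IsSetup P δP) (hδ : Cyc.DeltaCompat p δP δ) (F : X.Modules) (hQE : FlatMod.IsFinLocFreeOfRank s F) (Q : Scheme.{u}) (p' : Q ⟶ X) (O1' : Q.Modules) (q' : (Scheme.Modules.pullback p').obj F ⟶ O1') (hQ : KRR.IsProjBundle p' F O1' q') [IsProper p'] (δQ : Q → ℤ) (hQs : Cyc.IsSetup Q δQ) (hδ' : Cyc.DeltaCompat p' δQ δ) (hTE : FlatMod.IsFinLocFreeOfRank (r * s) (CohB1.tensorMod E F)) (T : Scheme.{u}) (p''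 : T ⟶ X) (O1'' : T.Modules) (q'' : (Scheme.Modules.pullback p'').obj (CohB1.tensorMod E F) ⟶ O1'') (hT : KRR.IsProjBundle p'' (CohB1.tensorMod E F) O1'' q'') [IsProper p''] (δT : T → ℤ) (hTs : Cyc.IsSetup T δT) (hδ'' : Cyc.DeltaCompat p'' δT δ) (k : ℤ) (α : AlgebraicCycle X ℤ) (hα : α ∈ Cyc.Zk X δ k) (ε : Fin (r + 1) → AlgebraicCycle X ℤ) (hε : Cyc.IsChernCap p δ δP O1 r k α ε) (φ : Fin (s + 1) → AlgebraicCycle X ℤ) (hφ : Cyc.IsChernCap p' δ δQ O1' s k α φ) (τ : Fin (r * s + 1) → AlgebraicCycle X ℤ) (hτ : Cyc.IsChernCap p'' δ δT O1'' (r * s) k α τ) : Cyc.RatEquiv δ (k - 1) (τ ⟨1, Nat.lt_succ_of_le (Nat.mul_pos hr hs)⟩) (((r : ℕ) : ℤ) • φ ⟨1, Nat.lt_succ_of_le hs⟩ + ((s : ℕ) : ℤ) • ε ⟨1, Nat.lt_succ_of_le hr⟩) := by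
  haveI := hX.1
  obtain ⟨n, rfl⟩ : ∃ n, s = n + 1 := ⟨s - 1, by omega⟩
  obtain ⟨h1, -⟩ := Groth.L22.Chern.C_tensor hX hPE hQE hTE
  have mφ : φ ⟨1, Nat.lt_succ_of_le hs⟩ ∈ Cyc.Zk X δ (k - 1) := by simpa using hφ.2.1 ⟨1, Nat.lt_succ_of_le hs⟩
  have mε : ε ⟨1, Nat.lt_succ_of_le hr⟩ ∈ Cyc.Zk X δ (k - 1) := by simpa using hε.2.1 ⟨1, Nat.lt_succ_of_le hr⟩
  have mτ : τ ⟨1, Nat.lt_succ_of_le (Nat.mul_pos hr hs)⟩ ∈ Cyc.Zk X δ (k - 1) := by
    simpa using hτ.2.1 ⟨1, Nat.lt_succ_of_le (Nat.mul_pos hr hs)⟩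
  have eφ := Groth.L22.Chern.C_emb hX hQE hQ hδ' hα hφ ⟨1, Nat.lt_succ_of_le hs⟩
  have eε := Groth.L22.Chern.C_emb hX hPE hP hδ hα hε ⟨1, Nat.lt_succ_of_le hr⟩
  have eτ := Groth.L22.Chern.C_emb hX hTE hT hδ'' hα hτ ⟨1, Nat.lt_succ_of_le (Nat.mul_pos hr hs)⟩
  simp only [Nat.cast_one] at eφ eε eτ
  have z1 := (ChowOps.zk X δ (k - 1)).zsmul_mem mφ (r : ℤ)
  have z2 := (ChowOps.zk X δ (k - 1)).zsmul_mem mε ((n + 1 : ℕ) : ℤ)
  refine (Groth.L22.Chern.ratEquiv_iff (hδ := hX.2.2)).2 (Groth.L22.Chern.rat_of_emb_eq hX.2.2 mτ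
    ((ChowOps.zk X δ (k - 1)).add_mem z1 z2) ?_)
  rw [← eτ, h1, Groth.L22.Chern.emb_add z1 z2, Groth.L22.Chern.emb_zsmul _ mφ, Groth.L22.Chern.emb_zsmul _ mε,
    ← eφ, ← eε]
  rfl

end Groth.Agent.S12668
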