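import Groth.Statements.S12669
import Groth.Agent.L22.Chern.TensorClass
-- import your own Groth.Agent.* helpers here

set_option autoImplicit false
universe u
open CategoryTheory CategoryTheory.Limits AlgebraicGeometry
open Cyc

namespace Groth.Agent.S12669

/-- For E, F finite locally free of ranks r, s on X, c_2(E ⊗ F) = r c_2(F) + s c_2(E) + C(r,2) c_1(F)^2
+ (rs - 1) c_1(F) c_1(E) + C(s,2) c_1(E)^2, as cap operations on every k-cycle α; products of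
classes are iterated caps represented by nested tuples (a tuple for F, resp. E, over the first
component of a tuple for F; a tuple for E over the first component of a tuple for E), c_2 of a
module of rank < 2 is 0, and E ⊗ F (CohB1.tensorMod, rank rs) enters through its own projective
bundle. Stated for r, s ≥ 1. Setting: (X, δ) with Cyc.IsSetup stands for a scheme locally of finite
type over the base (S, δ) (X locally Noetherian with universally catenary local rings, δ a dimension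
function); (p : P → X, O_P(1), q) is the projective bundle of E given by its universal property
(KRR.IsProjBundle), p is proper and δP is the induced dimension function (Cyc.DeltaCompat); a tuple
γ with Cyc.IsChernCap represents (c_0(E) ∩ α, …, c_r(E) ∩ α) through the defining relation Σ_i
(-1)^i c_1(O_P(1))^i ∩ p^*(γ_{r-i}) ∼_rat 0 on P, and classes are compared up to rational
equivalence of representing cycles. -/
theorem result (X : Scheme.{u}) (δ : X → ℤ) (hX : Cyc.IsSetup X δ) (r s : ℕ) (hr : 1 ≤ r) (hs : 1 ≤ s) (E : X.Modules) (hPE : FlatMod.IsFinLocFreeOfRank r E) (P : Scheme.{u}) (p : P ⟶ X) (O1 : P.Modules) (q : (Scheme.Modules.pullback p).obj E ⟶ O1) (hP : KRR.IsProjBundle p E O1 q) [IsProper p] (δP : P → ℤ) (hPs : Cyc.IsSetup P δP) (hδ : Cyc.DeltaCompat p δP δ) (F : X.Modules) (hQE : FlatMod.IsFinLocFreeOfRank s F) (Q : Scheme.{u}) (p' : Q ⟶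 X) (O1' : Q.Modules) (q' : (Scheme.Modules.pullback p').obj F ⟶ O1') (hQ : KRR.IsProjBundle p' F O1' q') [IsProper p'] (δQ : Q → ℤ) (hQs : Cyc.IsSetup Q δQ) (hδ' : Cyc.DeltaCompat p' δQ δ) (hTE : FlatMod.IsFinLocFreeOfRank (r * s) (CohB1.tensorMod E F)) (T : Scheme.{u}) (p'' : T ⟶ X) (O1'' : T.Modules) (q'' : (Scheme.Modules.pullback p'').obj (CohB1.tensorMod E F) ⟶ O1'') (hT : KRR.IsProjBundle p'' (CohB1.tensorMod E F) O1'' q'') [IsProper p''] (δT : T → ℤ) (hTs : Cyc.IsSetup T δT) (hδ'' : Cyc.DeltaCompat p'' δT δ) (k : ℤ) (α : AlgebraicCycle X ℤ) (hα : α ∈ Cyc.Zk X δ k) (ε : Fin (r + 1) → AlgebraicCycle X ℤ) (hε : Cyc.IsChernCap p δ δP O1 r k α ε) (φ : Fin (s + 1) → AlgebraicCycle X ℤ) (hφ : Cyc.IsChernCap p' δ δQ O1' s k α φ) (τ : Fin (r * s + 1) → AlgebraicCycle X ℤ) (hτ : Cyc.IsChernCap p'' δ δT O1'' (r * s) k α τ) (φφ : Fin (s + 1) → AlgebraicCycle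 X ℤ) (hφφ : Cyc.IsChernCap p' δ δQ O1' s (k - 1) (φ ⟨1, Nat.lt_succ_of_le hs⟩) φφ) (εφ : Fin (r + 1) → AlgebraicCycle X ℤ) (hεφ : Cyc.IsChernCap p δ δP O1 r (k - 1) (φ ⟨1, Nat.lt_succ_of_le hs⟩) εφ) (εε : Fin (r + 1) → AlgebraicCycle X ℤ) (hεε : Cyc.IsChernCap p δ δP O1 r (k - 1) (ε ⟨1, Nat.lt_succ_of_le hr⟩) εε) : Cyc.RatEquiv δ (k - 2) (if h2 : 2 ≤ r * s then τ ⟨2, Nat.lt_succ_of_le h2⟩ else 0) (((r : ℕ) : ℤ) • (if h2 : 2 ≤ s then φ ⟨2, Nat.lt_succ_of_le h2⟩ else 0) + ((s : ℕ) : ℤ) • (if h2 : 2 ≤ r then ε ⟨2, Nat.lt_succ_of_le h2⟩ else 0) + ((Nat.choose r 2 : ℕ) : ℤ) • φφ ⟨1, Nat.lt_succ_of_le hs⟩ + (((r * s : ℕ) : ℤ) - 1) • εφ ⟨1, Nat.lt_succ_of_le hr⟩ + ((Nat.choose s 2 : ℕ) : ℤ) • εε ⟨1, Nat.lt_succ_of_le hr⟩) := by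
  haveI := hX.1
  obtain ⟨n, rfl⟩ : ∃ n, s = n + 1 := ⟨s - 1, by omega⟩
  obtain ⟨-, h2⟩ := Groth.L22.Chern.C_tensor hX hPE hQE hTE
  have get : ∀ {q : ℕ} {M : X.Modules} (hM : FlatMod.IsFinLocFreeOfRank q M) {R : Scheme.{u}} {p₀ : R ⟶ X}
      {O : R.Modules} {q₀ : (Scheme.Modules.pullback p₀).obj M ⟶ O}, KRR.IsProjBundle p₀ M O q₀ → ∀ {δR : R → ℤ},
      Cyc.DeltaCompat p₀ δR δ → ∀ {g : Fin (q + 1) → AlgebraicCycle X ℤ}, Cyc.IsChernCap p₀ δ δR O q k α g →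
      (if h : 2 ≤ q then g ⟨2, Nat.lt_succ_of_le h⟩ else 0) ∈ Cyc.Zk X δ (k - 2) ∧
        Groth.L22.Chern.C hX hM 2 (Groth.L22.Chern.emb δ k α) =
          Groth.L22.Chern.emb δ (k - 2) (if h : 2 ≤ q then g ⟨2, Nat.lt_succ_of_le h⟩ else 0) := by
    intro q M hM R p₀ O q₀ hR δR hc g hg
    split_ifs with h
    · exact ⟨by simpa using hg.2.1 ⟨2, Nat.lt_succ_of_le h⟩, by
        simpa using Groth.L22.Chern.C_emb hX hM hR hc hα hg ⟨2, Nat.lt_succ_of_le h⟩⟩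
    · rw [Groth.L22.Chern.C_of_lt hX hM (by omega), Groth.L22.Chern.emb_zero]
      exact ⟨(ChowOps.zk X δ (k - 2)).zero_mem, rfl⟩
  have mφ1 : φ ⟨1, Nat.lt_succ_of_le hs⟩ ∈ Cyc.Zk X δ (k - 1) := by simpa using hφ.2.1 ⟨1, Nat.lt_succ_of_le hs⟩
  have mε1 : ε ⟨1, Nat.lt_succ_of_le hr⟩ ∈ Cyc.Zk X δ (k - 1) := by simpa using hε.2.1 ⟨1, Nat.lt_succ_of_le hr⟩
  have eφ := Groth.L22.Chern.C_emb hX hQE hQ hδ' hα hφ ⟨1, Nat.lt_succ_of_le hs⟩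
  have eε := Groth.L22.Chern.C_emb hX hPE hP hδ hα hε ⟨1, Nat.lt_succ_of_le hr⟩
  have eφφ := Groth.L22.Chern.C_emb hX hQE hQ hδ' mφ1 hφφ ⟨1, Nat.lt_succ_of_le hs⟩
  have eεφ := Groth.L22.Chern.C_emb hX hPE hP hδ mφ1 hεφ ⟨1, Nat.lt_succ_of_le hr⟩
  have eεε := Groth.L22.Chern.C_emb hX hPE hP hδ mε1 hεε ⟨1, Nat.lt_succ_of_le hr⟩
  simp only [Nat.cast_one, show k - 1 - 1 = k - 2 by ring] at eφ eε eφφ eεφ eεε
  have m1 : φφ ⟨1, Nat.lt_succ_of_le hs⟩ ∈ Cyc.Zk X δ (k - 2) := by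
    simpa [show k - 1 - 1 = k - 2 by ring] using hφφ.2.1 ⟨1, Nat.lt_succ_of_le hs⟩
  have m2 : εφ ⟨1, Nat.lt_succ_of_le hr⟩ ∈ Cyc.Zk X δ (k - 2) := by
    simpa [show k - 1 - 1 = k - 2 by ring] using hεφ.2.1 ⟨1, Nat.lt_succ_of_le hr⟩
  have m3 : εε ⟨1, Nat.lt_succ_of_le hr⟩ ∈ Cyc.Zk X δ (k - 2) := by
    simpa [show k - 1 - 1 = k - 2 by ring] using hεε.2.1 ⟨1, Nat.lt_succ_of_le hr⟩
  obtain ⟨mT, eT⟩ := get hTE hT hδ'' hτ
  obtain ⟨mF, eF⟩ := get hQE hQ hδ' hφ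
  obtain ⟨mE, eE⟩ := get hPE hP hδ hε
  have a1 := (ChowOps.zk X δ (k - 2)).zsmul_mem mF (r : ℤ)
  have a2 := (ChowOps.zk X δ (k - 2)).zsmul_mem mE ((n + 1 : ℕ) : ℤ)
  have a3 := (ChowOps.zk X δ (k - 2)).zsmul_mem m1 ((Nat.choose r 2 : ℕ) : ℤ)
  have a4 := (ChowOps.zk X δ (k - 2)).zsmul_mem m2 (((r * (n + 1) : ℕ) : ℤ) - 1)
  have a5 := (ChowOps.zk X δ (k - 2)).zsmul_mem m3 ((Nat.choose (n + 1) 2 : ℕ) : ℤ)
  have b2 := (ChowOps.zk X δ (k - 2)).add_mem a1 a2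
  have b3 := (ChowOps.zk X δ (k - 2)).add_mem b2 a3
  have b4 := (ChowOps.zk X δ (k - 2)).add_mem b3 a4
  have b5 := (ChowOps.zk X δ (k - 2)).add_mem b4 a5
  refine (Groth.L22.Chern.ratEquiv_iff (hδ := hX.2.2)).2 (Groth.L22.Chern.rat_of_emb_eq hX.2.2 mT b5 ?_)
  rw [← eT, h2, Groth.L22.Chern.emb_add b4 a5, Groth.L22.Chern.emb_add b3 a4, Groth.L22.Chern.emb_add b2 a3,
    Groth.L22.Chern.emb_add a1 a2, Groth.L22.Chern.emb_zsmul _ mF, Groth.L22.Chern.emb_zsmul _ mE,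
    Groth.L22.Chern.emb_zsmul _ m1, Groth.L22.Chern.emb_zsmul _ m2, Groth.L22.Chern.emb_zsmul _ m3,
    ← eF, ← eE, ← eφφ, ← eεφ, ← eεε, ← eφ, ← eε]
  rfl

end Groth.Agent.S12669
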