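import Groth.Statements.S1267
import Groth.Agent.L02.CAlg.Tor.FlatInj
import Mathlib.RingTheory.Flat.Localization
import Mathlib.LinearAlgebra.TensorProduct.Pi
import Mathlib.RingTheory.Localization.Module

set_option autoImplicit false
universe u
open FlatMor

namespace Groth.Agent.S1267

open TensorProduct in
theorem rTensor_zero_at {A : Type u} [CommRing A] {M : Type u} [AddCommGroup M] [Module A M]
    (S : Submonoid A) [Module.Flat A (LocalizedModule S M)]
    {P Q : Type u} [AddCommGroup P] [AddCommGroup Q] [Module A P] [Module A Q]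
    (f : P →ₗ[A] Q) (hf : Function.Injective f) (z : P ⊗[A] M) (hz : f.rTensor M z = 0) :
    ∃ s ∈ S, s • z = 0 := by
  let w := TensorProduct.comm A P M z
  let g := AlgebraTensorModule.rTensor A P (LocalizedModule.mkLinearMap S M)
  have hsq : f.lTensor M w = 0 := by
    have : f.lTensor M w = TensorProduct.comm A Q M (f.rTensor M z) := by
      show f.lTensor M (TensorProduct.comm A P M z) = _
      clear hz w
      induction z using TensorProduct.induction_on with
      | zero => simp
      | add a b ha hb => simp [map_add, ha, hb]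
      | tmul a b => rfl
    rw [this, hz, map_zero]
  have hg : g w = 0 := by
    apply Module.Flat.lTensor_preserves_injective_linearMap (M := LocalizedModule S M) f hf
    rw [map_zero]
    have : f.lTensor (LocalizedModule S M) (g w) =
        AlgebraTensorModule.rTensor A Q (LocalizedModule.mkLinearMap S M) (f.lTensor M w) := by
      clear hz hsq
      generalize w = w'
      induction w' using TensorProduct.induction_on with
      | zero => simp
      | add a b ha hb => simp [map_add, ha, hb]
      | tmul a b => rfl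
    rw [this, hsq, map_zero]
  obtain ⟨s, hs⟩ := (IsLocalizedModule.eq_zero_iff S g).1 hg
  refine ⟨s.1, s.2, (TensorProduct.comm A P M).injective ?_⟩
  rw [map_smul, map_zero]
  exact hs

open TensorProduct in
theorem eq_zero_of_proj {A : Type u} [CommRing A] {M : Type u} [AddCommGroup M] [Module A M]
    {κ : Type u} [Fintype κ] [DecidableEq κ] {P : Type u} [AddCommGroup P] [Module A P]
    (v : (κ → P) ⊗[A] M) (h : ∀ k, (LinearMap.proj k : (κ → P) →ₗ[A] P).rTensor M v = 0) : v = 0 := by
  let e := TensorProduct.piLeft A M (fun _ : κ => P)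
  have he : ∀ k, e v k = (LinearMap.proj k : (κ → P) →ₗ[A] P).rTensor M v := fun k => by
    induction v using TensorProduct.induction_on with
    | zero => simp [e]
    | add a b ha hb => 
      simp only [map_add, Pi.add_apply]
      have ha' : e a k = (LinearMap.proj k : (κ → P) →ₗ[A] P).rTensor M a := by
        clear ha hb h
        induction a using TensorProduct.induction_on with
        | zero => simp [e]
        | add a b ha hb => simp only [map_add, Pi.add_apply, ha, hb]
        | tmul a b => simp [e]
      have hb' : e b k = (LinearMap.proj k : (κ → P) →ₗ[A] P).rTensor M b := by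
        clear ha hb h
        induction b using TensorProduct.induction_on with
        | zero => simp [e]
        | add a b ha hb => simp only [map_add, Pi.add_apply, ha, hb]
        | tmul a b => simp [e]
      rw [ha', hb']
    | tmul a b => simp [e]
  refine e.injective ?_
  rw [map_zero]
  funext k
  rw [he k, h k]
  rfl


/-- Let A be a local ring, I an ideal, U a quasi-compact open subset of Spec A and M an A-module such
that M/IM is flat over A/I and M_p is flat over A for all p in U. Let I₂ be the kernel of I → Γ(U,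
I/I²), that is the set of x ∈ I such that for every p ∈ U some s outside p has s·x ∈ I². Then M/I₂M
is flat over A/I₂. -/
theorem result {A : Type u} [CommRing A] [IsLocalRing A] (I : Ideal A)
    (U : Set (PrimeSpectrum A)) (hU : IsOpen U) (hUc : IsCompact U)
    (M : Type u) [AddCommGroup M] [Module A M]
    [Module.Flat (A ⧸ I) (M ⧸ (I • ⊤ : Submodule A M))]
    (hflat : ∀ p ∈ U, Module.Flat A (LocalizedModule p.asIdeal.primeCompl M))
    (I₂ : Ideal A) (hI₂ : ∀ x : A, x ∈ I₂ ↔ x ∈ I ∧ ∀ p ∈ U, ∃ s : A, s ∉ p.asIdeal ∧ s * x ∈ I ^ 2) :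
    Module.Flat (A ⧸ I₂) (M ⧸ (I₂ • ⊤ : Submodule A M)) := by
  classical
  have hle : I ^ 2 ≤ I₂ := fun x hx => (hI₂ x).2 ⟨Ideal.pow_le_self two_ne_zero hx,
    fun p _ => ⟨1, fun h => p.isPrime.ne_top ((Ideal.eq_top_iff_one _).2 h), by rwa [one_mul]⟩⟩
  have hI₂I : I₂ ≤ I := fun x hx => ((hI₂ x).1 hx).1
  let A₁ := A ⧸ I₂
  let I₁ : Ideal A₁ := I.map (Ideal.Quotient.mk I₂)
  have hsq : I₁ * I₁ = ⊥ := by
    rw [← Ideal.map_mul, ← pow_two, eq_bot_iff, Ideal.map_le_iff_le_comap]
    intro x hx
    rw [Ideal.mem_comap, Ideal.mem_bot, Ideal.Quotient.eq_zero_iff_mem]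
    exact hle hx
  let ι : (I₁ : Submodule A₁ A₁) →ₗ[A] A₁ := (Submodule.subtype I₁).restrictScalars A
  have hι : Function.Injective ι := Subtype.val_injective
  have hinj : Function.Injective (ι.rTensor M) := by
    rw [injective_iff_map_eq_zero]
    intro z hz
    have hloc : ∀ p : PrimeSpectrum A, p ∈ U → ∃ s ∈ p.asIdeal.primeCompl, s • z = 0 := fun p hp => by
      haveI := hflat p hp
      exact rTensor_zero_at p.asIdeal.primeCompl ι hι z hz
    choose s hs hsz using hloc
    obtain ⟨t, ht⟩ := hUc.elim_finite_subcover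
      (fun p : U => (PrimeSpectrum.basicOpen (s p.1 p.2) : Set (PrimeSpectrum A)))
      (fun p => (PrimeSpectrum.basicOpen (s p.1 p.2)).isOpen)
      (fun p hp => Set.mem_iUnion.2 ⟨⟨p, hp⟩, hs p hp⟩)
    let ψ : (I₁ : Submodule A₁ A₁) →ₗ[A] (t → (I₁ : Submodule A₁ A₁)) :=
      LinearMap.pi fun k => s k.1.1 k.1.2 • LinearMap.id
    have hψ : Function.Injective ψ := by
      rw [injective_iff_map_eq_zero]
      intro x hx
      obtain ⟨a, ha, hax⟩ := (Ideal.mem_map_iff_of_surjective _ Ideal.Quotient.mk_surjective).1 x.2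
      refine Subtype.ext ?_
      rw [← hax]
      show Ideal.Quotient.mk I₂ a = 0
      rw [Ideal.Quotient.eq_zero_iff_mem, hI₂]
      refine ⟨ha, fun p hp => ?_⟩
      obtain ⟨k, hk, hpk⟩ := Set.mem_iUnion₂.1 (ht hp)
      have h0 : Ideal.Quotient.mk I₂ (s k.1 k.2 * a) = 0 := by
        have := congrArg Subtype.val (congrFun hx ⟨k, hk⟩)
        rw [map_mul, hax]
        exact (Algebra.smul_def _ _).symm.trans this
      obtain ⟨r, hr, hr'⟩ := ((hI₂ _).1 (Ideal.Quotient.eq_zero_iff_mem.1 h0)).2 p hp
      exact ⟨r * s k.1 k.2, fun h => (p.isPrime.mem_or_mem h).elim hr hpk, by rwa [mul_assoc]⟩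
    have h1 : Module.IsTorsionBySet A (I₁ : Submodule A₁ A₁) I := fun x a => Subtype.ext (by
      show (a : A) • (x : A₁) = 0
      rw [Algebra.smul_def, ← Ideal.mem_bot, ← hsq]
      exact Ideal.mul_mem_mul (Ideal.mem_map_of_mem _ a.2) x.2)
    letI : Module (A ⧸ I) (I₁ : Submodule A₁ A₁) := h1.module
    haveI : IsScalarTower A (A ⧸ I) (I₁ : Submodule A₁ A₁) := h1.isScalarTower
    let ψB : (I₁ : Submodule A₁ A₁) →ₗ[A ⧸ I] (t → (I₁ : Submodule A₁ A₁)) :=
      { toFun := ψ
        map_add' := fun x y => map_add ψ x y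
        map_smul' := fun c x => by
          obtain ⟨a, rfl⟩ := Ideal.Quotient.mk_surjective c
          exact map_smul ψ a x }
    haveI : Module.Flat (A ⧸ I) (TensorProduct A (A ⧸ I) M) := by
      let e := TensorProduct.quotTensorEquivQuotSMul M I
      exact Module.Flat.of_linearEquiv (e.extendScalarsOfSurjective Ideal.Quotient.mk_surjective)
    have e1 := L02.CAlg.TorV.rTensor_injective_of_flat_baseChange (A := A) M (A ⧸ I) ψB hψ
    refine e1 ((map_zero (LinearMap.rTensor M (ψB.restrictScalars A))).symm ▸ eq_zero_of_proj _ fun k => ?_)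
    rw [← LinearMap.comp_apply, ← LinearMap.rTensor_comp,
      show (LinearMap.proj k : (t → (I₁ : Submodule A₁ A₁)) →ₗ[A] _) ∘ₗ (ψB.restrictScalars A) = s k.1.1 k.1.2 • LinearMap.id from
        LinearMap.ext fun x => rfl, LinearMap.rTensor_smul]
    simpa using hsz k.1.1 k.1.2
  haveI : Module.Flat A₁ (TensorProduct A A₁ M) := by
    haveI : Module.Flat (A₁ ⧸ I₁) (TensorProduct A₁ (A₁ ⧸ I₁) (TensorProduct A A₁ M)) := by
      let C := A₁ ⧸ I₁
      letI : Algebra (A ⧸ I) C := (Ideal.Quotient.lift I (algebraMap A C) fun a ha => by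
        show Ideal.Quotient.mk I₁ (Ideal.Quotient.mk I₂ a) = 0
        exact Ideal.Quotient.eq_zero_iff_mem.mpr (Ideal.mem_map_of_mem _ ha)).toAlgebra
      haveI : IsScalarTower A (A ⧸ I) C := IsScalarTower.of_algebraMap_eq fun a => rfl
      haveI : Module.Flat (A ⧸ I) (TensorProduct A (A ⧸ I) M) := by
        let e := TensorProduct.quotTensorEquivQuotSMul M I
        exact Module.Flat.of_linearEquiv (e.extendScalarsOfSurjective Ideal.Quotient.mk_surjective)
      haveI : Module.Flat C (TensorProduct A C M) := Module.Flat.of_linearEquiv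
        (TensorProduct.AlgebraTensorModule.cancelBaseChange A (A ⧸ I) C C M).symm
      exact Module.Flat.of_linearEquiv (TensorProduct.AlgebraTensorModule.cancelBaseChange A A₁ C C M)
    refine L02.CAlg.TorV.flat_of_isNilpotent (I := I₁) ⟨2, (pow_two I₁).trans hsq⟩ ?_
    let e₁ := TensorProduct.AlgebraTensorModule.cancelBaseChange A A₁ A₁ (I₁ : Submodule A₁ A₁) M
    let e₂ := TensorProduct.AlgebraTensorModule.cancelBaseChange A A₁ A₁ A₁ M
    have hsq' : ∀ v, e₂ ((Submodule.subtype I₁).rTensor (TensorProduct A A₁ M) v) = ι.rTensor M (e₁ v) := fun v => by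
      induction v using TensorProduct.induction_on with
      | zero => simp
      | add a b ha hb => simp only [map_add, ha, hb]
      | tmul q y =>
        induction y using TensorProduct.induction_on with
        | zero => simp
        | add a b ha hb => simp only [TensorProduct.tmul_add, map_add, ha, hb]
        | tmul b m => rfl
    intro a b hab
    exact e₁.injective (hinj ((hsq' a).symm.trans ((congrArg e₂ hab).trans (hsq' b))))
  exact Module.Flat.of_linearEquiv
    ((TensorProduct.quotTensorEquivQuotSMul M I₂).extendScalarsOfSurjective Ideal.Quotient.mk_surjective).symm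

end Groth.Agent.S1267
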