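import Groth.Statements.S12670
import Groth.Agent.L22.Chern.DualClass
import Groth.Agent.L17.SheafHomCoh
-- import your own Groth.Agent.* helpers here

set_option autoImplicit false
universe u
open CategoryTheory CategoryTheory.Limits AlgebraicGeometry
attribute [local instance] HasDerivedCategory.standard
open Cyc

namespace Groth.Agent.S12670

/-- For E finite locally free of rank r on X with dual E^∨, c_j(E^∨) = (-1)^j c_j(E), as cap operations
on every k-cycle α. The dual is Hom_{O_X}(E, O_X), the value at O_X of the right adjoint of - ⊗ E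
(DCoh.sheafHom, its existence carried as a hypothesis), finite locally free of rank r, and enters
through its own projective bundle. Setting: (X, δ) with Cyc.IsSetup stands for a scheme locally of
finite type over the base (S, δ) (X locally Noetherian with universally catenary local rings, δ a
dimension function); (p : P → X, O_P(1), q) is the projective bundle of E given by its universal
property (KRR.IsProjBundle), p is proper and δP is the induced dimension function (Cyc.DeltaCompat);
a tuple γ with Cyc.IsChernCap represents (c_0(E) ∩ α, …, c_r(E) ∩ α) through the defining relation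
Σ_i (-1)^i c_1(O_P(1))^i ∩ p^*(γ_{r-i}) ∼_rat 0 on P, and classes are compared up to rational
equivalence of representing cycles. -/
theorem result (X : Scheme.{u}) (δ : X → ℤ) (hX : Cyc.IsSetup X δ) (r : ℕ) (E : X.Modules) (hPE : FlatMod.IsFinLocFreeOfRank r E) (P : Scheme.{u}) (p : P ⟶ X) (O1 : P.Modules) (q : (Scheme.Modules.pullback p).obj E ⟶ O1) (hP : KRR.IsProjBundle p E O1 q) [IsProper p] (δP : P → ℤ) (hPs : Cyc.IsSetup P δP) (hδ : Cyc.DeltaCompat p δP δ) [DCoh.HasSheafHom E] (hP'E : FlatMod.IsFinLocFreeOfRank r ((DCoh.sheafHom E).obj (Coh.structureModule X))) (P' : Scheme.{u}) (p' : P' ⟶ X) (O1' : P'.Modules) (q' : (Scheme.Modules.pullback p').obj ((DCoh.sheafHom E).obj (Coh.structureModule X)) ⟶ O1') (hP' : KRR.IsProjBundle p' ((DCoh.sheafHom E).obj (Coh.structureModule X)) O1' q') [IsProper p'] (δP' : P' → ℤ) (hPs' : Cyc.IsSetup P' δP') (hδ' : Cyc.DeltaCompat p' δP' δ) (k : ℤ) (α : AlgebraicCycle X ℤ) (hα : α ∈ Cyc.Zk X δ k) (γ : Fin (r + 1) → AlgebraicCycle X ℤ)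 (hγ : Cyc.IsChernCap p δ δP O1 r k α γ) (γ' : Fin (r + 1) → AlgebraicCycle X ℤ) (hγ' : Cyc.IsChernCap p' δ δP' O1' r k α γ') (j : Fin (r + 1)) : Cyc.RatEquiv δ (k - ((j : ℕ) : ℤ)) (γ' j) ((-1 : ℤ) ^ (j : ℕ) • γ j) := by
  haveI := hX.1
  have h := Groth.L22.Chern.C_dual hX hPE (j : ℕ)
  rw [← Groth.L22.Chern.C_congr hX hP'E (Groth.L22.Chern.rank_dual hPE)
    (Groth.L17.SheafHomCoh.isoHomSh E (Coh.structureModule X))] at h
  have hm : ((-1 : ℤ) ^ (j : ℕ)) • γ j ∈ Cyc.Zk X δ (k - ((j : ℕ) : ℤ)) := (ChowOps.zk X δ _).zsmul_mem (hγ.2.1 j) _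
  refine (Groth.L22.Chern.ratEquiv_iff (hδ := hX.2.2)).2 (Groth.L22.Chern.rat_of_emb_eq hX.2.2 (hγ'.2.1 j) hm ?_)
  rw [← Groth.L22.Chern.C_emb hX hP'E hP' hδ' hα hγ' j, h, Groth.L22.Chern.emb_zsmul _ (hγ.2.1 j),
    ← Groth.L22.Chern.C_emb hX hPE hP hδ hα hγ j]
  rfl

end Groth.Agent.S12670
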