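import Groth.Statements.S12671
import Groth.Agent.L22.Chern.FlagSum
-- import your own Groth.Agent.* helpers here

set_option autoImplicit false
universe u
open CategoryTheory CategoryTheory.Limits AlgebraicGeometry
open Cyc

namespace Groth.Agent.S12671

/-- Let E be a locally free O_X-module of rank r with a filtration 0 = E_0 ⊂ E_1 ⊂ … ⊂ E_r = E such that
E_i/E_{i-1} ≅ L_i is invertible for i = 1, …, r. Then c(E) = Π_i (1 + c_1(L_i)), that is c_p(E) ∩ α
∼_rat Σ_{I ⊆ {1,…,r}, |I| = p} (Π_{i ∈ I} c_1(L_i)) ∩ α for every k-cycle α, where the product over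
I is the iterated cap applied in increasing order of i on coefficient functions with any nonzero
rational sections (Cyc.c1CapFun); the filtration is given by short exact sequences 0 → E_{i-1} → E_i
→ L_i → 0 with E_0 = 0 and E_r ≅ E. Setting: (X, δ) with Cyc.IsSetup stands for a scheme locally of
finite type over the base (S, δ) (X locally Noetherian with universally catenary local rings, δ a
dimension function); (p : P → X, O_P(1), q) is the projective bundle of E given by its universal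
property (KRR.IsProjBundle), p is proper and δP is the induced dimension function (Cyc.DeltaCompat);
a tuple γ with Cyc.IsChernCap represents (c_0(E) ∩ α, …, c_r(E) ∩ α) through the defining relation
Σ_i (-1)^i c_1(O_P(1))^i ∩ p^*(γ_{r-i}) ∼_rat 0 on P, and classes are compared up to rational
equivalence of representing cycles. -/
theorem result (X : Scheme.{u}) (δ : X → ℤ) (hX : Cyc.IsSetup X δ) (r : ℕ) (E : X.Modules) (hPE : FlatMod.IsFinLocFreeOfRank r E) (P : Scheme.{u}) (p : P ⟶ X) (O1 : P.Modules) (q : (Scheme.Modules.pullback p).obj E ⟶ O1) (hP : KRR.IsProjBundle p E O1 q) [IsProper p] (δP : P → ℤ) (hPs : Cyc.IsSetup P δP) (hδ : Cyc.DeltaCompat p δP δ) (M : Fin (r + 1) → X.Modules) (h0 : IsZero (M 0)) (e : M (Fin.last r) ≅ E) (L : Fin r → X.Modules) (hL : ∀ i, PicF.IsInvertible (L i)) (a : ∀ i : Fin r, M (Fin.castSucc i) ⟶ M (Fin.succ i)) (b : ∀ i : Fin r, M (Fin.succ i) ⟶ L i) (hab : ∀ i, a i ≫ b i = 0) (hex : ∀ i, (ShortComplex.mk (a i) (b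 i) (hab i)).ShortExact) (k : ℤ) (α : AlgebraicCycle X ℤ) (hα : α ∈ Cyc.Zk X δ k) (γ : Fin (r + 1) → AlgebraicCycle X ℤ) (hγ : Cyc.IsChernCap p δ δP O1 r k α γ) (t : (i : Fin r) → (ξ : X) → Cyc.secFibre (L i) ξ) (ht : ∀ i ξ, t i ξ ≠ 0) (κ : Finset (Fin r) → AlgebraicCycle X ℤ) (hκ0 : κ ∅ = α) (hκ : ∀ (I : Finset (Fin r)) (i : Fin r), (∀ i' ∈ I, i' < i) → ⇑(κ (insert i I)) = Cyc.c1CapFun δ (L i) ⇑(κ I) (t i)) (n : Fin (r + 1)) : Cyc.RatEquiv δ (k - ((n : ℕ) : ℤ)) (γ n) (∑ I ∈ Finset.powersetCard n Finset.univ, κ I) := by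
  haveI := hX.1
  have h := (Groth.L22.Chern.Flag.of_chain M h0 e L hL a b hab hex).cp_eq hX hPE (by simp)
  obtain ⟨hm, hs⟩ := Groth.L22.Chern.coeff_prodLin_emb hX.2.2 L hL t ht hα κ hκ0 hκ n
  rw [← h, Groth.L22.Chern.coeff_cp, Groth.L22.Chern.C_emb hX hPE hP hδ hα hγ n] at hs
  exact (Groth.L22.Chern.ratEquiv_iff (hδ := hX.2.2)).2 (Groth.L22.Chern.rat_of_emb_eq hX.2.2 (hγ.2.1 n) hm hs)

end Groth.Agent.S12671
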