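import Groth.Statements.S12674
import Groth.Agent.L22.VBSub.Main
import Groth.Agent.L22.Bundle.Sub
import Groth.Agent.L12.FinCov.Basis
-- import your own Groth.Agent.* helpers here

set_option autoImplicit false
universe u
open CategoryTheory CategoryTheory.Limits AlgebraicGeometry
attribute [local instance] HasDerivedCategory.standard
open Cyc

namespace Groth.Agent.S12674

/-- For a short exact sequence 0 → N' → N → E → 0 of finite locally free O_X-modules of constant ranks
r', r' + e and e, write π : V = Spec Sym(N^∨) → X and π' : V' = Spec Sym((N')^∨) → X for the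
associated vector bundles and i : V' → V for the closed immersion induced by the dual map N^∨ →
(N')^∨. Then i_*((π')^*α) = π^*(c_e(E) ∩ α) in CH_{k+r'}(V) for every k-cycle α on X (c_e = c_top
for constant rank e). The duals are Hom_{O_X}(-, O_X) (DCoh.sheafHom, existence carried as
hypotheses), the vector bundles are the relative spectra of their symmetric algebras
(RelSpec.IsSymAlg, RelSpec.QCAlg.spec), i is RelSpec.QCAlg.specMap of the algebra map extending the
dual N^∨ → (N')^∨ of N' → N (the mate of N' ⊗ - → N ⊗ - under the tensor-Hom adjunctions), its being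
a closed immersion is carried as a hypothesis, and flat pullbacks are coefficientwise with the
induced dimension functions. (The published statement allows nonconstant ranks through c_top;
constant ranks are stated here.) Setting: (X, δ) with Cyc.IsSetup stands for a scheme locally of
finite type over the base (S, δ) (X locally Noetherian with universally catenary local rings, δ a
dimension function); (p : P → X, O_P(1), q) is the projective bundle of E given by its universal
property (KRR.IsProjBundle), p is proper and δP is the induced dimension function (Cyc.DeltaCompat);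
a tuple γ with Cyc.IsChernCap represents (c_0(E) ∩ α, …, c_r(E) ∩ α) through the defining relation
Σ_i (-1)^i c_1(O_P(1))^i ∩ p^*(γ_{r-i}) ∼_rat 0 on P, and classes are compared up to rational
equivalence of representing cycles. -/
theorem result (X : Scheme.{u}) (δ : X → ℤ) (hX : Cyc.IsSetup X δ) (r' e : ℕ) (N' N E : X.Modules) (hN' : FlatMod.IsFinLocFreeOfRank r' N') (hN : FlatMod.IsFinLocFreeOfRank (r' + e) N) (hPE : FlatMod.IsFinLocFreeOfRank e E) (P : Scheme.{u}) (p : P ⟶ X) (O1 : P.Modules) (q : (Scheme.Modules.pullback p).obj E ⟶ O1) (hP : KRR.IsProjBundle p E O1 q) [IsProper p] (δP : P → ℤ) (hPs : Cyc.IsSetup P δP) (hδ : Cyc.DeltaCompat p δP δ) (a : N' ⟶ N) (b : N ⟶ E) (hab : a ≫ b = 0) (hex : (ShortComplex.mk a b hab).ShortExact) [DCoh.HasSheafHom N] [DCoh.HasSheafHom N'] (hqN : Coh.IsQCoh ((DCoh.sheafHom N).obj (Coh.structureModule X))) (hqN' : Coh.IsQCoh ((DCoh.sheafHom N').obj (Coh.structureModule X))) (A : RelSpec.QCAlg X) (j : ((DCoh.sheafHom N).obj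 (Coh.structureModule X)) ⟶ A.toModule) (hA : RelSpec.IsSymAlg ((DCoh.sheafHom N).obj (Coh.structureModule X)) A j) (A' : RelSpec.QCAlg X) (j' : ((DCoh.sheafHom N').obj (Coh.structureModule X)) ⟶ A'.toModule) (hA' : RelSpec.IsSymAlg ((DCoh.sheafHom N').obj (Coh.structureModule X)) A' j') (φ : A ⟶ A') (hφ : j ≫ RelSpec.QCAlg.Hom.toModuleMap φ = ((CategoryTheory.conjugateEquiv (DCoh.sheafHomAdj N) (DCoh.sheafHomAdj N')) ((DCoh.tensorBi (X := X)).map a)).app (Coh.structureModule X) ≫ j') [IsClosedImmersion (RelSpec.QCAlg.specMap φ)] (δV : ↥A.spec → ℤ) (hV : Cyc.IsSetup A.spec δV) (hpδ : Cyc.DeltaCompat A.π δV δ) (δV' : ↥A'.spec → ℤ) (hV' : Cyc.IsSetup A'.spec δV') (hp'δ : Cyc.DeltaCompat A'.π δV' δ) (k : ℤ) (α : AlgebraicCycle X ℤ) (hα : α ∈ Cyc.Zk X δ k) (γ : Fin (e + 1) → AlgebraicCycle X ℤ) (hγ : Cyc.IsChernCap p δ δP O1 e k α γ) (β' : AlgebraicCycle A'.spec ℤ) (hβ' : ⇑β' = Cyc.pullFun A'.π δV' δ (r' : ℤ) ⇑α) (β : AlgebraicCycle A.spec ℤ) (hβ : ⇑β = Cyc.pullFun A.π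 δV δ ((r' : ℤ) + e) ⇑(γ (Fin.last e))) : Cyc.RatEquiv δV (k + r') (AlgebraicCycle.map (RelSpec.QCAlg.specMap φ) δV' δV β') β := by
  classical
  haveI := hX.1
  haveI := hV.1
  haveI := hV'.1
  haveI := hqN
  haveI := hqN'
  have rk : ∀ (M : X.Modules) (_ : DCoh.HasSheafHom M) (n : ℕ), FlatMod.IsFinLocFreeOfRank n M →
      FlatMod.IsFinLocFreeOfRank n ((DCoh.sheafHom M).obj (Coh.structureModule X)) := fun M _ n h =>
    Groth.L12.FinCov.isFinLocFreeOfRank_of_bases fun x => by
      obtain ⟨U, c, -, hxU, -, hc⟩ := Groth.L12.FinCov.exists_basisOn_of_rank h x ⊤ trivial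
      obtain ⟨φD, -, hD⟩ := Groth.L22.VBSub.exists_dual_basis M hc
      exact ⟨U, _, hxU, hD⟩
  have hcA := Groth.L22.VBSub.isPolyChart j hA (rk N inferInstance _ hN)
  have hcA' := Groth.L22.VBSub.isPolyChart j' hA' (rk N' inferInstance _ hN')
  haveI := hcA.flat
  haveI := hcA.locallyOfFiniteType
  haveI := hcA'.flat
  haveI := hcA'.locallyOfFiniteType
  have hi : RelSpec.QCAlg.specMap φ ≫ A.π = A'.π := RelSpec.QCAlg.specMap_π φ
  have hc' : Cyc.DeltaCompat A'.π (fun z => δV (RelSpec.QCAlg.specMap φ z)) δ :=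
    hi ▸ Groth.L22.Bundle.deltaCompat_comp (RelSpec.QCAlg.specMap φ) A.π hpδ
  obtain rfl := Groth.L22.Bundle.delta_unique hp'δ hc'
  obtain ⟨s, hs1, hs2, hs3⟩ := Groth.L22.VBSub.exists_zero_section hex hN' hPE hA hA' φ hφ
  have hsh := Groth.L22.Cyc.shift_of_deltaCompat A.π hcA.hasRelDim hpδ
  have hsh' := Groth.L22.Cyc.shift_of_deltaCompat A'.π hcA'.hasRelDim hp'δ
  have hmain := Groth.L22.VBSub.push_eq A.π A'.π (RelSpec.QCAlg.specMap φ) hi hcA.hasRelDim hcA'.hasRelDim hX hV
    hpδ hp'δ (Groth.L22.Chern.rank_pullback A.π hPE) s hs1 hs2 hs3 hsh hsh' hα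
  have hγm : γ (Fin.last e) ∈ Cyc.Zk X δ (k - (e : ℤ)) := by
    have := hγ.2.1 (Fin.last e)
    rwa [Fin.val_last] at this
  have hlev : k - (e : ℤ) + ((r' + e : ℕ) : ℤ) = k + (r' : ℤ) := by push_cast; ring
  have hC := Groth.L22.Chern.C_emb hX hPE hP hδ hα hγ (Fin.last e)
  rw [Fin.val_last] at hC
  rw [← Groth.L22.Chern.over'_C A.π hX hV hcA.hasRelDim hpδ hPE e, hC,
    Groth.L22.Chern.pb_emb hX.2.2 hV.2.2 A.π hsh hγm, hlev] at hmain
  have hm1 := Groth.L22.Chern.pullC_mem A.π hsh hγm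
  rw [hlev] at hm1
  have hm2 := Groth.L22.Chern.pushC_mem (RelSpec.QCAlg.specMap φ) (δY := δV)
    (Groth.L22.Chern.pullC_mem A'.π hsh' hα)
  have e1 : β = Groth.L22.Chern.pullC A.π hsh (γ (Fin.last e)) := DFunLike.coe_injective (by
    rw [hβ, Groth.L22.Chern.pullC_coe]
    push_cast
    rfl)
  have e2 : β' = Groth.L22.Chern.pullC A'.π hsh' α := DFunLike.coe_injective (by
    rw [hβ', Groth.L22.Chern.pullC_coe])
  rw [e1, e2]
  exact (Groth.L22.Chern.ratEquiv_iff (hδ := hV.2.2)).2
    (Groth.L22.Chern.rat_of_emb_eq hV.2.2 hm2 hm1 hmain.symm)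


end Groth.Agent.S12674
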