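import Groth.Statements.S12675
import Groth.Agent.L22.Chern.Compat
import Groth.Agent.L22.C1.Iso
import Groth.Agent.L02.Canon.DescInvertible
-- import your own Groth.Agent.* helpers here

set_option autoImplicit false
universe u
open CategoryTheory CategoryTheory.Limits AlgebraicGeometry
open Cyc

namespace Groth.Agent.S12675

/-- Suppose X is integral of δ-dimension n and L is an O_X-module that is invertible; then L's first
Chern class on X, taken in the sense of the projective-bundle characterisation (rank r = 1), agrees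
with the Weil divisor class c_1(L) ∩ [X] of L (the divisor of a nonzero rational section,
Cyc.c1CapFun on the cycle [X]_n). The projective bundle of L is given abstractly by its universal
property, so the identification P(L) = X, O(1) = L is part of what is asserted. Setting: (X, δ) with
Cyc.IsSetup stands for a scheme locally of finite type over the base (S, δ) (X locally Noetherian
with universally catenary local rings, δ a dimension function); (p : P → X, O_P(1), q) is the
projective bundle of E given by its universal property (KRR.IsProjBundle), p is proper and δP is the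
induced dimension function (Cyc.DeltaCompat); a tuple γ with Cyc.IsChernCap represents (c_0(E) ∩ α,
…, c_r(E) ∩ α) through the defining relation Σ_i (-1)^i c_1(O_P(1))^i ∩ p^*(γ_{r-i}) ∼_rat 0 on P,
and classes are compared up to rational equivalence of representing cycles. -/
theorem result (X : Scheme.{u}) (δ : X → ℤ) (hX : Cyc.IsSetup X δ) [IsIntegral X] (n : ℤ) (hn : δ (genericPoint X) = n) (L : X.Modules) (hL : PicF.IsInvertible L) (hPE : FlatMod.IsFinLocFreeOfRank 1 L) (P : Scheme.{u}) (p : P ⟶ X) (O1 : P.Modules) (q : (Scheme.Modules.pullback p).obj L ⟶ O1) (hP : KRR.IsProjBundle p L O1 q) [IsProper p] (δP : P → ℤ) (hPs : Cyc.IsSetup P δP) (hδ : Cyc.DeltaCompat p δP δ) (α : AlgebraicCycle X ℤ) (hα : ⇑α = Cyc.subschemeFun δ n (𝟙 X)) (γ : Fin 2 → AlgebraicCycle X ℤ) (hγ : Cyc.IsChernCap p δ δP O1 1 n α γ) (s : (ξ : X) → Cyc.secFibre L ξ) (hs : ∀ ξ, s ξ ≠ 0) (β : AlgebraicCycle X ℤ) (hβ : ⇑β = Cyc.c1CapFun δ L ⇑α s) : Cyc.RatEquiv δ (n - 1) (γ 1) β := by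
  haveI := hX.1
  haveI := hPs.1
  haveI := hP.epi
  have hdX := hX.2.2
  have hdP := hPs.2.2
  have hO := Groth.L22.Bundle.isInvertible_of_one hP.invertible
  have hL' := Groth.L18.Ample.isInvertible_pullback p hL
  haveI : IsIso q := Groth.L02.Canon.DescInvertible.isIso_of_epi_invertible q hL' hO
  haveI := Groth.L22.Bundle.flat_of_isProjBundle (n := 0) hP hPE
  have hp : Groth.L22.Chern.Shift p δP δ ((0 : ℕ) : ℤ) := Groth.L22.Bundle.delta_of_fibGen hdP hδ hP hPE
  obtain ⟨a0, a1, a2⟩ := (Groth.L22.Chern.isChernCap_iff hdP hO hp).1 hγ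
  obtain ⟨t', ht'⟩ := Groth.L22.Chern.exists_secs hL'
  have ht : ∀ (m : ℕ) (ξ : P), Groth.L22.C1.mapSec q ξ (t' m ξ) ≠ 0 := fun m ξ =>
    Groth.L22.C1.mapSec_ne_zero q hL' hO ξ _ (ht' m ξ)
  have hid : ∀ j, Groth.L22.Chern.pushC p δP δ (Groth.L22.Chern.pullC p hp (γ j)) = γ j := fun j =>
    Function.locallyFinsuppWithin.ext fun x =>
      (Groth.L22.Bundle.map_c1Pow (n := 0) hP hPE hdX hdP hδ hO _ (γ j) (a1 j) _ ht 0 le_rfl _
        (Groth.L22.Chern.pullC_coe p hp (γ j)) x).trans (if_pos rfl)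
  have hc : Groth.L22.Chern.cap hdP hO ht 1 (Groth.L22.Chern.pullC p hp (γ 0)) =
      Groth.L22.Chern.cap hdP hL' ht' 1 (Groth.L22.Chern.pullC p hp (γ 0)) := DFunLike.coe_injective (by
    rw [Groth.L22.Chern.cap_coe, Groth.L22.Chern.cap_coe, Groth.L22.C1.c1PowFun_mapSec q hL' hO hdP])
  have h1 := Groth.L22.Chern.pushC_rat p hdP hdX hδ (a2 _ ht)
  have e : Groth.L22.Chern.rel hdP hO hp ht γ = Groth.L22.Chern.pullC p hp (γ 1) -
      Groth.L22.Chern.cap hdP hL' ht' 1 (Groth.L22.Chern.pullC p hp (γ 0)) := by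
    simp only [Groth.L22.Chern.rel, Fin.sum_univ_two, ← hc]
    simp [Groth.L22.Chern.cap_zero, sub_eq_add_neg]
  rw [e, map_sub, hid 1] at h1
  have hv : ∀ (m : ℕ) (ξ : X), (fun _ : ℕ => s) m ξ ≠ 0 := fun _ => hs
  have h2 := Groth.L22.Chern.cap_pushC hdP hdX hL p hδ hv ht'
    (d := n) (Groth.L22.Chern.pullC_mem p hp (a1 0) |> fun h => by simpa using h) 1
  rw [hid 0] at h2
  have hb : Groth.L22.Chern.cap hdX hL hv 1 (γ 0) = β := DFunLike.coe_injective (by
    rw [Groth.L22.Chern.cap_succ, Groth.L22.Chern.cap_zero, a0, hβ])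
  rw [hb] at h2
  refine (Groth.L22.Chern.ratEquiv_iff (hδ := hdX)).2 ?_
  simpa using add_mem h1 h2

end Groth.Agent.S12675
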