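import Groth.Statements.S12676
import Groth.Agent.L22.IntMult.FlatGraph
import Groth.Agent.L22.Chern.Classes
-- import your own Groth.Agent.* helpers here

set_option autoImplicit false
universe u
open CategoryTheory CategoryTheory.Limits AlgebraicGeometry
attribute [local instance] HasDerivedCategory.standard
open IntMult

namespace Groth.Agent.S12676

/-- Let f : X → Y be a morphism of nonsingular projective varieties over an algebraically closed field
and define f^*α = pr_{X,*}(Γ_f · pr_Y^*α) on Chow groups, with Γ_f ⊂ X × Y the graph and · the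
intersection product of the nonsingular projective variety X × Y. If f is flat, f^*α agrees with the
flat pullback of α (relative dimension dim X - dim Y). Here X, Y and X × Y are nonsingular varieties
over the algebraically closed field K (smooth, separated, quasi-compact, integral) embedded as
closed subschemes of projective spaces over K, with dimension functions the transcendence degree
(Cyc.IsSetup, Cyc.DeltaCompat to Spec K with value 0) and dimensions pinned at the generic points;
the product on CH_*(X × Y) is any mul with ChowOps.IsChowMul (it agrees with the Tor-formula product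
IntMult.interProd on properly meeting cycles, which determines it); [Γ_f] is the prime cycle of the
image of the generic point of X under the graph morphism, pr_Y^* and f^* are coefficientwise flat
pullbacks (Cyc.pullFun), pr_{X,*} is the proper pushforward of a representing cycle, and the two
sides are compared up to rational equivalence on X. (Parts (1)–(3) of the published statement — f^*
is a ring map, functoriality, projection formula — are not stated here.) -/
theorem result (K : Type u) [Field K] [IsAlgClosed K] (X : Scheme.{u}) (fX : X ⟶ Spec (CommRingCat.of K)) [Smooth fX] [IsSeparated fX] [QuasiCompact fX] [IsIntegral X] (δX : X → ℤ) (hX : Cyc.IsSetup X δX) (hδX : Cyc.DeltaCompat fX δX (fun _ => 0)) (dX : ℕ) (hdX : δX (genericPoint X) = dX) (NX : ℕ) (ιX : X ⟶ CohB1.ProjSpace NX K) [IsClosedImmersion ιX] (hιX : ιX ≫ CohB1.ProjSpace.toSpec NX K = fX) (Y : Scheme.{u}) (fY : Y ⟶ Spec (CommRingCat.of K)) [Smooth fY] [IsSeparated fY] [QuasiCompact fY] [IsIntegral Y] (δY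 : Y → ℤ) (hY : Cyc.IsSetup Y δY) (hδY : Cyc.DeltaCompat fY δY (fun _ => 0)) (dY : ℕ) (hdY : δY (genericPoint Y) = dY) (NY : ℕ) (ιY : Y ⟶ CohB1.ProjSpace NY K) [IsClosedImmersion ιY] (hιY : ιY ≫ CohB1.ProjSpace.toSpec NY K = fY) (f : X ⟶ Y) (hf : f ≫ fY = fX) [Flat f] [IsIntegral (pullback fX fY)] (δW : ↥(pullback fX fY) → ℤ) (hW : Cyc.IsSetup (pullback fX fY) δW) (hδW : Cyc.DeltaCompat (pullback.fst fX fY ≫ fX) δW (fun _ => 0)) (hdW : δW (genericPoint ↥(pullback fX fY)) = (dX : ℤ) + (dY : ℤ)) (NW : ℕ) (ιW : (pullback fX fY) ⟶ CohB1.ProjSpace NW K) [IsClosedImmersion ιW] (hιW : ιW ≫ CohB1.ProjSpace.toSpec NW K = pullback.fst fX fY ≫ fX) (mul : (r s : ℤ) → ChowOps.CH (pullback fX fY) δW r → ChowOps.CH (pullback fX fY) δW s → ChowOps.CH (pullback fX fY) δW (r + s - ((dX : ℤ) + (dY : ℤ)))) (hmul : ChowOps.IsChowMul (pullback fX fY) δW ((dX : ℤ) + (dY : ℤ)) mul) (γ : AlgebraicCycle (pullback fX fY) ℤ) (hγ : ⇑γ = Set.indicator {(pullback.lift (𝟙 X) f (Eq.trans (Category.id_comp fX)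 hf.symm)) (genericPoint X)} 1) (hγk : γ ∈ Cyc.Zk (pullback fX fY) δW (dX : ℤ)) (k : ℤ) (α : AlgebraicCycle Y ℤ) (hα : α ∈ Cyc.Zk Y δY k) (αW : AlgebraicCycle (pullback fX fY) ℤ) (hαW : ⇑αW = Cyc.pullFun (pullback.snd fX fY) δW δY (dX : ℤ) ⇑α) (hαWk : αW ∈ Cyc.Zk (pullback fX fY) δW (k + dX)) (ζ : AlgebraicCycle (pullback fX fY) ℤ) (hζk : ζ ∈ Cyc.Zk (pullback fX fY) δW ((dX : ℤ) + (k + dX) - ((dX : ℤ) + (dY : ℤ)))) (hζ : ChowOps.cl ζ hζk = mul (dX : ℤ) (k + dX) (ChowOps.cl γ hγk) (ChowOps.cl αW hαWk)) (αX : AlgebraicCycle X ℤ) (hαX : ⇑αX = Cyc.pullFun f δX δY ((dX : ℤ) - (dY : ℤ)) ⇑α) : Cyc.RatEquiv δX (k + dX - dY) (AlgebraicCycle.map (pullback.fst fX fY) δW δX ζ) αX := by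
  haveI := hX.1
  haveI := hY.1
  haveI := hW.1
  haveI : IsProper fY := hιY ▸ inferInstance
  haveI : Flat fX := Groth.L00.BddFib.flat_toField _
  set g := pullback.lift (𝟙 X) f (Eq.trans (Category.id_comp fX) hf.symm) with hgdef
  have hg1 : g ≫ pullback.fst fX fY = 𝟙 X := pullback.lift_fst _ _ _
  have hg2 : g ≫ pullback.snd fX fY = f := pullback.lift_snd _ _ _
  haveI : IsClosedImmersion g := by
    haveI : IsClosedImmersion (g ≫ pullback.fst fX fY) := by rw [hg1]; infer_instance
    exact IsClosedImmersion.of_comp g (pullback.fst fX fY)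
  haveI : QuasiCompact (pullback.fst fX fY ≫ fX) := inferInstance
  have hgW : g ≫ (pullback.fst fX fY ≫ fX) = fX := by rw [reassoc_of% hg1]
  have hcompat : Cyc.DeltaCompat (pullback.fst fX fY) δW δX :=
    Groth.L22.Bundle.deltaCompat_cancel (pullback.fst fX fY) fX hδW hδX
  have hc : ((dX : ℤ) + dY) - dY = dX := by omega
  obtain ⟨hprop, hval⟩ := Groth.L22.IntMult.graph_formula fX fY (pullback.fst fX fY ≫ fX) g hgW
    (pullback.snd fX fY) f hg2 hX hY hW hδX hδY hδW hdX hdY hdW (⇑γ) hγ α k hα αX hαX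
  rw [hc, ← hαW] at hprop hval
  have hg' : Cyc.DeltaCompat fX (fun x => δW (g x)) (fun _ => 0) := by
    have := Groth.L22.Bundle.deltaCompat_comp g _ hδW
    rwa [hgW] at this
  have he : ∀ x, δW (g x) = δX x := fun x => by
    obtain ⟨n, hn, e⟩ := hg' x
    obtain ⟨m, hm, e'⟩ := hδX x
    have hnm : n = m := by exact_mod_cast hn.symm.trans hm
    rw [e', ← hnm]
    exact e
  have he' : (fun x => δW (g x)) = δX := funext he
  have hαXk : αX ∈ Cyc.Zk X δX (k + dX - dY) := fun x hx => by
    rw [hαX, Cyc.pullFun]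
    split_ifs with h
    · rw [hα _ (fun e => hx (by rw [h, e]; omega)), zero_mul]
    · rfl
  have hζ'k : Groth.L22.Chern.pushC g δX δW αX ∈
      Cyc.Zk (pullback fX fY) δW ((dX : ℤ) + (k + dX) - ((dX : ℤ) + (dY : ℤ))) := by
    rw [show (dX : ℤ) + (k + dX) - ((dX : ℤ) + (dY : ℤ)) = k + dX - dY from by omega]
    exact Groth.L22.Chern.pushC_mem g hαXk
  have h1 := hmul (dX : ℤ) (k + dX) γ αW hγk hαWk hprop _ hζ'k hval.symm
  rw [← hζ] at h1
  have h2 := Groth.L22.Chern.pushC_rat (pullback.fst fX fY) hW.2.2 hX.2.2 hcompat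
    ((Groth.L22.Chern.cl_eq_iff hW.2.2 hζk hζ'k).1 h1)
  rw [map_sub] at h2
  have hcomp := Groth.L22.SubBundle.pushC_comp_closed g δW (pullback.fst fX fY) (𝟙 X) hg1 δX αX
  rw [he'] at hcomp
  have hid : Groth.L22.Chern.pushC (𝟙 X) δX δX αX = αX := by
    ext x
    exact Groth.L22.SubBundle.pushC_apply_closed (𝟙 X) δX αX x
  rw [hcomp, hid, show (dX : ℤ) + (k + dX) - ((dX : ℤ) + (dY : ℤ)) = k + dX - dY from by omega] at h2
  exact h2

end Groth.Agent.S12676
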