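import Groth.Statements.S1268
import Groth.Agent.L20.RG.ProjOpen

set_option autoImplicit false
universe u
open FlatMor

set_option backward.isDefEq.respectTransparency.types false
theorem projective_restrictScalars' {R S : Type u} [CommRing R] [CommRing S] [Algebra R S] {M : Type u} [AddCommMonoid M]
    [Module S M] [Module R M] [IsScalarTower R S M] [Module.Projective R M] : Module.Projective R (RestrictScalars R S M) :=
  Module.Projective.of_equiv
    ({ (RestrictScalars.addEquiv R S M).symm with
        map_smul' := fun r x => by
          show (RestrictScalars.addEquiv R S _).symm (r • x) = r • (RestrictScalars.addEquiv R S _).symm x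
          rw [← RestrictScalars.addEquiv_symm_map_algebraMap_smul, algebraMap_smul] } : M ≃ₗ[R] RestrictScalars R S M)

namespace Groth.Agent.S1268

open AlgebraicGeometry CategoryTheory TensorProduct in
/-- Ring form, X = Spec S and S = Spec R affine: let S be a finitely presented R-algebra, N a finitely
presented S-module and q a prime of S over p with N_q flat over R. Then there is an étale R-algebra
R' with a prime p' over p having the same residue field such that, for the base changes S', N' of S,
N to R' (any models), there is an S'-algebra C with Spec C → Spec S' an open immersion (an affine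
open U' of X ×_S S'), containing a point lying over both q and p' (there is exactly one such point
of X ×_S S'), such that C ⊗_{S'} N' (the sections of the pulled-back module over U') is a projective
R'-module. -/
theorem result {R S : Type u} [CommRing R] [CommRing S] [Algebra R S] [Algebra.FinitePresentation R S]
    (N : Type u) [AddCommGroup N] [Module S N] [Module R N] [IsScalarTower R S N] [Module.FinitePresentation S N]
    (p : Ideal R) [p.IsPrime] (q : Ideal S) [q.IsPrime] [q.LiesOver p] (hflat : FlatCA.FlatAt R q N) :
    ∃ (R' : Type u) (_ : CommRing R') (_ : Algebra R R') (p' : Ideal R') (_ : p'.IsPrime), FlatCA.IsEtaleNhd R R' p p' ∧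
      ∀ (S' N' : Type u) [CommRing S'] [Algebra R S'] [Algebra S S'] [Algebra R' S'] [IsScalarTower R S S'] [IsScalarTower R R' S']
        [Algebra.IsPushout R S R' S']
        [AddCommGroup N'] [Module S' N'] [Module S N'] [IsScalarTower S S' N']
        (f : N →ₗ[S] N'), IsBaseChange S' f →
        ∃ (C : Type u) (_ : CommRing C) (_ : Algebra S' C) (_ : Algebra R' C) (_ : IsScalarTower R' S' C)
          (x' : Ideal C) (_ : x'.IsPrime),
          IsOpenImmersion (Spec.map (CommRingCat.ofHom (algebraMap S' C))) ∧
          (x'.comap (algebraMap S' C)).LiesOver q ∧ (x'.comap (algebraMap S' C)).LiesOver p' ∧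
          Module.Projective R' (RestrictScalars R' C (C ⊗[S'] N')) := by
  classical
  obtain ⟨R', _, _, p', _, hn, a, H⟩ := Groth.L20.RG.exists_projective_open N p q hflat
  refine ⟨R', inferInstance, inferInstance, p', inferInstance, hn, ?_⟩
  intro S' N' _ _ _ _ _ _ _ _ _ _ _ f hf
  obtain ⟨b, x, hx, hxq, hxp, hproj⟩ := H S'
  haveI := hx
  let C := Localization.Away b
  have hcomp : (algebraMap (Localization.Away (algebraMap S S' a)) C).comp
      (algebraMap S' (Localization.Away (algebraMap S S' a))) = algebraMap S' C :=
    (IsScalarTower.algebraMap_eq S' (Localization.Away (algebraMap S S' a)) C).symm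
  rw [hcomp] at hxq hxp
  refine ⟨C, inferInstance, inferInstance, inferInstance, inferInstance, x, hx, ?_, ⟨hxq.symm⟩, ⟨hxp.symm⟩, ?_⟩
  · rw [← hcomp, CommRingCat.ofHom_comp, Spec.map_comp]
    infer_instance
  · haveI : SMulCommClass S' R' C := IsScalarTower.to_smulCommClass' (R := R') (A := S') (M := C)
    haveI : IsScalarTower R' C (C ⊗[S'] N') := TensorProduct.isScalarTower_left
    haveI : IsScalarTower S C (C ⊗[S'] N') := TensorProduct.isScalarTower_left
    haveI : Module.Projective R' (C ⊗[S'] N') := hproj (C ⊗[S'] N')
      (((TensorProduct.mk S' C N' 1).restrictScalars S) ∘ₗ f) (IsBaseChange.comp hf (TensorProduct.isBaseChange S' N' C))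
    exact projective_restrictScalars'

end Groth.Agent.S1268
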