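import Groth.Statements.S12686
import Groth.Agent.L16.LPsiAmple.VeryAmpleSig

set_option autoImplicit false
universe u
open CategoryTheory CategoryTheory.Limits AlgebraicGeometry TopologicalSpace Opposite
open scoped HomogeneousIdeal
noncomputable section
open EGA2

namespace Groth.Agent.S12686

/-- Let q : X → Y be a quasi-compact morphism, L an invertible O_X-module with graded symmetric algebra
𝒮L = ⊕_{n≥0} L^{⊗n} (whose relative Proj PL, given with its charts, is identified with X by its
structure morphism), and suppose the direct image E = q_*L is quasi-coherent, with graded symmetric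
algebra 𝒜 = Sym(E) (structure map jE : E → 𝒜) and projective bundle P = P(E) = Proj(𝒜) → Y given
with its charts. Let u : 𝒜 → q_*𝒮L be the graded q-morphism which on E ⊆ 𝒜 is the inclusion of q_*L
= (q_*𝒮L)_1, i.e. the adjoint of Sym(σ) for the canonical σ : q^*q_*L → L, and r = r_{L,σ} : G(σ) →
P the induced morphism on its open of definition G(σ) ⊆ PL. If L is very ample relative to q, then r
is everywhere defined (G(σ) is all of PL) and r is an immersion. (The published statement also
asserts that q_*L is quasi-coherent and that the canonical q^*q_*L → L is surjective; this row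
presupposes the former through the datum E = q_*L, and its first conclusion, that G(σ) is
everything, expresses the latter.) -/
theorem result {X Y P PL : Scheme.{u}} (q : X ⟶ Y) [QuasiCompact q]
    (L : X.Modules) (hL : PicF.IsInvertible L) (hLq : Coh.IsQCoh L)
    (𝒮L : RelProj.QCGrAlg X) (jL : L ⟶ 𝒮L.toModule) (hjL : RelProj.IsGrSymAlg L 𝒮L jL)
    (pL : PL ⟶ X) (chartL : ∀ (U : X.Opens) (hU : IsAffineOpen U), (((pL ⁻¹ᵁ U : PL.Opens) : Scheme.{u}) ≅ Proj (𝒮L.deg U hU)))
    (hPL : RelProj.IsRelProj 𝒮L pL chartL)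
    (hEq : Coh.IsQCoh ((Scheme.Modules.pushforward q).obj L))
    (𝒜 : RelProj.QCGrAlg Y) (jE : (Scheme.Modules.pushforward q).obj L ⟶ 𝒜.toModule)
    (h𝒜 : RelProj.IsGrSymAlg ((Scheme.Modules.pushforward q).obj L) 𝒜 jE)
    (u : RelProj.QGrHom q 𝒜 𝒮L)
    (hu : ∀ (U : Y.Opens) (x : Γ((Scheme.Modules.pushforward q).obj L, U)),
      (u.app U).hom ((jE.app U) x) = (jL.app (q ⁻¹ᵁ U)) x)
    (p : P ⟶ Y) (chart : ∀ (U : Y.Opens) (hU : IsAffineOpen U), (((p ⁻¹ᵁ U : P.Opens) : Scheme.{u}) ≅ Proj (𝒜.deg U hU)))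
    (hP : RelProj.IsRelProj 𝒜 p chart)
    (r : ((RelProj.domQ u pL chartL : PL.Opens) : Scheme.{u}) ⟶ P)
    (hr : RelProj.IsProjQMapOn u p chart pL chartL (RelProj.domQ u pL chartL) r)
    (h : RelProj.IsRelVeryAmple q L) :
    RelProj.domQ u pL chartL = ⊤ ∧ IsImmersion r := by
  haveI := hLq
  exact Groth.L16.LPsiRel.domQ_top_and_isImmersion u hu hL hjL h𝒜 hEq hPL hP hr h
end Groth.Agent.S12686
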