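import Groth.Statements.S12688
import Groth.Agent.L16.LPsiAmple.VeryAmpleSig
import Groth.Agent.L16.LPsiAmple.SymQHom
import Groth.Agent.L16.Acc
import Groth.Agent.L18.PBundle.FTSub

set_option autoImplicit false
universe u
open CategoryTheory CategoryTheory.Limits AlgebraicGeometry TopologicalSpace Opposite
open scoped HomogeneousIdeal
noncomputable section
open EGA2

namespace Groth.Agent.S12688

/-- Let Y be a scheme which is either quasi-compact and separated or has Noetherian underlying space, q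
: X → Y a morphism of finite type, L an invertible O_X-module with graded symmetric algebra 𝒮L =
⊕_{n≥0} L^{⊗n} (whose relative Proj PL, given with its charts, is identified with X by its structure
morphism). If L is very ample relative to q, then there are a quasi-coherent O_Y-module E of finite
type with an injective map ι : E → q_*L, its graded symmetric algebra 𝒯 = Sym(E) (structure map jE),
and the graded q-morphism u : 𝒯 → q_*𝒮L extending ι (adjoint to Sym(φ) for φ : q^*E → L the
restriction of the canonical map q^*q_*L → L), such that φ is surjective — every point of X has an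
affine neighbourhood V over which the image of a single section of E generates L — and, for the
projective bundle P(E) = Proj(𝒯) → Y (with its charts) and the induced r = r_{L,φ} : G(φ) → P(E), r
is everywhere defined (G(φ) is all of PL) and an immersion. (The published statement reads 'coherent
of finite type' for E; over an affine base whose ring is not coherent, with q the identity and L
trivial, the only possible E is O_Y itself, which is not coherent, while the published proof,
through the finite-type criterion for immersions, yields E quasi-coherent of finite type, which is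
what this row asserts.) -/
theorem result {X Y PL : Scheme.{u}}
    (hYs : (CompactSpace Y ∧ Y.IsSeparated) ∨ NoetherianSpace Y) (q : X ⟶ Y) [QuasiCompact q] [LocallyOfFiniteType q]
    (L : X.Modules) (hL : PicF.IsInvertible L) (hLq : Coh.IsQCoh L)
    (𝒮L : RelProj.QCGrAlg X) (jL : L ⟶ 𝒮L.toModule) (hjL : RelProj.IsGrSymAlg L 𝒮L jL)
    (pL : PL ⟶ X) (chartL : ∀ (U : X.Opens) (hU : IsAffineOpen U), (((pL ⁻¹ᵁ U : PL.Opens) : Scheme.{u}) ≅ Proj (𝒮L.deg U hU)))
    (hPL : RelProj.IsRelProj 𝒮L pL chartL)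
    (h : RelProj.IsRelVeryAmple q L) :
    ∃ (E : Y.Modules) (_ : Coh.IsQCoh E) (_ : CohB1.IsFT E) (ι : E ⟶ (Scheme.Modules.pushforward q).obj L)
      (_ : ∀ U : Y.Opens, Function.Injective (ι.app U))
      (𝒯 : RelProj.QCGrAlg Y) (jE : E ⟶ 𝒯.toModule) (_ : RelProj.IsGrSymAlg E 𝒯 jE)
      (u : RelProj.QGrHom q 𝒯 𝒮L)
      (_ : ∀ (U : Y.Opens) (x : Γ(E, U)), (u.app U).hom ((jE.app U) x) = (jL.app (q ⁻¹ᵁ U)) ((ι.app U) x)),
      (∀ x : X, ∃ (U : Y.Opens) (hU : IsAffineOpen U) (e : Γ(E, U)) (V : X.Opens) (hV : IsAffineOpen V)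
          (hVU : V ≤ q ⁻¹ᵁ U), x ∈ V ∧
            ((𝒮L.deg V hV 1 : AddSubgroup (𝒮L.presheaf.obj (op V))) : Set (𝒮L.presheaf.obj (op V))) ⊆
              (Ideal.span {(u.appLE U V hVU).hom ((jE.app U) e)} : Set (𝒮L.presheaf.obj (op V)))) ∧
      ∀ (P : Scheme.{u}) (p : P ⟶ Y)
          (chart : ∀ (U : Y.Opens) (hU : IsAffineOpen U), (((p ⁻¹ᵁ U : P.Opens) : Scheme.{u}) ≅ Proj (𝒯.deg U hU)))
          (_ : RelProj.IsRelProj 𝒯 p chart)
          (r : ((RelProj.domQ u pL chartL : PL.Opens) : Scheme.{u}) ⟶ P)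
          (_ : RelProj.IsProjQMapOn u p chart pL chartL (RelProj.domQ u pL chartL) r),
        RelProj.domQ u pL chartL = ⊤ ∧ IsImmersion r := by
  haveI := hLq
  haveI : CompactSpace Y := hYs.elim (fun h => h.1) fun h => inferInstance
  haveI : QuasiSeparatedSpace Y := hYs.elim (fun h => by haveI := h.2; infer_instance) fun h =>
    ⟨fun U V _ _ _ _ => NoetherianSpace.isCompact _⟩
  obtain ⟨F, ι, hι, hF, hgen⟩ := Groth.L18.PBundle.exists_ft_sub q hL h
  haveI := hF.1
  haveI := hι
  obtain ⟨u, hu⟩ := Groth.L16.SymQHom.exists_qgrHom q 𝒮L jL hjL ι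
  have hj := Groth.L18.SymSheaf.isGrSymAlg F
  refine ⟨F, hF.1, hF.2, ι, fun U => Groth.L16.Acc.app_injective ι U, _, _, hj, u, hu, ?_, ?_⟩
  · intro x
    obtain ⟨V, hV, T, hT, γ, e₀, e, c, hfr, -, hxc, -, -⟩ := hgen x
    obtain ⟨W, hW, hxW, hWT⟩ := exists_isAffineOpen_mem_and_subset (x := x) (U := T) (X.basicOpen_le c hxc)
    refine ⟨V, hV, e₀, W, hW, hWT.trans hT, hxW, fun y hy => ?_⟩
    have hf := hfr.mono hWT
    rw [Groth.L18.Frame.rs_rs] at hf
    obtain ⟨a, rfl⟩ := (Groth.L18.SymInv.mem_deg_iff hjL hW hf 1 y).mp hy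
    refine Ideal.mem_span_singleton'.mpr ⟨(𝒮L.str.app (op W)).hom a, ?_⟩
    rw [pow_one]
    exact congrArg (_ * ·) (Groth.L16.LPsiRel.au_el ι u hu e₀ (hWT.trans hT))
  intro P p chart hP r hr
  obtain ⟨htop, r', hr'p, hr', O1, lam, φ, hO1, hφ, hsol⟩ :=
    Groth.L16.LPsiRel.exists_sol ι u hu hL hjL hj hF.1 hPL hP hr fun x => by
      obtain ⟨V, hV, T, hT, γ, e₀, e, c, hfr, -, hxc, -, -⟩ := hgen x
      obtain ⟨W, hW, hxW, hWT⟩ := exists_isAffineOpen_mem_and_subset (x := x) (U := T) (X.basicOpen_le c hxc)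
      have hf := hfr.mono hWT
      rw [Groth.L18.Frame.rs_rs] at hf
      exact ⟨V, hV, e₀, W, hW, hWT.trans hT, hxW, hf⟩
  refine ⟨htop, ?_⟩
  haveI := Groth.L18.SymInv.isIso_relProj hjL hL hPL
  haveI := Groth.L18.QMap.isIso_ι_of_eq_top _ htop
  haveI := Groth.L18.PBundle.isImmersion_of_localGen hF.1 hgen hj hO1 hφ hsol
  rw [← hr']
  infer_instance
end Groth.Agent.S12688
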