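import Groth.Statements.S1269
import Groth.Agent.L20.RG.FreeOpen

set_option autoImplicit false
universe u
open FlatMor

set_option backward.isDefEq.respectTransparency.types false
open TensorProduct

theorem free_restrictScalars {R S : Type u} [CommRing R] [CommRing S] [Algebra R S] {M : Type u} [AddCommGroup M]
    [Module S M] [Module R M] [IsScalarTower R S M] [Module.Free R M] : Module.Free R (RestrictScalars R S M) :=
  Module.Free.of_equiv
    ({ (RestrictScalars.addEquiv R S M).symm with
        map_smul' := fun r x => by
          show (RestrictScalars.addEquiv R S _).symm (r • x) = r • (RestrictScalars.addEquiv R S _).symm x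
          rw [← RestrictScalars.addEquiv_symm_map_algebraMap_smul, algebraMap_smul] } : M ≃ₗ[R] RestrictScalars R S M)

namespace Groth.Agent.S1269

open AlgebraicGeometry CategoryTheory TensorProduct in
/-- Ring form, X = Spec S and S = Spec R affine: let S be a finite type R-algebra, N a finite S-module
and q a prime of S over p with N_q flat over R. Then there is an étale R-algebra R' with a prime p'
over p having the same residue field such that, writing A for the local ring of R' at p' and S_A,
N_A for the base changes (any models), there is an S_A-algebra C with Spec C → Spec S_A an open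
immersion (an affine open U'), containing a point lying over q and over the maximal ideal of A, such
that C ⊗_{S_A} N_A is a free A-module. -/
theorem result {R S : Type u} [CommRing R] [CommRing S] [Algebra R S] [Algebra.FiniteType R S]
    (N : Type u) [AddCommGroup N] [Module S N] [Module R N] [IsScalarTower R S N] [Module.Finite S N]
    (p : Ideal R) [p.IsPrime] (q : Ideal S) [q.IsPrime] [q.LiesOver p] (hflat : FlatCA.FlatAt R q N) :
    ∃ (R' : Type u) (_ : CommRing R') (_ : Algebra R R') (p' : Ideal R') (_ : p'.IsPrime), FlatCA.IsEtaleNhd R R' p p' ∧
      ∀ (SA NA : Type u) [CommRing SA] [Algebra R SA] [Algebra S SA] [Algebra (Localization.AtPrime p') SA]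
        [IsScalarTower R S SA] [IsScalarTower R (Localization.AtPrime p') SA]
        [Algebra.IsPushout R S (Localization.AtPrime p') SA]
        [AddCommGroup NA] [Module SA NA] [Module S NA] [IsScalarTower S SA NA]
        (f : N →ₗ[S] NA), IsBaseChange SA f →
        ∃ (C : Type u) (_ : CommRing C) (_ : Algebra SA C) (_ : Algebra (Localization.AtPrime p') C)
          (_ : IsScalarTower (Localization.AtPrime p') SA C) (x' : Ideal C) (_ : x'.IsPrime),
          IsOpenImmersion (Spec.map (CommRingCat.ofHom (algebraMap SA C))) ∧
          (x'.comap (algebraMap SA C)).LiesOver q ∧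
          (x'.comap (algebraMap SA C)).LiesOver (IsLocalRing.maximalIdeal (Localization.AtPrime p')) ∧
          Module.Free (Localization.AtPrime p') (RestrictScalars (Localization.AtPrime p') C (C ⊗[SA] NA)) := by
  classical
  obtain ⟨R', _, _, p', _, hn, H⟩ := Groth.L20.RG.exists_free_basicOpen N p q hflat
  refine ⟨R', inferInstance, inferInstance, p', inferInstance, hn, ?_⟩
  intro SA NA _ _ _ _ _ _ _ _ _ _ _ f hf
  let A := Localization.AtPrime p'
  letI : Module A NA := Module.compHom NA (algebraMap A SA)
  haveI : IsScalarTower A SA NA := IsScalarTower.of_algebraMap_smul fun _ _ => rfl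
  obtain ⟨g, Q, hQ, hg, hQq, hQm, hfree⟩ :=
    H A inferInstance (Groth.L20.RG.trivRes_atPrime p') SA NA f hf
  haveI := hQ
  haveI := hfree
  let C := Localization.Away g
  have hdisj : Disjoint ((Submonoid.powers g : Submonoid SA) : Set SA) (Q : Set SA) := by
    rw [Set.disjoint_left]
    rintro _ ⟨k, rfl⟩ h
    exact hg (hQ.mem_of_pow_mem k h)
  haveI := IsLocalization.isPrime_of_isPrime_disjoint (Submonoid.powers g) C Q hQ hdisj
  let x' := Q.map (algebraMap SA C)
  have hx' : x'.comap (algebraMap SA C) = Q :=
    IsLocalization.under_map_of_isPrime_disjoint (Submonoid.powers g) C hQ hdisj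
  refine ⟨C, inferInstance, inferInstance, inferInstance, inferInstance, x', inferInstance, inferInstance,
    hx'.symm ▸ hQq, hx'.symm ▸ hQm, ?_⟩
  haveI : SMulCommClass SA A C := ⟨fun s a c => by simp only [Algebra.smul_def]; ring⟩
  haveI : IsScalarTower A C (C ⊗[SA] NA) := TensorProduct.isScalarTower_left
  haveI : IsScalarTower A SA (C ⊗[SA] NA) := TensorProduct.isScalarTower_left
  haveI : Module.Free A (C ⊗[SA] NA) := Module.Free.of_equiv
    ((LocalizedModule.equivTensorProduct (Submonoid.powers g) NA).restrictScalars A)
  exact free_restrictScalars

end Groth.Agent.S1269
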