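import Groth.Statements.S12691
import Groth.Agent.L16.LPsiAmple.RelTwistIso
import Groth.Agent.L18.PBundle.Embed

set_option autoImplicit false
universe u
open CategoryTheory CategoryTheory.Limits AlgebraicGeometry TopologicalSpace Opposite
open scoped HomogeneousIdeal
noncomputable section
open Mor

namespace Groth.Agent.S12691

/-- Let f : X → Y be a quasi-compact morphism, L an invertible O_X-module with graded symmetric algebra
𝒮L = ⊕_{n≥0} L^{⊗n} (whose relative Proj PL, given with its charts, is identified with X by its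
structure morphism), 𝒜 a quasi-coherent graded O_Y-algebra generated in degree one over O_Y (its
degree-zero part is the image of O_Y and degrees zero and one generate it), u : 𝒜 → f_*𝒮L a graded
f-morphism (adjoint to a homomorphism of graded algebras ψ : f^*𝒜 → ⊕ L^{⊗n}) whose degree-one part
f^*𝒜_1 → L is surjective — every point of X has an affine neighbourhood V over which the image of a
single degree-one section of 𝒜 generates L — P = Proj(𝒜) → Y with its charts, and r = r_{L,ψ} : U(ψ)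
→ P the induced morphism on its open of definition U(ψ) ⊆ PL. If r is an immersion, then L is very
ample relative to f (isomorphic to the inverse image of O(1) along a Y-immersion into the projective
bundle of a quasi-coherent O_Y-module). -/
theorem result {X Y P PL : Scheme.{u}} (f : X ⟶ Y) [QuasiCompact f]
    (L : X.Modules) (hL : PicF.IsInvertible L) (hLq : Coh.IsQCoh L)
    (𝒮L : RelProj.QCGrAlg X) (jL : L ⟶ 𝒮L.toModule) (hjL : RelProj.IsGrSymAlg L 𝒮L jL)
    (pL : PL ⟶ X) (chartL : ∀ (U : X.Opens) (hU : IsAffineOpen U), (((pL ⁻¹ᵁ U : PL.Opens) : Scheme.{u}) ≅ Proj (𝒮L.deg U hU)))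
    (hPL : RelProj.IsRelProj 𝒮L pL chartL)
    (𝒜 : RelProj.QCGrAlg Y) (h1 : 𝒜.IsGenDegOne)
    (h0 : ∀ (U : Y.Opens) (hU : IsAffineOpen U),
      ((𝒜.deg U hU 0 : AddSubgroup (𝒜.presheaf.obj (op U))) : Set (𝒜.presheaf.obj (op U))) = Set.range (𝒜.str.app (op U)).hom)
    (u : RelProj.QGrHom f 𝒜 𝒮L)
    (hsurj : ∀ x : X, ∃ (U : Y.Opens) (hU : IsAffineOpen U) (e : 𝒜.presheaf.obj (op U)) (_ : e ∈ 𝒜.deg U hU 1)
        (V : X.Opens) (hV : IsAffineOpen V) (hVU : V ≤ f ⁻¹ᵁ U), x ∈ V ∧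
          ((𝒮L.deg V hV 1 : AddSubgroup (𝒮L.presheaf.obj (op V))) : Set (𝒮L.presheaf.obj (op V))) ⊆
            (Ideal.span {(u.appLE U V hVU).hom e} : Set (𝒮L.presheaf.obj (op V))))
    (p : P ⟶ Y) (chart : ∀ (U : Y.Opens) (hU : IsAffineOpen U), (((p ⁻¹ᵁ U : P.Opens) : Scheme.{u}) ≅ Proj (𝒜.deg U hU)))
    (hP : RelProj.IsRelProj 𝒜 p chart)
    (r : ((RelProj.domQ u pL chartL : PL.Opens) : Scheme.{u}) ⟶ P)
    (hr : RelProj.IsProjQMapOn u p chart pL chartL (RelProj.domQ u pL chartL) r)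
    (himm : IsImmersion r) :
    RelProj.IsRelVeryAmple f L := by
  haveI := hLq
  haveI := himm
  haveI := Groth.L18.SymInv.isIso_relProj hjL hL hPL
  have hcov : ∀ x : X, ∃ (U : Y.Opens) (hU : IsAffineOpen U) (e : 𝒜.presheaf.obj (op U)),
      e ∈ 𝒜.deg U hU 1 ∧ x ∈ Groth.L16.LPsiRel.nvU (j := jL) u 1 e := fun x => by
    obtain ⟨U, hU, e, he, V, hV, hVU, hxV, hsub⟩ := hsurj x
    obtain ⟨ξ, rfl⟩ : ∃ ξ, pL.base ξ = x :=
      ⟨(inv pL).base x, by rw [← Scheme.Hom.comp_apply, IsIso.inv_hom_id]; rfl⟩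
    obtain ⟨v, rfl⟩ := Groth.L18.QMap.exists_point (chart := chartL) V hV ξ hxV
    refine ⟨U, hU, e, he, (Groth.L16.LPsiRel.emb_mem_nvU_iff u hL hjL hPL he hV hVU v).mpr fun hmem => ?_⟩
    obtain ⟨t, ht, htv⟩ := Groth.L18.RelTilde.irr_le_span
      (Groth.L18.PBundle.isGenDegOne_of_isGrSymAlg hLq hjL) V hV v
    exact htv ((Ideal.span_le.mpr (by rintro _ rfl; exact hmem)) (hsub ht))
  have htop : RelProj.domQ u pL chartL = ⊤ := top_le_iff.mp fun ξ _ => by
    obtain ⟨U, hU, e, he, hx⟩ := hcov (pL.base ξ)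
    exact Groth.L16.LPsiRel.preimage_nvU_le_domQ u hL hjL hPL (hU := hU) Nat.one_pos he hx
  haveI := Groth.L18.QMap.isIso_ι_of_eq_top _ htop
  let φ := (RelProj.domQ u pL chartL).ι ≫ pL
  have hr' : (RelProj.domQ u pL chartL).ι ≫ pL ≫ inv φ ≫ r = r := by
    rw [← Category.assoc, IsIso.hom_inv_id_assoc]
  obtain ⟨O1, lam, hO1⟩ := Groth.L18.PBundle.exists_twist hP ((1 : ℕ) : ℤ)
  obtain ⟨e⟩ := Groth.L16.LPsiRel.nonempty_iso_of_cover u hL hjL hP hPL hr hr' htop hO1 fun x => by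
    obtain ⟨U, hU, s, hs, hx⟩ := hcov x
    have hss : s * s ∈ 𝒜.deg U hU (1 + 1) := SetLike.mul_mem_graded hs hs
    refine ⟨⟨U, hU, 1, Nat.one_pos, s, hs, s * s, hss⟩, hx, ?_⟩
    obtain ⟨ξ, rfl⟩ : ∃ ξ, pL.base ξ = x :=
      ⟨(inv pL).base x, by rw [← Scheme.Hom.comp_apply, IsIso.inv_hom_id]; rfl⟩
    obtain ⟨V, hV, hxV, hle⟩ := exists_isAffineOpen_mem_and_subset (x := pL.base ξ) (U := f ⁻¹ᵁ U)
      (Groth.L16.LPsiRel.nvU_le u _ _ hx)
    obtain ⟨v, rfl⟩ := Groth.L18.QMap.exists_point (chart := chartL) V hV ξ hxV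
    refine (Groth.L16.LPsiRel.emb_mem_nvU_iff u hL hjL hPL hss hV hle v).mpr fun hmem => ?_
    rw [map_mul] at hmem
    have hx' := (Groth.L16.LPsiRel.emb_mem_nvU_iff u hL hjL hPL hs hV hle v).mp hx
    exact (v.isPrime.mem_or_mem hmem).elim hx' hx'
  refine Groth.L18.PBundle.isRelVeryAmple_of_immersion h1 hP hO1 (inv φ ≫ r) ?_
    ((Groth.L00.Tensor.tensorPowOne L).symm ≪≫ e.symm)
  rw [Category.assoc, Groth.L18.QMap.comp_base u hP hPL hr, IsIso.inv_comp_eq, Category.assoc]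
end Groth.Agent.S12691
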