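import Groth.Statements.S12692
import Groth.Agent.L18.LPsi.Dominant
import Groth.Agent.L18.RelProj.Props

set_option autoImplicit false
set_option linter.style.haveILetI false
universe u
open CategoryTheory CategoryTheory.Limits AlgebraicGeometry TopologicalSpace Opposite
open scoped HomogeneousIdeal
noncomputable section
open Coh

namespace Groth.Agent.S12692

/-- Let X be a quasi-compact scheme, L an invertible O_X-module with graded symmetric algebra 𝒮L =
⊕_{d≥0} L^{⊗d} (whose relative Proj PL, given with its charts, is identified with X by its structure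
morphism), f : X → Y a quasi-compact morphism to an AFFINE scheme Y, 𝒜 a quasi-coherent graded
O_Y-algebra given with a graded f-morphism u : 𝒜 → f_*𝒮L which is bijective on global sections — so
that Γ(Y, 𝒜) is the graded ring S = ⊕_d Γ(X, L^{⊗d}) and P = Proj(𝒜) (given with its charts) is
Proj(S) — and r : G(u) → P the canonical morphism on its open of definition G(u) ⊆ PL. If G(u) is
all of PL (that is, every point of X lies in an open X_s for some homogeneous s ∈ S_+), then r is
quasi-compact and has dense image. (The published statement forms the homogeneous spectrum of the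
graded ring S itself, with no base scheme; any affine Y under X gives the same graded ring, the same
homogeneous spectrum and the same morphism.) -/
theorem result {X Y P PL : Scheme.{u}} [CompactSpace X]
    (f : X ⟶ Y) [QuasiCompact f] (hY : IsAffineOpen (⊤ : Y.Opens))
    (L : X.Modules) (hL : PicF.IsInvertible L) (hLq : Coh.IsQCoh L)
    (𝒮L : RelProj.QCGrAlg X) (jL : L ⟶ 𝒮L.toModule) (hjL : RelProj.IsGrSymAlg L 𝒮L jL)
    (pL : PL ⟶ X) (chartL : ∀ (U : X.Opens) (hU : IsAffineOpen U), (((pL ⁻¹ᵁ U : PL.Opens) : Scheme.{u}) ≅ Proj (𝒮L.deg U hU)))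
    (hPL : RelProj.IsRelProj 𝒮L pL chartL)
    (𝒜 : RelProj.QCGrAlg Y) (u : RelProj.QGrHom f 𝒜 𝒮L)
    (p : P ⟶ Y) (chart : ∀ (U : Y.Opens) (hU : IsAffineOpen U), (((p ⁻¹ᵁ U : P.Opens) : Scheme.{u}) ≅ Proj (𝒜.deg U hU)))
    (hP : RelProj.IsRelProj 𝒜 p chart)
    (r : ((RelProj.domQ u pL chartL : PL.Opens) : Scheme.{u}) ⟶ P)
    (hr : RelProj.IsProjQMapOn u p chart pL chartL (RelProj.domQ u pL chartL) r)
    (hu : Function.Bijective (u.app ⊤).hom)
    (htop : RelProj.domQ u pL chartL = ⊤) :
    QuasiCompact r ∧ IsDominant r := by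
  haveI : IsIso pL := Groth.L18.SymInv.isIso_relProj hjL hL hPL
  haveI : CompactSpace PL := QuasiCompact.compactSpace_of_compactSpace pL
  haveI : IsSeparated p := Groth.L18.RP.isSeparated hP
  haveI : IsAffine Y := by
    have : IsAffine (⊤ : Y.Opens) := hY
    exact IsAffine.of_isIso Y.topIso.inv
  haveI : P.IsSeparated := by
    rw [Scheme.isSeparated_iff, ← terminal.comp_from p]
    infer_instance
  refine ⟨?_, (Groth.L18.LPsi.isDominant_iff u (hY := hY) hL hjL hP hPL hr).mpr fun n hn s hs hloc => ?_⟩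
  · haveI : CompactSpace (RelProj.domQ u pL chartL : PL.Opens).toScheme := by
      rw [htop]
      exact isCompact_iff_compactSpace.mp CompactSpace.isCompact_univ
    infer_instance
  choose V hV hxV N hN using hloc
  obtain ⟨t, ht⟩ := isCompact_univ.elim_finite_subcover (fun x => (V x : Set X)) (fun x => (V x).2)
    fun x _ => Set.mem_iUnion.mpr ⟨x, hxV x⟩
  refine ⟨t.sup N, hu.1 ?_⟩
  rw [map_zero, map_pow]
  refine TopCat.Sheaf.eq_of_locally_eq' ⟨𝒮L.presheaf, 𝒮L.isSheaf⟩ (fun x : t => V x.1) (f ⁻¹ᵁ ⊤)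
    (fun x => homOfLE (le_top.trans (Scheme.Hom.preimage_top f).ge)) ?_ _ _ fun x => ?_
  · intro y hy
    obtain ⟨x, hx, hyx⟩ := Set.mem_iUnion₂.mp (ht (Set.mem_univ y))
    exact Opens.mem_iSup.mpr ⟨⟨x, hx⟩, hyx⟩
  · show (𝒮L.presheaf.map _).hom _ = (𝒮L.presheaf.map _).hom 0
    rw [map_pow, map_zero]
    exact pow_eq_zero_of_le (Finset.le_sup x.2) (hN x.1)

end Groth.Agent.S12692
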