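import Groth.Statements.S12693
import Groth.Agent.L18.VanImm
import Groth.Agent.L18.ProjLinear

set_option autoImplicit false
set_option backward.isDefEq.respectTransparency false
set_option linter.style.haveILetI false
universe u
open CategoryTheory CategoryTheory.Limits AlgebraicGeometry TopologicalSpace Opposite
open scoped HomogeneousIdeal
noncomputable section
open Variety

namespace Groth.Agent.S12693

open Groth.L18.Frame (rs ro rs_rs rs_self rs_smul ro_ro IsFrame pull pull_rs pull_smul)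
open Groth.L18.GenLoc Groth.L18.Ample Groth.L22.VeryAmple Groth.L18.VanImm

/-- Sections of one positive degree vanishing on `Z`, with affine loci covering the complement. -/
theorem exists_vanishing_degree {X Z : Scheme.{u}} [IsLocallyNoetherian X] [CompactSpace X] {L : X.Modules}
    (hL : CohB1.IsAmple L) (i : Z ⟶ X) [IsClosedImmersion i] (U : X.Opens)
    (hU : (U : Set X) = (Set.range i.base)ᶜ) :
    ∃ (d : ℕ) (_ : 0 < d) (ι : Type u) (_ : Finite ι) (s : ι → (Coh.structureModule X ⟶ CohB1.tensorPow L d)),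
      (∀ x ∈ U, ∃ a, x ∈ CohB1.genLocus _ (s a)) ∧ (∀ a, CohB1.genLocus _ (s a) ≤ U) ∧
      (∀ a, IsAffineOpen (CohB1.genLocus _ (s a))) ∧
      ∀ a, ProjUP.pullSec i _ (secOf (s a)) = 0 := by
  classical
  haveI : NoetherianSpace X := by
    haveI : AlgebraicGeometry.IsNoetherian X := ⟨⟩
    infer_instance
  choose m s hx hsU hs using fun x : U => exists_affine_genLocus_subset hL U x.2
  obtain ⟨T, hT⟩ := (NoetherianSpace.isCompact (U : Set X)).elim_finite_subcover
    (fun x : U => (CohB1.genLocus _ (s x) : Set X)) (fun x => (CohB1.genLocus _ (s x)).2)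
    (fun x hxU => Set.mem_iUnion.2 ⟨⟨x, hxU⟩, hx ⟨x, hxU⟩⟩)
  have hd : 0 < ∏ x ∈ T, (m x + 1) := Finset.prod_pos fun x _ => Nat.succ_pos _
  have hex : ∀ x : T, ∃ c, ∏ y ∈ T, (m y + 1) = (m x.1 + 1) * (c + 1) := fun x => by
    obtain ⟨c, hc⟩ := Finset.dvd_prod_of_mem (fun y => m y + 1) x.2
    refine ⟨c - 1, ?_⟩
    rcases c with _ | c
    · simp [hc] at hd
    · simpa using hc
  choose c hc using hex
  set d := ∏ y ∈ T, (m y + 1)
  have hloc : ∀ x : T, ∃ s' : Coh.structureModule X ⟶ CohB1.tensorPow L d,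
      CohB1.genLocus _ s' = CohB1.genLocus _ (s x.1) := fun x => by
    rw [hc x]
    refine ⟨pw (s x.1) (c x + 1) ≫ (Groth.L00.Tensor.tensorPowMul L (m x.1 + 1) (c x + 1)).hom, ?_⟩
    rw [Groth.L16.genLocus_comp_iso, genLocus_pw_succ (isInvertible_tensorPow hL.1 _)]
  choose s' hs' using hloc
  have hMd := isInvertible_tensorPow hL.1 d
  have hdis : ∀ (x : T) (z : Z), i z ∉ CohB1.genLocus _ (s' x) := fun x z hz => by
    have h1 : i z ∈ (U : Set X) := hsU x.1 ((hs' x).le hz)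
    rw [hU] at h1
    exact h1 ⟨z, rfl⟩
  choose k₀ hk₀ using fun x : T => exists_pow_vanish i hMd (s' x) (hdis x)
  obtain ⟨k, hk1, hk⟩ : ∃ k, 1 ≤ k ∧ ∀ x : T, k₀ x ≤ k :=
    ⟨(Finset.univ.sup k₀) + 1, by omega, fun x => (Finset.le_sup (Finset.mem_univ x)).trans (Nat.le_succ _)⟩
  let e := twTensorPow L d d k
  have hgl : ∀ x : T, CohB1.genLocus _ (Groth.L16.homOfSection _ (powSec (s' x) (secOf (s' x)) k)) =
      CohB1.genLocus _ (s' x) := fun x => by
    refine le_antisymm ((le_genLocus_of_isFrame_powSec hMd hMd (s' x) (s' x) hk1 ?_).trans inf_le_left)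
      (le_genLocus _ ?_)
    · have h := isFrame_genLocus (Groth.L16.homOfSection _ (powSec (s' x) (secOf (s' x)) k))
      rwa [secOf_homOfSection] at h
    · rw [secOf_homOfSection, rs_powSec]
      exact isFrame_powFrame le_rfl (isFrame_genLocus (s' x))
  refine ⟨d + d * k, by omega, T, inferInstance,
    fun x => Groth.L16.homOfSection _ (powSec (s' x) (secOf (s' x)) k) ≫ e.hom,
    fun x hxU => ?_, fun a => ?_, fun a => ?_, fun a => ?_⟩
  · obtain ⟨y, hy, hxy⟩ := Set.mem_iUnion₂.1 (hT hxU)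
    refine ⟨⟨y, hy⟩, ?_⟩
    rw [Groth.L16.genLocus_comp_iso, hgl, hs']
    exact hxy
  · rw [Groth.L16.genLocus_comp_iso, hgl, hs']
    exact hsU _
  · rw [Groth.L16.genLocus_comp_iso, hgl, hs']
    exact hs _
  · show ProjUP.pullSec i _ (e.hom.app ⊤ (secOf (Groth.L16.homOfSection _ _))) = 0
    rw [secOf_homOfSection]
    exact pullSec_iso i e _ (hk₀ a k (hk a))

/-- The main criterion in a twisted degree. -/
theorem main {k : Type u} [Field k] {X Z : Scheme.{u}} (f : X ⟶ Spec (CommRingCat.of k)) [IsProper f]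
    (i : Z ⟶ X) (U : X.Opens) [CompactSpace X] [QuasiSeparatedSpace X]
    {M : X.Modules} (hM : PicF.IsInvertible M) {ι : Type u} [Finite ι] (s : ι → (Coh.structureModule X ⟶ M))
    (hcov : ∀ x ∈ U, ∃ a, x ∈ CohB1.genLocus _ (s a)) (hsU : ∀ a, CohB1.genLocus _ (s a) ≤ U)
    (haff : ∀ a, IsAffineOpen (CohB1.genLocus _ (s a))) (hvan : ∀ a, ProjUP.pullSec i _ (secOf (s a)) = 0)
    {B : X.Modules} (hB : PicF.IsInvertible B) {σ : Type u} [Finite σ] (u : σ → (Coh.structureModule X ⟶ B))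
    (hu : ∀ x, ∃ m, x ∈ CohB1.genLocus B (u m)) :
    ∃ K₀ : ℕ, ∀ K, K₀ ≤ K → ∀ (N : X.Modules) (_ : tw B M K ≅ N),
      ProjUP.GeneratedBy (N.restrict U.ι)
        (fun v : {v : ProjUP.Γm N // ProjUP.pullSec i N v = 0} =>
          (N.restrictAppIso U.ι ⊤).inv ((N.presheaf.map (homOfLE le_top).op) v.1)) ∧
      ∀ (r : ℕ) (w : Fin (r + 1) → ProjUP.Γm N),
        (∀ v : ProjUP.Γm N, ProjUP.pullSec i N v = 0 →
          ∃ c : Fin (r + 1) → k, v = ∑ j, ProjUP.toGlobal f (c j) • w j) →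
        ∀ (φ : (U : Scheme.{u}) ⟶ CohB1.ProjSpace r k) (_ : φ ≫ CohB1.ProjSpace.toSpec r k = U.ι ≫ f)
          (τ : (Scheme.Modules.pullback φ).obj (Twist.twistProjSpace r k 1) ≅ N.restrict U.ι)
          (_ : ∀ j, τ.hom.app ⊤ (ProjUP.pullSec φ (Twist.twistProjSpace r k 1) (ProjUP.coord r k j)) =
            (N.restrictAppIso U.ι ⊤).inv ((N.presheaf.map (homOfLE le_top).op) (w j))),
          IsImmersion φ := by
  obtain ⟨γ, hγ, g, hg⟩ := exists_generators_finset f _ haff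
  obtain ⟨k₀, hk₀⟩ := exists_sections hM hB s u γ g
  refine ⟨k₀ + 1, fun K hK N e => ?_⟩
  obtain ⟨K', rfl⟩ : ∃ K', K = K' + 1 := ⟨K - 1, by omega⟩
  choose t ht using hk₀ K' (by omega)
  let G : ι × σ → X.Opens := fun p => CohB1.genLocus M (s p.1) ⊓ CohB1.genLocus B (u p.2)
  let S : (ι × σ) ⊕ ((Σ a, γ a) × σ) → Γ(tw B M (K' + 1), ⊤) :=
    Sum.elim (fun p => powSec (s p.1) (secOf (u p.2)) (K' + 1))
      (fun q => tens (tw B M K') M ⊤ (t q) (secOf (s q.1.1)))
  have hSvan : ∀ j, ProjUP.pullSec i _ (S j) = 0 := by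
    rintro (p | q)
    · exact pullSec_tens i (isInvertible_tw hB hM K') hM _ _
        (by rw [rs_self]; exact hvan p.1)
    · exact pullSec_tens i (isInvertible_tw hB hM K') hM _ _ (hvan q.1.1)
  let S₀ : (ι × σ) ⊕ ((Σ a, γ a) × σ) → Γ(N, ⊤) := fun j => e.hom.app ⊤ (S j)
  have hvan₀ : ∀ j, ProjUP.pullSec i N (S₀ j) = 0 := fun j => pullSec_iso i e _ (hSvan j)
  have hrsS : ∀ (W : X.Opens) j, rs N (le_top : W ≤ ⊤) (S₀ j) = e.hom.app W (rs _ le_top (S j)) := fun W j =>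
    (congr($(e.hom.mapPresheaf.naturality (homOfLE (le_top : W ≤ ⊤)).op) (S j))).symm
  have hG : ∀ p, CohB1.genLocus N (Groth.L16.homOfSection N (S₀ (Sum.inl p))) = G p := fun p => by
    have e1 : Groth.L16.homOfSection N (S₀ (Sum.inl p)) = Groth.L16.homOfSection _ (S (Sum.inl p)) ≫ e.hom := by
      conv_rhs => rw [← homOfSection_secOf (Groth.L16.homOfSection _ (S (Sum.inl p)) ≫ e.hom)]
      congr 1
      show _ = e.hom.app ⊤ (secOf (Groth.L16.homOfSection _ (S (Sum.inl p))))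
      rw [secOf_homOfSection]
    rw [e1, Groth.L16.genLocus_comp_iso]
    refine le_antisymm (le_genLocus_of_isFrame_powSec hM hB (s p.1) (u p.2) (K := K' + 1) (by omega) ?_)
      (le_genLocus _ ?_)
    · have h := isFrame_genLocus (Groth.L16.homOfSection _ (S (Sum.inl p)))
      rwa [secOf_homOfSection] at h
    · rw [secOf_homOfSection]
      show IsFrame _ _ (rs _ le_top (powSec _ _ _))
      rw [rs_powSec]
      refine isFrame_powFrame inf_le_left ?_
      have := (isFrame_genLocus (u p.2)).mono (inf_le_right : G p ≤ _)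
      rwa [rs_rs] at this
  have hGU : ∀ p, G p ≤ U := fun p => inf_le_left.trans (hsU p.1)
  have hGcov : ∀ x ∈ U, ∃ p, x ∈ G p := fun x hx => by
    obtain ⟨a, ha⟩ := hcov x hx
    obtain ⟨m, hm⟩ := hu x
    exact ⟨(a, m), ha, hm⟩
  refine ⟨Groth.L18.VanImm.generatedBy_of_frames _ fun x => ?_, fun r w hw φ hφ τ hτ => ?_⟩
  · obtain ⟨p, hp⟩ := hGcov x.1 x.2
    refine ⟨U.ι ⁻¹ᵁ G p, ⟨S₀ (Sum.inl p), hvan₀ _⟩, hp, ?_⟩
    have h := (genLocus_restrict U N (S₀ (Sum.inl p))).symm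
    rw [hG] at h
    rw [h]
    have h' := isFrame_genLocus (Groth.L16.homOfSection _
      (show Γ(N.restrict U.ι, ⊤) from rs N (le_top : U.ι ''ᵁ ⊤ ≤ ⊤) (S₀ (Sum.inl p))))
    rw [secOf_homOfSection] at h'
    exact h'
  choose c hc using fun j => hw (S₀ j) (hvan₀ j)
  let ℓ : (ι × σ) ⊕ ((Σ a, γ a) × σ) → Γ(Groth.L18.PUP.O1 r k, ⊤) := fun j =>
    ∑ l, ProjUP.toGlobal (Groth.L18.PUP.pr r k) (c j l) • Groth.L18.PUP.T l
  have hℓ : ∀ j, τ.hom.app ⊤ (ProjUP.pullSec φ (Groth.L18.PUP.O1 r k) (ℓ j)) =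
      rs N (le_top : U.ι ''ᵁ ⊤ ≤ ⊤) (S₀ j) := fun j => by
    rw [hc j]
    erw [Groth.L18.ProjLinear.pullSec_comb φ (Groth.L18.PUP.pr r k) (U.ι ≫ f) hφ,
      Groth.L18.ProjLinear.app_comb]
    refine Eq.trans ?_ (map_sum (N.presheaf.map (homOfLE (le_top : U.ι ''ᵁ ⊤ ≤ ⊤)).op).hom _ _).symm
    refine Finset.sum_congr rfl fun l _ => ?_
    refine (congrArg (_ • ·) (hτ l)).trans ?_
    refine (Groth.L18.Frame.restrict_smul' N U ⊤ _ _).trans ?_
    refine Eq.trans ?_ (rs_smul N (le_top : U.ι ''ᵁ ⊤ ≤ ⊤) (ProjUP.toGlobal f (c j l)) (w l)).symm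
    congr 1
  refine isImmersion_of_loci f (Groth.L18.PUP.pr r k) φ hφ τ S₀ ℓ hℓ
    (isAmple_O1 r k).1 (fun j => isAffineOpen_genLocus_O1 _) Sum.inl G hG hGU hGcov
    (fun p => ?_) fun p A hA hj => ?_
  · show IsAffineOpen (_ ⊓ _)
    rw [inf_comm]
    exact isAffineOpen_genLocus_inf hB (u p.2) (haff p.1)
  have hfrS : IsFrame N (G p) (rs N le_top (S₀ (Sum.inl p))) := by
    have h := isFrame_genLocus (Groth.L16.homOfSection N (S₀ (Sum.inl p)))
    rwa [secOf_homOfSection, hG] at h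
  have hj' : ∀ (q : (ι × σ) ⊕ ((Σ a, γ a) × σ)) (a : Γ(X, G p)),
      a • rs (tw B M (K' + 1)) (le_top : G p ≤ ⊤) (S (Sum.inl p)) = rs _ (le_top : G p ≤ ⊤) (S q) → a ∈ A :=
    fun q a h => hj q a (by rw [hrsS, hrsS, ← Scheme.Modules.Hom.app_smul, h])
  let ψ := (X.presheaf.map (homOfLE (inf_le_left : G p ≤ CohB1.genLocus M (s p.1))).op).hom
  have htop : A.comap ψ = ⊤ := hg p.1 _ (fun a => by
    show ψ (f.appLE ⊤ (CohB1.genLocus M (s p.1)) _ a) ∈ A
    rw [show ψ (f.appLE ⊤ (CohB1.genLocus M (s p.1)) _ a) = (f.appLE ⊤ (CohB1.genLocus M (s p.1)) _ ≫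
      X.presheaf.map (homOfLE (inf_le_left : G p ≤ CohB1.genLocus M (s p.1))).op) a from rfl,
      Scheme.Hom.appLE_map]
    exact hA a) fun j => hj' (Sum.inr (⟨p.1, j⟩, p.2)) _ (by
      show _ • rs (tw B M (K' + 1)) le_top (powSec (s p.1) (secOf (u p.2)) (K' + 1)) =
        rs (tw B M (K' + 1)) le_top (tens (tw B M K') M ⊤ (t (⟨p.1, j⟩, p.2)) (secOf (s p.1)))
      have h := congrArg (rs (tw B M K') (inf_le_left : G p ≤ CohB1.genLocus M (s p.1))) (ht (⟨p.1, j⟩, p.2))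
      rw [rs_rs, rs_smul, it_rs, rs_rs] at h
      rw [rs_powSec]
      erw [tens_rs]
      rw [h, tens_smul_left]
      rfl)
  refine mem_of_generated (haff p.1) u hu p.2 ?_ A (fun a => htop.ge (x := a) trivial) fun m b hb =>
    hj' (Sum.inl (p.1, m)) b ?_
  · rw [inf_comm]
    exact isAffineOpen_genLocus_inf hB (u p.2) (haff p.1)
  · show b • rs (tw B M (K' + 1)) le_top (powSec (s p.1) (secOf (u p.2)) (K' + 1)) =
      rs (tw B M (K' + 1)) le_top (powSec (s p.1) (secOf (u m)) (K' + 1))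
    rw [rs_powSec, rs_powSec, it_smul_of_le inf_le_left, hb]

/-- Let k be a field, X a scheme proper over k, L an ample invertible O_X-module, i : Z → X a closed
immersion and U the open complement of its image. Then there is an integer n₀ such that for every n
≥ n₀: the subspace V_n of those global sections of L^{⊗n} whose inverse image on Z vanishes
generates the restriction of L^{⊗n} to U, and the canonical k-morphism U → P(V_n) is an immersion —
stated through a basis: for every k-linearly independent family s_0, …, s_r of V_n spanning V_n over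
k (scalars acting through k → Γ(X, O_X)), every k-morphism φ from U to projective r-space over k
together with an isomorphism φ^*O(1) ≅ L^{⊗n}|_U carrying the inverse image of the coordinate T_j to
s_j|_U for each j is an immersion. -/
theorem result {k : Type u} [Field k] {X Z : Scheme.{u}}
    (f : X ⟶ Spec (CommRingCat.of k)) [IsProper f] (L : X.Modules) (hLa : CohB1.IsAmple L)
    (i : Z ⟶ X) [IsClosedImmersion i] (U : X.Opens) (hU : (U : Set X) = (Set.range i.base)ᶜ) :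
    ∃ n₀ : ℕ, ∀ n : ℕ, n₀ ≤ n →
      ProjUP.GeneratedBy ((CohB1.tensorPow L n).restrict U.ι)
        (fun v : {s : ProjUP.Γm (CohB1.tensorPow L n) // ProjUP.pullSec i (CohB1.tensorPow L n) s = 0} =>
          ((CohB1.tensorPow L n).restrictAppIso U.ι ⊤).inv (((CohB1.tensorPow L n).presheaf.map (homOfLE le_top).op) v.1)) ∧
      ∀ (r : ℕ) (s : Fin (r + 1) → ProjUP.Γm (CohB1.tensorPow L n)),
        (∀ j, ProjUP.pullSec i (CohB1.tensorPow L n) (s j) = 0) →
        (∀ c : Fin (r + 1) → k, (∑ j, ProjUP.toGlobal f (c j) • s j) = 0 → c = 0) →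
        (∀ v : ProjUP.Γm (CohB1.tensorPow L n), ProjUP.pullSec i (CohB1.tensorPow L n) v = 0 →
          ∃ c : Fin (r + 1) → k, v = ∑ j, ProjUP.toGlobal f (c j) • s j) →
        ∀ (φ : (U : Scheme.{u}) ⟶ CohB1.ProjSpace r k) (_ : φ ≫ CohB1.ProjSpace.toSpec r k = U.ι ≫ f)
          (τ : (Scheme.Modules.pullback φ).obj (Twist.twistProjSpace r k 1) ≅ (CohB1.tensorPow L n).restrict U.ι)
          (_ : ∀ j, τ.hom.app ⊤ (ProjUP.pullSec φ (Twist.twistProjSpace r k 1) (ProjUP.coord r k j)) =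
            ((CohB1.tensorPow L n).restrictAppIso U.ι ⊤).inv (((CohB1.tensorPow L n).presheaf.map (homOfLE le_top).op) (s j))),
          IsImmersion φ := by
  haveI : IsLocallyNoetherian X := LocallyOfFiniteType.isLocallyNoetherian f
  haveI : CompactSpace X := QuasiCompact.compactSpace_of_compactSpace f
  haveI : X.IsSeparated := Groth.L18.Ample.isSeparated_of_isAmple hLa
  obtain ⟨d, hd, ι, hι, s, hcov, hsU, haff, hvan⟩ := exists_vanishing_degree hLa i U hU
  obtain ⟨n₁, hn₁⟩ := exists_gg_powers hLa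
  have hb : ∀ j : Fin d, ∃ K₀ : ℕ, ∀ K, K₀ ≤ K → ∀ (N : X.Modules)
      (_ : tw (CohB1.tensorPow L (n₁ + j)) (CohB1.tensorPow L d) K ≅ N),
      ProjUP.GeneratedBy (N.restrict U.ι)
        (fun v : {v : ProjUP.Γm N // ProjUP.pullSec i N v = 0} =>
          (N.restrictAppIso U.ι ⊤).inv ((N.presheaf.map (homOfLE le_top).op) v.1)) ∧
      ∀ (r : ℕ) (w : Fin (r + 1) → ProjUP.Γm N),
        (∀ v : ProjUP.Γm N, ProjUP.pullSec i N v = 0 →
          ∃ c : Fin (r + 1) → k, v = ∑ j, ProjUP.toGlobal f (c j) • w j) →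
        ∀ (φ : (U : Scheme.{u}) ⟶ CohB1.ProjSpace r k) (_ : φ ≫ CohB1.ProjSpace.toSpec r k = U.ι ≫ f)
          (τ : (Scheme.Modules.pullback φ).obj (Twist.twistProjSpace r k 1) ≅ N.restrict U.ι)
          (_ : ∀ j, τ.hom.app ⊤ (ProjUP.pullSec φ (Twist.twistProjSpace r k 1) (ProjUP.coord r k j)) =
            (N.restrictAppIso U.ι ⊤).inv ((N.presheaf.map (homOfLE le_top).op) (w j))),
          IsImmersion φ := fun j => by
    obtain ⟨σ, hσ, u, hu⟩ := hn₁ (n₁ + j) (by omega)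
    exact main f i U (isInvertible_tensorPow hLa.1 d) s hcov hsU haff hvan (isInvertible_tensorPow hLa.1 _) u hu
  choose K₀ hK₀ using hb
  refine ⟨n₁ + d * (Finset.univ.sup K₀ + 1), fun n hn => ?_⟩
  let j : Fin d := ⟨(n - n₁) % d, Nat.mod_lt _ hd⟩
  have hK : K₀ j ≤ (n - n₁) / d := by
    have h1 : Finset.univ.sup K₀ + 1 ≤ (n - n₁) / d :=
      (Nat.le_div_iff_mul_le hd).2 (by rw [mul_comm]; omega)
    have h2 : K₀ j ≤ Finset.univ.sup K₀ := Finset.le_sup (Finset.mem_univ j)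
    omega
  obtain ⟨hgen, himm⟩ := hK₀ j _ hK (CohB1.tensorPow L n) (twTensorPow L (n₁ + j) d _ ≪≫
    eqToIso (congrArg (CohB1.tensorPow L) (by
      have := Nat.div_add_mod (n - n₁) d
      have hj : (j : ℕ) = (n - n₁) % d := rfl
      omega)))
  exact ⟨hgen, fun r w _ _ hspan => himm r w hspan⟩

end Groth.Agent.S12693
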