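import Groth.Statements.S12708


set_option autoImplicit false
universe u v
open CategoryTheory
open ArtFun

namespace Groth.Agent.S12708

/-- For Λ Noetherian with a finite map to a field k, A a local Λ-algebra whose residue field is k
(through a surjective Λ-algebra map A → k) and M an A-module, the length of M over Λ equals the
degree of k over the image of Λ times the length of M over A. The degree is written as the length of
k as a Λ-module, which is the same number; lengths are in ℕ∞. -/
theorem result {Λ : Type u} {k : Type u} [CommRing Λ] [Field k] [Algebra Λ k]
    [IsNoetherianRing Λ] [Module.Finite Λ k]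
    (A : Type u) [CommRing A] [Algebra Λ A] [IsLocalRing A] [Algebra A k] [IsScalarTower Λ A k]
    (hres : Function.Surjective (algebraMap A k))
    (M : Type v) [AddCommGroup M] [Module A M] [Module Λ M] [IsScalarTower Λ A M] :
    Module.length Λ k * Module.length A M = Module.length Λ M := by
  haveI hm : (RingHom.ker (Algebra.ofId A k)).IsMaximal :=
    RingHom.ker_isMaximal_of_surjective (Algebra.ofId A k).toRingHom hres
  have hstep : ∀ p q : Submodule A M, p ⋖ q → Module.length Λ q = Module.length Λ p + Module.length Λ k := by
    intro p q h
    let f : p →ₗ[A] q := Submodule.inclusion h.le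
    have key : IsSimpleModule A (q ⧸ f.range) := by
      rwa [Submodule.range_inclusion, ← covBy_iff_quot_is_simple h.le]
    obtain ⟨m, hm', ⟨e⟩⟩ := isSimpleModule_iff_quot_maximal.mp key
    rw [IsLocalRing.eq_maximalIdeal hm', ← IsLocalRing.eq_maximalIdeal hm] at e
    let g : q →ₗ[A] k :=
      ((Ideal.quotientKerAlgEquivOfSurjective (f := Algebra.ofId A k) hres).toLinearEquiv.toLinearMap.comp
        e.toLinearMap).comp f.range.mkQ
    have hinj : Function.Injective f := Submodule.inclusion_injective _
    have hsurj : Function.Surjective g :=
      ((Ideal.quotientKerAlgEquivOfSurjective (f := Algebra.ofId A k) hres).surjective.comp e.surjective).comp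
        f.range.mkQ_surjective
    have hex : Function.Exact f g := fun x => by
      constructor
      · intro hx
        have h1 : e (f.range.mkQ x) = 0 :=
          (Ideal.quotientKerAlgEquivOfSurjective (f := Algebra.ofId A k) hres).injective
            (hx.trans (map_zero _).symm)
        exact LinearMap.mem_range.1 ((Submodule.Quotient.mk_eq_zero _).1 (e.injective (h1.trans (map_zero e).symm)))
      · rintro ⟨y, rfl⟩
        change (Ideal.quotientKerAlgEquivOfSurjective (f := Algebra.ofId A k) hres) (e (f.range.mkQ (f y))) = 0
        rw [Submodule.mkQ_apply, (Submodule.Quotient.mk_eq_zero f.range).2 (LinearMap.mem_range_self f y), map_zero, map_zero]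
    exact Module.length_eq_add_of_exact (f.restrictScalars Λ) (g.restrictScalars Λ) hinj hsurj hex
  by_cases h : IsFiniteLength A M
  · obtain ⟨s, hbot, htop⟩ := isFiniteLength_iff_exists_compositionSeries.mp h
    have key : ∀ i, Module.length Λ (s i) = (i : ℕ) * Module.length Λ k := by
      intro i
      induction i using Fin.induction with
      | zero =>
        have h0 : s 0 = ⊥ := hbot
        rw [h0]
        simp
      | succ i hi => rw [hstep _ _ (s.step i), hi, Fin.val_succ, Nat.cast_add, Nat.cast_one, add_one_mul]; rfl
    have h1 := key (Fin.last s.length)
    rw [← RelSeries.last, htop, Fin.val_last, Module.length_compositionSeries s hbot htop] at h1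
    rw [mul_comm, ← h1]
    exact LinearEquiv.length_eq ((Submodule.topEquiv (R := A) (M := M)).restrictScalars Λ)
  · have h' : ¬ IsFiniteLength Λ M := fun hΛ => h (by
      rw [isFiniteLength_iff_isNoetherian_isArtinian] at hΛ ⊢
      exact hΛ.imp (isNoetherian_of_tower Λ) (isArtinian_of_tower Λ))
    rw [← Module.length_ne_top_iff, not_ne_iff] at h h'
    rw [h, h', ENat.mul_top (pos_iff_ne_zero.1 Module.length_pos)]
end Groth.Agent.S12708
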