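import Groth.Statements.S12710
import Groth.Agent.L12.ArtPullback


set_option autoImplicit false
universe u v
open CategoryTheory
open ArtFun ArtFun.Art

namespace Groth.Agent.S12710

/-- In the category of Artinian local Λ-algebras with residue field k, if f₂ : A₂ → A is surjective then
for every f₁ : A₁ → A the set-theoretic fibre product A₁ ×_A A₂ is again an object of the category:
some object B with projections to A₁ and A₂ maps bijectively onto it. (The case f₁ surjective
follows by symmetry.) -/
theorem result {Λ : Type u} {k : Type u} [CommRing Λ] [Field k] [Algebra Λ k]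
    [IsNoetherianRing Λ] [Module.Finite Λ k]
    {A A₁ A₂ : ArtFun.Art Λ k} (f₁ : A₁ ⟶ A) (f₂ : A₂ ⟶ A) (hf₂ : Function.Surjective f₂) :
    ∃ (B : ArtFun.Art Λ k) (p₁ : B ⟶ A₁) (p₂ : B ⟶ A₂), ArtFun.Art.IsFibreProd p₁ p₂ f₁ f₂ := by
  exact Groth.L12.exists_isFibreProd_of_surjective f₁ f₂ hf₂
end Groth.Agent.S12710
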