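import Groth.Statements.S12711
import Groth.Agent.L12.ArtPullback


set_option autoImplicit false
universe u v
open CategoryTheory
open ArtFun ArtFun.Art

namespace Groth.Agent.S12711

/-- If B together with p₁ : B → A₁ and p₂ : B → A₂ is the fibre product A₁ ×_A A₂ in the category of
Artinian local Λ-algebras with residue field k, and f₂ : A₂ → A is a small extension, then the
projection p₁ : B → A₁ is a small extension. -/
theorem result {Λ : Type u} {k : Type u} [CommRing Λ] [Field k] [Algebra Λ k]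
    [IsNoetherianRing Λ] [Module.Finite Λ k]
    {B A A₁ A₂ : ArtFun.Art Λ k} {p₁ : B ⟶ A₁} {p₂ : B ⟶ A₂} {f₁ : A₁ ⟶ A} {f₂ : A₂ ⟶ A}
    (h : ArtFun.Art.IsFibreProd p₁ p₂ f₁ f₂) (hf₂ : ArtFun.Art.IsSmallExt f₂) :
    ArtFun.Art.IsSmallExt p₁ := by
  exact Groth.L12.IsFP.isSmallExt_fst h hf₂
end Groth.Agent.S12711
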