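import Groth.Statements.S12712
import Groth.Agent.L12.ArtPullback
import Mathlib.Dynamics.Newton


set_option autoImplicit false
universe u v
open CategoryTheory
open ArtFun ArtFun.Art

namespace Groth.Agent.S12712

/-- If k is separable over the image of Λ → k, then for any two morphisms f₁ : A₁ → A and f₂ : A₂ → A in
the category of Artinian local Λ-algebras with residue field k the set-theoretic fibre product A₁
×_A A₂ is again an object of the category. -/
theorem result {Λ : Type u} {k : Type u} [CommRing Λ] [Field k] [Algebra Λ k]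
    [IsNoetherianRing Λ] [Module.Finite Λ k]
    [Algebra.IsSeparable (↥(algebraMap Λ k).range) k]
    {A A₁ A₂ : ArtFun.Art Λ k} (f₁ : A₁ ⟶ A) (f₂ : A₂ ⟶ A) :
    ∃ (B : ArtFun.Art Λ k) (p₁ : B ⟶ A₁) (p₂ : B ⟶ A₂), ArtFun.Art.IsFibreProd p₁ p₂ f₁ f₂ := by
  refine Groth.L12.exists_isFibreProd f₁ f₂ fun c => ?_
  obtain ⟨P, hP⟩ := Polynomial.map_surjective (algebraMap Λ k).rangeRestrict (algebraMap Λ k).rangeRestrict_surjective
    (minpoly (algebraMap Λ k).range c)
  have hev : ∀ Q : Polynomial Λ, Polynomial.aeval c Q =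
      Polynomial.aeval c (Q.map (algebraMap Λ k).rangeRestrict) := fun Q => by
    rw [Polynomial.aeval_def, Polynomial.aeval_def, Polynomial.eval₂_map]
    rfl
  have h0 : Polynomial.aeval c P = 0 := by rw [hev, hP, minpoly.aeval]
  have h1 : Polynomial.aeval c (Polynomial.derivative P) ≠ 0 := by
    rw [hev, ← Polynomial.derivative_map, hP]
    exact (Algebra.IsSeparable.isSeparable (algebraMap Λ k).range c).aeval_derivative_ne_zero (minpoly.aeval _ _)
  have key : ∀ C : ArtFun.Art Λ k, ∀ x : C, C.res x = c →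
      ∃! r, IsNilpotent (x - r) ∧ Polynomial.aeval r P = 0 := fun C x hx =>
    Polynomial.existsUnique_nilpotent_sub_and_aeval_eq_zero
      (Groth.L12.isNilpotent_of_res_eq_zero C (by rw [← Polynomial.aeval_algHom_apply, hx, h0]))
      ((Groth.L12.isUnit_iff_res_ne_zero C _).2 (by rwa [← Polynomial.aeval_algHom_apply, hx]))
  have hres : ∀ C : ArtFun.Art Λ k, ∀ x r : C, IsNilpotent (x - r) → C.res r = C.res x := fun C x r h => by
    have := (h.map C.res).eq_zero
    rw [map_sub, sub_eq_zero] at this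
    exact this.symm
  obtain ⟨x₁, hx₁⟩ := A₁.res_surjective c
  obtain ⟨x₂, hx₂⟩ := A₂.res_surjective c
  obtain ⟨r₁, ⟨hn₁, hr₁⟩, -⟩ := key A₁ x₁ hx₁
  obtain ⟨r₂, ⟨hn₂, hr₂⟩, -⟩ := key A₂ x₂ hx₂
  have e₁ : A₁.res r₁ = c := (hres A₁ x₁ r₁ hn₁).trans hx₁
  have e₂ : A₂.res r₂ = c := (hres A₂ x₂ r₂ hn₂).trans hx₂
  refine ⟨r₁, r₂, ?_, e₁⟩
  refine (key A (f₁ r₁) (by rw [ArtFun.Art.res_app, e₁])).unique ⟨?_, ?_⟩ ⟨?_, ?_⟩
  · rw [sub_self]
    exact IsNilpotent.zero
  · exact (Polynomial.aeval_algHom_apply f₁.toAlgHom r₁ P).trans (by rw [hr₁, map_zero])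
  · exact Groth.L12.isNilpotent_of_res_eq_zero A (by
      rw [map_sub, ArtFun.Art.res_app, ArtFun.Art.res_app, e₁, e₂, sub_self])
  · exact (Polynomial.aeval_algHom_apply f₂.toAlgHom r₂ P).trans (by rw [hr₂, map_zero])
end Groth.Agent.S12712
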