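import Groth.Statements.S12713
import Groth.Agent.L12.Versal


set_option autoImplicit false
universe u v
open CategoryTheory
open ArtFun ArtFun.Art

namespace Groth.Agent.S12713

/-- A small extension f : B → A in the category of Artinian local Λ-algebras with residue field k is not
an essential surjection (some morphism g : C → B is non-surjective although the composite C → A is
surjective) if and only if f has a section A → B in the category. -/
theorem result {Λ : Type u} {k : Type u} [CommRing Λ] [Field k] [Algebra Λ k]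
    [IsNoetherianRing Λ] [Module.Finite Λ k]
    {A B : ArtFun.Art Λ k} (f : B ⟶ A) (hf : ArtFun.Art.IsSmallExt f) :
    (∃ (C : ArtFun.Art Λ k) (g : C ⟶ B), Function.Surjective (g ≫ f) ∧ ¬ Function.Surjective g) ↔
      ∃ s : A ⟶ B, s ≫ f = 𝟙 A := by
  constructor
  · rintro ⟨C, g, hgf, hg⟩
    have hk := (Groth.L12.ker_eq_or_section hf (R := C) (resR := C.res) ⟨g.toAlgHom, g.res_comp⟩ hgf).resolve_left hg
    obtain ⟨s, hs⟩ := Groth.L12.exists_desc (g ≫ f) hgf g fun a ha => RingHom.mem_ker.1 (hk.symm ▸ RingHom.mem_ker.2 ha)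
    refine ⟨s, Groth.L12.hom_ext fun a => ?_⟩
    obtain ⟨c, rfl⟩ := hgf a
    change f (s ((g ≫ f) c)) = (g ≫ f) c
    rw [show s ((g ≫ f) c) = g c from congrArg (fun h : C ⟶ B => h c) hs]
    rfl
  · rintro ⟨s, hs⟩
    refine ⟨A, s, by rw [hs]; exact Function.surjective_id, fun hsurj => hf.2.1 (eq_bot_iff.2 fun b hb => ?_)⟩
    obtain ⟨a, rfl⟩ := hsurj b
    have ha : (s ≫ f) a = a := by rw [hs]; rfl
    rw [show a = 0 from ha.symm.trans (RingHom.mem_ker.1 hb)]
    simp
end Groth.Agent.S12713
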