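import Groth.Statements.S12715
import Groth.Agent.L12.Criteria


set_option autoImplicit false
universe u v
open CategoryTheory
open ArtFun

namespace Groth.Agent.S12715

/-- For Λ Noetherian with a finite map to the field k and S a complete local Noetherian Λ-algebra with
residue field k (through a surjective map S → k over Λ), the space of Λ-derivations S → k is
finite-dimensional over k. -/
theorem result {Λ : Type u} {k : Type u} [CommRing Λ] [Field k] [Algebra Λ k]
    [IsNoetherianRing Λ] [Module.Finite Λ k]
    (S : Type u) [CommRing S] [Algebra Λ S] [IsLocalRing S] [IsNoetherianRing S]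
    [IsAdicComplete (IsLocalRing.maximalIdeal S) S] [Algebra S k] [IsScalarTower Λ S k]
    (hres : Function.Surjective (algebraMap S k)) :
    Module.Finite k (Derivation Λ S k) := by
  let S' : ArtFun.CRing Λ k :=
    { carrier := S, res := IsScalarTower.toAlgHom Λ S k, res_surjective := hres, isAdicComplete := inferInstance }
  have key : ∀ D : Derivation Λ S k, ∃ φ : ArtFun.HomSet S S'.res (ArtFun.Art.dual Λ k),
      ∀ s, Groth.L12.tv (resR := S'.res) φ s = D s := by
    intro D
    let φ : S →ₐ[Λ] ArtFun.Art.dual Λ k :=
      { toFun := fun s => ((algebraMap S k s, D s) : k × k)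
        map_one' := TrivSqZeroExt.ext (map_one _) D.map_one_eq_zero
        map_mul' := fun a b => TrivSqZeroExt.ext (map_mul _ a b) (by
          change D (a * b) = algebraMap S k a • D b + MulOpposite.op (algebraMap S k b) • D a
          rw [D.leibniz, op_smul_eq_smul, algebraMap_smul, algebraMap_smul])
        map_zero' := TrivSqZeroExt.ext (map_zero _) (map_zero D)
        map_add' := fun a b => TrivSqZeroExt.ext (map_add _ a b) (map_add D a b)
        commutes' := fun l => TrivSqZeroExt.ext (by
            change algebraMap S k (algebraMap Λ S l) = TrivSqZeroExt.fst (algebraMap Λ (DualNumber k) l)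
            rw [← IsScalarTower.algebraMap_apply, TrivSqZeroExt.algebraMap_eq_inl', TrivSqZeroExt.fst_inl]) (by
            change D (algebraMap Λ S l) = TrivSqZeroExt.snd (algebraMap Λ (DualNumber k) l)
            rw [D.map_algebraMap, TrivSqZeroExt.algebraMap_eq_inl', TrivSqZeroExt.snd_inl]) }
    exact ⟨⟨φ, AlgHom.ext fun _ => rfl⟩, fun s => rfl⟩
  choose φ hφ using key
  obtain ⟨t, ht⟩ := Groth.L12.exists_tv_determining S'
  let L : Derivation Λ S k →ₗ[k] (t → k) :=
    { toFun := fun D i => D (i.1 : S)
      map_add' := fun _ _ => rfl
      map_smul' := fun _ _ => rfl }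
  refine Module.Finite.of_injective L fun D D' e => Derivation.ext fun s => ?_
  have he : φ D = φ D' := ht _ _ fun x hx => (hφ D x).trans ((congrFun e ⟨x, hx⟩).trans (hφ D' x).symm)
  rw [← hφ D, ← hφ D', he]
end Groth.Agent.S12715
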