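import Groth.Statements.S12716
import Groth.Agent.L12.SurjCrit


set_option autoImplicit false
universe u v
open CategoryTheory
open ArtFun

namespace Groth.Agent.S12716

/-- Let f : R → S be a morphism of complete local Noetherian Λ-algebras with residue field k (Λ
Noetherian, Λ → k finite). If the restriction map Der_Λ(S, k) → Der_Λ(R, k) is injective — two
Λ-derivations S → k that agree after composing with f are equal — then f is surjective. -/
theorem result {Λ : Type u} {k : Type u} [CommRing Λ] [Field k] [Algebra Λ k]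
    [IsNoetherianRing Λ] [Module.Finite Λ k]
    (R : ArtFun.CRing Λ k)
    (S : Type u) [CommRing S] [Algebra Λ S] [IsLocalRing S] [IsNoetherianRing S]
    [IsAdicComplete (IsLocalRing.maximalIdeal S) S] [Algebra S k] [IsScalarTower Λ S k]
    (hres : Function.Surjective (algebraMap S k))
    (f : R.carrier →ₐ[Λ] S) (hf : (IsScalarTower.toAlgHom Λ S k).comp f = R.res)
    (hinj : ∀ D₁ D₂ : Derivation Λ S k, (∀ r : R.carrier, D₁ (f r) = D₂ (f r)) → D₁ = D₂) :
    Function.Surjective f := by
  let S' : ArtFun.CRing Λ k :=
    { carrier := S, res := IsScalarTower.toAlgHom Λ S k, res_surjective := hres, isAdicComplete := inferInstance }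
  have hres' : ∀ (φ : ArtFun.HomSet S S'.res (ArtFun.Art.dual Λ k)) (s : S),
      TrivSqZeroExt.fst (φ.1 s) = algebraMap S k s := fun φ s => DFunLike.congr_fun φ.2 s
  let D : ArtFun.HomSet S S'.res (ArtFun.Art.dual Λ k) → Derivation Λ S k := fun φ => Derivation.mk'
    { toFun := fun s => TrivSqZeroExt.snd (φ.1 s)
      map_add' := fun a b => (congrArg TrivSqZeroExt.snd (map_add φ.1 a b)).trans (TrivSqZeroExt.snd_add _ _)
      map_smul' := fun l s => (congrArg TrivSqZeroExt.snd (map_smul φ.1 l s)).trans (TrivSqZeroExt.snd_smul _ _) }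
    fun a b => by
      refine ((congrArg TrivSqZeroExt.snd (map_mul φ.1 a b)).trans (TrivSqZeroExt.snd_mul _ _)).trans ?_
      refine congrArg₂ (· + ·) ?_ ((op_smul_eq_smul _ _).trans ?_) <;>
      · rw [hres']
        exact algebraMap_smul k _ _
  refine Groth.L12.surjective_of_tangent_injective R S' f hf fun φ ψ e => Groth.L12.tv_ext fun s => ?_
  exact DFunLike.congr_fun (hinj (D φ) (D ψ) fun r => congrArg TrivSqZeroExt.snd (e r)) s
end Groth.Agent.S12716
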