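import Groth.Statements.S12717
import Groth.Agent.L12.FunBasic


set_option autoImplicit false
universe u v
open CategoryTheory
open ArtFun

namespace Groth.Agent.S12717

/-- For functors, a morphism η : F → G of functors on the category of Artinian local Λ-algebras with
residue field k is smooth (F(B) → F(A) ×_{G(A)} G(B) surjective for every surjection B → A) as soon
as this lifting condition holds for all small extensions B → A. -/
theorem result {Λ : Type u} {k : Type u} [CommRing Λ] [Field k] [Algebra Λ k]
    [IsNoetherianRing Λ] [Module.Finite Λ k]
    {F G : ArtFun.Art Λ k ⥤ Type v} (η : F ⟶ G)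
    (h : ∀ ⦃B A : ArtFun.Art Λ k⦄ (μ : B ⟶ A), ArtFun.Art.IsSmallExt μ →
      Function.Surjective (ArtFun.relCmp η μ)) :
    ArtFun.IsSmooth η := by
  exact Groth.L12.isSmooth_of_small η h
end Groth.Agent.S12717
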