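import Groth.Statements.S1272
import Groth.Agent.L20.BlowFlat.Chart

set_option autoImplicit false
universe u
open FlatMor

set_option backward.isDefEq.respectTransparency.types false
set_option linter.style.haveILetI false
namespace Groth.Agent.S1272

open AlgebraicGeometry CategoryTheory Limits in
/-- Let S be a quasi-compact quasi-separated scheme, U ⊆ S a quasi-compact open, f : X → S locally of
finite presentation with X quasi-compact, and F a quasi-coherent O_X-module of finite type whose
restriction to f⁻¹U is of finite presentation and flat over S at every point over U. Then there are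
a finite type quasi-coherent ideal sheaf on S with support disjoint from U and a blow-up b : S' → S
of S in it (a U-admissible blow-up) such that, for the base change X' = X ×_S S' with projections
p₁, p₂ and any strict transform G of F along p₁ (the quotient of p₁^*F by the sections locally
killed by a power of the pulled-back exceptional ideal), G is an O_{X'}-module of finite
presentation and flat over S'. -/
theorem result {X S : Scheme.{u}} [CompactSpace S] [QuasiSeparatedSpace S] [CompactSpace X]
    (f : X ⟶ S) [LocallyOfFinitePresentation f] (U : S.Opens) (hU : IsCompact (U : Set S))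
    (F : X.Modules) (hqc : Coh.IsQCoh F) (hft : CohB1.IsFT F)
    (hfpU : CohB1.IsFP ((Scheme.Modules.pullback (f ⁻¹ᵁ U).ι).obj F))
    (hflU : ∀ x : X, f.base x ∈ U → FlatMod.IsFlatOverAt f F x) :
    ∃ (𝓘 : S.IdealSheafData) (S' : Scheme.{u}) (b : S' ⟶ S), BlowUp.IsBlowUp b 𝓘 ∧ BlowUp.IsAdmissibleFor U 𝓘 ∧
      ∀ (X' : Scheme.{u}) (p₁ : X' ⟶ X) (p₂ : X' ⟶ S'), IsPullback p₁ p₂ f b →
      ∀ (G : X'.Modules) (π : (Scheme.Modules.pullback p₁).obj F ⟶ G),
        BlowUp.IsStrictTransform p₁ (𝓘.comap f) F G π → CohB1.IsFP G ∧ FlatMod.IsFlatOver p₂ G := by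
  exact Groth.L20.BlowFlat.exists_flattening f U hU F hqc hft hfpU hflU


end Groth.Agent.S1272
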