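import Groth.Statements.S12725
import Groth.Agent.L12.ArtPullback
import Groth.Agent.L12.FunBasic
import Groth.Agent.L12.SurjCrit


set_option autoImplicit false
universe u v
open CategoryTheory
open ArtFun

namespace Groth.Agent.S12725

/-- For functors, if F satisfies (S2) (bijectivity of F(A ×_k k[ε]) → F(A) ×_{F(k)} F(k[ε])), then for
every object E which is a square-zero extension k ⊕ V of k by a finite-dimensional vector space —
equivalently, m_E² = 0 and the augmentation E → k has a section in the category — and every fibre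
product square B = A ×_k E, the map F(B) → F(A) ×_{F(k)} F(E) is bijective. -/
theorem result {Λ : Type u} {k : Type u} [CommRing Λ] [Field k] [Algebra Λ k]
    [IsNoetherianRing Λ] [Module.Finite Λ k]
    {F : ArtFun.Art Λ k ⥤ Type v} (hF : ArtFun.Heps F)
    {E : ArtFun.Art Λ k} (hσ : Nonempty (ArtFun.Art.base Λ k ⟶ E))
    (hE : IsLocalRing.maximalIdeal E ^ 2 = ⊥)
    ⦃B A : ArtFun.Art Λ k⦄ (p' : B ⟶ A) (p'' : B ⟶ E)
    (h : ArtFun.Art.IsFibreProd p' p'' (ArtFun.Art.toBase A) (ArtFun.Art.toBase E)) :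
    Function.Bijective (ArtFun.cmp F h) := by
  obtain ⟨σ⟩ := hσ
  suffices H : ∀ (n : ℕ) (E : ArtFun.Art Λ k), Module.length E E ≤ n → ∀ (σ : ArtFun.Art.base Λ k ⟶ E),
      IsLocalRing.maximalIdeal E ^ 2 = ⊥ → ∀ ⦃B A : ArtFun.Art Λ k⦄ (p' : B ⟶ A) (p'' : B ⟶ E)
      (h : ArtFun.Art.IsFibreProd p' p'' (ArtFun.Art.toBase A) (ArtFun.Art.toBase E)),
      Function.Bijective (ArtFun.cmp F h) by
    obtain ⟨n, hn⟩ := ENat.ne_top_iff_exists.1 (Module.length_ne_top (R := E) (M := E))
    exact H n E hn.symm.le σ hE p' p'' h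
  clear h p' p'' hE σ A B E
  intro n
  induction n with
  | zero =>
    intro E hn
    exact absurd (Nat.cast_zero (R := ℕ∞) ▸ hn) (not_le.2 Module.length_pos)
  | succ n ih =>
    intro E hn σ hE B A p' p'' h
    by_cases hm : IsLocalRing.maximalIdeal E = ⊥
    · have hb : Function.Bijective (ArtFun.Art.toBase E) := by
        refine ⟨fun a b e => sub_eq_zero.1 ((Submodule.mem_bot (R := E)).1 (hm ▸ (E.mem_maximalIdeal_iff _).2 ?_)),
          Groth.L12.toBase_surjective E⟩
        rw [map_sub, sub_eq_zero]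
        exact e
      haveI := Groth.L12.isIso_of_bijective _ hb
      haveI := Groth.L12.isIso_of_bijective p' ⟨fun a b e => h.inj _ _ e (hb.1 (by rw [← h.w_apply, ← h.w_apply, e])),
        Groth.L12.IsFP.fst_surjective h hb.2⟩
      refine ⟨(Groth.L12.cmp_inj_iff F h).2 fun z z' e₁ _ => (Groth.L12.map_bijective_of_isIso F p').1 e₁,
        (Groth.L12.cmp_surj_iff F h).2 fun x y e => ?_⟩
      obtain ⟨z, hz⟩ := (Groth.L12.map_bijective_of_isIso F p').2 x
      refine ⟨z, hz, (Groth.L12.map_bijective_of_isIso F (ArtFun.Art.toBase E)).1 ?_⟩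
      rw [Groth.L12.map_map, ← h.w, ← Groth.L12.map_map F p', hz, e]
    · obtain ⟨e₀, he, he0⟩ := Submodule.exists_mem_ne_zero_of_ne_bot hm
      obtain ⟨g, hg, hσg⟩ := Groth.L12.exists_dual_functional hE σ he he0
      have hK : Ideal.span {e₀} ≤ IsLocalRing.maximalIdeal E := (Ideal.span_singleton_le_iff_mem _).2 he
      set q := ArtFun.Art.quotMk E (Ideal.span {e₀}) hK with hq
      have hann : ∀ a ∈ IsLocalRing.maximalIdeal E, a * e₀ = 0 := fun a ha => by
        have := Ideal.mul_mem_mul ha he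
        rwa [← pow_two, hE] at this
      have hqs : ∀ c, q (σ c * e₀) = 0 := fun c =>
        Ideal.Quotient.eq_zero_iff_mem.2 (Ideal.mul_mem_left _ _ (Ideal.mem_span_singleton_self _))
      have hgs : ∀ c : k, TrivSqZeroExt.snd (g (σ c * e₀)) = c := fun c => by
        rw [map_mul]
        have h1 : g (σ c) = (ArtFun.Art.baseToDual : ArtFun.Art.base Λ k ⟶ ArtFun.Art.dual Λ k) c :=
          congrArg (fun u : ArtFun.Art.base Λ k ⟶ ArtFun.Art.dual Λ k => u c) hσg
        refine (TrivSqZeroExt.snd_mul (g (σ c)) (g e₀)).trans ?_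
        rw [hg, h1]
        change c * 1 + 0 * TrivSqZeroExt.fst (g e₀) = c
        ring
      have hE' : ArtFun.Art.IsFibreProd q g (ArtFun.Art.toBase _) (ArtFun.Art.toBase (ArtFun.Art.dual Λ k)) := by
        refine ⟨(ArtFun.Art.eq_toBase _).trans (ArtFun.Art.eq_toBase _).symm, fun a b e₁ e₂ => ?_, fun x y e => ?_⟩
        · obtain ⟨d, hd⟩ := Ideal.mem_span_singleton'.1 (Ideal.Quotient.eq.1 e₁)
          rw [← sub_eq_zero, ← hd]
          refine hann d ((E.mem_maximalIdeal_iff d).2 ?_)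
          have h1 : d * e₀ = σ (E.res d) * e₀ := sub_eq_zero.1 (by
            rw [← sub_mul]
            exact hann _ ((E.mem_maximalIdeal_iff _).2 (by
              rw [map_sub, sub_eq_zero]; exact (ArtFun.Art.res_app σ (E.res d)).symm)))
          rw [← hgs (E.res d), ← h1, hd, map_sub, show g a = g b from e₂, sub_self]
          rfl
        · obtain ⟨a, rfl⟩ := Ideal.Quotient.mk_surjective x
          refine ⟨a + σ (TrivSqZeroExt.snd y - TrivSqZeroExt.snd (g a)) * e₀, ?_, Groth.L12.dual_ext ?_ ?_⟩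
          · exact (map_add q.toAlgHom _ _).trans ((congrArg _ (hqs _)).trans (add_zero _))
          · refine ((ArtFun.Art.res_app g _).trans ?_)
            rw [map_add, map_mul E.res, (E.mem_maximalIdeal_iff _).1 he, mul_zero, add_zero]
            exact e
          · rw [map_add]
            refine (TrivSqZeroExt.snd_add _ _).trans ?_
            rw [hgs, add_sub_cancel]
      obtain ⟨C, c₁, c₂, hC⟩ := Groth.L12.exists_isFibreProd_of_surjective (ArtFun.Art.toBase A)
        (ArtFun.Art.toBase (ArtFun.Art.quot E (Ideal.span {e₀}) hK)) (Groth.L12.toBase_surjective _)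
      obtain ⟨r, hr₁, hr₂⟩ := Groth.L12.IsFP.exists_lift hC p' (p'' ≫ q)
        ((ArtFun.Art.eq_toBase _).trans (ArtFun.Art.eq_toBase _).symm)
      have hr₁' : ∀ b, c₁ (r b) = p' b := fun b => congrArg (fun u : B ⟶ A => u b) hr₁
      have hr₂' : ∀ b, c₂ (r b) = q (p'' b) := fun b => congrArg (fun u : B ⟶ _ => u b) hr₂
      have hB : ArtFun.Art.IsFibreProd r (p'' ≫ g) (ArtFun.Art.toBase C) (ArtFun.Art.toBase (ArtFun.Art.dual Λ k)) := by
        refine ⟨(ArtFun.Art.eq_toBase _).trans (ArtFun.Art.eq_toBase _).symm, fun a b e₁ e₂ => ?_, fun x y e => ?_⟩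
        · exact h.inj a b (by rw [← hr₁', ← hr₁', e₁]) (hE'.inj _ _ (by rw [← hr₂', ← hr₂', e₁]) e₂)
        · obtain ⟨z, hz₁, hz₂⟩ := hE'.surj (c₂ x) y ((ArtFun.Art.res_app c₂ x).trans e)
          obtain ⟨b, hb₁, hb₂⟩ := h.surj (c₁ x) z (by
            change A.res (c₁ x) = E.res z
            rw [ArtFun.Art.res_app, ← ArtFun.Art.res_app q z, hz₁, ArtFun.Art.res_app])
          refine ⟨b, hC.inj _ _ ((hr₁' b).trans hb₁) ((hr₂' b).trans ?_), ?_⟩
          · rw [hb₂, hz₁]
          · exact (congrArg (fun w => g w) hb₂).trans hz₂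
      have hlen : Module.length (E ⧸ Ideal.span {e₀}) (E ⧸ Ideal.span {e₀}) ≤ n := by
        have h1 : Module.length E (E ⧸ Ideal.span {e₀}) < Module.length E E :=
          Submodule.length_quotient_lt (Ideal.span {e₀}) (fun h => he0 ((Ideal.span_singleton_eq_bot).1 h))
        have h2 := lt_of_lt_of_le h1 hn
        rw [Nat.cast_succ, ENat.lt_add_one_iff (ENat.natCast_ne_top n)] at h2
        refine le_trans (le_of_eq ?_) h2
        exact (Module.length_eq_of_surjective (R := E ⧸ Ideal.span {e₀}) (S := E) (M := E ⧸ Ideal.span {e₀})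
          Ideal.Quotient.mk_surjective).symm
      have hsq : IsLocalRing.maximalIdeal (ArtFun.Art.quot E (Ideal.span {e₀}) hK) ^ 2 = ⊥ := by
        rw [← IsLocalRing.map_maximalIdeal_of_surjective q.toAlgHom.toRingHom Ideal.Quotient.mk_surjective,
          ← Ideal.map_pow, hE, Ideal.map_bot]
      have hCb := ih _ hlen (σ ≫ q) hsq c₁ c₂ hC
      have hBb := hF r (p'' ≫ g) hB
      have hEb := hF q g hE'
      refine ⟨(Groth.L12.cmp_inj_iff F h).2 fun z z' e₁ e₂ => ?_, (Groth.L12.cmp_surj_iff F h).2 fun x y e => ?_⟩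
      · refine (Groth.L12.cmp_inj_iff F hB).1 hBb.1 _ _ ((Groth.L12.cmp_inj_iff F hC).1 hCb.1 _ _ ?_ ?_) ?_
        · rwa [Groth.L12.map_map, Groth.L12.map_map, hr₁]
        · rw [Groth.L12.map_map, Groth.L12.map_map, hr₂, ← Groth.L12.map_map, ← Groth.L12.map_map, e₂]
        · rw [← Groth.L12.map_map, ← Groth.L12.map_map, e₂]
      · obtain ⟨c, hc₁, hc₂⟩ := (Groth.L12.cmp_surj_iff F hC).1 hCb.2 x (F.map q y) (by
          rw [Groth.L12.map_map F q, ArtFun.Art.eq_toBase (q ≫ _), ← e])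
        obtain ⟨b, hb₁, hb₂⟩ := (Groth.L12.cmp_surj_iff F hB).1 hBb.2 c (F.map g y) (by
          rw [Groth.L12.map_map F g, ArtFun.Art.eq_toBase (g ≫ _), ← e, ← ArtFun.Art.eq_toBase (c₁ ≫ ArtFun.Art.toBase A),
            ← Groth.L12.map_map F c₁, hc₁])
        have hb₁' : F.map p' b = x := by rw [← hr₁, ← Groth.L12.map_map, hb₁, hc₁]
        refine ⟨b, hb₁', (Groth.L12.cmp_inj_iff F hE').1 hEb.1 _ _ ?_ ?_⟩
        · rw [Groth.L12.map_map, ← hr₂, ← Groth.L12.map_map, hb₁, hc₂]
        · rw [Groth.L12.map_map, hb₂]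
end Groth.Agent.S12725
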