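import Groth.Statements.S12729
import Groth.Agent.L12.Stage


set_option autoImplicit false
universe u v
open CategoryTheory
open ArtFun

namespace Groth.Agent.S12729

/-- For functors, let F satisfy (S1), let p : B → A be a surjection in the category of Artinian local
Λ-algebras with residue field k whose kernel I is annihilated by m_B, and let x ∈ F(A). Then the set
of ideals J ⊆ I for which x lifts to F(B/J) along B/J → A has a least element. -/
theorem result {Λ : Type u} {k : Type u} [CommRing Λ] [Field k] [Algebra Λ k]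
    [IsNoetherianRing Λ] [Module.Finite Λ k]
    {F : ArtFun.Art Λ k ⥤ Type v} (h1 : ArtFun.S1 F)
    {B A : ArtFun.Art Λ k} (p : B ⟶ A) (hp : ArtFun.Art.IsSemismallExt p) (x : F.obj A) :
    ∃ (J₀ : Ideal B) (hJ₀ : J₀ ≤ RingHom.ker p.toAlgHom) (hJ₀' : J₀ ≤ IsLocalRing.maximalIdeal B),
      (∃ y : F.obj (ArtFun.Art.quot B J₀ hJ₀'), F.map (ArtFun.Art.quotFactor hJ₀' p hJ₀) y = x) ∧
      ∀ (J : Ideal B) (hJ : J ≤ RingHom.ker p.toAlgHom) (hJ' : J ≤ IsLocalRing.maximalIdeal B),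
        (∃ y : F.obj (ArtFun.Art.quot B J hJ'), F.map (ArtFun.Art.quotFactor hJ' p hJ) y = x) → J₀ ≤ J := by
  let S : Groth.L12.Stage B B.res F := ⟨A, ⟨p.toAlgHom, p.res_comp⟩, hp.1, x⟩
  let χ₀ : ArtFun.HomSet B B.res B := ⟨AlgHom.id Λ B, AlgHom.comp_id _⟩
  obtain ⟨J₀, -, hJ₀, hleast⟩ := Groth.L12.exists_least_liftIdeal h1 S (M := ⊥) hp.2.le bot_le χ₀
    Function.surjective_id (by ext a; simp [χ₀])
  have hle' : J₀ ≤ IsLocalRing.maximalIdeal B :=
    (Groth.L12.LiftIdeal.le hJ₀).trans fun b hb => (B.mem_maximalIdeal_iff b).2 (by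
      rw [← ArtFun.Art.res_app p b, RingHom.mem_ker.1 hb, map_zero])
  refine ⟨J₀, Groth.L12.LiftIdeal.le hJ₀, hle', ?_, fun J hJ hJ' ⟨y, hy⟩ => hleast J bot_le
    ⟨ArtFun.Art.quot B J hJ', ⟨(ArtFun.Art.quotMk B J hJ').toAlgHom, (ArtFun.Art.quotMk B J hJ').res_comp⟩,
      ArtFun.Art.quotFactor hJ' p hJ, y, Ideal.Quotient.mk_surjective, Ideal.mk_ker,
      Subtype.ext (AlgHom.ext fun a => rfl), hy⟩⟩
  have hJ₀' := hJ₀
  obtain ⟨E, χ, g, z, hχ, hker, hg, hz⟩ := hJ₀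
  obtain ⟨h, hh⟩ := Groth.L12.exists_desc_homSet χ hχ
    (⟨(ArtFun.Art.quotMk B J₀ hle').toAlgHom, (ArtFun.Art.quotMk B J₀ hle').res_comp⟩ :
      ArtFun.HomSet B B.res (ArtFun.Art.quot B J₀ hle'))
    (by rw [hker]; exact Ideal.mk_ker.ge)
  refine ⟨F.map h z, ?_⟩
  rw [Groth.L12.map_map, show h ≫ ArtFun.Art.quotFactor hle' p (Groth.L12.LiftIdeal.le (S := S) hJ₀') = g from ?_]
  · exact hz
  refine Groth.L12.homSet_cancel χ hχ (Eq.trans ?_ hg.symm)
  refine Subtype.ext (AlgHom.ext fun a => ?_)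
  change ArtFun.Art.quotFactor hle' p (Groth.L12.LiftIdeal.le (S := S) hJ₀') (h (χ.1 a)) = p a
  rw [show h (χ.1 a) = Ideal.Quotient.mk J₀ a from DFunLike.congr_fun (congrArg Subtype.val hh) a]
  rfl
end Groth.Agent.S12729
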