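import Groth.Statements.S12735
import Groth.Agent.L12.CRingHom


set_option autoImplicit false
universe u v
open CategoryTheory
open ArtFun

namespace Groth.Agent.S12735

/-- Let U be a prorepresentable functor on Artinian local Λ-algebras with residue field k and φ : U → U
an endomorphism of functors which is bijective on the tangent space U(k[ε]). Then φ is an
isomorphism: every component is bijective. -/
theorem result {Λ : Type u} {k : Type u} [CommRing Λ] [Field k] [Algebra Λ k]
    [IsNoetherianRing Λ] [Module.Finite Λ k]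
    {U : ArtFun.Art Λ k ⥤ Type v} (hU : ArtFun.IsProrepresentable U)
    (φ : U ⟶ U) (hd : Function.Bijective (ArtFun.TangentSpace.map φ)) (A : ArtFun.Art Λ k) :
    Function.Bijective (φ.app A) := by
  obtain ⟨P⟩ := hU
  obtain ⟨h0, hl⟩ := Groth.L12.universal_app_bijective P.family P.universal
  have hrs : Groth.L12.RS U := fun B A A' A'' p' p'' f' f'' h _ => hl p' p'' f' f'' h
  haveI : Nonempty (ArtFun.TangentStr U) := Groth.L12.nonempty_tangentStr h0 hrs.heps
  obtain ⟨g, hg, hgu'⟩ := Groth.L12.exists_along_eq h0 P.family (fun B A μ hμ ψ y hy => by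
    obtain ⟨χ, rfl⟩ := (P.universal B).2 y
    exact ⟨χ, (P.universal A).1 (by rw [P.family.natural, hy]), rfl⟩) P.ring (P.family.push φ).toFormalElt
  have hgu := Groth.L12.family_eq_of_toFormalElt hgu'
  have heq : ∀ (B : ArtFun.Art Λ k) (ψ : ArtFun.HomSet P.ring.carrier P.ring.res B),
      φ.app B (P.family.app B ψ) = P.family.app B ⟨ψ.1.comp g, by rw [← AlgHom.comp_assoc, ψ.2, hg]⟩ :=
    fun B ψ => (congrArg (fun ξ : ArtFun.Family P.ring.carrier P.ring.res U => ξ.app B ψ) hgu).symm
  have hgs : Function.Surjective g := Groth.L12.surjective_of_tangent_injective _ _ g hg fun a b e =>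
    (P.universal _).1 (hd.1 (by
      change φ.app _ (P.family.app _ a) = φ.app _ (P.family.app _ b)
      rw [heq, heq]
      exact congrArg _ (Subtype.ext (AlgHom.ext e))))
  have hgi : Function.Injective g := Groth.L12.injective_of_surjective_endo g.toRingHom hgs
  let e := AlgEquiv.ofBijective g ⟨hgi, hgs⟩
  constructor
  · intro x y h
    obtain ⟨a, rfl⟩ := (P.universal A).2 x
    obtain ⟨b, rfl⟩ := (P.universal A).2 y
    rw [heq, heq] at h
    have h' := (P.universal A).1 h
    refine congrArg _ (Subtype.ext (AlgHom.ext fun r => ?_))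
    obtain ⟨r, rfl⟩ := hgs r
    exact DFunLike.congr_fun (congrArg Subtype.val h') r
  · intro y
    obtain ⟨b, rfl⟩ := (P.universal A).2 y
    have he : P.ring.res.comp e.symm.toAlgHom = P.ring.res := AlgHom.ext fun r => by
      obtain ⟨r, rfl⟩ := hgs r
      exact (congrArg P.ring.res (e.symm_apply_apply r)).trans (DFunLike.congr_fun hg r).symm
    refine ⟨P.family.app A ⟨b.1.comp e.symm.toAlgHom, by rw [← AlgHom.comp_assoc, b.2, he]⟩, (heq A _).trans ?_⟩
    exact congrArg _ (Subtype.ext (AlgHom.ext fun r => congrArg b.1 (e.symm_apply_apply r)))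
end Groth.Agent.S12735
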