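import Groth.Statements.S12736
import Groth.Agent.L12.Tangent


set_option autoImplicit false
universe u v
open CategoryTheory
open ArtFun

namespace Groth.Agent.S12736

/-- For functors, let φ : F → G be a morphism of functors on Artinian local Λ-algebras with residue
field k whose values at k are points and which satisfy (S2), with the natural vector space
structures on their tangent spaces. Then the differential dφ : F(k[ε]) → G(k[ε]) is k-linear. -/
theorem result {Λ : Type u} {k : Type u} [CommRing Λ] [Field k] [Algebra Λ k]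
    [IsNoetherianRing Λ] [Module.Finite Λ k]
    {F G : ArtFun.Art Λ k ⥤ Type v} [ArtFun.TangentStr F] [ArtFun.TangentStr G]
    (hF0 : ArtFun.H0 F) (hF2 : ArtFun.Heps F) (hG0 : ArtFun.H0 G) (hG2 : ArtFun.Heps G) (φ : F ⟶ G) :
    ∃ f : ArtFun.TangentSpace F →ₗ[k] ArtFun.TangentSpace G, ⇑f = ArtFun.TangentSpace.map φ := by
  obtain ⟨f, hf⟩ := Groth.L12.exists_linearMap hF0 hF2 (Groth.L12.NatMap.ofNatTrans φ)
  exact ⟨f, funext hf⟩
end Groth.Agent.S12736
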