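import Groth.Statements.S12737
import Groth.Agent.L12.HullCon


set_option autoImplicit false
universe u v
open CategoryTheory
open ArtFun

namespace Groth.Agent.S12737

/-- For Λ Noetherian with a finite map to the field k there is a complete local Noetherian Λ-algebra R
with residue field k whose functor h_R on Artinian local Λ-algebras with residue field k is smooth.
(The published lemma moreover pins the cotangent data of R — the first homology of the naive
cotangent complex of k over Λ equals m_R/m_R² and Ω_{R/Λ} ⊗ k = Ω_{k/Λ}; only the existence of a
smooth R is stated here.) -/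
theorem result {Λ : Type u} {k : Type u} [CommRing Λ] [Field k] [Algebra Λ k]
    [IsNoetherianRing Λ] [Module.Finite Λ k] :
    ∃ R : ArtFun.CRing Λ k, ArtFun.IsSmoothFunctor (ArtFun.hR R.carrier R.res) := by
  obtain ⟨n, c, hc⟩ := Groth.L12.exists_generators (Λ := Λ) (k := k)
  obtain ⟨P, x, -, hx⟩ := Groth.L12.exists_free_cring c hc
  exact ⟨P, hx.smooth⟩
end Groth.Agent.S12737
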