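import Groth.Statements.S12739
import Groth.Agent.L12.CRingHom
import Groth.Agent.L12.SurjCrit


set_option autoImplicit false
universe u v
open CategoryTheory
open ArtFun

namespace Groth.Agent.S12739

/-- Let … → A₃ → A₂ → A₁ be surjective morphisms of Artinian local Λ-algebras with residue field k (Λ
Noetherian, Λ → k finite) with dim_k m_{A_n}/m_{A_n}² bounded. Then lim A_n is a complete local
Noetherian Λ-algebra with residue field k: some such S carries compatible surjective
augmentation-preserving maps S → A_n identifying S with the set of compatible sequences, and the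
kernels of S → A_n define the m_S-adic topology on S. -/
theorem result {Λ : Type u} {k : Type u} [CommRing Λ] [Field k] [Algebra Λ k]
    [IsNoetherianRing Λ] [Module.Finite Λ k]
    (A : ℕ → ArtFun.Art Λ k) (f : ∀ n, A (n + 1) ⟶ A n) (hf : ∀ n, Function.Surjective (f n))
    (d : ℕ) (hd : ∀ n, Module.finrank (IsLocalRing.ResidueField (A n)) (IsLocalRing.CotangentSpace (A n)) ≤ d) :
    ∃ (S : ArtFun.CRing Λ k) (π : ∀ n, ArtFun.HomSet S.carrier S.res (A n)),
      (∀ n, ArtFun.HomSet.map (f n) (π (n + 1)) = π n) ∧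
      (∀ n, Function.Surjective (π n).1) ∧
      (∀ a : ∀ n, A n, (∀ n, f n (a (n + 1)) = a n) → ∃! s : S.carrier, ∀ n, (π n).1 s = a n) ∧
      (∀ n, ∃ N, RingHom.ker (π N).1 ≤ IsLocalRing.maximalIdeal S.carrier ^ n) ∧
      (∀ n, ∃ N, IsLocalRing.maximalIdeal S.carrier ^ N ≤ RingHom.ker (π n).1) := by
  classical
  let D : ℕ → ℕ∞ := fun n => Module.length (A n) (A n ⧸ IsLocalRing.maximalIdeal (A n) ^ 2)
  have hD : ∀ n, D n ≤ ((d + 1 : ℕ) : ℕ∞) := fun n => by
    set m := IsLocalRing.maximalIdeal (A n)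
    let i : m.Cotangent →ₗ[A n] A n ⧸ m ^ 2 :=
      (m.cotangentIdeal.restrictScalars (A n)).subtype.comp m.cotangentEquivIdeal.toLinearMap
    let p : (A n ⧸ m ^ 2) →ₗ[A n] A n ⧸ m := Submodule.mapQ (m ^ 2) m LinearMap.id (Ideal.pow_le_self two_ne_zero)
    have h1 := Module.length_eq_add_of_exact i p
      (Subtype.coe_injective.comp m.cotangentEquivIdeal.injective)
      (fun y => by
        obtain ⟨a, rfl⟩ := Submodule.Quotient.mk_surjective m y
        exact ⟨Submodule.Quotient.mk a, rfl⟩)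
      (fun y => by
        constructor
        · intro hy
          obtain ⟨a, rfl⟩ := Submodule.Quotient.mk_surjective (m ^ 2) y
          have ha : a ∈ m := (Submodule.Quotient.mk_eq_zero m).1 hy
          exact ⟨m.toCotangent ⟨a, ha⟩, rfl⟩
        · rintro ⟨c, rfl⟩
          obtain ⟨⟨a, ha⟩, rfl⟩ := m.toCotangent_surjective c
          exact (Submodule.Quotient.mk_eq_zero m).2 ha)
    have h2 : Module.length (A n) (IsLocalRing.CotangentSpace (A n)) ≤ (d : ℕ∞) := by
      rw [Module.length_eq_of_surjective (S := A n) (R := IsLocalRing.ResidueField (A n))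
        (M := IsLocalRing.CotangentSpace (A n)) Ideal.Quotient.mk_surjective, Module.length_eq_finrank]
      exact_mod_cast hd n
    have h3 : Module.length (A n) (A n ⧸ m) = 1 := by
      haveI : IsSimpleModule (A n) (A n ⧸ m) :=
        isSimpleModule_iff_quot_maximal.2 ⟨m, IsLocalRing.maximalIdeal.isMaximal _, ⟨LinearEquiv.refl _ _⟩⟩
      exact Module.length_eq_one (A n) _
    rw [show D n = _ from h1, h3, Nat.cast_add, Nat.cast_one]
    exact add_le_add h2 le_rfl
  have hstep : ∀ n, D n ≤ D (n + 1) ∧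
      (D n = D (n + 1) → RingHom.ker (f n).toAlgHom ≤ IsLocalRing.maximalIdeal (A (n + 1)) ^ 2) := fun n => by
    set J : Ideal (A (n + 1)) := (IsLocalRing.maximalIdeal (A n) ^ 2).comap (f n).toAlgHom with hJ
    have hm2 : IsLocalRing.maximalIdeal (A (n + 1)) ^ 2 ≤ J := fun a ha => by
      have : (f n).toAlgHom a ∈ (IsLocalRing.maximalIdeal (A (n + 1)) ^ 2).map (f n).toAlgHom.toRingHom :=
        Ideal.mem_map_of_mem _ ha
      rw [Ideal.map_pow, IsLocalRing.map_maximalIdeal_of_surjective (f n).toAlgHom.toRingHom (hf n)] at this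
      exact this
    let ψ : A (n + 1) →+* A n ⧸ IsLocalRing.maximalIdeal (A n) ^ 2 :=
      (Ideal.Quotient.mk _).comp (f n).toAlgHom.toRingHom
    have hψs : Function.Surjective ψ := Ideal.Quotient.mk_surjective.comp (hf n)
    have hψk : RingHom.ker ψ = J := by
      ext a
      rw [RingHom.mem_ker]
      exact Ideal.Quotient.eq_zero_iff_mem
    letI := ψ.toAlgebra
    letI : Algebra (A (n + 1)) (A n) := (f n).toAlgHom.toRingHom.toAlgebra
    haveI : IsScalarTower (A (n + 1)) (A n) (A n ⧸ IsLocalRing.maximalIdeal (A n) ^ 2) :=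
      IsScalarTower.of_algebraMap_eq fun _ => rfl
    have e : D n = Module.length (A (n + 1)) (A (n + 1) ⧸ J) := by
      rw [show D n = _ from (Module.length_eq_of_surjective (S := A (n + 1)) (R := A n)
        (M := A n ⧸ IsLocalRing.maximalIdeal (A n) ^ 2) (hf n)).symm]
      rw [← hψk]
      exact (LinearEquiv.length_eq (Ideal.quotientKerAlgEquivOfSurjective
        (f := Algebra.ofId (A (n + 1)) (A n ⧸ IsLocalRing.maximalIdeal (A n) ^ 2)) hψs).toLinearEquiv).symm
    let p : (A (n + 1) ⧸ IsLocalRing.maximalIdeal (A (n + 1)) ^ 2) →ₗ[A (n + 1)] A (n + 1) ⧸ J :=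
      Submodule.mapQ _ J LinearMap.id hm2
    have hps : Function.Surjective p := fun y => by
      obtain ⟨a, rfl⟩ := Submodule.Quotient.mk_surjective J y
      exact ⟨Submodule.Quotient.mk a, rfl⟩
    have h1 := Module.length_eq_add_of_exact (LinearMap.ker p).subtype p Subtype.coe_injective hps
      (LinearMap.exact_subtype_ker_map p)
    rw [e, show D (n + 1) = _ from h1]
    refine ⟨le_add_self, fun heq a ha => ?_⟩
    have hfin : Module.length (A (n + 1)) (A (n + 1) ⧸ J) ≠ ⊤ := Module.length_ne_top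
    have h0 : Module.length (A (n + 1)) (LinearMap.ker p) = 0 :=
      (ENat.addLECancellable_of_ne_top hfin).inj.1 (by rw [add_zero, add_comm, ← heq])
    rw [Module.length_eq_zero_iff] at h0
    have hk : Submodule.Quotient.mk a ∈ LinearMap.ker p := (Submodule.Quotient.mk_eq_zero J).2 (by
      change (f n).toAlgHom a ∈ IsLocalRing.maximalIdeal (A n) ^ 2
      rw [RingHom.mem_ker.1 ha]
      exact zero_mem _)
    exact (Submodule.Quotient.mk_eq_zero _).1 (congrArg Subtype.val (Subsingleton.elim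
      (⟨_, hk⟩ : LinearMap.ker p) 0))
  obtain ⟨n₀, hn₀⟩ : ∃ n₀, ∀ n, n₀ ≤ n → D n = D (n + 1) := by
    choose D' hD' using fun n => ENat.ne_top_iff_exists.1 (ne_top_of_le_ne_top (ENat.natCast_ne_top _) (hD n))
    have hb : BddAbove (Set.range D') := ⟨d + 1, by
      rintro _ ⟨n, rfl⟩
      have := hD n
      rw [← hD' n] at this
      exact_mod_cast this⟩
    have hm : ∀ n, D' n ≤ D' (n + 1) := fun n => by
      have := (hstep n).1
      rw [← hD', ← hD'] at this
      exact_mod_cast this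
    obtain ⟨n₀, hn₀⟩ := Nat.sSup_mem (Set.range_nonempty D') hb
    refine ⟨n₀, fun n hn => ?_⟩
    have h1 : ∀ j, n₀ ≤ j → D' j = sSup (Set.range D') := fun j hj =>
      le_antisymm (le_csSup hb ⟨j, rfl⟩) (hn₀ ▸ monotone_nat_of_le_succ hm hj)
    rw [← hD', ← hD', h1 n hn, h1 (n + 1) (hn.trans (Nat.le_succ n))]
  obtain ⟨r, a₀, hsurj₀, hgen₀⟩ := Groth.L12.exists_generating (Groth.L12.artCRing (A (0 + n₀)))
  choose lft hlft using hf
  obtain ⟨P, x, hx, hP⟩ := Groth.L12.exists_free_cring (fun i => (A (0 + n₀)).res (a₀ i)) hsurj₀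
  have hf' : ∀ n, Function.Surjective (f n) := fun n y => ⟨lft n y, hlft n y⟩
  have hnext : ∀ N, n₀ ≤ N → ∀ φ : ArtFun.HomSet P.carrier P.res (A N), Function.Surjective φ.1 →
      ∃ ψ : ArtFun.HomSet P.carrier P.res (A (N + 1)), ArtFun.HomSet.map (f N) ψ = φ ∧ Function.Surjective ψ.1 := by
    intro N hN φ hφ
    obtain ⟨ψ, hψ⟩ := hP.lift (A (N + 1)) (fun i => lft N (φ.1 (x i))) fun i => by
      rw [← ArtFun.Art.res_app (f N), hlft, ← AlgHom.comp_apply, φ.2]
    have hmap : ArtFun.HomSet.map (f N) ψ = φ := hP.ext _ _ _ fun i => by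
      change f N (ψ.1 (x i)) = φ.1 (x i)
      rw [hψ, hlft]
    refine ⟨ψ, hmap, ?_⟩
    haveI : IsAdicComplete (IsLocalRing.maximalIdeal P.carrier) P.carrier := P.isAdicComplete
    refine Groth.L12.surjective_of_cotangent ψ.1 P.res_surjective
      (fun s => ((A _).mem_maximalIdeal_iff s).symm) ψ.2 fun y hy => ?_
    obtain ⟨p, hp⟩ := hφ (f N y)
    have hk : y - ψ.1 p ∈ IsLocalRing.maximalIdeal (A (N + 1)) ^ 2 :=
      (hstep N).2 (hn₀ N hN) (by
        rw [RingHom.mem_ker, map_sub, sub_eq_zero]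
        exact hp.symm.trans (DFunLike.congr_fun (congrArg Subtype.val hmap) p).symm)
    have hpm : p ∈ IsLocalRing.maximalIdeal P.carrier := by
      rw [ArtFun.CRing.mem_maximalIdeal_iff, ← φ.2, AlgHom.comp_apply, hp, ArtFun.Art.res_app]
      exact ((A _).mem_maximalIdeal_iff y).1 hy
    have h1 := add_mem (Ideal.mem_sup_right hk :
      y - ψ.1 p ∈ (IsLocalRing.maximalIdeal P.carrier).map ψ.1 ⊔ IsLocalRing.maximalIdeal (A (N + 1)) ^ 2)
      (Ideal.mem_sup_left (Ideal.mem_map_of_mem _ hpm))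
    rwa [sub_add_cancel] at h1
  have hshift : ∀ (m : ℕ) (B : ℕ → ArtFun.Art Λ k) (g : ∀ n, B (n + 1) ⟶ B n) (_ : ∀ n, Function.Surjective (g n))
      (φ₀ : ArtFun.HomSet P.carrier P.res (B m)) (_ : Function.Surjective φ₀.1)
      (_ : ∀ N, m ≤ N → ∀ φ : ArtFun.HomSet P.carrier P.res (B N), Function.Surjective φ.1 →
        ∃ ψ : ArtFun.HomSet P.carrier P.res (B (N + 1)), ArtFun.HomSet.map (g N) ψ = φ ∧ Function.Surjective ψ.1),
      ∃ π' : ∀ n, ArtFun.HomSet P.carrier P.res (B n),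
        (∀ n, ArtFun.HomSet.map (g n) (π' (n + 1)) = π' n) ∧ ∀ n, Function.Surjective (π' n).1 := by
    intro m
    induction m with
    | zero =>
      intro B g _ φ₀ hφ₀ hn
      choose nx hnx₁ hnx₂ using fun N φ h => hn N (Nat.zero_le N) φ h
      let c : ∀ n, {φ : ArtFun.HomSet P.carrier P.res (B n) // Function.Surjective φ.1} := fun n =>
        Nat.rec (motive := fun n => {φ : ArtFun.HomSet P.carrier P.res (B n) // Function.Surjective φ.1}) ⟨φ₀, hφ₀⟩
          (fun n φ => ⟨nx n φ.1 φ.2, hnx₂ n φ.1 φ.2⟩) n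
      exact ⟨fun n => (c n).1, fun n => hnx₁ n _ _, fun n => (c n).2⟩
    | succ m ih =>
      intro B g hg φ₀ hφ₀ hn
      obtain ⟨π', h₁, h₂⟩ := ih (fun n => B (n + 1)) (fun n => g (n + 1)) (fun n => hg (n + 1)) φ₀ hφ₀
        fun N hN => hn (N + 1) (Nat.succ_le_succ hN)
      refine ⟨fun n => Nat.casesOn (motive := fun n => ArtFun.HomSet P.carrier P.res (B n)) n
        (ArtFun.HomSet.map (g 0) (π' 0)) π', fun n => ?_, fun n => ?_⟩
      · cases n with
        | zero => rfl
        | succ n => exact h₁ n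
      · cases n with
        | zero => exact (hg 0).comp (h₂ 0)
        | succ n => exact h₂ n
  obtain ⟨φ₀, hφ₀⟩ := hP.lift (A (0 + n₀)) a₀ fun i => (hx i).symm
  obtain ⟨π', hπc, hπs⟩ := hshift (0 + n₀) A f hf' φ₀ (hgen₀ P φ₀.1 φ₀.2 fun i => ⟨x i, hφ₀ i⟩)
    fun N hN => hnext N (by omega)
  let K : ℕ → Ideal P.carrier := fun n => RingHom.ker (π' n).1
  have hanti : Antitone K := antitone_nat_of_succ_le fun n p hp => by
    rw [RingHom.mem_ker, ← hπc]
    change f n ((π' (n + 1)).1 p) = 0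
    rw [show (π' (n + 1)).1 p = 0 from hp, map_zero]
  have hopen : ∀ n, ∃ e, IsLocalRing.maximalIdeal P.carrier ^ e ≤ K n := fun n => by
    obtain ⟨e, he⟩ := Groth.L12.isNilpotent_maximalIdeal (A n)
    refine ⟨e, fun p hp => ?_⟩
    have h1 := Ideal.mem_map_of_mem (π' n).1 hp
    rw [Ideal.map_pow] at h1
    have h2 := Ideal.pow_right_mono (Groth.L12.homSet_map_max (π' n)) e h1
    rw [he] at h2
    exact h2
  have hKm : ∀ n, K n ≤ IsLocalRing.maximalIdeal P.carrier := fun n p hp => by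
    rw [ArtFun.CRing.mem_maximalIdeal_iff, ← (π' n).2, AlgHom.comp_apply, show (π' n).1 p = 0 from hp, map_zero]
  obtain ⟨S, q, hq, hqs, hqk⟩ := Groth.L12.exists_cring_quot P _ ((iInf_le K 0).trans (hKm 0))
  have hdesc : ∀ n, ∃ π : ArtFun.HomSet S.carrier S.res (A n), π.1.comp q = (π' n).1 := fun n => by
    let ψ : S.carrier →ₐ[Λ] A n := AlgHom.liftOfSurjective q hqs (π' n).1 (hqk.le.trans (iInf_le K n))
    have hψ : ∀ b, ψ (q b) = (π' n).1 b := fun b => AlgHom.liftOfSurjective_apply _ hqs _ _ b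
    refine ⟨⟨ψ, AlgHom.ext fun s => ?_⟩, AlgHom.ext hψ⟩
    obtain ⟨b, rfl⟩ := hqs s
    rw [AlgHom.comp_apply, hψ, ← AlgHom.comp_apply, (π' n).2, ← hq, AlgHom.comp_apply]
  choose π hπ using hdesc
  have hπe : ∀ n p, (π n).1 (q p) = (π' n).1 p := fun n p => DFunLike.congr_fun (hπ n) p
  have hπcS : ∀ n, ArtFun.HomSet.map (f n) (π (n + 1)) = π n := fun n => Subtype.ext (AlgHom.ext fun s => by
    obtain ⟨p, rfl⟩ := hqs s
    change f n ((π (n + 1)).1 (q p)) = (π n).1 (q p)
    rw [hπe, hπe, ← hπc n]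
    rfl)
  have htop : ∀ n, ∃ N, RingHom.ker (π N).1 ≤ IsLocalRing.maximalIdeal S.carrier ^ n := fun n => by
    obtain ⟨N, hN⟩ := Groth.L12.chevalley K hanti hopen n
    refine ⟨N, fun s hs => ?_⟩
    obtain ⟨p, rfl⟩ := hqs s
    rw [RingHom.mem_ker, hπe] at hs
    have h1 := Ideal.mem_map_of_mem q (hN hs)
    rw [Ideal.map_sup, ← hqk, Ideal.map_pow, show (RingHom.ker q).map q = ⊥ from
      le_bot_iff.1 (Ideal.map_le_iff_le_comap.2 fun z hz => hz), bot_sup_eq] at h1
    exact Ideal.pow_right_mono (Groth.L12.cringHom_map_max hq) n h1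
  have hopenS : ∀ n, ∃ N, IsLocalRing.maximalIdeal S.carrier ^ N ≤ RingHom.ker (π n).1 := fun n => by
    obtain ⟨e, he⟩ := Groth.L12.isNilpotent_maximalIdeal (A n)
    refine ⟨e, fun s hs => ?_⟩
    have h1 := Ideal.mem_map_of_mem (π n).1 hs
    rw [Ideal.map_pow] at h1
    have h2 := Ideal.pow_right_mono (Groth.L12.homSet_map_max (π n)) e h1
    rw [he] at h2
    exact h2
  refine ⟨S, π, hπcS, fun n y => ?_, fun b hb => ?_, htop, hopenS⟩
  · obtain ⟨p, hp⟩ := hπs n y
    exact ⟨q p, (hπe n p).trans hp⟩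
  have hle : ∀ {m n}, m ≤ n → ∀ s, (π n).1 s = b n → (π m).1 s = b m := fun {m n} h => by
    induction h with
    | refl => exact fun s hs => hs
    | step h ih =>
      intro s hs
      refine ih s ?_
      rw [← hπcS, ← hb]
      exact congrArg (f _).toAlgHom hs
  have hb' : ∀ n, ∃ s, (π n).1 s = b n := fun n => by
    obtain ⟨p, hp⟩ := hπs n (b n)
    exact ⟨q p, (hπe n p).trans hp⟩
  choose N hN using htop
  let N' : ℕ → ℕ := fun n => Nat.rec (N 0) (fun m acc => max (N (m + 1)) acc) n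
  have hN'1 : ∀ n, N n ≤ N' n := fun n => by
    cases n with
    | zero => exact le_rfl
    | succ n => exact le_max_left _ _
  have hN'2 : Monotone N' := monotone_nat_of_le_succ fun n => le_max_right _ _
  choose s hs using fun n => hb' (N' n)
  obtain ⟨L, hL⟩ := IsPrecomplete.prec
    (I := IsLocalRing.maximalIdeal S.carrier) (M := S.carrier) inferInstance (f := s) fun {i j} hij => by
      rw [SModEq.sub_mem, smul_eq_mul, Ideal.mul_top]
      refine hN i ?_
      rw [RingHom.mem_ker, map_sub, hle (hN'1 i) _ (hs i), hle ((hN'1 i).trans (hN'2 hij)) _ (hs j), sub_self]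
  have hLb : ∀ n, (π n).1 L = b n := fun n => by
    obtain ⟨e, he⟩ := hopenS n
    obtain ⟨p, hp⟩ : ∃ p, (π n).1 p = b n := hb' n
    have h1 : ∀ i, e ≤ i → (π n).1 L = (π n).1 (s i) := fun i hi => by
      have h2 := SModEq.sub_mem.1 (hL i)
      rw [smul_eq_mul, Ideal.mul_top] at h2
      have h3 := he (Ideal.pow_le_pow_right hi h2)
      rw [RingHom.mem_ker, map_sub, sub_eq_zero] at h3
      exact h3.symm
    obtain ⟨t, ht⟩ := hb' (max n (N' e))
    have h5 : t - s e ∈ IsLocalRing.maximalIdeal S.carrier ^ e := by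
      refine hN e ?_
      rw [RingHom.mem_ker, map_sub, hle (hN'1 e) _ (hs e), hle ((hN'1 e).trans (le_max_right _ _)) _ ht, sub_self]
    have h6 := he h5
    rw [RingHom.mem_ker, map_sub, sub_eq_zero] at h6
    rw [h1 e le_rfl, ← h6, hle (le_max_left _ _) _ ht]
  refine ⟨L, hLb, fun L' hL' => ?_⟩
  refine Groth.L12.eq_of_forall_sub_mem_pow (IsLocalRing.maximalIdeal S.carrier) fun n => hN n ?_
  rw [RingHom.mem_ker, map_sub, hL', hLb, sub_self]
end Groth.Agent.S12739
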