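import Groth.Statements.S12744
import Groth.Agent.L12.CRingHom


set_option autoImplicit false
universe u v
open CategoryTheory
open ArtFun

namespace Groth.Agent.S12744

/-- For functors, if η : F → G is a smooth morphism of functors on Artinian local Λ-algebras with
residue field k and F(k) → G(k) is surjective, then for every complete local Noetherian R with
residue field k the induced map on formal elements over R (compatible systems of elements over the
truncations R/m^(n+1)) is surjective. -/
theorem result {Λ : Type u} {k : Type u} [CommRing Λ] [Field k] [Algebra Λ k]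
    [IsNoetherianRing Λ] [Module.Finite Λ k]
    {F G : ArtFun.Art Λ k ⥤ Type v} (η : F ⟶ G) (hη : ArtFun.IsSmooth η)
    (h0 : Function.Surjective (η.app (ArtFun.Art.base Λ k))) (R : ArtFun.CRing Λ k) :
    Function.Surjective (fun u : ArtFun.FormalElt F R => u.map η) := by
  intro u
  have hsA := Groth.L12.surjective_app_of_smooth η hη h0
  have hstep : ∀ n (x : F.obj (R.trunc n)), η.app _ x = u.elt n →
      ∃ y : F.obj (R.trunc (n + 1)), η.app _ y = u.elt (n + 1) ∧ F.map (R.truncMap n) y = x := fun n x hx => by
    obtain ⟨z, hz₁, hz₂⟩ := (Groth.L12.relCmp_surj_iff η _).1 (hη _ (Groth.L12.truncMap_surjective R n)) x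
      (u.elt (n + 1)) (by rw [hx, u.compat])
    exact ⟨z, hz₂, hz₁⟩
  choose nxt hnxt hmap using hstep
  let v : ∀ n, {x : F.obj (R.trunc n) // η.app _ x = u.elt n} := fun n =>
    Nat.rec (motive := fun n => {x : F.obj (R.trunc n) // η.app _ x = u.elt n})
      ⟨(hsA _ (u.elt 0)).choose, (hsA _ (u.elt 0)).choose_spec⟩
      (fun n x => ⟨nxt n x.1 x.2, hnxt n x.1 x.2⟩) n
  exact ⟨⟨fun n => (v n).1, fun n => hmap n _ _⟩, ArtFun.FormalElt.ext' fun n => (v n).2⟩
end Groth.Agent.S12744
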