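import Groth.Statements.S12747
import Groth.Agent.L12.FunPullback
import Groth.Agent.L12.Torsor


set_option autoImplicit false
universe u v
open CategoryTheory
open ArtFun

namespace Groth.Agent.S12747

/-- For functors, let H₁ → G, H₂ → G and q : G → F be morphisms of functors on Artinian local Λ-algebras
with residue field k where F and G are deformation functors (value at k a point, condition (RS)) and
q is injective on tangent spaces. Then the induced morphism H₁ ×_G H₂ → H₁ ×_F H₂ is smooth. (The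
published statement also assumes that infinitesimal automorphisms of G map onto those of F; for
functors that condition is empty.) -/
theorem result {Λ : Type u} {k : Type u} [CommRing Λ] [Field k] [Algebra Λ k]
    [IsNoetherianRing Λ] [Module.Finite Λ k]
    {F G H₁ H₂ : ArtFun.Art Λ k ⥤ Type v} (p₁ : H₁ ⟶ G) (p₂ : H₂ ⟶ G) (q : G ⟶ F)
    (hF0 : ArtFun.H0 F) (hF : (∀ ⦃B A A' A'' : ArtFun.Art Λ k⦄ (p' : B ⟶ A') (p'' : B ⟶ A'') (f' : A' ⟶ A) (f'' : A'' ⟶ A)
        (h : ArtFun.Art.IsFibreProd p' p'' f' f''), Function.Surjective f'' → Function.Bijective (ArtFun.cmp F h)))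
    (hG0 : ArtFun.H0 G) (hG : (∀ ⦃B A A' A'' : ArtFun.Art Λ k⦄ (p' : B ⟶ A') (p'' : B ⟶ A'') (f' : A' ⟶ A) (f'' : A'' ⟶ A)
        (h : ArtFun.Art.IsFibreProd p' p'' f' f''), Function.Surjective f'' → Function.Bijective (ArtFun.cmp G h)))
    (hq : Function.Injective (ArtFun.TangentSpace.map q)) :
    ArtFun.IsSmooth (CategoryTheory.Limits.pullback.map p₁ p₂ (p₁ ≫ q) (p₂ ≫ q) (𝟙 H₁) (𝟙 H₂) q
      (CategoryTheory.Category.id_comp _).symm (CategoryTheory.Category.id_comp _).symm) := by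
  have hG' : Groth.L12.RS G := fun B A A' A'' p' p'' f' f'' h hs => hG p' p'' f' f'' h hs
  have hF' : Groth.L12.RS F := fun B A A' A'' p' p'' f' f'' h hs => hF p' p'' f' f'' h hs
  have hinj : ∀ C, Function.Injective ((Groth.L12.NatMap.ofNatTrans q).app C) :=
    Groth.L12.NatMap.injective_criterion _ hG0 hG'.hbar hG'.heps hF'.heps hF'.hsq hq
  intro B A μ hμ
  refine (Groth.L12.relCmp_surj_iff _ μ).2 fun x y e => ?_
  have hw := Groth.L12.pb_w (p₁ ≫ q) (p₂ ≫ q) y
  obtain ⟨z, hz₁, hz₂⟩ := Groth.L12.pb_surj p₁ p₂ _ _ (hinj B hw)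
  have key₁ := fun (C : ArtFun.Art Λ k) (w : (Limits.pullback p₁ p₂).obj C) =>
    ConcreteCategory.congr_hom (congr_app (Limits.pullback.lift_fst (f := p₁ ≫ q) (g := p₂ ≫ q)
      (Limits.pullback.fst p₁ p₂ ≫ 𝟙 H₁) (Limits.pullback.snd p₁ p₂ ≫ 𝟙 H₂) (by
        simp [Limits.pullback.condition_assoc])) C) w
  have key₂ := fun (C : ArtFun.Art Λ k) (w : (Limits.pullback p₁ p₂).obj C) =>
    ConcreteCategory.congr_hom (congr_app (Limits.pullback.lift_snd (f := p₁ ≫ q) (g := p₂ ≫ q)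
      (Limits.pullback.fst p₁ p₂ ≫ 𝟙 H₁) (Limits.pullback.snd p₁ p₂ ≫ 𝟙 H₂) (by
        simp [Limits.pullback.condition_assoc])) C) w
  have h1 : (Limits.pullback.fst (p₁ ≫ q) (p₂ ≫ q)).app A _ = (Limits.pullback.fst p₁ p₂).app A x := key₁ A x
  have h2 : (Limits.pullback.snd (p₁ ≫ q) (p₂ ≫ q)).app A _ = (Limits.pullback.snd p₁ p₂).app A x := key₂ A x
  refine ⟨z, Groth.L12.pb_ext p₁ p₂ ?_ ?_, Groth.L12.pb_ext _ _ ((key₁ B z).trans hz₁) ((key₂ B z).trans hz₂)⟩
  · rw [Groth.L12.nat_apply, hz₁, ← Groth.L12.nat_apply, ← e]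
    exact h1
  · rw [Groth.L12.nat_apply, hz₂, ← Groth.L12.nat_apply, ← e]
    exact h2
end Groth.Agent.S12747
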