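import Groth.Statements.S12748
import Groth.Agent.L12.PSRing


set_option autoImplicit false
universe u v
open CategoryTheory
open ArtFun ArtFun.CRing

namespace Groth.Agent.S12748

/-- Let R' → R be a morphism of complete local Noetherian Λ-algebras with residue field k with an
R'-algebra retraction ρ : R → R', so that R = R' ⊕ I for the ideal I = ker ρ; let x₁, …, x_r ∈ I map
to a basis of I/m_R I and let φ : R'[[X₁, …, X_r]] → R be an R'-algebra map sending X_i to x_i. If
for all large n the induced map R'[[X]]/m^n → R/m_R^n has a left inverse — a Λ-algebra map g_n : R →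
R'[[X]]/m^n with g_n ∘ φ equal to the quotient map — then φ is an isomorphism. -/
theorem result {Λ : Type u} {k : Type u} [CommRing Λ] [Field k] [Algebra Λ k]
    [IsNoetherianRing Λ] [Module.Finite Λ k]
    (R' R : ArtFun.CRing Λ k) [Algebra R'.carrier R.carrier] [IsScalarTower Λ R'.carrier R.carrier]
    (hc : R.res.comp (IsScalarTower.toAlgHom Λ R'.carrier R.carrier) = R'.res)
    (ρ : R.carrier →ₐ[R'.carrier] R'.carrier)
    (r : ℕ) (x : Fin r → R.carrier) (hxI : ∀ i, ρ (x i) = 0)
    (hspan : Ideal.span (Set.range x) ⊔ IsLocalRing.maximalIdeal R.carrier * RingHom.ker ρ = RingHom.ker ρ)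
    (hli : ∀ c : Fin r → R.carrier, (∑ i, c i * x i) ∈ IsLocalRing.maximalIdeal R.carrier * RingHom.ker ρ →
      ∀ i, c i ∈ IsLocalRing.maximalIdeal R.carrier)
    (φ : MvPowerSeries (Fin r) R'.carrier →ₐ[R'.carrier] R.carrier) (hφ : ∀ i, φ (MvPowerSeries.X i) = x i)
    (hinv : ∃ N : ℕ, ∀ n, N ≤ n →
      ∃ g : R.carrier →ₐ[Λ] (MvPowerSeries (Fin r) R'.carrier ⧸
          IsLocalRing.maximalIdeal (MvPowerSeries (Fin r) R'.carrier) ^ n),
        ∀ s, g (φ s) = Ideal.Quotient.mk _ s) :
    Function.Bijective φ := by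
  obtain ⟨N, hN⟩ := hinv
  have hinj : Function.Injective φ := fun s t e => by
    haveI := (Groth.L12.isAdicComplete_mvPowerSeries (σ := Fin r) (R := R'.carrier))
    refine Groth.L12.eq_of_forall_sub_mem_pow (IsLocalRing.maximalIdeal (MvPowerSeries (Fin r) R'.carrier)) fun n => ?_
    obtain ⟨g, hg⟩ := hN (n + N) (Nat.le_add_left _ _)
    exact Ideal.pow_le_pow_right (Nat.le_add_right n N) (Ideal.Quotient.eq.1 ((hg s).symm.trans ((congrArg g e).trans (hg t))))
  refine ⟨hinj, ?_⟩
  haveI := Groth.L12.isAdicComplete_mvPowerSeries (σ := Fin r) (R := R'.carrier)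
  let φ' : (Groth.L12.psRing R' (Fin r)).carrier →ₐ[Λ] R.carrier :=
    { φ.toRingHom with
      commutes' := fun l => by
        change φ (algebraMap Λ (MvPowerSeries (Fin r) R'.carrier) l) = _
        rw [IsScalarTower.algebraMap_apply Λ R'.carrier (MvPowerSeries (Fin r) R'.carrier), AlgHom.commutes,
          ← IsScalarTower.algebraMap_apply] }
  have hxm : ∀ i, x i ∈ IsLocalRing.maximalIdeal R.carrier := fun i => by
    by_contra h
    rw [IsLocalRing.mem_maximalIdeal, mem_nonunits_iff, not_not] at h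
    exact (h.map ρ).ne_zero (hxI i)
  have hres : R.res.comp φ' = (Groth.L12.psRing R' (Fin r)).res := by
    haveI : IsAdicComplete (IsLocalRing.maximalIdeal k) k := (Groth.L12.artCRing (ArtFun.Art.base Λ k)).isAdicComplete
    refine Groth.L12.psHom_ext R' (S := k) (fun i => ?_) (AlgHom.ext fun a => ?_) fun i => ?_
    · change R.res (φ _) ∈ _
      rw [hφ, (ArtFun.CRing.mem_maximalIdeal_iff R _).1 (hxm i)]
      exact zero_mem _
    · change R.res (φ (MvPowerSeries.C a)) = R'.res (MvPowerSeries.constantCoeff (MvPowerSeries.C a : MvPowerSeries (Fin r) R'.carrier))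
      rw [MvPowerSeries.constantCoeff_C, ← hc]
      exact congrArg R.res (φ.commutes a)
    · change R.res (φ _) = (Groth.L12.psRing R' (Fin r)).res _
      rw [hφ, (ArtFun.CRing.mem_maximalIdeal_iff R _).1 (hxm i)]
      exact (Groth.L12.psX_res R' (Fin r) i).symm
  refine Groth.L12.surjective_of_cotangent φ' (Groth.L12.psRing R' (Fin r)).res_surjective
    (fun a => (ArtFun.CRing.mem_maximalIdeal_iff R a).symm) hres fun y hy => ?_
  have hy' : ρ y ∈ IsLocalRing.maximalIdeal R'.carrier := by
    by_contra h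
    rw [IsLocalRing.mem_maximalIdeal, mem_nonunits_iff, not_not] at h
    have hu := h.map (algebraMap R'.carrier R.carrier)
    have hsub : y - algebraMap R'.carrier R.carrier (ρ y) ∈ IsLocalRing.maximalIdeal R.carrier := by
      by_contra h'
      rw [IsLocalRing.mem_maximalIdeal, mem_nonunits_iff, not_not] at h'
      refine (h'.map ρ).ne_zero ?_
      rw [map_sub, AlgHom.commutes, Algebra.algebraMap_self_apply, sub_self]
    have h2 := sub_mem hy hsub
    rw [sub_sub_cancel] at h2
    exact (IsLocalRing.mem_maximalIdeal _).1 h2 hu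
  have hker : y - algebraMap R'.carrier R.carrier (ρ y) ∈ RingHom.ker ρ := by
    rw [RingHom.mem_ker, map_sub, AlgHom.commutes, Algebra.algebraMap_self_apply, sub_self]
  rw [← sub_add_cancel y (algebraMap R'.carrier R.carrier (ρ y))]
  refine add_mem ?_ (Ideal.mem_sup_left ?_)
  · rw [← hspan] at hker
    refine (sup_le (le_sup_of_le_left (Ideal.span_le.2 ?_)) (le_sup_of_le_right ?_) :
      Ideal.span (Set.range x) ⊔ IsLocalRing.maximalIdeal R.carrier * RingHom.ker ρ ≤ _) hker
    · rintro - ⟨i, rfl⟩
      rw [← hφ i]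
      exact Ideal.mem_map_of_mem φ' (Groth.L12.X_mem_maximalIdeal i)
    · rw [pow_two]
      refine Ideal.mul_mono_right fun z hz => ?_
      by_contra h
      rw [IsLocalRing.mem_maximalIdeal, mem_nonunits_iff, not_not] at h
      exact (h.map ρ).ne_zero (RingHom.mem_ker.1 hz)
  · rw [← φ.commutes]
    exact Ideal.mem_map_of_mem φ' (Groth.L12.C_mem_maximalIdeal hy')
end Groth.Agent.S12748
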