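import Groth.Statements.S12751
import Groth.Agent.L12.EssKaehler


set_option autoImplicit false
universe u v
open CategoryTheory
open scoped TensorProduct
open ArtFun ArtFun.Art

namespace Groth.Agent.S12751

/-- A morphism f : B → A in the category of Artinian local Λ-algebras with residue field k is surjective
if and only if Ω_{B/Λ} ⊗_B k → Ω_{A/Λ} ⊗_A k is surjective; by right exactness of the sequence
Ω_{B/Λ} ⊗_B A → Ω_{A/Λ} → Ω_{A/B} → 0 this surjectivity is the vanishing of Ω_{A/B} ⊗_A k, which is
how it is written here (A a B-algebra through f, k an A-module through the augmentation). -/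
theorem result {Λ : Type u} {k : Type u} [CommRing Λ] [Field k] [Algebra Λ k]
    [IsNoetherianRing Λ] [Module.Finite Λ k]
    {A B : ArtFun.Art Λ k} (f : B ⟶ A) :
    letI : Algebra B A := f.toAlgHom.toRingHom.toAlgebra
    letI : Algebra A k := A.res.toRingHom.toAlgebra
    Function.Surjective f ↔ Subsingleton (k ⊗[A] Ω[A⁄B]) := by
  exact Groth.L12.surjective_iff_kaehler f
end Groth.Agent.S12751
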