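import Groth.Statements.S12753
import Groth.Agent.L12.EssKaehler


set_option autoImplicit false
universe u v
open CategoryTheory
open ArtFun ArtFun.Art

namespace Groth.Agent.S12753

/-- Suppose k is separable over the image of Λ → k. A morphism f : B → A in the category of Artinian
local Λ-algebras with residue field k is an essential surjection (surjective, and any morphism g
into B with g followed by f surjective is surjective) if and only if the map of cotangent spaces
relative to Λ, m_B/(m_Λ B + m_B²) → m_A/(m_Λ A + m_A²), is an isomorphism; surjectivity and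
injectivity are written out in terms of ideals, m_Λ being the kernel of Λ → k. -/
theorem result {Λ : Type u} {k : Type u} [CommRing Λ] [Field k] [Algebra Λ k]
    [IsNoetherianRing Λ] [Module.Finite Λ k]
    [Algebra.IsSeparable (↥(algebraMap Λ k).range) k]
    {A B : ArtFun.Art Λ k} (f : B ⟶ A) :
    (Function.Surjective f ∧ ∀ (C : ArtFun.Art Λ k) (g : C ⟶ B), Function.Surjective (g ≫ f) → Function.Surjective g) ↔
      (Ideal.map (algebraMap Λ A) (RingHom.ker (algebraMap Λ k)) ⊔ Ideal.map f.toAlgHom (IsLocalRing.maximalIdeal B) ⊔ IsLocalRing.maximalIdeal A ^ 2 =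
          IsLocalRing.maximalIdeal A ∧
        ∀ b ∈ IsLocalRing.maximalIdeal B, f b ∈ Ideal.map (algebraMap Λ A) (RingHom.ker (algebraMap Λ k)) ⊔ IsLocalRing.maximalIdeal A ^ 2 →
          b ∈ Ideal.map (algebraMap Λ B) (RingHom.ker (algebraMap Λ k)) ⊔ IsLocalRing.maximalIdeal B ^ 2) := by
  rw [Groth.L12.essSurj_iff]
  constructor
  · rintro ⟨hs, hk⟩
    refine ⟨((Groth.L12.art_surjective_tfae f).out 0 2).1 hs, fun b hb hfb => ?_⟩
    have hle : Ideal.map (algebraMap Λ A) (RingHom.ker (algebraMap Λ k)) ⊔ IsLocalRing.maximalIdeal A ^ 2 ≤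
        (Ideal.map (algebraMap Λ B) (RingHom.ker (algebraMap Λ k)) ⊔ IsLocalRing.maximalIdeal B ^ 2).map f.toAlgHom := by
      rw [Ideal.map_sup, Ideal.map_pow]
      refine sup_le_sup ?_ (Ideal.pow_right_mono ?_ _)
      · refine Ideal.map_le_iff_le_comap.2 fun l hl => ?_
        rw [Ideal.mem_comap, ← f.toAlgHom.commutes l]
        exact Ideal.mem_map_of_mem _ (Ideal.mem_map_of_mem _ hl)
      · exact (IsLocalRing.map_maximalIdeal_of_surjective (f.toAlgHom : B →+* A) hs).ge
    obtain ⟨c, hc, hce⟩ := (Ideal.mem_map_iff_of_surjective f.toAlgHom hs).1 (hle hfb)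
    have h1 := Groth.L12.ker_le_cotangent_of_essSurj f hk (b - c) (by
      change f.toAlgHom (b - c) = 0
      rw [map_sub, hce, sub_self])
    have h2 := add_mem h1 hc
    rwa [sub_add_cancel] at h2
  · rintro ⟨hs, hk⟩
    refine ⟨((Groth.L12.art_surjective_tfae f).out 2 0).1 hs, fun g b hb => ?_⟩
    refine Groth.L12.snd_eq_zero_of_mem_cotangent g (hk b ?_ (by rw [hb]; exact zero_mem _))
    rw [B.mem_maximalIdeal_iff, ← Art.res_app f, hb, map_zero]
end Groth.Agent.S12753
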