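import Groth.Statements.S12754


set_option autoImplicit false
universe u
open CategoryTheory
open ArtFun

namespace Groth.Agent.S12754

/-- A K-linear functor L from finite-dimensional K-vector spaces to K-vector spaces (K a field) is
isomorphic to the functor V ↦ L(K) ⊗_K V. (Existence of an isomorphism of functors, which is how the
published statement reads; the natural choice sends x ⊗ v to L(f_v)(x) with f_v : K → V, 1 ↦ v.) -/
theorem result (K : Type u) [Field K]
    (L : FGModuleCat.{u} K ⥤ ModuleCat.{u} K) [L.Additive] [Functor.Linear K L] :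
    Nonempty (L ≅ (ModuleCat.isFG.{u} K).ι ⋙ MonoidalCategory.tensorLeft (L.obj (FGModuleCat.of K K))) := by
  let f : ∀ V : FGModuleCat.{u} K, V →ₗ[K] (FGModuleCat.of K K ⟶ V) := fun V =>
    { toFun := fun v => FGModuleCat.ofHom (LinearMap.toSpanSingleton K V v)
      map_add' := fun v w => by ext; exact smul_add _ v w
      map_smul' := fun c v => by ext; exact smul_comm _ c v }
  let α : ∀ V : FGModuleCat.{u} K, L.obj (FGModuleCat.of K K) →ₗ[K] V →ₗ[K] L.obj V := fun V =>
    LinearMap.mk₂ K (fun x v => (L.map (f V v)).hom x)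
      (fun x y v => map_add _ x y) (fun c x v => map_smul _ c x)
      (fun x v w => by rw [map_add, L.map_add]; rfl)
      (fun c x v => by rw [map_smul, L.map_smul]; rfl)
  let θ : ∀ V : FGModuleCat.{u} K, ((ModuleCat.isFG.{u} K).ι ⋙
      MonoidalCategory.tensorLeft (L.obj (FGModuleCat.of K K))).obj V ⟶ L.obj V := fun V =>
    ModuleCat.ofHom (TensorProduct.lift (α V))
  have hbij : ∀ V : FGModuleCat.{u} K, Function.Bijective (TensorProduct.lift (α V)) := fun V => by
    let b := Module.finBasis K V
    have key : ∀ (x : L.obj (FGModuleCat.of K K)) (v : V) (i),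
        (L.map (FGModuleCat.ofHom (b.coord i) : V ⟶ FGModuleCat.of K K)).hom ((L.map (f V v)).hom x) = b.coord i v • x := by
      intro x v i
      have hcomp : f V v ≫ (FGModuleCat.ofHom (b.coord i) : V ⟶ FGModuleCat.of K K) =
          b.coord i v • 𝟙 (FGModuleCat.of K K) := by
        ext
        change b.coord i ((1 : K) • v) = b.repr v i • (1 : K)
        simp
      rw [← ModuleCat.comp_apply, ← L.map_comp, hcomp, L.map_smul, L.map_id]
      rfl
    let inv : L.obj V →ₗ[K] TensorProduct K (L.obj (FGModuleCat.of K K)) V :=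
      ∑ i, ((TensorProduct.mk K (L.obj (FGModuleCat.of K K)) V).flip (b i)).comp
        (L.map (FGModuleCat.ofHom (b.coord i) : V ⟶ FGModuleCat.of K K)).hom
    have hinv : ∀ y, inv y = ∑ i, (L.map (FGModuleCat.ofHom (b.coord i) : V ⟶ FGModuleCat.of K K)).hom y ⊗ₜ[K] b i :=
      fun y => by simp [inv]
    refine Function.bijective_iff_has_inverse.2 ⟨inv, fun z => ?_, fun y => ?_⟩
    · induction z with
      | zero => simp
      | tmul x v =>
        rw [TensorProduct.lift.tmul, hinv]
        refine (Finset.sum_congr rfl fun i _ => by rw [show α V x v = (L.map (f V v)).hom x from rfl, key,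
          TensorProduct.smul_tmul]).trans ?_
        rw [← TensorProduct.tmul_sum]
        exact congrArg _ (b.sum_repr v)
      | add x y hx hy => rw [map_add, map_add, hx, hy]
    · rw [hinv, map_sum]
      have hid : ∑ i, (FGModuleCat.ofHom (b.coord i) : V ⟶ FGModuleCat.of K K) ≫ f V (b i) = 𝟙 V := by
        apply (ModuleCat.isFG.{u} K).ι.map_injective
        rw [Functor.map_sum, CategoryTheory.Functor.map_id]
        refine ModuleCat.hom_ext (LinearMap.ext fun v => ?_)
        rw [ModuleCat.hom_sum, LinearMap.sum_apply]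
        exact b.sum_repr v
      have := congrArg (fun u : L.obj V ⟶ L.obj V => u.hom y) ((congrArg L.map hid).trans (L.map_id V))
      simp only [L.map_sum, L.map_comp, ModuleCat.hom_sum, LinearMap.sum_apply, ModuleCat.hom_id,
        LinearMap.id_apply] at this
      exact this
  refine ⟨(NatIso.ofComponents
    (fun V => ((LinearEquiv.ofBijective _ (hbij V)).toModuleIso :
      ((ModuleCat.isFG.{u} K).ι ⋙ MonoidalCategory.tensorLeft (L.obj (FGModuleCat.of K K))).obj V ≅ L.obj V))
    fun {V W} g => ?_).symm⟩
  refine ModuleCat.hom_ext (TensorProduct.ext' fun x v => ?_)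
  change (L.map (f W (g.hom.hom v))).hom x = (L.map g).hom ((L.map (f V v)).hom x)
  have : f W (g.hom.hom v) = f V v ≫ g := by
    ext
    change (1 : K) • g.hom.hom v = g.hom.hom ((1 : K) • v)
    rw [one_smul, one_smul]
  rw [this, L.map_comp, ModuleCat.comp_apply]
end Groth.Agent.S12754
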