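import Groth.Statements.S12758
import Groth.Agent.L12.CRingHom


set_option autoImplicit false
universe u v
open CategoryTheory
open ArtFun

namespace Groth.Agent.S12758

/-- For functors, two minimal versal families of a functor F on Artinian local Λ-algebras with residue
field k with F(k) a point — over complete local Noetherian coefficient rings R₁, R₂ with residue
field k — are isomorphic: there is an isomorphism R₁ ≅ R₂ over Λ, compatible with the augmentations,
along which the formal element of the first family pushes forward to that of the second. -/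
theorem result {Λ : Type u} {k : Type u} [CommRing Λ] [Field k] [Algebra Λ k]
    [IsNoetherianRing Λ] [Module.Finite Λ k]
    {F : ArtFun.Art Λ k ⥤ Type v} (h0 : ArtFun.H0 F) {R₁ R₂ : ArtFun.CRing Λ k}
    (ξ₁ : ArtFun.Family R₁.carrier R₁.res F) (ξ₂ : ArtFun.Family R₂.carrier R₂.res F)
    (h₁ : ξ₁.IsMinimalVersal) (h₂ : ξ₂.IsMinimalVersal) :
    ∃ (e : R₁.carrier ≃ₐ[Λ] R₂.carrier) (he : R₂.res.comp (e : R₁.carrier →ₐ[Λ] R₂.carrier) = R₁.res),
      (ξ₁.along (e : R₁.carrier →ₐ[Λ] R₂.carrier) he).toFormalElt = ξ₂.toFormalElt := by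
  exact Groth.L12.minimal_unique h0 ξ₁ ξ₂ h₁ h₂
end Groth.Agent.S12758
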