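import Groth.Statements.S1276
import Groth.Agent.L20.FibreSupport

set_option autoImplicit false
universe u
open FlatMor

set_option backward.isDefEq.respectTransparency.types false
namespace Groth.Agent.S1276

/-- Let B be a finite type A-algebra, N a finite B-module and p a prime of A. Then there is a finitely
generated ideal J of B annihilating N (so N is a module on the finitely presented closed subscheme
V(J) of Spec B) such that a point of the fibre Spec(κ(p) ⊗ B) lies in V(J) if and only if it lies in
the support of the fibre module of N. -/
theorem result {A B : Type u} [CommRing A] [CommRing B] [Algebra A B] [Algebra.FiniteType A B]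
    (N : Type u) [AddCommGroup N] [Module B N] [Module A N] [IsScalarTower A B N] [Module.Finite B N] (p : Ideal A) [p.IsPrime] :
    ∃ J : Ideal B, J.FG ∧ J ≤ Module.annihilator B N ∧
      ∀ x : PrimeSpectrum (p.Fiber B), FlatCA.fiberIdeal p J ≤ x.asIdeal ↔ x ∈ Module.support (p.Fiber B) (FlatCA.fiberMod p B N) := by
  exact Groth.L20.FibreSupport.exists_fg_cut N p


end Groth.Agent.S1276
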