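import Groth.Statements.S12760
import Groth.Agent.L24.St.Bootstrap2

set_option autoImplicit false
open CategoryTheory AlgebraicGeometry
universe u
open AlgSt

namespace Groth.Agent.S12760

/-- Let `u : 𝒰 ⟶ 𝒳` be a functor over `(Sch/S)` between stacks in groupoids (fppf topology). Suppose `u`
is smooth, surjective and representable by algebraic spaces, and that `𝒰` is representable by an
algebraic space; then `𝒳` is an algebraic stack over `S`. -/
theorem result {S : Scheme.{u}} {𝒰 𝒳 : AlgSt.Cat S}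
    (h𝒰 : Stk.IsStack (QuotSh.J Scheme.fppfPrecoverage S) 𝒰) (h𝒳 : Stk.IsStack (QuotSh.J Scheme.fppfPrecoverage S) 𝒳)
    (hU : AlgSt.RepByAlgSp 𝒰) (u : 𝒰 ⥤ᵇ 𝒳) (hsm : AlgSt.RepByAlgSpWith (AlgSp.LocP @Smooth) u)
    (hsurj : AlgSt.RepByAlgSpWith AlgSp.IsSurjectiveMor u) :
    AlgSt.IsAlgStack Scheme.fppfPrecoverage 𝒳 := by
  exact Groth.L24.St.isAlgStack_of_space_atlas h𝒳 hU u hsm (Groth.L24.St.isSurjective_of_repWith h𝒰.1 h𝒳.1 hsurj)

end Groth.Agent.S12760
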