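import Groth.Statements.S12763
import Groth.Agent.L24.St.FpAlg

set_option autoImplicit false
open CategoryTheory AlgebraicGeometry
universe u
open AlgSt

namespace Groth.Agent.S12763

/-- Let `𝒵` be a stack in groupoids over `(Sch/S)` whose diagonal is representable by algebraic spaces,
`𝒳`, `𝒴` algebraic stacks over `S` and `f : 𝒳 ⟶ 𝒵`, `g : 𝒴 ⟶ 𝒵` 1-morphisms. Then the 2-fibre
product `𝒳 ×_𝒵 𝒴` is an algebraic stack over `S`. -/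
theorem result {S : Scheme.{u}} {𝒳 𝒴 𝒵 : AlgSt.Cat S}
    (h𝒵 : Stk.IsStack (QuotSh.J Scheme.fppfPrecoverage S) 𝒵) (hΔ : AlgSt.RepByAlgSp1 (FibCat.diag (FibCat.toSelf 𝒵)))
    (h𝒳 : AlgSt.IsAlgStack Scheme.fppfPrecoverage 𝒳) (h𝒴 : AlgSt.IsAlgStack Scheme.fppfPrecoverage 𝒴)
    (f : 𝒳 ⥤ᵇ 𝒵) (g : 𝒴 ⥤ᵇ 𝒵) :
    AlgSt.IsAlgStack Scheme.fppfPrecoverage (FibCat.fp f g) := by
  exact Groth.L24.St.isAlgStack_fp_of (Groth.L24.St.isPrestack_of_isStack h𝒵) hΔ h𝒳 h𝒴 f g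

end Groth.Agent.S12763
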