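import Groth.Statements.S12764
import Groth.Agent.L24.St.FpAlg

set_option autoImplicit false
open CategoryTheory AlgebraicGeometry
universe u
open AlgSt

namespace Groth.Agent.S12764

/-- For algebraic stacks `𝒳`, `𝒴` over `S`, the product `𝒳 ×_{(Sch/S)} 𝒴` (the 2-fibre product of the
two structure functors over the base category) is an algebraic stack over `S`. -/
theorem result {S : Scheme.{u}} {𝒳 𝒴 : AlgSt.Cat S}
    (h𝒳 : AlgSt.IsAlgStack Scheme.fppfPrecoverage 𝒳) (h𝒴 : AlgSt.IsAlgStack Scheme.fppfPrecoverage 𝒴) :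
    AlgSt.IsAlgStack Scheme.fppfPrecoverage (FibCat.fp (FibCat.toSelf 𝒳) (FibCat.toSelf 𝒴)) := by
  exact Groth.L24.St.isAlgStack_fp h𝒳 h𝒴 Groth.L24.St.isAlgStack_selfOver (FibCat.toSelf 𝒳) (FibCat.toSelf 𝒴)

end Groth.Agent.S12764
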