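import Groth.Statements.S12767
import Groth.Agent.L24.St.StackSp

set_option autoImplicit false
open CategoryTheory AlgebraicGeometry
universe u
open AlgSt

namespace Groth.Agent.S12767

/-- Take categories `𝒳` and `𝒴` fibred in groupoids over `(Sch/S)` and a 1-morphism `j : 𝒳 ⟶ 𝒴` between
them which is representable by algebraic spaces. If `𝒴` is a stack in groupoids (fppf topology),
then so is `𝒳`. -/
theorem result {S : Scheme.{u}} {𝒳 𝒴 : AlgSt.Cat S}
    (h𝒳 : FibCat.IsFibGrpd 𝒳.p) (h𝒴 : Stk.IsStack (QuotSh.J Scheme.fppfPrecoverage S) 𝒴)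
    (j : 𝒳 ⥤ᵇ 𝒴) (hj : AlgSt.RepByAlgSp1 j) :
    Stk.IsStack (QuotSh.J Scheme.fppfPrecoverage S) 𝒳 := by
  exact Groth.L24.St.isStack_of_rep1 h𝒳 h𝒴 j hj

end Groth.Agent.S12767
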