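import Groth.Statements.S12773
import Groth.Agent.L24.St.FpAlg

set_option autoImplicit false
open CategoryTheory AlgebraicGeometry
universe u
open AlgSt

namespace Groth.Agent.S12773

/-- Let `f : 𝒳 ⟶ 𝒴` be a 1-morphism of algebraic stacks over `S`, `V` a scheme over `S` and `y : (Sch/V)
⟶ 𝒴` surjective and smooth. Then there are a scheme `U` over `S`, a morphism `a : U ⟶ V` and a
surjective smooth `x : (Sch/U) ⟶ 𝒳` such that the square 2-commutes: `f ∘ x ≅ y ∘ a`. -/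
theorem result {S : Scheme.{u}} {𝒳 𝒴 : AlgSt.Cat S}
    (h𝒳 : AlgSt.IsAlgStack Scheme.fppfPrecoverage 𝒳) (h𝒴 : AlgSt.IsAlgStack Scheme.fppfPrecoverage 𝒴)
    (f : 𝒳 ⥤ᵇ 𝒴) (V : Over S) (y : FibCat.overCat V ⥤ᵇ 𝒴)
    (hy : AlgSt.RepByAlgSpWith (AlgSp.LocP @Smooth) y) (hy' : AlgSt.RepByAlgSpWith AlgSp.IsSurjectiveMor y) :
    ∃ (U : Over S) (a : U ⟶ V) (x : FibCat.overCat U ⥤ᵇ 𝒳),
      AlgSt.RepByAlgSpWith (AlgSp.LocP @Smooth) x ∧ AlgSt.RepByAlgSpWith AlgSp.IsSurjectiveMor x ∧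
        Nonempty (BasedFunctor.comp x f ≅ BasedFunctor.comp (AlgSt.overMap a) y) := by
  have hfp := Groth.L24.St.isAlgStack_fp (Groth.L24.St.isAlgStack_overCat V) h𝒳 h𝒴 y f
  obtain ⟨W, w, hw, hws⟩ := hfp.atlas
  have hsnd : AlgSt.RepByAlgSpWith (AlgSp.LocP @AlgebraicGeometry.Smooth) (FibCat.fpSnd y f) := Groth.L24.St.repWith_fpSnd f hy
  have hx := Groth.L24.St.repWith_comp_locP Groth.L23.etLocal_smooth (Groth.L24.St.overCat_isFibGrpd W) hfp.isStack.1 hw hsnd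
  have hs : AlgSt.IsSurjective (BasedFunctor.comp w (FibCat.fpSnd y f)) := by
    refine Groth.L24.St.isSurjective_comp (Groth.L24.St.isSurjective_of_repWith (Groth.L24.St.overCat_isFibGrpd W) hfp.isStack.1 hws) ?_
    intro p
    obtain ⟨v, hv⟩ := Groth.L24.St.isSurjective_of_repWith (Groth.L24.St.overCat_isFibGrpd V) h𝒴.isStack.1 hy' (AlgSt.Points.map f p)
    obtain ⟨z, -, hz⟩ := Groth.L24.St.exists_points_fp h𝒳.isStack.1 h𝒴.isStack.1 (Groth.L24.St.overCat_isFibGrpd V) f y v p hv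
    exact ⟨z, hz⟩
  obtain ⟨a, ⟨i⟩, -⟩ := Groth.L24.St.exists_overMap_iso (BasedFunctor.comp w (FibCat.fpFst y f))
  exact ⟨W, a, BasedFunctor.comp w (FibCat.fpSnd y f), hx,
    Groth.L24.St.repWith_surjective_of_isSurjective (Groth.L24.St.overCat_isFibGrpd W) h𝒳.isStack.1
      (Groth.L24.St.repWith_rep1 hx) hs,
    ⟨Groth.L24.St.whiskerL w (FibCat.fpIso y f).symm ≪≫ Groth.L24.St.whiskerR i y⟩⟩

end Groth.Agent.S12773
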