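import Groth.Statements.S12778
import Groth.Agent.L24.St.PshRep

set_option autoImplicit false
open CategoryTheory AlgebraicGeometry
universe u
open AlgSt

namespace Groth.Agent.S12778

/-- For presheaves of sets `F`, `G` on `(Sch/S)`, let `a : F ⟶ G` be a morphism representable by
algebraic spaces, and let `Q` be a property of morphisms of algebraic spaces. Then `a` has `Q`
(every base change `h_U ×_G F ⟶ h_U` has `Q`) if and only if the associated 1-morphism of categories
fibred in sets, which is representable by algebraic spaces, has `Q`. (The published statement
assumes `Q` stable under base change and fppf local on the base; this row assumes only that `Q`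
respects isomorphisms.) -/
theorem result {S : Scheme.{u}} (Q : MorphismProperty (AlgSp.Sp S)) [Q.RespectsIso]
    {F G : AlgSp.PSp S} (a : F ⟶ G) (ha : AlgSp.RepBySp a) :
    AlgSp.RepBySpWith Q a ↔ AlgSt.RepByAlgSpWith Q (Stk.ofPshMap a) := by
  exact Groth.L24.St.repBySpWith_iff a

end Groth.Agent.S12778
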