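import Groth.Statements.S1278
import Groth.Agent.L20.AboveClosed

set_option autoImplicit false
universe u
open FlatMor

set_option backward.isDefEq.respectTransparency.types false
namespace Groth.L20.AboveClosed
theorem closed_below' {A' B B' : Type u} [CommRing A'] [IsLocalRing A'] [CommRing B] [IsLocalRing B] [CommRing B']
    [Algebra A' B'] [Algebra B B'] (q : Ideal B') [q.IsPrime]
    (hq : (IsLocalRing.maximalIdeal A').map (algebraMap A' B') ⊔ (IsLocalRing.maximalIdeal B).map (algebraMap B B') ≤ q) :
    q.comap (algebraMap B B') = IsLocalRing.maximalIdeal B :=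
  ((IsLocalRing.maximalIdeal.isMaximal B).eq_of_le Ideal.IsPrime.ne_top'
    (Ideal.map_le_iff_le_comap.mp (le_sup_right.trans hq))).symm
end Groth.L20.AboveClosed
namespace Groth.Agent.S1278

open IsLocalRing in
/-- Let A be a local ring and B → C a finite local homomorphism of local A-algebras (A → B local), and N
a C-module, viewed also as a B-module. For every local homomorphism of local rings A → A', with base
changes B', C' of B, C and base changes M' (of N over B') and N' (of N over C'): M' is flat over A'
at every prime of B' containing 𝔪_{A'}B' + 𝔪_B B' if and only if N' is flat over A' at every prime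
of C' containing 𝔪_{A'}C' + 𝔪_C C'. -/
theorem result {A B C : Type u} [CommRing A] [IsLocalRing A] [CommRing B] [IsLocalRing B] [CommRing C] [IsLocalRing C]
    [Algebra A B] [IsLocalHom (algebraMap A B)] [Algebra B C] [IsLocalHom (algebraMap B C)] [Algebra A C] [IsScalarTower A B C] [Module.Finite B C]
    (N : Type u) [AddCommGroup N] [Module C N] [Module B N] [IsScalarTower B C N]
    (A' : Type u) [CommRing A'] [IsLocalRing A'] [Algebra A A'] [IsLocalHom (algebraMap A A')]
    (B' M' : Type u) [CommRing B'] [Algebra B B'] [Algebra A' B'] [Algebra A B'] [IsScalarTower A B B'] [IsScalarTower A A' B']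
        [Algebra.IsPushout A B A' B']
        [AddCommGroup M'] [Module B' M'] [Module B M'] [IsScalarTower B B' M'] [Module A' M'] [IsScalarTower A' B' M']
        (fB : N →ₗ[B] M') (hfB : IsBaseChange B' fB)
    (C' N' : Type u) [CommRing C'] [Algebra C C'] [Algebra A' C'] [Algebra A C'] [IsScalarTower A C C'] [IsScalarTower A A' C']
        [Algebra.IsPushout A C A' C']
        [AddCommGroup N'] [Module C' N'] [Module C N'] [IsScalarTower C C' N'] [Module A' N'] [IsScalarTower A' C' N']
        (fC : N →ₗ[C] N') (hfC : IsBaseChange C' fC) :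
    FlatCA.FlatAboveClosedPoints B A' B' M' ↔ FlatCA.FlatAboveClosedPoints C A' C' N' := by
  open IsLocalRing in
  let θ : B' →ₐ[A] C' := Algebra.pushoutDesc B' ((IsScalarTower.toAlgHom A C C').comp (IsScalarTower.toAlgHom A B C))
    (IsScalarTower.toAlgHom A A' C') (fun _ _ => mul_comm _ _)
  letI : Algebra B' C' := θ.toRingHom.toAlgebra
  haveI : IsScalarTower A B' C' := IsScalarTower.of_algebraMap_eq fun a => (θ.commutes a).symm
  haveI : IsScalarTower A' B' C' := IsScalarTower.of_algebraMap_eq fun a => by
    show algebraMap A' C' a = θ (algebraMap A' B' a)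
    simp [θ]
  letI : Algebra B C' := ((algebraMap C C').comp (algebraMap B C)).toAlgebra
  haveI : IsScalarTower B C C' := IsScalarTower.of_algebraMap_eq fun _ => rfl
  haveI : IsScalarTower B B' C' := IsScalarTower.of_algebraMap_eq fun b => by
    show algebraMap C C' (algebraMap B C b) = θ (algebraMap B B' b)
    simp [θ]
  haveI : IsScalarTower A B C' := IsScalarTower.of_algebraMap_eq fun a => by
    rw [IsScalarTower.algebraMap_apply B C C', ← IsScalarTower.algebraMap_apply A B C, ← IsScalarTower.algebraMap_apply]
  haveI : Algebra.IsPushout B C B' C' :=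
    (Algebra.IsPushout.comp_iff (R := A) (S := B) (R' := A') (S' := B') (T := C) (T' := C')).mp inferInstance
  haveI : Algebra.IsPushout B B' C C' := .symm inferInstance
  letI : Module B' N' := Module.compHom N' (algebraMap B' C')
  haveI : IsScalarTower B' C' N' := IsScalarTower.of_algebraMap_smul fun _ _ => rfl
  letI : Module B N' := Module.compHom N' (algebraMap B C')
  haveI : IsScalarTower B C' N' := IsScalarTower.of_algebraMap_smul fun _ _ => rfl
  haveI : IsScalarTower B B' N' := IsScalarTower.of_algebraMap_smul fun b n => by
    show algebraMap B' C' (algebraMap B B' b) • n = algebraMap B C' b • n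
    rw [← IsScalarTower.algebraMap_apply B B' C']
  haveI : IsScalarTower B C N' := IsScalarTower.of_algebraMap_smul fun b n => by
    show algebraMap B C b • n = algebraMap B C' b • n
    rw [← algebraMap_smul C' (algebraMap B C b) n, ← IsScalarTower.algebraMap_apply B C C']
  haveI : IsScalarTower A' B' N' := IsScalarTower.of_algebraMap_smul fun a n => by
    show algebraMap B' C' (algebraMap A' B' a) • n = a • n
    rw [← IsScalarTower.algebraMap_apply A' B' C', algebraMap_smul]
  haveI : Module.Finite B' C' := by
    haveI := Module.Finite.base_change B B' C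
    exact Module.Finite.equiv (Algebra.IsPushout.out (R := B) (S := B') (R' := C) (S' := C')).equiv
  haveI : Algebra.IsIntegral B' C' := inferInstance
  haveI : Algebra.IsIntegral B C := inferInstance
  have hgC : IsBaseChange B' (fC.restrictScalars B) :=
    Groth.L20.isBaseChange_restrictScalars (R := B) (S := C) (R' := B') (S' := C') hfC
  let e : M' ≃ₗ[B'] N' := hfB.equiv.symm ≪≫ₗ hgC.equiv
  have heA : ∀ (a : A') (m : M'), e (a • m) = a • e m := fun a m => by
    rw [← algebraMap_smul B' a m, map_smul, algebraMap_smul]
  have hflat : ∀ (q : Ideal B') [q.IsPrime], Module.Flat A' (LocalizedModule q.primeCompl M') ↔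
      Module.Flat A' (LocalizedModule q.primeCompl N') := fun q _ => by
    haveI : IsLocalizedModule q.primeCompl ((LocalizedModule.mkLinearMap q.primeCompl N') ∘ₗ e.toLinearMap) :=
      IsLocalizedModule.of_linearEquiv_right _ _ e
    exact Module.Flat.equiv_iff ((IsLocalizedModule.linearEquiv q.primeCompl (LocalizedModule.mkLinearMap q.primeCompl M')
      ((LocalizedModule.mkLinearMap q.primeCompl N') ∘ₗ e.toLinearMap)).restrictScalars A')
  constructor
  · intro h Q hQp hQ
    haveI : Q.IsPrime := hQp
    have hle : (maximalIdeal A').map (algebraMap A' B') ⊔ (maximalIdeal B).map (algebraMap B B') ≤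
        Q.comap (algebraMap B' C') := by
      refine sup_le ?_ ?_
      · rw [Ideal.map_le_iff_le_comap, Ideal.comap_comap, ← IsScalarTower.algebraMap_eq]
        exact Ideal.map_le_iff_le_comap.mp (le_sup_left.trans hQ)
      · rw [Ideal.map_le_iff_le_comap, Ideal.comap_comap, ← IsScalarTower.algebraMap_eq,
          IsScalarTower.algebraMap_eq B C C', ← Ideal.comap_comap, Groth.L20.AboveClosed.closed_below' Q hQ]
        exact (IsLocalRing.maximalIdeal_comap (algebraMap B C)).ge
    haveI : Module.Flat A' (LocalizedModule (Q.comap (algebraMap B' C')).primeCompl N') := (hflat _).mp (h _ hle)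
    exact Groth.L20.AboveClosed.flat_above_of_flat (B' := B') Q
  · intro h q hqp hq
    haveI : q.IsPrime := hqp
    refine (hflat q).mpr (Groth.L20.AboveClosed.flat_of_forall_above (C' := C') q fun Q hQp hQq => ?_)
    haveI : Q.IsPrime := hQp
    refine h Q (sup_le ?_ ?_)
    · rw [Ideal.map_le_iff_le_comap, IsScalarTower.algebraMap_eq A' B' C', ← Ideal.comap_comap, hQq]
      exact Ideal.map_le_iff_le_comap.mp (le_sup_left.trans hq)
    · rw [Ideal.map_le_iff_le_comap]
      have h1 : ((Q.comap (algebraMap C C')).comap (algebraMap B C)).IsMaximal := by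
        rw [Ideal.comap_comap, ← IsScalarTower.algebraMap_eq, IsScalarTower.algebraMap_eq B B' C',
          ← Ideal.comap_comap, hQq, Groth.L20.AboveClosed.closed_below' q hq]
        exact IsLocalRing.maximalIdeal.isMaximal B
      exact (IsLocalRing.eq_maximalIdeal (Ideal.isMaximal_of_isIntegral_of_isMaximal_comap (Q.comap (algebraMap C C')) h1)).ge


end Groth.Agent.S1278
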