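import Groth.Statements.S12785
import Groth.Agent.L09.FibRep1

set_option autoImplicit false
open CategoryTheory CategoryTheory.Limits
universe v u
open FibCat

namespace Groth.Agent.S12785

/-- The composite of two representable 1-morphisms `f : 𝒳 ⟶ 𝒴`, `g : 𝒴 ⟶ 𝒵` of categories over `C` is a
representable 1-morphism. (The published statement is for categories fibred in groupoids over
schemes over a base; this row is stated for categories over any base category.) -/
theorem result {C : Type u} [Category.{v} C] {𝒳 𝒴 𝒵 : BasedCategory.{v, max u v} C}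
    (f : 𝒳 ⥤ᵇ 𝒴) (g : 𝒴 ⥤ᵇ 𝒵) (hf : FibCat.IsRepresentable1 f) (hg : FibCat.IsRepresentable1 g) :
    FibCat.IsRepresentable1 (BasedFunctor.comp f g) := by
  exact Groth.L09.Fib.isRepresentable1_comp hf hg

end Groth.Agent.S12785
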