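import Groth.Statements.S1279
import Groth.Agent.L20.AdmSep

set_option autoImplicit false
universe u
open FlatMor

namespace Groth.Agent.S1279

open AlgebraicGeometry CategoryTheory Limits Topology in
/-- Let X be a quasi-compact and quasi-separated scheme, U ⊆ X a quasi-compact open, and T₁, T₂ ⊆ U
disjoint subsets which are closed and constructible in U. Then there is a U-admissible blow-up b :
X' → X such that the closures in X' of the preimages of T₁ and T₂ are disjoint. (Part (1), about
strict transforms of closed subschemes, is not stated.) -/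
theorem result {X : Scheme.{u}} [CompactSpace X] [QuasiSeparatedSpace X]
    (U : X.Opens) (hU : IsCompact (U : Set X)) (T₁ T₂ : Set U)
    (h₁ : IsClosed T₁) (h₂ : IsClosed T₂) (c₁ : IsConstructible T₁) (c₂ : IsConstructible T₂) (hd : Disjoint T₁ T₂) :
    ∃ (𝓘 : X.IdealSheafData) (X' : Scheme.{u}) (b : X' ⟶ X), BlowUp.IsBlowUp b 𝓘 ∧ BlowUp.IsAdmissibleFor U 𝓘 ∧
      Disjoint (closure (b.base ⁻¹' (Subtype.val '' T₁))) (closure (b.base ⁻¹' (Subtype.val '' T₂))) := by
  exact Groth.L20.AdmSep.exists_separating U hU T₁ T₂ h₁ h₂ c₁ c₂ hd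

end Groth.Agent.S1279
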