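import Groth.Statements.S12790
import Groth.Agent.L09.FibRep1Prod

set_option autoImplicit false
open CategoryTheory CategoryTheory.Limits
universe v u
open FibCat

namespace Groth.Agent.S12790

/-- For representable 1-morphisms `f₁ : 𝒳₁ ⟶ 𝒴₁`, `f₂ : 𝒳₂ ⟶ 𝒴₂` of categories over `C`, the product `f₁
× f₂ : 𝒳₁ × 𝒳₂ ⟶ 𝒴₁ × 𝒴₂` (products over `C`; the functor induced on 2-fibre products, for any
choice of the 2-isomorphism `e` filling the square) is a representable 1-morphism. (The published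
statement is for categories fibred in groupoids over schemes over a base; this row is stated for
categories over any base category.) -/
theorem result {C : Type u} [Category.{v} C] {𝒳₁ 𝒳₂ 𝒴₁ 𝒴₂ : BasedCategory.{v, max u v} C}
    (f₁ : 𝒳₁ ⥤ᵇ 𝒴₁) (f₂ : 𝒳₂ ⥤ᵇ 𝒴₂) (hf₁ : FibCat.IsRepresentable1 f₁) (hf₂ : FibCat.IsRepresentable1 f₂)
    (e : BasedFunctor.comp (BasedFunctor.comp (FibCat.fpFst (FibCat.toSelf 𝒳₁) (FibCat.toSelf 𝒳₂)) f₁) (FibCat.toSelf 𝒴₁) ≅ BasedFunctor.comp (BasedFunctor.comp (FibCat.fpSnd (FibCat.toSelf 𝒳₁) (FibCat.toSelf 𝒳₂)) f₂) (FibCat.toSelf 𝒴₂)) :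
    FibCat.IsRepresentable1 (FibCat.fpLift (BasedFunctor.comp (FibCat.fpFst (FibCat.toSelf 𝒳₁) (FibCat.toSelf 𝒳₂)) f₁) (BasedFunctor.comp (FibCat.fpSnd (FibCat.toSelf 𝒳₁) (FibCat.toSelf 𝒳₂)) f₂) e) := by
  exact Groth.L09.Fib.isRepresentable1_prodMap f₁ f₂ hf₁ hf₂ e

end Groth.Agent.S12790
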