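import Groth.Statements.S12791
import Groth.Agent.L24.St.Bootstrap

set_option autoImplicit false
open CategoryTheory AlgebraicGeometry
universe u
open AlgSt

namespace Groth.Agent.S12791

/-- (2) ⇔ (3): for an algebraic stack `𝒳` over `S`, the canonical 1-morphism `I_𝒳 ⟶ 𝒳` from the inertia
is an equivalence over `(Sch/S)` if and only if `𝒳` is representable by an algebraic space. -/
theorem result {S : Scheme.{u}} {𝒳 : AlgSt.Cat S}
    (h𝒳 : AlgSt.IsAlgStack Scheme.fppfPrecoverage 𝒳) :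
    FibCat.IsEquivOver (FibCat.inertiaToBase (FibCat.toSelf 𝒳)) ↔ AlgSt.RepByAlgSp 𝒳 := by
  rw [← Groth.L24.St.trivialKernel_iff_inertia h𝒳.isStack.1 (Groth.L24.St.isAlgStack_selfOver (S := S)).isStack.1]
  exact ⟨fun h => Groth.L24.St.repByAlgSp_of_isFibSetoid h𝒳 (Groth.L24.St.isFibSetoid_of_trivialKernel h𝒳.isStack.1 h),
    fun h => Groth.L24.St.trivialKernel_toSelf_of_isFibSetoid (Groth.L24.St.isFibSetoid_of_repByAlgSp h)⟩

end Groth.Agent.S12791
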