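import Groth.Statements.S12798
import Groth.Agent.L09.StkTop
import Groth.Agent.L09.StkGlue
import Groth.Agent.L09.StkSetoid
import Groth.Agent.L09.FibHom
import Groth.Prelude.Def_W4stkalgstUpp
import Mathlib.CategoryTheory.Bicategory.Basic
import Mathlib.CategoryTheory.Localization.CalculusOfFractions

set_option autoImplicit false
open CategoryTheory
universe w v u
open Stk

namespace Groth.Agent.S12798
open CategoryTheory Category Functor Limits Groth.L09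

/-- Let `𝒮₁`, `𝒮₂`, `𝒯₁` be stacks in groupoids over `C` for the topology `J`, and `F : 𝒮₂ ⟶ 𝒮₁`, `G :
𝒯₁ ⟶ 𝒮₁` functors over `C` such that every object of `𝒮₁` is locally in the essential image of `F`.
If the first projection `𝒮₂ ×_{𝒮₁} 𝒯₁ ⟶ 𝒮₂` of the 2-fibre product over `C` is faithful, then `G` is
faithful. (The published statement is for any 2-cartesian square of stacks in groupoids; this row is
the case of the explicit 2-fibre product, to which the general case reduces because faithfulness is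
invariant under equivalence.) -/
theorem result {C : Type u} [Category.{v} C] (J : GrothendieckTopology C) {𝒮₁ 𝒮₂ 𝒯₁ : BasedCategory.{v, max u v} C}
    (h₁ : Stk.IsStack J 𝒮₁) (h₂ : Stk.IsStack J 𝒮₂) (h₃ : Stk.IsStack J 𝒯₁) (F : 𝒮₂ ⥤ᵇ 𝒮₁) (G : 𝒯₁ ⥤ᵇ 𝒮₁)
    (hF : ∀ y : 𝒮₁.obj, ∃ R ∈ J (𝒮₁.p.obj y), ∀ ⦃V : C⦄ (f : V ⟶ 𝒮₁.p.obj y), R f →
      ∃ (x : 𝒮₂.obj) (φ : F.obj x ⟶ y), 𝒮₁.p.IsHomLift f φ)
    (hG' : (FibCat.fpFst F G).toFunctor.Faithful) : G.toFunctor.Faithful := by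
  have := Fib.isFibered_of_isFibGrpd _ h₃.1
  have h₃' : Stk.IsPrestack J 𝒯₁ := ⟨h₃.1, fun U R hR =>
    have : (Stk.resSieve R 𝒯₁).IsEquivalence := h₃.2 R hR
    ⟨inferInstance, inferInstance⟩⟩
  refine Fib.faithful_of_fiber G (Fib.preservesStronglyCartesian_of_isFibGrpd G h₁.1) fun U => ⟨fun {t t'} {a b} e => ?_⟩
  have hab : G.map a.1 = G.map b.1 := congrArg Subtype.val e
  have : 𝒯₁.p.IsHomLift (𝟙 U) a.1 := a.2
  have : 𝒯₁.p.IsHomLift (𝟙 U) b.1 := b.2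
  apply Subtype.ext
  refine Groth.L09.Stk.eq_of_locEssSurj J h₃' h₁.1 F G hF (U := U) a.1 b.1 ?_
  intro V x tV tV' aV bV i hxV la lb hi _ _ himp
  have he := himp hab
  let i' : F.obj x ≅ G.obj tV' := i ≪≫ G.toFunctor.mapIso (asIso aV)
  have hi' : 𝒮₁.p.IsHomLift (𝟙 (𝒮₂.p.obj x)) i'.hom := by
    subst hxV; simp only [i', Iso.trans_hom, Functor.mapIso_hom, asIso_hom]; infer_instance
  have hi0 : 𝒮₁.p.IsHomLift (𝟙 (𝒮₂.p.obj x)) i.hom := by subst hxV; exact hi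
  let o : (FibCat.fp F G).obj := ⟨⟨x, tV, i⟩, hi0⟩
  let o' : (FibCat.fp F G).obj := ⟨⟨x, tV', i'⟩, hi'⟩
  let m : o ⟶ o' := ObjectProperty.homMk ⟨𝟙 x, aV, (congrArg (· ≫ i'.hom) (F.toFunctor.map_id x)).trans (id_comp _)⟩
  let m' : o ⟶ o' := ObjectProperty.homMk ⟨𝟙 x, bV, (congrArg (· ≫ i'.hom) (F.toFunctor.map_id x)).trans ((id_comp _).trans (congrArg (i.hom ≫ ·) he))⟩
  have : m = m' := hG'.map_injective rfl
  exact congrArg (fun k : o ⟶ o' => k.hom.snd) this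

end Groth.Agent.S12798
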