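import Groth.Statements.S12799
import Groth.Agent.L09.StkTop
import Groth.Agent.L09.StkGlue
import Groth.Agent.L09.StkSetoid
import Groth.Agent.L09.FibHom
import Groth.Prelude.Def_W4stkalgstUpp
import Mathlib.CategoryTheory.Bicategory.Basic
import Mathlib.CategoryTheory.Localization.CalculusOfFractions

set_option autoImplicit false
open CategoryTheory
universe w v u
open Stk

namespace Groth.Agent.S12799
open CategoryTheory Category Functor Limits Groth.L09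

/-- Let `𝒮₁`, `𝒮₂`, `𝒯₁` be stacks in groupoids over `C` for the topology `J`, `F : 𝒮₂ ⟶ 𝒮₁` a functor
over `C` whose underlying functor is fully faithful and such that every object of `𝒮₁` is locally in
the essential image of `F`, and `G : 𝒯₁ ⟶ 𝒮₁` a functor over `C`. If the 2-fibre product `𝒮₂ ×_{𝒮₁}
𝒯₁` over `C` is fibred in setoids, then `𝒯₁` is fibred in setoids, hence a stack in setoids. (The
published statement is for any 2-cartesian square of stacks in groupoids; this row is the case of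
the explicit 2-fibre product, to which the general case reduces because being fibred in setoids is
invariant under equivalence over `C`.) -/
theorem result {C : Type u} [Category.{v} C] (J : GrothendieckTopology C) {𝒮₁ 𝒮₂ 𝒯₁ : BasedCategory.{v, max u v} C}
    (h₁ : Stk.IsStack J 𝒮₁) (h₂ : Stk.IsStack J 𝒮₂) (h₃ : Stk.IsStack J 𝒯₁) (F : 𝒮₂ ⥤ᵇ 𝒮₁) [F.toFunctor.Full] [F.toFunctor.Faithful]
    (hF : ∀ y : 𝒮₁.obj, ∃ R ∈ J (𝒮₁.p.obj y), ∀ ⦃V : C⦄ (f : V ⟶ 𝒮₁.p.obj y), R f →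
      ∃ (x : 𝒮₂.obj) (φ : F.obj x ⟶ y), 𝒮₁.p.IsHomLift f φ)
    (G : 𝒯₁ ⥤ᵇ 𝒮₁) (h : FibCat.IsFibSetoid (FibCat.fp F G).p) : FibCat.IsFibSetoid 𝒯₁.p := by
  refine ⟨h₃.1, fun U t t' => ⟨fun a b => Subtype.ext ?_⟩⟩
  have h₃' : Stk.IsPrestack J 𝒯₁ := ⟨h₃.1, fun U R hR =>
    have : (Stk.resSieve R 𝒯₁).IsEquivalence := h₃.2 R hR
    ⟨inferInstance, inferInstance⟩⟩
  have : 𝒯₁.p.IsHomLift (𝟙 U) a.1 := a.2
  have : 𝒯₁.p.IsHomLift (𝟙 U) b.1 := b.2
  refine Groth.L09.Stk.eq_of_locEssSurj J h₃' h₁.1 F G hF (U := U) a.1 b.1 ?_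
  intro V x tV tV' aV bV i hxV la lb hi _ _ _
  subst hxV
  let i' : F.obj x ≅ G.obj tV' := i ≪≫ G.toFunctor.mapIso (asIso aV)
  have hi' : 𝒮₁.p.IsHomLift (𝟙 (𝒮₂.p.obj x)) i'.hom := by
    simp only [i', Iso.trans_hom, Functor.mapIso_hom, asIso_hom]; infer_instance
  let c : x ⟶ x := F.toFunctor.preimage (i.hom ≫ G.map bV ≫ i'.inv)
  have hFc : F.map c = i.hom ≫ G.map bV ≫ i'.inv := F.toFunctor.map_preimage _
  have hc : 𝒮₂.p.IsHomLift (𝟙 (𝒮₂.p.obj x)) c := by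
    rw [← BasedFunctor.isHomLift_iff F, hFc]; infer_instance
  let o : (FibCat.fp F G).obj := ⟨⟨x, tV, i⟩, hi⟩
  let o' : (FibCat.fp F G).obj := ⟨⟨x, tV', i'⟩, hi'⟩
  let m : o ⟶ o' := ObjectProperty.homMk ⟨𝟙 x, aV, (congrArg (· ≫ i'.hom) (F.toFunctor.map_id x)).trans (id_comp _)⟩
  let m' : o ⟶ o' := ObjectProperty.homMk ⟨c, bV, by
    show F.map c ≫ i'.hom = i.hom ≫ G.map bV
    rw [hFc]; simp⟩
  let A : (FibCat.fp F G).p.Fiber (𝒮₂.p.obj x) := ⟨o, rfl⟩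
  let B : (FibCat.fp F G).p.Fiber (𝒮₂.p.obj x) := ⟨o', rfl⟩
  let M : A ⟶ B := ⟨m, (Fib.fp_isHomLift_iff _ m).2 (IsHomLift.id rfl)⟩
  let M' : A ⟶ B := ⟨m', (Fib.fp_isHomLift_iff _ m').2 hc⟩
  have : M = M' := @Subsingleton.elim _ (h.2 _ A B) M M'
  exact congrArg (fun k : o ⟶ o' => k.hom.snd) (congrArg Subtype.val this)

end Groth.Agent.S12799
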