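import Groth.Statements.S1280
import Groth.Agent.L13.Nagata.Main
-- import your own Groth.Agent.* helpers here

set_option autoImplicit false
universe u
open FlatMor

namespace Groth.Agent.S1280

open AlgebraicGeometry CategoryTheory Limits in
/-- Let S be a Noetherian scheme and U → S separated and of finite type. Suppose U = U₁ ∪ U₂ with U₁ ∩
U₂ dense in U, and that each U_i has a compactification over S (a quasi-compact open immersion over
S into a scheme proper over S). Then U has a compactification over S. -/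
theorem result {U S : Scheme.{u}} [IsNoetherian S] (g : U ⟶ S) [IsSeparated g] [LocallyOfFiniteType g] [QuasiCompact g]
    (U₁ U₂ : U.Opens) (hcov : U₁ ⊔ U₂ = ⊤) (hdense : Dense ((U₁ ⊓ U₂ : U.Opens) : Set U))
    (h₁ : ∃ (Y : Scheme.{u}) (j : (U₁ : Scheme.{u}) ⟶ Y) (p : Y ⟶ S), IsOpenImmersion j ∧ QuasiCompact j ∧ IsProper p ∧ j ≫ p = U₁.ι ≫ g)
    (h₂ : ∃ (Y : Scheme.{u}) (j : (U₂ : Scheme.{u}) ⟶ Y) (p : Y ⟶ S), IsOpenImmersion j ∧ QuasiCompact j ∧ IsProper p ∧ j ≫ p = U₂.ι ≫ g) :
    ∃ (Y : Scheme.{u}) (j : U ⟶ Y) (p : Y ⟶ S), IsOpenImmersion j ∧ QuasiCompact j ∧ IsProper p ∧ j ≫ p = g := by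
  haveI : CompactSpace U := QuasiCompact.compactSpace_of_compactSpace g
  haveI : IsNoetherian U := by
    haveI := LocallyOfFiniteType.isLocallyNoetherian g
    exact ⟨⟩
  exact Groth.L13.Nagata.exists_compactification_union g U₁ U₂ (TopologicalSpace.NoetherianSpace.isCompact _)
    (TopologicalSpace.NoetherianSpace.isCompact _) hcov h₁ h₂

end Groth.Agent.S1280
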