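import Groth.Statements.S12802
import Groth.Agent.L09.StkTop
import Groth.Agent.L09.StkGlue
import Groth.Agent.L09.StkSetoid
import Groth.Agent.L09.FibHom
import Groth.Prelude.Def_W4stkalgstUpp
import Mathlib.CategoryTheory.Bicategory.Basic
import Mathlib.CategoryTheory.Localization.CalculusOfFractions

set_option autoImplicit false
open CategoryTheory
universe v u
open Stk

namespace Groth.Agent.S12802
open CategoryTheory Category Functor Limits Groth.L09

/-- Let `F : 𝒳 ⟶ 𝒴` be a functor over `C` between categories fibred in groupoids over `C` and endow `𝒳`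
and `𝒴` with the topologies inherited from the topology `J` on `C` (generated by the sieves whose
image in `C` covers). Then `F` maps covering sieves to families generating covering sieves, lifts
coverings (it is cocontinuous), and precomposition with `F` sends sheaves of types on `𝒴` to sheaves
on `𝒳` (it is continuous). (The published statement is for a 1-morphism of fibred categories with
the inherited topologies; this row is the case of categories fibred in groupoids, and the published
statement phrases continuity through the fibre products of covering families and deduces a morphism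
of topoi whose inverse image is precomposition with `F`, which is not stated here.) -/
theorem result {C : Type u} [Category.{v} C] (J : GrothendieckTopology C) {𝒳 𝒴 : BasedCategory.{v, max u v} C}
    (h𝒳 : FibCat.IsFibGrpd 𝒳.p) (h𝒴 : FibCat.IsFibGrpd 𝒴.p) (F : 𝒳 ⥤ᵇ 𝒴) :
    CoverPreserving (𝒳.p.restrictedTopology J) (𝒴.p.restrictedTopology J) F.toFunctor ∧
      F.toFunctor.IsCocontinuous (𝒳.p.restrictedTopology J) (𝒴.p.restrictedTopology J) ∧
      F.toFunctor.IsContinuous (𝒳.p.restrictedTopology J) (𝒴.p.restrictedTopology J) := by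
  obtain ⟨Fn, w⟩ := F
  obtain @⟨X, cX, p⟩ := 𝒳
  obtain @⟨Y, cY, q⟩ := 𝒴
  dsimp only at *
  change X ⥤ Y at Fn
  change Fn ⋙ q = p at w
  subst w
  have cp : CoverPreserving ((Fn ⋙ q).restrictedTopology J) (q.restrictedTopology J) Fn := ⟨fun {U S} hS => by
    rw [Groth.L09.Stk.mem_restrictedTopology_iff h𝒳] at hS
    rw [Groth.L09.Stk.mem_restrictedTopology_iff h𝒴]
    rw [Sieve.functorPushforward_comp] at hS
    exact hS⟩
  refine ⟨cp, ⟨fun {U S} hS => ?_⟩, Functor.isContinuous_of_coverPreserving (Groth.L09.Stk.compatiblePreserving h𝒳 h𝒴 Fn rfl _) cp⟩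
  rw [Groth.L09.Stk.mem_restrictedTopology_iff h𝒴] at hS
  rw [Groth.L09.Stk.mem_restrictedTopology_iff h𝒳]
  refine J.superset_covering ?_ hS
  intro V g hg
  obtain ⟨z, ψ, hψ⟩ := h𝒳.exists_lift g
  have : q.IsHomLift g (Fn.map ψ) :=
    IsHomLift.of_fac q _ _ (IsHomLift.domain_eq (Fn ⋙ q) g ψ) rfl (IsHomLift.fac (Fn ⋙ q) g ψ)
  have h := (Groth.L09.Stk.pushforward_iff h𝒴 S g (Fn.map ψ)).mp hg
  exact (Groth.L09.Stk.pushforward_iff h𝒳 (S.functorPullback Fn) g ψ).mpr h

end Groth.Agent.S12802
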