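import Groth.Statements.S12803
import Groth.Agent.L09.StkTop
import Groth.Agent.L09.StkGlue
import Groth.Agent.L09.StkSetoid
import Groth.Agent.L09.FibHom
import Groth.Prelude.Def_W4stkalgstUpp
import Mathlib.CategoryTheory.Bicategory.Basic
import Mathlib.CategoryTheory.Localization.CalculusOfFractions

set_option autoImplicit false
open CategoryTheory
universe v₂ u₂ v u
open Stk

namespace Groth.Agent.S12803
open CategoryTheory Category Functor Limits Groth.L09

/-- Let `p : 𝒳 ⥤ C` make `𝒳` fibred in groupoids over `C`, let `J` be a topology on `C` and `x` an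
object of `𝒳`. The functor `𝒳/x ⥤ C/p(x)` induced by `p` is an equivalence of categories, and it
identifies the localisation at `x` of the topology on `𝒳` inherited from `J` with the localisation
of `J` at `p x`: a sieve on an object of `𝒳/x` covers if and only if its image covers. -/
theorem result {C : Type u} [Category.{v} C] {𝒳 : Type u₂} [Category.{v₂} 𝒳] (p : 𝒳 ⥤ C)
    (hp : FibCat.IsFibGrpd p) (J : GrothendieckTopology C) (x : 𝒳) :
    (Over.post p : Over x ⥤ Over (p.obj x)).IsEquivalence ∧
      ∀ (a : Over x) (S : Sieve a), S ∈ (p.restrictedTopology J).over x a ↔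
        S.functorPushforward (Over.post p) ∈ (J.over (p.obj x)) ((Over.post p).obj a) := by
  refine ⟨{ faithful := ⟨fun {a b m n} h => ?_⟩, full := ⟨fun {a b} g => ?_⟩, essSurj := ⟨fun a => ?_⟩ }, fun a S => ?_⟩
  · have := Fib.stronglyCartesian_of_isFibGrpd p hp (p.map b.hom) b.hom
    have hh : p.map m.left = p.map n.left := congrArg CommaMorphism.left h
    have : p.IsHomLift (p.map m.left) n.left := by rw [hh]; infer_instance
    apply Over.OverMorphism.ext
    apply IsStronglyCartesian.ext p (p.map b.hom) b.hom (p.map m.left)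
    rw [Over.w m, Over.w n]
  · have := Fib.stronglyCartesian_of_isFibGrpd p hp (p.map b.hom) b.hom
    have hg : g.left ≫ p.map b.hom = p.map a.hom := Over.w g
    let gl : p.obj a.left ⟶ p.obj b.left := g.left
    have : p.IsHomLift (gl ≫ p.map b.hom) a.hom := by rw [show gl ≫ p.map b.hom = p.map a.hom from hg]; infer_instance
    let c := IsStronglyCartesian.map p (p.map b.hom) b.hom (g := gl) rfl a.hom
    have hc : c ≫ b.hom = a.hom := IsStronglyCartesian.fac _ _ _ _ _
    have hl : p.IsHomLift gl c := IsStronglyCartesian.map_isHomLift _ _ _ _ _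
    exact ⟨Over.homMk c hc, Over.OverMorphism.ext (IsHomLift.eq_of_isHomLift p gl c).symm⟩
  · obtain ⟨z, ψ, hψ⟩ := hp.exists_lift a.hom
    refine ⟨Over.mk ψ, ⟨Over.isoMk (eqToIso (IsHomLift.domain_eq p a.hom ψ)) ?_⟩⟩
    show eqToHom (IsHomLift.domain_eq p a.hom ψ) ≫ a.hom = p.map ψ
    rw [IsHomLift.fac' p a.hom ψ]
    simp
  · rw [GrothendieckTopology.mem_over_iff, GrothendieckTopology.mem_over_iff, Groth.L09.Stk.mem_restrictedTopology_iff hp]
    show (S.functorPushforward (Over.forget x)).functorPushforward p ∈ J (p.obj a.left) ↔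
      (S.functorPushforward (Over.post p)).functorPushforward (Over.forget (p.obj x)) ∈ J (p.obj a.left)
    rw [← Sieve.functorPushforward_comp, ← Sieve.functorPushforward_comp]
    rfl

end Groth.Agent.S12803
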