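import Groth.Statements.S12804
import Groth.Agent.L09.StkTower

set_option autoImplicit false
open CategoryTheory
universe v u
open Stk

namespace Groth.Agent.S12804

/-- Let `𝒳`, `𝒴` be stacks in groupoids over `C` for the topology `J` and `F : 𝒳 ⟶ 𝒴` a functor over `C`
whose underlying functor makes `𝒳` fibred in groupoids over `𝒴`. Then `𝒳`, as a category over `𝒴`
through `F`, is a stack in groupoids for the topology on `𝒴` inherited from `J`. -/
theorem result {C : Type u} [Category.{v} C] (J : GrothendieckTopology C) {𝒳 𝒴 : BasedCategory.{v, max u v} C}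
    (h𝒳 : Stk.IsStack J 𝒳) (h𝒴 : Stk.IsStack J 𝒴) (F : 𝒳 ⥤ᵇ 𝒴) (hF : FibCat.IsFibGrpd F.toFunctor) :
    Stk.IsStack (𝒴.p.restrictedTopology J) (BasedCategory.ofFunctor F.toFunctor) := by
  refine Groth.L09.StkTower.isStack_over (𝒳 := 𝒴) (𝒲 := BasedCategory.ofFunctor F.toFunctor) J h𝒴 hF ?_
  have e : BasedCategory.ofFunctor (F.toFunctor ⋙ 𝒴.p) = 𝒳 := by
    rw [F.w]; rfl
  show Stk.IsStack J (BasedCategory.ofFunctor (F.toFunctor ⋙ 𝒴.p))
  rw [e]; exact h𝒳

end Groth.Agent.S12804
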