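import Groth.Statements.S12806
import Groth.Agent.L09.FibRep1Prod

set_option autoImplicit false
open CategoryTheory
universe v u
open FibCat

namespace Groth.Agent.S12806

/-- Let `𝒮` be fibred in groupoids over `C`, `U` an object of `C` and `x, y : C/U ⟶ 𝒮` two functors over
`C` (objects over `U` in 2-Yoneda form), with `e` the 2-isomorphism identifying their composites
with the structure functor. Then the 2-fibre product over `C` of `(x, y) : C/U ⟶ 𝒮 ×_C 𝒮` with the
diagonal `𝒮 ⟶ 𝒮 ×_C 𝒮` is fibred in setoids over `C/U` through its first projection. (The published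
statement is for a fibred category with `x`, `y` the functors given by chosen pullbacks; this row is
the case of a category fibred in groupoids, where every functor over `C` out of `C/U` is of that
kind.) -/
theorem result {C : Type u} [Category.{v} C] {𝒮 : BasedCategory.{v, max u v} C} (h𝒮 : FibCat.IsFibGrpd 𝒮.p)
    (U : C) (x y : FibCat.overCat U ⥤ᵇ 𝒮)
    (e : BasedFunctor.comp x (FibCat.toSelf 𝒮) ≅ BasedFunctor.comp y (FibCat.toSelf 𝒮)) :
    FibCat.IsFibSetoid (FibCat.fpFst (FibCat.fpLift x y e) (FibCat.diag (FibCat.toSelf 𝒮))).toFunctor := by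
  have hSS : FibCat.IsFibGrpd (FibCat.fp (FibCat.toSelf 𝒮) (FibCat.toSelf 𝒮)).p :=
    Groth.L09.Fib.fp_isFibGrpd h𝒮 h𝒮 (Groth.L09.Fib.isFibSet_id C).1
  refine ⟨Groth.L09.Fib.fpFst_isFibGrpd (Groth.L09.Fib.isFibGrpd_overCat U) h𝒮 hSS, fun a₀ p q => ⟨fun m m' => ?_⟩⟩
  have h1 : m.1.hom.fst = m'.1.hom.fst := by
    have := m.2
    have := m'.2
    exact (IsHomLift.fac' (FibCat.fpFst (FibCat.fpLift x y e) (FibCat.diag (FibCat.toSelf 𝒮))).toFunctor (𝟙 a₀) m.1).trans
      (IsHomLift.fac' (FibCat.fpFst (FibCat.fpLift x y e) (FibCat.diag (FibCat.toSelf 𝒮))).toFunctor (𝟙 a₀) m'.1).symm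
  have w1 := m.1.hom.w
  have w2 := m'.1.hom.w
  rw [h1] at w1
  have w3 := (cancel_epi p.1.obj.iso.hom).1 (w1.symm.trans w2)
  exact Subtype.ext (ObjectProperty.hom_ext _ (Limits.CategoricalPullback.hom_ext h1
    (congrArg (fun t => t.hom.fst) w3)))

end Groth.Agent.S12806
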