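import Groth.Statements.S12807
import Groth.Agent.L09.FibYoneda
import Groth.Agent.L09.FibMisc
import Groth.Agent.L09.FibInertia

set_option autoImplicit false
open CategoryTheory CategoryTheory.Limits
universe v₃ u₃ v₂ u₂ v u
open FibCat

namespace Groth.Agent.S12807
open CategoryTheory Category Limits Functor
open Groth.L09.Fib

/-- Let `u : C ⥤ D` be a functor and `𝒮` a category over `D` whose structure functor is a fibred
category. Then the 2-fibre product `C ×_D 𝒮` of `u` and the structure functor (triples `(U, y, u U ≅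
p y)`), with its first projection, is a fibred category over `C`. (The published statement uses the
strict fibre product, pairs with `u U = p y`; for `𝒮` fibred over `D` it is equivalent over `C` to
the 2-fibre product used here.) -/
theorem result {C : Type u} [Category.{v} C] {D : Type u₂} [Category.{v₂} D] (u : C ⥤ D)
    (𝒮 : BasedCategory.{v₃, u₃} D) [𝒮.p.IsFibered] :
    (CategoricalPullback.π₁ u 𝒮.p).IsFibered := by
  refine IsFibered.of_exists_isStronglyCartesian fun (x : CategoricalPullback u 𝒮.p) c (f : c ⟶ x.fst) => ?_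
  let f' : u.obj c ⟶ 𝒮.p.obj x.snd := u.map f ≫ x.iso.hom
  obtain ⟨s, π, hπ⟩ : ∃ (s : 𝒮.obj) (π : s ⟶ x.snd), 𝒮.p.IsStronglyCartesian f' π :=
    ⟨_, IsPreFibered.pullbackMap (p := 𝒮.p) (rfl : 𝒮.p.obj x.snd = _) f', inferInstance⟩
  obtain ⟨hs, hπ'⟩ := (isHomLift_cod_iff 𝒮.p f' π).1 hπ.toIsHomLift
  let y : CategoricalPullback u 𝒮.p := ⟨c, s, eqToIso hs.symm⟩
  let m : y ⟶ x := ⟨f, π, by simp only [y, hπ', f', eqToIso.hom, eqToHom_trans_assoc, eqToHom_refl, id_comp]⟩
  refine ⟨y, m, ?_⟩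
  show (CategoricalPullback.π₁ u 𝒮.p).IsStronglyCartesian ((CategoricalPullback.π₁ u 𝒮.p).map m) m
  rw [stronglyCartesian_map_iff]
  intro z (g : z.fst ⟶ c) ψ e
  let g' : 𝒮.p.obj z.snd ⟶ u.obj c := z.iso.inv ≫ u.map g
  have hψ : 𝒮.p.IsHomLift (g' ≫ f') ψ.snd := by
    rw [isHomLift_same_iff]
    have w := ψ.w
    change u.map ψ.fst ≫ x.iso.hom = z.iso.hom ≫ 𝒮.p.map ψ.snd at w
    change ψ.fst = g ≫ f at e
    rw [e, Functor.map_comp, assoc] at w
    simp only [g', f', assoc]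
    rw [Iso.eq_inv_comp, ← w]
  obtain ⟨χ, ⟨hχ, hc⟩, hu⟩ := IsStronglyCartesian.universal_property 𝒮.p f' π g' (g' ≫ f') rfl ψ.snd
  have hχ' : 𝒮.p.map χ = g' ≫ eqToHom hs.symm := by simpa using IsHomLift.fac' 𝒮.p g' χ
  let n : z ⟶ y := ⟨g, χ, by simp [y, hχ', g']⟩
  refine ⟨n, ⟨rfl, CategoricalPullback.hom_ext e.symm hc⟩, ?_⟩
  rintro n' ⟨h1, h2⟩
  refine CategoricalPullback.hom_ext h1 (hu n'.snd ⟨?_, congrArg (fun t => t.snd) h2⟩)
  have w := n'.w
  change u.map n'.fst ≫ eqToHom hs.symm = z.iso.hom ≫ 𝒮.p.map n'.snd at w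
  rw [show n'.fst = g from h1] at w
  refine IsHomLift.of_fac' 𝒮.p g' n'.snd rfl hs ?_
  simp only [g', eqToHom_refl, id_comp, assoc]
  rw [Iso.eq_inv_comp, ← w]

end Groth.Agent.S12807
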