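import Groth.Statements.S12811
import Groth.Agent.L24.St.Stack

set_option autoImplicit false
open CategoryTheory
universe v u
open Stk

namespace Groth.Agent.S12811

/-- For stacks in setoids `𝒳`, `𝒴`, `𝒮` over `C` for the topology `J` (stacks in groupoids that are
fibred in setoids) and functors `F : 𝒳 ⟶ 𝒮`, `G : 𝒴 ⟶ 𝒮` over `C`, the 2-fibre product `𝒳 ×_𝒮 𝒴`
over `C` is again a stack in setoids for `J`. -/
theorem result {C : Type u} [Category.{v} C] (J : GrothendieckTopology C) {𝒳 𝒴 𝒮 : BasedCategory.{v, max u v} C}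
    (F : 𝒳 ⥤ᵇ 𝒮) (G : 𝒴 ⥤ᵇ 𝒮) (h𝒳 : Stk.IsStack J 𝒳 ∧ FibCat.IsFibSetoid 𝒳.p) (h𝒴 : Stk.IsStack J 𝒴 ∧ FibCat.IsFibSetoid 𝒴.p)
    (h𝒮 : Stk.IsStack J 𝒮 ∧ FibCat.IsFibSetoid 𝒮.p) :
    Stk.IsStack J (FibCat.fp F G) ∧ FibCat.IsFibSetoid (FibCat.fp F G).p := by
  have hg := Groth.L24.St.isStack_fp (F := F) (G := G) h𝒳.1 h𝒴.1 (Groth.L24.St.isPrestack_of_isStack h𝒮.1)
  refine ⟨hg, hg.1, fun U a b => ⟨fun m m' => ?_⟩⟩
  refine Subtype.ext (ObjectProperty.hom_ext _ (Limits.CategoricalPullback.hom_ext ?_ ?_))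
  · let za : 𝒳.p.Fiber U := Functor.Fiber.mk a.2
    let zb : 𝒳.p.Fiber U := Functor.Fiber.mk b.2
    let n : za ⟶ zb := ⟨m.1.hom.fst, Groth.L24.St.fp_fst_lift _ m.1 m.2⟩
    let n' : za ⟶ zb := ⟨m'.1.hom.fst, Groth.L24.St.fp_fst_lift _ m'.1 m'.2⟩
    exact congrArg Subtype.val ((h𝒳.2.2 U za zb).elim n n')
  · let za : 𝒴.p.Fiber U := Functor.Fiber.mk ((Groth.L09.Fib.fp_snd_obj a.1).trans a.2)
    let zb : 𝒴.p.Fiber U := Functor.Fiber.mk ((Groth.L09.Fib.fp_snd_obj b.1).trans b.2)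
    let n : za ⟶ zb := ⟨m.1.hom.snd, Groth.L09.Fib.fp_snd_lift _ m.1 m.2⟩
    let n' : za ⟶ zb := ⟨m'.1.hom.snd, Groth.L09.Fib.fp_snd_lift _ m'.1 m'.2⟩
    exact congrArg Subtype.val ((h𝒴.2.2 U za zb).elim n n')

end Groth.Agent.S12811
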