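import Groth.Statements.S12812
import Groth.Agent.L09.StkTop
import Groth.Agent.L09.StkGlue
import Groth.Agent.L09.StkSetoid
import Groth.Agent.L09.FibHom
import Groth.Prelude.Def_W4stkalgstUpp
import Mathlib.CategoryTheory.Bicategory.Basic
import Mathlib.CategoryTheory.Localization.CalculusOfFractions

set_option autoImplicit false
open CategoryTheory CategoryTheory.Limits
universe v₃ u₃ v₂ u₂ v u
open Stk

namespace Groth.Agent.S12812
open CategoryTheory Category Functor Limits Groth.L09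

/-- Let `u : C ⥤ D` be a functor, where `C` has all nonempty finite limits and `u` preserves them, and
let `𝒮` be a fibred category over `C`. In the category `u_pp 𝒮` over `D` — objects `(x, V, φ : V ⟶ u
(p x))`, morphisms the pairs `(x ⟶ x', V ⟶ V')` compatible with the structure morphisms — the class
`R` of morphisms whose component in `𝒮` is strongly cartesian and whose component in `D` is an
isomorphism is a right multiplicative system: it contains identities, is stable under composition,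
and satisfies the two right Ore conditions. (The published statement takes the class with
`D`-component an identity; the class used here consists of those morphisms composed with
isomorphisms of `u_pp 𝒮` and has the same localisation.) -/
theorem result {C : Type u} [Category.{v} C] {D : Type u₂} [Category.{v₂} D] (u : C ⥤ D)
    (𝒮 : BasedCategory.{v₃, u₃} C) [𝒮.p.IsFibered]
    (hC : ∀ (I : Type) [SmallCategory I] [FinCategory I], Nonempty I → HasLimitsOfShape I C)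
    (hu : ∀ (I : Type) [SmallCategory I] [FinCategory I], Nonempty I → PreservesLimitsOfShape I u) :
    (Stk.uppR u 𝒮).HasRightCalculusOfFractions := by
  have : HasPullbacks C := hC WalkingCospan inferInstance
  have : HasEqualizers C := hC WalkingParallelPair inferInstance
  have : PreservesLimitsOfShape WalkingCospan u := hu WalkingCospan inferInstance
  have : PreservesLimitsOfShape WalkingParallelPair u := hu WalkingParallelPair inferInstance
  refine { id_mem := fun a => ⟨?_, show IsIso (𝟙 a.V) from inferInstance⟩, comp_mem := fun {a b c} f g hf hg => ⟨?_, ?_⟩, exists_rightFraction := ?_, ext := ?_ }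
  · show 𝒮.p.IsStronglyCartesian (𝒮.p.map (𝟙 a.x)) (𝟙 a.x)
    have : 𝒮.p.IsHomLift (𝒮.p.map (𝟙 a.x)) (Iso.refl a.x).hom := IsHomLift.map 𝒮.p (𝟙 a.x)
    exact IsStronglyCartesian.of_iso 𝒮.p (𝒮.p.map (𝟙 a.x)) (Iso.refl a.x)
  · show 𝒮.p.IsStronglyCartesian (𝒮.p.map (f.top ≫ g.top)) (f.top ≫ g.top)
    rw [𝒮.p.map_comp]
    have := hf.1; have := hg.1
    infer_instance
  · show IsIso (f.bot ≫ g.bot)
    have := hf.2; have := hg.2
    infer_instance
  · rintro a b ⟨f, s, hs⟩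
    rename_i c
    have := hs.1
    have := hs.2
    let P := pullback (𝒮.p.map f.top) (𝒮.p.map s.top)
    obtain ⟨x, π, hπ⟩ : ∃ (x : 𝒮.obj) (π : x ⟶ a.x), 𝒮.p.IsStronglyCartesian (pullback.fst (𝒮.p.map f.top) (𝒮.p.map s.top)) π :=
      ⟨_, IsPreFibered.pullbackMap (p := 𝒮.p) (rfl : 𝒮.p.obj a.x = 𝒮.p.obj a.x) (pullback.fst (𝒮.p.map f.top) (𝒮.p.map s.top)), inferInstance⟩
    have hx : 𝒮.p.obj x = P := IsHomLift.domain_eq 𝒮.p (pullback.fst (𝒮.p.map f.top) (𝒮.p.map s.top)) π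
    have hP : IsPullback (u.map (pullback.fst (𝒮.p.map f.top) (𝒮.p.map s.top))) (u.map (pullback.snd (𝒮.p.map f.top) (𝒮.p.map s.top)))
        (u.map (𝒮.p.map f.top)) (u.map (𝒮.p.map s.top)) := (IsPullback.of_hasPullback _ _).map u
    let bot : a.V ⟶ b.V := f.bot ≫ CategoryTheory.inv s.bot
    have hw : a.φ ≫ u.map (𝒮.p.map f.top) = (bot ≫ b.φ) ≫ u.map (𝒮.p.map s.top) := by
      rw [assoc, s.w, f.w]; simp [bot, assoc]
    let φP := hP.lift a.φ (bot ≫ b.φ) hw
    let φ : a.V ⟶ u.obj (𝒮.p.obj x) := φP ≫ u.map (eqToHom hx.symm)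
    have hfac : 𝒮.p.map π = eqToHom hx ≫ pullback.fst (𝒮.p.map f.top) (𝒮.p.map s.top) := by
      rw [IsHomLift.fac' 𝒮.p (pullback.fst (𝒮.p.map f.top) (𝒮.p.map s.top)) π]; simp
    have hl : 𝒮.p.IsHomLift (pullback.snd (𝒮.p.map f.top) (𝒮.p.map s.top) ≫ 𝒮.p.map s.top) (π ≫ f.top) := by
      rw [← pullback.condition]; infer_instance
    let k := IsStronglyCartesian.map 𝒮.p (𝒮.p.map s.top) s.top rfl (g := pullback.snd (𝒮.p.map f.top) (𝒮.p.map s.top)) (π ≫ f.top)
    have hk : k ≫ s.top = π ≫ f.top := IsStronglyCartesian.fac _ _ _ _ _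
    have hkl : 𝒮.p.IsHomLift (pullback.snd (𝒮.p.map f.top) (𝒮.p.map s.top)) k := IsStronglyCartesian.map_isHomLift _ _ _ _ _
    have hkfac : 𝒮.p.map k = eqToHom hx ≫ pullback.snd (𝒮.p.map f.top) (𝒮.p.map s.top) := by
      rw [IsHomLift.fac' 𝒮.p (pullback.snd (𝒮.p.map f.top) (𝒮.p.map s.top)) k]; simp
    let w : Stk.UppObj u 𝒮 := ⟨x, a.V, φ⟩
    let σ : w ⟶ a := ⟨π, 𝟙 _, by
      show φ ≫ u.map (𝒮.p.map π) = _
      rw [hfac, u.map_comp]
      simp [φ, φP, eqToHom_map]⟩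
    let τ : w ⟶ b := ⟨k, bot, by
      show φ ≫ u.map (𝒮.p.map k) = _
      rw [hkfac, u.map_comp]
      simp [φ, φP, eqToHom_map]⟩
    refine ⟨⟨σ, ⟨?_, show IsIso (𝟙 _) from inferInstance⟩, τ⟩, ?_⟩
    · show 𝒮.p.IsStronglyCartesian (𝒮.p.map π) π
      have hh : 𝒮.p.IsStronglyCartesian (eqToHom hx ≫ pullback.fst (𝒮.p.map f.top) (𝒮.p.map s.top)) (𝟙 x ≫ π) := by
        have : 𝒮.p.IsHomLift (eqToHom hx) (Iso.refl x).hom := IsHomLift.id_lift_eqToHom_domain hx rfl
        have : 𝒮.p.IsStronglyCartesian (eqToHom hx) (Iso.refl x).hom := IsStronglyCartesian.of_iso 𝒮.p (eqToHom hx) (Iso.refl x)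
        have : 𝒮.p.IsStronglyCartesian (eqToHom hx) (𝟙 x) := this
        infer_instance
      rw [id_comp, ← hfac] at hh
      exact hh
    · apply Stk.UppObj.hom_ext
      · exact hk.symm
      · show 𝟙 a.V ≫ f.bot = bot ≫ s.bot
        simp [bot]
  · intro a b b' f₁ f₂ s hs e
    have := hs.1
    have := hs.2
    have et : f₁.top ≫ s.top = f₂.top ≫ s.top := congrArg Stk.UppObj.Hom.top e
    have eb : f₁.bot = f₂.bot := by
      have : f₁.bot ≫ s.bot = f₂.bot ≫ s.bot := congrArg Stk.UppObj.Hom.bot e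
      exact (cancel_mono s.bot).mp this
    obtain ⟨x, π, hπ⟩ : ∃ (x : 𝒮.obj) (π : x ⟶ a.x), 𝒮.p.IsStronglyCartesian (equalizer.ι (𝒮.p.map f₁.top) (𝒮.p.map f₂.top)) π :=
      ⟨_, IsPreFibered.pullbackMap (p := 𝒮.p) (rfl : 𝒮.p.obj a.x = 𝒮.p.obj a.x) (equalizer.ι (𝒮.p.map f₁.top) (𝒮.p.map f₂.top)), inferInstance⟩
    have hx : 𝒮.p.obj x = equalizer (𝒮.p.map f₁.top) (𝒮.p.map f₂.top) := IsHomLift.domain_eq 𝒮.p (equalizer.ι _ _) π
    have hlim := isLimitOfHasEqualizerOfPreservesLimit u (𝒮.p.map f₁.top) (𝒮.p.map f₂.top)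
    let φE := Fork.IsLimit.lift hlim a.φ (by rw [f₁.w, f₂.w, eb])
    have hφE : φE ≫ u.map (equalizer.ι (𝒮.p.map f₁.top) (𝒮.p.map f₂.top)) = a.φ := Fork.IsLimit.lift_ι' hlim a.φ _
    have hfac : 𝒮.p.map π = eqToHom hx ≫ equalizer.ι (𝒮.p.map f₁.top) (𝒮.p.map f₂.top) := by
      rw [IsHomLift.fac' 𝒮.p (equalizer.ι (𝒮.p.map f₁.top) (𝒮.p.map f₂.top)) π]; simp
    let w : Stk.UppObj u 𝒮 := ⟨x, a.V, φE ≫ u.map (eqToHom hx.symm)⟩
    let t : w ⟶ a := ⟨π, 𝟙 _, by
      show (φE ≫ u.map (eqToHom hx.symm)) ≫ u.map (𝒮.p.map π) = _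
      rw [hfac, assoc, ← u.map_comp, eqToHom_trans_assoc, eqToHom_refl, id_comp, hφE]
      exact (id_comp _).symm⟩
    refine ⟨w, t, ⟨?_, show IsIso (𝟙 _) from inferInstance⟩, ?_⟩
    · show 𝒮.p.IsStronglyCartesian (𝒮.p.map π) π
      have hh : 𝒮.p.IsStronglyCartesian (eqToHom hx ≫ equalizer.ι (𝒮.p.map f₁.top) (𝒮.p.map f₂.top)) (𝟙 x ≫ π) := by
        have : 𝒮.p.IsHomLift (eqToHom hx) (Iso.refl x).hom := IsHomLift.id_lift_eqToHom_domain hx rfl
        have : 𝒮.p.IsStronglyCartesian (eqToHom hx) (Iso.refl x).hom := IsStronglyCartesian.of_iso 𝒮.p (eqToHom hx) (Iso.refl x)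
        have : 𝒮.p.IsStronglyCartesian (eqToHom hx) (𝟙 x) := this
        infer_instance
      rw [id_comp, ← hfac] at hh
      exact hh
    · apply Stk.UppObj.hom_ext
      · show π ≫ f₁.top = π ≫ f₂.top
        have hl : 𝒮.p.IsHomLift (equalizer.ι (𝒮.p.map f₁.top) (𝒮.p.map f₂.top) ≫ 𝒮.p.map f₁.top) (π ≫ f₂.top) := by
          rw [equalizer.condition]; infer_instance
        apply IsStronglyCartesian.ext 𝒮.p (𝒮.p.map s.top) s.top (equalizer.ι (𝒮.p.map f₁.top) (𝒮.p.map f₂.top) ≫ 𝒮.p.map f₁.top)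
        rw [assoc, assoc, et]
      · show 𝟙 a.V ≫ f₁.bot = 𝟙 a.V ≫ f₂.bot
        rw [eb]

end Groth.Agent.S12812
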