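import Groth.Statements.S12815
import Groth.Agent.L09.StkTop
import Groth.Agent.L09.StkGlue
import Groth.Agent.L09.StkSetoid
import Groth.Agent.L09.FibHom
import Groth.Prelude.Def_W4stkalgstUpp
import Mathlib.CategoryTheory.Bicategory.Basic
import Mathlib.CategoryTheory.Localization.CalculusOfFractions

set_option autoImplicit false
open CategoryTheory
universe v u
open Stk

namespace Groth.Agent.S12815
open CategoryTheory Category Functor Limits Groth.L09

/-- Let `𝒳` be fibred in groupoids over `C` and let `S ≤ R` be sieves on an object `U` (a family
refining another with the same target). If the gluing functor for `S` is an equivalence (restriction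
of functors `C/U ⟶ 𝒳` over `C` to `S`), and for every arrow `f : V ⟶ U` of `R` restriction of
functors `C/V ⟶ 𝒳` over `C` to the pulled-back sieve `f^*S` is fully faithful, then the gluing
functor for `R` is an equivalence. (The published statement is for two families of maps with chosen
pullbacks and asks full faithfulness only over the members `U_i` of the coarser family and
faithfulness over the products `U_i ×_U U_{i'}`; this row asks full faithfulness over every arrow of
the sieve they generate, a stronger hypothesis, and needs no fibre products; the published statement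
is for a fibred category, this row for a category fibred in groupoids, the setting in which the
sieve form of the descent condition is the stack condition.) -/
theorem result {C : Type u} [Category.{v} C] {𝒳 : BasedCategory.{v, max u v} C}
    (h𝒳 : FibCat.IsFibGrpd 𝒳.p) {U : C} {S R : Sieve U} (hSR : S ≤ R) (hS : Stk.IsStackFor S 𝒳)
    (hR : ∀ ⦃V : C⦄ (f : V ⟶ U), R f → Stk.IsPrestackFor (S.pullback f) 𝒳) :
    Stk.IsStackFor R 𝒳 := by
  let T := Stk.restr (Groth.L09.Stk.sieveLE hSR) 𝒳
  let E := Stk.resSieve R 𝒳
  have hTf : T.Faithful := Groth.L09.Stk.restr_faithful h𝒳 hSR (fun V f hf => (hR f hf).2)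
  have hTF : T.Full := Groth.L09.Stk.restr_full h𝒳 hSR hR
  have e : E ⋙ T ≅ Stk.resSieve S 𝒳 := Iso.refl _
  have : (Stk.resSieve S 𝒳).IsEquivalence := hS
  have : (E ⋙ T).IsEquivalence := Functor.isEquivalence_of_iso e.symm
  have : E.Faithful := Functor.Faithful.of_comp E T
  have : E.Full := Functor.Full.of_comp_faithful E T
  have : E.EssSurj := ⟨fun d => ⟨(E ⋙ T).objPreimage (T.obj d),
    ⟨T.preimageIso ((E ⋙ T).objObjPreimageIso (T.obj d))⟩⟩⟩
  exact Functor.IsEquivalence.mk

end Groth.Agent.S12815
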