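import Groth.Statements.S12816
import Groth.Agent.L09.StkTop
import Groth.Agent.L09.StkGlue
import Groth.Agent.L09.StkSetoid
import Groth.Agent.L09.FibHom
import Groth.Prelude.Def_W4stkalgstUpp
import Mathlib.CategoryTheory.Bicategory.Basic
import Mathlib.CategoryTheory.Localization.CalculusOfFractions

set_option autoImplicit false
open CategoryTheory
universe v u
open Stk

namespace Groth.Agent.S12816
open CategoryTheory Category Functor Limits Groth.L09

/-- Let `𝒳`, `𝒴` be fibred in groupoids over `C` and `F : 𝒳 ⟶ 𝒴` a functor over `C`. Then the underlying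
functor of `F` is fully faithful if and only if, for every object `U` of `C`, postcomposition with
`F` is a fully faithful functor from the category of functors `C/U ⟶ 𝒳` over `C` to that of functors
`C/U ⟶ 𝒴` over `C`; under the 2-Yoneda lemma the latter says that `F` induces bijections between
morphisms of pullbacks `x|_V ⟶ y|_V` and `F(x)|_V ⟶ F(y)|_V` for all objects `x, y` over `U` and all
`V ⟶ U`, that is, isomorphisms of the presheaves of morphisms. (The published statement is for
stacks over a site, not necessarily in groupoids; the stack property plays no role and is not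
assumed here, and this row treats categories fibred in groupoids.) -/
theorem result {C : Type u} [Category.{v} C] {𝒳 𝒴 : BasedCategory.{v, max u v} C}
    (h𝒳 : FibCat.IsFibGrpd 𝒳.p) (h𝒴 : FibCat.IsFibGrpd 𝒴.p) (F : 𝒳 ⟶ 𝒴) :
    (F.toFunctor.Full ∧ F.toFunctor.Faithful) ↔
      ∀ U : C, (Bicategory.postcomp (FibCat.overCat U) F).Full ∧ (Bicategory.postcomp (FibCat.overCat U) F).Faithful := by
  constructor
  · rintro ⟨_, _⟩ U
    exact ⟨Fib.postF_full (FibCat.overCat U) F, Fib.postF_faithful (FibCat.overCat U) F⟩
  · intro h
    have := Fib.isFibered_of_isFibGrpd _ h𝒳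
    have key : ∀ U, (FibCat.fiberFunctor F U).Full ∧ (FibCat.fiberFunctor F U).Faithful := fun U => by
      have := Fib.evalAtId_isEquivalence h𝒳 U
      have := Fib.evalAtId_isEquivalence h𝒴 U
      let E := FibCat.evalAtId 𝒳 U
      let P := Bicategory.postcomp (FibCat.overCat U) F
      obtain ⟨hP, hP'⟩ := h U
      have e : P ⋙ FibCat.evalAtId 𝒴 U ≅ E ⋙ FibCat.fiberFunctor F U := Iso.refl _
      have : (P ⋙ FibCat.evalAtId 𝒴 U).Full := inferInstance
      have : (P ⋙ FibCat.evalAtId 𝒴 U).Faithful := inferInstance
      have : (E ⋙ FibCat.fiberFunctor F U).Full := Functor.Full.of_iso e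
      have : (E ⋙ FibCat.fiberFunctor F U).Faithful := Functor.Faithful.of_iso e
      have e2 : E.inv ⋙ (E ⋙ FibCat.fiberFunctor F U) ≅ FibCat.fiberFunctor F U :=
        (Functor.associator _ _ _).symm ≪≫ Functor.isoWhiskerRight E.asEquivalence.counitIso _ ≪≫ Functor.leftUnitor _
      exact ⟨Functor.Full.of_iso e2, Functor.Faithful.of_iso e2⟩
    exact ⟨Fib.full_of_fiber F (Fib.preservesStronglyCartesian_of_isFibGrpd F h𝒴) (fun U => (key U).1),
      Fib.faithful_of_fiber F (Fib.preservesStronglyCartesian_of_isFibGrpd F h𝒴) (fun U => (key U).2)⟩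

end Groth.Agent.S12816
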