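import Groth.Statements.S1282
import Groth.Agent.L13.Nagata.StrictIso

set_option autoImplicit false
universe u
open FlatMor

namespace Groth.Agent.S1282

open AlgebraicGeometry CategoryTheory Limits in
/-- Let f : X → Y be a proper morphism with X and Y quasi-compact and quasi-separated, V ⊆ Y a
quasi-compact open, and T ⊆ V a subset closed in V such that f is an isomorphism over some open
neighbourhood of T inside V. Then there is a V-admissible blow-up b : Y' → Y such that, over some
open W' of Y' containing the closure of b⁻¹(T), the strict transform X'' → Y' of f (X'' the closed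
subscheme of X ×_Y Y' cut out by the functions locally killed by a power of the pulled-back
exceptional ideal) restricts to an isomorphism. -/
theorem result {X Y : Scheme.{u}} [CompactSpace X] [QuasiSeparatedSpace X] [CompactSpace Y] [QuasiSeparatedSpace Y]
    (f : X ⟶ Y) [IsProper f] (V : Y.Opens) (hV : IsCompact (V : Set Y)) (T : Set Y) (hTV : T ⊆ V)
    (hT : IsClosed (Subtype.val ⁻¹' T : Set V))
    (hiso : ∃ W : Y.Opens, T ⊆ W ∧ W ≤ V ∧ IsIso (f ∣_ W)) :
    ∃ (𝓘 : Y.IdealSheafData) (Y' : Scheme.{u}) (b : Y' ⟶ Y), BlowUp.IsBlowUp b 𝓘 ∧ BlowUp.IsAdmissibleFor V 𝓘 ∧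
      ∀ (X' : Scheme.{u}) (p₁ : X' ⟶ X) (p₂ : X' ⟶ Y'), IsPullback p₁ p₂ f b →
      ∀ (𝒥 : X'.IdealSheafData),
        (∀ (W : X'.affineOpens) (a : Γ(X', W.1)), a ∈ 𝒥.ideal W ↔
          BlowUp.KilledByPowerNear ((𝓘.comap f).comap p₁) (Coh.structureModule X') W a) →
        ∃ W' : Y'.Opens, closure (b.base ⁻¹' T) ⊆ W' ∧ IsIso ((𝒥.subschemeι ≫ p₂) ∣_ W') := by
  exact Groth.L13.Nagata.exists_strictTransform_iso f V hV T hTV hT hiso

end Groth.Agent.S1282
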