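import Groth.Statements.S12822
import Groth.Agent.L24.St.ChartTop

set_option autoImplicit false
universe u
open CategoryTheory AlgebraicGeometry
open AlgSt

namespace Groth.Agent.S12822

/-- For an algebraic stack `𝒳` over `S` and a morphism `x : U ⟶ 𝒳` from a scheme that is flat and
locally of finite presentation, the map `U → |𝒳|`, `t ↦ x(Spec κ(t))`, is continuous and open. -/
theorem result {S : Scheme.{u}} {𝒳 : AlgSt.Cat S}
    (h𝒳 : AlgSt.IsAlgStack Scheme.fppfPrecoverage 𝒳) (U : Over S) (x : FibCat.overCat U ⥤ᵇ 𝒳)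
    (hx₁ : AlgSt.RepByAlgSpWith (AlgSp.LocP @Flat) x)
    (hx₂ : AlgSt.RepByAlgSpWith (AlgSp.LocP @LocallyOfFinitePresentation) x) :
    Continuous (AlgSt.Points.ofChart x) ∧ IsOpenMap (AlgSt.Points.ofChart x) := by
  exact ⟨Groth.L24.St.continuous_ofChart h𝒳 x,
    Groth.L24.St.isOpenMap_ofChart Groth.L24.St.isOpenMap_of_flat_lfp h𝒳.isStack.1 (Groth.L24.St.repWith_locP_and hx₁ hx₂)⟩

end Groth.Agent.S12822
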