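import Groth.Statements.S12823
import Groth.Agent.L24.St.ChartTop

set_option autoImplicit false
universe u
open CategoryTheory AlgebraicGeometry
open AlgSt

namespace Groth.Agent.S12823

/-- For an algebraic stack `𝒳` over `S` and any surjective, flat, locally finitely presented `p : U ⟶ 𝒳`
from an algebraic space, a subset of `|𝒳|` is open if and only if its preimage under `|p|` is open
in `|U|`; so the topology of `|𝒳|` does not depend on the chart used to define it. -/
theorem result {S : Scheme.{u}} {𝒳 : AlgSt.Cat S}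
    (h𝒳 : AlgSt.IsAlgStack Scheme.fppfPrecoverage 𝒳) (U : AlgSp.Space S) (p : AlgSt.ofSp U.obj ⥤ᵇ 𝒳)
    (hp₁ : AlgSt.RepByAlgSpWith (AlgSp.LocP @Flat) p)
    (hp₂ : AlgSt.RepByAlgSpWith (AlgSp.LocP @LocallyOfFinitePresentation) p)
    (hp₃ : AlgSt.RepByAlgSpWith AlgSp.IsSurjectiveMor p) (W : Set (AlgSt.Points 𝒳)) :
    IsOpen W ↔ IsOpen (AlgSt.Points.map p ⁻¹' W) := by
  have hU := Groth.L24.St.isAlgStack_of_repByAlgSp (𝒳 := AlgSt.ofSp U.obj) ⟨U, _, Groth.L24.St.isEquivOver_id _⟩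
  have h1 := Groth.L24.St.isOpenMap_map Groth.L24.St.isOpenMap_of_flat_lfp h𝒳.isStack.1 hU
    (Groth.L24.St.repWith_locP_and hp₁ hp₂)
  have h2 : Function.Surjective (AlgSt.Points.map p) :=
    Groth.L24.St.isSurjective_of_repWith hU.isStack.1 h𝒳.isStack.1 hp₃
  refine ⟨fun hW => (Groth.L24.St.continuous_map h𝒳 p).isOpen_preimage W hW, fun hW => ?_⟩
  rw [← h2.image_preimage W]
  exact h1 _ hW

end Groth.Agent.S12823
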