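import Groth.Statements.S12829
import Groth.Agent.L24.St.UnivProps

set_option autoImplicit false
universe u
open CategoryTheory AlgebraicGeometry
open AlgSt

namespace Groth.Agent.S12829

/-- For a morphism `f : 𝒳 ⟶ 𝒴` of algebraic stacks over `S` that is representable by algebraic spaces,
every base change of `f` to a scheme is universally injective as a morphism of algebraic spaces
exactly when, for each morphism of algebraic stacks `𝒵 ⟶ 𝒴`, the induced map on points `|𝒵 ×_𝒴 𝒳| →
|𝒵|` is injective. -/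
theorem result {S : Scheme.{u}} {𝒳 𝒴 : AlgSt.Cat S}
    (h𝒳 : AlgSt.IsAlgStack Scheme.fppfPrecoverage 𝒳) (h𝒴 : AlgSt.IsAlgStack Scheme.fppfPrecoverage 𝒴) (f : 𝒳 ⥤ᵇ 𝒴) (hf : AlgSt.RepByAlgSp1 f) :
    AlgSt.RepByAlgSpWith AlgSp.IsUnivInjectiveMor f ↔ AlgSt.IsUnivInjective Scheme.fppfPrecoverage f := by
  constructor
  · intro h
    exact fun 𝒵 h𝒵 g => Groth.L24.St.isUnivX_of_repWith (T := fun {A B} [TopologicalSpace A] [TopologicalSpace B] m => Function.Injective m) (fun hk hsq hc ht => hsq.injective (hk.injective.comp ht))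
      h𝒳.isStack.1 h𝒴.isStack.1 h 𝒵 h𝒵 g
  · intro h
    exact Groth.L24.St.repWith_univSp_of (T := fun {A B} [TopologicalSpace A] [TopologicalSpace B] m => Function.Injective m) (fun m k hk hm => hm.of_comp) (fun m k hk hm => hm.comp hk.injective)
      h𝒳.isStack.1 h𝒴.isStack.1 hf h

end Groth.Agent.S12829
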