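import Groth.Statements.S1283
import Groth.Agent.L13.Nagata.StrictIso
import Groth.Agent.L13.Nagata.Immersion
import Groth.Agent.L22.BlowUp
import Mathlib.AlgebraicGeometry.ZariskisMainTheorem

set_option autoImplicit false
universe u
open FlatMor

set_option backward.isDefEq.respectTransparency.types false
set_option linter.style.haveILetI false
set_option backward.isDefEq.respectTransparency.types false
namespace Groth.Agent.S1283

open AlgebraicGeometry CategoryTheory Limits in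
/-- Let φ : X → S be separated and of finite type with S quasi-compact and quasi-separated, and U ⊆ S a
quasi-compact open over which φ is an isomorphism. Then there is a U-admissible blow-up b : S' → S
such that the strict transform X'' of X (the closed subscheme of X ×_S S' cut out by the functions
locally killed by a power of the pulled-back exceptional ideal) maps to S' by an open immersion. -/
theorem result {X S : Scheme.{u}} [CompactSpace S] [QuasiSeparatedSpace S]
    (φ : X ⟶ S) [IsSeparated φ] [LocallyOfFiniteType φ] [QuasiCompact φ] (U : S.Opens) (hU : IsCompact (U : Set S)) [IsIso (φ ∣_ U)] :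
    ∃ (𝓘 : S.IdealSheafData) (S' : Scheme.{u}) (b : S' ⟶ S), BlowUp.IsBlowUp b 𝓘 ∧ BlowUp.IsAdmissibleFor U 𝓘 ∧
      ∀ (X' : Scheme.{u}) (p₁ : X' ⟶ X) (p₂ : X' ⟶ S'), IsPullback p₁ p₂ φ b →
      ∀ (𝒥 : X'.IdealSheafData),
        (∀ (W : X'.affineOpens) (a : Γ(X', W.1)), a ∈ 𝒥.ideal W ↔
          BlowUp.KilledByPowerNear ((𝓘.comap φ).comap p₁) (Coh.structureModule X') W a) →
        IsOpenImmersion (𝒥.subschemeι ≫ p₂) := by
  obtain ⟨J, hJ, -, hgood⟩ := Groth.L13.Nagata.exists_good φ U hU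
  obtain ⟨S', b, hb⟩ := Groth.L13.BU.exists_isBlowUp J
  refine ⟨J, S', b, hb, hJ, fun X' p₁ p₂ H 𝒥 h𝒥 => ?_⟩
  obtain ⟨T₁, c, hc⟩ := Groth.L13.BU.exists_isBlowUp (J.comap φ)
  obtain ⟨h, hh, -⟩ := hb.2 T₁ (c ≫ φ) (by rw [Scheme.IdealSheafData.comap_comp]; exact hc.1)
  replace hh : h ≫ b = c ≫ φ := hh
  haveI : IsOpenImmersion h := hgood b c hb hc h hh
  haveI := Groth.L13.BU.isProper_blowUp hb hJ.1
  haveI := Groth.L13.BU.isProper_blowUp hc (Groth.L13.Nagata.isFiniteType_comap hJ.1 φ)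
  haveI : IsProper p₁ := MorphismProperty.of_isPullback H.flip inferInstance
  let y := H.lift c h hh.symm
  have hy₁ : y ≫ p₁ = c := H.lift_fst _ _ _
  have hy₂ : y ≫ p₂ = h := H.lift_snd _ _ _
  haveI : IsProper (y ≫ p₁) := by rw [hy₁]; infer_instance
  haveI : IsProper y := IsProper.of_comp y p₁
  haveI : Mono (y ≫ p₂) := by rw [hy₂]; infer_instance
  haveI : Mono y := mono_of_mono y p₂
  haveI : IsClosedImmersion y := (IsClosedImmersion.iff_isProper_and_mono y).2 ⟨inferInstance, inferInstance⟩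
  let O : X.Opens := (J.comap φ).support.compl
  let Z : X'.Opens := p₁ ⁻¹ᵁ O
  haveI := Groth.L22.Ideals.isIso_restrict_compl hb
  haveI : IsIso (p₁ ∣_ O) := Groth.L13.Nagata.isIso_restrict_of_isPullback H.flip J.support.compl O fun x hx hx' =>
    hx ((SetLike.ext_iff.1 (Scheme.IdealSheafData.support_comap J φ) x).2 hx')
  haveI : IsIso (c ∣_ O) := Groth.L22.Ideals.isIso_restrict_compl hc
  haveI : IsIso (y ∣_ Z) := by
    have e0 : IsIso (c ∣_ O) := inferInstance
    have e1 : IsIso ((y ≫ p₁) ∣_ O) := hy₁.symm ▸ e0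
    haveI : IsIso ((y ∣_ Z) ≫ (p₁ ∣_ O)) := by
      rw [morphismRestrict_comp] at e1
      exact e1
    exact IsIso.of_isIso_comp_right _ (p₁ ∣_ O)
  have hV₀ : y ⁻¹ᵁ Z = ((J.comap φ).comap c).support.compl := by
    refine TopologicalSpace.Opens.ext ?_
    show y ⁻¹' (p₁ ⁻¹' ((J.comap φ).support : Set X)ᶜ) = (((J.comap φ).comap c).support : Set T₁)ᶜ
    rw [Scheme.IdealSheafData.support_comap _ c, ← hy₁]
    ext z
    simp
  haveI : IsSchemeTheoreticallyDominant (y ⁻¹ᵁ Z).ι := by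
    rw [hV₀]; exact Groth.L13.Nagata.isEffCartier_schDominant_compl hc.1
  haveI : QuasiCompact (y ⁻¹ᵁ Z).ι := by rw [hV₀]; exact Groth.L13.MP.quasiCompact_interior hc.1
  have hZι : Z.ι = inv (y ∣_ Z) ≫ (y ⁻¹ᵁ Z).ι ≫ y := by
    rw [IsIso.eq_inv_comp, morphismRestrict_ι]
  haveI : QuasiCompact Z.ι := by rw [hZι]; infer_instance
  have hker : y.ker = Z.ι.ker := by
    have h1 : ((y ⁻¹ᵁ Z).ι ≫ y).ker = y.ker := by
      rw [Scheme.Hom.ker_comp, IsSchemeTheoreticallyDominant.ker_eq_bot, Scheme.IdealSheafData.map_bot]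
    rw [hZι, Scheme.Hom.ker_comp_of_isIso, h1]
  have h𝒥y : 𝒥 = y.ker := by
    refine Scheme.IdealSheafData.ext (funext fun A => ?_)
    ext a
    have hZ : ∀ x ∈ A.1, (x ∈ Z.ι ''ᵁ Z.ι ⁻¹ᵁ A.1 ↔ x ∉ ((J.comap φ).comap p₁).support) := fun x hx => by
      rw [Scheme.Hom.image_preimage_eq_opensRange_inf, Scheme.Opens.opensRange_ι]
      show x ∈ Z ⊓ A.1 ↔ x ∉ (((J.comap φ).comap p₁).support : Set X')
      rw [Scheme.IdealSheafData.support_comap]
      exact ⟨fun h => h.1, fun h => ⟨h, hx⟩⟩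
    rw [h𝒥, hker, Scheme.Hom.ker_apply, RingHom.mem_ker, Scheme.Opens.ι_app]
    exact Groth.L13.Nagata.killed_iff_restrict_eq_zero ((J.comap φ).comap p₁)
      (Groth.L13.Nagata.isFiniteType_comap (Groth.L13.Nagata.isFiniteType_comap hJ.1 φ) p₁) A _
      (Set.image_preimage_subset _ _) hZ a
  have hk : 𝒥.subschemeι.ker = y.ker := by rw [Scheme.IdealSheafData.ker_subschemeι, h𝒥y]
  haveI : IsIso (IsClosedImmersion.lift 𝒥.subschemeι y hk.le) := IsClosedImmersion.isIso_lift _ _ hk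
  let l := IsClosedImmersion.lift 𝒥.subschemeι y hk.le
  have e : 𝒥.subschemeι ≫ p₂ = inv l ≫ h := by
    rw [IsIso.eq_inv_comp, ← Category.assoc, IsClosedImmersion.lift_fac, hy₂]
  rw [e]
  infer_instance


end Groth.Agent.S1283
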