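import Groth.Statements.S12833
import Groth.Agent.L09.GeomStab.RationalPoint

set_option autoImplicit false
universe u
open CategoryTheory AlgebraicGeometry
open AlgSt

set_option backward.isDefEq.respectTransparency false
set_option backward.isDefEq.respectTransparency.types false

namespace Groth.Agent.S12833

open CategoryTheory.Limits Groth.L24.St Groth.L24.LocQ Groth.L09.FieldPt Groth.L09.Residual Groth.L09

set_option backward.isDefEq.respectTransparency false
set_option backward.isDefEq.respectTransparency.types false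

/-- Let `f : 𝒳 ⟶ 𝒴` be a morphism of algebraic stacks over `S` whose diagonal is surjective on points
(for morphisms of algebraic stacks this is the same as universally injective; the published
statement assumes the latter), `k` an algebraically closed field and `y : Spec k ⟶ 𝒴` whose point
lies in the image of `|𝒳| → |𝒴|`. Then `y` itself lifts: there is `x : Spec k ⟶ 𝒳` with `f ∘ x ≅ y`,
no field extension being needed. -/
theorem result {S : Scheme.{u}} {𝒳 𝒴 : AlgSt.Cat S}
    (h𝒳 : AlgSt.IsAlgStack Scheme.fppfPrecoverage 𝒳) (h𝒴 : AlgSt.IsAlgStack Scheme.fppfPrecoverage 𝒴) (f : 𝒳 ⥤ᵇ 𝒴) (hΔ : AlgSt.IsSurjective (FibCat.diag f))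
    (k : Type u) [Field k] [IsAlgClosed k] (s : Spec (CommRingCat.of k) ⟶ S) (y : 𝒴.obj)
    (hy : 𝒴.p.obj y = Over.mk s)
    (h : AlgSt.Points.mk ⟨k, s, y, hy⟩ ∈ Set.range (AlgSt.Points.map f)) :
    ∃ (x : 𝒳.obj) (φ : f.obj x ⟶ y), 𝒳.p.obj x = Over.mk s ∧ 𝒴.p.IsHomLift (𝟙 (Over.mk s)) φ := by
  obtain ⟨G, φ₀, hφ₀⟩ := exists_overCat_functor h𝒴.isStack.1 y hy
  let K0 : Over S := Over.mk s
  have hK := isAlgStack_overCat K0
  have hN := isAlgStack_fp hK h𝒳 h𝒴 G f
  let p := FibCat.fpFst G f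
  have hgN : FibCat.IsFibGrpd (FibCat.fp G f).p := hN.isStack.1
  have hd : RepByAlgSpWith AlgSp.IsSurjectiveMor (FibCat.diag p) := diag_fpFst_repWith G
    (repWith_surjective_of_isSurjective h𝒳.isStack.1 (L09.Fib.fp_isFibGrpd h𝒳.isStack.1 h𝒳.isStack.1 h𝒴.isStack.1)
      (repWith_rep1 (diag_lft h𝒳 h𝒴 f)) hΔ)
  obtain ⟨q0, hq0⟩ := h
  have hG0 : Points.map G (Points.mk ⟨k, s, idObj K0, rfl⟩) = Points.map f q0 := by
    rw [hq0]; exact mk_eq_of_hom φ₀.hom
  obtain ⟨pN, -, -⟩ := exists_points_fp h𝒳.isStack.1 h𝒴.isStack.1 (overCat_isFibGrpd K0) f G _ _ hG0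
  obtain ⟨U, x, hx, hxs⟩ := hN.atlas
  obtain ⟨uP, -⟩ := isSurjective_of_repWith (overCat_isFibGrpd U) hgN hxs pN
  have : Nonempty ↥U.left := ⟨overPt uP⟩
  obtain ⟨u, hu⟩ := RatPt.exists_isLocallyClosed_singleton U.left
  let Pk : Over S := Over.mk (U.left.fromSpecResidueField u ≫ U.hom)
  let ι : Pk ⟶ U := Over.homMk (U.left.fromSpecResidueField u) rfl
  let z := BasedFunctor.comp (overMap ι) x
  obtain ⟨ψx, ⟨ix⟩, -⟩ := exists_overMap_iso (BasedFunctor.comp x p)
  let ψz : Pk ⟶ K0 := ι ≫ ψx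
  let iz : BasedFunctor.comp z p ≅ overMap ψz := whiskerL (overMap ι) ix ≪≫ (overMapCompIso ι ψx).symm
  have hgQ : FibCat.IsFibGrpd (FibCat.fp (BasedFunctor.comp z p) (BasedFunctor.comp x p)).p :=
    L09.Fib.fp_isFibGrpd (overCat_isFibGrpd Pk) (overCat_isFibGrpd U) (overCat_isFibGrpd K0)
  have hgF : FibCat.IsFibGrpd (FibCat.fp z x).p :=
    L09.Fib.fp_isFibGrpd (overCat_isFibGrpd Pk) (overCat_isFibGrpd U) hgN
  have hsP : IsSurjective (fpPost z x p) := isSurjective_of_repWith hgF hgQ (cmp_repWith z x p hd)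
  obtain ⟨F, e, he, hF⟩ := hx Pk z
  obtain ⟨W, π, hπ, hπs⟩ := F.property.atlas
  let e₀ := BasedFunctor.comp (spChart π) e
  have hes : IsSurjective e₀ := isSurjective_comp
    (isSurjective_of_repWith (overCat_isFibGrpd W) (ofSp_isFibGrpd _)
      ((surjective_spChart_iff F.property π).2 (Groth.L23.surjective_map_of_repWith hπs))) (isSurjective_of_isEquivOver he)
  obtain ⟨a, ⟨ia⟩, ha⟩ := exists_overMap_iso (BasedFunctor.comp e₀ (FibCat.fpFst z x))
  obtain ⟨b, ⟨ib⟩, -⟩ := exists_overMap_iso (BasedFunctor.comp e₀ (FibCat.fpSnd z x))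
  have ha' : π ≫ spMapOfOver (BasedFunctor.comp e (FibCat.fpFst z x)) = (AlgSp.yon S).map a ≫ 𝟙 _ := by
    rw [Category.comp_id, ← ha, ← spMapOfOver_ofSpMap_comp]; rfl
  have hsa : Smooth a.left := hF π (𝟙 _) a hπ (Groth.L23.repWith_of_isIso _) ha'
  let E := BasedFunctor.comp e₀ (fpPost z x p)
  have hab : a ≫ ψz = b ≫ ψx := RatPt.overMap_injective
    (overMapCompIso a ψz ≪≫ whiskerL (overMap a) iz.symm ≪≫ whiskerR ia.symm (BasedFunctor.comp z p) ≪≫
      whiskerL E (FibCat.fpIso (BasedFunctor.comp z p) (BasedFunctor.comp x p)) ≪≫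
      whiskerR ib (BasedFunctor.comp x p) ≪≫ whiskerL (overMap b) ix ≪≫ (overMapCompIso b ψx).symm)
  let R := pullback ψz ψx
  let pr₁ : R ⟶ Pk := pullback.fst ψz ψx
  let pr₂ : R ⟶ U := pullback.snd ψz ψx
  let L : FibCat.overCat R ⥤ᵇ FibCat.fp (BasedFunctor.comp z p) (BasedFunctor.comp x p) :=
    FibCat.fpLift (overMap pr₁) (overMap pr₂) (whiskerL (overMap pr₁) iz ≪≫ (overMapCompIso pr₁ ψz).symm ≪≫
      eqToIso (congrArg overMap pullback.condition) ≪≫ overMapCompIso pr₂ ψx ≪≫ whiskerL (overMap pr₂) ix.symm)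
  let c : W ⟶ R := pullback.lift a b hab
  have hc : Surjective c.left := RatPt.surjective_of_points
    (Φ₁ := FibCat.fpFst (BasedFunctor.comp z p) (BasedFunctor.comp x p))
    (Φ₂ := FibCat.fpSnd (BasedFunctor.comp z p) (BasedFunctor.comp x p))
    (E := E) (L := L) (pr₁ := pr₁) (pr₂ := pr₂) hgQ (fun _ _ => pullback.hom_ext) ia ib (Iso.refl _) (Iso.refl _) c
    (pullback.lift_fst _ _ _) (pullback.lift_snd _ _ _) (fun w => by
      obtain ⟨m, hm⟩ := hsP (Points.map L (ptOver w))
      obtain ⟨n, rfl⟩ := hes m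
      refine ⟨overPt n, ?_⟩
      rw [ptOver_overPt, map_comp_apply]
      exact hm)
  have hla : LocallyOfFiniteType a.left := inferInstance
  have sq := (IsPullback.of_hasPullback ψz ψx).map (Over.forget S)
  have hbl : IsLocallyClosed (b.left ⁻¹' {u}) := hu.preimage b.left.continuous
  have hvb := lft_fst_residue b.left u hbl
  obtain ⟨al, hal⟩ : ∃ al, Spec.map al = ψz.left := ⟨_, Spec.map_preimage _⟩
  let alg : Algebra k (U.left.residueField u) := al.hom.toAlgebra
  have hsurj : Function.Surjective (algebraMap k (U.left.residueField u)) := by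
    have halg : Spec.map (CommRingCat.ofHom (algebraMap k (U.left.residueField u))) = ψz.left := hal
    have : LocallyOfFiniteType (pullback.fst b.left ι.left ≫ a.left) :=
      @AlgebraicGeometry.locallyOfFiniteType_comp _ _ _ _ _ hvb hla
    refine RatPt.surjective_algebraMap (pullback.fst b.left ι.left ≫ a.left) (pullback.snd b.left ι.left) ?_ ?_
    · rw [halg, Category.assoc]
      have h1 := congrArg CommaMorphism.left hab
      simp only [Over.comp_left] at h1
      rw [h1, ← Category.assoc, pullback.condition, Category.assoc]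
      rfl
    · intro L _ p₁ p₂ h12
      rw [halg] at h12
      have hc1 : p₁ ≫ ψz.left = (p₂ ≫ ι.left) ≫ ψx.left := by
        rw [h12, Category.assoc]; rfl
      let P := sq.lift p₁ (p₂ ≫ ι.left) hc1
      have hP1 : P ≫ pr₁.left = p₁ := sq.lift_fst _ _ _
      have hP2 : P ≫ pr₂.left = p₂ ≫ ι.left := sq.lift_snd _ _ _
      have hs2 : Surjective (pullback.snd c.left P) := inferInstance
      obtain ⟨v, -⟩ := (pullback.snd c.left P).surjective (IsLocalRing.closedPoint L : PrimeSpectrum L)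
      let h0 := (pullback c.left P).fromSpecResidueField v
      have e1 : c.left ≫ pr₁.left = a.left := congrArg CommaMorphism.left (pullback.lift_fst a b hab)
      have e2 : c.left ≫ pr₂.left = b.left := congrArg CommaMorphism.left (pullback.lift_snd a b hab)
      have hcond : (h0 ≫ pullback.fst c.left P) ≫ b.left = (h0 ≫ pullback.snd c.left P ≫ p₂) ≫ ι.left := by
        simp only [Category.assoc, ← hP2, ← e2, pullback.condition_assoc]
      refine ⟨(pullback c.left P).residueField v, inferInstance, h0 ≫ pullback.snd c.left P,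
        pullback.lift (h0 ≫ pullback.fst c.left P) (h0 ≫ pullback.snd c.left P ≫ p₂) hcond, ?_, ?_⟩
      · rw [← Category.assoc, pullback.lift_fst, Category.assoc, Category.assoc, ← e1, ← hP1, pullback.condition_assoc]
      · rw [pullback.lift_snd, Category.assoc]
  have : IsIso al := (ConcreteCategory.isIso_iff_bijective al).2 ⟨al.hom.injective, hsurj⟩
  have : IsIso ψz.left := hal ▸ inferInstance
  have : IsIso ((Over.forget S).map ψz) := (inferInstance : IsIso ψz.left)
  have : IsIso ψz := isIso_of_reflects_iso ψz (Over.forget S)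
  let σ : K0 ⟶ U := inv ψz ≫ ι
  have hσ : σ ≫ ψx = 𝟙 K0 := by rw [Category.assoc]; exact IsIso.inv_hom_id ψz
  let o := x.obj (Over.mk σ)
  have ho : (FibCat.fp G f).p.obj o = K0 := x.w_obj _
  let i₁ : o.obj.fst ≅ idObj K0 := appIso ix (Over.mk σ) ≪≫ eqToIso (congrArg Over.mk hσ)
  have hi₁ : OverId i₁.hom := (overId_app ix.hom (Over.mk σ)).comp (by
    refine OverId.of_eq (congrArg Comma.left (congrArg Over.mk hσ)) ?_
    exact Over.eqToHom_left _)
  have hsnd : 𝒳.p.obj o.obj.snd = K0 := ((FibCat.fpSnd G f).w_obj o).trans ho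
  refine ⟨o.obj.snd, o.obj.iso.inv ≫ G.map i₁.hom ≫ φ₀.hom, hsnd, OverId.lift ?_ ((f.w_obj _).trans hsnd)⟩
  exact (fp_overId o).inv.comp ((hi₁.map G).comp hφ₀)

end Groth.Agent.S12833
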