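import Groth.Statements.S12838
import Groth.Agent.L09.Stack.QuotTriv

set_option autoImplicit false
universe u
open CategoryTheory AlgebraicGeometry
open AlgSt

set_option backward.isDefEq.respectTransparency false
set_option backward.isDefEq.respectTransparency.types false

open MonoidalCategory CartesianMonoidalCategory MonObj Groth.L09.Stack

namespace Groth.Agent.S12838

open MonoidalCategory CartesianMonoidalCategory MonObj GrpObj in
/-- Let `G` be a group scheme over `S` acting on an `S`-scheme `X`, `f : T ⟶ T'` a morphism of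
`S`-schemes, `x` a `T`-point and `x'` a `T'`-point of `X`. In the quotient category `[X/G]` (scheme
torsors for the fppf topology with an equivariant morphism to `X`) the canonical functor `X ⟶ [X/G]`
sends `x` to the trivial torsor `G ×_S T ⟶ T`, with `G` acting by left multiplication on the first
factor and the equivariant morphism `(h, t) ↦ h · x(t)`, and likewise for `x'`. The morphisms from
the image of `x` to the image of `x'` lying over `f` are exactly the maps `(h, t) ↦ (h · g(t),
f(t))` for those `T`-points `g` of `G` with `g · (x' ∘ f) = x`: every morphism over `f` is of this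
form, and every such `g` defines one. -/
theorem result (S : Scheme.{u}) (G : Over S) [GrpObj G] (X : Over S)
    (aX : AlgGrp.Action G X) (T T' : Over S) (f : T ⟶ T') (x : T ⟶ X) (x' : T' ⟶ X) :
    (∀ h : (AlgSt.quotMap Scheme.fppfPrecoverage G aX).obj ((AlgSt.ofOverCat X).obj (Over.mk x)) ⟶ (AlgSt.quotMap Scheme.fppfPrecoverage G aX).obj ((AlgSt.ofOverCat X).obj (Over.mk x')),
        h.base = f → ∃ g : T ⟶ G, lift g (f ≫ x') ≫ aX.act = x ∧
          h.top = lift (fst G T * (snd G T ≫ g)) (snd G T ≫ f)) ∧
    (∀ g : T ⟶ G, lift g (f ≫ x') ≫ aX.act = x →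
        ∃ h : (AlgSt.quotMap Scheme.fppfPrecoverage G aX).obj ((AlgSt.ofOverCat X).obj (Over.mk x)) ⟶ (AlgSt.quotMap Scheme.fppfPrecoverage G aX).obj ((AlgSt.ofOverCat X).obj (Over.mk x')),
          h.base = f ∧ h.top = lift (fst G T * (snd G T ≫ g)) (snd G T ≫ f)) := by
  constructor
  · intro h hb
    exact exists_translation aX x x' h.top (h.cart.w.trans (congrArg (snd G T ≫ ·) hb)) h.eqv h.wφ
  · intro g hg
    let top : G ⊗ T ⟶ G ⊗ T' := lift (fst G T * (snd G T ≫ g)) (snd G T ≫ f)
    refine ⟨⟨f, top, ?_, ?_, ?_⟩, rfl, rfl⟩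
    · show (AlgSt.leftMul G T).act ≫ top = (G ◁ top) ≫ (AlgSt.leftMul G T').act
      apply CartesianMonoidalCategory.hom_ext
      · simp [top, AlgSt.leftMul, comp_lift, comp_mul, _root_.mul_assoc]
      · simp [top, AlgSt.leftMul, comp_lift, comp_mul]
    · let ρ : G ⊗ T ⟶ G ⊗ T := lift (fst G T * (snd G T ≫ g)) (snd G T)
      have : IsIso ρ := ⟨lift (fst G T * (snd G T ≫ g)⁻¹) (snd G T),
        by simp [ρ, comp_lift, comp_mul, comp_inv], by simp [ρ, comp_lift, comp_mul, comp_inv]⟩
      have sq : IsPullback ρ (snd G T) (snd G T) (𝟙 T) := IsPullback.of_horiz_isIso ⟨by simp [ρ]⟩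
      have h := sq.paste_horiz (AlgSt.isPullback_whiskerLeft (G := G) f)
      have et : ρ ≫ (G ◁ f) = top := by
        apply CartesianMonoidalCategory.hom_ext <;> simp [ρ, top]
      rw [et, Category.id_comp] at h
      exact h
    · show top ≫ (G ◁ x') ≫ aX.act = (G ◁ x) ≫ aX.act
      have e1 : top ≫ (G ◁ x') = lift (fst G T * (snd G T ≫ g)) (snd G T ≫ f ≫ x') := by
        apply CartesianMonoidalCategory.hom_ext <;> simp [top]
      rw [reassoc_of% e1, lift_mul_act, ← comp_lift (snd G T) g (f ≫ x'), Category.assoc, hg]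
      congr 1

end Groth.Agent.S12838
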