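import Groth.Statements.S12843
import Groth.Agent.L24.St.FlatCover

set_option autoImplicit false
open CategoryTheory AlgebraicGeometry
universe u
open AlgSt

namespace Groth.Agent.S12843

/-- Let `P` be a property of morphisms of algebraic spaces over `S` which is stable under base change
and fppf local on the base, `f : 𝒳 ⟶ 𝒴` a 1-morphism of algebraic stacks over `S` that is
representable by algebraic spaces, and `z : 𝒵 ⟶ 𝒴` a 1-morphism of algebraic stacks, representable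
by algebraic spaces, that is flat, surjective and locally of finite presentation. Then `f` has `P`
if and only if the base change `𝒵 ×_𝒴 𝒳 ⟶ 𝒵` has `P`. (Stability under base change is asked for
every pullback square of fppf sheaves whose four corners are algebraic spaces.) -/
theorem result {S : Scheme.{u}} {𝒳 𝒴 𝒵 : AlgSt.Cat S}
    (h𝒳 : AlgSt.IsAlgStack Scheme.fppfPrecoverage 𝒳) (h𝒴 : AlgSt.IsAlgStack Scheme.fppfPrecoverage 𝒴) (h𝒵 : AlgSt.IsAlgStack Scheme.fppfPrecoverage 𝒵)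
    (P : MorphismProperty (AlgSp.Sp S))
    (hPb : ∀ ⦃X₁ Y₁ X₂ Y₂ : AlgSp.Sp S⦄, AlgSp.IsAlgSpace X₁ → AlgSp.IsAlgSpace Y₁ → AlgSp.IsAlgSpace X₂ →
      AlgSp.IsAlgSpace Y₂ → ∀ (a : X₁ ⟶ Y₁) (b : Y₂ ⟶ Y₁) (a' : X₂ ⟶ Y₂) (b' : X₂ ⟶ X₁),
      IsPullback b' a' a b → P a → P a')
    (hP : AlgSp.IsLocalOnBase AlgSp.IsFppfCover P)
    (f : 𝒳 ⥤ᵇ 𝒴) (hf : AlgSt.RepByAlgSp1 f) (z : 𝒵 ⥤ᵇ 𝒴)
    (hz₁ : AlgSt.RepByAlgSpWith (AlgSp.LocP @Flat) z)
    (hz₂ : AlgSt.RepByAlgSpWith (AlgSp.LocP @LocallyOfFinitePresentation) z)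
    (hz₃ : AlgSt.RepByAlgSpWith AlgSp.IsSurjectiveMor z) :
    AlgSt.RepByAlgSpWith P f ↔ AlgSt.RepByAlgSpWith P (FibCat.fpFst z f) := by
  exact Groth.L24.St.repWith_iff_fpFst_cover hPb hP h𝒳.isStack.1 h𝒴.isStack.1 h𝒵.isStack.1 hf hz₁ hz₂ hz₃

end Groth.Agent.S12843
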