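import Groth.Statements.S12846
import Groth.Agent.L24.St.SmoothLocal

set_option autoImplicit false
open CategoryTheory AlgebraicGeometry
universe u
open AlgSt

namespace Groth.Agent.S12846

/-- (1) ⇔ (2): suppose `P`, a property of schemes, is local for the smooth topology (for every jointly
surjective family of smooth morphisms `V_i ⟶ U`, `U` has `P` if and only if every `V_i` has `P`) and
`𝒳` an algebraic stack over `S`. Then every scheme `U` admitting a smooth `U ⟶ 𝒳` has `P` if and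
only if some scheme `U` admitting a surjective smooth `U ⟶ 𝒳` has `P`. -/
theorem result {S : Scheme.{u}} {𝒳 : AlgSt.Cat S}
    (h𝒳 : AlgSt.IsAlgStack Scheme.fppfPrecoverage 𝒳) (P : Scheme.{u} → Prop)
    (hP : ∀ (U : Scheme.{u}) (R : Presieve U), R ∈ Scheme.precoverage @Smooth U →
      (P U ↔ ∀ ⦃V : Scheme.{u}⦄ (g : V ⟶ U), R g → P V)) :
    AlgSt.SmoothLocally P 𝒳 ↔
      ∃ (U : Over S) (x : FibCat.overCat U ⥤ᵇ 𝒳),
        AlgSt.RepByAlgSpWith (AlgSp.LocP @Smooth) x ∧ AlgSt.RepByAlgSpWith AlgSp.IsSurjectiveMor x ∧ P U.left := by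
  constructor
  · intro h
    obtain ⟨U, x, hx, hs⟩ := h𝒳.atlas
    exact ⟨U, x, hx, hs, h U x hx⟩
  · rintro ⟨V, y, hy, hys, hV⟩
    exact Groth.L24.St.smoothLocally_of_chart h𝒳.isStack.1 hP hy
      (Groth.L24.St.surjective_ofChart_of_repWith h𝒳.isStack.1 hys) hV

end Groth.Agent.S12846
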