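import Groth.Statements.S1285
import Groth.Agent.L20.RG.Key
import Groth.Agent.L20.RG.StepFacts
import Mathlib.RingTheory.TensorProduct.Free

set_option autoImplicit false
universe u
open FlatMor

set_option backward.isDefEq.respectTransparency.types false
open TensorProduct
namespace Groth.Agent.S1285

/-- Let (C, D, G) be a one-step dévissage of N/S/R over the prime p (see FlatCA.IsOneStepDevissage), and
suppose pD is prime (the generic point of the fibre of Spec D). Then there are r > 0 and a D-linear
map α from D^r to G which becomes bijective after base change to the residue field of pD; moreover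
for every such α the support of the fibre module over p of the cokernel of α has dimension strictly
less than that of the fibre module of N. -/
theorem result {R S : Type u} [CommRing R] [CommRing S] [Algebra R S] [Algebra.FiniteType R S]
    (N : Type u) [AddCommGroup N] [Module S N] [Module R N] [IsScalarTower R S N] [Module.Finite S N] (p : Ideal R) [p.IsPrime]
    (C D G : Type u) [CommRing C] [CommRing D] [Algebra S C] [Algebra R C] [IsScalarTower R S C]
    [Algebra R D] [Algebra D C] [IsScalarTower R D C] [AddCommGroup G] [Module C G] [Module S G] [IsScalarTower S C G]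
    [Module D G] [IsScalarTower D C G] [Module R G] [IsScalarTower R D G]
    (n : ℕ) (h : FlatCA.IsOneStepDevissage R S N p C D G n) [(p.map (algebraMap R D)).IsPrime] :
    (∃ (r : ℕ) (α : (Fin r → D) →ₗ[D] G), 0 < r ∧ Function.Bijective (α.baseChange (p.map (algebraMap R D)).ResidueField)) ∧
    ∀ (r : ℕ) (α : (Fin r → D) →ₗ[D] G), Function.Bijective (α.baseChange (p.map (algebraMap R D)).ResidueField) →
      Module.supportDim (p.Fiber D) (FlatCA.fiberMod p D (G ⧸ LinearMap.range α)) < (n : WithBot ℕ∞) := by
  classical
  obtain ⟨⟨e⟩, hsurj, -, hDC, hCG, hn, hirr, hdim⟩ := h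
  haveI := hDC
  haveI := hCG
  haveI := Groth.L20.RG.smooth_of_relDim hn
  have hdom := Groth.L20.RG.DomFib.of_smooth_geomIrredFibres hirr
  haveI : Module.Finite D G := Module.Finite.trans C G
  haveI : IsScalarTower R C G := IsScalarTower.of_algebraMap_smul fun r g => by
    rw [IsScalarTower.algebraMap_apply R D C, algebraMap_smul, algebraMap_smul]
  haveI : IsScalarTower R S G := IsScalarTower.of_algebraMap_smul fun r g => by
    rw [← algebraMap_smul C (algebraMap R S r) g, ← IsScalarTower.algebraMap_apply, algebraMap_smul]
  haveI : Module.Finite S C := Module.Finite.of_surjective (Algebra.linearMap S C) hsurj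
  haveI : Module.Finite S G := Module.Finite.trans C G
  -- compare the fibre supports over `S` and over `D`
  let eN : FlatCA.fiberMod p S N ≃ₗ[p.Fiber S] FlatCA.fiberMod p S G :=
    letI : Algebra S (p.Fiber S) := Algebra.TensorProduct.rightAlgebra
    TensorProduct.AlgebraTensorModule.congr (LinearEquiv.refl (p.Fiber S) (p.Fiber S)) e
  have hG : Module.supportDim (p.Fiber D) (FlatCA.fiberMod p D G) = n := by
    rw [Groth.L20.RG.supportDim_fiberMod (S := D) (C := C) p G, ← Groth.L20.RG.supportDim_fiberMod (S := S) (C := C) p G,
      ← Module.supportDim_eq_of_equiv eN, hdim]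
  set ξ := p.map (algebraMap R D) with hξ
  refine ⟨?_, fun r α hα => ?_⟩
  · have hsupp : (⟨ξ, inferInstance⟩ : PrimeSpectrum D) ∈ Module.support D G := by
      by_contra hξG
      exact (Groth.L20.RG.supportDim_fiberMod_lt p hn hdom G (Module.notMem_support_iff'.mp hξG)).ne hG
    rw [Module.mem_support_iff_nontrivial_residueField_tensorProduct] at hsupp
    haveI := hsupp
    let κ := ξ.ResidueField
    have hspan : ⊤ ≤ Submodule.span κ (Set.range fun g : G => (1 : κ) ⊗ₜ[D] g) := by
      intro z _
      induction z using TensorProduct.induction_on with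
      | zero => exact zero_mem _
      | add a b ha hb => exact add_mem (ha trivial) (hb trivial)
      | tmul a g =>
        rw [← mul_one a, ← smul_eq_mul, ← TensorProduct.smul_tmul']
        exact Submodule.smul_mem _ _ (Submodule.subset_span ⟨g, rfl⟩)
    let b₀ := Module.Basis.ofSpan hspan
    haveI : Module.Finite κ (κ ⊗[D] G) := inferInstance
    let b : Module.Basis (Fin (Module.finrank κ (κ ⊗[D] G))) κ (κ ⊗[D] G) :=
      b₀.reindex (b₀.indexEquiv (Module.finBasis κ (κ ⊗[D] G)))
    have hmem : ∀ i, ∃ g : G, (1 : κ) ⊗ₜ[D] g = b i := fun i => by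
      have h1 := Module.Basis.ofSpan_subset hspan (Set.mem_range_self ((b₀.indexEquiv (Module.finBasis κ (κ ⊗[D] G))).symm i))
      obtain ⟨g, hg⟩ := h1
      exact ⟨g, by simpa [b, b₀, Module.Basis.coe_ofSpan] using hg⟩
    choose g hg using hmem
    let α : (Fin (Module.finrank κ (κ ⊗[D] G)) → D) →ₗ[D] G := (Pi.basisFun D _).constr D g
    refine ⟨_, α, Module.finrank_pos, ?_⟩
    let c := (Pi.basisFun D (Fin (Module.finrank κ (κ ⊗[D] G)))).baseChange κ
    have hαb : α.baseChange κ = (c.equiv b (Equiv.refl _)).toLinearMap := c.ext fun i => by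
      rw [LinearEquiv.coe_coe, Module.Basis.equiv_apply, Equiv.refl_apply, ← hg i]
      simp [c, α]
    rw [hαb]
    exact (c.equiv b (Equiv.refl _)).bijective
  · haveI : Module.Finite D (G ⧸ LinearMap.range α) := inferInstance
    refine Groth.L20.RG.supportDim_fiberMod_lt p hn hdom _ fun m => ?_
    obtain ⟨m, rfl⟩ := (LinearMap.range α).mkQ_surjective m
    obtain ⟨t, ht, htm⟩ := Groth.L20.RG.exists_smul_mem_range α hα.surjective m
    exact ⟨t, ht, by rw [← map_smul, Submodule.mkQ_apply, Submodule.Quotient.mk_eq_zero]; exact htm⟩


end Groth.Agent.S1285
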