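import Groth.Statements.S12851
import Groth.Agent.L09.Stack.CompSource

set_option autoImplicit false
open CategoryTheory AlgebraicGeometry
universe u
open AlgSt

set_option backward.isDefEq.respectTransparency false
set_option backward.isDefEq.respectTransparency.types false

namespace Groth.Agent.S12851

/-- Let `P` be a property of morphisms of algebraic spaces over `S` which is stable under base change,
fppf local on the base and local on the source in the fppf topology; let `x : 𝒳 ⟶ 𝒴` and `y : 𝒴 ⟶ 𝒵`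
be 1-morphisms of algebraic stacks over `S` representable by algebraic spaces with `x` surjective
and flat and locally of finite presentation. If `y ∘ x` has `P` then `y` has `P`. (Stability under
base change is asked for every pullback square of fppf sheaves whose four corners are algebraic
spaces.) -/
theorem result {S : Scheme.{u}} {𝒳 𝒴 𝒵 : AlgSt.Cat S}
    (h𝒳 : AlgSt.IsAlgStack Scheme.fppfPrecoverage 𝒳) (h𝒴 : AlgSt.IsAlgStack Scheme.fppfPrecoverage 𝒴) (h𝒵 : AlgSt.IsAlgStack Scheme.fppfPrecoverage 𝒵)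
    (P : MorphismProperty (AlgSp.Sp S))
    (hPb : ∀ ⦃X₁ Y₁ X₂ Y₂ : AlgSp.Sp S⦄, AlgSp.IsAlgSpace X₁ → AlgSp.IsAlgSpace Y₁ → AlgSp.IsAlgSpace X₂ →
      AlgSp.IsAlgSpace Y₂ → ∀ (a : X₁ ⟶ Y₁) (b : Y₂ ⟶ Y₁) (a' : X₂ ⟶ Y₂) (b' : X₂ ⟶ X₁),
      IsPullback b' a' a b → P a → P a')
    (hP : AlgSp.IsLocalOnBase AlgSp.IsFppfCover P) (hP' : AlgSp.IsLocalOnSource AlgSp.IsFppfCover P)
    (x : 𝒳 ⥤ᵇ 𝒴) (y : 𝒴 ⥤ᵇ 𝒵) (hy : AlgSt.RepByAlgSp1 y)
    (hx₁ : AlgSt.RepByAlgSpWith (AlgSp.LocP @Flat) x)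
    (hx₂ : AlgSt.RepByAlgSpWith (AlgSp.LocP @LocallyOfFinitePresentation) x)
    (hx₃ : AlgSt.RepByAlgSpWith AlgSp.IsSurjectiveMor x)
    (h : AlgSt.RepByAlgSpWith P (BasedFunctor.comp x y)) : AlgSt.RepByAlgSpWith P y := by
  exact Groth.L09.Stack.repWith_of_comp_left (τ := AlgSp.IsFppfCover) hPb hP'
    (Q := (AlgSp.LocP @Flat ⊓ AlgSp.LocP @LocallyOfFinitePresentation) ⊓ AlgSp.IsSurjectiveMor)
    (fun _ _ a ha => ⟨fun _ => ⟨ha.1.1, ha.1.2⟩, fun p => ⟨⟨⟩, ha.2 p⟩⟩)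
    (fun _ hG z => by
      obtain ⟨V, a, e, hV, he, hi, hfl, hs⟩ :=
        Groth.L09.Stack.exists_space_locP Groth.L23.etLocal_flat h𝒳.isStack.1 h𝒴.isStack.1 hx₁ hx₃ hG z
      obtain ⟨i⟩ := hi
      exact ⟨V, a, e, hV, he, ⟨i⟩, ⟨hfl, Groth.L24.St.prop_of_repWith Groth.L24.St.hasAtlasCovers_atlasCov
        (Groth.L24.St.pBase_locP Groth.L23.etLocal_lfp) (Groth.L24.St.isLocalOnBase_locP Groth.L23.etLocal_lfp)
        hV hG a ((Groth.L24.St.repWith_congr i).1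
          ((Groth.L24.St.repWith_precomp he _).2 (Groth.L24.St.repWith_fpFst z hx₂)))⟩, hs⟩)
    hy h

end Groth.Agent.S12851
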