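import Groth.Statements.S12852
import Groth.Agent.L24.St.SmoothLocal

set_option autoImplicit false
open CategoryTheory AlgebraicGeometry
universe u
open AlgSt

namespace Groth.Agent.S12852

/-- (2) ⇔ (4): suppose `P`, a property of schemes, is local for the smooth topology (for every jointly
surjective family of smooth morphisms `V_i ⟶ U`, `U` has `P` if and only if every `V_i` has `P`) and
`𝒳` an algebraic stack over `S`. Then every scheme admitting a smooth morphism to `𝒳` has `P` if and
only if every algebraic space `U` admitting a smooth `U ⟶ 𝒳` has `P` (that is, some surjective etale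
scheme chart of `U` has `P`). -/
theorem result {S : Scheme.{u}} {𝒳 : AlgSt.Cat S}
    (h𝒳 : AlgSt.IsAlgStack Scheme.fppfPrecoverage 𝒳) (P : Scheme.{u} → Prop)
    (hP : ∀ (U : Scheme.{u}) (R : Presieve U), R ∈ Scheme.precoverage @Smooth U →
      (P U ↔ ∀ ⦃V : Scheme.{u}⦄ (g : V ⟶ U), R g → P V)) :
    AlgSt.SmoothLocally P 𝒳 ↔
      ∀ (U : AlgSp.Space S) (x : AlgSt.ofSp U.obj ⥤ᵇ 𝒳),
        AlgSt.RepByAlgSpWith (AlgSp.LocP @Smooth) x → AlgSp.EtaleLocally P U.obj := by
  constructor
  · intro h U x hx
    obtain ⟨T, a, ha, has⟩ := U.property.atlas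
    exact ⟨T, a, ha, has, h T _ (Groth.L24.St.smooth_spChart_comp ha hx)⟩
  · intro h V y hy
    obtain ⟨T, a, ha, has, hT⟩ := h ⟨(AlgSp.yon S).obj V, AlgSp.IsAlgSpace.yon_obj V⟩
      (BasedFunctor.comp (AlgSt.toOverCat V) y)
      ((Groth.L24.St.repWith_precomp (Groth.L24.St.toOverCat_isEquivOver V) y).2 hy)
    obtain ⟨g, rfl⟩ := (AlgSp.yon S).map_surjective a
    have hg : Etale g.left := (AlgSp.repWith_yon_map_iff @Etale g).1 ha
    have hs : Surjective g.left := (AlgSp.repWith_yon_map_iff @Surjective g).1 has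
    exact Groth.L24.St.SmoothLocalProp.desc hP g.left inferInstance hs.surj hT

end Groth.Agent.S12852
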