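import Groth.Statements.S12853
import Groth.Agent.L24.St.SmoothLocal

set_option autoImplicit false
open CategoryTheory AlgebraicGeometry
universe u
open AlgSt

namespace Groth.Agent.S12853

/-- (2) ⇔ (3): suppose `P`, a property of schemes, is local for the smooth topology (for every jointly
surjective family of smooth morphisms `V_i ⟶ U`, `U` has `P` if and only if every `V_i` has `P`) and
`𝒳` an algebraic stack over `S`. Then every scheme admitting a smooth morphism to `𝒳` has `P` if and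
only if some algebraic space `U` having `P` (some surjective etale scheme chart of `U` has `P`)
admits a surjective smooth `U ⟶ 𝒳`. -/
theorem result {S : Scheme.{u}} {𝒳 : AlgSt.Cat S}
    (h𝒳 : AlgSt.IsAlgStack Scheme.fppfPrecoverage 𝒳) (P : Scheme.{u} → Prop)
    (hP : ∀ (U : Scheme.{u}) (R : Presieve U), R ∈ Scheme.precoverage @Smooth U →
      (P U ↔ ∀ ⦃V : Scheme.{u}⦄ (g : V ⟶ U), R g → P V)) :
    AlgSt.SmoothLocally P 𝒳 ↔
      ∃ (U : AlgSp.Space S) (x : AlgSt.ofSp U.obj ⥤ᵇ 𝒳),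
        AlgSt.RepByAlgSpWith (AlgSp.LocP @Smooth) x ∧ AlgSt.RepByAlgSpWith AlgSp.IsSurjectiveMor x ∧
          AlgSp.EtaleLocally P U.obj := by
  constructor
  · intro h
    obtain ⟨V, y, hy, hys⟩ := h𝒳.atlas
    refine ⟨⟨(AlgSp.yon S).obj V, AlgSp.IsAlgSpace.yon_obj V⟩, BasedFunctor.comp (AlgSt.toOverCat V) y,
      (Groth.L24.St.repWith_precomp (Groth.L24.St.toOverCat_isEquivOver V) y).2 hy,
      (Groth.L24.St.repWith_precomp (Groth.L24.St.toOverCat_isEquivOver V) y).2 hys, ?_⟩
    exact ⟨V, 𝟙 _, AlgSp.repWith_id _ V, AlgSp.repWith_id _ V, h V y hy⟩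
  · rintro ⟨U, x, hx, hxs, T, a, ha, has, hT⟩
    exact Groth.L24.St.smoothLocally_of_chart h𝒳.isStack.1 hP (Groth.L24.St.smooth_spChart_comp ha hx)
      (Groth.L24.St.surjective_spChart_comp has h𝒳.isStack.1 hxs) hT

end Groth.Agent.S12853
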