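import Groth.Statements.S12854
import Groth.Agent.L24.St.SmoothLocal

set_option autoImplicit false
open CategoryTheory AlgebraicGeometry
universe u
open AlgSt

namespace Groth.Agent.S12854

/-- Suppose `P`, a property of schemes, is local for the smooth topology (for every jointly surjective
family of smooth morphisms `V_i ⟶ U`, `U` has `P` if and only if every `V_i` has `P`) and `U` a
scheme over `S`. Then every scheme admitting a smooth morphism to (the algebraic stack of) `U` has
`P` if and only if `U` has `P`. -/
theorem result {S : Scheme.{u}} (U : Over S) (P : Scheme.{u} → Prop)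
    (hP : ∀ (U : Scheme.{u}) (R : Presieve U), R ∈ Scheme.precoverage @Smooth U →
      (P U ↔ ∀ ⦃V : Scheme.{u}⦄ (g : V ⟶ U), R g → P V)) :
    AlgSt.SmoothLocally P (AlgSt.ofSch U) ↔ P U.left := by
  constructor
  · intro h
    exact h U _ (Groth.L24.St.smooth_spChart (AlgSp.IsAlgSpace.yon_obj U) (g := 𝟙 _) (AlgSp.repWith_id _ U))
  · intro h
    exact Groth.L24.St.smoothLocally_of_chart (Groth.L24.St.ofSp_isFibGrpd _) hP
      (Groth.L24.St.smooth_spChart (AlgSp.IsAlgSpace.yon_obj U) (g := 𝟙 _) (AlgSp.repWith_id _ U))
      (Groth.L24.St.surjective_spChart (AlgSp.repWith_id _ U)) h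

end Groth.Agent.S12854
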