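import Groth.Statements.S12856
import Groth.Agent.L24.St.Compact

set_option autoImplicit false
open CategoryTheory AlgebraicGeometry
universe u
open AlgSt

namespace Groth.Agent.S12856

/-- (2) ⇔ (4): an algebraic stack `𝒳` over `S` admits a surjective smooth morphism from an affine scheme
if and only if it admits a surjective smooth morphism from a quasi-compact algebraic space. -/
theorem result {S : Scheme.{u}} {𝒳 : AlgSt.Cat S}
    (h𝒳 : AlgSt.IsAlgStack Scheme.fppfPrecoverage 𝒳) :
    AlgSt.IsQuasiCompact 𝒳 ↔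
      ∃ (U : AlgSp.Space S) (x : AlgSt.ofSp U.obj ⥤ᵇ 𝒳), AlgSp.IsQuasiCompactSp U.obj ∧
        AlgSt.RepByAlgSpWith (AlgSp.LocP @Smooth) x ∧ AlgSt.RepByAlgSpWith AlgSp.IsSurjectiveMor x := by
  constructor
  · rintro ⟨U, x, hU, h1, h2⟩
    exact ⟨⟨(AlgSp.yon S).obj U, AlgSp.IsAlgSpace.yon_obj U⟩, BasedFunctor.comp (AlgSt.toOverCat U) x,
      Groth.L23.isQuasiCompactSp_of_compactSpace,
      (Groth.L24.St.repWith_precomp (Groth.L24.St.toOverCat_isEquivOver U) x).2 h1,
      (Groth.L24.St.repWith_precomp (Groth.L24.St.toOverCat_isEquivOver U) x).2 h2⟩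
  · rintro ⟨U, x, hU, -, h2⟩
    have : CompactSpace (AlgSp.Points U.obj) := Groth.L23.compactSpace_of_qcSp hU
    exact Groth.L24.St.isQuasiCompact_of_surjective h𝒳
      ((Groth.L24.St.continuous_map h𝒳 x).comp (Groth.L24.St.ptMap_isHomeomorph U).continuous)
      ((Groth.L24.St.isSurjective_of_repWith (Groth.L24.St.ofSp_isFibGrpd U.obj) h𝒳.isStack.1 h2).comp
        (Groth.L24.St.ptMap_bijective U.obj).surjective)

end Groth.Agent.S12856
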