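import Groth.Statements.S12857
import Groth.Agent.L24.St.Compact

set_option autoImplicit false
open CategoryTheory AlgebraicGeometry
universe u
open AlgSt

namespace Groth.Agent.S12857

/-- (2) ⇔ (3): an algebraic stack `𝒳` over `S` admits a surjective smooth morphism from an affine scheme
if and only if it admits one from a quasi-compact scheme. -/
theorem result {S : Scheme.{u}} {𝒳 : AlgSt.Cat S}
    (h𝒳 : AlgSt.IsAlgStack Scheme.fppfPrecoverage 𝒳) :
    AlgSt.IsQuasiCompact 𝒳 ↔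
      ∃ (U : Over S) (x : FibCat.overCat U ⥤ᵇ 𝒳), CompactSpace ↥U.left ∧
        AlgSt.RepByAlgSpWith (AlgSp.LocP @Smooth) x ∧ AlgSt.RepByAlgSpWith AlgSp.IsSurjectiveMor x := by
  refine ⟨fun ⟨U, x, hU, h1, h2⟩ => ⟨U, x, inferInstance, h1, h2⟩, fun ⟨U, x, hU, _, h2⟩ => ?_⟩
  exact Groth.L24.St.isQuasiCompact_of_surjective h𝒳 (Groth.L24.St.continuous_ofChart h𝒳 x)
    (Groth.L24.St.surjective_ofChart_of_repWith h𝒳.isStack.1 h2)

end Groth.Agent.S12857
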