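import Groth.Statements.S12860
import Groth.Agent.L24.Sub.OpenSub2
import Groth.Agent.L24.St.OfComp
-- import your own Groth.Agent.* helpers here

set_option autoImplicit false
open CategoryTheory AlgebraicGeometry
universe u
open AlgSt

set_option backward.isDefEq.respectTransparency false
set_option backward.isDefEq.respectTransparency.types false

namespace Groth.Agent.S12860
open Groth.L24.St CategoryTheory.Limits

/-- Let `𝒳` be an algebraic stack over `S`, `U` an algebraic space with a surjective smooth `u : U ⟶ 𝒳`,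
and `j : V ⟶ U` an open immersion of algebraic spaces. Then there are an algebraic stack `𝒴`, an
open immersion `i : 𝒴 ⟶ 𝒳` and a surjective smooth `g : V ⟶ 𝒴` such that `i ∘ g` is 2-isomorphic to
`u ∘ j` (the compatibility is part of the published proof, which constructs `𝒴` as the image of
`V`). -/
theorem result {S : Scheme.{u}} {𝒳 : AlgSt.Cat S}
    (h𝒳 : AlgSt.IsAlgStack Scheme.fppfPrecoverage 𝒳) (U : AlgSp.Space S) (u : AlgSt.ofSp U.obj ⥤ᵇ 𝒳)
    (hu₁ : AlgSt.RepByAlgSpWith (AlgSp.LocP @Smooth) u) (hu₂ : AlgSt.RepByAlgSpWith AlgSp.IsSurjectiveMor u)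
    (V : AlgSp.Space S) (j : V ⟶ U) (hj : AlgSp.RepWith @IsOpenImmersion j.hom) :
    ∃ (𝒴 : AlgSt.Cat S) (i : 𝒴 ⥤ᵇ 𝒳) (g : AlgSt.ofSp V.obj ⥤ᵇ 𝒴),
      AlgSt.IsAlgStack Scheme.fppfPrecoverage 𝒴 ∧ AlgSt.IsOpenImm i ∧
        AlgSt.RepByAlgSpWith (AlgSp.LocP @Smooth) g ∧ AlgSt.RepByAlgSpWith AlgSp.IsSurjectiveMor g ∧
          Nonempty (BasedFunctor.comp g i ≅ BasedFunctor.comp (AlgSt.ofSpMap j.hom) u) := by
  have hVa := isAlgStack_of_repByAlgSp (𝒳 := AlgSt.ofSp V.obj) ⟨V, _, isEquivOver_id _⟩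
  have hUa := isAlgStack_of_repByAlgSp (𝒳 := AlgSt.ofSp U.obj) ⟨U, _, isEquivOver_id _⟩
  let c := BasedFunctor.comp (AlgSt.ofSpMap j.hom) u
  have hjs : AlgSt.RepByAlgSpWith (AlgSp.LocP @Smooth) (AlgSt.ofSpMap j.hom) :=
    repWith_ofSpMap_of_prop (pBase_locP Groth.L23.etLocal_smooth) V.property U.property _
      (Groth.L23.locP_of_repWith Groth.L23.etLocal_smooth (Groth.L23.repWith_mono
        (Q := (@Smooth : MorphismProperty Scheme.{u}))
        (fun φ (hφ : IsOpenImmersion φ) => have := hφ; inferInstanceAs (Smooth φ)) hj))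
  have hc : AlgSt.RepByAlgSpWith (AlgSp.LocP @Smooth) c :=
    repWith_comp_locP Groth.L23.etLocal_smooth hVa.isStack.1 hUa.isStack.1 hjs hu₁
  let T := Set.range (AlgSt.Points.map c)
  have hT : IsOpen T := by
    refine (Groth.L24.LocQ.isOpenMor_of_flat_lfp hVa h𝒳
      (Groth.L24.LocQ.locQ_of_repWith_locP Groth.L23.etLocal_flat hVa h𝒳 (repWith_mono (fun _ _ _ _ h =>
        Groth.L23.locP_mono (fun φ (hφ : Smooth φ) => have := hφ; (inferInstance : Flat φ)) h) hc))
      (Groth.L24.LocQ.locQ_of_repWith_locP Groth.L23.etLocal_lfp hVa h𝒳 (repWith_mono (fun _ _ _ _ h =>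
        Groth.L23.locP_mono (fun φ (hφ : Smooth φ) => have := hφ;
          (inferInstance : LocallyOfFinitePresentation φ)) h) hc))).isOpen_range
  have hO := Groth.L24.Sub.isOpenSubstack_within h𝒳 hT
  have hmem : ∀ a, Groth.L24.Sub.Within T (c.obj a) :=
    (Groth.L24.Sub.forall_within_iff hVa.isStack.1 h𝒳.isStack.1 T c).2 subset_rfl
  let i := AlgSt.subIncl 𝒳 (Groth.L24.Sub.Within T)
  let g : AlgSt.ofSp V.obj ⥤ᵇ AlgSt.fullSub 𝒳 (Groth.L24.Sub.Within T) :=
    { toFunctor := ObjectProperty.lift _ c.toFunctor hmem, w := c.w }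
  have hg : AlgSt.RepByAlgSpWith (AlgSp.LocP @Smooth) g :=
    repWith_of_comp_of (Q := MorphismProperty.monomorphisms (AlgSp.Sp S)) (pBase_locP Groth.L23.etLocal_smooth)
      (fun X Y Z hX hY hZ a b (hb : Mono b) hab => pBase_locP Groth.L23.etLocal_smooth hX hZ hX hY
        (a ≫ b) b a (𝟙 X) (by simpa using (IsPullback.id_horiz a).paste_vert (IsKernelPair.id_of_mono b)) hab)
      (repWith_mono (fun _ _ _ a h => Groth.L23.mono_of_repWith_openImmersion h) hO.2.2) hc
  refine ⟨_, i, g, hO.2.1, hO.2.2, hg, ?_, ⟨Iso.refl _⟩⟩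
  refine repWith_surjective_of_isSurjective hVa.isStack.1 hO.2.1.isStack.1 (repWith_rep1 hg) fun p => ?_
  haveI : i.toFunctor.Full := inferInstanceAs (ObjectProperty.ι _).Full
  haveI : i.toFunctor.Faithful := inferInstanceAs (ObjectProperty.ι _).Faithful
  obtain ⟨v, hv⟩ : AlgSt.Points.map i p ∈ T :=
    (Groth.L24.Sub.range_within h𝒳.isStack.1 T).subset ⟨p, rfl⟩
  refine ⟨v, injective_map_of_fullFaithful hO.2.1.isStack.1 h𝒳.isStack.1 i ?_⟩
  rw [← hv, ← map_comp_apply]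
  rfl

end Groth.Agent.S12860
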