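import Groth.Statements.S12864
import Groth.Agent.L24.Sub.SchemeCover
-- import your own Groth.Agent.* helpers here

set_option autoImplicit false
open CategoryTheory AlgebraicGeometry
universe u w
open AlgSt

namespace Groth.Agent.S12864

/-- Let `𝒳` be an algebraic stack over `S` and `𝒳_i ⊂ 𝒳` a family of open substacks with `𝒳 = ⋃ 𝒳_i`
(their points exhaust `|𝒳|`). If every `𝒳_i` is a scheme (equivalent over `(Sch/S)` to some
`(Sch/U)`), then `𝒳` is a scheme. -/
theorem result {S : Scheme.{u}} {𝒳 : AlgSt.Cat S}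
    (h𝒳 : AlgSt.IsAlgStack Scheme.fppfPrecoverage 𝒳) {ι : Type w} (Q : ι → 𝒳.obj → Prop)
    (hQ : ∀ i, AlgSt.IsOpenSubstack 𝒳 (Q i) Scheme.fppfPrecoverage)
    (hcov : ⋃ i, Set.range (AlgSt.Points.map (AlgSt.subIncl 𝒳 (Q i))) = Set.univ)
    (hsch : ∀ i, FibCat.IsRepresentable (AlgSt.fullSub 𝒳 (Q i))) : FibCat.IsRepresentable 𝒳 := by
  exact Groth.L24.Sub.isRepresentable_of_cover h𝒳 Q hQ hcov hsch

end Groth.Agent.S12864
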