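import Groth.Statements.S12873
import Groth.Agent.L24.St.FlatCover
import Groth.Agent.L24.St.Desc
import Groth.Agent.L23.FppfImmersion
import Groth.Agent.L23.FpqcDiag
import Groth.Agent.S12842
-- import your own Groth.Agent.* helpers here

set_option autoImplicit false
open CategoryTheory AlgebraicGeometry
universe u
open AlgSt

set_option backward.isDefEq.respectTransparency.types false

namespace Groth.Agent.S12873

/-- Let `f : 𝒳 ⟶ 𝒴` be a 1-morphism of algebraic stacks over `S`, `W` an algebraic space and `w : W ⟶ 𝒴`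
surjective, flat and locally of finite presentation. Then `f` is an immersion if and only if `V = W
×_𝒴 𝒳` is an algebraic space and the projection `V ⟶ W` is an immersion of algebraic spaces; the
projection is named by `V`, a morphism `a : V ⟶ W` and an equivalence over `(Sch/S)` from the
category of `V` to the 2-fibre product whose composite with the first projection is 2-isomorphic to
the functor of `a`. -/
theorem result {S : Scheme.{u}} {𝒳 𝒴 : AlgSt.Cat S}
    (h𝒳 : AlgSt.IsAlgStack Scheme.fppfPrecoverage 𝒳) (h𝒴 : AlgSt.IsAlgStack Scheme.fppfPrecoverage 𝒴)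
    (f : 𝒳 ⥤ᵇ 𝒴) (W : AlgSp.Space S) (w : AlgSt.ofSp W.obj ⥤ᵇ 𝒴)
    (hw₁ : AlgSt.RepByAlgSpWith (AlgSp.LocP @Flat) w)
    (hw₂ : AlgSt.RepByAlgSpWith (AlgSp.LocP @LocallyOfFinitePresentation) w)
    (hw₃ : AlgSt.RepByAlgSpWith AlgSp.IsSurjectiveMor w) :
    AlgSt.IsImm f ↔
      ∃ (V : AlgSp.Space S) (a : V ⟶ W) (e : AlgSt.ofSp V.obj ⥤ᵇ FibCat.fp w f),
        FibCat.IsEquivOver e ∧
          Nonempty (BasedFunctor.comp e (FibCat.fpFst w f) ≅ AlgSt.ofSpMap a.hom) ∧
            AlgSp.RepWith @IsImmersion a.hom := by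
  have hB := Groth.L24.St.pBase_repWith (S := S) @IsImmersion
  have hL : AlgSp.IsLocalOnBase (S := S) AlgSp.IsFppfCover (AlgSp.RepWith @IsImmersion) :=
    Groth.L23.isLocalOnBase_fppf_immersion
  have hW : AlgSt.IsAlgStack Scheme.fppfPrecoverage (AlgSt.ofSp W.obj) :=
    Groth.L24.St.isAlgStack_of_repByAlgSp ⟨W, BasedFunctor.id _, Groth.L24.St.isEquivOver_id _⟩
  constructor
  · intro hf
    obtain ⟨V, a, e, hV, he, hi, ha⟩ := Groth.L24.St.exists_space_prop Groth.L24.St.hasAtlasCovers_fppf hB hL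
      h𝒳.isStack.1 h𝒴.isStack.1 hf W.property w
    exact ⟨⟨V, hV⟩, ⟨a⟩, e, he, hi, ha⟩
  · rintro ⟨V, a, e, he, ⟨i⟩, ha⟩
    exact Groth.L24.St.repWith_of_fpFst_cover Groth.L24.St.hasAtlasCovers_fppf hB hL (fun _ _ _ h => h)
      h𝒳.isStack.1 h𝒴.isStack.1 hW.isStack.1
      (Groth.Agent.S12842.result h𝒳 h𝒴 f W w hw₁ hw₂ hw₃ ⟨V, e, he⟩) hw₁ hw₂ hw₃
      (Groth.L24.St.repWith_fpFst_of_space hB he i ha)

end Groth.Agent.S12873
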