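import Groth.Statements.S12884
import Groth.Agent.L04.ExtZ.Vanish
import Groth.Agent.L04.ExtZ.Regular

set_option backward.isDefEq.respectTransparency false

set_option autoImplicit false
universe u
open CategoryTheory CategoryTheory.Limits TopologicalSpace AlgebraicGeometry
open Coherent

namespace Groth.Agent.S12884

/-- Let X be a locally Noetherian scheme whose local rings are all regular, Y a closed subset with open
complement U, F a coherent O_X-module, P the set of points of Y lying in the closure of (Supp F) ∩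
U, and n a natural number which is not the dimension of O_{X,x} for any x in P. Then ℰxt^n_Y(F, O_X)
is coherent. (Internal Hom of F and injective resolutions of O_X-modules are the stated instance
hypotheses, both true.) -/
theorem result (X : Scheme.{u}) [IsLocallyNoetherian X]
    (hreg : ∀ x : X, IsRegularLocalRing (X.presheaf.stalk x)) (U : X.Opens)
    (F : X.Modules) (hF : Coh.IsCoh F) (n : ℕ)
    (hn : ∀ x ∈ closure (CohB1.support F ∩ (U : Set X)), x ∉ (U : Set X) →
      ringKrullDim (X.presheaf.stalk x) ≠ (n : WithBot ℕ∞))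
    [ModSite.HasSheafHom (O := X.sheaf) F] [HasInjectiveResolutions (ModSite.Mod X.sheaf)] :
    Coh.IsCoh ((ModSite.extZSh (O := X.sheaf) U F n).obj (Coh.structureModule X)) := by
  have hO : Coh.IsCoh (Coh.structureModule X) := Groth.L16.Rees.RelVanish.isCoh_structureModule X
  refine Groth.L04.ExtZ.isCoh_extZSh_of_reduction U F _ hF hO n fun F' _ hF' hsupp => ?_
  let W : X.Opens := ⟨(closure (CohB1.support F ∩ (U : Set X)))ᶜ, isClosed_closure.isOpen_compl⟩
  obtain ⟨e⟩ := Groth.L04.ExtZ.nonempty_extZSh_sup U F' W (fun x hx => hsupp x hx) n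
  refine IsZero.of_iso ?_ (e.app (Coh.structureModule X))
  let P : Set X := ((U ⊔ W : X.Opens) : Set X)ᶜ
  have hP : IsClosed P := (U ⊔ W).isOpen.isClosed_compl
  have hne : ∀ x ∈ P, ringKrullDim (X.presheaf.stalk x) ≠ (n : WithBot ℕ∞) := fun x hx =>
    hn x (by_contra fun h => hx (Or.inr h)) fun h => hx (Or.inl h)
  let d : X → WithBot ℕ∞ := fun x => ringKrullDim (X.presheaf.stalk x)
  let P₁ : Set X := {x | x ∈ P ∧ d x < n}
  let P₂ : Set X := {x | x ∈ P ∧ (n : WithBot ℕ∞) < d x}
  have hchain : ∀ g y : X, g ⤳ y → g ∈ P → d g < n → (n : WithBot ℕ∞) < d y → False :=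
    fun g y hgy hg h₁ h₂ => by
      obtain ⟨z, hz, hzn⟩ := Groth.L04.ExtZ.exists_dim_eq hreg hgy n h₁.le h₂.le
      exact hne z (hz.mem_closed hP hg) hzn
  have hcl₁ : IsClosed P₁ := Groth.L04.ExtZ.isClosed_of_stable P P₁ hP (fun x hx => hx.1) fun g y hgy hg =>
    ⟨fun h => ⟨hgy.mem_closed hP hg, lt_of_le_of_ne (not_lt.1 fun h' => hchain g y hgy hg h.2 h')
        (hne y (hgy.mem_closed hP hg))⟩,
      fun h => ⟨hg, (Groth.L04.ExtZ.dim_stalk_le_of_specializes hgy).trans_lt h.2⟩⟩
  have hcl₂ : IsClosed P₂ := Groth.L04.ExtZ.isClosed_of_stable P P₂ hP (fun x hx => hx.1) fun g y hgy hg =>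
    ⟨fun h => ⟨hgy.mem_closed hP hg, h.2.trans_le (Groth.L04.ExtZ.dim_stalk_le_of_specializes hgy)⟩,
      fun h => ⟨hg, lt_of_le_of_ne (not_lt.1 fun h' => hchain g y hgy hg h' h.2) (hne g hg).symm⟩⟩
  let U₁ : X.Opens := ⟨P₁ᶜ, hcl₁.isOpen_compl⟩
  let U₂ : X.Opens := ⟨P₂ᶜ, hcl₂.isOpen_compl⟩
  have htop : U₁ ⊔ U₂ = ⊤ := by
    refine top_unique fun x _ => ?_
    by_cases h : x ∈ P₁
    · exact Or.inr fun h' => lt_irrefl _ (h.2.trans h'.2)
    · exact Or.inl h
  have hinf : U₁ ⊓ U₂ = U ⊔ W := by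
    refine Opens.ext (Set.ext fun x => ⟨fun h => by_contra fun hx => ?_, fun h => ⟨fun h' => h'.1 h, fun h' => h'.1 h⟩⟩)
    rcases lt_or_gt_of_ne (hne x hx) with h' | h'
    · exact h.1 ⟨hx, h'⟩
    · exact h.2 ⟨hx, h'⟩
  rw [← hinf]
  refine Groth.L04.ExtZ.isZero_rightDerived_split (ModSite.sheafHom (O := X.sheaf) F') U₁ U₂ htop n _ ?_ ?_
  · exact Groth.L04.ExtZ.isZero_extZSh_of_dim U₁ F' hreg hF' _ hO n fun x hx => (not_not.1 hx).2
  · refine Groth.L04.ExtZ.isZero_extZSh_of_depth U₂ F' _ hO (n + 1) (fun x hx => ?_) n (Nat.lt_succ_self n)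
    refine Groth.L04.ExtZ.le_depth_structureModule hreg x (n + 1) ?_
    have h := (not_not.1 hx).2
    change (n : WithBot ℕ∞) < ringKrullDim (X.presheaf.stalk x) at h
    revert h
    generalize ringKrullDim (X.presheaf.stalk x) = D
    intro h
    induction D with
    | bot => exact absurd h not_lt_bot
    | coe D => exact WithBot.coe_le_coe.2 (by exact_mod_cast Order.add_one_le_of_lt (WithBot.coe_lt_coe.1 h))

end Groth.Agent.S12884
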