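import Groth.Statements.S1289
import Groth.Agent.L20.BlowFlat.EtaleGlue

set_option autoImplicit false
universe u
open FlatMor

set_option backward.isDefEq.respectTransparency.types false
namespace Groth.Agent.S1289

open AlgebraicGeometry CategoryTheory Limits in
/-- Let S be quasi-compact and quasi-separated, f : X → S a morphism, F a quasi-coherent O_X-module and
U ⊆ S a quasi-compact open. Suppose given finitely many commutative diagrams: quasi-compact étale
e_i : S_i → S jointly covering S, étale j_i : X_i → X jointly covering X, morphisms f_i : X_i → S_i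
with j_i ∘ f = f_i ∘ e_i (as maps to S), and blow-ups b_i : S_i* → S_i in finite type ideals
supported away from e_i⁻¹(U) such that every strict transform of j_i^*F on X_i ×_{S_i} S_i* is flat
over S_i*. Then there is a U-admissible blow-up b : S' → S such that every strict transform of F on
X ×_S S' is flat over S'. -/
theorem result {X S : Scheme.{u}} [CompactSpace S] [QuasiSeparatedSpace S]
    (f : X ⟶ S) (F : X.Modules) (hqc : Coh.IsQCoh F) (U : S.Opens) (hU : IsCompact (U : Set S))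
    {k : ℕ} (Si Xi : Fin k → Scheme.{u}) (e : ∀ i, Si i ⟶ S) (j : ∀ i, Xi i ⟶ X) (fi : ∀ i, Xi i ⟶ Si i)
    [∀ i, Etale (e i)] [∀ i, QuasiCompact (e i)] [∀ i, Etale (j i)]
    (hcovS : ∀ s : S, ∃ i x, (e i).base x = s) (hcovX : ∀ x : X, ∃ i y, (j i).base y = x)
    (hcomm : ∀ i, j i ≫ f = fi i ≫ e i)
    (𝓘 : ∀ i, (Si i).IdealSheafData) (Sst : Fin k → Scheme.{u}) (b : ∀ i, Sst i ⟶ Si i)
    (hb : ∀ i, BlowUp.IsBlowUp (b i) (𝓘 i) ∧ BlowUp.IsAdmissibleFor ((e i) ⁻¹ᵁ U) (𝓘 i))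
    (hflat : ∀ i (X' : Scheme.{u}) (p₁ : X' ⟶ Xi i) (p₂ : X' ⟶ Sst i), IsPullback p₁ p₂ (fi i) (b i) →
      ∀ (G : X'.Modules) (π : (Scheme.Modules.pullback p₁).obj ((Scheme.Modules.pullback (j i)).obj F) ⟶ G),
        BlowUp.IsStrictTransform p₁ ((𝓘 i).comap (fi i)) ((Scheme.Modules.pullback (j i)).obj F) G π → FlatMod.IsFlatOver p₂ G) :
    ∃ (𝓙 : S.IdealSheafData) (S' : Scheme.{u}) (b' : S' ⟶ S), BlowUp.IsBlowUp b' 𝓙 ∧ BlowUp.IsAdmissibleFor U 𝓙 ∧
      ∀ (X' : Scheme.{u}) (p₁ : X' ⟶ X) (p₂ : X' ⟶ S'), IsPullback p₁ p₂ f b' →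
      ∀ (G : X'.Modules) (π : (Scheme.Modules.pullback p₁).obj F ⟶ G),
        BlowUp.IsStrictTransform p₁ (𝓙.comap f) F G π → FlatMod.IsFlatOver p₂ G := by
  exact Groth.L20.BlowFlat.exists_flattening_of_etale_local f F hqc U hU Si Xi e j fi hcovX hcomm 𝓘 Sst b hb hflat


end Groth.Agent.S1289
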