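import Groth.Statements.S12890
import Groth.Agent.L15.ExtZero.CounitMono
import Groth.Agent.L04.SupportSh.FunctorLES
import Groth.Agent.L04.SupportSh.Restrict

set_option autoImplicit false
set_option backward.isDefEq.respectTransparency false
universe u
open CategoryTheory CategoryTheory.Limits
open ModSite

namespace Groth.Agent.S12890

theorem isZero_rightDerived_id_succ {A : Type*} [Category A] [Abelian A] [HasInjectiveResolutions A]
    (n : ℕ) (F : A) : IsZero (((𝟭 A).rightDerived (n + 1)).obj F) := by
  refine IsZero.of_iso ?_ ((injectiveResolution F).isoRightDerivedObj (𝟭 A) (n + 1))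
  refine ShortComplex.exact_iff_isZero_homology _ |>.1 ?_
  exact ((HomologicalComplex.exactAt_iff _ _).1 ((injectiveResolution F).cocomplex_exactAt_succ n))

theorem result {C : Type u} [SmallCategory C] {J : GrothendieckTopology C}
    (O : Sheaf J CommRingCat.{u}) (U : C)
    (hU : ∀ V : C, Subsingleton (V ⟶ U)) [ModSite.HasPushOver O U] [(ModSite.pushOver O U).Additive]
    [HasInjectiveResolutions (ModSite.Mod O)] [HasInjectiveResolutions (ModSite.Mod (O.over U))] :
    Nonempty (ModSite.HZsh O U 1 ≅ cokernel (ModSite.restrPushOverAdj O U).unit) ∧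
      ∀ q : ℕ, 1 ≤ q →
        Nonempty (ModSite.HZsh O U (q + 1) ≅ ModSite.restr O U ⋙ (ModSite.pushOver O U).rightDerived q) := by
  haveI : (ModSite.restr O U).Additive := (ModSite.extZeroAdj O U).right_adjoint_additive
  haveI : (ModSite.restr O U ⋙ ModSite.pushOver O U).Additive := inferInstance
  haveI : PreservesFiniteLimits (ModSite.pushOver O U) :=
    haveI := (ModSite.restrPushOverAdj O U).rightAdjoint_preservesLimits
    inferInstance
  haveI : PreservesFiniteLimits (ModSite.restr O U ⋙ ModSite.pushOver O U) := comp_preservesFiniteLimits _ _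
  have w : ∀ M, (ModSite.sectOnι O U).app M ≫ (ModSite.restrPushOverAdj O U).unit.app M = 0 :=
    fun M => kernel.condition _
  have hex : ∀ I : ModSite.Mod O, Injective I →
      (ShortComplex.mk ((ModSite.sectOnι O U).app I) ((ModSite.restrPushOverAdj O U).unit.app I) (w I)).ShortExact :=
    fun I hI => ShortComplex.ShortExact.mk' (ShortComplex.exact_of_f_is_kernel _ (kernelIsKernel _))
      (inferInstanceAs (Mono (kernel.ι ((ModSite.restrPushOverAdj O U).unit.app I))))
      (Groth.L15.ExtZero.epi_unit_of_injective hU I)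
  refine ⟨Groth.L04.FunctorLES.nonempty_iso_cokernel (ModSite.sectOnι O U)
    (ModSite.restrPushOverAdj O U).unit w hex (isZero_rightDerived_id_succ 0), fun q hq => ?_⟩
  obtain ⟨i, rfl⟩ : ∃ k, q = k + 1 := ⟨q - 1, by omega⟩
  obtain ⟨e⟩ := Groth.L04.FunctorLES.nonempty_iso_succ (ModSite.sectOnι O U)
    (ModSite.restrPushOverAdj O U).unit w hex (i + 1) (isZero_rightDerived_id_succ i)
    (isZero_rightDerived_id_succ (i + 1))
  obtain ⟨e'⟩ := Groth.L04.FunctorLES.nonempty_precomp_iso (ModSite.restr O U) (ModSite.pushOver O U) (i + 1)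
  exact ⟨e.symm ≪≫ e'⟩

end Groth.Agent.S12890
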