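import Groth.Statements.S12893
import Groth.Agent.L15.ExtSupp.HomZ
import Mathlib.Algebra.Category.ModuleCat.Presheaf.Monoidal

set_option autoImplicit false
universe u
open CategoryTheory CategoryTheory.Limits MonoidalCategory
open ModSite

namespace Groth.Agent.S12893

section aux

open Groth.L15.ExtSupp Groth.L00.ModSiteTensor

set_option maxHeartbeats 1000000

variable {C : Type u} [SmallCategory C] {J : GrothendieckTopology C} {O : Sheaf J CommRingCat.{u}} (U : C)

/-- Tensoring on the right. -/
noncomputable abbrev T (M : ModSite.Mod O) : ModSite.Mod O ⥤ ModSite.Mod O :=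
  (ModSite.tensorBi O).flip.obj M

variable [ModSite.HasPushOver O U]

/-- `Γ_Z ∘ Hom(M, -)` is right adjoint to `G ↦ (G ⊗ M)/(G ⊗ M)_U`. -/
noncomputable def sectHomAdj (M : ModSite.Mod O) [ModSite.HasSheafHom M] :
    T M ⋙ ModSite.quotOn O U ⊣ ModSite.sheafHom M ⋙ ModSite.sectOn O U :=
  Adjunction.mkOfHomEquiv
    { homEquiv := fun G N => (sectHomEquiv U M G N).symm.toEquiv
      homEquiv_naturality_left_symm := fun f g => sectHomEquiv_natural_left U M f g
      homEquiv_naturality_right := fun {X Y Y'} f g => by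
        apply (sectHomEquiv U M X Y').injective
        refine ((sectHomEquiv U M X Y').apply_symm_apply _).trans ?_
        refine Eq.trans ?_ (sectHomEquiv_natural_right U M g _).symm
        exact (congrArg (· ≫ g) ((sectHomEquiv U M X Y).apply_symm_apply f)).symm }

theorem exists_quotTensor (M G : ModSite.Mod O) :
    ∃ e : (ModSite.quotOn O U).obj ((T G).obj M) ≅ (T G).obj ((ModSite.quotOn O U).obj M),
      (ModSite.quotOnπ O U).app ((T G).obj M) ≫ e.hom = (T G).map ((ModSite.quotOnπ O U).app M) := by
  haveI : ModSite.HasSheafHom G := hasSheafHom G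
  let adj := ModSite.sheafHomAdj (O := O) G
  let πM : M ⟶ (ModSite.quotOn O U).obj M := (ModSite.quotOnπ O U).app M
  let πT : ((ModSite.tensorBi O).flip.obj G).obj M ⟶ (ModSite.quotOn O U).obj (((ModSite.tensorBi O).flip.obj G).obj M) := (ModSite.quotOnπ O U).app ((T G).obj M)
  haveI : Epi πM := inferInstanceAs (Epi (cokernel.π _))
  haveI : Epi πT := inferInstanceAs (Epi (cokernel.π _))
  have hπ : ∀ X : ModSite.Mod O, (ModSite.restr O U).map ((ModSite.quotOnπ O U).app X) = 0 := fun X => by
    have := restr_π_comp U (𝟙 ((ModSite.quotOn O U).obj X))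
    rwa [Category.comp_id] at this
  let φ₀ := adj.homEquiv M _ πT
  have h0 : (ModSite.restr O U).map φ₀ = 0 :=
    (restr_adjunct_eq_zero_iff U G φ₀).2
      ((congrArg (ModSite.restr O U).map ((adj.homEquiv M _).symm_apply_apply πT)).trans (hπ _))
  let χ : (ModSite.quotOn O U).obj M ⟶ _ := cokernel.desc _ φ₀ ((counit_comp_eq_zero_iff U _).2 h0)
  have hχ : πM ≫ χ = φ₀ := cokernel.π_desc _ _ _
  have hM : (ModSite.restr O U).map ((T G).map πM) = 0 := by
    have h1 : (ModSite.restr O U).map (πM ≫ adj.unit.app ((ModSite.quotOn O U).obj M)) = 0 := by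
      rw [Functor.map_comp, hπ, zero_comp]
    have h2 := (restr_adjunct_eq_zero_iff U G _).1 h1
    rwa [adj.homEquiv_naturality_left_symm, ← adj.homEquiv_id,
      Equiv.symm_apply_apply, Category.comp_id] at h2
  let θ : (ModSite.quotOn O U).obj ((T G).obj M) ⟶ (T G).obj ((ModSite.quotOn O U).obj M) :=
    cokernel.desc _ ((T G).map πM) ((counit_comp_eq_zero_iff U _).2 hM)
  have hθ : πT ≫ θ = (T G).map πM := cokernel.π_desc _ _ _
  refine ⟨⟨θ, (adj.homEquiv _ _).symm χ, ?_, ?_⟩, hθ⟩
  · rw [← cancel_epi πT, ← Category.assoc, hθ, ← adj.homEquiv_naturality_left_symm, hχ,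
      Category.comp_id]
    exact (adj.homEquiv M _).symm_apply_apply πT
  · apply (adj.homEquiv _ _).injective
    rw [← cancel_epi πM, adj.homEquiv_naturality_right, Equiv.apply_symm_apply, ← Category.assoc, hχ]
    refine (adj.homEquiv_naturality_right πT θ).symm.trans ?_
    refine (congrArg (adj.homEquiv M _) hθ).trans ?_
    rw [← adj.homEquiv_naturality_left, Category.comp_id]

/-- The braiding of the tensor product of sheaves of modules. -/
noncomputable def flipIso (M : ModSite.Mod O) : T M ≅ (ModSite.tensorBi O).obj M :=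
  NatIso.ofComponents
    (fun G => (shf O).mapIso (β_ ((preF O).obj G) ((preF O).obj M)))
    (fun {G G'} f => by
      refine ((shf O).map_comp _ _).symm.trans (Eq.trans ?_ ((shf O).map_comp _ _))
      exact congrArg (shf O).map (BraidedCategory.braiding_naturality_left ((preF O).map f) ((preF O).obj M)))

/-- `(G ⊗ M)/(G ⊗ M)_U ≅ G ⊗ (M/M_U)`. -/
noncomputable def quotTensorIso (M : ModSite.Mod O) :
    (ModSite.tensorBi O).obj M ⋙ ModSite.quotOn O U ≅
      (ModSite.tensorBi O).obj ((ModSite.quotOn O U).obj M) :=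
  NatIso.ofComponents (fun G => (exists_quotTensor U M G).choose) (fun {G G'} f => by
    let πT := (ModSite.quotOnπ O U).app (((ModSite.tensorBi O).obj M).obj G)
    haveI : Epi πT := inferInstanceAs (Epi (cokernel.π _))
    rw [← cancel_epi πT]
    have h := (exists_quotTensor U M G).choose_spec
    have h' := (exists_quotTensor U M G').choose_spec
    have hn : ((ModSite.tensorBi O).obj M).map f ≫ (ModSite.quotOnπ O U).app _ =
        (ModSite.quotOnπ O U).app _ ≫ (ModSite.quotOn O U).map (((ModSite.tensorBi O).obj M).map f) :=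
      (ModSite.quotOnπ O U).naturality (((ModSite.tensorBi O).obj M).map f)
    refine (Category.assoc _ _ _).symm.trans ?_
    refine (congrArg (· ≫ _) hn.symm).trans ((Category.assoc _ _ _).trans ?_)
    refine (congrArg (((ModSite.tensorBi O).obj M).map f ≫ ·) h').trans ?_
    refine Eq.trans ?_ ((congrArg (· ≫ ((ModSite.tensorBi O).obj ((ModSite.quotOn O U).obj M)).map f) h).symm.trans
      (Category.assoc _ _ _))
    exact (((ModSite.tensorBi O).map ((ModSite.quotOnπ O U).app M)).naturality f))

end aux

/-- On a small ringed site (C, J, O) with O commutative, let U be an object with Z the closed complement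
of the open it generates, M an O-module, Γ_Z the sections-with-support functor (kernel of N →
j_{U*}(N|_U)) and M_Z the cokernel of j_{U!}(M|_U) → M. Then the functors N ↦ Γ_Z(ℋom_O(M, N)), N ↦
ℋom_O(M, Γ_Z(N)) and N ↦ ℋom_O(M_Z, N) are isomorphic. (Existence of isomorphisms of functors only.
The direct image along the localisation at U and the internal Hom functors of M and of M_Z are the
stated instance hypotheses, all true.) -/
theorem result {C : Type u} [SmallCategory C] {J : GrothendieckTopology C}
    (O : Sheaf J CommRingCat.{u}) (U : C) (M : ModSite.Mod O)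
    [ModSite.HasPushOver O U] [ModSite.HasSheafHom M] [ModSite.HasSheafHom ((ModSite.quotOn O U).obj M)] :
    Nonempty (ModSite.sheafHom M ⋙ ModSite.sectOn O U ≅ ModSite.sectOn O U ⋙ ModSite.sheafHom M) ∧
      Nonempty (ModSite.sheafHom M ⋙ ModSite.sectOn O U ≅ ModSite.sheafHom ((ModSite.quotOn O U).obj M)) := by
  let a1 := sectHomAdj U M
  let a2 : T M ⋙ ModSite.quotOn O U ⊣ ModSite.sectOn O U ⋙ ModSite.sheafHom M :=
    (ModSite.sheafHomAdj M).comp (Groth.L15.ExtSupp.quotSectAdj U)
  let e : T M ⋙ ModSite.quotOn O U ≅ T ((ModSite.quotOn O U).obj M) :=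
    Functor.isoWhiskerRight (flipIso M) (ModSite.quotOn O U) ≪≫ quotTensorIso U M ≪≫
      (flipIso ((ModSite.quotOn O U).obj M)).symm
  exact ⟨⟨a1.rightAdjointUniq a2⟩,
    ⟨(a1.ofNatIsoLeft e).rightAdjointUniq (ModSite.sheafHomAdj ((ModSite.quotOn O U).obj M))⟩⟩

end Groth.Agent.S12893
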