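import Groth.Statements.S12898
import Groth.Agent.L10.DTen.BaseAdj
import Groth.Agent.L10.DerivedLeftCx

set_option autoImplicit false
set_option backward.isDefEq.respectTransparency false
set_option backward.isDefEq.respectTransparency.types false
universe u
open CategoryTheory CategoryTheory.Limits
attribute [local instance] HasDerivedCategory.standard
open DRing

namespace Groth.Agent.S12898

/-- Let φ : R → A be a map of commutative rings. The derived base change functor D(R) → D(A), E ↦ E
⊗^L_R A (the total left derived functor of extension of scalars, whose existence is the stated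
instance hypothesis, true), is left adjoint to the restriction functor D(A) → D(R). (Existence of an
adjunction only.) -/
theorem result {R A : Type u} [CommRing R] [CommRing A] (φ : R →+* A)
    [DRing.HasLBaseChange φ] :
    Nonempty (DRing.LBaseChange φ ⊣ DRing.restrictD φ) := by
  have : (Groth.L10.DTen.LB φ).IsLeftDerivedFunctor (Groth.L10.DTen.αB φ)
      (HomologicalComplex.quasiIso (ModuleCat.{u} R) (ComplexShape.up ℤ)) :=
    Groth.L00.LeftDeriv.isLeftDerivedFunctor (DTen.extCx φ ⋙ DerivedCategory.Q) (DTen.qis R) DerivedCategory.Q
      (Groth.L10.KFlat.R R) (Groth.L10.KFlat.r R)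
      (fun X => (HomologicalComplex.mem_quasiIso_iff _).2 (Groth.L10.KFlat.quasiIso_r X))
      (Groth.L10.DTen.invertedExt φ)
      (fun X => Groth.L10.DTen.isIso_extQ_map φ _ (Groth.L10.KFlat.isKFlat_R _) (Groth.L10.KFlat.isKFlat_R _))
  exact ⟨(Groth.L10.DTen.BaseAdj.adjB φ).ofNatIsoLeft
    (Groth.L10.DerivedLeftCx.isoDerived (ModuleCat.extendScalars φ) (Groth.L10.DTen.αB φ)
      ((DRing.baseChangeKh φ).totalLeftDerivedCounit DerivedCategory.Qh
        (HomotopyCategory.quasiIso (ModuleCat.{u} R) (ComplexShape.up ℤ))))⟩

end Groth.Agent.S12898
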