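import Groth.Statements.S12899
import Groth.Agent.L10.DRing.AwayQuot

set_option autoImplicit false
set_option backward.defeqAttrib.useBackward true
set_option backward.isDefEq.respectTransparency false
universe u
open CategoryTheory CategoryTheory.Limits
attribute [local instance] HasDerivedCategory.standard
open DRing

namespace Groth.Agent.S12899

/-- Let R be a commutative ring, f ∈ R and M an object of D(R) such that (1) H^i(M) = 0 for i &gt; 0,
(2) in D(R_f), M ⊗^L_R R_f is isomorphic to a flat R_f-module concentrated in degree 0, and (3) in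
D(R/fR), M ⊗^L_R R/fR is isomorphic to a flat R/fR-module concentrated in degree 0. Then, in D(R), M
itself is isomorphic to a flat R-module concentrated in degree 0. (The derived base change functors
along R → R_f and R → R/fR are the stated instance hypotheses, both true.) -/
theorem result {R : Type u} [CommRing R] (f : R) (M : Dual.D R)
    [DRing.HasLBaseChange (algebraMap R (Localization.Away f))]
    [DRing.HasLBaseChange (Ideal.Quotient.mk (Ideal.span ({f} : Set R)))]
    (h1 : ∀ i : ℤ, 0 < i → Subsingleton (Dual.HD R M i))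
    (h2 : ∃ (N : Type u) (_ : AddCommGroup N) (_ : Module (Localization.Away f) N),
      Module.Flat (Localization.Away f) N ∧
        Nonempty ((DRing.LBaseChange (algebraMap R (Localization.Away f))).obj M ≅ Dual.inD (Localization.Away f) N))
    (h3 : ∃ (N : Type u) (_ : AddCommGroup N) (_ : Module (R ⧸ Ideal.span ({f} : Set R)) N),
      Module.Flat (R ⧸ Ideal.span ({f} : Set R)) N ∧
        Nonempty ((DRing.LBaseChange (Ideal.Quotient.mk (Ideal.span ({f} : Set R)))).obj M ≅
          Dual.inD (R ⧸ Ideal.span ({f} : Set R)) N)) :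
    ∃ (N : Type u) (_ : AddCommGroup N) (_ : Module R N), Module.Flat R N ∧ Nonempty (M ≅ Dual.inD R N) := by
  have hb : Groth.L02.PC.LEH M 0 := fun i hi =>
    haveI := h1 i hi
    ModuleCat.isZero_of_subsingleton ((DerivedCategory.homologyFunctor (ModuleCat.{u} R) i).obj M)
  obtain ⟨P, hPb, hPf, -, ⟨e⟩⟩ := Groth.L02.PC.exists_free_rep hb
  have hfl : DRing.TermwiseFlat P := fun i => haveI := hPf i; inferInstance
  have hPk : DRing.IsKFlat R P := Groth.L10.KFlat.of_bounded P 0 hPb hfl
  have amp : ∀ {A : Type u} [CommRing A] (K : Dual.D A) (N : Type u) [AddCommGroup N] [Module A N],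
      Module.Flat A N → (K ≅ Dual.inD A N) → DRing.HasTorAmplitudeIn A 0 0 K := fun {A} _ K N _ _ hN eK =>
    ⟨(HomologicalComplex.single (ModuleCat.{u} A) (ComplexShape.up ℤ) 0).obj (ModuleCat.of A N),
      fun i hi => HomologicalComplex.isZero_single_obj_X _ _ _ _ (by omega),
      fun i => by
        by_cases hi : i = 0
        · subst hi
          exact Module.Flat.of_linearEquiv (HomologicalComplex.singleObjXSelf (ComplexShape.up ℤ) 0 (ModuleCat.of A N)).toLinearEquiv
        · haveI := ModuleCat.subsingleton_of_isZero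
            (HomologicalComplex.isZero_single_obj_X (ComplexShape.up ℤ) 0 (ModuleCat.of A N) i hi)
          exact inferInstance,
      ⟨((DerivedCategory.singleFunctorIsoCompQ _ 0).app _).symm ≪≫ eK.symm⟩⟩
  obtain ⟨N2, _, _, hN2, ⟨e2⟩⟩ := h2
  obtain ⟨N3, _, _, hN3, ⟨e3⟩⟩ := h3
  have ha2 := amp _ N2 hN2 ((DRing.LBaseChange (algebraMap R (Localization.Away f))).mapIso e ≪≫ e2)
  have ha3 := amp _ N3 hN3 ((DRing.LBaseChange (Ideal.Quotient.mk (Ideal.span ({f} : Set R)))).mapIso e ≪≫ e3)
  have key := Groth.L10.AwayQuot.vanish hfl (f := f) 0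
    (fun i hi N hN => Groth.L10.NilpotentThick.isZero_tensor_of_killed Ideal.Quotient.mk_surjective i
      (fun N' => Groth.L10.NilpotentThick.vanish_of_amp _ hPk ha3 i (Or.inl hi) N') N fun a ha x => by
        rw [Ideal.mk_ker, Ideal.mem_span_singleton'] at ha
        obtain ⟨r, rfl⟩ := ha
        rw [mul_smul, hN, smul_zero])
    (fun i hi N' => (Groth.L10.NilpotentThick.isZero_tensor_bc_iff _ P N' i).1
      (Groth.L10.NilpotentThick.vanish_of_amp _ hPk ha2 i (Or.inl hi) N'))
  obtain ⟨E, hE, hEf, ⟨eE⟩⟩ := (Groth.L10.DR.amp_iff e hPb hfl 0 0).2 ⟨fun i hi N => key i hi N, hb⟩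
  haveI : E.IsStrictlyGE 0 := (CochainComplex.isStrictlyGE_iff E 0).2 fun i hi => hE i (Or.inl hi)
  haveI : E.IsStrictlyLE 0 := (CochainComplex.isStrictlyLE_iff E 0).2 fun i hi => hE i (Or.inr hi)
  obtain ⟨N, ⟨eN⟩⟩ := CochainComplex.exists_iso_single E 0
  refine ⟨N, inferInstance, inferInstance, ?_, ⟨eE.symm ≪≫ DerivedCategory.Q.mapIso eN ≪≫
    ((DerivedCategory.singleFunctorIsoCompQ _ 0).app N).symm⟩⟩
  haveI := hEf 0
  let i2 : E.X 0 ≅ N := (HomologicalComplex.eval (ModuleCat.{u} R) (ComplexShape.up ℤ) 0).mapIso eN ≪≫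
    HomologicalComplex.singleObjXSelf (ComplexShape.up ℤ) 0 N
  exact Module.Flat.of_linearEquiv i2.toLinearEquiv.symm

end Groth.Agent.S12899
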