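import Groth.Statements.S1290
import Groth.Agent.L16.FlatLocusFT.Basic

set_option autoImplicit false
universe u
open FlatMor

namespace Groth.Agent.S1290

/-- Ring form, X = Spec S, S = Spec R affine: let R be a ring with finitely many weakly associated
primes, S a finite type R-algebra and N a finite S-module. Then the set U of primes q of S with N_q
flat over R is open in Spec S, and every q in U has a basic open neighbourhood D(g) on which N is
flat over R and finitely presented relative to R (finitely presented over a polynomial ring over R
surjecting onto S_g). -/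
theorem result {R S : Type u} [CommRing R] [CommRing S] [Algebra R S] [Algebra.FiniteType R S]
    (hR : (FlatCA.weakAss R R).Finite)
    (N : Type u) [AddCommGroup N] [Module S N] [Module R N] [IsScalarTower R S N] [Module.Finite S N] :
    IsOpen {q : PrimeSpectrum S | FlatCA.FlatAt R q.asIdeal N} ∧
    ∀ (q : Ideal S) [q.IsPrime], FlatCA.FlatAt R q N → ∃ g : S, g ∉ q ∧
      Module.Flat R (LocalizedModule (Submonoid.powers g) N) ∧
      FlatCA.RelFinitePresentation R (Localization.Away g) (LocalizedModule (Submonoid.powers g) N) := by
  refine ⟨Groth.L20.RG.isOpen_flatLocus N fun q _ h => ?_, fun q _ h => Groth.L16.FlatLocusFT.exists_flat_relFP_away hR N q h⟩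
  obtain ⟨g, hg, hfl, -⟩ := Groth.L16.FlatLocusFT.exists_flat_relFP_away hR N q h
  exact ⟨g, hg, hfl⟩
end Groth.Agent.S1290
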