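import Groth.Statements.S12902
import Groth.Agent.L16.QcqsPush
import Groth.Agent.L29.DCoh.QCohOps
import Groth.Agent.L29.DCoh.QCohLocal
import Groth.Agent.L16.AffineBC.Pullback
set_option linter.style.haveILetI false
set_option backward.isDefEq.respectTransparency false


set_option autoImplicit false
universe u
open CategoryTheory CategoryTheory.Limits AlgebraicGeometry
open Coherent

namespace Groth.Agent.S12902

/-- Let X be a scheme, j : U → X a quasi-compact open immersion, Z the closed complement of U, and F a
quasi-coherent O_X-module. Then the subsheaf Γ_Z(F) ⊆ F of sections supported in Z (the kernel of F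
→ j_*(F|_U)) is a quasi-coherent O_X-module. -/
theorem result {U X : Scheme.{u}} (j : U ⟶ X) [IsOpenImmersion j] [QuasiCompact j]
    (F : X.Modules) (hF : Coh.IsQCoh F) :
    Coh.IsQCoh ((DCoh.gammaZ j).obj F) := by
  haveI := hF
  haveI : Coh.IsQCoh ((Scheme.Modules.restrictFunctor j).obj F) := by
    haveI : Coh.IsQCoh ((Scheme.Modules.pullback j).obj F) := Groth.L16.AffineBC.isQCoh_pullback j F
    exact Groth.L29.DC.isQCoh_of_iso' ((Scheme.Modules.restrictFunctorIsoPullback j).app F).symm ‹_›
  exact Groth.L29.DC.isQCoh_kernel' _ hF (Groth.L16.QcqsPush.isQCoh_push _ j)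

end Groth.Agent.S12902
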