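import Groth.Statements.S12903
import Groth.Agent.L17.IdealMulSec
import Groth.Agent.L16.QCohSections

set_option autoImplicit false
universe u
open CategoryTheory CategoryTheory.Limits AlgebraicGeometry Opposite
open Coherent

namespace Groth.Agent.S12903

open Opposite TopologicalSpace CategoryTheory.Limits
open Groth.L18.Frame (rs ro rs_rs ro_ro rs_smul)

set_option linter.style.haveILetI false
set_option backward.isDefEq.respectTransparency false
set_option backward.isDefEq.respectTransparency.types false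

theorem res_image_eq_zero_iff {U X : Scheme.{u}} (j : U ⟶ X) [IsOpenImmersion j]
    (F : X.Modules) [Coh.IsQCoh F] {V : X.Opens} (hV : IsAffineOpen V) (I : Ideal Γ(X, V)) (hI : I.FG)
    (hZ : ∀ x : X, x ∈ V → (x ∉ Set.range j.base ↔ ∀ f ∈ I, x ∉ X.basicOpen f)) (s : Γ(F, V)) :
    rs F (j.image_preimage_le V) s = 0 ↔ ∃ n : ℕ, ∀ a ∈ I ^ n, a • s = 0 := by
  have hD : ∀ a ∈ I, X.basicOpen a ≤ j ''ᵁ (j ⁻¹ᵁ V) := fun a ha y hy => by
    have hyV : y ∈ V := X.basicOpen_le a hy
    obtain ⟨u, rfl⟩ : y ∈ Set.range j.base := by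
      by_contra h
      exact (hZ y hyV).1 h a ha hy
    exact ⟨u, hyV, rfl⟩
  constructor
  · intro h
    let J : Ideal Γ(X, V) := (Submodule.span Γ(X, V) {s}).annihilator
    have hJ : I ≤ J.radical := fun a ha => by
      obtain ⟨n, hn⟩ := Groth.L16.QCohSect.exists_pow_smul_eq_zero hV F a s (by
        refine (rs_rs F (j.image_preimage_le V) (hD a ha) s).symm.trans ?_
        rw [h]
        exact map_zero _)
      exact ⟨n, (Submodule.mem_annihilator_span_singleton _ _).2 hn⟩
    obtain ⟨n, hn⟩ := Ideal.exists_pow_le_of_le_radical_of_fg hJ hI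
    exact ⟨n, fun a ha => (Submodule.mem_annihilator_span_singleton _ _).1 (hn ha)⟩
  · rintro ⟨n, hn⟩
    have hcov : (j ''ᵁ (j ⁻¹ᵁ V) : X.Opens) ≤ ⨆ a : I, X.basicOpen a.1 := fun y hy => by
      obtain ⟨u, hu, rfl⟩ := hy
      by_contra hne
      exact (hZ (j.base u) hu).2 (fun f hf hyf => hne (Opens.mem_iSup.2 ⟨⟨f, hf⟩, hyf⟩)) ⟨u, rfl⟩
    refine TopCat.Sheaf.eq_of_locally_eq' (X := X.toTopCat) (Coh.toAb F) (fun a : I => X.basicOpen a.1) (j ''ᵁ (j ⁻¹ᵁ V))
      (fun a => homOfLE (hD a.1 a.2)) hcov _ _ fun a => ?_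
    have h0 : rs F (X.basicOpen_le a.1) s = 0 := by
      have h1 := congrArg (rs F (X.basicOpen_le a.1)) (hn (a.1 ^ n) (Ideal.pow_mem_pow a.2 n))
      rw [rs_smul] at h1
      replace h1 : ro (X.basicOpen_le a.1) (a.1 ^ n) • rs F (X.basicOpen_le a.1) s = 0 := h1.trans (map_zero _)
      have hu : IsUnit (ro (X.basicOpen_le a.1) (a.1 ^ n)) := by
        show IsUnit ((X.presheaf.map (homOfLE (X.basicOpen_le a.1)).op).hom (a.1 ^ n))
        rw [map_pow]
        exact (RingedSpace.isUnit_res_basicOpen X.toLocallyRingedSpace.toRingedSpace a.1).pow n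
      exact hu.smul_eq_zero.1 h1
    refine Eq.trans ?_ (map_zero _).symm
    exact (rs_rs F (j.image_preimage_le V) (hD a.1 a.2) s).trans h0

/-- Let X be a scheme, j : U → X a quasi-compact open immersion with closed complement Z, F a
quasi-coherent O_X-module, V an affine open of X and I a finitely generated ideal of Γ(V, O_X)
cutting out Z ∩ V (a point of V lies outside U if and only if it lies in no basic open X_f with f ∈
I). Then a section s of F over V belongs to the subsheaf Γ_Z(F) of sections supported in Z (the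
kernel of F → j_*(F|_U)) if and only if I^n s = 0 for some n. -/
theorem result {U X : Scheme.{u}} (j : U ⟶ X) [IsOpenImmersion j] [QuasiCompact j]
    (F : X.Modules) (hF : Coh.IsQCoh F) (V : X.Opens) (hV : IsAffineOpen V)
    (I : Ideal (X.ringCatSheaf.obj.obj (op V))) (hI : I.FG)
    (hZ : ∀ x : X, x ∈ V → (x ∉ Set.range j.base ↔ ∀ f ∈ I, x ∉ X.basicOpen (f : Γ(X, V))))
    (s : F.val.obj (op V)) :
    s ∈ Set.range ((((CxOX.gammaZι j).app F).val.app (op V)).hom) ↔ ∃ n : ℕ, ∀ a ∈ I ^ n, a • s = 0 := by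
  haveI := hF
  refine Iff.trans ?_ (res_image_eq_zero_iff j F hV I hI hZ s)
  refine Iff.trans ?_ ((Groth.L17.IdealMulSec.kernel_sections ((Scheme.Modules.restrictAdjunction j).unit.app F) V).2 s).symm
  exact Iff.rfl

end Groth.Agent.S12903
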