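import Groth.Statements.S12909
import Groth.Agent.L03.PropP
import Mathlib.RingTheory.LocalProperties.Projective
import Mathlib.RingTheory.LocalRing.Module
import Mathlib.Algebra.Module.LocalizedModule.Exact
import Mathlib.RingTheory.Ideal.AssociatedPrime.Finiteness
import Mathlib.RingTheory.Localization.Finiteness
import Mathlib.LinearAlgebra.Dimension.Constructions
import Mathlib.LinearAlgebra.Dimension.Free

set_option autoImplicit false
universe u
open CAlgX

namespace Groth.Agent.S12909

open Groth.L03

/-- One step: the range of a map out of a free module, with free kernel, is free. -/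
theorem step {B : Type*} [CommRing B] [IsLocalRing B] (hP : PropP.P B) {V W : Type*} [AddCommGroup V]
    [Module B V] [Module.Finite B V] [Module.Free B V] [AddCommGroup W] [Module B W] (f : V →ₗ[B] W)
    [Module.Finite B (LinearMap.ker f)] [Module.Free B (LinearMap.ker f)] :
    Module.Free B (LinearMap.range f) ∧
      Module.finrank B (LinearMap.range f) = Module.finrank B V - Module.finrank B (LinearMap.ker f) := by
  obtain ⟨v, hv⟩ := PropP.exists_retraction hP (LinearMap.ker f).subtype Subtype.val_injective
  have hv' : ∀ k : LinearMap.ker f, v k = k := fun k => LinearMap.congr_fun hv k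
  have hbij : Function.Bijective (f.rangeRestrict.prod v) := by
    constructor
    · rw [← LinearMap.ker_eq_bot, LinearMap.ker_eq_bot']
      intro x hx
      rw [LinearMap.prod_apply] at hx
      have h1 : f x = 0 := congrArg Subtype.val (congrArg Prod.fst hx)
      have h2 : v x = 0 := congrArg Prod.snd hx
      have h3 := hv' ⟨x, h1⟩
      rw [h2] at h3
      exact congrArg Subtype.val h3.symm
    · rintro ⟨⟨_, x, rfl⟩, k⟩
      refine ⟨x - (v x : V) + (k : V), Prod.ext (Subtype.ext ?_) ?_⟩
      · simp [LinearMap.mem_ker.1 (v x).2, LinearMap.mem_ker.1 k.2]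
      · simp [hv']
  let e := LinearEquiv.ofBijective _ hbij
  have : Module.Projective B (LinearMap.range f) :=
    Module.Projective.of_split (e.symm.toLinearMap ∘ₗ LinearMap.inl B _ _)
      ((LinearMap.fst B _ _) ∘ₗ e.toLinearMap) (by ext x; simp)
  have hfree : Module.Free B (LinearMap.range f) := Module.free_of_flat_of_isLocalRing
  refine ⟨hfree, ?_⟩
  rw [e.finrank_eq, Module.finrank_prod, Nat.add_sub_cancel]

/-- The ranks of the images. -/
def rk (n : ℕ → ℕ) (e : ℕ) : ℕ → ℕ
  | 0 => n e
  | j + 1 => n (e - 1 - j) - rk n e j

end Groth.Agent.S12909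


namespace Groth.Agent.S12909

/-- Let R be a Noetherian ring and I a nonzero ideal with a finite free resolution 0 → R^{n_e} → … →
R^{n_1} → R^{n_0} → I → 0 with e ≥ 1: the map R^{n_{i+1}} → R^{n_i} is the matrix A_i, the map π :
R^{n_0} → R is linear with image I, the kernel of π is the image of A_0, the kernel of A_i is the
image of A_{i+1} for 0 ≤ i ≤ e - 2, and A_{e-1} is injective. Then I contains a non-zero-divisor of
R. (The hypothesis that I is nonzero is implicit in the published statement: the zero ideal of a
domain has a finite free resolution and contains no non-zero-divisor.) -/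
theorem result {R : Type u} [CommRing R] [IsNoetherianRing R]
    (e : ℕ) (he : 1 ≤ e) (n : ℕ → ℕ) (A : (i : ℕ) → Matrix (Fin (n i)) (Fin (n (i + 1))) R)
    (π : (Fin (n 0) → R) →ₗ[R] R) (hI : LinearMap.range π ≠ ⊥)
    (h0 : LinearMap.ker π = LinearMap.range (A 0).mulVecLin)
    (hA : ∀ i, i + 2 ≤ e → LinearMap.ker (A i).mulVecLin = LinearMap.range (A (i + 1)).mulVecLin)
    (hlast : LinearMap.ker (A (e - 1)).mulVecLin = ⊥) :
    ∃ x : R, x ∈ LinearMap.range π ∧ x ∈ nonZeroDivisors R := by
  classical
  have : Nontrivial R := by
    by_contra h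
    rw [not_nontrivial_iff_subsingleton] at h
    exact hI (Subsingleton.elim _ _)
  have key : ∀ (Q : Ideal R) [Q.IsPrime], IsAssociatedPrime Q R →
      Module.Free (Localization.AtPrime Q) (LinearMap.range (IsLocalizedModule.mapExtendScalars Q.primeCompl
        (LocalizedModule.mkLinearMap Q.primeCompl (Fin (n 0) → R)) (LocalizedModule.mkLinearMap Q.primeCompl R)
        (Localization.AtPrime Q) π)) ∧
      Module.finrank (Localization.AtPrime Q) (LinearMap.range (IsLocalizedModule.mapExtendScalars Q.primeCompl
        (LocalizedModule.mkLinearMap Q.primeCompl (Fin (n 0) → R)) (LocalizedModule.mkLinearMap Q.primeCompl R)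
        (Localization.AtPrime Q) π)) = rk n e e := by
    intro Q _ hQ
    have hP : Groth.L03.PropP.P (Localization.AtPrime Q) := by
      obtain ⟨-, y, hy⟩ := isAssociatedPrime_iff.1 hQ
      have hmem : ∀ r, r ∈ Q ↔ r * y = 0 := fun r => by
        rw [SetLike.ext_iff.1 hy r, Submodule.mem_colon_singleton, Submodule.mem_bot, smul_eq_mul]
      intro J _ hJ h0
      have hy0 : algebraMap R (Localization.AtPrime Q) y ∈ J.annihilator := by
        rw [Submodule.mem_annihilator]
        intro z hz
        obtain ⟨r, s, rfl⟩ := IsLocalization.exists_mk'_eq Q.primeCompl z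
        have hr : r ∈ Q := by
          by_contra hr
          exact hJ (Ideal.eq_top_of_isUnit_mem _ hz ((IsLocalization.AtPrime.isUnit_mk'_iff _ Q r s).2 hr))
        rw [hmem, mul_comm] at hr
        rw [smul_eq_mul, IsLocalization.mul_mk'_eq_mk'_of_mul, hr, IsLocalization.mk'_zero]
      rw [h0, Submodule.mem_bot, IsLocalization.map_eq_zero_iff Q.primeCompl] at hy0
      obtain ⟨s, hs⟩ := hy0
      exact s.2 ((hmem _).2 hs)
    let Φ : ∀ i, _ := fun i => IsLocalizedModule.mapExtendScalars Q.primeCompl
        (LocalizedModule.mkLinearMap Q.primeCompl (Fin (n (i + 1)) → R))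
        (LocalizedModule.mkLinearMap Q.primeCompl (Fin (n i) → R))
        (Localization.AtPrime Q) (A i).mulVecLin
    have hfree : ∀ i, Module.Free (Localization.AtPrime Q) (LocalizedModule Q.primeCompl (Fin i → R)) := fun i =>
      Module.free_of_isLocalizedModule Q.primeCompl (LocalizedModule.mkLinearMap Q.primeCompl (Fin i → R))
    have hfin : ∀ i, Module.Finite (Localization.AtPrime Q) (LocalizedModule Q.primeCompl (Fin i → R)) := fun i =>
      Module.Finite.of_isLocalizedModule Q.primeCompl (LocalizedModule.mkLinearMap Q.primeCompl (Fin i → R))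
    have hrank : ∀ i, Module.finrank (Localization.AtPrime Q) (LocalizedModule Q.primeCompl (Fin i → R)) = i := fun i => by
      rw [Module.finrank_of_isLocalizedModule_of_free _ Q.primeCompl
        (LocalizedModule.mkLinearMap Q.primeCompl (Fin i → R)), Module.finrank_fin_fun]
    have hex : ∀ i, i + 2 ≤ e → LinearMap.ker (Φ i) = LinearMap.range (Φ (i + 1)) := fun i hi =>
      LinearMap.exact_iff.1 (LocalizedModule.map_exact Q.primeCompl _ _ (LinearMap.exact_iff.2 (hA i hi)))
    have hR : ∀ j i, i + 1 + j = e → Module.Free (Localization.AtPrime Q) (LinearMap.range (Φ i)) ∧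
        Module.finrank (Localization.AtPrime Q) (LinearMap.range (Φ i)) = rk n e j := by
      intro j
      induction j with
      | zero =>
        intro i hi
        have hi' : i = e - 1 := by omega
        have hinj : Function.Injective (Φ i) :=
          IsLocalizedModule.map_injective Q.primeCompl _ _ _ (LinearMap.ker_eq_bot.1 (hi' ▸ hlast))
        have := hfree (n (i + 1))
        refine ⟨Module.Free.of_equiv (LinearEquiv.ofInjective _ hinj), ?_⟩
        rw [← (LinearEquiv.ofInjective _ hinj).finrank_eq, hrank]
        show n (i + 1) = n e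
        rw [show i + 1 = e from hi]
      | succ j ih =>
        intro i hi
        obtain ⟨h1, h2⟩ := ih (i + 1) (by omega)
        have hi' := hex i (by omega)
        have := hfree (n (i + 1))
        have := hfin (n (i + 1))
        have := hfin (n (i + 1 + 1))
        have : Module.Free (Localization.AtPrime Q) (LinearMap.ker (Φ i)) := by
          rw [hi']; exact h1
        have : Module.Finite (Localization.AtPrime Q) (LinearMap.ker (Φ i)) := by
          rw [hi']; infer_instance
        obtain ⟨h3, h4⟩ := step hP (Φ i)
        refine ⟨h3, h4.trans ?_⟩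
        rw [hrank, hi', h2]
        show n (i + 1) - rk n e j = n (e - 1 - j) - rk n e j
        rw [show e - 1 - j = i + 1 by omega]
    obtain ⟨h1, h2⟩ := hR (e - 1) 0 (by omega)
    set p := IsLocalizedModule.mapExtendScalars Q.primeCompl
      (LocalizedModule.mkLinearMap Q.primeCompl (Fin (n 0) → R)) (LocalizedModule.mkLinearMap Q.primeCompl R)
      (Localization.AtPrime Q) π
    have hp : LinearMap.ker p = LinearMap.range (Φ 0) :=
      LinearMap.exact_iff.1 (LocalizedModule.map_exact Q.primeCompl _ _ (LinearMap.exact_iff.2 h0))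
    have := hfree (n 0)
    have := hfin (n 0)
    have := hfin (n (0 + 1))
    have : Module.Free (Localization.AtPrime Q) (LinearMap.ker p) := by rw [hp]; exact h1
    have : Module.Finite (Localization.AtPrime Q) (LinearMap.ker p) := by rw [hp]; infer_instance
    obtain ⟨h3, h4⟩ := step hP p
    refine ⟨h3, h4.trans ?_⟩
    rw [hrank, hp, h2]
    conv_rhs => rw [show e = (e - 1) + 1 by omega]
    simp only [rk]
    rw [show e - 1 + 1 - 1 - (e - 1) = 0 by omega, show e - 1 + 1 = e by omega]
  by_contra hno
  push Not at hno
  have hsub : (LinearMap.range π : Set R) ⊆ ⋃ P ∈ associatedPrimes R R, (P : Set R) := by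
    intro x hx
    rw [biUnion_associatedPrimes_eq_zero_divisors]
    have := hno x hx
    rw [mem_nonZeroDivisors_iff_right] at this
    push Not at this
    obtain ⟨y, hy, hy'⟩ := this
    exact ⟨y, hy', by rw [smul_eq_mul, mul_comm]; exact hy⟩
  obtain ⟨P, hP, hIP⟩ := (Ideal.subset_union_prime_finite (associatedPrimes.finite R R) (⊥ : Ideal R) (⊥ : Ideal R)
    (fun i hi _ _ => hi.isPrime)).1 hsub
  have := hP.isPrime
  have hzero : rk n e e = 0 := by
    obtain ⟨hfree, hr⟩ := key P hP
    rw [← hr]
    obtain ⟨-, y, hy⟩ := isAssociatedPrime_iff.1 hP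
    have hmem : ∀ r, r ∈ P ↔ r * y = 0 := fun r => by
      rw [SetLike.ext_iff.1 hy r, Submodule.mem_colon_singleton, Submodule.mem_bot, smul_eq_mul]
    by_contra hne
    let b := Module.Free.chooseBasis (Localization.AtPrime P) (LinearMap.range (IsLocalizedModule.mapExtendScalars P.primeCompl
        (LocalizedModule.mkLinearMap P.primeCompl (Fin (n 0) → R)) (LocalizedModule.mkLinearMap P.primeCompl R)
        (Localization.AtPrime P) π))
    have : Nonempty (Module.Free.ChooseBasisIndex (Localization.AtPrime P) (LinearMap.range (IsLocalizedModule.mapExtendScalars P.primeCompl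
        (LocalizedModule.mkLinearMap P.primeCompl (Fin (n 0) → R)) (LocalizedModule.mkLinearMap P.primeCompl R)
        (Localization.AtPrime P) π))) := by
      by_contra hemp
      rw [not_nonempty_iff] at hemp
      rw [Module.finrank_eq_card_basis b, Fintype.card_eq_zero] at hne
      exact hne rfl
    obtain ⟨i⟩ := this
    have hy0 : algebraMap R (Localization.AtPrime P) y • b i = 0 := by
      refine Subtype.ext ?_
      obtain ⟨z, hz⟩ := (b i).2
      rw [Submodule.coe_smul, ← hz]
      induction z using LocalizedModule.induction_on with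
      | h v s =>
        rw [algebraMap_smul]
        change y • IsLocalizedModule.map P.primeCompl _ _ π (LocalizedModule.mk v s) = 0
        rw [IsLocalizedModule.map_LocalizedModules, LocalizedModule.smul'_mk]
        have : π v ∈ P := hIP ⟨v, rfl⟩
        rw [hmem, mul_comm] at this
        rw [smul_eq_mul, this, LocalizedModule.zero_mk]
    have h1 := congrArg (fun t => b.repr t i) hy0
    simp only [map_smul, Module.Basis.repr_self, Finsupp.smul_single, smul_eq_mul, mul_one, Finsupp.single_eq_same, map_zero, Finsupp.coe_zero, Pi.zero_apply] at h1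
    rw [IsLocalization.map_eq_zero_iff P.primeCompl] at h1
    obtain ⟨s, hs⟩ := h1
    exact s.2 ((hmem _).2 hs)
  apply hI
  rw [eq_bot_iff]
  rintro _ ⟨v, rfl⟩
  by_contra hne
  rw [Submodule.mem_bot] at hne
  obtain ⟨Q, hQ, hle⟩ := exists_le_isAssociatedPrime_of_isNoetherianRing R (π v) hne
  have := hQ.isPrime
  obtain ⟨hfree, hr⟩ := key Q hQ
  rw [hzero] at hr
  have hsub : Subsingleton (LinearMap.range (IsLocalizedModule.mapExtendScalars Q.primeCompl
        (LocalizedModule.mkLinearMap Q.primeCompl (Fin (n 0) → R)) (LocalizedModule.mkLinearMap Q.primeCompl R)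
        (Localization.AtPrime Q) π)) := Module.subsingleton_of_rank_zero (R := Localization.AtPrime Q) (by rw [← Module.finrank_eq_rank, hr, Nat.cast_zero])
  have h1 : LocalizedModule.mk (π v) (1 : Q.primeCompl) = 0 := by
    have := Subsingleton.elim (α := LinearMap.range _) ⟨_, LinearMap.mem_range_self (IsLocalizedModule.mapExtendScalars Q.primeCompl
        (LocalizedModule.mkLinearMap Q.primeCompl (Fin (n 0) → R)) (LocalizedModule.mkLinearMap Q.primeCompl R)
        (Localization.AtPrime Q) π) (LocalizedModule.mk v 1)⟩ 0
    have := congrArg Subtype.val this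
    rw [← IsLocalizedModule.map_LocalizedModules]
    exact this
  rw [← LocalizedModule.zero_mk 1, LocalizedModule.mk_eq] at h1
  obtain ⟨s, hs⟩ := h1
  refine s.2 (hle ?_)
  rw [Submodule.mem_colon_singleton, Submodule.mem_bot]
  rw [smul_zero, smul_zero] at hs
  simpa [smul_eq_mul, Submonoid.smul_def] using hs

end Groth.Agent.S12909
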