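import Groth.Statements.S12907
import Groth.Agent.L03.HilbertBurch
import Groth.Agent.S12909

set_option autoImplicit false
universe u
open CAlgX

namespace Groth.Agent.S12907

/-- Let R be a Noetherian ring and I a nonzero ideal admitting a free resolution 0 → R^m → R^n → I → 0:
an injective matrix Ψ with n rows and m columns, and a linear map π : R^n → R with image I whose
kernel is the image of Ψ. Then n = m + 1; there is a non-zero-divisor a with I = a · I_m(Ψ), where
I_m(Ψ) is the ideal generated by the m × m minors of Ψ; and the I_m(Ψ)-depth of R is at least 2.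
(The published statement also asserts that this depth is exactly 2; only the lower bound is stated
here. The hypothesis that I is nonzero is implicit in the published statement.) -/
theorem result {R : Type u} [CommRing R] [IsNoetherianRing R] (m n : ℕ)
    (Ψ : Matrix (Fin n) (Fin m) R) (π : (Fin n → R) →ₗ[R] R)
    (hΨ : LinearMap.ker Ψ.mulVecLin = ⊥) (hex : LinearMap.ker π = LinearMap.range Ψ.mulVecLin)
    (hI : LinearMap.range π ≠ ⊥) :
    n = m + 1 ∧
      (∃ a : R, a ∈ nonZeroDivisors R ∧ LinearMap.range π = Ideal.span {a} * CAlgX.minorIdeal Ψ m) ∧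
      2 ≤ LocCoh.idealDepth (CAlgX.minorIdeal Ψ m) R := by
  have : Nontrivial R := by
    by_contra h
    rw [not_nontrivial_iff_subsingleton] at h
    exact hI (Subsingleton.elim _ _)
  obtain ⟨x, ⟨v, rfl⟩, hx⟩ := Groth.Agent.S12909.result (R := R) 1 le_rfl
    (fun i => Nat.rec n (fun _ _ => m) i)
    (fun i => Nat.rec (motive := fun i => Matrix (Fin (Nat.rec n (fun _ _ => m) i)) (Fin m) R) Ψ (fun _ _ => 0) i)
    π hI hex (fun i hi => absurd hi (by omega)) hΨ
  obtain rfl := Groth.L03.HilbertBurch.size_eq Ψ π hΨ hex v hx
  exact ⟨rfl, Groth.L03.HilbertBurch.main Ψ π hΨ hex v hx⟩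

end Groth.Agent.S12907
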