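import Groth.Statements.S12908
import Groth.Agent.L03.HilbertBurch

set_option autoImplicit false
universe u
open CAlgX

namespace Groth.Agent.S12908

/-- Let R be a Noetherian ring, t a natural number, Ψ a (t+1) × t matrix over R such that the
I_t(Ψ)-depth of R is at least 2, where I_t(Ψ) is the ideal generated by the t × t minors of Ψ, and a
a non-zero-divisor of R. Put Δ_i = a · (-1)^i det Ψ_i, where Ψ_i is Ψ with row i deleted. Then 0 →
R^t → R^{t+1} → R, with first map Ψ and second map v ↦ Σ_i Δ_i v_i, is exact: Ψ is injective and the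
kernel of the second map equals the image of Ψ; moreover the image of the second map is the ideal a
· I_t(Ψ). (The published statement adds that this ideal has depth 2 exactly when a is a unit; that
clause is not stated here.) -/
theorem result {R : Type u} [CommRing R] [IsNoetherianRing R] (t : ℕ)
    (Ψ : Matrix (Fin (t + 1)) (Fin t) R) (hdepth : 2 ≤ LocCoh.idealDepth (CAlgX.minorIdeal Ψ t) R)
    (a : R) (ha : a ∈ nonZeroDivisors R) :
    LinearMap.ker Ψ.mulVecLin = ⊥ ∧
      LinearMap.ker (Fintype.linearCombination R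
          (fun i : Fin (t + 1) => a * ((-1 : R) ^ (i : ℕ) * (Ψ.submatrix i.succAbove id).det))) =
        LinearMap.range Ψ.mulVecLin ∧
      LinearMap.range (Fintype.linearCombination R
          (fun i : Fin (t + 1) => a * ((-1 : R) ^ (i : ℕ) * (Ψ.submatrix i.succAbove id).det))) =
        Ideal.span {a} * CAlgX.minorIdeal Ψ t := by
  open Groth.L03.HilbertBurch in
  have hmain : ∀ J : Ideal R, J = CAlgX.minorIdeal Ψ t → J.annihilator = ⊥ ∧ ∀ v, dl Ψ v = 0 → v ∈ LinearMap.range Ψ.mulVecLin := by
    intro J hJ
    rw [← hJ] at hdepth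
    have key : (J = ⊤) ∨ ∃ x ∈ J, ∃ y ∈ J, IsSMulRegular R x ∧ ∀ z, x ∣ y * z → x ∣ z := by
      by_cases htop : J • (⊤ : Submodule R R) = ⊤
      · left; simpa using htop
      · right
        unfold LocCoh.idealDepth at hdepth
        rw [if_neg htop] at hdepth
        by_contra hno
        have : (⨆ (rs : List R) (_ : RingTheory.Sequence.IsWeaklyRegular R rs ∧ ∀ r ∈ rs, r ∈ J), (rs.length : ℕ∞)) ≤ 1 := by
          refine iSup₂_le fun rs hrs => ?_
          by_contra hlt
          match rs, hrs, hlt with
          | [], _, h => simp at h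
          | [_], _, h => simp at h
          | x :: y :: rest, ⟨hw, hmem⟩, _ =>
            rw [RingTheory.Sequence.isWeaklyRegular_cons_iff, RingTheory.Sequence.isWeaklyRegular_cons_iff] at hw
            refine hno ⟨x, hmem x (by simp), y, hmem y (by simp), hw.1, fun z hz => ?_⟩
            obtain ⟨w, hw'⟩ := hz
            have h1 : y • (Submodule.Quotient.mk z : QuotSMulTop x R) = 0 := by
              rw [← Submodule.Quotient.mk_smul, Submodule.Quotient.mk_eq_zero, Submodule.mem_smul_pointwise_iff_exists]
              exact ⟨w, Submodule.mem_top, hw'.symm⟩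
            have h2 := hw.2.1.right_eq_zero_of_smul h1
            rw [Submodule.Quotient.mk_eq_zero, Submodule.mem_smul_pointwise_iff_exists] at h2
            obtain ⟨u, -, hu⟩ := h2
            exact ⟨u, hu.symm⟩
        exact absurd (hdepth.trans this) (by decide)
    subst hJ
    rcases key with htop | ⟨x, hx, y, hy, hxr, hyr⟩
    · refine ⟨by rw [htop, eq_bot_iff]; intro r hr; simpa using Submodule.mem_annihilator.1 hr 1 Submodule.mem_top, fun v hv => ?_⟩
      have h1 : (1 : R) ∈ Submodule.span R (Set.range (delta Ψ)) := by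
        rw [← Ideal.span, ← minorIdeal_eq, htop]; exact Submodule.mem_top
      obtain ⟨c, hc⟩ := (Submodule.mem_span_range_iff_exists_fun R).1 h1
      rw [← one_smul R v, ← hc, Finset.sum_smul]
      refine Submodule.sum_mem _ fun i _ => ?_
      rw [smul_assoc]
      exact Submodule.smul_mem _ _ (delta_smul_mem Ψ v hv i)
    · have hann : (CAlgX.minorIdeal Ψ t).annihilator = ⊥ := by
        rw [eq_bot_iff]
        intro r hr
        exact hxr.right_eq_zero_of_smul (by rw [smul_eq_mul, mul_comm]; exact Submodule.mem_annihilator.1 hr x hx)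
      refine ⟨hann, fun v hv => ?_⟩
      have hsm : ∀ b ∈ CAlgX.minorIdeal Ψ t, b • v ∈ LinearMap.range Ψ.mulVecLin := by
        intro b hb
        rw [minorIdeal_eq] at hb
        induction hb using Submodule.span_induction with
        | mem z hz => obtain ⟨i, rfl⟩ := hz; exact delta_smul_mem Ψ v hv i
        | zero => rw [zero_smul]; exact zero_mem _
        | add a b _ _ ha hb => rw [add_smul]; exact add_mem ha hb
        | smul c z _ hz => rw [smul_assoc]; exact Submodule.smul_mem _ _ hz
      obtain ⟨a', ha'⟩ := hsm x hx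
      obtain ⟨b', hb'⟩ := hsm y hy
      have h0 : y • a' = x • b' := (Groth.L03.McCoy.injective_iff Ψ).2 hann (by
        rw [map_smul, map_smul, ha', hb', smul_comm])
      choose c hc using fun j => hyr (a' j) ⟨b' j, congrFun h0 j⟩
      have hc' : a' = x • c := funext hc
      refine ⟨c, funext fun k => hxr (congrFun (?_ : x • Ψ.mulVecLin c = x • v) k)⟩
      rw [← map_smul, ← hc', ha']
  obtain ⟨hann, hker⟩ := hmain _ rfl
  open Groth.L03.HilbertBurch in
  have hlc : Fintype.linearCombination R (fun i : Fin (t + 1) => a * ((-1 : R) ^ (i : ℕ) * (Ψ.submatrix i.succAbove id).det)) = a • dl Ψ := by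
    refine LinearMap.ext fun u => ?_
    rw [LinearMap.smul_apply, dl_apply, Fintype.linearCombination_apply, smul_eq_mul, Finset.mul_sum]
    refine Finset.sum_congr rfl fun i _ => ?_
    simp only [delta, smul_eq_mul]
    ring
  rw [hlc]
  refine ⟨LinearMap.ker_eq_bot.2 ((Groth.L03.McCoy.injective_iff Ψ).2 hann), le_antisymm (fun v hv => hker v ?_) ?_, ?_⟩
  · rw [LinearMap.mem_ker, LinearMap.smul_apply, smul_eq_mul, mul_comm] at hv
    exact (mem_nonZeroDivisors_iff.1 ha).2 _ hv
  · rintro _ ⟨c, rfl⟩
    rw [LinearMap.mem_ker, LinearMap.smul_apply, Matrix.mulVecLin_apply, Groth.L03.HilbertBurch.dl_mulVec, smul_zero]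
  · rw [← Groth.L03.HilbertBurch.range_dl]
    ext z
    rw [Ideal.mem_span_singleton_mul]
    constructor
    · rintro ⟨u, rfl⟩
      exact ⟨_, LinearMap.mem_range_self _ u, rfl⟩
    · rintro ⟨_, ⟨u, rfl⟩, rfl⟩
      exact ⟨u, rfl⟩

end Groth.Agent.S12908
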