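import Groth.Statements.S12910
import Groth.Agent.L22.Reg.Cplx
-- import your own Groth.Agent.* helpers here

set_option autoImplicit false
universe u
open CategoryTheory CategoryTheory.Limits AlgebraicGeometry
open Variety

namespace Groth.Agent.S12910

/-- Let k be a field, d an integer, and E a bounded chain complex ⋯ → E_2 → E_1 → E_0 of coherent
modules on P^n_k (E_s = 0 for s large) such that E_s is (d + s)-regular for every s and, for every i
> 0, the homology sheaf H_i(E) has support of Krull dimension at most 1. Then the cokernel of E_1 →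
E_0 is d-regular and the image of E_1 → E_0 is (d + 1)-regular. -/
theorem result (k : Type u) [Field k] (n : ℕ)
    (E : ChainComplex ((CohB1.ProjSpace n k).Modules) ℕ) (t : ℕ) (hbdd : ∀ s : ℕ, t < s → IsZero (E.X s))
    (hcoh : ∀ s : ℕ, Coh.IsCoh (E.X s)) (d : ℤ)
    (hreg : ∀ s : ℕ, Curv2.IsMRegular k n (E.X s) (d + s))
    (hsupp : ∀ i : ℕ, 0 < i → topologicalKrullDim (CohB1.support (E.homology i)) ≤ 1) :
    Curv2.IsMRegular k n (cokernel (E.d 1 0)) d ∧
      Curv2.IsMRegular k n (Abelian.image (E.d 1 0)) (d + 1) := by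
  have hreg' : ∀ s : ℕ, Groth.L22.Reg.Regular (E.X s) (d + s) := fun s => by
    haveI := (hcoh s).1
    exact Groth.L22.Reg.regular_of_le_n (hreg s)
  obtain ⟨h₁, h₂⟩ := Groth.L22.Reg.regular_cokernel_and_image E hbdd hcoh hreg' hsupp
  exact ⟨fun i hi _ => h₁ i hi, fun i hi _ => h₂ i hi⟩

end Groth.Agent.S12910
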