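import Groth.Statements.S12912
import Groth.Agent.L21.Duality.Nondegenerate
import Groth.Agent.L21.RR.GeomGenusZero

set_option autoImplicit false
set_option backward.isDefEq.respectTransparency false
universe u
open CategoryTheory CategoryTheory.Limits AlgebraicGeometry
open Curves

namespace Groth.Agent.S12912

/-- Let k be an algebraically closed field and X a curve over k (integral, proper over k, of dimension
one) with a closed immersion i : X → P^r_k over k whose image lies in no hyperplane: every nonzero
global section of O(1) on P^r_k pulls back to a nonzero global section of i^* O(1). Then deg i^*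
O(1) ≥ r. -/
theorem result (k : Type u) [Field k] [IsAlgClosed k] (r : ℕ)
    (X : Scheme.{u}) [X.Over (Spec (CommRingCat.of k))] [IsIntegral X] [IsProper (X ↘ (Spec (CommRingCat.of k)))]
    (hdim : topologicalKrullDim X = 1)
    (i : X ⟶ CohB1.ProjSpace r k) [IsClosedImmersion i]
    (hi : i ≫ CohB1.ProjSpace.toSpec r k = (X ↘ (Spec (CommRingCat.of k))))
    (hplane : ∀ s : LinSer.Sect (CohB1.ProjSpace r k) (Twist.twistProjSpace r k 1), s ≠ 0 →
      OmegaSh.pullSect i (Twist.twistProjSpace r k 1) ⊤ s ≠ 0) :
    (r : ℤ) ≤ Curv2.deg k X ((Scheme.Modules.pullback i).obj (Twist.twistProjSpace r k 1)) 1 := by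
  haveI := Groth.L21.RR.isNoetherian_of_proper (X := X) k
  have h0 := Groth.L21.RR.h0_eq_one_of_isAlgClosed (X := X) k
  have h1 := Groth.L21.Duality.succ_le_h0_pullback_twist i hi hplane
  have h2 := Groth.L21.Duality.h0_le_deg_add (k := k) hdim.le h0
    (Groth.L18.Ample.isInvertible_pullback i (Groth.L16.ProjTwist.isInvertible_twistProjSpace r k 1)) (by omega)
  omega

end Groth.Agent.S12912
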