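import Groth.Statements.S12915
import Mathlib.RingTheory.MvPolynomial.Homogeneous
import Mathlib.RingTheory.MvPolynomial.Basic
import Mathlib.Algebra.Order.Antidiag.FinsuppEquiv
import Mathlib.LinearAlgebra.FiniteDimensional.Lemmas
import Mathlib.RingTheory.Ideal.Quotient.Operations

set_option autoImplicit false
universe u
open CAlgX

namespace Groth.Agent.S12915

/-- Let k be a field, S = k[x_0, …, x_r], and f a nonzero homogeneous polynomial of degree m. For every
t ≥ m the image in S/(f) of the homogeneous polynomials of degree t is a k-vector space of dimension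
C(t + r, r) - C(t + r - m, r). (The published clause states that the hypersurface f = 0 in P^r has
degree m; its proof computes exactly this Hilbert function, whose polynomial has leading term m
t^(r-1)/(r-1)!, and that computation is what is stated here.) -/
theorem result (k : Type u) [Field k] (r m : ℕ)
    (f : MvPolynomial (Fin (r + 1)) k) (hf : f.IsHomogeneous m) (hf0 : f ≠ 0) (t : ℕ) (ht : m ≤ t) :
    Module.finrank k
        (Submodule.map ((Ideal.Quotient.mkₐ k (Ideal.span {f})).toLinearMap)
          (MvPolynomial.homogeneousSubmodule (Fin (r + 1)) k t)) =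
      Nat.choose (t + r) r - Nat.choose (t + r - m) r := by
  classical
  have hdim : ∀ n : ℕ, Module.Finite k (MvPolynomial.homogeneousSubmodule (Fin (r + 1)) k n) ∧
      Module.finrank k (MvPolynomial.homogeneousSubmodule (Fin (r + 1)) k n) = Nat.choose (n + r) r := by
    intro n
    have hset : ∀ d : Fin (r + 1) →₀ ℕ, d.degree = n ↔ d ∈ Finset.univ.finsuppAntidiag n := fun d => by
      rw [Finset.mem_finsuppAntidiag, Finsupp.degree_eq_sum]
      simp
    haveI : Fintype {d : Fin (r + 1) →₀ ℕ | d.degree = n} :=
      Fintype.ofFinset (Finset.univ.finsuppAntidiag n) fun d => (hset d).symm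
    let b : Module.Basis {d : Fin (r + 1) →₀ ℕ | d.degree = n} k
        (MvPolynomial.homogeneousSubmodule (Fin (r + 1)) k n) :=
      (MvPolynomial.basisRestrictSupport k _).map
        (LinearEquiv.ofEq _ _ (MvPolynomial.homogeneousSubmodule_eq_finsupp_supported (σ := Fin (r + 1)) (R := k) n).symm)
    refine ⟨Module.Finite.of_basis b, ?_⟩
    rw [Module.finrank_eq_nat_card_basis b]
    refine (Nat.subtype_card (Finset.univ.finsuppAntidiag n) fun d => (hset d).symm).trans ?_
    rw [Finset.card_finsuppAntidiag_nat_eq_choose]
    simp only [Finset.card_univ, Fintype.card_fin]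
    rw [show r + 1 + n - 1 = n + r by omega, Nat.choose_symm_add]
  obtain ⟨hfin, hrank⟩ := hdim t
  set L := (Ideal.Quotient.mkₐ k (Ideal.span {f})).toLinearMap with hL
  set P := MvPolynomial.homogeneousSubmodule (Fin (r + 1)) k t with hP
  have hker : LinearMap.ker (L.domRestrict P) =
      Submodule.comap P.subtype ((MvPolynomial.homogeneousSubmodule (Fin (r + 1)) k (t - m)).map
        (LinearMap.mulLeft k f)) := by
    ext ⟨x, hx⟩
    simp only [LinearMap.mem_ker, LinearMap.domRestrict_apply, Submodule.mem_comap, Submodule.subtype_apply,
      Submodule.mem_map, LinearMap.mulLeft_apply, hL, AlgHom.toLinearMap_apply, Ideal.Quotient.mkₐ_eq_mk]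
    rw [Ideal.Quotient.eq_zero_iff_mem, Ideal.mem_span_singleton]
    constructor
    · rintro ⟨y, hy⟩
      refine ⟨MvPolynomial.homogeneousComponent (t - m) y, MvPolynomial.homogeneousComponent_mem _ _, ?_⟩
      have hx' := congrArg (MvPolynomial.homogeneousComponent t) hy
      rw [MvPolynomial.homogeneousComponent_of_mem hx, if_pos rfl] at hx'
      have hproj : ∀ z, MvPolynomial.homogeneousComponent (m + (t - m)) (f * z) =
          f * MvPolynomial.homogeneousComponent (t - m) z := by
        intro z
        conv_lhs => rw [← MvPolynomial.sum_homogeneousComponent z, Finset.mul_sum]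
        rw [map_sum]
        have hterm : ∀ i, MvPolynomial.homogeneousComponent (m + (t - m)) (f * MvPolynomial.homogeneousComponent i z) =
            if i = t - m then f * MvPolynomial.homogeneousComponent i z else 0 := fun i => by
          rw [MvPolynomial.homogeneousComponent_of_mem (hf.mul (MvPolynomial.homogeneousComponent_isHomogeneous i z))]
          simp [eq_comm]
        simp only [hterm, Finset.sum_ite_eq', Finset.mem_range]
        split
        · rfl
        · rw [MvPolynomial.homogeneousComponent_eq_zero _ _ (by omega), mul_zero]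
      rw [hx', ← hproj y, Nat.add_sub_cancel' ht]
    · rintro ⟨y, -, rfl⟩
      exact ⟨y, rfl⟩
  have hle : (MvPolynomial.homogeneousSubmodule (Fin (r + 1)) k (t - m)).map (LinearMap.mulLeft k f) ≤ P := by
    rintro _ ⟨y, hy, rfl⟩
    have := hf.mul hy
    rwa [Nat.add_sub_cancel' ht] at this
  have h := LinearMap.finrank_range_add_finrank_ker (L.domRestrict P)
  rw [hker, (Submodule.comapSubtypeEquivOfLe hle).finrank_eq,
    ← (Submodule.equivMapOfInjective _ (mul_right_injective₀ hf0) _).finrank_eq,
    (hdim (t - m)).2, hrank, LinearMap.range_domRestrict] at h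
  rw [show t + r - m = t - m + r by omega]
  omega

end Groth.Agent.S12915
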