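import Groth.Statements.S12916
import Mathlib.RingTheory.MvPolynomial.Homogeneous
import Mathlib.RingTheory.Polynomial.Basic
import Mathlib.RingTheory.Ideal.AssociatedPrime.Localization
import Mathlib.RingTheory.Ideal.AssociatedPrime.Finiteness
import Mathlib.RingTheory.FiniteLength
import Mathlib.Algebra.Module.Submodule.Union
import Mathlib.RingTheory.Artinian.Module

set_option autoImplicit false
universe u
open CAlgX

namespace Groth.Agent.S12916

/-- A finitely generated module over a Noetherian ring whose only associated prime is maximal has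
finite length. -/
theorem finiteLength_of_ass {A : Type*} [CommRing A] [IsNoetherianRing A] (m : Ideal A) [hm : m.IsMaximal]
    (T : Type u) [AddCommGroup T] [Module A T] [Module.Finite A T]
    (h : ∀ P ∈ associatedPrimes A T, P = m) : IsFiniteLength A T := by
  have key : ∀ p : Ideal A, p.IsPrime → Module.annihilator A T ≤ p → p = m := by
    intro p hp hle
    obtain ⟨q, hq, hqp⟩ := Ideal.exists_minimalPrimes_le hle
    have := h q (Module.associatedPrimes.minimalPrimes_annihilator_subset_associatedPrimes A T hq)
    subst this
    exact (hm.eq_of_le hp.ne_top hqp).symm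
  clear h
  revert key
  refine IsNoetherianRing.induction_on_isQuotientEquivQuotientPrime (A := A) (M := T) inferInstance
    (motive := fun N _ _ _ => (∀ p : Ideal A, p.IsPrime → Module.annihilator A N ≤ p → p = m) →
      IsFiniteLength A N) ?_ ?_ ?_
  · intro N _ _ _ _ _
    exact .of_subsingleton
  · intro N _ _ _ p e hN
    have hp : p.1 = m := hN p.1 p.2 (by rw [e.annihilator_eq, Ideal.annihilator_quotient])
    have : IsSimpleModule A (A ⧸ p.1) := by
      rw [isSimpleModule_iff_isCoatom, ← Ideal.isMaximal_def, hp]; exact hm
    have : IsSimpleModule A N := IsSimpleModule.congr e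
    exact isFiniteLength_iff_isNoetherian_isArtinian.mpr ⟨inferInstance, inferInstance⟩
  · intro N₁ _ _ _ N₂ _ _ _ N₃ _ _ _ f g hf hg hfg h₁ h₃ h₂
    have a₁ := (isFiniteLength_iff_isNoetherian_isArtinian.mp
      (h₁ fun p hp hle => h₂ p hp ((f.annihilator_le_of_injective hf).trans hle))).2
    have a₃ := (isFiniteLength_iff_isNoetherian_isArtinian.mp
      (h₃ fun p hp hle => h₂ p hp ((g.annihilator_le_of_surjective hg).trans hle))).2
    exact isFiniteLength_iff_isNoetherian_isArtinian.mpr
      ⟨inferInstance, isArtinian_of_range_eq_ker f g hfg.linearMap_ker_eq.symm⟩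

end Groth.Agent.S12916


namespace Groth.Agent.S12916

/-- Let k be an infinite field, S = k[x_0, …, x_r], M a finitely generated S-module and d a natural
number. Then some nonzero homogeneous polynomial f of degree d is quasi-regular on M: the submodule
(0 :_M f) of elements of M annihilated by f has finite length. (The published statement assumes M
graded; this row assumes only that M is finitely generated.) -/
theorem result (k : Type u) [Field k] [Infinite k] (r d : ℕ)
    (M : Type u) [AddCommGroup M] [Module (MvPolynomial (Fin (r + 1)) k) M] [Module.Finite (MvPolynomial (Fin (r + 1)) k) M] :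
    ∃ f : MvPolynomial (Fin (r + 1)) k, f.IsHomogeneous d ∧ f ≠ 0 ∧
      IsFiniteLength (MvPolynomial (Fin (r + 1)) k) ↥(Submodule.torsionBy (MvPolynomial (Fin (r + 1)) k) M f) := by
  classical
  let S := MvPolynomial (Fin (r + 1)) k
  rcases Nat.eq_zero_or_pos d with rfl | hd
  · refine ⟨1, MvPolynomial.isHomogeneous_one _ _, one_ne_zero, ?_⟩
    have : Subsingleton ↥(Submodule.torsionBy S M 1) := by
      rw [Submodule.torsionBy_one]; infer_instance
    exact .of_subsingleton
  let m : Ideal S := RingHom.ker (MvPolynomial.constantCoeff : S →+* k)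
  have hm : m.IsMaximal := RingHom.ker_isMaximal_of_surjective _ (fun c => ⟨MvPolynomial.C c, MvPolynomial.constantCoeff_C _ c⟩)
  have hX : ∀ P : Ideal S, P.IsPrime → (∀ i, MvPolynomial.X i ^ d ∈ P) → P = m := by
    intro P hP h
    have hx : ∀ i, (MvPolynomial.X i : S) ∈ P := fun i => hP.mem_of_pow_mem d (h i)
    have hsub : ∀ p : S, p - MvPolynomial.C (MvPolynomial.constantCoeff p) ∈ P := by
      intro p
      induction p using MvPolynomial.induction_on with
      | C a => simp
      | add p q hp hq =>
        have : p + q - MvPolynomial.C (MvPolynomial.constantCoeff (p + q)) = (p - MvPolynomial.C (MvPolynomial.constantCoeff p)) + (q - MvPolynomial.C (MvPolynomial.constantCoeff q)) := by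
          rw [map_add, map_add]; ring
        rw [this]; exact add_mem hp hq
      | mul_X p i _ => simpa using P.mul_mem_left p (hx i)
    refine (hm.eq_of_le hP.ne_top fun p hp => ?_).symm
    simpa [RingHom.mem_ker.mp hp] using hsub p
  have : Finite ↥{P | P ∈ associatedPrimes S M ∧ P ≠ m} :=
    ((associatedPrimes.finite S M).subset fun P h => h.1).to_subtype
  let V := MvPolynomial.homogeneousSubmodule (Fin (r + 1)) k d
  let W : Option ↥{P | P ∈ associatedPrimes S M ∧ P ≠ m} → Submodule k V :=
    fun o => o.elim ⊥ fun P => (Submodule.restrictScalars k P.1).comap V.subtype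
  have hmemV : ∀ i, (MvPolynomial.X i : S) ^ d ∈ V := fun i => by
    simpa [V] using (MvPolynomial.isHomogeneous_X k i).pow d
  obtain ⟨f, hf⟩ := Submodule.exists_forall_notMem_of_forall_ne_top W (by
    intro o
    rcases o with _ | P
    · intro h
      have : (⟨_, hmemV 0⟩ : V) ∈ W none := h ▸ Submodule.mem_top
      simp [W] at this
    · intro h
      refine P.2.2 (hX P.1 P.2.1.isPrime fun i => ?_)
      have : (⟨_, hmemV i⟩ : V) ∈ W (some P) := h ▸ Submodule.mem_top
      exact this)
  refine ⟨f.1, f.2, ?_, ?_⟩
  · intro h0
    exact hf none (by simp [W, Subtype.ext_iff, h0])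
  refine finiteLength_of_ass m _ fun P hP => ?_
  by_contra hne
  apply hf (some ⟨P, hP.map_of_injective _ (Submodule.injective_subtype _), hne⟩)
  obtain ⟨-, x, hx⟩ := hP
  show f.1 ∈ P
  rw [hx]
  refine Ideal.le_radical ?_
  rw [Submodule.mem_colon_singleton, Submodule.mem_bot]
  exact Subtype.ext x.2

end Groth.Agent.S12916
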