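import Groth.Statements.S12917
import Groth.Agent.L12.GrHB
import Groth.Agent.L12.GrAB
import Groth.Agent.L12.GrSub
import Groth.Agent.L03.PointsPd
import Mathlib.LinearAlgebra.Dimension.Localization
import Mathlib.LinearAlgebra.Dimension.RankNullity

set_option autoImplicit false
universe u
open CAlgX

open Groth.L12.GrSyzLib in
theorem hcomp {k : Type u} [Field k] (d : ℤ) (j : ℕ) {x : MvPolynomial (Fin 3) k}
    (hx : x ∈ GrSyz.stdGr k (Fin 3) d) (h : d ≠ j) : MvPolynomial.homogeneousComponent j x = 0 := by
  rcases lt_or_ge d 0 with hd | hd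
  · have : x = 0 := by
      ext m
      by_contra hm
      have := hx (show MvPolynomial.coeff m x ≠ 0 by simpa using hm)
      rw [weight_one] at this
      omega
    rw [this, map_zero]
  · obtain ⟨n, rfl⟩ := Int.eq_ofNat_of_zero_le hd
    rw [MvPolynomial.homogeneousComponent_of_mem ((MvPolynomial.mem_homogeneousSubmodule _ _).2 (isHomogeneous_of_mem_stdGr hx)), if_neg (by omega)]

open Groth.L12.GrSyzLib

namespace Groth.Agent.S12917

/-- Let k be a field, Z a finite set of nonzero vectors in k^3, regarded as points of the projective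
plane, and I the homogeneous vanishing ideal of Z in S = k[x_0, x_1, x_2]: a polynomial belongs to I
exactly when each of its homogeneous components vanishes at every vector of Z. Then I has a free
resolution of length one: for some t there are a (t+1) × t matrix Ψ over S, injective as a map S^t →
S^{t+1}, and an S-linear map π : S^{t+1} → S with ker π = im Ψ and im π = I. (The published
statement speaks of the minimal free resolution of I having length 1; stated here as the existence
of such a resolution.) -/
theorem result (k : Type u) [Field k]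
    (Z : Finset (Fin 3 → k)) (hZ : ∀ p ∈ Z, p ≠ 0) (I : Ideal (MvPolynomial (Fin 3) k))
    (hI : ∀ f : MvPolynomial (Fin 3) k, f ∈ I ↔
      ∀ p ∈ Z, ∀ j : ℕ, MvPolynomial.eval p (MvPolynomial.homogeneousComponent j f) = 0) :
    ∃ (t : ℕ) (Ψ : Matrix (Fin (t + 1)) (Fin t) (MvPolynomial (Fin 3) k)) (π : (Fin (t + 1) → MvPolynomial (Fin 3) k) →ₗ[MvPolynomial (Fin 3) k] MvPolynomial (Fin 3) k),
      LinearMap.ker Ψ.mulVecLin = ⊥ ∧ LinearMap.ker π = LinearMap.range Ψ.mulVecLin ∧ LinearMap.range π = I := by
  classical
  let S := MvPolynomial (Fin 3) k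
  let 𝒳 := GrSyz.stdGr k (Fin 3)
  have hhom : IsHom 𝒳 I := by
    intro d x hx
    rw [hI] at hx ⊢
    intro p hp j
    rcases lt_trichotomy d j with h | h | h
    rotate_left
    · subst h
      have e : MvPolynomial.homogeneousComponent j (prj 𝒳 (j : ℤ) x) = MvPolynomial.homogeneousComponent j x := by
        obtain ⟨s, hs⟩ := exists_sum_prj 𝒳 x
        conv_rhs => rw [← hs, map_sum]
        rw [Finset.sum_eq_single (j : ℤ)]
        · intro e he hne
          exact hcomp e j (prj_mem 𝒳 e x) hne
        · intro hnot
          have : prj 𝒳 (j : ℤ) x = 0 := by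
            conv_lhs => rw [← hs, map_sum]
            exact Finset.sum_eq_zero fun e he => prj_ne 𝒳 (prj_mem 𝒳 e x) fun h => hnot (h ▸ he)
          rw [this, map_zero]
      rw [e]; exact hx p hp j
    all_goals rw [hcomp d j (prj_mem 𝒳 d x) (by omega), map_zero]
  haveI : Module.Finite S I := Module.Finite.of_fg (IsNoetherian.noetherian I)
  letI := subDec 𝒳 (N := I) hhom
  obtain ⟨F, hF⟩ := exists_minimal_res (k := k) (σ := Fin 3) (M := I) (subGr 𝒳 I)
  have hlen : F.HasLengthLE 1 :=
    (hasLengthLE_iff F hF 1).2 (Groth.L03.PointsPd.hasProjectiveDimensionLE_ideal Z hZ I hI)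
  haveI h2 : IsEmpty (Fin (F.rk 2)) := by rw [hlen 2 (by norm_num)]; infer_instance
  have hinj : LinearMap.ker (Matrix.mulVecLin (F.d 0)) = ⊥ := by
    rw [F.exact_succ 0, LinearMap.range_eq_bot]
    exact LinearMap.ext fun v => by simp [Subsingleton.elim v 0]
  -- the rank
  have hI0 : I ≠ ⊥ := by
    intro h0
    obtain ⟨f, hf, hnd⟩ := exists_mem_not_dvd Z hZ I hI (MvPolynomial.X 0) MvPolynomial.X_prime
    rw [h0, Ideal.mem_bot] at hf
    exact hnd (hf ▸ dvd_zero _)
  have hrank : Module.finrank S I = 1 := by
    have h1 := Submodule.finrank_quotient_add_finrank (R := S) (M := S) I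
    have h2 : Module.finrank S (S ⧸ I) = 0 := by
      obtain ⟨f, hf, hf0⟩ := Submodule.exists_mem_ne_zero_of_ne_bot hI0
      rw [Module.finrank_eq_zero_iff]
      intro x
      obtain ⟨y, rfl⟩ := Submodule.Quotient.mk_surjective I x
      exact ⟨f, hf0, by rw [← Submodule.Quotient.mk_smul, Submodule.Quotient.mk_eq_zero]; exact Ideal.mul_mem_right y I hf⟩
    exact (by rw [h2, zero_add, Module.finrank_self] at h1; exact h1)
  have hr : F.rk 0 = F.rk 1 + 1 := by
    have h1 := Submodule.finrank_quotient_add_finrank (LinearMap.ker F.augLin)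
    rw [(F.augLin.quotKerEquivOfSurjective F.aug_surjective).finrank_eq, hrank] at h1
    rw [F.exact_zero, LinearMap.finrank_range_of_inj (LinearMap.ker_eq_bot.1 hinj), Module.finrank_fin_fun,
      Module.finrank_fin_fun] at h1
    simp only [Nat.zero_add] at h1
    omega
  refine ⟨F.rk 1, fun a b => F.d 0 (Fin.cast hr.symm a) b, (Submodule.subtype I).comp (F.augLin.comp
    (LinearMap.funLeft S S (Fin.cast hr))), ?_, ?_, ?_⟩
  all_goals have hcast : ∀ v : Fin (F.rk 1) → S,
      LinearMap.funLeft S S (Fin.cast hr) ((Matrix.mulVecLin (fun a b => F.d 0 (Fin.cast hr.symm a) b : Matrix _ _ S)) v) =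
        Matrix.mulVecLin (F.d 0) v := fun v => funext fun a => rfl
  · rw [LinearMap.ker_eq_bot']
    intro v hv
    have := hcast v
    rw [hv, map_zero] at this
    exact LinearMap.ker_eq_bot'.1 hinj v this.symm
  · ext w
    have hw := SetLike.ext_iff.1 F.exact_zero (LinearMap.funLeft S S (Fin.cast hr) w)
    simp only [LinearMap.mem_ker, LinearMap.mem_range] at hw
    simp only [LinearMap.mem_ker, LinearMap.mem_range, LinearMap.comp_apply, Submodule.coe_subtype, ZeroMemClass.coe_eq_zero]
    rw [hw]
    constructor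
    · rintro ⟨v, hv⟩
      refine ⟨v, funext fun a => ?_⟩
      have := congrFun ((hcast v).trans hv) (Fin.cast hr.symm a)
      simpa [LinearMap.funLeft] using this
    · rintro ⟨v, rfl⟩
      exact ⟨v, (hcast v).symm⟩
  · rw [LinearMap.range_comp, LinearMap.range_comp, LinearMap.range_eq_top.2 (LinearMap.funLeft_surjective_of_injective _ _ _ (Fin.cast_injective hr)),
      Submodule.map_top, LinearMap.range_eq_top.2 F.aug_surjective, Submodule.map_top, Submodule.range_subtype]

end Groth.Agent.S12917
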