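import Groth.Statements.S12918
import Groth.Agent.L08.Integral

set_option autoImplicit false
universe u v w
open HopfRep

namespace Groth.Agent.S12918
open TensorProduct

/-- Let `k` be a commutative ring, `A` a commutative Hopf algebra over `k`, flat as a `k`-module and `B`
a commutative `k`-algebra with a coaction `ρ : B → B ⊗ A` that is an algebra map (an action of the
affine group scheme `Spec A` on `Spec B`). Then the action admits a total integral — a comodule map
`α : A → B`, for the regular coaction on `A`, with `α 1 = 1` — if and only if `ρ` has a left inverse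
`B ⊗ A → B` which is a comodule map for the coaction `id ⊗ Δ` on `B ⊗ A`. -/
theorem result
    (k : Type u) [CommRing k] (A : Type v) [CommRing A] [HopfAlgebra k A] [Module.Flat k A]
    (B : Type w) [CommRing B] [Algebra k B] [HopfRep.Comod k A B] [GLin.IsCoactAlg k A B] :
    (∃ α : A →ₗ[k] B, Hoch.IsComodHom A α ∧ α 1 = 1) ↔
      ∃ lam : Hoch.Ind k A B →ₗ[k] B, Hoch.IsComodHom A lam ∧ lam ∘ₗ Hoch.toInd k A B = LinearMap.id := by
  constructor
  · rintro ⟨α, hα, h1⟩
    exact ⟨L08.lamInd B α, L08.isComodHom_lamInd hα, L08.lamInd_comp_toInd h1⟩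
  · rintro ⟨lam, hlam, hid⟩
    refine ⟨lam ∘ₗ (Hoch.Ind.equiv k A B).toLinearMap ∘ₗ TensorProduct.mk k B A 1, ?_, ?_⟩
    · refine LinearMap.ext fun a => ?_
      let g : B ⊗[k] A →ₗ[k] B := lam
      have hg : ∀ y, HopfRep.Comod.coact (k := k) (A := A) (g y) =
          g.rTensor A (Hoch.Ind.coactAux k A B y) := fun y => LinearMap.congr_fun hlam y
      change HopfRep.Comod.coact (k := k) (A := A) (g (1 ⊗ₜ a)) =
        (g ∘ₗ TensorProduct.mk k B A 1).rTensor A (Coalgebra.comul (R := k) a)
      rw [hg, Hoch.Ind.coactAux_tmul]
      induction Coalgebra.comul (R := k) a with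
      | zero => simp
      | add x y hx hy => simp only [tmul_add, map_add, hx, hy]
      | tmul x y => simp
    · have h := LinearMap.congr_fun hid (1 : B)
      rw [LinearMap.comp_apply, Hoch.toInd, LinearMap.comp_apply,
        GLin.IsCoactAlg.coact_one (k := k) (A := A) (R := B), Algebra.TensorProduct.one_def] at h
      simpa using h

end Groth.Agent.S12918
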