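import Groth.Statements.S12919
import Groth.Agent.L08.Integral

set_option autoImplicit false
universe u v w w'
open HopfRep

namespace Groth.Agent.S12919

/-- Let `k` be a commutative ring, `A` a commutative Hopf algebra over `k`, flat as a `k`-module, `B` a
commutative `k`-algebra with a coaction of `A` that is an algebra map, and `α : A → B` a total
integral (a comodule map with `α 1 = 1`). For every `B`-module `M` with a compatible `A`-coaction,
the map `m ↦ Σ α(S(m₁)) • m₀` lands in the invariants `M^A = {m | ρ(m) = m ⊗ 1}` and is the identity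
on them: it is a `k`-linear projector of `M` onto `M^A`. -/
theorem result
    (k : Type u) [CommRing k] (A : Type v) [CommRing A] [HopfAlgebra k A] [Module.Flat k A]
    (B : Type w) [CommRing B] [Algebra k B] [HopfRep.Comod k A B] [GLin.IsCoactAlg k A B]
    (α : A →ₗ[k] B) (hα : Hoch.IsComodHom A α) (hα1 : α 1 = 1)
    (M : Type w') [AddCommGroup M] [Module k M] [Module B M] [IsScalarTower k B M]
    [HopfRep.Comod k A M] [TameAct.IsHopfMod k A B M] :
    (∀ m : M, TameAct.reynolds k A B M α m ∈ HopfRep.fixedPts k A M) ∧
      ∀ m ∈ HopfRep.fixedPts k A M, TameAct.reynolds k A B M α m = m := by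
  exact ⟨L08.reynolds_mem_fixedPts hα, fun m hm => L08.reynolds_of_mem_fixedPts hα1 hm⟩

end Groth.Agent.S12919
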