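import Groth.Statements.S12922
import Groth.Agent.L08.Integral

set_option autoImplicit false
universe u v w
open HopfRep

namespace Groth.Agent.S12922

/-- Let `k` be a commutative ring, `A` a commutative Hopf algebra over `k`, flat as a `k`-module, `B` a
commutative `k`-algebra with a coaction of `A` that is an algebra map and admits a total integral (a
comodule map `α : A → B` with `α 1 = 1`), and `C = B^A` the ring of invariants. Then `Spec B → Spec
C` is surjective: every prime ideal of `C` is the contraction of a prime ideal of `B`. (The
published statement assumes only that taking invariants is exact on `(B, A)`-modules; a total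
integral, assumed here, gives that exactness.) -/
theorem result
    (k : Type u) [CommRing k] (A : Type v) [CommRing A] [HopfAlgebra k A] [Module.Flat k A]
    (B : Type w) [CommRing B] [Algebra k B] [HopfRep.Comod k A B] [GLin.IsCoactAlg k A B]
    (htame : ∃ α : A →ₗ[k] B, Hoch.IsComodHom A α ∧ α 1 = 1) :
    Function.Surjective (PrimeSpectrum.comap (algebraMap (GLin.invariants k A B) B)) := by
  obtain ⟨α, hα, h1⟩ := htame
  intro p
  obtain ⟨q, hq, hqp⟩ := (Ideal.comap_map_eq_self_iff_of_isPrime p.asIdeal).1
    (L08.comap_map_invariants hα h1 p.asIdeal)
  exact ⟨⟨q, hq⟩, PrimeSpectrum.ext hqp⟩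

end Groth.Agent.S12922
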