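import Groth.Statements.S12924
import Groth.Agent.L08.Integral
import Mathlib.AlgebraicGeometry.AffineScheme
import Mathlib.AlgebraicGeometry.Gluing
import Mathlib.RingTheory.Localization.Away.Basic
import Mathlib.RingTheory.Flat.Basic
import Mathlib.RingTheory.Spectrum.Prime.Topology
import Mathlib.RingTheory.Nilpotent.Lemmas

set_option autoImplicit false
universe u
open CategoryTheory AlgebraicGeometry
open HopfRep Limits

namespace Groth.Agent.S12924

noncomputable section

section Aux

variable {k : Type u} [CommRing k] {A : Type u} [CommRing A] [HopfAlgebra k A]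
  {B : Type u} [CommRing B] [Algebra k B] [HopfRep.Comod k A B] [GLin.IsCoactAlg k A B]

/-- the coaction as a ring map -/
abbrev rho (k A B : Type u) [CommRing k] [CommRing A] [HopfAlgebra k A] [CommRing B] [Algebra k B]
    [HopfRep.Comod k A B] [GLin.IsCoactAlg k A B] : B →+* TensorProduct k B A :=
  (GLin.coactAlgHom k A B).toRingHom

/-- the inclusion of the left factor -/
abbrev inL (k A B : Type u) [CommRing k] [CommRing A] [HopfAlgebra k A] [CommRing B] [Algebra k B] :
    B →+* TensorProduct k B A := Algebra.TensorProduct.includeLeftRingHom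

/-- the largest invariant ideal inside `I` -/
def core (k A : Type u) [CommRing k] [CommRing A] [HopfAlgebra k A] {B : Type u} [CommRing B]
    [Algebra k B] [HopfRep.Comod k A B] [GLin.IsCoactAlg k A B] (I : Ideal B) : Ideal B := (I.map (inL k A B)).comap (rho k A B)

theorem core_le (I : Ideal B) : core k A I ≤ I := by
  intro b hb
  let e : TensorProduct k B A →ₐ[k] B := (Algebra.TensorProduct.rid k k B).toAlgHom.comp
    (Algebra.TensorProduct.map (AlgHom.id k B) (Bialgebra.counitAlgHom k A))
  have h1 : ∀ x ∈ I.map (inL k A B), e x ∈ I := by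
    have : I.map (inL k A B) ≤ I.comap e.toRingHom := by
      rw [Ideal.map_le_iff_le_comap]
      intro x hx
      simpa [e] using hx
    exact fun x hx => this hx
  have h2 : e (GLin.coactAlgHom k A B b) = b := by
    have h := LinearMap.congr_fun (HopfRep.Comod.counit_comp (k := k) (A := A) (V := B)) b
    have h3 : ∀ x, e x = TensorProduct.rid k B ((CoalgebraStruct.counit (R := k) (A := A)).lTensor B x) := by
      intro x
      induction x using TensorProduct.induction_on with
      | zero => simp
      | tmul y a => simp [e]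
      | add x y hx hy => simp only [map_add, hx, hy]
    rw [h3]
    simp only [LinearMap.comp_apply] at h
    rw [GLin.coactAlgHom_apply, h]
    simp
  rw [← h2]
  exact h1 _ hb

theorem isSubcomod_core [Module.Flat k A] (I : Ideal B) :
    HopfRep.IsSubcomod (k := k) (A := A) ((core k A I).restrictScalars k) := by
  intro b hb
  let qI : B →ₐ[k] B ⧸ I := Ideal.Quotient.mkₐ k I
  let g : B →ₗ[k] TensorProduct k (B ⧸ I) A :=
    qI.toLinearMap.rTensor A ∘ₗ HopfRep.Comod.coact (k := k) (A := A)
  have hker : ∀ x : B, g x = 0 ↔ GLin.coactAlgHom k A B x ∈ I.map (inL k A B) := by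
    intro x
    have hk : RingHom.ker (Algebra.TensorProduct.map qI (AlgHom.id k A)) = I.map (inL k A B) := by
      rw [Algebra.TensorProduct.rTensor_ker _ (Ideal.Quotient.mkₐ_surjective k I),
        show RingHom.ker qI = I from Ideal.Quotient.mkₐ_ker k I]
      rfl
    rw [← hk]
    rfl
  have hex : Function.Exact ((core k A I).restrictScalars k).subtype g := by
    intro x
    refine ⟨fun h => ⟨⟨x, (hker x).mp h⟩, rfl⟩, ?_⟩
    rintro ⟨y, rfl⟩
    exact (hker _).mpr y.2
  refine (Module.Flat.rTensor_exact A hex _).mp ?_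
  have hb' : g b = 0 := (hker b).mpr hb
  have hco := LinearMap.congr_fun (HopfRep.Comod.coassoc (k := k) (A := A) (V := B)) b
  simp only [LinearMap.comp_apply, LinearEquiv.coe_coe] at hco
  simp only [g, LinearMap.comp_apply] at hb' ⊢
  rw [LinearMap.rTensor_comp_apply]
  apply (TensorProduct.assoc k (B ⧸ I) A A).injective
  have h1 : ∀ z : TensorProduct k (TensorProduct k B A) A,
      TensorProduct.assoc k (B ⧸ I) A A ((qI.toLinearMap.rTensor A).rTensor A z) =
        qI.toLinearMap.rTensor (TensorProduct k A A) (TensorProduct.assoc k B A A z) := by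
    intro z
    induction z using TensorProduct.induction_on with
    | zero => simp
    | add x y hx hy => simp only [map_add, hx, hy]
    | tmul w a =>
      induction w using TensorProduct.induction_on with
      | zero => simp
      | add x y hx hy => simp only [TensorProduct.add_tmul, map_add, hx, hy]
      | tmul y c => simp
  rw [h1, hco, ← LinearMap.comp_apply, LinearMap.rTensor_comp_lTensor, ← LinearMap.lTensor_comp_rTensor,
    LinearMap.comp_apply, hb', map_zero, map_zero]

theorem coact_invariant (c : (GLin.invariants k A B)) : (rho k A B) (c : B) = (inL k A B) (c : B) := c.2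

variable {Z : Scheme.{u}} (ψ : Spec (CommRingCat.of B) ⟶ Z)
  (hψ : Spec.map (CommRingCat.ofHom (rho k A B)) ≫ ψ = Spec.map (CommRingCat.ofHom (inL k A B)) ≫ ψ)

include hψ

theorem comap_mem_iff (U : Z.Opens) (P : PrimeSpectrum (TensorProduct k B A)) :
    ψ (PrimeSpectrum.comap (rho k A B) P) ∈ U ↔ ψ (PrimeSpectrum.comap (inL k A B) P) ∈ U := by
  have h := congrArg (fun a : Spec (CommRingCat.of (TensorProduct k B A)) ⟶ Z => a P) hψ
  simp only [Scheme.Hom.comp_base, TopCat.comp_app] at h
  exact Iff.of_eq (congrArg (· ∈ U) h)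

/-- the complement of the preimage of an open set is cut out by an invariant ideal -/
theorem zeroLocus_core (U : Z.Opens) :
    PrimeSpectrum.zeroLocus (core k A (PrimeSpectrum.vanishingIdeal (ψ ⁻¹' (U : Set Z))ᶜ) : Set B) =
      (ψ ⁻¹' (U : Set Z))ᶜ := by
  set W := ψ ⁻¹' (U : Set Z) with hW
  set I := PrimeSpectrum.vanishingIdeal Wᶜ with hI
  have hcl : PrimeSpectrum.zeroLocus (I : Set B) = Wᶜ := by
    rw [hI, PrimeSpectrum.zeroLocus_vanishingIdeal_eq_closure]
    exact IsClosed.closure_eq ((U.2.preimage ψ.continuous).isClosed_compl)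
  refine Set.Subset.antisymm ?_ ?_
  · intro Q hQ
    rw [← hcl]
    intro b hb
    have hrad : (rho k A B) b ∈ (I.map (inL k A B)).radical := by
      rw [Ideal.radical_eq_sInf, Ideal.mem_sInf]
      rintro P ⟨hle, hP⟩
      have h1 : (⟨P, hP⟩ : PrimeSpectrum (TensorProduct k B A)).comap (inL k A B) ∈
          PrimeSpectrum.zeroLocus (I : Set B) := fun x hx => hle (Ideal.mem_map_of_mem _ hx)
      rw [hcl] at h1
      have h2 : (⟨P, hP⟩ : PrimeSpectrum (TensorProduct k B A)).comap (rho k A B) ∈
          PrimeSpectrum.zeroLocus (I : Set B) := by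
        rw [hcl]
        exact fun h => h1 ((comap_mem_iff ψ hψ U _).mp h)
      exact h2 hb
    obtain ⟨N, hN⟩ := hrad
    refine Q.2.mem_of_pow_mem N (hQ ?_)
    show (rho k A B) (b ^ N) ∈ I.map (inL k A B)
    rw [map_pow]
    exact hN
  · conv_lhs => rw [← hcl]
    exact PrimeSpectrum.zeroLocus_anti_mono (core_le I)

/-- elements of the invariants whose distinguished open maps into an affine open -/
theorem exists_gens [Module.Flat k A] {α : A →ₗ[k] B} (hα : Hoch.IsComodHom A α) (hα1 : α 1 = 1) :
    Ideal.span {g : (GLin.invariants k A B) | ∃ U : Z.Opens, IsAffineOpen U ∧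
      (PrimeSpectrum.basicOpen (g : B) : Set (PrimeSpectrum B)) ⊆ ψ ⁻¹' (U : Set Z)} = ⊤ := by
  let J : Z.affineOpens → Ideal B := fun U =>
    core k A (PrimeSpectrum.vanishingIdeal (ψ ⁻¹' (U.1 : Set Z))ᶜ)
  have hJ : (⨆ U, J U) = ⊤ := by
    by_contra hne
    obtain ⟨M, hM, hle⟩ := Ideal.exists_le_maximal _ hne
    let Q : PrimeSpectrum B := ⟨M, hM.isPrime⟩
    obtain ⟨U, hU, hx, -⟩ :=
      Z.isBasis_affineOpens.exists_subset_of_mem_open (Set.mem_univ (ψ Q)) isOpen_univ
    obtain ⟨U, hU', rfl⟩ := hU
    have h1 : Q ∈ PrimeSpectrum.zeroLocus (J ⟨U, hU'⟩ : Set B) :=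
      fun x hx => hle (le_iSup J ⟨U, hU'⟩ hx)
    rw [zeroLocus_core ψ hψ U] at h1
    exact h1 hx
  have h1 : ∀ b ∈ ⨆ U, J U, Groth.L08.reynoldsInv hα b ∈ Ideal.span {g : (GLin.invariants k A B) | ∃ U : Z.Opens, IsAffineOpen U ∧
      (PrimeSpectrum.basicOpen (g : B) : Set (PrimeSpectrum B)) ⊆ ψ ⁻¹' (U : Set Z)} := by
    intro b hb
    induction hb using Submodule.iSup_induction' with
    | mem U x hx =>
      refine Ideal.subset_span ⟨U.1, U.2, fun Q hQ => ?_⟩
      by_contra hQ'
      have h2 : Q ∈ PrimeSpectrum.zeroLocus (J U : Set B) := by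
        rw [zeroLocus_core ψ hψ U.1]; exact hQ'
      exact hQ (h2 (Groth.L08.reynolds_mem_of_isSubcomod (isSubcomod_core _) hx))
    | zero => rw [map_zero]; exact Ideal.zero_mem _
    | add x y _ _ hx hy => rw [map_add]; exact Ideal.add_mem _ hx hy
  rw [hJ] at h1
  have := h1 (algebraMap (GLin.invariants k A B) B 1) trivial
  rw [Groth.L08.reynoldsInv_algebraMap hα hα1] at this
  exact (Ideal.eq_top_iff_one _).mpr this

omit hψ

/-- the map `(GLin.invariants k A B)[1/g] → B[1/g]` -/
def jAway (g : (GLin.invariants k A B)) : Localization.Away g →+* Localization.Away (algebraMap (GLin.invariants k A B) B g) :=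
  Localization.awayMap (algebraMap (GLin.invariants k A B) B) g

theorem jAway_injective (g : (GLin.invariants k A B)) : Function.Injective (jAway g) :=
  (Localization.awayMap_injective_iff).mpr fun a ha => ⟨0, by
    rw [pow_zero, _root_.one_mul]; exact Subtype.ext ha⟩

theorem jAway_algebraMap (g x : (GLin.invariants k A B)) :
    jAway g (algebraMap (GLin.invariants k A B) (Localization.Away g) x) =
      algebraMap B (Localization.Away (algebraMap (GLin.invariants k A B) B g)) (x : B) :=
  by delta jAway Localization.awayMap IsLocalization.Away.map; exact IsLocalization.map_eq _ x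

/-- `Spec` of `jAway`, followed by the structure map -/
theorem jAway_spec (g : (GLin.invariants k A B)) :
    Spec.map (CommRingCat.ofHom (jAway g)) ≫ Spec.map (CommRingCat.ofHom (algebraMap (GLin.invariants k A B) (Localization.Away g))) =
      Spec.map (CommRingCat.ofHom (algebraMap B (Localization.Away (algebraMap (GLin.invariants k A B) B g)))) ≫
        Spec.map (CommRingCat.ofHom (algebraMap (GLin.invariants k A B) B)) := by
  rw [← Spec.map_comp, ← Spec.map_comp]
  congr 1
  ext x
  exact jAway_algebraMap g x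

theorem jAway_surjective [Module.Flat k A] {α : A →ₗ[k] B} (hα : Hoch.IsComodHom A α) (hα1 : α 1 = 1)
    (g : (GLin.invariants k A B)) (q : PrimeSpectrum (Localization.Away g)) :
    ∃ P : PrimeSpectrum (Localization.Away (algebraMap (GLin.invariants k A B) B g)), P.comap (jAway g) = q := by
  let q₀ := q.comap (algebraMap (GLin.invariants k A B) (Localization.Away g))
  obtain ⟨P, hP, hPq⟩ := (Ideal.comap_map_eq_self_iff_of_isPrime (p := q₀.asIdeal)
    (f := algebraMap (GLin.invariants k A B) B)).mp (Groth.L08.comap_map_invariants hα hα1 _)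
  have hg : algebraMap (GLin.invariants k A B) B g ∉ P := by
    intro h
    have h' : g ∈ P.comap (algebraMap (GLin.invariants k A B) B) := h
    rw [hPq] at h'
    exact q.2.ne_top (Ideal.eq_top_of_isUnit_mem _ h' (IsLocalization.Away.algebraMap_isUnit g))
  obtain ⟨P', hP'⟩ : (⟨P, hP⟩ : PrimeSpectrum B) ∈ Set.range (PrimeSpectrum.comap
      (algebraMap B (Localization.Away (algebraMap (GLin.invariants k A B) B g)))) := by
    rw [PrimeSpectrum.localization_away_comap_range _ (algebraMap (GLin.invariants k A B) B g)]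
    exact hg
  refine ⟨P', PrimeSpectrum.localization_comap_injective (Localization.Away g) (Submonoid.powers g) ?_⟩
  refine PrimeSpectrum.ext ?_
  rw [← hPq, show P = (P'.comap (algebraMap B (Localization.Away (algebraMap (GLin.invariants k A B) B g)))).asIdeal by rw [hP']]
  ext x
  simp only [PrimeSpectrum.comap_asIdeal, Ideal.mem_comap, jAway_algebraMap]
  rfl

/-- `ψ` on the distinguished open of `g` -/
def psiAway (g : (GLin.invariants k A B)) : Spec (CommRingCat.of (Localization.Away (algebraMap (GLin.invariants k A B) B g))) ⟶ Z :=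
  Spec.map (CommRingCat.ofHom (algebraMap B (Localization.Away (algebraMap (GLin.invariants k A B) B g)))) ≫ ψ

theorem range_psiAway (g : (GLin.invariants k A B)) {U : Z.Opens} (hU : IsAffineOpen U)
    (hg : (PrimeSpectrum.basicOpen (g : B) : Set (PrimeSpectrum B)) ⊆ ψ ⁻¹' (U : Set Z)) :
    Set.range (psiAway ψ g) ⊆ Set.range hU.fromSpec := by
  rw [hU.range_fromSpec]
  rintro _ ⟨P, rfl⟩
  refine hg ?_
  have : (PrimeSpectrum.comap (algebraMap B (Localization.Away (algebraMap (GLin.invariants k A B) B g))) P) ∈
      Set.range (PrimeSpectrum.comap (algebraMap B (Localization.Away (algebraMap (GLin.invariants k A B) B g)))) := ⟨P, rfl⟩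
  rw [PrimeSpectrum.localization_away_comap_range _ (algebraMap (GLin.invariants k A B) B g)] at this
  exact this

theorem ext_away [Module.Flat k A] {α : A →ₗ[k] B} (hα : Hoch.IsComodHom A α) (hα1 : α 1 = 1)
    (g : (GLin.invariants k A B)) {U : Z.Opens} (hU : IsAffineOpen U)
    (hg : (PrimeSpectrum.basicOpen (g : B) : Set (PrimeSpectrum B)) ⊆ ψ ⁻¹' (U : Set Z))
    (a a' : Spec (CommRingCat.of (Localization.Away g)) ⟶ Z)
    (ha : Spec.map (CommRingCat.ofHom (jAway g)) ≫ a = psiAway ψ g)
    (ha' : Spec.map (CommRingCat.ofHom (jAway g)) ≫ a' = psiAway ψ g) : a = a' := by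
  have hr : ∀ b : Spec (CommRingCat.of (Localization.Away g)) ⟶ Z,
      Spec.map (CommRingCat.ofHom (jAway g)) ≫ b = psiAway ψ g → Set.range b ⊆ Set.range hU.fromSpec := by
    rintro b hb _ ⟨q, rfl⟩
    obtain ⟨P, hP⟩ := jAway_surjective hα hα1 g q
    refine range_psiAway ψ g hU hg ⟨P, ?_⟩
    rw [← hb, ← hP]
    rfl
  obtain ⟨f, hf⟩ : ∃ f, Spec.map f = IsOpenImmersion.lift hU.fromSpec a (hr a ha) :=
    ⟨_, Spec.map_preimage _⟩
  obtain ⟨f', hf'⟩ : ∃ f', Spec.map f' = IsOpenImmersion.lift hU.fromSpec a' (hr a' ha') :=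
    ⟨_, Spec.map_preimage _⟩
  suffices h : f = f' by
    rw [← IsOpenImmersion.lift_fac hU.fromSpec a (hr a ha),
      ← IsOpenImmersion.lift_fac hU.fromSpec a' (hr a' ha'), ← hf, ← hf', h]
  have h2 : f ≫ CommRingCat.ofHom (jAway g) = f' ≫ CommRingCat.ofHom (jAway g) := by
    apply Spec.map_injective
    rw [Spec.map_comp, Spec.map_comp, ← cancel_mono hU.fromSpec, Category.assoc, Category.assoc, hf, hf',
      IsOpenImmersion.lift_fac, IsOpenImmersion.lift_fac, ha, ha']
  ext x
  exact jAway_injective g (congrArg (fun e => e.hom x) h2)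

include hψ

theorem exists_away (g : (GLin.invariants k A B)) {U : Z.Opens} (hU : IsAffineOpen U)
    (hg : (PrimeSpectrum.basicOpen (g : B) : Set (PrimeSpectrum B)) ⊆ ψ ⁻¹' (U : Set Z)) :
    ∃ a : Spec (CommRingCat.of (Localization.Away g)) ⟶ Z,
      Spec.map (CommRingCat.ofHom (jAway g)) ≫ a = psiAway ψ g := by
  let g' : B := algebraMap (GLin.invariants k A B) B g
  let T := Localization.Away ((inL k A B) g')
  have hu : ∀ (e : B →+* TensorProduct k B A), e g' = (inL k A B) g' →
      IsUnit ((algebraMap (TensorProduct k B A) T).comp e g') := by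
    intro e he
    rw [RingHom.comp_apply, he]
    exact IsLocalization.Away.algebraMap_isUnit _
  let ρg : Localization.Away g' →+* T := IsLocalization.Away.lift g' (hu (rho k A B) (coact_invariant g))
  let ιg : Localization.Away g' →+* T := IsLocalization.Away.lift g' (hu (inL k A B) rfl)
  have hρg : ρg.comp (algebraMap B _) = (algebraMap (TensorProduct k B A) T).comp (rho k A B) :=
    IsLocalization.Away.lift_comp _ _
  have hιg : ιg.comp (algebraMap B _) = (algebraMap (TensorProduct k B A) T).comp (inL k A B) :=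
    IsLocalization.Away.lift_comp _ _
  obtain ⟨f, hf⟩ : ∃ f, Spec.map f = IsOpenImmersion.lift hU.fromSpec (psiAway ψ g) (range_psiAway ψ g hU hg) :=
    ⟨_, Spec.map_preimage _⟩
  have hh : ∀ (e : B →+* TensorProduct k B A) (eg : Localization.Away g' →+* T),
      eg.comp (algebraMap B (Localization.Away g')) = (algebraMap (TensorProduct k B A) T).comp e →
      Spec.map (CommRingCat.ofHom eg) ≫ psiAway ψ g =
        Spec.map (CommRingCat.ofHom (algebraMap (TensorProduct k B A) T)) ≫ Spec.map (CommRingCat.ofHom e) ≫ ψ := by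
    intro e eg h
    rw [psiAway, ← Category.assoc, ← Category.assoc, ← Spec.map_comp, ← Spec.map_comp]
    refine congrArg (fun r => Spec.map r ≫ ψ) ?_
    ext b
    exact RingHom.congr_fun h b
  have heq : f ≫ CommRingCat.ofHom ρg = f ≫ CommRingCat.ofHom ιg := by
    apply Spec.map_injective
    rw [Spec.map_comp, Spec.map_comp, ← cancel_mono hU.fromSpec, Category.assoc, Category.assoc, hf,
      IsOpenImmersion.lift_fac, hh _ _ hρg, hh _ _ hιg, hψ]
  have hrange : ∀ x, ∃ y, jAway g y = f.hom x := by
    intro x
    have hx : ρg (f.hom x) = ιg (f.hom x) := congrArg (fun e => e.hom x) heq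
    obtain ⟨⟨b, ⟨_, n, rfl⟩⟩, hb⟩ := IsLocalization.surj (Submonoid.powers g') (f.hom x)
    simp only [map_pow] at hb
    have h1 := congrArg ρg hb
    have h2 := congrArg ιg hb
    have hcρ : ∀ b, ρg (algebraMap B _ b) = algebraMap (TensorProduct k B A) T (rho k A B b) :=
      RingHom.congr_fun hρg
    have hcι : ∀ b, ιg (algebraMap B _ b) = algebraMap (TensorProduct k B A) T (inL k A B b) :=
      RingHom.congr_fun hιg
    rw [map_mul, map_pow, hcρ, hcρ, hx, show rho k A B g' = inL k A B g' from coact_invariant g] at h1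
    rw [map_mul, map_pow, hcι, hcι] at h2
    obtain ⟨⟨_, m, rfl⟩, hm⟩ := IsLocalization.exists_of_eq (M := Submonoid.powers ((inL k A B) g')) (h1.symm.trans h2)
    have hinv : g' ^ m * b ∈ (GLin.invariants k A B) := by
      show (rho k A B) (g' ^ m * b) = (inL k A B) (g' ^ m * b)
      rw [map_mul, map_mul, map_pow, map_pow, show (rho k A B) g' = (inL k A B) g' from coact_invariant g]
      exact hm
    refine ⟨IsLocalization.mk' (Localization.Away g) ⟨g' ^ m * b, hinv⟩
      (⟨g ^ (n + m), n + m, rfl⟩ : Submonoid.powers g), ?_⟩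
    refine (IsLocalization.Away.algebraMap_pow_isUnit g' (n + m)).mul_left_injective ?_
    beta_reduce
    have e1 : jAway g (IsLocalization.mk' (Localization.Away g) ⟨g' ^ m * b, hinv⟩
        (⟨g ^ (n + m), n + m, rfl⟩ : Submonoid.powers g)) *
        algebraMap B (Localization.Away g') g' ^ (n + m) = algebraMap B (Localization.Away g') (g' ^ m * b) := by
      have h3 := congrArg (jAway g) (IsLocalization.mk'_spec (Localization.Away g) (⟨g' ^ m * b, hinv⟩ : (GLin.invariants k A B))
        (⟨g ^ (n + m), n + m, rfl⟩ : Submonoid.powers g))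
      rw [map_mul, jAway_algebraMap, jAway_algebraMap] at h3
      simp only [SubmonoidClass.coe_pow, map_pow] at h3
      exact h3
    rw [e1, pow_add, ← _root_.mul_assoc, hb, map_mul, map_pow]
    exact mul_comm _ _
  let e := RingEquiv.ofBijective (jAway g).rangeRestrict
    ⟨fun x y h => jAway_injective g (congrArg Subtype.val h), (jAway g).rangeRestrict_surjective⟩
  let f₀ : Γ(Z, U) →+* Localization.Away g :=
    e.symm.toRingHom.comp (f.hom.codRestrict (jAway g).range fun x => hrange x)
  have hf₀ : (jAway g).comp f₀ = f.hom := by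
    ext x
    exact congrArg Subtype.val (e.apply_symm_apply _)
  refine ⟨Spec.map (CommRingCat.ofHom f₀) ≫ hU.fromSpec, ?_⟩
  rw [← Spec.map_comp_assoc, ← CommRingCat.ofHom_comp, hf₀, CommRingCat.ofHom_hom, hf,
    IsOpenImmersion.lift_fac]

end Aux

/-- Let `k` be a commutative ring, `A` a commutative Hopf algebra over `k`, flat as a `k`-module, `B` a
commutative `k`-algebra with a coaction `ρ : B → B ⊗ A` that is an algebra map and admits a total
integral (a comodule map `α : A → B` with `α 1 = 1`), and `C = B^A`. Then `Spec B → Spec C` is a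
categorical quotient of the action in the category of schemes: for every scheme `Z` and every
morphism `ψ : Spec B → Z` which is invariant, i.e. has the same composite with `Spec (B ⊗ A) → Spec
B` induced by `ρ` and by `b ↦ b ⊗ 1`, there is exactly one morphism `Spec C → Z` through which `ψ`
factors. (The published statement assumes only that taking invariants is exact on `(B, A)`-modules;
a total integral, assumed here, gives that exactness.) -/
theorem result
    (k : Type u) [CommRing k] (A : Type u) [CommRing A] [HopfAlgebra k A] [Module.Flat k A]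
    (B : Type u) [CommRing B] [Algebra k B] [HopfRep.Comod k A B] [GLin.IsCoactAlg k A B]
    (htame : ∃ α : A →ₗ[k] B, Hoch.IsComodHom A α ∧ α 1 = 1)
    (Z : Scheme.{u}) (ψ : Spec (CommRingCat.of B) ⟶ Z)
    (hψ : Spec.map (CommRingCat.ofHom (GLin.coactAlgHom k A B).toRingHom) ≫ ψ =
      Spec.map (CommRingCat.ofHom
        (Algebra.TensorProduct.includeLeftRingHom : B →+* TensorProduct k B A)) ≫ ψ) :
    ∃! χ : Spec (CommRingCat.of (GLin.invariants k A B)) ⟶ Z,
      Spec.map (CommRingCat.ofHom (algebraMap (GLin.invariants k A B) B)) ≫ χ = ψ := by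
  obtain ⟨α, hα, hα1⟩ := htame
  let G : Set (GLin.invariants k A B) := {g | ∃ U : Z.Opens, IsAffineOpen U ∧
      (PrimeSpectrum.basicOpen (g : B) : Set (PrimeSpectrum B)) ⊆ ψ ⁻¹' (U : Set Z)}
  have hG : Ideal.span (Set.range (Subtype.val : G → GLin.invariants k A B)) = ⊤ := by
    rw [Subtype.range_coe]; exact exists_gens ψ hψ hα hα1
  let 𝒰 := (Scheme.affineOpenCoverOfSpanRangeEqTop
    (R := CommRingCat.of (GLin.invariants k A B)) (Subtype.val : G → GLin.invariants k A B) hG).openCover
  choose U hU hgU using fun g : G => g.2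
  choose a ha using fun g : G => exists_away ψ hψ g.1 (hU g) (hgU g)
  let fG : ∀ g : G, Spec (CommRingCat.of (Localization.Away g.1)) ⟶ Spec (CommRingCat.of (GLin.invariants k A B)) :=
    fun g => Spec.map (CommRingCat.ofHom (algebraMap (GLin.invariants k A B) (Localization.Away g.1)))
  haveI : ∀ g : G, IsOpenImmersion (fG g) := fun g => inferInstanceAs (IsOpenImmersion (𝒰.f g))
  have hcompat : ∀ x y : G, pullback.fst (fG x) (fG y) ≫ a x = pullback.snd _ _ ≫ a y := by
    intro x y
    let z : GLin.invariants k A B := x.1 * y.1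
    let loc := Spec.map (CommRingCat.ofHom (algebraMap (GLin.invariants k A B) (Localization.Away z)))
    have hlift : ∀ w : G, w.1 ∣ z → ∃ r : Localization.Away w.1 →+* Localization.Away z,
        r.comp (algebraMap (GLin.invariants k A B) _) = algebraMap _ _ ∧
        Spec.map (CommRingCat.ofHom (jAway z)) ≫ Spec.map (CommRingCat.ofHom r) ≫ a w = psiAway ψ z := by
      intro w hw
      have hu : IsUnit (algebraMap (GLin.invariants k A B) (Localization.Away z) w.1) :=
        isUnit_of_dvd_unit (map_dvd _ hw) (IsLocalization.Away.algebraMap_isUnit z)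
      refine ⟨IsLocalization.Away.lift w.1 hu, IsLocalization.Away.lift_comp _ _, ?_⟩
      have hu' : IsUnit (algebraMap B (Localization.Away (algebraMap (GLin.invariants k A B) B z))
          (algebraMap (GLin.invariants k A B) B w.1)) :=
        isUnit_of_dvd_unit (map_dvd _ (map_dvd _ hw)) (IsLocalization.Away.algebraMap_isUnit _)
      have hsq : (jAway z).comp (IsLocalization.Away.lift w.1 hu) =
          (IsLocalization.Away.lift (algebraMap (GLin.invariants k A B) B w.1) hu').comp (jAway w.1) := by
        apply IsLocalization.ringHom_ext (Submonoid.powers w.1)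
        ext b
        simp only [RingHom.comp_apply, IsLocalization.Away.lift_eq, jAway_algebraMap]
      rw [← Spec.map_comp_assoc, ← CommRingCat.ofHom_comp, hsq, CommRingCat.ofHom_comp,
        Spec.map_comp_assoc, ha, psiAway, psiAway, ← Spec.map_comp_assoc, ← CommRingCat.ofHom_comp,
        IsLocalization.Away.lift_comp]
    obtain ⟨rx, hrx, hax⟩ := hlift x (dvd_mul_right _ _)
    obtain ⟨ry, hry, hay⟩ := hlift y (dvd_mul_left _ _)
    have heq : Spec.map (CommRingCat.ofHom rx) ≫ a x = Spec.map (CommRingCat.ofHom ry) ≫ a y :=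
      ext_away ψ hα hα1 z (hU x) (fun Q hQ => hgU x (fun h => hQ (by
        show ((x.1 * y.1 : GLin.invariants k A B) : B) ∈ Q.asIdeal
        rw [MulMemClass.coe_mul]
        exact Q.asIdeal.mul_mem_right _ h))) _ _ hax hay
    have hp : ∃ i : pullback (fG x) (fG y) ⟶ Spec (CommRingCat.of (Localization.Away z)),
        i ≫ Spec.map (CommRingCat.ofHom rx) = pullback.fst _ _ ∧
        i ≫ Spec.map (CommRingCat.ofHom ry) = pullback.snd _ _ := by
      have hrange : Set.range (pullback.fst (fG x) (fG y) ≫ fG x) ⊆ Set.range loc := by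
        rw [IsOpenImmersion.range_pullback_to_base_of_left]
        rintro p ⟨hpx, hpy⟩
        change p ∈ Set.range (PrimeSpectrum.comap (algebraMap (GLin.invariants k A B) (Localization.Away x.1))) at hpx
        change p ∈ Set.range (PrimeSpectrum.comap (algebraMap (GLin.invariants k A B) (Localization.Away y.1))) at hpy
        change p ∈ Set.range (PrimeSpectrum.comap (algebraMap (GLin.invariants k A B) (Localization.Away z)))
        rw [PrimeSpectrum.localization_away_comap_range _ (x.1)] at hpx
        rw [PrimeSpectrum.localization_away_comap_range _ (y.1)] at hpy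
        rw [PrimeSpectrum.localization_away_comap_range _ z]
        exact fun h => (p.2.mem_or_mem h).elim hpx hpy
      refine ⟨IsOpenImmersion.lift loc _ hrange, ?_, ?_⟩
      · rw [← cancel_mono (fG x), Category.assoc]
        refine Eq.trans ?_ (IsOpenImmersion.lift_fac loc _ hrange)
        congr 1
        exact ((Spec.map_comp _ _).symm.trans (congrArg (fun r => Spec.map (CommRingCat.ofHom r)) hrx))
      · rw [← cancel_mono (fG y), Category.assoc, ← pullback.condition]
        refine Eq.trans ?_ (IsOpenImmersion.lift_fac loc _ hrange)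
        congr 1
        exact ((Spec.map_comp _ _).symm.trans (congrArg (fun r => Spec.map (CommRingCat.ofHom r)) hry))
    obtain ⟨i, hix, hiy⟩ := hp
    rw [← hix, ← hiy, Category.assoc, Category.assoc, heq]
  refine ⟨𝒰.glueMorphisms a hcompat, ?_, ?_⟩
  · refine Scheme.hom_ext_of_forall _ _ fun P => ?_
    have hcov : ∃ g : G, algebraMap (GLin.invariants k A B) B g.1 ∉ P.asIdeal := by
      by_contra! h
      have hle : Ideal.span (Set.range (Subtype.val : G → GLin.invariants k A B)) ≤
          P.asIdeal.comap (algebraMap (GLin.invariants k A B) B) := by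
        rw [Ideal.span_le, Set.range_subset_iff]; exact h
      rw [hG] at hle
      exact (Ideal.comap_ne_top _ P.2.ne_top) (top_le_iff.mp hle)
    obtain ⟨g, hg⟩ := hcov
    let l := Spec.map (CommRingCat.ofHom
      (algebraMap B (Localization.Away (algebraMap (GLin.invariants k A B) B g.1))))
    refine ⟨l.opensRange, ?_, ?_⟩
    · show P ∈ Set.range (PrimeSpectrum.comap
        (algebraMap B (Localization.Away (algebraMap (GLin.invariants k A B) B g.1))))
      rw [PrimeSpectrum.localization_away_comap_range _ (algebraMap (GLin.invariants k A B) B g.1)]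
      exact hg
    · refine (cancel_epi l.isoOpensRange.hom).mp ?_
      rw [Scheme.Hom.isoOpensRange_hom_ι_assoc, Scheme.Hom.isoOpensRange_hom_ι_assoc]
      refine (Category.assoc _ _ _).symm.trans ((congrArg (· ≫ _) (jAway_spec g.1).symm).trans ?_)
      rw [Category.assoc]
      exact (congrArg (_ ≫ ·) (𝒰.ι_glueMorphisms a hcompat g)).trans (ha g)
  · intro χ hχ
    refine Scheme.Cover.hom_ext 𝒰 _ _ fun (g : G) => ?_
    refine Eq.trans ?_ (𝒰.ι_glueMorphisms a hcompat g).symm
    show fG g ≫ χ = a g
    refine ext_away ψ hα hα1 g.1 (hU g) (hgU g) _ _ ?_ (ha g)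
    refine (Category.assoc _ _ _).symm.trans ((congrArg (· ≫ χ) (jAway_spec g.1)).trans ?_)
    rw [Category.assoc, hχ]
    rfl

end

end Groth.Agent.S12924
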