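import Groth.Statements.S12926
import Groth.Agent.L08.Integral

set_option autoImplicit false
universe u v
open HopfRep

namespace Groth.Agent.S12926

/-- Let `k` be a commutative ring and `A` a commutative bialgebra over `k`, flat as a `k`-module. If the
submodule `k · 1` of the regular comodule `A` has a complement `H` which is a subcomodule — the case
used when `A` is cosemisimple, i.e. every subcomodule of every comodule is a direct summand as a
comodule — then the trivial action of `Spec A` on `Spec k` is tame: there is a comodule map `α : A →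
k`, for the regular coaction on `A` and the trivial coaction `r ↦ r ⊗ 1` on `k`, with `α 1 = 1`. -/
theorem result
    (k : Type u) [CommRing k] (A : Type v) [CommRing A] [Bialgebra k A] [Module.Flat k A]
    (H : Submodule k A) (hH : HopfRep.IsSubcomod (k := k) (A := A) H)
    (hc : IsCompl (Submodule.span k {(1 : A)}) H) :
    ∃ α : A →ₗ[k] k, @Hoch.IsComodHom k _ A _ _ _ A _ _ _ k _ _ (HopfRep.Comod.trivial k A k) α ∧ α 1 = 1 := by
  classical
  let P : Submodule k A := Submodule.span k {(1 : A)}
  let α : A →ₗ[k] k := Coalgebra.counit ∘ₗ P.subtype ∘ₗ P.projectionOnto H hc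
  have hα1 : α 1 = 1 := by
    have h : P.projectionOnto H hc ((⟨1, Submodule.mem_span_singleton_self _⟩ : P) : A) =
        ⟨1, Submodule.mem_span_singleton_self _⟩ := Submodule.projectionOnto_apply_left hc _
    simp only [α, LinearMap.comp_apply]
    rw [show P.projectionOnto H hc (1 : A) = ⟨1, Submodule.mem_span_singleton_self _⟩ from h]
    simp
  have hαH : α ∘ₗ H.subtype = 0 := by
    ext h
    simp [α]
  refine ⟨α, LinearMap.ext fun a => ?_, hα1⟩
  change α a ⊗ₜ[k] (1 : A) = α.rTensor A (Coalgebra.comul (R := k) a)
  have hmem : a ∈ P ⊔ H := by rw [hc.sup_eq_top]; trivial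
  obtain ⟨p, hp, h, hh, rfl⟩ := Submodule.mem_sup.1 hmem
  obtain ⟨c, rfl⟩ := Submodule.mem_span_singleton.1 hp
  obtain ⟨y, hy⟩ := hH h hh
  have hy' : Coalgebra.comul (R := k) h = H.subtype.rTensor A y := hy.symm
  have hαh : α h = 0 := LinearMap.congr_fun hαH ⟨h, hh⟩
  rw [map_add, map_add, map_add, hy', ← LinearMap.rTensor_comp_apply, hαH, hαh]
  simp [hα1, Algebra.TensorProduct.one_def, TensorProduct.smul_tmul']

end Groth.Agent.S12926
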