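import Groth.Statements.S12928
import Groth.Agent.L08.Dual
import Groth.Prelude.Def_ComodTens

set_option autoImplicit false
universe u
open HopfRep

open TensorProduct WithConv

namespace Groth.Agent.S12928

section Aux

variable {k : Type u} [CommRing k] {A : Type u} [CommRing A] [HopfAlgebra k A] [Module.Flat k A]
  [Module.FinitePresentation k A] {B : Type u} [CommRing B] [Algebra k B] (cB : HopfRep.Comod k A B)

/-- the coaction on `B ⊗ A^*` -/
@[reducible] noncomputable def cM : HopfRep.Comod k A (B ⊗[k] Module.Dual k A) :=
  ComodTens.Comod.tensor cB (Groth.L08.dual (HopfRep.Comod.regular k A))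

/-- evaluation of an element of `B ⊗ A^*` -/
noncomputable def evL : B ⊗[k] Module.Dual k A →ₗ[k] A →ₗ[k] B :=
  dualTensorHom k A B ∘ₗ (TensorProduct.comm k B (Module.Dual k A)).toLinearMap

theorem evL_tmul (b : B) (ξ : Module.Dual k A) (a : A) : evL (b ⊗ₜ[k] ξ) a = ξ a • b := by
  simp [evL]

/-- `x ⊗ y ↦ ρ (m x) * (1 ⊗ S y)` -/
noncomputable def mulS (g : A →ₗ[k] B ⊗[k] A) : A ⊗[k] A →ₗ[k] B ⊗[k] A :=
  LinearMap.mul' k (B ⊗[k] A) ∘ₗ TensorProduct.map g
    ((Algebra.TensorProduct.includeRight : A →ₐ[k] B ⊗[k] A).toLinearMap ∘ₗ
      HopfAlgebraStruct.antipode (R := k))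

/-- evaluation at `a` of the coaction of `B ⊗ A^*` -/
theorem ev_coact (a : A) (m : B ⊗[k] Module.Dual k A) :
    ((LinearMap.applyₗ a) ∘ₗ evL).rTensor A ((cM cB).coact m) =
      mulS (cB.coact ∘ₗ evL m) (Coalgebra.comul (R := k) a) := by
  induction m using TensorProduct.induction_on with
  | zero => simp [mulS]
  | add x y hx hy =>
    simp only [map_add, hx, hy, mulS, LinearMap.comp_add, TensorProduct.map_add_left, LinearMap.add_apply,
      LinearMap.comp_apply]
  | tmul b ξ =>
    rw [ComodTens.tensor_coact_tmul]
    have h1 : ∀ (z : B ⊗[k] A) (w : Module.Dual k A ⊗[k] A),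
        ((LinearMap.applyₗ a) ∘ₗ evL).rTensor A (TensorProduct.map LinearMap.id (LinearMap.mul' k A)
          (AlgebraTensorModule.tensorTensorTensorComm k k k k B A (Module.Dual k A) A (z ⊗ₜ[k] w))) =
          z * ((1 : B) ⊗ₜ[k] dualTensorHom k A A w a) := by
      intro z w
      induction w using TensorProduct.induction_on with
      | zero => simp
      | add x y hx hy =>
        simp only [TensorProduct.tmul_add, map_add, LinearMap.add_apply, mul_add, hx, hy]
      | tmul η q =>
        induction z using TensorProduct.induction_on with
        | zero => simp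
        | add x y hx hy => simp only [TensorProduct.add_tmul, map_add, add_mul, hx, hy]
        | tmul b' p =>
          simp [evL_tmul, Algebra.TensorProduct.tmul_mul_tmul, TensorProduct.smul_tmul]
    rw [h1, Groth.L08.isDual_dual (HopfRep.Comod.regular k A) ξ, ComodTens.dualCoactFun_apply]
    show cB.coact b * ((1 : B) ⊗ₜ[k] TensorProduct.lid k A (TensorProduct.map ξ _ (Coalgebra.comul (R := k) a))) = _
    induction Coalgebra.comul (R := k) a using TensorProduct.induction_on with
    | zero => simp
    | add x y hx hy => simp only [map_add, TensorProduct.tmul_add, mul_add, hx, hy]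
    | tmul x y => simp [mulS, evL_tmul]

end Aux

/-- Let `k` be a commutative ring, `A` a commutative Hopf algebra over `k` which is finite locally free
(finite projective, in particular flat) as a `k`-module, `B` a commutative `k`-algebra with a
coaction of `A` that is an algebra map, and `C = B^A` the ring of invariants; assume `C` Noetherian
and `B` finite and flat over `C`. If taking invariants is exact on `(B, A)`-modules — for
`B`-modules `M`, `N` with compatible `A`-coactions (in the universe of `k`, `A`, `B`) every
surjective `B`-linear comodule map `M → N` maps `M^A` onto `N^A` — then the action is tame: there is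
a comodule map `α : A → B` with `α 1 = 1`. Together with the converse (a total integral makes
invariants exact) this says that tameness of the action is the exactness of invariants. (The
published statement does not assume `B` finite over `C`; its proof uses that finiteness, which is
assumed here.) -/
theorem result
    (k : Type u) [CommRing k] (A : Type u) [CommRing A] [HopfAlgebra k A] [Module.Flat k A]
    [Module.Finite k A] [Module.Projective k A]
    (B : Type u) [CommRing B] [Algebra k B] [HopfRep.Comod k A B] [GLin.IsCoactAlg k A B]
    [IsNoetherianRing (GLin.invariants k A B)] [Module.Finite (GLin.invariants k A B) B] [Module.Flat (GLin.invariants k A B) B]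
    (hexact : ∀ (M N : Type u) [AddCommGroup M] [Module k M] [Module B M] [IsScalarTower k B M]
      [HopfRep.Comod k A M] [TameAct.IsHopfMod k A B M]
      [AddCommGroup N] [Module k N] [Module B N] [IsScalarTower k B N]
      [HopfRep.Comod k A N] [TameAct.IsHopfMod k A B N] (f : M →ₗ[B] N),
      Hoch.IsComodHom A (f.restrictScalars k) → Function.Surjective f →
      ∀ n ∈ HopfRep.fixedPts k A N, ∃ m ∈ HopfRep.fixedPts k A M, f m = n) :
    ∃ α : A →ₗ[k] B, Hoch.IsComodHom A α ∧ α 1 = 1 := by
  haveI : Module.FinitePresentation k A := Module.finitePresentation_of_projective k A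
  let cB : HopfRep.Comod k A B := inferInstance
  letI cm : HopfRep.Comod k A (B ⊗[k] Module.Dual k A) := cM cB
  have hM : TameAct.IsHopfMod k A B (B ⊗[k] Module.Dual k A) := ⟨fun b m => by
    induction m using TensorProduct.induction_on with
    | zero => simp
    | add x y hx hy => simp only [smul_add, map_add, hx, hy]
    | tmul c ξ =>
      show (cM cB).coact (b • (c ⊗ₜ[k] ξ)) = TameAct.hmSMul k A B _ (cB.coact b) ((cM cB).coact (c ⊗ₜ[k] ξ))
      rw [TensorProduct.smul_tmul', smul_eq_mul, ComodTens.tensor_coact_tmul, ComodTens.tensor_coact_tmul,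
        GLin.IsCoactAlg.coact_mul]
      show _ = TameAct.hmSMul k A B _ (cB.coact b) _
      induction cB.coact b using TensorProduct.induction_on with
      | zero => simp
      | add x y hx hy =>
        simp only [add_mul, TensorProduct.add_tmul, map_add, LinearMap.add_apply, hx, hy]
      | tmul b' p =>
        induction (Groth.L08.dual (HopfRep.Comod.regular k A)).coact ξ using TensorProduct.induction_on with
        | zero => simp
        | add x y hx hy => simp only [TensorProduct.tmul_add, map_add, hx, hy]
        | tmul η q =>
          induction cB.coact c using TensorProduct.induction_on with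
          | zero => simp
          | add x y hx hy => simp only [mul_add, TensorProduct.add_tmul, map_add, hx, hy]
          | tmul c' r => simp [TensorProduct.smul_tmul', mul_assoc]⟩
  let f : B ⊗[k] Module.Dual k A →ₗ[B] B :=
    { toFun := fun m => evL m 1
      map_add' := fun x y => by simp
      map_smul' := fun c m => by
        induction m using TensorProduct.induction_on with
        | zero => simp
        | add x y hx hy => simp only [smul_add, map_add, LinearMap.add_apply, RingHom.id_apply] at hx hy ⊢; rw [hx, hy]
        | tmul b ξ => simp [TensorProduct.smul_tmul', evL_tmul] }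
  have hf : Hoch.IsComodHom A (f.restrictScalars k) := by
    refine LinearMap.ext fun m => ?_
    show cB.coact (evL m 1) = ((LinearMap.applyₗ (1 : A)) ∘ₗ evL).rTensor A ((cM cB).coact m)
    rw [ev_coact, Bialgebra.comul_one, Algebra.TensorProduct.one_def]
    simp only [mulS, LinearMap.comp_apply, TensorProduct.map_tmul, LinearMap.mul'_apply,
      AlgHom.toLinearMap_apply, Algebra.TensorProduct.includeRight_apply, HopfAlgebra.antipode_one]
    rw [← Algebra.TensorProduct.one_def, _root_.mul_one]
  obtain ⟨t, ht, ht1⟩ := hexact (B ⊗[k] Module.Dual k A) B f hf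
    (fun b => ⟨b ⊗ₜ[k] (Coalgebra.counit (R := k) (A := A)), by simp [f, evL_tmul]⟩) 1
    (GLin.IsCoactAlg.coact_one (k := k) (A := A) (R := B))
  refine ⟨evL t, ?_, ht1⟩
  -- convolution cancellation
  let iL : B →ₐ[k] B ⊗[k] A := Algebra.TensorProduct.includeLeft
  let iR : A →ₐ[k] B ⊗[k] A := Algebra.TensorProduct.includeRight
  let S : A →ₗ[k] A := HopfAlgebraStruct.antipode (R := k)
  have hinv : toConv (iR.toLinearMap ∘ₗ S) * toConv iR.toLinearMap = 1 := by
    refine WithConv.ofConv_injective (LinearMap.ext fun a => ?_)
    rw [LinearMap.convOne_apply, LinearMap.convMul_apply, ← AlgHom.commutes iR,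
      ← LinearMap.convOne_apply (C := A), ← LinearMap.antipode_mul_id, LinearMap.convMul_apply]
    induction Coalgebra.comul (R := k) a using TensorProduct.induction_on with
    | zero => simp
    | add x y hx hy => simp only [map_add, hx, hy]
    | tmul x y => simp [S, map_mul]
  have hFS : toConv (cB.coact ∘ₗ evL t) * toConv (iR.toLinearMap ∘ₗ S) = toConv (iL.toLinearMap ∘ₗ evL t) := by
    refine WithConv.ofConv_injective (LinearMap.ext fun a => ?_)
    rw [LinearMap.convMul_apply]
    show mulS (cB.coact ∘ₗ evL t) (Coalgebra.comul (R := k) a) = evL t a ⊗ₜ[k] (1 : A)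
    have ht' : (cM cB).coact t = t ⊗ₜ[k] (1 : A) := ht
    rw [← ev_coact, ht']
    simp
  have hF : toConv (cB.coact ∘ₗ evL t) = toConv (iL.toLinearMap ∘ₗ evL t) * toConv iR.toLinearMap := by
    rw [← hFS, mul_assoc, hinv, mul_one]
  refine LinearMap.ext fun a => ?_
  have h := congrArg (fun F : WithConv (A →ₗ[k] B ⊗[k] A) => F.ofConv a) hF
  simp only [LinearMap.convMul_apply] at h
  show cB.coact (evL t a) = (evL t).rTensor A (Coalgebra.comul (R := k) a)
  refine Eq.trans h ?_
  induction Coalgebra.comul (R := k) a using TensorProduct.induction_on with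
  | zero => simp
  | add x y hx hy => simp only [map_add, hx, hy]
  | tmul x y => simp [iL, iR]

end Groth.Agent.S12928
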