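import Groth.Statements.S12929
import Groth.Agent.L08.Integral

set_option autoImplicit false
universe u v w w'
open HopfRep

namespace Groth.Agent.S12929
open TensorProduct

/-- Let `k` be a commutative ring, `A` a commutative Hopf algebra over `k`, `M` a right `A`-comodule and
`N` a `k`-module; give `N ⊗ A` the coaction `id ⊗ Δ`. Then for every `k`-linear map `h : M → N` the
composite `(h ⊗ id_A) ∘ ρ_M : M → N ⊗ A` is a comodule map, and every comodule map `f : M → N ⊗ A`
is of this form for exactly one `h` (which is `(id_N ⊗ ε) ∘ f`): comodule maps `M → N ⊗ A`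
correspond bijectively to linear maps `M → N`. -/
theorem result
    (k : Type u) [CommRing k] (A : Type v) [CommRing A] [HopfAlgebra k A]
    (M : Type w) [AddCommGroup M] [Module k M] [HopfRep.Comod k A M]
    (N : Type w') [AddCommGroup N] [Module k N] :
    (∀ h : M →ₗ[k] N, Hoch.IsComodHom A
        ((Hoch.Ind.equiv k A N).toLinearMap ∘ₗ h.rTensor A ∘ₗ HopfRep.Comod.coact (k := k) (A := A))) ∧
      ∀ f : M →ₗ[k] Hoch.Ind k A N, Hoch.IsComodHom A f →
        ∃! h : M →ₗ[k] N,
          f = (Hoch.Ind.equiv k A N).toLinearMap ∘ₗ h.rTensor A ∘ₗ HopfRep.Comod.coact (k := k) (A := A) := by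
  constructor
  · intro h
    refine LinearMap.ext fun m => ?_
    simp only [LinearMap.comp_apply, LinearEquiv.coe_coe, Hoch.Ind.coact_eq]
    change Hoch.Ind.coactAux k A N (h.rTensor A (HopfRep.Comod.coact (k := k) (A := A) m)) =
      LinearMap.rTensor A (h.rTensor A ∘ₗ HopfRep.Comod.coact (k := k) (A := A))
        (HopfRep.Comod.coact (k := k) (A := A) m)
    have e : ∀ y : M ⊗[k] A, Hoch.Ind.coactAux k A N (h.rTensor A y) =
        (TensorProduct.assoc k N A A).symm (h.rTensor (A ⊗[k] A)
          ((Coalgebra.comul (R := k) (A := A)).lTensor M y)) := by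
      intro y
      induction y with
      | zero => simp
      | add x y hx hy => simp only [map_add, hx, hy]
      | tmul x y => simp
    rw [e, ← L08.coassoc_apply, LinearMap.rTensor_comp_apply]
    induction (HopfRep.Comod.coact (k := k) (A := A) (V := M)).rTensor A
        (HopfRep.Comod.coact (k := k) (A := A) m) with
    | zero => simp
    | add x y hx hy => simp only [map_add, hx, hy]
    | tmul x y =>
      induction x with
      | zero => simp
      | add u v hu hv => simp only [map_add, add_tmul, hu, hv]
      | tmul u v => simp
  · intro f hf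
    refine ⟨Hoch.Ind.counit k A N ∘ₗ f, ?_, ?_⟩
    · refine LinearMap.ext fun m => ?_
      have hm := LinearMap.congr_fun hf m
      simp only [LinearMap.comp_apply, LinearEquiv.coe_coe, Hoch.Ind.coact_eq] at hm ⊢
      let g : M →ₗ[k] N ⊗[k] A := f
      let c : N ⊗[k] A →ₗ[k] N :=
        (TensorProduct.rid k N).toLinearMap ∘ₗ (Coalgebra.counit (R := k) (A := A)).lTensor N
      have e : ∀ y : N ⊗[k] A, c.rTensor A (Hoch.Ind.coactAux k A N y) = y := by
        intro y
        induction y with
        | zero => simp
        | add x y hx hy => simp only [map_add, hx, hy]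
        | tmul x y =>
          rw [Hoch.Ind.coactAux_tmul]
          conv_rhs => rw [← one_smul k y, ← TensorProduct.lid_tmul y (1 : k), ← Coalgebra.rTensor_counit_comul]
          induction Coalgebra.comul (R := k) y with
          | zero => simp
          | add u v hu hv => simp only [tmul_add, map_add, hu, hv]
          | tmul u v => simp [c, TensorProduct.smul_tmul]
      change g m = (c ∘ₗ g).rTensor A (HopfRep.Comod.coact (k := k) (A := A) m)
      rw [LinearMap.rTensor_comp_apply]
      conv_lhs => rw [← e (g m)]
      congr 1
    · intro h hh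
      subst hh
      refine LinearMap.ext fun m => ?_
      have : ∀ y : M ⊗[k] A, Hoch.Ind.counit k A N (Hoch.Ind.equiv k A N (h.rTensor A y)) =
          h (TensorProduct.rid k M ((Coalgebra.counit (R := k) (A := A)).lTensor M y)) := by
        intro y
        induction y with
        | zero => simp
        | add x y hx hy => simp only [map_add, hx, hy]
        | tmul x y => simp
      simp only [LinearMap.comp_apply, LinearEquiv.coe_coe, this, L08.counit_apply]
      simp

end Groth.Agent.S12929
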