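import Groth.Statements.S1293
import Groth.Agent.L20.RG.ProjInjMod
import Groth.Agent.L20.RG.FlatPtsStep

set_option autoImplicit false
universe u
open FlatMor

set_option backward.isDefEq.respectTransparency.types false
open TensorProduct
set_option backward.isDefEq.respectTransparency.types false
set_option linter.style.haveILetI false
set_option maxHeartbeats 800000
namespace Groth.Agent.S1293

open TensorProduct in
/-- Let B be a finitely presented A-algebra, T ⊆ B a multiplicative subset and N a finitely presented
T⁻¹B-module which admits a pure spreadout (FlatCA.HasPureSpreadout). Then (1) every x ∈ N has a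
content ideal, i.e. a smallest ideal I of A with x ∈ IN; and (2) every A-linear map u from N to a
flat A-module M such that u ⊗ A/𝔪 is injective for every maximal ideal 𝔪 of A is universally
injective over A. -/
theorem result {A B : Type u} [CommRing A] [CommRing B] [Algebra A B] [Algebra.FinitePresentation A B]
    (T : Submonoid B) (N : Type u) [AddCommGroup N] [Module (Localization T) N] [Module A N] [IsScalarTower A (Localization T) N]
    [Module.FinitePresentation (Localization T) N] (h : FlatCA.HasPureSpreadout A B T N) :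
    (∀ x : N, ∃ I : Ideal A, x ∈ I • (⊤ : Submodule A N) ∧ ∀ J : Ideal A, x ∈ J • (⊤ : Submodule A N) → I ≤ J) ∧
    ∀ (M : Type u) [AddCommGroup M] [Module A M] [Module.Flat A M] (u : N →ₗ[A] M),
      (∀ (m : Ideal A) [m.IsMaximal], Function.Injective (u.lTensor (A ⧸ m))) → FlatCA.UnivInj A u := by
  classical
  obtain ⟨C, _, _, _, _, _, _, _, _, _, _, N', _, _, _, _, g, -, -, hg, hproj, hginj⟩ := h
  haveI := hproj
  let L := Localization T
  let gA : N' →ₗ[A] N := g.restrictScalars A
  have hgC : ∀ (b : B) (y : N'), g (algebraMap B C b • y) = algebraMap B L b • g y := fun b y => by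
    rw [map_smul, ← algebraMap_smul L (algebraMap B C b) (g y), ← IsScalarTower.algebraMap_apply]
  have hK : ∀ x : N, ∃ t ∈ T, ∃ y, g y = algebraMap B L t • x := fun x => by
    refine hg.inductionOn x _ ?_ ?_ ?_ ?_
    · exact ⟨1, one_mem _, 0, by simp⟩
    · exact fun y => ⟨1, one_mem _, y, by rw [map_one, one_smul]⟩
    · rintro c x ⟨t, ht, y, hy⟩
      obtain ⟨⟨b, t'⟩, hc⟩ := IsLocalization.surj T c
      refine ⟨t' * t, mul_mem t'.2 ht, algebraMap B C b • y, ?_⟩
      rw [hgC, hy, ← hc, smul_smul, smul_smul, map_mul]
      congr 1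
      show c * algebraMap B L t' * algebraMap B L t = algebraMap B L t' * algebraMap B L t * c
      ring
    · rintro x x' ⟨t, ht, y, hy⟩ ⟨t', ht', y', hy'⟩
      refine ⟨t * t', mul_mem ht ht', algebraMap B C t' • y + algebraMap B C t • y', ?_⟩
      rw [map_add, hgC, hgC, hy, hy', smul_add, smul_smul, smul_smul, map_mul, mul_comm (algebraMap B L t')]
  let e : T → (N ≃ₗ[A] N) := fun t =>
    { toFun := fun x => algebraMap B L t • x
      map_add' := smul_add _
      map_smul' := fun a x => smul_comm _ a x
      invFun := fun x => IsLocalization.mk' L (1 : B) t • x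
      left_inv := fun x => by
        show IsLocalization.mk' L (1 : B) t • algebraMap B L t • x = x
        rw [smul_smul, IsLocalization.mk'_spec, map_one, one_smul]
      right_inv := fun x => by
        show algebraMap B L t • IsLocalization.mk' L (1 : B) t • x = x
        rw [smul_smul, mul_comm, IsLocalization.mk'_spec, map_one, one_smul] }
  have hmk : ∀ {P : Type u} [AddCommGroup P] [Module A P] (J : Ideal A) (x : P),
      (1 : A ⧸ J) ⊗ₜ[A] x = 0 ↔ x ∈ J • (⊤ : Submodule A P) := fun J x => by
    rw [← Submodule.Quotient.mk_eq_zero, ← TensorProduct.quotTensorEquivQuotSMul_mk_one_tmul, LinearEquiv.map_eq_zero_iff]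
  refine ⟨fun x => ?_, fun M _ _ _ u hu => ?_⟩
  · obtain ⟨t, ht, y, hy⟩ := hK x
    obtain ⟨s, hs⟩ := Module.projective_lifting_property (Finsupp.linearCombination A (id : N' → N')) LinearMap.id
      (Finsupp.linearCombination_surjective A Function.surjective_id)
    obtain ⟨I, hI, hmin⟩ := Groth.L20.RG.exists_content_free (R := A) ({s y} : Set (N' →₀ A))
    have hcore : ∀ J : Ideal A, x ∈ J • (⊤ : Submodule A N) ↔ y ∈ J • (⊤ : Submodule A N') := fun J => by
      constructor
      · intro hx
        rw [← hmk]
        refine hginj (A ⧸ J) ?_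
        rw [map_zero, LinearMap.lTensor_tmul, LinearMap.restrictScalars_apply, hy, hmk]
        have h1 := Submodule.mem_map_of_mem (f := (e ⟨t, ht⟩).toLinearMap) hx
        rw [Submodule.map_smul''] at h1
        exact Submodule.smul_mono le_rfl le_top h1
      · intro hyJ
        have h1 : gA y ∈ J • (⊤ : Submodule A N) := Submodule.smul_mono (le_refl J) le_top
          (Submodule.map_smul'' J ⊤ gA ▸ Submodule.mem_map_of_mem hyJ)
        have h2 := Submodule.mem_map_of_mem (f := (e ⟨t, ht⟩).symm.toLinearMap) h1
        rw [Submodule.map_smul''] at h2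
        have h3 : (e ⟨t, ht⟩).symm (gA y) = x := by
          rw [LinearEquiv.symm_apply_eq]
          exact hy
        exact h3 ▸ Submodule.smul_mono (le_refl J) le_top h2
    refine ⟨I, (hcore I).mpr ?_, fun J hJ => ?_⟩
    · have h1 := Submodule.mem_map_of_mem (f := Finsupp.linearCombination A (id : N' → N')) (hI (s y) rfl)
      rw [Submodule.map_smul''] at h1
      rw [show Finsupp.linearCombination A (id : N' → N') (s y) = y from LinearMap.congr_fun hs y] at h1
      exact Submodule.smul_mono (le_refl I) le_top h1
    · refine (hmin (A ⧸ J) ?_).trans Ideal.mk_ker.le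
      rintro _ rfl
      have := congrArg (s.lTensor (A ⧸ J)) ((hmk J y).mpr ((hcore J).mp hJ))
      rwa [map_zero, LinearMap.lTensor_tmul] at this
  · intro Q _ _
    refine (injective_iff_map_eq_zero _).mpr fun z hz => ?_
    have hz' : ∃ t : T, ∃ z' : Q ⊗[A] N', gA.lTensor Q z' = (e t).toLinearMap.lTensor Q z := by
      clear hz
      induction z using TensorProduct.induction_on with
      | zero => exact ⟨1, 0, by simp⟩
      | tmul q x =>
        obtain ⟨t, ht, y, hy⟩ := hK x
        exact ⟨⟨t, ht⟩, q ⊗ₜ y, by simp only [LinearMap.lTensor_tmul]; exact congrArg (q ⊗ₜ[A] ·) hy⟩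
      | add z₁ z₂ h₁ h₂ =>
        obtain ⟨t, w, hw⟩ := h₁
        obtain ⟨t', w', hw'⟩ := h₂
        let mC : B → (N' →ₗ[A] N') := fun b =>
          { toFun := fun y => algebraMap B C b • y
            map_add' := smul_add _
            map_smul' := fun a y => smul_comm _ a y }
        have key : ∀ (a b : T) (w : Q ⊗[A] N') (z : Q ⊗[A] N), gA.lTensor Q w = (e a).toLinearMap.lTensor Q z →
            gA.lTensor Q ((mC b).lTensor Q w) = (e (b * a)).toLinearMap.lTensor Q z := fun a b w z h => by
          have e1 : gA ∘ₗ mC b = (e b).toLinearMap ∘ₗ gA := LinearMap.ext fun y => hgC b y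
          have e2 : (e (b * a)).toLinearMap = (e b).toLinearMap ∘ₗ (e a).toLinearMap := LinearMap.ext fun y => by
            show algebraMap B L ((b : B) * (a : B)) • y = algebraMap B L b • algebraMap B L a • y
            rw [map_mul, mul_smul]
          rw [← LinearMap.lTensor_comp_apply, e1, LinearMap.lTensor_comp_apply, h, e2, LinearMap.lTensor_comp_apply]
        refine ⟨t' * t, (mC t').lTensor Q w + (mC t).lTensor Q w', ?_⟩
        rw [map_add, map_add, key t t' w z₁ hw, key t' t w' z₂ hw', mul_comm t t']
    obtain ⟨t, z', hz'⟩ := hz'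
    let v : N' →ₗ[A] M := u ∘ₗ (e t).symm.toLinearMap ∘ₗ gA
    have hv : FlatCA.UnivInj A v := by
      refine Groth.L20.RG.univInj_of_injMod_projective v fun m _ => ?_
      have h1 : Function.Injective (v.lTensor (A ⧸ m)) := by
        show Function.Injective ((u ∘ₗ (e t).symm.toLinearMap ∘ₗ gA).lTensor (A ⧸ m))
        rw [LinearMap.lTensor_comp, LinearMap.lTensor_comp, LinearMap.coe_comp, LinearMap.coe_comp]
        exact (hu m).comp (((e t).symm.lTensor (A ⧸ m)).injective.comp (hginj _))
      have h2 : v.rTensor (A ⧸ m) = (TensorProduct.comm A (A ⧸ m) M).toLinearMap ∘ₗ v.lTensor (A ⧸ m) ∘ₗ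
          (TensorProduct.comm A N' (A ⧸ m)).toLinearMap := TensorProduct.ext' fun a b => rfl
      rw [h2]
      exact (TensorProduct.comm A (A ⧸ m) M).injective.comp (h1.comp (TensorProduct.comm A N' (A ⧸ m)).injective)
    have h0 : z' = 0 := hv Q (by
      rw [map_zero]
      show (u ∘ₗ (e t).symm.toLinearMap ∘ₗ gA).lTensor Q z' = 0
      rw [LinearMap.lTensor_comp_apply, LinearMap.lTensor_comp_apply, hz']
      show u.lTensor Q (((e t).lTensor Q).symm ((e t).lTensor Q z)) = 0
      rw [LinearEquiv.symm_apply_apply, hz])
    rw [h0, map_zero] at hz'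
    exact ((e t).lTensor Q).injective ((hz'.symm).trans (map_zero _).symm)


end Groth.Agent.S1293
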