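import Groth.Statements.S12931
import Mathlib.RingTheory.Idempotents

set_option autoImplicit false
universe u v w
open HopfRep

namespace Groth.Agent.S12931

/-- Let `R` be a commutative ring, `Γ` a finite set and `T` a commutative `R`-algebra which is
connected: nonzero, with no idempotents other than `0` and `1`. Then `γ ↦ (evaluation at γ : (Γ → R)
→ R → T)` is a bijection from `Γ` onto the `R`-algebra maps `(Γ → R) → T`: every such map sends
exactly one of the indicator functions to `1` and the others to `0`. (Only the bijection of sets is
stated; when `Γ` is a group, the compatibility with the group structures on both sides is not.) -/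
theorem result
    (R : Type u) [CommRing R] (Γ : Type v) [Finite Γ]
    (T : Type w) [CommRing T] [Algebra R T] [Nontrivial T]
    (hT : ∀ e : T, IsIdempotentElem e → e = 0 ∨ e = 1) :
    Function.Bijective (fun γ : Γ => (Algebra.ofId R T).comp (Pi.evalAlgHom R (fun _ : Γ => R) γ)) := by
  classical
  cases nonempty_fintype Γ
  constructor
  · intro γ γ' h
    by_contra hne
    have := AlgHom.congr_fun h (Pi.single γ 1)
    simp [Pi.single_eq_of_ne (Ne.symm hne)] at this
  · intro φ
    have hid : ∀ γ, IsIdempotentElem (φ (Pi.single γ 1)) := fun γ => by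
      simp [IsIdempotentElem, ← map_mul, ← Pi.single_mul]
    have hsum : ∑ γ, φ (Pi.single γ 1) = 1 := by
      rw [← map_sum, show (∑ γ, Pi.single γ (1 : R) : Γ → R) = 1 from Finset.univ_sum_single 1, map_one]
    obtain ⟨γ₀, hγ₀⟩ : ∃ γ, φ (Pi.single γ 1) = 1 := by
      by_contra! h
      rw [Finset.sum_eq_zero fun γ _ => (hT _ (hid γ)).resolve_right (h γ)] at hsum
      exact zero_ne_one hsum
    refine ⟨γ₀, AlgHom.ext fun x => ?_⟩
    have : x * Pi.single γ₀ 1 = x γ₀ • Pi.single γ₀ (1 : R) := by
      ext γ
      rcases eq_or_ne γ γ₀ with rfl | hne <;> simp [*]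
    have := congrArg φ this
    rw [map_mul, map_smul, hγ₀, mul_one] at this
    rw [this]
    simp [Algebra.smul_def]

end Groth.Agent.S12931
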