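import Groth.Statements.S12932
import Mathlib.RingTheory.Invariant.Basic
import Mathlib.LinearAlgebra.LinearIndependent.Basic
import Mathlib.RingTheory.Ideal.GoingUp
import Mathlib.GroupTheory.Coset.Basic

set_option autoImplicit false
universe u v
open scoped BigOperators
open InvTh

namespace Groth.Agent.S12932
open scoped Pointwise

/-- Let `B` be a commutative ring with an action of a finite group `Γ` by ring automorphisms, and call a
prime ideal `P` of `B` tame when the order of its inertia group `{γ | γ • x - x ∈ P for all x}` is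
not divisible by the characteristic of `B/P` (its ramification group is trivial). Then every prime
of `B` is tame if and only if the trace `b ↦ Σ_γ γ • b`, which takes values in the invariant ring
`B^Γ` and is `B^Γ`-linear, is onto `B^Γ` — equivalently, some element of `B` has trace `1`. -/
theorem result
    (B : Type u) [CommRing B] (Γ : Type v) [Group Γ] [Fintype Γ] [MulSemiringAction Γ B] :
    (∃ b : B, ∑ γ : Γ, γ • b = 1) ↔
      ∀ P : Ideal B, P.IsPrime → ((Nat.card (P.inertia Γ) : ℕ) : B ⧸ P) ≠ 0 := by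
  classical
  constructor
  · rintro ⟨b, hb⟩ P hP hzero
    let I : Subgroup Γ := P.inertia Γ
    letI : Fintype (Γ ⧸ I) := Fintype.ofFinite _
    let g : Γ → B ⧸ P := fun γ => Ideal.Quotient.mk P (γ⁻¹ • b)
    have hg : ∀ γ : Γ, ∀ ι ∈ I, g (γ * ι) = g γ := by
      intro γ ι hι
      have hι' : ι⁻¹ ∈ P.inertia Γ := I.inv_mem hι
      simp only [g, mul_inv_rev, mul_smul]
      exact Ideal.Quotient.eq.2 (hι' (γ⁻¹ • b))
    have h1 : ∑ γ : Γ, g γ = 1 := by
      rw [← map_one (Ideal.Quotient.mk P), ← hb, map_sum]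
      exact Fintype.sum_equiv (Equiv.inv Γ) _ _ fun γ => rfl
    have h2 : ∑ γ : Γ, g γ = ((Nat.card I : ℕ) : B ⧸ P) * ∑ q : Γ ⧸ I, g q.out := by
      rw [← Finset.sum_fiberwise Finset.univ (fun γ : Γ => (γ : Γ ⧸ I)), Finset.mul_sum]
      refine Finset.sum_congr rfl fun q _ => ?_
      rw [Finset.sum_congr rfl (g := fun _ => g q.out) (fun γ hγ => by
        have hq : q.out⁻¹ * γ ∈ I := by
          rw [← QuotientGroup.eq, QuotientGroup.out_eq', (Finset.mem_filter.1 hγ).2]
        have := hg q.out _ hq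
        rwa [mul_inv_cancel_left] at this), Finset.sum_const, nsmul_eq_mul]
      congr 2
      rw [Nat.card_eq_fintype_card, ← Finset.card_univ]
      refine Finset.card_bij' (fun γ _ => if h : q.out⁻¹ * γ ∈ I then ⟨_, h⟩ else 1) (fun ι _ => q.out * ι.1)
        (fun γ _ => Finset.mem_univ _) (fun ι _ => Finset.mem_filter.2 ⟨Finset.mem_univ _, ?_⟩) ?_ ?_
      · rw [QuotientGroup.mk_mul_of_mem _ ι.2, QuotientGroup.out_eq']
      · intro γ hγ
        have hq : q.out⁻¹ * γ ∈ I := by
          rw [← QuotientGroup.eq, QuotientGroup.out_eq', (Finset.mem_filter.1 hγ).2]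
        simp only [dif_pos hq, mul_inv_cancel_left]
      · intro ι _
        simp [inv_mul_cancel_left]
    rw [hzero, zero_mul, h1] at h2
    exact one_ne_zero h2
  · intro h
    let A := FixedPoints.subring B Γ
    haveI : SMulCommClass Γ A B := ⟨fun γ a b => by
      change γ • ((a : B) * b) = (a : B) * γ • b
      rw [smul_mul', a.2 γ]⟩
    haveI : Algebra.IsInvariant A B Γ := ⟨fun b hb => ⟨⟨b, hb⟩, rfl⟩⟩
    haveI := Algebra.IsInvariant.isIntegral A B Γ
    have hfix : ∀ b : B, ∑ γ : Γ, γ • b ∈ A := fun b δ => by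
      rw [Finset.smul_sum]
      exact Fintype.sum_equiv (Equiv.mulLeft δ) _ _ fun γ => (mul_smul δ γ b).symm
    let T : Ideal A :=
      { carrier := {a | ∃ b : B, ∑ γ : Γ, γ • b = (a : B)}
        zero_mem' := ⟨0, by simp⟩
        add_mem' := by
          rintro a a' ⟨b, hb⟩ ⟨b', hb'⟩
          exact ⟨b + b', by simp [smul_add, Finset.sum_add_distrib, hb, hb']⟩
        smul_mem' := by
          rintro c a ⟨b, hb⟩
          refine ⟨c.1 * b, ?_⟩
          simp only [smul_mul', c.2 _, ← Finset.mul_sum, hb]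
          rfl }
    suffices hT : T = ⊤ by
      obtain ⟨b, hb⟩ : (1 : A) ∈ T := hT ▸ Submodule.mem_top
      exact ⟨b, hb⟩
    by_contra hT
    obtain ⟨p, hp, hTp⟩ := T.exists_le_maximal hT
    obtain ⟨P, hP, hPp⟩ := Ideal.exists_ideal_over_maximal_of_isIntegral (S := B) p (by
      rw [(RingHom.injective_iff_ker_eq_bot (algebraMap A B)).1 Subtype.val_injective]
      exact bot_le)
    haveI := hP
    have htr : ∀ b : B, ∑ γ : Γ, γ • b ∈ P := fun b => by
      have : (⟨_, hfix b⟩ : A) ∈ p := hTp ⟨b, rfl⟩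
      rw [← hPp] at this
      exact this
    let J : Ideal B := (Finset.univ.filter fun γ : Γ => γ • P ≠ P).inf fun γ => γ • P
    have hJ : ¬ J ≤ P := by
      intro hle
      obtain ⟨γ, hγ, hle⟩ := (Ideal.IsPrime.inf_le' inferInstance).1 hle
      exact (Finset.mem_filter.1 hγ).2 (smul_eq_of_smul_le hle)
    have hsup : P ⊔ J = ⊤ := by
      by_contra hne
      exact hJ ((Ideal.IsMaximal.eq_of_le hP hne le_sup_left).symm ▸ le_sup_right)
    obtain ⟨q, hq, e, he, hqe⟩ := Submodule.mem_sup.1 ((Ideal.eq_top_iff_one _).1 hsup)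
    have he0 : ∀ γ : Γ, γ • P ≠ P → e ∈ γ • P := fun γ hγ =>
      (Finset.inf_le (Finset.mem_filter.2 ⟨Finset.mem_univ γ, hγ⟩) : J ≤ γ • P) he
    have he1 : Ideal.Quotient.mk P e = 1 := by
      rw [← map_one (Ideal.Quotient.mk P), Ideal.Quotient.eq,
        show e - 1 = -q by rw [← hqe]; ring]
      exact neg_mem hq
    let χ : Γ → (B →* B ⧸ P) := fun γ =>
      (Ideal.Quotient.mk P).toMonoidHom.comp (MulSemiringAction.toRingHom Γ B γ).toMonoidHom
    let D : Finset Γ := Finset.univ.filter fun γ : Γ => γ • P = P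
    have hsum : ∀ b : B, ∑ γ ∈ D, χ γ b = 0 := by
      intro b
      have h0 : Ideal.Quotient.mk P (∑ γ : Γ, γ • (b * e)) = 0 := Ideal.Quotient.eq_zero_iff_mem.2 (htr _)
      rw [map_sum, ← Finset.sum_filter_add_sum_filter_not Finset.univ (fun γ : Γ => γ • P = P)] at h0
      rw [Finset.sum_eq_zero (s := Finset.univ.filter fun γ : Γ => ¬ γ • P = P) fun γ hγ => ?_, add_zero] at h0
      · refine (Finset.sum_congr rfl fun γ hγ => ?_).trans h0
        have hγ' : γ • P = P := (Finset.mem_filter.1 hγ).2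
        have h' : Ideal.Quotient.mk P (γ • e) = 1 := by
          rw [← map_one (Ideal.Quotient.mk P), Ideal.Quotient.eq]
          have hm : e - 1 ∈ P := Ideal.Quotient.eq.1 (he1.trans (map_one _).symm)
          have := Ideal.smul_mem_pointwise_smul γ _ _ hm
          rwa [hγ', smul_sub, smul_one] at this
        change Ideal.Quotient.mk P (γ • b) = _
        rw [smul_mul', map_mul, h', mul_one]
      · rw [Ideal.Quotient.eq_zero_iff_mem, smul_mul']
        refine Ideal.mul_mem_left _ _ ?_
        have hne : γ⁻¹ • P ≠ P := fun e' => (Finset.mem_filter.1 hγ).2 (eq_inv_smul_iff.1 e'.symm)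
        exact Ideal.mem_inv_pointwise_smul_iff.1 (he0 _ hne)
    have hli := linearIndependent_monoidHom B (B ⧸ P)
    rw [linearIndependent_iff'] at hli
    have hrel : ∑ c ∈ D.image χ, ((D.filter fun γ => χ γ = c).card : B ⧸ P) • (fun f => f : (B →* B ⧸ P) → B → B ⧸ P) c = 0 := by
      funext b
      rw [Finset.sum_apply]
      refine Eq.trans ?_ (hsum b)
      rw [← Finset.sum_fiberwise_of_maps_to (fun γ hγ => Finset.mem_image_of_mem χ hγ) (fun γ => χ γ b)]
      refine Finset.sum_congr rfl fun c _ => ?_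
      rw [Finset.sum_congr rfl (g := fun _ => c b) fun γ hγ => by rw [(Finset.mem_filter.1 hγ).2],
        Finset.sum_const, nsmul_eq_mul, Pi.smul_apply, smul_eq_mul]
    have h1D : (1 : Γ) ∈ D := Finset.mem_filter.2 ⟨Finset.mem_univ _, one_smul Γ P⟩
    have := hli _ _ hrel (χ 1) (Finset.mem_image_of_mem χ h1D)
    refine h P hP.isPrime ?_
    have key : ∀ γ : Γ, χ γ = χ 1 ↔ γ ∈ P.inertia Γ := by
      intro γ
      rw [MonoidHom.ext_iff]
      refine forall_congr' fun b => ?_
      change Ideal.Quotient.mk P (γ • b) = Ideal.Quotient.mk P ((1 : Γ) • b) ↔ _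
      rw [one_smul, Ideal.Quotient.eq]
      rfl
    have hset : (D.filter fun γ => χ γ = χ 1) = Finset.univ.filter fun γ => γ ∈ P.inertia Γ := by
      ext γ
      simp only [D, Finset.mem_filter, Finset.mem_univ, true_and, key]
      exact ⟨fun h => h.2, fun h => ⟨Ideal.inertia_le_stabilizer (M := Γ) P h, h⟩⟩
    rw [hset, ← Fintype.card_subtype, ← Nat.card_eq_fintype_card] at this
    exact this

end Groth.Agent.S12932
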