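import Groth.Statements.S12933
import Mathlib.RingTheory.Flat.Equalizer
import Mathlib.RingTheory.TensorProduct.Maps
import Mathlib.LinearAlgebra.TensorProduct.Pi

set_option autoImplicit false
universe u v w w'
open TensorProduct
open InvTh

namespace Groth.Agent.S12933
open TensorProduct

/-- Let `R` be a commutative ring, `B` a commutative `R`-algebra with an action of a finite group `Γ` by
`R`-algebra automorphisms, and `R'` a flat commutative `R`-algebra; let `Γ` act on `R' ⊗_R B`
through the factor `B`. Then an element of `R' ⊗_R B` is fixed by every element of `Γ` if and only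
if it lies in the `R'`-submodule spanned by the tensors `1 ⊗ b` with `b ∈ B^Γ`: taking invariants
commutes with flat base change (the map `R' ⊗_R B^Γ → R' ⊗_R B` being moreover injective by
flatness). -/
theorem result
    (R : Type u) [CommRing R] (B : Type v) [CommRing B] [Algebra R B]
    (Γ : Type w) [Group Γ] [Finite Γ] [MulSemiringAction Γ B] [SMulCommClass Γ R B]
    (R' : Type w') [CommRing R'] [Algebra R R'] [Module.Flat R R']
    (x : R' ⊗[R] B) :
    (∀ γ : Γ, Algebra.TensorProduct.map (AlgHom.id R R') (MulSemiringAction.toAlgHom R B γ) x = x) ↔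
      x ∈ Submodule.span R' ((fun b : B => (1 : R') ⊗ₜ[R] b) '' {b : B | ∀ γ : Γ, γ • b = b}) := by
  classical
  letI := Fintype.ofFinite Γ
  let d : B →ₗ[R] (Γ → B) :=
    LinearMap.pi fun γ => (MulSemiringAction.toAlgHom R B γ).toLinearMap - LinearMap.id
  have hd : (LinearMap.ker d : Set B) = {b : B | ∀ γ : Γ, γ • b = b} := by
    ext b; simp [d, funext_iff, sub_eq_zero]
  have hspan : Submodule.span R' ((fun b : B => (1 : R') ⊗ₜ[R] b) '' {b : B | ∀ γ : Γ, γ • b = b}) =
      LinearMap.range (TensorProduct.AlgebraTensorModule.lTensor R' R' (LinearMap.ker d).subtype) := by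
    rw [← hd]
    exact (Submodule.baseChange_eq_span R' (LinearMap.ker d)).symm
  rw [hspan, ← Module.Flat.ker_lTensor_eq, LinearMap.mem_ker]
  have key : ∀ (y : R' ⊗[R] B) (γ : Γ),
      TensorProduct.piRight R R' R' (fun _ : Γ => B) (TensorProduct.AlgebraTensorModule.lTensor R' R' d y) γ =
        Algebra.TensorProduct.map (AlgHom.id R R') (MulSemiringAction.toAlgHom R B γ) y - y := by
    intro y γ
    induction y with
    | zero => simp
    | add p q hp hq => simp only [map_add, Pi.add_apply, hp, hq]; abel
    | tmul c b => simp [d, TensorProduct.tmul_sub]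
  rw [← LinearEquiv.map_eq_zero_iff (TensorProduct.piRight R R' R' (fun _ : Γ => B))]
  simp only [funext_iff, key, Pi.zero_apply, sub_eq_zero]

end Groth.Agent.S12933
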