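import Groth.Statements.S12934
import Mathlib.RingTheory.LocalRing.ResidueField.Basic
import Mathlib.GroupTheory.Sylow
import Mathlib.RingTheory.RootsOfUnity.Basic
import Mathlib.RingTheory.RootsOfUnity.PrimitiveRoots
import Mathlib.Algebra.CharP.Reduced

set_option autoImplicit false
universe u v
open InvTh

namespace Groth.Agent.S12934

/-- Let `B` be a local commutative ring with maximal ideal `m` and residue field `k`, and `Γ` a finite
group acting faithfully on `B` by ring automorphisms, such that every element of `Γ` acts trivially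
modulo `m` (the whole group is inertia) and maps each principal ideal of `B` into itself (every
ideal is stable). Let `S ⊆ Γ` be the set of `γ` with `γ b ∈ b + b m` for all `b`. Then: if `k` has
characteristic `0`, `S = {1}`; if `k` has characteristic `p > 0`, `S` is (the underlying set of) a
Sylow `p`-subgroup; every commutator of `Γ` lies in `S`, so `Γ/S` is abelian; and whenever the class
of `γ` in `Γ/S` has order `n` (`γ^n ∈ S`, no smaller positive power in `S`), `k` contains a
primitive `n`-th root of unity. (The published statement also bounds the number of generators of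
`Γ/S` by the number of generators of the monoid of principal ideals; that clause is not included.) -/
theorem result
    (B : Type u) [CommRing B] [IsLocalRing B]
    (Γ : Type v) [Group Γ] [Finite Γ] [MulSemiringAction Γ B] [FaithfulSMul Γ B]
    (hin : ∀ (γ : Γ) (b : B), γ • b - b ∈ IsLocalRing.maximalIdeal B)
    (hst : ∀ (γ : Γ) (b : B), ∃ u : B, γ • b = b * u)
    (S : Set Γ)
    (hS : ∀ γ : Γ, γ ∈ S ↔ ∀ b : B, ∃ x ∈ IsLocalRing.maximalIdeal B, γ • b = b + b * x) :
    (ringChar (IsLocalRing.ResidueField B) = 0 → S = {1}) ∧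
      (∀ (p : ℕ) [Fact p.Prime], ringChar (IsLocalRing.ResidueField B) = p →
        ∃ Q : Sylow p Γ, (Q : Set Γ) = S) ∧
      (∀ γ δ : Γ, γ * δ * γ⁻¹ * δ⁻¹ ∈ S) ∧
      (∀ (γ : Γ) (n : ℕ), 0 < n → γ ^ n ∈ S → (∀ i : ℕ, 0 < i → i < n → γ ^ i ∉ S) →
        ∃ ζ : IsLocalRing.ResidueField B, IsPrimitiveRoot ζ n) := by
  classical
  choose u hu using hst
  let k := IsLocalRing.ResidueField B
  let res : B →+* k := IsLocalRing.residue B
  have hres0 : ∀ x, res x = 0 ↔ x ∈ IsLocalRing.maximalIdeal B := fun x => IsLocalRing.residue_eq_zero_iff x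
  have hinv : ∀ (γ : Γ) x, res (γ • x) = res x := fun γ x => by
    rw [← sub_eq_zero, ← map_sub, hres0]; exact hin γ x
  have hwd : ∀ (b x y : B), b ≠ 0 → b * x = b * y → res x = res y := by
    intro b x y hb h
    rw [← sub_eq_zero, ← map_sub, hres0, IsLocalRing.mem_maximalIdeal, mem_nonunits_iff]
    intro hu
    exact hb ((hu.mul_left_eq_zero).1 (by rw [mul_sub, h, sub_self]))
  let mult : Γ →* ({b : B // b ≠ 0} → k) :=
    { toFun := fun γ b => res (u γ b.1)
      map_one' := funext fun b => by
        rw [Pi.one_apply, ← map_one res]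
        exact hwd b.1 _ _ b.2 (by rw [← hu, one_smul, mul_one])
      map_mul' := fun γ δ => funext fun b => by
        rw [Pi.mul_apply, ← hinv γ (u δ b.1), ← map_mul]
        exact hwd b.1 _ _ b.2 (by rw [← hu, mul_smul, hu δ, smul_mul', hu γ, mul_assoc]) }
  have hker : ∀ γ, γ ∈ mult.ker ↔ γ ∈ S := by
    intro γ
    rw [MonoidHom.mem_ker, hS, funext_iff]
    constructor
    · intro h b
      by_cases hb : b = 0
      · exact ⟨0, zero_mem _, by simp [hb, smul_zero]⟩
      · refine ⟨u γ b - 1, ?_, by rw [hu]; ring⟩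
        rw [← hres0, map_sub, map_one, sub_eq_zero]
        exact h ⟨b, hb⟩
    · intro h b
      obtain ⟨x, hx, he⟩ := h b.1
      change res (u γ b.1) = 1
      rw [← map_one res, hwd b.1 (u γ b.1) (1 + x) b.2 (by rw [← hu, he]; ring), map_add, (hres0 x).2 hx, add_zero]
  have hunip : ∀ γ ∈ S, ((orderOf γ : ℕ) : k) ≠ 0 → γ = 1 := by
    intro γ hγ hn
    refine FaithfulSMul.eq_of_smul_eq_smul (M := Γ) (α := B) fun b => ?_
    rw [one_smul, ← sub_eq_zero]
    have hpow : ∀ i : ℕ, ∃ y ∈ IsLocalRing.maximalIdeal B, γ ^ i • (γ • b - b) = (γ • b - b) * (1 + y) := by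
      intro i
      have : γ ^ i ∈ S := (hker _).1 (mult.ker.pow_mem ((hker γ).2 hγ) i)
      obtain ⟨y, hy, he⟩ := (hS _).1 this (γ • b - b)
      exact ⟨y, hy, by rw [he]; ring⟩
    choose y hy hye using hpow
    have htel : ∑ i ∈ Finset.range (orderOf γ), γ ^ i • (γ • b - b) = 0 := by
      have : ∀ i : ℕ, γ ^ i • (γ • b - b) = γ ^ (i + 1) • b - γ ^ i • b := fun i => by
        rw [smul_sub, smul_smul, ← pow_succ]
      rw [Finset.sum_congr rfl (fun i _ => this i), Finset.sum_range_sub (fun i => γ ^ i • b),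
        pow_orderOf_eq_one, pow_zero, sub_self]
    simp only [hye, ← Finset.mul_sum, Finset.sum_add_distrib, Finset.sum_const, Finset.card_range,
      nsmul_eq_mul, mul_one] at htel
    have hunit : IsUnit ((orderOf γ : B) + ∑ i ∈ Finset.range (orderOf γ), y i) := by
      rw [← IsLocalRing.notMem_maximalIdeal, ← hres0, map_add, map_natCast,
        (hres0 _).2 (sum_mem fun i _ => hy i), add_zero]
      exact hn
    exact hunit.mul_left_eq_zero.1 htel
  refine ⟨fun hp => ?_, fun p hprime hp => ?_, fun γ δ => ?_, fun γ n hn hγn hmin => ?_⟩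
  · haveI : CharP k 0 := hp ▸ ringChar.charP k
    haveI : CharZero k := CharP.charP_to_charZero k
    ext γ
    refine ⟨fun hγ => hunip γ hγ (by exact_mod_cast (orderOf_pos γ).ne'), fun h => ?_⟩
    rw [Set.mem_singleton_iff] at h
    exact h ▸ (hker 1).1 (one_mem _)
  · haveI : CharP k p := hp ▸ ringChar.charP k
    have hP : IsPGroup p mult.ker := by
      intro γ
      refine ⟨(orderOf γ.1).factorization p, Subtype.ext ?_⟩
      change γ.1 ^ _ = 1
      refine hunip _ ((hker _).1 (mult.ker.pow_mem γ.2 _)) ?_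
      rw [Ne, CharP.cast_eq_zero_iff k p, orderOf_pow' _ (pow_ne_zero _ hprime.out.ne_zero),
        Nat.gcd_eq_right (Nat.ordProj_dvd _ _)]
      exact Nat.not_dvd_ordCompl hprime.out (orderOf_pos γ.1).ne'
    have hidx : ¬ p ∣ mult.ker.index := by
      rw [Subgroup.index_eq_card]
      intro hdvd
      haveI : Finite (Γ ⧸ mult.ker) := inferInstance
      obtain ⟨q, hq⟩ := exists_prime_orderOf_dvd_card' p hdvd
      obtain ⟨γ, rfl⟩ := QuotientGroup.mk_surjective q
      have h1 : mult γ = 1 := by
        have h2 : mult γ ^ p = 1 := by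
          rw [← map_pow, ← MonoidHom.mem_ker, ← QuotientGroup.eq_one_iff, QuotientGroup.mk_pow, ← hq, pow_orderOf_eq_one]
        funext b
        have := congrFun h2 b
        rw [Pi.pow_apply, Pi.one_apply] at this
        exact frobenius_inj k p (by rw [frobenius_def, frobenius_def, this, Pi.one_apply, one_pow])
      rw [(QuotientGroup.eq_one_iff γ).2 h1, orderOf_one] at hq
      exact hprime.out.one_lt.ne hq
    refine ⟨hP.toSylow hidx, Set.ext fun γ => ?_⟩
    exact hker γ
  · rw [← hker, MonoidHom.mem_ker, map_mul, map_mul, map_mul, mul_right_comm (mult γ), ← map_mul mult γ γ⁻¹,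
      mul_inv_cancel, map_one, one_mul, ← map_mul, mul_inv_cancel, map_one]
  · haveI : NeZero n := ⟨hn.ne'⟩
    have hpow : mult γ ^ n = 1 := by rw [← map_pow]; exact (hker _).2 hγn
    let d := Nat.card (rootsOfUnity n k)
    have hd : mult γ ^ d = 1 := by
      funext b
      have hb : (mult γ b) ^ n = 1 := congrFun hpow b
      have hm : (⟨rootsOfUnity.mkOfPowEq (mult γ b) hb, (rootsOfUnity.mkOfPowEq (mult γ b) hb).2⟩ : rootsOfUnity n k) ^ d = 1 :=
        pow_card_eq_one'
      exact congrArg (fun t : rootsOfUnity n k => ((t : kˣ) : k)) hm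
    have hdn : d = n := by
      refine le_antisymm (card_rootsOfUnity k n) (not_lt.1 fun hlt => hmin d Nat.card_pos hlt ?_)
      rw [← hker, MonoidHom.mem_ker, map_pow, hd]
    obtain ⟨g, hg⟩ := IsCyclic.exists_ofOrder_eq_natCard (α := rootsOfUnity n k)
    refine ⟨((g : kˣ) : k), ?_⟩
    rw [IsPrimitiveRoot.iff_orderOf, orderOf_units, Subgroup.orderOf_coe, hg]
    exact hdn

end Groth.Agent.S12934
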