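import Groth.Statements.S12935
import Mathlib.RingTheory.Invariant.Basic

set_option autoImplicit false
universe u v
open InvTh

namespace Groth.Agent.S12935
open scoped Pointwise

/-- Let `B` be a commutative ring with an action of a finite group `Γ` by ring automorphisms, `Ω` a
normal subgroup of `Γ`, `B^Ω` the subring of `Ω`-invariants (stable under `Γ`, with the induced
action of `Γ/Ω`), and `P` a prime ideal of `B`. Then (decomposition groups) an element `γ` maps `P ∩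
B^Ω` onto itself if and only if `γω` maps `P` onto itself for some `ω ∈ Ω`; and (inertia groups) `γ`
fixes `B^Ω` modulo `P ∩ B^Ω` if and only if `γω` fixes `B` modulo `P` for some `ω ∈ Ω`. In other
words the decomposition and inertia groups of `P ∩ B^Ω` under `Γ/Ω` are the images of those of `P`.
(The published statement also asserts the same for the ramification groups, the Sylow subgroups of
the inertia groups at the residue characteristic; that clause is not included here.) -/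
theorem result
    (B : Type u) [CommRing B] (Γ : Type v) [Group Γ] [Finite Γ] [MulSemiringAction Γ B]
    (Ω : Subgroup Γ) [Ω.Normal] (P : Ideal B) [P.IsPrime] (γ : Γ) :
    ((∀ x : B, (∀ ω ∈ Ω, ω • x = x) → (x ∈ P ↔ γ • x ∈ P)) ↔
        ∃ ω ∈ Ω, ∀ x : B, x ∈ P ↔ (γ * ω) • x ∈ P) ∧
      ((∀ x : B, (∀ ω ∈ Ω, ω • x = x) → γ • x - x ∈ P) ↔
        ∃ ω ∈ Ω, ∀ x : B, (γ * ω) • x - x ∈ P) := by
  classical
  let A := FixedPoints.subring B Ω
  haveI : SMulCommClass Ω A B := ⟨fun ω a b => by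
    change ω • ((a : B) * b) = (a : B) * ω • b
    rw [smul_mul', a.2 ω]⟩
  haveI : Algebra.IsInvariant A B Ω := ⟨fun b hb => ⟨⟨b, hb⟩, rfl⟩⟩
  have hfix : ∀ (x : B), (∀ ω ∈ Ω, ω • x = x) ↔ x ∈ A := fun x =>
    ⟨fun h ω => h ω.1 ω.2, fun h ω hω => h ⟨ω, hω⟩⟩
  have hconj : ∀ x : B, (∀ ω ∈ Ω, ω • x = x) → ∀ ω ∈ Ω, (γ * ω) • x = γ • x := fun x hx ω hω => by
    rw [mul_smul, hx ω hω]
  have hdec : (∀ x : B, (∀ ω ∈ Ω, ω • x = x) → (x ∈ P ↔ γ • x ∈ P)) →
      ∃ ω ∈ Ω, ∀ x : B, x ∈ P ↔ (γ * ω) • x ∈ P := by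
    intro h
    haveI : (γ⁻¹ • P).IsPrime := ‹P.IsPrime›.smul _
    obtain ⟨ω, hω⟩ := Algebra.IsInvariant.exists_smul_of_under_eq A B Ω P (γ⁻¹ • P) (by
      ext a
      change (a : B) ∈ P ↔ (a : B) ∈ γ⁻¹ • P
      rw [Ideal.mem_inv_pointwise_smul_iff]
      exact h a fun w hw => a.2 ⟨w, hw⟩)
    refine ⟨ω.1, ω.2, fun x => ?_⟩
    rw [mul_smul, ← Ideal.mem_inv_pointwise_smul_iff, hω]
    exact Ideal.smul_mem_pointwise_smul_iff.symm
  refine ⟨⟨hdec, fun ⟨ω, hω, h⟩ x hx => by rw [← hconj x hx ω hω]; exact h x⟩, ?_, ?_⟩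
  · intro h
    obtain ⟨ω, hω, hσ⟩ := hdec fun x hx => by
      refine ⟨fun hxP => ?_, fun hgx => ?_⟩
      · have := add_mem (h x hx) hxP; rwa [sub_add_cancel] at this
      · have := sub_mem hgx (h x hx); rwa [sub_sub_cancel] at this
    let e : (B ⧸ P) ≃+* B ⧸ P := Ideal.quotientEquiv P P (MulSemiringAction.toRingEquiv Γ B (γ * ω)) (by
      refine le_antisymm (fun y hy => ?_) (Ideal.map_le_iff_le_comap.2 fun x hx => (hσ x).1 hx)
      rw [← smul_inv_smul (γ * ω) y] at hy ⊢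
      exact Ideal.mem_map_of_mem _ ((hσ _).2 hy))
    let p : Ideal A := P.under A
    haveI : P.LiesOver p := ⟨rfl⟩
    let f : (B ⧸ P) ≃ₐ[A ⧸ p] B ⧸ P := AlgEquiv.ofRingEquiv (f := e) fun a => by
      obtain ⟨a, rfl⟩ := Ideal.Quotient.mk_surjective a
      change Ideal.Quotient.mk P ((γ * ω) • (a : B)) = Ideal.Quotient.mk P (a : B)
      rw [hconj _ (fun w hw => a.2 ⟨w, hw⟩) ω hω, Ideal.Quotient.eq]
      exact h _ fun w hw => a.2 ⟨w, hw⟩
    obtain ⟨τ, hτ⟩ := Ideal.Quotient.stabilizerHom_surjective Ω p P f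
    refine ⟨ω * (τ.1.1)⁻¹, Ω.mul_mem hω (Ω.inv_mem τ.1.2), fun x => ?_⟩
    rw [← Ideal.Quotient.eq, ← mul_assoc, mul_smul]
    have := AlgEquiv.congr_fun hτ (Ideal.Quotient.mk P ((τ.1.1)⁻¹ • x))
    rw [Ideal.Quotient.stabilizerHom_apply] at this
    refine this.symm.trans (congrArg (Ideal.Quotient.mk P) ?_)
    exact smul_inv_smul τ.1.1 x
  · rintro ⟨ω, hω, h⟩ x hx
    rw [← hconj x hx ω hω]
    exact h x

end Groth.Agent.S12935
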