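import Groth.Statements.S12936
import Mathlib.RingTheory.Ideal.Pointwise
import Mathlib.RingTheory.Ideal.Maximal
import Mathlib.GroupTheory.Coset.Basic
import Mathlib.RingTheory.Invariant.Basic
import Mathlib.RingTheory.Ideal.Quotient.Operations

set_option autoImplicit false
universe u v
open InvTh

namespace Groth.Agent.S12936
open scoped Pointwise

/-- Let `B` be a commutative ring with an action of a finite group `Γ` by ring automorphisms and `P` a
maximal ideal of `B`, with decomposition group `D_P = {γ | γP = P}` and decomposition ring `D =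
B^{D_P}`. Then `D = B^Γ + (P ∩ D)`: every element of `B` fixed by `D_P` is congruent modulo `P` to a
`Γ`-invariant element. Hence the residue field of `D` at `P ∩ D` is that of `B^Γ` at `P ∩ B^Γ`; for
an arbitrary prime `P` the same equality of residue fields follows by localising at `P ∩ B^Γ`. (The
published statement prints this residue field as `k(P)`; the proof establishes the equality with the
residue field of `B^Γ` stated here.) -/
theorem result
    (B : Type u) [CommRing B] (Γ : Type v) [Group Γ] [Finite Γ] [MulSemiringAction Γ B]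
    (P : Ideal B) [P.IsMaximal] (x : B)
    (hx : ∀ γ : Γ, (∀ y : B, y ∈ P ↔ γ • y ∈ P) → γ • x = x) :
    ∃ c : B, (∀ γ : Γ, γ • c = c) ∧ x - c ∈ P := by
  classical
  letI := Fintype.ofFinite Γ
  let D : Subgroup Γ := MulAction.stabilizer Γ P
  have hD : ∀ γ : Γ, γ ∈ D ↔ ∀ y : B, y ∈ P ↔ γ • y ∈ P := by
    intro γ
    rw [MulAction.mem_stabilizer_iff]
    constructor
    · intro h y
      conv_rhs => rw [← h]
      exact Ideal.smul_mem_pointwise_smul_iff.symm
    · intro h
      ext y
      rw [Ideal.mem_pointwise_smul_iff_inv_smul_mem]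
      have := h (γ⁻¹ • y)
      rwa [smul_inv_smul] at this
  -- an element 1 mod P and 0 mod the other conjugates
  obtain ⟨e0, he0, he1⟩ : ∃ e0 : B, e0 - 1 ∈ P ∧ ∀ γ : Γ, γ • P ≠ P → e0 ∈ γ • P := by
    let J : Ideal B := (Finset.univ.filter fun γ : Γ => γ • P ≠ P).inf fun γ => γ • P
    have hJ : ¬ J ≤ P := by
      intro hle
      obtain ⟨γ, hγ, hle⟩ := (Ideal.IsPrime.inf_le' inferInstance).1 hle
      exact (Finset.mem_filter.1 hγ).2 (smul_eq_of_smul_le hle)
    have hsup : P ⊔ J = ⊤ := by
      by_contra hne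
      exact hJ ((Ideal.IsMaximal.eq_of_le ‹P.IsMaximal› hne le_sup_left).symm ▸ le_sup_right)
    obtain ⟨q, hq, j, hj, hqj⟩ := Submodule.mem_sup.1 ((Ideal.eq_top_iff_one _).1 hsup)
    refine ⟨j, by rw [show j - 1 = -q by rw [← hqj]; ring]; exact neg_mem hq, fun γ hγ => ?_⟩
    exact (Finset.inf_le (Finset.mem_filter.2 ⟨Finset.mem_univ γ, hγ⟩) : J ≤ γ • P) hj
  let e' : B := ∏ δ : D, δ.1 • e0
  have he'fix : ∀ δ ∈ D, δ • e' = e' := by
    intro δ hδ
    rw [Finset.smul_prod']
    exact Fintype.prod_equiv (Equiv.mulLeft (⟨δ, hδ⟩ : D)) _ _ fun d => (mul_smul δ d.1 e0).symm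
  have he'1 : e' - 1 ∈ P := by
    rw [← Ideal.Quotient.eq, map_one, map_prod]
    refine Finset.prod_eq_one fun δ _ => ?_
    rw [← map_one (Ideal.Quotient.mk P), Ideal.Quotient.eq]
    have := ((hD δ.1).1 δ.2 _).1 he0
    rwa [smul_sub, smul_one] at this
  have he'0 : ∀ γ : Γ, γ • P ≠ P → e' ∈ γ • P := fun γ hγ =>
    Ideal.prod_mem _ (Finset.mem_univ (1 : D)) (by rw [OneMemClass.coe_one, one_smul]; exact he1 γ hγ)
  let y := x * e'
  have hy : ∀ δ ∈ D, δ • y = y := fun δ hδ => by rw [smul_mul', he'fix δ hδ, hx δ ((hD δ).1 hδ)]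
  let F : Γ ⧸ D → B := Quotient.lift (fun γ : Γ => γ • y) fun a b hab => by
    have h : a⁻¹ * b ∈ D := QuotientGroup.leftRel_apply.1 hab
    calc a • y = a • ((a⁻¹ * b) • y) := by rw [hy _ h]
      _ = b • y := by rw [← mul_smul, mul_inv_cancel_left]
  have hF : ∀ γ : Γ, F γ = γ • y := fun _ => rfl
  letI : Fintype (Γ ⧸ D) := Fintype.ofFinite _
  refine ⟨∑ q : Γ ⧸ D, F q, fun γ => ?_, ?_⟩
  · rw [Finset.smul_sum]
    refine Fintype.sum_equiv (MulAction.toPerm γ) _ _ fun q => ?_
    induction q using QuotientGroup.induction_on with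
    | H a => exact (mul_smul γ a y).symm
  · rw [← Ideal.Quotient.eq, map_sum, Finset.sum_eq_single ((1 : Γ) : Γ ⧸ D)]
    · rw [hF, one_smul, Ideal.Quotient.eq]
      have h2 : x - y = x * (-(e' - 1)) := by simp only [y]; ring
      rw [h2]
      exact Ideal.mul_mem_left _ _ (neg_mem he'1)
    · intro q _ hq
      induction q using QuotientGroup.induction_on with
      | H a =>
        rw [hF, Ideal.Quotient.eq_zero_iff_mem]
        have hne : a⁻¹ • P ≠ P := fun e => hq (by
          refine QuotientGroup.eq.2 ?_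
          rw [mul_one]
          exact e)
        have : y ∈ a⁻¹ • P := Ideal.mul_mem_left _ _ (he'0 _ hne)
        rwa [Ideal.mem_inv_pointwise_smul_iff] at this
    · intro h; exact absurd (Finset.mem_univ _) h

end Groth.Agent.S12936
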