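import Groth.Statements.S12937
import Mathlib.RingTheory.Invariant.Basic
import Mathlib.LinearAlgebra.LinearIndependent.Basic
import Mathlib.FieldTheory.Separable
import Mathlib.Algebra.Polynomial.FieldDivision
import Mathlib.RingTheory.Ideal.GoingUp
import Mathlib.GroupTheory.GroupAction.Quotient

set_option autoImplicit false
universe u v
open InvTh

namespace Groth.Agent.S12937

open Polynomial

variable {B : Type u} [CommRing B] {Γ : Type v} [Group Γ] [Finite Γ] [MulSemiringAction Γ B]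
  {P : Ideal B} [P.IsMaximal]

theorem mem_inertia_iff {γ : Γ} : γ ∈ P.inertia Γ ↔ ∀ x : B, γ • x - x ∈ P := Iff.rfl

/-- The decomposition group. -/
def dec (P : Ideal B) : Subgroup Γ where
  carrier := {γ | ∀ x, γ • x ∈ P ↔ x ∈ P}
  mul_mem' := fun {a b} ha hb x => by rw [mul_smul, ha, hb]
  one_mem' := fun x => by rw [one_smul]
  inv_mem' := fun {a} ha x => by rw [← ha, smul_inv_smul]

theorem inertia_le_dec : P.inertia Γ ≤ dec P := fun γ hγ x =>
  ⟨fun h => by simpa using P.sub_mem h (mem_inertia_iff.1 hγ x),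
    fun h => by simpa using P.add_mem (mem_inertia_iff.1 hγ x) h⟩

theorem smul_invariant {δ : Γ} (hδ : δ ∈ dec P) {b : B} (hb : ∀ t : Γ, t ∈ P.inertia Γ → t • b = b) :
    ∀ t : Γ, t ∈ P.inertia Γ → t • δ • b = δ • b := by
  intro t ht
  have : δ⁻¹ * t * δ ∈ P.inertia Γ := mem_inertia_iff.2 fun x => by
    have h := ((dec P).inv_mem hδ (t • δ • x - δ • x)).2 (mem_inertia_iff.1 ht _)
    rwa [smul_sub, inv_smul_smul, ← mul_smul, ← mul_smul] at h
  conv_rhs => rw [← hb _ this, ← mul_smul, ← mul_assoc, ← mul_assoc, mul_inv_cancel, one_mul, mul_smul]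

theorem mk_smul_congr {δ : Γ} (hδ : δ ∈ dec P) {a b : B}
    (h : Ideal.Quotient.mk P a = Ideal.Quotient.mk P b) :
    Ideal.Quotient.mk P (δ • a) = Ideal.Quotient.mk P (δ • b) := by
  rw [Ideal.Quotient.eq] at h ⊢
  rw [← smul_sub]
  exact (hδ _).2 h

theorem exists_separating : ∃ e : B, e ∉ P ∧ (∀ δ ∈ dec (Γ := Γ) P, δ • e = e) ∧ ∀ γ : Γ, γ ∉ dec P → γ • e ∈ P := by
  classical
  haveI := Fintype.ofFinite Γ
  have h1 : ∀ γ : Γ, γ ∉ dec P → ∃ x, γ • x ∈ P ∧ x ∉ P := by
    intro γ hγ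
    by_contra h
    simp only [not_exists, not_and, not_not] at h
    have hle : P.comap (MulSemiringAction.toRingHom Γ B γ) ≤ P := fun x hx => h x hx
    haveI := Ideal.comap_isMaximal_of_surjective (MulSemiringAction.toRingHom Γ B γ)
      (fun y => ⟨γ⁻¹ • y, by simp⟩) (K := P)
    have heq := (this.eq_of_le Ideal.IsPrime.ne_top' hle)
    exact hγ fun x => ⟨fun hx => heq.le hx, fun hx => heq.ge hx⟩
  choose! x hx using h1
  let e₀ := ∏ γ ∈ Finset.univ.filter (fun γ : Γ => γ ∉ dec P), x γ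
  have he₀ : e₀ ∉ P := fun h => by
    obtain ⟨γ, hγ, h'⟩ := Ideal.IsPrime.prod_mem_iff.1 h
    exact (hx γ (Finset.mem_filter.1 hγ).2).2 h'
  refine ⟨∏ δ : dec (Γ := Γ) P, (δ : Γ) • e₀, fun h => ?_, fun δ hδ => ?_, fun γ hγ => ?_⟩
  · obtain ⟨δ, -, h'⟩ := Ideal.IsPrime.prod_mem_iff.1 h
    exact he₀ ((δ.2 _).1 h')
  · rw [Finset.smul_prod']
    exact Fintype.prod_equiv (Equiv.mulLeft ⟨δ, hδ⟩) _ _ fun d => by simp [mul_smul]
  · rw [← Finset.mul_prod_erase _ _ (Finset.mem_univ (1 : dec (Γ := Γ) P)), smul_mul']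
    refine P.mul_mem_right _ ?_
    rw [Subgroup.coe_one, one_smul, Finset.smul_prod']
    exact Ideal.IsPrime.prod_mem_iff.2 ⟨γ, Finset.mem_filter.2 ⟨Finset.mem_univ _, hγ⟩, (hx γ hγ).1⟩

theorem faithful (γ : Γ) (hγ : γ ∈ dec P)
    (h : ∀ b : B, (∀ t : Γ, t ∈ P.inertia Γ → t • b = b) → γ • b - b ∈ P) : γ ∈ P.inertia Γ := by
  classical
  haveI := Fintype.ofFinite (P.inertia Γ)
  rw [mem_inertia_iff]
  intro x
  let π := Ideal.Quotient.mk P
  let F := MulSemiringAction.charpoly (P.inertia Γ) x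
  have hc : ∀ n t, t ∈ P.inertia Γ → t • F.coeff n = F.coeff n := fun n t ht =>
    MulSemiringAction.smul_coeff_charpoly x n (⟨t, ht⟩ : P.inertia Γ)
  have hmap : (F.map (MulSemiringAction.toRingHom Γ B γ)).map π = F.map π := by
    ext n
    rw [coeff_map, coeff_map, coeff_map, Ideal.Quotient.eq]
    exact h _ (hc n)
  have h0 : (F.map π).eval (π (γ • x)) = 0 := by
    rw [← hmap, Polynomial.eval_map, Polynomial.eval₂_hom,
      show γ • x = MulSemiringAction.toRingHom Γ B γ x from rfl, Polynomial.eval_map, Polynomial.eval₂_hom,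
      MulSemiringAction.eval_charpoly, map_zero, map_zero]
  rw [show F.map π = (X - C (π x)) ^ Fintype.card (P.inertia Γ) by
    simp only [F, MulSemiringAction.charpoly_eq, Polynomial.map_prod, Polynomial.map_sub, map_X, map_C]
    rw [Finset.prod_eq_pow_card (b := X - C (π x)) fun t _ => ?_, Finset.card_univ]
    rw [show π ((t : P.inertia Γ) • x) = π x from Ideal.Quotient.eq.2 (t.2 x)]] at h0
  rw [eval_pow, eval_sub, eval_X, eval_C] at h0
  rw [← Ideal.Quotient.eq]
  exact sub_eq_zero.1 (eq_zero_of_pow_eq_zero h0)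

/-- A nonzero invariant scalar carrying residues of inertia invariants to residues of invariants. -/
theorem exists_scalar : ∃ s : B ⧸ P, s ≠ 0 ∧ ∀ z : B, (∀ t : Γ, t ∈ P.inertia Γ → t • z = z) →
    (∀ δ ∈ dec (Γ := Γ) P, δ • z - z ∈ P) →
    ∃ a : B, (∀ γ : Γ, γ • a = a) ∧ Ideal.Quotient.mk P a = s * Ideal.Quotient.mk P z := by
  classical
  haveI := Fintype.ofFinite Γ
  obtain ⟨e, heP, heD, heN⟩ := exists_separating (Γ := Γ) (P := P)
  let Inv := FixedPoints.subring B (P.inertia Γ)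
  let π := Ideal.Quotient.mk P
  let Q := Γ ⧸ P.inertia Γ
  let DT : Finset Q := Finset.univ.filter fun q => q.out ∈ dec P
  let ψ : Q → (Inv →* B ⧸ P) := fun q =>
    { toFun := fun b => π (q.out • (b : B))
      map_one' := by simp
      map_mul' := fun a b => by simp [smul_mul'] }
  have hinvmem : ∀ b : Inv, ∀ t : Γ, t ∈ P.inertia Γ → t • (b : B) = b := fun b t ht => b.2 ⟨t, ht⟩
  have hψ : Set.InjOn ψ (DT : Set Q) := by
    intro q hq q' hq' h
    simp only [DT, Finset.coe_filter, Finset.mem_univ, true_and, Set.mem_setOf_eq] at hq hq'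
    rw [← q.out_eq', ← q'.out_eq', QuotientGroup.eq]
    refine faithful _ ((dec P).mul_mem ((dec P).inv_mem hq) hq') fun b hb => ?_
    have h1 := DFunLike.congr_fun h ⟨b, fun t => hb t t.2⟩
    have h2 := mk_smul_congr ((dec P).inv_mem hq) h1
    change π (q.out⁻¹ • q.out • b) = π (q.out⁻¹ • q'.out • b) at h2
    rw [inv_smul_smul, ← mul_smul] at h2
    exact Ideal.Quotient.eq.1 h2.symm
  obtain ⟨b, hb⟩ : ∃ b : Inv, ∑ q ∈ DT, ψ q b ≠ 0 := by
    by_contra! hall
    have hne : DT.Nonempty := ⟨QuotientGroup.mk 1, by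
      simp only [DT, Finset.mem_filter, Finset.mem_univ, true_and]
      obtain ⟨t, ht⟩ := QuotientGroup.mk_out_eq_mul (P.inertia Γ) (1 : Γ)
      rw [ht, one_mul]
      exact inertia_le_dec t.2⟩
    have hli := linearIndependent_monoidHom Inv (B ⧸ P)
    have := linearIndependent_iff'.1 hli (DT.image ψ) (fun _ => 1) (by
      funext b
      rw [Finset.sum_apply, Finset.sum_image hψ]
      simpa using hall b) (ψ hne.choose) (Finset.mem_image_of_mem _ hne.choose_spec)
    exact one_ne_zero this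
  refine ⟨π e * ∑ q ∈ DT, ψ q b, mul_ne_zero (fun h => heP (Ideal.Quotient.eq_zero_iff_mem.1 h)) hb, ?_⟩
  intro z hzT hzD
  let w := e * (b : B) * z
  have hwT : ∀ t : Γ, t ∈ P.inertia Γ → t • w = w := fun t ht => by
    simp only [w, smul_mul', heD t (inertia_le_dec ht), hinvmem b t ht, hzT t ht]
  have hout : ∀ (γ : Γ) (q : Q), (γ • q).out • w = γ • q.out • w := fun γ q => by
    obtain ⟨t, ht⟩ := QuotientGroup.mk_out_eq_mul (P.inertia Γ) (γ * q.out)
    have : (QuotientGroup.mk (γ * q.out) : Q) = γ • q := by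
      conv_rhs => rw [← q.out_eq']
      rfl
    rw [this] at ht
    rw [ht, mul_smul, hwT t t.2, mul_smul]
  refine ⟨∑ q : Q, q.out • w, fun γ => ?_, ?_⟩
  · rw [Finset.smul_sum]
    exact Fintype.sum_equiv (MulAction.toPerm γ) _ _ fun q => (hout γ q).symm
  · rw [map_sum, ← Finset.sum_subset (Finset.subset_univ DT) fun q _ hq => ?_]
    · rw [Finset.mul_sum, Finset.sum_mul]
      refine Finset.sum_congr rfl fun q hq => ?_
      have hq' : q.out ∈ dec P := (Finset.mem_filter.1 hq).2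
      simp only [w, smul_mul', map_mul, heD _ hq', Ideal.Quotient.eq.2 (hzD _ hq')]
      rfl
    · rw [Ideal.Quotient.eq_zero_iff_mem]
      simp only [DT, Finset.mem_filter, Finset.mem_univ, true_and] at hq
      simp only [w, smul_mul']
      exact P.mul_mem_right _ (P.mul_mem_right _ (heN _ hq))

theorem forward (x y : B) (hy : ∀ γ : Γ, γ ∈ P.inertia Γ → γ • y = y) (hxy : x - y ∈ P) :
    ∃ g : Polynomial B, (∀ (i : ℕ) (γ : Γ), γ • g.coeff i = g.coeff i) ∧
      (g.map (Ideal.Quotient.mk P)).Separable ∧ Polynomial.aeval x g ∈ P := by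
  classical
  haveI := Fintype.ofFinite Γ
  letI : Field (B ⧸ P) := Ideal.Quotient.field P
  let π := Ideal.Quotient.mk P
  obtain ⟨s, hs, hlift⟩ := exists_scalar (Γ := Γ) (P := P)
  let O : Finset (B ⧸ P) := (Finset.univ : Finset (dec (Γ := Γ) P)).image fun d : dec (Γ := Γ) P => π ((d : Γ) • y)
  let Inv := FixedPoints.subring B (P.inertia Γ)
  have hrep : ∀ o ∈ O, ∃ r : B, r ∈ Inv ∧ π r = o := fun o ho => by
    obtain ⟨d, -, hd⟩ := Finset.mem_image.1 ho
    exact ⟨(d : Γ) • y, fun t => smul_invariant d.2 hy t t.2, hd⟩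
  choose! r hrd hr using hrep
  let H : B[X] := ∏ o ∈ O, (X - C (r o))
  have hH : H.map π = ∏ o ∈ O, (X - C o) := by
    rw [Polynomial.map_prod]
    exact Finset.prod_congr rfl fun o ho => by rw [Polynomial.map_sub, map_X, map_C, hr o ho]
  have hT : ∀ (n : ℕ) (t : Γ), t ∈ P.inertia Γ → t • H.coeff n = H.coeff n := fun n t ht => by
    rw [← Polynomial.coeff_smul, Finset.smul_prod']
    congr 1
    exact Finset.prod_congr rfl fun o ho => by rw [smul_sub, smul_X, smul_C, show t • r o = r o from hrd o ho ⟨t, ht⟩]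
  have hD : ∀ (n : ℕ) (δ : Γ), δ ∈ dec P → δ • H.coeff n - H.coeff n ∈ P := fun n δ hδ => by
    rw [← Ideal.Quotient.eq, ← Polynomial.coeff_smul, ← coeff_map, ← coeff_map]
    congr 1
    rw [Finset.smul_prod', Polynomial.map_prod, hH]
    refine Finset.prod_bij (fun o _ => π (δ • r o)) ?_ ?_ ?_ ?_
    · intro o ho
      obtain ⟨d, -, hd⟩ := Finset.mem_image.1 ho
      refine Finset.mem_image.2 ⟨⟨δ, hδ⟩ * d, Finset.mem_univ _, ?_⟩
      rw [Subgroup.coe_mul, mul_smul]
      exact mk_smul_congr hδ (hd.trans (hr o ho).symm)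
    · intro o ho o' ho' h
      have h' := mk_smul_congr ((dec P).inv_mem hδ) h
      rwa [inv_smul_smul, inv_smul_smul, hr o ho, hr o' ho'] at h'
    · intro o ho
      obtain ⟨d, -, hd⟩ := Finset.mem_image.1 ho
      let d' : dec (Γ := Γ) P := ⟨δ, hδ⟩⁻¹ * d
      have ho' : π ((d' : Γ) • y) ∈ O := Finset.mem_image.2 ⟨d', Finset.mem_univ _, rfl⟩
      refine ⟨_, ho', ?_⟩
      rw [← hd]
      refine (mk_smul_congr hδ (hr _ ho')).trans ?_
      simp [d', mul_smul, π]
    · intro o ho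
      rw [smul_sub, smul_X, smul_C, Polynomial.map_sub, map_X, map_C]
  choose a haΓ ha using fun n => hlift (H.coeff n) (hT n) (hD n)
  let g : B[X] := ∑ n ∈ Finset.range (H.natDegree + 1), monomial n (a n)
  have hgc : ∀ i, g.coeff i = if i ∈ Finset.range (H.natDegree + 1) then a i else 0 := fun i => by
    simp only [g, finset_sum_coeff, coeff_monomial, Finset.sum_ite_eq']
  have hgmap : g.map π = C s * H.map π := by
    ext i
    rw [coeff_map, coeff_C_mul, coeff_map, hgc]
    split_ifs with hi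
    · exact ha i
    · rw [coeff_eq_zero_of_natDegree_lt (by simp at hi; omega), map_zero, mul_zero]
  refine ⟨g, fun i γ => ?_, ?_, ?_⟩
  · rw [hgc]
    split_ifs
    · exact haΓ i γ
    · exact smul_zero γ
  · rw [hgmap, hH]
    exact (separable_prod_X_sub_C_iff'.2 fun a _ b _ h => h).unit_mul (isUnit_C.2 (isUnit_iff_ne_zero.2 hs))
  · rw [← Ideal.Quotient.eq_zero_iff_mem, Polynomial.coe_aeval_eq_eval, ← Polynomial.eval₂_hom,
      ← Polynomial.eval_map, hgmap, eval_mul, hH, eval_prod]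
    refine mul_eq_zero_of_right _ (Finset.prod_eq_zero (i := π x) ?_ (by simp [π]))
    refine Finset.mem_image.2 ⟨1, Finset.mem_univ _, ?_⟩
    rw [Subgroup.coe_one, one_smul]
    exact (Ideal.Quotient.eq.2 hxy).symm

theorem backward (x : B) (g : Polynomial B) (hg : ∀ (i : ℕ) (γ : Γ), γ • g.coeff i = g.coeff i)
    (hsep : (g.map (Ideal.Quotient.mk P)).Separable) (hx : Polynomial.aeval x g ∈ P) :
    ∃ y : B, (∀ γ : Γ, γ ∈ P.inertia Γ → γ • y = y) ∧ x - y ∈ P := by
  classical
  haveI := Fintype.ofFinite (P.inertia Γ)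
  let A := FixedPoints.subring B (P.inertia Γ)
  haveI : Algebra.IsInvariant A B (P.inertia Γ) := ⟨fun b hb => ⟨⟨b, hb⟩, rfl⟩⟩
  haveI : SMulCommClass (P.inertia Γ) A B :=
    ⟨fun t a b => by
      change t • ((a : B) * b) = (a : B) * t • b
      rw [smul_mul', a.2 t]⟩
  haveI : Algebra.IsIntegral A B := Algebra.IsInvariant.isIntegral A B (P.inertia Γ)
  haveI : (P.comap (algebraMap A B)).IsMaximal := Ideal.isMaximal_comap_of_isIntegral_of_isMaximal P
  letI : Field (A ⧸ P.comap (algebraMap A B)) := Ideal.Quotient.field _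
  letI : Field (B ⧸ P) := Ideal.Quotient.field P
  let π := Ideal.Quotient.mk P
  let φ : A ⧸ P.comap (algebraMap A B) →+* B ⧸ P := Ideal.quotientMap P (algebraMap A B) le_rfl
  let πA := Ideal.Quotient.mk (P.comap (algebraMap A B))
  have hlift : ∀ f : B[X], (∀ i, ∀ t : P.inertia Γ, t • f.coeff i = f.coeff i) →
      ∃ f' : (A ⧸ P.comap (algebraMap A B))[X], f'.map φ = f.map π := fun f hf => by
    obtain ⟨f₀, hf₀⟩ : f ∈ Polynomial.lifts (algebraMap A B) :=
      (Polynomial.lifts_iff_coeff_lifts f).2 fun i => ⟨⟨f.coeff i, hf i⟩, rfl⟩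
    refine ⟨f₀.map πA, ?_⟩
    rw [Polynomial.coe_mapRingHom] at hf₀
    rw [Polynomial.map_map, ← hf₀, Polynomial.map_map]
    rfl
  obtain ⟨g', hg'⟩ := hlift g fun i t => hg i t
  obtain ⟨F', hF'⟩ := hlift (MulSemiringAction.charpoly (P.inertia Γ) x) fun i t =>
    MulSemiringAction.smul_coeff_charpoly x i t
  let N := Fintype.card (P.inertia Γ)
  have hF : F'.map φ = (X - C (π x)) ^ N := by
    simp only [hF', MulSemiringAction.charpoly_eq, Polynomial.map_prod, Polynomial.map_sub, map_X, map_C]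
    rw [Finset.prod_eq_pow_card (b := X - C (π x)) fun t _ => ?_, Finset.card_univ]
    rw [show π (t • x) = π x from Ideal.Quotient.eq.2 (t.2 x)]
  set d := EuclideanDomain.gcd g' F' with hd
  have hdm : EuclideanDomain.gcd (g.map π) ((X - C (π x)) ^ N) = d.map φ := by
    rw [hd, ← Polynomial.gcd_map, hg', hF]
  obtain ⟨j, hj, hassoc⟩ := (dvd_prime_pow (prime_X_sub_C (π x)) N).1
    (hdm ▸ EuclideanDomain.gcd_dvd_right (g.map π) ((X - C (π x)) ^ N))
  have hd1 : X - C (π x) ∣ d.map φ := hdm ▸ EuclideanDomain.dvd_gcd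
    (dvd_iff_isRoot.2 (by
      rw [IsRoot.def, Polynomial.eval_map, Polynomial.eval₂_hom]
      rwa [Polynomial.coe_aeval_eq_eval, ← Ideal.Quotient.eq_zero_iff_mem] at hx))
    (dvd_pow_self _ Fintype.card_ne_zero)
  have hsepd : ((X - C (π x)) ^ j).Separable :=
    hsep.of_dvd (hassoc.symm.dvd.trans (hdm ▸ EuclideanDomain.gcd_dvd_left (g.map π) ((X - C (π x)) ^ N)))
  have hj1 : j = 1 := by
    rcases hsepd.of_pow' with h | h | h
    · exact absurd h (prime_X_sub_C (π x)).not_unit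
    · first
        | exact h.2
        | (subst h; rw [pow_zero] at hassoc
           exact absurd (isUnit_of_dvd_unit hd1 (hassoc.symm.isUnit isUnit_one)) (prime_X_sub_C (π x)).not_unit)
    · first
        | exact h.2
        | (subst h; rw [pow_zero] at hassoc
           exact absurd (isUnit_of_dvd_unit hd1 (hassoc.symm.isUnit isUnit_one)) (prime_X_sub_C (π x)).not_unit)
  subst hj1
  rw [pow_one] at hassoc
  have hdeg : d.degree = 1 := by
    rw [← Polynomial.degree_map d φ, Polynomial.degree_eq_degree_of_associated hassoc, degree_X_sub_C]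
  obtain ⟨r, hr⟩ := Polynomial.exists_root_of_degree_eq_one hdeg
  have h0 : (X - C (π x)).IsRoot (φ r) := hr.map.dvd hassoc.dvd
  obtain ⟨y, rfl⟩ := Ideal.Quotient.mk_surjective r
  refine ⟨y, fun t ht => y.2 ⟨t, ht⟩, Ideal.Quotient.eq.1 ?_⟩
  rw [IsRoot.def, eval_sub, eval_X, eval_C, sub_eq_zero] at h0
  exact h0.symm


/-- Let `B` be a commutative ring with an action of a finite group `Γ` by ring automorphisms, `P` a
maximal ideal of `B`, `T = {γ | γ x - x ∈ P for all x}` its inertia group, `B^T` the inertia ring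
and `B^Γ` the ring of invariants, so that `k(P ∩ B^Γ) ⊆ k(P ∩ B^T) ⊆ k(P) = B/P`. Then `k(P ∩ B^T)`
is the largest separable extension of `k(P ∩ B^Γ)` inside `k(P)`: an element `x` of `B` is congruent
modulo `P` to a `T`-invariant element if and only if `x mod P` is a root of some polynomial with
`Γ`-invariant coefficients whose reduction modulo `P` is separable. (The published statement is for
every prime ideal `P`, as an equality of residue fields; this row takes `P` maximal, the case to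
which the published proof reduces by localising at `P ∩ B^Γ`.) -/
theorem result
    (B : Type u) [CommRing B] (Γ : Type v) [Group Γ] [Finite Γ] [MulSemiringAction Γ B]
    (P : Ideal B) [P.IsMaximal] (x : B) :
    (∃ y : B, (∀ γ : Γ, γ ∈ P.inertia Γ → γ • y = y) ∧ x - y ∈ P) ↔
      ∃ g : Polynomial B, (∀ (i : ℕ) (γ : Γ), γ • g.coeff i = g.coeff i) ∧
        (g.map (Ideal.Quotient.mk P)).Separable ∧ Polynomial.aeval x g ∈ P := by
  exact ⟨fun ⟨y, hy, hxy⟩ => forward x y hy hxy, fun ⟨g, hg, hsep, hx⟩ => backward x g hg hsep hx⟩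

end Groth.Agent.S12937
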