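import Groth.Statements.S12939
import Groth.Agent.L24.St.DiagLft

set_option autoImplicit false
universe u
open CategoryTheory AlgebraicGeometry
open AlgSt

namespace Groth.Agent.S12939

/-- For any morphism of algebraic stacks, its diagonal is locally of finite type and representable by
algebraic spaces. -/
theorem result
    (S : Scheme.{u}) (𝒳 : AlgSt.Cat S) (𝒴 : AlgSt.Cat S)
    (h𝒳 : AlgSt.IsAlgStack Scheme.fppfPrecoverage 𝒳)
    (h𝒴 : AlgSt.IsAlgStack Scheme.fppfPrecoverage 𝒴)
    (f : 𝒳 ⥤ᵇ 𝒴) :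
    AlgSt.RepByAlgSpWith (AlgSp.LocP @LocallyOfFiniteType) (FibCat.diag f) := by
  exact Groth.L24.St.diag_lft h𝒳 h𝒴 f

end Groth.Agent.S12939
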