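import Groth.Statements.S1294
import Groth.Agent.L20.RG.Spreadout
import Groth.Agent.L20.RG.WeakAssFlat

set_option autoImplicit false
set_option linter.style.haveILetI false
set_option backward.isDefEq.respectTransparency.types false
universe u
open TensorProduct IsLocalRing
open FlatMor

set_option backward.isDefEq.respectTransparency.types false
namespace Groth.Agent.S1294

open IsLocalRing in
/-- Let B be a finitely presented A-algebra, T ⊆ B a multiplicative subset and N a finitely presented
T⁻¹B-module. Then for every prime p of A there is a finitely generated ideal I of A_p contained in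
its maximal ideal such that, writing A₁ = A_p/I, B₁ = B ⊗_A A₁, T₁ for the image of T in B₁ and N₁
for the base change of N (a T₁⁻¹B₁-module; any models), the base-changed data admits a pure
spreadout over A₁. -/
theorem result {A B : Type u} [CommRing A] [CommRing B] [Algebra A B] [Algebra.FinitePresentation A B]
    (T : Submonoid B) (N : Type u) [AddCommGroup N] [Module (Localization T) N] [Module B N] [Module A N]
    [IsScalarTower B (Localization T) N] [IsScalarTower A (Localization T) N] [IsScalarTower A B N]
    [Module.FinitePresentation (Localization T) N] (p : Ideal A) [p.IsPrime] :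
    ∃ I : Ideal (Localization.AtPrime p), I.FG ∧ I ≤ maximalIdeal (Localization.AtPrime p) ∧
      ∀ (B₁ N₁ : Type u) [CommRing B₁] [Algebra B B₁] [Algebra (Localization.AtPrime p ⧸ I) B₁] [Algebra A B₁]
        [IsScalarTower A B B₁] [IsScalarTower A (Localization.AtPrime p ⧸ I) B₁]
        [Algebra.IsPushout A B (Localization.AtPrime p ⧸ I) B₁]
        [AddCommGroup N₁] [Module (Localization (T.map (algebraMap B B₁))) N₁] [Module (Localization.AtPrime p ⧸ I) N₁]
        [IsScalarTower (Localization.AtPrime p ⧸ I) (Localization (T.map (algebraMap B B₁))) N₁]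
        [Module B N₁] [IsScalarTower B (Localization (T.map (algebraMap B B₁))) N₁]
        [Module A N₁] [IsScalarTower A (Localization.AtPrime p ⧸ I) N₁] [IsScalarTower A B N₁]
        (h : N →ₗ[B] N₁), IsBaseChange (Localization.AtPrime p ⧸ I) (h.restrictScalars A) →
        FlatCA.HasPureSpreadout (Localization.AtPrime p ⧸ I) B₁ (T.map (algebraMap B B₁)) N₁ := by
  obtain ⟨N₀, _, _, _, l, hl⟩ := Groth.L20.RG.exists_fp_localization_model T N
  haveI := hl
  letI : Module A N₀ := Module.compHom N₀ (algebraMap A B)
  haveI : IsScalarTower A B N₀ := IsScalarTower.of_algebraMap_smul fun _ _ => rfl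
  obtain ⟨g, hgT, hg⟩ := Groth.L20.RG.exists_mem_submonoid_forall T (Groth.L20.RG.finite_weakAss_fibre (S := B) p N₀)
  let C := Localization.Away g
  haveI : Algebra.FinitePresentation B C := IsLocalization.Away.finitePresentation g
  haveI : Algebra.FinitePresentation A C := Algebra.FinitePresentation.trans A B C
  haveI : SMulCommClass B A C := ⟨fun b a c => by simp only [Algebra.smul_def]; ring⟩
  haveI : IsScalarTower A C (C ⊗[B] N₀) := TensorProduct.isScalarTower_left
  haveI : IsScalarTower A B (C ⊗[B] N₀) := IsScalarTower.of_algebraMap_smul fun a x => by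
    rw [← algebraMap_smul C (algebraMap A B a) x, ← IsScalarTower.algebraMap_apply, algebraMap_smul]
  haveI : IsLocalizedModule (Submonoid.powers g) (TensorProduct.mk B C N₀ 1) :=
    (isLocalizedModule_iff_isBaseChange (Submonoid.powers g) C _).mpr (TensorProduct.isBaseChange B N₀ C)
  obtain ⟨I, hfg, hle, hfree⟩ := Groth.L20.RG.exists_free_quotient (A := A) (C := C) (C ⊗[B] N₀) p
  refine ⟨I, hfg, hle, ?_⟩
  intro B₁ N₁ _ _ _ _ _ _ _ _ _ _ _ _ _ _ _ _ h hh
  haveI := hfree
  haveI : Nontrivial (Localization.AtPrime p ⧸ I) :=
    Ideal.Quotient.nontrivial_iff.mpr fun h => (maximalIdeal.isMaximal _).ne_top (top_le_iff.mp (h ▸ hle))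
  haveI : IsLocalRing (Localization.AtPrime p ⧸ I) :=
    IsLocalRing.of_surjective' (Ideal.Quotient.mk I) Ideal.Quotient.mk_surjective
  have hp : (maximalIdeal (Localization.AtPrime p ⧸ I)).comap (algebraMap A (Localization.AtPrime p ⧸ I)) = p := by
    have h1 : (maximalIdeal (Localization.AtPrime p ⧸ I)).comap (Ideal.Quotient.mk I) =
        maximalIdeal (Localization.AtPrime p) := by
      haveI := Ideal.comap_isMaximal_of_surjective (Ideal.Quotient.mk I) Ideal.Quotient.mk_surjective
        (K := maximalIdeal (Localization.AtPrime p ⧸ I))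
      exact eq_maximalIdeal inferInstance
    rw [show algebraMap A (Localization.AtPrime p ⧸ I) = (Ideal.Quotient.mk I).comp (algebraMap A (Localization.AtPrime p))
      from rfl, ← Ideal.comap_comap, h1]
    exact Localization.AtPrime.comap_maximalIdeal
  exact Groth.L20.RG.hasPureSpreadout_of_free T N N₀ l p hp g hgT
    (fun t ht => Groth.L20.RG.regular_localized_fibre p g t (TensorProduct.mk B C N₀ 1) fun P hP htP => hg P hP t ht htP)
    N₁ h hh

end Groth.Agent.S1294
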