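import Groth.Statements.S12940
import Groth.Agent.L24.St.LocPRep

set_option autoImplicit false
universe u
open CategoryTheory AlgebraicGeometry
open AlgSt

namespace Groth.Agent.S12940

/-- If a morphism f of algebraic stacks is representable by algebraic spaces, then its diagonal is
representable by schemes: every base change of the diagonal to a scheme is (equivalent over the base
to the slice category of) a scheme. -/
theorem result
    (S : Scheme.{u}) (𝒳 : AlgSt.Cat S) (𝒴 : AlgSt.Cat S)
    (h𝒳 : AlgSt.IsAlgStack Scheme.fppfPrecoverage 𝒳)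
    (h𝒴 : AlgSt.IsAlgStack Scheme.fppfPrecoverage 𝒴)
    (f : 𝒳 ⥤ᵇ 𝒴)
    (hf : AlgSt.RepByAlgSp1 f) :
    FibCat.IsRepresentable1 (FibCat.diag f) := by
  exact Groth.L24.St.representable1_diag_of_rep1 hf

end Groth.Agent.S12940
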