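import Groth.Statements.S1295
import Groth.Agent.L20.RG.PureStageD
import Groth.Agent.L20.Stage.ModelStage
import Groth.Agent.L20.Stage.FibreStageFlat

set_option autoImplicit false
set_option linter.style.haveILetI false
set_option backward.isDefEq.respectTransparency.types false
universe u
open TensorProduct
attribute [local instance] Algebra.TensorProduct.rightAlgebra
set_option maxHeartbeats 2000000
open FlatMor

set_option backward.isDefEq.respectTransparency.types false
namespace Groth.Agent.S1295

/-- Ring form, X = Spec B and the S_i = Spec A_i affine: let A be the colimit of a directed system of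
rings (A_i), p a prime of A with contractions p_i, B a finitely presented A-algebra and N a finitely
presented B-module which is pure along the fibre over p and flat over A at every prime of B over p.
Then for some index i there are a finitely presented A_i-algebra B_i with B ≅ B_i ⊗_{A_i} A and a
finitely presented B_i-module N_i with N ≅ N_i ⊗_{B_i} B, such that N_i is pure along the fibre over
p_i and flat over A_i at every prime of B_i over p_i. -/
theorem result {ι : Type u} [Preorder ι] (G : ι → Type u) [∀ i, CommRing (G i)]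
    (g : ∀ i j, i ≤ j → G i →+* G j) {A : Type u} [CommRing A] [∀ i, Algebra (G i) A] (hcolim : FlatCA.IsDirectedColimitRing G g A)
    {B : Type u} [CommRing B] [Algebra A B] [Algebra.FinitePresentation A B]
    (N : Type u) [AddCommGroup N] [Module B N] [Module A N] [IsScalarTower A B N] [Module.FinitePresentation B N]
    (p : Ideal A) [p.IsPrime] (hpure : FlatCA.IsPureAlong A B N p)
    (hflat : ∀ (q : Ideal B) [q.IsPrime], q.LiesOver p → FlatCA.FlatAt A q N) :
    ∃ (i : ι) (Bi Ni : Type u) (_ : CommRing Bi) (_ : Algebra (G i) Bi) (_ : Algebra Bi B) (_ : Algebra (G i) B)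
      (_ : IsScalarTower (G i) A B) (_ : IsScalarTower (G i) Bi B)
      (_ : AddCommGroup Ni) (_ : Module Bi Ni) (_ : Module (G i) Ni) (_ : IsScalarTower (G i) Bi Ni)
      (_ : Module Bi N) (_ : IsScalarTower Bi B N) (f : Ni →ₗ[Bi] N),
      Algebra.FinitePresentation (G i) Bi ∧ Algebra.IsPushout (G i) Bi A B ∧ Module.FinitePresentation Bi Ni ∧ IsBaseChange B f ∧
      FlatCA.IsPureAlong (G i) Bi Ni (p.comap (algebraMap (G i) A)) ∧
      ∀ (q : Ideal Bi) [q.IsPrime], q.LiesOver (p.comap (algebraMap (G i) A)) → FlatCA.FlatAt (G i) q Ni := by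
  classical
  obtain ⟨i, Bi, Ni, _, _, _, _, _, _, _, _, _, _, _, _, f, hfp, hpush, hNfp, hf⟩ :=
    Groth.L20.Stage.exists_stage_model G g hcolim (B := B) N
  haveI := hfp
  haveI := hpush
  haveI := hNfp
  have hc1 := Groth.L20.Stage.colim_ge hcolim i
  obtain ⟨-, -, -, hcomp, hA, -, -⟩ := id hcolim
  letI alg1 : ∀ k : {k : ι // i ≤ k}, Algebra (G i) (G k.1) := fun k => (g i k.1 k.2).toAlgebra
  haveI : ∀ k : {k : ι // i ≤ k}, IsScalarTower (G i) (G k.1) A := fun k =>
    IsScalarTower.of_algebraMap_eq fun x => (RingHom.congr_fun (hA i k.1 k.2) x).symm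
  have hg1 : ∀ (a b : {k : ι // i ≤ k}) (h : a ≤ b),
      (g a.1 b.1 h).comp (algebraMap (G i) (G a.1)) = algebraMap (G i) (G b.1) := fun a b h => hcomp i a.1 b.1 a.2 h
  -- flatness along the fibre, transported to the tensor model
  let D' := Bi ⊗[G i] A
  let e : D' ≃ₐ[Bi] B := Algebra.IsPushout.equiv (G i) Bi A B
  haveI : IsScalarTower A D' (D' ⊗[Bi] Ni) := TensorProduct.isScalarTower_left
  have hflat' : ∀ (Q : Ideal D') [Q.IsPrime], Q.comap (algebraMap A D') = p →
      Module.Flat A (LocalizedModule Q.primeCompl (D' ⊗[Bi] Ni)) := by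
    intro Q _ hQ
    letI : Algebra D' B := e.toAlgHom.toRingHom.toAlgebra
    haveI : IsScalarTower Bi D' B := IsScalarTower.of_algebraMap_eq fun b => (e.commutes b).symm
    haveI : IsScalarTower A D' B := IsScalarTower.of_algebraMap_eq fun a => by
      show algebraMap A B a = e ((1 : Bi) ⊗ₜ[G i] a)
      rw [Algebra.IsPushout.equiv_tmul, map_one, one_mul]
    letI : Module D' N := Module.compHom N (algebraMap D' B)
    haveI : IsScalarTower D' B N := IsScalarTower.of_algebraMap_smul fun _ _ => rfl
    haveI : IsScalarTower Bi D' N := IsScalarTower.of_algebraMap_smul fun b x => by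
      show algebraMap D' B (algebraMap Bi D' b) • x = b • x
      rw [← IsScalarTower.algebraMap_apply, algebraMap_smul]
    haveI : IsScalarTower A D' N := IsScalarTower.of_algebraMap_smul fun a x => by
      show algebraMap D' B (algebraMap A D' a) • x = a • x
      rw [← IsScalarTower.algebraMap_apply, algebraMap_smul]
    have h0 : IsBaseChange D' f := by
      haveI : IsBaseChange B f := hf
      refine IsBaseChange.of_equiv ((TensorProduct.AlgebraTensorModule.congr
        (LinearEquiv.ofBijective (Algebra.linearMap D' B) e.bijective) (LinearEquiv.refl Bi Ni)).trans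
          (hf.equiv.restrictScalars D')) fun x => ?_
      show hf.equiv (algebraMap D' B 1 ⊗ₜ[Bi] x) = f x
      rw [map_one, hf.equiv_tmul, one_smul]
    let Q' : Ideal B := Q.comap e.symm.toRingHom
    haveI : Q'.IsPrime := Ideal.IsPrime.comap _
    haveI : Q'.LiesOver p := ⟨by
      rw [← hQ]
      ext a
      show algebraMap A D' a ∈ Q ↔ e.symm (algebraMap A B a) ∈ Q
      rw [IsScalarTower.algebraMap_apply A D' B]
      show _ ↔ e.symm (e _) ∈ Q
      rw [AlgEquiv.symm_apply_apply]⟩
    haveI : Module.Flat A (LocalizedModule Q'.primeCompl N) := hflat Q' inferInstance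
    refine (Groth.L20.flat_localizedModule_iff_of_semilinear (R := A) e.symm.toRingHom (h0.equiv.restrictScalars A)
      (fun b m => ?_) Q'.primeCompl Q.primeCompl ?_).mpr inferInstance
    · show h0.equiv (e.symm b • m) = b • h0.equiv m
      rw [map_smul, ← algebraMap_smul B (e.symm b)]
      show e (e.symm b) • _ = _
      rw [AlgEquiv.apply_symm_apply]
    · ext x
      refine ⟨fun hx => ⟨e x, fun h => hx ?_, e.symm_apply_apply x⟩, ?_⟩
      · have h' : e.symm (e x) ∈ Q := h
        rwa [AlgEquiv.symm_apply_apply] at h'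
      · rintro ⟨b, hb, rfl⟩
        exact hb
  obtain ⟨j, hj⟩ := Groth.L20.Stage.exists_fibre_flat_stage (R := G i) (G := fun k : {k : ι // i ≤ k} => G k.1) (fun a b h => g a.1 b.1 h) hg1 hc1 Bi Ni p hflat'
  -- the model at the new stage
  let Bj := Bi ⊗[G i] G j.1
  letI : Algebra Bj B := (e.toAlgHom.toRingHom.comp
    (Groth.L20.Stage.tmap Bi (IsScalarTower.toAlgHom (G i) (G j.1) A)).toRingHom).toAlgebra
  letI : Algebra (G j.1) B := ((algebraMap A B).comp (algebraMap (G j.1) A)).toAlgebra
  haveI : IsScalarTower (G j.1) A B := IsScalarTower.of_algebraMap_eq' rfl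
  haveI : IsScalarTower (G j.1) Bj B := IsScalarTower.of_algebraMap_eq fun x => by
    show algebraMap A B (algebraMap (G j.1) A x) = e ((1 : Bi) ⊗ₜ[G i] algebraMap (G j.1) A x)
    rw [Algebra.IsPushout.equiv_tmul, map_one, one_mul]
  haveI : IsScalarTower Bi Bj B := IsScalarTower.of_algebraMap_eq fun x => by
    show algebraMap Bi B x = e ((Algebra.TensorProduct.map (AlgHom.id Bi Bi) _) (x ⊗ₜ[G i] (1 : G j.1)))
    rw [Algebra.TensorProduct.map_tmul, map_one]
    show _ = e (x ⊗ₜ[G i] (1 : A))
    rw [Algebra.IsPushout.equiv_tmul, map_one, mul_one]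
  haveI : IsScalarTower (G i) (G j.1) B := IsScalarTower.of_algebraMap_eq fun x => by
    rw [IsScalarTower.algebraMap_apply (G i) A B, IsScalarTower.algebraMap_apply (G j.1) A B,
      ← IsScalarTower.algebraMap_apply (G i) (G j.1) A]
  haveI : IsScalarTower (G i) Bj B := IsScalarTower.of_algebraMap_eq fun x => by
    rw [IsScalarTower.algebraMap_apply (G i) Bi Bj, ← IsScalarTower.algebraMap_apply Bi Bj B,
      ← IsScalarTower.algebraMap_apply (G i) Bi B]
  haveI : Algebra.IsPushout (G i) (G j.1) Bi Bj := Algebra.IsPushout.symm inferInstance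
  haveI : Algebra.IsPushout (G i) A Bi B := Algebra.IsPushout.symm inferInstance
  haveI hpA : Algebra.IsPushout (G j.1) A Bj B :=
    (Algebra.IsPushout.comp_iff (G i) (G j.1) (T := A) (R' := Bi) (S' := Bj) (T' := B)).mp inferInstance
  haveI : Algebra.IsPushout (G j.1) Bj A B := Algebra.IsPushout.symm inferInstance
  haveI : Algebra.FinitePresentation (G j.1) Bj :=
    Algebra.FinitePresentation.equiv (Algebra.IsPushout.equiv (G i) (G j.1) Bi Bj)
  let Nj := Bj ⊗[Bi] Ni
  haveI : Module.FinitePresentation Bj Nj := FinitePresentation.of_isBaseChange _ (TensorProduct.isBaseChange Bi Ni Bj)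
  haveI : SMulCommClass Bi (G j.1) Bj := ⟨fun s a c => by rw [Algebra.smul_def a, Algebra.smul_def a, mul_smul_comm]⟩
  haveI : IsScalarTower (G j.1) Bj Nj := TensorProduct.isScalarTower_left
  letI : Module Bj N := Module.compHom N (algebraMap Bj B)
  haveI : IsScalarTower Bj B N := IsScalarTower.of_algebraMap_smul fun _ _ => rfl
  haveI : IsScalarTower Bi Bj N := IsScalarTower.of_algebraMap_smul fun b x => by
    show algebraMap Bj B (algebraMap Bi Bj b) • x = b • x
    rw [← IsScalarTower.algebraMap_apply, algebraMap_smul]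
  have hN₀ : IsBaseChange Bj (TensorProduct.mk Bi Bj Ni 1) := TensorProduct.isBaseChange Bi Ni Bj
  let fj : Nj →ₗ[Bj] N := hN₀.lift f
  have hfj : IsBaseChange B fj := IsBaseChange.of_comp hN₀ (by rw [hN₀.lift_comp]; exact hf)
  -- the system over the new stage
  have hc2 := Groth.L20.Stage.colim_ge hcolim j.1
  letI alg2 : ∀ k : {k : ι // j.1 ≤ k}, Algebra (G j.1) (G k.1) := fun k => (g j.1 k.1 k.2).toAlgebra
  haveI : ∀ k : {k : ι // j.1 ≤ k}, IsScalarTower (G j.1) (G k.1) A := fun k =>
    IsScalarTower.of_algebraMap_eq fun x => (RingHom.congr_fun (hA j.1 k.1 k.2) x).symm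
  obtain ⟨m, hst, hpm, hflm⟩ := Groth.L20.RG.exists_pure_stage (R₀ := G j.1) (G := fun k : {k : ι // j.1 ≤ k} => G k.1) (fun a b h => g a.1 b.1 h)
    (fun a b h => hcomp j.1 a.1 b.1 a.2 h) hc2 (Bj := Bj) Nj N fj hfj p hpure (fun q _ hq => hj q hq.over.symm)
  let Bm := Bj ⊗[G j.1] G m.1
  letI : Algebra Bm B := ((Algebra.IsPushout.equiv (G j.1) Bj A B).toAlgHom.toRingHom.comp
    (Groth.L20.Stage.tmap Bj (IsScalarTower.toAlgHom (G j.1) (G m.1) A)).toRingHom).toAlgebra
  letI : Algebra (G m.1) B := ((algebraMap A B).comp (algebraMap (G m.1) A)).toAlgebra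
  haveI : IsScalarTower (G m.1) A B := IsScalarTower.of_algebraMap_eq' rfl
  haveI : IsScalarTower (G m.1) Bm B := IsScalarTower.of_algebraMap_eq fun x => by
    show algebraMap A B (algebraMap (G m.1) A x) =
      Algebra.IsPushout.equiv (G j.1) Bj A B ((1 : Bj) ⊗ₜ[G j.1] algebraMap (G m.1) A x)
    rw [Algebra.IsPushout.equiv_tmul, map_one, one_mul]
  haveI : IsScalarTower Bj Bm B := IsScalarTower.of_algebraMap_eq (R := Bj) (S := Bm) (A := B) fun x => by
    show algebraMap Bj B x = Algebra.IsPushout.equiv (G j.1) Bj A B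
      ((Algebra.TensorProduct.map (AlgHom.id Bj Bj) _) (x ⊗ₜ[G j.1] (1 : G m.1)))
    rw [Algebra.TensorProduct.map_tmul, map_one]
    show _ = Algebra.IsPushout.equiv (G j.1) Bj A B (x ⊗ₜ[G j.1] (1 : A))
    rw [Algebra.IsPushout.equiv_tmul, map_one, mul_one]
  haveI : IsScalarTower (G j.1) (G m.1) B := IsScalarTower.of_algebraMap_eq fun x => by
    rw [IsScalarTower.algebraMap_apply (G j.1) A B, IsScalarTower.algebraMap_apply (G m.1) A B,
      ← IsScalarTower.algebraMap_apply (G j.1) (G m.1) A]
  haveI : IsScalarTower (G j.1) Bm B := IsScalarTower.of_algebraMap_eq (R := G j.1) (S := Bm) (A := B) fun x => by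
    rw [IsScalarTower.algebraMap_apply (G j.1) Bj Bm, ← IsScalarTower.algebraMap_apply Bj Bm B,
      ← IsScalarTower.algebraMap_apply (G j.1) Bj B]
  haveI : Algebra.IsPushout (G j.1) (G m.1) Bj Bm := Algebra.IsPushout.symm inferInstance
  haveI : Algebra.IsPushout (G m.1) A Bm B :=
    (Algebra.IsPushout.comp_iff (G j.1) (G m.1) (T := A) (R' := Bj) (S' := Bm) (T' := B)).mp inferInstance
  letI : Module Bm N := Module.compHom N (algebraMap Bm B)
  haveI : IsScalarTower Bm B N := IsScalarTower.of_algebraMap_smul fun _ _ => rfl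
  haveI : IsScalarTower Bj Bm N := IsScalarTower.of_algebraMap_smul (R := Bj) (A := Bm) (M := N) fun b x => by
    show algebraMap Bm B (algebraMap Bj Bm b) • x = b • x
    rw [← IsScalarTower.algebraMap_apply, algebraMap_smul]
  have hN₁ : IsBaseChange Bm (TensorProduct.mk Bj Bm Nj 1) := TensorProduct.isBaseChange Bj Nj Bm
  exact ⟨m.1, Bm, Bm ⊗[Bj] Nj, inferInstance, inferInstance, inferInstance, inferInstance, inferInstance,
    inferInstance, inferInstance, inferInstance, inferInstance, hst, inferInstance, inferInstance, hN₁.lift fj,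
    Algebra.FinitePresentation.equiv (Algebra.IsPushout.equiv (G j.1) (G m.1) Bj Bm),
    Algebra.IsPushout.symm inferInstance, FinitePresentation.of_isBaseChange _ hN₁,
    IsBaseChange.of_comp hN₁ (by rw [hN₁.lift_comp]; exact hfj), hpm, hflm⟩

end Groth.Agent.S1295
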