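import Groth.Statements.S12954
import Groth.Agent.L24.St.DiagRep

set_option autoImplicit false
universe u
open CategoryTheory AlgebraicGeometry
open AlgSt

namespace Groth.Agent.S12954

/-- The base change of a quasi-separated morphism of algebraic stacks along any morphism of algebraic
stacks is quasi-separated (quasi-separated: the diagonal is representable by algebraic spaces and
quasi-compact and quasi-separated). The base change is the first projection of the 2-fibre product. -/
theorem result
    (S : Scheme.{u}) (𝒳 : AlgSt.Cat S) (𝒴 : AlgSt.Cat S) (𝒴' : AlgSt.Cat S)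
    (h𝒳 : AlgSt.IsAlgStack Scheme.fppfPrecoverage 𝒳)
    (h𝒴 : AlgSt.IsAlgStack Scheme.fppfPrecoverage 𝒴)
    (h𝒴' : AlgSt.IsAlgStack Scheme.fppfPrecoverage 𝒴')
    (f : 𝒳 ⥤ᵇ 𝒴) (g : 𝒴' ⥤ᵇ 𝒴) :
    AlgSt.IsQuasiSeparatedMor f → AlgSt.IsQuasiSeparatedMor (FibCat.fpFst g f) := by
  exact fun h => Groth.L24.St.diag_fpFst_repWith g h

end Groth.Agent.S12954
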