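import Groth.Statements.S12956
import Groth.Agent.L24.St.OfComp

set_option autoImplicit false
universe u
open CategoryTheory AlgebraicGeometry
open AlgSt

namespace Groth.Agent.S12956

/-- If the composite of f : 𝒳 → 𝒴 and g : 𝒴 → 𝒵 (morphisms of algebraic stacks) is DM, then f is DM. -/
theorem result
    (S : Scheme.{u}) (𝒳 : AlgSt.Cat S) (𝒴 : AlgSt.Cat S) (𝒵 : AlgSt.Cat S)
    (h𝒳 : AlgSt.IsAlgStack Scheme.fppfPrecoverage 𝒳)
    (h𝒴 : AlgSt.IsAlgStack Scheme.fppfPrecoverage 𝒴)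
    (h𝒵 : AlgSt.IsAlgStack Scheme.fppfPrecoverage 𝒵)
    (f : 𝒳 ⥤ᵇ 𝒴) (g : 𝒴 ⥤ᵇ 𝒵) :
    AlgSt.IsDMMor (BasedFunctor.comp f g) → AlgSt.IsDMMor f := by
  refine fun h => Groth.L24.St.diag_locP_of_comp Groth.L23.etLocal_unramified ?_ (Groth.L24.St.diag_rep1_alg h𝒴 h𝒵 g) h
  intro A B C φ ψ hc
  have := hc.1
  have := hc.2
  exact ⟨locallyOfFiniteType_of_comp φ ψ, FormallyUnramified.of_comp φ ψ⟩

end Groth.Agent.S12956
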