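import Groth.Statements.S1296
import Groth.Agent.L20.RG.Impurity

set_option autoImplicit false
set_option linter.style.haveILetI false
set_option backward.isDefEq.respectTransparency.types false
universe u
open FlatMor

set_option backward.isDefEq.respectTransparency.types false
namespace Groth.Agent.S1296

/-- Ring form, X = Spec B affine, T = Spec A' with A' the colimit of a directed system of A-algebras
A'_i: let B be a finite type A-algebra, N a finite B-module, p a prime of A, and suppose given an
impurity of N above p with base change ring A' and points t' ⊆ t. Then for some index i there is an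
impurity of N above p whose base change ring is A'_i (up to an A-isomorphism) and whose point t
corresponds to the contraction of t to A'_i. -/
theorem result {A B : Type u} [CommRing A] [CommRing B] [Algebra A B] [Algebra.FiniteType A B]
    (N : Type u) [AddCommGroup N] [Module B N] [Module.Finite B N] (p : Ideal A) [p.IsPrime]
    {ι : Type u} [Preorder ι] (G : ι → Type u) [∀ i, CommRing (G i)] [∀ i, Algebra A (G i)]
    (g : ∀ i j, i ≤ j → G i →ₐ[A] G j)
    (A' : Type u) [CommRing A'] [Algebra A A'] [∀ i, Algebra (G i) A'] [∀ i, IsScalarTower A (G i) A']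
    (hcolim : FlatCA.IsDirectedColimitRing G (fun i j h => (g i j h).toRingHom) A')
    (B' N' : Type u) [CommRing B'] [Algebra B B'] [Algebra A' B'] [Algebra A B'] [IsScalarTower A B B'] [IsScalarTower A A' B']
    [AddCommGroup N'] [Module B' N'] [Module B N'] [IsScalarTower B B' N'] [Module A' N'] [IsScalarTower A' B' N']
    (f : N →ₗ[B] N') (t' t : Ideal A') [t'.IsPrime] [t.IsPrime] (P : Ideal B') [P.IsPrime]
    (himp : FlatCA.IsImpurity A B N p A' B' N' f t' t P) :
    ∃ i : ι, FlatCA.HasImpurity A B N p (fun A'' _ _ t'' => ∃ e : A'' ≃ₐ[A] G i, t''.map e = t.comap (algebraMap (G i) A')) := by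
  classical
  obtain ⟨hdir, hne, -, -, hcomm, hsurj, -⟩ := hcolim
  haveI := hdir
  haveI := hne
  obtain ⟨n, s, a, b, hw, hle, hp, hs, ha⟩ := Groth.L20.RG.exists_wit_of_isImpurity himp
  choose i₀ x₀ hx₀ using hsurj
  obtain ⟨i, hi⟩ := Finset.exists_le (insert (i₀ s) (Finset.univ.image fun k => i₀ (a k)))
  let l : ∀ x : A', i₀ x ≤ i → G i := fun x h => g _ _ h (x₀ x)
  have hl : ∀ x h, algebraMap (G i) A' (l x h) = x := fun x h =>
    (DFunLike.congr_fun (hcomm _ _ h) (x₀ x)).trans (hx₀ x)
  have hks : i₀ s ≤ i := hi _ (Finset.mem_insert_self _ _)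
  have hka : ∀ k, i₀ (a k) ≤ i := fun k =>
    hi _ (Finset.mem_insert_of_mem (Finset.mem_image_of_mem _ (Finset.mem_univ k)))
  rw [show s = algebraMap (G i) A' (l s hks) from (hl s hks).symm,
    show a = fun k => algebraMap (G i) A' (l (a k) (hka k)) from funext fun k => (hl _ (hka k)).symm] at hw
  refine ⟨i, ((Groth.L20.RG.wit_iff (t'.under (G i)) t' _ _ b).mp hw).hasImpurity p (t.under (G i))
    (Ideal.comap_mono hle) ⟨?_⟩ ?_ ?_ ⟨AlgEquiv.refl, Ideal.map_id _⟩⟩
  · rw [Ideal.under_under]
    exact hp.over
  · rw [Ideal.under_def, Ideal.mem_comap, hl]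
    exact hs
  · intro k
    rw [Ideal.under_def, Ideal.mem_comap, hl]
    exact ha k

end Groth.Agent.S1296
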