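import Groth.Statements.S12976
import Groth.Agent.L24.St.Bootstrap

set_option autoImplicit false
universe u
open CategoryTheory AlgebraicGeometry
open AlgSt

namespace Groth.Agent.S12976

/-- A morphism f between algebraic stacks is representable by algebraic spaces exactly when its second
diagonal 𝒳 → 𝒳 ×_{𝒳 ×_𝒴 𝒳} 𝒳 is an isomorphism, that is an equivalence over the base. -/
theorem result
    (S : Scheme.{u}) (𝒳 : AlgSt.Cat S) (𝒴 : AlgSt.Cat S)
    (h𝒳 : AlgSt.IsAlgStack Scheme.fppfPrecoverage 𝒳)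
    (h𝒴 : AlgSt.IsAlgStack Scheme.fppfPrecoverage 𝒴)
    (f : 𝒳 ⥤ᵇ 𝒴) :
    AlgSt.RepByAlgSp1 f ↔ FibCat.IsEquivOver (FibCat.diag (FibCat.diag f)) := by
  exact (Groth.L24.St.rep1_iff_trivialKernel h𝒳 h𝒴 f).trans (Groth.L24.St.trivialKernel_iff_diag_diag h𝒳.isStack.1 h𝒴.isStack.1 f)

end Groth.Agent.S12976
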