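import Groth.Statements.S12980
import Groth.Agent.L24.St.DiagSep

set_option autoImplicit false
universe u
open CategoryTheory AlgebraicGeometry
open AlgSt

namespace Groth.Agent.S12980

/-- A morphism f of algebraic stacks is quasi-separated if and only if its first and second diagonals
are both quasi-compact (as morphisms representable by algebraic spaces). -/
theorem result
    (S : Scheme.{u}) (𝒳 : AlgSt.Cat S) (𝒴 : AlgSt.Cat S)
    (h𝒳 : AlgSt.IsAlgStack Scheme.fppfPrecoverage 𝒳)
    (h𝒴 : AlgSt.IsAlgStack Scheme.fppfPrecoverage 𝒴)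
    (f : 𝒳 ⥤ᵇ 𝒴) :
    AlgSt.IsQuasiSeparatedMor f ↔
      AlgSt.RepByAlgSpWith AlgSp.IsQuasiCompactMor (FibCat.diag f) ∧
        AlgSt.RepByAlgSpWith AlgSp.IsQuasiCompactMor (FibCat.diag (FibCat.diag f)) := by
  exact Groth.L24.St.isQuasiSeparatedMor_iff_diag_diag h𝒳 h𝒴 f

end Groth.Agent.S12980
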