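import Groth.Statements.S12983
import Groth.Agent.L24.St.FpAlg

set_option autoImplicit false
universe u
open CategoryTheory AlgebraicGeometry
open AlgSt

namespace Groth.Agent.S12983

/-- The composition of two quasi-compact morphisms of algebraic stacks is quasi-compact. -/
theorem result
    (S : Scheme.{u}) (𝒳 : AlgSt.Cat S) (𝒴 : AlgSt.Cat S) (𝒵 : AlgSt.Cat S)
    (h𝒳 : AlgSt.IsAlgStack Scheme.fppfPrecoverage 𝒳)
    (h𝒴 : AlgSt.IsAlgStack Scheme.fppfPrecoverage 𝒴)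
    (h𝒵 : AlgSt.IsAlgStack Scheme.fppfPrecoverage 𝒵)
    (f : 𝒳 ⥤ᵇ 𝒴) (g : 𝒴 ⥤ᵇ 𝒵) :
    AlgSt.IsQuasiCompactMor Scheme.fppfPrecoverage f → AlgSt.IsQuasiCompactMor Scheme.fppfPrecoverage g → AlgSt.IsQuasiCompactMor Scheme.fppfPrecoverage (BasedFunctor.comp f g) := by
  intro hf hg 𝒲 h𝒲 hq h
  exact Groth.L24.St.isQuasiCompact_of_isEquivOver (Groth.L24.St.fpComp_isEquivOver h f g)
    (hf _ (Groth.L24.St.isAlgStack_fp h𝒲 h𝒴 h𝒵 h g) (hg 𝒲 h𝒲 hq h) (FibCat.fpSnd h g))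

end Groth.Agent.S12983
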