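import Groth.Statements.S12984
import Groth.Agent.L24.St.QcSep

set_option autoImplicit false
universe u
open CategoryTheory AlgebraicGeometry
open AlgSt

namespace Groth.Agent.S12984

/-- A closed immersion of algebraic stacks is quasi-compact. -/
theorem result
    (S : Scheme.{u}) (𝒳 : AlgSt.Cat S) (𝒴 : AlgSt.Cat S)
    (h𝒳 : AlgSt.IsAlgStack Scheme.fppfPrecoverage 𝒳)
    (h𝒴 : AlgSt.IsAlgStack Scheme.fppfPrecoverage 𝒴)
    (f : 𝒳 ⥤ᵇ 𝒴) :
    AlgSt.IsClosedImm f → AlgSt.IsQuasiCompactMor Scheme.fppfPrecoverage f := by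
  intro hf
  have h : AlgSt.RepByAlgSpWith AlgSp.IsQuasiCompactMor f :=
    Groth.L24.St.repWith_mono (fun _ _ _ _ h => Groth.L23.isQuasiCompactMor_of_repWith
      (Groth.L23.repWith_mono (fun φ (_ : IsClosedImmersion φ) => by infer_instance) h)) hf
  exact (Groth.L24.St.repWith_qcMor_iff h𝒳.isStack.1 h𝒴.isStack.1 (Groth.L24.St.repWith_rep1 h)).1 h

end Groth.Agent.S12984
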