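import Groth.Statements.S12985
import Groth.Agent.L24.St.FpAlg

set_option autoImplicit false
universe u
open CategoryTheory AlgebraicGeometry
open AlgSt

namespace Groth.Agent.S12985

/-- In a 2-commutative triangle of algebraic stacks f : 𝒳 → 𝒴, p : 𝒳 → 𝒵, q : 𝒴 → 𝒵 with q ∘ f
2-isomorphic to p, if f is surjective (on points) and p is quasi-compact then q is quasi-compact. -/
theorem result
    (S : Scheme.{u}) (𝒳 : AlgSt.Cat S) (𝒴 : AlgSt.Cat S) (𝒵 : AlgSt.Cat S)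
    (h𝒳 : AlgSt.IsAlgStack Scheme.fppfPrecoverage 𝒳)
    (h𝒴 : AlgSt.IsAlgStack Scheme.fppfPrecoverage 𝒴)
    (h𝒵 : AlgSt.IsAlgStack Scheme.fppfPrecoverage 𝒵)
    (f : 𝒳 ⥤ᵇ 𝒴) (p : 𝒳 ⥤ᵇ 𝒵) (q : 𝒴 ⥤ᵇ 𝒵) (e : BasedFunctor.comp f q ≅ p) :
    AlgSt.IsSurjective f → AlgSt.IsQuasiCompactMor Scheme.fppfPrecoverage p → AlgSt.IsQuasiCompactMor Scheme.fppfPrecoverage q := by
  intro hf hp 𝒲 h𝒲 hq h
  have hA := Groth.L24.St.isAlgStack_fp h𝒲 h𝒴 h𝒵 h q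
  have hB := Groth.L24.St.isAlgStack_fp hA h𝒳 h𝒴 (FibCat.fpSnd h q) f
  have h1 : AlgSt.IsQuasiCompact (FibCat.fp (FibCat.fpSnd h q) f) :=
    (Groth.L24.St.isQuasiCompact_iff_of_isEquivOver (Groth.L24.St.fpComp_isEquivOver h f q)).2
      (Groth.L24.St.isQuasiCompact_of_isEquivOver
        (Groth.L24.St.fpMap_isEquivOver (F := h) (G := BasedFunctor.comp f q) (F' := h) (G' := p)
          (Groth.L24.St.isEquivOver_id _) (Groth.L24.St.isEquivOver_id _) (Iso.refl _) e)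
        (hp 𝒲 h𝒲 hq h))
  have := Groth.L24.St.compactSpace_of_isQuasiCompact hB h1
  exact Groth.L24.St.isQuasiCompact_of_surjective hA (Groth.L24.St.continuous_map hA (FibCat.fpFst (FibCat.fpSnd h q) f))
    (Groth.L24.St.isSurjective_fpFst h𝒳.isStack.1 h𝒴.isStack.1 hA.isStack.1 (FibCat.fpSnd h q) hf)

end Groth.Agent.S12985
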