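import Groth.Statements.S12989
import Groth.Agent.L24.St.QcSep

set_option autoImplicit false
universe u
open CategoryTheory AlgebraicGeometry
open AlgSt

namespace Groth.Agent.S12989

/-- Let f : 𝒳 → 𝒴 be a morphism of algebraic stacks and W → 𝒴 a surjective, flat, locally finitely
presented morphism whose source is an algebraic space. Whenever the projection W ×_𝒴 𝒳 → W is
quasi-compact, f is quasi-compact too. -/
theorem result
    (S : Scheme.{u}) (𝒳 : AlgSt.Cat S) (𝒴 : AlgSt.Cat S)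
    (h𝒳 : AlgSt.IsAlgStack Scheme.fppfPrecoverage 𝒳)
    (h𝒴 : AlgSt.IsAlgStack Scheme.fppfPrecoverage 𝒴)
    (f : 𝒳 ⥤ᵇ 𝒴)
    (W : AlgSp.Space S) (w : AlgSt.ofSp W.obj ⥤ᵇ 𝒴)
    (hw₁ : AlgSt.RepByAlgSpWith (AlgSp.LocP @Flat) w)
    (hw₂ : AlgSt.RepByAlgSpWith (AlgSp.LocP @LocallyOfFinitePresentation) w)
    (hw₃ : AlgSt.RepByAlgSpWith AlgSp.IsSurjectiveMor w) :
    AlgSt.IsQuasiCompactMor Scheme.fppfPrecoverage (FibCat.fpFst w f) → AlgSt.IsQuasiCompactMor Scheme.fppfPrecoverage f := by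
  intro h
  have hW := Groth.L24.St.isAlgStack_of_repByAlgSp (𝒳 := AlgSt.ofSp W.obj) ⟨W, _, Groth.L24.St.isEquivOver_id _⟩
  exact Groth.L24.St.isQuasiCompactMor_of_fpFst h𝒳 h𝒴 hW (Groth.L24.LocQ.locQ_of_repWith_locP Groth.L23.etLocal_flat hW h𝒴 hw₁)
    (Groth.L24.LocQ.locQ_of_repWith_locP Groth.L23.etLocal_lfp hW h𝒴 hw₂)
    (Groth.L24.St.isSurjective_of_repWith hW.isStack.1 h𝒴.isStack.1 hw₃) h

end Groth.Agent.S12989
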