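import Groth.Statements.S12994
import Groth.Agent.L24.LocQ.Cancel

set_option autoImplicit false
universe u
open CategoryTheory AlgebraicGeometry
open AlgSt

namespace Groth.Agent.S12994

/-- Let P be a property that is local on source and target for the smooth topology and local on the base
for the fppf topology, f : 𝒳 → 𝒴 a morphism of algebraic stacks, and 𝒵 → 𝒴 a morphism of algebraic
stacks that is flat, surjective and locally of finite presentation. Whenever the projection 𝒵 ×_𝒴 𝒳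
→ 𝒵 has P, so does f. -/
theorem result
    (S : Scheme.{u}) (P : MorphismProperty (AlgSp.Sp S)) (hP : AlgSp.IsSmoothLocalST P)
    (hP₂ : AlgSp.IsLocalOnBase AlgSp.IsFppfCover P)
    (𝒳 : AlgSt.Cat S) (𝒴 : AlgSt.Cat S)
    (h𝒳 : AlgSt.IsAlgStack Scheme.fppfPrecoverage 𝒳)
    (h𝒴 : AlgSt.IsAlgStack Scheme.fppfPrecoverage 𝒴)
    (f : 𝒳 ⥤ᵇ 𝒴)
    (𝒵 : AlgSt.Cat S) (h𝒵 : AlgSt.IsAlgStack Scheme.fppfPrecoverage 𝒵) (z : 𝒵 ⥤ᵇ 𝒴)
    (hz₁ : AlgSt.LocQ (AlgSp.LocP @Flat) z) (hz₂ : AlgSt.LocQ (AlgSp.LocP @LocallyOfFinitePresentation) z)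
    (hz₃ : AlgSt.IsSurjective z) :
    AlgSt.LocQ P (FibCat.fpFst z f) → AlgSt.LocQ P f := by
  exact Groth.L24.LocQ.locQ_of_fpFst_fppf hP hP₂ h𝒳 h𝒴 h𝒵 hz₁ hz₂ hz₃

end Groth.Agent.S12994
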