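import Groth.Statements.S12995
import Groth.Agent.L24.LocQ.RepDescent

set_option autoImplicit false
universe u
open CategoryTheory AlgebraicGeometry
open AlgSt

namespace Groth.Agent.S12995

/-- Let P be a property of morphisms of algebraic spaces that is fppf local on the target and stable
under base change, f : 𝒳 → 𝒴 a morphism of algebraic stacks representable by algebraic spaces, and 𝒵
→ 𝒴 a surjective, flat, locally finitely presented morphism of algebraic stacks. Then f has P (every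
base change to a scheme has P) if and only if the projection 𝒵 ×_𝒴 𝒳 → 𝒵 has P. -/
theorem result
    (S : Scheme.{u}) (P : MorphismProperty (AlgSp.Sp S))
    (hP₁ : ∀ ⦃X₁ Y₁ X₂ Y₂ : AlgSp.Sp S⦄, AlgSp.IsAlgSpace X₁ → AlgSp.IsAlgSpace Y₁ → AlgSp.IsAlgSpace X₂ →
      AlgSp.IsAlgSpace Y₂ → ∀ (a : X₁ ⟶ Y₁) (b : Y₂ ⟶ Y₁) (a' : X₂ ⟶ Y₂) (b' : X₂ ⟶ X₁),
      IsPullback b' a' a b → P a → P a')
    (hP₂ : AlgSp.IsLocalOnBase AlgSp.IsFppfCover P)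
    (𝒳 : AlgSt.Cat S) (𝒴 : AlgSt.Cat S)
    (h𝒳 : AlgSt.IsAlgStack Scheme.fppfPrecoverage 𝒳)
    (h𝒴 : AlgSt.IsAlgStack Scheme.fppfPrecoverage 𝒴)
    (f : 𝒳 ⥤ᵇ 𝒴) (hf : AlgSt.RepByAlgSp1 f)
    (𝒵 : AlgSt.Cat S) (h𝒵 : AlgSt.IsAlgStack Scheme.fppfPrecoverage 𝒵) (z : 𝒵 ⥤ᵇ 𝒴)
    (hz₁ : AlgSt.LocQ (AlgSp.LocP @Flat) z) (hz₂ : AlgSt.LocQ (AlgSp.LocP @LocallyOfFinitePresentation) z)
    (hz₃ : AlgSt.IsSurjective z) :
    AlgSt.RepByAlgSpWith P f ↔ AlgSt.RepByAlgSpWith P (FibCat.fpFst z f) := by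
  exact Groth.L24.LocQ.repWith_iff_fpFst_locQ hP₁ hP₂ h𝒳 h𝒴 h𝒵 hf hz₁ hz₂ hz₃

end Groth.Agent.S12995
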