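import Groth.Statements.S12997
import Groth.Agent.L24.LocQ.Calculus

set_option autoImplicit false
universe u
open CategoryTheory AlgebraicGeometry
open AlgSt

namespace Groth.Agent.S12997

/-- An open immersion of algebraic stacks is locally of finite presentation. -/
theorem result
    (S : Scheme.{u}) (𝒳 : AlgSt.Cat S) (𝒴 : AlgSt.Cat S)
    (h𝒳 : AlgSt.IsAlgStack Scheme.fppfPrecoverage 𝒳)
    (h𝒴 : AlgSt.IsAlgStack Scheme.fppfPrecoverage 𝒴)
    (f : 𝒳 ⥤ᵇ 𝒴) :
    AlgSt.IsOpenImm f → AlgSt.LocQ (AlgSp.LocP @LocallyOfFinitePresentation) f := by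
  intro h
  refine Groth.L24.LocQ.locQ_of_repWith (fun W F V a ν hF ha hν => Groth.L23.locP_comp Groth.L23.etLocal_lfp
    (AlgSp.IsAlgSpace.yon_obj W) hF (AlgSp.IsAlgSpace.yon_obj V)
    (Groth.L23.locP_mono (fun φ hφ => Groth.L23.etLocal_lfp.etale φ hφ) (Groth.L23.locP_of_repWith Groth.L23.etLocal_etale ha)) hν)
    h𝒳 h𝒴 (Groth.L24.St.repWith_mono (fun _ _ _ b hb => ?_) h)
  exact Groth.L23.locP_of_repWith Groth.L23.etLocal_lfp
    (Groth.L23.repWith_mono (fun φ (hφ : IsOpenImmersion φ) => have := hφ; (inferInstance : LocallyOfFinitePresentation φ)) hb)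

end Groth.Agent.S12997
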