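import Groth.Statements.S12998
import Groth.Agent.L24.LocQ.Noetherian

set_option autoImplicit false
universe u
open CategoryTheory AlgebraicGeometry
open AlgSt

namespace Groth.Agent.S12998

/-- For a morphism of algebraic stacks f : 𝒳 → 𝒴 that is locally of finite type, local Noetherianity of
𝒴 implies local Noetherianity of 𝒳 (locally Noetherian: every scheme smooth over the stack is
locally Noetherian). -/
theorem result
    (S : Scheme.{u}) (𝒳 : AlgSt.Cat S) (𝒴 : AlgSt.Cat S)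
    (h𝒳 : AlgSt.IsAlgStack Scheme.fppfPrecoverage 𝒳)
    (h𝒴 : AlgSt.IsAlgStack Scheme.fppfPrecoverage 𝒴)
    (f : 𝒳 ⥤ᵇ 𝒴) :
    AlgSt.LocQ (AlgSp.LocP @LocallyOfFiniteType) f → AlgSt.SmoothLocally (fun T ↦ IsLocallyNoetherian T) 𝒴 → AlgSt.SmoothLocally (fun T ↦ IsLocallyNoetherian T) 𝒳 := by
  exact Groth.L24.LocQ.smoothLocally_noetherian_of_lft h𝒳 h𝒴

end Groth.Agent.S12998
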