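import Groth.Statements.S13004
import Groth.Agent.L24.LocQ.Cancel

set_option autoImplicit false
universe u
open CategoryTheory AlgebraicGeometry
open AlgSt

namespace Groth.Agent.S13004

/-- Let 𝒳 → 𝒴 → 𝒵 be morphisms of algebraic stacks with 𝒳 → 𝒵 flat and 𝒳 → 𝒴 surjective and flat. Then 𝒴
→ 𝒵 is flat. -/
theorem result
    (S : Scheme.{u}) (𝒳 : AlgSt.Cat S) (𝒴 : AlgSt.Cat S) (𝒵 : AlgSt.Cat S)
    (h𝒳 : AlgSt.IsAlgStack Scheme.fppfPrecoverage 𝒳)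
    (h𝒴 : AlgSt.IsAlgStack Scheme.fppfPrecoverage 𝒴)
    (h𝒵 : AlgSt.IsAlgStack Scheme.fppfPrecoverage 𝒵)
    (f : 𝒳 ⥤ᵇ 𝒴) (g : 𝒴 ⥤ᵇ 𝒵)
    (hf₁ : AlgSt.LocQ (AlgSp.LocP @Flat) f) (hf₂ : AlgSt.IsSurjective f) :
    AlgSt.LocQ (AlgSp.LocP @Flat) (BasedFunctor.comp f g) → AlgSt.LocQ (AlgSp.LocP @Flat) g := by
  exact Groth.L24.LocQ.locQ_flat_right h𝒳 h𝒴 h𝒵 hf₁ hf₂

end Groth.Agent.S13004
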