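import Groth.Statements.S13007
import Groth.Agent.L24.LocQ.Cancel

set_option autoImplicit false
universe u
open CategoryTheory AlgebraicGeometry
open AlgSt

namespace Groth.Agent.S13007

/-- Let 𝒳 → 𝒴 → 𝒵 be morphisms of algebraic stacks with 𝒳 → 𝒵 locally of finite presentation and 𝒳 → 𝒴
flat, surjective and locally of finite presentation. In that case 𝒴 → 𝒵 is locally of finite
presentation as well. -/
theorem result
    (S : Scheme.{u}) (𝒳 : AlgSt.Cat S) (𝒴 : AlgSt.Cat S) (𝒵 : AlgSt.Cat S)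
    (h𝒳 : AlgSt.IsAlgStack Scheme.fppfPrecoverage 𝒳)
    (h𝒴 : AlgSt.IsAlgStack Scheme.fppfPrecoverage 𝒴)
    (h𝒵 : AlgSt.IsAlgStack Scheme.fppfPrecoverage 𝒵)
    (f : 𝒳 ⥤ᵇ 𝒴) (g : 𝒴 ⥤ᵇ 𝒵)
    (hf₁ : AlgSt.LocQ (AlgSp.LocP @Flat) f) (hf₂ : AlgSt.LocQ (AlgSp.LocP @LocallyOfFinitePresentation) f) (hf₃ : AlgSt.IsSurjective f) :
    AlgSt.LocQ (AlgSp.LocP @LocallyOfFinitePresentation) (BasedFunctor.comp f g) → AlgSt.LocQ (AlgSp.LocP @LocallyOfFinitePresentation) g := by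
  exact Groth.L24.LocQ.locQ_right_of_fppf Groth.L23.etLocal_lfp Groth.L24.LocQ.isSmoothLocalST_lfp
    (fun a b _ _ _ h => Groth.L24.Alg.locallyOfFinitePresentation_of_fppf_comp a b h) h𝒳 h𝒴 h𝒵 hf₁ hf₂ hf₃

end Groth.Agent.S13007
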