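import Groth.Statements.S13014
import Groth.Agent.L24.St.Rep

set_option autoImplicit false
universe u
open CategoryTheory AlgebraicGeometry
open AlgSt

namespace Groth.Agent.S13014

/-- The base change of a finite morphism 𝒵 → 𝒴 of algebraic stacks along any morphism 𝒳 → 𝒴 of algebraic
stacks, namely the projection 𝒵 ×_𝒴 𝒳 → 𝒳, is finite (finite: representable by algebraic spaces, and
every base change to an affine scheme is an affine scheme finite over it). -/
theorem result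
    (S : Scheme.{u}) (𝒳 : AlgSt.Cat S) (𝒴 : AlgSt.Cat S)
    (h𝒳 : AlgSt.IsAlgStack Scheme.fppfPrecoverage 𝒳)
    (h𝒴 : AlgSt.IsAlgStack Scheme.fppfPrecoverage 𝒴)
    (f : 𝒳 ⥤ᵇ 𝒴)
    (𝒵 : AlgSt.Cat S)
    (h𝒵 : AlgSt.IsAlgStack Scheme.fppfPrecoverage 𝒵) (z : 𝒵 ⥤ᵇ 𝒴) :
    AlgSt.RepByAlgSpWith AlgSp.IsFiniteMor z → AlgSt.RepByAlgSpWith AlgSp.IsFiniteMor (FibCat.fpSnd z f) := by
  exact fun h => Groth.L24.St.repWith_fpSnd f h

end Groth.Agent.S13014
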