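import Groth.Statements.S13019
import Groth.Agent.L24.St.SmoothLocal

set_option autoImplicit false
universe u
open CategoryTheory AlgebraicGeometry
open AlgSt

namespace Groth.Agent.S13019

/-- If 𝒳 is a locally Noetherian algebraic stack then its space of points is a locally Noetherian
topological space: every point has an open neighbourhood which is a Noetherian topological space. -/
theorem result
    (S : Scheme.{u}) (𝒳 : AlgSt.Cat S)
    (h𝒳 : AlgSt.IsAlgStack Scheme.fppfPrecoverage 𝒳) :
    AlgSt.SmoothLocally (fun T ↦ IsLocallyNoetherian T) 𝒳 → ∀ x : AlgSt.Points 𝒳, ∃ U : Set (AlgSt.Points 𝒳), IsOpen U ∧ x ∈ U ∧ TopologicalSpace.NoetherianSpace U := by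
  intro hN p
  obtain ⟨U, x, O, hO, hopen, hp, hc⟩ := Groth.L24.St.exists_noetherian_nhd h𝒳 hN p
  refine ⟨_, hopen, hp, ?_⟩
  exact @TopologicalSpace.noetherianSpace_of_surjective _ _ _ _ hO
    (fun o : O.toScheme => (⟨AlgSt.Points.ofChart x o.1, o.1, o.2, rfl⟩ : AlgSt.Points.ofChart x '' (O : Set ↥U.left)))
    ((hc.comp continuous_subtype_val).subtype_mk _)
    (by rintro ⟨_, t, ht, rfl⟩; exact ⟨⟨t, ht⟩, rfl⟩)

end Groth.Agent.S13019
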