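import Groth.Statements.S13021
import Groth.Agent.L24.St.SmoothLocal

set_option autoImplicit false
universe u
open CategoryTheory AlgebraicGeometry
open AlgSt

namespace Groth.Agent.S13021

/-- The space of points of a locally Noetherian algebraic stack is quasi-sober: every irreducible closed
subset has a generic point. -/
theorem result
    (S : Scheme.{u}) (𝒳 : AlgSt.Cat S)
    (h𝒳 : AlgSt.IsAlgStack Scheme.fppfPrecoverage 𝒳) :
    AlgSt.SmoothLocally (fun T ↦ IsLocallyNoetherian T) 𝒳 → QuasiSober (AlgSt.Points 𝒳) := by
  exact fun hN => Groth.L24.St.quasiSober_points h𝒳 hN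

end Groth.Agent.S13021
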