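import Groth.Statements.S13022
import Groth.Agent.L24.St.QcSep
import Groth.Agent.L24.LocQ.SmoothLocalST
import Groth.Agent.L24.St.LocPFppf
import Groth.Agent.L24.LocQ.Instances
-- import your own Groth.Agent.* helpers here

set_option autoImplicit false
universe u
open CategoryTheory AlgebraicGeometry
open AlgSt

set_option backward.isDefEq.respectTransparency false
set_option backward.isDefEq.respectTransparency.types false

namespace Groth.Agent.S13022
open Groth.L24 Groth.L24.St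

/-- Let f_j : 𝒳_j → 𝒳 be a family of flat, locally finitely presented morphisms of algebraic stacks
which is jointly surjective on points. Then, given any scheme U and any object x of 𝒳 lying over U,
one can find an fppf covering {U_i → U}, indices j(i) and objects x_i of 𝒳_{j(i)} over U_i with
f_{j(i)}(x_i) ≅ x|_{U_i}. -/
theorem result
    (S : Scheme.{u}) (𝒳 : AlgSt.Cat S)
    (h𝒳 : AlgSt.IsAlgStack Scheme.fppfPrecoverage 𝒳)
    (J : Type u) (𝒳' : J → AlgSt.Cat S) (h𝒳' : ∀ j, AlgSt.IsAlgStack Scheme.fppfPrecoverage (𝒳' j))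
    (f : ∀ j, 𝒳' j ⥤ᵇ 𝒳)
    (hf₁ : ∀ j, AlgSt.LocQ (AlgSp.LocP @Flat) (f j)) (hf₂ : ∀ j, AlgSt.LocQ (AlgSp.LocP @LocallyOfFinitePresentation) (f j))
    (hf₃ : ∀ p : AlgSt.Points 𝒳, ∃ j, p ∈ Set.range (AlgSt.Points.map (f j)))
    (U : Over S) (x : FibCat.overCat U ⥤ᵇ 𝒳) :
    ∃ (ι : Type u) (V : ι → Over S) (g : ∀ i, V i ⟶ U) (c : ι → J),
      (Presieve.ofArrows (fun i ↦ (V i).left) fun i ↦ (g i).left) ∈ Scheme.fppfPrecoverage U.left ∧
      ∀ i, ∃ x' : FibCat.overCat (V i) ⥤ᵇ 𝒳' (c i),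
        Nonempty (BasedFunctor.comp x' (f (c i)) ≅ BasedFunctor.comp (AlgSt.overMap (g i)) x) := by
  have hU := isAlgStack_overCat U
  have hP : ∀ j, ∃ (A : Over S) (k : A ⟶ U) (a : FibCat.overCat A ⥤ᵇ 𝒳' j),
      Flat k.left ∧ LocallyOfFinitePresentation k.left ∧
      (∀ v : U.left, (AlgSt.Points.map x (ptOver v) ∈ Set.range (AlgSt.Points.map (f j))) → v ∈ Set.range k.left) ∧
      Nonempty (BasedFunctor.comp a (f j) ≅ BasedFunctor.comp (AlgSt.overMap k) x) := by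
    intro j
    have hfp := isAlgStack_fp hU (h𝒳' j) h𝒳 x (f j)
    obtain ⟨W, c, hc, hcs⟩ := hfp.atlas
    obtain ⟨k, ⟨ik⟩, -⟩ := exists_overMap_iso (BasedFunctor.comp c (FibCat.fpFst x (f j)))
    let g := FibCat.fpFst x (f j)
    let s := FibCat.fpLift (F := g) (G := BasedFunctor.id (FibCat.overCat U)) (BasedFunctor.id _) g (Iso.refl _)
    have hℓ : AlgSt.RepByAlgSpWith (AlgSp.LocP @Smooth) (BasedFunctor.comp c s) :=
      (repWith_postcomp (fpFst_isEquivOver (F := g) (isEquivOver_id _)) _).1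
        ((repWith_congr (Iso.refl _)).2 hc)
    have hid : AlgSt.RepByAlgSpWith (AlgSp.LocP @Smooth) (BasedFunctor.id (FibCat.overCat U)) :=
      repWith_of_isEquivOver (fun _ _ _ _ b hb => Groth.L24.LocQ.locP_smooth_of_isIso b) (isEquivOver_id _)
    have hk : ∀ {Q : MorphismProperty Scheme.{u}} (hQ : AlgSp.IsSmoothLocalST (AlgSp.LocP Q : MorphismProperty (AlgSp.Sp S))),
        AlgSt.LocQ (AlgSp.LocP Q) g → Q k.left := fun hQ hg =>
      Groth.L24.St.prop_of_locP_map (Groth.L24.LocQ.prop_of_chart hQ hfp.isStack.1 hU.isStack.1 hg hid hℓ ik)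
    refine ⟨W, k, BasedFunctor.comp c (FibCat.fpSnd x (f j)),
      hk LocQ.isSmoothLocalST_flat (LocQ.locQ_fpFst LocQ.isSmoothLocalST_flat
        (pBase_locP Groth.L23.etLocal_flat) (h𝒳' j) h𝒳 hU x (hf₁ j)),
      hk LocQ.isSmoothLocalST_lfp (LocQ.locQ_fpFst LocQ.isSmoothLocalST_lfp
        (pBase_locP Groth.L23.etLocal_lfp) (h𝒳' j) h𝒳 hU x (hf₂ j)), fun v hv => ?_, ⟨?_⟩⟩
    · obtain ⟨p, hp⟩ := hv
      obtain ⟨w, hw, -⟩ := exists_points_fp (h𝒳' j).isStack.1 h𝒳.isStack.1 (overCat_isFibGrpd U) (f j) x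
        (ptOver v) p hp.symm
      obtain ⟨q, hq⟩ := isSurjective_of_repWith (overCat_isFibGrpd W) hfp.isStack.1 hcs w
      obtain ⟨t, rfl⟩ := (overPtEquiv W).symm.surjective q
      refine ⟨t, (overPtEquiv U).symm.injective ?_⟩
      show ptOver (k.left t) = ptOver v
      rw [← map_overMap_ptOver, ← map_congr ik, ← hw, ← hq]
      rfl
    · exact whiskerL c (FibCat.fpIso x (f j)).symm ≪≫ whiskerR ik x
  choose A k a hflat hlfp hcov hiso using hP
  refine ⟨J, A, k, id, ?_, fun i => ⟨a i, hiso i⟩⟩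
  change _ ∈ (Scheme.precoverage (@Flat ⊓ @LocallyOfFinitePresentation)).coverings _
  rw [Scheme.ofArrows_mem_precoverage_iff]
  refine ⟨fun v => ?_, fun i => ⟨hflat i, hlfp i⟩⟩
  obtain ⟨j, hj⟩ := hf₃ (AlgSt.Points.map x (ptOver v))
  exact ⟨j, hcov j v hj⟩

end Groth.Agent.S13022
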