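import Groth.Statements.S13035
import Groth.Agent.L24.UnivClosed.Witness

set_option autoImplicit false
set_option backward.isDefEq.respectTransparency.types false
universe u
open CategoryTheory AlgebraicGeometry
open AlgSt

namespace Groth.Agent.S13035

/-- Let f : 𝒳 → 𝒴 be a flat morphism of algebraic stacks and Spec A → 𝒴 a morphism with A a valuation
ring whose closed point maps into the image of |𝒳| → |𝒴|. Then there are an extension of valuation
rings A → A' (an injective local homomorphism of valuation rings) and a morphism Spec A' → 𝒳 making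
the square with Spec A' → Spec A → 𝒴 2-commute. -/
theorem result
    (S : Scheme.{u}) (𝒳 : AlgSt.Cat S) (𝒴 : AlgSt.Cat S)
    (h𝒳 : AlgSt.IsAlgStack Scheme.fppfPrecoverage 𝒳)
    (h𝒴 : AlgSt.IsAlgStack Scheme.fppfPrecoverage 𝒴)
    (f : 𝒳 ⥤ᵇ 𝒴)
    (hf : AlgSt.LocQ (AlgSp.LocP @Flat) f)
    (A : Type u) [CommRing A] [IsDomain A] [ValuationRing A] (sA : Spec (CommRingCat.of A) ⟶ S)
    (a : FibCat.overCat (Over.mk sA) ⥤ᵇ 𝒴)
    (ha : AlgSt.Points.ofChart a (IsLocalRing.closedPoint A) ∈ Set.range (AlgSt.Points.map f)) :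
    ∃ (A' : Type u) (_ : CommRing A') (_ : IsDomain A') (_ : ValuationRing A') (φ : A →+* A'),
      Function.Injective φ ∧ IsLocalHom φ ∧
      ∃ x : FibCat.overCat (Over.mk (Spec.map (CommRingCat.ofHom φ) ≫ sA)) ⥤ᵇ 𝒳,
        Nonempty (BasedFunctor.comp x f ≅
          BasedFunctor.comp (AlgSt.overMap (Over.homMk (Spec.map (CommRingCat.ofHom φ)) rfl :
            Over.mk (Spec.map (CommRingCat.ofHom φ) ≫ sA) ⟶ Over.mk sA)) a) := by
  exact Groth.L24.UnivClosed.exists_lift_of_flat h𝒳 h𝒴 f hf A sA a ha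

end Groth.Agent.S13035
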