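import Groth.Statements.S13038
import Groth.Agent.L24.LocQ.Calculus

set_option autoImplicit false
universe u
open CategoryTheory AlgebraicGeometry
open AlgSt

namespace Groth.Agent.S13038

/-- Suppose P, a property of morphisms between algebraic spaces, is local on source and target for the
smooth topology and is preserved by composition of algebraic spaces. Then the induced property of
morphisms of algebraic stacks, read on one square of smooth charts, is stable under composition. -/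
theorem result
    (S : Scheme.{u}) (P : MorphismProperty (AlgSp.Sp S)) (hP : AlgSp.IsSmoothLocalST P)
    (hPc : ∀ ⦃X₁ Y₁ Z₁ : AlgSp.Sp S⦄, AlgSp.IsAlgSpace X₁ → AlgSp.IsAlgSpace Y₁ → AlgSp.IsAlgSpace Z₁ →
      ∀ (a : X₁ ⟶ Y₁) (b : Y₁ ⟶ Z₁), P a → P b → P (a ≫ b))
    (𝒳 : AlgSt.Cat S) (𝒴 : AlgSt.Cat S) (𝒵 : AlgSt.Cat S)
    (h𝒳 : AlgSt.IsAlgStack Scheme.fppfPrecoverage 𝒳)
    (h𝒴 : AlgSt.IsAlgStack Scheme.fppfPrecoverage 𝒴)
    (h𝒵 : AlgSt.IsAlgStack Scheme.fppfPrecoverage 𝒵)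
    (f : 𝒳 ⥤ᵇ 𝒴) (g : 𝒴 ⥤ᵇ 𝒵) :
    AlgSt.LocQ P f → AlgSt.LocQ P g → AlgSt.LocQ P (BasedFunctor.comp f g) := by
  exact Groth.L24.LocQ.locQ_comp hP hPc h𝒳 h𝒴 h𝒵

end Groth.Agent.S13038
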