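import Groth.Statements.S1304
import Groth.Agent.L20.ThickeningTopology

set_option autoImplicit false
universe u
open FlatMor

namespace Groth.Agent.S1304

open AlgebraicGeometry CategoryTheory Limits in
/-- For a morphism of thickenings, that is a commutative square whose horizontal maps are thickenings
(closed immersions that are surjective on points), the morphism between the thin schemes is
universally closed if and only if the morphism between the thick ones is. -/
theorem result {X X' S S' : Scheme.{u}} (iX : X ⟶ X') (iS : S ⟶ S') (f : X ⟶ S) (f' : X' ⟶ S')
    (hX : MoreMor.IsThickening iX) (hS : MoreMor.IsThickening iS) (w : iX ≫ f' = f ≫ iS) :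
    UniversallyClosed f ↔ UniversallyClosed f' := by
  obtain ⟨_, _⟩ := hX
  obtain ⟨_, _⟩ := hS
  constructor <;> intro h
  · have : UniversallyClosed (iX ≫ f') := by rw [w]; infer_instance
    exact UniversallyClosed.of_comp_surjective iX f'
  · have : UniversallyClosed (f ≫ iS) := by rw [← w]; infer_instance
    exact (MorphismProperty.IsStableUnderBaseChange.hasOfPostcompProperty_monomorphisms (P := @UniversallyClosed)).of_postcomp f iS
      (show Mono iS from inferInstance) this

end Groth.Agent.S1304
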