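import Groth.Statements.S13041
import Mathlib.RingTheory.Flat.TorsionFree
import Mathlib.RingTheory.Localization.Module
import Mathlib.RingTheory.Flat.Stability
import Mathlib.Tactic.Ring
import Mathlib.Tactic.LinearCombination
import Mathlib.Tactic.FieldSimp
import Mathlib.Algebra.BigOperators.Ring.Finset

set_option autoImplicit false
universe u
open MaxMod

namespace Groth.Agent.S13041

/-- Let R be a domain with fraction field K, let A → B be a homomorphism of commutative R-algebras that
are flat over R, with B module-finite over A, such that the induced map K ⊗_R A → K ⊗_R B is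
bijective. If the A-linear map Hom_A(B, A) → A evaluating at 1 is surjective, then A → B is
bijective. (The published statement concerns a finite morphism of flat schemes over a discrete
valuation ring, with locally free relative dualizing sheaves, that is an isomorphism over a
schematically dense open and whose trace map on dualizing sheaves is surjective; this row is the
statement about rings to which the printed proof reduces it and which that proof establishes, and
the argument uses only that R is a domain.) -/
theorem result
    (R K A B : Type u) [CommRing R] [IsDomain R] [Field K] [Algebra R K] [IsFractionRing R K]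
    [CommRing A] [CommRing B] [Algebra R A] [Algebra R B] [Algebra A B] [IsScalarTower R A B]
    [Module.Flat R A] [Module.Flat R B] [Module.Finite A B]
    (hK : Function.Bijective
      (Algebra.TensorProduct.map (AlgHom.id R K) (IsScalarTower.toAlgHom R A B)))
    (htr : Function.Surjective (fun u : B →ₗ[A] A => u 1)) :
    Function.Bijective (algebraMap A B) := by
  obtain ⟨u, hu⟩ := htr 1
  have hu' : ∀ a : A, u (algebraMap A B a) = a := by
    intro a
    rw [Algebra.algebraMap_eq_smul_one, map_smul, show u 1 = 1 from hu, smul_eq_mul, mul_one]
  refine ⟨Function.LeftInverse.injective (g := u) hu', fun b => ⟨u b, ?_⟩⟩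
  set φ := IsScalarTower.toAlgHom R A B with hφ
  set c := b - algebraMap A B (u b) with hc
  have huc : u c = 0 := by rw [hc, map_sub, hu', sub_self]
  obtain ⟨t, ht⟩ := hK.2 ((1 : K) ⊗ₜ[R] c)
  obtain ⟨⟨a, r⟩, hr⟩ := IsLocalizedModule.surj (nonZeroDivisors R) (TensorProduct.mk R K A 1) t
  have hinjB : Function.Injective (TensorProduct.mk R K B 1) := by
    intro x y hxy
    obtain ⟨s, hs⟩ := (IsLocalizedModule.eq_iff_exists (nonZeroDivisors R) (TensorProduct.mk R K B 1)).1 hxy
    exact smul_right_injective B (nonZeroDivisors.ne_zero s.2) hs
  have h1 : (r : R) • c = algebraMap A B a := by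
    apply hinjB
    have h2 := congrArg (Algebra.TensorProduct.map (AlgHom.id R K) φ) hr
    rw [TensorProduct.mk_apply, Algebra.TensorProduct.map_tmul, AlgHom.id_apply] at h2
    rw [Submonoid.smul_def, map_smul, ht] at h2
    rw [TensorProduct.mk_apply, TensorProduct.mk_apply, TensorProduct.tmul_smul]
    exact h2
  have h3 : a = 0 := by
    have := congrArg u h1
    rw [hu', LinearMap.map_smul_of_tower, huc, smul_zero] at this
    exact this.symm
  rw [h3, map_zero] at h1
  have : c = 0 := (smul_eq_zero.1 h1).resolve_left (nonZeroDivisors.ne_zero r.2)
  exact (sub_eq_zero.1 this).symm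

end Groth.Agent.S13041
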