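import Groth.Statements.S13042
import Mathlib.RingTheory.MvPolynomial.Basic
import Mathlib.RingTheory.Ideal.Quotient.Operations
import Mathlib.Algebra.CharP.Lemmas
import Mathlib.RingTheory.LocalRing.MaximalIdeal.Basic
import Mathlib.Tactic.Ring
import Mathlib.Tactic.LinearCombination

set_option autoImplicit false
universe u
open MaxMod

namespace Groth.Agent.S13042

open MvPolynomial in
/-- Let p be a prime, R a local ring of characteristic p, λ an element of the maximal ideal of R and f ∈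
R. Then there is an isomorphism of R-algebras R[W₁, W₂]/(W₁^p − f, W₂^p − f) ≅ R[x, W]/(x^p, W^p −
f) with W₁ ↦ x + W + λ·x·W and W₂ ↦ W; that is, Spec R[W]/(W^p − f) with the action w ↦ x + w + λxw
is a torsor under the group scheme Spec R[x]/(x^p) with law x₁ ∘ x₂ = x₁ + x₂ + λx₁x₂. (The
published statement is over a complete discrete valuation ring of characteristic p with λ a nonzero
nonunit, and also asserts that for f in the fraction field with negative valuation v(f) > −p·v(λ)
the torsor W^p = f extends to a torsor over R, using the coordinate 1/W; that second case fails: for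
p = 2, λ = π a uniformizer and f = 1/π, every model is Spec R[π^a t] with t² = π, and none of these
is a torsor since the coaction sends t to t − π(1 + t)x. Only the case f ∈ R is stated, and the
argument there uses only that R is local of characteristic p.) -/
theorem result
    (p : ℕ) [Fact p.Prime] (R : Type u) [CommRing R] [IsLocalRing R] [CharP R p]
    (lam f : R) (hlam : lam ∈ IsLocalRing.maximalIdeal R) :
    ∃ e : (MvPolynomial (Fin 2) R ⧸ Ideal.span {(X 0 ^ p - C f : MvPolynomial (Fin 2) R), X 1 ^ p - C f}) ≃ₐ[R]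
        (MvPolynomial (Fin 2) R ⧸ Ideal.span {(X 0 ^ p : MvPolynomial (Fin 2) R), X 1 ^ p - C f}),
      e (Ideal.Quotient.mk _ (X 0)) = Ideal.Quotient.mk _ (X 0 + X 1 + C lam * X 0 * X 1) ∧
      e (Ideal.Quotient.mk _ (X 1)) = Ideal.Quotient.mk _ (X 1) := by
  classical
  have hp : p.Prime := Fact.out
  let I₁ := Ideal.span {(X 0 ^ p - C f : MvPolynomial (Fin 2) R), X 1 ^ p - C f}
  let I₂ := Ideal.span {(X 0 ^ p : MvPolynomial (Fin 2) R), X 1 ^ p - C f}
  let g₁ : MvPolynomial (Fin 2) R →ₐ[R] MvPolynomial (Fin 2) R ⧸ I₁ := Ideal.Quotient.mkₐ R I₁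
  let g₂ : MvPolynomial (Fin 2) R →ₐ[R] MvPolynomial (Fin 2) R ⧸ I₂ := Ideal.Quotient.mkₐ R I₂
  haveI : CharP (MvPolynomial (Fin 2) R) p := inferInstance
  have hunit : ∀ (I : Ideal (MvPolynomial (Fin 2) R)), (X 1 ^ p - C f : MvPolynomial (Fin 2) R) ∈ I →
      IsUnit (Ideal.Quotient.mkₐ R I (1 + C lam * X 1)) := by
    intro I hI
    rw [← isUnit_pow_iff hp.ne_zero, ← map_pow, add_pow_char, one_pow, mul_pow, ← map_pow]
    have e : Ideal.Quotient.mkₐ R I (1 + C (lam ^ p) * X 1 ^ p) =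
        algebraMap R _ (1 + lam ^ p * f) := by
      rw [Ideal.Quotient.mkₐ_eq_mk, ← Ideal.Quotient.mk_algebraMap, Ideal.Quotient.eq, MvPolynomial.algebraMap_eq,
        map_add, map_one, map_mul]
      have : (1 + C (lam ^ p) * X 1 ^ p) - (1 + C (lam ^ p) * C f) = C (lam ^ p) * (X 1 ^ p - C f : MvPolynomial (Fin 2) R) := by
        ring
      rw [this]
      exact Ideal.mul_mem_left _ _ hI
    rw [e]
    refine IsUnit.map _ ?_
    by_contra hc
    have h1 : lam ^ p * f ∈ IsLocalRing.maximalIdeal R :=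
      Ideal.mul_mem_right _ _ (Ideal.pow_mem_of_mem _ hlam p hp.pos)
    have h2 := sub_mem (show 1 + lam ^ p * f ∈ IsLocalRing.maximalIdeal R from hc) h1
    rw [add_sub_cancel_right] at h2
    exact (Ideal.ne_top_iff_one _).1 (IsLocalRing.maximalIdeal.isMaximal R).ne_top h2
  obtain ⟨u, hu⟩ := (hunit I₁ (Ideal.subset_span (by simp))).exists_left_inv
  let fw₀ : MvPolynomial (Fin 2) R →ₐ[R] MvPolynomial (Fin 2) R ⧸ I₂ :=
    aeval ![g₂ (X 0 + X 1 + C lam * X 0 * X 1), g₂ (X 1)]
  have hfw : I₁ ≤ RingHom.ker fw₀ := by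
    refine Ideal.span_le.2 (Set.insert_subset_iff.2 ⟨?_, Set.singleton_subset_iff.2 ?_⟩)
    · show fw₀ (X 0 ^ p - C f) = 0
      rw [map_sub, map_pow, aeval_X, aeval_C, Matrix.cons_val_zero, ← map_pow, ← g₂.commutes, ← map_sub]
      refine Ideal.Quotient.eq_zero_iff_mem.2 ?_
      rw [add_pow_char, add_pow_char, mul_pow, mul_pow]
      have e : X 0 ^ p + X 1 ^ p + C lam ^ p * X 0 ^ p * X 1 ^ p - algebraMap R (MvPolynomial (Fin 2) R) f =
          (1 + C lam ^ p * X 1 ^ p) * X 0 ^ p + (X 1 ^ p - C f) := by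
        rw [MvPolynomial.algebraMap_eq]; ring
      rw [e]
      exact add_mem (Ideal.mul_mem_left _ _ (Ideal.subset_span (by simp))) (Ideal.subset_span (by simp))
    · show fw₀ (X 1 ^ p - C f) = 0
      rw [map_sub, map_pow, aeval_X, aeval_C, Matrix.cons_val_one, Matrix.cons_val_zero, ← map_pow, ← g₂.commutes, ← map_sub]
      exact Ideal.Quotient.eq_zero_iff_mem.2 (Ideal.subset_span (by simp [MvPolynomial.algebraMap_eq]))
  let bw₀ : MvPolynomial (Fin 2) R →ₐ[R] MvPolynomial (Fin 2) R ⧸ I₁ :=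
    aeval ![g₁ (X 0 - X 1) * u, g₁ (X 1)]
  have hbw : I₂ ≤ RingHom.ker bw₀ := by
    refine Ideal.span_le.2 (Set.insert_subset_iff.2 ⟨?_, Set.singleton_subset_iff.2 ?_⟩)
    · show bw₀ (X 0 ^ p) = 0
      rw [map_pow, aeval_X, Matrix.cons_val_zero, mul_pow, ← map_pow, sub_pow_char]
      refine mul_eq_zero_of_left (Ideal.Quotient.eq_zero_iff_mem.2 ?_) _
      have e : (X 0 ^ p - X 1 ^ p : MvPolynomial (Fin 2) R) = (X 0 ^ p - C f) - (X 1 ^ p - C f) := by ring
      rw [e]
      exact sub_mem (Ideal.subset_span (by simp)) (Ideal.subset_span (by simp))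
    · show bw₀ (X 1 ^ p - C f) = 0
      rw [map_sub, map_pow, aeval_X, aeval_C, Matrix.cons_val_one, Matrix.cons_val_zero, ← map_pow, ← g₁.commutes, ← map_sub]
      exact Ideal.Quotient.eq_zero_iff_mem.2 (Ideal.subset_span (by simp [MvPolynomial.algebraMap_eq]))
  let fw := Ideal.Quotient.liftₐ I₁ fw₀ fun a ha => hfw ha
  let bw := Ideal.Quotient.liftₐ I₂ bw₀ fun a ha => hbw ha
  have fwX : ∀ a, fw (g₁ a) = fw₀ a := fun a => rfl
  have bwX : ∀ a, bw (g₂ a) = bw₀ a := fun a => rfl
  have bwC : ∀ r : R, bw₀ (C r) = g₁ (C r) := fun r => (bw₀.commutes r).trans (g₁.commutes r).symm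
  have fwC : ∀ r : R, fw₀ (C r) = g₂ (C r) := fun r => (fw₀.commutes r).trans (g₂.commutes r).symm
  have h1 : bw.comp fw = AlgHom.id R _ := by
    refine Ideal.Quotient.algHom_ext R (MvPolynomial.algHom_ext fun i => ?_)
    show bw (fw (g₁ (X i))) = g₁ (X i)
    rw [fwX, aeval_X]
    fin_cases i
    · show bw (g₂ (X 0 + X 1 + C lam * X 0 * X 1)) = g₁ (X 0)
      rw [bwX]
      simp only [map_add, map_mul, bwC, show bw₀ (X 0) = g₁ (X 0 - X 1) * u from aeval_X _ _,
        show bw₀ (X 1) = g₁ (X 1) from aeval_X _ _]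
      have hu' : u * (g₁ 1 + g₁ (C lam) * g₁ (X 1)) = 1 := by
        rw [← map_mul, ← map_add]; exact hu
      rw [map_one] at hu'
      rw [map_sub]
      linear_combination (g₁ (X 0) - g₁ (X 1)) * hu'
    · show bw (g₂ (X 1)) = g₁ (X 1)
      rw [bwX]
      exact aeval_X _ _
  have h2 : fw.comp bw = AlgHom.id R _ := by
    refine Ideal.Quotient.algHom_ext R (MvPolynomial.algHom_ext fun i => ?_)
    show fw (bw (g₂ (X i))) = g₂ (X i)
    rw [bwX, aeval_X]
    fin_cases i
    · show fw (g₁ (X 0 - X 1) * u) = g₂ (X 0)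
      have hu' : fw u * (1 + g₂ (C lam) * g₂ (X 1)) = 1 := by
        have := congrArg fw hu
        rw [map_mul, map_one] at this
        rw [show fw (Ideal.Quotient.mkₐ R I₁ (1 + C lam * X 1)) = fw₀ (1 + C lam * X 1) from rfl,
          map_add, map_one, map_mul, fwC, show fw₀ (X 1) = g₂ (X 1) from aeval_X _ _] at this
        exact this
      rw [map_mul, fwX, map_sub, show fw₀ (X 0) = g₂ (X 0 + X 1 + C lam * X 0 * X 1) from aeval_X _ _,
        show fw₀ (X 1) = g₂ (X 1) from aeval_X _ _]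
      simp only [map_add, map_mul]
      linear_combination g₂ (X 0) * hu'
    · show fw (g₁ (X 1)) = g₂ (X 1)
      rw [fwX]
      exact aeval_X _ _
  exact ⟨AlgEquiv.ofAlgHom fw bw h2 h1, (fwX _).trans (aeval_X _ _), (fwX _).trans (aeval_X _ _)⟩


end Groth.Agent.S13042
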