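import Groth.Statements.S13043
import Groth.Agent.L22.LocalDim

set_option autoImplicit false
universe u
open CoPerf

namespace Groth.Agent.S13043

open AlgebraicGeometry CategoryTheory

theorem dense_lt {S : Scheme.{u}} [IsLocallyNoetherian S] {y x : S} (h : y ⤳ x) (hne : y ≠ x)
    (hy : 1 ≤ ringKrullDim (S.presheaf.stalk y)) : ¬ ringKrullDim (S.presheaf.stalk x) ≤ 1 := by
  obtain ⟨_, ⟨W, hW, rfl⟩, hxW, -⟩ :=
    S.isBasis_affineOpens.exists_subset_of_mem_open (Set.mem_univ x) isOpen_univ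
  haveI : IsNoetherianRing Γ(S, W) := IsLocallyNoetherian.component_noetherian ⟨W, hW⟩
  have hyW : y ∈ W := h.mem_open W.2 hxW
  rw [Groth.L22.LocalDim.dim_stalk_eq_height hW hyW] at hy
  rw [Groth.L22.LocalDim.dim_stalk_eq_height hW hxW]
  have hlt : (hW.primeIdealOf ⟨y, hyW⟩).asIdeal < (hW.primeIdealOf ⟨x, hxW⟩).asIdeal := by
    refine lt_of_le_of_ne (Groth.L22.LocalDim.le_of_specializes hW hyW hxW h) fun he => hne ?_
    rw [← Groth.L22.LocalDim.fromSpec_prime hW hyW, ← Groth.L22.LocalDim.fromSpec_prime hW hxW,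
      PrimeSpectrum.ext he]
  have hst := Ideal.height_strict_mono_of_isPrime_of_isPrime hlt
  have hy' : (1 : ℕ∞) ≤ (hW.primeIdealOf ⟨y, hyW⟩).asIdeal.height := by exact_mod_cast hy
  intro hx
  have hx' : (hW.primeIdealOf ⟨x, hxW⟩).asIdeal.height ≤ (1 : ℕ∞) := by exact_mod_cast hx
  exact absurd (lt_of_le_of_lt hy' (lt_of_lt_of_le hst hx')) (lt_irrefl _)

theorem exists_maximal_generalization {S : Scheme.{u}} {Z : Set S} (hZ : IsClosed Z) {z : S} (hz : z ∈ Z) :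
    ∃ ξ ∈ Z, ξ ⤳ z ∧ ∀ y ∈ Z, y ⤳ ξ → y = ξ := by
  obtain ⟨c, hc, hzc⟩ : ∃ c ∈ irreducibleComponents Z, (⟨z, hz⟩ : Z) ∈ c :=
    ⟨_, irreducibleComponent_mem_irreducibleComponents _, mem_irreducibleComponent⟩
  haveI : QuasiSober Z := (hZ.isClosedEmbedding_subtypeVal).quasiSober
  obtain ⟨g, hg⟩ := QuasiSober.sober hc.1 (isClosed_of_mem_irreducibleComponents c hc)
  refine ⟨g.1, g.2, (hg.specializes hzc).map continuous_subtype_val, fun y hy hyg => ?_⟩
  have hyg' : (⟨y, hy⟩ : Z) ⤳ g := (Topology.IsInducing.subtypeVal.specializes_iff).1 hyg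
  have hsub : c ⊆ closure {(⟨y, hy⟩ : Z)} := hg ▸ hyg'.closure_subset
  have := hc.2 isIrreducible_singleton.closure hsub
  have hgy : g ⤳ (⟨y, hy⟩ : Z) := hg.specializes (this (subset_closure rfl))
  exact congrArg Subtype.val (Specializes.antisymm hyg' hgy).eq

theorem finite_maximal {S : Scheme.{u}} [IsNoetherian S] {Z : Set S} (hZ : IsClosed Z) :
    {ξ | ξ ∈ Z ∧ ∀ y ∈ Z, y ⤳ ξ → y = ξ}.Finite := by
  haveI : TopologicalSpace.NoetherianSpace Z := Topology.IsInducing.subtypeVal.noetherianSpace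
  have hfin := TopologicalSpace.NoetherianSpace.finite_irreducibleComponents (α := Z)
  refine Set.Finite.of_finite_image (f := fun ξ => Subtype.val '' {w : Z | ξ ⤳ w.1}) ?_ ?_
  · refine (hfin.image (Set.image Subtype.val)).subset ?_
    rintro _ ⟨ξ, ⟨hξ, hmax⟩, rfl⟩
    refine ⟨_, ⟨⟨⟨⟨ξ, hξ⟩, specializes_rfl⟩, ?_⟩, fun c hc hle w hw => ?_⟩, rfl⟩
    · have : {w : Z | ξ ⤳ w.1} = closure {(⟨ξ, hξ⟩ : Z)} := by
        ext w; rw [← specializes_iff_mem_closure, ← Topology.IsInducing.subtypeVal.specializes_iff]; rfl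
      rw [this]
      exact isIrreducible_singleton.closure.2
    · haveI : QuasiSober Z := (hZ.isClosedEmbedding_subtypeVal).quasiSober
      obtain ⟨g, hg⟩ := QuasiSober.sober hc.closure isClosed_closure
      have h1 : g ⤳ (⟨ξ, hξ⟩ : Z) := hg.specializes (subset_closure (hle (show ξ ⤳ ξ from specializes_rfl)))
      have h2 : g.1 = ξ := hmax g.1 g.2 (h1.map continuous_subtype_val)
      show ξ ⤳ w.1
      rw [← h2]
      exact (hg.specializes (subset_closure hw)).map continuous_subtype_val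
  · rintro ξ ⟨hξ, hmax⟩ ξ' ⟨hξ', hmax'⟩ he
    have hmem : ξ ∈ Subtype.val '' {w : Z | ξ' ⤳ w.1} :=
      (congrArg (ξ ∈ ·) he).mp ⟨⟨ξ, hξ⟩, specializes_rfl, rfl⟩
    obtain ⟨w, hw, rfl⟩ := hmem
    exact (hmax ξ' hξ' hw).symm

theorem isAffineHom_iff_inf {S : Scheme.{u}} (V : S.Opens) :
    IsAffineHom V.ι ↔ ∀ W : S.Opens, IsAffineOpen W → IsAffineOpen (V ⊓ W) := by
  rw [isAffineHom_iff]
  refine forall₂_congr fun W _ => ?_
  rw [← Scheme.Hom.isAffineOpen_iff_of_isOpenImmersion V.ι, Scheme.Hom.image_preimage_eq_opensRange_inf,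
    Scheme.Opens.opensRange_ι]


/-- For a Noetherian scheme S that is separated, and a dense open subset U ⊆ S that is not empty, only
finitely many open subsets V ⊇ U have an affine inclusion morphism V → S, and among them there is
one contained in all the others (a least element for inclusion). -/
theorem result
    (S : Scheme.{u}) [IsNoetherian S] [S.IsSeparated] (U : S.Opens)
    (hne : (U : Set S).Nonempty) (hU : Dense (U : Set S)) :
    Set.Finite {V : S.Opens | U ≤ V ∧ IsAffineHom V.ι} ∧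
      ∃ V₀ : S.Opens, (U ≤ V₀ ∧ IsAffineHom V₀.ι) ∧
        ∀ V : S.Opens, U ≤ V → IsAffineHom V.ι → V₀ ≤ V := by
  classical
  let T : Set S.Opens := {V : S.Opens | U ≤ V ∧ IsAffineHom V.ι}
  let C : Set S := {ξ | ξ ∈ (U : Set S)ᶜ ∧ ∀ y ∈ (U : Set S)ᶜ, y ⤳ ξ → y = ξ}
  have hC : C.Finite := finite_maximal U.2.isClosed_compl
  have key : ∀ V ∈ T, ∀ z, z ∉ V → ∃ ξ ∈ C, ξ ∉ V ∧ ξ ⤳ z := by
    rintro V ⟨hUV, hV⟩ z hz
    haveI := hV
    obtain ⟨ξ, hξ, hξz, hmax⟩ := exists_maximal_generalization (Z := (V : Set S)ᶜ) V.2.isClosed_compl hz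
    have hle := Groth.L22.LocalDim.dim_le_one_of_isAffineHom V hξ fun y hy h => hmax y hy h
    have hξU : ξ ∉ U := fun h => hξ (hUV h)
    refine ⟨ξ, ⟨hξU, fun y hy hyξ => by_contra fun hne => ?_⟩, hξ, hξz⟩
    exact dense_lt hyξ hne (Groth.L22.LocalDim.one_le_dim_of_mem_closure hy (hU y)) hle
  have hfin : T.Finite := by
    refine Set.Finite.of_finite_image (f := fun V : S.Opens => C \ (V : Set S)) ?_ ?_
    · exact hC.finite_subsets.subset (by rintro _ ⟨V, -, rfl⟩; exact Set.sdiff_subset)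
    · intro V hV V' hV' he
      have h1 : ∀ A ∈ T, ∀ B ∈ T, C \ (A : Set S) ⊆ C \ (B : Set S) → B ≤ A := by
        intro A hA B hB h z hz
        by_contra hzA
        obtain ⟨ξ, hξC, hξA, hξz⟩ := key A hA z hzA
        exact (h ⟨hξC, hξA⟩).2 (hξz.mem_open B.2 hz)
      exact le_antisymm (h1 V' hV' V hV he.ge) (h1 V hV V' hV' he.le)
  refine ⟨hfin, hfin.toFinset.inf id, ?_, fun V h1 h2 => Finset.inf_le (f := id) (hfin.mem_toFinset.2 ⟨h1, h2⟩)⟩
  refine Finset.inf_induction (p := fun V : S.Opens => U ≤ V ∧ IsAffineHom V.ι) ?_ ?_ fun V hV => hfin.mem_toFinset.1 hV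
  · exact ⟨le_top, (isAffineHom_iff_inf _).2 fun W hW => by rwa [top_inf_eq]⟩
  · rintro A ⟨hA, hA'⟩ B ⟨hB, hB'⟩
    refine ⟨le_inf hA hB, (isAffineHom_iff_inf _).2 fun W hW => ?_⟩
    rw [inf_assoc]
    exact (isAffineHom_iff_inf A).1 hA' _ ((isAffineHom_iff_inf B).1 hB' W hW)

end Groth.Agent.S13043
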