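import Groth.Statements.S13044
import Mathlib.AlgebraicGeometry.Morphisms.SchemeTheoreticallyDominant
import Mathlib.AlgebraicGeometry.Morphisms.ClosedImmersion

set_option autoImplicit false
set_option linter.style.haveILetI false
set_option backward.isDefEq.respectTransparency false
set_option backward.isDefEq.respectTransparency.types false
universe u
open CategoryTheory CategoryTheory.Limits AlgebraicGeometry
open MaxMod

namespace Groth.Agent.S13044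

theorem dominant_generic (R K : Type u) [CommRing R] [IsDomain R] [Field K] [Algebra R K] [IsFractionRing R K] :
    IsSchemeTheoreticallyDominant (Spec.map (CommRingCat.ofHom (algebraMap R K))) := by
  haveI : IsDominant (Spec.map (CommRingCat.ofHom (algebraMap R K))) :=
    ⟨(PrimeSpectrum.denseRange_comap_iff_ker_le_nilRadical _).2
      (le_of_eq_of_le ((RingHom.injective_iff_ker_eq_bot _).1 (IsFractionRing.injective R K)) bot_le)⟩
  haveI : IsReduced (Spec (CommRingCat.of R)) := inferInstance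
  exact .of_isDominant _

/-- A map out of a flat scheme into the relation holding on the generic fibre holds everywhere. -/
theorem exists_lift {B B₀ Y Γ Z : Scheme.{u}} (σ : B₀ ⟶ B) [IsSchemeTheoreticallyDominant σ] [QuasiCompact σ]
    (f : Y ⟶ B) (p₁ p₂ : Γ ⟶ Y) (h : p₁ ≫ f = p₂ ≫ f) [IsClosedImmersion (pullback.lift p₁ p₂ h)]
    (q : Z ⟶ B) [Flat q] (u v : Z ⟶ Y) (hu : u ≫ f = q) (hv : v ≫ f = q)
    (hc : ∃ c : pullback q σ ⟶ Γ, c ≫ p₁ = pullback.fst q σ ≫ u ∧ c ≫ p₂ = pullback.fst q σ ≫ v) :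
    ∃ c : Z ⟶ Γ, c ≫ p₁ = u ∧ c ≫ p₂ = v := by
  obtain ⟨c, hc₁, hc₂⟩ := hc
  let l : Z ⟶ pullback f f := pullback.lift u v (hu.trans hv.symm)
  let i : pullback (pullback.lift p₁ p₂ h) l ⟶ Z := pullback.snd _ _
  have hcl : c ≫ pullback.lift p₁ p₂ h = pullback.fst q σ ≫ l := by
    ext
    · simpa [l] using hc₁
    · simpa [l] using hc₂
  have hg : pullback.lift c (pullback.fst q σ) hcl ≫ i = pullback.fst q σ := pullback.lift_snd _ _ _
  have hker : i.ker = ⊥ := by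
    refine le_bot_iff.1 ?_
    rw [← (pullback.fst q σ).ker_eq_bot]
    conv_rhs => rw [← hg]
    exact Scheme.Hom.le_ker_comp _ _
  haveI : IsIso i := IsClosedImmersion.isIso_of_ker_eq i (𝟙 Z) i (Category.comp_id i) (by rw [hker, Scheme.Hom.ker_eq_bot_of_isIso])
  refine ⟨inv i ≫ pullback.fst _ _, ?_, ?_⟩
  · rw [Category.assoc, IsIso.inv_comp_eq]
    have := congrArg (· ≫ pullback.fst f f) (pullback.condition (f := pullback.lift p₁ p₂ h) (g := l))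
    simpa [l, i] using this
  · rw [Category.assoc, IsIso.inv_comp_eq]
    have := congrArg (· ≫ pullback.snd f f) (pullback.condition (f := pullback.lift p₁ p₂ h) (g := l))
    simpa [l, i] using this

theorem result
    (R K : Type u) [CommRing R] [IsDomain R] [IsDiscreteValuationRing R]
    [Field K] [Algebra R K] [IsFractionRing R K]
    (Y Γ : Scheme.{u}) (f : Y ⟶ Spec (CommRingCat.of R)) [IsSeparated f] [Flat f]
    (p₁ p₂ : Γ ⟶ Y) (h : p₁ ≫ f = p₂ ≫ f)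
    (hΓ : IsClosedImmersion (pullback.lift p₁ p₂ h))
    [Flat (p₁ ≫ f)] [Flat p₁] [Flat p₂]
    (hK : ∀ (T : Scheme.{u}) (t : T ⟶ Spec (CommRingCat.of R)),
      (∃ s : T ⟶ Spec (CommRingCat.of K), t = s ≫ Spec.map (CommRingCat.ofHom (algebraMap R K))) →
      _root_.Equivalence fun a b : {a : T ⟶ Y // a ≫ f = t} =>
        ∃ c : T ⟶ Γ, c ≫ p₁ = a.1 ∧ c ≫ p₂ = b.1) :
    ∀ (T : Scheme.{u}) (t : T ⟶ Spec (CommRingCat.of R)),
      _root_.Equivalence fun a b : {a : T ⟶ Y // a ≫ f = t} =>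
        ∃ c : T ⟶ Γ, c ≫ p₁ = a.1 ∧ c ≫ p₂ = b.1 := by
  haveI := hΓ
  let σ := Spec.map (CommRingCat.ofHom (algebraMap R K))
  haveI : IsSchemeTheoreticallyDominant σ := dominant_generic R K
  have gen : ∀ {Z : Scheme.{u}} (q : Z ⟶ Spec (CommRingCat.of R)), ∃ s, pullback.fst q σ ≫ q = s ≫ σ :=
    fun q => ⟨_, pullback.condition⟩
  have hr : ∃ c : Y ⟶ Γ, c ≫ p₁ = 𝟙 Y ∧ c ≫ p₂ = 𝟙 Y :=
    exists_lift σ f p₁ p₂ h f (𝟙 Y) (𝟙 Y) (Category.id_comp f) (Category.id_comp f)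
      (by
        obtain ⟨c, h₁, h₂⟩ := (hK _ (pullback.fst f σ ≫ f) (gen f)).refl ⟨pullback.fst f σ, rfl⟩
        exact ⟨c, by simpa using h₁, by simpa using h₂⟩)
  have hs : ∃ c : Γ ⟶ Γ, c ≫ p₁ = p₂ ∧ c ≫ p₂ = p₁ :=
    exists_lift σ f p₁ p₂ h (p₁ ≫ f) p₂ p₁ h.symm rfl
      (by
        have := (hK _ (pullback.fst (p₁ ≫ f) σ ≫ p₁ ≫ f) (gen _)).symm
          (x := ⟨pullback.fst (p₁ ≫ f) σ ≫ p₁, by simp⟩) (y := ⟨pullback.fst (p₁ ≫ f) σ ≫ p₂, by simp [h]⟩)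
          ⟨pullback.fst (p₁ ≫ f) σ, rfl, rfl⟩
        obtain ⟨c, h₁, h₂⟩ := this
        exact ⟨c, h₁, h₂⟩)
  have ht : ∃ c : pullback p₂ p₁ ⟶ Γ, c ≫ p₁ = pullback.fst p₂ p₁ ≫ p₁ ∧ c ≫ p₂ = pullback.snd p₂ p₁ ≫ p₂ := by
    let q := pullback.fst p₂ p₁ ≫ p₁ ≫ f
    haveI : Flat q := inferInstance
    have e₂ : (pullback.fst p₂ p₁ ≫ p₂) ≫ f = q := by simp [q, h]
    have e₃ : (pullback.snd p₂ p₁ ≫ p₂) ≫ f = q := by
      rw [Category.assoc, ← h, ← Category.assoc, ← pullback.condition, e₂]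
    refine exists_lift σ f p₁ p₂ h q _ _ (Category.assoc _ _ _) e₃ ?_
    obtain ⟨c, h₁, h₂⟩ := (hK _ (pullback.fst q σ ≫ q) (gen q)).trans
      (x := ⟨pullback.fst q σ ≫ pullback.fst p₂ p₁ ≫ p₁, by simp [q]⟩)
      (y := ⟨pullback.fst q σ ≫ pullback.fst p₂ p₁ ≫ p₂, by rw [Category.assoc, e₂]⟩)
      (z := ⟨pullback.fst q σ ≫ pullback.snd p₂ p₁ ≫ p₂, by rw [Category.assoc, e₃]⟩)
      ⟨pullback.fst q σ ≫ pullback.fst p₂ p₁, by simp, by simp⟩
      ⟨pullback.fst q σ ≫ pullback.snd p₂ p₁, by simp [pullback.condition], by simp⟩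
    exact ⟨c, h₁, h₂⟩
  intro T t
  refine ⟨fun a => ?_, ?_, ?_⟩
  · obtain ⟨c, h₁, h₂⟩ := hr
    exact ⟨a.1 ≫ c, by simp [h₁], by simp [h₂]⟩
  · rintro a b ⟨d, hd₁, hd₂⟩
    obtain ⟨c, h₁, h₂⟩ := hs
    exact ⟨d ≫ c, by simp [h₁, hd₂], by simp [h₂, hd₁]⟩
  · rintro a b e ⟨d, hd₁, hd₂⟩ ⟨d', hd₁', hd₂'⟩
    obtain ⟨c, h₁, h₂⟩ := ht
    exact ⟨pullback.lift d d' (hd₂.trans hd₁'.symm) ≫ c, by simp [h₁, hd₁], by simp [h₂, hd₂']⟩

end Groth.Agent.S13044
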