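import Groth.Statements.S13045
import Mathlib.LinearAlgebra.DirectSum.Finsupp
import Mathlib.Algebra.Module.Projective

set_option autoImplicit false
universe u
open FrobAlg

namespace Groth.Agent.S13045

open TensorProduct in
/-- Let p be a prime, R a commutative ring of characteristic p and A a commutative R-algebra of
characteristic p, with Frobenius twists A^{p^i/R} = R ⊗_{F^i,R} A, relative Frobenius maps F_i :
A^{p^{i+1}/R} → A^{p^i/R} and preperfection A^{p^∞/R} = lim_i A^{p^i/R} ⊆ Π_i A^{p^i/R}. For every
projective R-module M the natural map M ⊗_R A^{p^∞/R} → Π_i (M ⊗_R A^{p^i/R}), m ⊗ x ↦ (m ⊗ x_i)_i,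
is injective; in particular the base change map M ⊗_R lim_i A^{p^i/R} → lim_i (M ⊗_R A^{p^i/R}) is
injective. (The published statement is phrased for a projective R-algebra R′ in place of M; the
printed argument is the module statement given here.) -/
theorem result
    (p : ℕ) [Fact p.Prime] (R : Type u) [CommRing R] [CharP R p]
    (A : Type u) [CommRing A] [Algebra R A] [CharP A p]
    (M : Type u) [AddCommGroup M] [Module R M] [Module.Projective R M] :
    Function.Injective
      (LinearMap.pi fun i : ℕ =>
        LinearMap.lTensor M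
          (((Pi.evalAlgHom R (fun k => W4c1imperftorsors.Twist p R A k) i).comp
            (W4c1imperftorsors.prePerf p R A).val).toLinearMap) :
        M ⊗[R] ↥(W4c1imperftorsors.prePerf p R A) →ₗ[R] (Π i : ℕ, M ⊗[R] W4c1imperftorsors.Twist p R A i)) := by
  classical
  obtain ⟨s, hs⟩ := Module.projective_def'.1 (inferInstance : Module.Projective R M)
  set g : ∀ i : ℕ, ↥(W4c1imperftorsors.prePerf p R A) →ₗ[R] W4c1imperftorsors.Twist p R A i := fun i =>
    (((Pi.evalAlgHom R (fun k => W4c1imperftorsors.Twist p R A k) i).comp (W4c1imperftorsors.prePerf p R A).val).toLinearMap) with hg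
  have hinj : ∀ z : ↥(W4c1imperftorsors.prePerf p R A), (∀ i, g i z = 0) → z = 0 :=
    fun z hz => Subtype.ext (funext hz)
  rw [injective_iff_map_eq_zero]
  intro x hx
  have h1 : LinearMap.rTensor _ (Finsupp.linearCombination R id) (LinearMap.rTensor _ s x) = x := by
    rw [← LinearMap.rTensor_comp_apply, hs, LinearMap.rTensor_id_apply]
  suffices h : LinearMap.rTensor ↥(W4c1imperftorsors.prePerf p R A) s x = 0 by
    rw [← h1, h, map_zero]
  refine (TensorProduct.finsuppScalarLeft R _ M).injective ?_
  rw [map_zero]
  ext j : 1
  refine hinj _ fun i => ?_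
  have hx' : LinearMap.lTensor M (g i) x = 0 := congrFun hx i
  have key : ∀ z : (M →₀ R) ⊗[R] ↥(W4c1imperftorsors.prePerf p R A),
      g i (TensorProduct.finsuppScalarLeft R _ M z j) = TensorProduct.finsuppScalarLeft R _ M (LinearMap.lTensor (M →₀ R) (g i) z) j := by
    intro z
    induction z using TensorProduct.induction_on with
    | zero => simp
    | tmul q w => simp [TensorProduct.finsuppScalarLeft_apply_tmul_apply]
    | add a b ha hb => simp only [map_add, Finsupp.add_apply, ha, hb]
  rw [key]
  have h3 : LinearMap.lTensor (M →₀ R) (g i) (LinearMap.rTensor ↥(W4c1imperftorsors.prePerf p R A) s x) =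
      LinearMap.rTensor _ s (LinearMap.lTensor M (g i) x) := by
    rw [← LinearMap.comp_apply, LinearMap.lTensor_comp_rTensor, ← LinearMap.rTensor_comp_lTensor]
    rfl
  rw [h3, hx']
  simp

end Groth.Agent.S13045
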