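import Groth.Statements.S13046
import Mathlib.LinearAlgebra.DirectSum.Finsupp
import Mathlib.RingTheory.Finiteness.Projective
import Mathlib.Algebra.Module.Projective
import Mathlib.LinearAlgebra.TensorProduct.Pi

set_option autoImplicit false
universe u
open FrobAlg

namespace Groth.Agent.S13046

open TensorProduct in
variable {_unused : Unit}

open TensorProduct in
lemma mem_prePerf (p : ℕ) [Fact p.Prime] (R : Type u) [CommRing R] [CharP R p]
    (A : Type u) [CommRing A] [Algebra R A] [CharP A p] (x : Π j, W4c1imperftorsors.Twist p R A j) :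
    x ∈ W4c1imperftorsors.prePerf p R A ↔ ∀ i, W4c1imperftorsors.relFrob p R A i (x (i + 1)) = x i := by
  simp [W4c1imperftorsors.prePerf, Algebra.mem_iInf, AlgHom.mem_equalizer]

open FrobAlg
open TensorProduct in

/-- Let p be a prime, R a commutative ring of characteristic p and A a commutative R-algebra of
characteristic p, with Frobenius twists A^{p^i/R} = R ⊗_{F^i,R} A, relative Frobenius maps F_i :
A^{p^{i+1}/R} → A^{p^i/R} and preperfection A^{p^∞/R} = lim_i A^{p^i/R} ⊆ Π_i A^{p^i/R}. For every
finitely generated projective R-module M, a sequence y ∈ Π_i (M ⊗_R A^{p^i/R}) lies in the image of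
the natural map M ⊗_R A^{p^∞/R} → Π_i (M ⊗_R A^{p^i/R}), m ⊗ x ↦ (m ⊗ x_i)_i, if and only if (M ⊗
F_i)(y_{i+1}) = y_i for all i: the image is exactly the module of compatible sequences. Together
with the injectivity of that map, which holds for every projective M, this says that the base change
map M ⊗_R lim_i A^{p^i/R} → lim_i (M ⊗_R A^{p^i/R}) is an isomorphism. (The published statement is
phrased for a finite locally free R-algebra R′ in place of M and identifies the target with the
preperfection of A ⊗_R R′ over R′; the printed argument is the module statement given here, and that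
identification is not part of this row; the injectivity half is stated separately for all projective
M.) -/
theorem result
    (p : ℕ) [Fact p.Prime] (R : Type u) [CommRing R] [CharP R p]
    (A : Type u) [CommRing A] [Algebra R A] [CharP A p]
    (M : Type u) [AddCommGroup M] [Module R M] [Module.Finite R M] [Module.Projective R M]
    (y : Π i : ℕ, M ⊗[R] W4c1imperftorsors.Twist p R A i) :
    y ∈ LinearMap.range
        (LinearMap.pi fun i : ℕ =>
        LinearMap.lTensor M
          (((Pi.evalAlgHom R (fun k => W4c1imperftorsors.Twist p R A k) i).comp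
            (W4c1imperftorsors.prePerf p R A).val).toLinearMap) :
        M ⊗[R] ↥(W4c1imperftorsors.prePerf p R A) →ₗ[R] (Π i : ℕ, M ⊗[R] W4c1imperftorsors.Twist p R A i)) ↔
      ∀ i : ℕ, LinearMap.lTensor M (W4c1imperftorsors.relFrob p R A i).toLinearMap (y (i + 1)) = y i := by
  classical
  set g : ∀ i : ℕ, ↥(W4c1imperftorsors.prePerf p R A) →ₗ[R] W4c1imperftorsors.Twist p R A i := fun i =>
    (((Pi.evalAlgHom R (fun k => W4c1imperftorsors.Twist p R A k) i).comp (W4c1imperftorsors.prePerf p R A).val).toLinearMap) with hg
  have hcompat : ∀ i, (W4c1imperftorsors.relFrob p R A i).toLinearMap ∘ₗ g (i + 1) = g i := fun i =>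
    LinearMap.ext fun z => (mem_prePerf p R A z.1).1 z.2 i
  constructor
  · rintro ⟨x, rfl⟩ i
    simp only [LinearMap.pi_apply]
    rw [← LinearMap.lTensor_comp_apply, hcompat]
  · intro hy
    obtain ⟨n, f, s, -, -, hfs⟩ := Module.Finite.exists_comp_eq_id_of_projective R M
    let c : ∀ (i : ℕ) (j : Fin n), W4c1imperftorsors.Twist p R A i := fun i j =>
      TensorProduct.lid R _ (LinearMap.rTensor _ (LinearMap.proj j ∘ₗ s) (y i))
    have hc : ∀ j, (fun i => c i j) ∈ W4c1imperftorsors.prePerf p R A := by
      intro j
      rw [mem_prePerf]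
      intro i
      show _ = TensorProduct.lid R _ (LinearMap.rTensor _ (LinearMap.proj j ∘ₗ s) (y i))
      rw [← hy i]
      generalize hz : y (i + 1) = z
      show W4c1imperftorsors.relFrob p R A i (TensorProduct.lid R _ (LinearMap.rTensor _ (LinearMap.proj j ∘ₗ s) (y (i + 1)))) = _
      rw [hz]
      clear hz
      induction z using TensorProduct.induction_on with
      | zero => simp
      | tmul q w => simp
      | add a b ha hb => simp only [map_add, ha, hb]
    refine ⟨∑ j, f (Pi.single j 1) ⊗ₜ[R] (⟨_, hc j⟩ : ↥(W4c1imperftorsors.prePerf p R A)), funext fun i => ?_⟩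
    simp only [LinearMap.pi_apply, map_sum, LinearMap.lTensor_tmul]
    show ∑ j, f (Pi.single j 1) ⊗ₜ[R] c i j = y i
    have key : ∀ z : M ⊗[R] W4c1imperftorsors.Twist p R A i,
        ∑ j, f (Pi.single j 1) ⊗ₜ[R] (TensorProduct.lid R _ (LinearMap.rTensor _ (LinearMap.proj j ∘ₗ s) z)) = z := by
      intro z
      induction z using TensorProduct.induction_on with
      | zero => simp
      | tmul q w =>
        have e : q = ∑ j, s q j • f (Pi.single j 1) := by
          conv_lhs => rw [← LinearMap.id_apply (R := R) q, ← hfs, LinearMap.comp_apply, ← Finset.univ_sum_single (s q)]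
          rw [map_sum]
          refine Finset.sum_congr rfl fun j _ => ?_
          rw [← map_smul, ← Pi.single_smul, smul_eq_mul, mul_one]
        simp only [LinearMap.rTensor_tmul, TensorProduct.lid_tmul, LinearMap.comp_apply, LinearMap.proj_apply, ← TensorProduct.smul_tmul, ← TensorProduct.sum_tmul]
        rw [← e]
      | add a b ha hb => simp only [map_add, TensorProduct.tmul_add, Finset.sum_add_distrib, ha, hb]
    exact key _

end Groth.Agent.S13046
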