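import Groth.Statements.S13047
import Mathlib.RingTheory.Polynomial.Quotient
import Mathlib.Algebra.Polynomial.Div
import Mathlib.Tactic.Ring
import Mathlib.Tactic.LinearCombination
import Mathlib.Algebra.CharP.Frobenius
import Mathlib.LinearAlgebra.TensorProduct.Basic

set_option autoImplicit false
universe u
open FrobAlg

namespace Groth.Agent.S13047

open Polynomial in
variable {_unused : Unit}

open Polynomial W4c1imperftorsors
open scoped TensorProduct

/-- the quotient algebra -/
abbrev Bq {R : Type u} [CommRing R] (u v : R) : Type u := R[X] ⧸ Ideal.span {(C u * X : R[X]), X ^ 2 - C (v ^ 2)}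

variable (p : ℕ) [Fact p.Prime] (R : Type u) [CommRing R] [CharP R p] (u v : R) (i : ℕ)

/-- the class `1 ⊗ α` -/
noncomputable def tau : Twist p R (Bq u v) i :=
  (1 : R) ⊗ₜ[Src p R i] (aEquiv p R (Bq u v) i).symm (Ideal.Quotient.mk _ X)

theorem smul_src (s : R) (a : R) : ((srcEquiv p R i).symm s) • a = s ^ p ^ i * a := rfl

theorem move (a s : R) (b : Bq u v) :
    a ⊗ₜ[Src p R i] (aEquiv p R (Bq u v) i).symm (algebraMap R (Bq u v) s * b) =
      (a * s ^ p ^ i) • ((1 : R) ⊗ₜ[Src p R i] (aEquiv p R (Bq u v) i).symm b : Twist p R (Bq u v) i) := by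
  rw [TensorProduct.smul_tmul', smul_eq_mul, mul_one]
  have e : (aEquiv p R (Bq u v) i).symm (algebraMap R (Bq u v) s * b) =
      ((srcEquiv p R i).symm s) • (aEquiv p R (Bq u v) i).symm b := rfl
  rw [e, ← TensorProduct.smul_tmul, smul_src, mul_comm (s ^ p ^ i) a]

theorem one_eq : ((1 : R) ⊗ₜ[Src p R i] (aEquiv p R (Bq u v) i).symm 1 : Twist p R (Bq u v) i) = 1 := rfl

theorem gen (z : Twist p R (Bq u v) i) : ∃ r g : R, r • 1 + g • tau p R u v i = z := by
  induction z using TensorProduct.induction_on with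
  | zero => exact ⟨0, 0, by simp⟩
  | add a b ha hb =>
    obtain ⟨r, g, rfl⟩ := ha
    obtain ⟨r', g', rfl⟩ := hb
    exact ⟨r + r', g + g', by rw [add_smul, add_smul]; abel⟩
  | tmul a b =>
    obtain ⟨q, hq⟩ := Ideal.Quotient.mk_surjective (aEquiv p R (Bq u v) i b)
    cases subsingleton_or_nontrivial R
    · exact absurd (Subsingleton.elim (1 : R) 0) (by
        have := CharP.nontrivial_of_char_ne_one (R := R) (Fact.out : p.Prime).ne_one
        exact one_ne_zero)
    have hm : (X ^ 2 - C (v ^ 2) : R[X]).Monic := monic_X_pow_sub_C _ two_ne_zero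
    set m := q %ₘ (X ^ 2 - C (v ^ 2)) with hmdef
    have hdeg : m.natDegree ≤ 1 := by
      have h := natDegree_modByMonic_lt q hm (fun h => by have := congrArg natDegree h; rw [natDegree_X_pow_sub_C, natDegree_one] at this; omega)
      rw [natDegree_X_pow_sub_C, ← hmdef] at h
      omega
    have hb : aEquiv p R (Bq u v) i b =
        algebraMap R (Bq u v) (m.coeff 1) * Ideal.Quotient.mk _ X + algebraMap R (Bq u v) (m.coeff 0) * 1 := by
      rw [← hq, ← modByMonic_add_div q (X ^ 2 - C (v ^ 2)), map_add, map_mul,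
        show Ideal.Quotient.mk (Ideal.span {(C u * X : R[X]), X ^ 2 - C (v ^ 2)}) (X ^ 2 - C (v ^ 2)) = 0 from
          Ideal.Quotient.eq_zero_iff_mem.2 (Ideal.subset_span (Set.mem_insert_of_mem _ rfl)), zero_mul, add_zero,
        ← hmdef]
      conv_lhs => rw [eq_X_add_C_of_natDegree_le_one hdeg]
      rw [map_add, map_mul, mul_one]
      rfl
    refine ⟨a * m.coeff 0 ^ p ^ i, a * m.coeff 1 ^ p ^ i, ?_⟩
    conv_rhs => rw [← (aEquiv p R (Bq u v) i).symm_apply_apply b, hb, map_add, TensorProduct.tmul_add,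
      move, move, one_eq]
    rw [tau, add_comm]

theorem kill : u ^ p ^ i • tau p R u v i = 0 := by
  have := move p R u v i 1 u (Ideal.Quotient.mk _ X)
  rw [one_mul] at this
  rw [tau, ← this, show algebraMap R (Bq u v) u * Ideal.Quotient.mk _ X = 0 from
    Ideal.Quotient.eq_zero_iff_mem.2 (Ideal.subset_span (Set.mem_insert _ _)), map_zero, TensorProduct.tmul_zero]

theorem frob_tau [CharP (Bq u v) p] (hp : p ≠ 2) :
    relFrob p R (Bq u v) i (tau p R u v (i + 1)) = v ^ ((p - 1) * p ^ i) • tau p R u v i := by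
  show relFrobAux p R (Bq u v) i (tau p R u v (i + 1)) = _
  rw [tau, relFrobAux, Algebra.TensorProduct.lift_tmul, map_one, one_mul]
  show (1 : R) ⊗ₜ[Src p R i] (aEquiv p R (Bq u v) i).symm
    (frobenius (Bq u v) p (aEquiv p R (Bq u v) (i + 1) ((aEquiv p R (Bq u v) (i + 1)).symm (Ideal.Quotient.mk _ X)))) = _
  have hodd : 2 * ((p - 1) / 2) + 1 = p := by
    have := (Fact.out : p.Prime).odd_of_ne_two hp
    rw [Nat.odd_iff] at this
    omega
  have hsq : (Ideal.Quotient.mk (Ideal.span {(C u * X : R[X]), X ^ 2 - C (v ^ 2)}) X) ^ 2 = algebraMap R (Bq u v) (v ^ 2) := by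
    rw [← map_pow]
    exact Ideal.Quotient.eq.2 (Ideal.subset_span (Set.mem_insert_of_mem _ rfl))
  have hpow : (Ideal.Quotient.mk (Ideal.span {(C u * X : R[X]), X ^ 2 - C (v ^ 2)}) X) ^ p =
      algebraMap R (Bq u v) (v ^ (p - 1)) * Ideal.Quotient.mk _ X := by
    conv_lhs => rw [← hodd, pow_succ, pow_mul, hsq, ← map_pow, ← pow_mul]
    rw [show 2 * ((p - 1) / 2) = p - 1 by omega]
  rw [RingEquiv.apply_symm_apply, frobenius_def, hpow, move, one_mul, ← pow_mul]
  rfl

/-- coefficient of `α` -/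
noncomputable def coef1 : Bq u v →+ R ⧸ Ideal.span {u ^ p ^ i} :=
  QuotientAddGroup.lift (Ideal.span {(C u * X : R[X]), X ^ 2 - C (v ^ 2)}).toAddSubgroup
    ((((Ideal.Quotient.mk (Ideal.span {u ^ p ^ i})).comp (iterateFrobenius R p i)).toAddMonoidHom).comp
      (((lcoeff R 1).comp (modByMonicHom (X ^ 2 - C (v ^ 2)))).toAddMonoidHom)) (by
      intro q hq
      obtain ⟨a, b, rfl⟩ := Ideal.mem_span_pair.1 hq
      have hm : (X ^ 2 - C (v ^ 2) : R[X]).Monic := monic_X_pow_sub_C _ two_ne_zero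
      have e : a * (C u * X) = u • (a * X) := by rw [Polynomial.smul_eq_C_mul]; ring
      show Ideal.Quotient.mk _ (iterateFrobenius R p i
        (((a * (C u * X) + b * (X ^ 2 - C (v ^ 2))) %ₘ (X ^ 2 - C (v ^ 2))).coeff 1)) = 0
      rw [add_modByMonic, e, smul_modByMonic, show (b * (X ^ 2 - C (v ^ 2))) %ₘ (X ^ 2 - C (v ^ 2)) = 0 from
        (modByMonic_eq_zero_iff_dvd hm).2 (dvd_mul_left _ _), add_zero, coeff_smul, smul_eq_mul, map_mul,
        iterateFrobenius_def, Ideal.Quotient.eq_zero_iff_mem]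
      exact Ideal.mul_mem_right _ _ (Ideal.mem_span_singleton_self _))

theorem coef1_mk (q : R[X]) : coef1 p R u v i (Ideal.Quotient.mk _ q) =
    Ideal.Quotient.mk _ ((q %ₘ (X ^ 2 - C (v ^ 2))).coeff 1 ^ p ^ i) := rfl

theorem coef1_smul (s : R) (b : Bq u v) :
    coef1 p R u v i (algebraMap R (Bq u v) s * b) = Ideal.Quotient.mk _ (s ^ p ^ i) * coef1 p R u v i b := by
  obtain ⟨q, rfl⟩ := Ideal.Quotient.mk_surjective b
  show coef1 p R u v i (Ideal.Quotient.mk _ (C s) * Ideal.Quotient.mk _ q) = _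
  rw [← map_mul, coef1_mk, coef1_mk, ← map_mul, ← smul_eq_C_mul, smul_modByMonic, coeff_smul, smul_eq_mul, mul_pow]

/-- the pairing detecting the coefficient of `tau` -/
noncomputable def det1 : Twist p R (Bq u v) i →+ R ⧸ Ideal.span {u ^ p ^ i} :=
  TensorProduct.liftAddHom
    (((AddMonoidHom.mul (R := R ⧸ Ideal.span {u ^ p ^ i})).comp (Ideal.Quotient.mk (Ideal.span {u ^ p ^ i})).toAddMonoidHom).compr₂ (AddMonoidHom.id _) |>.flip |>.comp
      ((coef1 p R u v i).comp (aEquiv p R (Bq u v) i).toAddMonoidHom) |>.flip)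
    (fun s a b => by
      obtain ⟨s, rfl⟩ := (srcEquiv p R i).symm.surjective s
      show Ideal.Quotient.mk _ (((srcEquiv p R i).symm s) • a) * coef1 p R u v i (aEquiv p R (Bq u v) i b) =
        Ideal.Quotient.mk _ a * coef1 p R u v i (algebraMap R (Bq u v) s * aEquiv p R (Bq u v) i b)
      rw [smul_src, coef1_smul, map_mul]
      ring)

/-- evaluation at `α = v` -/
noncomputable def evv (huv : u * v = 0) : Bq u v →+* R :=
  Ideal.Quotient.lift _ (evalRingHom v) fun q hq => by
    obtain ⟨a, b, rfl⟩ := Ideal.mem_span_pair.1 hq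
    simp [huv]

/-- the pairing detecting the constant coefficient -/
noncomputable def det0 (huv : u * v = 0) : Twist p R (Bq u v) i →+ R :=
  TensorProduct.liftAddHom
    ((AddMonoidHom.mul (R := R)).flip.comp
      (((iterateFrobenius R p i).comp ((evv R u v huv).comp (aEquiv p R (Bq u v) i : ASrc p R (Bq u v) i →+* Bq u v))).toAddMonoidHom) |>.flip)
    (fun s a b => by
      obtain ⟨s, rfl⟩ := (srcEquiv p R i).symm.surjective s
      show (((srcEquiv p R i).symm s) • a) * iterateFrobenius R p i (evv R u v huv (aEquiv p R (Bq u v) i b)) =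
        a * iterateFrobenius R p i (evv R u v huv (algebraMap R (Bq u v) s * aEquiv p R (Bq u v) i b))
      rw [smul_src, map_mul, map_mul, show evv R u v huv (algebraMap R (Bq u v) s) = s from eval_C, iterateFrobenius_def, iterateFrobenius_def]
      ring)

theorem coord (huv : u * v = 0) (r g : R) (h : r • 1 + g • tau p R u v i = 0) :
    r = 0 ∧ g ∈ Ideal.span {u ^ p ^ i} := by
  have h1 : ∀ (a : R) (b : Bq u v), a • ((1 : R) ⊗ₜ[Src p R i] (aEquiv p R (Bq u v) i).symm b : Twist p R (Bq u v) i) =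
      a ⊗ₜ[Src p R i] (aEquiv p R (Bq u v) i).symm b := fun a b => by
    rw [TensorProduct.smul_tmul', smul_eq_mul, mul_one]
  rw [tau, ← one_eq, h1, h1] at h
  have hg : g ∈ Ideal.span {u ^ p ^ i} := by
    have h2 := congrArg (det1 p R u v i) h
    rw [map_add, map_zero] at h2
    have e : ∀ (a : R) (q : R[X]), det1 p R u v i (a ⊗ₜ[Src p R i] (aEquiv p R (Bq u v) i).symm (Ideal.Quotient.mk _ q)) =
      Ideal.Quotient.mk _ (a * (q %ₘ (X ^ 2 - C (v ^ 2))).coeff 1 ^ p ^ i) := fun a q => by
      rw [map_mul, ← coef1_mk]; rfl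
    have := CharP.nontrivial_of_char_ne_one (R := R) (Fact.out : p.Prime).ne_one
    rw [← map_one (Ideal.Quotient.mk (Ideal.span {(C u * X : R[X]), X ^ 2 - C (v ^ 2)})), e, e,
      (modByMonic_eq_self_iff (monic_X_pow_sub_C _ two_ne_zero)).2 (by rw [degree_X_pow_sub_C two_pos, degree_one]; decide),
      (modByMonic_eq_self_iff (monic_X_pow_sub_C _ two_ne_zero)).2 (by rw [degree_X_pow_sub_C two_pos, degree_X]; decide),
      coeff_one, coeff_X_one, if_neg one_ne_zero, zero_pow (pow_ne_zero _ (Fact.out : p.Prime).ne_zero), mul_zero, map_zero, zero_add,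
      one_pow, mul_one, Ideal.Quotient.eq_zero_iff_mem] at h2
    exact h2
  refine ⟨?_, hg⟩
  have h3 := congrArg (det0 p R u v i huv) h
  rw [map_add, map_zero] at h3
  change r * iterateFrobenius R p i (evv R u v huv 1) + g * iterateFrobenius R p i (evv R u v huv (Ideal.Quotient.mk _ X)) = 0 at h3
  rw [map_one, map_one, mul_one, show evv R u v huv (Ideal.Quotient.mk _ X) = v from eval_X, iterateFrobenius_def] at h3
  obtain ⟨c, rfl⟩ := Ideal.mem_span_singleton.1 hg
  have h0 : u ^ p ^ i * v ^ p ^ i = 0 := by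
    rw [← mul_pow, huv, zero_pow (pow_ne_zero _ (Fact.out : p.Prime).ne_zero)]
  linear_combination h3 - c * h0

open FrobAlg
open Polynomial in

/-- Let p be an odd prime, R a commutative ring of characteristic p and u, v ∈ R with uv = 0, such that
for every N ≥ 1 an element of R lying in (v^n) + (u^N) for all n lies in (u^N) (v-adic separatedness
of R/(u^N)). Let B = R[α]/(uα, α² − v²), an R-algebra of characteristic p, with Frobenius twists
B^{p^i/R} = R ⊗_{F^i,R} B and preperfection B^{p^∞/R} = lim_i B^{p^i/R} along the relative Frobenius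
maps. Then the structure map R → B^{p^∞/R} is bijective: the preperfection of B is R. (The published
statement is for R = F_p[[u, v]]/(uv), where B arises as the preperfection of R[x, y, 1/(x − y)]/(xy
− u), so that the second preperfection of that algebra is R although the first is not perfect; the
printed computation uses only the hypotheses listed here, which that R satisfies.) -/
theorem result
    (p : ℕ) [Fact p.Prime] (hp : p ≠ 2) (R : Type u) [CommRing R] [CharP R p]
    (u v : R) (huv : u * v = 0)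
    (hsep : ∀ N : ℕ, 1 ≤ N → ∀ g : R,
      (∀ n : ℕ, g ∈ Ideal.span {v ^ n} ⊔ Ideal.span {u ^ N}) → g ∈ Ideal.span {u ^ N})
    [CharP (R[X] ⧸ Ideal.span {(C u * X : R[X]), X ^ 2 - C (v ^ 2)}) p] :
    Function.Bijective
      (algebraMap R ↥(W4c1imperftorsors.prePerf p R
        (R[X] ⧸ Ideal.span {(C u * X : R[X]), X ^ 2 - C (v ^ 2)}))) := by
  have mem : ∀ x : Π j, W4c1imperftorsors.Twist p R (Bq u v) j, x ∈ W4c1imperftorsors.prePerf p R (Bq u v) →
      ∀ i, W4c1imperftorsors.relFrob p R (Bq u v) i (x (i + 1)) = x i := by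
    intro x hx
    simpa [W4c1imperftorsors.prePerf, Algebra.mem_iInf, AlgHom.mem_equalizer] using hx
  refine ⟨(injective_iff_map_eq_zero _).2 fun r hr => ?_, fun x => ?_⟩
  · have h0 : algebraMap R (W4c1imperftorsors.Twist p R (Bq u v) 0) r = 0 := congrFun (congrArg Subtype.val hr) 0
    have := coord p R u v 0 huv r 0 (by rw [zero_smul, add_zero, ← Algebra.algebraMap_eq_smul_one]; exact h0)
    exact this.1
  choose r g hrg using fun i => gen p R u v i (x.1 i)
  have hstep : ∀ i, r (i + 1) = r i ∧ g (i + 1) * v ^ ((p - 1) * p ^ i) - g i ∈ Ideal.span {u ^ p ^ i} := by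
    intro i
    have h := mem x.1 x.2 i
    rw [← hrg, ← hrg, map_add, map_smul, map_smul, map_one, frob_tau p R u v i hp, smul_smul] at h
    have := coord p R u v i huv (r (i + 1) - r i) (g (i + 1) * v ^ ((p - 1) * p ^ i) - g i)
      (by rw [sub_smul, sub_smul]; linear_combination h)
    exact ⟨sub_eq_zero.1 this.1, this.2⟩
  have hdiv : ∀ n i, g i ∈ Ideal.span {v ^ n} ⊔ Ideal.span {u ^ p ^ i} := by
    intro n
    induction n with
    | zero => intro i; rw [pow_zero, Ideal.span_singleton_one, top_sup_eq]; exact Submodule.mem_top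
    | succ n ih =>
      intro i
      obtain ⟨a, ha, b, hb, hab⟩ := Submodule.mem_sup.1 (ih (i + 1))
      obtain ⟨a', rfl⟩ := Ideal.mem_span_singleton.1 ha
      obtain ⟨b', rfl⟩ := Ideal.mem_span_singleton.1 hb
      obtain ⟨c, hc⟩ := Ideal.mem_span_singleton.1 (hstep i).2
      obtain ⟨e, he⟩ : ∃ e, (p - 1) * p ^ i = e + 1 := ⟨(p - 1) * p ^ i - 1, by
        have := Nat.pow_pos (n := i) (Fact.out : p.Prime).pos
        have h2 := (Fact.out : p.Prime).two_le
        have : 0 < (p - 1) * p ^ i := Nat.mul_pos (by omega) this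
        omega⟩
      obtain ⟨d, hd⟩ : u ^ p ^ i ∣ u ^ p ^ (i + 1) :=
        pow_dvd_pow u (Nat.pow_le_pow_right (Fact.out : p.Prime).pos i.le_succ)
      refine Submodule.mem_sup.2 ⟨v ^ (n + 1) * (a' * v ^ e), Ideal.mem_span_singleton.2 (dvd_mul_right _ _),
        u ^ p ^ i * (d * b' * v ^ (e + 1) - c), Ideal.mem_span_singleton.2 (dvd_mul_right _ _), ?_⟩
      rw [he, ← hab, hd] at hc
      linear_combination hc
  refine ⟨r 0, Subtype.ext (funext fun i => ?_)⟩
  have hri : r i = r 0 := by
    induction i with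
    | zero => rfl
    | succ i ih => rw [(hstep i).1, ih]
  obtain ⟨c, hc⟩ := Ideal.mem_span_singleton.1 (hsep (p ^ i) (Nat.pow_pos (Fact.out : p.Prime).pos) (g i) (fun n => hdiv n i))
  rw [← hrg i, hri, hc, mul_comm (u ^ p ^ i) c, mul_smul, kill p R u v i, smul_zero, add_zero,
    ← Algebra.algebraMap_eq_smul_one]
  rfl

end Groth.Agent.S13047
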