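import Groth.Statements.S13048
import Mathlib.RingTheory.Filtration
import Mathlib.RingTheory.Jacobson.Ring
import Mathlib.FieldTheory.IsAlgClosed.Basic
import Mathlib.RingTheory.FiniteType
import Mathlib.Algebra.CharP.Algebra
import Mathlib.Tactic.LinearCombination

set_option autoImplicit false
universe u
open FrobAlg

namespace Groth.Agent.S13048

/-- Let k be an algebraically closed field of characteristic p > 0 and let A be a reduced finitely
generated commutative k-algebra with connected spectrum (A ≠ 0 and 0, 1 are its only idempotents).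
If x ∈ A is a p^n-th power in A for every n ≥ 0, then x lies in the image of k; that is, ⋂_n A^{p^n}
= k. (The published statement is: for an artinian local ring R of characteristic p and a flat
R-algebra A of finite type, the maps A^ét → O(π₀(A)) → A^{p^∞/R} from the largest étale subalgebra
to the preperfection are isomorphisms. This row is the case R = k algebraically closed and A reduced
with connected spectrum, where A^ét = k and the preperfection is ⋂_n A^{p^n}; the printed proof
reduces to this case and its last step proves it.) -/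
theorem result
    (p : ℕ) [Fact p.Prime] (k : Type u) [Field k] [IsAlgClosed k] [CharP k p]
    (A : Type u) [CommRing A] [Algebra k A] [Algebra.FiniteType k A] [IsReduced A] [Nontrivial A]
    (hconn : ∀ e : A, IsIdempotentElem e → e = 0 ∨ e = 1)
    (x : A) (hx : ∀ n : ℕ, ∃ a : A, a ^ p ^ n = x) :
    x ∈ (algebraMap k A).range := by
  classical
  haveI : IsNoetherianRing A := Algebra.FiniteType.isNoetherianRing k A
  obtain ⟨m₀, hm₀⟩ := Ideal.exists_maximal A
  haveI : IsJacobsonRing A := isJacobsonRing_of_finiteType (A := k)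
  haveI := hm₀
  haveI : Module.Finite k (A ⧸ m₀) := by
    letI : Field (A ⧸ m₀) := Ideal.Quotient.field m₀
    exact finite_of_finite_type_of_isJacobsonRing k (A ⧸ m₀)
  haveI : IsDomain (A ⧸ m₀) := Ideal.Quotient.isDomain m₀
  obtain ⟨c, hc⟩ := (IsAlgClosed.algebraMap_bijective_of_isIntegral (k := k) (K := A ⧸ m₀)).2
    (Ideal.Quotient.mk m₀ x)
  let y : A := x - algebraMap k A c
  haveI : Nontrivial A := inferInstance
  haveI : CharP A p := charP_of_injective_algebraMap (algebraMap k A).injective p
  have hy0 : y ∈ m₀ := by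
    rw [← Ideal.Quotient.eq_zero_iff_mem, map_sub, ← hc, Ideal.Quotient.mk_algebraMap, sub_self]
  have hy : ∀ n : ℕ, ∃ a : A, a ^ p ^ n = y := by
    intro n
    obtain ⟨a, ha⟩ := hx n
    obtain ⟨d, hd⟩ := IsAlgClosed.exists_pow_nat_eq c (pow_pos (Fact.out : p.Prime).pos n)
    exact ⟨a - algebraMap k A d, by rw [sub_pow_char_pow, ha, ← map_pow, hd]⟩
  suffices h0 : y = 0 from ⟨c, (sub_eq_zero.1 h0).symm⟩
  have htop : (LinearMap.ker (LinearMap.toSpanSingleton A A y)) ⊔ Ideal.span {y} = ⊤ := by
    by_contra h
    obtain ⟨m, hm, hle⟩ := Ideal.exists_le_maximal _ h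
    have hmem : y ∈ (⨅ i : ℕ, m ^ i • ⊤ : Submodule A A) := by
      refine Submodule.mem_iInf _ |>.2 fun i => ?_
      rw [smul_eq_mul, Ideal.mul_top]
      obtain ⟨a, ha⟩ := hy i
      have ham : a ∈ m := hm.isPrime.mem_of_pow_mem (p ^ i)
        (ha ▸ hle (Ideal.mem_sup_right (Ideal.mem_span_singleton_self y)))
      rw [← ha]
      exact Ideal.pow_le_pow_right (Nat.lt_pow_self (Fact.out : p.Prime).one_lt).le
        (Ideal.pow_mem_pow ham _)
    obtain ⟨r, hr⟩ := (Ideal.mem_iInf_smul_pow_eq_bot_iff m y).1 hmem
    have hker : (1 - (r : A)) ∈ LinearMap.ker (LinearMap.toSpanSingleton A A y) := by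
      rw [LinearMap.mem_ker, LinearMap.toSpanSingleton_apply, sub_smul, one_smul, hr, sub_self]
    have h1 : (1 : A) ∈ m := by
      have := m.add_mem (hle (Ideal.mem_sup_left hker)) r.2
      rwa [sub_add_cancel] at this
    exact hm.ne_top ((Ideal.eq_top_iff_one m).2 h1)
  obtain ⟨e, he, z, hz, hez⟩ := Submodule.mem_sup.1 ((Ideal.eq_top_iff_one _).1 htop)
  obtain ⟨b, rfl⟩ := Ideal.mem_span_singleton'.1 hz
  rw [LinearMap.mem_ker, LinearMap.toSpanSingleton_apply, smul_eq_mul] at he
  have hidem : IsIdempotentElem e := by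
    unfold IsIdempotentElem
    linear_combination e * hez - b * he
  rcases hconn e hidem with rfl | rfl
  · exfalso
    rw [zero_add] at hez
    exact hm₀.ne_top ((Ideal.eq_top_iff_one m₀).2 (hez ▸ m₀.mul_mem_left b hy0))
  · rwa [one_mul] at he

end Groth.Agent.S13048
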