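import Groth.Statements.S13049


set_option autoImplicit false
universe u
open FrobAlg

namespace Groth.Agent.S13049

/-- Let p be a prime and A a commutative ring of characteristic p whose nilradical N satisfies x^(p^e) =
0 for all x ∈ N and some fixed e (for instance A Noetherian). Then the map between the inverse-limit
perfections along the absolute Frobenius, lim (⋯ → A → A) → lim (⋯ → A/N → A/N), induced by the
projection A → A/N, is bijective. (The published argument takes A of finite type over a field, where
the nilradical is finitely generated; this row assumes only that the nilradical is killed by one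
fixed iterate of Frobenius, which is all that argument uses.) -/
theorem result
    (p : ℕ) [Fact p.Prime] (A : Type u) [CommRing A] [CharP A p]
    [CharP (A ⧸ nilradical A) p] (e : ℕ) (he : ∀ x ∈ nilradical A, x ^ p ^ e = 0) :
    Function.Bijective (Perfection.map p (Ideal.Quotient.mk (nilradical A))) := by
  have key : ∀ a b : A, a - b ∈ nilradical A → a ^ p ^ e = b ^ p ^ e := fun a b h =>
    sub_eq_zero.1 ((sub_pow_char_pow a b e).symm.trans (he _ h))
  constructor
  · intro x y h
    refine Perfection.ext fun n => ?_
    have h1 : Ideal.Quotient.mk (nilradical A) (Perfection.coeff A p (n + e) x) = Ideal.Quotient.mk (nilradical A) (Perfection.coeff A p (n + e) y) := by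
      rw [← Perfection.coeff_map p (Ideal.Quotient.mk (nilradical A)) x, ← Perfection.coeff_map p (Ideal.Quotient.mk (nilradical A)) y, h]
    have := key _ _ (Ideal.Quotient.eq.1 h1)
    have hc : ∀ (z : Perfection A p) (m n : ℕ), Perfection.coeff A p (n + m) z ^ p ^ m = Perfection.coeff A p n z := by
      intro z m
      induction m with
      | zero => simp
      | succ m ih => intro n; rw [pow_succ', pow_mul, ← add_assoc, Perfection.coeff_pow_p', ih]
    rwa [hc, hc] at this
  · intro z
    choose a ha using fun n => Ideal.Quotient.mk_surjective (Perfection.coeff (A ⧸ nilradical A) p n z)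
    have hcomp : ∀ n, (a (n + 1 + e) ^ p ^ e) ^ p = a (n + e) ^ p ^ e := by
      intro n
      rw [← pow_mul, mul_comm, pow_mul]
      refine key _ _ (Ideal.Quotient.eq.1 ?_)
      rw [map_pow, ha, ha, Nat.add_right_comm, Perfection.coeff_pow_p']
    refine ⟨⟨fun n => a (n + e) ^ p ^ e, hcomp⟩, Perfection.ext fun n => ?_⟩
    rw [Perfection.coeff_map, Perfection.coeff_mk, map_pow, ha]
    have hc : ∀ (m n : ℕ), Perfection.coeff (A ⧸ nilradical A) p (n + m) z ^ p ^ m = Perfection.coeff (A ⧸ nilradical A) p n z := by
      intro m
      induction m with
      | zero => simp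
      | succ m ih => intro n; rw [pow_succ', pow_mul, ← add_assoc, Perfection.coeff_pow_p', ih]
    exact hc e n

end Groth.Agent.S13049
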