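import Groth.Statements.S13050
import Groth.Agent.L11.Weil.Points

set_option autoImplicit false
universe u
open CategoryTheory AlgebraicGeometry
open Zeta

namespace Groth.Agent.S13050

/-- For a scheme X of finite type over a finite field k and a finite extension k'/k of degree r, the
number of k'-valued points of X over k equals ∑_{e ∣ r} e · #{closed points x of X with [κ(x) : k] =
e}. (Stated for any scheme of finite type over k; the published statement takes X reduced, which
plays no role.) -/
theorem result {k : Type u} [Field k] [Finite k] {X : Scheme.{u}}
    (f : X ⟶ Spec (CommRingCat.of k)) [LocallyOfFiniteType f] [QuasiCompact f]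
    (k' : Type u) [Field k'] [Algebra k k'] [Finite k'] :
    SgaExt.pointCount f k' = Zeta.nPts f (Module.finrank k k') := by
  letI : X.Over (Spec (CommRingCat.of k)) := ⟨f⟩
  haveI : LocallyOfFiniteType (X ↘ Spec (CommRingCat.of k)) := inferInstanceAs (LocallyOfFiniteType f)
  haveI : CompactSpace X := QuasiCompact.compactSpace_of_compactSpace f
  exact Groth.L11.Points.pointCount_eq (k₀ := k) (X := X) k'

end Groth.Agent.S13050
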