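import Groth.Statements.S13052
import Groth.Agent.L11.Zeta.Series

set_option autoImplicit false
universe u
open CategoryTheory AlgebraicGeometry
open Zeta

namespace Groth.Agent.S13052

/-- If X is a scheme of finite type over a finite field k, Y ↪ X a closed subscheme and U = X ∖ Y its
open complement, then Z(X, t) = Z(Y, t) · Z(U, t). Here Y is any scheme with a closed immersion into
X whose image is the complement of U (its scheme structure plays no role), and Y, U are k-schemes
through X. -/
theorem result {k : Type u} [Field k] [Finite k]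
    {X Y : Scheme.{u}} (f : X ⟶ Spec (CommRingCat.of k)) [LocallyOfFiniteType f] [QuasiCompact f]
    (U : X.Opens) (i : Y ⟶ X) [IsClosedImmersion i] (hY : Set.range i.base = (U : Set X)ᶜ) :
    Zeta.zetaFun f = Zeta.zetaFun (i ≫ f) * Zeta.zetaFun (U.ι ≫ f) := by
  let Z : Bool → Scheme.{u} := fun b => cond b Y U
  let g : ∀ b, Z b ⟶ X := fun b => match b with
    | true => i
    | false => U.ι
  haveI : ∀ b, IsImmersion (g b) := fun b => match b with
    | true => inferInstanceAs (IsImmersion i)
    | false => inferInstanceAs (IsImmersion U.ι)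
  have hU : ∀ x, x ∈ Set.range U.ι.base ↔ x ∈ U := fun x => Set.ext_iff.1 (Scheme.Opens.range_ι U) x
  have hi : ∀ x, x ∈ Set.range i.base ↔ x ∉ U := fun x => Set.ext_iff.1 hY x
  rw [Groth.L11.ZetaSeries.zetaFun_partition f Z g fun x _ => ?_, Fintype.prod_bool]
  by_cases hx : x ∈ U
  · refine ⟨false, (hU x).2 hx, fun b hb => ?_⟩
    match b, hb with
    | true, hb => exact absurd hx ((hi x).1 hb)
    | false, _ => rfl
  · refine ⟨true, (hi x).2 hx, fun b hb => ?_⟩
    match b, hb with
    | true, _ => rfl
    | false, hb => exact absurd ((hU x).1 hb) hx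

end Groth.Agent.S13052
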