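import Groth.Statements.S13053
import Groth.Agent.L11.Zeta.Counts

set_option autoImplicit false
universe u
open CategoryTheory AlgebraicGeometry
open Zeta

namespace Groth.Agent.S13053

/-- For a finite field k with q elements, Z(P^n_k, t) = 1 / ((1 − t)(1 − qt) ⋯ (1 − q^n t)); stated as
Z(P^n_k, t) · ∏_{i = 0}^{n} (1 − q^i t) = 1 in ℚ⟦t⟧. -/
theorem result (k : Type u) [Field k] [Finite k] (n : ℕ) :
    Zeta.zetaFun (CohB1.ProjSpace.toSpec n k) *
        ∏ i ∈ Finset.range (n + 1), (1 - PowerSeries.C ((Nat.card k : ℚ) ^ i) * PowerSeries.X) = 1 := by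
  refine ((Groth.L11.ZetaSeries.hasLogDeriv_zetaFun _).mul (Groth.L11.ZetaSeries.HasLogDeriv.prod _ _ _
    fun i _ => Groth.L11.ZetaSeries.hasLogDeriv_one_sub_C_mul_X ((Nat.card k : ℚ) ^ i))).eq
    (Groth.L11.ZetaSeries.HasLogDeriv.one.congr ?_)
  ext m
  simp only [map_zero, map_add, map_sum, PowerSeries.coeff_mk, Groth.L11.ZetaCounts.nPts_projSpace n (m + 1) m.succ_pos,
    Nat.cast_sum, Nat.cast_pow, ← Finset.sum_add_distrib]
  exact (Finset.sum_eq_zero fun i _ => by rw [← pow_mul, ← pow_mul, mul_comm]; ring).symm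

end Groth.Agent.S13053
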