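import Groth.Statements.S13054
import Groth.Agent.L11.Zeta.Counts
import Mathlib.Algebra.Field.GeomSum

set_option autoImplicit false
universe u
open CategoryTheory AlgebraicGeometry Limits
open Zeta

namespace Groth.Agent.S13054

/-- Let X be a scheme of finite type over a finite field k, k'/k a finite extension of degree r and X' =
X ×_{Spec k} Spec k', a k'-scheme. Then Z(X', t^r) = ∏_{i = 1}^{r} Z(X, ξ^i t) for ξ a primitive
r-th root of unity; stated in ℂ⟦t⟧ with the product over the exponents 0, …, r − 1. (Reducedness of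
X plays no role.) -/
theorem result {k : Type u} [Field k] [Finite k]
    {X : Scheme.{u}} (f : X ⟶ Spec (CommRingCat.of k)) [LocallyOfFiniteType f] [QuasiCompact f]
    (k' : Type u) [Field k'] [Algebra k k'] [Finite k'] (ξ : ℂ)
    (hξ : IsPrimitiveRoot ξ (Module.finrank k k')) :
    PowerSeries.subst ((PowerSeries.X : PowerSeries ℂ) ^ Module.finrank k k')
        (PowerSeries.map (algebraMap ℚ ℂ) (Zeta.zetaFun
          (pullback.snd f (Spec.map (CommRingCat.ofHom (algebraMap k k')))))) =
      ∏ i ∈ Finset.range (Module.finrank k k'),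
        PowerSeries.rescale (ξ ^ i) (PowerSeries.map (algebraMap ℚ ℂ) (Zeta.zetaFun f)) := by
  set r := Module.finrank k k' with hr
  have hr0 : 0 < r := Module.finrank_pos
  let c : ℚ →+* ℂ := algebraMap ℚ ℂ
  let u := PowerSeries.map c (Zeta.zetaFun f)
  let u' := PowerSeries.map c (Zeta.zetaFun (pullback.snd f (Spec.map (CommRingCat.ofHom (algebraMap k k')))))
  have hmap : ∀ {Y : Scheme.{u}} (g : Y ⟶ Spec (CommRingCat.of k')),
      PowerSeries.derivative ℂ (PowerSeries.map c (Zeta.zetaFun g)) = PowerSeries.map c (Zeta.zetaFun g) *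
        PowerSeries.mk (fun n => (Zeta.nPts g (n + 1) : ℂ)) := fun g => by
    have := congrArg (PowerSeries.map c) (Groth.L11.ZetaSeries.derivative_zetaFun g)
    rw [map_mul] at this
    convert this using 1
    · ext n; simp [PowerSeries.coeff_derivative]
    · congr 1
  have hmapk : PowerSeries.derivative ℂ u = u * PowerSeries.mk (fun n => (Zeta.nPts f (n + 1) : ℂ)) := by
    have := congrArg (PowerSeries.map c) (Groth.L11.ZetaSeries.derivative_zetaFun f)
    rw [map_mul] at this
    convert this using 1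
    · ext n; simp [u, PowerSeries.coeff_derivative]
    · congr 1
  have hs : PowerSeries.HasSubst ((PowerSeries.X : PowerSeries ℂ) ^ r) := PowerSeries.HasSubst.X_pow hr0.ne'
  have hL : Groth.L11.ZetaSeries.HasLogDeriv (PowerSeries.subst ((PowerSeries.X : PowerSeries ℂ) ^ r) u')
      (PowerSeries.mk fun n => if r ∣ n + 1 then (r : ℂ) * (Zeta.nPts f (n + 1) : ℂ) else 0) := by
    refine ⟨?_, ?_⟩
    · rw [Groth.L11.Newton.coeff_zero_subst (by simp [PowerSeries.coeff_X_pow, hr0.ne, hr0.ne']), PowerSeries.coeff_map,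
        Groth.L11.ZetaSeries.coeff_zero_zetaFun, map_one]
    · rw [PowerSeries.derivative_subst hs, hmap, PowerSeries.subst_mul hs, mul_assoc]
      congr 1
      ext n
      rw [PowerSeries.derivative_pow, PowerSeries.derivative_X, mul_one, ← mul_assoc, mul_comm _ (r : PowerSeries ℂ),
        mul_assoc, ← map_natCast (PowerSeries.C (R := ℂ)), PowerSeries.coeff_C_mul, mul_comm (PowerSeries.subst _ _),
        PowerSeries.coeff_X_pow_mul', PowerSeries.coeff_mk]
      by_cases hn : r - 1 ≤ n
      · rw [if_pos hn, PowerSeries.coeff_subst_X_pow hr0.ne' _ _]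
        have he : r ∣ n - (r - 1) ↔ r ∣ n + 1 := by
          rw [show n + 1 = (n - (r - 1)) + r by omega, Nat.dvd_add_self_right]
        by_cases hd : r ∣ n + 1
        · rw [if_pos (he.2 hd), if_pos hd, PowerSeries.coeff_mk,
            Groth.L11.ZetaCounts.nPts_baseChange f k' _ (Nat.succ_pos _), ← hr, Nat.mul_succ,
            Nat.mul_div_cancel' (he.2 hd), show n - (r - 1) + r = n + 1 by omega]
          simp
        · rw [if_neg (mt he.1 hd), if_neg hd, mul_zero]
      · rw [if_neg hn, if_neg fun hd => hn (by have := Nat.le_of_dvd n.succ_pos hd; omega), mul_zero]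
  refine hL.eq (((Groth.L11.ZetaSeries.HasLogDeriv.prod (Finset.range r)
    (fun i => PowerSeries.rescale (ξ ^ i) u)
    (fun i => PowerSeries.mk fun n => (ξ ^ (n + 1)) ^ i * (Zeta.nPts f (n + 1) : ℂ)) fun i _ => ⟨?_, ?_⟩)).congr ?_)
  · rw [PowerSeries.coeff_rescale, pow_zero, one_mul, PowerSeries.coeff_map,
      Groth.L11.ZetaSeries.coeff_zero_zetaFun, map_one]
  · ext n
    rw [PowerSeries.coeff_derivative, PowerSeries.coeff_rescale, mul_assoc, ← PowerSeries.coeff_derivative, hmapk,
      PowerSeries.coeff_mul, PowerSeries.coeff_mul, Finset.mul_sum]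
    refine Finset.sum_congr rfl fun x hx => ?_
    rw [PowerSeries.coeff_mk, PowerSeries.coeff_mk, PowerSeries.coeff_rescale, ← Finset.mem_antidiagonal.1 hx]
    ring
  · ext n
    simp only [map_sum, PowerSeries.coeff_mk, ← Finset.sum_mul]
    by_cases hd : r ∣ n + 1
    · rw [if_pos hd, (hξ.pow_eq_one_iff_dvd _).2 hd]
      simp
    · have h1 : (ξ ^ (n + 1)) ^ r = 1 := by rw [← pow_mul, mul_comm, pow_mul, hξ.pow_eq_one, one_pow]
      rw [if_neg hd, geom_sum_eq (mt (hξ.pow_eq_one_iff_dvd _).1 hd), h1, sub_self, zero_div]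
      simp

end Groth.Agent.S13054
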