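import Groth.Statements.S13055
import Groth.Agent.L11.Zeta.Series

set_option autoImplicit false
universe u
open CategoryTheory AlgebraicGeometry
open Zeta

namespace Groth.Agent.S13055

/-- Let X be a scheme of finite type over a finite field k with q elements and P = a_d y^d + ⋯ + a_0 ∈
ℤ[y] with N_m = P(q^m) for every m ≥ 1 (X is of polynomial count). Then Z(X, t) = ∏_{i = 0}^{d} (1 −
q^i t)^{−a_i}; stated cleared of denominators, with the factors of positive exponent moved to the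
left. -/
theorem result {k : Type u} [Field k] [Finite k] {X : Scheme.{u}}
    (f : X ⟶ Spec (CommRingCat.of k)) [LocallyOfFiniteType f] [QuasiCompact f] (P : Polynomial ℤ)
    (hP : ∀ m : ℕ, 1 ≤ m → (Zeta.nPts f m : ℤ) = P.eval ((Nat.card k : ℤ) ^ m)) :
    Zeta.zetaFun f * ∏ i ∈ Finset.range (P.natDegree + 1),
        (1 - PowerSeries.C ((Nat.card k : ℚ) ^ i) * PowerSeries.X) ^ (P.coeff i).toNat =
      ∏ i ∈ Finset.range (P.natDegree + 1),
        (1 - PowerSeries.C ((Nat.card k : ℚ) ^ i) * PowerSeries.X) ^ (-P.coeff i).toNat := by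
  have hh : ∀ (e : ℕ → ℕ), Groth.L11.ZetaSeries.HasLogDeriv
      (∏ i ∈ Finset.range (P.natDegree + 1), (1 - PowerSeries.C ((Nat.card k : ℚ) ^ i) * PowerSeries.X) ^ e i)
      (∑ i ∈ Finset.range (P.natDegree + 1), e i • PowerSeries.mk fun n => -((Nat.card k : ℚ) ^ i) ^ (n + 1)) := fun e =>
    Groth.L11.ZetaSeries.HasLogDeriv.prod _ _ _ fun i _ => (Groth.L11.ZetaSeries.hasLogDeriv_one_sub_C_mul_X _).pow _
  refine ((Groth.L11.ZetaSeries.hasLogDeriv_zetaFun f).mul (hh fun i => (P.coeff i).toNat)).eq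
    ((hh fun i => (-P.coeff i).toNat).congr ?_)
  ext n
  have hN := congrArg (fun z : ℤ => (z : ℚ)) (hP (n + 1) n.succ_pos)
  rw [Polynomial.eval_eq_sum_range] at hN
  push_cast at hN
  simp only [map_add, map_sum, map_nsmul, PowerSeries.coeff_mk]
  rw [hN, ← Finset.sum_add_distrib]
  refine Finset.sum_congr rfl fun i _ => ?_
  rw [nsmul_eq_mul, nsmul_eq_mul, ← pow_mul, ← pow_mul, mul_comm (n + 1) i]
  have h : ((P.coeff i : ℤ) : ℚ) = ((P.coeff i).toNat : ℚ) - ((-P.coeff i).toNat : ℚ) := by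
    exact_mod_cast (Int.toNat_sub_toNat_neg (P.coeff i)).symm
  rw [h]; ring

end Groth.Agent.S13055
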