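import Groth.Statements.S13057
import Mathlib.RingTheory.PowerSeries.Trunc
import Mathlib.LinearAlgebra.Dual.Lemmas
import Mathlib.Tactic

set_option autoImplicit false
universe u
open Zeta

namespace Groth.Agent.S13057

/-- A power series f = ∑_{m ≥ 0} a_m t^m over a field L lies in L(t), i.e. f · Q = P for some
polynomials P, Q with Q ≠ 0, if and only if there are natural numbers M, N such that the vectors
(a_i, a_{i+1}, …, a_{i+N}) ∈ L^{N+1}, i ≥ M, span a proper subspace. -/
theorem result {L : Type u} [Field L]
    (f : PowerSeries L) :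
    (∃ P Q : Polynomial L, Q ≠ 0 ∧ f * (Q : PowerSeries L) = (P : PowerSeries L)) ↔
      ∃ M N : ℕ, Submodule.span L
          {v : Fin (N + 1) → L | ∃ i : ℕ, M ≤ i ∧ v = fun j : Fin (N + 1) => PowerSeries.coeff (i + (j : ℕ)) f} ≠ ⊤ := by
  classical
  constructor
  · rintro ⟨P, Q, hQ, h⟩
    refine ⟨P.natDegree + 1, Q.natDegree, fun htop => ?_⟩
    let φ : (Fin (Q.natDegree + 1) → L) →ₗ[L] L :=
      ∑ j : Fin (Q.natDegree + 1), Q.coeff (Q.natDegree - j) • LinearMap.proj j
    have hφv : ∀ v, φ v = ∑ j : Fin (Q.natDegree + 1), Q.coeff (Q.natDegree - j) * v j := fun v => by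
      simp [φ]
    have hker : Submodule.span L {v : Fin (Q.natDegree + 1) → L | ∃ i : ℕ, P.natDegree + 1 ≤ i ∧
        v = fun j : Fin (Q.natDegree + 1) => PowerSeries.coeff (i + (j : ℕ)) f} ≤ LinearMap.ker φ := by
      rw [Submodule.span_le]
      rintro v ⟨i, hi, rfl⟩
      have := congrArg (PowerSeries.coeff (i + Q.natDegree)) h
      rw [PowerSeries.coeff_mul, Polynomial.coeff_coe, Polynomial.coeff_eq_zero_of_natDegree_lt (by omega),
        Finset.Nat.sum_antidiagonal_eq_sum_range_succ_mk] at this
      rw [SetLike.mem_coe, LinearMap.mem_ker, hφv, ← this]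
      rw [Nat.succ_eq_add_one, show i + Q.natDegree + 1 = i + (Q.natDegree + 1) by ring, Finset.sum_range_add, Finset.sum_eq_zero (s := Finset.range i), zero_add,
        Fin.sum_univ_eq_sum_range (fun j => Q.coeff (Q.natDegree - j) * PowerSeries.coeff (i + j) f)]
      · refine Finset.sum_congr rfl fun j hj => ?_
        rw [Polynomial.coeff_coe, mul_comm, show i + Q.natDegree - (i + j) = Q.natDegree - j by omega]
      · intro j hj
        rw [Finset.mem_range] at hj
        rw [Polynomial.coeff_coe, Polynomial.coeff_eq_zero_of_natDegree_lt (by omega), mul_zero]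
    rw [htop, top_le_iff, LinearMap.ker_eq_top] at hker
    have h0 := congrArg (fun ψ => ψ (Pi.single 0 1)) hker
    simp only [hφv, LinearMap.zero_apply] at h0
    rw [Finset.sum_eq_single 0 (fun j _ hj => by rw [Pi.single_eq_of_ne hj, mul_zero]) (by simp)] at h0
    rw [Pi.single_eq_same, mul_one, Fin.val_zero, Nat.sub_zero] at h0
    exact hQ (Polynomial.leadingCoeff_eq_zero.mp h0)
  · rintro ⟨M, N, hne⟩
    obtain ⟨φ, hφ0, hφ⟩ := Submodule.exists_le_ker_of_lt_top _ hne.lt_top
    let c : Fin (N + 1) → L := fun j => φ (Pi.single j 1)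
    have hφv : ∀ v, φ v = ∑ j, c j * v j := fun v => by
      conv_lhs => rw [← Finset.univ_sum_single v]
      rw [map_sum]
      refine Finset.sum_congr rfl fun j _ => ?_
      rw [show Pi.single j (v j) = v j • (Pi.single j 1 : Fin (N + 1) → L) by
        rw [← Pi.single_smul, smul_eq_mul, mul_one], map_smul, smul_eq_mul, mul_comm]
    let Q : Polynomial L := ∑ j : Fin (N + 1), Polynomial.monomial (N - (j : ℕ)) (c j)
    have hQc : ∀ j : Fin (N + 1), Q.coeff (N - (j : ℕ)) = c j := fun j => by
      simp only [Q, Polynomial.finsetSum_coeff, Polynomial.coeff_monomial]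
      rw [Finset.sum_eq_single j _ (by simp)]
      · rw [if_pos rfl]
      · intro b _ hb
        rw [if_neg]
        exact fun hh => hb (Fin.ext (by omega))
    have hQd : ∀ m, N < m → Q.coeff m = 0 := fun m hm => by
      simp only [Q, Polynomial.finsetSum_coeff, Polynomial.coeff_monomial]
      exact Finset.sum_eq_zero fun j _ => if_neg (by omega)
    refine ⟨PowerSeries.trunc (M + N) (f * (Q : PowerSeries L)), Q, fun hQ0 => hφ0 ?_, ?_⟩
    · refine LinearMap.ext fun v => ?_
      rw [hφv, LinearMap.zero_apply]
      exact Finset.sum_eq_zero fun j _ => by rw [← hQc j, hQ0, Polynomial.coeff_zero, zero_mul]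
    · ext n
      rw [Polynomial.coeff_coe, PowerSeries.coeff_trunc]
      split_ifs with hn
      · rfl
      · rw [not_lt] at hn
        have := hφ (Submodule.subset_span ⟨n - N, by omega, rfl⟩)
        rw [LinearMap.mem_ker, hφv] at this
        rw [← this, PowerSeries.coeff_mul, Finset.Nat.sum_antidiagonal_eq_sum_range_succ_mk,
          Nat.succ_eq_add_one, show n + 1 = (n - N) + (N + 1) by omega, Finset.sum_range_add, Finset.sum_eq_zero, zero_add,
          Finset.sum_range fun x => PowerSeries.coeff (n - N + x) f * PowerSeries.coeff (n - (n - N + x)) (Q : PowerSeries L)]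
        · refine Finset.sum_congr rfl fun j _ => ?_
          rw [Polynomial.coeff_coe, show n - (n - N + (j : ℕ)) = N - (j : ℕ) by omega, hQc j, mul_comm]
        · intro j hj
          rw [Finset.mem_range] at hj
          rw [Polynomial.coeff_coe, hQd _ (by omega), mul_zero]

end Groth.Agent.S13057
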