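import Groth.Statements.S13058
import Mathlib.LinearAlgebra.Dual.Lemmas
import Mathlib.RingTheory.PowerSeries.Trunc
import Mathlib.Tactic

set_option autoImplicit false
universe u v
open Zeta

namespace Groth.Agent.S13058

/-- If L'/L is a field extension, a power series f ∈ L⟦t⟧ belongs to L(t) exactly when it belongs to
L'(t); here membership in L(t) means f · Q = P for polynomials P, Q over the field in question with
Q ≠ 0. -/
theorem result {L : Type u} {L' : Type v} [Field L] [Field L']
    [Algebra L L'] (f : PowerSeries L) :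
    (∃ P Q : Polynomial L', Q ≠ 0 ∧
        PowerSeries.map (algebraMap L L') f * (Q : PowerSeries L') = (P : PowerSeries L')) ↔
      ∃ P Q : Polynomial L, Q ≠ 0 ∧ f * (Q : PowerSeries L) = (P : PowerSeries L) := by
  classical
  constructor
  · rintro ⟨A, B, hB, h⟩
    obtain ⟨c, hc⟩ := Polynomial.support_nonempty.mpr hB
    obtain ⟨φ, hφ⟩ : ∃ φ : L' →ₗ[L] L, φ (B.coeff c) ≠ 0 := by
      by_contra! hh
      exact Polynomial.mem_support_iff.mp hc ((Module.forall_dual_apply_eq_zero_iff L _).mp hh)
    let pr : Polynomial L' → Polynomial L := fun R => ∑ j ∈ R.support, Polynomial.monomial j (φ (R.coeff j))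
    have hpr : ∀ R j, (pr R).coeff j = φ (R.coeff j) := fun R j => by
      simp only [pr, Polynomial.finsetSum_coeff, Polynomial.coeff_monomial]
      rw [Finset.sum_ite_eq']
      split_ifs with hj
      · rfl
      · rw [Polynomial.notMem_support_iff.mp hj, map_zero]
    refine ⟨pr A, pr B, fun h0 => ?_, ?_⟩
    · have := hpr B c
      rw [h0, Polynomial.coeff_zero] at this
      exact hφ this.symm
    · ext n
      have := congrArg φ (congrArg (PowerSeries.coeff n) h)
      rw [PowerSeries.coeff_mul, map_sum, Polynomial.coeff_coe] at this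
      rw [PowerSeries.coeff_mul, Polynomial.coeff_coe, hpr, ← this]
      refine Finset.sum_congr rfl fun x _ => ?_
      rw [Polynomial.coeff_coe, Polynomial.coeff_coe, hpr, PowerSeries.coeff_map, ← Algebra.smul_def, map_smul,
        smul_eq_mul]
  · rintro ⟨P, Q, hQ, h⟩
    refine ⟨P.map (algebraMap L L'), Q.map (algebraMap L L'), fun h0 => hQ ((Polynomial.map_eq_zero _).mp h0), ?_⟩
    rw [Polynomial.polynomial_map_coe, Polynomial.polynomial_map_coe, ← map_mul, h]

end Groth.Agent.S13058
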