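import Groth.Statements.S13059
import Mathlib.LinearAlgebra.Charpoly.Basic
import Mathlib.LinearAlgebra.Matrix.Charpoly.Coeff
import Mathlib.LinearAlgebra.PerfectPairing.Basic
import Mathlib.LinearAlgebra.Determinant
import Mathlib.LinearAlgebra.Dual.Lemmas
import Mathlib.LinearAlgebra.Charpoly.ToMatrix

set_option autoImplicit false
universe u
open Zeta

namespace Groth.Agent.S13059

/-- Let B : V × W → K be a perfect pairing of finite-dimensional vector spaces over a field K, c ∈ K
nonzero, and f, g endomorphisms of V, W with B(f v, g w) = c · B(v, w) for all v, w. Then det(Id − t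
g) = (−1)^r c^r t^r det(f)^{−1} det(Id − c^{−1} t^{−1} f) with r the common dimension; stated
cleared of denominators as det(f) · det(Id − t g) = (−1)^r c^r · det(t Id − c^{−1} f) in K[t],
det(Id − t g) being the reverse of the characteristic polynomial of g. -/
theorem result (K : Type u) [Field K] (V W : Type u)
    [AddCommGroup V] [Module K V] [FiniteDimensional K V] [AddCommGroup W] [Module K W]
    [FiniteDimensional K W] (B : V →ₗ[K] W →ₗ[K] K) [B.IsPerfPair] (f : V →ₗ[K] V) (g : W →ₗ[K] W)
    (c : K) (hc : c ≠ 0) (hfg : ∀ (v : V) (w : W), B (f v) (g w) = c * B v w) :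
    LinearMap.det f • (LinearMap.charpoly g).reverse =
      ((-1) ^ Module.finrank K W * c ^ Module.finrank K W) • (c⁻¹ • f).charpoly := by
  classical
  let e : W ≃ₗ[K] Module.Dual K V := B.flip.toPerfPair
  have he : ∀ w v, e w v = B v w := fun w v => by simp [e]
  let b := Module.finBasis K V
  let c' : Module.Basis _ K W := b.dualBasis.map e.symm
  set F := LinearMap.toMatrix b b f with hF
  set G := LinearMap.toMatrix c' c' g with hG
  have hBc : ∀ i j, B (b i) (c' j) = if i = j then 1 else 0 := fun i j => by
    rw [← he]; simp [c', Finsupp.single_apply, eq_comm]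
  have hdual : ∀ i w, B (b i) w = c'.repr w i := fun i w => by
    conv_lhs => rw [← c'.sum_repr w]
    rw [map_sum, Finset.sum_eq_single i (fun j _ hj => by rw [map_smul, hBc, if_neg (Ne.symm hj), smul_zero])
      (fun h => absurd (Finset.mem_univ i) h), map_smul, hBc, if_pos rfl, smul_eq_mul, mul_one]
  have hFG : F.transpose * G = c • (1 : Matrix _ _ K) := by
    ext i j
    have h := hfg (b i) (c' j)
    rw [hBc, show f (b i) = ∑ l, F l i • b l by rw [hF]; simp [LinearMap.toMatrix_apply, b.sum_repr]] at h
    simp only [map_sum, map_smul, LinearMap.sum_apply, LinearMap.smul_apply, smul_eq_mul, hdual] at h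
    simp only [Matrix.mul_apply, Matrix.transpose_apply, Matrix.smul_apply, Matrix.one_apply, smul_eq_mul]
    simpa [hG, LinearMap.toMatrix_apply] using h
  have hn : Module.finrank K W = Module.finrank K V := by
    rw [e.finrank_eq, Subspace.dual_finrank_eq]
  rw [← LinearMap.det_toMatrix b f, ← LinearMap.charpoly_toMatrix g c', ← LinearMap.charpoly_toMatrix (c⁻¹ • f) b,
    map_smul, ← hF, ← hG, Matrix.reverse_charpoly, hn, ← Matrix.charpoly_transpose, Matrix.charpoly,
    Matrix.charpolyRev, Polynomial.smul_eq_C_mul, Polynomial.smul_eq_C_mul, ← Matrix.det_transpose F]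
  set M := (F.transpose).map Polynomial.C with hM
  have h1 : Polynomial.C F.transpose.det = M.det := by rw [hM, ← RingHom.mapMatrix_apply, RingHom.map_det]
  rw [h1, ← Matrix.det_mul, ← mul_one (Matrix.det (Matrix.charmatrix _))]
  have h2 : M * (1 - (Polynomial.X : Polynomial K) • G.map Polynomial.C) =
      Polynomial.C (-c) • Matrix.charmatrix (c⁻¹ • F).transpose := by
    rw [Matrix.mul_sub, Matrix.mul_one, Matrix.mul_smul, hM, ← Matrix.map_mul, hFG]
    ext i j
    rcases eq_or_ne i j with rfl | hij
    · simp only [Matrix.sub_apply, Matrix.map_apply, Matrix.smul_apply, Matrix.charmatrix_apply_eq,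
        Matrix.transpose_apply, Matrix.one_apply_eq, smul_eq_mul, mul_sub, ← Polynomial.C_mul]
      rw [← mul_assoc, show -c * c⁻¹ = -1 by field_simp]
      simp; ring
    · simp only [Matrix.sub_apply, Matrix.map_apply, Matrix.smul_apply, Matrix.charmatrix_apply_ne _ _ _ hij,
        Matrix.transpose_apply, Matrix.one_apply_ne hij, smul_eq_mul, mul_neg, ← Polynomial.C_mul]
      rw [← mul_assoc, show -c * c⁻¹ = -1 by field_simp]
      simp
  rw [h2, Matrix.det_smul, Fintype.card_fin, mul_one, ← neg_pow, map_pow]

end Groth.Agent.S13059
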