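import Groth.Statements.S13060
import Mathlib.LinearAlgebra.TensorProduct.Basis
import Mathlib.LinearAlgebra.Dimension.Free

set_option autoImplicit false
universe u v w x
open TensorProduct
open Zeta

namespace Groth.Agent.S13060

/-- Let k be a field, V and W vector spaces over k and G a group acting on V by k-linear automorphisms;
for the induced action on V ⊗_k W (trivial on W) one has (V ⊗_k W)^G = V^G ⊗_k W, i.e. the
invariants of V ⊗ W are the image of V^G ⊗ W → V ⊗ W. -/
theorem result {k : Type u} [Field k] {G : Type v} [Group G]
    {V : Type w} {W : Type x} [AddCommGroup V] [Module k V] [AddCommGroup W] [Module k W]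
    (ρ : Representation k G V) :
    (ρ.tprod (Representation.trivial k G W)).invariants =
      LinearMap.range (TensorProduct.map ρ.invariants.subtype (LinearMap.id : W →ₗ[k] W)) := by
  classical
  apply le_antisymm
  · intro t ht
    let b := Module.Free.chooseBasis k W
    obtain ⟨f, rfl⟩ := (TensorProduct.equivFinsuppOfBasisRight (M := V) b).symm.surjective t
    have hf : ∀ i g, ρ g (f i) = f i := by
      intro i g
      have := congrArg (fun z => TensorProduct.equivFinsuppOfBasisRight (M := V) b z i)
        ((Representation.mem_invariants _ _).mp ht g)
      rcases eq_or_ne (f i) 0 with h0 | h0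
      · rw [h0, map_zero]
      simpa [h0, TensorProduct.equivFinsuppOfBasisRight_symm_apply, Representation.tprod_apply, map_finsuppSum,
        Finsupp.sum_apply, TensorProduct.equivFinsuppOfBasisRight_apply_tmul_apply,
        Finsupp.single_apply] using this
    rw [TensorProduct.equivFinsuppOfBasisRight_symm_apply]
    exact Submodule.sum_mem _ fun i _ => ⟨⟨f i, (Representation.mem_invariants _ _).mpr (hf i)⟩ ⊗ₜ b i, by simp⟩
  · rintro _ ⟨z, rfl⟩
    induction z using TensorProduct.induction_on with
    | zero => simp
    | add x y hx hy => rw [map_add]; exact add_mem hx hy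
    | tmul v w =>
      rw [Representation.mem_invariants]
      intro g
      simp [Representation.tprod_apply, (Representation.mem_invariants _ _).mp v.2 g]

end Groth.Agent.S13060
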