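import Groth.Statements.S13061
import Mathlib.GroupTheory.Sylow
import Mathlib.Algebra.CharP.Lemmas
import Mathlib.RingTheory.Ideal.Quotient.Operations
import Mathlib.Tactic

set_option autoImplicit false
universe u v w
open Zeta

namespace Groth.Agent.S13061

/-- Let A be a commutative algebra over a field k, G a finite group acting on A by k-algebra
automorphisms and I ⊆ A an ideal preserved by G. If p^n is the largest power of p = char(k) dividing
|G| (with p^n = 1 when char(k) = 0), then for every G-invariant b ∈ A/I the power b^{p^n} lies in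
the image of A^G → (A/I)^G. (The published statement takes A finitely generated over k, which the
proof does not use.) -/
theorem result {k : Type u} [Field k]
    {A : Type v} [CommRing A] [Algebra k A] {G : Type w} [Group G] [Finite G]
    [MulSemiringAction G A] [SMulCommClass G k A] (I : Ideal A)
    (hI : ∀ (g : G) (a : A), a ∈ I → g • a ∈ I) (u : A) (hu : ∀ g : G, g • u - u ∈ I) :
    ∃ a : A, (∀ g : G, g • a = a) ∧
      Ideal.Quotient.mk I a =
        Ideal.Quotient.mk I u ^ (ringChar k ^ (Nat.card G).factorization (ringChar k)) := by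
  classical
  obtain ⟨P, hcard, hidx⟩ : ∃ P : Subgroup G,
      Nat.card P = ringChar k ^ (Nat.card G).factorization (ringChar k) ∧ (P.index : k) ≠ 0 := by
    rcases Nat.eq_zero_or_pos (ringChar k) with h0 | h0
    · haveI : CharP k 0 := h0 ▸ ringChar.charP k
      haveI : CharZero k := CharP.charP_to_charZero k
      refine ⟨⊥, by rw [h0, Subgroup.card_bot, Nat.factorization_zero_right, pow_zero], ?_⟩
      rw [Subgroup.index_bot]
      exact_mod_cast (Nat.card_pos).ne'
    · haveI : Fact (ringChar k).Prime :=
        ⟨(CharP.char_is_prime_or_zero k (ringChar k)).resolve_right h0.ne'⟩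
      let P : Sylow (ringChar k) G := default
      refine ⟨P, P.card_eq_multiplicity, fun hz => ?_⟩
      exact P.not_dvd_index ((CharP.cast_eq_zero_iff k (ringChar k) _).1 hz)
  haveI : Fintype P := Fintype.ofFinite P
  haveI : Fintype (G ⧸ P) := Fintype.ofFinite _
  let mk : A →ₐ[k] A ⧸ I := Ideal.Quotient.mkₐ k I
  have hmk : ∀ (g : G) (x y : A), mk x = mk y → mk (g • x) = mk (g • y) := fun g x y h => by
    refine Ideal.Quotient.eq.2 ?_
    rw [← smul_sub]
    exact hI g _ (Ideal.Quotient.eq.1 h)
  have hu' : ∀ g : G, mk (g • u) = mk u := fun g => Ideal.Quotient.eq.2 (hu g)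
  let N : A := ∏ h : P, (h : G) • u
  have hN : ∀ h : G, h ∈ P → h • N = N := fun h hh => by
    simp only [N, Finset.smul_prod', ← mul_smul]
    exact Fintype.prod_equiv (Equiv.mulLeft (⟨h, hh⟩ : P)) _ _ fun x => rfl
  have hNmk : mk N = mk u ^ Nat.card P := by
    simp only [N, map_prod, hu', Finset.prod_const, Finset.card_univ, Nat.card_eq_fintype_card]
  refine ⟨(P.index : k)⁻¹ • ∑ q : G ⧸ P, q.out • N, fun g => ?_, ?_⟩
  · rw [smul_comm, Finset.smul_sum]
    congr 1
    refine Fintype.sum_equiv (MulAction.toPerm g) _ _ fun q => ?_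
    obtain ⟨h, hh, heq⟩ : ∃ h ∈ P, g * q.out = (g • q).out * h := by
      refine ⟨(g • q).out⁻¹ * (g * q.out), ?_, by rw [mul_inv_cancel_left]⟩
      rw [← QuotientGroup.eq, QuotientGroup.out_eq']
      conv_lhs => rw [← QuotientGroup.out_eq' q]
      rfl
    rw [MulAction.toPerm_apply, ← mul_smul, heq, mul_smul, hN h hh]
  · change mk _ = mk u ^ _
    rw [map_smul, map_sum, ← hcard, ← hNmk]
    have hterm : ∀ q : G ⧸ P, mk (q.out • N) = mk N := fun q => by
      simp only [N, Finset.smul_prod', ← mul_smul, map_prod, hu']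
    rw [Finset.sum_congr rfl fun q _ => hterm q, Finset.sum_const, Finset.card_univ, ← Nat.card_eq_fintype_card,
      ← Subgroup.index_eq_card, ← Nat.cast_smul_eq_nsmul k, inv_smul_smul₀ hidx]

end Groth.Agent.S13061
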