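import Groth.Statements.S13063
import Groth.Agent.L03.LangWeil.Scheme

set_option autoImplicit false
universe u
open CategoryTheory AlgebraicGeometry Limits
open Zeta

namespace Groth.Agent.S13063

set_option maxHeartbeats 800000 in
/-- Let X be a scheme of finite type over a finite field k with q elements, of dimension r. For each
irreducible component Z of X of dimension r let m_Z be the number of irreducible components of its
preimage in X ×_k k̄, k̄ an algebraic closure of k, and put a_e = ∑_{Z : m_Z ∣ e} m_Z. Then there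
are constants α, α' > 0 such that for every e ≥ 1: if a_e > 0 then |N_e − a_e q^{er}| ≤ α q^{e(r −
1/2)}, and if a_e = 0 then N_e ≤ α' q^{e(r − 1)}, where N_e = ∑_{d ∣ e} d · #{closed points of
residue degree d} is the number of points of X in the degree-e extension of k. (Stated for schemes
of finite type; reducedness plays no role.) -/
theorem result {k : Type u} [Field k] [Finite k] {X : Scheme.{u}}
    (f : X ⟶ Spec (CommRingCat.of k)) [LocallyOfFiniteType f] [QuasiCompact f] (r : ℕ)
    (hr : topologicalKrullDim X = r) :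
    ∃ α α' : ℝ, 0 < α ∧ 0 < α' ∧ ∀ e : ℕ, 1 ≤ e →
      (0 < (∑ᶠ (Z : Set X) (_ : Z ∈ irreducibleComponents X ∧ topologicalKrullDim Z = r ∧
            Nat.card (irreducibleComponents ((pullback.fst f (Spec.map (CommRingCat.ofHom
              (algebraMap k (AlgebraicClosure k))))).base ⁻¹' Z)) ∣ e),
          Nat.card (irreducibleComponents ((pullback.fst f (Spec.map (CommRingCat.ofHom
              (algebraMap k (AlgebraicClosure k))))).base ⁻¹' Z))) →
        |(Zeta.nPts f e : ℝ) -
            (∑ᶠ (Z : Set X) (_ : Z ∈ irreducibleComponents X ∧ topologicalKrullDim Z = r ∧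
              Nat.card (irreducibleComponents ((pullback.fst f (Spec.map (CommRingCat.ofHom
                (algebraMap k (AlgebraicClosure k))))).base ⁻¹' Z)) ∣ e),
            Nat.card (irreducibleComponents ((pullback.fst f (Spec.map (CommRingCat.ofHom
                (algebraMap k (AlgebraicClosure k))))).base ⁻¹' Z)) : ℕ) *
              (Nat.card k : ℝ) ^ (e * r)| ≤
          α * (Nat.card k : ℝ) ^ ((e : ℝ) * ((r : ℝ) - 1 / 2))) ∧
      ((∑ᶠ (Z : Set X) (_ : Z ∈ irreducibleComponents X ∧ topologicalKrullDim Z = r ∧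
            Nat.card (irreducibleComponents ((pullback.fst f (Spec.map (CommRingCat.ofHom
              (algebraMap k (AlgebraicClosure k))))).base ⁻¹' Z)) ∣ e),
          Nat.card (irreducibleComponents ((pullback.fst f (Spec.map (CommRingCat.ofHom
              (algebraMap k (AlgebraicClosure k))))).base ⁻¹' Z))) = 0 →
        (Zeta.nPts f e : ℝ) ≤ α' * (Nat.card k : ℝ) ^ ((e : ℝ) * ((r : ℝ) - 1))) := by
  classical
  haveI : CompactSpace X := QuasiCompact.compactSpace_of_compactSpace f
  haveI : IsLocallyNoetherian X := LocallyOfFiniteType.isLocallyNoetherian f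
  haveI : IsNoetherian X := {}
  let m : Set X → ℕ := fun Z => Nat.card (irreducibleComponents ((pullback.fst f (Spec.map (CommRingCat.ofHom
    (algebraMap k (AlgebraicClosure k))))).base ⁻¹' Z))
  let S : Set (Set X) := {Z | Z ∈ irreducibleComponents X ∧ topologicalKrullDim Z = r}
  have hfinC : (irreducibleComponents X).Finite := TopologicalSpace.NoetherianSpace.finite_irreducibleComponents
  haveI : Finite S := (hfinC.subset fun Z hZ => hZ.1).to_subtype
  haveI : Fintype S := Fintype.ofFinite _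
  -- the affine pieces
  have hex : ∀ Z : S, ∃ (η : X) (U : X.Opens), IsAffineOpen U ∧ η ∈ U ∧ closure ({η} : Set X) = Z.1 ∧
      ∀ Y ∈ irreducibleComponents X, ∀ x ∈ U, x ∈ Y → Y = Z.1 := fun Z => by
    obtain ⟨η, hη⟩ := QuasiSober.sober Z.2.1.1 (isClosed_of_mem_irreducibleComponents Z.1 Z.2.1)
    have hO : IsClosed (⋃₀ (irreducibleComponents X \ {Z.1})) :=
      Set.Finite.isClosed_biUnion (hfinC.subset Set.sdiff_subset)
        (fun Y hY => isClosed_of_mem_irreducibleComponents Y hY.1) |> fun h => by rwa [Set.sUnion_eq_biUnion]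
    have hmem : η ∈ (⋃₀ (irreducibleComponents X \ {Z.1}))ᶜ := by
      rintro ⟨Y, ⟨hY, hne⟩, hηY⟩
      refine hne (le_antisymm ?_ ?_)
      · refine Z.2.1.2 hY.1 ?_
        rw [← hη.def]
        exact closure_minimal (Set.singleton_subset_iff.mpr hηY) (isClosed_of_mem_irreducibleComponents Y hY)
      · rw [← hη.def]
        exact closure_minimal (Set.singleton_subset_iff.mpr hηY) (isClosed_of_mem_irreducibleComponents Y hY)
    obtain ⟨_, ⟨U, hU, rfl⟩, hηU, hUO⟩ := X.isBasis_affineOpens.exists_subset_of_mem_open hmem hO.isOpen_compl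
    refine ⟨η, U, hU, hηU, hη.def, fun Y hY x hx hxY => ?_⟩
    by_contra hne
    exact hUO hx ⟨Y, ⟨hY, hne⟩, hxY⟩
  choose η U hU hηU hηZ honly using hex
  have hUZ : ∀ Z : S, (U Z : Set X) ⊆ closure {η Z} := fun Z x hx => by
    rw [hηZ]
    have hC : irreducibleComponent x ∈ irreducibleComponents X := irreducibleComponent_mem_irreducibleComponents x
    exact honly Z _ hC x hx mem_irreducibleComponent ▸ mem_irreducibleComponent
  let W : Set X := (⋃ Z : S, (U Z : Set X))ᶜ
  have hW : IsClosed W := (isOpen_iUnion fun Z => (U Z).2).isClosed_compl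
  have hWdim : topologicalKrullDim W < r := by
    by_contra hlt
    obtain ⟨l, hl⟩ := Order.le_krullDim_iff.mp (not_lt.mp hlt)
    let p : LTSeries (TopologicalSpace.IrreducibleCloseds X) :=
      l.map _ (TopologicalSpace.IrreducibleCloseds.map_strictMono_of_isInducing hW.isClosedEmbedding_subtypeVal.isInducing)
    have hpW : (p.last : Set X) ⊆ W := by
      simp only [p, LTSeries.last_map, TopologicalSpace.IrreducibleCloseds.coe_map]
      exact closure_minimal (Set.image_subset_iff.mpr fun x _ => x.2) hW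
    obtain ⟨Y, hY, hle⟩ := exists_mem_irreducibleComponents_subset_of_isIrreducible _ p.last.isIrreducible
    let Y' : TopologicalSpace.IrreducibleCloseds X := ⟨Y, hY.1, isClosed_of_mem_irreducibleComponents Y hY⟩
    rcases (show p.last ≤ Y' from hle).eq_or_lt with heq | hlt'
    · have hYW : Y ⊆ W := by
        rw [show Y = (p.last : Set X) from (congrArg (fun T : TopologicalSpace.IrreducibleCloseds X => (T : Set X)) heq).symm]
        exact hpW
      have hYr : topologicalKrullDim Y = r := by
        refine le_antisymm ((topologicalKrullDim_subspace_le X Y).trans hr.le) ?_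
        have h1 := Groth.L06.Dim.length_le_of_last_subset p hle
        rwa [show p.length = l.length from rfl, hl] at h1
      let Z : S := ⟨Y, hY, hYr⟩
      exact hYW ((hηZ Z).le (subset_closure rfl)) (Set.mem_iUnion.mpr ⟨Z, hηU Z⟩)
    · have h1 := Order.LTSeries.length_le_krullDim (p.snoc Y' hlt')
      rw [RelSeries.snoc_length, show p.length = l.length from rfl, hl] at h1
      have h2 := h1.trans hr.le
      norm_cast at h2
      omega
  obtain ⟨C₀, hC₀⟩ := Groth.L03.LangWeil.exists_card_closed_le f hW hWdim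
  have hpiece := fun Z : S => Groth.L03.LangWeil.exists_piece_count f (hU Z) (hηU Z) (hUZ Z) (r := r)
    ((congrArg (fun T : Set X => topologicalKrullDim T) (hηZ Z)).trans Z.2.2)
  choose C hC using hpiece
  let CT : ℕ := C₀ + ∑ Z, C Z
  refine ⟨CT + 1, CT + 1, by positivity, by positivity, fun e he => ?_⟩
  obtain ⟨k', _, _, _, rfl⟩ := Groth.L11.ZetaCounts.exists_extension (k := k) e he
  -- the sum over the components
  have hsum : (∑ᶠ (Z : Set X) (_ : Z ∈ irreducibleComponents X ∧ topologicalKrullDim Z = r ∧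
        m Z ∣ Module.finrank k k'), m Z) = ∑ Z : S, if m Z.1 ∣ Module.finrank k k' then m Z.1 else 0 := by
    rw [← finsum_eq_sum_of_fintype]
    rw [finsum_set_coe_eq_finsum_mem (f := fun Z : Set X => if m Z ∣ Module.finrank k k' then m Z else 0)]
    refine finsum_congr fun Z => ?_
    by_cases h : Z ∈ S
    · rw [finsum_eq_if, finsum_eq_if]
      rw [if_pos h]
      by_cases h' : m Z ∣ Module.finrank k k'
      · rw [if_pos h', if_pos ⟨h.1, h.2, h'⟩]
      · rw [if_neg h', if_neg fun hh => h' hh.2.2]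
    · rw [finsum_eq_if, finsum_eq_if, if_neg h, if_neg fun hh => h ⟨hh.1, hh.2.1⟩]
  change (0 < (∑ᶠ (Z : Set X) (_ : Z ∈ irreducibleComponents X ∧ topologicalKrullDim Z = r ∧
        m Z ∣ Module.finrank k k'), m Z) → _) ∧ ((∑ᶠ (Z : Set X) (_ : Z ∈ irreducibleComponents X ∧
        topologicalKrullDim Z = r ∧ m Z ∣ Module.finrank k k'), m Z) = 0 → _)
  set a : ℕ := ∑ᶠ (Z : Set X) (_ : Z ∈ irreducibleComponents X ∧ topologicalKrullDim Z = r ∧
        m Z ∣ Module.finrank k k'), m Z with hadef
  set Q : ℝ := (Nat.card k' : ℝ) with hQdef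
  have hQ : (Nat.card k : ℝ) ^ Module.finrank k k' = Q := by
    rw [hQdef, Module.natCard_eq_pow_finrank (K := k) (V := k'), Nat.cast_pow]
  have hq0 : (0 : ℝ) < Nat.card k := by exact_mod_cast Nat.card_pos
  have hQ0 : 0 < Q := by rw [← hQ]; positivity
  -- splitting the points
  haveI := Groth.L03.LangWeil.finite_points f k'
  have hN : (Zeta.nPts f (Module.finrank k k') : ℝ) =
      (∑ Z, (Nat.card {g : Groth.L03.LangWeil.Points f k' // g.pt ∈ U Z} : ℝ)) +
        Nat.card {g : Groth.L03.LangWeil.Points f k' // g.pt ∈ W} := by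
    rw [Groth.L11.ZetaCounts.nPts_eq, ← Nat.cast_sum, ← Nat.cast_add, ← Nat.card_sigma, ← Nat.card_sum]
    congr 1
    change Nat.card (Groth.L03.LangWeil.Points f k') = _
    refine (Nat.card_eq_of_bijective
      (fun z : (Σ Z : S, {g : Groth.L03.LangWeil.Points f k' // g.pt ∈ U Z}) ⊕
        {g : Groth.L03.LangWeil.Points f k' // g.pt ∈ W} => Sum.elim (fun z => z.2.1) (fun z => z.1) z)
      ⟨?_, fun g => ?_⟩).symm
    · rintro (⟨Z, g, hg⟩ | ⟨g, hg⟩) (⟨Z', g', hg'⟩ | ⟨g', hg'⟩) h <;> simp only [Sum.elim_inl, Sum.elim_inr] at h <;>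
        subst h
      · have : Z = Z' := Subtype.ext (((honly Z' Z.1 Z.2.1 _ hg') ((hUZ Z).trans (hηZ Z).le hg))).symm.symm
        subst this
        rfl
      · exact absurd (Set.mem_iUnion.mpr ⟨Z, hg⟩) hg'
      · exact absurd (Set.mem_iUnion.mpr ⟨Z', hg'⟩) hg
      · rfl
    · by_cases h : g.pt ∈ ⋃ Z : S, (U Z : Set X)
      · obtain ⟨Z, hZ⟩ := Set.mem_iUnion.mp h
        exact ⟨Sum.inl ⟨Z, g, hZ⟩, rfl⟩
      · exact ⟨Sum.inr ⟨g, h⟩, rfl⟩
  have hWb : (Nat.card {g : Groth.L03.LangWeil.Points f k' // g.pt ∈ W} : ℝ) * Q ≤ C₀ * Q ^ r := by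
    rw [hQdef]; exact_mod_cast hC₀ k'
  have hCT : (CT : ℝ) = C₀ + ∑ Z, (C Z : ℝ) := by simp [CT]
  have hm : ∀ Z : S, Nat.card (irreducibleComponents ↥((pullback.fst f (Spec.map (CommRingCat.ofHom
      (algebraMap k (AlgebraicClosure k))))).base ⁻¹' closure {η Z})) = m Z.1 := fun Z =>
    congrArg m (hηZ Z)
  have hpow1 : (Nat.card k : ℝ) ^ (Module.finrank k k' * r) = Q ^ r := by rw [pow_mul, hQ]
  constructor
  · intro _
    have key : |(Zeta.nPts f (Module.finrank k k') : ℝ) - (a : ℝ) * Q ^ r| * Real.sqrt Q ≤ CT * Q ^ r := by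
      have e1 : (Zeta.nPts f (Module.finrank k k') : ℝ) - (a : ℝ) * Q ^ r =
          (∑ Z, ((Nat.card {g : Groth.L03.LangWeil.Points f k' // g.pt ∈ U Z} : ℝ) -
            ((if m Z.1 ∣ Module.finrank k k' then m Z.1 else 0 : ℕ) : ℝ) * Q ^ r)) +
            Nat.card {g : Groth.L03.LangWeil.Points f k' // g.pt ∈ W} := by
        rw [hN, hsum, Nat.cast_sum, Finset.sum_mul, Finset.sum_sub_distrib]
        ring
      rw [e1, hCT, add_comm (C₀ : ℝ), add_mul]
      refine (mul_le_mul_of_nonneg_right (abs_add_le _ _) (Real.sqrt_nonneg _)).trans ?_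
      rw [add_mul, Nat.abs_cast]
      refine add_le_add ?_ ((mul_le_mul_of_nonneg_left Groth.L03.LangWeil.sqrt_card_le (Nat.cast_nonneg _)).trans hWb)
      refine (mul_le_mul_of_nonneg_right (Finset.abs_sum_le_sum_abs _ _) (Real.sqrt_nonneg _)).trans ?_
      rw [Finset.sum_mul, Finset.sum_mul]
      refine Finset.sum_le_sum fun Z _ => ?_
      have hh := hC Z k'
      rw [hm Z] at hh
      by_cases h : m Z.1 ∣ Module.finrank k k'
      · rw [if_pos h]; exact hh.1 h
      · rw [if_neg h, Nat.cast_zero, zero_mul, sub_zero, Nat.abs_cast]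
        exact (mul_le_mul_of_nonneg_left Groth.L03.LangWeil.sqrt_card_le (Nat.cast_nonneg _)).trans (hh.2 h)
    have hrp : (Nat.card k : ℝ) ^ ((Module.finrank k k' : ℝ) * ((r : ℝ) - 1 / 2)) = Q ^ r / Real.sqrt Q := by
      rw [Real.rpow_mul hq0.le, Real.rpow_natCast, hQ, Real.rpow_sub hQ0, Real.rpow_natCast, Real.sqrt_eq_rpow]
    rw [hpow1, hrp, mul_div_assoc', le_div_iff₀ (Real.sqrt_pos.mpr hQ0)]
    refine key.trans (mul_le_mul_of_nonneg_right ?_ (by positivity))
    linarith
  · intro ha
    have hrp : (Nat.card k : ℝ) ^ ((Module.finrank k k' : ℝ) * ((r : ℝ) - 1)) = Q ^ r / Q := by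
      rw [Real.rpow_mul hq0.le, Real.rpow_natCast, hQ, Real.rpow_sub hQ0, Real.rpow_natCast, Real.rpow_one]
    rw [hrp, mul_div_assoc', le_div_iff₀ hQ0, hN, add_mul, Finset.sum_mul]
    refine le_trans ?_ (mul_le_mul_of_nonneg_right (show (CT : ℝ) ≤ CT + 1 by linarith) (by positivity))
    rw [hCT, add_comm (C₀ : ℝ), add_mul]
    refine add_le_add ?_ hWb
    rw [Finset.sum_mul]
    refine Finset.sum_le_sum fun Z _ => ?_
    have hh := hC Z k'
    rw [hm Z] at hh
    refine hh.2 fun h => ?_
    rw [hsum, Finset.sum_eq_zero_iff] at ha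
    have h0 := ha Z (Finset.mem_univ _)
    rw [if_pos h] at h0
    rw [h0, zero_dvd_iff] at h
    exact Module.finrank_pos.ne' h

end Groth.Agent.S13063
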