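import Groth.Statements.S13065
import Mathlib.FieldTheory.Finite.Basic
import Mathlib.RingTheory.MvPolynomial.Homogeneous
import Mathlib.Data.Fintype.BigOperators
import Mathlib.Tactic

set_option autoImplicit false
universe u
open Zeta

namespace Groth.Agent.S13065

/-- Let k be a finite field with q elements and characteristic p, n ≥ 2, and f ∈ k[x_0, …, x_n]
homogeneous of degree n + 1, defining the hypersurface Z ⊂ P^n_k. Then #Z(F_q) ≢ 1 (mod p) if and
only if the coefficient of (x_0 ⋯ x_n)^{q−1} in f^{q−1} is nonzero. Stated through the affine count: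
#Z(F_q) ≡ 1 (mod p) exactly when p divides the number of zeros of f in k^{n+1} (as (q − 1) #Z(F_q) +
1 is that number). -/
theorem result {k : Type u} [Field k] [Finite k] (p : ℕ)
    [CharP k p] (n : ℕ) (hn : 2 ≤ n) (f : MvPolynomial (Fin (n + 1)) k)
    (hf : f.IsHomogeneous (n + 1)) :
    p ∣ Nat.card {a : Fin (n + 1) → k // MvPolynomial.eval a f = 0} ↔
      MvPolynomial.coeff (Finsupp.equivFunOnFinite.symm fun _ : Fin (n + 1) => Nat.card k - 1)
        (f ^ (Nat.card k - 1)) = 0 := by
  classical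
  haveI : Fintype k := Fintype.ofFinite k
  set q := Fintype.card k with hq
  have hq1 : 1 < q := Fintype.one_lt_card
  rw [Nat.card_eq_fintype_card (α := k), ← hq]
  set F := f ^ (q - 1)
  have hF : F.IsHomogeneous ((n + 1) * (q - 1)) := hf.pow (q - 1)
  set d0 : Fin (n + 1) →₀ ℕ := Finsupp.equivFunOnFinite.symm fun _ => q - 1 with hd0
  have hd0i : ∀ i, d0 i = q - 1 := fun i => by simp [hd0]
  have hsum : ∀ d : ℕ, ∑ x : k, x ^ d = if d ≠ 0 ∧ (q - 1) ∣ d then (-1 : k) else 0 := fun d => by
    by_cases hd : d = 0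
    · subst hd
      simp [hq]
    rw [← Finset.sum_erase_add _ _ (Finset.mem_univ (0 : k)), zero_pow hd, add_zero]
    have h1 : ∑ x ∈ Finset.univ.erase (0 : k), x ^ d = ∑ u : kˣ, (u : k) ^ d :=
      (Finset.sum_bij (fun (u : kˣ) _ => (u : k)) (fun u _ => Finset.mem_erase.2 ⟨u.ne_zero, Finset.mem_univ _⟩)
        (fun u _ v _ h => Units.ext h) (fun x hx => ⟨Units.mk0 x (Finset.mem_erase.1 hx).1, Finset.mem_univ _, rfl⟩)
        (fun u _ => rfl)).symm
    rw [h1, FiniteField.sum_pow_units]
    simp [hd, hq]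
  have hdeg : ∀ d : Fin (n + 1) →₀ ℕ, F.coeff d ≠ 0 → (∀ i, d i ≠ 0 ∧ (q - 1) ∣ d i) → d = d0 := fun d hd hdi => by
    have h1 := hF hd
    rw [Finsupp.weight_apply, Finsupp.sum_fintype _ _ (by simp)] at h1
    simp only [Pi.one_apply, smul_eq_mul, mul_one] at h1
    have h2 : ∑ _i : Fin (n + 1), (q - 1) = ∑ i, d i := by simp [h1]
    have h3 := (Finset.sum_eq_sum_iff_of_le fun i _ => Nat.le_of_dvd (Nat.pos_of_ne_zero (hdi i).1) (hdi i).2).1 h2
    exact Finsupp.ext fun i => by rw [hd0i, ← h3 i (Finset.mem_univ i)]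
  have key : ∑ a : Fin (n + 1) → k, MvPolynomial.eval a F = F.coeff d0 * (-1) ^ (n + 1) := by
    simp only [MvPolynomial.eval_eq']
    rw [Finset.sum_comm]
    simp only [← Finset.mul_sum]
    rw [Finset.sum_eq_single d0]
    · congr 1
      rw [← Fintype.prod_sum fun i (x : k) => x ^ d0 i]
      rw [Finset.prod_congr rfl fun i _ => (hsum (d0 i)).trans (if_pos ⟨by rw [hd0i]; omega, by rw [hd0i]⟩)]
      simp
    · intro d hd hne
      rw [MvPolynomial.mem_support_iff] at hd
      obtain ⟨i, hi⟩ := not_forall.1 fun hall => hne (hdeg d hd hall)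
      rw [← Fintype.prod_sum fun i (x : k) => x ^ d i, Finset.prod_eq_zero (Finset.mem_univ i) ((hsum (d i)).trans (if_neg hi)), mul_zero]
    · intro h
      rw [MvPolynomial.notMem_support_iff.1 h, zero_mul]
  have hcount : (Nat.card {a : Fin (n + 1) → k // MvPolynomial.eval a f = 0} : k) = -∑ a : Fin (n + 1) → k, MvPolynomial.eval a F := by
    have h1 : ∀ a : Fin (n + 1) → k, MvPolynomial.eval a F = 1 - if MvPolynomial.eval a f = 0 then 1 else 0 := fun a => by
      rw [map_pow]
      split_ifs with h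
      · rw [h, zero_pow (by omega), sub_self]
      · rw [FiniteField.pow_card_sub_one_eq_one _ h, sub_zero]
    rw [Finset.sum_congr rfl fun a _ => h1 a, Finset.sum_sub_distrib, Finset.sum_boole, Finset.sum_const,
      Finset.card_univ, Fintype.card_fun, Fintype.card_fin, nsmul_eq_mul, mul_one, Nat.cast_pow, ← hq,
      hq, FiniteField.cast_card_eq_zero, zero_pow n.succ_ne_zero, zero_sub, neg_neg, Nat.card_eq_fintype_card, Fintype.card_subtype]
  rw [← CharP.cast_eq_zero_iff k p, hcount, key, neg_eq_zero, mul_eq_zero]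
  exact or_iff_left (pow_ne_zero _ (neg_ne_zero.2 one_ne_zero))

end Groth.Agent.S13065
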