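import Groth.Statements.S13066
import Mathlib.FieldTheory.Finite.Basic
import Mathlib.RingTheory.MvPolynomial.Homogeneous
import Mathlib.Algebra.CharP.Lemmas
import Mathlib.Tactic

set_option autoImplicit false
universe u
open Zeta

namespace Groth.Agent.S13066

/-- Let k be a finite field with q elements and characteristic p, n ≥ 2, and f ∈ k[x_0, …, x_n]
homogeneous of degree n + 1. Then the coefficient of (x_0 ⋯ x_n)^{q−1} in f^{q−1} is nonzero if and
only if the coefficient of (x_0 ⋯ x_n)^{p−1} in f^{p−1} is nonzero. -/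
theorem result {k : Type u} [Field k] [Finite k]
    (p : ℕ) [CharP k p] (n : ℕ) (hn : 2 ≤ n) (f : MvPolynomial (Fin (n + 1)) k)
    (hf : f.IsHomogeneous (n + 1)) :
    MvPolynomial.coeff (Finsupp.equivFunOnFinite.symm fun _ : Fin (n + 1) => Nat.card k - 1)
        (f ^ (Nat.card k - 1)) ≠ 0 ↔
      MvPolynomial.coeff (Finsupp.equivFunOnFinite.symm fun _ : Fin (n + 1) => p - 1)
        (f ^ (p - 1)) ≠ 0 := by
  classical
  haveI : Fintype k := Fintype.ofFinite k
  obtain ⟨e, hp, he⟩ := FiniteField.card k p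
  haveI : Fact p.Prime := ⟨hp⟩
  haveI : ExpChar k p := ExpChar.prime hp
  haveI : CharP (MvPolynomial (Fin (n + 1)) k) p := inferInstance
  rw [Nat.card_eq_fintype_card, he]
  set d : ℕ → (Fin (n + 1) →₀ ℕ) := fun m => Finsupp.equivFunOnFinite.symm fun _ => m with hd
  have hdi : ∀ m i, d m i = m := fun m i => by simp [hd]
  change MvPolynomial.coeff (d (p ^ (e : ℕ) - 1)) (f ^ (p ^ (e : ℕ) - 1)) ≠ 0 ↔ MvPolynomial.coeff (d (p - 1)) (f ^ (p - 1)) ≠ 0
  have hstep : ∀ m : ℕ, MvPolynomial.coeff (d (p * m + (p - 1))) (f ^ (p * m + (p - 1))) =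
      MvPolynomial.coeff (d m) (f ^ m) ^ p * MvPolynomial.coeff (d (p - 1)) (f ^ (p - 1)) := fun m => by
    rw [pow_add, mul_comm p m, pow_mul]
    set g := f ^ m
    set h := f ^ (p - 1) with hh
    have hhom : h.IsHomogeneous ((n + 1) * (p - 1)) := hf.pow (p - 1)
    conv_lhs => arg 2; arg 1; rw [g.as_sum, sum_pow_char]
    rw [Finset.sum_mul, MvPolynomial.coeff_sum]
    simp only [MvPolynomial.monomial_pow, MvPolynomial.coeff_monomial_mul']
    rw [Finset.sum_eq_single (d m)]
    · have hle : p • d m ≤ d (m * p + (p - 1)) := fun i => by simp [hdi, mul_comm]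
      rw [if_pos hle]
      congr 2
      refine Finsupp.ext fun i => ?_
      simp [hdi, mul_comm]
    · intro a ha hne
      split_ifs with hle
      · refine mul_eq_zero_of_right _ ?_
        by_contra hc
        have h1 := hhom hc
        rw [Finsupp.weight_apply, Finsupp.sum_fintype _ _ (by simp)] at h1
        simp only [Pi.one_apply, smul_eq_mul, mul_one, Finsupp.coe_tsub, Pi.sub_apply, Finsupp.smul_apply, hdi] at h1
        have hge : ∀ i ∈ (Finset.univ : Finset (Fin (n + 1))), p - 1 ≤ m * p + (p - 1) - p * a i := fun i _ => by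
          have h2 : p * a i ≤ m * p + (p - 1) := by simpa [hdi] using hle i
          have h3 : a i ≤ m := by
            by_contra hlt
            have h4 : p * (m + 1) ≤ p * a i := Nat.mul_le_mul_left p (not_le.1 hlt)
            have := hp.pos
            rw [mul_add, mul_one, mul_comm p m] at h4
            omega
          have h5 : p * a i ≤ m * p := by rw [mul_comm m p]; exact Nat.mul_le_mul_left p h3
          omega
        have h6 : ∑ _i : Fin (n + 1), (p - 1) = ∑ i, (m * p + (p - 1) - p * a i) := by simp [h1]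
        refine hne (Finsupp.ext fun i => ?_)
        have h7 := (Finset.sum_eq_sum_iff_of_le hge).1 h6 i (Finset.mem_univ i)
        have h8 : p * a i ≤ m * p + (p - 1) := by simpa [hdi] using hle i
        rw [hdi]
        refine Nat.eq_of_mul_eq_mul_left hp.pos ?_
        rw [mul_comm p m]
        omega
      · rfl
    · intro h'
      rw [MvPolynomial.notMem_support_iff.1 h', zero_pow hp.ne_zero]
      simp
  have hpos : ∀ j : ℕ, MvPolynomial.coeff (d (p ^ (j + 1) - 1)) (f ^ (p ^ (j + 1) - 1)) ≠ 0 ↔
      MvPolynomial.coeff (d (p - 1)) (f ^ (p - 1)) ≠ 0 := fun j => by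
    induction j with
    | zero => rw [zero_add, pow_one]
    | succ j ih =>
      have he' : p ^ (j + 1 + 1) - 1 = p * (p ^ (j + 1) - 1) + (p - 1) := by
        rw [pow_succ' p (j + 1), Nat.mul_sub, mul_one]
        have : p ≤ p * p ^ (j + 1) := Nat.le_mul_of_pos_right p (pow_pos hp.pos _)
        have := hp.pos
        omega
      rw [he', hstep, mul_ne_zero_iff, pow_ne_zero_iff hp.ne_zero, ih, and_self_iff]
  obtain ⟨j, hj⟩ := Nat.exists_eq_succ_of_ne_zero e.pos.ne'
  rw [hj]
  exact hpos j

end Groth.Agent.S13066
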