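import Groth.Statements.S13074
import Groth.Agent.L03.LWU.Bridge.Degree

set_option autoImplicit false
universe u
open CategoryTheory AlgebraicGeometry
open Zeta

namespace Groth.Agent.S13074

/-- Given n, d, r ≥ 0 with d > 0 there is A₁ = A₁(n, d, r) > 0 such that for every finite field k = F_q
and every irreducible (reduced) closed subvariety X ⊆ P^n_k of dimension r and degree ≤ d, #X(k) ≤
A₁ q^r. The degree is the intersection number (O(1)^r · O_X), written as the
alternating-Euler-characteristic intersection number of r copies of O(−1)|_X with O_X. -/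
theorem result (n d r : ℕ) (hd : 0 < d) :
    ∃ A₁ : ℕ, 0 < A₁ ∧ ∀ (k : Type u) [Field k] [Finite k] (X : Scheme.{u})
      (ι : X ⟶ CohB1.ProjSpace n k) [IsClosedImmersion ι] [IsIntegral X],
      topologicalKrullDim X = r →
      letI : X.Over (Spec (CommRingCat.of k)) := ⟨ι ≫ CohB1.ProjSpace.toSpec n k⟩
      FGA.intNum k X r (fun _ : Fin r => (Scheme.Modules.pullback ι).obj (Twist.twistProjSpace n k (-1)))
          (Coh.structureModule X) ≤ d →
        SgaExt.pointCount (ι ≫ CohB1.ProjSpace.toSpec n k) k ≤ A₁ * Nat.card k ^ r := by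
  obtain ⟨A, hA⟩ := Groth.L03.LWU.cone_upper.{u} n r d
  refine ⟨2 * A + 1, Nat.succ_pos _, fun k _ _ X ι _ _ hdim hdeg => ?_⟩
  letI : X.Over (Spec (CommRingCat.of k)) := ⟨ι ≫ CohB1.ProjSpace.toSpec n k⟩
  obtain ⟨d', hd', hd'eq, hhd⟩ := Groth.L03.LWU.Bridge.exists_deg ι rfl r hdim
  rw [hd'eq] at hdeg
  have hcard := hA (Groth.L03.LWU.Bridge.isCone_coord ι hdim) hhd (by exact_mod_cast hdeg)
  rw [← Groth.L03.LWU.Bridge.card_conePts_eq ι k] at hcard
  set N := SgaExt.pointCount (ι ≫ CohB1.ProjSpace.toSpec n k) k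
  obtain ⟨q, hq⟩ : ∃ q, Nat.card k = q + 2 := ⟨Nat.card k - 2, by
    have := Finite.one_lt_card (α := k)
    omega⟩
  rw [hq] at hcard ⊢
  rw [show q + 2 - 1 = q + 1 from rfl, pow_succ] at hcard
  refine Nat.le_of_mul_le_mul_right ?_ (Nat.succ_pos (q + 1))
  calc N * (q + 1 + 1) ≤ 2 * (N * (q + 1) + 1) := by nlinarith
    _ ≤ 2 * (A * ((q + 2) ^ r * (q + 2))) := by omega
    _ ≤ _ := by nlinarith

end Groth.Agent.S13074
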