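import Groth.Statements.S13075
import Groth.Agent.L11.Weil.Newton

set_option autoImplicit false
open Zeta

namespace Groth.Agent.S13075

/-- For the formal power series exp(t) = ∑_{m ≥ 0} t^m / m! and log(1 + t) = ∑_{m ≥ 1} (−1)^{m+1} t^m /
m over ℚ, log(exp(u)) = u and exp(log(1 + u)) = 1 + u for every u ∈ tℚ⟦t⟧; stated for u = t (the
general case is obtained by substitution): substituting exp(t) − 1 into log(1 + ·) gives t, and
substituting log(1 + t) into exp gives 1 + t. -/
theorem result :
    PowerSeries.subst (PowerSeries.exp ℚ - 1)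
        (PowerSeries.mk fun m : ℕ => if m = 0 then (0 : ℚ) else (-1) ^ (m + 1) / (m : ℚ)) =
      PowerSeries.X ∧
    PowerSeries.subst (PowerSeries.mk fun m : ℕ => if m = 0 then (0 : ℚ) else (-1) ^ (m + 1) / (m : ℚ))
        (PowerSeries.exp ℚ) = 1 + PowerSeries.X := by
  set a : ℕ → ℚ := fun m => if m = 0 then 0 else (-1) ^ (m + 1) with ha
  have hmk : (PowerSeries.mk fun m : ℕ => if m = 0 then (0 : ℚ) else (-1) ^ (m + 1) / (m : ℚ)) =
      PowerSeries.mk fun m : ℕ => a m / (m : ℚ) := by
    ext n; rcases n with _ | n <;> simp [ha]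
  rw [hmk]
  have hgeom : (PowerSeries.mk fun n => a (n + 1)) * (1 + PowerSeries.X) = 1 := by
    ext n
    rw [mul_add, mul_one, map_add]
    rcases n with _ | n
    · simp [ha]
    · simp [ha, pow_succ]
  constructor
  · have hg : PowerSeries.HasSubst (PowerSeries.exp ℚ - 1) :=
      PowerSeries.HasSubst.of_constantCoeff_zero' (by simp)
    refine PowerSeries.derivative.ext ?_ ?_
    · have hL : PowerSeries.derivative ℚ (PowerSeries.mk fun m : ℕ => a m / (m : ℚ)) = PowerSeries.mk fun n => a (n + 1) := by
        ext n
        rw [PowerSeries.coeff_derivative, PowerSeries.coeff_mk, PowerSeries.coeff_mk, Nat.cast_succ,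
          div_mul_cancel₀ _ (Nat.cast_add_one_ne_zero n)]
      rw [PowerSeries.derivative_subst hg, hL, map_sub, PowerSeries.derivative_exp, Derivation.map_one_eq_zero, sub_zero,
        PowerSeries.derivative_X]
      have := congrArg (PowerSeries.subst (PowerSeries.exp ℚ - 1)) hgeom
      rw [PowerSeries.subst_mul hg, PowerSeries.subst_add hg, PowerSeries.subst_X hg, ← PowerSeries.coe_substAlgHom hg,
        map_one] at this
      rw [← PowerSeries.coe_substAlgHom hg]
      simpa using this
    · rw [← PowerSeries.coeff_zero_eq_constantCoeff_apply]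
      refine (Groth.L11.Newton.coeff_zero_subst (by simp) _).trans ?_
      simp [ha]
  · refine Groth.L11.Newton.ext_of_logDeriv ?_ (Groth.L11.Newton.derivative_exp_subst a) ?_
    · exact (Groth.L11.Newton.coeff_zero_subst (by simp [ha]) _).trans (by simp)
    · rw [mul_comm, hgeom, map_add, Derivation.map_one_eq_zero, zero_add, PowerSeries.derivative_X]

end Groth.Agent.S13075
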