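import Groth.Statements.S13077
import Groth.Agent.L03.LWU.Bridge.Estimate
import Groth.Agent.S13050
import Groth.Agent.S13063

set_option autoImplicit false
universe u
open CategoryTheory AlgebraicGeometry Limits
open Zeta

namespace Groth.Agent.S13077

/-- Let k = F_q, X ⊆ P^n_k an irreducible (reduced) closed subvariety of dimension r and degree d, and m
the number of irreducible components of X ×_k k̄ (k̄ an algebraic closure). There are constants c_X,
c'_X > 0 such that for every e ≥ 1: if m ∣ e then |#X(F_{q^e}) − m q^{er}| ≤ ((d − m)(d − 2m)/m)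
q^{e(r − 1/2)} + c_X q^{e(r − 1)}, and if m ∤ e then #X(F_{q^e}) ≤ c'_X q^{e(r − 1)}. The degree is
the intersection number (O(1)^r · O_X), written as the alternating-Euler-characteristic intersection
number of r copies of O(−1)|_X with O_X; #X(F_{q^e}) is the number of k-morphisms Spec k' → X for an
extension k'/k of degree e. -/
theorem result (k : Type u) [Field k] [Finite k] (n d r : ℕ)
    (X : Scheme.{u}) (ι : X ⟶ CohB1.ProjSpace n k) [IsClosedImmersion ι] [IsIntegral X]
    (hdim : topologicalKrullDim X = r)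
    (hdeg : letI : X.Over (Spec (CommRingCat.of k)) := ⟨ι ≫ CohB1.ProjSpace.toSpec n k⟩
      FGA.intNum k X r (fun _ : Fin r => (Scheme.Modules.pullback ι).obj (Twist.twistProjSpace n k (-1)))
        (Coh.structureModule X) = d)
    (m : ℕ) (hm : Nat.card (irreducibleComponents ↑(pullback (ι ≫ CohB1.ProjSpace.toSpec n k)
        (Spec.map (CommRingCat.ofHom (algebraMap k (AlgebraicClosure k)))))) = m) :
    ∃ c c' : ℝ, 0 < c ∧ 0 < c' ∧ ∀ (k' : Type u) [Field k'] [Algebra k k'] [Finite k'],
      (m ∣ Module.finrank k k' →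
        |(SgaExt.pointCount (ι ≫ CohB1.ProjSpace.toSpec n k) k' : ℝ) -
            m * (Nat.card k : ℝ) ^ (Module.finrank k k' * r)| ≤
          (((d : ℝ) - m) * ((d : ℝ) - 2 * m) / m) *
              (Nat.card k : ℝ) ^ ((Module.finrank k k' : ℝ) * ((r : ℝ) - 1 / 2)) +
            c * (Nat.card k : ℝ) ^ ((Module.finrank k k' : ℝ) * ((r : ℝ) - 1))) ∧
      (¬ m ∣ Module.finrank k k' →
        (SgaExt.pointCount (ι ≫ CohB1.ProjSpace.toSpec n k) k' : ℝ) ≤
          c' * (Nat.card k : ℝ) ^ ((Module.finrank k k' : ℝ) * ((r : ℝ) - 1))) := by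
  classical
  set f := ι ≫ CohB1.ProjSpace.toSpec n k with hf
  letI : X.Over (Spec (CommRingCat.of k)) := ⟨f⟩
  haveI : IsProper (CohB1.ProjSpace.toSpec n k) := Groth.L16.ProjSpace.isProper_toSpec n k
  obtain ⟨d', -, hd'eq, hhd⟩ := Groth.L03.LWU.Bridge.exists_deg ι rfl r hdim
  obtain rfl : d' = d := by exact_mod_cast hd'eq.symm.trans hdeg
  have hm' : Groth.L03.LWU.constDeg k (Groth.L03.LWU.Bridge.ConeField ι) = m :=
    (Groth.L03.LWU.Bridge.card_components_eq_constDeg ι hdim hhd).symm.trans hm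
  obtain ⟨A, hA, hsplit⟩ := Groth.L03.LWU.split_approx (Groth.L03.LWU.Bridge.isCone_coord ι hdim) hhd
  obtain ⟨α, α', -, hα', hcomp⟩ := Groth.Agent.S13063.result f r hdim
  refine ⟨6 * (d' : ℝ) ^ 2 + 2 * A + 2 * d' + 1, α', by positivity, hα', fun k' _ _ _ => ⟨fun hdvd => ?_, fun hndvd => ?_⟩⟩
  · have h' := Groth.L03.LWU.Bridge.estimate_of_cone ι hA hdim hhd le_rfl k' (hsplit k' (hm'.symm ▸ hdvd))
    rw [hm'] at h'
    exact h'
  · haveI : Module.Finite k k' := Module.Finite.of_finite
    rw [Groth.Agent.S13050.result f k']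
    refine (hcomp (Module.finrank k k') Module.finrank_pos).2 ?_
    refine finsum_mem_eq_zero_of_forall_eq_zero fun Z hZ => ?_
    exfalso
    obtain ⟨hZ1, -, hZ3⟩ := hZ
    rw [irreducibleComponents_eq_singleton, Set.mem_singleton_iff] at hZ1
    subst hZ1
    rw [Groth.L03.LWU.Bridge.card_irreducibleComponents_subtype_univ _ Set.preimage_univ, hm] at hZ3
    exact hndvd hZ3

end Groth.Agent.S13077
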