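import Groth.Statements.S13078
import Groth.Agent.L03.LWU.Bridge.Estimate
import Groth.Agent.L03.LWU.Bridge.Smooth

set_option autoImplicit false
universe u
open CategoryTheory AlgebraicGeometry Limits
open Zeta

namespace Groth.Agent.S13078

/-- For smooth X the constant c'_X may be taken to be 0 and c_X to depend only on n, d, r: given n, d, r
with d > 0 there is c > 0 such that for every finite field k = F_q, every smooth irreducible closed
subvariety X ⊆ P^n_k of dimension r and degree d with m geometric irreducible components, and every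
e ≥ 1, |#X(F_{q^e}) − m q^{er}| ≤ ((d − m)(d − 2m)/m) q^{e(r − 1/2)} + c q^{e(r − 1)} when m ∣ e,
and X(F_{q^e}) = ∅ when m ∤ e. The degree is the intersection number (O(1)^r · O_X), written as the
alternating-Euler-characteristic intersection number of r copies of O(−1)|_X with O_X, and
#X(F_{q^e}) is the number of k-morphisms Spec k' → X for an extension k'/k of degree e. -/
theorem result (n d r : ℕ) (hd : 0 < d) :
    ∃ c : ℝ, 0 < c ∧ ∀ (k : Type u) [Field k] [Finite k] (X : Scheme.{u})
      (ι : X ⟶ CohB1.ProjSpace n k) [IsClosedImmersion ι] [IsIntegral X]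
      [Smooth (ι ≫ CohB1.ProjSpace.toSpec n k)] (m : ℕ),
      topologicalKrullDim X = r →
      Nat.card (irreducibleComponents ↑(pullback (ι ≫ CohB1.ProjSpace.toSpec n k)
        (Spec.map (CommRingCat.ofHom (algebraMap k (AlgebraicClosure k)))))) = m →
      letI : X.Over (Spec (CommRingCat.of k)) := ⟨ι ≫ CohB1.ProjSpace.toSpec n k⟩
      FGA.intNum k X r (fun _ : Fin r => (Scheme.Modules.pullback ι).obj (Twist.twistProjSpace n k (-1)))
          (Coh.structureModule X) = d →
        ∀ (k' : Type u) [Field k'] [Algebra k k'] [Finite k'],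
          (m ∣ Module.finrank k k' →
            |(SgaExt.pointCount (ι ≫ CohB1.ProjSpace.toSpec n k) k' : ℝ) -
                m * (Nat.card k : ℝ) ^ (Module.finrank k k' * r)| ≤
              (((d : ℝ) - m) * ((d : ℝ) - 2 * m) / m) *
                  (Nat.card k : ℝ) ^ ((Module.finrank k k' : ℝ) * ((r : ℝ) - 1 / 2)) +
                c * (Nat.card k : ℝ) ^ ((Module.finrank k k' : ℝ) * ((r : ℝ) - 1))) ∧
          (¬ m ∣ Module.finrank k k' → SgaExt.pointCount (ι ≫ CohB1.ProjSpace.toSpec n k) k' = 0) := by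
  obtain ⟨A, hA, hsplit⟩ := Groth.L03.LWU.split_exact.{u} n r d
  refine ⟨6 * (d : ℝ) ^ 2 + 2 * A + 2 * d + 1, by positivity, fun k _ _ X ι _ _ _ m hdim hm hdeg k' _ _ _ => ?_⟩
  letI : X.Over (Spec (CommRingCat.of k)) := ⟨ι ≫ CohB1.ProjSpace.toSpec n k⟩
  obtain ⟨d', -, hd'eq, hhd⟩ := Groth.L03.LWU.Bridge.exists_deg ι rfl r hdim
  obtain rfl : d' = d := by exact_mod_cast hd'eq.symm.trans hdeg
  have hm' : Groth.L03.LWU.constDeg k (Groth.L03.LWU.Bridge.ConeField ι) = m :=
    (Groth.L03.LWU.Bridge.card_components_eq_constDeg ι hdim hhd).symm.trans hm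
  have h := hsplit (Groth.L03.LWU.Bridge.isCone_coord ι hdim) hhd le_rfl k' fun v hv hv0 =>
    Groth.L03.LWU.Bridge.localConst_of_smooth ι hdim v hv hv0
  refine ⟨fun hdvd => ?_, fun hndvd => ?_⟩
  · have h' := Groth.L03.LWU.Bridge.estimate_of_cone ι hA hdim hhd le_rfl k' (h.1 (hm'.symm ▸ hdvd))
    rw [hm'] at h'
    exact h'
  · have h1 := h.2 (hm'.symm ▸ hndvd)
    rw [← Groth.L03.LWU.Bridge.card_conePts_eq ι k'] at h1
    have hq := Finite.one_lt_card (α := k')
    exact (Nat.mul_eq_zero.1 (Nat.succ_injective h1)).resolve_right (by omega)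

end Groth.Agent.S13078
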