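import Groth.Statements.S5137
import Groth.Agent.L28.QuotBC.Alg
import Groth.Agent.L27.Quot.Local
import Mathlib.AlgebraicGeometry.Morphisms.Flat

set_option autoImplicit false
open CategoryTheory CategoryTheory.Limits AlgebraicGeometry
universe u
open SGA1

set_option backward.isDefEq.respectTransparency false
set_option linter.style.haveILetI false

namespace Groth.Agent.S5137

/-- Quotients by finite groups commute with flat base change. Let p : X ⟶ Y be a quotient of X by the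
finite group G acting through ρ, let q : Y ⟶ Z and let b : Z' ⟶ Z be flat; let Y' be the fibre
product of Y and Z' over Z and X' that of X and Y' over Y, and let G act on X' compatibly with the
projection to X and trivially over Y'. Then X' ⟶ Y' is a quotient of X' by G. -/
theorem result {X Y Z Z' X' Y' : Scheme.{u}} {G : Type u} [Group G] [Finite G]
    (ρ : G →* Aut X) (p : X ⟶ Y) (hp : SGA1.IsQuot ρ p) (q : Y ⟶ Z) (b : Z' ⟶ Z) [Flat b]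
    (qY : Y' ⟶ Y) (bY : Y' ⟶ Z') (hY : IsPullback qY bY q b)
    (pX : X' ⟶ X) (p' : X' ⟶ Y') (hX : IsPullback pX p' p qY)
    (ρ' : G →* Aut X') (hρ₁ : ∀ g : G, (ρ' g).hom ≫ pX = pX ≫ (ρ g).hom) (hρ₂ : ∀ g : G, (ρ' g).hom ≫ p' = p') :
    SGA1.IsQuot ρ' p' := by
  have hinv := hρ₂
  haveI := hp.affine
  haveI : Flat qY := MorphismProperty.of_isPullback hY.flip ‹Flat b›
  have haff : IsAffineHom p' := MorphismProperty.of_isPullback hX hp.affine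
  refine Groth.L27.Quot.isQuot_of_affine_cover haff hinv fun y => ?_
  obtain ⟨V, hV, hyV, -⟩ := exists_isAffineOpen_mem_and_subset (U := (⊤ : Y.Opens)) (x := qY y) trivial
  obtain ⟨W, hW, hyW, hWV⟩ := exists_isAffineOpen_mem_and_subset (U := qY ⁻¹ᵁ V) (x := y) hyV
  refine ⟨W, hW, hyW, ?_⟩
  have hUY : p' ⁻¹ᵁ W = pX ⁻¹ᵁ (p ⁻¹ᵁ V) ⊓ p' ⁻¹ᵁ W := by
    refine (inf_eq_right.2 ?_).symm
    rw [← Scheme.Hom.comp_preimage, hX.w, Scheme.Hom.comp_preimage]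
    exact p'.preimage_mono hWV
  have hpo := (isIso_pushoutSection_iff hX hWV (le_refl _) hUY).1
    (isIso_pushoutSection_of_isAffineOpen hX hWV (le_refl _) hUY hV hW (hV.preimage p))
  letI : Algebra Γ(Y, V) Γ(X, p ⁻¹ᵁ V) := (p.appLE V (p ⁻¹ᵁ V) (le_refl _)).hom.toAlgebra
  letI : Algebra Γ(Y, V) Γ(Y', W) := (qY.appLE V W hWV).hom.toAlgebra
  letI : Algebra Γ(X, p ⁻¹ᵁ V) Γ(X', p' ⁻¹ᵁ W) :=
    (pX.appLE (p ⁻¹ᵁ V) (p' ⁻¹ᵁ W) (hUY.le.trans inf_le_left)).hom.toAlgebra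
  letI : Algebra Γ(Y', W) Γ(X', p' ⁻¹ᵁ W) := (p'.appLE W (p' ⁻¹ᵁ W) (le_refl _)).hom.toAlgebra
  letI : Algebra Γ(Y, V) Γ(X', p' ⁻¹ᵁ W) :=
    ((algebraMap Γ(X, p ⁻¹ᵁ V) Γ(X', p' ⁻¹ᵁ W)).comp (algebraMap Γ(Y, V) Γ(X, p ⁻¹ᵁ V))).toAlgebra
  haveI : IsScalarTower Γ(Y, V) Γ(X, p ⁻¹ᵁ V) Γ(X', p' ⁻¹ᵁ W) := .of_algebraMap_eq' rfl
  haveI : IsScalarTower Γ(Y, V) Γ(Y', W) Γ(X', p' ⁻¹ᵁ W) :=
    .of_algebraMap_eq' (congrArg CommRingCat.Hom.hom hpo.w)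
  haveI : Algebra.IsPushout Γ(Y, V) Γ(Y', W) Γ(X, p ⁻¹ᵁ V) Γ(X', p' ⁻¹ᵁ W) :=
    (CommRingCat.isPushout_iff_isPushout.1 hpo).symm
  haveI : Module.Flat Γ(Y, V) Γ(Y', W) := qY.flat_appLE hV hW hWV
  have e1 : p.appLE V (p ⁻¹ᵁ V) (le_refl _) = p.app V := Scheme.Hom.appLE_eq_app p
  have e2 : p'.appLE W (p' ⁻¹ᵁ W) (le_refl _) = p'.app W := Scheme.Hom.appLE_eq_app p'
  have key := Groth.L28.QuotBC.fixed_baseChange (R := Γ(Y, V)) (S := Γ(Y', W)) (A := Γ(X, p ⁻¹ᵁ V))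
    (B := Γ(X', p' ⁻¹ᵁ W)) (fun g : G => (Groth.L27.Quot.act hp.inv g V).hom)
    (fun g : G => (Groth.L27.Quot.act hinv g W).hom)
    (fun g r => ?_) (fun g s => ?_) (fun g a => ?_) ?_ ?_
  · refine ⟨?_, fun s hs => ?_⟩
    · rw [← e2]; exact key.1
    · rw [← e2]; exact key.2 s hs
  · change (Groth.L27.Quot.act hp.inv g V).hom ((p.appLE V _ _).hom r) = (p.appLE V _ _).hom r
    rw [e1]; exact ConcreteCategory.congr_hom (Groth.L27.Quot.act_app hp.inv g V) r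
  · change (Groth.L27.Quot.act hinv g W).hom ((p'.appLE W _ _).hom s) = (p'.appLE W _ _).hom s
    rw [e2]; exact ConcreteCategory.congr_hom (Groth.L27.Quot.act_app hinv g W) s
  · refine ConcreteCategory.congr_hom (?_ : pX.appLE (p ⁻¹ᵁ V) (p' ⁻¹ᵁ W) (hUY.le.trans inf_le_left) ≫
      Groth.L27.Quot.act hinv g W = Groth.L27.Quot.act hp.inv g V ≫
        pX.appLE (p ⁻¹ᵁ V) (p' ⁻¹ᵁ W) (hUY.le.trans inf_le_left)) a
    rw [Groth.L27.Quot.act, Groth.L27.Quot.act, Scheme.Hom.appLE_comp_appLE, Scheme.Hom.appLE_comp_appLE,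
      Groth.L27.Quot.appLE_eq_of_eq (hρ₁ g)]
  · change Function.Injective (p.appLE V _ _).hom
    rw [e1]; exact hp.injective V
  · intro a ha
    change a ∈ Set.range (p.appLE V _ _).hom
    rw [e1]; exact (hp.range_iff V a).2 ha

end Groth.Agent.S5137
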