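import Groth.Statements.S13079
import Groth.Agent.L22.SymQuot.Quot
import Groth.Agent.L22.SymQuot.Prod
import Groth.Agent.S5137

set_option autoImplicit false
universe u
open CategoryTheory AlgebraicGeometry Limits
open Zeta
open Groth.L22.SymQuot

set_option backward.isDefEq.respectTransparency false
set_option linter.style.haveILetI false

namespace Groth.Agent.S13079

/-- Suppose the finite groups G and H act by algebraic k-automorphisms on schemes X and Y of finite type
over k, both admitting quotients X → X/G and Y → Y/H (equivalently, covered by invariant affine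
opens). Then X × Y has the same property for the product action of G × H and (X × Y)/(G × H) ≅ X/G ×
Y/H: the morphism X ×_k Y → X/G ×_k Y/H with components the two quotient maps is a quotient for the
product action. The product action θ and that morphism π are pinned by their composites with the
projections. -/
theorem result {k : Type u} [Field k] {G H : Type u} [Group G] [Finite G] [Group H]
    [Finite H] {X Y XG YH : Scheme.{u}} (fX : X ⟶ Spec (CommRingCat.of k))
    (fY : Y ⟶ Spec (CommRingCat.of k)) [LocallyOfFiniteType fX] [QuasiCompact fX]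
    [LocallyOfFiniteType fY] [QuasiCompact fY] (gX : XG ⟶ Spec (CommRingCat.of k))
    (gY : YH ⟶ Spec (CommRingCat.of k)) (ρ : G →* Aut X) (σ : H →* Aut Y)
    (hρ : ∀ g, (ρ g).hom ≫ fX = fX) (hσ : ∀ h, (σ h).hom ≫ fY = fY)
    (p : X ⟶ XG) (hp : p ≫ gX = fX) (q : Y ⟶ YH) (hq : q ≫ gY = fY)
    (hP : SGA1.IsQuot ρ p) (hQ : SGA1.IsQuot σ q)
    (θ : G × H →* Aut (pullback fX fY))
    (hθ1 : ∀ gh : G × H, (θ gh).hom ≫ pullback.fst fX fY = pullback.fst fX fY ≫ (ρ gh.1).hom)
    (hθ2 : ∀ gh : G × H, (θ gh).hom ≫ pullback.snd fX fY = pullback.snd fX fY ≫ (σ gh.2).hom)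
    (π : pullback fX fY ⟶ pullback gX gY) (hπ1 : π ≫ pullback.fst gX gY = pullback.fst fX fY ≫ p)
    (hπ2 : π ≫ pullback.snd gX gY = pullback.snd fX fY ≫ q) :
    SGA1.IsQuot θ π := by
  let q₁ : pullback fX fY ⟶ pullback gX fY :=
    pullback.map fX fY gX fY p (𝟙 _) (𝟙 _) ((Category.comp_id _).trans hp.symm) (by simp)
  let q₂ : pullback gX fY ⟶ pullback gX gY :=
    pullback.map gX fY gX gY (𝟙 _) q (𝟙 _) (by simp) ((Category.comp_id _).trans hq.symm)
  let hh : ∀ h : H, pullback gX fY ⟶ pullback gX fY := fun h =>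
    pullback.map gX fY gX fY (𝟙 _) (σ h).hom (𝟙 _) (by simp) (by rw [Category.comp_id, hσ])
  have hh_mul : ∀ a b, hh a ≫ hh b = hh (b * a) := fun a b => by
    apply pullback.hom_ext <;> simp [hh, Aut.Aut_mul_def]
  have hh_one : hh 1 = 𝟙 _ := by
    apply pullback.hom_ext <;> simp [hh]
    all_goals (rw [show (1 : Aut Y).hom = 𝟙 Y from rfl, Category.comp_id])
  let ρ₂ : H →* Aut (pullback gX fY) :=
    { toFun := fun h => ⟨hh h, hh h⁻¹, by rw [hh_mul, inv_mul_cancel, hh_one],
        by rw [hh_mul, mul_inv_cancel, hh_one]⟩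
      map_one' := Iso.ext hh_one
      map_mul' := fun a b => Iso.ext (hh_mul b a).symm }
  have hX : IsPullback (pullback.fst fX fY) q₁ p (pullback.fst gX fY) := by
    refine IsPullback.of_bot ?_ (pullback.lift_fst _ _ _).symm (IsPullback.of_hasPullback gX fY)
    rw [hp, show q₁ ≫ pullback.snd gX fY = pullback.snd fX fY by simp [q₁]]
    exact IsPullback.of_hasPullback fX fY
  have hY : IsPullback (pullback.snd gX fY) q₂ q (pullback.snd gX gY) := by
    refine IsPullback.of_bot ?_ (pullback.lift_snd _ _ _).symm (IsPullback.of_hasPullback gX gY).flip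
    rw [hq, show q₂ ≫ pullback.fst gX gY = pullback.fst gX fY by simp [q₂]]
    exact (IsPullback.of_hasPullback gX fY).flip
  have hρ₁₁ : ∀ g : G, ((θ.comp (MonoidHom.inl G H)) g).hom ≫ pullback.fst fX fY =
      pullback.fst fX fY ≫ (ρ g).hom := fun g => hθ1 (g, 1)
  have hρ₁₂ : ∀ g : G, ((θ.comp (MonoidHom.inl G H)) g).hom ≫ q₁ = q₁ := fun g => by
    apply pullback.hom_ext
    · rw [Category.assoc, pullback.lift_fst, reassoc_of% (hρ₁₁ g), hP.inv g]
    · rw [Category.assoc, pullback.lift_snd, Category.comp_id]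
      show (θ (g, 1)).hom ≫ pullback.snd fX fY = _
      rw [hθ2, Groth.L27.Quot.hom_one, Category.comp_id]
  have hρ₂₁ : ∀ h : H, (ρ₂ h).hom ≫ pullback.snd gX fY = pullback.snd gX fY ≫ (σ h).hom :=
    fun h => pullback.lift_snd _ _ _
  have hρ₂₂ : ∀ h : H, (ρ₂ h).hom ≫ q₂ = q₂ := fun h => by
    apply pullback.hom_ext
    · show (hh h ≫ q₂) ≫ _ = _
      simp [hh, q₂]
    · rw [Category.assoc, pullback.lift_snd, reassoc_of% (hρ₂₁ h), hQ.inv h]
  haveI : Flat fY := flat_of_field (Field.toIsField k) fY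
  haveI : Flat gX := flat_of_field (Field.toIsField k) gX
  have H₁ : SGA1.IsQuot (θ.comp (MonoidHom.inl G H)) q₁ :=
    Groth.Agent.S5137.result ρ p hP gX fY _ _ (IsPullback.of_hasPullback gX fY) _ q₁ hX _ hρ₁₁ hρ₁₂
  have H₂ : SGA1.IsQuot ρ₂ q₂ :=
    Groth.Agent.S5137.result σ q hQ gY gX _ _ (IsPullback.of_hasPullback gX gY).flip _ q₂ hY _ hρ₂₁ hρ₂₂
  have key := isQuot_comp (MonoidHom.inl G H) (MonoidHom.inr G H)
    (fun k => ⟨k.1, k.2, Prod.ext (mul_one _).symm (one_mul _).symm⟩) H₁ H₂ (fun h => by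
      apply pullback.hom_ext
      · show ((θ (1, h)).hom ≫ q₁) ≫ _ = (q₁ ≫ hh h) ≫ _
        rw [Category.assoc, pullback.lift_fst, reassoc_of% (hθ1 (1, h)), Groth.L27.Quot.hom_one,
          Category.id_comp]
        simp [hh, q₁]
      · show ((θ (1, h)).hom ≫ q₁) ≫ _ = (q₁ ≫ hh h) ≫ _
        rw [Category.assoc, pullback.lift_snd, Category.comp_id, hθ2]
        simp [hh, q₁])
  have e : π = q₁ ≫ q₂ := by
    apply pullback.hom_ext
    · simp [hπ1, q₁, q₂]
    · simp [hπ2, q₁, q₂]
  rw [e]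
  exact key

end Groth.Agent.S13079
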