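import Groth.Statements.S13080
import Mathlib.AlgebraicGeometry.Morphisms.ClosedImmersion
import Mathlib.AlgebraicGeometry.Morphisms.Affine
import Mathlib.Topology.Sheaves.SheafCondition.UniqueGluing

set_option linter.style.haveILetI false
set_option backward.isDefEq.respectTransparency.types false

set_option autoImplicit false
universe u
open CategoryTheory AlgebraicGeometry Limits
open Zeta

namespace Groth.Agent.S13080

open CategoryTheory AlgebraicGeometry TopologicalSpace Opposite in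
theorem appLE_appLE_congr {A B B' C : Scheme.{u}} {f : A ⟶ B} {g : B ⟶ C} {f' : A ⟶ B'} {g' : B' ⟶ C}
    (h : f ≫ g = f' ≫ g') (U : C.Opens) (W : B.Opens) (W' : B'.Opens) (V : A.Opens)
    (a1 : W ≤ g ⁻¹ᵁ U) (a2 : V ≤ f ⁻¹ᵁ W) (b1 : W' ≤ g' ⁻¹ᵁ U) (b2 : V ≤ f' ⁻¹ᵁ W') (s : Γ(C, U)) :
    (f.appLE W V a2).hom ((g.appLE U W a1).hom s) = (f'.appLE W' V b2).hom ((g'.appLE U W' b1).hom s) := by
  rw [← ConcreteCategory.comp_apply, ← ConcreteCategory.comp_apply, Scheme.Hom.appLE_comp_appLE,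
    Scheme.Hom.appLE_comp_appLE]
  simp only [h]

open CategoryTheory AlgebraicGeometry TopologicalSpace Opposite in
theorem appLE_id' {A : Scheme.{u}} (U V : A.Opens) (e : V ≤ (𝟙 A : A ⟶ A) ⁻¹ᵁ U) (e' : V ≤ U) (s : Γ(A, U)) :
    ((𝟙 A : A ⟶ A).appLE U V e).hom s = (A.presheaf.map (homOfLE e').op).hom s := by
  simp [Scheme.Hom.appLE]
  rfl


/-- Let G be a finite group acting by algebraic automorphisms over k on a scheme X of finite type over k
admitting a quotient p : X → X/G, H ⊆ G a subgroup and Y ⊆ X an open subset preserved by H such that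
X is the disjoint union of the translates Y g over the cosets of G mod H. Then the natural morphism
Y/H → X/G is an isomorphism: Y → X/G is a quotient of Y by H. The action of H on Y is pinned by
compatibility with the inclusion Y → X; the coset condition is stated as: the translates of Y cover
X, and g(Y) is disjoint from Y for g ∉ H. -/
theorem result {k : Type u} [Field k] {G : Type u} [Group G]
    [Finite G] {X XG : Scheme.{u}} (fX : X ⟶ Spec (CommRingCat.of k)) [LocallyOfFiniteType fX]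
    [QuasiCompact fX] (ρ : G →* Aut X) (hρ : ∀ g, (ρ g).hom ≫ fX = fX) (p : X ⟶ XG)
    (hP : SGA1.IsQuot ρ p) (H : Subgroup G) (Y : X.Opens)
    (hcov : ∀ x : X, ∃ g : G, x ∈ (ρ g).hom.base '' (Y : Set X))
    (hdisj : ∀ g : G, g ∉ H → Disjoint ((ρ g).hom.base '' (Y : Set X)) (Y : Set X))
    (ρY : H →* Aut (Y : Scheme.{u})) (hρY : ∀ h : H, (ρY h).hom ≫ Y.ι = Y.ι ≫ (ρ (h : G)).hom) :
    SGA1.IsQuot ρY (Y.ι ≫ p) := by
  haveI : IsAffineHom p := hP.affine
  have hmul : ∀ a b : G, (ρ (a * b)).hom = (ρ b).hom ≫ (ρ a).hom := fun a b => by rw [map_mul]; rfl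
  have hone : (ρ 1).hom = 𝟙 X := by rw [map_one]; rfl
  have happ : ∀ (a b : G) (x : X), (ρ a).hom ((ρ b).hom x) = (ρ (a * b)).hom x := fun a b x => by
    rw [hmul, Scheme.Hom.comp_apply]
  have hH : ∀ (h : H) (x : X), x ∈ Y → (ρ (h : G)).hom x ∈ Y := fun h x hx => by
    have e := congrArg (fun m : (Y : Scheme.{u}) ⟶ X => m ⟨x, hx⟩) (hρY h)
    exact e ▸ ((ρY h).hom ⟨x, hx⟩).2
  have hnot : ∀ (g : G) (x : X), x ∈ Y → (ρ g).hom x ∈ Y → g ∈ H := fun g x hx hgx => by
    by_contra hg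
    exact Set.disjoint_left.1 (hdisj g hg) ⟨x, hx, rfl⟩ hgx
  have hYc : IsClosed (Y : Set X) := by
    rw [← isOpen_compl_iff]
    have : (Y : Set X)ᶜ = ⋃ g ∈ {g : G | g ∉ H}, ((ρ g⁻¹).hom ⁻¹ᵁ Y : Set X) := by
      ext x
      simp only [Set.mem_compl_iff, Set.mem_iUnion, Set.mem_ofPred_eq]
      constructor
      · intro hx
        obtain ⟨g, y, hy, rfl⟩ := hcov x
        refine ⟨g, fun hg => hx (hH ⟨g, hg⟩ y hy), ?_⟩
        show (ρ g⁻¹).hom ((ρ g).hom y) ∈ Y
        rw [happ, inv_mul_cancel, hone]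
        exact hy
      · rintro ⟨g, hg, hgx⟩ hx
        exact hg (inv_mem_iff.1 (hnot g⁻¹ x hx hgx))
    rw [this]
    exact isOpen_biUnion fun g _ => ((ρ g⁻¹).hom ⁻¹ᵁ Y).2
  haveI : IsClosedImmersion Y.ι := IsClosedImmersion.of_isPreimmersion _ (by
    rw [Scheme.Opens.range_ι]; exact hYc)
  have hinv : ∀ h : H, (ρY h).hom ≫ Y.ι ≫ p = Y.ι ≫ p := fun h => by
    rw [reassoc_of% (hρY h), hP.inv]
  refine ⟨inferInstance, hinv, fun U a b hab => ?_, fun U s => ⟨?_, fun hs => ?_⟩⟩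
  · refine hP.injective U ?_
    let W : (Y : Scheme.{u}).Opens := Y.ι ⁻¹ᵁ (p ⁻¹ᵁ U)
    let W' : X.Opens := Y.ι ''ᵁ W
    have hbij : Function.Bijective (Y.ι.appLE W' W (Y.ι.preimage_image_eq W).ge).hom := by
      rw [← Scheme.Hom.appIso_hom']
      exact ConcreteCategory.bijective_of_isIso (Y.ι.appIso W).hom
    have hW'P : W' ≤ p ⁻¹ᵁ U := by rintro _ ⟨y, hy, rfl⟩; exact hy
    have hres : (X.presheaf.map (homOfLE hW'P).op).hom ((p.app U).hom a) =
        (X.presheaf.map (homOfLE hW'P).op).hom ((p.app U).hom b) := by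
      have key0 : ∀ c, (Y.ι.appLE W' W (Y.ι.preimage_image_eq W).ge).hom
          ((X.presheaf.map (homOfLE hW'P).op).hom ((p.app U).hom c)) = ((Y.ι ≫ p).app U).hom c := fun c => by
        simp only [← ConcreteCategory.comp_apply, Scheme.Hom.app_eq_appLE, Scheme.Hom.map_appLE,
          Scheme.Hom.appLE_comp_appLE, Category.assoc]
        rfl
      exact hbij.1 ((key0 a).trans (hab.trans (key0 b).symm))
    refine X.sheaf.eq_of_locally_eq' (fun g : G => (ρ g⁻¹).hom ⁻¹ᵁ W') (p ⁻¹ᵁ U)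
      (fun g => homOfLE ?_) ?_ _ _ fun g => ?_
    · intro x hx
      have h1 : p ((ρ g⁻¹).hom x) ∈ U := hW'P hx
      rwa [← Scheme.Hom.comp_apply, hP.inv] at h1
    · intro x hx
      obtain ⟨g, y, hy, rfl⟩ := hcov x
      refine TopologicalSpace.Opens.mem_iSup.2 ⟨g, ⟨y, hy⟩, ?_, ?_⟩
      · show p y ∈ U
        have h1 : p ((ρ g).hom y) ∈ U := hx
        rwa [← Scheme.Hom.comp_apply, hP.inv] at h1
      · show y = (ρ g⁻¹).hom ((ρ g).hom y)
        rw [happ, inv_mul_cancel, hone]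
        rfl
    · have key : ∀ c : Γ(XG, U), (X.presheaf.map (homOfLE (show (ρ g⁻¹).hom ⁻¹ᵁ W' ≤ p ⁻¹ᵁ U from fun x hx => by
          have h1 : p ((ρ g⁻¹).hom x) ∈ U := hW'P hx
          rwa [← Scheme.Hom.comp_apply, hP.inv] at h1)).op).hom ((p.app U).hom c) =
        ((ρ g⁻¹).hom.appLE W' ((ρ g⁻¹).hom ⁻¹ᵁ W') le_rfl).hom
          ((X.presheaf.map (homOfLE hW'P).op).hom ((p.app U).hom c)) := fun c => by
        simp only [← ConcreteCategory.comp_apply]
        simp only [Scheme.Hom.app_eq_appLE, Category.assoc, Scheme.Hom.appLE_map_assoc, Scheme.Hom.appLE_map,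
          Scheme.Hom.appLE_comp_appLE, hP.inv]
      exact (key a).trans ((congrArg _ hres).trans (key b).symm)
  · rintro ⟨a, rfl⟩ h
    rw [← ConcreteCategory.comp_apply, Scheme.Hom.app_eq_appLE, Scheme.Hom.appLE_comp_appLE]
    simp only [hinv]
  · let W : (Y : Scheme.{u}).Opens := Y.ι ⁻¹ᵁ (p ⁻¹ᵁ U)
    let W' : X.Opens := Y.ι ''ᵁ W
    let j := Y.ι.appLE W' W (Y.ι.preimage_image_eq W).ge
    have hbij : Function.Bijective j.hom := by
      show Function.Bijective (Y.ι.appLE W' W (Y.ι.preimage_image_eq W).ge).hom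
      rw [← Scheme.Hom.appIso_hom']
      exact ConcreteCategory.bijective_of_isIso (Y.ι.appIso W).hom
    obtain ⟨t, ht⟩ := hbij.2 s
    have hW'P : W' ≤ p ⁻¹ᵁ U := by rintro _ ⟨y, hy, rfl⟩; exact hy
    have hW'Y : ∀ x ∈ W', x ∈ Y := by rintro _ ⟨y, _, rfl⟩; exact y.2
    have hW'H : ∀ h : H, W' ≤ (ρ (h : G)).hom ⁻¹ᵁ W' := by
      rintro h _ ⟨y, hy, rfl⟩
      refine ⟨(ρY h).hom y, ?_, congrArg (fun m : (Y : Scheme.{u}) ⟶ X => m y) (hρY h)⟩
      show (Y.ι ≫ p) ((ρY h).hom y) ∈ U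
      rw [← Scheme.Hom.comp_apply, hinv]
      exact hy
    have htinv : ∀ h : H, ((ρ (h : G)).hom.appLE W' W' (hW'H h)).hom t = t := fun h => by
      refine hbij.1 ?_
      refine (appLE_appLE_congr (hρY h).symm W' W' W W (hW'H h) (Y.ι.preimage_image_eq W).ge
        (Y.ι.preimage_image_eq W).ge (SGA1.preimage_le_of_inv ρY (Y.ι ≫ p) hinv h U) t).trans ?_
      show ((ρY h).hom.appLE W W _).hom (j.hom t) = j.hom t
      rw [ht]
      exact hs h
    let V : G → X.Opens := fun g => (ρ g⁻¹).hom ⁻¹ᵁ W'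
    let sf : ∀ g, Γ(X, V g) := fun g => ((ρ g⁻¹).hom.appLE W' (V g) le_rfl).hom t
    have hVP : ∀ g, V g ≤ p ⁻¹ᵁ U := fun g x hx => by
      have h1 : p ((ρ g⁻¹).hom x) ∈ U := hW'P hx
      rwa [← Scheme.Hom.comp_apply, hP.inv] at h1
    have hVcov : p ⁻¹ᵁ U ≤ iSup V := fun x hx => by
      obtain ⟨g, y, hy, rfl⟩ := hcov x
      refine TopologicalSpace.Opens.mem_iSup.2 ⟨g, ⟨y, hy⟩, ?_, ?_⟩
      · show p y ∈ U
        have h1 : p ((ρ g).hom y) ∈ U := hx
        rwa [← Scheme.Hom.comp_apply, hP.inv] at h1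
      · show y = (ρ g⁻¹).hom ((ρ g).hom y)
        rw [happ, inv_mul_cancel, hone]
        rfl
    have hcompat : TopCat.Presheaf.IsCompatible X.sheaf.obj V sf := fun g g' => by
      by_cases hgg : g'⁻¹ * g ∈ H
      · have e : (ρ g'⁻¹).hom = (ρ g⁻¹).hom ≫ (ρ (g'⁻¹ * g)).hom := by rw [← hmul, mul_assoc, mul_inv_cancel, mul_one]
        have h1 := htinv ⟨_, hgg⟩
        show (X.presheaf.map _).hom (sf g) = (X.presheaf.map _).hom (sf g')
        conv_lhs => rw [show sf g = ((ρ g⁻¹).hom.appLE W' (V g) le_rfl).hom t from rfl, ← h1]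
        simp only [sf, ← ConcreteCategory.comp_apply, Scheme.Hom.appLE_map, Scheme.Hom.appLE_map_assoc,
          Scheme.Hom.appLE_comp_appLE, Category.assoc, ← e]
      · have hb : V g ⊓ V g' = ⊥ := TopologicalSpace.Opens.ext (Set.eq_empty_of_forall_notMem
          fun x ⟨hx, hx'⟩ => hgg (hnot _ ((ρ g⁻¹).hom x) (hW'Y _ hx) (by
            rw [happ, mul_assoc, mul_inv_cancel, mul_one]; exact hW'Y _ hx')))
        haveI : Subsingleton Γ(X, V g ⊓ V g') := by rw [hb]; infer_instance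
        exact @Subsingleton.elim Γ(X, V g ⊓ V g') _ _ _
    obtain ⟨T, hT, hTu⟩ : ∃! T : Γ(X, p ⁻¹ᵁ U), ∀ g, (X.presheaf.map (homOfLE (hVP g)).op).hom T = sf g :=
      X.sheaf.existsUnique_gluing' V (p ⁻¹ᵁ U) (fun g => homOfLE (hVP g)) hVcov sf hcompat
    obtain ⟨a, ha⟩ : T ∈ Set.range (p.app U).hom := by
      rw [hP.range_iff]
      intro c
      refine hTu _ fun g => ?_
      have hV : V g ≤ (ρ c).hom ⁻¹ᵁ V (c * g) := fun x hx => by
        show (ρ (c * g)⁻¹).hom ((ρ c).hom x) ∈ W'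
        rw [happ, mul_inv_rev, mul_assoc, inv_mul_cancel, mul_one]
        exact hx
      have e : (ρ c).hom ≫ (ρ (c * g)⁻¹).hom = (ρ g⁻¹).hom := by
        rw [← hmul, mul_inv_rev, mul_assoc, inv_mul_cancel, mul_one]
      show (X.presheaf.map _).hom (((ρ c).hom.appLE (p ⁻¹ᵁ U) (p ⁻¹ᵁ U) _).hom T) = sf g
      have h1 : ((ρ c).hom.appLE (V (c * g)) (V g) hV).hom
          ((X.presheaf.map (homOfLE (hVP (c * g))).op).hom T) = sf g := by
        rw [show (X.presheaf.map (homOfLE (hVP (c * g))).op).hom T = sf (c * g) from hT (c * g)]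
        simp only [sf, ← ConcreteCategory.comp_apply, Scheme.Hom.appLE_comp_appLE, e]
      rw [← h1]
      simp only [← ConcreteCategory.comp_apply, Scheme.Hom.appLE_map, Scheme.Hom.map_appLE]
    refine ⟨a, ?_⟩
    have hV1 : W' ≤ V 1 := fun x hx => by
      show (ρ 1⁻¹).hom x ∈ W'
      rw [inv_one, hone]; exact hx
    have h2 : (X.presheaf.map (homOfLE hW'P).op).hom T = t := by
      have h1 : (X.presheaf.map (homOfLE (hVP 1)).op).hom T = sf 1 := hT 1
      have h3 := congrArg (X.presheaf.map (homOfLE hV1).op).hom h1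
      rw [← ConcreteCategory.comp_apply, ← Functor.map_comp] at h3
      refine Eq.trans h3 ?_
      simp only [sf, ← ConcreteCategory.comp_apply, Scheme.Hom.appLE_map, inv_one, hone]
      exact (appLE_id' W' W' _ le_rfl t).trans (by simp)
    rw [← ht, ← h2, ← ha]
    simp only [j, ← ConcreteCategory.comp_apply]
    simp only [Scheme.Hom.map_appLE, Scheme.Hom.app_eq_appLE, Scheme.Hom.appLE_comp_appLE, Category.assoc]
    rfl

end Groth.Agent.S13080
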