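import Groth.Statements.S13081
import Groth.Agent.S2909
import Groth.Agent.S2925

set_option linter.style.haveILetI false

set_option autoImplicit false
universe u
open CategoryTheory AlgebraicGeometry Limits
open Zeta

namespace Groth.Agent.S13081

open CategoryTheory AlgebraicGeometry in
theorem app_comp_appLE {A B C : Scheme.{u}} {f : A ⟶ B} {g : B ⟶ C} {h : A ⟶ C} (hfg : f ≫ g = h) (U : C.Opens)
    (V : A.Opens) (e1 : V ≤ f ⁻¹ᵁ (g ⁻¹ᵁ U)) (e2 : V ≤ h ⁻¹ᵁ U) (s : Γ(C, U)) :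
    (f.appLE (g ⁻¹ᵁ U) V e1).hom ((g.app U).hom s) = (h.appLE U V e2).hom s := by
  subst hfg
  rw [← ConcreteCategory.comp_apply, Scheme.Hom.app_eq_appLE, Scheme.Hom.appLE_comp_appLE]

open CategoryTheory AlgebraicGeometry in
theorem appLE_appLE_congr {A B B' C : Scheme.{u}} {f : A ⟶ B} {g : B ⟶ C} {f' : A ⟶ B'} {g' : B' ⟶ C}
    (h : f ≫ g = f' ≫ g') (U : C.Opens) (W : B.Opens) (W' : B'.Opens) (V : A.Opens)
    (a1 : W ≤ g ⁻¹ᵁ U) (a2 : V ≤ f ⁻¹ᵁ W) (b1 : W' ≤ g' ⁻¹ᵁ U) (b2 : V ≤ f' ⁻¹ᵁ W') (s : Γ(C, U)) :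
    (f.appLE W V a2).hom ((g.appLE U W a1).hom s) = (f'.appLE W' V b2).hom ((g'.appLE U W' b1).hom s) := by
  rw [← ConcreteCategory.comp_apply, ← ConcreteCategory.comp_apply, Scheme.Hom.appLE_comp_appLE,
    Scheme.Hom.appLE_comp_appLE]
  simp only [h]


/-- Let G be a finite group acting by algebraic automorphisms over k on a scheme X of finite type over k
admitting a quotient X → X/G, and H a normal subgroup of G. Then X/H carries an induced action of
G/H and its quotient by this action is X/G: the induced morphism r : X/H → X/G is a quotient of X/H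
by G/H. The induced action ρ̄ is pinned by p_H ≫ ρ̄(ḡ) = ρ(g) ≫ p_H and r by p_H ≫ r = p. -/
theorem result {k : Type u} [Field k] {G : Type u} [Group G]
    [Finite G] {X XG XH : Scheme.{u}} (fX : X ⟶ Spec (CommRingCat.of k)) [LocallyOfFiniteType fX]
    [QuasiCompact fX] (ρ : G →* Aut X) (hρ : ∀ g, (ρ g).hom ≫ fX = fX) (p : X ⟶ XG)
    (hP : SGA1.IsQuot ρ p) (H : Subgroup G) [H.Normal] (pH : X ⟶ XH)
    (hPH : SGA1.IsQuot (ρ.comp H.subtype) pH) (ρbar : G ⧸ H →* Aut XH)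
    (hρbar : ∀ g : G, pH ≫ (ρbar (QuotientGroup.mk g)).hom = (ρ g).hom ≫ pH)
    (r : XH ⟶ XG) (hr : pH ≫ r = p) :
    SGA1.IsQuot ρbar r := by
  haveI : IsAffineHom p := hP.affine
  haveI : IsAffineHom r := (Groth.Agent.S2909.result _ pH hPH p r hr fun h => hP.inv h.1).1.1 inferInstance
  have hinv : ∀ gb : G ⧸ H, (ρbar gb).hom ≫ r = r := fun gb => by
    induction gb using QuotientGroup.induction_on with
    | H g =>
      refine (Groth.Agent.S2925.result _ pH hPH XG p fun h => hP.inv h.1).unique ?_ hr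
      rw [← Category.assoc, hρbar, Category.assoc, hr, hP.inv]
  refine ⟨inferInstance, hinv, fun U a b h => ?_, fun U s => ⟨?_, fun hs => ?_⟩⟩
  · subst hr
    refine hP.injective U ?_
    rw [Scheme.Hom.comp_app]
    exact congrArg (pH.app (r ⁻¹ᵁ U)).hom h
  · rintro ⟨a, rfl⟩ gb
    refine (app_comp_appLE (hinv gb) U _ _ le_rfl a).trans ?_
    simp [Scheme.Hom.appLE]
  · have e : pH ⁻¹ᵁ (r ⁻¹ᵁ U) = p ⁻¹ᵁ U := by rw [← Scheme.Hom.comp_preimage, hr]
    obtain ⟨a, ha⟩ : (pH.appLE (r ⁻¹ᵁ U) (p ⁻¹ᵁ U) e.ge).hom s ∈ Set.range (p.app U).hom := by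
      rw [hP.range_iff]
      intro g
      refine (appLE_appLE_congr (hρbar g).symm (r ⁻¹ᵁ U) (p ⁻¹ᵁ U) (r ⁻¹ᵁ U) (p ⁻¹ᵁ U) e.ge
        (SGA1.preimage_le_of_inv ρ p hP.inv g U)
        (SGA1.preimage_le_of_inv ρbar r hinv (QuotientGroup.mk g) U) e.ge s).trans ?_
      rw [hs]
    refine ⟨a, hPH.injective _ ?_⟩
    subst hr
    rw [Scheme.Hom.comp_app] at ha
    exact ha.trans (congrArg (fun m => m.hom s) (Scheme.Hom.app_eq_appLE pH).symm)

end Groth.Agent.S13081
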