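import Groth.Statements.S13083
import Groth.Agent.L11.Zeta.FrobFibre
import Groth.Agent.L22.Cyc.FiniteDeg
import Mathlib.FieldTheory.Perfect

set_option autoImplicit false
universe u
open CategoryTheory AlgebraicGeometry Limits
open Zeta

namespace Groth.Agent.S13083

/-- Let X be a variety over a perfect field k, k̄ an algebraic closure and π : X_{k̄} → X the
projection. Sending a closed point x to the sum of the points of π⁻¹(x) induces a bijection between
effective 0-cycles of degree n on X and effective 0-cycles of degree n on X_{k̄} fixed by G(k̄/k).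
Stated for schemes of finite type over k, with 0-cycles as finitely supported ℕ-valued functions on
closed points, the degree on X weighted by the residue degrees [κ(x) : k], the map being c ↦ c ∘ π,
and the Galois automorphisms τ_σ = id × Spec σ pinned by their projections. -/
theorem result {k : Type u} [Field k]
    [PerfectField k] {X : Scheme.{u}} (f : X ⟶ Spec (CommRingCat.of k)) [LocallyOfFiniteType f]
    [QuasiCompact f]
    (τ : (AlgebraicClosure k ≃ₐ[k] AlgebraicClosure k) →
      (pullback f (Spec.map (CommRingCat.ofHom (algebraMap k (AlgebraicClosure k)))) ⟶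
        pullback f (Spec.map (CommRingCat.ofHom (algebraMap k (AlgebraicClosure k))))))
    (hτ1 : ∀ σ, τ σ ≫ pullback.fst f _ = pullback.fst f _)
    (hτ2 : ∀ σ, τ σ ≫ pullback.snd f (Spec.map (CommRingCat.ofHom (algebraMap k (AlgebraicClosure k)))) =
        pullback.snd f _ ≫ Spec.map (CommRingCat.ofHom (σ : AlgebraicClosure k →+* AlgebraicClosure k)))
    (n : ℕ) :
    Set.BijOn
      (fun c : X → ℕ => c ∘ (pullback.fst f (Spec.map (CommRingCat.ofHom
        (algebraMap k (AlgebraicClosure k))))).base)
      {c : X → ℕ | (Function.support c).Finite ∧ (∀ x, c x ≠ 0 → IsClosed ({x} : Set X)) ∧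
        ∑ᶠ x, c x * EGA4loc.residueDegree f x = n}
      {d : ↑(pullback f (Spec.map (CommRingCat.ofHom (algebraMap k (AlgebraicClosure k))))) → ℕ |
        (Function.support d).Finite ∧ (∀ y, d y ≠ 0 → IsClosed ({y} : Set _)) ∧
        ∑ᶠ y, d y = n ∧ ∀ σ y, d ((τ σ).base y) = d y} := by
  classical
  letI : X.Over (Spec (CommRingCat.of k)) := ⟨f⟩
  haveI : LocallyOfFiniteType (X ↘ Spec (CommRingCat.of k)) := ‹LocallyOfFiniteType f›
  let K := AlgebraicClosure k
  let π : ↑(pullback f (FinFr.specι k K)) → X := (pullback.fst f (FinFr.specι k K)).base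
  let q := pullback.snd f (FinFr.specι k K)
  let c₀ : ↥(Spec (CommRingCat.of K)) := IsLocalRing.closedPoint K
  haveI : IsIntegralHom (FinFr.specι k K) := by
    rw [IsIntegralHom.SpecMap_iff]
    exact fun x => Algebra.IsIntegral.isIntegral (R := k) (A := K) x
  haveI : IsIntegralHom (pullback.fst f (FinFr.specι k K)) := MorphismProperty.pullback_fst _ _ inferInstance
  haveI : Surjective (FinFr.specι k K) := ⟨fun _ => ⟨c₀, Subsingleton.elim (α := PrimeSpectrum k) _ _⟩⟩
  have hsurj : Function.Surjective π := (pullback.fst f (FinFr.specι k K)).surjective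
  have hclosed : IsClosedMap π := (pullback.fst f (FinFr.specι k K)).isClosedMap
  haveI : JacobsonSpace ↑(pullback f (FinFr.specι k K)) := LocallyOfFiniteType.jacobsonSpace q
  have hdown : ∀ y, IsClosed ({y} : Set ↑(pullback f (FinFr.specι k K))) → IsClosed ({π y} : Set X) := fun y hy => by
    rw [← Set.image_singleton]; exact hclosed _ hy
  -- the fibre over a closed point
  have hfib : ∀ x : X, IsClosed ({x} : Set X) → Set.Finite (π ⁻¹' {x}) ∧ (∀ y ∈ π ⁻¹' {x}, IsClosed ({y} : Set _)) ∧
      (π ⁻¹' {x}).ncard = EGA4loc.residueDegree f x := by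
    intro x hx
    letI := Curv2.resAlgebra k X x
    haveI hfd : FiniteDimensional k (X.residueField x) := by
      haveI : JacobsonSpace X := LocallyOfFiniteType.jacobsonSpace (X ↘ Spec (CommRingCat.of k))
      rw [isClosed_singleton_iff_locallyOfFiniteType] at hx
      have e := Groth.L22.FibreDim.SpecMap_resMap k X x
      haveI : LocallyOfFiniteType (Spec.map (CommRingCat.ofHom (Curv2.resMap k X x))) := by rw [e]; infer_instance
      have hf := isFinite_iff_locallyOfFiniteType_of_jacobsonSpace
        (f := Spec.map (CommRingCat.ofHom (Curv2.resMap k X x))) |>.mpr inferInstance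
      rw [IsFinite.SpecMap_iff] at hf
      exact RingHom.finite_algebraMap.mp hf
    have hdeg : EGA4loc.residueDegree f x = Module.finrank k (X.residueField x) := by
      have e : X.fromSpecResidueField x ≫ f = Spec.map (CommRingCat.ofHom (Curv2.resMap k X x)) :=
        (Groth.L22.FibreDim.SpecMap_resMap k X x).symm
      let w : ↥(Spec (X.residueField x)) := IsLocalRing.closedPoint (X.residueField x)
      have h1 := Groth.L22.Cyc.residueDegree_comp (X.fromSpecResidueField x) f w
      have h2 : (X.fromSpecResidueField x ≫ f).residueDegree w = Module.finrank k (X.residueField x) := by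
        rw [Groth.L22.Cyc.residueDegree_congr _ e]
        refine (@Groth.L22.Cyc.residueDegree_spec k (X.residueField x) _ _ (Curv2.resAlgebra k X x) w).trans ?_
        have hw : w.asIdeal = ⊥ := (Ideal.eq_bot_or_top _).resolve_right w.2.ne_top
        haveI : w.asIdeal.IsMaximal := hw ▸ Ideal.bot_isMaximal
        let φ : X.residueField x →ₐ[k] w.asIdeal.ResidueField := IsScalarTower.toAlgHom k _ _
        have hφ : Function.Bijective φ := by
          refine ⟨φ.toRingHom.injective, fun b => ?_⟩
          obtain ⟨d, rfl⟩ := (Ideal.bijective_algebraMap_quotient_residueField w.asIdeal).2 b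
          obtain ⟨a, rfl⟩ := Ideal.Quotient.mk_surjective d
          exact ⟨a, IsScalarTower.algebraMap_apply (X.residueField x) ((X.residueField x : Type u) ⧸ w.asIdeal) _ a⟩
        exact (AlgEquiv.ofBijective φ hφ).toLinearEquiv.finrank_eq.symm
      have hbij : Function.Bijective ((X.fromSpecResidueField x).residueFieldMap w).hom := by
        refine ⟨RingHom.injective _, fun z => ?_⟩
        obtain ⟨z, rfl⟩ := IsLocalRing.residue_surjective z
        obtain ⟨v, rfl⟩ := (X.fromSpecResidueField x).stalkMap_surjective w z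
        exact ⟨IsLocalRing.residue _ v, rfl⟩
      rw [h2, Groth.L22.Cyc.residueDegree_eq_one _ w hbij, mul_one, Scheme.fromSpecResidueField_apply] at h1
      exact h1.symm
    let Φ : (X.residueField x →ₐ[k] K) → ↑(pullback f (FinFr.specι k K)) := fun ψ =>
      (pullback.lift (Groth.L11.Points.toPoint (k₀ := k) (k := K) X ⟨x, ψ⟩).1 (𝟙 _)
        ((Groth.L11.Points.toPoint (k₀ := k) (k := K) X ⟨x, ψ⟩).2.trans (Category.id_comp _).symm)).base c₀
    have hΦ : ∀ ψ, π (Φ ψ) = x ∧ IsClosed ({Φ ψ} : Set _) := by
      intro ψ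
      refine ⟨?_, ?_⟩
      · change (pullback.lift _ _ _ ≫ pullback.fst f (FinFr.specι k K)).base c₀ = x
        rw [pullback.lift_fst]
        exact Scheme.fromSpecResidueField_apply x _
      · exact ((pointEquivClosedPoint q) ⟨_, pullback.lift_snd _ _ _⟩).2
    have hinj : Function.Injective Φ := by
      intro ψ ψ' h
      have h' := congrArg (· ≫ pullback.fst f (FinFr.specι k K))
        (ext_of_apply_closedPoint_eq q (pullback.lift_snd _ _ _) (pullback.lift_snd _ _ _) h)
      simp only [pullback.lift_fst] at h'
      have := (Groth.L11.Points.toPoint_bijective (k₀ := k) (k := K) X).1 (Subtype.ext h')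
      exact eq_of_heq (Sigma.mk.inj_iff.1 this).2
    have hrange : Set.range Φ = π ⁻¹' {x} ∩ closedPoints ↑(pullback f (FinFr.specι k K)) := by
      refine Set.Subset.antisymm ?_ ?_
      · rintro _ ⟨ψ, rfl⟩; exact hΦ ψ
      · rintro y ⟨hyx, hy⟩
        let p := pointOfClosedPoint q y hy
        have hp : p ≫ q = 𝟙 _ := pointOfClosedPoint_comp _ _ _
        obtain ⟨⟨x', ψ⟩, hz⟩ := (Groth.L11.Points.toPoint_bijective (k₀ := k) (k := K) X).2
          ⟨p ≫ pullback.fst _ _, show (p ≫ pullback.fst _ _) ≫ f = _ by
            rw [Category.assoc, pullback.condition, ← Category.assoc, hp, Category.id_comp]⟩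
        have hz' : (Groth.L11.Points.toPoint (k₀ := k) (k := K) X ⟨x', ψ⟩).1 = p ≫ pullback.fst _ _ :=
          congrArg Subtype.val hz
        have hx' : x' = x := by
          have h := congrArg (fun m => m.base c₀) hz'
          refine (Scheme.fromSpecResidueField_apply x' _).symm.trans (h.trans ?_)
          exact (congrArg π (pointOfClosedPoint_apply q y hy c₀)).trans hyx
        subst hx'
        refine ⟨ψ, ?_⟩
        have e : pullback.lift (Groth.L11.Points.toPoint (k₀ := k) (k := K) X ⟨x', ψ⟩).1 (𝟙 _)
            ((Groth.L11.Points.toPoint (k₀ := k) (k := K) X ⟨x', ψ⟩).2.trans (Category.id_comp _).symm) = p :=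
          pullback.hom_ext ((pullback.lift_fst _ _ _).trans hz') ((pullback.lift_snd _ _ _).trans hp.symm)
        exact (congrArg (fun m => m.base c₀) e).trans (pointOfClosedPoint_apply q y hy c₀)
    have hfinΦ : (Set.range Φ).Finite := Set.finite_range Φ
    have hall : π ⁻¹' {x} = Set.range Φ := by
      refine Set.Subset.antisymm ?_ (hrange ▸ Set.inter_subset_left)
      rw [← closure_inter_closedPoints (hx.preimage (pullback.fst f (FinFr.specι k K)).continuous), hrange]
      have hc : IsClosed (π ⁻¹' {x} ∩ closedPoints ↑(pullback f (FinFr.specι k K))) := by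
        rw [← hrange, ← Set.iUnion_singleton_eq_range]
        exact isClosed_iUnion_of_finite fun ψ => (hΦ ψ).2
      exact hc.closure_subset
    refine ⟨hall ▸ hfinΦ, fun y hy => ?_, ?_⟩
    · rw [hall] at hy
      obtain ⟨ψ, rfl⟩ := hy
      exact (hΦ ψ).2
    · haveI : Algebra.IsSeparable k (X.residueField x) := inferInstance
      rw [hall, Set.ncard_range_of_injective hinj, hdeg, Nat.card_eq_fintype_card, AlgHom.card]
  have hsum : ∀ c : X → ℕ, (Function.support c).Finite → (∀ x, c x ≠ 0 → IsClosed ({x} : Set X)) →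
      (Function.support (c ∘ π)).Finite ∧ (∀ y, (c ∘ π) y ≠ 0 → IsClosed ({y} : Set _)) ∧
        ∑ᶠ y, (c ∘ π) y = ∑ᶠ x, c x * EGA4loc.residueDegree f x := by
    intro c hfin hc
    have hfin' : (Function.support (c ∘ π)).Finite := by
      refine (hfin.biUnion fun x hx => (hfib x (hc x hx)).1).subset fun y hy => ?_
      exact Set.mem_biUnion (x := π y) hy rfl
    refine ⟨hfin', fun y hy => (hfib (π y) (hc _ hy)).2.1 y rfl, ?_⟩
    rw [finsum_eq_sum_of_support_subset _ (s := hfin'.toFinset) (by simp),
      finsum_eq_sum_of_support_subset _ (s := hfin.toFinset) (by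
        intro x hx; simp only [Function.mem_support, Set.Finite.coe_toFinset] at hx ⊢; exact left_ne_zero_of_mul hx),
      ← Finset.sum_fiberwise_of_maps_to (s := hfin'.toFinset) (t := hfin.toFinset) (g := π) (by simp)]
    refine Finset.sum_congr rfl fun x hx => ?_
    rw [Set.Finite.mem_toFinset] at hx
    have hF : hfin'.toFinset.filter (fun y => π y = x) = (hfib x (hc x hx)).1.toFinset := by
      ext y
      simp only [Finset.mem_filter, Set.Finite.mem_toFinset, Function.mem_support, Set.mem_preimage, Set.mem_singleton_iff,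
        Function.comp_apply]
      exact ⟨fun h => h.2, fun h => ⟨h ▸ hx, h⟩⟩
    rw [hF, Finset.sum_congr rfl (g := fun _ => c x) (fun y hy => by
      rw [Set.Finite.mem_toFinset] at hy; exact congrArg c hy), Finset.sum_const, smul_eq_mul,
      ← Set.ncard_eq_toFinset_card _ (hfib x (hc x hx)).1, (hfib x (hc x hx)).2.2, mul_comm]
  refine ⟨?_, ?_, ?_⟩
  · rintro c ⟨h1, h2, h3⟩
    obtain ⟨g1, g2, g3⟩ := hsum c h1 h2
    exact ⟨g1, g2, g3.trans h3, fun σ y => congrArg c (congrArg (fun m => m.base y) (hτ1 σ))⟩
  · intro c _ c' _ h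
    exact hsurj.injective_comp_right h
  · rintro d ⟨h1, h2, h3, h4⟩
    let c : X → ℕ := fun x => d (Function.surjInv hsurj x)
    have hcd : c ∘ π = d := funext fun y => by
      obtain ⟨σ, hσ⟩ := Groth.L11.FrobFibre.exists_act_eq f τ hτ1 hτ2 y (Function.surjInv hsurj (π y))
        (Function.surjInv_eq hsurj (π y)).symm
      change d (Function.surjInv hsurj (π y)) = d y
      rw [← hσ, h4]
    have hfin : (Function.support c).Finite :=
      (h1.image π).subset fun x hx => ⟨Function.surjInv hsurj x, hx, Function.surjInv_eq hsurj x⟩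
    have hc : ∀ x, c x ≠ 0 → IsClosed ({x} : Set X) := fun x hx =>
      Function.surjInv_eq hsurj x ▸ hdown _ (h2 _ hx)
    refine ⟨c, ⟨hfin, hc, ?_⟩, hcd⟩
    rw [← (hsum c hfin hc).2.2, hcd]
    exact h3

end Groth.Agent.S13083
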