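import Groth.Statements.S13086
import Groth.Agent.L11.Zeta.Abscissa

set_option autoImplicit false
universe u
open CategoryTheory AlgebraicGeometry
open Zeta

namespace Groth.Agent.S13086

/-- If X is an arithmetic scheme (of finite type over ℤ) of dimension r, the Dirichlet series with
nonnegative coefficients L_X(s) = Σ_{n ≥ 1} a_n n^{−s}, a_n the number of effective 0-cycles on X of
norm n, converges in the half-plane Re(s) > r and has no zeros there. The dimension is only assumed
≤ r. -/
theorem result {X : Scheme.{u}}
    (f : X ⟶ Spec (CommRingCat.of (ULift.{u} ℤ))) [LocallyOfFiniteType f] [QuasiCompact f] (r : ℕ)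
    (hr : topologicalKrullDim X ≤ r) :
    LSeries.abscissaOfAbsConv (Zeta.arithCoeff X) ≤ (r : ℝ) ∧
      ∀ s : ℂ, (r : ℝ) < s.re → LSeries (Zeta.arithCoeff X) s ≠ 0 := by
  exact Groth.L11.Zeta.abscissa_le_dim_and_ne_zero f hr

end Groth.Agent.S13086
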