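import Groth.Statements.S13087
import Groth.Agent.L08.Lie3.Regular

set_option autoImplicit false
universe u
open Lie3Mod

namespace Groth.Agent.S13087
open Groth.L08.Lie3

/-- Let A be a nontrivial commutative ring and D = A[a,b,c,d,e,f,g,h,i] the polynomial ring in nine
variables. Then the linear forms a − i, b + f, d + h form a regular sequence on D, and so do the
three Jacobi polynomials Q1 = ah + di − fg − bg, Q2 = ie + bd − fh − ae, Q3 = hc + dc − af − bi
(each term is a non-zero-divisor on the quotient of D by the preceding terms, and the quotient by
all three is non-zero). (The published statement is made with a regular base ring in force; the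
printed argument does not use that hypothesis, and the statement is given here over every nontrivial
commutative base ring.) -/
theorem result (A : Type u) [CommRing A] [Nontrivial A] :
    RingTheory.Sequence.IsRegular (Lie3Mod.D A) [Lie3Mod.L1 A, Lie3Mod.L2 A, Lie3Mod.L3 A] ∧
      RingTheory.Sequence.IsRegular (Lie3Mod.D A) [Lie3Mod.Q1 A, Lie3Mod.Q2 A, Lie3Mod.Q3 A] := by
  refine ⟨isRegular_of_le_ker isWeaklyRegular_L ?_, isRegular_of_le_ker isWeaklyRegular_Q ?_⟩
  all_goals
    intro q hq
    simp only [List.mem_cons, List.not_mem_nil, or_false] at hq
    rcases hq with rfl | rfl | rfl <;>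
      simp [Lie3Mod.L1, Lie3Mod.L2, Lie3Mod.L3, Lie3Mod.Q1, Lie3Mod.Q2, Lie3Mod.Q3]

end Groth.Agent.S13087
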