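import Groth.Statements.S13088
import Groth.Agent.L08.Lie3.Chart

set_option autoImplicit false
universe u
open Lie3Mod

namespace Groth.Agent.S13088
open Groth.L08.Lie3

/-- Let A be a commutative domain and D = A[a,b,c,d,e,f,g,h,i]. Then the ideal L = (a − i, b + f, d + h)
of D is minimal among the prime ideals of D containing the Jacobi ideal I = (Q1, Q2, Q3), where Q1 =
ah + di − fg − bg, Q2 = ie + bd − fh − ae, Q3 = hc + dc − af − bi. (The published statement is made
with a regular base ring in force, used there as a domain; the printed argument uses only that the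
base ring is a domain, which is the hypothesis taken here.) -/
theorem result (A : Type u) [CommRing A] [IsDomain A] :
    Lie3Mod.idL A ∈ (Lie3Mod.idI A).minimalPrimes := by
  refine ⟨⟨idL_isPrime, idI_le_idL⟩, fun P ⟨hP, hIP⟩ hle => ?_⟩
  intro l hl
  refine (hP.mem_or_mem (hIP (detM_mul_mem hl))).resolve_left fun hd => ?_
  have h1 : (1 : Lie3Mod.D A) ∈ Lie3Mod.idL A := mem_idL_of_detM_mul (by simpa using hle hd)
  exact (idL_isPrime (A := A)).ne_top ((Ideal.eq_top_iff_one _).2 h1)

end Groth.Agent.S13088
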