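import Groth.Statements.S13096
import Mathlib.RingTheory.FinitePresentation
import Mathlib.RingTheory.FiniteType
import Mathlib.RingTheory.Noetherian.Basic
import Mathlib.RingTheory.Polynomial.Basic
import Mathlib.RingTheory.Adjoin.Basic

set_option autoImplicit false
universe u v
open CAlg

namespace Groth.Agent.S13096

/-- Let R be a commutative ring and R' a commutative R-algebra of finite presentation. Then every
surjective R-algebra endomorphism α : R' → R' is bijective (an automorphism). -/
theorem result (R : Type u) [CommRing R]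
    (R' : Type v) [CommRing R'] [Algebra R R'] [Algebra.FinitePresentation R R']
    (α : R' →ₐ[R] R') (hα : Function.Surjective α) : Function.Bijective α := by
  classical
  obtain ⟨n, π, hπ⟩ := Algebra.FiniteType.iff_quotient_mvPolynomial''.mp (inferInstance : Algebra.FiniteType R R')
  refine ⟨(injective_iff_map_eq_zero α).mpr fun x hx => ?_, hα⟩
  let g : Fin n → R' := fun i => π (MvPolynomial.X i)
  have hg : ∀ y, ∃ P : MvPolynomial (Fin n) R, MvPolynomial.aeval g P = y := fun y => by
    obtain ⟨P, hP⟩ := hπ y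
    exact ⟨P, by rw [show MvPolynomial.aeval g = π from MvPolynomial.algHom_ext fun i => by simp [g]]; exact hP⟩
  choose P hP using fun i => hg (α (g i))
  choose y hy using fun i => hα (g i)
  choose Q hQ using fun i => hg (y i)
  obtain ⟨W, hW⟩ := hg x
  let C : Finset R := (Finset.univ.biUnion fun i => (P i).support.image fun d => (P i).coeff d) ∪
    (Finset.univ.biUnion fun i => (Q i).support.image fun d => (Q i).coeff d) ∪ W.support.image fun d => W.coeff d
  let T : Subalgebra ℤ R' := Algebra.adjoin ℤ ((C.image (algebraMap R R') ∪ Finset.univ.image g : Finset R') : Set R')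
  haveI : IsNoetherianRing T := by
    haveI : Algebra.FiniteType ℤ T := ⟨(Subalgebra.fg_top T).mpr (Subalgebra.fg_adjoin_finset _)⟩
    exact Algebra.FiniteType.isNoetherianRing ℤ T
  have hmem : ∀ U : MvPolynomial (Fin n) R, (∀ d ∈ U.support, U.coeff d ∈ C) → MvPolynomial.aeval g U ∈ T := by
    intro U hU
    rw [MvPolynomial.aeval_def, MvPolynomial.eval₂_eq]
    refine sum_mem fun d hd => mul_mem (Algebra.subset_adjoin ?_) (prod_mem fun i _ => pow_mem (Algebra.subset_adjoin ?_) _)
    · exact Finset.mem_coe.mpr (Finset.mem_union_left _ (Finset.mem_image_of_mem _ (hU d hd)))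
    · exact Finset.mem_coe.mpr (Finset.mem_union_right _ (Finset.mem_image_of_mem _ (Finset.mem_univ i)))
  have hPT : ∀ i, α (g i) ∈ T := fun i => hP i ▸ hmem _ fun d hd => Finset.mem_union_left _
    (Finset.mem_union_left _ (Finset.mem_biUnion.mpr ⟨i, Finset.mem_univ i, Finset.mem_image_of_mem _ hd⟩))
  have hQT : ∀ i, y i ∈ T := fun i => hQ i ▸ hmem _ fun d hd => Finset.mem_union_left _
    (Finset.mem_union_right _ (Finset.mem_biUnion.mpr ⟨i, Finset.mem_univ i, Finset.mem_image_of_mem _ hd⟩))
  have hxT : x ∈ T := hW ▸ hmem _ fun d hd => Finset.mem_union_right _ (Finset.mem_image_of_mem _ hd)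
  let f : T →ₐ[ℤ] R' := (α.toRingHom.toIntAlgHom).comp T.val
  have hfT : ∀ t : T, f t ∈ T := by
    have hle : T ≤ T.comap α.toRingHom.toIntAlgHom := by
      refine Algebra.adjoin_le fun z hz => ?_
      change α z ∈ T
      rcases Finset.mem_union.mp (Finset.mem_coe.mp hz) with h | h
      · obtain ⟨c, hc, rfl⟩ := Finset.mem_image.mp h
        rw [AlgHom.commutes]
        exact Algebra.subset_adjoin hz
      · obtain ⟨i, -, rfl⟩ := Finset.mem_image.mp h
        exact hPT i
    exact fun t => hle t.2
  let β : T →ₐ[ℤ] T := f.codRestrict T hfT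
  have hβ : Function.Surjective β := by
    have hle : T ≤ β.range.map T.val := by
      refine Algebra.adjoin_le fun z hz => ?_
      rcases Finset.mem_union.mp (Finset.mem_coe.mp hz) with h | h
      · obtain ⟨c, hc, rfl⟩ := Finset.mem_image.mp h
        exact ⟨β ⟨_, Algebra.subset_adjoin hz⟩, ⟨_, rfl⟩, α.commutes c⟩
      · obtain ⟨i, -, rfl⟩ := Finset.mem_image.mp h
        exact ⟨β ⟨y i, hQT i⟩, ⟨_, rfl⟩, hy i⟩
    intro t
    obtain ⟨s, ⟨u, hu⟩, hs⟩ := hle t.2
    exact ⟨u, hu.trans (Subtype.ext hs)⟩
  obtain ⟨m, hm⟩ := monotone_stabilizes_iff_noetherian.mpr (inferInstance : IsNoetherian T T)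
    ⟨fun k => RingHom.ker (β.toRingHom ^ k), monotone_nat_of_le_succ fun k z (hz : (β.toRingHom ^ k) z = 0) => by
      change (β.toRingHom ^ (k + 1)) z = 0
      rw [pow_succ', RingHom.mul_def, RingHom.comp_apply, hz, map_zero]⟩
  obtain ⟨z, hz⟩ : ∃ z, (β.toRingHom ^ m) z = ⟨x, hxT⟩ := by
    have : Function.Surjective (β.toRingHom ^ m) := by rw [RingHom.coe_pow]; exact hβ.iterate m
    exact this _
  have hz1 : z ∈ RingHom.ker (β.toRingHom ^ (m + 1)) := by
    rw [RingHom.mem_ker, pow_succ', RingHom.mul_def, RingHom.comp_apply, hz]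
    exact Subtype.ext hx
  have hz2 : z ∈ RingHom.ker (β.toRingHom ^ m) := by
    have := hm (m + 1) (Nat.le_succ m)
    have h' : RingHom.ker (β.toRingHom ^ m) = RingHom.ker (β.toRingHom ^ (m + 1)) := this
    rw [h']; exact hz1
  have : (⟨x, hxT⟩ : T) = 0 := hz.symm.trans hz2
  exact congrArg Subtype.val this

end Groth.Agent.S13096
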