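import Groth.Statements.S13097
import Groth.Agent.L20.UnivHomeo
import Mathlib.AlgebraicGeometry.ZariskisMainTheorem

set_option autoImplicit false
universe u
open FlatMor

set_option backward.isDefEq.respectTransparency.types false
namespace Groth.Agent.S13097

open CategoryTheory AlgebraicGeometry in
/-- Let f : X → S be a quasi-compact, separated morphism of schemes with a section e : S → X (e followed
by f is the identity of S), and U ⊆ S an open subscheme such that f⁻¹(U) is schematically dense in X
(for every open V of X, restriction of functions from V to V ∩ f⁻¹(U) is injective) and such that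
the restriction f⁻¹(U) → U of f is a homeomorphism of underlying spaces. Then f is universally a
homeomorphism (every base change of f is a homeomorphism), and f is finite as soon as it is locally
of finite type. (The published statement also lists surjectivity of f, which a section forces, and
offers as an alternative to the section the hypothesis that f be flat, still with f⁻¹(U) → U only a
homeomorphism; that flat alternative fails: the spectrum of a separable quadratic field extension
over the spectrum of the ground field, with U the whole base, is flat, surjective, quasi-compact,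
separated and a homeomorphism over U, yet not universally injective. Only the case of a section,
whose published proof is complete, is stated here.) -/
theorem result {X S : Scheme.{u}} (f : X ⟶ S)
    [QuasiCompact f] [IsSeparated f] (U : S.Opens)
    (hdense : CInt.IsSchematicallyDense (f ⁻¹ᵁ U)) (hU : IsHomeomorph (f ∣_ U).base)
    (e : S ⟶ X) (he : e ≫ f = 𝟙 S) :
    FlatMor.IsUnivHomeo f ∧ (LocallyOfFiniteType f → IsFinite f) := by
  haveI : IsClosedImmersion (e ≫ f) := by rw [he]; infer_instance
  haveI : IsClosedImmersion e := IsClosedImmersion.of_comp e f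
  have hd : Dense ((f ⁻¹ᵁ U : X.Opens) : Set X) := by
    refine dense_iff_inter_open.2 fun O hO ⟨x, hx⟩ => ?_
    obtain ⟨V, hV, hxV, hle⟩ := exists_isAffineOpen_mem_and_subset (x := x) (U := ⟨O, hO⟩) hx
    by_contra hne
    have h0 : V ⊓ f ⁻¹ᵁ U = ⊥ := by
      ext z
      simp only [TopologicalSpace.Opens.coe_bot, Set.mem_empty_iff_false, iff_false]
      exact fun hz => hne ⟨z, hle hz.1, hz.2⟩
    haveI : Subsingleton Γ(X, V ⊓ f ⁻¹ᵁ U) := CommRingCat.subsingleton_of_isTerminal (h0 ▸ X.sheaf.isTerminalOfEmpty)
    haveI : Subsingleton Γ(X, V) := (hdense V).subsingleton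
    haveI : Nonempty V := ⟨⟨x, hxV⟩⟩
    exact false_of_nontrivial_of_subsingleton Γ(X, V)
  have hes : Surjective e := by
    refine ⟨fun x => ?_⟩
    have hsub : ((f ⁻¹ᵁ U : X.Opens) : Set X) ⊆ Set.range e := fun z hz => by
      refine ⟨f z, ?_⟩
      have hfe : f (e (f z)) = f z := by rw [← Scheme.Hom.comp_apply, he]; rfl
      have h1 : (f ∣_ U).base ⟨e (f z), show f (e (f z)) ∈ U by rw [hfe]; exact hz⟩ = (f ∣_ U).base ⟨z, hz⟩ := by
        apply Subtype.ext
        rw [morphismRestrict_base]
        exact hfe
      exact congrArg Subtype.val (hU.injective h1)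
    have hcl : closure ((f ⁻¹ᵁ U : X.Opens) : Set X) ⊆ Set.range e :=
      closure_minimal hsub e.isClosedEmbedding.isClosed_range
    exact hcl (hd x)
  have h1 : FlatMor.IsUnivHomeo e := (Groth.L20.isUnivHomeo_iff e).2 ⟨inferInstance, inferInstance, hes⟩
  have h2 : FlatMor.IsUnivHomeo (e ≫ f) := by
    rw [he, Groth.L20.isUnivHomeo_iff]
    exact ⟨inferInstance, inferInstance, inferInstance⟩
  have h3 := Groth.L20.isUnivHomeo_of_comp_left h2 h1
  refine ⟨h3, fun hft => ?_⟩
  obtain ⟨hc, hi, hs⟩ := (Groth.L20.isUnivHomeo_iff f).1 h3
  haveI : LocallyQuasiFinite f := .of_injective f.injective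
  haveI : IsProper f := ⟨⟩
  exact IsFinite.of_isProper_of_locallyQuasiFinite f


end Groth.Agent.S13097
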