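import Groth.Statements.S13098
import Mathlib.Tactic.Module
import Mathlib.Tactic.Abel
import Mathlib.Tactic.LinearCombination
import Mathlib.LinearAlgebra.Basis.Basic

set_option autoImplicit false
universe u v
open Lie3Mod

namespace Groth.Agent.S13098

/-- Let R be a commutative ring, M an R-module with a basis x = bs 0, y = bs 1, z = bs 2 indexed by Fin
3, and B an R-bilinear alternating map on M (B m m = 0) with B x y = a x + b y + c z, B x z = d x +
e y + f z and B y z = g x + h y + i z. Then B satisfies the Jacobi identity for all triples if and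
only if the three Jacobi polynomials vanish: ah + di − fg − bg = 0, ie + bd − fh − ae = 0 and hc +
dc − af − bi = 0. (This is the statement that Lie brackets on a based free module of rank 3 are the
points of the closed subscheme of affine 9-space defined by these three equations.) -/
theorem result (R : Type u) [CommRing R] (M : Type v) [AddCommGroup M] [Module R M]
    (bs : Module.Basis (Fin 3) R M) (B : M →ₗ[R] M →ₗ[R] M) (halt : ∀ m : M, B m m = 0)
    (a b c d e f g h i : R)
    (hxy : B (bs 0) (bs 1) = a • bs 0 + b • bs 1 + c • bs 2)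
    (hxz : B (bs 0) (bs 2) = d • bs 0 + e • bs 1 + f • bs 2)
    (hyz : B (bs 1) (bs 2) = g • bs 0 + h • bs 1 + i • bs 2) :
    (∀ u v w : M, B u (B v w) + B v (B w u) + B w (B u v) = 0) ↔
      (a * h + d * i - f * g - b * g = 0 ∧ i * e + b * d - f * h - a * e = 0 ∧
        h * c + d * c - a * f - b * i = 0) := by
  have hskew : ∀ m n : M, B n m = -B m n := fun m n => by
    have hh := halt (m + n)
    simp only [map_add, LinearMap.add_apply, halt] at hh
    rw [eq_neg_iff_add_eq_zero, ← hh]; abel
  have hyx := (hskew (bs 0) (bs 1)).trans (congrArg Neg.neg hxy)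
  have hzx := (hskew (bs 0) (bs 2)).trans (congrArg Neg.neg hxz)
  have hzy := (hskew (bs 1) (bs 2)).trans (congrArg Neg.neg hyz)
  constructor
  · intro hJ
    have h0 := hJ (bs 0) (bs 1) (bs 2)
    simp only [hxy, hxz, hyz, hyx, hzx, hzy, halt, map_add, map_smul, map_neg, smul_add, smul_neg,
      smul_zero, map_zero, add_zero, zero_add] at h0
    have key : (a * h + d * i - f * g - b * g) • bs 0 + (i * e + b * d - f * h - a * e) • bs 1
        + (h * c + d * c - a * f - b * i) • bs 2 = 0 := by
      linear_combination (norm := module) h0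
    have := Fintype.linearIndependent_iff.1 bs.linearIndependent
      ![a * h + d * i - f * g - b * g, i * e + b * d - f * h - a * e,
        h * c + d * c - a * f - b * i] (by simpa [Fin.sum_univ_three] using key)
    exact ⟨this 0, this 1, this 2⟩
  · rintro ⟨q1, q2, q3⟩ u v w
    have hco : ∀ m : M, ∃ m0 m1 m2 : R, m = m0 • bs 0 + m1 • bs 1 + m2 • bs 2 := fun m =>
      ⟨bs.repr m 0, bs.repr m 1, bs.repr m 2,
        (bs.sum_repr m).symm.trans (Fin.sum_univ_three _)⟩
    obtain ⟨u0, u1, u2, rfl⟩ := hco u
    obtain ⟨v0, v1, v2, rfl⟩ := hco v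
    obtain ⟨w0, w1, w2, rfl⟩ := hco w
    simp only [hxy, hxz, hyz, hyx, hzx, hzy, halt, map_add, map_smul, map_neg,
      LinearMap.add_apply, LinearMap.smul_apply, smul_add, smul_neg, smul_zero, map_zero, add_zero,
      zero_add]
    match_scalars
    · linear_combination (u0 * (v1 * w2 - v2 * w1) - u1 * (v0 * w2 - v2 * w0)
        + u2 * (v0 * w1 - v1 * w0)) * q1
    · linear_combination (u0 * (v1 * w2 - v2 * w1) - u1 * (v0 * w2 - v2 * w0)
        + u2 * (v0 * w1 - v1 * w0)) * q2
    · linear_combination (u0 * (v1 * w2 - v2 * w1) - u1 * (v0 * w2 - v2 * w0)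
        + u2 * (v0 * w1 - v1 * w0)) * q3

end Groth.Agent.S13098
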