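import Groth.Statements.S13099
import Mathlib.Algebra.Polynomial.Taylor
import Mathlib.Algebra.Polynomial.HasseDeriv
import Mathlib.Algebra.CharP.Lemmas
import Mathlib.Data.Nat.Choose.Lucas
import Mathlib.RingTheory.Finiteness.Basic
import Mathlib.RingTheory.AdjoinRoot
import Mathlib.RingTheory.MvPolynomial.Basic
import Mathlib.RingTheory.OrzechProperty
import Mathlib.Algebra.CharP.Basic
import Mathlib.Data.ZMod.Basic
import Mathlib.Algebra.Field.ZMod

set_option autoImplicit false
universe u
open GrpSch

namespace Groth.Agent.S13099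

lemma unit_of_not_dvd {A : Type u} [CommRing A] {p : ℕ} [Fact p.Prime] [CharP A p] {n : ℕ} (h : ¬ p ∣ n) :
    IsUnit (n : A) := by
  rw [← map_natCast (ZMod.castHom dvd_rfl A : ZMod p →+* A)]
  exact (isUnit_iff_ne_zero.2 (fun h0 => h ((CharP.cast_eq_zero_iff (ZMod p) p n).1 h0))).map _

open Polynomial in
lemma coeff_key {A : Type u} [CommRing A] (P : ℕ) (q : A[X])
    (h : Polynomial.aeval (MvPolynomial.X 0 + MvPolynomial.X 1 : MvPolynomial (Fin 2) A) q -
            Polynomial.aeval (MvPolynomial.X 0 : MvPolynomial (Fin 2) A) q -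
            Polynomial.aeval (MvPolynomial.X 1 : MvPolynomial (Fin 2) A) q ∈
          Ideal.span ({MvPolynomial.X 0 ^ P, MvPolynomial.X 1 ^ P} : Set (MvPolynomial (Fin 2) A)))
    (i k : ℕ) (hi : i < P) (hk : k < P) :
    ((i + k).choose k : A) * q.coeff (i + k) - (if k = 0 then q.coeff i else 0) - (if i = 0 then q.coeff k else 0) = 0 := by
  let θ : MvPolynomial (Fin 2) A →ₐ[A] A[X][X] := MvPolynomial.aeval ![C X, X]
  obtain ⟨f, g, hfg⟩ := Ideal.mem_span_pair.1 h
  have h1 := congrArg (fun e => ((θ e).coeff k).coeff i) hfg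
  simp only [map_add, map_mul, map_pow, map_sub, ← Polynomial.aeval_algHom_apply, θ, MvPolynomial.aeval_X,
    Matrix.cons_val_zero, Matrix.cons_val_one] at h1
  have hz : (((θ f * C X ^ P + θ g * X ^ P) : A[X][X]).coeff k).coeff i = 0 := by
    rw [← map_pow, coeff_add, coeff_add, coeff_mul_C, coeff_mul_X_pow', coeff_mul_X_pow',
      if_neg (by omega), if_neg (by omega)]
    simp
  simp only [θ] at hz
  rw [hz] at h1
  have e1 : ∀ r : A[X], Polynomial.aeval ((C r : A[X][X]) + X) q = taylor r (q.map C) := by
    intro r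
    rw [taylor_apply, add_comm, ← aeval_map_algebraMap A[X], show algebraMap A A[X] = C from rfl]
    rfl
  have e2 : ((Polynomial.aeval ((C X : A[X][X]) + X) q).coeff k).coeff i =
      ((i + k).choose k : A) * q.coeff (i + k) := by
    rw [e1, taylor_coeff]
    have : hasseDeriv k (q.map (C : A →+* A[X])) = (hasseDeriv k q).map C := by
      ext n : 1; simp [hasseDeriv_coeff]
    rw [this, eval_map, eval₂_C_X, hasseDeriv_coeff]
  have e3 : ((Polynomial.aeval (C X : A[X][X]) q).coeff k).coeff i = if k = 0 then q.coeff i else 0 := by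
    rw [show Polynomial.aeval (C X : A[X][X]) q = C (Polynomial.aeval X q) from aeval_algHom_apply (CAlgHom (R := A[X]) |>.restrictScalars A) X q,
      aeval_X_left_apply, coeff_C]
    split_ifs <;> simp
  have e4 : ((Polynomial.aeval (X : A[X][X]) q).coeff k).coeff i = if i = 0 then q.coeff k else 0 := by
    rw [← aeval_map_algebraMap A[X], aeval_X_left_apply, coeff_map, Polynomial.algebraMap_eq, coeff_C]
  simp only [coeff_sub, e2, e3, e4] at h1
  exact h1.symm

open Polynomial in
lemma surj_of_unit {p : ℕ} [Fact p.Prime] {A : Type u} [CommRing A] [CharP A p] (a₁ ap : A)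
    (φ : (A[X] ⧸ Ideal.span ({X ^ p ^ 2} : Set A[X])) →ₐ[A] (A[X] ⧸ Ideal.span ({X ^ p ^ 2} : Set A[X])))
    (hφ : φ (Ideal.Quotient.mk _ X) = Ideal.Quotient.mk _ (Polynomial.C a₁ * X + Polynomial.C ap * X ^ p))
    (h : IsUnit a₁) : Function.Surjective φ := by
  set π := Ideal.Quotient.mkₐ A (Ideal.span ({X ^ p ^ 2} : Set A[X])) with hπ
  have hx : φ (π X) = a₁ • π X + ap • π (X ^ p) := by
    rw [← map_smul, ← map_smul, ← map_add, Polynomial.smul_eq_C_mul, Polynomial.smul_eq_C_mul]; exact hφ
  have h0 : π (X ^ p) ^ p = 0 := by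
    rw [← map_pow, ← pow_mul, ← pow_two]
    exact Ideal.Quotient.eq_zero_iff_mem.2 (Ideal.subset_span rfl)
  have hxp : φ (π X) ^ p = a₁ ^ p • π (X ^ p) := by
    have : (p : A[X] ⧸ Ideal.span ({X ^ p ^ 2} : Set A[X])) = 0 := by
      rw [← map_natCast (algebraMap A _) p, CharP.cast_eq_zero, map_zero]
    rw [hx]
    obtain ⟨c, hc⟩ := exists_add_pow_prime_eq (Fact.out (p := p.Prime)) (a₁ • π X) (ap • π (X ^ p))
    rw [hc, this, smul_pow, smul_pow, h0, smul_zero, add_zero, zero_mul, zero_mul, zero_mul, add_zero, map_pow]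
  have mem : π (X ^ p) ∈ φ.range := by
    obtain ⟨u, hu⟩ := (h.pow p).exists_left_inv
    refine ⟨u • (π X) ^ p, ?_⟩
    rw [AlgHom.toRingHom_eq_coe, RingHom.coe_coe, map_smul, map_pow, hxp, smul_smul, hu, one_smul]
  have mem1 : π X ∈ φ.range := by
    obtain ⟨u, hu⟩ := h.exists_left_inv
    have : π X = u • (φ (π X) - ap • π (X ^ p)) := by
      rw [hx, add_sub_cancel_right, smul_smul, hu, one_smul]
    rw [this]
    exact φ.range.smul_mem (sub_mem ⟨_, rfl⟩ (φ.range.smul_mem mem _)) _
  intro y
  obtain ⟨r, rfl⟩ := Ideal.Quotient.mkₐ_surjective A _ y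
  rw [← aeval_X_left_apply r, ← aeval_algHom_apply]
  exact Algebra.adjoin_le (Set.singleton_subset_iff.2 mem1) (aeval_mem_adjoin_singleton A _)


open Polynomial in
/-- Let p be a prime and A a commutative ring of characteristic p, and consider the infinitesimal group
scheme Spec A[X]/(X^{p²}) with the additive group law. In coordinates: (1) a polynomial q ∈ A[X] of
degree less than p² satisfies q(Y + Z) − q(Y) − q(Z) ∈ (Y^{p²}, Z^{p²}) in A[Y, Z] (that is, X ↦ q
respects the comultiplication) if and only if q = a₁ X + a_p X^p for some a₁, a_p ∈ A; (2) an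
A-algebra endomorphism of A[X]/(X^{p²}) that sends the class of X to the class of a₁ X + a_p X^p is
bijective if and only if a₁ is a unit of A. (The printed statement is that the automorphism group
scheme of this group scheme is the semidirect product of the additive group by the multiplicative
group, v acting on u by v^{p−1}u; this row records the two computations it consists of, in
coordinates.) -/
theorem result (p : ℕ) [Fact p.Prime] (A : Type u) [CommRing A] [CharP A p] :
    (∀ q : A[X], q.natDegree < p ^ 2 →
      (Polynomial.aeval (MvPolynomial.X 0 + MvPolynomial.X 1 : MvPolynomial (Fin 2) A) q -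
            Polynomial.aeval (MvPolynomial.X 0 : MvPolynomial (Fin 2) A) q -
            Polynomial.aeval (MvPolynomial.X 1 : MvPolynomial (Fin 2) A) q ∈
          Ideal.span ({MvPolynomial.X 0 ^ p ^ 2, MvPolynomial.X 1 ^ p ^ 2} : Set (MvPolynomial (Fin 2) A)) ↔
        ∃ a₁ ap : A, q = Polynomial.C a₁ * X + Polynomial.C ap * X ^ p)) ∧
    (∀ (a₁ ap : A) (φ : (A[X] ⧸ Ideal.span ({X ^ p ^ 2} : Set A[X])) →ₐ[A] (A[X] ⧸ Ideal.span ({X ^ p ^ 2} : Set A[X]))),
      φ (Ideal.Quotient.mk (Ideal.span ({X ^ p ^ 2} : Set A[X])) X) =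
          Ideal.Quotient.mk (Ideal.span ({X ^ p ^ 2} : Set A[X])) (Polynomial.C a₁ * X + Polynomial.C ap * X ^ p) →
        (Function.Bijective φ ↔ IsUnit a₁)) := by
  have hp := Fact.out (p := p.Prime)
  constructor
  · intro q hq
    constructor
    · intro h
      have hP : p ≤ p ^ 2 := Nat.le_self_pow (by omega) p
      have key := coeff_key (p ^ 2) q h
      have hzero : ∀ n, n ≠ 1 → n ≠ p → q.coeff n = 0 := by
        intro n h1 hnp
        rcases Nat.eq_zero_or_pos n with rfl | hn
        · have := key 0 0 (by positivity) (by positivity)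
          simpa using this
        by_cases hbig : p ^ 2 ≤ n
        · exact Polynomial.coeff_eq_zero_of_natDegree_lt (by omega)
        push Not at hbig
        by_cases hdvd : p ∣ n
        · obtain ⟨l, rfl⟩ := hdvd
          have hl : 2 ≤ l := by
            rcases l with _ | _ | l
            · simp at hn
            · simp at hnp
            · omega
          have hlp : l < p := by
            rw [pow_two] at hbig
            exact lt_of_mul_lt_mul_left hbig (Nat.zero_le _)
          have := key (p * (l - 1)) p (lt_of_le_of_lt (Nat.mul_le_mul_left p (Nat.sub_le l 1)) hbig)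
            (by rw [pow_two]; exact lt_mul_of_one_lt_left (hp.pos) hp.one_lt)
          have hs : p * (l - 1) + p = p * l := by
            conv_rhs => rw [show l = (l - 1) + 1 by omega]
            ring
          rw [hs, if_neg hp.ne_zero, if_neg (Nat.mul_ne_zero hp.ne_zero (by omega)), sub_zero, sub_zero] at this
          have hc : ((p * l).choose p : A) = (l : A) := by
            rw [CharP.natCast_eq_natCast A p]
            simpa using Choose.choose_mul_mul_modEq_choose_nat (a := l) (b := 1) (p := p)
          rw [hc] at this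
          exact (unit_of_not_dvd (A := A) (p := p) (fun hd => by
            have := Nat.le_of_dvd (by omega) hd; omega)).mul_right_eq_zero.1 this
        · have h2 : 1 < p := hp.one_lt
          have := key (n - 1) 1 (by omega) (by omega)
          rw [show n - 1 + 1 = n by omega, Nat.choose_one_right, if_neg one_ne_zero, if_neg (by omega), sub_zero,
            sub_zero] at this
          exact (unit_of_not_dvd (A := A) hdvd).mul_right_eq_zero.1 this
      refine ⟨q.coeff 1, q.coeff p, ?_⟩
      ext n
      simp only [Polynomial.coeff_add, Polynomial.coeff_C_mul, Polynomial.coeff_X, Polynomial.coeff_X_pow]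
      rcases eq_or_ne n 1 with rfl | h1
      · simp [hp.ne_one.symm]
      rcases eq_or_ne n p with rfl | h2
      · simp [hp.ne_one.symm]
      simp [hzero n h1 h2, h1.symm, h2]
    · rintro ⟨a₁, ap, rfl⟩
      have : CharP (MvPolynomial (Fin 2) A) p := inferInstance
      simp only [map_add, map_mul, map_pow, Polynomial.aeval_X, Polynomial.aeval_C, add_pow_char]
      convert Ideal.zero_mem _ using 1
      ring
  · intro a₁ ap φ hφ
    constructor
    · intro hb
      obtain ⟨y, hy⟩ := hb.surjective (Ideal.Quotient.mk _ Polynomial.X)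
      obtain ⟨r, rfl⟩ := Ideal.Quotient.mkₐ_surjective A _ y
      rw [← Polynomial.aeval_X_left_apply r, ← Polynomial.aeval_algHom_apply, ← Polynomial.aeval_algHom_apply] at hy
      have hy' : Ideal.Quotient.mkₐ A (Ideal.span ({Polynomial.X ^ p ^ 2} : Set (Polynomial A)))
          (Polynomial.aeval (Polynomial.C a₁ * Polynomial.X + Polynomial.C ap * Polynomial.X ^ p) r) =
          Ideal.Quotient.mk _ Polynomial.X := by
        rw [← Polynomial.aeval_algHom_apply, ← hy]
        congr 2
        exact hφ.symm
      obtain ⟨s, hs⟩ := Ideal.mem_span_singleton'.1 (Ideal.Quotient.eq.1 hy')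
      have := congrArg (fun e => (Polynomial.derivative e).eval 0) hs
      have h2 : 1 < p ^ 2 := Nat.one_lt_pow two_ne_zero hp.one_lt
      simp only [← Polynomial.comp_eq_aeval, Polynomial.derivative_sub, Polynomial.derivative_comp] at this
      simp [
        Polynomial.derivative_X_pow, zero_pow (Nat.sub_ne_zero_of_lt h2), zero_pow hp.ne_zero,
        zero_pow (Nat.sub_ne_zero_of_lt hp.one_lt), zero_pow (show p ^ 2 ≠ 0 by omega)] at this
      exact IsUnit.of_mul_eq_one _ (sub_eq_zero.1 this.symm)
    · intro h
      have : Module.Finite A (Polynomial A ⧸ Ideal.span ({Polynomial.X ^ p ^ 2} : Set (Polynomial A))) :=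
        (Polynomial.monic_X_pow _).finite_adjoinRoot
      have hs := surj_of_unit a₁ ap φ hφ h
      exact ⟨OrzechProperty.injective_of_surjective_endomorphism φ.toLinearMap hs, hs⟩
end Groth.Agent.S13099
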