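import Groth.Statements.S13100

set_option autoImplicit false
universe u
open GrpSch

namespace Groth.Agent.S13100

open HahnSeries in
noncomputable def sqrtCoeff {k : Type*} [Field k] (g : ℕ → k) (r : k) : ℕ → k
  | 0 => r
  | n + 1 => (g (n + 1) - ∑ i : Fin n, sqrtCoeff g r (i + 1) * sqrtCoeff g r (n - i)) / (2 * r)
termination_by n => n
decreasing_by all_goals omega

theorem powerSeries_isSquare {k : Type*} [Field k] (g : PowerSeries k) (r : k) (hr : r * r = PowerSeries.coeff 0 g)
    (hr0 : 2 * r ≠ 0) : IsSquare g := by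
  refine ⟨PowerSeries.mk (sqrtCoeff (fun n => PowerSeries.coeff n g) r), ?_⟩
  ext n
  rw [PowerSeries.coeff_mul, Finset.Nat.sum_antidiagonal_eq_sum_range_succ_mk]
  simp only [PowerSeries.coeff_mk]
  cases n with
  | zero => simp [sqrtCoeff, hr]
  | succ n =>
    rw [Finset.sum_range_succ, Finset.sum_range_succ', Finset.sum_range]
    simp only [Nat.sub_self, Nat.sub_zero, Nat.succ_sub_succ_eq_sub]
    rw [sqrtCoeff, sqrtCoeff]
    set T := ∑ i : Fin n, sqrtCoeff (fun n => PowerSeries.coeff n g) r (↑i + 1) *
      sqrtCoeff (fun n => PowerSeries.coeff n g) r (n - ↑i)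
    field_simp
    ring_nf
    have h20 : (2 : k) ≠ 0 := left_ne_zero_of_mul hr0
    have hr' : r ≠ 0 := right_ne_zero_of_mul hr0
    field_simp
    ring


/-- Let k be an algebraically closed field of characteristic different from 2 and K = k((t)) the field
of Laurent series over k. Then a non-zero Laurent series f is a square in K if and only if its order
in t is even; consequently the group Kˣ/Kˣ² of non-zero elements modulo squares has exactly two
elements, represented by 1 and t. -/
theorem result (k : Type u) [Field k] [IsAlgClosed k] (h2 : (2 : k) ≠ 0)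
    (f : LaurentSeries k) (hf : f ≠ 0) : IsSquare f ↔ Even f.order := by
  constructor
  · rintro ⟨g, rfl⟩
    have hg : g ≠ 0 := left_ne_zero_of_mul hf
    exact ⟨g.order, HahnSeries.order_mul_of_ne_zero (mul_ne_zero (HahnSeries.leadingCoeff_ne_zero.2 hg) (HahnSeries.leadingCoeff_ne_zero.2 hg))⟩
  · rintro ⟨n, hn⟩
    have hc : PowerSeries.coeff 0 f.powerSeriesPart ≠ 0 := by
      rw [LaurentSeries.powerSeriesPart_coeff]
      simpa using hf
    obtain ⟨r, hr⟩ := IsAlgClosed.exists_eq_mul_self (PowerSeries.coeff 0 f.powerSeriesPart)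
    have hr0 : r ≠ 0 := fun h => hc (by rw [hr, h, mul_zero])
    obtain ⟨s, hs⟩ := powerSeries_isSquare f.powerSeriesPart r hr.symm (mul_ne_zero h2 hr0)
    refine ⟨HahnSeries.single n (1 : k) * HahnSeries.ofPowerSeries ℤ k s, ?_⟩
    rw [mul_mul_mul_comm, HahnSeries.single_mul_single, one_mul, ← map_mul, ← hs, ← hn,
      LaurentSeries.single_order_mul_powerSeriesPart]
end Groth.Agent.S13100
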