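import Groth.Statements.S13101
import Groth.Agent.L25.Lie3
import Mathlib.Tactic.LinearCombination

set_option autoImplicit false
universe u v
open GrpSch

namespace Groth.Agent.S13101

/-- Let A be a commutative ring in which 2 is a unit, and L a Lie algebra over A, free as a module with
basis x = bs 0, y = bs 1, z = bs 2 and brackets [x,y] = y, [x,z] = y + z, [y,z] = 0. Then for every
Lie algebra automorphism φ of L over A there are b, c, h ∈ A and a unit i of A with φ(x) = x + b y +
c z, φ(y) = i y and φ(z) = h y + i z. Only the form of an automorphism is stated, not that every map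
of this form is one. (The published statement identifies the automorphism group scheme with a
semidirect product of two additive groups by the product of the multiplicative and additive group,
for algebras over a field of Laurent series of characteristic not 2, and deduces the vanishing of
its first cohomology; this row records the determination of the automorphisms, over any base ring
with 2 invertible; the cohomological consequence is not restated.) -/
theorem result (A : Type u) [CommRing A] (h2 : IsUnit (2 : A))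
    (L : Type v) [LieRing L] [LieAlgebra A L] (bs : Module.Basis (Fin 3) A L)
    (hxy : ⁅bs 0, bs 1⁆ = bs 1) (hxz : ⁅bs 0, bs 2⁆ = bs 1 + bs 2) (hyz : ⁅bs 1, bs 2⁆ = 0)
    (φ : L ≃ₗ⁅A⁆ L) :
    ∃ b c h i : A, IsUnit i ∧ φ (bs 0) = bs 0 + b • bs 1 + c • bs 2 ∧ φ (bs 1) = i • bs 1 ∧
      φ (bs 2) = h • bs 1 + i • bs 2 := by
  have M := Groth.L25.Lie3.repr_bracket bs 1 0 1 1 (by simp [hxy]) (by simp [hxz]) hyz
  have key : ∀ ψ : L ≃ₗ⁅A⁆ L, bs.repr (ψ (bs 1)) 0 = 0 := by
    intro ψ
    have hy : ψ (bs 1) = ⁅ψ (bs 0), ψ (bs 1)⁆ := by rw [← LieEquiv.map_lie, hxy]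
    rw [hy]; exact (M _ _).1
  have hy : φ (bs 1) = ⁅φ (bs 0), φ (bs 1)⁆ := by rw [← LieEquiv.map_lie, hxy]
  have hz : φ (bs 1) + φ (bs 2) = ⁅φ (bs 0), φ (bs 2)⁆ := by rw [← LieEquiv.map_lie, hxz, map_add]
  have hd := key φ
  have hd' := key φ.symm
  have hzero : ⁅φ (bs 2), bs 1⁆ = 0 := by
    rw [← φ.apply_symm_apply (bs 1), ← LieEquiv.map_lie,
      show ⁅bs 2, φ.symm (bs 1)⁆ = 0 from ?_, map_zero]
    refine bs.ext_elem fun j => ?_
    obtain ⟨m0, m1, m2⟩ := M (bs 2) (φ.symm (bs 1))
    simp only [hd', Module.Basis.repr_self, Finsupp.single_eq_of_ne (show (0 : Fin 3) ≠ 2 by decide), mul_zero, zero_mul,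
      sub_zero, zero_add] at m1 m2
    fin_cases j <;> simp [m0, m1, m2]
  have hg : bs.repr (φ (bs 2)) 0 = 0 := by
    have := (M (φ (bs 2)) (bs 1)).2.1
    rw [hzero] at this
    simpa using this.symm
  obtain ⟨-, e1, f1⟩ := M (φ (bs 0)) (φ (bs 1))
  rw [← hy] at e1 f1
  obtain ⟨-, h1, i1⟩ := M (φ (bs 0)) (φ (bs 2))
  rw [← hz, map_add, Finsupp.add_apply] at h1 i1
  simp only [hd, hg, mul_zero, sub_zero, zero_add, mul_one] at e1 f1 h1 i1
  have hinv : ∀ (v : L) (j : Fin 3), bs.repr v j = bs.repr (φ.symm v) 0 * bs.repr (φ (bs 0)) j +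
      bs.repr (φ.symm v) 1 * bs.repr (φ (bs 1)) j + bs.repr (φ.symm v) 2 * bs.repr (φ (bs 2)) j := by
    intro v j
    conv_lhs => rw [← φ.apply_symm_apply v]
    exact Groth.L25.Lie3.repr_map bs bs (φ : L →ₗ⁅A⁆ L).toLinearMap _ j
  have y1 := hinv (bs 1) 1
  have y2 := hinv (bs 1) 2
  have z1 := hinv (bs 2) 1
  have z2 := hinv (bs 2) 2
  have x0 := hinv (bs 0) 0
  simp only [Module.Basis.repr_self, Finsupp.single_eq_same, hd', zero_mul, zero_add, hd, hg, mul_zero, add_zero,
    Finsupp.single_eq_of_ne (show (2 : Fin 3) ≠ 1 by decide), Finsupp.single_eq_of_ne (show (1 : Fin 3) ≠ 2 by decide)] at y1 y2 z1 z2 x0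
  have hgz : bs.repr (φ.symm (bs 2)) 0 = 0 := by
    have hzero' : ⁅φ.symm (bs 2), bs 1⁆ = 0 := by
      rw [← φ.symm_apply_apply (bs 1), ← LieEquiv.map_lie,
        show ⁅bs 2, φ (bs 1)⁆ = 0 from ?_, map_zero]
      refine bs.ext_elem fun j => ?_
      obtain ⟨m0, m1, m2⟩ := M (bs 2) (φ (bs 1))
      simp only [hd, Module.Basis.repr_self, Finsupp.single_eq_of_ne (show (0 : Fin 3) ≠ 2 by decide), mul_zero, zero_mul,
        sub_zero, zero_add] at m1 m2
      fin_cases j <;> simp [m0, m1, m2]
    have := (M (φ.symm (bs 2)) (bs 1)).2.1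
    rw [hzero'] at this
    simpa using this.symm
  simp only [hgz, zero_mul, zero_add] at z1 z2
  set a := bs.repr (φ (bs 0)) 0
  set b := bs.repr (φ (bs 0)) 1; set c := bs.repr (φ (bs 0)) 2
  set e := bs.repr (φ (bs 1)) 1; set f := bs.repr (φ (bs 1)) 2
  set h := bs.repr (φ (bs 2)) 1; set i := bs.repr (φ (bs 2)) 2
  set e' := bs.repr (φ.symm (bs 1)) 1; set f' := bs.repr (φ.symm (bs 1)) 2
  set h' := bs.repr (φ.symm (bs 2)) 1; set i' := bs.repr (φ.symm (bs 2)) 2
  have hD : (e * i - f * h) * (e' * i' - f' * h') = 1 := by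
    linear_combination (-1 : A) * ((h' * f + i' * i) * y1) - z2 + (e' * f + f' * i) * z1
  have hεf : (a - 1) * f = 0 := by linear_combination -f1
  have hεe : (a - 1) * e = -f := by linear_combination -e1 + f1
  have hεi : (a - 1) * i = f := by linear_combination -i1
  have h4 : e = (a - 1) * h + a * i := by linear_combination h1
  have hfe : f * e + f * i = 0 := by linear_combination i * hεe - e * hεi
  have h2f : 2 * (f * i) = 0 := by linear_combination hfe - f * h4 - (h + i) * hεf
  obtain ⟨t, ht⟩ := h2.exists_left_inv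
  have hfi : f * i = 0 := by linear_combination t * h2f - f * i * ht
  have ha : a - 1 = 0 := by
    linear_combination (e' * i' - f' * h') * (i * hεe - hfi - h * hεf) - (a - 1) * hD
  have hf : f = 0 := by linear_combination -hεi + i * ha
  have hei : e = i := by linear_combination h4 + (h + i) * ha
  have hi : IsUnit i := by
    refine IsUnit.of_mul_eq_one (i * (e' * i' - f' * h')) ?_
    linear_combination hD - i * (e' * i' - f' * h') * hei + h * (e' * i' - f' * h') * hf
  refine ⟨b, c, h, i, hi, ?_, ?_, ?_⟩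
  · conv_lhs => rw [Groth.L25.Lie3.eq_combination bs (φ (bs 0))]
    rw [show bs.repr (φ (bs 0)) 0 = 1 from sub_eq_zero.1 ha, one_smul]
  · conv_lhs => rw [Groth.L25.Lie3.eq_combination bs (φ (bs 1))]
    rw [hd, show bs.repr (φ (bs 1)) 2 = 0 from hf, show bs.repr (φ (bs 1)) 1 = i from hei]; simp
  · conv_lhs => rw [Groth.L25.Lie3.eq_combination bs (φ (bs 2))]
    rw [hg]; simp [h, i]
end Groth.Agent.S13101
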