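import Groth.Statements.S13102
import Groth.Agent.L25.Lie3
import Mathlib.Tactic.LinearCombination

set_option autoImplicit false
universe u v w
open GrpSch

namespace Groth.Agent.S13102

/-- Let K be a field, α ∈ K, A a commutative K-algebra and L a Lie algebra over A which is free as an
A-module with basis x = bs 0, y = bs 1, z = bs 2 and brackets [x,y] = y, [x,z] = α z, [y,z] = 0. If
α² ≠ 1 then every Lie algebra automorphism φ of L over A satisfies φ(x) = x + b y + c z, φ(y) = e y,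
φ(z) = i z for some b, c ∈ A and units e, i of A. If α = 1 then every such φ satisfies φ(x) = x + b
y + c z, φ(y) = e y + f z, φ(z) = h y + i z with e i − f h a unit of A. (The printed statement
identifies the automorphism group schemes with the corresponding semidirect products, treats also α
= −1 in characteristic not 2, and computes first cohomology over a field of Laurent series; those
clauses are not restated here.) -/
theorem result (K : Type u) [Field K] (α : K) (A : Type v) [CommRing A] [Algebra K A]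
    (L : Type w) [LieRing L] [LieAlgebra A L] (bs : Module.Basis (Fin 3) A L)
    (hxy : ⁅bs 0, bs 1⁆ = bs 1) (hxz : ⁅bs 0, bs 2⁆ = algebraMap K A α • bs 2) (hyz : ⁅bs 1, bs 2⁆ = 0)
    (φ : L ≃ₗ⁅A⁆ L) :
    (α ^ 2 ≠ 1 → ∃ b c e i : A, IsUnit e ∧ IsUnit i ∧ φ (bs 0) = bs 0 + b • bs 1 + c • bs 2 ∧
        φ (bs 1) = e • bs 1 ∧ φ (bs 2) = i • bs 2) ∧
    (α = 1 → ∃ b c e f h i : A, IsUnit (e * i - f * h) ∧ φ (bs 0) = bs 0 + b • bs 1 + c • bs 2 ∧
        φ (bs 1) = e • bs 1 + f • bs 2 ∧ φ (bs 2) = h • bs 1 + i • bs 2) := by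
  classical
  set s := algebraMap K A α with hs
  have M := Groth.L25.Lie3.repr_bracket bs 1 0 0 s (by simp [hxy]) (by simp [hxz]) hyz
  have EY : ∀ ψ : L ≃ₗ⁅A⁆ L, ψ (bs 1) = ⁅ψ (bs 0), ψ (bs 1)⁆ := by
    intro ψ; rw [← LieEquiv.map_lie, hxy]
  have EZ : ∀ ψ : L ≃ₗ⁅A⁆ L, s • ψ (bs 2) = ⁅ψ (bs 0), ψ (bs 2)⁆ := by
    intro ψ
    rw [← LieEquiv.map_lie, hxz]
    exact ((ψ : L →ₗ⁅A⁆ L).map_smul s (bs 2)).symm
  have key1 : ∀ ψ : L ≃ₗ⁅A⁆ L, bs.repr (ψ (bs 1)) 0 = 0 := by
    intro ψ; rw [EY ψ]; exact (M _ _).1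
  have keyY : ∀ ψ : L ≃ₗ⁅A⁆ L, (bs.repr (ψ (bs 0)) 0 - 1) * bs.repr (ψ (bs 1)) 1 = 0 ∧
      (s * bs.repr (ψ (bs 0)) 0 - 1) * bs.repr (ψ (bs 1)) 2 = 0 := by
    intro ψ
    obtain ⟨-, e1, f1⟩ := M (ψ (bs 0)) (ψ (bs 1))
    rw [← EY ψ] at e1 f1
    rw [key1 ψ] at e1 f1
    constructor
    · linear_combination -e1
    · linear_combination -f1
  have keyG : ∀ ψ : L ≃ₗ⁅A⁆ L, bs.repr (ψ (bs 2)) 0 = 0 := by
    by_cases hα : α = 0
    · have hs0 : s = 0 := by rw [hs, hα, map_zero]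
      have hf : ∀ ψ : L ≃ₗ⁅A⁆ L, bs.repr (ψ (bs 1)) 2 = 0 := by
        intro ψ
        have := (keyY ψ).2
        rw [hs0] at this
        linear_combination -this
      intro ψ
      have he : bs.repr (ψ.symm (bs 1)) 1 * bs.repr (ψ (bs 1)) 1 = 1 := by
        have h1 := Groth.L25.Lie3.repr_map bs bs (ψ : L →ₗ⁅A⁆ L).toLinearMap (ψ.symm (bs 1)) 1
        simp only [key1 ψ.symm, hf ψ.symm, zero_mul, zero_add, add_zero] at h1
        rw [show (ψ : L →ₗ⁅A⁆ L).toLinearMap (ψ.symm (bs 1)) = bs 1 from ψ.apply_symm_apply _] at h1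
        simp at h1
        exact h1.symm
      obtain ⟨-, q1, -⟩ := M (ψ (bs 1)) (ψ (bs 2))
      rw [← LieEquiv.map_lie, hyz, map_zero, key1 ψ] at q1
      simp at q1
      linear_combination (-bs.repr (ψ (bs 2)) 0) * he + bs.repr (ψ.symm (bs 1)) 1 * q1
    · intro ψ
      have h0 := (M (ψ (bs 0)) (ψ (bs 2))).1
      rw [← EZ ψ, map_smul] at h0
      simp only [Finsupp.smul_apply, smul_eq_mul] at h0
      have hu : IsUnit s := (isUnit_iff_ne_zero.2 hα).map (algebraMap K A)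
      exact hu.mul_right_eq_zero.1 h0
  obtain ⟨e1, f1⟩ := keyY φ
  have hd := key1 φ
  have hd' := key1 φ.symm
  have hg := keyG φ
  have hg' := keyG φ.symm
  obtain ⟨-, h1, i1⟩ := M (φ (bs 0)) (φ (bs 2))
  rw [← EZ φ, map_smul] at h1 i1
  simp only [Finsupp.smul_apply, smul_eq_mul, hg, mul_zero, sub_zero, zero_add, mul_one, add_zero] at h1 i1
  have hinv : ∀ (v : L) (j : Fin 3), bs.repr v j = bs.repr (φ.symm v) 0 * bs.repr (φ (bs 0)) j +
      bs.repr (φ.symm v) 1 * bs.repr (φ (bs 1)) j + bs.repr (φ.symm v) 2 * bs.repr (φ (bs 2)) j := by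
    intro v j
    conv_lhs => rw [← φ.apply_symm_apply v]
    exact Groth.L25.Lie3.repr_map bs bs (φ : L →ₗ⁅A⁆ L).toLinearMap _ j
  have y1 := hinv (bs 1) 1
  have y2 := hinv (bs 1) 2
  have z1 := hinv (bs 2) 1
  have z2 := hinv (bs 2) 2
  simp only [Module.Basis.repr_self, Finsupp.single_eq_same, hd', hg', zero_mul, zero_add,
    Finsupp.single_eq_of_ne (show (2 : Fin 3) ≠ 1 by decide), Finsupp.single_eq_of_ne (show (1 : Fin 3) ≠ 2 by decide)] at y1 y2 z1 z2
  set a := bs.repr (φ (bs 0)) 0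
  set b := bs.repr (φ (bs 0)) 1; set c := bs.repr (φ (bs 0)) 2
  set e := bs.repr (φ (bs 1)) 1; set f := bs.repr (φ (bs 1)) 2
  set h := bs.repr (φ (bs 2)) 1; set i := bs.repr (φ (bs 2)) 2
  set e' := bs.repr (φ.symm (bs 1)) 1; set f' := bs.repr (φ.symm (bs 1)) 2
  set h' := bs.repr (φ.symm (bs 2)) 1; set i' := bs.repr (φ.symm (bs 2)) 2
  have hD : (e * i - f * h) * (e' * i' - f' * h') = 1 := by
    linear_combination (-1 : A) * ((h' * f + i' * i) * y1) - z2 + (e' * f + f' * i) * z1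
  have hh : (a - s) * h = 0 := by linear_combination -h1
  have hi : s * (a - 1) * i = 0 := by linear_combination -i1
  have hφx : a = 1 → φ (bs 0) = bs 0 + b • bs 1 + c • bs 2 := by
    intro ha
    conv_lhs => rw [Groth.L25.Lie3.eq_combination bs (φ (bs 0))]
    rw [show bs.repr (φ (bs 0)) 0 = 1 from ha, one_smul]
  have hφy : φ (bs 1) = e • bs 1 + f • bs 2 := by
    conv_lhs => rw [Groth.L25.Lie3.eq_combination bs (φ (bs 1))]
    rw [hd]; simp [e, f]
  have hφz : φ (bs 2) = h • bs 1 + i • bs 2 := by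
    conv_lhs => rw [Groth.L25.Lie3.eq_combination bs (φ (bs 2))]
    rw [hg]; simp [h, i]
  constructor
  · intro hα2
    have hne : IsUnit (s ^ 2 - 1) := by
      have := (isUnit_iff_ne_zero.2 (sub_ne_zero.2 hα2)).map (algebraMap K A)
      simpa [hs] using this
    have hfh : f * h = 0 := by
      apply hne.mul_right_eq_zero.1
      linear_combination h * f1 - s * f * hh
    have hu : IsUnit (e * i) := IsUnit.of_mul_eq_one (e' * i' - f' * h') (by linear_combination hD + (e' * i' - f' * h') * hfh)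
    rw [IsUnit.mul_iff] at hu
    have ha : a = 1 := sub_eq_zero.1 (hu.1.mul_left_eq_zero.1 e1)
    have h1' : IsUnit (s - 1) := by
      have h2 : IsUnit ((s - 1) * (s + 1)) := by convert hne using 1; ring
      exact (IsUnit.mul_iff.1 h2).1
    have hf : f = 0 := h1'.mul_right_eq_zero.1 (by linear_combination f1 - s * f * ha)
    have hh0 : h = 0 := h1'.mul_right_eq_zero.1 (by linear_combination -hh + h * ha)
    exact ⟨b, c, e, i, hu.1, hu.2, hφx ha, by simpa [hf] using hφy, by simpa [hh0] using hφz⟩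
  · intro hα1
    have hs1 : s = 1 := by rw [hs, hα1, map_one]
    have hu : IsUnit (e * i - f * h) := IsUnit.of_mul_eq_one _ hD
    have ha : a = 1 := by
      refine sub_eq_zero.1 (hu.mul_left_eq_zero.1 ?_)
      linear_combination i * e1 - h * f1 + a * f * h * hs1
    exact ⟨b, c, e, f, h, i, hu, hφx ha, hφy, hφz⟩
end Groth.Agent.S13102
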