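import Groth.Statements.S13104
import Mathlib.AlgebraicGeometry.Morphisms.ClosedImmersion
import Mathlib.AlgebraicGeometry.Morphisms.SchemeTheoreticallyDominant

set_option autoImplicit false
universe u
open GrpSch

namespace Groth.Agent.S13104

open CategoryTheory AlgebraicGeometry in
theorem eq_of_comp_eq {X Y Z : Scheme.{u}} (f : X ⟶ Y) [Surjective f]
    (hf : ∀ U, Function.Injective (f.app U)) {u v : Y ⟶ Z} (h : f ≫ u = f ≫ v) : u = v := by
  have hb : u.base = v.base := by
    ext y
    obtain ⟨x, rfl⟩ := f.surjective y
    rw [← Scheme.Hom.comp_apply, ← Scheme.Hom.comp_apply, h]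
  refine Scheme.Hom.ext hb fun U => ?_
  ext s
  apply hf
  have := DFunLike.congr_fun (congrArg CommRingCat.Hom.hom (Scheme.Hom.congr_app h.symm U)) s
  simp only [CommRingCat.hom_comp, RingHom.coe_comp, Function.comp_apply] at this ⊢
  rw [← ConcreteCategory.comp_apply (Y.presheaf.map _), f.naturality]
  exact this.symm


open CategoryTheory AlgebraicGeometry in
/-- Let B be a commutative ring, B[ε] the ring of dual numbers (ε² = 0) and B[α, β]/(α², β²) the double
dual numbers, realised as dual numbers over the dual numbers with α the inner and β the outer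
generator, and let ψ : B[ε] → B[α, β]/(α², β²) be the B-algebra homomorphism with ψ(ε) = αβ. Then
for every scheme G the map u ↦ Spec(ψ) ≫ u from morphisms Spec B[ε] → G to morphisms Spec
B[α,β]/(α²,β²) → G is injective. (The printed statement is its consequence for a group scheme G: the
map Lie(G)(B) → G(B[α,β]/(α²,β²)), x ↦ exp(αβ x), is injective; the injectivity on all B[ε]-points
stated here is what the printed argument establishes.) -/
theorem result (B : Type u) [CommRing B]
    (ψ : DualNumber B →+* DualNumber (DualNumber B))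
    (hψB : ∀ b : B, ψ (algebraMap B (DualNumber B) b) = algebraMap B (DualNumber (DualNumber B)) b)
    (hψ : ψ DualNumber.eps = algebraMap (DualNumber B) (DualNumber (DualNumber B)) DualNumber.eps * DualNumber.eps)
    (G : Scheme.{u}) :
    Function.Injective (fun u : Spec (CommRingCat.of (DualNumber B)) ⟶ G =>
      Spec.map (CommRingCat.ofHom (R := DualNumber B) (S := DualNumber (DualNumber B)) ψ) ≫ u) := by
  have hform : ∀ x : DualNumber B, ψ x = algebraMap B (DualNumber (DualNumber B)) x.fst +
      algebraMap B (DualNumber (DualNumber B)) x.snd *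
        (algebraMap (DualNumber B) (DualNumber (DualNumber B)) DualNumber.eps * DualNumber.eps) := by
    intro x
    conv_lhs => rw [show x = algebraMap B (DualNumber B) x.fst + algebraMap B (DualNumber B) x.snd * DualNumber.eps by
      show x = TrivSqZeroExt.inl x.fst + TrivSqZeroExt.inl x.snd * TrivSqZeroExt.inr 1
      ext <;> simp]
    rw [map_add, map_mul, hψ, hψB, hψB]
  have hinj : Function.Injective ψ := by
    rw [injective_iff_map_eq_zero]
    intro x hx
    rw [hform] at hx
    change TrivSqZeroExt.inl (TrivSqZeroExt.inl x.fst) + TrivSqZeroExt.inl (TrivSqZeroExt.inl x.snd) *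
      (TrivSqZeroExt.inl (TrivSqZeroExt.inr 1) * TrivSqZeroExt.inr (1 : DualNumber B)) = 0 at hx
    ext
    · simpa using congrArg (fun w => w.fst.fst) hx
    · simpa using congrArg (fun w => w.snd.snd) hx
  have hsurj : Surjective (Spec.map (CommRingCat.ofHom (R := DualNumber B) (S := DualNumber (DualNumber B)) ψ)) := by
    refine (surjective_iff _).2 fun p => ?_
    let π : DualNumber (DualNumber B) →+* DualNumber B :=
      (TrivSqZeroExt.inlHom B B).comp ((TrivSqZeroExt.fstHom B B B).toRingHom.comp
        (TrivSqZeroExt.fstHom (DualNumber B) (DualNumber B) (DualNumber B)).toRingHom)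
    have := p.isPrime
    refine ⟨⟨p.asIdeal.comap π, inferInstance⟩, PrimeSpectrum.ext ?_⟩
    ext x
    show π (ψ x) ∈ p.asIdeal ↔ x ∈ p.asIdeal
    have hpe : π (ψ x) = TrivSqZeroExt.inl x.fst := by
      rw [hform]
      show TrivSqZeroExt.inl (TrivSqZeroExt.fst (TrivSqZeroExt.fst (TrivSqZeroExt.inl (TrivSqZeroExt.inl x.fst) + TrivSqZeroExt.inl (TrivSqZeroExt.inl x.snd) *
      (TrivSqZeroExt.inl (TrivSqZeroExt.inr 1) * TrivSqZeroExt.inr (1 : DualNumber B))))) = _
      simp
    have heps : x - TrivSqZeroExt.inl x.fst ∈ p.asIdeal := by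
      refine p.isPrime.mem_of_pow_mem 2 ?_
      have : (x - TrivSqZeroExt.inl x.fst) ^ 2 = 0 := by
        rw [pow_two]; ext <;> simp
      rw [this]; exact Submodule.zero_mem _
    rw [hpe]
    exact ⟨fun h => by simpa using Ideal.add_mem _ h heps, fun h => by simpa using Ideal.sub_mem _ h heps⟩
  intro u v h
  refine eq_of_comp_eq (Spec.map (CommRingCat.ofHom (R := DualNumber B) (S := DualNumber (DualNumber B)) ψ)) ?_ h
  have : IsSchemeTheoreticallyDominant
      (Spec.map (CommRingCat.ofHom (R := DualNumber B) (S := DualNumber (DualNumber B)) ψ)) := by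
    refine ⟨Scheme.IdealSheafData.ext_of_isAffine ?_⟩
    rw [Scheme.Hom.ker_apply, Scheme.IdealSheafData.ideal_bot, Pi.bot_apply, ← RingHom.injective_iff_ker_eq_bot]
    intro a b hab
    apply (ConcreteCategory.bijective_of_isIso (Scheme.ΓSpecIso (CommRingCat.of (DualNumber B))).hom).1
    apply hinj
    have := congrArg (Scheme.ΓSpecIso (CommRingCat.of (DualNumber (DualNumber B)))).hom hab
    have nat := fun c => DFunLike.congr_fun (congrArg CommRingCat.Hom.hom
      (Scheme.ΓSpecIso_naturality (CommRingCat.ofHom (R := DualNumber B) (S := DualNumber (DualNumber B)) ψ))) c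
    exact (nat a).symm.trans (this.trans (nat b))
  exact fun U => Scheme.Hom.app_injective _ U
end Groth.Agent.S13104
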