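import Groth.Statements.S13105
import Groth.Agent.L08.Lie3.Chart

set_option autoImplicit false
universe u
open Lie3Mod

namespace Groth.Agent.S13105
open Groth.L08.Lie3
open MvPolynomial

open MvPolynomial in
/-- Let k be a field, t ∈ k, D = k[a,b,c,d,e,f,g,h,i] and J = (Q1, Q2, Q3, det M) with Q1 = ah + di − fg
− bg, Q2 = ie + bd − fh − ae, Q3 = hc + dc − af − bi, det M = −ch² + gbf + ei² − gec + hbi − ihf.
The maximal ideal (a, b − 1, c, d, e, f − t, g, h, i) of D contains J (it is the point given by the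
Lie algebra with [x,y] = y, [x,z] = t z, [y,z] = 0), and the localization of D/J at the
corresponding prime is a regular local ring of Krull dimension 6: the scheme Spec(D/J) has a smooth
k-rational point. -/
theorem result (k : Type u) [Field k] (t : k)
    (P : Ideal (Lie3Mod.D k ⧸ Lie3Mod.idJ k)) [P.IsPrime]
    (hP : P = Ideal.map (Ideal.Quotient.mk (Lie3Mod.idJ k))
      (Ideal.span ({X 0, X 1 - 1, X 2, X 3, X 4, X 5 - C t, X 6, X 7, X 8} : Set (Lie3Mod.D k)))) :
    IsRegularLocalRing (Localization.AtPrime P) ∧ ringKrullDim (Localization.AtPrime P) = 6 := by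
  let a : Fin 9 → k := ![0, 1, 0, 0, 0, t, 0, 0, 0]
  have ha : ∀ q ∈ Lie3Mod.idJ k, eval a q = 0 := by
    intro q hq
    refine (Ideal.span_le.2 ?_ : Lie3Mod.idJ k ≤ RingHom.ker (eval a)) hq
    rintro x (rfl | rfl | rfl | rfl) <;>
      simp [a, Lie3Mod.Q1, Lie3Mod.Q2, Lie3Mod.Q3, Lie3Mod.detM]
  have hrange : Ideal.span ({X 0, X 1 - 1, X 2, X 3, X 4, X 5 - C t, X 6, X 7, X 8} :
      Set (Lie3Mod.D k)) = RingHom.ker (eval a) := by
    rw [ker_eval_eq_span]
    refine le_antisymm (Ideal.span_le.2 ?_) (Ideal.span_le.2 ?_)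
    · rintro x (rfl | rfl | rfl | rfl | rfl | rfl | rfl | rfl | rfl)
      · exact Ideal.subset_span ⟨0, by simp [a]⟩
      · exact Ideal.subset_span ⟨1, by simp [a]⟩
      · exact Ideal.subset_span ⟨2, by simp [a]⟩
      · exact Ideal.subset_span ⟨3, by simp [a]⟩
      · exact Ideal.subset_span ⟨4, by simp [a]⟩
      · exact Ideal.subset_span ⟨5, by simp [a]⟩
      · exact Ideal.subset_span ⟨6, by simp [a]⟩
      · exact Ideal.subset_span ⟨7, by simp [a]⟩
      · exact Ideal.subset_span ⟨8, by simp [a]⟩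
    · rintro _ ⟨i, rfl⟩
      refine Ideal.subset_span ?_
      fin_cases i <;> simp [a]
  have hPm : ∀ q, Ideal.Quotient.mk (Lie3Mod.idJ k) q ∈ P ↔ eval a q = 0 := by
    intro q
    rw [hP, hrange, Ideal.mem_map_iff_of_surjective _ Ideal.Quotient.mk_surjective]
    refine ⟨?_, fun h => ⟨q, h, rfl⟩⟩
    rintro ⟨r, hr, he⟩
    have := ha _ ((Ideal.Quotient.mk_eq_mk_iff_sub_mem _ _).1 he)
    rw [map_sub, RingHom.mem_ker.1 hr] at this
    simpa using this
  by_cases ht : t = 0
  · exact regular_at_point (chartU k) a ha (by simp [chartU, a, Lie3Mod.L2, ht]) P hPm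
  · exact regular_at_point (chartW k) a ha (by simp [chartW, a, ht]) P hPm

end Groth.Agent.S13105
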