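import Groth.Statements.S13106
import Mathlib.AlgebraicGeometry.Morphisms.Separated
import Mathlib.AlgebraicGeometry.Morphisms.ClosedImmersion

set_option autoImplicit false
universe u
open GrpSch

namespace Groth.Agent.S13106

open CategoryTheory AlgebraicGeometry in
/-- Let f : X → Y be a morphism of schemes and U ⊆ Y a schematically dense open subscheme (for every
open V of Y, restriction of functions from V to V ∩ U is injective) such that the restriction f⁻¹(U)
→ U of f is an isomorphism. Then two morphisms from Y to a scheme separated over a base T that agree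
after composing with f and have the same composite to T are equal: if Z → T is separated and v₁, v₂
: Y → Z satisfy v₁ ≫ (Z → T) = v₂ ≫ (Z → T) and f ≫ v₁ = f ≫ v₂, then v₁ = v₂. (The published
statement is the case of a morphism between two prolongations over A[[t]] of a finite group scheme
over A((t)), where U is the generic fibre, schematically dense by flatness; uniqueness of
prolongation maps follows.) -/
theorem result {X Y Z T : Scheme.{u}} (f : X ⟶ Y)
    (U : Y.Opens) (hU : CInt.IsSchematicallyDense U) [IsIso (f ∣_ U)]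
    (z : Z ⟶ T) [IsSeparated z] (v₁ v₂ : Y ⟶ Z) (hz : v₁ ≫ z = v₂ ≫ z) (h : f ≫ v₁ = f ≫ v₂) :
    v₁ = v₂ := by
  have hU' : U.ι ≫ v₁ = U.ι ≫ v₂ := by
    rw [← cancel_epi (f ∣_ U), morphismRestrict_ι_assoc, morphismRestrict_ι_assoc, h]
  let Y' : Over T := Over.mk (v₁ ≫ z)
  let Z' : Over T := Over.mk z
  have : IsSeparated Z'.hom := ‹IsSeparated z›
  let a : Y' ⟶ Z' := Over.homMk v₁
  let b : Y' ⟶ Z' := Over.homMk v₂ hz.symm
  let e := Limits.equalizer.ι a b
  have hcond : e.left ≫ v₁ = e.left ≫ v₂ := congrArg CommaMorphism.left (Limits.equalizer.condition a b)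
  let j : Over.mk (U.ι ≫ v₁ ≫ z) ⟶ Y' := Over.homMk U.ι
  let l := Limits.equalizer.lift (f := a) (g := b) j (by ext; exact hU')
  have hfac : l.left ≫ e.left = U.ι := congrArg CommaMorphism.left (Limits.equalizer.lift_ι (f := a) (g := b) j _)
  have hker : e.left.ker = ⊥ := by
    refine le_antisymm (fun V => ?_) bot_le
    rw [Scheme.Hom.ker_apply]
    intro s hs
    simp only [Scheme.IdealSheafData.ideal_bot, Pi.bot_apply, Ideal.mem_bot]
    apply hU V.1
    refine Eq.trans ?_ (map_zero _).symm
    rw [RingHom.mem_ker] at hs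
    have h0 : U.ι.app V.1 s = 0 := by
      refine (DFunLike.congr_fun (congrArg CommRingCat.Hom.hom (Scheme.Hom.congr_app hfac.symm V.1)) s).trans ?_
      exact (congrArg _ ((congrArg (l.left.app _) hs).trans (map_zero _))).trans (map_zero (CommRingCat.Hom.hom ((U : Scheme.{u}).presheaf.map _)))
    rw [Scheme.Opens.ι_app] at h0
    have h2 := congrArg (Y.presheaf.map (homOfLE (show V.1 ⊓ U ≤ U.ι ''ᵁ (U.ι ⁻¹ᵁ V.1) by
      rw [Scheme.Hom.image_preimage_eq_opensRange_inf, Scheme.Opens.opensRange_ι, inf_comm])).op) h0
    erw [map_zero, ← ConcreteCategory.comp_apply, ← Functor.map_comp] at h2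
    exact h2
  have : IsIso e.left := IsClosedImmersion.isIso_iff_ker_eq_bot.2 hker
  exact (cancel_epi e.left).1 hcond
end Groth.Agent.S13106
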