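import Groth.Statements.S13107
import Groth.Agent.L25.Lie3

set_option autoImplicit false
universe u v w
open GrpSch

namespace Groth.Agent.S13107

/-- Let k be a field, K = k((t)) the field of Laurent series over k, F a Lie algebra over K with a basis
x' = bF 0, y' = bF 1, z' = bF 2 and brackets [x',y'] = z', [x',z'] = t y', [y',z'] = 0, and L a Lie
algebra over K with a basis x = bL 0, y = bL 1, z = bL 2 and brackets [x,y] = y, [x,z] = −z, [y,z] =
0. Then there is no K-linear isomorphism of Lie algebras between L and F: F is a non-trivial form of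
L over K. (The published result is the classification of three-dimensional Lie algebras over k((t))
for k algebraically closed of characteristic not 2, with F its only non-split entry; this row states
the non-isomorphism of F and L over k((t)) for every field k.) -/
theorem result (k : Type u) [Field k]
    (F : Type v) [LieRing F] [LieAlgebra (LaurentSeries k) F] (bF : Module.Basis (Fin 3) (LaurentSeries k) F)
    (hF01 : ⁅bF 0, bF 1⁆ = bF 2) (hF02 : ⁅bF 0, bF 2⁆ = (HahnSeries.single 1 (1 : k) : LaurentSeries k) • bF 1)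
    (hF12 : ⁅bF 1, bF 2⁆ = 0)
    (L : Type w) [LieRing L] [LieAlgebra (LaurentSeries k) L] (bL : Module.Basis (Fin 3) (LaurentSeries k) L)
    (hL01 : ⁅bL 0, bL 1⁆ = bL 1) (hL02 : ⁅bL 0, bL 2⁆ = -bL 2) (hL12 : ⁅bL 1, bL 2⁆ = 0) :
    IsEmpty (L ≃ₗ⁅LaurentSeries k⁆ F) := by
  refine ⟨fun φ => ?_⟩
  set t : LaurentSeries k := HahnSeries.single 1 (1 : k)
  have hy : φ (bL 1) = ⁅φ (bL 0), φ (bL 1)⁆ := by rw [← LieEquiv.map_lie, hL01]
  obtain ⟨e0, e1, e2⟩ := Groth.L25.Lie3.repr_bracket bF 0 1 t 0 (by simp [hF01]) (by simp [hF02]) hF12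
    (φ (bL 0)) (φ (bL 1))
  rw [← hy] at e0 e1 e2
  simp only [e0, mul_zero, sub_zero, zero_add, add_zero, mul_one] at e1 e2
  set a := bF.repr (φ (bL 0)) 0
  set e := bF.repr (φ (bL 1)) 1
  set f := bF.repr (φ (bL 1)) 2
  by_cases he : e = 0
  · apply bL.ne_zero 1
    apply φ.injective
    have hw := Groth.L25.Lie3.eq_combination bF (φ (bL 1))
    have hf0 : f = 0 := by rw [e2, he, mul_zero]
    simp only [e0, show bF.repr (φ (bL 1)) 1 = 0 from he, show bF.repr (φ (bL 1)) 2 = 0 from hf0,
      zero_smul, add_zero] at hw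
    simpa using hw
  · have h1 : a * a * t = 1 := by
      refine mul_right_cancel₀ he ?_
      rw [one_mul]
      nth_rewrite 2 [e1]
      rw [e2]
      ring
    have ht0 : t ≠ 0 := HahnSeries.single_ne_zero one_ne_zero
    have ha0 : a ≠ 0 := by intro h; simp [h] at h1
    have := congrArg HahnSeries.order h1
    have hlc : ∀ {x : LaurentSeries k}, x ≠ 0 → x.leadingCoeff ≠ 0 := fun h => HahnSeries.leadingCoeff_ne_zero.2 h
    rw [HahnSeries.order_mul_of_ne_zero (mul_ne_zero (hlc (mul_ne_zero ha0 ha0)) (hlc ht0)),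
      HahnSeries.order_mul_of_ne_zero (mul_ne_zero (hlc ha0) (hlc ha0)),
      HahnSeries.order_single one_ne_zero, HahnSeries.order_one] at this
    omega
end Groth.Agent.S13107
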