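import Groth.Statements.S13108
import Groth.Agent.L25.Lie3
import Mathlib.LinearAlgebra.Basis.Fin
import Mathlib.LinearAlgebra.Basis.SMul
import Mathlib.Tactic.LinearCombination

set_option autoImplicit false
universe u v w
open GrpSch

namespace Groth.Agent.S13108

theorem exists_equiv {k : Type u} [Field k] (t t' a : k)
    (L : Type v) [LieRing L] [LieAlgebra k L] (b : Module.Basis (Fin 3) k L)
    (h01 : ⁅b 0, b 1⁆ = b 1) (h02 : ⁅b 0, b 2⁆ = t • b 2) (h12 : ⁅b 1, b 2⁆ = 0)
    (L' : Type w) [LieRing L'] [LieAlgebra k L'] (b' : Module.Basis (Fin 3) k L')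
    (h01' : ⁅b' 0, b' 1⁆ = b' 1) (h02' : ⁅b' 0, b' 2⁆ = t' • b' 2) (h12' : ⁅b' 1, b' 2⁆ = 0)
    (σ : Fin 3 ≃ Fin 3) (hσ : σ 0 = 0) (ha : IsUnit a) (he : ⁅a • b' 0, b' (σ 1)⁆ = b' (σ 1))
    (hi : ⁅a • b' 0, b' (σ 2)⁆ = t • b' (σ 2)) (h0 : ⁅b' (σ 1), b' (σ 2)⁆ = 0) : Nonempty (L ≃ₗ⁅k⁆ L') := by
  let w : Fin 3 → kˣ := ![ha.unit, 1, 1]
  let B := (b'.reindex σ.symm).unitsSMul w
  have hB0 : B 0 = a • b' 0 := by simp [B, w, Module.Basis.unitsSMul_apply, hσ, Units.smul_def]
  have hB1 : B 1 = b' (σ 1) := by simp [B, w, Module.Basis.unitsSMul_apply]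
  have hB2 : B 2 = b' (σ 2) := by simp [B, w, Module.Basis.unitsSMul_apply]
  let e := b.equiv B (Equiv.refl _)
  have he' : ∀ i, e (b i) = B i := fun i => by simp [e]
  refine ⟨{ e with map_lie' := ?_ }⟩
  intro x y
  have h10 : ⁅b 1, b 0⁆ = -b 1 := by rw [← lie_skew, h01]
  have h20 : ⁅b 2, b 0⁆ = -(t • b 2) := by rw [← lie_skew, h02]
  have h21 : ⁅b 2, b 1⁆ = 0 := by rw [← lie_skew, h12, neg_zero]
  have g10 : ⁅B 1, B 0⁆ = -B 1 := by rw [← lie_skew, hB0, hB1, he]
  have g20 : ⁅B 2, B 0⁆ = -(t • B 2) := by rw [← lie_skew, hB0, hB2, hi]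
  have g21 : ⁅B 2, B 1⁆ = 0 := by rw [← lie_skew, hB1, hB2, h0, neg_zero]
  show e ⁅x, y⁆ = ⁅e x, e y⁆
  rw [Groth.L25.Lie3.eq_combination b x, Groth.L25.Lie3.eq_combination b y]
  simp only [add_lie, lie_add, smul_lie, lie_smul, lie_self, h01, h02, h12, h10, h20, h21, map_add, map_smul, map_neg,
    map_zero, he', g10, g20, g21]
  rw [hB0, hB1, hB2, he, hi, h0]


/-- Let k be a field and t, t' ∈ k both non-zero; let L be a Lie algebra over k with a basis x = b 0, y
= b 1, z = b 2 and brackets [x,y] = y, [x,z] = t z, [y,z] = 0, and L' a Lie algebra over k with a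
basis x' = b' 0, y' = b' 1, z' = b' 2 and brackets [x',y'] = y', [x',z'] = t' z', [y',z'] = 0. Then
L and L' are isomorphic Lie algebras over k if and only if t' = t or t' = t⁻¹. -/
theorem result (k : Type u) [Field k] (t t' : k) (ht : t ≠ 0) (ht' : t' ≠ 0)
    (L : Type v) [LieRing L] [LieAlgebra k L] (b : Module.Basis (Fin 3) k L)
    (h01 : ⁅b 0, b 1⁆ = b 1) (h02 : ⁅b 0, b 2⁆ = t • b 2) (h12 : ⁅b 1, b 2⁆ = 0)
    (L' : Type w) [LieRing L'] [LieAlgebra k L'] (b' : Module.Basis (Fin 3) k L')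
    (h01' : ⁅b' 0, b' 1⁆ = b' 1) (h02' : ⁅b' 0, b' 2⁆ = t' • b' 2) (h12' : ⁅b' 1, b' 2⁆ = 0) :
    Nonempty (L ≃ₗ⁅k⁆ L') ↔ (t' = t ∨ t' = t⁻¹) := by
  constructor
  · rintro ⟨φ⟩
    have M := Groth.L25.Lie3.repr_bracket b' 1 0 0 t' (by simp [h01']) (by simp [h02']) h12'
    have hy : φ (b 1) = ⁅φ (b 0), φ (b 1)⁆ := by rw [← LieEquiv.map_lie, h01]
    have hz : t • φ (b 2) = ⁅φ (b 0), φ (b 2)⁆ := by rw [← LieEquiv.map_lie, h02, map_smul]
    obtain ⟨d0, e1, f1⟩ := M (φ (b 0)) (φ (b 1)); rw [← hy] at d0 e1 f1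
    obtain ⟨g0, h1, i1⟩ := M (φ (b 0)) (φ (b 2)); rw [← hz, map_smul, Finsupp.smul_apply, smul_eq_mul] at g0 h1 i1
    have g0' : b'.repr (φ (b 2)) 0 = 0 := (mul_eq_zero.1 g0).resolve_left ht
    simp only [d0, g0', mul_zero, sub_zero, zero_add, add_zero, mul_one] at e1 f1 h1 i1
    set a := b'.repr (φ (b 0)) 0
    set e := b'.repr (φ (b 1)) 1; set f := b'.repr (φ (b 1)) 2
    set h := b'.repr (φ (b 2)) 1; set i := b'.repr (φ (b 2)) 2
    have hφy : φ (b 1) = e • b' 1 + f • b' 2 := by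
      conv_lhs => rw [Groth.L25.Lie3.eq_combination b' (φ (b 1))]
      simp [d0, e, f]
    have hφz : φ (b 2) = h • b' 1 + i • b' 2 := by
      conv_lhs => rw [Groth.L25.Lie3.eq_combination b' (φ (b 2))]
      simp [g0', h, i]
    have hind : e * i - f * h ≠ 0 := by
      intro hdet
      have hc : ∀ x y : k, x • φ (b 1) + y • φ (b 2) = 0 → x = 0 ∧ y = 0 := by
        intro x y hxy
        have hxy' : x • b 1 + y • b 2 = 0 := φ.injective (by simpa using hxy)
        have h1 := congrArg (fun v => b.repr v 1) hxy'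
        have h2 := congrArg (fun v => b.repr v 2) hxy'
        simp [Module.Basis.repr_self] at h1 h2
        exact ⟨h1, h2⟩
      obtain ⟨hi0, hf0⟩ := hc i (-f) (by
        rw [hφy, hφz]
        match_scalars <;> first | linear_combination hdet | linear_combination -hdet | ring)
      obtain ⟨hh0, he0⟩ := hc h (-e) (by
        rw [hφy, hφz]
        match_scalars <;> first | linear_combination hdet | linear_combination -hdet | ring)
      have := (hc 1 0 (by rw [hφy, neg_eq_zero.1 he0, neg_eq_zero.1 hf0]; simp)).1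
      exact one_ne_zero this
    rcases eq_or_ne e 0 with he | he
    · right
      have hf : f ≠ 0 := fun hf => hind (by rw [he, hf]; ring)
      have hh : h ≠ 0 := fun hh => hind (by rw [he, hh]; ring)
      have h4 : a * t' = 1 := mul_right_cancel₀ hf (by linear_combination -f1)
      have h5 : t = a := mul_right_cancel₀ hh (by linear_combination h1)
      rw [h5]; exact eq_inv_of_mul_eq_one_right h4
    · have ha : a = 1 := mul_right_cancel₀ he (by linear_combination -e1)
      rcases eq_or_ne i 0 with hi | hi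
      · left
        have hh : h ≠ 0 := fun hh => hind (by rw [hi, hh]; ring)
        have hf : f ≠ 0 := fun hf => hind (by rw [hi, hf]; ring)
        have h4 : t = 1 := mul_right_cancel₀ hh (by rw [h1, ha])
        have h5 : t' = 1 := mul_right_cancel₀ hf (by rw [ha] at f1; linear_combination -f1)
        rw [h4, h5]
      · left
        exact (mul_right_cancel₀ hi (by rw [ha] at i1; linear_combination i1)).symm
  · rintro (rfl | rfl)
    · exact exists_equiv t' t' 1 L b h01 h02 h12 L' b' h01' h02' h12' (Equiv.refl _) rfl isUnit_one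
        (by simpa using h01') (by simpa using h02') (by simpa using h12')
    · refine exists_equiv t t⁻¹ t L b h01 h02 h12 L' b' h01' h02' h12' (Equiv.swap 1 2) (by decide) ht.isUnit ?_ ?_ ?_
      · rw [Equiv.swap_apply_left, smul_lie, h02', smul_smul, mul_inv_cancel₀ ht, one_smul]
      · rw [Equiv.swap_apply_right, smul_lie, h01']
      · rw [Equiv.swap_apply_left, Equiv.swap_apply_right, ← lie_skew, h12', neg_zero]
end Groth.Agent.S13108
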