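import Groth.Statements.S13111
import Groth.Agent.L28.PtFun.Spec
import Mathlib.RingTheory.DiscreteValuationRing.Basic

set_option autoImplicit false
universe u
open HTop

namespace Groth.Agent.S13111

section aux

open AlgebraicGeometry W4c1hilbchowinc CategoryTheory

variable {A : Type u} [CommRing A]

local instance (p : PrimeSpectrum A) : p.asIdeal.IsPrime := p.isPrime

open Classical in
noncomputable def g₀ (x y : A) (p : PrimeSpectrum A) : p.asIdeal.ResidueField :=
  algebraMap A p.asIdeal.ResidueField y / algebraMap A p.asIdeal.ResidueField x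

lemma g₀_sq {x y : A} (hxy : x ^ 3 = y ^ 2) (p : PrimeSpectrum A) :
    g₀ x y p ^ 2 = algebraMap A p.asIdeal.ResidueField x ∧
      g₀ x y p ^ 3 = algebraMap A p.asIdeal.ResidueField y := by
  have h := congrArg (algebraMap A p.asIdeal.ResidueField) hxy
  rw [map_pow, map_pow] at h
  unfold g₀
  by_cases hx : algebraMap A p.asIdeal.ResidueField x = 0
  · rw [hx] at h ⊢
    have hy : algebraMap A p.asIdeal.ResidueField y = 0 := by
      rw [← pow_eq_zero_iff two_ne_zero, ← h]; ring
    rw [hy]; simp
  · rw [div_pow, div_pow, div_eq_iff (pow_ne_zero _ hx), div_eq_iff (pow_ne_zero _ hx)]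
    refine ⟨by rw [← h]; ring, by rw [h]; ring⟩

lemma eq_g₀ {x y b : A} (hb : x = b ^ 2 ∧ y = b ^ 3) (p : PrimeSpectrum A) :
    algebraMap A p.asIdeal.ResidueField b = g₀ x y p := by
  obtain ⟨rfl, rfl⟩ := hb
  unfold g₀
  rw [map_pow, map_pow]
  by_cases hb0 : algebraMap A p.asIdeal.ResidueField b = 0
  · rw [hb0]; simp
  · rw [eq_div_iff (pow_ne_zero _ hb0)]; ring

lemma varies_g₀ {x y : A} (hxy : x ^ 3 = y ^ 2) (R : Type u) [CommRing R] [IsDomain R]
    [IsDiscreteValuationRing R] (φ : A →+* R) :
    ∃ r : R, ∀ (Q : PrimeSpectrum R) (p : PrimeSpectrum A) (h : p.asIdeal = Q.asIdeal.comap φ),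
      algebraMap R Q.asIdeal.ResidueField r = Ideal.ResidueField.map p.asIdeal Q.asIdeal φ h (g₀ x y p) := by
  have key : ∃ r : R, r ^ 2 = φ x ∧ r ^ 3 = φ y := by
    have h' : φ x ^ 3 = φ y ^ 2 := by rw [← map_pow, ← map_pow, hxy]
    by_cases hx : φ x = 0
    · refine ⟨0, by rw [hx]; ring, ?_⟩
      rw [hx] at h'
      have : φ y = 0 := by rw [← pow_eq_zero_iff two_ne_zero, ← h']; ring
      rw [this]; ring
    · have hX : algebraMap R (FractionRing R) (φ x) ≠ 0 :=
        (map_ne_zero_iff _ (IsFractionRing.injective R _)).2 hx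
      let a : FractionRing R := algebraMap R _ (φ y) / algebraMap R _ (φ x)
      have ha2 : a ^ 2 = algebraMap R _ (φ x) := by
        show (_ / _) ^ 2 = _
        rw [div_pow, div_eq_iff (pow_ne_zero _ hX), ← map_pow (algebraMap R (FractionRing R)),
          ← map_pow (algebraMap R (FractionRing R)), ← h', ← map_mul]
        congr 1; ring
      obtain ⟨r, hr⟩ := IsIntegrallyClosed.exists_algebraMap_eq_of_isIntegral_pow (R := R) two_pos
        (x := a) (ha2 ▸ isIntegral_algebraMap)
      have hr2 : r ^ 2 = φ x := IsFractionRing.injective R (FractionRing R) (by rw [map_pow, hr, ha2])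
      refine ⟨r, hr2, IsFractionRing.injective R (FractionRing R) ?_⟩
      rw [map_pow, hr, pow_succ, ha2]
      exact mul_div_cancel₀ _ hX
  obtain ⟨r, hr⟩ := key
  refine ⟨r, fun Q p h => ?_⟩
  have e1 : algebraMap R Q.asIdeal.ResidueField r =
      algebraMap R Q.asIdeal.ResidueField (φ y) / algebraMap R Q.asIdeal.ResidueField (φ x) :=
    eq_g₀ ⟨hr.1.symm, hr.2.symm⟩ Q
  rw [e1, g₀, map_div₀, Ideal.ResidueField.map_algebraMap, Ideal.ResidueField.map_algebraMap]

end aux

open AlgebraicGeometry W4c1hilbchowinc in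
/-- Let A be a reduced Noetherian ring whose integral closure in its total ring of fractions is a finite
A-module. Suppose that any pointwise function on Spec A that is algebraic along every discrete
valuation ring (for every discrete valuation ring R and every morphism Spec R → Spec A there is an
element of R whose values at the two points of Spec R are the images of the chosen values) is the
family of values of exactly one global section. Then A is seminormal: whenever x^3 = y^2 there is
exactly one a with x = a^2 and y = a^3. Test rings range over the universe of A. -/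
theorem result
    (A : Type u) [CommRing A] [IsReduced A] [IsNoetherianRing A]
    (hfin : Module.Finite A (integralClosure A (FractionRing A)))
    (h : ∀ f : PtFun (Spec (CommRingCat.of A)), f.VariesAlongDVR →
      ∃! a : Γ(Spec (CommRingCat.of A), ⊤), PtFun.ofSection (Spec (CommRingCat.of A)) a = f) :
    HTop.IsSeminormalRing A := by
  intro x y hxy
  let e := fun p : Spec (CommRingCat.of A) => AlgebraicGeometry.Scheme.Spec.residueFieldIso (CommRingCat.of A) p
  let f : PtFun (Spec (CommRingCat.of A)) := fun p => (e p).inv (g₀ x y p)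
  have hf : ∀ p, Groth.L28.PtFun.toIdealRF p (f p) = g₀ x y p := fun p =>
    congr($((e p).inv_hom_id).hom (g₀ x y p))
  have hv : f.VariesAlongDVR := by
    intro R _ _ _ g
    obtain ⟨φ, rfl⟩ : ∃ φ : A →+* R, g = Spec.map (CommRingCat.ofHom φ) :=
      ⟨(Spec.preimage g).hom, (Spec.map_preimage g).symm⟩
    obtain ⟨r, hr⟩ := varies_g₀ hxy R φ
    refine ⟨(Scheme.ΓSpecIso (CommRingCat.of R)).inv r, funext fun Q => Groth.L28.PtFun.toIdealRF_injective Q ?_⟩
    refine (Groth.L28.PtFun.toIdealRF_evaluation Q _).trans ?_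
    refine Eq.trans ?_ (Groth.L28.PtFun.toIdealRF_naturality φ Q _).symm
    rw [hf]
    refine Eq.trans (congrArg _ ?_) (hr Q _ rfl)
    exact congr($((Scheme.ΓSpecIso (CommRingCat.of R)).inv_hom_id).hom r)
  obtain ⟨s, hs, -⟩ := h f hv
  let a : A := (Scheme.ΓSpecIso (CommRingCat.of A)).hom s
  have ha : ∀ p : PrimeSpectrum A, algebraMap A p.asIdeal.ResidueField a = g₀ x y p := fun p => by
    refine (Groth.L28.PtFun.toIdealRF_evaluation p s).symm.trans ?_
    exact (congrArg (Groth.L28.PtFun.toIdealRF p) (congrFun hs p)).trans (hf p)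
  refine ⟨a, ⟨?_, ?_⟩, fun b hb => ?_⟩
  · exact Groth.L28.PtFun.eq_of_values fun p => by rw [map_pow, ha, (g₀_sq hxy p).1]
  · exact Groth.L28.PtFun.eq_of_values fun p => by rw [map_pow, ha, (g₀_sq hxy p).2]
  · exact Groth.L28.PtFun.eq_of_values fun p => by rw [ha, eq_g₀ hb p]

end Groth.Agent.S13111
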