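import Groth.Statements.S13112
import Groth.Agent.L15.SemiIso
import Groth.Agent.L20.RedGeneric
import Mathlib.AlgebraicGeometry.ZariskisMainTheorem
-- import your own Groth.Agent.* helpers here

set_option autoImplicit false
universe u
open HTop

open CategoryTheory CategoryTheory.Limits

namespace Groth.Agent.S13112

open CategoryTheory AlgebraicGeometry in
/-- Let k be a field, T a seminormal scheme of finite type over k, and f : X → Y a proper universally
injective k-morphism of schemes locally of finite type over k. If a morphism of schemes g : T → Y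
lifts through f at every point of T, i.e. for every t the composite Spec κ(t) → T → Y factors
through f, then g itself factors through f. -/
theorem result
    {k : Type u} [Field k] {T X Y : Scheme.{u}}
    (sT : T ⟶ Spec (CommRingCat.of k)) (sX : X ⟶ Spec (CommRingCat.of k)) (sY : Y ⟶ Spec (CommRingCat.of k))
    [LocallyOfFiniteType sT] [QuasiCompact sT] [LocallyOfFiniteType sX] [LocallyOfFiniteType sY]
    (hT : HTop.IsSeminormal T)
    (f : X ⟶ Y) (hf : f ≫ sY = sX) [IsProper f] [UniversallyInjective f]
    (g : T ⟶ Y)
    (hlift : ∀ t : T, ∃ l : Spec (T.residueField t) ⟶ X, l ≫ f = T.fromSpecResidueField t ≫ g) :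
    ∃ h : T ⟶ X, h ≫ f = g := by
  haveI : IsLocallyNoetherian T := LocallyOfFiniteType.isLocallyNoetherian sT
  let π := pullback.snd f g
  have hlift' : ∀ t : T, ∃ l : Spec (T.residueField t) ⟶ pullback f g, l ≫ π = T.fromSpecResidueField t :=
    fun t => by
      obtain ⟨l, hl⟩ := hlift t
      exact ⟨pullback.lift l (T.fromSpecResidueField t) hl, pullback.lift_snd _ _ _⟩
  let R := (pullback f g).nilradical.subscheme
  let ι : R ⟶ pullback f g := (pullback f g).nilradical.subschemeι
  haveI : IsReduced R := Groth.L20.RedGeneric.isReduced_nilradical_subscheme _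
  haveI : Surjective ι := ⟨fun z => by
    have : z ∈ Set.range ι := by
      rw [Scheme.IdealSheafData.range_subschemeι, Scheme.support_nilradical]
      trivial
    exact this⟩
  let ρ := ι ≫ π
  haveI : UniversallyInjective π := CategoryTheory.MorphismProperty.pullback_snd f g ‹_›
  haveI : UniversallyInjective ι := inferInstance
  haveI : UniversallyInjective ρ := CategoryTheory.MorphismProperty.comp_mem @UniversallyInjective ι π ‹_› ‹_›
  haveI : IsProper π := CategoryTheory.MorphismProperty.pullback_snd f g ‹_›
  haveI : IsProper ρ := inferInstance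
  haveI : LocallyQuasiFinite ρ := LocallyQuasiFinite.of_injective ρ.injective
  haveI : IsFinite ρ := (IsFinite.iff_isProper_and_locallyQuasiFinite ρ).mpr ⟨inferInstance, inferInstance⟩
  have hpt : ∀ t : T, ∃ l : Spec (T.residueField t) ⟶ R, l ≫ ρ = T.fromSpecResidueField t := by
    intro t
    obtain ⟨l, hl⟩ := hlift' t
    obtain ⟨l', hl'⟩ := Groth.L15.SemiIso.exists_lift_of_surjective ι l
    exact ⟨l', by rw [← Category.assoc, hl', hl]⟩
  haveI : IsIso ρ := by
    refine Groth.L15.SemiIso.isIso_of_finite_residual ρ hT ⟨ρ.injective, fun t => ?_⟩ fun w => ?_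
    · obtain ⟨l, hl⟩ := hpt t
      exact ⟨l (IsLocalRing.closedPoint _), by
        rw [← Scheme.Hom.comp_apply, hl, Scheme.fromSpecResidueField_apply]⟩
    · obtain ⟨l, hl⟩ := hpt (ρ w)
      exact Groth.L15.SemiIso.residueFieldMap_surjective ρ w l hl
  have h1 : inv ρ ≫ ι ≫ π = 𝟙 T := IsIso.inv_hom_id ρ
  refine ⟨inv ρ ≫ ι ≫ pullback.fst f g, ?_⟩
  calc (inv ρ ≫ ι ≫ pullback.fst f g) ≫ f = (inv ρ ≫ ι ≫ π) ≫ g := by
        simp only [Category.assoc, pullback.condition, π]
    _ = g := by rw [h1, Category.id_comp]

end Groth.Agent.S13112
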