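import Groth.Statements.S13113
import Groth.Agent.L15.SemiDescend
-- import your own Groth.Agent.* helpers here

set_option autoImplicit false
universe u
open HTop

namespace Groth.Agent.S13113

open CategoryTheory CategoryTheory.Limits AlgebraicGeometry in
/-- Let k be a field, X a seminormal scheme of finite type over k and π : Y → X a proper surjective
morphism with Y reduced. Then a global section s of the structure sheaf of Y whose pullbacks along
the two projections Y ×_X Y → Y coincide is the pullback along π of exactly one global section of
the structure sheaf of X. (The published statement also treats non-reduced Y, where the structure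
sheaf of X is only a canonical direct summand of the equaliser; this row is the reduced case, where
the two agree.) -/
theorem result
    {k : Type u} [Field k] {X Y : Scheme.{u}} (sX : X ⟶ Spec (CommRingCat.of k))
    [LocallyOfFiniteType sX] [QuasiCompact sX] (hX : HTop.IsSeminormal X)
    (π : Y ⟶ X) [IsProper π] [Surjective π] [IsReduced Y]
    (s : Γ(Y, ⊤)) (hs : (pullback.fst π π).appTop s = (pullback.snd π π).appTop s) :
    ∃! t : Γ(X, ⊤), π.appTop t = s := by
  haveI : IsReduced X := (Groth.Agent.S7421.result.{u}).2 X hX
  obtain ⟨f, hf⟩ := Groth.L15.SemiDescend.exists_ptFun π s hs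
  obtain ⟨t, ht⟩ := Groth.L15.SemiDescend.exists_section sX hX f
    (Groth.L15.SemiDescend.variesAlongDVR_of_pullback π s hf)
  refine ⟨t, ?_, ?_⟩
  · apply Groth.L15.SemiDescend.eq_of_evaluation
    intro y _
    have h1 := congrFun (Groth.L15.SemiDescend.pullback_ofSection π t) y
    rw [ht, hf] at h1
    exact h1.symm
  · intro t' ht'
    apply Groth.L15.SemiDescend.eq_of_evaluation
    intro x _
    obtain ⟨y, rfl⟩ := π.surjective x
    apply (π.residueFieldMap y).hom.injective
    refine (Scheme.Γevaluation_naturality_apply π y t').trans ?_
    rw [ht']
    refine Eq.trans ?_ (Scheme.Γevaluation_naturality_apply π y t).symm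
    have h1 := congrFun (Groth.L15.SemiDescend.pullback_ofSection π t) y
    rw [ht, hf] at h1
    exact h1

end Groth.Agent.S13113
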