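import Mathlib.RingTheory.Norm.Defs
import Mathlib.RingTheory.LocalRing.ResidueField.Basic
import Mathlib.FieldTheory.IsAlgClosed.Basic
import Mathlib.LinearAlgebra.Eigenspace.Zero
import Mathlib.RingTheory.Artinian.Ring
import Mathlib.RingTheory.LocalRing.ResidueField.Instances
import Mathlib.RingTheory.Norm.Basic
import Mathlib.FieldTheory.IsAlgClosed.Basic

set_option autoImplicit false
set_option linter.style.haveILetI false
namespace HilbChow
end HilbChow
universe u
open HilbChow

namespace Groth.Agent.S13114

/-- Let k be an algebraically closed field, A a commutative local k-algebra of finite dimension n over k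
and u a unit of A. Then the determinant of multiplication by u on the k-vector space A, mapped to
the residue field of A, equals the n-th power of the residue class of u. -/
theorem result
    (k A : Type u) [Field k] [IsAlgClosed k] [CommRing A] [Algebra k A] [IsLocalRing A]
    [Module.Finite k A] (u : Aˣ) :
    algebraMap k (IsLocalRing.ResidueField A) (Algebra.norm k (u : A)) =
      IsLocalRing.residue A (u : A) ^ Module.finrank k A := by
  haveI : IsArtinianRing A := IsArtinianRing.of_finite k A
  haveI : Module.Finite k (IsLocalRing.ResidueField A) :=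
    Module.Finite.of_surjective (IsScalarTower.toAlgHom k A (IsLocalRing.ResidueField A)).toLinearMap IsLocalRing.residue_surjective
  obtain ⟨a, ha⟩ := (IsAlgClosed.algebraMap_bijective_of_isIntegral (k := k) (K := IsLocalRing.ResidueField A)).2
    (IsLocalRing.residue A (u : A))
  have hx : IsNilpotent (algebraMap k A a - (u : A)) := by
    have h0 : algebraMap k A a - (u : A) ∈ IsLocalRing.maximalIdeal A := by
      rw [← IsLocalRing.residue_eq_zero_iff, map_sub]
      exact sub_eq_zero.2 ha
    have h5 := IsArtinianRing.isNilpotent_jacobson_bot (R := A)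
    rw [IsLocalRing.jacobson_eq_maximalIdeal (⊥ : Ideal A) bot_ne_top] at h5
    obtain ⟨N, hN⟩ := h5
    exact ⟨N, by simpa [hN] using Ideal.pow_mem_pow h0 N⟩
  have h2 := LinearMap.eval_charpoly (Algebra.lmul k A (algebraMap k A a - (u : A))) a
  rw [(hx.map (Algebra.lmul k A)).charpoly_eq_X_pow_finrank, Polynomial.eval_pow, Polynomial.eval_X] at h2
  have h3 : algebraMap k (Module.End k A) a - Algebra.lmul k A (algebraMap k A a - (u : A)) = Algebra.lmul k A (u : A) := by
    rw [map_sub, AlgHom.commutes, sub_sub_cancel]
  rw [h3] at h2
  rw [Algebra.norm_apply, ← h2, map_pow, ha]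

end Groth.Agent.S13114
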