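import Groth.Statements.S13115
import Mathlib.LinearAlgebra.PiTensorProduct.Basis
import Mathlib.Algebra.MvPolynomial.Funext
import Mathlib.LinearAlgebra.Dual.Lemmas

set_option autoImplicit false
universe u
open scoped TensorProduct
open HilbChow

namespace Groth.Agent.S13115

/-- Let k be an infinite field, V a k-vector space and m a natural number. Then every symmetric tensor
in the m-fold tensor power of V — one fixed by every permutation of the factors — is a k-linear
combination of pure powers v ⊗ ⋯ ⊗ v with v in V. (The published statement concerns the ring of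
functions of an affine scheme over an infinite field, where it gives the uniqueness of the algebra
map defining the Hilbert-to-Chow morphism for zero-cycles; this row states it for any vector space.) -/
theorem result
    (k V : Type u) [Field k] [Infinite k] [AddCommGroup V] [Module k V] (m : ℕ)
    (x : ⨂[k] _ : Fin m, V)
    (hx : ∀ σ : Equiv.Perm (Fin m), PiTensorProduct.reindex k (fun _ : Fin m => V) σ x = x) :
    x ∈ Submodule.span k (Set.range fun v : V => PiTensorProduct.tprod k (fun _ : Fin m => v)) := by
  classical
  rw [← Subspace.forall_mem_dualAnnihilator_apply_eq_zero_iff]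
  intro g hg
  rw [Submodule.mem_dualAnnihilator] at hg
  let b := Module.Free.chooseBasis k V
  let E := Basis.piTensorProduct (fun _ : Fin m => b)
  set a := E.repr x with ha
  have hEσ : ∀ (σ : Equiv.Perm (Fin m)) f,
      PiTensorProduct.reindex k (fun _ : Fin m => V) σ (E f) = E (fun j => f (σ.symm j)) := by
    intro σ f
    simp only [E, Basis.piTensorProduct_apply, PiTensorProduct.reindex_tprod]
  have hinv : ∀ (σ : Equiv.Perm (Fin m)) f, a (fun j => f (σ.symm j)) = a f := by
    intro σ f
    let T : (Fin m → Module.Free.ChooseBasisIndex k V) → (Fin m → Module.Free.ChooseBasisIndex k V) :=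
      fun f j => f (σ.symm j)
    have h2 : E.repr.toLinearMap ∘ₗ (PiTensorProduct.reindex k (fun _ : Fin m => V) σ).toLinearMap =
        Finsupp.lmapDomain k k T ∘ₗ E.repr.toLinearMap := by
      refine E.ext fun f => ?_
      simp [hEσ, Finsupp.mapDomain_single, T]
    have h3 := LinearMap.congr_fun h2 x
    simp only [LinearMap.comp_apply, LinearEquiv.coe_coe, Finsupp.lmapDomain_apply, hx σ] at h3
    have hT : Function.Injective T := fun p q h => funext fun j => by
      simpa [T] using congrFun h (σ j)
    rw [ha]
    conv_lhs => rw [h3]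
    exact Finsupp.mapDomain_apply hT _ _
  let s : Finset (Module.Free.ChooseBasisIndex k V) := a.support.biUnion fun f => Finset.univ.image f
  let J : (Fin m → s) → (Fin m → Module.Free.ChooseBasisIndex k V) := fun f j => (f j : _)
  have hJ : Function.Injective J := fun p q h => funext fun j => Subtype.ext (congrFun h j)
  let cnt : (Fin m → s) → (s →₀ ℕ) := fun f => ∑ j, Finsupp.single (f j) 1
  let Q : MvPolynomial s k := ∑ f : Fin m → s, MvPolynomial.monomial (cnt f) (g (E (J f)))
  have hQ : Q = 0 := by
    refine MvPolynomial.funext fun c => ?_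
    have h0 := hg _ (Submodule.subset_span ⟨∑ i : s, c i • b i, rfl⟩)
    simp only [MultilinearMap.map_sum, map_sum] at h0
    rw [map_zero, ← h0]
    simp only [Q, map_sum]
    refine Finset.sum_congr rfl fun f _ => ?_
    rw [MvPolynomial.monomial_sum_index, map_mul, MvPolynomial.eval_C, map_prod]
    rw [MultilinearMap.map_smul_univ, map_smul, smul_eq_mul, mul_comm]
    simp only [MvPolynomial.eval_monomial, Finsupp.prod_single_index, pow_zero, pow_one, one_mul]
    congr 2
    simp [E, J, Basis.piTensorProduct_apply]
  have hfib : ∀ α : s →₀ ℕ, ∑ f ∈ Finset.univ.filter (fun f => cnt f = α), g (E (J f)) = 0 := by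
    intro α
    have := congrArg (MvPolynomial.coeff α) hQ
    simpa [Q, MvPolynomial.coeff_sum, MvPolynomial.coeff_monomial, Finset.sum_filter] using this
  have hconst : ∀ f f', cnt f = cnt f' → a (J f) = a (J f') := by
    intro f f' h
    have hc : ∀ i, Fintype.card {j // f j = i} = Fintype.card {j // f' j = i} := by
      intro i
      have := DFunLike.congr_fun h i
      simpa [cnt, Finsupp.finsetSum_apply, Finsupp.single_apply, Fintype.card_subtype, Finset.sum_boole] using this
    let σ : Equiv.Perm (Fin m) := Equiv.ofFiberEquiv (fun i => Fintype.equivOfCardEq (hc i))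
    have hσ : ∀ j, f' (σ j) = f j := fun j => Equiv.ofFiberEquiv_map _ j
    rw [← hinv σ (J f)]
    congr 1
    funext j
    show (f (σ.symm j) : Module.Free.ChooseBasisIndex k V) = f' j
    rw [← hσ (σ.symm j), Equiv.apply_symm_apply]
  have hgx : g x = ∑ f : Fin m → s, a (J f) * g (E (J f)) := by
    conv_lhs => rw [← E.linearCombination_repr x]
    rw [Finsupp.linearCombination_apply, Finsupp.sum, map_sum]
    simp only [map_smul, smul_eq_mul]
    refine Eq.trans ?_ (Finset.sum_image (f := fun f => a f * g (E f)) (hJ.injOn (s := (Finset.univ : Finset (Fin m → s))))) 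
    refine Finset.sum_subset (fun f hf => ?_) (fun f _ hf => ?_)
    · refine Finset.mem_image.2 ⟨fun j => ⟨f j, Finset.mem_biUnion.2 ⟨f, hf, Finset.mem_image_of_mem f (Finset.mem_univ j)⟩⟩, Finset.mem_univ _, rfl⟩
    · simp [Finsupp.notMem_support_iff.1 hf]
  rw [hgx, ← Finset.sum_fiberwise_of_maps_to (t := Finset.univ.image cnt) (g := cnt) (fun f hf => Finset.mem_image_of_mem _ hf)]
  refine Finset.sum_eq_zero fun α hα => ?_
  obtain ⟨f₀, -, rfl⟩ := Finset.mem_image.1 hα
  rw [Finset.sum_congr rfl (fun f hf => by rw [hconst f f₀ (Finset.mem_filter.1 hf).2]), ← Finset.mul_sum, hfib, mul_zero]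

end Groth.Agent.S13115
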