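import Groth.Statements.S13116
import Groth.Agent.L22.PicGlue.Curve

set_option autoImplicit false
set_option linter.style.haveILetI false
set_option backward.isDefEq.respectTransparency.types false
universe u
open HilbChow

namespace Groth.Agent.S13116

open CategoryTheory CategoryTheory.Limits AlgebraicGeometry in
/-- Let k be a field, X an integral scheme smooth over k that is a closed subscheme of a projective
space over k, R a discrete valuation ring containing k, Z a subscheme of X ×_k Spec R which is
finite over Spec R, and L an invertible module on X. Then the pullback of L to Z along Z → X ×_k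
Spec R → X is isomorphic to the structure sheaf of Z (an isomorphism exists; none is singled out). -/
theorem result
    {k : Type u} [Field k] {X : Scheme.{u}} (sX : X ⟶ Spec (CommRingCat.of k))
    [IsIntegral X] [Smooth sX] (hproj : RelProj.IsHProjective sX)
    (R : Type u) [CommRing R] [IsDomain R] [IsDiscreteValuationRing R] [Algebra k R]
    {Z : Scheme.{u}}
    (i : Z ⟶ pullback sX (Spec.map (CommRingCat.ofHom (algebraMap k R)))) [IsImmersion i]
    [IsFinite (i ≫ pullback.snd sX (Spec.map (CommRingCat.ofHom (algebraMap k R))))]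
    (L : X.Modules) (hL : PicF.IsInvertible L) :
    Nonempty ((Scheme.Modules.pullback
        (i ≫ pullback.fst sX (Spec.map (CommRingCat.ofHom (algebraMap k R))))).obj L ≅
      Coh.structureModule Z) := by
  let π := i ≫ pullback.snd sX (Spec.map (CommRingCat.ofHom (algebraMap k R)))
  let g := i ≫ pullback.fst sX (Spec.map (CommRingCat.ofHom (algebraMap k R)))
  have hL' : PicF.IsInvertible ((Scheme.Modules.pullback g).obj L) := fun z => by
    obtain ⟨W, hzW, ⟨φ⟩⟩ := hL (g z)
    obtain ⟨e, he⟩ := Groth.L21.Extend.exists_gen_of_iso L φ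
    exact ⟨g ⁻¹ᵁ W, hzW, Groth.L21.Extend.exists_iso_of_isGen _ (Groth.L18.Frame.IsFrame.pullback g L he)⟩
  obtain ⟨V, hV, ⟨φ⟩⟩ := Groth.L21.Extend.exists_trivial_preimage π _ hL' (IsLocalRing.closedPoint R)
  have hVtop : π ⁻¹ᵁ V = ⊤ := by
    refine eq_top_iff.mpr fun z _ => ?_
    exact (IsLocalRing.specializes_closedPoint (π z)).mem_open V.2 hV
  obtain ⟨e, he⟩ := Groth.L21.Extend.exists_gen_of_iso _ φ
  have he' := he.restrict _ hVtop.ge
  refine Groth.L22.PicGlue.nonempty_iso_of_gens (fun _ : PUnit.{u+1} => (⊤ : Z.Opens))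
    (e := fun _ => Groth.L21.Extend.rs _ hVtop.ge e) (e' := fun _ => (1 : Γ(Z, ⊤))) (fun _ => he')
    (fun _ W hW => ?_) (fun x => ⟨⟨⟩, trivial⟩) (fun i j W hi hj c hc => ?_)
  · have h1 : ∀ a : Γ(Z, W), (a • Groth.L21.Extend.rs (Coh.structureModule Z) hW (1 : Γ(Z, ⊤)) :
        Γ(Coh.structureModule Z, W)) = a := fun a => by
      show a * Groth.L21.Extend.rO Z hW (1 : Γ(Z, ⊤)) = a
      rw [Groth.L22.PicGlue.rO_one, mul_one]
    exact ⟨fun a b h => (h1 a).symm.trans (h.trans (h1 b)), fun t => ⟨t, h1 t⟩⟩
  · have hc1 : c = 1 := (he' W hi).1 (by simpa using hc)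
    rw [hc1, one_smul]

end Groth.Agent.S13116
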