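import Groth.Statements.S13117
import Groth.Agent.L28.DetQis.Basic
import Mathlib.RingTheory.Spectrum.Prime.Topology
import Mathlib.RingTheory.Norm.Defs
import Mathlib.LinearAlgebra.Eigenspace.Zero
import Mathlib.RingTheory.Artinian.Module
import Mathlib.FieldTheory.IsAlgClosed.Basic
import Mathlib.RingTheory.Jacobson.Artinian
import Mathlib.Tactic.LinearCombination
import Mathlib.LinearAlgebra.Charpoly.BaseChange

set_option autoImplicit false
universe u
open HilbChow

namespace Groth.Agent.S13117

variable {k A : Type u} [Field k] [CommRing A] [Algebra k A] [Module.Finite k A]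

lemma det_of_nilpotent_sub {M : Type u} [AddCommGroup M] [Module k M] [Module.Finite k M]
    (g : Module.End k M) (c : k) (h : IsNilpotent (g - c • 1)) :
    LinearMap.det g = c ^ Module.finrank k M := by
  have h1 := h.charpoly_eq_X_pow_finrank
  rw [LinearMap.charpoly_sub_smul] at h1
  have h2 := congrArg (Polynomial.eval (-c)) h1
  simp only [Polynomial.eval_comp, Polynomial.eval_add, Polynomial.eval_X, Polynomial.eval_C,
    neg_add_cancel, Polynomial.eval_pow] at h2
  rw [LinearMap.det_eq_sign_charpoly_coeff, Polynomial.coeff_zero_eq_eval_zero, h2, ← mul_pow]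
  simp

lemma isNilpotent_image (φ : A →ₐ[k] k) (p : Ideal A) [p.IsPrime] (hp : p = RingHom.ker φ) (a : A)
    (ha : φ a = 0) : IsNilpotent (algebraMap A (Localization.AtPrime p) a) := by
  haveI : IsArtinianRing A := IsArtinianRing.of_finite k A
  rw [nilpotent_iff_mem_prime]
  intro Q hQ
  have hle : Q.comap (algebraMap A (Localization.AtPrime p)) ≤ p := by
    intro x hx
    by_contra hxp
    exact hQ.ne_top (Q.eq_top_of_isUnit_mem hx
      (IsLocalization.map_units (Localization.AtPrime p) (⟨x, hxp⟩ : p.primeCompl)))
  haveI := Ideal.IsPrime.comap (algebraMap A (Localization.AtPrime p)) (K := Q)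
  have heq := (IsArtinianRing.isMaximal_of_isPrime (Q.comap (algebraMap A (Localization.AtPrime p)))).eq_of_le
    (Ideal.IsPrime.ne_top inferInstance) hle
  have : a ∈ p := by rw [hp]; exact ha
  rw [← heq] at this
  exact this

lemma fr {p q : Ideal A} [p.IsPrime] [q.IsPrime] (h : p = q) :
    Module.finrank k (Localization.AtPrime p) = Module.finrank k (Localization.AtPrime q) := by
  subst h
  rfl

open HilbChow in


/-- Let k be an algebraically closed field, A a finite-dimensional commutative k-algebra (the coordinate
ring of a zero-dimensional subscheme Z of length dim_k A) and f ∈ A. Then the determinant of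
multiplication by f on A is the product over the points x of Z — the k-algebra homomorphisms A → k —
of the value f(x) raised to the length of the local ring of Z at x, that length being the
k-dimension of the localisation of A at the corresponding maximal ideal. This is the formula by
which the Hilbert-to-Chow morphism for zero-cycles sends Z to its fundamental cycle Σ ℓ(O_{Z,x})[x]. -/
theorem result
    (k A : Type u) [Field k] [IsAlgClosed k] [CommRing A] [Algebra k A] [Module.Finite k A] (f : A) :
    Algebra.norm k f =
      ∏ᶠ φ : A →ₐ[k] k, φ f ^ Module.finrank k (Localization.AtPrime (Ideal.comap φ ⊥)) := by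
  classical
  haveI : IsArtinianRing A := IsArtinianRing.of_finite k A
  haveI : Fintype (PrimeSpectrum A) := Fintype.ofFinite _
  let E : A ≃ₐ[k] ∀ p : PrimeSpectrum A, Localization.AtPrime p.asIdeal :=
    AlgEquiv.ofBijective (IsScalarTower.toAlgHom k A _)
    PrimeSpectrum.toPiLocalization_bijective
  haveI : ∀ p : PrimeSpectrum A, Module.Finite k (Localization.AtPrime p.asIdeal) := fun p =>
    Module.Finite.of_surjective ((LinearMap.proj p).comp E.toLinearMap)
      ((Function.surjective_eval p).comp E.surjective)
  let g := fun p : PrimeSpectrum A =>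
    Algebra.lmul k (Localization.AtPrime p.asIdeal) (algebraMap A (Localization.AtPrime p.asIdeal) f)
  have hdet : Algebra.norm k f = ∏ p, LinearMap.det (g p) := by
    rw [← Groth.L28.DetQis.det_pi g, Algebra.norm_apply, ← LinearMap.det_conj _ E.toLinearEquiv]
    congr 1
    refine LinearMap.ext fun x => funext fun p => ?_
    show E (f * E.symm x) p = g p (x p)
    rw [map_mul, AlgEquiv.apply_symm_apply]
    rfl
  have hex : ∀ p : PrimeSpectrum A, ∃ φ : A →ₐ[k] k, RingHom.ker φ = p.asIdeal := by
    intro p
    haveI := IsArtinianRing.isMaximal_of_isPrime p.asIdeal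
    letI := Ideal.Quotient.field p.asIdeal
    have hb : Function.Bijective (algebraMap k (A ⧸ p.asIdeal)) :=
      IsAlgClosed.algebraMap_bijective_of_isIntegral
    refine ⟨((AlgEquiv.ofBijective (Algebra.ofId k (A ⧸ p.asIdeal)) hb).symm.toAlgHom).comp
      (Ideal.Quotient.mkₐ k p.asIdeal), ?_⟩
    ext a
    rw [RingHom.mem_ker]
    simp [Ideal.Quotient.eq_zero_iff_mem]
  choose φ hφ using hex
  have hbij : Function.Bijective φ := by
    refine ⟨fun p q h => PrimeSpectrum.ext ((hφ p).symm.trans (h ▸ hφ q)), fun ψ => ?_⟩
    refine ⟨⟨RingHom.ker ψ, RingHom.ker_isPrime ψ⟩, AlgHom.ext fun a => ?_⟩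
    have hm : a - algebraMap k A (ψ a) ∈ RingHom.ker ψ := by simp [RingHom.mem_ker]
    change a - algebraMap k A (ψ a) ∈ (⟨RingHom.ker ψ, RingHom.ker_isPrime ψ⟩ : PrimeSpectrum A).asIdeal at hm
    rw [← hφ ⟨RingHom.ker ψ, RingHom.ker_isPrime ψ⟩, RingHom.mem_ker, map_sub, AlgHom.commutes,
      Algebra.algebraMap_self, RingHom.id_apply, sub_eq_zero] at hm
    exact hm
  rw [hdet, ← finprod_eq_of_bijective φ hbij (fun p => rfl), finprod_eq_prod_of_fintype]
  refine Finset.prod_congr rfl fun p _ => ?_
  have e : (⊥ : Ideal k).comap (φ p) = p.asIdeal := hφ p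
  have hn := isNilpotent_image (φ p) p.asIdeal (hφ p).symm (f - algebraMap k A (φ p f)) (by simp)
  have hd := det_of_nilpotent_sub (g p) (φ p f) (by
    have h2 := hn.map (Algebra.lmul k (Localization.AtPrime p.asIdeal))
    rw [map_sub, map_sub, ← IsScalarTower.algebraMap_apply, AlgHom.commutes] at h2
    rw [← Algebra.algebraMap_eq_smul_one]
    exact h2)
  rw [hd]
  congr 1
  exact fr e.symm


end Groth.Agent.S13117
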