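import Groth.Statements.S13120
import Groth.Agent.L11.Kum.Parity
import Mathlib.Tactic.LinearCombination

set_option autoImplicit false
universe u
open KumFam

namespace Groth.Agent.S13120

open MvPolynomial in
/-- Let R be a commutative ring of characteristic 2 and l0, l2, l4, s0, s2, s4, τ ∈ R with τ a unit.
Inside R[u, v] (u = X 0, v = X 1) let A = R[u², u³, v², v³] be the coordinate ring of the product of
two cuspidal curves, and let D be the R-derivation of R[u, v] with D(u) = v²(l0 u⁴ + τ u³ + l2 u² +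
l4) and D(v) = u²(s0 v⁴ + τ v³ + s2 v² + s4); D is u²v² times the rational vector field (l0 u² + τ u
+ l2 + l4 u⁻²) ∂_u + (s0 v² + τ v + s2 + s4 v⁻²) ∂_v, which maps A into itself, and u²v² is a
non-zero-divisor, so the kernel of that vector field on A is the set of a ∈ A with D(a) = 0. Then
for a ∈ A: D(a) = 0 if and only if a ∈ R[u², v², g], where g = (s0 v⁴ + s2 v² + s4) u³ + (l0 u⁴ + l2
u² + l4) v³ + τ u³ v³. (The published statement identifies this kernel with the ring of invariants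
of the corresponding action of the group scheme of square roots of unity; this row states the kernel
computation that is actually carried out.) -/
theorem result (R : Type u) [CommRing R] [CharP R 2]
    (l0 l2 l4 s0 s2 s4 τ : R) (hτ : IsUnit τ) (a : MvPolynomial (Fin 2) R)
    (ha : a ∈ Algebra.adjoin R
      ({X 0 ^ 2, X 0 ^ 3, X 1 ^ 2, X 1 ^ 3} : Set (MvPolynomial (Fin 2) R))) :
    MvPolynomial.mkDerivation R
        (![X 1 ^ 2 * (C l0 * X 0 ^ 4 + C τ * X 0 ^ 3 + C l2 * X 0 ^ 2 + C l4),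
          X 0 ^ 2 * (C s0 * X 1 ^ 4 + C τ * X 1 ^ 3 + C s2 * X 1 ^ 2 + C s4)] :
          Fin 2 → MvPolynomial (Fin 2) R) a = 0 ↔
      a ∈ Algebra.adjoin R
        ({X 0 ^ 2, X 1 ^ 2,
          (C s0 * X 1 ^ 4 + C s2 * X 1 ^ 2 + C s4) * X 0 ^ 3 +
            (C l0 * X 0 ^ 4 + C l2 * X 0 ^ 2 + C l4) * X 1 ^ 3 +
            C τ * X 0 ^ 3 * X 1 ^ 3} : Set (MvPolynomial (Fin 2) R)) := by
  classical
  obtain ⟨τ, rfl⟩ := hτ
  have h2 : (2 : MvPolynomial (Fin 2) R) = 0 := CharTwo.two_eq_zero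
  let α : MvPolynomial (Fin 2) R := C l0 * X 0 ^ 2 + C l2 * X 0 + C l4
  let β : MvPolynomial (Fin 2) R := C s0 * X 1 ^ 2 + C s2 * X 1 + C s4
  set g : MvPolynomial (Fin 2) R := (C s0 * X 1 ^ 4 + C s2 * X 1 ^ 2 + C s4) * X 0 ^ 3 +
            (C l0 * X 0 ^ 4 + C l2 * X 0 ^ 2 + C l4) * X 1 ^ 3 +
            C (τ : R) * X 0 ^ 3 * X 1 ^ 3 with hg
  set v : Fin 2 → MvPolynomial (Fin 2) R := ![X 1 ^ 2 * (C l0 * X 0 ^ 4 + C (τ : R) * X 0 ^ 3 + C l2 * X 0 ^ 2 + C l4),
          X 0 ^ 2 * (C s0 * X 1 ^ 4 + C (τ : R) * X 1 ^ 3 + C s2 * X 1 ^ 2 + C s4)] with hv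
  open Groth.L11.Kum.Parity in
  have hD : ∀ P b c d : MvPolynomial (Fin 2) R, mkDerivation R v (comb P (X 0 * b) (X 1 * c) (X 0 * X 1 * d)) =
      comb (X 0 * X 1 * (α * b + β * c)) (X 0 ^ 2 * X 1 * (C (τ : R) * b + β * d))
        (X 0 * X 1 ^ 2 * (C (τ : R) * c + α * d)) 0 := fun P b c d => by
    rw [mkDerivation_comb]
    simp only [hv, Matrix.cons_val_zero, Matrix.cons_val_one, comb, α, β, map_mul, map_add, map_pow, sq_X, sq_C, map_zero]
    linear_combination (C (τ : R) * X 0 ^ 5 * X 1 ^ 5 * sq d) * h2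
  open Groth.L11.Kum.Parity in
  have hcomb : g = comb 0 (X 0 * β) (X 1 * α) (X 0 * X 1 * C (τ : R)) := by
    simp only [comb, α, β, map_mul, map_add, map_pow, sq_X, sq_C, map_zero, hg]
    ring
  open Groth.L11.Kum.Parity in
  have hA : ∀ p ∈ Algebra.adjoin R ({X 0 ^ 2, X 0 ^ 3, X 1 ^ 2, X 1 ^ 3} : Set (MvPolynomial (Fin 2) R)),
      ∃ P b c d, p = comb P (X 0 * b) (X 1 * c) (X 0 * X 1 * d) := fun p hp => by
    induction hp using Algebra.adjoin_induction with
    | mem x hx =>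
      simp only [Set.mem_insert_iff, Set.mem_singleton_iff] at hx
      rcases hx with rfl | rfl | rfl | rfl
      · exact ⟨X 0, 0, 0, 0, by simp [comb, sq_X]⟩
      · exact ⟨0, 1, 0, 0, by simp [comb, sq_X]; ring⟩
      · exact ⟨X 1, 0, 0, 0, by simp [comb, sq_X]⟩
      · exact ⟨0, 0, 1, 0, by simp [comb, sq_X]; ring⟩
    | algebraMap r => exact ⟨C r, 0, 0, 0, by simp [comb, sq_C, algebraMap_eq]⟩
    | add x y _ _ hx hy =>
      obtain ⟨P, b, c, d, rfl⟩ := hx
      obtain ⟨P', b', c', d', rfl⟩ := hy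
      exact ⟨P + P', b + b', c + c', d + d', by simp only [comb, map_add, map_mul]; ring⟩
    | mul x y _ _ hx hy =>
      obtain ⟨P, b, c, d, rfl⟩ := hx
      obtain ⟨P', b', c', d', rfl⟩ := hy
      refine ⟨P * P' + X 0 ^ 3 * (b * b') + X 1 ^ 3 * (c * c') + X 0 ^ 3 * X 1 ^ 3 * (d * d'),
        P * b' + b * P' + X 1 ^ 3 * (c * d' + d * c'), P * c' + c * P' + X 0 ^ 3 * (b * d' + d * b'),
        P * d' + d * P' + b * c' + c * b', ?_⟩
      rw [comb_mul]
      simp only [comb, map_add, map_mul, map_pow, sq_X]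
      ring
  have hC : ∀ x : MvPolynomial (Fin 2) R, C ((τ⁻¹ : Rˣ) : R) * (C (τ : R) * x) = x := fun x => by
    rw [← mul_assoc, ← map_mul, Units.inv_mul, map_one, one_mul]
  open Groth.L11.Kum.Parity in
  refine ⟨fun hD0 => ?_, fun hp => ?_⟩
  · obtain ⟨P, b, c, d, rfl⟩ := hA a ha
    open Groth.L11.Kum.Parity in
    rw [hD, comb_eq_zero_iff] at hD0
    obtain ⟨-, hb, hc, -⟩ := hD0
    have hX : ∀ (i : Fin 2) (x : MvPolynomial (Fin 2) R), X i * x = 0 → x = 0 := fun i x hx =>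
      (MvPolynomial.isRegular_X (n := i)).left (hx.trans (mul_zero _).symm)
    simp only [pow_two, mul_assoc] at hb hc
    replace hb := hX 1 _ (hX 0 _ (hX 0 _ hb))
    replace hc := hX 1 _ (hX 1 _ (hX 0 _ hc))
    rw [CharTwo.add_eq_zero] at hb hc
    let e := C ((τ⁻¹ : Rˣ) : R) * d
    have hτ' : C ((τ⁻¹ : Rˣ) : R) * C (τ : R) = (1 : MvPolynomial (Fin 2) R) := by simpa using hC 1
    have heq : Groth.L11.Kum.Parity.comb P (X 0 * b) (X 1 * c) (X 0 * X 1 * d) =
        Groth.L11.Kum.Parity.sq P + g * Groth.L11.Kum.Parity.sq e := by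
      rw [hcomb, ← hC b, ← hC c, hb, hc]
      open Groth.L11.Kum.Parity in
      simp only [comb, map_mul, sq_C, sq_X, map_zero, e]
      linear_combination (-(X 0 ^ 3 * X 1 ^ 3 * Groth.L11.Kum.Parity.sq d)) * hτ'
    rw [heq]
    exact add_mem (Groth.L11.Kum.Parity.sq_mem_adjoin _ (by simp) (by simp) P)
      (mul_mem (Algebra.subset_adjoin (by simp)) (Groth.L11.Kum.Parity.sq_mem_adjoin _ (by simp) (by simp) e))
  · clear ha
    induction hp using Algebra.adjoin_induction with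
    | mem x hx =>
      simp only [Set.mem_insert_iff, Set.mem_singleton_iff] at hx
      rcases hx with rfl | rfl | rfl
      · rw [pow_two, Derivation.leibniz, smul_eq_mul, CharTwo.add_self_eq_zero]
      · rw [pow_two, Derivation.leibniz, smul_eq_mul, CharTwo.add_self_eq_zero]
      · open Groth.L11.Kum.Parity in
        rw [hcomb, hD, comb_eq_zero_iff]
        simp [mul_comm, CharTwo.add_self_eq_zero]
    | algebraMap r => simp
    | add x y _ _ hx hy => simp [map_add, hx, hy]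
    | mul x y _ _ hx hy => rw [Derivation.leibniz, hx, hy, smul_zero, smul_zero, add_zero]

end Groth.Agent.S13120
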