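import Groth.Statements.S13121
import Groth.Agent.L11.Kum.Parity
import Mathlib.Tactic.LinearCombination

set_option autoImplicit false
universe u
open KumFam

namespace Groth.Agent.S13121

open MvPolynomial in
/-- Let R be a commutative ring of characteristic 2 and l0, l2, l4, s0, s2, s4, τ ∈ R with τ a unit. In
R[u, v] (u = X 0, v = X 1) put g = (s0 v⁴ + s2 v² + s4) u³ + (l0 u⁴ + l2 u² + l4) v³ + τ u³ v³. Then
the kernel of the R-algebra homomorphism R[a, b, c] → R[u, v] (a = X 0, b = X 1, c = X 2) with a ↦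
u², b ↦ v², c ↦ g is the ideal generated by c² + s0² a³ b⁴ + s2² a³ b² + s4² a³ + l0² a⁴ b³ + l2² a²
b³ + l4² b³ + τ² a³ b³; its image is the subalgebra R[u², v², g], which is therefore presented by
this one equation. -/
theorem result (R : Type u) [CommRing R] [CharP R 2]
    (l0 l2 l4 s0 s2 s4 τ : R) (hτ : IsUnit τ) :
    RingHom.ker (MvPolynomial.aeval (R := R) (S₁ := MvPolynomial (Fin 2) R)
        ![X 0 ^ 2, X 1 ^ 2,
          (C s0 * X 1 ^ 4 + C s2 * X 1 ^ 2 + C s4) * X 0 ^ 3 +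
            (C l0 * X 0 ^ 4 + C l2 * X 0 ^ 2 + C l4) * X 1 ^ 3 +
            C τ * X 0 ^ 3 * X 1 ^ 3]) =
      Ideal.span {(X 2 ^ 2 + C (s0 ^ 2) * X 0 ^ 3 * X 1 ^ 4 + C (s2 ^ 2) * X 0 ^ 3 * X 1 ^ 2 +
        C (s4 ^ 2) * X 0 ^ 3 + C (l0 ^ 2) * X 0 ^ 4 * X 1 ^ 3 + C (l2 ^ 2) * X 0 ^ 2 * X 1 ^ 3 +
        C (l4 ^ 2) * X 1 ^ 3 + C (τ ^ 2) * X 0 ^ 3 * X 1 ^ 3 : MvPolynomial (Fin 3) R)} := by
  classical
  obtain ⟨τ, rfl⟩ := hτ
  have h2 : (2 : MvPolynomial (Fin 2) R) = 0 := CharTwo.two_eq_zero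
  set g : MvPolynomial (Fin 2) R := (C s0 * X 1 ^ 4 + C s2 * X 1 ^ 2 + C s4) * X 0 ^ 3 +
            (C l0 * X 0 ^ 4 + C l2 * X 0 ^ 2 + C l4) * X 1 ^ 3 +
            C (τ : R) * X 0 ^ 3 * X 1 ^ 3 with hg
  let ρ : MvPolynomial (Fin 2) R := C (s0 ^ 2) * X 0 ^ 3 * X 1 ^ 4 + C (s2 ^ 2) * X 0 ^ 3 * X 1 ^ 2 +
        C (s4 ^ 2) * X 0 ^ 3 + C (l0 ^ 2) * X 0 ^ 4 * X 1 ^ 3 + C (l2 ^ 2) * X 0 ^ 2 * X 1 ^ 3 +
        C (l4 ^ 2) * X 1 ^ 3 + C ((τ : R) ^ 2) * X 0 ^ 3 * X 1 ^ 3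
  rw [Groth.L11.Kum.Parity.ker_eq_span g ρ (X 0 * (C s0 * X 1 ^ 2 + C s2 * X 1 + C s4))
    (X 1 * (C l0 * X 0 ^ 2 + C l2 * X 0 + C l4)) (C (τ : R) * (X 0 * X 1))]
  · congr 2
    rw [CharTwo.sub_eq_add]
    simp [ρ]
    ring
  · simp only [Groth.L11.Kum.Parity.comb, map_mul, map_add, map_pow, Groth.L11.Kum.Parity.sq_X, Groth.L11.Kum.Parity.sq_C, map_zero, hg]
    ring
  · intro Q hQ
    rw [mul_assoc, (τ.isUnit.map (C (σ := Fin 2))).mul_right_eq_zero] at hQ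
    have h := ((MvPolynomial.isRegular_X (σ := Fin 2) (R := R) (n := 0)).mul MvPolynomial.isRegular_X (b := X 1)).left
    exact h (hQ.trans (mul_zero _).symm)
  · simp only [ρ, map_add, map_mul, map_pow, Groth.L11.Kum.Parity.sq_X, Groth.L11.Kum.Parity.sq_C, hg, CharTwo.add_sq]
    ring_nf
    simp only [h2, mul_zero, add_zero, zero_add]

end Groth.Agent.S13121
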