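import Groth.Statements.S13122
import Groth.Agent.L11.Kum.Parity
import Mathlib.Tactic.LinearCombination

set_option autoImplicit false
universe u
open KumFam

namespace Groth.Agent.S13122

open MvPolynomial in
/-- Let R be a commutative ring of characteristic 2 and l0, l2, l4, s0, s2, s4, τ ∈ R with τ a unit. On
R[x, y] (x = X 0, y = X 1; the coordinates u⁻¹, v⁻¹ of the smooth chart of the product of two
cuspidal curves) let D be the R-derivation with D(x) = l4 x⁴ + l2 x² + τ x + l0 and D(y) = s4 y⁴ +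
s2 y² + τ y + s0, and put h = (s4 y⁴ + s2 y² + s0) x + (l4 x⁴ + l2 x² + l0) y + τ x y. Then: (1) for
p ∈ R[x, y], D(p) = 0 if and only if p lies in the image of the R-algebra homomorphism R[a, b, c] →
R[x, y] (a = X 0, b = X 1, c = X 2) with a ↦ x², b ↦ y², c ↦ h; (2) the kernel of that homomorphism
is the ideal generated by c² + τ² a b + (s4² b⁴ + s2² b² + s0²) a + (l4² a⁴ + l2² a² + l0²) b. (The
published statement asserts that the ring of invariants of the action of the group scheme of square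
roots of unity given by this vector field is R[a, b, c] modulo this equation, by the same
computation as on the other chart; this row pins the generator h and states the kernel computation.) -/
theorem result (R : Type u) [CommRing R]
    [CharP R 2] (l0 l2 l4 s0 s2 s4 τ : R) (hτ : IsUnit τ) :
    (∀ p : MvPolynomial (Fin 2) R,
      MvPolynomial.mkDerivation R
          (![C l4 * X 0 ^ 4 + C l2 * X 0 ^ 2 + C τ * X 0 + C l0,
            C s4 * X 1 ^ 4 + C s2 * X 1 ^ 2 + C τ * X 1 + C s0] :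
            Fin 2 → MvPolynomial (Fin 2) R) p = 0 ↔
        p ∈ (MvPolynomial.aeval (R := R) (S₁ := MvPolynomial (Fin 2) R)
          ![X 0 ^ 2, X 1 ^ 2,
            (C s4 * X 1 ^ 4 + C s2 * X 1 ^ 2 + C s0) * X 0 +
              (C l4 * X 0 ^ 4 + C l2 * X 0 ^ 2 + C l0) * X 1 + C τ * X 0 * X 1]).range) ∧
    RingHom.ker (MvPolynomial.aeval (R := R) (S₁ := MvPolynomial (Fin 2) R)
        ![X 0 ^ 2, X 1 ^ 2,
          (C s4 * X 1 ^ 4 + C s2 * X 1 ^ 2 + C s0) * X 0 +
            (C l4 * X 0 ^ 4 + C l2 * X 0 ^ 2 + C l0) * X 1 + C τ * X 0 * X 1]) =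
      Ideal.span {(X 2 ^ 2 + C (τ ^ 2) * X 0 * X 1 +
        (C (s4 ^ 2) * X 1 ^ 4 + C (s2 ^ 2) * X 1 ^ 2 + C (s0 ^ 2)) * X 0 +
        (C (l4 ^ 2) * X 0 ^ 4 + C (l2 ^ 2) * X 0 ^ 2 + C (l0 ^ 2)) * X 1 : MvPolynomial (Fin 3) R)} := by
  classical
  obtain ⟨τ, rfl⟩ := hτ
  open Groth.L11.Kum.Parity in
  have h2 : (2 : MvPolynomial (Fin 2) R) = 0 := CharTwo.two_eq_zero
  open Groth.L11.Kum.Parity in
  set h : MvPolynomial (Fin 2) R := (C s4 * X 1 ^ 4 + C s2 * X 1 ^ 2 + C s0) * X 0 +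
              (C l4 * X 0 ^ 4 + C l2 * X 0 ^ 2 + C l0) * X 1 + C (τ : R) * X 0 * X 1 with hh
  let α : MvPolynomial (Fin 2) R := C l4 * X 0 ^ 2 + C l2 * X 0 + C l0
  let β : MvPolynomial (Fin 2) R := C s4 * X 1 ^ 2 + C s2 * X 1 + C s0
  open Groth.L11.Kum.Parity in
  have hcomb : h = comb 0 β α (C (τ : R)) := by
    simp only [comb, α, β, map_mul, map_add, map_pow, sq_X, sq_C, map_zero, hh]
    ring
  set v : Fin 2 → MvPolynomial (Fin 2) R := ![C l4 * X 0 ^ 4 + C l2 * X 0 ^ 2 + C (τ : R) * X 0 + C l0,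
            C s4 * X 1 ^ 4 + C s2 * X 1 ^ 2 + C (τ : R) * X 1 + C s0] with hv
  open Groth.L11.Kum.Parity in
  have hD : ∀ a b c d : MvPolynomial (Fin 2) R, mkDerivation R v (comb a b c d) =
      comb (α * b + β * c) (C (τ : R) * b + β * d) (C (τ : R) * c + α * d) 0 := fun a b c d => by
    rw [mkDerivation_comb]
    simp only [hv, Matrix.cons_val_zero, Matrix.cons_val_one, comb, α, β, map_mul, map_add, map_pow, sq_X, sq_C, map_zero]
    linear_combination (C (τ : R) * X 0 * X 1 * sq d) * h2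
  have hC : ∀ x : MvPolynomial (Fin 2) R, C ((τ⁻¹ : Rˣ) : R) * (C (τ : R) * x) = x := fun x => by
    rw [← mul_assoc, ← map_mul, Units.inv_mul, map_one, one_mul]
  open Groth.L11.Kum.Parity in
  refine ⟨fun p => ⟨fun hp => ?_, fun hp => ?_⟩, ?_⟩
  · open Groth.L11.Kum.Parity in
    obtain ⟨a, b, c, d, rfl⟩ := exists_comb p
    open Groth.L11.Kum.Parity in
    rw [hD, comb_eq_zero_iff] at hp
    obtain ⟨-, hb, hc, -⟩ := hp
    rw [CharTwo.add_eq_zero] at hb hc
    let e := C ((τ⁻¹ : Rˣ) : R) * d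
    refine ⟨MvPolynomial.aeval ![X 0, X 1] a + X 2 * MvPolynomial.aeval ![X 0, X 1] e, ?_⟩
    change MvPolynomial.aeval ![X 0 ^ 2, X 1 ^ 2, h] _ = _
    open Groth.L11.Kum.Parity in
    rw [map_add, map_mul, aeval_X, show ![(X 0 : MvPolynomial (Fin 2) R) ^ 2, X 1 ^ 2, h] 2 = h from rfl, aeval_sq, aeval_sq,
      hcomb, ← hC b, ← hC c, hb, hc]
    open Groth.L11.Kum.Parity in
    simp only [comb, map_mul, sq_C, map_zero, e]
    have hτ' : C ((τ⁻¹ : Rˣ) : R) * C (τ : R) = (1 : MvPolynomial (Fin 2) R) := by simpa using hC 1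
    linear_combination (X 0 * X 1 * Groth.L11.Kum.Parity.sq d) * hτ'
  · obtain ⟨P, rfl⟩ := hp
    open Groth.L11.Kum.Parity in
    have hDh : mkDerivation R v h = 0 := by
      rw [hcomb, hD, comb_eq_zero_iff]
      simp [mul_comm, CharTwo.add_self_eq_zero]
    change mkDerivation R v (MvPolynomial.aeval ![X 0 ^ 2, X 1 ^ 2, h] P) = 0
    induction P using MvPolynomial.induction_on with
    | C r => simp
    | add p q hp hq => rw [map_add, map_add, hp, hq, add_zero]
    | mul_X p i hp =>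
      rw [map_mul, aeval_X, Derivation.leibniz, hp, smul_zero, add_zero]
      fin_cases i
      · simp [pow_two, CharTwo.add_self_eq_zero]
      · simp [pow_two, CharTwo.add_self_eq_zero]
      · simp [hDh]
  · let ρ : MvPolynomial (Fin 2) R := C ((τ : R) ^ 2) * X 0 * X 1 +
        (C (s4 ^ 2) * X 1 ^ 4 + C (s2 ^ 2) * X 1 ^ 2 + C (s0 ^ 2)) * X 0 +
        (C (l4 ^ 2) * X 0 ^ 4 + C (l2 ^ 2) * X 0 ^ 2 + C (l0 ^ 2)) * X 1
    open Groth.L11.Kum.Parity in
    rw [ker_eq_span h ρ β α (C (τ : R)) hcomb (fun Q hQ => by simpa [hQ] using (hC Q).symm)]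
    · congr 2
      rw [CharTwo.sub_eq_add]
      simp [ρ]
      ring
    · open Groth.L11.Kum.Parity in
      simp only [ρ, map_add, map_mul, map_pow, sq_X, sq_C, hh, CharTwo.add_sq]
      ring_nf
      simp only [h2, mul_zero, add_zero, zero_add]

end Groth.Agent.S13122
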