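import Groth.Statements.S13124
import Mathlib.RingTheory.Flat.Basic
import Mathlib.RingTheory.IntegralClosure.IntegrallyClosed

open scoped TensorProduct
set_option autoImplicit false
universe u v w
open KumFam

namespace Groth.Agent.S13124

/-- Let k be a commutative ring, A a commutative k-bialgebra that is flat over k, and R a commutative
k-algebra which is an integrally closed domain, with a coaction R → R ⊗ A that is an algebra
homomorphism. Then the ring of invariants (the elements f with coaction f ⊗ 1) is an integrally
closed domain. (The published statement is for a finite group scheme acting on a normal scheme whose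
quotient is, locally, the spectrum of the ring of invariants; this row is the affine integral case
and allows any commutative bialgebra flat over k, flatness being automatic over a field.) -/
theorem result (k : Type u) [CommRing k]
    (A : Type v) [CommRing A] [Bialgebra k A] [Module.Flat k A]
    (R : Type w) [CommRing R] [Algebra k R] [IsDomain R] [IsIntegrallyClosed R]
    [HopfRep.Comod k A R] [GLin.IsCoactAlg k A R] :
    IsIntegrallyClosed (GLin.invariants k A R) := by
  set S := GLin.invariants k A R
  let F := FractionRing S
  let K := FractionRing R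
  have hinj : Function.Injective ((algebraMap R K).comp S.val.toRingHom) :=
    (IsFractionRing.injective R K).comp Subtype.val_injective
  let Φ : F →+* K := IsFractionRing.lift hinj
  refine (isIntegrallyClosed_iff F).2 fun {x} hx ↦ ?_
  obtain ⟨a, b, hb, hab⟩ := IsFractionRing.div_surjective S x
  have hΦ : ∀ s : S, Φ (algebraMap S F s) = algebraMap R K (s : R) := fun s ↦
    IsFractionRing.lift_algebraMap hinj s
  have hint : IsIntegral R (Φ x) := by
    obtain ⟨p, hp, hpx⟩ := hx
    refine ⟨p.map S.val.toRingHom, hp.map _, ?_⟩
    rw [Polynomial.eval₂_map]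
    have h := congrArg Φ hpx
    rw [map_zero, Polynomial.hom_eval₂] at h
    rw [show Φ.comp (algebraMap S F) = (algebraMap R K).comp S.val.toRingHom from RingHom.ext hΦ] at h
    exact h
  obtain ⟨r, hr⟩ := IsIntegrallyClosed.isIntegral_iff.1 hint
  have hb0 : (b : R) ≠ 0 := fun h ↦ nonZeroDivisors.ne_zero hb (Subtype.ext h)
  have hrab : (a : R) = (b : R) * r := by
    refine IsFractionRing.injective R K ?_
    rw [map_mul, hr, ← hab, map_div₀, hΦ, hΦ, mul_div_cancel₀]
    exact fun h ↦ hb0 (IsFractionRing.injective R K (h.trans (map_zero _).symm))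
  have hcancel : Function.Injective fun z : R ⊗[k] A ↦ ((b : R) ⊗ₜ[k] (1 : A)) * z := by
    have h : (fun z : R ⊗[k] A ↦ ((b : R) ⊗ₜ[k] (1 : A)) * z) =
        (LinearMap.mulLeft k (b : R)).rTensor A := by
      funext z
      induction z using TensorProduct.induction_on with
      | zero => simp
      | tmul p q => simp [Algebra.TensorProduct.tmul_mul_tmul]
      | add p q hp hq => simp only [mul_add, map_add] at *; rw [hp, hq]
    rw [h]
    exact Module.Flat.rTensor_preserves_injective_linearMap _ (fun p q hpq ↦ mul_left_cancel₀ hb0 hpq)
  have hrmem : HopfRep.Comod.coact (k := k) (A := A) r = r ⊗ₜ[k] (1 : A) := hcancel (by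
    show (b : R) ⊗ₜ[k] (1 : A) * _ = (b : R) ⊗ₜ[k] (1 : A) * _
    rw [Algebra.TensorProduct.tmul_mul_tmul, mul_one, ← hrab, ← a.2, hrab,
      GLin.IsCoactAlg.coact_mul, b.2])
  refine ⟨⟨r, hrmem⟩, ?_⟩
  rw [← hab, eq_div_iff (fun h ↦ nonZeroDivisors.ne_zero hb (IsFractionRing.injective S F (h.trans (map_zero _).symm))), ← map_mul]
  congr 1
  refine Subtype.ext ?_
  show r * (b : R) = a
  rw [hrab, mul_comm]

end Groth.Agent.S13124
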