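import Groth.Statements.S13125
import Mathlib.RingTheory.GradedAlgebra.Homogeneous.Ideal
import Mathlib.RingTheory.Ideal.Quotient.Defs
import Mathlib.RingTheory.Ideal.Quotient.Operations

set_option autoImplicit false
universe u v
open KumFam

namespace Groth.Agent.S13125

/-- Let A be a commutative ring graded by an additive monoid ι (an abelian group in the published
statement) through additive subgroups 𝒜 i, and I an ideal of A. Then I is a homogeneous ideal if and
only if A/I carries a structure of ι-graded ring ℬ for which the quotient map sends 𝒜 i into ℬ i for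
all i. -/
theorem result (ι : Type u) [DecidableEq ι] [AddMonoid ι]
    (A : Type v) [CommRing A] (𝒜 : ι → AddSubgroup A) [GradedRing 𝒜] (I : Ideal A) :
    I.IsHomogeneous 𝒜 ↔
      ∃ ℬ : ι → AddSubgroup (A ⧸ I), Nonempty (GradedRing ℬ) ∧
        ∀ i : ι, (𝒜 i).map (Ideal.Quotient.mk I : A →+ A ⧸ I) ≤ ℬ i := by
  classical
  constructor
  · intro hI
    let ℬ : ι → AddSubgroup (A ⧸ I) := fun i => (𝒜 i).map (Ideal.Quotient.mk I : A →+ A ⧸ I)
    refine ⟨ℬ, ?_, fun i => le_rfl⟩
    have hint : DirectSum.IsInternal ℬ := by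
      refine ⟨(injective_iff_map_eq_zero _).2 fun z hz => ?_, fun y => ?_⟩
      · choose x hx hxz using fun i => AddSubgroup.mem_map.1 (z i).2
        have hsum : DirectSum.coeAddMonoidHom ℬ z = Ideal.Quotient.mk I (∑ i ∈ z.support, x i) := by
          rw [map_sum]
          conv_lhs => rw [← DirectSum.sum_support_of z]
          rw [map_sum]
          exact Finset.sum_congr rfl fun i _ => by rw [DirectSum.coeAddMonoidHom_of]; exact (hxz i).symm
        rw [hsum, Ideal.Quotient.eq_zero_iff_mem] at hz
        refine DFinsupp.ext fun j => ?_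
        by_contra hj
        have hjs : j ∈ z.support := DFinsupp.mem_support_iff.2 hj
        have hmem := hI j hz
        rw [DirectSum.decompose_sum, DFinsupp.finsetSum_apply, AddSubmonoidClass.coe_finsetSum,
          Finset.sum_eq_single_of_mem j hjs fun i _ hij => DirectSum.decompose_of_mem_ne 𝒜 (hx i) hij,
          DirectSum.decompose_of_mem_same 𝒜 (hx j)] at hmem
        exact hj (Subtype.ext ((hxz j).symm.trans (Ideal.Quotient.eq_zero_iff_mem.2 hmem)))
      · obtain ⟨a, rfl⟩ := Ideal.Quotient.mk_surjective y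
        refine ⟨∑ i ∈ (DirectSum.decompose 𝒜 a).support, DirectSum.of (fun i => ℬ i) i
          ⟨Ideal.Quotient.mk I (DirectSum.decompose 𝒜 a i : A), AddSubgroup.mem_map_of_mem _ (SetLike.coe_mem _)⟩, ?_⟩
        conv_rhs => rw [← DirectSum.sum_support_decompose 𝒜 a, map_sum]
        rw [map_sum]
        exact Finset.sum_congr rfl fun i _ => DirectSum.coeAddMonoidHom_of ℬ i _
    letI : SetLike.GradedMonoid ℬ :=
      { one_mem := ⟨1, SetLike.one_mem_graded 𝒜, map_one (Ideal.Quotient.mk I)⟩
        mul_mem := by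
          rintro i j _ _ ⟨a, ha, rfl⟩ ⟨b, hb, rfl⟩
          exact ⟨a * b, SetLike.mul_mem_graded ha hb, map_mul (Ideal.Quotient.mk I) a b⟩ }
    exact ⟨{ toDecomposition := hint.chooseDecomposition }⟩
  · rintro ⟨ℬ, ⟨_⟩, hle⟩ j a ha
    rw [← Ideal.Quotient.eq_zero_iff_mem] at ha ⊢
    have hmem : ∀ i, Ideal.Quotient.mk I (DirectSum.decompose 𝒜 a i : A) ∈ ℬ i := fun i =>
      hle i (AddSubgroup.mem_map_of_mem _ (SetLike.coe_mem _))
    by_cases hj : j ∈ (DirectSum.decompose 𝒜 a).support
    · have h0 : (DirectSum.decompose ℬ (Ideal.Quotient.mk I a) j : A ⧸ I) = 0 := by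
        rw [ha, DirectSum.decompose_zero]
        rfl
      conv_lhs at h0 => rw [← DirectSum.sum_support_decompose 𝒜 a, map_sum]
      rw [DirectSum.decompose_sum, DFinsupp.finsetSum_apply, AddSubmonoidClass.coe_finsetSum,
        Finset.sum_eq_single_of_mem j hj fun i _ hij => DirectSum.decompose_of_mem_ne ℬ (hmem i) hij,
        DirectSum.decompose_of_mem_same ℬ (hmem j)] at h0
      exact h0
    · rw [DFinsupp.notMem_support_iff.1 hj, ZeroMemClass.coe_zero, map_zero]

end Groth.Agent.S13125
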