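import Groth.Statements.S13126
import Mathlib.Algebra.Polynomial.BigOperators
import Mathlib.Algebra.Polynomial.Div
import Mathlib.RingTheory.Ideal.Span
import Mathlib.Tactic

set_option autoImplicit false
universe u
open KumFam

namespace Groth.Agent.S13126

open Polynomial in
/-- Let R be a commutative ring, n a natural number which is a unit in R, and ζ ∈ R with ζ^n = 1 and 1 −
ζ^i a unit for 0 < i < n (a primitive n-th root of unity in the fibrewise sense: the powers ζ^0, …,
ζ^(n−1) are roots of X^n − 1 with pairwise unit differences; over an integral domain in which n is a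
unit this is the same as ζ having multiplicative order n). Then the R-algebra homomorphism R[X] →
(Fin n → R) sending a polynomial to its values at ζ^0, …, ζ^(n−1) is surjective and its kernel is
the ideal generated by X^n − 1; hence R[X]/(X^n − 1) ≅ R^n as R-algebras, i.e. the scheme of n-th
roots of unity over Spec R is the disjoint union of n copies of Spec R. (The published statement
asks that R contain a primitive n-th root of unity without defining the term; its Chinese-remainder
argument uses that the ideals (X − ζ^i), i < n, are pairwise comaximal, which is the unit-difference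
condition taken as the hypothesis here, whereas under the reading 'ζ has multiplicative order n'
alone the surjectivity fails over a product of two fields. The published statement also asserts that
the isomorphism respects the group-scheme structures of the n-th roots of unity and of the constant
group ℤ/n; this row does not state that.) -/
theorem result (R : Type u) [CommRing R]
    (n : ℕ) (hn : IsUnit (n : R)) (ζ : R) (hζ : ζ ^ n = 1)
    (hprim : ∀ i : ℕ, 0 < i → i < n → IsUnit (1 - ζ ^ i)) :
    Function.Surjective (AlgHom.pi (fun i : Fin n => Polynomial.aeval (R := R) (ζ ^ (i : ℕ)))) ∧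
      RingHom.ker (AlgHom.pi (fun i : Fin n => Polynomial.aeval (R := R) (ζ ^ (i : ℕ)))) =
        Ideal.span {(X ^ n - 1 : R[X])} := by
  classical
  rcases subsingleton_or_nontrivial R with hR | hR
  · exact ⟨fun y => ⟨0, Subsingleton.elim _ _⟩, Subsingleton.elim _ _⟩
  have hn0 : 0 < n := Nat.pos_of_ne_zero fun h => by simp [h] at hn
  have hzu : IsUnit ζ := IsUnit.of_pow_eq_one hζ hn0.ne'
  let r : Fin n → R := fun i => ζ ^ (i : ℕ)
  have hdiff : ∀ i j : Fin n, i ≠ j → IsUnit (r i - r j) := fun i j hij => by
    rcases lt_or_gt_of_ne hij with h | h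
    · have h' : (i : ℕ) < j := h
      rw [show r i - r j = ζ ^ (i : ℕ) * (1 - ζ ^ ((j : ℕ) - i)) by
        rw [mul_sub, mul_one, ← pow_add, Nat.add_sub_cancel' h'.le]]
      exact (hzu.pow _).mul (hprim _ (by omega) (by omega))
    · have h' : (j : ℕ) < i := h
      rw [show r i - r j = -(ζ ^ (j : ℕ) * (1 - ζ ^ ((i : ℕ) - j))) by
        rw [mul_sub, mul_one, ← pow_add, Nat.add_sub_cancel' h'.le, neg_sub]]
      exact ((hzu.pow _).mul (hprim _ (by omega) (by omega))).neg
  let P : Finset (Fin n) → R[X] := fun s => ∏ i ∈ s, (X - C (r i))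
  have hPu : ∀ (s : Finset (Fin n)) (j : Fin n), j ∉ s → IsUnit ((P s).eval (r j)) := fun s j hj => by
    simp only [P, eval_prod, eval_sub, eval_X, eval_C]
    exact IsUnit.prod_iff.mpr fun i hi => hdiff j i fun h => hj (h ▸ hi)
  have happly : ∀ (f : R[X]) (j : Fin n),
      AlgHom.pi (fun i : Fin n => Polynomial.aeval (R := R) (ζ ^ (i : ℕ))) f j = f.eval (r j) := fun f j => by
    simp [r]
  refine ⟨fun y => ?_, ?_⟩
  · refine ⟨∑ j, C (y j * Ring.inverse ((P (Finset.univ.erase j)).eval (r j))) * P (Finset.univ.erase j), funext fun i => ?_⟩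
    rw [happly, eval_finsetSum, Finset.sum_eq_single i _ (by simp)]
    · rw [eval_mul, eval_C, mul_assoc, Ring.inverse_mul_cancel _ (hPu _ i (by simp)), mul_one]
    · intro j _ hj
      rw [eval_mul]
      refine mul_eq_zero_of_right _ ?_
      simp only [P, eval_prod, eval_sub, eval_X, eval_C]
      exact Finset.prod_eq_zero (i := i) (by simp [Ne.symm hj]) (sub_self _)
  · have hdvd : ∀ (f : R[X]) (s : Finset (Fin n)), (∀ j ∈ s, f.eval (r j) = 0) → P s ∣ f := fun f s => by
      induction s using Finset.induction_on with
      | empty => simp [P]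
      | @insert j s hj ih =>
        intro h
        obtain ⟨g, hg⟩ := ih fun i hi => h i (Finset.mem_insert_of_mem hi)
        have h0 := h j (Finset.mem_insert_self j s)
        rw [hg, eval_mul, (hPu s j hj).mul_right_eq_zero] at h0
        obtain ⟨g', hg'⟩ := dvd_iff_isRoot.mpr h0
        exact ⟨g', by simp only [P, Finset.prod_insert hj]; rw [hg, hg']; ring⟩
    have hXn : ∀ j : Fin n, (X ^ n - 1 : R[X]).eval (r j) = 0 := fun j => by
      simp [r, ← pow_mul, mul_comm, pow_mul ζ n, hζ]
    have hPall : P Finset.univ = X ^ n - 1 := by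
      refine (eq_of_monic_of_dvd_of_natDegree_le (monic_prod_of_monic _ _ fun i _ => monic_X_sub_C _)
        (by simpa using monic_X_pow_sub_C (1 : R) hn0.ne') (hdvd _ _ fun j _ => hXn j) ?_).symm
      rw [natDegree_prod_of_monic _ _ fun i _ => monic_X_sub_C _]
      simp [show (X ^ n - 1 : R[X]) = X ^ n - C 1 by simp, -map_one]
    ext f
    rw [RingHom.mem_ker, Ideal.mem_span_singleton, ← hPall]
    refine ⟨fun h => hdvd f _ fun j _ => by rw [← happly, h]; rfl, fun ⟨g, hg⟩ => funext fun j => ?_⟩
    rw [happly, hg, hPall, eval_mul, hXn, zero_mul]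
    rfl

end Groth.Agent.S13126
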