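import Groth.Statements.S13127
import Groth.Agent.L11.Kum.NormalForm
import Mathlib.Tactic.LinearCombination

set_option autoImplicit false
universe u
open KumFam

namespace Groth.Agent.S13127

open MvPowerSeries in
/-- Let R be a commutative ring of characteristic 2 and l0, l2, l4, s0, s2, s4, τ, lam, sig ∈ R with l4,
s4, lam, sig units, and let κ₁, κ₂ ∈ R satisfy s4² κ₁³ = sig² and l4² κ₂³ = lam² (cube roots of
sig²/s4² and lam²/l4²). In the power series ring R[[a, b, c]] (a = X 0, b = X 1, c = X 2) put F = c²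
+ s0² a³ b⁴ + s2² a³ b² + s4² a³ + l0² a⁴ b³ + l2² a² b³ + l4² b³ + τ² a³ b³ and F₀ = c² + sig² a³ +
lam² b³. Then some R-algebra automorphism of R[[a, b, c]] maps F to F₀; consequently R[[a, b,
c]]/(F) ≅ R[[a, b, c]]/(F₀). (In the published statement lam, sig are the representatives in the
ground field of the residues of l4, s4 at a rational point, so that F₀ is the equation of the
special fibre made constant; this row takes them to be arbitrary units.) -/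
theorem result (R : Type u) [CommRing R] [CharP R 2]
    (l0 l2 l4 s0 s2 s4 τ lam sig κ₁ κ₂ : R) (hl4 : IsUnit l4) (hs4 : IsUnit s4) (hlam : IsUnit lam)
    (hsig : IsUnit sig) (h₁ : s4 ^ 2 * κ₁ ^ 3 = sig ^ 2) (h₂ : l4 ^ 2 * κ₂ ^ 3 = lam ^ 2) :
    ∃ φ : MvPowerSeries (Fin 3) R ≃ₐ[R] MvPowerSeries (Fin 3) R,
      φ ((X 2 ^ 2 + C (s0 ^ 2) * X 0 ^ 3 * X 1 ^ 4 + C (s2 ^ 2) * X 0 ^ 3 * X 1 ^ 2 +
          C (s4 ^ 2) * X 0 ^ 3 + C (l0 ^ 2) * X 0 ^ 4 * X 1 ^ 3 + C (l2 ^ 2) * X 0 ^ 2 * X 1 ^ 3 +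
          C (l4 ^ 2) * X 1 ^ 3 + C (τ ^ 2) * X 0 ^ 3 * X 1 ^ 3 : MvPowerSeries (Fin 3) R)) =
        (X 2 ^ 2 + C (sig ^ 2) * X 0 ^ 3 + C (lam ^ 2) * X 1 ^ 3 : MvPowerSeries (Fin 3) R) := by
  have hκ : ∀ {s g κ : R}, IsUnit g → s ^ 2 * κ ^ 3 = g ^ 2 → IsUnit κ := fun {s g κ} hg h =>
    (isUnit_pow_iff (three_ne_zero : (3 : ℕ) ≠ 0)).mp (isUnit_of_mul_isUnit_right (h ▸ hg.pow 2))
  obtain ⟨ρ, hρ, hρ0⟩ := Groth.L11.Kum.exists_root_scaled (sig ^ 2) κ₁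
    (MvPowerSeries.C (s4 ^ 2) + MvPowerSeries.X 1 * (MvPowerSeries.C (s2 ^ 2) * MvPowerSeries.X 1 +
      MvPowerSeries.C (s0 ^ 2) * MvPowerSeries.X 1 ^ 3 + MvPowerSeries.C (τ ^ 2) * MvPowerSeries.X 1 ^ 2 +
      MvPowerSeries.C (l0 ^ 2) * MvPowerSeries.X 0 * MvPowerSeries.X 1 ^ 2))
    s4 hs4 (by simp) (hκ hsig h₁) h₁
  obtain ⟨π, hπ, hπ0⟩ := Groth.L11.Kum.exists_root_scaled (lam ^ 2) κ₂
    (MvPowerSeries.C (l4 ^ 2) + MvPowerSeries.X 0 * (MvPowerSeries.C (l2 ^ 2) * MvPowerSeries.X 0))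
    l4 hl4 (by simp) (hκ hlam h₂) h₂
  obtain ⟨ψ, hψ, hψC⟩ := Groth.L11.Kum.exists_substEquiv
    ![MvPowerSeries.X 0 * ρ, MvPowerSeries.X 1 * π, MvPowerSeries.X 2 * (1 : MvPowerSeries (Fin 3) R)]
    (by intro i; fin_cases i <;> simp)
    (by
      rw [Matrix.det_fin_three]
      simp only [Matrix.of_apply, Matrix.cons_val_zero, Matrix.cons_val_one, Matrix.cons_val_two, Matrix.head_cons,
        Matrix.tail_cons, Groth.L11.Kum.coeff_single_X_mul, Matrix.cons_val]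
      simpa using hρ0.mul hπ0)
  refine ⟨ψ.symm, ψ.symm_apply_eq.mpr ?_⟩
  have h0 := hψ 0
  have h1 := hψ 1
  have h2 := hψ 2
  simp only [Matrix.cons_val_zero, Matrix.cons_val_one, Matrix.cons_val_two, Matrix.head_cons, Matrix.tail_cons,
    Matrix.cons_val, mul_one] at h0 h1 h2
  simp only [map_add, map_mul, map_pow, hψC, h0, h1, h2] at hρ hπ ⊢
  linear_combination (-(MvPowerSeries.X 0 ^ 3 : MvPowerSeries (Fin 3) R)) * hρ +
    (-(MvPowerSeries.X 1 ^ 3 : MvPowerSeries (Fin 3) R)) * hπ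

end Groth.Agent.S13127
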