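import Groth.Statements.S13128
import Groth.Agent.L11.Kum.NormalForm
import Mathlib.Tactic.LinearCombination

set_option autoImplicit false
universe u
open KumFam

namespace Groth.Agent.S13128

open MvPowerSeries in
/-- Let R be a commutative ring of characteristic 2, l0, l2, l4, s0, s2, s4, τ ∈ R with τ a unit, and α,
β ∈ R with l4² α⁴ + l2² α² + τ² α + l0² = 0 and s4² β⁴ + s2² β² + τ² β + s0² = 0. In characteristic
2 these relations give τ² α = (l4 α² + l2 α + l0)² and τ² β = (s4 β² + s2 β + s0)², so α = α′² and β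
= β′² with α′ = (l4 α² + l2 α + l0)/τ and β′ = (s4 β² + s2 β + s0)/τ. In R[[a, b, c]] (a = X 0, b =
X 1, c = X 2) put h = c² + τ² a b + (s4² b⁴ + s2² b²) a + (l4² a⁴ + l2² a²) b + l4² β a⁴ + l2² β a²
+ s4² α b⁴ + s2² α b²; this is the chart equation c² + τ² a b + (s4² b⁴ + s2² b² + s0²) a + (l4² a⁴
+ l2² a² + l0²) b after the substitution a ↦ a + α, b ↦ b + β, c ↦ c + τ α′ β′, which moves the
point (α, β, τ α′ β′) of that surface, where all partial derivatives vanish, to the origin. Then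
some R-algebra automorphism of R[[a, b, c]] maps h to c² + a b; consequently R[[a, b, c]]/(h) ≅
R[[a, b, c]]/(c² + a b), the completed local ring of an ordinary double point, constant over R. (The
published statement translates only a and b, so that its h carries the additional constant term τ² α
β; with that term h is a unit of R[[a, b, c]] whenever τ α β is a unit, for instance c² + a b + 1
over the field with two elements with l0 = s0 = τ = α = β = 1 and l2 = l4 = s2 = s4 = 0, and no ring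
automorphism carries a unit to c² + a b. The published proof begins by shifting c by a polynomial in
a, b whose constant term is τ α′ β′, a substitution of the polynomial ring which removes the term τ²
α β, and the rest of its argument takes place in R[[a, b, c]]; this row states the result for the
fully translated equation, which is what that argument proves.) -/
theorem result (R : Type u) [CommRing R] [CharP R 2]
    (l0 l2 l4 s0 s2 s4 τ α β : R) (hτ : IsUnit τ)
    (hα : l4 ^ 2 * α ^ 4 + l2 ^ 2 * α ^ 2 + τ ^ 2 * α + l0 ^ 2 = 0)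
    (hβ : s4 ^ 2 * β ^ 4 + s2 ^ 2 * β ^ 2 + τ ^ 2 * β + s0 ^ 2 = 0) :
    ∃ φ : MvPowerSeries (Fin 3) R ≃ₐ[R] MvPowerSeries (Fin 3) R,
      φ ((X 2 ^ 2 + C (τ ^ 2) * X 0 * X 1 + (C (s4 ^ 2) * X 1 ^ 4 + C (s2 ^ 2) * X 1 ^ 2) * X 0 +
          (C (l4 ^ 2) * X 0 ^ 4 + C (l2 ^ 2) * X 0 ^ 2) * X 1 + C (l4 ^ 2 * β) * X 0 ^ 4 +
          C (l2 ^ 2 * β) * X 0 ^ 2 + C (s4 ^ 2 * α) * X 1 ^ 4 + C (s2 ^ 2 * α) * X 1 ^ 2 :
          MvPowerSeries (Fin 3) R)) =
        (X 2 ^ 2 + X 0 * X 1 : MvPowerSeries (Fin 3) R) := by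
  obtain ⟨v, hv⟩ := hτ.exists_right_inv
  have hR2 : (2 : R) = 0 := CharTwo.two_eq_zero
  have hα2 : (v * (l4 * α ^ 2 + l2 * α + l0)) ^ 2 = α := by
    linear_combination v ^ 2 * hα - α * (τ * v + 1) * hv +
      (v ^ 2 * (l4 * α ^ 2 * (l2 * α) + l4 * α ^ 2 * l0 + l2 * α * l0) - α) * hR2
  have hβ2 : (v * (s4 * β ^ 2 + s2 * β + s0)) ^ 2 = β := by
    linear_combination v ^ 2 * hβ - β * (τ * v + 1) * hv +
      (v ^ 2 * (s4 * β ^ 2 * (s2 * β) + s4 * β ^ 2 * s0 + s2 * β * s0) - β) * hR2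
  set α' := v * (l4 * α ^ 2 + l2 * α + l0)
  set β' := v * (s4 * β ^ 2 + s2 * β + s0)
  let U : MvPowerSeries (Fin 3) R := MvPowerSeries.C (τ ^ 2) +
    MvPowerSeries.X 1 * (MvPowerSeries.C (s4 ^ 2) * MvPowerSeries.X 1 ^ 2 + MvPowerSeries.C (s2 ^ 2)) +
    MvPowerSeries.X 0 * (MvPowerSeries.C (l4 ^ 2) * MvPowerSeries.X 0 ^ 2 + MvPowerSeries.C (l2 ^ 2))
  let Wa : MvPowerSeries (Fin 3) R := MvPowerSeries.C β' * (MvPowerSeries.C l4 * MvPowerSeries.X 0 + MvPowerSeries.C l2)
  let Wb : MvPowerSeries (Fin 3) R := MvPowerSeries.C α' * (MvPowerSeries.C s4 * MvPowerSeries.X 1 + MvPowerSeries.C s2)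
  obtain ⟨ψ, hψ, hψC⟩ := Groth.L11.Kum.exists_substEquiv
    ![MvPowerSeries.X 0 * U, MvPowerSeries.X 1 * (1 : MvPowerSeries (Fin 3) R),
      MvPowerSeries.X 2 * (1 : MvPowerSeries (Fin 3) R) + MvPowerSeries.X 0 * Wa + MvPowerSeries.X 1 * Wb]
    (by intro i; fin_cases i <;> simp)
    (by
      rw [Matrix.det_fin_three]
      simp only [Matrix.of_apply, Matrix.cons_val_zero, Matrix.cons_val_one, Matrix.cons_val_two, Matrix.head_cons,
        Matrix.tail_cons, map_add, Groth.L11.Kum.coeff_single_X_mul, Matrix.cons_val]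
      simpa [U] using hτ.pow 2)
  refine ⟨ψ.symm, ψ.symm_apply_eq.mpr ?_⟩
  have h0 := hψ 0
  have h1 := hψ 1
  have h2 := hψ 2
  simp only [Matrix.cons_val_zero, Matrix.cons_val_one, Matrix.cons_val_two, Matrix.head_cons, Matrix.tail_cons,
    Matrix.cons_val, mul_one] at h0 h1 h2
  simp only [map_add, map_mul, map_pow, hψC, h0, h1, h2]
  have e2 : (2 : MvPowerSeries (Fin 3) R) = 0 := Groth.L11.Kum.two_eq_zero
  have ea : (MvPowerSeries.C α' : MvPowerSeries (Fin 3) R) ^ 2 = MvPowerSeries.C α := by rw [← map_pow, hα2]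
  have eb : (MvPowerSeries.C β' : MvPowerSeries (Fin 3) R) ^ 2 = MvPowerSeries.C β := by rw [← map_pow, hβ2]
  simp only [U, Wa, Wb, map_pow] at *
  linear_combination
    -(MvPowerSeries.X 0 * (MvPowerSeries.C l4 * MvPowerSeries.X 0 + MvPowerSeries.C l2)) ^ 2 * eb
    - (MvPowerSeries.X 1 * (MvPowerSeries.C s4 * MvPowerSeries.X 1 + MvPowerSeries.C s2)) ^ 2 * ea
    - ((MvPowerSeries.X 2) * (MvPowerSeries.X 0 * (MvPowerSeries.C β' * (MvPowerSeries.C l4 * MvPowerSeries.X 0 + MvPowerSeries.C l2)) +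
        MvPowerSeries.X 1 * (MvPowerSeries.C α' * (MvPowerSeries.C s4 * MvPowerSeries.X 1 + MvPowerSeries.C s2))) +
      (MvPowerSeries.X 0 * (MvPowerSeries.C β' * (MvPowerSeries.C l4 * MvPowerSeries.X 0 + MvPowerSeries.C l2))) *
        (MvPowerSeries.X 1 * (MvPowerSeries.C α' * (MvPowerSeries.C s4 * MvPowerSeries.X 1 + MvPowerSeries.C s2))) -
      (MvPowerSeries.C l4 * MvPowerSeries.C l2) * MvPowerSeries.X 0 ^ 3 * MvPowerSeries.C β * (-1) -
      (MvPowerSeries.C s4 * MvPowerSeries.C s2) * MvPowerSeries.X 1 ^ 3 * MvPowerSeries.C α * (-1)) * e2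

end Groth.Agent.S13128
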