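import Groth.Statements.S13129
import Groth.Agent.L16.LerayEuler.Resolution

set_option autoImplicit false
universe u
open CategoryTheory CategoryTheory.Limits AlgebraicGeometry
open KumFam

namespace Groth.Agent.S13129

/-- Let k be an algebraically closed field, Y a proper normal surface over k (irreducible of dimension 2
with integrally closed local domains), X a proper smooth surface over k, and π : X → Y a k-morphism
which restricts to an isomorphism over Y minus a closed point y and whose fibre over y is
one-dimensional (a resolution of the singularity (Y, y)). Then R¹π_* O_X = 0 (first higher direct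
image of the underlying abelian sheaf) if and only if χ(X, O_X) = χ(Y, O_Y). -/
theorem result (k : Type u) [Field k] [IsAlgClosed k]
    (X Y : Scheme.{u}) [X.Over (Spec (CommRingCat.of k))] [Y.Over (Spec (CommRingCat.of k))]
    [IsProper (X ↘ Spec (CommRingCat.of k))] [IsProper (Y ↘ Spec (CommRingCat.of k))]
    [IrreducibleSpace X] [IrreducibleSpace Y] (hdX : topologicalKrullDim X = 2)
    (hdY : topologicalKrullDim Y = 2) [Smooth (X ↘ Spec (CommRingCat.of k))]
    (hYn : Pi1.IsNormalScheme Y) (π : X ⟶ Y) [π.IsOver (Spec (CommRingCat.of k))]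
    (y : Y) (hy : IsClosed ({y} : Set Y))
    (hiso : IsIso (π ∣_ (⟨({y} : Set Y)ᶜ, hy.isOpen_compl⟩ : Y.Opens)))
    (hfib : topologicalKrullDim ((fun x : X => π.base x) ⁻¹' ({y} : Set Y)) = 1) :
    IsZero ((Coh.RpushAb π 1).obj (Coh.toAb (Coh.structureModule X))) ↔
      Curv2.euler k X (Coh.structureModule X) = Curv2.euler k Y (Coh.structureModule Y) := by
  haveI := hiso
  let U : Y.Opens := ⟨({y} : Set Y)ᶜ, hy.isOpen_compl⟩
  haveI := Groth.L21.RR.isNoetherian_of_proper (X := X) k
  haveI := Groth.L21.RR.isNoetherian_of_proper (X := Y) k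
  haveI : IsReduced X := Groth.L16.SecComp.isReduced_of_smooth (X ↘ Spec (CommRingCat.of k))
  haveI : ∀ z : Y, _root_.IsReduced (Y.presheaf.stalk z) := fun z => by
    haveI := (hYn z).1
    infer_instance
  haveI : IsReduced Y := isReduced_of_isReduced_stalk Y
  haveI : IsIntegral Y := isIntegral_of_irreducibleSpace_of_isReduced Y
  haveI : IsIntegral X := isIntegral_of_irreducibleSpace_of_isReduced X
  haveI : IsProper (π ≫ (Y ↘ Spec (CommRingCat.of k))) := by rw [comp_over]; infer_instance
  haveI : IsProper π := IsProper.of_comp π (Y ↘ Spec (CommRingCat.of k))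
  have hgc : ¬ IsClosed ({genericPoint Y} : Set Y) := fun hc => by
    have hs : Subsingleton Y := ⟨fun a b => by
      have ha := (genericPoint_specializes a).mem_closed hc rfl
      have hb := (genericPoint_specializes b).mem_closed hc rfl
      exact ha.trans hb.symm⟩
    have h0 := topologicalKrullDim_zero_of_discreteTopology Y
    rw [hdY] at h0
    norm_num at h0
  have hU' : ∀ z : Y, ¬ IsClosed ({z} : Set Y) → z ∈ U := fun z hz hzy => hz (by rw [show z = y from hzy]; exact hy)
  have hgY : genericPoint Y ∈ U := hU' _ hgc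
  obtain ⟨⟨z, hz⟩, hzg⟩ := (Scheme.homeoOfIso (asIso (π ∣_ U))).surjective ⟨genericPoint Y, hgY⟩
  have hz' : π z = genericPoint Y := (morphismRestrict_base_coe π U ⟨z, hz⟩).symm.trans (congrArg Subtype.val hzg)
  have hgenU : genericPoint X ∈ π ⁻¹ᵁ U := (genericPoint_specializes z).mem_open (π ⁻¹ᵁ U).2 hz
  have hξ : π (genericPoint X) = genericPoint Y := by
    have hs := (genericPoint_specializes z).map π.continuous
    rw [hz'] at hs
    exact (hs.antisymm (genericPoint_specializes _)).eq
  haveI : IsIso (π.stalkMap (genericPoint X)) := by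
    haveI : IsIso ((π ∣_ U).stalkMap ⟨genericPoint X, hgenU⟩) := inferInstance
    exact (MorphismProperty.arrow_mk_iso_iff (MorphismProperty.isomorphisms _)
      (morphismRestrictStalkMap π U ⟨genericPoint X, hgenU⟩)).1 this
  obtain ⟨e⟩ := Groth.L03.BlowPt.nonempty_push_structure_of_birational (b := π) hYn hξ
  refine Groth.L16.LerayEuler.isZero_RpushAb_one_iff π k (comp_over π _) e U hU' fun w => ?_
  by_cases hw : w ∈ U
  · exact (Groth.L16.LerayEuler.fiber_dim_le_zero π U hw).trans (by norm_num)
  · obtain rfl : w = y := not_not.1 hw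
    rw [(π.fiberHomeo w).isHomeomorph.topologicalKrullDim_eq]
    exact hfib.le.trans_eq Nat.cast_one.symm
end Groth.Agent.S13129
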