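import Groth.Statements.S13131
import Mathlib.AlgebraicGeometry.Limits
import Mathlib.AlgebraicGeometry.Restrict
import Mathlib.AlgebraicGeometry.Gluing
import Mathlib.Topology.LocallyConstant.Basic

set_option autoImplicit false
universe u
open CategoryTheory CategoryTheory.Limits AlgebraicGeometry
open KumFam

namespace Groth.Agent.S13131

/-- Let S be a scheme, M a set and p : T → S a scheme over S. The S-morphisms T → ∐_{m ∈ M} S (the
constant S-scheme on M, with its structure map the codiagonal) are in bijection with the locally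
constant maps T → M, a morphism f corresponding to the function sending t to the index of the copy
of S containing f(t). (In the published statement M is a group and ∐_M S the constant group scheme;
the group structures play no role in this description of T-points.) -/
theorem result (S : Scheme.{u}) (M : Type u)
    (T : Scheme.{u}) (p : T ⟶ S) :
    ∃ e : {f : T ⟶ ∐ (fun _ : M => S) // f ≫ Sigma.desc (fun _ : M => 𝟙 S) = p} ≃
        LocallyConstant T M,
      ∀ (f : {f : T ⟶ ∐ (fun _ : M => S) // f ≫ Sigma.desc (fun _ : M => 𝟙 S) = p}) (t : T),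
        e f t = ((sigmaMk (fun _ : M => S)).symm (f.1.base t)).1 := by
  classical
  set X : M → Scheme.{u} := fun _ => S
  have hι : ∀ (m : M) (s : S), ((sigmaMk X).symm ((Sigma.ι X m) s)).1 = m := fun m s => by
    rw [← sigmaMk_mk, Homeomorph.symm_apply_apply]
  let toFun : {f : T ⟶ ∐ X // f ≫ Sigma.desc (fun _ : M => 𝟙 S) = p} → LocallyConstant T M := fun f =>
    ⟨fun t => ((sigmaMk X).symm (f.1.base t)).1, IsLocallyConstant.iff_isOpen_fiber.2 fun m => by
      have h : IsOpen ((fun z : Σ _ : M, S => z.1) ⁻¹' {m}) := isOpen_sigma_iff.2 fun i => by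
        by_cases hi : i = m
        · convert! isOpen_univ
          ext z; simp [hi]
        · convert! isOpen_empty
          ext z; simp [hi]
      exact h.preimage ((sigmaMk X).symm.continuous.comp f.1.continuous)⟩
  -- a morphism is determined by its index function
  have hloc : ∀ (f : {f : T ⟶ ∐ X // f ≫ Sigma.desc (fun _ : M => 𝟙 S) = p}) (U : T.Opens) (m : M),
      (∀ t : T, t ∈ U → toFun f t = m) → U.ι ≫ f.1 = (U.ι ≫ p) ≫ Sigma.ι X m := fun f U m hU => by
    have hr : Set.range (U.ι ≫ f.1) ⊆ Set.range (Sigma.ι X m) := by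
      rintro _ ⟨x, rfl⟩
      have h := hU (U.ι x) x.2
      change ((sigmaMk X).symm (f.1.base (U.ι x))).1 = m at h
      set z := (sigmaMk X).symm (f.1.base (U.ι x)) with hz
      obtain ⟨i, s⟩ := z
      obtain rfl : i = m := h
      refine ⟨s, ?_⟩
      rw [← sigmaMk_mk, hz, Homeomorph.apply_symm_apply]
      rfl
    have hl := IsOpenImmersion.lift_fac (Sigma.ι X m) (U.ι ≫ f.1) hr
    have hp : IsOpenImmersion.lift (Sigma.ι X m) (U.ι ≫ f.1) hr = U.ι ≫ p := by
      have := congrArg (· ≫ Sigma.desc (fun _ : M => 𝟙 S)) hl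
      simp only [Category.assoc, Sigma.ι_desc, f.2] at this
      exact (Category.comp_id _).symm.trans (this.trans (congrArg (U.ι ≫ ·) f.2))
    rw [← hp]
    exact hl.symm
  let U : LocallyConstant T M → M → T.Opens := fun g m => ⟨g ⁻¹' {m}, g.isLocallyConstant.isOpen_fiber m⟩
  refine ⟨Equiv.ofBijective toFun ⟨fun f f' h => ?_, fun g => ?_⟩, fun f t => rfl⟩
  · refine Subtype.ext (Scheme.hom_ext_of_forall _ _ fun x => ⟨U (toFun f) (toFun f x), rfl, ?_⟩)
    rw [hloc f _ (toFun f x) fun t ht => ht, hloc f' _ (toFun f x) fun t ht => h ▸ ht]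
  · let 𝒰 := T.openCoverOfIsOpenCover (U g) (TopologicalSpace.IsOpenCover.mk
      (eq_top_iff.2 fun x _ => TopologicalSpace.Opens.mem_iSup.2 ⟨g x, rfl⟩))
    let fm : ∀ m : M, 𝒰.X m ⟶ ∐ X := fun m => ((U g m).ι ≫ p) ≫ Sigma.ι X m
    have hf : ∀ a b : M, pullback.fst (𝒰.f a) (𝒰.f b) ≫ fm a = pullback.snd _ _ ≫ fm b := fun a b => by
      by_cases hab : a = b
      · subst hab
        rw [show pullback.fst (𝒰.f a) (𝒰.f a) = pullback.snd _ _ from
          (cancel_mono (𝒰.f a)).1 pullback.condition]
      · haveI : IsEmpty (pullback (𝒰.f a) (𝒰.f b) : Scheme.{u}) := ⟨fun z => hab (by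
          have h := congrArg (fun φ => φ z) (pullback.condition (f := 𝒰.f a) (g := 𝒰.f b))
          have ha : g ((pullback.fst (𝒰.f a) (𝒰.f b) ≫ 𝒰.f a) z) = a := (pullback.fst (𝒰.f a) (𝒰.f b) z).2
          have hb : g ((pullback.snd (𝒰.f a) (𝒰.f b) ≫ 𝒰.f b) z) = b := (pullback.snd (𝒰.f a) (𝒰.f b) z).2
          simp only at h
          exact ha.symm.trans ((congrArg g h).trans hb))⟩
        exact isInitialOfIsEmpty.hom_ext _ _
    let F := 𝒰.glueMorphisms fm hf
    have hF : ∀ m, (U g m).ι ≫ F = ((U g m).ι ≫ p) ≫ Sigma.ι X m := fun m => 𝒰.ι_glueMorphisms fm hf m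
    refine ⟨⟨F, Scheme.hom_ext_of_forall _ _ fun x => ⟨U g (g x), rfl, ?_⟩⟩, ?_⟩
    · rw [← Category.assoc, hF, Category.assoc, Sigma.ι_desc]
      exact Category.comp_id _
    · ext x
      have h := congrArg (fun φ => φ (⟨x, rfl⟩ : (U g (g x)).toScheme)) (hF (g x))
      change ((sigmaMk X).symm (F x)).1 = g x
      rw [show F x = Sigma.ι X (g x) (p x) from h, hι]

end Groth.Agent.S13131
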