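import Groth.Statements.S13132
import Groth.Agent.L01.ArtinianFlatRegular

set_option autoImplicit false
universe u v
open CAlg
open scoped Pointwise

namespace Groth.Agent.S13132

theorem reg_iff {A' : Type u} [CommRing A'] [IsArtinianRing A'] [IsLocalRing A'] (I : Ideal A') (hI : I ≠ ⊤)
    {S' : Type v} [CommRing S'] [Algebra A' S'] [Module.Flat A' S'] (rs : List S') :
    RingTheory.Sequence.IsWeaklyRegular S' rs ↔
      RingTheory.Sequence.IsWeaklyRegular (S' ⧸ I.map (algebraMap A' S'))
        (rs.map (algebraMap S' (S' ⧸ I.map (algebraMap A' S')))) := by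
  have : Nontrivial (A' ⧸ I) := Ideal.Quotient.nontrivial_iff.mpr hI
  rw [RingTheory.Sequence.isWeaklyRegular_map_algebraMap_iff,
    Groth.L01.ArtinianFlatRegular.isWeaklyRegular_iff (A := A') (M := S') (A' ⧸ I) rs]
  exact ((Algebra.TensorProduct.quotIdealMapEquivTensorQuot S' I).toLinearEquiv.isWeaklyRegular_congr rs).symm


/-- Let A' be an Artinian local ring, I a proper ideal of A' and S' a flat A'-algebra. An element f' of
S' is a non-zero-divisor exactly when its image in S'/IS' is one; and when f' is a non-zero-divisor,
the quotient S'/(f') is flat over A'. (The published statement is for local Artinian algebras with a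
fixed residue field over a ring of Witt vectors and a surjection between two of them; the argument
uses only that A' is Artinian local and I is a proper ideal, which is the form taken here.) -/
theorem result
    {A' : Type u} [CommRing A'] [IsArtinianRing A'] [IsLocalRing A'] (I : Ideal A') (hI : I ≠ ⊤)
    {S' : Type v} [CommRing S'] [Algebra A' S'] [Module.Flat A' S'] (f' : S') :
    (f' ∈ nonZeroDivisors S' ↔
      Ideal.Quotient.mk (I.map (algebraMap A' S')) f' ∈ nonZeroDivisors (S' ⧸ I.map (algebraMap A' S'))) ∧
    (f' ∈ nonZeroDivisors S' → Module.Flat A' (S' ⧸ Ideal.span {f'})) := by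
  have h := reg_iff I hI (S' := S') [f']
  rw [List.map_cons, List.map_nil, RingTheory.Sequence.isWeaklyRegular_singleton_iff,
    RingTheory.Sequence.isWeaklyRegular_singleton_iff] at h
  have key : ∀ {R : Type v} [CommRing R] (x : R), x ∈ nonZeroDivisors R ↔ IsSMulRegular R x :=
    fun {R} _ x => by
      rw [mem_nonZeroDivisors_iff_right, isSMulRegular_iff_right_eq_zero_of_smul]
      simp only [smul_eq_mul, mul_comm x]
  refine ⟨by rw [key, key]; exact h, fun hf => ?_⟩
  have hfl := Groth.L01.ArtinianFlatRegular.flat_quotSMulTop (A := A') (M := S') (f := f') fun N _ _ =>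
    Groth.L01.ArtinianFlatRegular.isSMulRegular_of_nontrivial A'
      (((TensorProduct.AlgebraTensorModule.rid A' S' S').isSMulRegular_congr f').mpr ((key f').mp hf)) N
  refine Module.Flat.of_linearEquiv (M := QuotSMulTop f' S')
    ((Submodule.quotEquivOfEq (Ideal.span {f'}) (f' • ⊤ : Submodule S' S') ?_).restrictScalars A')
  rw [← Submodule.ideal_span_singleton_smul, smul_eq_mul, Ideal.mul_top]

end Groth.Agent.S13132
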