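import Groth.Statements.S13133
import Groth.Agent.L01.ArtinianFlatRegular

set_option autoImplicit false
universe u v
open CAlg
open scoped Pointwise

namespace Groth.Agent.S13133

theorem reg_iff {A' : Type u} [CommRing A'] [IsArtinianRing A'] [IsLocalRing A'] (I : Ideal A') (hI : I ≠ ⊤)
    {S' : Type v} [CommRing S'] [Algebra A' S'] [Module.Flat A' S'] (rs : List S') :
    RingTheory.Sequence.IsWeaklyRegular S' rs ↔
      RingTheory.Sequence.IsWeaklyRegular (S' ⧸ I.map (algebraMap A' S'))
        (rs.map (algebraMap S' (S' ⧸ I.map (algebraMap A' S')))) := by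
  have : Nontrivial (A' ⧸ I) := Ideal.Quotient.nontrivial_iff.mpr hI
  rw [RingTheory.Sequence.isWeaklyRegular_map_algebraMap_iff,
    Groth.L01.ArtinianFlatRegular.isWeaklyRegular_iff (A := A') (M := S') (A' ⧸ I) rs]
  exact ((Algebra.TensorProduct.quotIdealMapEquivTensorQuot S' I).toLinearEquiv.isWeaklyRegular_congr rs).symm


/-- Let A' be an Artinian local ring, I a proper ideal of A', S' a flat A'-algebra and f'_1, …, f'_n
elements of S' with n ≥ 1. A family f'_1, …, f'_n in S' is a regular sequence exactly when its
reduction modulo I·S' is a regular sequence of S'/IS'. (Regular sequences are defined in the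
published text over Noetherian rings; this row does not assume S' Noetherian, which the argument
does not use. The published statement is for a surjection of local Artinian algebras with a fixed
residue field over a ring of Witt vectors; only the Artinian local base and the proper ideal are
used, which is the form taken here.) -/
theorem result
    {A' : Type u} [CommRing A'] [IsArtinianRing A'] [IsLocalRing A'] (I : Ideal A') (hI : I ≠ ⊤)
    {S' : Type v} [CommRing S'] [Algebra A' S'] [Module.Flat A' S'] {n : ℕ} (hn : 1 ≤ n)
    (f' : Fin n → S') :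
    RingTheory.Sequence.IsRegular S' (List.ofFn f') ↔
      RingTheory.Sequence.IsRegular (S' ⧸ I.map (algebraMap A' S'))
        (List.ofFn fun i => Ideal.Quotient.mk (I.map (algebraMap A' S')) (f' i)) := by
  rw [show (List.ofFn fun i => Ideal.Quotient.mk (I.map (algebraMap A' S')) (f' i)) =
    (List.ofFn f').map (algebraMap S' (S' ⧸ I.map (algebraMap A' S'))) by rw [List.map_ofFn]; rfl]
  set rs := List.ofFn f'
  rw [RingTheory.Sequence.isRegular_iff, RingTheory.Sequence.isRegular_iff, ← reg_iff I hI rs]
  refine and_congr_right' (not_congr ?_)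
  rw [eq_comm, smul_eq_mul, Ideal.mul_top, eq_comm (a := (⊤ : Ideal (S' ⧸ _))), smul_eq_mul, Ideal.mul_top,
    ← Ideal.map_ofList]
  refine ⟨fun h => by rw [h, Ideal.map_top], fun h => ?_⟩
  by_contra hne
  obtain ⟨𝔪, h𝔪, hle⟩ := Ideal.exists_le_maximal _ hne
  refine h𝔪.ne_top (eq_top_iff.mpr ?_)
  have h2 := congrArg (Ideal.comap (algebraMap S' (S' ⧸ I.map (algebraMap A' S')))) h
  rw [Ideal.comap_top, Ideal.Quotient.algebraMap_eq, Ideal.comap_map_of_surjective' _ Ideal.Quotient.mk_surjective,
    Ideal.mk_ker] at h2
  rw [← h2]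
  exact sup_le hle ((Groth.L01.ArtinianFlatRegular.map_le_jacobson I hI).trans
    (sInf_le ⟨bot_le, h𝔪⟩))

end Groth.Agent.S13133
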