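import Groth.Statements.S13134
import Groth.Agent.L01.ArtinianFlatRegular
import Mathlib.RingTheory.Flat.Equalizer
import Mathlib.RingTheory.MvPolynomial.Ideal
import Mathlib.LinearAlgebra.TensorProduct.Quotient
import Mathlib.Algebra.MvPolynomial.Eval

set_option autoImplicit false
universe u v
open CAlg

namespace Groth.Agent.S13134

theorem exists_nilpotent {A' : Type u} [CommRing A'] [IsArtinianRing A'] [IsLocalRing A'] (I : Ideal A')
    (hI : I ≠ ⊤) : ∃ n : ℕ, I ^ n = ⊥ := by
  obtain ⟨n, hn⟩ := (IsArtinianRing.isNilpotent_jacobson_bot (R := A'))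
  rw [IsLocalRing.jacobson_eq_maximalIdeal ⊥ bot_ne_top, Ideal.zero_eq_bot] at hn
  exact ⟨n, le_bot_iff.mp ((Ideal.pow_right_mono (IsLocalRing.le_maximalIdeal hI) n).trans hn.le)⟩

theorem le_of_le_sup_smul {A' : Type u} [CommRing A'] (I : Ideal A') {N : ℕ} (hN : I ^ N = ⊥)
    {M : Type*} [AddCommGroup M] [Module A' M] {P Q : Submodule A' M} (h : P ≤ Q ⊔ I • P) : P ≤ Q := by
  have key : ∀ k : ℕ, P ≤ Q ⊔ I ^ k • P := by
    intro k
    induction k with
    | zero => rw [pow_zero, Ideal.one_eq_top, Submodule.top_smul]; exact le_sup_right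
    | succ k ih =>
      refine h.trans (sup_le le_sup_left ?_)
      refine (Submodule.smul_mono le_rfl ih).trans ?_
      rw [Submodule.smul_sup, ← Submodule.mul_smul, ← pow_succ']
      exact sup_le_sup_right Submodule.smul_le_right _
  simpa [hN] using key N

theorem mem_smul_of_flat {A' : Type u} [CommRing A'] (I : Ideal A') {S B : Type*} [AddCommGroup S] [Module A' S]
    [AddCommGroup B] [Module A' B] [Module.Flat A' B] (ψ : S →ₗ[A'] B) (hψ : Function.Surjective ψ) {x : S}
    (hx : ψ x = 0) (hxI : x ∈ I • (⊤ : Submodule A' S)) : x ∈ I • LinearMap.ker ψ := by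
  let y : LinearMap.ker ψ := ⟨x, hx⟩
  have hinj := LinearMap.lTensor_injective_of_exact_of_flat ψ hψ (LinearMap.ker ψ).subtype
    (Submodule.injective_subtype _) (LinearMap.exact_subtype_ker_map ψ) (A' ⧸ I)
  have h0 : ((Ideal.Quotient.mk I 1 : A' ⧸ I) ⊗ₜ[A'] y) = 0 := hinj (by
    rw [map_zero, LinearMap.lTensor_tmul]
    refine (TensorProduct.quotTensorEquivQuotSMul S I).injective ?_
    rw [TensorProduct.quotTensorEquivQuotSMul_mk_tmul, one_smul, map_zero]
    exact (Submodule.Quotient.mk_eq_zero _).mpr hxI)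
  have h1 := congrArg (TensorProduct.quotTensorEquivQuotSMul (LinearMap.ker ψ) I) h0
  rw [TensorProduct.quotTensorEquivQuotSMul_mk_tmul, one_smul, map_zero, Submodule.Quotient.mk_eq_zero,
    Submodule.mem_smul_top_iff] at h1
  exact h1


/-- Let A' be an Artinian local ring, I a proper ideal, A = A'/I and f_1, …, f_m ∈ A[x_1, …, x_n]. Every
flat A'-algebra B' equipped with a surjection π onto A[x]/(f_1, …, f_m) with kernel I·B', compatible
with A' → A, is a quotient of A'[x_1, …, x_n] by the ideal generated by some lifts f'_1, …, f'_m of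
the f_i, compatibly with π and with reduction of polynomials modulo I. (The published statement is
for a surjection of local Artinian algebras with a fixed residue field over a ring of Witt vectors;
only the Artinian local base and the proper ideal are used, which is the form taken here.) -/
theorem result
    {A' : Type u} [CommRing A'] [IsArtinianRing A'] [IsLocalRing A'] (I : Ideal A') (hI : I ≠ ⊤)
    {n m : ℕ} (f : Fin m → MvPolynomial (Fin n) (A' ⧸ I))
    {B' : Type v} [CommRing B'] [Algebra A' B'] [Module.Flat A' B']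
    (π : B' →+* MvPolynomial (Fin n) (A' ⧸ I) ⧸ Ideal.span (Set.range f))
    (hπ : Function.Surjective π) (hker : RingHom.ker π = I.map (algebraMap A' B'))
    (hcomp : π.comp (algebraMap A' B') =
      ((Ideal.Quotient.mk (Ideal.span (Set.range f))).comp MvPolynomial.C).comp (Ideal.Quotient.mk I)) :
    ∃ (f' : Fin m → MvPolynomial (Fin n) A') (ψ : MvPolynomial (Fin n) A' →ₐ[A'] B'),
      (∀ i, MvPolynomial.map (Ideal.Quotient.mk I) (f' i) = f i) ∧
      Function.Surjective ψ ∧ RingHom.ker ψ.toRingHom = Ideal.span (Set.range f') ∧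
      ∀ q, π (ψ q) = Ideal.Quotient.mk (Ideal.span (Set.range f)) (MvPolynomial.map (Ideal.Quotient.mk I) q) := by
  classical
  let mp : MvPolynomial (Fin n) A' →+* MvPolynomial (Fin n) (A' ⧸ I) := MvPolynomial.map (Ideal.Quotient.mk I)
  have hmp : Function.Surjective mp := MvPolynomial.map_surjective _ Ideal.Quotient.mk_surjective
  choose b hb using fun i : Fin n => hπ (Ideal.Quotient.mk (Ideal.span (Set.range f)) (MvPolynomial.X i))
  let ψ : MvPolynomial (Fin n) A' →ₐ[A'] B' := MvPolynomial.aeval b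
  have hψ : ∀ q, π (ψ q) = Ideal.Quotient.mk (Ideal.span (Set.range f)) (mp q) := fun q => by
    refine congrFun (congrArg DFunLike.coe (MvPolynomial.ringHom_ext
      (f := π.comp ψ.toRingHom) (g := (Ideal.Quotient.mk _).comp mp) (fun a => ?_) (fun i => ?_))) q
    · simp only [RingHom.comp_apply, AlgHom.toRingHom_eq_coe, RingHom.coe_coe, ψ, MvPolynomial.aeval_C]
      exact (RingHom.congr_fun hcomp a).trans (by simp [mp])
    · simp [ψ, mp, hb]
  obtain ⟨N, hN⟩ := exists_nilpotent I hI
  have hIB : ∀ y : B', π y = 0 → y ∈ I • (⊤ : Submodule A' B') := fun y hy => by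
    rw [Ideal.smul_top_eq_map]
    show y ∈ I.map (algebraMap A' B')
    rw [← hker]
    exact hy
  have hsurj : Function.Surjective ψ := fun y => by
    have h : (⊤ : Submodule A' B') ≤ LinearMap.range ψ.toLinearMap ⊔ I • ⊤ := fun y _ => by
      obtain ⟨q, hq⟩ := Ideal.Quotient.mk_surjective (π y)
      obtain ⟨q, rfl⟩ := hmp q
      rw [← add_sub_cancel (ψ q) y]
      exact Submodule.add_mem_sup ⟨q, rfl⟩ (hIB _ (by rw [map_sub, hψ, hq, sub_self]))
    exact LinearMap.mem_range.mp (le_of_le_sup_smul I hN h (Submodule.mem_top : y ∈ ⊤))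
  choose g hg using fun i => hmp (f i)
  have hIS : ∀ i, ∃ e ∈ I • (⊤ : Submodule A' (MvPolynomial (Fin n) A')), ψ e = ψ (g i) := fun i => by
    have h1 : ψ (g i) ∈ I • (⊤ : Submodule A' B') := hIB _ (by
      rw [hψ, hg, Ideal.Quotient.eq_zero_iff_mem]
      exact Ideal.subset_span ⟨i, rfl⟩)
    rw [← LinearMap.range_eq_top.mpr (show Function.Surjective ψ.toLinearMap from hsurj),
      LinearMap.range_eq_map, ← Submodule.map_smul''] at h1
    obtain ⟨e, he, hee⟩ := h1
    exact ⟨e, he, hee⟩
  choose e he hee using hIS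
  have hmp0 : ∀ z ∈ I • (⊤ : Submodule A' (MvPolynomial (Fin n) A')), mp z = 0 := fun z hz => by
    refine Submodule.smul_induction_on hz (fun a ha x _ => ?_) (fun x y hx hy => by rw [map_add, hx, hy, add_zero])
    rw [Algebra.smul_def, map_mul, MvPolynomial.algebraMap_eq]
    simp [mp, Ideal.Quotient.eq_zero_iff_mem.mpr ha]
  let f' : Fin m → MvPolynomial (Fin n) A' := fun i => g i - e i
  have hf' : ∀ i, mp (f' i) = f i := fun i => by
    simp only [f', map_sub, hg, hmp0 _ (he i), sub_zero]
  have hle : Ideal.span (Set.range f') ≤ RingHom.ker ψ.toRingHom := Ideal.span_le.mpr (by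
    rintro _ ⟨i, rfl⟩
    show ψ (g i - e i) = 0
    rw [map_sub, hee, sub_self])
  refine ⟨f', ψ, hf', hsurj, le_antisymm ?_ hle, hψ⟩
  let K : Submodule A' (MvPolynomial (Fin n) A') := LinearMap.ker ψ.toLinearMap
  have hK : K ≤ (Ideal.span (Set.range f')).restrictScalars A' ⊔ I • K := fun q hq => by
    have h1 : mp q ∈ Ideal.span (Set.range f) := by
      rw [← Ideal.Quotient.eq_zero_iff_mem, ← hψ, show ψ q = 0 from hq, map_zero]
    have hr : Set.range f = mp '' Set.range f' := by
      rw [← Set.range_comp]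
      exact congrArg Set.range (funext fun i => (hf' i).symm)
    rw [hr, ← Ideal.map_span, Ideal.mem_map_iff_of_surjective _ hmp] at h1
    obtain ⟨s, hs, hsq⟩ := h1
    rw [← add_sub_cancel s q]
    refine Submodule.add_mem_sup hs ?_
    refine mem_smul_of_flat I ψ.toLinearMap hsurj ?_ ?_
    · show ψ (q - s) = 0
      rw [map_sub, show ψ q = 0 from hq, show ψ s = 0 from hle hs, sub_self]
    · rw [Ideal.smul_top_eq_map]
      show q - s ∈ I.map (algebraMap A' (MvPolynomial (Fin n) A'))
      rw [MvPolynomial.algebraMap_eq, ← Ideal.mk_ker (I := I), ← MvPolynomial.ker_map]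
      show mp (q - s) = 0
      rw [map_sub, hsq, sub_self]
  exact fun q hq => le_of_le_sup_smul I hN hK hq

end Groth.Agent.S13134
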