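import Groth.Statements.S13135
import Groth.Agent.L01.ArtinianFlatRegular
import Mathlib.RingTheory.MvPolynomial.Ideal

set_option autoImplicit false
universe u
open CAlg

namespace Groth.Agent.S13135

theorem flat_quot {A : Type u} [CommRing A] [IsArtinianRing A] [IsLocalRing A] {S : Type u} [CommRing S]
    [Algebra A S] {M : Type u} [AddCommGroup M] [Module A M] [Module S M] [IsScalarTower A S M]
    [Module.Flat A M] {rs : List S} (h : RingTheory.Sequence.IsWeaklyRegular M rs) :
    Module.Flat A (M ⧸ (Ideal.ofList rs • ⊤ : Submodule S M)) := by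
  induction rs generalizing M with
  | nil =>
    exact Module.Flat.of_linearEquiv (M := M)
      ((Submodule.quotEquivOfEqBot _ (by simp)).restrictScalars A)
  | cons r rs ih =>
    rw [RingTheory.Sequence.isWeaklyRegular_cons_iff] at h
    have := Groth.L01.ArtinianFlatRegular.flat_quotSMulTop (A := A) (M := M) (f := r) fun N _ _ =>
      Groth.L01.ArtinianFlatRegular.isSMulRegular_of_nontrivial A
        (((TensorProduct.AlgebraTensorModule.rid A S M).isSMulRegular_congr r).mpr h.1) N
    have := ih h.2
    exact Module.Flat.of_linearEquiv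
      ((Submodule.quotOfListConsSMulTopEquivQuotSMulTopInner M r rs).restrictScalars A)


/-- Let A' be an Artinian local ring, I a proper ideal, A = A'/I and f_1, …, f_m a regular sequence in
A[x_1, …, x_n]. For every choice of lifts f'_1, …, f'_m in A'[x_1, …, x_n] the quotient A'[x]/(f'_1,
…, f'_m) is flat over A' (so it is a flat lifting of A[x]/(f_1, …, f_m)). (The published statement
is for a surjection of local Artinian algebras with a fixed residue field over a ring of Witt
vectors; only the Artinian local base and the proper ideal are used, which is the form taken here.) -/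
theorem result
    {A' : Type u} [CommRing A'] [IsArtinianRing A'] [IsLocalRing A'] (I : Ideal A') (hI : I ≠ ⊤)
    {n m : ℕ} (f : Fin m → MvPolynomial (Fin n) (A' ⧸ I))
    (hreg : RingTheory.Sequence.IsRegular (MvPolynomial (Fin n) (A' ⧸ I)) (List.ofFn f))
    (f' : Fin m → MvPolynomial (Fin n) A') (hf' : ∀ i, MvPolynomial.map (Ideal.Quotient.mk I) (f' i) = f i) :
    Module.Flat A' (MvPolynomial (Fin n) A' ⧸ Ideal.span (Set.range f')) := by
  let mp : MvPolynomial (Fin n) A' →+* MvPolynomial (Fin n) (A' ⧸ I) := MvPolynomial.map (Ideal.Quotient.mk I)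
  have hmp : Function.Surjective mp := MvPolynomial.map_surjective _ Ideal.Quotient.mk_surjective
  letI := mp.toAlgebra
  have hker : RingHom.ker mp = I.map (algebraMap A' (MvPolynomial (Fin n) A')) := by
    rw [MvPolynomial.algebraMap_eq]
    exact (MvPolynomial.ker_map _).trans (by rw [Ideal.mk_ker])
  let e : (MvPolynomial (Fin n) A' ⧸ I.map (algebraMap A' (MvPolynomial (Fin n) A')))
      ≃ₗ[MvPolynomial (Fin n) A'] MvPolynomial (Fin n) (A' ⧸ I) :=
    (Submodule.quotEquivOfEq _ _ hker.symm).trans
      ((Algebra.linearMap (MvPolynomial (Fin n) A') (MvPolynomial (Fin n) (A' ⧸ I))).quotKerEquivOfSurjective hmp)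
  have : Nontrivial (A' ⧸ I) := Ideal.Quotient.nontrivial_iff.mpr hI
  have hw := hreg.toIsWeaklyRegular
  rw [show List.ofFn f = (List.ofFn f').map
      (algebraMap (MvPolynomial (Fin n) A') (MvPolynomial (Fin n) (A' ⧸ I))) by
    rw [List.map_ofFn]; exact congrArg _ (funext fun i => (hf' i).symm),
    RingTheory.Sequence.isWeaklyRegular_map_algebraMap_iff, ← e.isWeaklyRegular_congr] at hw
  have hw' : RingTheory.Sequence.IsWeaklyRegular (MvPolynomial (Fin n) A') (List.ofFn f') :=
    (Groth.L01.ArtinianFlatRegular.isWeaklyRegular_iff (A := A') (A' ⧸ I) _).mpr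
      (((Algebra.TensorProduct.quotIdealMapEquivTensorQuot _ I).toLinearEquiv.isWeaklyRegular_congr _).mp hw)
  have := flat_quot (A := A') hw'
  refine Module.Flat.of_linearEquiv
    (M := MvPolynomial (Fin n) A' ⧸ (Ideal.ofList (List.ofFn f') • ⊤ : Submodule (MvPolynomial (Fin n) A') (MvPolynomial (Fin n) A')))
    ((Submodule.quotEquivOfEq _ _ ?_).restrictScalars A')
  rw [smul_eq_mul, Ideal.mul_top]
  simp [Ideal.ofList, Set.range, List.mem_ofFn]

end Groth.Agent.S13135
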