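import Groth.Statements.S13137
import Groth.Agent.L08.W2

set_option autoImplicit false
universe u v
open FrobAlg

namespace Groth.Agent.S13137

/-- For a perfect field k of characteristic p, a flat W₂(k)-algebra B and an ideal J of B, the quotient
B/J is flat over W₂(k) if and only if (p) ∩ J = pJ in B. (With B a flat lifting of A = B/pB this
says: B/J is a flat lifting of A modulo the image of J exactly when (p) ∩ J = pJ.) -/
theorem result
    (p : ℕ) [Fact p.Prime] (k : Type u) [Field k] [CharP k p] [PerfectRing k p]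
    (B : Type v) [CommRing B] [Algebra (FrobAlg.W2 p k) B] [Module.Flat (FrobAlg.W2 p k) B]
    (J : Ideal B) :
    Module.Flat (FrobAlg.W2 p k) (B ⧸ J) ↔
      Ideal.span {(p : B)} ⊓ J = Ideal.span {(p : B)} * J := by
  have hsmul : ∀ (b : B), (p : FrobAlg.W2 p k) • b = (p : B) * b := fun b => by
    rw [Algebra.smul_def, map_natCast]
  have hq : ∀ (b : B), (p : FrobAlg.W2 p k) • Ideal.Quotient.mk J b = Ideal.Quotient.mk J ((p : B) * b) := fun b => by
    rw [← hsmul]; exact (Submodule.Quotient.mk_smul J (p : FrobAlg.W2 p k) b).symm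
  constructor
  · intro hflat
    refine le_antisymm ?_ (le_inf Ideal.mul_le_left Ideal.mul_le_right)
    rintro x ⟨hx, hxJ⟩
    obtain ⟨b, rfl⟩ := Ideal.mem_span_singleton'.1 hx
    obtain ⟨m', hm'⟩ := Groth.L08.W2.torsion_of_flat p (k := k) (M := B ⧸ J) (m := Ideal.Quotient.mk J b)
      (by rw [hq, Ideal.Quotient.eq_zero_iff_mem, mul_comm]; exact hxJ)
    obtain ⟨c, rfl⟩ := Ideal.Quotient.mk_surjective m'
    rw [hq, Ideal.Quotient.eq] at hm'
    have hpp : (p : B) * (p : B) = 0 := by
      have := congrArg (algebraMap (FrobAlg.W2 p k) B) (Groth.L08.W2.p_mul_p (R := k) p)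
      simpa using this
    rw [show b * (p : B) = (p : B) * (b - (p : B) * c) by rw [mul_sub, ← mul_assoc, hpp]; ring]
    exact Ideal.mul_mem_mul (Ideal.mem_span_singleton_self _) hm'
  · intro h
    refine Groth.L08.W2.flat_of_torsion p fun m hm => ?_
    obtain ⟨b, rfl⟩ := Ideal.Quotient.mk_surjective m
    rw [hq, Ideal.Quotient.eq_zero_iff_mem] at hm
    have hmem : (p : B) * b ∈ Ideal.span {(p : B)} * J := h ▸ ⟨Ideal.mem_span_singleton.2 (dvd_mul_right _ _), hm⟩
    obtain ⟨j, hj, hjb⟩ := Ideal.mem_span_singleton_mul.1 hmem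
    obtain ⟨c, hc⟩ := Groth.L08.W2.torsion_of_flat p (k := k) (M := B) (m := b - j)
      (by rw [hsmul, mul_sub, hjb, sub_self])
    rw [hsmul] at hc
    refine ⟨Ideal.Quotient.mk J c, ?_⟩
    rw [hq, Ideal.Quotient.eq, ← hc, sub_sub_cancel]
    exact hj

end Groth.Agent.S13137
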