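import Groth.Statements.S13139
import Groth.Agent.L08.W2Poly

set_option autoImplicit false
universe u
open scoped BigOperators
open FrobAlg

namespace Groth.Agent.S13139
open Groth.L08

/-- Let k be a perfect field of characteristic p and f_1, …, f_m a regular sequence in R = k[x_1, …,
x_n]. The complete intersection A = R/(f_1, …, f_m) lifts to W₂(k) compatibly with Frobenius if and
only if for some lifts f'_1, …, f'_m ∈ R' = W₂(k)[x_1, …, x_n] of the f_i and some h_1, …, h_n ∈ R'
one has F'(f'_i) − f'_i^p − p·Σ_j (∂f'_i/∂x_j)^p h_j ∈ p·(f'_1, …, f'_m) for every i, F' being the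
standard Frobenius lift of R'. In terms of Frobenius residues P(f') = (F'(f') − f'^p)/p ∈ R, which
change by g^p when f' changes by pg, this is the congruence P_{f_i} + g_i^p ≡ Σ_j (∂f_i/∂x_j)^p h_j
modulo (f_1, …, f_m) for some g_i, h_j. -/
theorem result
    (p : ℕ) [Fact p.Prime] (k : Type u) [Field k] [CharP k p] [PerfectRing k p]
    {n m : ℕ} (f : Fin m → MvPolynomial (Fin n) k)
    (hreg : RingTheory.Sequence.IsRegular (MvPolynomial (Fin n) k) (List.ofFn f)) :
    FrobAlg.IsFLiftable p k (MvPolynomial (Fin n) k ⧸ Ideal.span (Set.range f)) ↔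
    ∃ (f' : Fin m → MvPolynomial (Fin n) (FrobAlg.W2 p k)) (h : Fin n → MvPolynomial (Fin n) (FrobAlg.W2 p k)),
      (∀ i, MvPolynomial.map (FrobAlg.res p k) (f' i) = f i) ∧
      ∀ i, FrobAlg.polyFrob p k (Fin n) (f' i) - f' i ^ p
        - (p : MvPolynomial (Fin n) (FrobAlg.W2 p k)) * ∑ j, MvPolynomial.pderiv j (f' i) ^ p * h j
        ∈ Ideal.span {(p : MvPolynomial (Fin n) (FrobAlg.W2 p k))} * Ideal.span (Set.range f') := by
  have hmapf : ∀ f' : Fin m → MvPolynomial (Fin n) (FrobAlg.W2 p k), (∀ i, W2.red (f' i) = f i) →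
      (Ideal.span (Set.range f')).map W2.red = Ideal.span (Set.range f) := fun f' hf => by
    rw [Ideal.map_span, ← Set.range_comp]
    exact congrArg (fun g => Ideal.span (Set.range g)) (funext hf)
  constructor
  · rintro ⟨B, _, ι, π, Φ, hΦ⟩
    have hl := hΦ.toIsLift
    let φ : MvPolynomial (Fin n) (FrobAlg.W2 p k) →+* B :=
      MvPolynomial.eval₂Hom ι fun j => Function.surjInv hl.surj (Ideal.Quotient.mk _ (MvPolynomial.X j))
    have hφ : ∀ r, π (φ r) = Ideal.Quotient.mk (Ideal.span (Set.range f)) (W2.red r) := by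
      refine RingHom.congr_fun (?_ : π.comp φ = (Ideal.Quotient.mk _).comp W2.red)
      refine MvPolynomial.ringHom_ext (fun a => ?_) fun j => ?_
      · simp only [φ, W2.red, RingHom.comp_apply, MvPolynomial.eval₂Hom_C, MvPolynomial.map_C]
        exact RingHom.congr_fun hl.comm a
      · simp only [φ, W2.red, RingHom.comp_apply, MvPolynomial.eval₂Hom_X', MvPolynomial.map_X]
        exact Function.surjInv_eq hl.surj _
    have hpre : ∀ a, ∃ r, π (φ r) = a := fun a => by
      obtain ⟨q, rfl⟩ := Ideal.Quotient.mk_surjective a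
      obtain ⟨r, rfl⟩ := W2.red_surjective q
      exact ⟨r, hφ r⟩
    have hpmul : ∀ c, ∃ r, φ ((p : MvPolynomial (Fin n) (FrobAlg.W2 p k)) * r) = (p : B) * c := fun c => by
      obtain ⟨r, hr⟩ := hpre (π c)
      exact ⟨r, by rw [map_mul, map_natCast, W2.lift_p_mul_congr hl hr]⟩
    have hsurj : Function.Surjective φ := fun b => by
      obtain ⟨r, hr⟩ := hpre (π b)
      obtain ⟨c, hc⟩ := W2.lift_exists_mul hl (b := b - φ r) (by rw [map_sub, hr, sub_self])
      obtain ⟨r', hr'⟩ := hpmul c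
      exact ⟨r + (p : MvPolynomial (Fin n) (FrobAlg.W2 p k)) * r', by rw [map_add, hr', ← hc, add_sub_cancel]⟩
    have hex : ∀ i, ∃ g, W2.red g = f i ∧ φ g = 0 := fun i => by
      obtain ⟨g, hg⟩ := W2.red_surjective (f i)
      obtain ⟨c, hc⟩ := W2.lift_exists_mul hl (b := φ g)
        (by rw [hφ, hg, Ideal.Quotient.eq_zero_iff_mem]; exact Ideal.subset_span ⟨i, rfl⟩)
      obtain ⟨r, hr⟩ := hpmul c
      exact ⟨g - (p : MvPolynomial (Fin n) (FrobAlg.W2 p k)) * r,
        by rw [map_sub, map_mul W2.red, W2.red_p, zero_mul, sub_zero, hg], by rw [map_sub, hr, hc, sub_self]⟩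
    choose f' hf hf0 using hex
    have hker : RingHom.ker φ = Ideal.span (Set.range f') := by
      refine le_antisymm (fun v hv => ?_) (Ideal.span_le.2 (by rintro _ ⟨i, rfl⟩; exact hf0 i))
      rw [RingHom.mem_ker] at hv
      have h1 : W2.red v ∈ (Ideal.span (Set.range f')).map W2.red := by
        rw [hmapf f' hf, ← Ideal.Quotient.eq_zero_iff_mem, ← hφ, hv, map_zero]
      obtain ⟨a, ha, hav⟩ := (Ideal.mem_map_iff_of_surjective _ W2.red_surjective).1 h1
      obtain ⟨w, hw⟩ := W2.exists_eq_p_mul_poly (x := v - a) (by rw [map_sub, hav, sub_self])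
      have hφa : φ a = 0 := (Ideal.span_le (I := RingHom.ker φ)).2 (by rintro _ ⟨i, rfl⟩; exact hf0 i) ha
      have h2 : W2.red w ∈ (Ideal.span (Set.range f')).map W2.red := by
        rw [hmapf f' hf, ← Ideal.Quotient.eq_zero_iff_mem, ← hφ]
        refine W2.lift_torsion hl ?_
        rw [← map_natCast φ, ← map_mul, ← hw, map_sub, hv, hφa, sub_zero]
      obtain ⟨b, hb, hbw⟩ := (Ideal.mem_map_iff_of_surjective _ W2.red_surjective).1 h2
      rw [sub_eq_iff_eq_add.1 hw, W2.p_mul_congr hbw.symm]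
      exact add_mem (Ideal.mul_mem_left _ _ hb) ha
    let e : (MvPolynomial (Fin n) (FrobAlg.W2 p k) ⧸ Ideal.span (Set.range f')) ≃+* B :=
      (Ideal.quotEquivOfEq hker.symm).trans (RingHom.quotientKerEquivOfSurjective hsurj)
    have he : ∀ r, e (Ideal.Quotient.mk _ r) = φ r := fun r => by simp [e]
    have hC : ∀ a, e.symm (ι a) = Ideal.Quotient.mk _ (MvPolynomial.C a) := fun a => by
      rw [RingEquiv.symm_apply_eq, he]
      simp [φ]
    have hflat : ((Ideal.Quotient.mk (Ideal.span (Set.range f'))).comp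
        (MvPolynomial.C : FrobAlg.W2 p k →+* MvPolynomial (Fin n) (FrobAlg.W2 p k))).Flat := by
      rw [show (Ideal.Quotient.mk (Ideal.span (Set.range f'))).comp MvPolynomial.C = (e.symm : B →+* _).comp ι
        from RingHom.ext fun a => (hC a).symm]
      exact RingHom.Flat.comp hl.flat (RingHom.Flat.of_bijective e.symm.bijective)
    obtain ⟨h, hh⟩ := (W2.frobLift_iff f' hflat).1 (by
      refine ⟨(e.symm : B →+* _).comp (Φ.comp (e : _ →+* B)), ?_, ?_⟩
      · refine RingHom.ext fun a => ?_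
        simp only [RingHom.comp_apply, RingEquiv.coe_toRingHom, ← hC, RingEquiv.apply_symm_apply]
        exact congrArg e.symm (RingHom.congr_fun hΦ.semi a)
      · intro r s hrs
        simp only [RingHom.comp_apply, RingEquiv.coe_toRingHom, RingEquiv.symm_apply_eq, he] at hrs
        rw [hmapf f' hf, ← Ideal.Quotient.eq, map_pow, ← hφ, ← hφ, ← hrs, hΦ.red])
    exact ⟨f', h, hf, hh⟩
  · rintro ⟨f', h, hf, hh⟩
    have hflat := W2.flat_of_regular f' f hf hreg
    obtain ⟨Φ, hC, hr⟩ := (W2.frobLift_iff f' hflat).2 ⟨h, hh⟩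
    have hle : ∀ x ∈ Ideal.span (Set.range f'),
        (Ideal.Quotient.mk (Ideal.span (Set.range f))).comp W2.red x = 0 := fun x hx => by
      rw [RingHom.comp_apply, Ideal.Quotient.eq_zero_iff_mem, ← hmapf f' hf]
      exact Ideal.mem_map_of_mem _ hx
    refine ⟨_, inferInstance, (Ideal.Quotient.mk (Ideal.span (Set.range f'))).comp MvPolynomial.C,
      Ideal.Quotient.lift _ _ hle, Φ, ⟨hflat, ?_, ?_, ?_⟩, hC, ?_⟩
    · exact Ideal.Quotient.lift_surjective_of_surjective _ _
        (Ideal.Quotient.mk_surjective.comp W2.red_surjective)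
    · rw [← Ideal.map_map, W2.ker_res p, Ideal.map_span (MvPolynomial.C), Set.image_singleton, map_natCast]
      refine le_antisymm (fun x hx => ?_) ?_
      · obtain ⟨r, rfl⟩ := Ideal.Quotient.mk_surjective x
        rw [RingHom.mem_ker, Ideal.Quotient.lift_mk, RingHom.comp_apply, Ideal.Quotient.eq_zero_iff_mem,
          ← hmapf f' hf, Ideal.mem_map_iff_of_surjective _ W2.red_surjective] at hx
        obtain ⟨a, ha, har⟩ := hx
        have h1 : r - a ∈ Ideal.span {(p : MvPolynomial (Fin n) (FrobAlg.W2 p k))} := by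
          rw [← W2.ker_red, RingHom.mem_ker, map_sub, har, sub_self]
        have h2 := Ideal.mem_map_of_mem (Ideal.Quotient.mk (Ideal.span (Set.range f'))) h1
        rwa [map_sub, Ideal.Quotient.eq_zero_iff_mem.2 ha, sub_zero] at h2
      · rw [Ideal.map_le_iff_le_comap, Ideal.span_singleton_le_iff_mem, Ideal.mem_comap, RingHom.mem_ker,
          Ideal.Quotient.lift_mk, RingHom.comp_apply, W2.red_p, map_zero]
    · refine RingHom.ext fun a => ?_
      simp only [RingHom.comp_apply, Ideal.Quotient.lift_mk, W2.red, MvPolynomial.map_C]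
      rfl
    · intro b
      obtain ⟨r, rfl⟩ := Ideal.Quotient.mk_surjective b
      obtain ⟨s, hs⟩ := Ideal.Quotient.mk_surjective (Φ (Ideal.Quotient.mk _ r))
      rw [← hs, Ideal.Quotient.lift_mk, Ideal.Quotient.lift_mk, RingHom.comp_apply, RingHom.comp_apply, ← map_pow,
        Ideal.Quotient.eq, ← hmapf f' hf]
      exact hr r s hs.symm

end Groth.Agent.S13139
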