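import Groth.Statements.S13141
import Groth.Agent.L08.Avg
import Mathlib.RepresentationTheory.Invariants

set_option autoImplicit false
universe u v w w'
open scoped TensorProduct
open GrpAlg

namespace Groth.Agent.S13141
open TensorProduct

/-- Let G be a finite group, R a commutative ring with |G| invertible in R, M a projective R-module with
an R-linear G-action and S an R-algebra. The natural map M^G ⊗_R S → M ⊗_R S is injective and its
image is the submodule of G-invariants of M ⊗_R S (G acting on the first factor); that is, M^G ⊗_R S
→ (M ⊗_R S)^G is bijective. -/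
theorem result
    (R : Type u) [CommRing R] (G : Type v) [Group G] [Finite G] (hG : IsUnit ((Nat.card G : ℕ) : R))
    (M : Type w) [AddCommGroup M] [Module R M] [Module.Projective R M] (ρ : Representation R G M)
    (S : Type w') [CommRing S] [Algebra R S] :
    Function.Injective (TensorProduct.map ρ.invariants.subtype (LinearMap.id : S →ₗ[R] S)) ∧
    LinearMap.range (TensorProduct.map ρ.invariants.subtype (LinearMap.id : S →ₗ[R] S)) =
      ⨅ g : G, LinearMap.eqLocus (LinearMap.rTensor S (ρ g)) LinearMap.id := by
  let P : M →ₗ[R] ρ.invariants :=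
    (Groth.L08.avg hG ρ).codRestrict _ fun m γ => Groth.L08.avg_fixed hG ρ γ m
  have hP : P ∘ₗ ρ.invariants.subtype = LinearMap.id :=
    LinearMap.ext fun x => Subtype.ext (Groth.L08.avg_of_fixed hG ρ x.2)
  let ι := TensorProduct.map ρ.invariants.subtype (LinearMap.id : S →ₗ[R] S)
  let P' := TensorProduct.map P (LinearMap.id : S →ₗ[R] S)
  have hli : ∀ x, P' (ι x) = x := fun x => by
    rw [← LinearMap.comp_apply, ← TensorProduct.map_comp, hP, LinearMap.id_comp, TensorProduct.map_id]
    rfl
  let τ : G →* Module.End R (M ⊗[R] S) :=
    { toFun := fun g => (ρ g).rTensor S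
      map_one' := by rw [map_one]; exact LinearMap.rTensor_id S M
      map_mul' := fun g h => by rw [map_mul]; exact LinearMap.rTensor_comp S (ρ g) (ρ h) }
  refine ⟨Function.LeftInverse.injective hli, le_antisymm ?_ ?_⟩
  · rintro _ ⟨x, rfl⟩
    simp only [Submodule.mem_iInf, LinearMap.mem_eqLocus, LinearMap.id_apply]
    intro g
    induction x with
    | zero => simp
    | add p q hp hq => simp only [map_add, hp, hq]
    | tmul a b => simp [a.2 g]
  · intro y hy
    simp only [Submodule.mem_iInf, LinearMap.mem_eqLocus, LinearMap.id_apply] at hy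
    refine ⟨P' y, ?_⟩
    refine Eq.trans ?_ (Groth.L08.avg_of_fixed hG τ hy)
    clear hy
    induction y with
    | zero => simp
    | add p q hp hq => simp only [map_add, hp, hq]
    | tmul a b =>
      exact Groth.L08.avg_natural hG ρ τ ((TensorProduct.mk R M S).flip b) (fun _ _ => rfl) a

end Groth.Agent.S13141
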