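import Groth.Statements.S13142
import Groth.Agent.L08.Avg
import Mathlib.RingTheory.Flat.Basic
import Mathlib.RingTheory.MvPolynomial.Basic

set_option autoImplicit false
universe u v
open GrpAlg

namespace Groth.Agent.S13142

/-- Let G be a finite group and R a commutative ring with |G| invertible in R, acting on R[x_1, …, x_n]
by R-algebra automorphisms. The invariant subring R[x_1, …, x_n]^G is a flat R-module (so the
quotient of affine n-space over R by G is flat over R). -/
theorem result
    (R : Type u) [CommRing R] (G : Type v) [Group G] [Finite G] (hG : IsUnit ((Nat.card G : ℕ) : R))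
    (n : ℕ) (ρ : G →* (MvPolynomial (Fin n) R ≃ₐ[R] MvPolynomial (Fin n) R)) :
    Module.Flat R ↥(⨅ g : G, LinearMap.eqLocus (ρ g).toLinearMap (LinearMap.id : MvPolynomial (Fin n) R →ₗ[R] MvPolynomial (Fin n) R)) := by
  let σ : G →* Module.End R (MvPolynomial (Fin n) R) :=
    { toFun := fun g => (ρ g).toLinearMap
      map_one' := by rw [map_one]; rfl
      map_mul' := fun g h => by rw [map_mul]; rfl }
  have h : LinearMap.range (Groth.L08.avg hG σ) =
      ⨅ g : G, LinearMap.eqLocus (ρ g).toLinearMap (LinearMap.id : MvPolynomial (Fin n) R →ₗ[R] MvPolynomial (Fin n) R) :=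
    Groth.L08.range_avg hG σ
  rw [← h]
  refine Module.Flat.of_retract (LinearMap.range (Groth.L08.avg hG σ)).subtype
    (Groth.L08.avg hG σ).rangeRestrict (LinearMap.ext fun x => Subtype.ext ?_)
  obtain ⟨_, y, rfl⟩ := x
  exact Groth.L08.avg_of_fixed hG σ fun g => Groth.L08.avg_fixed hG σ g y

end Groth.Agent.S13142
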