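import Groth.Statements.S13143
import Groth.Agent.L08.W2Lift

set_option autoImplicit false
universe u
open FrobAlg

namespace Groth.Agent.S13143
open Groth.L08

/-- Let k be a perfect field of characteristic p and A → B a homomorphism of Noetherian k-algebras with
an A-linear retraction B → A. If B lifts flatly to W₂(k), so does A. (The published statement
phrases the descent for finite surjective morphisms of degree prime to p, via a trace splitting; the
argument uses exactly an A-linear splitting of A → B for an affine morphism, which is the hypothesis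
taken here.) -/
theorem result
    (p : ℕ) [Fact p.Prime] (k : Type u) [Field k] [CharP k p] [PerfectRing k p]
    (A B : Type u) [CommRing A] [CommRing B] [Algebra k A] [Algebra k B]
    [IsNoetherianRing A] [IsNoetherianRing B] [Algebra A B] [IsScalarTower k A B]
    (r : B →ₗ[A] A) (hr : ∀ a : A, r (algebraMap A B a) = a)
    (hB : FrobAlg.IsW2Liftable p k B) : FrobAlg.IsW2Liftable p k A := by
  obtain ⟨B', _, ιB, πB, h⟩ := hB
  let φ : MvPolynomial A (FrobAlg.W2 p k) →+* B' :=
    MvPolynomial.eval₂Hom ιB fun a => Function.surjInv h.surj (algebraMap A B a)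
  let ev : MvPolynomial A (FrobAlg.W2 p k) →+* A :=
    MvPolynomial.eval₂Hom ((algebraMap k A).comp (FrobAlg.res p k)) id
  have hev : ∀ f, πB (φ f) = algebraMap A B (ev f) := by
    refine RingHom.congr_fun (?_ : πB.comp φ = (algebraMap A B).comp ev)
    refine MvPolynomial.ringHom_ext (fun w => ?_) fun a => ?_
    · simp only [φ, ev, RingHom.comp_apply, MvPolynomial.eval₂Hom_C]
      rw [← IsScalarTower.algebraMap_apply k A B]
      exact RingHom.congr_fun h.comm w
    · simp only [φ, ev, RingHom.comp_apply, MvPolynomial.eval₂Hom_X', id_eq]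
      exact Function.surjInv_eq h.surj _
  have hex : ∀ f, ev f = 0 → ∃ b, φ f = W2.jj h b := fun f hf =>
    W2.exists_jj h (by rw [hev, hf, map_zero])
  have hp : ∀ f, φ ((p : MvPolynomial A (FrobAlg.W2 p k)) * f) = W2.jj h (algebraMap A B (ev f)) := fun f => by
    rw [map_mul, map_natCast, ← hev, W2.jj_pi]
  let I : Ideal (MvPolynomial A (FrobAlg.W2 p k)) :=
    { carrier := {f | ev f = 0 ∧ ∀ b, φ f = W2.jj h b → r b = 0}
      zero_mem' := ⟨map_zero _, fun b hb => by
        rw [W2.jj_injective h (hb.symm.trans ((map_zero φ).trans (map_zero (W2.jj h)).symm)), map_zero]⟩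
      add_mem' := fun {f g} hf hg => ⟨by rw [map_add, hf.1, hg.1, add_zero], fun b hb => by
        obtain ⟨b1, h1⟩ := hex f hf.1
        obtain ⟨b2, h2⟩ := hex g hg.1
        rw [map_add, h1, h2, ← map_add] at hb
        rw [← W2.jj_injective h hb, map_add, hf.2 b1 h1, hg.2 b2 h2, add_zero]⟩
      smul_mem' := fun c f hf => ⟨by rw [smul_eq_mul, map_mul, hf.1, mul_zero], fun b hb => by
        obtain ⟨b1, h1⟩ := hex f hf.1
        rw [smul_eq_mul, map_mul, h1, W2.mul_jj, hev] at hb
        rw [← W2.jj_injective h hb, ← Algebra.smul_def, map_smul, hf.2 b1 h1, smul_zero]⟩ }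
  refine ⟨MvPolynomial A (FrobAlg.W2 p k) ⧸ I, inferInstance, (Ideal.Quotient.mk I).comp MvPolynomial.C,
    Ideal.Quotient.lift I ev fun f hf => hf.1, W2.isLift_of ?_ ?_ ?_ ?_⟩
  · exact Ideal.Quotient.lift_surjective_of_surjective I _ fun a => ⟨MvPolynomial.X a, by simp [ev]⟩
  · refine le_antisymm (fun x hx => ?_) ((Ideal.span_singleton_le_iff_mem _).2 ?_)
    · obtain ⟨f, rfl⟩ := Ideal.Quotient.mk_surjective x
      rw [RingHom.mem_ker, Ideal.Quotient.lift_mk] at hx
      obtain ⟨b, hb⟩ := hex f hx
      refine Ideal.mem_span_singleton.2 ⟨Ideal.Quotient.mk I (MvPolynomial.X (r b)), ?_⟩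
      rw [← map_natCast (Ideal.Quotient.mk I), ← map_mul, Ideal.Quotient.eq]
      refine ⟨?_, fun c hc => ?_⟩
      · rw [map_sub, map_mul, hx, map_natCast, W2.cast_p_eq_zero k A, zero_mul, sub_zero]
      · rw [map_sub, hb, hp, show ev (MvPolynomial.X (r b)) = r b by simp [ev], ← map_sub] at hc
        rw [← W2.jj_injective h hc, map_sub, hr, sub_self]
    · rw [RingHom.mem_ker, map_natCast, W2.cast_p_eq_zero k A]
  · refine RingHom.ext fun w => ?_
    simp [ev]
  · intro x hx
    obtain ⟨f, rfl⟩ := Ideal.Quotient.mk_surjective x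
    rw [← map_natCast (Ideal.Quotient.mk I), ← map_mul, Ideal.Quotient.eq_zero_iff_mem] at hx
    rw [Ideal.Quotient.lift_mk, ← hr (ev f)]
    exact hx.2 _ (hp f)

end Groth.Agent.S13143
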