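import Groth.Statements.S13144
import Groth.Agent.L08.W2Lift

set_option autoImplicit false
universe u
open FrobAlg

namespace Groth.Agent.S13144
open Groth.L08

/-- Let k be a perfect field of characteristic p, A → B a homomorphism of Noetherian k-algebras with an
A-linear retraction B → A, and A' → B' a homomorphism over W₂(k) between flat liftings of A and B
which reduces to A → B. If the Frobenius of B lifts to B' (a σ₂-semilinear ring endomorphism
reducing to the p-th power map), then the Frobenius of A lifts to A'. (The published statement is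
for an affine morphism whose map on structure sheaves splits linearly; the affine case with an
A-linear splitting is taken here.) -/
theorem result
    (p : ℕ) [Fact p.Prime] (k : Type u) [Field k] [CharP k p] [PerfectRing k p]
    (A B : Type u) [CommRing A] [CommRing B] [Algebra k A] [Algebra k B]
    [IsNoetherianRing A] [IsNoetherianRing B] [Algebra A B] [IsScalarTower k A B]
    (r : B →ₗ[A] A) (hr : ∀ a : A, r (algebraMap A B a) = a)
    (A' B' : Type u) [CommRing A'] [CommRing B']
    (ιA : FrobAlg.W2 p k →+* A') (πA : A' →+* A) (hA : FrobAlg.IsLift p k A A' ιA πA)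
    (ιB : FrobAlg.W2 p k →+* B') (πB : B' →+* B) (hB : FrobAlg.IsLift p k B B' ιB πB)
    (φ' : A' →+* B') (hφι : φ'.comp ιA = ιB) (hφπ : πB.comp φ' = (algebraMap A B).comp πA)
    (ΦB : B' →+* B') (hΦB : FrobAlg.IsFrobLift p k B B' ιB πB ΦB) :
    ∃ ΦA : A' →+* A', FrobAlg.IsFrobLift p k A A' ιA πA ΦA := by
  have hπ : ∀ x, πB (φ' x) = algebraMap A B (πA x) := RingHom.congr_fun hφπ
  have hex : ∀ x : A', ∃ d : B, ΦB (φ' x) = φ' x ^ p + W2.jj hB d := fun x => by
    obtain ⟨d, hd⟩ := W2.exists_jj hB (b := ΦB (φ' x) - φ' x ^ p) (by rw [map_sub, hΦB.red, map_pow, sub_self])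
    exact ⟨d, by rw [← hd, add_sub_cancel]⟩
  choose g hg using hex
  have huniq : ∀ x d, ΦB (φ' x) = φ' x ^ p + W2.jj hB d → g x = d := fun x d hd =>
    W2.jj_injective hB (add_left_cancel ((hg x).symm.trans hd))
  have hφj : ∀ a, φ' (W2.jj hA a) = W2.jj hB (algebraMap A B a) := fun a => by
    obtain ⟨c, rfl⟩ := hA.surj a
    rw [W2.jj_pi, map_mul, map_natCast, ← hπ, W2.jj_pi]
  have h1 : g 1 = 0 := huniq 1 0 (by simp)
  have hmul : ∀ x y, g (x * y) = algebraMap A B (πA x ^ p) * g y + algebraMap A B (πA y ^ p) * g x := fun x y => by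
    refine huniq _ _ ?_
    have hx : φ' x ^ p * W2.jj hB (g y) = W2.jj hB (algebraMap A B (πA x ^ p) * g y) := by
      rw [W2.mul_jj, map_pow, hπ, map_pow]
    have hy : φ' y ^ p * W2.jj hB (g x) = W2.jj hB (algebraMap A B (πA y ^ p) * g x) := by
      rw [W2.mul_jj, map_pow, hπ, map_pow]
    rw [map_mul, map_mul, hg, hg, map_add, mul_pow, add_mul, mul_add, mul_add, W2.jj_mul_jj hB,
      mul_comm (W2.jj hB (g x)) (φ' y ^ p), hx, hy]
    ring
  have hadd : ∀ x y, ∃ e, (x + y) ^ p = x ^ p + y ^ p + W2.jj hA e ∧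
      g (x + y) = g x + g y - algebraMap A B e := fun x y => by
    obtain ⟨q, hq⟩ := exists_add_pow_prime_eq (Fact.out : p.Prime) x y
    have he : W2.jj hA (πA (x * y * q)) = (p : A') * x * y * q := by rw [W2.jj_pi]; ring
    refine ⟨πA (x * y * q), by rw [he, hq], huniq _ _ ?_⟩
    rw [map_add, map_add, hg, hg, ← map_add φ', ← map_pow φ' (x + y), hq, map_sub, map_add (W2.jj hB), ← hφj, he,
      map_add φ', map_add φ', map_pow, map_pow]
    ring
  refine ⟨RingHom.mk' ⟨⟨fun x => x ^ p + W2.jj hA (r (g x)), ?_⟩, ?_⟩ ?_, hA, ?_, ?_⟩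
  · simp [h1]
  · intro x y
    have hx : x ^ p * W2.jj hA (r (g y)) = W2.jj hA (πA x ^ p * r (g y)) := by rw [W2.mul_jj, map_pow]
    have hy : y ^ p * W2.jj hA (r (g x)) = W2.jj hA (πA y ^ p * r (g x)) := by rw [W2.mul_jj, map_pow]
    change (x * y) ^ p + W2.jj hA (r (g (x * y))) = _
    rw [hmul, map_add r, ← Algebra.smul_def, ← Algebra.smul_def, map_smul, map_smul, smul_eq_mul, smul_eq_mul,
      map_add, mul_pow, add_mul, mul_add, mul_add, W2.jj_mul_jj hA, mul_comm (W2.jj hA (r (g x))) (y ^ p), hx, hy]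
    ring
  · intro x y
    obtain ⟨e, he, hge⟩ := hadd x y
    change (x + y) ^ p + W2.jj hA (r (g (x + y))) = (x ^ p + W2.jj hA (r (g x))) + (y ^ p + W2.jj hA (r (g y)))
    rw [hge, he, map_sub r, map_add r, hr, map_sub, map_add]
    ring
  · refine RingHom.ext fun w => ?_
    change ιA w ^ p + W2.jj hA (r (g (ιA w))) = ιA (FrobAlg.sigma p k w)
    have hres : FrobAlg.res p k (FrobAlg.sigma p k w) = FrobAlg.res p k w ^ p := by
      simp [WittGrp.coeff_frob]
    obtain ⟨e, he⟩ := W2.exists_jj hA (b := ιA (FrobAlg.sigma p k w) - ιA w ^ p) (by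
      rw [map_sub, map_pow, show πA (ιA _) = _ from RingHom.congr_fun hA.comm (FrobAlg.sigma p k w),
        show πA (ιA w) = _ from RingHom.congr_fun hA.comm w]
      rw [RingHom.comp_apply, RingHom.comp_apply, hres, map_pow, sub_self])
    have hw : φ' (ιA w) = ιB w := RingHom.congr_fun hφι w
    have hσ : φ' (ιA (FrobAlg.sigma p k w)) = ιB (FrobAlg.sigma p k w) := RingHom.congr_fun hφι _
    have hge : g (ιA w) = algebraMap A B e := by
      refine huniq _ _ ?_
      rw [← hφj, ← he, map_sub, map_pow, hσ, hw, add_sub_cancel]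
      exact RingHom.congr_fun hΦB.semi w
    rw [hge, hr, ← he, add_sub_cancel]
  · intro x
    change πA (x ^ p + W2.jj hA (r (g x))) = _
    rw [map_add, map_pow, W2.pi_jj, add_zero]

end Groth.Agent.S13144
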