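import Groth.Statements.S13146
import Groth.Agent.L08.W2Quadric

set_option autoImplicit false
universe u
open scoped BigOperators
open FrobAlg

namespace Groth.Agent.S13146
open FrobAlg

/-- In an even number of variables — for a perfect field k of characteristic p and n ≥ 3, the local
Artinian algebra k[x_1, y_1, …, x_n, y_n]/(x_1y_1 + ⋯ + x_ny_n, x_1^p, y_1^p, …, x_n^p, y_n^p)
admits no flat lifting over W₂(k). (The published statement covers every number N ≥ 5 of variables,
using x_1x_2 + ⋯ + x_{N−2}x_{N−1} + x_N² for odd N; the printed argument is written out for even N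
and the odd case is said to be analogous, so only even N = 2n ≥ 6 is taken here.) -/
theorem result
    (p : ℕ) [Fact p.Prime] (k : Type u) [Field k] [CharP k p] [PerfectRing k p]
    (n : ℕ) (hn : 3 ≤ n) :
    ¬ FrobAlg.IsW2Liftable p k
      (MvPolynomial (Fin n × Fin 2) k ⧸ Ideal.span
        (insert (∑ i : Fin n, MvPolynomial.X (i, (0 : Fin 2)) * MvPolynomial.X (i, (1 : Fin 2)))
          (Set.range fun v : Fin n × Fin 2 => (MvPolynomial.X v : MvPolynomial (Fin n × Fin 2) k) ^ p))) := by
  exact Groth.L08.W2.not_isW2Liftable_quadric p hn

end Groth.Agent.S13146
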