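import Groth.Statements.S13147
import Groth.Agent.L08.W2Lift

set_option autoImplicit false
universe u
open FrobAlg

namespace Groth.Agent.S13147
open Groth.L08

/-- Let k be a perfect field of characteristic p and (A, φ) a k-algebra with a Frobenius splitting (φ
additive, φ(a^p b) = a φ(b), φ(1) = 1). The quotient of W₂(A) by the ideal generated by the Witt
vectors (0, a) with φ(a) = 0 — the ring of twisted Witt vectors of (A, φ) — is a flat lifting of A
over W₂(k): flat over W₂(k), with reduction map onto A induced by (a₀, a₁) ↦ a₀ whose kernel is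
generated by the maximal ideal of W₂(k). (The published statement also asserts that a morphism of
algebras with Frobenius splittings compatible with the splittings induces a ring map between these
quotients; that part is not stated here.) -/
theorem result
    (p : ℕ) [Fact p.Prime] (k : Type u) [Field k] [CharP k p] [PerfectRing k p]
    (A : Type u) [CommRing A] [Algebra k A] (φ : A →+ A)
    (hφ : ∀ a b : A, φ (a ^ p * b) = a * φ b) (hφ1 : φ 1 = 1) :
    FrobAlg.IsLift p k A (FrobAlg.W2 p A ⧸ FrobAlg.splitIdeal p A φ)
      ((Ideal.Quotient.mk (FrobAlg.splitIdeal p A φ)).comp (WittGrp.truncMap p 2 (algebraMap k A)))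
      (FrobAlg.splitRes p A φ) := by
  refine W2.isLift_of ?_ ?_ ?_ ?_
  · intro a
    exact ⟨Ideal.Quotient.mk _ (WittVector.truncate 2 (WittVector.teichmuller p a)), by
      rw [FrobAlg.splitRes, Ideal.Quotient.lift_mk, FrobAlg.res_truncate, WittVector.teichmuller_coeff_zero]⟩
  · rcases subsingleton_or_nontrivial A with hA | hA
    · haveI : Subsingleton (FrobAlg.W2 p A) := ⟨fun _ _ => TruncatedWittVector.ext fun _ => Subsingleton.elim _ _⟩
      haveI : Subsingleton (FrobAlg.W2 p A ⧸ FrobAlg.splitIdeal p A φ) := Ideal.Quotient.mk_surjective.subsingleton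
      exact Subsingleton.elim _ _
    haveI : CharP A p := charP_of_injective_algebraMap (algebraMap k A).injective p
    refine le_antisymm (fun q hq => ?_) ((Ideal.span_singleton_le_iff_mem _).2 ?_)
    · obtain ⟨x, rfl⟩ := Ideal.Quotient.mk_surjective q
      rw [RingHom.mem_ker, FrobAlg.splitRes, Ideal.Quotient.lift_mk] at hq
      obtain ⟨y, hy⟩ := W2.res_surjective (p := p) (φ (x.coeff 1))
      refine Ideal.mem_span_singleton.2 ⟨Ideal.Quotient.mk _ y, ?_⟩
      rw [← map_natCast (Ideal.Quotient.mk (FrobAlg.splitIdeal p A φ)), ← map_mul, Ideal.Quotient.eq]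
      refine Ideal.subset_span ⟨by rw [map_sub, hq, W2.res_p_mul, sub_zero], ?_⟩
      have h1 := W2.coeff_one_add p (x := x - (p : FrobAlg.W2 p A) * y) (W2.res_p_mul p y)
      rw [sub_add_cancel, W2.coeff_one_p_mul, hy] at h1
      rw [eq_sub_of_add_eq h1.symm, map_sub, ← mul_one (φ (x.coeff 1) ^ p), hφ, hφ1, mul_one, sub_self]
    · rw [RingHom.mem_ker, map_natCast, W2.cast_p_eq_zero k A]
  · refine RingHom.ext fun w => ?_
    simp [FrobAlg.splitRes]
  · intro q hq
    obtain ⟨x, rfl⟩ := Ideal.Quotient.mk_surjective q
    rcases subsingleton_or_nontrivial A with hA | hA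
    · exact Subsingleton.elim _ _
    haveI : CharP A p := charP_of_injective_algebraMap (algebraMap k A).injective p
    rw [← map_natCast (Ideal.Quotient.mk (FrobAlg.splitIdeal p A φ)), ← map_mul, Ideal.Quotient.eq_zero_iff_mem] at hq
    have key : ∀ z ∈ FrobAlg.splitIdeal p A φ, FrobAlg.res p A z = 0 ∧ φ (z.coeff 1) = 0 := by
      intro z hz
      induction hz using Submodule.span_induction with
      | mem y hy => exact hy
      | zero => exact ⟨map_zero _, by rw [W2.coeff_zero, map_zero]⟩
      | add y w _ _ hy hw =>
        exact ⟨by rw [map_add, hy.1, hw.1, add_zero], by rw [W2.coeff_one_add p hw.1, map_add, hy.2, hw.2, add_zero]⟩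
      | smul c y _ hy =>
        refine ⟨by rw [smul_eq_mul, map_mul, hy.1, mul_zero], ?_⟩
        obtain ⟨C, rfl⟩ := WittVector.truncate_surjective p 2 A c
        obtain ⟨Y, rfl⟩ := WittVector.truncate_surjective p 2 A y
        obtain ⟨hy0, hy1⟩ := hy
        rw [FrobAlg.res_truncate] at hy0
        rw [WittVector.coeff_truncate] at hy1
        let Y' : WittVector p A := WittVector.mk p fun n => Y.coeff (n + 1)
        have hY : Y = WittVector.verschiebung Y' := WittVector.ext fun n => by
          rcases n with _ | n <;> simp [Y', hy0]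
        rw [smul_eq_mul, ← map_mul, WittVector.coeff_truncate, hY, mul_comm, ← WittVector.verschiebung_mul_frobenius]
        change φ ((WittVector.verschiebung (Y' * WittVector.frobenius C)).coeff (0 + 1)) = 0
        rw [WittVector.verschiebung_coeff_succ, WittVector.mul_coeff_zero, WittVector.coeff_frobenius_charP, mul_comm, hφ,
          show Y'.coeff 0 = Y.coeff 1 from rfl, show φ (Y.coeff 1) = 0 from hy1, mul_zero]
    rw [FrobAlg.splitRes, Ideal.Quotient.lift_mk]
    have h2 := (key _ hq).2
    rwa [W2.coeff_one_p_mul, ← mul_one (FrobAlg.res p A x ^ p), hφ, hφ1, mul_one] at h2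

end Groth.Agent.S13147
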