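import Groth.Statements.S13148
import Groth.Agent.L08.W2Lift
import Groth.Agent.L21.Smooth.Scheme
import Mathlib.RingTheory.Smooth.Basic
import Mathlib.AlgebraicGeometry.Properties

set_option autoImplicit false
universe u
open FrobAlg

namespace Groth.Agent.S13148
open Groth.L08 AlgebraicGeometry CategoryTheory

/-- Over a perfect field k of characteristic p, every smooth affine scheme Spec A admits a flat lifting
over W₂(k) together with a lifting of Frobenius (not necessarily unique). -/
theorem result
    (p : ℕ) [Fact p.Prime] (k : Type u) [Field k] [CharP k p] [PerfectRing k p]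
    (A : Type u) [CommRing A] [Algebra k A] [Algebra.Smooth k A] :
    FrobAlg.IsFLiftable p k A := by
  rcases subsingleton_or_nontrivial A with hA | hA
  · refine ⟨A, inferInstance, (algebraMap k A).comp (FrobAlg.res p k), RingHom.id A, RingHom.id A,
      W2.isLift_of Function.surjective_id ?_ rfl fun _ _ => Subsingleton.elim _ _, ?_, fun _ => Subsingleton.elim _ _⟩
    · exact Ideal.ext fun x => by simp [Subsingleton.elim x 0]
    · exact RingHom.ext fun _ => Subsingleton.elim _ _
  haveI : CharP A p := charP_of_injective_algebraMap (algebraMap k A).injective p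
  haveI : IsReduced A := by
    have hs : Smooth (Spec.map (CommRingCat.ofHom (algebraMap k A))) :=
      (AlgebraicGeometry.HasRingHomProperty.Spec_iff (P := @Smooth)).2 (RingHom.smooth_algebraMap.2 ‹_›)
    haveI : ∀ x : Spec (CommRingCat.of A), _root_.IsReduced ((Spec (CommRingCat.of A)).presheaf.stalk x) := fun x =>
      haveI := Groth.L21.Smooth.isDomain_stalk (k := k) (Spec.map (CommRingCat.ofHom (algebraMap k A))) x
      inferInstance
    exact (affine_isReduced_iff (CommRingCat.of A)).1 (isReduced_of_isReduced_stalk _)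
  let P : Ideal (FrobAlg.W2 p A) := Ideal.span {(p : FrobAlg.W2 p A)}
  let t : FrobAlg.W2 p k →+* FrobAlg.W2 p A := WittGrp.truncMap p 2 (algebraMap k A)
  let f : k →+* FrobAlg.W2 p A ⧸ P := RingHom.liftOfSurjective (FrobAlg.res p k) (W2.res_surjective (p := p))
    ⟨(Ideal.Quotient.mk P).comp t, fun x hx => by
      obtain ⟨y, rfl⟩ := W2.exists_eq_p_mul p hx
      rw [RingHom.mem_ker, RingHom.comp_apply, map_mul t, map_natCast, Ideal.Quotient.eq_zero_iff_mem]
      exact Ideal.mem_span_singleton.2 (dvd_mul_right _ _)⟩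
  letI : Algebra k (FrobAlg.W2 p A ⧸ P) := f.toAlgebra
  have hf : ∀ w, algebraMap k (FrobAlg.W2 p A ⧸ P) (FrobAlg.res p k w) = Ideal.Quotient.mk P (t w) := fun w =>
    RingHom.liftOfRightInverse_comp_apply _ _ _ _ w
  have hP : ∀ x ∈ P, FrobAlg.res p A x = 0 := fun x hx => by
    obtain ⟨y, rfl⟩ := Ideal.mem_span_singleton.1 hx
    exact W2.res_p_mul p y
  let g : FrobAlg.W2 p A ⧸ P →ₐ[k] A :=
    { Ideal.Quotient.lift P (FrobAlg.res p A) hP with
      commutes' := fun c => by
        obtain ⟨w, rfl⟩ := W2.res_surjective (p := p) c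
        rw [hf]
        simp [t] }
  have hg : ∀ x, g (Ideal.Quotient.mk P x) = FrobAlg.res p A x := fun x => rfl
  have hgsurj : Function.Surjective g := fun a => by
    obtain ⟨x, hx⟩ := W2.res_surjective (p := p) a
    exact ⟨Ideal.Quotient.mk P x, hx⟩
  have hgnil : IsNilpotent (RingHom.ker (g : FrobAlg.W2 p A ⧸ P →+* A)) := by
    refine ⟨2, ?_⟩
    rw [pow_two, Submodule.zero_eq_bot, eq_bot_iff, Ideal.mul_le]
    intro a ha b hb
    obtain ⟨x, rfl⟩ := Ideal.Quotient.mk_surjective a
    obtain ⟨y, rfl⟩ := Ideal.Quotient.mk_surjective b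
    rw [Submodule.mem_bot, ← map_mul, show x * y = 0 from ?_, map_zero]
    change FrobAlg.res p A x = 0 at ha
    change FrobAlg.res p A y = 0 at hb
    obtain ⟨X, rfl⟩ := WittVector.truncate_surjective p 2 A x
    obtain ⟨Y, rfl⟩ := WittVector.truncate_surjective p 2 A y
    rw [FrobAlg.res_truncate] at ha hb
    let Y' : WittVector p A := WittVector.mk p fun n => Y.coeff (n + 1)
    have hY : Y = WittVector.verschiebung Y' := WittVector.ext fun n => by
      rcases n with _ | n <;> simp [Y', hb]
    refine W2.ext p (by rw [map_mul, FrobAlg.res_truncate, ha, zero_mul, map_zero]) ?_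
    rw [W2.coeff_zero, ← map_mul, WittVector.coeff_truncate, hY, mul_comm, ← WittVector.verschiebung_mul_frobenius]
    change (WittVector.verschiebung (Y' * WittVector.frobenius X)).coeff (0 + 1) = 0
    rw [WittVector.verschiebung_coeff_succ, WittVector.mul_coeff_zero, WittVector.coeff_frobenius_charP, ha,
      zero_pow (Fact.out : p.Prime).ne_zero, mul_zero]
  let s : A →ₐ[k] FrobAlg.W2 p A ⧸ P := Algebra.FormallySmooth.liftOfSurjective (AlgHom.id k A) g hgsurj hgnil
  have hs : ∀ a, g (s a) = a := Algebra.FormallySmooth.liftOfSurjective_apply _ g hgsurj hgnil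
  let B : Subring (FrobAlg.W2 p A) := Subring.comap (Ideal.Quotient.mk P) s.toRingHom.range
  let F : FrobAlg.W2 p A →+* FrobAlg.W2 p A := WittGrp.frob p 2 (CharP.cast_eq_zero A p)
  have hF : ∀ x ∈ B, F x ∈ B := by
    intro x hx
    obtain ⟨a, ha⟩ := hx
    refine ⟨a ^ p, ?_⟩
    rw [map_pow, show s.toRingHom a = Ideal.Quotient.mk P x from ha, ← map_pow, Ideal.Quotient.eq]
    obtain ⟨X, rfl⟩ := WittVector.truncate_surjective p 2 A x
    let x0 : WittVector p A := WittVector.teichmuller p (X.coeff 0)
    let Y : WittVector p A := WittVector.mk p fun n => X.coeff (n + 1)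
    have hX : X = x0 + WittVector.verschiebung Y := by
      refine WittVector.ext fun n => ?_
      rw [WittVector.coeff_add_of_disjoint]
      · rcases n with _ | n <;> simp [x0, Y]
      · intro n
        rcases n with _ | n
        · exact Or.inr (by simp)
        · exact Or.inl (by simp [x0])
    have hsub : X ^ p - WittVector.frobenius X ∈ Ideal.span {(p : WittVector p A)} := by
      have h1 : WittVector.frobenius X = x0 ^ p + (p : WittVector p A) * Y := by
        rw [hX, map_add, WittVector.frobenius_verschiebung, mul_comm]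
        congr 1
        refine WittVector.ext fun n => ?_
        rw [WittVector.coeff_frobenius_charP,
          show x0 ^ p = WittVector.teichmuller p (X.coeff 0 ^ p) from (map_pow _ _ _).symm]
        rcases n with _ | n
        · simp only [x0, WittVector.teichmuller_coeff_zero]
        · simp only [x0, WittVector.teichmuller_coeff_pos p _ (n + 1) n.succ_pos, zero_pow (Fact.out : p.Prime).ne_zero]
      obtain ⟨r, hr⟩ := exists_add_pow_prime_eq (Fact.out : p.Prime) x0 (WittVector.verschiebung Y)
      have h2 : WittVector.verschiebung Y ^ p ∈ Ideal.span {(p : WittVector p A)} := by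
        rw [← pow_mul_pow_sub _ (Fact.out : p.Prime).two_le]
        refine Ideal.mul_mem_right _ _ ?_
        rw [pow_two, ← WittVector.verschiebung_mul_frobenius, WittVector.frobenius_verschiebung,
          show Y * (Y * (p : WittVector p A)) = (Y * Y) * (WittVector.frobenius (p : WittVector p A)) by
            rw [map_natCast, mul_assoc],
          WittVector.verschiebung_mul_frobenius]
        exact Ideal.mul_mem_left _ _ (Ideal.mem_span_singleton_self _)
      rw [h1]
      conv in X ^ p => rw [hX]
      rw [hr, show x0 ^ p + WittVector.verschiebung Y ^ p + (p : WittVector p A) * x0 * WittVector.verschiebung Y * r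
          - (x0 ^ p + (p : WittVector p A) * Y)
          = WittVector.verschiebung Y ^ p + (p : WittVector p A) * (x0 * WittVector.verschiebung Y * r - Y) by ring]
      exact add_mem h2 (Ideal.mem_span_singleton.2 (dvd_mul_right _ _))
    obtain ⟨c, hc⟩ := Ideal.mem_span_singleton.1 hsub
    refine Ideal.mem_span_singleton.2 ⟨WittVector.truncate 2 c, ?_⟩
    rw [show F (WittVector.truncate 2 X) = WittVector.truncate 2 (WittVector.frobenius X) from
      WittGrp.frob_truncate p 2 _ X, ← map_pow, ← map_sub, hc, map_mul, map_natCast]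
  let ι : FrobAlg.W2 p k →+* B := t.codRestrict B fun w => ⟨algebraMap k A (FrobAlg.res p k w), by
    rw [← hf]; exact s.commutes _⟩
  refine ⟨B, inferInstance, ι, (FrobAlg.res p A).comp B.subtype,
    (F.comp B.subtype).codRestrict B (fun x => hF x x.2), W2.isLift_of ?_ ?_ ?_ ?_, ?_, ?_⟩
  · intro a
    obtain ⟨x, hx⟩ := Ideal.Quotient.mk_surjective (s a)
    refine ⟨⟨x, a, hx.symm⟩, ?_⟩
    rw [RingHom.comp_apply, ← hg]
    change g (Ideal.Quotient.mk P x) = a
    rw [hx, hs]
  · refine le_antisymm (fun x hx => ?_) ((Ideal.span_singleton_le_iff_mem _).2 ?_)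
    · obtain ⟨a, ha⟩ := x.2
      have ha0 : a = 0 := by
        rw [← hs a, show s a = Ideal.Quotient.mk P x.1 from ha, hg]
        exact hx
      rw [ha0, map_zero, eq_comm, Ideal.Quotient.eq_zero_iff_mem] at ha
      obtain ⟨y, hy⟩ := Ideal.mem_span_singleton.1 ha
      obtain ⟨z, hz⟩ := Ideal.Quotient.mk_surjective (s (FrobAlg.res p A y))
      refine Ideal.mem_span_singleton.2 ⟨⟨z, _, hz.symm⟩, Subtype.ext ?_⟩
      change x.1 = ((p : B) : FrobAlg.W2 p A) * z
      rw [hy, Subring.coe_natCast]
      refine W2.ext p (by rw [W2.res_p_mul, W2.res_p_mul]) ?_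
      rw [W2.coeff_one_p_mul, W2.coeff_one_p_mul, ← hg z, hz, hs]
    · rw [RingHom.mem_ker, map_natCast, CharP.cast_eq_zero]
  · refine RingHom.ext fun w => ?_
    change FrobAlg.res p A (t w) = algebraMap k A (FrobAlg.res p k w)
    simp [t]
  · intro x hx
    have h1 := congrArg (fun z : FrobAlg.W2 p A => z.coeff 1) (congrArg Subtype.val hx)
    change ((((p : B) : FrobAlg.W2 p A)) * x.1).coeff 1 = (0 : FrobAlg.W2 p A).coeff 1 at h1
    rw [Subring.coe_natCast, W2.coeff_one_p_mul, W2.coeff_zero] at h1
    exact eq_zero_of_pow_eq_zero h1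
  · refine RingHom.ext fun w => Subtype.ext ?_
    exact (WittGrp.truncMap_frob p 2 (CharP.cast_eq_zero k p) (CharP.cast_eq_zero A p) (algebraMap k A) w).symm
  · intro x
    change FrobAlg.res p A (F x.1) = FrobAlg.res p A x.1 ^ p
    simp [F, WittGrp.coeff_frob]

end Groth.Agent.S13148
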