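import Groth.Statements.S13149
import Mathlib.LinearAlgebra.Matrix.NonsingularInverse
import Mathlib.RingTheory.LocalRing.MaximalIdeal.Basic
import Mathlib.Tactic.LinearCombination
import Mathlib.Tactic.FinCases

set_option autoImplicit false
set_option maxHeartbeats 800000
universe u
open CAlg

namespace Groth.Agent.S13149

/-- Let A be a local ring and ρ a map from the points of the projective plane over F_p to the points of
the projective plane over A (vectors with a unit coordinate, up to units) taking collinear triples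
to collinear triples (three points are collinear when a vector with a unit coordinate is orthogonal
to all three). If ρ sends the standard frame (1:0:0), (0:1:0), (0:0:1), (1:1:1) to four points in
general position, then p = 0 in A. (The published statement asks only that ρ preserve collinearity;
a constant map does so over any ring, and the published argument begins by moving the images of the
standard frame to the standard frame, which needs them in general position — that condition is made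
a hypothesis here.) -/
theorem result
    (p : ℕ) [Fact p.Prime] (A : Type u) [CommRing A] [IsLocalRing A]
    (ρ : (Fin 3 → ZMod p) → (Fin 3 → A))
    (hpt : ∀ v : Fin 3 → ZMod p, v ≠ 0 → ∃ i, IsUnit (ρ v i))
    (hcol : ∀ u v w : Fin 3 → ZMod p, u ≠ 0 → v ≠ 0 → w ≠ 0 →
      Matrix.det (Matrix.of ![u, v, w]) = 0 →
      ∃ n : Fin 3 → A, (∃ i, IsUnit (n i)) ∧
        dotProduct (ρ u) n = 0 ∧ dotProduct (ρ v) n = 0 ∧ dotProduct (ρ w) n = 0)
    (hgen : IsUnit (Matrix.det (Matrix.of ![ρ (Pi.single 0 1), ρ (Pi.single 1 1), ρ (Pi.single 2 1)])) ∧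
      IsUnit (Matrix.det (Matrix.of ![ρ (Pi.single 0 1), ρ (Pi.single 1 1), ρ (fun _ => 1)])) ∧
      IsUnit (Matrix.det (Matrix.of ![ρ (Pi.single 0 1), ρ (Pi.single 2 1), ρ (fun _ => 1)])) ∧
      IsUnit (Matrix.det (Matrix.of ![ρ (Pi.single 1 1), ρ (Pi.single 2 1), ρ (fun _ => 1)]))) :
    (p : A) = 0 := by
  classical
  obtain ⟨hN, hg2, hg1, hg0⟩ := hgen
  let r0 := ρ (Pi.single 0 1)
  let r1 := ρ (Pi.single 1 1)
  let r2 := ρ (Pi.single 2 1)
  let s := ρ (fun _ => 1)
  let N : Matrix (Fin 3) (Fin 3) A := Matrix.of ![r0, r1, r2]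
  have hNN : N⁻¹ * N = 1 := Matrix.nonsing_inv_mul N hN
  have hNN' : N * N⁻¹ = 1 := Matrix.mul_nonsing_inv N hN
  let c : Fin 3 → A := Matrix.vecMul s N⁻¹
  have hs : ∀ j, s j = c 0 * r0 j + c 1 * r1 j + c 2 * r2 j := fun j => by
    have h : Matrix.vecMul c N = s := by rw [Matrix.vecMul_vecMul, hNN, Matrix.vecMul_one]
    rw [← h]
    simp [Matrix.vecMul, dotProduct, Fin.sum_univ_three, N]
  have hc : ∀ i, IsUnit (c i) := by
    have e0 : (Matrix.of ![r1, r2, s]).det = c 0 * N.det := by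
      simp [Matrix.det_fin_three, N, hs]; ring
    have e1 : (Matrix.of ![r0, r2, s]).det = -(c 1 * N.det) := by
      simp [Matrix.det_fin_three, N, hs]; ring
    have e2 : (Matrix.of ![r0, r1, s]).det = c 2 * N.det := by
      simp [Matrix.det_fin_three, N, hs]; ring
    intro i
    fin_cases i
    · exact isUnit_of_mul_isUnit_left (e0 ▸ hg0)
    · exact isUnit_of_mul_isUnit_left (IsUnit.neg_iff _ |>.mp (e1 ▸ hg1))
    · exact isUnit_of_mul_isUnit_left (e2 ▸ hg2)
  choose ci hci using fun i => (hc i).exists_right_inv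
  let σ : (Fin 3 → ZMod p) → Fin 3 → A := fun v i => Matrix.vecMul (ρ v) N⁻¹ i * ci i
  have unitTransfer : ∀ (M M' : Matrix (Fin 3) (Fin 3) A), M' * M = 1 → ∀ x : Fin 3 → A,
      (∃ i, IsUnit (x i)) → ∃ i, IsUnit (Matrix.mulVec M x i) := by
    intro M M' hM x ⟨i, hi⟩
    by_contra hall
    push Not at hall
    have hx : Matrix.mulVec M' (Matrix.mulVec M x) i = x i := by rw [Matrix.mulVec_mulVec, hM, Matrix.one_mulVec]
    refine (IsLocalRing.mem_maximalIdeal _).mp ?_ hi
    rw [← hx]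
    show ∑ j, M' i j * Matrix.mulVec M x j ∈ _
    exact Submodule.sum_mem _ fun j _ => Ideal.mul_mem_left _ _ ((IsLocalRing.mem_maximalIdeal _).mpr (hall j))
  have hσu : ∀ v, v ≠ 0 → ∃ i, IsUnit (σ v i) := fun v hv => by
    obtain ⟨i, hi⟩ := unitTransfer N⁻¹.transpose N.transpose (by rw [← Matrix.transpose_mul, hNN, Matrix.transpose_one]) (ρ v) (hpt v hv)
    refine ⟨i, ?_⟩
    rw [Matrix.mulVec_transpose] at hi
    exact hi.mul (IsUnit.of_mul_eq_one_right _ (hci i))
  have hcol' : ∀ u v w : Fin 3 → ZMod p, u ≠ 0 → v ≠ 0 → w ≠ 0 → Matrix.det (Matrix.of ![u, v, w]) = 0 →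
      ∃ n : Fin 3 → A, (∃ i, IsUnit (n i)) ∧ σ u 0 * n 0 + σ u 1 * n 1 + σ u 2 * n 2 = 0 ∧
        σ v 0 * n 0 + σ v 1 * n 1 + σ v 2 * n 2 = 0 ∧ σ w 0 * n 0 + σ w 1 * n 1 + σ w 2 * n 2 = 0 := by
    intro u v w hu hv hw hd
    obtain ⟨n, hn, hun, hvn, hwn⟩ := hcol u v w hu hv hw hd
    obtain ⟨i, hi⟩ := unitTransfer N N⁻¹ hNN n hn
    have key : ∀ x : Fin 3 → ZMod p, σ x 0 * (c 0 * Matrix.mulVec N n 0) + σ x 1 * (c 1 * Matrix.mulVec N n 1) +
        σ x 2 * (c 2 * Matrix.mulVec N n 2) = dotProduct (ρ x) n := fun x => by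
      have h1 : dotProduct (Matrix.vecMul (ρ x) N⁻¹) (Matrix.mulVec N n) = dotProduct (ρ x) n := by
        rw [Matrix.dotProduct_mulVec, Matrix.vecMul_vecMul, hNN, Matrix.vecMul_one]
      simp only [σ]
      rw [← h1]
      simp only [dotProduct, Fin.sum_univ_three]
      linear_combination (Matrix.vecMul (ρ x) N⁻¹ 0 * Matrix.mulVec N n 0) * hci 0 +
        (Matrix.vecMul (ρ x) N⁻¹ 1 * Matrix.mulVec N n 1) * hci 1 +
        (Matrix.vecMul (ρ x) N⁻¹ 2 * Matrix.mulVec N n 2) * hci 2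
    exact ⟨fun j => c j * Matrix.mulVec N n j, ⟨i, (hc i).mul hi⟩, (key u).trans hun, (key v).trans hvn,
      (key w).trans hwn⟩
  have hrow : ∀ i j : Fin 3, Matrix.vecMul (N i) N⁻¹ j = if i = j then 1 else 0 := fun i j => by
    have h := congrFun (congrFun hNN' i) j
    rw [Matrix.one_apply] at h
    exact h
  have hne : ∀ a b d : ZMod p, (a = 1 ∨ b = 1 ∨ d = 1) → (![a, b, d] : Fin 3 → ZMod p) ≠ 0 := by
    intro a b d h hz
    have h0 := congrFun hz 0
    have h1 := congrFun hz 1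
    have h2 := congrFun hz 2
    simp at h0 h1 h2
    rcases h with h | h | h <;> simp_all
  let E0 : Fin 3 → ZMod p := ![1, 0, 0]
  let E1 : Fin 3 → ZMod p := ![0, 1, 0]
  let E2 : Fin 3 → ZMod p := ![0, 0, 1]
  let S : Fin 3 → ZMod p := ![1, 1, 1]
  have eE0 : E0 = Pi.single 0 1 := by funext i; fin_cases i <;> simp [E0]
  have eE1 : E1 = Pi.single 1 1 := by funext i; fin_cases i <;> simp [E1]
  have eE2 : E2 = Pi.single 2 1 := by funext i; fin_cases i <;> simp [E2]
  have eS : S = fun _ => 1 := by funext i; fin_cases i <;> simp [S]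
  have hE0 : σ E0 = ![ci 0, 0, 0] := by
    funext i
    simp only [σ, eE0, show ρ (Pi.single 0 1) = N 0 from rfl, hrow]
    fin_cases i <;> simp
  have hE1 : σ E1 = ![0, ci 1, 0] := by
    funext i
    simp only [σ, eE1, show ρ (Pi.single 1 1) = N 1 from rfl, hrow]
    fin_cases i <;> simp
  have hE2 : σ E2 = ![0, 0, ci 2] := by
    funext i
    simp only [σ, eE2, show ρ (Pi.single 2 1) = N 2 from rfl, hrow]
    fin_cases i <;> simp
  have hS : ∀ i, σ S i = 1 := fun i => by
    simp only [σ, eS]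
    exact hci i
  have cancel : ∀ i (x : A), ci i * x = 0 → x = 0 := fun i x h =>
    (IsUnit.of_mul_eq_one_right (c i) (hci i)).mul_right_eq_zero.mp h
  clear_value σ
  clear hrow unitTransfer hcol
  have pick : ∀ x : Fin 3 → A, (∃ i, IsUnit (x i)) → IsUnit (x 0) ∨ IsUnit (x 1) ∨ IsUnit (x 2) := by
    rintro x ⟨i, hi⟩
    fin_cases i
    · exact Or.inl hi
    · exact Or.inr (Or.inl hi)
    · exact Or.inr (Or.inr hi)
  have nu : ∀ {x : A}, x = 0 → ¬ IsUnit x := fun h hu => not_isUnit_zero (h ▸ hu)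
  -- the point (1,1,0)
  let P : Fin 3 → ZMod p := ![1, 1, 0]
  obtain ⟨t, ht, hP⟩ : ∃ t, IsUnit t ∧ σ P 0 = t ∧ σ P 1 = t ∧ σ P 2 = 0 := by
    obtain ⟨n, ⟨i, hi⟩, h0, h1, h2⟩ := hcol' E0 E1 P (hne _ _ _ (by simp)) (hne _ _ _ (by simp)) (hne _ _ _ (by simp))
      (by simp [Matrix.det_fin_three, E0, E1, P])
    simp [hE0] at h0; simp [hE1] at h1
    have n0 := cancel 0 _ h0
    have n1 := cancel 1 _ h1
    have n2 : IsUnit (n 2) := ((pick n ⟨i, hi⟩).resolve_left (nu n0)).resolve_left (nu n1)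
    rw [n0, n1, mul_zero, mul_zero, zero_add, zero_add] at h2
    have p2 : σ P 2 = 0 := n2.mul_left_eq_zero.mp h2
    obtain ⟨m, ⟨j, hj⟩, g0, g1, g2⟩ := hcol' E2 S P (hne _ _ _ (by simp)) (hne _ _ _ (by simp)) (hne _ _ _ (by simp))
      (by simp [Matrix.det_fin_three, E2, S, P])
    simp [hE2] at g0; simp [hS] at g1
    have m2 := cancel 2 _ g0
    rw [m2, add_zero] at g1
    have m1 : m 1 = -m 0 := by linear_combination g1
    have m0 : IsUnit (m 0) := by
      rcases pick m ⟨j, hj⟩ with h | h | h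
      · exact h
      · exact (IsUnit.neg_iff _).mp (m1 ▸ h)
      · exact absurd h (nu m2)
    rw [m2, m1, mul_zero, add_zero] at g2
    have p01 : σ P 0 = σ P 1 := sub_eq_zero.mp (m0.mul_left_eq_zero.mp (by linear_combination g2))
    obtain ⟨l, hl⟩ := hσu P (hne _ _ _ (by simp))
    refine ⟨σ P 0, ?_, rfl, p01.symm, p2⟩
    rcases pick _ ⟨l, hl⟩ with h | h | h
    · exact h
    · exact p01 ▸ h
    · exact absurd h (nu p2)
  -- the points (0,1,1)
  let Q : Fin 3 → ZMod p := ![0, 1, 1]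
  obtain ⟨q, hq, hQ⟩ : ∃ q, IsUnit q ∧ σ Q 0 = 0 ∧ σ Q 1 = q ∧ σ Q 2 = q := by
    obtain ⟨n, ⟨i, hi⟩, h0, h1, h2⟩ := hcol' E1 E2 Q (hne _ _ _ (by simp)) (hne _ _ _ (by simp)) (hne _ _ _ (by simp))
      (by simp [Matrix.det_fin_three, E1, E2, Q])
    simp [hE1] at h0; simp [hE2] at h1
    have n1 := cancel 1 _ h0
    have n2 := cancel 2 _ h1
    have n0 : IsUnit (n 0) := (pick n ⟨i, hi⟩).resolve_right (fun h => h.elim (nu n1) (nu n2))
    rw [n1, n2, mul_zero, mul_zero, add_zero, add_zero] at h2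
    have q0 : σ Q 0 = 0 := n0.mul_left_eq_zero.mp h2
    obtain ⟨m, ⟨j, hj⟩, g0, g1, g2⟩ := hcol' E0 S Q (hne _ _ _ (by simp)) (hne _ _ _ (by simp)) (hne _ _ _ (by simp))
      (by simp [Matrix.det_fin_three, E0, S, Q])
    simp [hE0] at g0; simp [hS] at g1
    have m0 := cancel 0 _ g0
    rw [m0, zero_add] at g1
    have m2 : m 2 = -m 1 := by linear_combination g1
    have m1 : IsUnit (m 1) := by
      rcases pick m ⟨j, hj⟩ with h | h | h
      · exact absurd h (nu m0)
      · exact h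
      · exact (IsUnit.neg_iff _).mp (m2 ▸ h)
    rw [m0, m2, mul_zero, zero_add] at g2
    have q12 : σ Q 1 = σ Q 2 := sub_eq_zero.mp (m1.mul_left_eq_zero.mp (by linear_combination g2))
    obtain ⟨l, hl⟩ := hσu Q (hne _ _ _ (by simp))
    refine ⟨σ Q 1, ?_, q0, rfl, q12.symm⟩
    rcases pick _ ⟨l, hl⟩ with h | h | h
    · exact absurd h (nu q0)
    · exact h
    · exact q12.symm ▸ h
  have hX : ∀ k : ℕ, ∃ t, IsUnit t ∧ σ ![(k : ZMod p), 0, 1] 0 = t * k ∧ σ ![(k : ZMod p), 0, 1] 1 = 0 ∧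
      σ ![(k : ZMod p), 0, 1] 2 = t := by
    intro k
    induction k with
    | zero =>
      refine ⟨ci 2, IsUnit.of_mul_eq_one_right (c 2) (hci 2), ?_⟩
      simp only [Nat.cast_zero]
      rw [show (![0, 0, 1] : Fin 3 → ZMod p) = E2 from rfl, hE2]
      simp
    | succ k ih =>
      obtain ⟨a, ha, ha0, ha1, ha2⟩ := ih
      let X : Fin 3 → ZMod p := ![(k : ZMod p), 0, 1]
      let Y : Fin 3 → ZMod p := ![((k + 1 : ℕ) : ZMod p), 1, 1]
      let Z : Fin 3 → ZMod p := ![((k + 1 : ℕ) : ZMod p), 0, 1]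
      -- Y
      obtain ⟨n, ⟨i, hi⟩, h0, h1, h2⟩ := hcol' E0 Q Y (hne _ _ _ (by simp)) (hne _ _ _ (by simp)) (hne _ _ _ (by simp))
        (by simp [Matrix.det_fin_three, E0, Q, Y])
      simp [hE0] at h0; simp [hQ.1, hQ.2.1, hQ.2.2] at h1
      have n0 := cancel 0 _ h0
      have n2 : n 2 = -n 1 := by
        have h : q * (n 1 + n 2) = 0 := by linear_combination h1
        linear_combination hq.mul_right_eq_zero.mp h
      have n1 : IsUnit (n 1) := by
        rcases pick n ⟨i, hi⟩ with h | h | h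
        · exact absurd h (nu n0)
        · exact h
        · exact (IsUnit.neg_iff _).mp (n2 ▸ h)
      rw [n0, n2] at h2
      have y12 : σ Y 1 = σ Y 2 := sub_eq_zero.mp (n1.mul_left_eq_zero.mp (by linear_combination h2))
      obtain ⟨m, ⟨j, hj⟩, g0, g1, g2⟩ := hcol' P X Y (hne _ _ _ (by simp)) (hne _ _ _ (by simp)) (hne _ _ _ (by simp))
        (by simp [Matrix.det_fin_three, P, X, Y]; ring)
      simp [hP.1, hP.2.1, hP.2.2] at g0
      rw [show σ X 0 = a * k from ha0, show σ X 1 = 0 from ha1, show σ X 2 = a from ha2] at g1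
      have m1 : m 1 = -m 0 := by
        have h : t * (m 0 + m 1) = 0 := by linear_combination g0
        linear_combination ht.mul_right_eq_zero.mp h
      have m2 : m 2 = -((k : A) * m 0) := by
        have h : a * ((k : A) * m 0 + m 2) = 0 := by linear_combination g1
        linear_combination ha.mul_right_eq_zero.mp h
      have m0 : IsUnit (m 0) := by
        rcases pick m ⟨j, hj⟩ with h | h | h
        · exact h
        · exact (IsUnit.neg_iff _).mp (m1 ▸ h)
        · exact isUnit_of_mul_isUnit_right ((IsUnit.neg_iff _).mp (m2 ▸ h))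
      rw [m1, m2] at g2
      have y0 : σ Y 0 = σ Y 2 * (k + 1) := by
        have h : (σ Y 0 - σ Y 2 * ((k : A) + 1)) * m 0 = 0 := by linear_combination g2 + m 0 * y12
        exact sub_eq_zero.mp (m0.mul_left_eq_zero.mp h)
      have yu : IsUnit (σ Y 2) := by
        obtain ⟨l, hl⟩ := hσu Y (hne _ _ _ (by simp))
        rcases pick _ ⟨l, hl⟩ with h | h | h
        · exact isUnit_of_mul_isUnit_left (y0 ▸ h)
        · exact y12 ▸ h
        · exact h
      -- Z
      obtain ⟨n, ⟨i, hi⟩, h0, h1, h2⟩ := hcol' E1 Y Z (hne _ _ _ (by simp)) (hne _ _ _ (by simp)) (hne _ _ _ (by simp))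
        (by simp [Matrix.det_fin_three, E1, Y, Z])
      simp [hE1] at h0
      have n1 := cancel 1 _ h0
      rw [n1, y0] at h1
      have n2 : n 2 = -(((k : A) + 1) * n 0) := by
        have h : σ Y 2 * (((k : A) + 1) * n 0 + n 2) = 0 := by linear_combination h1
        linear_combination yu.mul_right_eq_zero.mp h
      have n0 : IsUnit (n 0) := by
        rcases pick n ⟨i, hi⟩ with h | h | h
        · exact h
        · exact absurd h (nu n1)
        · exact isUnit_of_mul_isUnit_right ((IsUnit.neg_iff _).mp (n2 ▸ h))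
      rw [n1, n2] at h2
      have z0 : σ Z 0 = σ Z 2 * ((k : A) + 1) := by
        have h : (σ Z 0 - σ Z 2 * ((k : A) + 1)) * n 0 = 0 := by linear_combination h2
        exact sub_eq_zero.mp (n0.mul_left_eq_zero.mp h)
      obtain ⟨u, ⟨i', hi'⟩, e0, e1, e2⟩ := hcol' E0 E2 Z (hne _ _ _ (by simp)) (hne _ _ _ (by simp)) (hne _ _ _ (by simp))
        (by simp [Matrix.det_fin_three, E0, E2, Z])
      simp [hE0] at e0; simp [hE2] at e1
      have u0 := cancel 0 _ e0
      have u2 := cancel 2 _ e1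
      have u1 : IsUnit (u 1) := ((pick u ⟨i', hi'⟩).resolve_left (nu u0)).resolve_right (nu u2)
      rw [u0, u2, mul_zero, mul_zero, add_zero, zero_add] at e2
      have z1 : σ Z 1 = 0 := u1.mul_left_eq_zero.mp e2
      refine ⟨σ Z 2, ?_, ?_, z1, rfl⟩
      · obtain ⟨l, hl⟩ := hσu Z (hne _ _ _ (by simp))
        rcases pick _ ⟨l, hl⟩ with h | h | h
        · exact isUnit_of_mul_isUnit_left (z0 ▸ h)
        · exact absurd h (nu z1)
        · exact h
      · exact z0.trans (by push_cast; ring)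
  obtain ⟨a, ha, ha0, -, -⟩ := hX p
  simp only [ZMod.natCast_self] at ha0
  rw [show (![0, 0, 1] : Fin 3 → ZMod p) = E2 from rfl, hE2] at ha0
  simp at ha0
  exact ha.mul_right_eq_zero.mp ha0.symm

end Groth.Agent.S13149
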