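import Groth.Statements.S13150
import Groth.Agent.L08.W2Lift

set_option autoImplicit false
universe u
open FrobAlg

namespace Groth.Agent.S13150
open Groth.L08

/-- Let k be a perfect field of characteristic p and (B, ι, π) a flat lifting over W₂(k) of a Noetherian
k-algebra A. The Frobenius of A lifts to B (a σ₂-semilinear ring endomorphism of B reducing to the
p-th power map) if and only if there is a ring homomorphism θ : B → W₂(A) over A (the zeroth Witt
component of θ(b) is π(b)) with θ ∘ ι equal to the map W₂(k) → W₂(A) induced by k → A. (The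
published statement is for a flat W₂(k)-extension of the structure sheaf of a scheme and says: the
push-out of that extension along the Frobenius O_X → F_*O_X is isomorphic, as an extension by F_*O_X
over W₂(k), to W₂(O_X); by the universal property of the push-out this is the existence of a
morphism of extensions to W₂(O_X), which in the affine case taken here is the map θ.) -/
theorem result
    (p : ℕ) [Fact p.Prime] (k : Type u) [Field k] [CharP k p] [PerfectRing k p]
    (A B : Type u) [CommRing A] [Algebra k A] [IsNoetherianRing A] [CommRing B]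
    (ι : FrobAlg.W2 p k →+* B) (π : B →+* A) (hB : FrobAlg.IsLift p k A B ι π) :
    (∃ Φ : B →+* B, FrobAlg.IsFrobLift p k A B ι π Φ) ↔
      ∃ θ : B →+* FrobAlg.W2 p A,
        (FrobAlg.res p A).comp θ = π ∧ θ.comp ι = WittGrp.truncMap p 2 (algebraMap k A) := by
  constructor
  · rintro ⟨Φ, hΦ⟩
    have hex : ∀ b : B, ∃ x : FrobAlg.W2 p A, FrobAlg.res p A x = π b ∧ W2.ghost hB x = Φ b := fun b => by
      obtain ⟨c, hc⟩ := W2.exists_jj hB (b := Φ b - b ^ p) (by rw [map_sub, hΦ.red, map_pow, sub_self])
      let x : FrobAlg.W2 p A := TruncatedWittVector.mk p ![π b, c]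
      refine ⟨x, by simp [x], ?_⟩
      rw [W2.ghost_apply hB x b (by simp [x]), show x.coeff 1 = c by simp [x], ← hc, add_sub_cancel]
    choose θ hθ0 hθ1 using hex
    refine ⟨RingHom.mk' ⟨⟨θ, ?_⟩, ?_⟩ ?_, RingHom.ext hθ0, RingHom.ext fun w => ?_⟩
    · exact W2.res_ghost_injective hB (by rw [hθ0, map_one, map_one]) (by rw [hθ1, map_one, map_one])
    · intro a b
      exact W2.res_ghost_injective hB
        (by rw [map_mul (FrobAlg.res p A)]; simp only [hθ0, map_mul])
        (by rw [map_mul (W2.ghost hB)]; simp only [hθ1, map_mul])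
    · intro a b
      exact W2.res_ghost_injective hB
        (by rw [map_add (FrobAlg.res p A)]; simp only [MonoidHom.coe_mk, OneHom.coe_mk, hθ0, map_add])
        (by rw [map_add (W2.ghost hB)]; simp only [MonoidHom.coe_mk, OneHom.coe_mk, hθ1, map_add])
    · change θ (ι w) = _
      refine W2.res_ghost_injective hB ?_ ?_
      · rw [hθ0, show π (ι w) = _ from RingHom.congr_fun hB.comm w]
        simp
      · rw [hθ1, W2.ghost_truncMap hB]
        exact RingHom.congr_fun hΦ.semi w
  · rintro ⟨θ, hθ0, hθ1⟩
    refine ⟨(W2.ghost hB).comp θ, hB, RingHom.ext fun w => ?_, fun b => ?_⟩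
    · rw [RingHom.comp_apply, RingHom.comp_apply, RingHom.comp_apply,
        show θ (ι w) = _ from RingHom.congr_fun hθ1 w, W2.ghost_truncMap hB]
    · rw [RingHom.comp_apply, W2.ghost_apply hB (θ b) b (RingHom.congr_fun hθ0 b).symm, map_add, map_pow,
        W2.pi_jj, add_zero]

end Groth.Agent.S13150
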