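import Groth.Statements.S13151
import Mathlib.RingTheory.IntegralClosure.IntegrallyClosed
import Mathlib.RingTheory.Localization.FractionRing
import Mathlib.RingTheory.Ideal.Quotient.Operations

set_option autoImplicit false
universe u
open CAlg

namespace Groth.Agent.S13151

/-- Let A → B be an injective ring homomorphism of integral domains which is integral, with A integrally
closed, and let π be an element of A. Then the contraction to A of the ideal πB is πA, i.e. an
element of A which is a multiple of π in B is already a multiple of π in A; in particular if B/πB is
an integral domain then A/πA is an integral domain. (The published statement is for an integral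
dominant morphism of integral schemes flat over a discrete valuation ring, with normal target and π
a uniformizer; flatness and the valuation ring play no role, so π is an arbitrary element here.) -/
theorem result {A B : Type u} [CommRing A] [CommRing B]
    [IsDomain A] [IsDomain B] [IsIntegrallyClosed A] [Algebra A B] [Algebra.IsIntegral A B]
    (hinj : Function.Injective (algebraMap A B)) (π : A) :
    (Ideal.span {algebraMap A B π}).comap (algebraMap A B) = Ideal.span {π} ∧
      (IsDomain (B ⧸ Ideal.span {algebraMap A B π}) → IsDomain (A ⧸ Ideal.span {π})) := by
  have key : (Ideal.span {algebraMap A B π}).comap (algebraMap A B) = Ideal.span {π} := by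
    refine le_antisymm (fun a ha => ?_) ?_
    · rw [Ideal.mem_comap, Ideal.mem_span_singleton'] at ha
      obtain ⟨b, hb⟩ := ha
      by_cases hπ : π = 0
      · subst hπ
        rw [map_zero, mul_zero, eq_comm, map_eq_zero_iff _ hinj] at hb
        rw [hb]; exact zero_mem _
      let K := FractionRing A
      let L := FractionRing B
      have hinj' : Function.Injective ((algebraMap B L).comp (algebraMap A B)) :=
        (IsFractionRing.injective B L).comp hinj
      let g : K →+* L := IsFractionRing.lift hinj'
      have hg : ∀ a, g (algebraMap A K a) = algebraMap B L (algebraMap A B a) := fun a =>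
        IsFractionRing.lift_algebraMap hinj' a
      obtain ⟨p, hp, hpb⟩ := Algebra.IsIntegral.isIntegral (R := A) b
      have hx : g (algebraMap A K a / algebraMap A K π) = algebraMap B L b := by
        rw [map_div₀, hg, hg, div_eq_iff, ← map_mul, hb]
        exact (map_ne_zero_iff _ (IsFractionRing.injective B L)).mpr ((map_ne_zero_iff _ hinj).mpr hπ)
      have hint : IsIntegral A (algebraMap A K a / algebraMap A K π) := by
        refine ⟨p, hp, g.injective ?_⟩
        rw [map_zero, Polynomial.hom_eval₂, hx, show g.comp (algebraMap A K) =
          (algebraMap B L).comp (algebraMap A B) from RingHom.ext hg, ← Polynomial.hom_eval₂, hpb, map_zero]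
      obtain ⟨c, hc⟩ := IsIntegrallyClosed.algebraMap_eq_of_integral hint
      refine Ideal.mem_span_singleton'.mpr ⟨c, IsFractionRing.injective A K ?_⟩
      rw [map_mul, hc, div_mul_cancel₀]
      exact (map_ne_zero_iff _ (IsFractionRing.injective A K)).mpr hπ
    · rw [Ideal.span_le, Set.singleton_subset_iff]
      exact Ideal.subset_span rfl
  refine ⟨key, fun _ => ?_⟩
  rw [Ideal.Quotient.isDomain_iff_prime, ← key]
  exact ((Ideal.Quotient.isDomain_iff_prime _).mp ‹_›).comap _

end Groth.Agent.S13151
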