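import Groth.Statements.S13153
import Groth.Agent.L01.SepKaehler
import Mathlib.RingTheory.AlgebraicIndependent.TranscendenceBasis
import Mathlib.RingTheory.Flat.FaithfullyFlat.Algebra
import Mathlib.FieldTheory.Perfect
import Mathlib.RingTheory.Ideal.Over
import Mathlib.RingTheory.DiscreteValuationRing.Basic

set_option autoImplicit false
universe u
open CAlg

namespace Groth.Agent.S13153

/-- Let R be a discrete valuation ring whose fraction field K has characteristic zero, A an integral
domain which is a faithfully flat R-algebra, with fraction field L, such that K is algebraically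
closed in L (every element of L algebraic over K is in the image of K). If f ∈ A has vanishing
differential, df = 0 in Ω_{A/R}, then f is the image of an element of R. (The published statement is
the sheaf form: for a faithfully flat morphism X → Spec R with geometrically integral generic fibre,
the kernel of d : O_X → Ω¹_{X/R} is the inverse image of O_{Spec R}; for integral X, geometric
integrality of the generic fibre in characteristic zero amounts to K being algebraically closed in
the function field, which is the form used here, and this row is the case of global sections over an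
affine X = Spec A.) -/
theorem result (R : Type u) [CommRing R] [IsDomain R]
    [IsDiscreteValuationRing R] [CharZero R] (K : Type u) [Field K] [Algebra R K] [IsFractionRing R K]
    (A : Type u) [CommRing A] [IsDomain A] [Algebra R A] [Module.FaithfullyFlat R A]
    (L : Type u) [Field L] [Algebra A L] [IsFractionRing A L] [Algebra R L] [Algebra K L]
    [IsScalarTower R A L] [IsScalarTower R K L]
    (hac : ∀ x : L, IsAlgebraic K x → x ∈ (algebraMap K L).range)
    (f : A) (hf : KaehlerDifferential.D R A f = 0) : f ∈ (algebraMap R A).range := by
  classical
  haveI : CharZero K := charZero_of_injective_algebraMap (IsFractionRing.injective R K)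
  have hd : KaehlerDifferential.D K L (algebraMap A L f) = 0 := by
    have := KaehlerDifferential.map_D R K A L f
    rw [hf, map_zero] at this
    exact this.symm
  have halg : IsAlgebraic K (algebraMap A L f) := by
    by_contra htr
    have hind : AlgebraicIndepOn K id ({algebraMap A L f} : Set L) := by
      rw [AlgebraicIndepOn]
      exact algebraicIndependent_unique_type_iff.mpr htr
    obtain ⟨t, ht, htb⟩ := exists_isTranscendenceBasis_superset hind
    haveI := htb.isAlgebraic_field
    obtain ⟨b, hb⟩ := Groth.L01.SepKaehler.exists_kaehler_basis K L ((↑) : t → L) htb.1 inferInstance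
    have := hb ⟨_, ht rfl⟩
    rw [hd] at this
    exact b.ne_zero _ this
  obtain ⟨q, hq⟩ := hac _ halg
  obtain ⟨r, s, hs, rfl⟩ := IsFractionRing.div_surjective R q
  have hsK : algebraMap R K s ≠ 0 := IsFractionRing.to_map_ne_zero_of_mem_nonZeroDivisors hs
  have hAL : algebraMap R A r = algebraMap R A s * f := by
    apply IsFractionRing.injective A L
    rw [map_mul, ← IsScalarTower.algebraMap_apply, ← IsScalarTower.algebraMap_apply,
      IsScalarTower.algebraMap_apply R K L r, IsScalarTower.algebraMap_apply R K L s, ← hq, map_div₀, mul_div_cancel₀]
    exact (map_ne_zero _).mpr hsK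
  have hmem : r ∈ ((Ideal.span {s}).map (algebraMap R A)).comap (algebraMap R A) := by
    rw [Ideal.mem_comap, Ideal.map_span, Set.image_singleton, hAL]
    exact Ideal.mul_mem_right _ _ (Ideal.mem_span_singleton_self _)
  rw [Ideal.comap_map_eq_self_of_faithfullyFlat] at hmem
  obtain ⟨c, rfl⟩ := Ideal.mem_span_singleton'.mp hmem
  refine ⟨c, ?_⟩
  have hsA : algebraMap R A s ≠ 0 := fun h => hsK (by
    have h2 : algebraMap R L s = 0 := by rw [IsScalarTower.algebraMap_apply R A L, h, map_zero]
    rw [IsScalarTower.algebraMap_apply R K L] at h2
    exact (map_eq_zero _).mp h2)
  apply mul_left_cancel₀ hsA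
  rw [← hAL, map_mul, mul_comm]

end Groth.Agent.S13153
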