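import Groth.Statements.S13154
import Mathlib.RingTheory.Flat.FaithfullyFlat.Algebra
import Mathlib.LinearAlgebra.TensorProduct.RightExactness
import Mathlib.RingTheory.Localization.FractionRing
import Mathlib.RingTheory.Flat.Basic

set_option autoImplicit false
universe u
open scoped TensorProduct
open CAlg

namespace Groth.Agent.S13154

/-- Let R be a discrete valuation ring with fraction field K, A a faithfully flat R-algebra (an affine
faithfully flat base change S' → S = Spec R) and B₁, B₂ flat R-algebras (two affine S-schemes X₁ =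
Spec B₁, X₂ = Spec B₂, flat over S). Suppose given a K-algebra homomorphism φ_K : K ⊗ B₂ → K ⊗ B₁ (a
morphism of the generic fibres X₁,K → X₂,K) and an A-algebra homomorphism φ_A : A ⊗ B₂ → A ⊗ B₁ (a
morphism X₁ ×_S S' → X₂ ×_S S' over S') which coincide after base change to K ⊗ A, in the sense that
for every b ∈ B₂ the images of φ_K(1 ⊗ b) and φ_A(1 ⊗ b) in (K ⊗ A) ⊗ B₁ agree. Then there is
exactly one R-algebra homomorphism φ : B₂ → B₁ (a morphism X₁ → X₂) whose base changes to K and to A
are φ_K and φ_A. (The published statement assumes only X₂ flat over S; flatness of X₁ is also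
needed: with B₂ = R[t], B₁ = R[e]/(e², πe) for a uniformizer π and A = R[x], the maps t ↦ 0 over K
and t ↦ e x over A agree over K ⊗ A = K[x] but come from no map over R.) -/
theorem result (R : Type u) [CommRing R] [IsDomain R]
    [IsDiscreteValuationRing R] (K : Type u) [Field K] [Algebra R K] [IsFractionRing R K]
    (A : Type u) [CommRing A] [Algebra R A] [Module.FaithfullyFlat R A]
    (B₁ B₂ : Type u) [CommRing B₁] [CommRing B₂] [Algebra R B₁] [Algebra R B₂]
    [Module.Flat R B₁] [Module.Flat R B₂]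
    (φK : K ⊗[R] B₂ →ₐ[K] K ⊗[R] B₁) (φA : A ⊗[R] B₂ →ₐ[A] A ⊗[R] B₁)
    (hcomp : ∀ b : B₂,
      Algebra.TensorProduct.map (Algebra.TensorProduct.includeLeft : K →ₐ[R] K ⊗[R] A) (AlgHom.id R B₁)
          (φK (1 ⊗ₜ b)) =
        Algebra.TensorProduct.map (Algebra.TensorProduct.includeRight : A →ₐ[R] K ⊗[R] A) (AlgHom.id R B₁)
          (φA (1 ⊗ₜ b))) :
    ∃! φ : B₂ →ₐ[R] B₁, (∀ b : B₂, φK (1 ⊗ₜ b) = 1 ⊗ₜ φ b) ∧ (∀ b : B₂, φA (1 ⊗ₜ b) = 1 ⊗ₜ φ b) := by
  classical
  let j : B₁ →ₐ[R] K ⊗[R] B₁ := Algebra.TensorProduct.includeRight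
  have hj : Function.Injective j :=
    Algebra.TensorProduct.includeRight_injective (FaithfulSMul.algebraMap_injective R K)
  have hA : Function.Injective (Algebra.TensorProduct.includeRight : A →ₐ[R] K ⊗[R] A) :=
    Algebra.TensorProduct.includeRight_injective (FaithfulSMul.algebraMap_injective R K)
  let ι₁ := Algebra.TensorProduct.map (Algebra.TensorProduct.includeLeft : K →ₐ[R] K ⊗[R] A) (AlgHom.id R B₁)
  let ι₂ := Algebra.TensorProduct.map (Algebra.TensorProduct.includeRight : A →ₐ[R] K ⊗[R] A) (AlgHom.id R B₁)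
  have hι₂ : Function.Injective ι₂ := by
    have : (ι₂ : A ⊗[R] B₁ → (K ⊗[R] A) ⊗[R] B₁) =
        LinearMap.rTensor B₁ (Algebra.TensorProduct.includeRight : A →ₐ[R] K ⊗[R] A).toLinearMap := by
      funext z
      induction z using TensorProduct.induction_on with
      | zero => simp
      | tmul a b => rfl
      | add a b ha hb => simp [map_add, ha, hb]
    rw [this]
    exact Module.Flat.rTensor_preserves_injective_linearMap (M := B₁) _ hA
  have hden : ∀ x : K ⊗[R] B₁, ∃ r : R, r ≠ 0 ∧ ∃ y, r • x = (1 : K) ⊗ₜ[R] y := by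
    intro x
    induction x using TensorProduct.induction_on with
    | zero => exact ⟨1, one_ne_zero, 0, by simp⟩
    | tmul k b =>
      obtain ⟨a, r, hr, rfl⟩ := IsFractionRing.div_surjective (A := R) k
      refine ⟨r, nonZeroDivisors.ne_zero hr, a • b, ?_⟩
      rw [TensorProduct.smul_tmul', ← TensorProduct.smul_tmul, Algebra.smul_def, Algebra.smul_def, mul_one,
        mul_div_cancel₀ _ ((map_ne_zero_iff _ (FaithfulSMul.algebraMap_injective R K)).mpr
          (nonZeroDivisors.ne_zero hr))]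
    | add x y hx hy =>
      obtain ⟨r, hr, a, ha⟩ := hx
      obtain ⟨s, hs, c, hc⟩ := hy
      exact ⟨r * s, mul_ne_zero hr hs, s • a + r • c, by
        rw [smul_add, mul_comm, mul_smul, ha, mul_comm, mul_smul, hc, TensorProduct.tmul_add,
          TensorProduct.tmul_smul, TensorProduct.tmul_smul]⟩
  have hex : ∀ b : B₂, ∃ c, φK (1 ⊗ₜ b) = j c := by
    intro b
    obtain ⟨r, hr, y, hy⟩ := hden (φK (1 ⊗ₜ b))
    have h1 : ι₂ ((1 : A) ⊗ₜ[R] y) = ι₂ (r • φA (1 ⊗ₜ b)) := by
      rw [map_smul, ← hcomp b, ← map_smul, hy]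
      simp [ι₂, Algebra.TensorProduct.one_def]
    have h2 := hι₂ h1
    have h3 : (1 : A) ⊗ₜ[R] ((Ideal.span {r} • (⊤ : Submodule R B₁)).mkQ y) = 0 := by
      have := congrArg (LinearMap.lTensor A (Ideal.span {r} • (⊤ : Submodule R B₁)).mkQ) h2
      rw [LinearMap.lTensor_tmul] at this
      rw [this, map_smul, ← LinearMap.smul_apply, ← LinearMap.lTensor_smul]
      have h0 : r • (Ideal.span {r} • (⊤ : Submodule R B₁)).mkQ = 0 := LinearMap.ext fun z =>
        (Submodule.Quotient.mk_eq_zero (x := r • z) _).mpr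
          (Submodule.smul_mem_smul (Ideal.mem_span_singleton_self r) Submodule.mem_top)
      rw [h0, LinearMap.lTensor_zero, LinearMap.zero_apply]
    have h4 : (Ideal.span {r} • (⊤ : Submodule R B₁)).mkQ y = 0 :=
      Module.FaithfullyFlat.tensorProduct_mk_injective (A := R) (B := A) _
        (h3.trans (TensorProduct.tmul_zero _ _).symm)
    rw [Submodule.mkQ_apply, Submodule.Quotient.mk_eq_zero, Submodule.ideal_span_singleton_smul,
      Submodule.mem_smul_pointwise_iff_exists] at h4
    obtain ⟨c, -, rfl⟩ := h4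
    refine ⟨c, ?_⟩
    rw [TensorProduct.tmul_smul, ← algebraMap_smul K r (φK (1 ⊗ₜ b)), ← algebraMap_smul K r ((1 : K) ⊗ₜ[R] c)] at hy
    exact smul_right_injective _ ((map_ne_zero_iff _ (FaithfulSMul.algebraMap_injective R K)).mpr hr) hy
  choose φ hφ using hex
  let ψ : B₂ →ₐ[R] B₁ :=
    { toFun := φ
      map_one' := hj (by rw [← hφ, map_one, ← Algebra.TensorProduct.one_def, map_one])
      map_mul' := fun a b => hj (by
        rw [← hφ, map_mul, ← hφ, ← hφ, ← map_mul, Algebra.TensorProduct.tmul_mul_tmul, one_mul])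
      map_zero' := hj (by rw [← hφ, map_zero, TensorProduct.tmul_zero, map_zero])
      map_add' := fun a b => hj (by rw [← hφ, map_add, ← hφ, ← hφ, ← map_add, TensorProduct.tmul_add])
      commutes' := fun r => hj (by
        rw [← hφ, AlgHom.commutes]
        change φK (Algebra.TensorProduct.includeRight (R := R) (A := K) (algebraMap R B₂ r)) = _
        rw [AlgHom.commutes, IsScalarTower.algebraMap_apply R K (K ⊗[R] B₂), AlgHom.commutes,
          ← IsScalarTower.algebraMap_apply]) }
  refine ⟨ψ, ⟨fun b => hφ b, fun b => hι₂ ?_⟩, fun χ hχ => AlgHom.ext fun b => hj ?_⟩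
  · rw [← hcomp b, hφ b]
    simp [ψ, j, ι₂, Algebra.TensorProduct.one_def]
  · exact ((hχ.1 b).symm.trans (hφ b))

end Groth.Agent.S13154
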