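import Groth.Statements.S13155
import Mathlib.RingTheory.IntegralClosure.IntegrallyClosed
import Mathlib.RingTheory.AdjoinRoot

set_option autoImplicit false
universe u
open CAlg

namespace Groth.Agent.S13155

/-- An element of a localization of a normal domain which is integral is integral. -/
private theorem exists_eq_of_isIntegral {A S : Type*} [CommRing A] [IsDomain A]
    [IsIntegrallyClosed A] [CommRing S] [Algebra A S] (π : A) (hπ : π ≠ 0)
    [IsLocalization.Away π S] (x : S) (hx : IsIntegral A x) : ∃ a, algebraMap A S a = x := by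
  have hu : IsUnit (algebraMap A (FractionRing A) π) :=
    isUnit_iff_ne_zero.mpr fun h => hπ (IsFractionRing.injective A (FractionRing A) (by simpa using h))
  let φ : S →ₐ[A] FractionRing A :=
    { IsLocalization.Away.lift π hu with
      commutes' := fun a => IsLocalization.Away.lift_eq π hu a }
  obtain ⟨a, ha⟩ := IsIntegrallyClosed.isIntegral_iff.mp (hx.map φ)
  refine ⟨a, ?_⟩
  have hinj : Function.Injective φ := by
    apply IsLocalization.lift_injective_iff (g := algebraMap A (FractionRing A)) _ |>.mpr
    intro x y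
    have : Function.Injective (algebraMap A S) :=
      IsLocalization.injective S (powers_le_nonZeroDivisors_of_noZeroDivisors hπ)
    exact ⟨fun h => by rw [this h], fun h => by rw [IsFractionRing.injective A (FractionRing A) h]⟩
  exact hinj (by rw [AlgHom.commutes, ha])

private theorem eq_pow_mul_unit {A : Type*} [CommRing A] [IsDomain A] (π : A) (hπ0 : π ≠ 0)
    (hπ : (Ideal.span {π}).IsPrime) : ∀ (N : ℕ) (f g : A), f * g = π ^ N → ∃ (k : ℕ) (u : Aˣ), f = π ^ k * u := by
  intro N
  induction N with
  | zero => exact fun f g h => ⟨0, Units.mkOfMulEqOne f g (by simpa using h), by simp⟩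
  | succ N ih =>
    intro f g h
    rcases hπ.mem_or_mem (show f * g ∈ Ideal.span {π} by
      rw [h, Ideal.mem_span_singleton, pow_succ]; exact Dvd.intro_left _ rfl) with h' | h'
    · obtain ⟨f', rfl⟩ := Ideal.mem_span_singleton.mp h'
      obtain ⟨k, u, rfl⟩ := ih f' g (mul_left_cancel₀ hπ0 (by rw [← mul_assoc, h, pow_succ']))
      exact ⟨k + 1, u, by ring⟩
    · obtain ⟨g', rfl⟩ := Ideal.mem_span_singleton.mp h'
      exact ih f g' (mul_left_cancel₀ hπ0 (by rw [mul_left_comm, h, pow_succ']))

private theorem main {A : Type u} [CommRing A] [IsDomain A] [IsIntegrallyClosed A] (π : A) (hπ0 : π ≠ 0)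
    (hπ : (Ideal.span {π}).IsPrime) (m : ℕ) (hm : 0 < m)
    (S : Type u) [CommRing S] [Algebra A S] [IsLocalization.Away π S]
    (L : Type u) [CommRing L] [Algebra A L] [Algebra S L] [IsScalarTower A S L]
    (hSL : Function.Injective (algebraMap S L))
    (f : A) (hf : IsUnit (algebraMap A S f)) (Z : L) (hZ : Z ^ m = algebraMap A L f)
    (hsp : (Ideal.span {algebraMap A (integralClosure A L) π}).IsPrime) :
    ∃ (q : ℕ) (u : Aˣ), f = π ^ (m * q) * (u : A) := by
  obtain ⟨c, hc⟩ := hf.exists_right_inv
  obtain ⟨⟨c', l⟩, hl⟩ := IsLocalization.surj (Submonoid.powers π) c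
  obtain ⟨N, hN⟩ := l.2
  have hinjS : Function.Injective (algebraMap A S) :=
    IsLocalization.injective S (powers_le_nonZeroDivisors_of_noZeroDivisors hπ0)
  have hfg : f * c' = π ^ N := by
    refine hinjS ?_
    rw [map_mul, ← hl, ← mul_assoc, hc, one_mul, ← hN]
  obtain ⟨k, u, rfl⟩ := eq_pow_mul_unit π hπ0 hπ N f c' hfg
  set F := algebraMap A L with hF
  have hu : IsUnit (F π) := by
    rw [hF, IsScalarTower.algebraMap_apply A S L]
    exact (IsLocalization.Away.algebraMap_isUnit π).map _
  obtain ⟨w, hw⟩ : ∃ w, F π ^ (k / m) * w = Z := ((hu.pow (k / m)).dvd (a := Z)).imp fun _ h => h.symm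
  have hwm : w ^ m = F (π ^ (k % m) * u) := by
    refine (hu.pow (m * (k / m))).mul_left_cancel ?_
    rw [pow_mul' (F π), ← mul_pow, hw, hZ, ← pow_mul', ← map_pow, ← map_mul, ← mul_assoc, ← pow_add,
      Nat.div_add_mod]
  rcases Nat.eq_zero_or_pos (k % m) with h0 | h0
  · exact ⟨k / m, u, by rw [Nat.mul_div_cancel' (Nat.dvd_of_mod_eq_zero h0)]⟩
  exfalso
  set B := integralClosure A L
  have hwint : IsIntegral A w := IsIntegral.of_pow hm (by rw [hwm]; exact isIntegral_algebraMap)
  obtain ⟨w, rfl⟩ : ∃ v : B, (v : L) = w := ⟨⟨w, hwint⟩, rfl⟩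
  have hwB : w ^ m = algebraMap A B (π ^ (k % m) * u) := Subtype.coe_injective (by
    simp only [Subalgebra.coe_pow, Subalgebra.coe_algebraMap]; exact hwm)
  have hwP : w ∈ Ideal.span {algebraMap A B π} := hsp.mem_of_pow_mem m (by
    rw [hwB, ← Nat.sub_add_cancel h0, pow_succ, map_mul, map_mul]
    exact Ideal.mul_mem_right _ _ (Ideal.mul_mem_left _ _ (Ideal.mem_span_singleton_self _)))
  obtain ⟨v, rfl⟩ := Ideal.mem_span_singleton.mp hwP
  set x := IsLocalization.mk' S (π ^ (k % m) * (u : A))
      (⟨π ^ m, _, rfl⟩ : Submonoid.powers π) with hx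
  have hxs : x * algebraMap A S (π ^ m) = algebraMap A S (π ^ (k % m) * u) := IsLocalization.mk'_spec S _ _
  have hxv : algebraMap S L x = (v : L) ^ m := by
    refine (hu.pow m).mul_left_cancel ?_
    rw [← mul_pow, show F π * (v : L) = ((algebraMap A B π * v : B) : L) by push_cast; rfl, hwm, hF,
      ← map_pow, IsScalarTower.algebraMap_apply A S L (π ^ m), ← map_mul, mul_comm, hxs,
      ← IsScalarTower.algebraMap_apply]
  obtain ⟨a, ha⟩ := exists_eq_of_isIntegral π hπ0 x
    ((isIntegral_algHom_iff (IsScalarTower.toAlgHom A S L) hSL).mp (by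
      simpa [hxv] using (v.2 : IsIntegral A (v : L)).pow m))
  have h : a * π ^ m = π ^ (k % m) * u := hinjS (by rw [map_mul, ha, hxs])
  obtain ⟨d, hd⟩ : ∃ d, m = k % m + (d + 1) := ⟨m - k % m - 1, by have := Nat.mod_lt k hm; omega⟩
  have hd' : a * π ^ d * π = u := mul_left_cancel₀ (pow_ne_zero (k % m) hπ0)
    (by rw [← h]; conv_rhs => rw [hd, pow_add, pow_succ]
        ring)
  exact hπ.ne_top (Ideal.eq_top_of_isUnit_mem _ (Ideal.mem_span_singleton'.mpr ⟨_, hd'⟩) u.isUnit)

/-- Let R be a discrete valuation ring of characteristic zero with uniformizer π, and A a Noetherian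
integrally closed domain which is an R-algebra with injective structure map and in which πA is a
prime ideal (X = Spec A is normal, flat over R, with integral special fibre). Let m ≥ 1 and let f ∈
A be invertible in A[1/π] (so Z^m = f defines a μ_m-torsor over the generic fibre), such that S =
A[1/π][Z]/(Z^m − f) is an integral domain and, writing B for the integral closure of A in S (the
normalization of X in that cover), πB is a prime ideal of B (the normalization has integral special
fibre). Then f is, up to a unit of A, an m-th power of a power of π: f = π^{mq}·u with q ≥ 0 and u ∈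
A^×, so that the cover extends to the μ_m-torsor Z^m = u over all of X. (The published statement is
the existence and uniqueness of the extending μ_m-torsor over a normal faithfully flat R-scheme with
integral fibres, R containing a primitive m-th root of unity; this row is the affine computation
that carries the proof.) -/
theorem result (R : Type u) [CommRing R]
    [IsDomain R] [IsDiscreteValuationRing R] [CharZero R] (ϖ : R) (hϖ : Irreducible ϖ)
    (A : Type u) [CommRing A] [IsDomain A] [IsNoetherianRing A] [IsIntegrallyClosed A] [Algebra R A]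
    (hinj : Function.Injective (algebraMap R A)) (hprime : (Ideal.span {algebraMap R A ϖ}).IsPrime)
    (m : ℕ) (hm : 0 < m) (f : A) (hf : IsUnit (algebraMap A (Localization.Away (algebraMap R A ϖ)) f))
    [IsDomain (AdjoinRoot (Polynomial.X ^ m - Polynomial.C (algebraMap A (Localization.Away (algebraMap R A ϖ)) f)))]
    (hsp : (Ideal.span {algebraMap A (integralClosure A
        (AdjoinRoot (Polynomial.X ^ m - Polynomial.C (algebraMap A (Localization.Away (algebraMap R A ϖ)) f))))
          (algebraMap R A ϖ)}).IsPrime) :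
    ∃ (q : ℕ) (u : Aˣ), f = algebraMap R A ϖ ^ (m * q) * (u : A) := by
  classical
  have hπ0 : algebraMap R A ϖ ≠ 0 := fun h => hϖ.ne_zero (hinj (by simpa using h))
  set π := algebraMap R A ϖ with hπe
  set P : Polynomial (Localization.Away π) :=
    Polynomial.X ^ m - Polynomial.C (algebraMap A (Localization.Away π) f) with hP
  have : IsDomain (Localization.Away π) :=
    IsLocalization.isDomain_localization (powers_le_nonZeroDivisors_of_noZeroDivisors hπ0)
  have hdeg : P.degree ≠ 0 := by
    rw [hP, Polynomial.degree_X_pow_sub_C hm]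
    exact_mod_cast hm.ne'
  refine main π hπ0 hprime m hm (Localization.Away π) (AdjoinRoot P)
    (AdjoinRoot.of.injective_of_degree_ne_zero hdeg) f hf (AdjoinRoot.root P) ?_ hsp
  have h := AdjoinRoot.eval₂_root P
  rw [hP, Polynomial.eval₂_sub, Polynomial.eval₂_pow, Polynomial.eval₂_X, Polynomial.eval₂_C,
    sub_eq_zero] at h
  rw [h]
  rfl

end Groth.Agent.S13155
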