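import Groth.Statements.S13156
import Mathlib.Algebra.Polynomial.Derivative
import Mathlib.Algebra.MvPolynomial.Eval
import Mathlib.Algebra.MvPolynomial.CommRing
import Mathlib.RingTheory.Coprime.Lemmas
import Mathlib.Data.Nat.Factorial.Basic
import Mathlib.Algebra.Polynomial.Eval.Degree
import Mathlib.Algebra.Polynomial.AlgebraMap
import Mathlib.Tactic.LinearCombination
import Mathlib.Tactic.ComputeDegree
import Mathlib.Data.Fin.VecNotation
import Mathlib.Tactic.FinCases

set_option autoImplicit false
universe u
open scoped Polynomial
open CAlg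

namespace Groth.Agent.S13156

theorem eq_zero_of_ode {R : Type u} [CommRing R] (p : ℕ)
    (hunit : ∀ n : ℕ, 0 < n → n < p → IsUnit (n : R)) (E : R[X]) (hE : E.natDegree < p) (m b : R)
    (hode : (1 + Polynomial.C m * Polynomial.X) * Polynomial.derivative E = Polynomial.C b * E)
    (h0 : E.coeff 0 = 0) : E = 0 := by
  refine Polynomial.ext fun n => ?_
  rw [Polynomial.coeff_zero]
  induction n with
  | zero => exact h0
  | succ n ih =>
    by_cases hn : p ≤ n + 1
    · exact Polynomial.coeff_eq_zero_of_natDegree_lt (by omega)
    have h := congrArg (fun q : R[X] => q.coeff n) hode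
    simp only [add_mul, one_mul, Polynomial.coeff_add, mul_assoc, Polynomial.coeff_C_mul,
      Polynomial.coeff_derivative, ih, mul_zero] at h
    have h2 : (Polynomial.X * Polynomial.derivative E).coeff n = 0 := by
      cases n with
      | zero => simp
      | succ k => rw [Polynomial.coeff_X_mul, Polynomial.coeff_derivative, ih, zero_mul]
    rw [h2, mul_zero, add_zero] at h
    have hu := hunit (n + 1) (by omega) (by omega)
    push_cast at hu
    exact (IsUnit.mul_left_eq_zero hu).mp h

theorem key {A : Type u} [CommRing A] (p : ℕ) [Fact p.Prime]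
    (hu : IsUnit ((Nat.factorial (p - 1) : ℕ) : A)) (μ : A) (F : A[X]) (hF : F.natDegree < p) :
    (Polynomial.C F * F.map Polynomial.C - Polynomial.C (Polynomial.C (F.coeff 0 ^ 2)) =
      (F.map Polynomial.C).comp (Polynomial.C Polynomial.X +
        Polynomial.C (1 + Polynomial.C μ * Polynomial.X) * Polynomial.X) -
        Polynomial.C (Polynomial.C (F.coeff 0))) ↔
      F * Polynomial.C (F.coeff 1) = Polynomial.derivative F * (1 + Polynomial.C μ * Polynomial.X) := by
  set G := F.map (Polynomial.C : A →+* A[X]) with hG
  set l : A[X] := 1 + Polynomial.C μ * Polynomial.X with hl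
  set u : A[X][X] := Polynomial.C Polynomial.X + Polynomial.C l * Polynomial.X with hu'
  have hcoeffG : ∀ n, G.coeff n = Polynomial.C (F.coeff n) := fun n => Polynomial.coeff_map _ n
  have hGeval : ∀ q : A[X], (q.map (Polynomial.C : A →+* A[X])).eval Polynomial.X = q := fun q => by
    rw [Polynomial.eval_map, Polynomial.eval₂_C_X]
  have hdu : Polynomial.derivative u = Polynomial.C l := by simp [hu']
  have hdG : Polynomial.derivative G = (Polynomial.derivative F).map Polynomial.C :=
    Polynomial.derivative_map _ _
  have hu0 : u.eval 0 = Polynomial.X := by simp [hu']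
  constructor
  · intro h
    have h1 := congrArg (fun q : A[X][X] => (Polynomial.derivative q).eval 0) h
    simp only [map_sub, Polynomial.derivative_C_mul, Polynomial.derivative_C, sub_zero,
      Polynomial.derivative_comp, hdu, Polynomial.eval_mul, Polynomial.eval_C, Polynomial.eval_comp,
      hu0, hdG, hGeval] at h1
    rw [← Polynomial.coeff_zero_eq_eval_zero, Polynomial.coeff_map, Polynomial.coeff_derivative] at h1
    rw [mul_comm (Polynomial.derivative F)]
    simpa using h1
  · intro h
    have hunit : ∀ n : ℕ, 0 < n → n < p → IsUnit (n : A) := fun n h0 hn =>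
      isUnit_of_dvd_unit (map_dvd (Nat.castRingHom A) (Nat.dvd_factorial h0 (by omega))) hu
    have hunit' : ∀ n : ℕ, 0 < n → n < p → IsUnit (n : A[X]) := fun n h0 hn => by
      rw [← map_natCast (Polynomial.C : A →+* A[X]) n]; exact (hunit n h0 hn).map _
    have ha : F.coeff 0 * F.coeff 1 = F.coeff 1 := by
      have h1 := congrArg (fun q : A[X] => q.coeff 0) h
      simp only [Polynomial.mul_coeff_zero, Polynomial.coeff_C_zero, hl, Polynomial.coeff_add,
        Polynomial.coeff_one_zero, Polynomial.coeff_X_zero, mul_zero, add_zero, mul_one,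
        Polynomial.coeff_derivative] at h1
      simpa using h1
    -- (1 - a₀) F is constant
    have hlin : Polynomial.C (1 - F.coeff 0) * F = Polynomial.C ((1 - F.coeff 0) * F.coeff 0) := by
      rw [← sub_eq_zero]
      refine eq_zero_of_ode p hunit _ ?_ μ 0 ?_ (by simp)
      · refine lt_of_le_of_lt ((Polynomial.natDegree_sub_C).trans_le (Polynomial.natDegree_C_mul_le _ _)) hF
      · rw [map_zero, zero_mul, map_sub, Polynomial.derivative_C, sub_zero, Polynomial.derivative_C_mul,
          ← hl, mul_left_comm, mul_comm l, ← h, mul_comm F, ← mul_assoc, ← map_mul,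
          show (1 - F.coeff 0) * F.coeff 1 = 0 by linear_combination -ha, map_zero, zero_mul]
    set D := G.comp u - Polynomial.C F * G -
      Polynomial.C (Polynomial.C (F.coeff 0 - F.coeff 0 ^ 2)) with hD
    suffices hD0 : D = 0 by
      rw [hD, map_sub, map_sub] at hD0
      linear_combination (-1 : A[X][X]) * hD0
    refine eq_zero_of_ode p hunit' D ?_ (Polynomial.C μ) (Polynomial.C (F.coeff 1)) ?_ ?_
    · have hGd : G.natDegree ≤ F.natDegree := Polynomial.natDegree_map_le
      have hud : u.natDegree ≤ 1 := by
        rw [hu']; compute_degree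
      refine lt_of_le_of_lt ?_ hF
      rw [hD, Polynomial.natDegree_sub_C]
      refine (Polynomial.natDegree_sub_le _ _).trans (max_le ?_ ((Polynomial.natDegree_C_mul_le _ _).trans hGd))
      calc (G.comp u).natDegree ≤ G.natDegree * u.natDegree := Polynomial.natDegree_comp_le
        _ ≤ F.natDegree * 1 := Nat.mul_le_mul hGd hud
        _ = F.natDegree := mul_one _
    · have hodeF : ((Polynomial.derivative F).map (Polynomial.C : A →+* A[X])) *
          (1 + Polynomial.C (Polynomial.C μ) * Polynomial.X) = G * Polynomial.C (Polynomial.C (F.coeff 1)) := by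
        have h1 := congrArg (Polynomial.map (Polynomial.C : A →+* A[X])) h
        simp only [Polynomial.map_mul, Polynomial.map_C, hl, Polynomial.map_add, Polynomial.map_one,
          Polynomial.map_X] at h1
        exact h1.symm
      have hcomp := congrArg (fun q : A[X][X] => q.comp u) hodeF
      simp only [Polynomial.mul_comp, Polynomial.add_comp, Polynomial.one_comp, Polynomial.C_comp,
        Polynomial.X_comp] at hcomp
      have hz : (Polynomial.C (Polynomial.C (F.coeff 1)) : A[X][X]) *
          Polynomial.C (Polynomial.C (F.coeff 0 - F.coeff 0 ^ 2)) = 0 := by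
        rw [← map_mul, ← map_mul,
          show F.coeff 1 * (F.coeff 0 - F.coeff 0 ^ 2) = 0 by linear_combination (-F.coeff 0) * ha,
          map_zero, map_zero]
      rw [hD, map_sub, map_sub, Polynomial.derivative_C, sub_zero, Polynomial.derivative_comp, hdu,
        Polynomial.derivative_C_mul, hdG]
      rw [hu', hl, map_add, map_one, map_mul] at hcomp
      rw [hu', hl, map_add, map_one, map_mul]
      linear_combination hcomp - Polynomial.C F * hodeF + hz
    · rw [hD, Polynomial.coeff_sub, Polynomial.coeff_sub, Polynomial.coeff_zero_eq_eval_zero (G.comp u),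
        Polynomial.eval_comp, hu0, hGeval, Polynomial.coeff_C_mul, hcoeffG, Polynomial.coeff_C_zero]
      simp only [sub_mul, map_sub, map_one, one_mul, map_mul, map_pow] at hlin ⊢
      linear_combination hlin



/-- Let p be a prime number, A a commutative ring in which (p−1)! is invertible, μ an element of A, and
F ∈ A[X] a polynomial of degree at most p − 1 with coefficients a_0, a_1, …. Then the identity
F(S)·F(T) − a_0² = F(S + T + μST) − a_0 holds in the polynomial ring A[S, T] if and only if a_1·F(S)
= F′(S)·(1 + μS) holds in A[S], F′ the formal derivative. (The published statement is over the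
quotient of a discrete valuation ring of residue characteristic p by a nonzero element of its
maximal ideal; only the invertibility of 1, …, p − 1 is used, so an arbitrary such ring A is allowed
here.) -/
theorem result (A : Type u) [CommRing A] (p : ℕ) [Fact p.Prime]
    (hu : IsUnit ((Nat.factorial (p - 1) : ℕ) : A)) (μ : A) (F : A[X]) (hF : F.natDegree < p) :
    (Polynomial.aeval (MvPolynomial.X 0 : MvPolynomial (Fin 2) A) F *
          Polynomial.aeval (MvPolynomial.X 1 : MvPolynomial (Fin 2) A) F - MvPolynomial.C (F.coeff 0 ^ 2) =
        Polynomial.aeval (MvPolynomial.X 0 + MvPolynomial.X 1 +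
            MvPolynomial.C μ * MvPolynomial.X 0 * MvPolynomial.X 1 : MvPolynomial (Fin 2) A) F -
          MvPolynomial.C (F.coeff 0)) ↔
      F * Polynomial.C (F.coeff 1) = Polynomial.derivative F * (1 + Polynomial.C μ * Polynomial.X) := by
  classical
  let ψ : MvPolynomial (Fin 2) A →ₐ[A] A[X][X] :=
    MvPolynomial.aeval ![Polynomial.C Polynomial.X, Polynomial.X]
  let χ : A[X][X] →+* MvPolynomial (Fin 2) A :=
    Polynomial.eval₂RingHom (Polynomial.eval₂RingHom MvPolynomial.C (MvPolynomial.X 0)) (MvPolynomial.X 1)
  have hχψ : ∀ q, χ (ψ q) = q := by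
    intro q
    induction q using MvPolynomial.induction_on with
    | C a => simp [ψ, χ, Polynomial.algebraMap_apply]
    | add p q hp hq => simp only [map_add, hp, hq]
    | mul_X p i hp =>
      rw [map_mul, map_mul, hp]
      congr 1
      fin_cases i <;> simp [ψ, χ]
  have hψ : Function.Injective ψ := Function.LeftInverse.injective hχψ
  have hS : ψ (Polynomial.aeval (MvPolynomial.X 0 : MvPolynomial (Fin 2) A) F) = Polynomial.C F := by
    rw [← Polynomial.aeval_algHom_apply, MvPolynomial.aeval_X]
    show Polynomial.aeval (Polynomial.C Polynomial.X) F = _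
    rw [show Polynomial.C (Polynomial.X : A[X]) = (Polynomial.CAlgHom (R := A) (A := A[X])) Polynomial.X from rfl,
      Polynomial.aeval_algHom_apply, Polynomial.aeval_X_left_apply]
    rfl
  have hgen : ∀ u : A[X][X], Polynomial.aeval u F = (F.map Polynomial.C).comp u := by
    intro u
    rw [Polynomial.comp, Polynomial.eval₂_map, Polynomial.aeval_def]
    rfl
  have hT : ψ (Polynomial.aeval (MvPolynomial.X 1 : MvPolynomial (Fin 2) A) F) = F.map Polynomial.C := by
    rw [← Polynomial.aeval_algHom_apply, MvPolynomial.aeval_X, hgen]
    show (F.map Polynomial.C).comp Polynomial.X = _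
    rw [Polynomial.comp_X]
  have hU : ψ (Polynomial.aeval (MvPolynomial.X 0 + MvPolynomial.X 1 +
      MvPolynomial.C μ * MvPolynomial.X 0 * MvPolynomial.X 1 : MvPolynomial (Fin 2) A) F) =
      (F.map Polynomial.C).comp (Polynomial.C Polynomial.X +
        Polynomial.C (1 + Polynomial.C μ * Polynomial.X) * Polynomial.X) := by
    rw [← Polynomial.aeval_algHom_apply, hgen]
    congr 1
    simp [ψ, Polynomial.algebraMap_apply]
    ring
  have hC : ∀ a : A, ψ (MvPolynomial.C a) = Polynomial.C (Polynomial.C a) := fun a => by
    simp [ψ, Polynomial.algebraMap_apply]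
  rw [← hψ.eq_iff, map_sub, map_sub, map_mul, hS, hT, hU, hC, hC]
  exact key p hu μ F hF


end Groth.Agent.S13156
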