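import Groth.Statements.S13157
import Mathlib.Algebra.Polynomial.Derivative
import Mathlib.Tactic.LinearCombination

set_option autoImplicit false
universe u
open scoped Polynomial
open CAlg

namespace Groth.Agent.S13157

/-- (i) ⇔ (ii): let p be a prime number, A a commutative ring in which (p−1)! is invertible, μ ∈ A, and
F ∈ A[X] a polynomial of degree at most p − 1 with constant term a_0 = 1 and coefficients a_1, a_2,
…. Then the relations a_{r−1}·a_1 = (r − 1)μ·a_{r−1} + r·a_r for 1 ≤ r ≤ p (with a_p = 0), written
here as the single identity a_1·F = F′·(1 + μX), hold if and only if r!·a_r = ∏_{k=0}^{r−1} (a_1 −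
kμ) for every 1 ≤ r ≤ p − 1 and ∏_{k=0}^{p−1} (a_1 − kμ) = 0. (The published statement lists the
relations only for 1 ≤ r ≤ p − 1, while its proof uses and derives the relation for r = p as well,
which is needed for the vanishing of the last product; it is included here. The published setting is
the quotient of a discrete valuation ring of residue characteristic p by a nonzero non-unit; only
the invertibility of 1, …, p − 1 is used.) -/
theorem result (A : Type u) [CommRing A] (p : ℕ) [Fact p.Prime]
    (hu : IsUnit ((Nat.factorial (p - 1) : ℕ) : A)) (μ : A) (F : A[X]) (hF : F.natDegree < p)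
    (h0 : F.coeff 0 = 1) :
    F * Polynomial.C (F.coeff 1) = Polynomial.derivative F * (1 + Polynomial.C μ * Polynomial.X) ↔
      ((∀ r : ℕ, 1 ≤ r → r < p →
          (r.factorial : A) * F.coeff r = ∏ k ∈ Finset.range r, (F.coeff 1 - (k : A) * μ)) ∧
        ∏ k ∈ Finset.range p, (F.coeff 1 - (k : A) * μ) = 0) := by
  have hp1 : 1 ≤ p := (Fact.out : p.Prime).one_lt.le
  set c : A := F.coeff 1
  have hfact : ∀ r, r ≤ p - 1 → IsUnit ((r.factorial : ℕ) : A) := fun r hr =>
    isUnit_of_dvd_unit (Nat.cast_dvd_cast (Nat.factorial_dvd_factorial hr)) hu
  have hzero : ∀ r, p ≤ r → F.coeff r = 0 := fun r hr => Polynomial.coeff_eq_zero_of_natDegree_lt (hF.trans_le hr)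
  have heq : F * Polynomial.C c = Polynomial.derivative F * (1 + Polynomial.C μ * Polynomial.X) ↔
      ∀ r : ℕ, F.coeff r * c = F.coeff (r + 1) * ((r : A) + 1) + μ * (r : A) * F.coeff r := by
    rw [Polynomial.ext_iff]
    refine forall_congr' fun r => ?_
    rw [Polynomial.coeff_mul_C, mul_add, mul_one, Polynomial.coeff_add, Polynomial.coeff_derivative,
      show Polynomial.derivative F * (Polynomial.C μ * Polynomial.X) = Polynomial.C μ * Polynomial.derivative F * Polynomial.X by ring]
    rcases r with _ | r
    · simp
    · rw [Polynomial.coeff_mul_X, Polynomial.coeff_C_mul, Polynomial.coeff_derivative]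
      push_cast
      constructor <;> intro h <;> linear_combination h
  rw [heq]
  constructor
  · intro h
    have key : ∀ r, r ≤ p → (r.factorial : A) * F.coeff r = ∏ k ∈ Finset.range r, (c - (k : A) * μ) := by
      intro r hr
      induction r with
      | zero => simp [h0]
      | succ r ih =>
        rw [Finset.prod_range_succ, ← ih (by omega), Nat.factorial_succ]
        push_cast
        linear_combination -(r.factorial : A) * h r
    refine ⟨fun r _ hr => key r hr.le, ?_⟩
    rw [← key p le_rfl, hzero p le_rfl, mul_zero]
  · rintro ⟨h1, h2⟩ r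
    have key : ∀ r, r < p → (r.factorial : A) * F.coeff r = ∏ k ∈ Finset.range r, (c - (k : A) * μ) := by
      intro r hr
      rcases Nat.eq_zero_or_pos r with rfl | hpos
      · simp [h0]
      · exact h1 r hpos hr
    rcases Nat.lt_or_ge (r + 1) p with hr | hr
    · refine (hfact r (by omega)).mul_left_cancel ?_
      have ha := key r (by omega)
      have hb := key (r + 1) hr
      rw [Finset.prod_range_succ, ← ha, Nat.factorial_succ] at hb
      push_cast at hb
      linear_combination -hb
    · rcases eq_or_lt_of_le hr with hrp | hrp
      · rw [hzero (r + 1) hr]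
        refine (hfact r (by omega)).mul_left_cancel ?_
        have ha := key r (by omega)
        rw [hrp, Finset.prod_range_succ, ← ha] at h2
        linear_combination h2
      · simp [hzero r (by omega), hzero (r + 1) hr]

end Groth.Agent.S13157
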