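import Groth.Statements.S13158
import Mathlib.Data.Nat.Choose.Factorization
import Mathlib.RingTheory.IntegralClosure.IntegrallyClosed
import Mathlib.RingTheory.Flat.FaithfullyFlat.Algebra
import Mathlib.Tactic.LinearCombination
import Mathlib.RingTheory.Localization.Away.Basic

set_option autoImplicit false
universe u
open CAlg

namespace Groth.Agent.S13158

/-- `((1+x w)^N` expanded, with the two extreme terms isolated. -/
private theorem expand {S : Type*} [CommRing S] (x w : S) (N : ℕ) (hN : 0 < N) :
    (1 + x * w) ^ N = 1 + x ^ N * w ^ N +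
      ∑ i ∈ Finset.Ico 1 N, (N.choose i : S) * x ^ i * w ^ i := by
  rw [add_comm (1 : S), add_pow, Finset.sum_range_succ, Finset.range_eq_Ico,
    Finset.sum_eq_sum_Ico_succ_bot hN]
  simp only [pow_zero, one_pow, Nat.choose_zero_right, Nat.cast_one, mul_one, one_mul, Nat.choose_self, mul_pow, zero_add, tsub_self]
  rw [Finset.sum_congr rfl fun i _ => show x ^ i * w ^ i * (N.choose i : S) = (N.choose i : S) * x ^ i * w ^ i by ring]
  ring

private theorem dvd_terms {R : Type*} [CommRing R] (π : R) (p : ℕ) (hp : p.Prime) (n j i : ℕ)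
    (hj : π ^ (p ^ (n - 1) * (p - 1) * (j + 1)) ∣ (p : R)) (hi : 1 ≤ i) (hiN : i < p ^ n) :
    π ^ (j * p ^ n + 1) ∣ ((p ^ n).choose i : R) * π ^ (i * j) ∧
      π ^ ((j + 1) * p ^ n) ∣ ((p ^ n).choose i : R) * π ^ (i * (j + 1)) := by
  have hk : p ^ (i.factorization p) ≤ i := Nat.ordProj_le p (by omega)
  have hkn : i.factorization p < n :=
    (Nat.pow_lt_pow_iff_right hp.one_lt).mp (hk.trans_lt hiN)
  set k := i.factorization p with hkdef
  set E := p ^ (n - 1) * (p - 1) with hE
  have hchoose : p ^ (n - k) ∣ (p ^ n).choose i := by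
    have := Nat.ordProj_dvd ((p ^ n).choose i) p
    rwa [Nat.factorization_choose_prime_pow hp hiN.le (by omega)] at this
  have hp2 := hp.two_le
  have key : p ^ n ≤ (n - k) * E + i := by
    have hpn : p ^ n = p ^ (n - 1) * p := by
      rw [← pow_succ]; congr 1; omega
    rcases Nat.lt_or_ge (n - k) 2 with h | h
    · have h1 : n - k = 1 := by omega
      have h2 : k = n - 1 := by omega
      rw [h1, one_mul, hE, hpn]
      calc p ^ (n - 1) * p = p ^ (n - 1) * (p - 1) + p ^ (n - 1) := by
            rw [← Nat.mul_succ]; congr 1; omega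
        _ ≤ _ := by gcongr; rw [← h2]; exact hk
    · calc p ^ n = p ^ (n - 1) * p := hpn
        _ ≤ p ^ (n - 1) * (2 * (p - 1)) := by gcongr; omega
        _ = 2 * E := by rw [hE]; ring
        _ ≤ (n - k) * E := Nat.mul_le_mul_right _ h
        _ ≤ _ := Nat.le_add_right _ _
  have hEpos : 1 ≤ (n - k) * E :=
    Nat.mul_pos (by omega) (Nat.mul_pos (pow_pos hp.pos _) (by omega))
  have h : π ^ ((n - k) * E * (j + 1)) ∣ ((p ^ n).choose i : R) := by
    rw [show (n - k) * E * (j + 1) = E * (j + 1) * (n - k) by ring, pow_mul]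
    refine (pow_dvd_pow_of_dvd hj _).trans ?_
    rw [← Nat.cast_pow]
    exact Nat.cast_dvd_cast hchoose
  constructor
  · refine (pow_dvd_pow π ?_).trans ((pow_add π _ (i * j)).symm ▸ mul_dvd_mul_right h _)
    calc j * p ^ n + 1 ≤ j * ((n - k) * E + i) + (n - k) * E := by gcongr
      _ = _ := by ring
  · refine (pow_dvd_pow π ?_).trans ((pow_add π _ (i * (j + 1))).symm ▸ mul_dvd_mul_right h _)
    calc (j + 1) * p ^ n ≤ (j + 1) * ((n - k) * E + i) := by gcongr
      _ = _ := by ring

/-- An element of a localization of a normal domain which is integral is integral. -/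
private theorem exists_eq_of_isIntegral {A S : Type*} [CommRing A] [IsDomain A]
    [IsIntegrallyClosed A] [CommRing S] [Algebra A S] (π : A) (hπ : π ≠ 0)
    [IsLocalization.Away π S] (x : S) (hx : IsIntegral A x) : ∃ a, algebraMap A S a = x := by
  have hu : IsUnit (algebraMap A (FractionRing A) π) :=
    isUnit_iff_ne_zero.mpr fun h => hπ (IsFractionRing.injective A (FractionRing A) (by simpa using h))
  let φ : S →ₐ[A] FractionRing A :=
    { IsLocalization.Away.lift π hu with
      commutes' := fun a => IsLocalization.Away.lift_eq π hu a }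
  obtain ⟨a, ha⟩ := IsIntegrallyClosed.isIntegral_iff.mp (hx.map φ)
  refine ⟨a, ?_⟩
  have hinj : Function.Injective φ := by
    apply IsLocalization.lift_injective_iff (g := algebraMap A (FractionRing A)) _ |>.mpr
    intro x y
    have : Function.Injective (algebraMap A S) :=
      IsLocalization.injective S (powers_le_nonZeroDivisors_of_noZeroDivisors hπ)
    exact ⟨fun h => by rw [this h], fun h => by rw [IsFractionRing.injective A (FractionRing A) h]⟩
  exact hinj (by rw [AlgHom.commutes, ha])

/-- Let R be a discrete valuation ring of characteristic zero whose maximal ideal contains the prime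
number p, let n ≥ 1, and let λ be a nonzero element of R such that λ^(p^(n−1)(p−1)) divides p (the
condition v(p) ≥ p^(n−1)(p−1)·v(λ) under which the polynomial ((1 + λT)^(p^n) − 1)/λ^(p^n) has
coefficients in R). Let A be an integrally closed integral domain which is a faithfully flat
R-algebra. Then for every unit x of A, λ^(p^n) divides x^(p^n) − 1 in A if and only if λ divides x −
1 in A. -/
theorem result (R : Type u) [CommRing R]
    [IsDomain R] [IsDiscreteValuationRing R] [CharZero R] (p n : ℕ) [Fact p.Prime] (hn : 1 ≤ n)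
    (hp : (p : R) ∈ IsLocalRing.maximalIdeal R) (lam : R) (hlam : lam ≠ 0)
    (hstar : lam ^ (p ^ (n - 1) * (p - 1)) ∣ (p : R))
    (A : Type u) [CommRing A] [IsDomain A] [IsIntegrallyClosed A] [Algebra R A] [Module.FaithfullyFlat R A]
    (x : Aˣ) :
    (algebraMap R A lam ^ p ^ n ∣ (x : A) ^ p ^ n - 1) ↔ (algebraMap R A lam ∣ (x : A) - 1) := by
  set N := p ^ n with hN
  have hN0 : 0 < N := pow_pos (Fact.out : p.Prime).pos _
  set l := algebraMap R A lam with hl
  have hl0 : l ≠ 0 := fun h => hlam (FaithfulSMul.algebraMap_injective R A (h.trans (map_zero _).symm))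
  have hstar' : l ^ (p ^ (n - 1) * (p - 1) * (0 + 1)) ∣ (p : A) := by
    have := map_dvd (algebraMap R A) hstar
    rwa [map_pow, map_natCast, ← mul_one (p ^ (n - 1) * (p - 1))] at this
  have hdvd : ∀ i ∈ Finset.Ico 1 N, ∃ e, (N.choose i : A) * l ^ i = l ^ N * e := fun i hi => by
    have := (dvd_terms l p Fact.out n 0 i hstar' (Finset.mem_Ico.mp hi).1 (Finset.mem_Ico.mp hi).2).2
    rw [hN]
    simpa [dvd_def] using this
  choose e he using hdvd
  have hexp : ∀ w : A, (1 + l * w) ^ N = 1 + l ^ N * (w ^ N + ∑ i ∈ (Finset.Ico 1 N).attach, e i.1 i.2 * w ^ i.1) := by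
    intro w
    rw [expand _ _ _ hN0, mul_add, Finset.mul_sum, add_assoc, ← Finset.sum_attach (Finset.Ico 1 N)]
    congr 2
    exact Finset.sum_congr rfl fun i _ => by rw [he i.1 i.2, mul_assoc]
  constructor
  · rintro ⟨c, hc⟩
    let K := FractionRing A
    have hinj := IsFractionRing.injective A K
    have hlK : algebraMap A K l ≠ 0 := fun h => hl0 (hinj (by simpa using h))
    set W := (algebraMap A K x - 1) / algebraMap A K l with hW
    have hxW : algebraMap A K x = 1 + algebraMap A K l * W := by
      rw [hW, mul_div_cancel₀ _ hlK, add_sub_cancel]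
    have hEq : W ^ N + ∑ i ∈ (Finset.Ico 1 N).attach, algebraMap A K (e i.1 i.2) * W ^ i.1
        = algebraMap A K c := by
      refine mul_left_cancel₀ (pow_ne_zero N hlK) ?_
      have h := congrArg (algebraMap A K) hc
      rw [map_sub, map_pow, map_one, hxW, expand _ _ _ hN0, add_assoc, add_sub_cancel_left,
        map_mul, map_pow, ← Finset.sum_attach (Finset.Ico 1 N)] at h
      rw [← h, mul_add, Finset.mul_sum]
      congr 1
      refine Finset.sum_congr rfl fun i _ => ?_
      have := congrArg (algebraMap A K) (he i.1 i.2)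
      rw [map_mul, map_natCast, map_pow, map_mul, map_pow] at this
      rw [this, mul_assoc]
    have hint : IsIntegral A W := by
      refine ⟨Polynomial.X ^ N + (∑ i ∈ (Finset.Ico 1 N).attach,
        Polynomial.C (e i.1 i.2) * Polynomial.X ^ i.1 - Polynomial.C c), ?_, ?_⟩
      · refine Polynomial.monic_X_pow_add ((Polynomial.degree_sub_le _ _).trans_lt (max_lt ?_ ?_))
        · refine (Polynomial.degree_sum_le _ _).trans_lt ((Finset.sup_lt_iff (WithBot.bot_lt_coe N)).mpr
            fun i _ => (Polynomial.degree_C_mul_X_pow_le _ _).trans_lt ?_)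
          exact Nat.cast_lt.mpr (Finset.mem_Ico.mp i.2).2
        · exact Polynomial.degree_C_le.trans_lt (Nat.cast_pos.mpr hN0)
      · simp only [Polynomial.eval₂_add, Polynomial.eval₂_sub, Polynomial.eval₂_pow,
          Polynomial.eval₂_X, Polynomial.eval₂_finset_sum, Polynomial.eval₂_mul, Polynomial.eval₂_C]
        linear_combination hEq
    obtain ⟨w, hw⟩ := IsIntegrallyClosed.isIntegral_iff.mp hint
    refine ⟨w, hinj ?_⟩
    rw [map_sub, map_one, map_mul, hw, hxW, add_sub_cancel_left]
  · rintro ⟨w, hw⟩
    refine ⟨w ^ N + ∑ i ∈ (Finset.Ico 1 N).attach, e i.1 i.2 * w ^ i.1, ?_⟩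
    rw [show (x : A) = 1 + l * w by rw [← hw, add_sub_cancel], hexp, add_sub_cancel_left]

end Groth.Agent.S13158
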