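import Groth.Statements.S13160
import Groth.Agent.L02.WittKummer
import Mathlib.RingTheory.WittVector.Frobenius
import Mathlib.Algebra.CharP.Basic
import Mathlib.RingTheory.DiscreteValuationRing.Basic

set_option autoImplicit false
universe u
open CAlg

namespace Groth.Agent.S13160


open WittVector Groth.L02.WittKummer in
private theorem teich_add {S : Type u} [CommRing S] (p : ℕ) [Fact p.Prime] [CharP S p]
    (x c : S) (hx : x ^ p = 0) :
    teichmuller p x + teichmuller p (c * x) = teichmuller p (x + c * x) := by
  ext ⟨j⟩
  · rw [add_coeff_zero, teichmuller_coeff_zero, teichmuller_coeff_zero, teichmuller_coeff_zero]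
  · rw [teichmuller_coeff_pos p _ _ (Nat.succ_pos _), map_mul,
      show teichmuller p x + teichmuller p c * teichmuller p x = (1 + teichmuller p c) * teichmuller p x by ring,
      coeff_mul_teichmuller, pow_succ', pow_mul, hx, zero_pow (pow_pos (Fact.out (p := p.Prime)).pos _).ne',
      mul_zero]

open WittVector Groth.L02.WittKummer in
private theorem add_coeff_aux {S : Type u} [CommRing S] (p : ℕ) [Fact p.Prime] [CharP S p]
    (htot : ∀ x y : S, (∃ c, y = c * x) ∨ ∃ c, x = c * y) :
    ∀ (n : ℕ) (a b : WittVector p S), (∀ i, a.coeff i ^ p = 0) → (∀ i, b.coeff i ^ p = 0) →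
      (a + b).coeff n = a.coeff n + b.coeff n := by
  intro n
  induction n with
  | zero => intro a b _ _; exact add_coeff_zero a b
  | succ n ih =>
    intro a b ha hb
    have h0 : teichmuller p (a.coeff 0) + teichmuller p (b.coeff 0) = teichmuller p (a.coeff 0 + b.coeff 0) := by
      obtain ⟨c, hc⟩ | ⟨c, hc⟩ := htot (a.coeff 0) (b.coeff 0)
      · rw [hc]; exact teich_add p _ _ (ha 0)
      · rw [hc, add_comm, teich_add p _ _ (hb 0), add_comm (b.coeff 0)]
    conv_lhs => rw [eq_teichmuller_add_verschiebung a, eq_teichmuller_add_verschiebung b,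
      add_add_add_comm, h0, ← map_add verschiebung, coeff_teichmuller_add_verschiebung,
      if_neg n.succ_ne_zero, Nat.add_sub_cancel, ih _ _ (fun i => by rw [WittVector.shift_coeff]; exact ha _)
        (fun i => by rw [WittVector.shift_coeff]; exact hb _)]
    rw [WittVector.shift_coeff, WittVector.shift_coeff, add_comm 1 n]


/-- Let R be a discrete valuation ring, p a prime number and λ an element of R dividing p (so that R/λR
is an 𝔽_p-algebra), and let a and b be p-typical Witt vectors with coefficients in R/λR which are
killed by the Frobenius endomorphism. Then the Witt sum a + b has components a_n + b_n for every n.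
(The published statement allows an arbitrary λ ∈ R and is stated for Witt vectors with finitely many
nonzero components; this row assumes that λ divides p, so that p = 0 in R/λR, and allows all Witt
vectors.) -/
theorem result (R : Type u) [CommRing R] [IsDomain R]
    [IsDiscreteValuationRing R] (p : ℕ) [Fact p.Prime] (lam : R) (hlam : lam ∣ (p : R))
    (a b : WittVector p (R ⧸ Ideal.span {lam})) (ha : WittVector.frobenius a = 0)
    (hb : WittVector.frobenius b = 0) (n : ℕ) : (a + b).coeff n = a.coeff n + b.coeff n := by
  rcases subsingleton_or_nontrivial (R ⧸ Ideal.span {lam}) with hs | hs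
  · exact Subsingleton.elim _ _
  haveI : CharP (R ⧸ Ideal.span {lam}) p := by
    refine (CharP.charP_iff_prime_eq_zero (Fact.out : p.Prime)).mpr ?_
    rw [← map_natCast (Ideal.Quotient.mk (Ideal.span {lam})), Ideal.Quotient.eq_zero_iff_mem,
      Ideal.mem_span_singleton]
    exact hlam
  have hcoeff : ∀ v : WittVector p (R ⧸ Ideal.span {lam}), WittVector.frobenius v = 0 →
      ∀ i, v.coeff i ^ p = 0 := fun v hv i => by
    rw [← WittVector.coeff_frobenius_charP, hv, WittVector.zero_coeff]
  refine add_coeff_aux p ?_ n a b (hcoeff a ha) (hcoeff b hb)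
  intro x y
  obtain ⟨x, rfl⟩ := Ideal.Quotient.mk_surjective x
  obtain ⟨y, rfl⟩ := Ideal.Quotient.mk_surjective y
  obtain ⟨c, rfl⟩ | ⟨c, rfl⟩ := ValuationRing.dvd_total x y
  · exact Or.inl ⟨Ideal.Quotient.mk _ c, by rw [← map_mul, mul_comm]⟩
  · exact Or.inr ⟨Ideal.Quotient.mk _ c, by rw [← map_mul, mul_comm]⟩

end Groth.Agent.S13160
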