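import Groth.Statements.S13161
import Mathlib.RingTheory.Localization.BaseChange
import Mathlib.RingTheory.Localization.FractionRing
import Mathlib.RingTheory.DiscreteValuationRing.Basic
import Mathlib.Algebra.Module.LocalizedModule.Basic
import Mathlib.RingTheory.Flat.Basic

set_option autoImplicit false
universe u
open scoped TensorProduct
open CAlg

namespace Groth.Agent.S13161

/-- Let R be a discrete valuation ring with fraction field K, A an R-algebra which is semireflexive as
an R-module (the map to its double dual is injective: every nonzero a ∈ A has an R-linear form f : A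
→ R with f(a) ≠ 0), and B an A-algebra which is finitely generated as an A-module and flat over R.
Suppose B ⊗ K is semireflexive as a module over A ⊗ K, which for such B amounts to: every nonzero b
∈ B has an A-linear map g : B → A ⊗_R K with g(b) ≠ 0. Then B is semireflexive as an R-module: every
nonzero b ∈ B has an R-linear form h : B → R with h(b) ≠ 0. (The published statement phrases the
hypothesis on B_K as an A_K-module; for B flat over R and finite over A this is the elementwise
condition used here.) -/
theorem result (R : Type u) [CommRing R] [IsDomain R]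
    [IsDiscreteValuationRing R] (K : Type u) [Field K] [Algebra R K] [IsFractionRing R K]
    (A B : Type u) [CommRing A] [CommRing B] [Algebra R A] [Algebra R B] [Algebra A B] [IsScalarTower R A B]
    [Module.Finite A B] [Module.Flat R B]
    (hA : ∀ a : A, a ≠ 0 → ∃ f : A →ₗ[R] R, f a ≠ 0)
    (hBK : ∀ b : B, b ≠ 0 → ∃ g : B →ₗ[A] A ⊗[R] K, g b ≠ 0) :
    ∀ b : B, b ≠ 0 → ∃ h : B →ₗ[R] R, h b ≠ 0 := by
  classical
  intro b hb
  obtain ⟨g, hg⟩ := hBK b hb
  let i : A →ₗ[A] A ⊗[R] K :=
    { toFun := fun a => a ⊗ₜ[R] 1
      map_add' := fun a a' => TensorProduct.add_tmul a a' 1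
      map_smul' := fun c a => by simp [TensorProduct.smul_tmul'] }
  haveI : IsLocalizedModule (nonZeroDivisors R) (i.restrictScalars R) := by
    have h := IsLocalizedModule.of_linearEquiv (nonZeroDivisors R) (TensorProduct.mk R K A 1) (TensorProduct.comm R K A)
    exact h
  have hi : Function.Injective i := by
    rw [injective_iff_map_eq_zero]
    intro a ha
    obtain ⟨c, hc⟩ := (IsLocalizedModule.eq_zero_iff (nonZeroDivisors R) (i.restrictScalars R)).mp ha
    by_contra hne
    obtain ⟨f, hf⟩ := hA a hne
    have := congrArg f hc
    rw [Submonoid.smul_def, map_smul, map_zero, smul_eq_mul] at this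
    exact hf ((mul_eq_zero.mp this).resolve_left (nonZeroDivisors.ne_zero c.2))
  obtain ⟨T, hT⟩ := Module.Finite.fg_top (R := A) (M := B)
  have hsurj : ∀ y, ∃ (s : nonZeroDivisors R) (a : A), (s : R) • y = i a := fun y => by
    obtain ⟨⟨a, s⟩, h⟩ := IsLocalizedModule.surj (nonZeroDivisors R) (i.restrictScalars R) y
    exact ⟨s, a, h⟩
  choose s a hsa using hsurj
  let d : nonZeroDivisors R := ∏ t ∈ T, s (g t)
  have hmem : ∀ x, (d : R) • g x ∈ LinearMap.range i := by
    have hle : (⊤ : Submodule A B) ≤ (LinearMap.range i).comap (algebraMap R A d • g) := by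
      rw [← hT, Submodule.span_le]
      intro t ht
      rw [SetLike.mem_coe, Submodule.mem_comap, LinearMap.smul_apply, algebraMap_smul]
      obtain ⟨c, hc⟩ : (s (g t) : R) ∣ (d : R) := by
        rw [Submonoid.coe_finsetProd]
        exact Finset.dvd_prod_of_mem (fun t => (s (g t) : R)) (Finset.mem_coe.mp ht)
      rw [hc, mul_comm, mul_smul, hsa, ← algebraMap_smul A c]
      exact Submodule.smul_mem _ _ ⟨_, rfl⟩
    intro x
    have := hle (Submodule.mem_top (x := x))
    rwa [Submodule.mem_comap, LinearMap.smul_apply, algebraMap_smul] at this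
  let g' : B →ₗ[A] A := (LinearEquiv.ofInjective i hi).symm.toLinearMap ∘ₗ
    (algebraMap R A d • g).codRestrict _ fun x => by rw [LinearMap.smul_apply, algebraMap_smul]; exact hmem x
  have hg' : g' b ≠ 0 := by
    intro h
    have h1 : (d : R) • g b = 0 := by
      have := congrArg (fun z => (LinearEquiv.ofInjective i hi z : A ⊗[R] K)) h
      simpa [g', algebraMap_smul] using this
    exact hg ((IsLocalizedModule.map_units (i.restrictScalars R) d |> fun hu =>
      ((Module.End.isUnit_iff _).mp hu).1) (by simpa using h1))
  obtain ⟨f, hf⟩ := hA _ hg'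
  exact ⟨f ∘ₗ g'.restrictScalars R, hf⟩

end Groth.Agent.S13161
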