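import Groth.Statements.S13162
import Mathlib.Data.Nat.Choose.Lucas
import Mathlib.RingTheory.Polynomial.Pochhammer
import Mathlib.Algebra.Polynomial.BigOperators
import Mathlib.Algebra.Ring.Action.Basic
import Mathlib.RingTheory.Ideal.Quotient.Basic

set_option autoImplicit false
universe u v
open ZeroCyc

namespace Groth.Agent.S13162

/-- Let a finite group G act on a commutative ring A by ring automorphisms and let p be a prime such
that every integer prime to p is a unit in A. If I is an ideal of A and f ∈ A has G-invariant class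
modulo I, then f^(p^k) is congruent modulo I to a G-invariant element of A, where p^k is the exact
power of p dividing the order of G. (The published statement assumes I stable under G, so that G
acts on A/I and the claim reads: the p^k-th power of an invariant of A/I lies in the image of the
invariants of A; the form here asks only that the class of f be invariant.) -/
theorem result {A : Type u} [CommRing A] {G : Type v} [Group G] [Fintype G]
    [MulSemiringAction G A] (p : ℕ) [Fact p.Prime]
    (hA : ∀ m : ℕ, ¬ p ∣ m → IsUnit (m : A))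
    (I : Ideal A) (f : A) (hf : ∀ g : G, g • f - f ∈ I) :
    ∃ a : A, (∀ g : G, g • a = a) ∧ a - f ^ (p ^ (Fintype.card G).factorization p) ∈ I := by
  classical
  have hp : p.Prime := Fact.out
  set n := Fintype.card G with hn
  set q := p ^ n.factorization p with hq
  have hqdvd : q ∣ n := Nat.ordProj_dvd n p
  let P : Polynomial A := ∏ g : G, (Polynomial.X + Polynomial.C (g • f))
  have hinv : ∀ (h : G) (i : ℕ), h • P.coeff i = P.coeff i := by
    intro h i
    have hP : P.map (MulSemiringAction.toRingHom G A h) = P := by
      simp only [P, Polynomial.map_prod, Polynomial.map_add, Polynomial.map_X, Polynomial.map_C,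
        MulSemiringAction.toRingHom_apply, smul_smul]
      exact Fintype.prod_equiv (Equiv.mulLeft h) _ _ (fun g => rfl)
    conv_rhs => rw [← hP]
    rw [Polynomial.coeff_map]
    rfl
  have hchoose : ¬ p ∣ n.choose q := by
    obtain ⟨m, hm⟩ := hqdvd
    have hm' : ¬ p ∣ m := by
      have hne : n ≠ 0 := Fintype.card_ne_zero
      intro hdvd
      obtain ⟨m', rfl⟩ := hdvd
      have : p ^ (n.factorization p + 1) ∣ n := ⟨m', by rw [pow_succ, ← hq, mul_assoc]; exact hm⟩
      exact Nat.pow_succ_factorization_not_dvd hne hp this
    have h := Choose.choose_pow_mul_pow_mul_modEq_choose_nat (p := p) (k := n.factorization p) (a := m) (b := 1)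
    rw [mul_one, ← hq, ← hm, Nat.choose_one_right] at h
    exact fun hd => hm' ((Nat.ModEq.dvd_iff h dvd_rfl).mp hd)
  obtain ⟨w, hw⟩ := hA _ hchoose
  have hcoef : Ideal.Quotient.mk I (P.coeff (n - q)) = (n.choose q : A ⧸ I) * Ideal.Quotient.mk I f ^ q := by
    have hP : P.map (Ideal.Quotient.mk I) = (Polynomial.X + Polynomial.C (Ideal.Quotient.mk I f)) ^ n := by
      simp only [P, Polynomial.map_prod, Polynomial.map_add, Polynomial.map_X, Polynomial.map_C]
      rw [hn, ← Finset.card_univ, ← Finset.prod_const]
      refine Finset.prod_congr rfl fun g _ => ?_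
      rw [Ideal.Quotient.eq.mpr (hf g)]
    have hle : q ≤ n := Nat.le_of_dvd Fintype.card_pos hqdvd
    rw [← Polynomial.coeff_map, hP, Polynomial.coeff_X_add_C_pow, Nat.sub_sub_self hle, Nat.choose_symm hle,
      mul_comm]
  refine ⟨(↑w⁻¹ : A) * P.coeff (n - q), fun g => ?_, ?_⟩
  · rw [smul_mul', hinv]
    congr 1
    have h1 : g • (w : A) = w := by rw [hw]; exact map_natCast (MulSemiringAction.toRingHom G A g) _
    calc g • (↑w⁻¹ : A) = g • (↑w⁻¹ : A) * ((w : A) * ↑w⁻¹) := by rw [Units.mul_inv, mul_one]
      _ = g • ((↑w⁻¹ : A) * w) * ↑w⁻¹ := by rw [smul_mul', h1, mul_assoc]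
      _ = ↑w⁻¹ := by rw [Units.inv_mul, smul_one, one_mul]
  · rw [← Ideal.Quotient.eq, map_mul, hcoef, map_pow, ← mul_assoc]
    rw [show (n.choose q : A ⧸ I) = Ideal.Quotient.mk I (w : A) by rw [hw, map_natCast], ← map_mul,
      Units.inv_mul, map_one, one_mul]

end Groth.Agent.S13162
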