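import Groth.Statements.S13163
import Mathlib.Algebra.BigOperators.Ring.Finset
-- import your own Groth.Agent.* helpers here

set_option autoImplicit false
universe u
open ZeroCyc

namespace Groth.Agent.S13163

open Polynomial in
/-- Let P_d(T) = ∏_{0 ≤ i < j ≤ d} (T^i − T^j) − 1 ∈ ℤ[T]. Every residue field of ℤ[T]/(P_d), i.e. every
field receiving a ring homomorphism from it, has at least d + 1 elements. -/
theorem result (d : ℕ) (k : Type u) [Field k]
    (φ : (ℤ[X] ⧸ Ideal.span {(∏ j ∈ Finset.range (d + 1), ∏ i ∈ Finset.range j,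
        ((X : ℤ[X]) ^ i - X ^ j)) - 1}) →+* k) :
    ((d + 1 : ℕ) : Cardinal) ≤ Cardinal.mk k := by
  classical
  set P : ℤ[X] := ∏ j ∈ Finset.range (d + 1), ∏ i ∈ Finset.range j, ((X : ℤ[X]) ^ i - X ^ j) with hP
  let ψ := φ.comp (Ideal.Quotient.mk _)
  have h1 : ψ P = 1 := by
    have h := congrArg φ (Ideal.Quotient.eq_zero_iff_mem.2 (Ideal.subset_span (Set.mem_singleton (P - 1))))
    rw [map_zero] at h
    have h' : ψ (P - 1) = 0 := h
    rwa [map_sub, map_one, sub_eq_zero] at h'
  rw [hP] at h1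
  simp only [map_prod, map_sub, map_pow] at h1
  have hne : ∀ i j : ℕ, j ≤ d → i < j → ψ X ^ i ≠ ψ X ^ j := fun i j hj hij h => by
    refine one_ne_zero (h1.symm.trans ?_)
    refine Finset.prod_eq_zero (Finset.mem_range.2 (Nat.lt_succ_of_le hj)) ?_
    exact Finset.prod_eq_zero (Finset.mem_range.2 hij) (sub_eq_zero.2 h)
  have hinj : Function.Injective (fun i : ULift.{u} (Fin (d + 1)) => ψ X ^ (i.down : ℕ)) := by
    intro a b h
    rcases lt_trichotomy (a.down : ℕ) (b.down : ℕ) with hl | he | hl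
    · exact absurd h (hne _ _ (Nat.le_of_lt_succ b.down.2) hl)
    · exact ULift.ext _ _ (Fin.ext he)
    · exact absurd h.symm (hne _ _ (Nat.le_of_lt_succ a.down.2) hl)
  simpa using Cardinal.mk_le_of_injective hinj

end Groth.Agent.S13163
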