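import Groth.Statements.S13164
import Mathlib.RingTheory.GradedAlgebra.Basic
import Mathlib.RingTheory.Adjoin.Basic
import Mathlib.Algebra.Algebra.Operations
import Mathlib.LinearAlgebra.Finsupp.Pi
import Mathlib.Algebra.GCDMonoid.Finset
import Mathlib.Algebra.GCDMonoid.Nat

set_option autoImplicit false
universe u
open ZeroCyc

namespace Groth.Agent.S13164

/-- Let B be a graded R-algebra generated by homogeneous elements f_1, …, f_s of positive degrees d_1,
…, d_s and let l be the least common multiple of the d_i. Then B_{n+l} = B_n B_l for every n ≥ (s −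
1)(l − 1). -/
theorem result {R A : Type u} [CommRing R] [CommRing A] [Algebra R A] (𝒜 : ℕ → Submodule R A) [GradedAlgebra 𝒜]
    {s : ℕ} (f : Fin s → A) (deg : Fin s → ℕ) (hdeg : ∀ i, 0 < deg i) (hf : ∀ i, f i ∈ 𝒜 (deg i))
    (hgen : Algebra.adjoin R (Set.range f) = ⊤) (n : ℕ)
    (hn : (s - 1) * (Finset.univ.lcm deg - 1) ≤ n) :
    𝒜 (n + Finset.univ.lcm deg) = 𝒜 n * 𝒜 (Finset.univ.lcm deg) := by
  classical
  set l := Finset.univ.lcm deg with hl
  refine le_antisymm ?_ (Submodule.mul_le.2 fun a ha b hb => SetLike.mul_mem_graded ha hb)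
  intro a ha
  have hmem : a ∈ Submodule.span R (Submonoid.closure (Set.range f) : Set A) := by
    rw [← Algebra.adjoin_eq_span, hgen]
    trivial
  have hmon : ∀ x ∈ Submonoid.closure (Set.range f), ∃ ν : Fin s → ℕ, x = ∏ i, f i ^ ν i := by
    intro x hx
    induction hx using Submonoid.closure_induction with
    | mem y hy =>
      obtain ⟨i, rfl⟩ := hy
      refine ⟨Pi.single i 1, ?_⟩
      rw [Finset.prod_eq_single i (fun j _ hj => by rw [Pi.single_eq_of_ne hj, pow_zero]) (by simp)]
      simp
    | one => exact ⟨0, by simp⟩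
    | mul y z _ _ hy hz =>
      obtain ⟨ν, rfl⟩ := hy
      obtain ⟨μ, rfl⟩ := hz
      exact ⟨ν + μ, by simp [pow_add, Finset.prod_mul_distrib]⟩
  have hdegp : ∀ ν : Fin s → ℕ, (∏ i, f i ^ ν i) ∈ 𝒜 (∑ i, ν i * deg i) := fun ν =>
    SetLike.prod_mem_graded 𝒜 _ _ fun i _ => by
      rw [← smul_eq_mul]
      exact SetLike.pow_mem_graded _ (hf i)
  suffices key : ∀ x ∈ Submodule.span R (Submonoid.closure (Set.range f) : Set A),
      (DirectSum.decompose 𝒜 x (n + l) : A) ∈ 𝒜 n * 𝒜 l by
    simpa [DirectSum.decompose_of_mem_same 𝒜 ha] using key a hmem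
  intro x hx
  induction hx using Submodule.span_induction with
  | zero => simp
  | add y z _ _ hy hz => simpa using add_mem hy hz
  | smul c y _ hy => simpa [DirectSum.decompose_smul, DirectSum.smul_apply] using Submodule.smul_mem _ c hy
  | mem y hy =>
    obtain ⟨ν, rfl⟩ := hmon y hy
    by_cases hw : ∑ i, ν i * deg i = n + l
    swap
    · rw [DirectSum.decompose_of_mem_ne 𝒜 (hdegp ν) hw]
      exact zero_mem _
    rw [DirectSum.decompose_of_mem_same 𝒜 (hw ▸ hdegp ν)]
    have hdvd : ∀ i, deg i ∣ l := fun i => Finset.dvd_lcm (Finset.mem_univ i)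
    have hlpos : 0 < l := by
      refine Nat.pos_of_ne_zero fun h0 => ?_
      rw [hl, Finset.lcm_eq_zero_iff] at h0
      obtain ⟨i, -, hi⟩ := h0
      exact (hdeg i).ne' hi
    obtain ⟨i, hi⟩ : ∃ i, l ≤ ν i * deg i := by
      by_contra hc
      push Not at hc
      have h1 : ∑ i, ν i * deg i ≤ s * (l - 1) := by
        refine (Finset.sum_le_card_nsmul _ _ (l - 1) fun i _ => Nat.le_sub_one_of_lt (hc i)).trans ?_
        simp
      rw [hw] at h1
      rcases s with _ | t
      · simp at h1; omega
      · rw [Nat.succ_mul] at h1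
        simp only [Nat.add_sub_cancel] at hn
        omega
    obtain ⟨c, hc⟩ := hdvd i
    have hcν : c ≤ ν i := by
      refine Nat.le_of_mul_le_mul_left ?_ (hdeg i)
      rw [← hc, mul_comm (deg i)]
      exact hi
    let μ : Fin s → ℕ := Function.update ν i (ν i - c)
    have hprod : (∏ j, f j ^ ν j) = (∏ j, f j ^ μ j) * f i ^ c := by
      rw [← Finset.mul_prod_erase _ _ (Finset.mem_univ i), ← Finset.mul_prod_erase Finset.univ _ (Finset.mem_univ i)]
      have e : ∏ j ∈ Finset.univ.erase i, f j ^ μ j = ∏ j ∈ Finset.univ.erase i, f j ^ ν j :=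
        Finset.prod_congr rfl fun j hj => by
          simp only [μ, Function.update_of_ne (Finset.ne_of_mem_erase hj)]
      rw [e, mul_right_comm, show f i ^ μ i * f i ^ c = f i ^ ν i by
        simp only [μ, Function.update_self, ← pow_add]; rw [Nat.sub_add_cancel hcν]]
    have hsum : ∑ j, μ j * deg j = n := by
      have e1 := Finset.add_sum_erase Finset.univ (fun j => μ j * deg j) (Finset.mem_univ i)
      have e2 := Finset.add_sum_erase Finset.univ (fun j => ν j * deg j) (Finset.mem_univ i)
      have e3 : ∑ j ∈ Finset.univ.erase i, μ j * deg j = ∑ j ∈ Finset.univ.erase i, ν j * deg j :=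
        Finset.sum_congr rfl fun j hj => by
          simp only [μ, Function.update_of_ne (Finset.ne_of_mem_erase hj)]
      simp only [μ, Function.update_self] at e1
      simp only [μ] at e3
      rw [e3, Nat.sub_mul] at e1
      rw [mul_comm c (deg i), ← hc] at e1
      simp only [μ]
      omega
    rw [hprod]
    refine Submodule.mul_mem_mul (hsum ▸ hdegp μ) ?_
    rw [hc, mul_comm, ← smul_eq_mul]
    exact SetLike.pow_mem_graded _ (hf i)


end Groth.Agent.S13164
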