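import Groth.Statements.S13165
import Groth.Agent.L16.ZeroCyc.Monomial

set_option autoImplicit false
universe u
open ZeroCyc

namespace Groth.Agent.S13165

/-- Let B be a graded R-algebra generated by homogeneous elements f_1, …, f_s of positive degrees d_1,
…, d_s, let l be the least common multiple of the d_i and n = a l with a ≥ s − 1. Then B_{kn} =
(B_n)^k for every k ≥ 0. -/
theorem result {R A : Type u} [CommRing R] [CommRing A] [Algebra R A] (𝒜 : ℕ → Submodule R A) [GradedAlgebra 𝒜]
    {s : ℕ} (f : Fin s → A) (deg : Fin s → ℕ) (hdeg : ∀ i, 0 < deg i) (hf : ∀ i, f i ∈ 𝒜 (deg i))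
    (hgen : Algebra.adjoin R (Set.range f) = ⊤) (a : ℕ) (ha : s - 1 ≤ a) (k : ℕ) :
    𝒜 (k * (a * Finset.univ.lcm deg)) = 𝒜 (a * Finset.univ.lcm deg) ^ k := by
  induction k with
  | zero =>
    rw [zero_mul, pow_zero]
    refine le_antisymm (fun x hx => ?_) (Submodule.one_le.2 (SetLike.GradedOne.one_mem))
    refine Submodule.span_le.2 ?_ (Groth.L16.ZeroCyc.mem_span_monomials hf hgen hx)
    rintro y ⟨α, hα, rfl⟩
    have h : ∀ i, α i = 0 := fun i => by
      have := (Finset.sum_eq_zero_iff.1 hα) i (Finset.mem_univ i)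
      rcases Nat.mul_eq_zero.1 this with h | h
      · exact h
      · exact absurd h (hdeg i).ne'
    simp only [h, pow_zero, Finset.prod_const_one, SetLike.mem_coe]
    exact Submodule.one_le.1 le_rfl
  | succ k ih =>
    rcases Nat.eq_zero_or_pos k with rfl | hk
    · simp only [zero_add, one_mul, pow_one]
    rw [pow_succ, ← ih]
    refine le_antisymm (fun x hx => Groth.L16.ZeroCyc.mem_mul_of_mem hdeg hf hgen ha hk hx) (Submodule.mul_le.2 fun y hy z hz => ?_)
    rw [add_mul, one_mul]
    exact SetLike.mul_mem_graded hy hz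
end Groth.Agent.S13165
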