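import Mathlib.RingTheory.Adjoin.Basic
import Mathlib.SetTheory.Cardinal.Basic
import Mathlib.Data.Nat.Choose.Basic
import Mathlib.Tactic.Module
import Mathlib.Data.Fintype.Powerset
import Mathlib.RingTheory.Adjoin.Basic
import Mathlib.SetTheory.Cardinal.Finite

set_option autoImplicit false
set_option linter.style.haveILetI false
namespace ZeroCyc
end ZeroCyc
universe u
open ZeroCyc

namespace Groth.Agent.S13166

/-- Let k be a field, B a k-algebra generated as an algebra by a k-subspace V, k'/k a field extension
and x_1, …, x_d pairwise distinct k'-points of B ⊗_k k' (equivalently, distinct k-algebra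
homomorphisms B → k'). If k has at least d(d − 1)/2 elements, then there is b ∈ V whose values at
x_1, …, x_d are pairwise distinct. -/
theorem result {k : Type u} [Field k] {B : Type u} [CommRing B] [Algebra k B] (V : Submodule k B)
    (hV : Algebra.adjoin k (V : Set B) = ⊤) {k' : Type u} [Field k'] [Algebra k k']
    {d : ℕ} (x : Fin d → (B →ₐ[k] k')) (hx : Function.Injective x)
    (hk : ((d.choose 2 : ℕ) : Cardinal) ≤ Cardinal.mk k) :
    ∃ b ∈ V, Function.Injective fun i => x i b := by
  classical
  -- a vector space is not a union of at most `#k` proper subspaces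
  have avoid : ∀ (s : Finset (Finset (Fin d))) (p : Finset (Fin d) → Submodule k V),
      (∀ i ∈ s, p i ≠ ⊤) → (s.card : Cardinal) ≤ Cardinal.mk k → ∃ v : V, ∀ i ∈ s, v ∉ p i := by
    intro s p
    induction s using Finset.induction_on with
    | empty => intro _ _; exact ⟨0, by simp⟩
    | insert j s hj ih =>
      intro h1 h2
      rw [Finset.card_insert_of_notMem hj] at h2
      obtain ⟨a, ha⟩ := ih (fun i hi => h1 i (Finset.mem_insert_of_mem hi))
        (le_trans (by exact_mod_cast Nat.le_succ _) h2)
      by_cases haj : a ∉ p j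
      · exact ⟨a, by simpa [haj] using ha⟩
      rw [not_not] at haj
      obtain ⟨y, hy⟩ : ∃ y, y ∉ p j := by
        by_contra h; push Not at h
        exact h1 j (Finset.mem_insert_self _ _) (eq_top_iff.2 fun z _ => h z)
      by_contra hno
      push Not at hno
      obtain ⟨i0, hi0, hy0⟩ := hno y
      have hi0s : i0 ∈ s := (Finset.mem_insert.1 hi0).resolve_left (fun h => hy (h ▸ hy0))
      -- each translate `a + t • y`, `t ≠ 0`, lies in its own subspace, different from `p j` and `p i0`
      have hsel : ∀ t : {t : k // t ≠ 0}, ∃ i ∈ s.erase i0, a + t.1 • y ∈ p i := by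
        rintro ⟨t, ht⟩
        obtain ⟨i, hi, hm⟩ := hno (a + t • y)
        rcases Finset.mem_insert.1 hi with rfl | hi
        · exact absurd (((p i).smul_mem_iff ht).1 (((p i).add_mem_iff_right haj).1 hm)) hy
        refine ⟨i, Finset.mem_erase.2 ⟨?_, hi⟩, hm⟩
        rintro rfl
        exact ha i hi (((p i).add_mem_iff_left ((p i).smul_mem t hy0)).1 hm)
      choose g hg hgm using hsel
      have hinj : Function.Injective (fun t => (⟨g t, hg t⟩ : {i // i ∈ s.erase i0})) := by
        intro t t' htt
        have h' : g t = g t' := congrArg Subtype.val htt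
        by_contra hne
        have hdiff : (t.1 - t'.1) • y ∈ p (g t) := by
          have := sub_mem (hgm t) (h' ▸ hgm t')
          have e : a + t.1 • y - (a + t'.1 • y) = (t.1 - t'.1) • y := by module
          rwa [e] at this
        have hy1 : y ∈ p (g t) :=
          ((p (g t)).smul_mem_iff (sub_ne_zero.2 fun h => hne (Subtype.ext h))).1 hdiff
        exact ha (g t) (Finset.mem_of_mem_erase (hg t))
          (((p (g t)).add_mem_iff_left ((p (g t)).smul_mem _ hy1)).1 (hgm t))
      haveI : Finite {t : k // t ≠ 0} := Finite.of_injective _ hinj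
      haveI : Finite {t : k | t ≠ 0} := ‹Finite {t : k // t ≠ 0}›
      haveI : Finite k := by
        have : (Set.univ : Set k).Finite :=
          ((Set.finite_singleton (0 : k)).union (Set.toFinite (α := k) {t : k | t ≠ 0})).subset
            (fun t _ => (em (t = 0)).imp id id)
        exact Set.finite_univ_iff.1 this
      letI := Fintype.ofFinite k
      have hc := Fintype.card_le_of_injective _ hinj
      rw [Fintype.card_coe, Finset.card_erase_of_mem hi0s] at hc
      have hk0 : Fintype.card {t : k // t ≠ 0} = Fintype.card k - 1 := by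
        simp [Fintype.card_subtype_compl]
      rw [hk0] at hc
      rw [Cardinal.mk_fintype, Nat.cast_le] at h2
      have : 0 < s.card := Finset.card_pos.2 ⟨i0, hi0s⟩
      omega
  let p : Finset (Fin d) → Submodule k V := fun S =>
    ⨅ i ∈ S, ⨅ j ∈ S, LinearMap.ker (((x i).toLinearMap - (x j).toLinearMap).comp V.subtype)
  have hp : ∀ S ∈ (Finset.univ : Finset (Fin d)).powersetCard 2, p S ≠ ⊤ := by
    intro S hS htop
    obtain ⟨i, j, hij, rfl⟩ := Finset.card_eq_two.1 (Finset.mem_powersetCard.1 hS).2
    refine hij (hx (AlgHom.ext_of_adjoin_eq_top hV fun b hb => ?_))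
    have hm : (⟨b, hb⟩ : V) ∈ p {i, j} := htop ▸ Submodule.mem_top
    simp only [p, Submodule.mem_iInf, LinearMap.mem_ker] at hm
    simpa [sub_eq_zero] using hm i (by simp) j (by simp)
  obtain ⟨v, hv⟩ := avoid _ p hp (by
    rw [Finset.card_powersetCard, Finset.card_univ, Fintype.card_fin]; exact hk)
  refine ⟨v, v.2, fun i j hij => ?_⟩
  by_contra hne
  refine hv {i, j} (Finset.mem_powersetCard.2 ⟨Finset.subset_univ _, Finset.card_pair hne⟩) ?_
  simp only [p, Submodule.mem_iInf, LinearMap.mem_ker]
  intro a ha b hb
  simp only [Finset.mem_insert, Finset.mem_singleton] at ha hb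
  rcases ha with rfl | rfl <;> rcases hb with rfl | rfl <;> simp [sub_eq_zero] <;>
    first | exact hij | exact hij.symm

end Groth.Agent.S13166
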