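import Mathlib.AlgebraicGeometry.ProjectiveSpectrum.Basic
import Mathlib.Algebra.GCDMonoid.Finset
import Mathlib.Algebra.GCDMonoid.Nat
import Mathlib.RingTheory.Adjoin.Basic

set_option autoImplicit false
set_option linter.style.haveILetI false
namespace ZeroCyc
end ZeroCyc
universe u
open AlgebraicGeometry
open ZeroCyc

namespace Groth.Agent.S13168

/-- Let B be a graded R-algebra generated by homogeneous elements f_1, …, f_s of positive degrees d_1,
…, d_s, let l be the least common multiple of the d_i and X = Proj B. For n = a l with a ≥ 1, X is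
the union of the opens D_+(g), g ∈ B_n. -/
theorem result {R A : Type u} [CommRing R] [CommRing A] [Algebra R A] (𝒜 : ℕ → Submodule R A) [GradedAlgebra 𝒜]
    {s : ℕ} (f : Fin s → A) (deg : Fin s → ℕ) (hdeg : ∀ i, 0 < deg i) (hf : ∀ i, f i ∈ 𝒜 (deg i))
    (hgen : Algebra.adjoin R (Set.range f) = ⊤) (a : ℕ) (ha : 0 < a) :
    (⨆ g : 𝒜 (a * Finset.univ.lcm deg), Proj.basicOpen 𝒜 (g : A)) = ⊤ := by
  have htop : (⨆ i, Proj.basicOpen 𝒜 (f i)) = ⊤ := by
    refine Proj.iSup_basicOpen_eq_top' 𝒜 f (fun i => ⟨_, hf i⟩) ?_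
    rw [eq_top_iff]
    intro b hb'
    clear hb'
    have hb : b ∈ Algebra.adjoin R (Set.range f) := hgen ▸ Algebra.mem_top
    induction hb using Algebra.adjoin_induction with
    | mem g hg => exact Algebra.subset_adjoin hg
    | algebraMap r => exact Subalgebra.algebraMap_mem _ (⟨algebraMap R A r, SetLike.algebraMap_mem_graded 𝒜 r⟩ : 𝒜 0)
    | add x y _ _ hx hy => exact add_mem hx hy
    | mul x y _ _ hx hy => exact mul_mem hx hy
  rw [eq_top_iff, ← htop, iSup_le_iff]
  intro i
  obtain ⟨c, hc⟩ : deg i ∣ a * Finset.univ.lcm deg :=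
    Dvd.dvd.mul_left (Finset.dvd_lcm (Finset.mem_univ i)) a
  have hpos : 0 < a * Finset.univ.lcm deg := by
    refine Nat.mul_pos ha (Nat.pos_of_ne_zero fun h => ?_)
    simp only [Finset.lcm_eq_zero_iff, Finset.mem_univ, true_and] at h
    obtain ⟨j, hj⟩ := h
    exact absurd hj (hdeg j).ne'
  have hc0 : 0 < c := by
    rcases Nat.eq_zero_or_pos c with h | h
    · rw [h, mul_zero] at hc; omega
    · exact h
  have hmem : f i ^ c ∈ 𝒜 (a * Finset.univ.lcm deg) := by
    rw [hc, mul_comm, ← smul_eq_mul]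
    exact SetLike.pow_mem_graded c (hf i)
  refine le_trans ?_ (le_iSup _ ⟨f i ^ c, hmem⟩)
  rw [Proj.basicOpen_pow _ (f i) c hc0]

end Groth.Agent.S13168
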