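import Groth.Statements.S13169
import Groth.Agent.L16.ZeroCyc.Twist

set_option autoImplicit false
universe u
open AlgebraicGeometry
open ZeroCyc

namespace Groth.Agent.S13169

/-- Let B be a graded R-algebra generated by homogeneous elements f_1, …, f_s of positive degrees d_1,
…, d_s, let l be the least common multiple of the d_i and X = Proj B. For n = a l with a ≥ 1, the
twisting sheaf O_X(n) is ample and is generated by its global sections b/1, b ∈ B_n. -/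
theorem result {R A : Type u} [CommRing R] [CommRing A] [Algebra R A] (𝒜 : ℕ → Submodule R A) [GradedAlgebra 𝒜]
    {s : ℕ} (f : Fin s → A) (deg : Fin s → ℕ) (hdeg : ∀ i, 0 < deg i) (hf : ∀ i, f i ∈ 𝒜 (deg i))
    (hgen : Algebra.adjoin R (Set.range f) = ⊤) (a : ℕ) (ha : 0 < a) :
    CohB1.IsAmple (Twist.twist 𝒜 ((a * Finset.univ.lcm deg : ℕ) : ℤ)) ∧
      ProjUP.GeneratedBy (Twist.twist 𝒜 ((a * Finset.univ.lcm deg : ℕ) : ℤ))
        (fun b : 𝒜 (a * Finset.univ.lcm deg) =>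
          (Twist.globalOf 𝒜 b : ProjUP.Γm (Twist.twist 𝒜 ((a * Finset.univ.lcm deg : ℕ) : ℤ)))) := by
  classical
  set l := Finset.univ.lcm deg with hl
  have hl0 : 0 < l := Nat.pos_of_ne_zero fun h => by
    simp only [hl, Finset.lcm_eq_zero_iff, Finset.mem_univ, true_and] at h
    obtain ⟨i, hi⟩ := h
    exact (hdeg i).ne' hi
  have hc : ∀ i, 0 < a * l / deg i := fun i =>
    Nat.div_pos ((Nat.le_of_dvd hl0 (Finset.dvd_lcm (Finset.mem_univ i))).trans (Nat.le_mul_of_pos_left l ha)) (hdeg i)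
  have hmem : ∀ i, f i ^ (a * l / deg i) ∈ 𝒜 (a * l) := fun i => by
    have h := SetLike.pow_mem_graded (a * l / deg i) (hf i)
    rwa [smul_eq_mul, Nat.div_mul_cancel ((Finset.dvd_lcm (Finset.mem_univ i)).mul_left a)] at h
  refine ⟨Groth.L16.ProjTwist.isAmple_twist 𝒜 (Nat.mul_pos ha hl0)
    (fun i => (⟨_, hmem i⟩ : 𝒜 (a * l))) (eq_top_iff.2 fun x _ => ?_),
    Groth.L16.ZeroCyc.generatedBy_of_frames' _ fun x => ?_⟩
  · obtain ⟨i, hi⟩ := Groth.L16.ZeroCyc.exists_notMem hf hgen x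
    exact TopologicalSpace.Opens.mem_iSup.2 ⟨i, (Proj.basicOpen_pow 𝒜 (f i) _ (hc i)).ge hi⟩
  · obtain ⟨i, hi⟩ := Groth.L16.ZeroCyc.exists_notMem hf hgen x
    exact ⟨Proj.basicOpen 𝒜 (f i), ⟨_, hmem i⟩, hi,
      Groth.L16.ZeroCyc.isFrame_globalOf _ _ (Proj.basicOpen_pow 𝒜 (f i) _ (hc i)).ge⟩
end Groth.Agent.S13169
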