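import Groth.Statements.S13173
import Groth.Agent.L16.ZeroCyc.Twist

set_option autoImplicit false
universe u
open AlgebraicGeometry
open ZeroCyc

namespace Groth.Agent.S13173

/-- Let B be a graded R-algebra generated by elements of degree at most d, such that X = Proj B is
quasi-compact and covered by the opens D_+(g), g ∈ B_1. Then O_X(n) is ample for every n ≥ 1. (The
published statement does not assume X quasi-compact, which ampleness as used here requires and which
fails for a polynomial ring in infinitely many degree-one variables; this row assumes it.) -/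
theorem result {R A : Type u} [CommRing R] [CommRing A] [Algebra R A] (𝒜 : ℕ → Submodule R A) [GradedAlgebra 𝒜]
    (d : ℕ) (hgen : Algebra.adjoin R (⋃ i ∈ Finset.range (d + 1), (𝒜 i : Set A)) = ⊤)
    (hcov : (⨆ g : 𝒜 1, Proj.basicOpen 𝒜 (g : A)) = ⊤) [CompactSpace (Proj 𝒜)] (n : ℕ) (hn : 0 < n) :
    CohB1.IsAmple (Twist.twist 𝒜 (n : ℤ)) := by
  obtain ⟨T, hT⟩ := isCompact_univ.elim_finite_subcover (fun g : 𝒜 1 => (Proj.basicOpen 𝒜 (g : A) : Set (Proj 𝒜)))
    (fun g => (Proj.basicOpen 𝒜 (g : A)).2) (fun x _ => by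
      obtain ⟨g, hg⟩ := TopologicalSpace.Opens.mem_iSup.1 (hcov.ge (TopologicalSpace.Opens.mem_top x))
      exact Set.mem_iUnion.2 ⟨g, hg⟩)
  refine Groth.L16.ProjTwist.isAmple_twist 𝒜 hn
    (fun g : T => (⟨(g.1 : A) ^ n, by simpa using SetLike.pow_mem_graded n g.1.2⟩ : 𝒜 n)) ?_
  refine eq_top_iff.2 fun x _ => ?_
  obtain ⟨g, hgT, hg⟩ : ∃ g ∈ T, x ∈ Proj.basicOpen 𝒜 ((g : 𝒜 1) : A) := by
    simpa using hT (Set.mem_univ x)
  exact TopologicalSpace.Opens.mem_iSup.2 ⟨⟨g, hgT⟩, (Proj.basicOpen_pow 𝒜 (g : A) n hn).ge hg⟩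
end Groth.Agent.S13173
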