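
import Groth.Statements.S13174
import Groth.Agent.L22.PolLawExt

set_option autoImplicit false
universe u v w
open scoped TensorProduct
open ZeroCyc

namespace Groth.Agent.S13174

/-- Let M and N be A-modules. Polynomial laws M → N correspond one-to-one, by restriction, to families
of maps T_n : M[t_1, …, t_n] → N[t_1, …, t_n], n ≥ 0, compatible with all A-algebra homomorphisms
A[t_1, …, t_n] → A[t_1, …, t_m]: in the definition of a polynomial law the category of A-algebras
may be replaced by the polynomial rings in finitely many variables. (Here a polynomial law is given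
on all commutative A-algebra semirings of the universe of A.) -/
theorem result {A : Type u} [CommRing A] {M : Type v} [AddCommGroup M] [Module A M] {N : Type w} [AddCommGroup N] [Module A N] :
    Function.Bijective (fun F : M →ₚₗ[A] N =>
      (⟨fun n => F.toFun' (MvPolynomial (Fin n) A), fun n m φ => F.isCompat' φ⟩ :
        {T : ∀ n : ℕ, MvPolynomial (Fin n) A ⊗[A] M → MvPolynomial (Fin n) A ⊗[A] N //
          ∀ (n m : ℕ) (φ : MvPolynomial (Fin n) A →ₐ[A] MvPolynomial (Fin m) A),
            φ.toLinearMap.rTensor N ∘ T n = T m ∘ φ.toLinearMap.rTensor M})) := by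
  constructor
  · intro F F' h
    refine PolynomialLaw.ext ?_
    funext S _ _ t
    obtain ⟨n, ψ, p, rfl⟩ := PolynomialLaw.exists_lift t
    rw [← PolynomialLaw.isCompat_apply', ← PolynomialLaw.isCompat_apply']
    have h' : F.toFun' (MvPolynomial (Fin n) A) = F'.toFun' (MvPolynomial (Fin n) A) :=
      congr_fun (congrArg Subtype.val h) n
    rw [h']
  · rintro ⟨T, hT⟩
    classical
    choose n ψ p hp using fun (S : Type u) (_ : CommSemiring S) (_ : Algebra A S)
      (t : S ⊗[A] M) => PolynomialLaw.exists_lift t
    refine ⟨⟨fun S iS iA t => (ψ S iS iA t).toLinearMap.rTensor N (T _ (p S iS iA t)),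
      fun {S} iS iA {S'} iS' iA' φ => funext fun t => ?_⟩, Subtype.ext (funext fun k => funext fun t => ?_)⟩
    · simp only [Function.comp_apply]
      rw [← LinearMap.rTensor_comp_apply, ← AlgHom.comp_toLinearMap]
      refine Groth.L22.PolLawExt.apply_eq T hT _ _ _ _ ?_
      rw [AlgHom.comp_toLinearMap, LinearMap.rTensor_comp_apply, hp, hp]
    · have key := Groth.L22.PolLawExt.apply_eq T hT (ψ (MvPolynomial (Fin k) A) _ _ t)
        (AlgHom.id A (MvPolynomial (Fin k) A)) (p (MvPolynomial (Fin k) A) _ _ t) t
        (by rw [hp, AlgHom.toLinearMap_id, LinearMap.rTensor_id, LinearMap.id_apply])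
      refine key.trans ?_
      rw [AlgHom.toLinearMap_id, LinearMap.rTensor_id, LinearMap.id_apply]

end Groth.Agent.S13174
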