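
import Groth.Statements.S13175
import Mathlib.RingTheory.PolynomialLaw.Basic

set_option autoImplicit false
universe u v w
open scoped TensorProduct
open ZeroCyc

namespace Groth.Agent.S13175

/-- Let B and C be A-algebras and F : B → C a polynomial law. If the maps F over the polynomial rings
A[t_1, …, t_n], n ≥ 0, are multiplicative (send 1 to 1 and products to products), then F is a
multiplicative law: F sends 1 to 1 and products to products over every A-algebra. -/
theorem result {A : Type u} [CommRing A] {B : Type v} [CommRing B] [Algebra A B] {C : Type w} [CommRing C] [Algebra A C]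
    (F : B →ₚₗ[A] C)
    (h1 : ∀ n : ℕ, F.toFun' (MvPolynomial (Fin n) A) 1 = 1)
    (hmul : ∀ (n : ℕ) (x y : MvPolynomial (Fin n) A ⊗[A] B),
      F.toFun' (MvPolynomial (Fin n) A) (x * y) = F.toFun' (MvPolynomial (Fin n) A) x * F.toFun' (MvPolynomial (Fin n) A) y) :
    ∀ (S : Type u) [CommRing S] [Algebra A S], F.toFun' S 1 = 1 ∧
      ∀ x y : S ⊗[A] B, F.toFun' S (x * y) = F.toFun' S x * F.toFun' S y := by
  intro S _ _
  refine ⟨?_, fun x y => ?_⟩
  · have h := PolynomialLaw.isCompat_apply' (f := F) (Algebra.ofId A S |>.comp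
      (MvPolynomial.aeval (R := A) (S₁ := A) (Fin.elim0 : Fin 0 → A))) 1
    rw [h1, Algebra.TensorProduct.one_def, Algebra.TensorProduct.one_def,
      LinearMap.rTensor_tmul, LinearMap.rTensor_tmul, AlgHom.toLinearMap_apply, map_one] at h
    rw [Algebra.TensorProduct.one_def, Algebra.TensorProduct.one_def]
    exact h.symm
  · obtain ⟨n, φ, p, hp⟩ := PolynomialLaw.exists_lift x
    obtain ⟨m, ψ, q, hq⟩ := PolynomialLaw.exists_lift y
    let ιn : MvPolynomial (Fin n) A →ₐ[A] MvPolynomial (Fin (n + m)) A :=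
      MvPolynomial.rename (Fin.castAdd m)
    let ιm : MvPolynomial (Fin m) A →ₐ[A] MvPolynomial (Fin (n + m)) A :=
      MvPolynomial.rename (Fin.natAdd n)
    let Φ : MvPolynomial (Fin (n + m)) A →ₐ[A] S :=
      MvPolynomial.aeval (Fin.addCases (fun i => φ (MvPolynomial.X i))
        fun i => ψ (MvPolynomial.X i))
    have hn : Φ.comp ιn = φ := MvPolynomial.algHom_ext fun i => by
      simp [Φ, ιn, Fin.addCases_left]
    have hm : Φ.comp ιm = ψ := MvPolynomial.algHom_ext fun i => by
      simp [Φ, ιm, Fin.addCases_right]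
    have hx : Φ.toLinearMap.rTensor B (ιn.toLinearMap.rTensor B p) = x := by
      rw [← LinearMap.rTensor_comp_apply, ← AlgHom.comp_toLinearMap, hn, hp]
    have hy : Φ.toLinearMap.rTensor B (ιm.toLinearMap.rTensor B q) = y := by
      rw [← LinearMap.rTensor_comp_apply, ← AlgHom.comp_toLinearMap, hm, hq]
    have hB : ∀ a b, Φ.toLinearMap.rTensor B (a * b) =
        Φ.toLinearMap.rTensor B a * Φ.toLinearMap.rTensor B b :=
      fun a b => map_mul (Algebra.TensorProduct.map Φ (AlgHom.id A B)) a b
    have hC : ∀ a b, Φ.toLinearMap.rTensor C (a * b) =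
        Φ.toLinearMap.rTensor C a * Φ.toLinearMap.rTensor C b :=
      fun a b => map_mul (Algebra.TensorProduct.map Φ (AlgHom.id A C)) a b
    have hF : ∀ t, F.toFun' S (Φ.toLinearMap.rTensor B t) =
        Φ.toLinearMap.rTensor C (F.toFun' _ t) := fun t =>
      (PolynomialLaw.isCompat_apply' (f := F) Φ t).symm
    rw [← hx, ← hy, ← hB, hF, hmul, hC, ← hF, ← hF]

end Groth.Agent.S13175
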