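import Groth.Statements.S13178
import Groth.Prelude.Def_PolLaw2
import Groth.Agent.L22.Gamma.Val
import Mathlib.RingTheory.Polynomial.GaussLemma
import Mathlib.RingTheory.Polynomial.UniqueFactorization
import Mathlib.RingTheory.Polynomial.RationalRoot
import Mathlib.RingTheory.TensorProduct.MvPolynomial
import Mathlib.FieldTheory.PurelyInseparable.PerfectClosure
import Mathlib.FieldTheory.PurelyInseparable.Exponent
import Mathlib.FieldTheory.PrimitiveElement
import Mathlib.FieldTheory.Perfect
import Mathlib.RingTheory.AdjoinRoot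

set_option autoImplicit false
universe u
open scoped TensorProduct
open ZeroCyc
open Groth.L22.Gamma

namespace Groth.Agent.S13178

/-- the two properties of the statement -/
def IsMH {k K : Type u} [Field k] [Field K] [Algebra k K] (d : ℕ) (F : K →ₚₗ[k] k) : Prop :=
  (∀ (S : Type u) [CommRing S] [Algebra k S], F.toFun' S 1 = 1 ∧
        ∀ x y : S ⊗[k] K, F.toFun' S (x * y) = F.toFun' S x * F.toFun' S y) ∧
      ∀ (S : Type u) [CommRing S] [Algebra k S] (a : S) (z : S ⊗[k] K), F.toFun' S (a • z) = a ^ d • F.toFun' S z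

/-- such a law as a `MulLaw` -/
def toMulLaw {k K : Type u} [Field k] [Field K] [Algebra k K] {d : ℕ} (F : K →ₚₗ[k] k)
    (h : IsMH d F) : PolLaw.MulLaw k K k d where
  law := F
  homog S iS _ a z :=
    letI : CommRing S := { Algebra.semiringToRing k, iS with }
    h.2 S a z
  mult S iS _ :=
    letI : CommRing S := { Algebra.semiringToRing k, iS with }
    h.1 S

/-- the characteristic polynomial of an element with irreducible equation -/
theorem cpoly_eq_pow {k K L : Type u} [Field k] [CommRing K] [Algebra k K] [Field L] [Algebra k L]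
    {d : ℕ} (F : PolLaw.MulLaw k K k d) (y : L ⊗[k] K) {μ : Polynomial L} (hμm : μ.Monic)
    (hμ : Irreducible μ) (hy : Polynomial.aeval y μ = 0) :
    ∃ j, j * μ.natDegree = d ∧ cpoly F y = Polynomial.C ((-1) ^ d) * μ ^ j := by
  classical
  have hne : cpoly F y ≠ 0 := fun h => by
    have := cpoly_coeff_top F y
    rw [h, Polynomial.coeff_zero] at this
    exact pow_ne_zero d (neg_ne_zero.mpr one_ne_zero) this.symm
  have hfac : ∀ q : Polynomial L, Irreducible q → q ∣ cpoly F y → μ ∣ q := by
    intro q hq hdvd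
    by_contra hμq
    haveI : Fact (Irreducible q) := ⟨hq⟩
    let L' := AdjoinRoot q
    let g : L →ₐ[k] L' := IsScalarTower.toAlgHom k L L'
    let ev : Polynomial L →ₐ[k] L' := (Polynomial.aeval (AdjoinRoot.root q)).restrictScalars k
    let y' : L' ⊗[k] K := Algebra.TensorProduct.map g (AlgHom.id k K) y
    let r : L' ⊗[k] K := AdjoinRoot.root q ⊗ₜ[k] 1
    have hG : nm F L' (y' - r) = 0 := by
      have h1 : y' - r = ev.toLinearMap.rTensor K
          (img L (Polynomial L) y - Polynomial.X ⊗ₜ[k] (1 : K)) := by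
        rw [map_sub, LinearMap.rTensor_tmul]
        congr 1
        · rw [PolLaw.rTensor_algHom_apply, img, ← AlgHom.comp_apply, ← Algebra.TensorProduct.map_comp]
          have : ev.comp (IsScalarTower.toAlgHom k L (Polynomial L)) = g := by
            ext a
            simp [ev, g, L']
          rw [this, AlgHom.id_comp]
        · simp [ev, r, L']
      rw [h1, ← map_nm]
      exact (AdjoinRoot.aeval_eq (f := q) _).trans (AdjoinRoot.mk_eq_zero.mpr hdvd)
    let μ' : Polynomial (L' ⊗[k] K) :=
      μ.map ((Algebra.TensorProduct.includeLeftRingHom : L' →+* L' ⊗[k] K).comp g.toRingHom)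
    have hy' : μ'.eval y' = 0 := by
      have h0 := congrArg (Algebra.TensorProduct.map g (AlgHom.id k K)).toRingHom hy
      rw [Polynomial.aeval_def, Polynomial.hom_eval₂, map_zero] at h0
      rw [Polynomial.eval_map, ← h0]
      congr 1
    have hμr : μ'.eval r = (Polynomial.aeval (AdjoinRoot.root q) μ) ⊗ₜ[k] 1 := by
      rw [Polynomial.eval_map, Polynomial.aeval_def]
      show _ = (Algebra.TensorProduct.includeLeftRingHom : L' →+* L' ⊗[k] K) _
      rw [Polynomial.hom_eval₂]
      rfl
    have hunit : IsUnit (μ'.eval r) := by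
      rw [hμr]
      have : Polynomial.aeval (AdjoinRoot.root q) μ ≠ 0 := by
        rw [AdjoinRoot.aeval_eq, Ne, AdjoinRoot.mk_eq_zero]
        intro hd
        exact hμq (hq.associated_of_dvd hμ hd).symm.dvd
      exact (isUnit_iff_ne_zero.mpr this).map (Algebra.TensorProduct.includeLeftRingHom : L' →+* L' ⊗[k] K)
    have hdv : y' - r ∣ μ'.eval y' - μ'.eval r := Polynomial.sub_dvd_eval_sub y' r μ'
    rw [hy', zero_sub, dvd_neg] at hdv
    obtain ⟨c, hc⟩ := hdv
    have hu : IsUnit (y' - r) := isUnit_of_mul_isUnit_left (hc ▸ hunit)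
    obtain ⟨c', hc'⟩ := hu.exists_right_inv
    have := congrArg (nm F L') hc'
    rw [nm_mul, hG, zero_mul, nm_one] at this
    exact zero_ne_one this
  obtain ⟨j, g', hg', hj⟩ := WfDvdMonoid.max_power_factor hne hμ
  have hunit : IsUnit g' := by
    by_contra hnu
    have hg0 : g' ≠ 0 := fun h => hne (by rw [hj, h, mul_zero])
    obtain ⟨q, hq, hqd⟩ := WfDvdMonoid.exists_irreducible_factor hnu hg0
    exact hg' ((hfac q hq (hj ▸ hqd.mul_left _)).trans hqd)
  obtain ⟨c, hc, rfl⟩ := Polynomial.isUnit_iff.mp hunit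
  have hdeg : (cpoly F y).natDegree = d :=
    le_antisymm (cpoly_natDegree_le F y) (Polynomial.le_natDegree_of_ne_zero (by
      rw [cpoly_coeff_top]; exact pow_ne_zero d (neg_ne_zero.mpr one_ne_zero)))
  have hdeg' : j * μ.natDegree = d := by
    rw [← hdeg, hj, Polynomial.natDegree_mul_C (IsUnit.ne_zero hc), Polynomial.natDegree_pow]
  refine ⟨j, hdeg', ?_⟩
  have hlc : (cpoly F y).leadingCoeff = c := by
    rw [hj, Polynomial.leadingCoeff_mul, (hμm.pow j).leadingCoeff, Polynomial.leadingCoeff_C, _root_.one_mul]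
  rw [Polynomial.leadingCoeff, hdeg, cpoly_coeff_top] at hlc
  rw [hj, ← hlc, _root_.mul_comm]

/-- the value of a law on an element with irreducible equation is determined -/
theorem nm_eq_nm {k K L : Type u} [Field k] [CommRing K] [Algebra k K] [Field L] [Algebra k L]
    {d : ℕ} (F F' : PolLaw.MulLaw k K k d) (y : L ⊗[k] K) {μ : Polynomial L} (hμm : μ.Monic)
    (hμ : Irreducible μ) (hy : Polynomial.aeval y μ = 0) : nm F L y = nm F' L y := by
  obtain ⟨j, hj, h⟩ := cpoly_eq_pow F y hμm hμ hy
  obtain ⟨j', hj', h'⟩ := cpoly_eq_pow F' y hμm hμ hy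
  have he : cpoly F y = cpoly F' y := by
    rw [h, h', Nat.eq_of_mul_eq_mul_right (Irreducible.natDegree_pos hμ) (hj.trans hj'.symm)]
  have hev : ∀ G : PolLaw.MulLaw k K k d, nm G L y = (cpoly G y).eval 0 := by
    intro G
    let ev : Polynomial L →ₐ[k] L := (Polynomial.aeval (0 : L)).restrictScalars k
    have : ev (cpoly G y) = (cpoly G y).eval 0 := by simp [ev, Polynomial.coe_aeval_eq_eval]
    rw [← this, cpoly, map_nm]
    congr 1
    rw [map_sub, LinearMap.rTensor_tmul, PolLaw.rTensor_algHom_apply, img, ← AlgHom.comp_apply,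
      ← Algebra.TensorProduct.map_comp]
    have : ev.comp (IsScalarTower.toAlgHom k L (Polynomial L)) = AlgHom.id k L := by
      ext a; simp [ev]
    rw [this, AlgHom.id_comp, Algebra.TensorProduct.map_id]
    simp [ev]
  rw [hev, hev, he]

/-- the Frobenius into a subfield -/
theorem exists_frob {k K : Type u} [Field k] [Field K] [Algebra k K] (Ks : IntermediateField k K)
    (q : ℕ) [ExpChar k q] (i : ℕ) (h : ∀ x : K, x ^ q ^ i ∈ Ks)
    (S : Type u) [CommSemiring S] [Algebra k S] :
    ∃ Φ : S ⊗[k] K →+ S ⊗[k] Ks, ∀ (s : S) (b : K), Φ (s ⊗ₜ[k] b) = (s ^ q ^ i) ⊗ₜ[k] ⟨b ^ q ^ i, h b⟩ := by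
  rcases subsingleton_or_nontrivial S with hS | hS
  · haveI : Subsingleton (S ⊗[k] Ks) := (Module.subsingleton S _)
    exact ⟨0, fun _ _ => Subsingleton.elim _ _⟩
  haveI : ExpChar S q := expChar_of_injective_algebraMap (algebraMap k S).injective q
  haveI : ExpChar K q := expChar_of_injective_algebraMap (algebraMap k K).injective q
  let f : S →+ K →+ S ⊗[k] Ks :=
    { toFun := fun s =>
        { toFun := fun b => (s ^ q ^ i) ⊗ₜ[k] (⟨b ^ q ^ i, h b⟩ : Ks)
          map_zero' := by
            have : (⟨(0 : K) ^ q ^ i, h 0⟩ : Ks) = 0 :=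
              Subtype.ext (zero_pow (pow_pos (expChar_pos k q) i).ne')
            rw [this, TensorProduct.tmul_zero]
          map_add' := fun a b => by
            rw [← TensorProduct.tmul_add]
            congr 1
            exact Subtype.ext (add_pow_expChar_pow a b q i) }
      map_zero' := AddMonoidHom.ext fun b => by
        simp [zero_pow (pow_pos (expChar_pos k q) i).ne']
      map_add' := fun s t => AddMonoidHom.ext fun b => by
        simp [add_pow_expChar_pow, TensorProduct.add_tmul] }
  refine ⟨TensorProduct.liftAddHom f ?_, fun s b => rfl⟩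
  intro a s b
  show ((a • s) ^ q ^ i) ⊗ₜ[k] (⟨b ^ q ^ i, h b⟩ : Ks) = (s ^ q ^ i) ⊗ₜ[k] (⟨(a • b) ^ q ^ i, h _⟩ : Ks)
  rw [smul_pow, TensorProduct.smul_tmul]
  congr 1
  exact Subtype.ext (smul_pow a b (q ^ i)).symm

theorem result {k : Type u} [Field k] {K : Type u} [Field K] [Algebra k K]
    [FiniteDimensional k K] (d e : ℕ) (he : 0 < e) (hexp : ∀ x : K, x ^ e ∈ separableClosure k K)
    (hmin : ∀ n : ℕ, 0 < n → (∀ x : K, x ^ n ∈ separableClosure k K) → e ≤ n) :
    (∀ F F' : K →ₚₗ[k] k,
      ((∀ (S : Type u) [CommRing S] [Algebra k S], F.toFun' S 1 = 1 ∧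
        ∀ x y : S ⊗[k] K, F.toFun' S (x * y) = F.toFun' S x * F.toFun' S y) ∧
      ∀ (S : Type u) [CommRing S] [Algebra k S] (a : S) (z : S ⊗[k] K), F.toFun' S (a • z) = a ^ d • F.toFun' S z) →
      ((∀ (S : Type u) [CommRing S] [Algebra k S], F'.toFun' S 1 = 1 ∧
        ∀ x y : S ⊗[k] K, F'.toFun' S (x * y) = F'.toFun' S x * F'.toFun' S y) ∧
      ∀ (S : Type u) [CommRing S] [Algebra k S] (a : S) (z : S ⊗[k] K), F'.toFun' S (a • z) = a ^ d • F'.toFun' S z) → F = F') ∧
    ((∃ F : K →ₚₗ[k] k, ((∀ (S : Type u) [CommRing S] [Algebra k S], F.toFun' S 1 = 1 ∧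
        ∀ x y : S ⊗[k] K, F.toFun' S (x * y) = F.toFun' S x * F.toFun' S y) ∧
      ∀ (S : Type u) [CommRing S] [Algebra k S] (a : S) (z : S ⊗[k] K), F.toFun' S (a • z) = a ^ d • F.toFun' S z)) ↔ Field.finSepDegree k K * e ∣ d) := by
  classical
  refine ⟨fun F F' hF hF' => ?_, ?_⟩
  · -- uniqueness
    let M := toMulLaw F hF
    let M' := toMulLaw F' hF'
    ext S _ _ x
    obtain ⟨N, s, b, rfl⟩ := TensorProduct.exists_sum_tmul_eq x
    let P := MvPolynomial (Fin N) k
    let φ : P →ₐ[k] S := MvPolynomial.aeval s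
    have hx : ∑ i, s i ⊗ₜ[k] b i = φ.toLinearMap.rTensor K (∑ i, MvPolynomial.X i ⊗ₜ[k] b i) := by
      simp [map_sum, φ, P]
    rw [hx, ← PolynomialLaw.isCompat_apply', ← PolynomialLaw.isCompat_apply']
    congr 1
    set z : P ⊗[k] K := ∑ i, MvPolynomial.X i ⊗ₜ[k] b i
    show M.law.toFun' P z = M'.law.toFun' P z
    rw [toFun'_eq_nm_tmul, toFun'_eq_nm_tmul]
    congr 1
    let e1 : P ⊗[k] K ≃ₐ[k] MvPolynomial (Fin N) K :=
      (Algebra.TensorProduct.comm k P K).trans
        ((MvPolynomial.algebraTensorAlgEquiv k K).restrictScalars k)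
    haveI : IsDomain (P ⊗[k] K) := e1.toMulEquiv.isDomain
    haveI : Algebra.IsIntegral P (P ⊗[k] K) := inferInstance
    have hint : IsIntegral P z := Algebra.IsIntegral.isIntegral z
    let L := FractionRing P
    let g : P →ₐ[k] L := IsScalarTower.toAlgHom k P L
    let μ : Polynomial L := (minpoly P z).map (algebraMap P L)
    have hμm : μ.Monic := (minpoly.monic hint).map _
    have hμ : Irreducible μ :=
      ((minpoly.monic hint).irreducible_iff_irreducible_map_fraction_map).mp (minpoly.irreducible hint)
    have hy : Polynomial.aeval (Algebra.TensorProduct.map g (AlgHom.id k K) z) μ = 0 := by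
      have h0 := congrArg (Algebra.TensorProduct.map g (AlgHom.id k K)).toRingHom (minpoly.aeval P z)
      rw [Polynomial.aeval_def, Polynomial.hom_eval₂, map_zero] at h0
      rw [Polynomial.aeval_def, Polynomial.eval₂_map, ← h0]
      congr 1
    have := nm_eq_nm M M' _ hμm hμ hy
    rw [nm_map, nm_map] at this
    exact IsFractionRing.injective P L this
  -- the structure of `e`
  obtain ⟨q, hq⟩ := ExpChar.exists k
  haveI := hq
  let Ks := separableClosure k K
  haveI : ExpChar Ks q := expChar_of_injective_algebraMap (algebraMap k Ks).injective q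
  haveI : ExpChar K q := expChar_of_injective_algebraMap (algebraMap k K).injective q
  have hgcd : ∀ (a : ℕ), 0 < a → (∀ x : K, x ^ a ∈ Ks) → e ∣ a := by
    intro a ha hxa
    have h : ∀ x : K, x ^ Nat.gcd e a ∈ Ks := by
      intro x
      rcases eq_or_ne x 0 with rfl | hx
      · rw [zero_pow (Nat.gcd_pos_of_pos_left a he).ne']; exact zero_mem _
      · have := Nat.gcd_eq_gcd_ab e a
        rw [← zpow_natCast, this, zpow_add₀ hx, zpow_mul, zpow_mul, zpow_natCast, zpow_natCast]
        exact mul_mem (zpow_mem (hexp x) _) (zpow_mem (hxa x) _)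
    have h1 := hmin _ (Nat.gcd_pos_of_pos_left a he) h
    have h2 : Nat.gcd e a = e := le_antisymm (Nat.le_of_dvd he (Nat.gcd_dvd_left e a)) h1
    exact h2 ▸ Nat.gcd_dvd_right e a
  haveI hpi : IsPurelyInseparable Ks K := separableClosure.isPurelyInseparable k K
  obtain ⟨i, hi⟩ : ∃ i, e = q ^ i := by
    obtain ⟨m, hm⟩ : ∃ m : ℕ, ∀ x : K, x ^ q ^ m ∈ Ks := by
      choose mm hmm using fun x : K => IsPurelyInseparable.pow_mem Ks q x
      let B := Module.finBasis k K
      refine ⟨Finset.univ.sup fun l => mm (B l), fun x => ?_⟩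
      rw [← B.sum_repr x, sum_pow_char_pow]
      refine sum_mem fun l _ => ?_
      rw [smul_pow]
      refine IntermediateField.smul_mem _ ?_
      obtain ⟨c, hc⟩ : ∃ c, mm (B l) + c = Finset.univ.sup fun l => mm (B l) :=
        ⟨_, Nat.add_sub_cancel' (Finset.le_sup (f := fun l => mm (B l)) (Finset.mem_univ l))⟩
      rw [← hc, pow_add, pow_mul]
      obtain ⟨y, hy⟩ := hmm (B l)
      exact pow_mem (hy ▸ y.2) _
    have hd := hgcd _ (pow_pos (expChar_pos k q) m) hm
    rcases hq with _ | ⟨hprime⟩
    · exact ⟨0, by simpa using hd⟩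
    · obtain ⟨i, -, rfl⟩ := (Nat.dvd_prime_pow hprime).mp hd
      exact ⟨i, rfl⟩
  subst hi
  set n := Field.finSepDegree k K
  have hn : Module.finrank k Ks = n := by
    rw [show n = Field.finSepDegree k K from rfl, Field.finSepDegree_eq]
    exact (Cardinal.toNat_eq_iff (Module.finrank_pos (R := k) (M := Ks)).ne').mpr
      (Module.finrank_eq_rank k Ks).symm |>.symm
  refine ⟨?_, ?_⟩
  · -- necessity
    rintro ⟨F, hF⟩
    let M := toMulLaw F hF
    suffices hb : ∃ b : K, n * q ^ i ∣ (minpoly k b).natDegree by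
      obtain ⟨b, hb⟩ := hb
      have hint : IsIntegral k b := IsIntegral.of_finite k b
      obtain ⟨j, hj, -⟩ := cpoly_eq_pow M ((1 : k) ⊗ₜ[k] b) (minpoly.monic hint) (minpoly.irreducible hint) (by
        rw [show ((1 : k) ⊗ₜ[k] b) = (Algebra.TensorProduct.includeRight : K →ₐ[k] k ⊗[k] K) b from rfl,
          Polynomial.aeval_algHom_apply, minpoly.aeval, map_zero])
      exact hb.trans ⟨j, by rw [← hj, _root_.mul_comm]⟩
    obtain ⟨θ, hθ⟩ := Field.exists_primitive_element k Ks
    rcases eq_or_lt_of_le (show 1 ≤ q ^ i from pow_pos (expChar_pos k q) i) with hi | hi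
    · -- no inseparability
      refine ⟨(θ : K), ?_⟩
      rw [← hi, _root_.mul_one]
      have h1 : minpoly k (θ : K) = minpoly k θ := minpoly.algebraMap_eq (algebraMap Ks K).injective θ
      rw [h1, ← IntermediateField.adjoin.finrank (IsIntegral.of_finite k θ), hθ,
        IntermediateField.finrank_top', hn]
    · obtain ⟨i', rfl⟩ : ∃ i', i = i' + 1 := by
        refine ⟨i - 1, ?_⟩
        rcases Nat.eq_zero_or_pos i with h0 | h0
        · rw [h0, pow_zero] at hi; exact absurd hi (lt_irrefl 1)
        · omega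
      have hq1 : 1 < q := by
        by_contra hq1
        rw [le_antisymm (not_lt.mp hq1) (expChar_pos k q), one_pow] at hi
        exact lt_irrefl 1 hi
      obtain ⟨w, hw⟩ : ∃ w : K, w ^ q ^ i' ∉ Ks := by
        by_contra hc
        simp only [not_exists, not_not] at hc
        have := hmin (q ^ i') (pow_pos (expChar_pos k q) _) hc
        exact absurd this (not_le.mpr (Nat.pow_lt_pow_right hq1 (Nat.lt_succ_self i')))
      haveI hinf : Infinite k := by
        by_contra hfin
        haveI : Finite k := not_infinite_iff_finite.mp hfin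
        haveI : Algebra.IsSeparable k K := inferInstance
        exact hw (by rw [show Ks = ⊤ from (separableClosure.eq_top_iff k K).mpr inferInstance]; trivial)
      set E := q ^ (i' + 1) with hE
      let wE : Ks := ⟨w ^ E, hexp w⟩
      have hθE : IntermediateField.adjoin k {θ ^ E} = ⊤ := by
        rw [← hθ]
        exact (IntermediateField.adjoin_simple_eq_adjoin_pow_expChar_pow_of_isSeparable' k Ks θ q (i' + 1)).symm
      haveI : Finite (IntermediateField k Ks) :=
        Field.finite_intermediateField_of_exists_primitive_element k Ks ⟨θ, hθ⟩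
      obtain ⟨c, hc⟩ : ∃ c : k, IntermediateField.adjoin k {wE + algebraMap k Ks c ^ E * θ ^ E} = ⊤ := by
        by_contra hc
        simp only [not_exists] at hc
        obtain ⟨c₁, c₂, hne, heq⟩ := Finite.exists_ne_map_eq_of_infinite
          (fun c : k => IntermediateField.adjoin k {wE + algebraMap k Ks c ^ E * θ ^ E})
        apply hc c₁
        rw [eq_top_iff, ← hθE, IntermediateField.adjoin_simple_le_iff]
        set T := IntermediateField.adjoin k {wE + algebraMap k Ks c₁ ^ E * θ ^ E}
        have h1 : wE + algebraMap k Ks c₁ ^ E * θ ^ E ∈ T := IntermediateField.mem_adjoin_simple_self k _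
        have h2 : wE + algebraMap k Ks c₂ ^ E * θ ^ E ∈ T := by
          simp only [T, heq]
          exact IntermediateField.mem_adjoin_simple_self k _
        have h3 := sub_mem h1 h2
        rw [add_sub_add_left_eq_sub, ← sub_mul, ← sub_pow_expChar_pow, ← map_sub, ← map_pow] at h3
        have h4 : algebraMap k Ks ((c₁ - c₂) ^ E) ≠ 0 :=
          (map_ne_zero _).mpr (pow_ne_zero _ (sub_ne_zero.mpr hne))
        have := mul_mem (inv_mem (IntermediateField.algebraMap_mem T ((c₁ - c₂) ^ E))) h3
        rwa [inv_mul_cancel_left₀ h4] at this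
      let b : K := w + algebraMap k K c * θ
      refine ⟨b, ?_⟩
      have hbE : b ^ E = ((wE + algebraMap k Ks c ^ E * θ ^ E : Ks) : K) := by
        simp [b, wE, hE, add_pow_expChar_pow, mul_pow]
      have hKs : Ks ≤ IntermediateField.adjoin k {b} := by
        intro x hx
        have hx' : (⟨x, hx⟩ : Ks) ∈ IntermediateField.adjoin k {wE + algebraMap k Ks c ^ E * θ ^ E} := by
          rw [hc]; trivial
        have : x ∈ (IntermediateField.adjoin k {wE + algebraMap k Ks c ^ E * θ ^ E}).map Ks.val :=
          ⟨_, hx', rfl⟩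
        rw [IntermediateField.adjoin_map, Set.image_singleton] at this
        refine (IntermediateField.adjoin_simple_le_iff.mpr ?_) this
        show ((wE + algebraMap k Ks c ^ E * θ ^ E : Ks) : K) ∈ _
        rw [← hbE]
        exact pow_mem (IntermediateField.mem_adjoin_simple_self k b) _
      obtain ⟨m, y, hm⟩ := (isPurelyInseparable_iff_minpoly_eq_X_pow_sub_C Ks q).mp hpi b
      have hEm : E ∣ (minpoly Ks b).natDegree := by
        rw [hm, Polynomial.natDegree_X_pow_sub_C]
        refine pow_dvd_pow q ?_
        by_contra hlt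
        have hbm : b ^ q ^ m ∈ Ks := by
          have h0 := minpoly.aeval Ks b
          rw [hm, map_sub, map_pow, Polynomial.aeval_X, Polynomial.aeval_C, sub_eq_zero] at h0
          rw [h0]; exact y.2
        have hbi : b ^ q ^ i' ∈ Ks := by
          obtain ⟨c', hc'⟩ : ∃ c', m + c' = i' := ⟨i' - m, by omega⟩
          rw [← hc', pow_add, pow_mul]
          exact pow_mem hbm _
        rw [add_pow_expChar_pow, mul_pow, ← map_pow] at hbi
        have := sub_mem hbi (mul_mem (IntermediateField.algebraMap_mem Ks (c ^ q ^ i'))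
          (pow_mem θ.2 (q ^ i')))
        rw [add_sub_cancel_right] at this
        exact hw this
      have hrs : (IntermediateField.adjoin Ks {b}).restrictScalars k = IntermediateField.adjoin k {b} := by
        refine le_antisymm ?_ ?_
        · rw [IntermediateField.restrictScalars_adjoin, IntermediateField.adjoin_le_iff]
          exact Set.union_subset hKs (Set.singleton_subset_iff.mpr (IntermediateField.mem_adjoin_simple_self k b))
        · rw [IntermediateField.adjoin_simple_le_iff]
          exact IntermediateField.mem_adjoin_simple_self Ks b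
      have hdegk : (minpoly k b).natDegree = n * (minpoly Ks b).natDegree := by
        rw [← IntermediateField.adjoin.finrank (IsIntegral.of_finite k b),
          ← IntermediateField.adjoin.finrank (IsIntegral.of_finite Ks b), ← hn,
          Module.finrank_mul_finrank k Ks (IntermediateField.adjoin Ks {b}), ← hrs]
        rfl
      rw [hdegk]
      exact Nat.mul_dvd_mul_left n hEm
  · -- existence
    rintro ⟨j, rfl⟩
    choose Φ hΦ using fun (S : Type u) (i1 : CommSemiring S) (i2 : Algebra k S) =>
      @exists_frob k K _ _ _ Ks q hq i hexp S i1 i2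
    let N := PolLaw.normLaw k Ks n hn
    have hΦmul : ∀ (S : Type u) [CommSemiring S] [Algebra k S] (x y : S ⊗[k] K),
        Φ S _ _ (x * y) = Φ S _ _ x * Φ S _ _ y := by
      intro S _ _ x y
      induction x using TensorProduct.induction_on with
      | zero => simp
      | add x z hx hz => simp only [add_mul, map_add, hx, hz]
      | tmul s b =>
        induction y using TensorProduct.induction_on with
        | zero => simp
        | add y z hy hz => simp only [mul_add, map_add, hy, hz]
        | tmul t c =>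
          rw [Algebra.TensorProduct.tmul_mul_tmul, hΦ, hΦ, hΦ, Algebra.TensorProduct.tmul_mul_tmul,
            mul_pow]
          congr 1
          exact Subtype.ext (mul_pow b c _)
    have hΦone : ∀ (S : Type u) [CommSemiring S] [Algebra k S], Φ S _ _ 1 = 1 := by
      intro S _ _
      rw [Algebra.TensorProduct.one_def, hΦ, one_pow, Algebra.TensorProduct.one_def]
      congr 1
      exact Subtype.ext (one_pow _)
    let F : K →ₚₗ[k] k :=
      { toFun' := fun S i1 i2 x => (N.law.toFun' S (Φ S i1 i2 x)) ^ j
        isCompat' := fun {S} _ _ {S'} _ _ φ => by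
          funext x
          simp only [Function.comp_apply]
          rw [PolLaw.rTensor_algHom_apply, map_pow, ← PolLaw.rTensor_algHom_apply,
            PolynomialLaw.isCompat_apply']
          congr 2
          induction x using TensorProduct.induction_on with
          | zero => simp
          | tmul s b => simp [hΦ, map_pow]
          | add x y hx hy => simp only [map_add, hx, hy] }
    refine ⟨F, fun S _ _ => ⟨?_, fun x y => ?_⟩, fun S _ _ a z => ?_⟩
    · show (N.law.toFun' S (Φ S _ _ 1)) ^ j = 1
      rw [hΦone, (N.mult S).1, one_pow]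
    · show (N.law.toFun' S (Φ S _ _ (x * y))) ^ j = _
      rw [hΦmul, (N.mult S).2, mul_pow]
    · show (N.law.toFun' S (Φ S _ _ (a • z))) ^ j = _
      have : Φ S _ _ (a • z) = (a ^ q ^ i) • Φ S _ _ z := by
        induction z using TensorProduct.induction_on with
        | zero => simp
        | tmul t c => rw [TensorProduct.smul_tmul', hΦ, hΦ, TensorProduct.smul_tmul', smul_eq_mul,
            smul_eq_mul, mul_pow]
        | add x y hx hy => simp only [smul_add, map_add, hx, hy]
      rw [this, N.homog, smul_pow, ← pow_mul, ← pow_mul]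
      congr 2
      ring

end Groth.Agent.S13178
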