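import Groth.Statements.S13179
import Groth.Agent.L11.QuotProj.Norm
import Groth.Agent.S4418
import Groth.Agent.S4419

set_option autoImplicit false
universe u
open CategoryTheory CategoryTheory.Limits AlgebraicGeometry
open ZeroCyc

namespace Groth.Agent.S13179

/-- Let S be a Noetherian scheme, X → S projective and G a finite group acting on X by S-automorphisms.
Then a quotient q : X → X/G by G exists (affine, G-invariant, O_{X/G} = invariant sections) with X/G
→ S projective. -/
theorem result {X S : Scheme.{u}} (f : X ⟶ S) [IsNoetherian S]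
    {G : Type u} [Group G] [Finite G] (ρ : G →* Aut X) (hρ : ∀ σ : G, (ρ σ).hom ≫ f = f)
    (hf : RelProj.IsProjective f) :
    ∃ (Y : Scheme.{u}) (q : X ⟶ Y) (h : Y ⟶ S), q ≫ h = f ∧ SGA1.IsQuot ρ q ∧ RelProj.IsProjective h := by
  obtain ⟨hqf, hp⟩ := Groth.Agent.S4418.result f hf
  obtain ⟨Y, q, h, hqh, hq, hh, hfin, hsur⟩ := Groth.L11.QuotProj.exists_quot f ρ hρ hqf
  haveI := hsur
  haveI : IsProper (q ≫ h) := by rw [hqh]; exact hp
  haveI := Groth.L27.Quot.isSeparated_of_comp hq h
  haveI := hh.1
  haveI : UniversallyClosed h := UniversallyClosed.of_comp_surjective q h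
  haveI : IsProper h := ⟨⟩
  exact ⟨Y, q, h, hqh, hq, Groth.Agent.S4419.result (Or.inr inferInstance) h hh⟩

end Groth.Agent.S13179
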