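import Groth.Statements.S13182
import Groth.Agent.L16.ZeroCyc.Embed
import Groth.Agent.S13165

set_option autoImplicit false
universe u
open CategoryTheory CategoryTheory.Limits AlgebraicGeometry
open ZeroCyc

namespace Groth.Agent.S13182

/-- Let B be a graded R-algebra generated by homogeneous elements f_1, …, f_s of positive degrees d_1,
…, d_s, let l be the least common multiple of the d_i and X = Proj B. For n = a l with a ≥ max(1, s
− 1) there is a closed immersion i of X into a projective space over R, over Spec R, with O_X(n) ≅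
i^*O(1); in particular O_X(n) is very ample relative to Spec R. (The published statement takes for i
the canonical morphism into P(B_n) given by the sections B_n; this row asserts only a closed
immersion into some projective space P^N over R with an isomorphism O_X(n) ≅ i^*O(1).) -/
theorem result {R A : Type u} [CommRing R] [CommRing A] [Algebra R A] (𝒜 : ℕ → Submodule R A) [GradedAlgebra 𝒜]
    {s : ℕ} (f : Fin s → A) (deg : Fin s → ℕ) (hdeg : ∀ i, 0 < deg i) (hf : ∀ i, f i ∈ 𝒜 (deg i))
    (hgen : Algebra.adjoin R (Set.range f) = ⊤) (a : ℕ) (ha : 0 < a) (has : s - 1 ≤ a) :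
    ∃ (N : ℕ) (i : Proj 𝒜 ⟶ CohB1.ProjSpaceOver N (Spec (CommRingCat.of R))), IsClosedImmersion i ∧
      i ≫ pullback.snd (CohB1.ProjSpace.toSpec N (ULift.{u} ℤ)) (specULiftZIsTerminal.from (Spec (CommRingCat.of R))) =
        Proj.toSpecZero 𝒜 ≫ Spec.map (CommRingCat.ofHom (algebraMap R (𝒜 0))) ∧
      Nonempty (Twist.twist 𝒜 ((a * Finset.univ.lcm deg : ℕ) : ℤ) ≅
        (Scheme.Modules.pullback i).obj (Twist.twistOver N (Spec (CommRingCat.of R)) 1)) := by
  classical
  set l := Finset.univ.lcm deg with hl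
  have hl0 : 0 < l := Nat.pos_of_ne_zero fun h => by
    simp only [hl, Finset.lcm_eq_zero_iff, Finset.mem_univ, true_and] at h
    obtain ⟨i, hi⟩ := h
    exact (hdeg i).ne' hi
  have hc : ∀ i, 0 < a * l / deg i := fun i =>
    Nat.div_pos ((Nat.le_of_dvd hl0 (Finset.dvd_lcm (Finset.mem_univ i))).trans (Nat.le_mul_of_pos_left l ha)) (hdeg i)
  have hmem : ∀ i, f i ^ (a * l / deg i) ∈ 𝒜 (a * l) := fun i => by
    have h := SetLike.pow_mem_graded (a * l / deg i) (hf i)
    rwa [smul_eq_mul, Nat.div_mul_cancel ((Finset.dvd_lcm (Finset.mem_univ i)).mul_left a)] at h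
  haveI : Algebra.FiniteType R A := ⟨⟨Finset.univ.image f, by rw [Finset.coe_image, Finset.coe_univ, Set.image_univ, hgen]⟩⟩
  obtain ⟨κ, hκ, M, hM⟩ := Groth.L16.ZeroCyc.exists_monomial_family hdeg hf hgen (a * l)
  refine Groth.L16.ZeroCyc.exists_closedImmersion (Nat.mul_pos ha hl0)
    (Groth.L16.ZeroCyc.surjective_algebraMap_zero hdeg hf hgen) (ι := ULift.{u} (Fin s)) (κ := κ ⊕ ULift.{u} (Fin s))
    (Sum.elim M (fun i => ⟨_, hmem i.down⟩))
    (hM.trans (Submodule.span_mono (by rintro _ ⟨k, rfl⟩; exact ⟨Sum.inl k, rfl⟩))) Sum.inr (fun x => ?_)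
    (fun i k c hck => ⟨0, ?_⟩)
  · obtain ⟨i, hi⟩ := Groth.L16.ZeroCyc.exists_notMem hf hgen x
    exact ⟨⟨i⟩, fun h => hi (x.isPrime.mem_of_pow_mem _ h)⟩
  · rw [pow_zero, one_mul, zero_add, ← Groth.Agent.S13165.result 𝒜 f deg hdeg hf hgen a has k]
    simpa using hck
end Groth.Agent.S13182
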