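import Groth.Statements.S13183
import Groth.Agent.L16.ZeroCyc.Embed

set_option autoImplicit false
universe u
open CategoryTheory CategoryTheory.Limits AlgebraicGeometry
open ZeroCyc

namespace Groth.Agent.S13183

/-- Let B be a graded R-algebra of finite type, generated by elements of degrees between 1 and d, such
that X = Proj B is covered by the opens D_+(g), g ∈ B_1. For n ≥ d, n ≥ 1, there is a closed
immersion i of X into a projective space over R, over Spec R, with O_X(n) ≅ i^*O(1); in particular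
O_X(n) is very ample relative to Spec R. (The published statement assumes neither finite generation
nor that the generators have positive degree, and its target is P(B_n) with i the canonical morphism
given by B_n; a closed immersion into a projective space of finite type over R needs X proper over
R, so B is taken of finite type with generators of positive degree; existence of the isomorphism
only.) -/
theorem result {R A : Type u} [CommRing R] [CommRing A] [Algebra R A] (𝒜 : ℕ → Submodule R A) [GradedAlgebra 𝒜]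
    (d : ℕ) (hgen : Algebra.adjoin R (⋃ i ∈ Finset.Icc 1 d, (𝒜 i : Set A)) = ⊤)
    (hcov : (⨆ g : 𝒜 1, Proj.basicOpen 𝒜 (g : A)) = ⊤) [Algebra.FiniteType R A] (n : ℕ) (hn : d ≤ n) (hn1 : 0 < n) :
    ∃ (N : ℕ) (i : Proj 𝒜 ⟶ CohB1.ProjSpaceOver N (Spec (CommRingCat.of R))), IsClosedImmersion i ∧
      i ≫ pullback.snd (CohB1.ProjSpace.toSpec N (ULift.{u} ℤ)) (specULiftZIsTerminal.from (Spec (CommRingCat.of R))) =
        Proj.toSpecZero 𝒜 ≫ Spec.map (CommRingCat.ofHom (algebraMap R (𝒜 0))) ∧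
      Nonempty (Twist.twist 𝒜 (n : ℤ) ≅
        (Scheme.Modules.pullback i).obj (Twist.twistOver N (Spec (CommRingCat.of R)) 1)) := by
  classical
  have hfin : ∀ x : A, ∃ S : Finset A, (∀ y ∈ S, ∃ i, i ∈ Finset.Icc 1 d ∧ y ∈ 𝒜 i) ∧
      x ∈ Algebra.adjoin R (S : Set A) := by
    intro x
    have hx : x ∈ Algebra.adjoin R (⋃ i ∈ Finset.Icc 1 d, (𝒜 i : Set A)) := hgen ▸ Algebra.mem_top
    induction hx using Algebra.adjoin_induction with
    | mem y hy =>
      obtain ⟨i, hi, hy⟩ := Set.mem_iUnion₂.1 hy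
      exact ⟨{y}, fun z hz => ⟨i, hi, (Finset.mem_singleton.1 hz) ▸ hy⟩, Algebra.subset_adjoin (by simp)⟩
    | algebraMap r => exact ⟨∅, by simp, Subalgebra.algebraMap_mem _ r⟩
    | add y z _ _ hy hz =>
      obtain ⟨S, hS, hy⟩ := hy
      obtain ⟨S', hS', hz⟩ := hz
      exact ⟨S ∪ S', fun w hw => (Finset.mem_union.1 hw).elim (hS w) (hS' w),
        add_mem (Algebra.adjoin_mono (by simp) hy) (Algebra.adjoin_mono (by simp) hz)⟩
    | mul y z _ _ hy hz =>
      obtain ⟨S, hS, hy⟩ := hy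
      obtain ⟨S', hS', hz⟩ := hz
      exact ⟨S ∪ S', fun w hw => (Finset.mem_union.1 hw).elim (hS w) (hS' w),
        mul_mem (Algebra.adjoin_mono (by simp) hy) (Algebra.adjoin_mono (by simp) hz)⟩
  choose S hS hxS using hfin
  obtain ⟨T, hT⟩ := (inferInstance : Algebra.FiniteType R A).out
  let U : Finset A := T.biUnion S
  have hU : ∀ y : U, ∃ i, (1 ≤ i ∧ i ≤ d) ∧ (y : A) ∈ 𝒜 i := fun y => by
    obtain ⟨t, -, hy⟩ := Finset.mem_biUnion.1 y.2
    obtain ⟨i, hi, hyi⟩ := hS t _ hy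
    exact ⟨i, Finset.mem_Icc.1 hi, hyi⟩
  choose deg hdeg' hf' using hU
  let e := Fintype.equivFin U
  let f : Fin (Fintype.card U) → A := fun i => (e.symm i : U)
  let D : Fin (Fintype.card U) → ℕ := fun i => deg (e.symm i)
  have hdeg : ∀ i, 0 < D i := fun i => (hdeg' _).1
  have hf : ∀ i, f i ∈ 𝒜 (D i) := fun i => hf' _
  have hgen' : Algebra.adjoin R (Set.range f) = ⊤ := by
    rw [eq_top_iff, ← hT, Algebra.adjoin_le_iff]
    intro t ht
    refine Algebra.adjoin_mono ?_ (hxS t)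
    intro y hy
    exact ⟨e ⟨y, Finset.mem_biUnion.2 ⟨t, ht, hy⟩⟩, by simp [f]⟩
  haveI : CompactSpace (Proj 𝒜) := ⟨by
    have h : (Set.univ : Set (Proj 𝒜)) = ⋃ i, (Proj.basicOpen 𝒜 (f i) : Set (Proj 𝒜)) := by
      ext x
      simpa using Groth.L16.ZeroCyc.exists_notMem hf hgen' x
    rw [h]
    exact isCompact_iUnion fun i => (Proj.isAffineOpen_basicOpen 𝒜 _ (hf i) (hdeg i)).isCompact⟩
  obtain ⟨G, hG⟩ := isCompact_univ.elim_finite_subcover (fun g : 𝒜 1 => (Proj.basicOpen 𝒜 (g : A) : Set (Proj 𝒜)))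
    (fun g => (Proj.basicOpen 𝒜 (g : A)).2) (fun x _ => by
      obtain ⟨g, hg⟩ := TopologicalSpace.Opens.mem_iSup.1 (hcov.ge (TopologicalSpace.Opens.mem_top x))
      exact Set.mem_iUnion.2 ⟨g, hg⟩)
  obtain ⟨κ, hκ, M, hM⟩ := Groth.L16.ZeroCyc.exists_monomial_family hdeg hf hgen' n
  have hgn : ∀ g : 𝒜 1, (g : A) ^ n ∈ 𝒜 n := fun g => by simpa using SetLike.pow_mem_graded n g.2
  refine Groth.L16.ZeroCyc.exists_closedImmersion hn1
    (Groth.L16.ZeroCyc.surjective_algebraMap_zero hdeg hf hgen') (ι := G) (κ := κ ⊕ G)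
    (Sum.elim M (fun g => ⟨_, hgn g.1⟩))
    (hM.trans (Submodule.span_mono (by rintro _ ⟨k, rfl⟩; exact ⟨Sum.inl k, rfl⟩))) Sum.inr (fun x => ?_)
    (fun g k c hck => ?_)
  · obtain ⟨g, hg, hxg⟩ : ∃ g ∈ G, x ∈ Proj.basicOpen 𝒜 ((g : 𝒜 1) : A) := by
      simpa using hG (Set.mem_univ x)
    exact ⟨⟨g, hg⟩, fun h => hxg (x.isPrime.mem_of_pow_mem _ h)⟩
  obtain ⟨e', he'⟩ : ∃ e', k * n = e' + k := ⟨k * n - k, (Nat.sub_add_cancel (Nat.le_mul_of_pos_right k hn1)).symm⟩
  refine ⟨e', ?_⟩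
  show ((g.1 : A) ^ n) ^ e' * c ∈ 𝒜 n ^ (e' + k)
  have hc' : c ∈ 𝒜 (k * n) := by simpa using hck
  refine (Submodule.span_le (p := Submodule.comap (LinearMap.mulLeft R (((g.1 : A) ^ n) ^ e')) (𝒜 n ^ (e' + k)))).2 ?_
    (Groth.L16.ZeroCyc.mem_span_monomials hf hgen' hc')
  rintro y ⟨α, hα, rfl⟩
  show ((g.1 : A) ^ n) ^ e' * _ ∈ 𝒜 n ^ (e' + k)
  have hle : (∑ i, α i) ≤ e' + k := by
    rw [← he', ← hα]
    exact Finset.sum_le_sum fun i _ => Nat.le_mul_of_pos_right _ (hdeg i)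
  have h1 : ∀ i, f i * (g.1 : A) ^ (n - D i) ∈ 𝒜 n := fun i => by
    have h := SetLike.mul_mem_graded (hf i) (SetLike.pow_mem_graded (n - D i) g.1.2)
    have hd : D i ≤ n := (hdeg' _).2.trans hn
    rwa [smul_eq_mul, mul_one, Nat.add_sub_cancel' hd] at h
  have h2 : (∏ i, (f i * (g.1 : A) ^ (n - D i)) ^ α i) * ((g.1 : A) ^ n) ^ (e' + k - ∑ i, α i) ∈
      𝒜 n ^ (e' + k) := by
    obtain ⟨r, hr⟩ := Nat.exists_eq_add_of_le hle
    rw [hr, Nat.add_sub_cancel_left, pow_add]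
    refine Submodule.mul_mem_mul ?_ (Submodule.pow_mem_pow _ (hgn g.1) r)
    rw [← Finset.prod_pow_eq_pow_sum]
    have hp : ∀ t : Finset (Fin (Fintype.card U)),
        ∏ i ∈ t, (f i * (g.1 : A) ^ (n - D i)) ^ α i ∈ ∏ i ∈ t, 𝒜 n ^ α i := fun t => by
      induction t using Finset.induction_on with
      | empty => simp only [Finset.prod_empty]; exact Submodule.one_le.1 le_rfl
      | insert j t hj ih =>
        rw [Finset.prod_insert hj, Finset.prod_insert hj]
        exact Submodule.mul_mem_mul (Submodule.pow_mem_pow _ (h1 j) _) ih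
    exact hp _
  convert h2 using 1
  simp only [mul_pow, Finset.prod_mul_distrib, ← pow_mul, Finset.prod_pow_eq_pow_sum]
  rw [mul_assoc, ← pow_add, mul_comm (∏ i, f i ^ α i)]
  congr 2
  have hsum : (∑ i, (n - D i) * α i) + (∑ i, α i * D i) = n * ∑ i, α i := by
    rw [Finset.mul_sum, ← Finset.sum_add_distrib]
    refine Finset.sum_congr rfl fun i _ => ?_
    rw [mul_comm (α i), ← add_mul, Nat.sub_add_cancel ((hdeg' _).2.trans hn)]
  rw [hα] at hsum
  obtain ⟨r, hr⟩ := Nat.exists_eq_add_of_le hle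
  rw [hr, Nat.add_sub_cancel_left]
  have h3 : n * (e' + k) = n * ((∑ i, α i) + r) := by rw [hr]
  rw [mul_add, mul_add] at h3
  rw [mul_comm k n] at hsum
  omega
end Groth.Agent.S13183
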