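import Groth.Statements.S13184
import Mathlib.FieldTheory.SeparableClosure
import Mathlib.FieldTheory.IsAlgClosed.Basic
import Mathlib.FieldTheory.Perfect
set_option linter.style.haveILetI false
-- import your own Groth.Agent.* helpers here

set_option autoImplicit false
universe u
open ZeroCyc

namespace Groth.Agent.S13184

theorem isSeparable_of_comm {F E F' E' : Type u} [Field F] [Field E] [Field F'] [Field E'] [Algebra F E] [Algebra F' E']
    (a : F →+* F') (b : E →+* E') (h : b.comp (algebraMap F E) = (algebraMap F' E').comp a) {x : E}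
    (hx : IsSeparable F x) : IsSeparable F' (b x) := by
  have hsep : ((minpoly F x).map a).Separable := (Polynomial.separable_map a).2 hx
  refine Polynomial.Separable.of_dvd hsep (minpoly.dvd F' (b x) ?_)
  rw [Polynomial.aeval_def, Polynomial.eval₂_map, ← h]
  rw [← Polynomial.hom_eval₂, ← Polynomial.aeval_def, minpoly.aeval, map_zero]

/-- Let k ⊆ K be a finite extension of fields of characteristic p > 0, viewed inside an algebraically
closed field Ω, and for e ≥ 0 let k^{p^{-e}} ⊆ Ω be the field of elements whose p^e-th power lies in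
k. Then the compositum k^{p^{-e}}K is separable over k^{p^{-e}} if and only if x^{p^e} is separable
over k for every x ∈ K; hence the exponent of K/k (the least n ≥ 1 with K^n separable over k, a
power of p) is the least p^e for which k^{p^{-e}} ⊆ k^{p^{-e}}K is separable. -/
theorem result {k : Type u} [Field k] (p : ℕ) [Fact p.Prime] [CharP k p]
    {K : Type u} [Field K] [Algebra k K] [FiniteDimensional k K]
    {Ω : Type u} [Field Ω] [Algebra k Ω] [Algebra K Ω] [IsScalarTower k K Ω] [IsAlgClosed Ω] (e : ℕ) :
    (∀ x : Ω, x ∈ IntermediateField.adjoin k {y : Ω | y ^ (p ^ e) ∈ Set.range (algebraMap k Ω)} ⊔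
        IntermediateField.adjoin k (Set.range (algebraMap K Ω)) →
      IsSeparable (IntermediateField.adjoin k {y : Ω | y ^ (p ^ e) ∈ Set.range (algebraMap k Ω)}) x) ↔
    ∀ x : K, x ^ (p ^ e) ∈ separableClosure k K := by
  classical
  haveI : CharP Ω p := charP_of_injective_algebraMap (algebraMap k Ω).injective p
  haveI : ExpChar Ω p := ExpChar.prime Fact.out
  let φ : Ω ≃+* Ω := iterateFrobeniusEquiv Ω p e
  have hφ : ∀ x : Ω, φ x = x ^ (p ^ e) := fun x => iterateFrobeniusEquiv_def Ω p e x
  let S : Set Ω := {y : Ω | y ^ (p ^ e) ∈ Set.range (algebraMap k Ω)}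
  let L := IntermediateField.adjoin k S
  have hL : ∀ y ∈ L, φ y ∈ Set.range (algebraMap k Ω) := by
    intro y hy
    induction hy using IntermediateField.adjoin_induction with
    | mem y hy => rw [hφ]; exact hy
    | algebraMap c => exact ⟨c ^ (p ^ e), by rw [hφ, map_pow]⟩
    | add x y _ _ hx hy => obtain ⟨a, ha⟩ := hx; obtain ⟨b, hb⟩ := hy; exact ⟨a + b, by rw [map_add, map_add, ha, hb]⟩
    | inv x _ hx => obtain ⟨a, ha⟩ := hx; exact ⟨a⁻¹, by rw [map_inv₀, map_inv₀, ha]⟩
    | mul x y _ _ hx hy => obtain ⟨a, ha⟩ := hx; obtain ⟨b, hb⟩ := hy; exact ⟨a * b, by rw [map_mul, map_mul, ha, hb]⟩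
  have hpre : ∀ c : k, φ.symm (algebraMap k Ω c) ∈ L := fun c =>
    IntermediateField.subset_adjoin k S ⟨c, by rw [← hφ, φ.apply_symm_apply]⟩
  choose a ha using fun y : L => hL y.1 y.2
  let A : L →+* k :=
    { toFun := a
      map_one' := (algebraMap k Ω).injective (by rw [ha, map_one, OneMemClass.coe_one, map_one])
      map_mul' := fun x y => (algebraMap k Ω).injective (by rw [ha, map_mul, ha, ha, MulMemClass.coe_mul, map_mul])
      map_zero' := (algebraMap k Ω).injective (by rw [ha, map_zero, ZeroMemClass.coe_zero, map_zero])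
      map_add' := fun x y => (algebraMap k Ω).injective (by rw [ha, map_add, ha, ha, AddMemClass.coe_add, map_add]) }
  let B : k →+* L := (φ.symm.toRingHom.comp (algebraMap k Ω)).codRestrict L.toSubfield.toSubring hpre
  have hiff : ∀ z : Ω, IsSeparable L z ↔ IsSeparable k (z ^ (p ^ e)) := fun z => by
    rw [← hφ]
    refine ⟨isSeparable_of_comm A φ.toRingHom (RingHom.ext fun y => (ha y).symm), fun h => ?_⟩
    have := isSeparable_of_comm B φ.symm.toRingHom (RingHom.ext fun y => rfl) h
    simpa using this
  let i : K →ₐ[k] Ω := IsScalarTower.toAlgHom k K Ω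
  constructor
  · intro h x
    have h1 := (hiff (algebraMap K Ω x)).1 (h _ (SetLike.le_def.1 le_sup_right
      (IntermediateField.subset_adjoin k _ ⟨x, rfl⟩)))
    rw [← map_mem_separableClosure_iff i, mem_separableClosure_iff]
    simpa [i] using h1
  · intro h x hx
    have hle : L ⊔ IntermediateField.adjoin k (Set.range (algebraMap K Ω)) ≤ (separableClosure L Ω).restrictScalars k := by
      refine sup_le (fun y hy => ?_) (IntermediateField.adjoin_le_iff.2 ?_)
      · exact mem_separableClosure_iff.2 (isSeparable_algebraMap (⟨y, hy⟩ : L))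
      · rintro _ ⟨y, rfl⟩
        refine mem_separableClosure_iff.2 ((hiff _).2 ?_)
        have h1 := mem_separableClosure_iff.1 ((map_mem_separableClosure_iff i).2 (h y))
        simpa [i] using h1
    exact mem_separableClosure_iff.1 (hle hx)

end Groth.Agent.S13184
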