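import Groth.Statements.S13186
import Groth.Agent.S13298
import Mathlib.LinearAlgebra.Matrix.NonsingularInverse

set_option autoImplicit false
universe u
open GalCoh

namespace Groth.Agent.S13186

/-- Let L/K be a finite Galois extension of fields, n a natural number, and B a map from the Galois
group of L over K to the invertible n × n matrices over L such that B(σ) · σ(B(τ)) = B(στ) for all
σ, τ (σ acting on matrices entrywise, στ applying τ first) and det B(σ) = 1 for every σ. Then there
is an invertible matrix A over L of determinant 1 with B(σ) = A⁻¹ · σ(A) for every σ; that is, every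
1-cocycle of the Galois group with values in SL_n(L) is the coboundary of an element of SL_n(L), so
H¹ of the Galois group with values in SL_n(L) is a point. (The published statement says that every
torsor under the special linear group over K is trivial; this row is the finite-Galois-level cocycle
form that its proof establishes.) -/
theorem result (K L : Type u) [Field K] [Field L]
    [Algebra K L] [FiniteDimensional K L] [IsGalois K L] (n : ℕ)
    (B : (L ≃ₐ[K] L) → GL (Fin n) L)
    (hB : ∀ σ τ : L ≃ₐ[K] L,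
      (B σ : Matrix (Fin n) (Fin n) L) * (B τ : Matrix (Fin n) (Fin n) L).map σ =
        (B (σ * τ) : Matrix (Fin n) (Fin n) L))
    (hdet : ∀ σ : L ≃ₐ[K] L, Matrix.det (B σ : Matrix (Fin n) (Fin n) L) = 1) :
    ∃ A : GL (Fin n) L, Matrix.det (A : Matrix (Fin n) (Fin n) L) = 1 ∧ ∀ σ : L ≃ₐ[K] L,
      (B σ : Matrix (Fin n) (Fin n) L) =
        ((A⁻¹ : GL (Fin n) L) : Matrix (Fin n) (Fin n) L) * (A : Matrix (Fin n) (Fin n) L).map σ := by
  letI := CSAGal.matrixAction (L ≃ₐ[K] L) L (Fin n)
  letI : MulDistribMulAction (L ≃ₐ[K] L) (GL (Fin n) L) := GpH1.unitsAction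
  let b : GpH1.OneCocycle (L ≃ₐ[K] L) (GL (Fin n) L) := ⟨B, fun σ τ => Units.ext (hB σ τ).symm⟩
  have h := Groth.Agent.S13298.result K L n b.cl
  rw [GpH1.H1.pt, GpH1.OneCocycle.cl_eq_cl_iff] at h
  obtain ⟨A, hA⟩ := h
  have hA' : ∀ σ, (B σ : Matrix (Fin n) (Fin n) L) = ((A⁻¹ : GL (Fin n) L) : Matrix (Fin n) (Fin n) L) * (A : Matrix (Fin n) (Fin n) L).map σ := fun σ => by
    have := congrArg Units.val (hA σ)
    rw [show (GpH1.OneCocycle.trivial : GpH1.OneCocycle (L ≃ₐ[K] L) (GL (Fin n) L)) σ = 1 from rfl, mul_one] at this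
    exact this
  rcases Nat.eq_zero_or_pos n with rfl | hn
  · exact ⟨A, Matrix.det_fin_zero, hA'⟩
  have hd0 : Matrix.det (A : Matrix (Fin n) (Fin n) L) ≠ 0 :=
    ((Matrix.isUnit_iff_isUnit_det _).mp A.isUnit).ne_zero
  obtain ⟨r, hr⟩ := IntermediateField.mem_bot.mp ((IsGalois.mem_bot_iff_fixed (F := K) (Matrix.det (A : Matrix (Fin n) (Fin n) L))).mpr fun σ => by
    have h1 := congrArg Matrix.det (hA' σ)
    rw [hdet, Matrix.det_mul] at h1
    have h2 : σ (Matrix.det (A : Matrix (Fin n) (Fin n) L)) = Matrix.det ((A : Matrix (Fin n) (Fin n) L).map σ) :=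
      RingHom.map_det (σ : L →+* L) _
    have h3 : Matrix.det (A : Matrix (Fin n) (Fin n) L) * Matrix.det ((A⁻¹ : GL (Fin n) L) : Matrix (Fin n) (Fin n) L) = 1 := by
      rw [← Matrix.det_mul, Units.mul_inv, Matrix.det_one]
    rw [h2]
    calc _ = Matrix.det (A : Matrix (Fin n) (Fin n) L) * Matrix.det ((A⁻¹ : GL (Fin n) L) : Matrix (Fin n) (Fin n) L) *
          Matrix.det ((A : Matrix (Fin n) (Fin n) L).map σ) := by rw [h3, one_mul]
      _ = _ := by rw [mul_assoc, ← h1, mul_one])
  have hr0 : r ≠ 0 := fun h0 => hd0 (by rw [← hr, h0, map_zero])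
  let d : Fin n → K := fun i => if i = ⟨0, hn⟩ then r⁻¹ else 1
  let D : Matrix (Fin n) (Fin n) L := Matrix.diagonal fun i => algebraMap K L (d i)
  have hDdet : D.det = algebraMap K L r⁻¹ := by
    simp [D, d, Matrix.det_diagonal, apply_ite (algebraMap K L)]
  have hDu : IsUnit D := (Matrix.isUnit_iff_isUnit_det _).mpr (by rw [hDdet]; exact (IsUnit.mk0 _ (by simpa using hr0)))
  obtain ⟨u, hu⟩ := hDu
  refine ⟨u * A, ?_, fun σ => ?_⟩
  · rw [Units.val_mul, Matrix.det_mul, hu, hDdet, ← hr, ← map_mul, inv_mul_cancel₀ hr0, map_one]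
  · rw [mul_inv_rev, Units.val_mul, Units.val_mul, Matrix.map_mul, hA' σ, hu]
    have hDσ : D.map σ = D := by
      simp [D, Matrix.diagonal_map]
    rw [hDσ, mul_assoc, ← hu, Units.inv_mul_cancel_left]

end Groth.Agent.S13186
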