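import Groth.Statements.S13188
import Groth.Agent.L11.CSA.RedNorm

set_option autoImplicit false
universe u v w
open Brauer

namespace Groth.Agent.S13188

/-- Let K be a field with property C_2 for systems of forms and D a finite-dimensional central division
algebra over K with dim_K D = d². Let N : D → K be multiplicative, a reduced norm of D over K, and
given in the coordinates of a K-basis b of D by a homogeneous polynomial F of degree d, i.e. N(Σ x_i
b_i) = F(x) for every coordinate vector x (the reduced norm of a central simple algebra of dimension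
d² is such a polynomial map of degree d; these data record it). Then N : D → K is surjective. -/
theorem result (K : Type u) [Field K] (hK : Curves.IsCi K 2)
    (D : Type v) [DivisionRing D] [Algebra K D] [Algebra.IsCentral K D] [FiniteDimensional K D]
    (d : ℕ) (hd : Module.finrank K D = d ^ 2)
    (N : D →* K) (hN : CSAGal.IsRedNorm K D N)
    {ι : Type w} [Fintype ι] (b : Module.Basis ι K D)
    (F : MvPolynomial ι K) (hF : F.IsHomogeneous d)
    (hNF : ∀ x : ι → K, N (∑ i, x i • b i) = MvPolynomial.eval x F) :
    Function.Surjective N := by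
  haveI : FiniteDimensional K D := inferInstance
  have hd0 : d ≠ 0 := Groth.L11.RN.deg_eq hd ▸ Groth.L11.RN.deg_ne_zero
  have hι : Fintype.card ι = d ^ 2 := by rw [← Module.finrank_eq_card_basis b, hd]
  intro c
  rcases eq_or_ne c 0 with rfl | hc
  · exact ⟨0, by_contra fun h => by
      rw [Groth.L11.RN.isRedNorm_eq hN, ← ne_eq, ← Groth.L11.RN.isUnit_iff] at h
      exact h.ne_zero rfl⟩
  let e : Option ι ≃ Fin (d ^ 2 + 1) := Fintype.equivFinOfCardEq (by rw [Fintype.card_option, hι])
  let f : MvPolynomial (Fin (d ^ 2 + 1)) K :=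
    MvPolynomial.rename (fun i => e (some i)) F - MvPolynomial.C c * MvPolynomial.X (e none) ^ d
  have hf : f.IsHomogeneous d :=
    (hF.rename_isHomogeneous).sub (((MvPolynomial.isHomogeneous_X K (e none)).pow d).C_mul c |> fun h => by
      simpa using h)
  obtain ⟨a, ha, hzero⟩ := hK 1 (d ^ 2 + 1) (fun _ => f) (fun _ => d) (fun _ => hf)
    (fun _ => Nat.pos_of_ne_zero hd0) (by simp)
  have h0 := hzero 0
  simp only [f, map_sub, map_mul, map_pow, MvPolynomial.eval_C, MvPolynomial.eval_X, MvPolynomial.eval_rename,
    sub_eq_zero] at h0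
  set x : ι → K := fun i => a (e (some i)) with hx
  change MvPolynomial.eval x F = _ at h0
  rw [← hNF] at h0
  have ht : a (e none) ≠ 0 := fun ht => by
    rw [ht, zero_pow hd0, mul_zero, Groth.L11.RN.isRedNorm_eq hN] at h0
    have hz : ∑ i, x i • b i = 0 := by_contra fun hne => (Groth.L11.RN.isUnit_iff _).mp (isUnit_iff_ne_zero.mpr hne) h0
    refine ha (funext fun j => ?_)
    obtain ⟨o, rfl⟩ := e.surjective j
    cases o with
    | none => exact ht
    | some i => exact Fintype.linearIndependent_iff.mp b.linearIndependent x hz i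
  refine ⟨(∑ i, x i • b i) * algebraMap K D (a (e none))⁻¹, ?_⟩
  rw [map_mul, h0, Groth.L11.RN.isRedNorm_eq hN, Groth.L11.RN.nrd_algebraMap, Groth.L11.RN.deg_eq hd, inv_pow,
    mul_assoc, mul_inv_cancel₀ (pow_ne_zero d ht), mul_one]

end Groth.Agent.S13188
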