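import Groth.Statements.S13189
import Mathlib.FieldTheory.Finite.Polynomial
import Mathlib.Combinatorics.Nullstellensatz

set_option autoImplicit false
universe u
open CAlg

namespace Groth.Agent.S13189

/-- For a finite field K of cardinality q and n ≥ 0, a polynomial p in n variables over K vanishes at
every point of K^n if and only if p belongs to the ideal generated by the X_i^q − X_i, i = 1, …, n;
in other words that ideal is the kernel of the evaluation homomorphism from K[X_1, …, X_n] to the
ring of K-valued functions on K^n. -/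
theorem result (K : Type u) [Field K] [Fintype K]
    (n : ℕ) (p : MvPolynomial (Fin n) K) :
    (∀ a : Fin n → K, MvPolynomial.eval a p = 0) ↔
      p ∈ Ideal.span (Set.range fun i : Fin n =>
        (MvPolynomial.X i ^ Fintype.card K - MvPolynomial.X i : MvPolynomial (Fin n) K)) := by
  classical
  set q := Fintype.card K
  set J := Ideal.span (Set.range fun i : Fin n =>
        (MvPolynomial.X i ^ q - MvPolynomial.X i : MvPolynomial (Fin n) K))
  have hJ : ∀ f ∈ J, ∀ a : Fin n → K, MvPolynomial.eval a f = 0 := fun f hf a => by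
    have hle : J ≤ RingHom.ker (MvPolynomial.eval a) := by
      refine Ideal.span_le.mpr ?_
      rintro _ ⟨i, rfl⟩
      simp [q, FiniteField.pow_card]
    exact hle hf
  refine ⟨fun hp => ?_, fun hp a => hJ p hp a⟩
  have hred : ∀ (e : ℕ) (i : Fin n), ∃ e', e' < q ∧
      (MvPolynomial.X i : MvPolynomial (Fin n) K) ^ e - MvPolynomial.X i ^ e' ∈ J := by
    intro e i
    induction e using Nat.strong_induction_on with
    | _ e ih =>
      by_cases he : e < q
      · exact ⟨e, he, by simp⟩
      have hq : 2 ≤ q := Fintype.one_lt_card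
      obtain ⟨e', he', hm⟩ := ih (e - q + 1) (by omega)
      refine ⟨e', he', ?_⟩
      have h1 : (MvPolynomial.X i : MvPolynomial (Fin n) K) ^ e - MvPolynomial.X i ^ (e - q + 1) ∈ J := by
        have hgen : (MvPolynomial.X i ^ q - MvPolynomial.X i : MvPolynomial (Fin n) K) ∈ J :=
          Ideal.subset_span ⟨i, rfl⟩
        have := Ideal.mul_mem_left J (MvPolynomial.X i ^ (e - q)) hgen
        rwa [mul_sub, ← pow_add, Nat.sub_add_cancel (not_lt.mp he), ← pow_succ] at this
      simpa using add_mem h1 hm
  choose red hlt hmem using hred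
  let r : MvPolynomial (Fin n) K :=
    p.support.sum fun d => MvPolynomial.C (p.coeff d) * ∏ i, MvPolynomial.X i ^ red (d i) i
  have hdiff : p - r ∈ J := by
    rw [show p - r = (∑ d ∈ p.support, MvPolynomial.monomial d (p.coeff d)) - r by rw [← p.as_sum],
      ← Finset.sum_sub_distrib]
    refine Submodule.sum_mem _ fun d _ => ?_
    rw [MvPolynomial.monomial_eq, Finsupp.prod_fintype _ _ (fun i => pow_zero _), ← mul_sub]
    refine Ideal.mul_mem_left _ _ ?_
    rw [← Ideal.Quotient.mk_eq_mk_iff_sub_mem, map_prod, map_prod]
    exact Finset.prod_congr rfl fun i _ => (Ideal.Quotient.mk_eq_mk_iff_sub_mem _ _).mpr (hmem _ _)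
  have hr : ∀ i, r.degreeOf i < q := by
    intro i
    refine lt_of_le_of_lt (MvPolynomial.degreeOf_sum_le i _ _) ((Finset.sup_lt_iff (by exact Fintype.card_pos)).mpr fun d _ => ?_)
    have : MvPolynomial.C (p.coeff d) * ∏ j, (MvPolynomial.X j : MvPolynomial (Fin n) K) ^ red (d j) j =
        MvPolynomial.monomial (Finsupp.equivFunOnFinite.symm fun j => red (d j) j) (p.coeff d) := by
      rw [MvPolynomial.monomial_eq, Finsupp.prod_fintype _ _ (fun i => pow_zero _)]
      simp
    rw [this]
    by_cases hc : p.coeff d = 0
    · simp [hc]; exact Fintype.card_pos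
    · rw [MvPolynomial.degreeOf_monomial_eq _ _ hc]
      simpa using hlt (d i) i
  have hzero : r = 0 := MvPolynomial.eq_zero_of_eval_zero_at_prod_finset r (fun _ => Finset.univ)
    (fun i => by simpa using hr i) (fun a _ => by
    have := hJ _ hdiff a
    rw [map_sub, hp, zero_sub, neg_eq_zero] at this
    exact this)
  simpa [hzero] using hdiff

end Groth.Agent.S13189
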