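import Groth.Statements.S13198
import Groth.Agent.L05.HensTensor.Integral

set_option autoImplicit false
universe u
open scoped TensorProduct
open Hensel

namespace Groth.Agent.S13198

/-- Let R be a local ring which is strictly henselian (henselian, with separably closed residue field),
A a local ring which is an integral R-algebra with local structure map and whose residue field is
purely inseparable over that of R, and B a local ring with a local homomorphism R → B. Then A ⊗_R B
is a local ring, the map B → A ⊗_R B is local, and the residue field extension of A ⊗_R B over B is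
purely inseparable: every element of A ⊗_R B has a p^n-th power, p the characteristic exponent of
the residue field of B, congruent modulo the maximal ideal to an element 1 ⊗ b. -/
theorem result
    (R A B : Type u) [CommRing R] [HenselianLocalRing R] [IsSepClosed (IsLocalRing.ResidueField R)]
    [CommRing A] [IsLocalRing A] [Algebra R A] [IsLocalHom (algebraMap R A)] [Algebra.IsIntegral R A]
    [IsPurelyInseparable (IsLocalRing.ResidueField R) (IsLocalRing.ResidueField A)]
    [CommRing B] [IsLocalRing B] [Algebra R B] [IsLocalHom (algebraMap R B)] :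
    ∃ _ : IsLocalRing (A ⊗[R] B),
      IsLocalHom (Algebra.TensorProduct.includeRight : B →ₐ[R] A ⊗[R] B).toRingHom ∧
      ∀ x : A ⊗[R] B, ∃ (n : ℕ) (b : B),
        x ^ (ringExpChar (IsLocalRing.ResidueField B)) ^ n - (1 : A) ⊗ₜ[R] b ∈ IsLocalRing.maximalIdeal (A ⊗[R] B) := by
  haveI : Algebra.IsAlgebraic (IsLocalRing.ResidueField R) (IsLocalRing.ResidueField A) := inferInstance
  let Ω := AlgebraicClosure (IsLocalRing.ResidueField B)
  let j : IsLocalRing.ResidueField A →ₐ[IsLocalRing.ResidueField R] Ω := IsAlgClosed.lift
  letI : Algebra R Ω := ((algebraMap (IsLocalRing.ResidueField R) Ω).comp (IsLocalRing.residue R)).toAlgebra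
  let fA : A →ₐ[R] Ω := { j.toRingHom.comp (IsLocalRing.residue A) with
    commutes' := fun r => j.commutes (IsLocalRing.residue R r) }
  let fB : B →ₐ[R] Ω := { (algebraMap (IsLocalRing.ResidueField B) Ω).comp (IsLocalRing.residue B) with
    commutes' := fun r => (IsScalarTower.algebraMap_apply (IsLocalRing.ResidueField R)
      (IsLocalRing.ResidueField B) Ω (IsLocalRing.residue R r)).symm }
  haveI : Nontrivial (B ⊗[R] A) :=
    RingHom.domain_nontrivial (Algebra.TensorProduct.lift fB fA fun _ _ => Commute.all _ _).toRingHom
  haveI := Groth.L05.HensTensor.isLocalRing_tensor R A B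
  let e := Algebra.TensorProduct.comm R A B
  haveI hloc : IsLocalRing (A ⊗[R] B) := e.symm.toRingEquiv.isLocalRing
  have hC : ∀ n : Ideal (B ⊗[R] A), n.IsMaximal →
      n.comap (algebraMap B (B ⊗[R] A)) = IsLocalRing.maximalIdeal B :=
    fun n hn => IsLocalRing.eq_maximalIdeal (Ideal.isMaximal_comap_of_isIntegral_of_isMaximal n)
  have hB : ∀ n : Ideal (B ⊗[R] A), n.IsMaximal →
      IsLocalRing.maximalIdeal A ≤ n.comap (Algebra.TensorProduct.includeRight : A →ₐ[R] B ⊗[R] A) := by
    intro n hn
    haveI := hn.isPrime
    have : (n.comap (Algebra.TensorProduct.includeRight : A →ₐ[R] B ⊗[R] A)).comap (algebraMap R A) =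
        IsLocalRing.maximalIdeal R := by
      rw [← IsLocalRing.maximalIdeal_comap (algebraMap R B), ← hC n hn, Ideal.comap_comap,
        ← IsScalarTower.algebraMap_eq]
      ext a
      simp only [Ideal.mem_comap, AlgHom.commutes]
    exact (IsLocalRing.eq_maximalIdeal (Ideal.isMaximal_of_isIntegral_of_isMaximal_comap (R := R) _
      (this ▸ IsLocalRing.maximalIdeal.isMaximal R))).ge
  refine ⟨hloc, ⟨fun b hb => ?_⟩, fun x => ?_⟩
  · by_contra hu
    have h1 : algebraMap B (B ⊗[R] A) b ∈ IsLocalRing.maximalIdeal (B ⊗[R] A) := by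
      rw [← Ideal.mem_comap, hC _ (IsLocalRing.maximalIdeal.isMaximal _)]
      exact (IsLocalRing.mem_maximalIdeal _).mpr hu
    have h2 := hb.map e.toRingEquiv
    exact (IsLocalRing.mem_maximalIdeal _).mp h1 (by simpa [e] using h2)
  · obtain ⟨p, hp⟩ := ExpChar.exists (IsLocalRing.ResidueField R)
    haveI := hp
    haveI : ExpChar (IsLocalRing.ResidueField B) p :=
      expChar_of_injective_ringHom (algebraMap (IsLocalRing.ResidueField R) (IsLocalRing.ResidueField B)).injective p
    obtain ⟨c, k, hc⟩ := Groth.L05.HensTensor.exists_pow_sub_mem R A B p hC hB (e x)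
    refine ⟨k, c, ?_⟩
    rw [ringExpChar.eq (IsLocalRing.ResidueField B) p]
    refine (IsLocalRing.mem_maximalIdeal _).mpr fun hu => ?_
    refine (IsLocalRing.mem_maximalIdeal _).mp (hc _ (IsLocalRing.maximalIdeal.isMaximal _)) ?_
    have := hu.map e.toRingEquiv
    simpa [e] using this

end Groth.Agent.S13198
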