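import Groth.Statements.S13204
import Groth.Agent.S4433
import Mathlib.RingTheory.Localization.AtPrime.Basic

set_option autoImplicit false
universe u
open Neron

namespace Groth.Agent.S13204

open Polynomial in
/-- If `Δ₁ / Δ₂` is a root of `p` then `p(1)` lies in the maximal ideal. -/
lemma eval_one_mem {R : Type u} [CommRing R] [IsDomain R] [IsLocalRing R] {K : Type u} [Field K]
    [Algebra R K] [IsFractionRing R K] [UniqueFactorizationMonoid R] {d₁ d₂ : R}
    (h₁ : d₁ ∈ IsLocalRing.maximalIdeal R) (h₂ : d₂ ∈ IsLocalRing.maximalIdeal R)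
    (hd₁ : d₁ ≠ 0) (hd₂ : d₂ ≠ 0) (hcop : IsRelPrime d₁ d₂) :
    ∀ (n : ℕ) (p : R[X]), p.natDegree < n → aeval (algebraMap R K d₁ / algebraMap R K d₂) p = 0 →
      p.eval 1 ∈ IsLocalRing.maximalIdeal R := by
  set t := algebraMap R K d₁ / algebraMap R K d₂
  have hd₂' : algebraMap R K d₂ ≠ 0 := (_root_.map_ne_zero_iff _ (IsFractionRing.injective R K)).2 hd₂
  have hd₁' : algebraMap R K d₁ ≠ 0 := (_root_.map_ne_zero_iff _ (IsFractionRing.injective R K)).2 hd₁
  intro n
  induction n with
  | zero => intro p hp; omega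
  | succ n ih =>
    intro p hp h0
    rcases Nat.eq_zero_or_pos p.natDegree with hdeg | hdeg
    · rw [eq_C_of_natDegree_eq_zero hdeg, aeval_C,
        _root_.map_eq_zero_iff _ (IsFractionRing.injective R K)] at h0
      rw [eq_C_of_natDegree_eq_zero hdeg, eval_C, h0]
      exact zero_mem _
    · -- `d₁` divides the constant term
      have hsum : (p.scaleRoots d₂).eval d₁ = 0 := by
        refine IsFractionRing.injective R K ?_
        rw [map_zero]
        have h1 := scaleRoots_eval₂_eq_zero (algebraMap R K) (s := d₂) (r := t) (by rwa [← aeval_def])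
        rw [show algebraMap R K d₂ * t = algebraMap R K d₁ from mul_div_cancel₀ _ hd₂'] at h1
        rwa [eval₂_at_apply] at h1
      have hdvd : d₁ ∣ p.coeff 0 * d₂ ^ p.natDegree := by
        have h1 := sub_dvd_eval_sub d₁ 0 (p.scaleRoots d₂)
        rw [sub_zero, hsum, zero_sub, dvd_neg, ← coeff_zero_eq_eval_zero, coeff_scaleRoots, Nat.sub_zero] at h1
        exact h1
      obtain ⟨b, hb⟩ := (hcop.pow_right).dvd_of_dvd_mul_right hdvd
      have hp' : p = p.divX * X + C (d₁ * b) := by rw [← hb]; exact (divX_mul_X_add p).symm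
      have hroot : aeval t (p.divX + C (d₂ * b)) = 0 := by
        rw [hp', map_add, map_mul, aeval_X, aeval_C, map_mul,
          show algebraMap R K d₁ = t * algebraMap R K d₂ from (div_mul_cancel₀ _ hd₂').symm] at h0
        rw [map_add, aeval_C, map_mul]
        have h2 : (aeval t p.divX + algebraMap R K d₂ * algebraMap R K b) * t = 0 := by
          rw [← h0]; ring
        exact (mul_eq_zero.1 h2).resolve_right (div_ne_zero hd₁' hd₂')
      have hdeg' : (p.divX + C (d₂ * b)).natDegree < n := by
        rw [natDegree_add_C, natDegree_divX_eq_natDegree_tsub_one]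
        omega
      have h3 := ih _ hdeg' hroot
      rw [eval_add, eval_C] at h3
      have h4 : p.eval 1 = ((p.divX).eval 1 + d₂ * b) + (d₁ * b - d₂ * b) := by
        conv_lhs => rw [hp']
        simp
      rw [h4]
      exact add_mem h3 (sub_mem (Ideal.mul_mem_right _ _ h₁) (Ideal.mul_mem_right _ _ h₂))

lemma exists_dvr_hom (A : Type u) [CommRing A] [IsDomain A] [IsNoetherianRing A] [IsLocalRing A]
    (hA : ¬ IsField A) :
    ∃ (V : Type u) (_ : CommRing V) (_ : IsDomain V) (_ : IsDiscreteValuationRing V) (F : A →+* V),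
      Function.Injective F ∧ ∀ a ∈ IsLocalRing.maximalIdeal A, ¬ IsUnit (F a) := by
  obtain ⟨V, hV, hAV, hmV⟩ := Groth.Agent.S4433.result A hA (FractionRing A) (FractionRing A) (by
    refine ⟨∅, ?_⟩
    rw [Finset.coe_empty, IntermediateField.adjoin_empty, eq_comm]
    exact Subsingleton.elim _ _)
  let F : A →+* V :=
    { toFun := fun a => ⟨algebraMap A (FractionRing A) a, hAV a⟩
      map_one' := Subtype.ext (map_one _)
      map_mul' := fun a b => Subtype.ext (map_mul _ a b)
      map_zero' := Subtype.ext (map_zero _)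
      map_add' := fun a b => Subtype.ext (map_add _ a b) }
  refine ⟨V, inferInstance, inferInstance, hV, F, fun a b hab => IsFractionRing.injective A (FractionRing A)
    (congrArg Subtype.val hab :), fun a ha hu => (hmV a ha).ne ((V.valuation_eq_one_iff (F a)).1 hu)⟩

/-- Let R be a strictly henselian Noetherian local unique factorization domain and Δ₁, Δ₂ two non-units
of R with no common prime factor. Then there are a discrete valuation ring A and an injective local
homomorphism f : R → A — so that Spec A → Spec R sends the closed point to the closed point and the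
generic point to the generic point, which lies in every dense open subset — such that f(Δ₁) is a
non-zero non-unit and f(Δ₁) = u · f(Δ₂) for some unit u of A congruent to 1 modulo the maximal
ideal. (The published statement asks for the images of Δ₁ and Δ₂ in A to be equal, with the generic
point of Spec A sent into a given dense open subset of Spec R; that cannot hold in general — for R =
ℂ[[a,b]], Δ₁ = a, Δ₂ = b and the dense open D(a − b), any local map to a discrete valuation ring
identifying a and b sends the generic point into V(a − b) — so this row asks instead for f(Δ₁) = u ·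
f(Δ₂) with u a unit congruent to 1 modulo the maximal ideal.) -/
theorem result
    (R : Type u) [CommRing R] [IsDomain R] [IsNoetherianRing R] [UniqueFactorizationMonoid R]
    [HenselianLocalRing R] [IsSepClosed (IsLocalRing.ResidueField R)]
    (Δ₁ Δ₂ : R) (h₁ : ¬ IsUnit Δ₁) (h₂ : ¬ IsUnit Δ₂) (hcop : IsRelPrime Δ₁ Δ₂) :
    ∃ (A : Type u) (_ : CommRing A) (_ : IsDomain A) (_ : IsDiscreteValuationRing A) (f : R →+* A),
      IsLocalHom f ∧ Function.Injective f ∧ ¬ IsUnit (f Δ₁) ∧
        ∃ u : Aˣ, (u : A) - 1 ∈ IsLocalRing.maximalIdeal A ∧ f Δ₁ = (u : A) * f Δ₂ := by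
  classical
  have hm₁ : Δ₁ ∈ IsLocalRing.maximalIdeal R := h₁
  have hm₂ : Δ₂ ∈ IsLocalRing.maximalIdeal R := h₂
  have hd₁ : Δ₁ ≠ 0 := fun h0 => h₂ (hcop (h0 ▸ dvd_zero _) dvd_rfl)
  have hd₂ : Δ₂ ≠ 0 := fun h0 => h₁ (hcop dvd_rfl (h0 ▸ dvd_zero _))
  let K := FractionRing R
  let t : K := algebraMap R K Δ₁ / algebraMap R K Δ₂
  let φ : Polynomial R →ₐ[R] K := Polynomial.aeval t
  let B := φ.range
  let χ : Polynomial R →+* IsLocalRing.ResidueField R :=
    (IsLocalRing.residue R).comp (Polynomial.evalRingHom 1)
  have hker : RingHom.ker φ.rangeRestrict.toRingHom ≤ RingHom.ker χ := fun p hp => by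
    rw [RingHom.mem_ker] at hp ⊢
    have hp' : Polynomial.aeval t p = 0 := congrArg Subtype.val hp
    exact (IsLocalRing.residue_eq_zero_iff _).2
      (eval_one_mem hm₁ hm₂ hd₁ hd₂ hcop _ p (Nat.lt_succ_self _) hp')
  let ψ : B →+* IsLocalRing.ResidueField R :=
    RingHom.liftOfSurjective φ.rangeRestrict.toRingHom φ.rangeRestrict_surjective ⟨χ, hker⟩
  have hψ : ∀ p, ψ (φ.rangeRestrict p) = χ p := fun p =>
    RingHom.liftOfRightInverse_comp_apply _ _ _ _ p
  have : IsNoetherianRing B := isNoetherianRing_of_surjective _ _ φ.rangeRestrict.toRingHom φ.rangeRestrict_surjective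
  let P : Ideal B := RingHom.ker ψ
  have hP : P.IsPrime := RingHom.ker_isPrime _
  let A := Localization.AtPrime P
  have : IsDomain A := IsLocalization.isDomain_of_atPrime A P
  have : IsNoetherianRing A := IsLocalization.isNoetherianRing P.primeCompl A inferInstance
  let g : R →+* A := (algebraMap B A).comp (algebraMap R B)
  have hgB : Function.Injective (algebraMap B A) :=
    IsLocalization.injective A P.primeCompl_le_nonZeroDivisors
  have hg : Function.Injective g := hgB.comp fun a b hab =>
    IsFractionRing.injective R K (congrArg Subtype.val hab)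
  have hgm : ∀ a ∈ IsLocalRing.maximalIdeal R, g a ∈ IsLocalRing.maximalIdeal A := fun a ha => by
    refine (IsLocalization.AtPrime.to_map_mem_maximal_iff A P _).2 ?_
    show ψ (algebraMap R B a) = 0
    rw [← AlgHom.commutes φ.rangeRestrict, hψ, Polynomial.algebraMap_eq]
    show IsLocalRing.residue R (Polynomial.eval 1 (Polynomial.C a)) = 0
    rwa [Polynomial.eval_C, IsLocalRing.residue_eq_zero_iff]
  have hA : ¬ IsField A := fun hf => by
    have h0 := hgm Δ₁ hm₁
    rw [IsLocalRing.isField_iff_maximalIdeal_eq.1 hf, Ideal.mem_bot] at h0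
    exact hd₁ (hg (h0.trans (map_zero g).symm))
  obtain ⟨V, hVr, hVd, hV, F, hF, hloc⟩ := exists_dvr_hom A hA
  let T : A := algebraMap B A (φ.rangeRestrict Polynomial.X)
  have hT : T - 1 ∈ IsLocalRing.maximalIdeal A := by
    rw [show T - 1 = algebraMap B A (φ.rangeRestrict (Polynomial.X - 1)) by simp [T, map_sub]]
    refine (IsLocalization.AtPrime.to_map_mem_maximal_iff A P _).2 ?_
    show ψ _ = 0
    rw [hψ]
    simp [χ]
  have hTu : IsUnit T := by
    refine IsLocalization.map_units A (⟨φ.rangeRestrict Polynomial.X, fun hx => ?_⟩ : P.primeCompl)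
    have h1 : ψ (φ.rangeRestrict Polynomial.X) = 0 := hx
    rw [hψ] at h1
    simp [χ] at h1
  refine ⟨V, hVr, hVd, hV, F.comp g, ⟨fun a ha => ?_⟩, hF.comp hg,
    hloc _ (hgm _ hm₁), (hTu.map F).unit, ?_, ?_⟩
  · by_contra h
    exact hloc _ (hgm a h) ha
  · rw [IsUnit.unit_spec, ← map_one F, ← map_sub]
    exact hloc _ hT
  · show F (g Δ₁) = F T * F (g Δ₂)
    rw [← map_mul]
    refine congrArg F ?_
    show algebraMap B A (algebraMap R B Δ₁) = T * algebraMap B A (algebraMap R B Δ₂)
    rw [← map_mul]
    refine congrArg _ (Subtype.ext ?_)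
    show algebraMap R K Δ₁ = Polynomial.aeval t Polynomial.X * algebraMap R K Δ₂
    rw [Polynomial.aeval_X]
    exact (div_mul_cancel₀ _ ((_root_.map_ne_zero_iff _ (IsFractionRing.injective R K)).2 hd₂)).symm

end Groth.Agent.S13204
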