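import Groth.Statements.S13207
import Groth.Agent.L05.NbhdLimit.Sigma
-- import your own Groth.Agent.* helpers here

set_option autoImplicit false
universe u
open CategoryTheory CategoryTheory.Limits AlgebraicGeometry
open Neron

namespace Groth.Agent.S13207

/-- Let (S_i)_{i ∈ I} be a family of schemes, (N_i → S_i)_{i ∈ I} morphisms of schemes, S = ∐ S_i and N
= ∐ N_i with the induced morphism N → S, and U ⊆ S a schematically dense open subscheme with
preimages U_i ⊆ S_i. Then N → S is smooth with the Néron mapping property with respect to U — for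
every smooth S-scheme Y, restriction to U is a bijection from S-morphisms Y → N onto U-morphisms Y
×_S U → N ×_S U — if and only if every N_i → S_i is smooth with the Néron mapping property with
respect to U_i. (The published statement is for algebraic spaces N_i tested against smooth algebraic
spaces, and has the same form for separated models; this row is the not-necessarily-separated case
for schemes tested against smooth schemes.) -/
theorem result
    {I : Type u} (B N : I → Scheme.{u}) (f : ∀ i, N i ⟶ B i)
    (U : (∐ B).Opens) (hU : CInt.IsSchematicallyDense U) :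
    (Smooth (Limits.Sigma.map f) ∧ ∀ Y : Over (∐ B), Smooth Y.hom →
        Function.Bijective (fun g : Y ⟶ Over.mk (Limits.Sigma.map f) => (Over.pullback U.ι).map g)) ↔
    ∀ i, Smooth (f i) ∧ ∀ Y : Over (B i), Smooth Y.hom →
        Function.Bijective (fun g : Y ⟶ Over.mk (f i) => (Over.pullback ((Limits.Sigma.ι B i) ⁻¹ᵁ U).ι).map g) := by
  have key := Groth.L05.NbhdLimit.ext1_sigma_iff B N f U
  constructor
  · rintro ⟨hs, hmp⟩ i
    refine ⟨MorphismProperty.of_isPullback (P := @Smooth)
      (Groth.L05.NbhdLimit.isPullback_sigma_map B N f i) hs, fun Y hY => ?_⟩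
    refine (Groth.L05.NbhdLimit.bijective_iff_ext1 Y (Over.mk (f i))).2 ?_
    exact key.1 (fun {Z} h hh => (Groth.L05.NbhdLimit.bijective_iff_ext1 (Over.mk h)
      (Over.mk (Limits.Sigma.map f))).1 (hmp (Over.mk h) hh)) i Y.hom hY
  · intro H
    refine ⟨?_, fun Y hY => ?_⟩
    · refine IsZariskiLocalAtTarget.of_openCover (P := @Smooth) (sigmaOpenCover B) fun i => ?_
      have sq := (Groth.L05.NbhdLimit.isPullback_sigma_map B N f i)
      have hfi : Smooth (f i) := (H i).1
      show Smooth (pullback.snd (Limits.Sigma.map f) (Limits.Sigma.ι B i))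
      rw [← MorphismProperty.cancel_left_of_respectsIso (P := @Smooth) sq.isoPullback.hom,
        sq.isoPullback_hom_snd]
      exact hfi
    · refine (Groth.L05.NbhdLimit.bijective_iff_ext1 Y (Over.mk (Limits.Sigma.map f))).2 ?_
      exact key.2 (fun i {Z} h hh => (Groth.L05.NbhdLimit.bijective_iff_ext1 (Over.mk h)
        (Over.mk (f i))).1 ((H i).2 (Over.mk h) hh)) Y.hom hY

end Groth.Agent.S13207
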