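import Groth.Statements.S13209
import Groth.Agent.L23.Epi
import Groth.Prelude.Def_AlgSp3

set_option autoImplicit false
universe u
open CategoryTheory CategoryTheory.Limits AlgebraicGeometry
open Neron

namespace Groth.Agent.S13209

/-- Let S be a scheme, U ⊆ S a schematically dense open subscheme and N → S a smooth S-scheme with the
Néron mapping property for schemes with respect to U: for every smooth S-scheme Y, composition with
the projection Y ×_S U → Y is a bijection from S-morphisms Y → N onto S-morphisms Y ×_S U → N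
(equivalently, onto U-morphisms Y ×_S U → N ×_S U). Then N also has the Néron mapping property with
respect to smooth algebraic spaces: for every algebraic space F over S (an fppf sheaf of sets on
S-schemes with representable diagonal and an étale surjective chart from a scheme) whose structure
map to h_S is smooth, composition with the first projection F × h_U → F is a bijection from
morphisms of sheaves F → h_N onto morphisms F × h_U → h_N. -/
theorem result
    {S : Scheme.{u}} (U : S.Opens) (hU : CInt.IsSchematicallyDense U) (N : Over S) [Smooth N.hom]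
    (hN : ∀ Y : Over S, Smooth Y.hom →
      Function.Bijective (fun g : Y ⟶ N => (Over.mapPullbackAdj U.ι).counit.app Y ≫ g))
    (F : AlgSp.Sp S) (hF : AlgSp.IsAlgSpace F)
    (sF : F ⟶ (AlgSp.yon S).obj (Over.mk (𝟙 S))) (hsm : AlgSp.LocP @Smooth sF) :
    Function.Bijective (fun φ : F ⟶ (AlgSp.yon S).obj N =>
      (Limits.prod.fst : F ⨯ (AlgSp.yon S).obj (Over.mk U.ι) ⟶ F) ≫ φ) := by
  obtain ⟨V, a, hae, has⟩ := hF.atlas
  haveI := Groth.L23.epi_of_repWith a hae has
  obtain ⟨h, hh⟩ := (AlgSp.yon S).map_surjective (a ≫ sF)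
  have hV : Smooth V.hom := by
    haveI : Smooth h.left := hsm a (𝟙 _) h hae (Groth.L23.repWith_of_isIso _) (by rw [hh, Category.comp_id])
    rw [← Over.w h]
    exact MorphismProperty.comp_mem _ _ _ ‹Smooth h.left› (inferInstanceAs (Smooth (𝟙 S)))
  -- points of `Y × U` factor through the restriction of `Y`
  have hfac : ∀ (Y T : Over S) (t : T ⟶ Y) (u : T ⟶ (Over.mk U.ι : Over S)),
      ∃ k : T ⟶ (Over.map U.ι).obj ((Over.pullback U.ι).obj Y), k ≫ (Over.mapPullbackAdj U.ι).counit.app Y = t := by
    intro Y T t u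
    refine ⟨Over.homMk (pullback.lift t.left u.left ((Over.w t).trans (Over.w u).symm)) ?_, ?_⟩
    · change _ ≫ pullback.snd _ _ ≫ U.ι = _
      rw [pullback.lift_snd_assoc]; exact Over.w u
    · apply Over.OverMorphism.ext
      simp only [Over.comp_left, Over.mapPullbackAdj_counit_app]
      exact pullback.lift_fst _ _ _
  let uY : ∀ Y : Over S, (Over.map U.ι).obj ((Over.pullback U.ι).obj Y) ⟶ (Over.mk U.ι : Over S) :=
    fun Y => Over.homMk (pullback.snd Y.hom U.ι) rfl
  constructor
  · intro φ₁ φ₂ hφ
    obtain ⟨g₁, hg₁⟩ := (AlgSp.yon S).map_surjective (a ≫ φ₁)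
    obtain ⟨g₂, hg₂⟩ := (AlgSp.yon S).map_surjective (a ≫ φ₂)
    rw [← cancel_epi a, ← hg₁, ← hg₂]
    refine congrArg _ ((hN V hV).1 ((AlgSp.yon S).map_injective ?_))
    have h' := Limits.prod.lift ((AlgSp.yon S).map ((Over.mapPullbackAdj U.ι).counit.app V) ≫ a)
      ((AlgSp.yon S).map (uY V)) ≫= hφ
    simp only [prod.lift_fst_assoc, Category.assoc] at h'
    simp only [Functor.map_comp, hg₁, hg₂]
    simpa using h'
  · intro ψ
    obtain ⟨γ, hγ⟩ := (AlgSp.yon S).map_surjective (Limits.prod.lift
      ((AlgSp.yon S).map ((Over.mapPullbackAdj U.ι).counit.app V) ≫ a) ((AlgSp.yon S).map (uY V)) ≫ ψ)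
    obtain ⟨g, hg⟩ := (hN V hV).2 γ
    have key : ∀ (T : Over S) (t : T ⟶ V) (u : T ⟶ (Over.mk U.ι : Over S)),
        (AlgSp.yon S).map t ≫ (AlgSp.yon S).map g =
          Limits.prod.lift ((AlgSp.yon S).map t ≫ a) ((AlgSp.yon S).map u) ≫ ψ := by
      intro T t u
      obtain ⟨k, hk⟩ := hfac V T t u
      have hku : k ≫ uY V = u := by
        refine Over.OverMorphism.ext ?_
        rw [← cancel_mono U.ι]
        exact (Over.w (k ≫ uY V)).trans (Over.w u).symm
      rw [← hk, ← hku, ← Functor.map_comp, Category.assoc k, Functor.map_comp]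
      change _ ≫ (AlgSp.yon S).map _ = _
      rw [show (Over.mapPullbackAdj U.ι).counit.app V ≫ g = γ from hg, hγ, prod.comp_lift_assoc,
        Functor.map_comp, Functor.map_comp, Category.assoc]
    obtain ⟨W, p, q, sq⟩ := Groth.L23.exists_isPullback_of_representable hae.1 a
    have hW : Smooth W.hom := by
      haveI : Etale q.left := Groth.L23.repWith_prop hae sq
      rw [← Over.w q]
      infer_instance
    have hpq : p ≫ g = q ≫ g := by
      refine (hN W hW).1 ((AlgSp.yon S).map_injective ?_)
      dsimp only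
      rw [← Category.assoc, ← Category.assoc, Functor.map_comp _ _ g, Functor.map_comp _ _ g]
      refine (key _ _ (uY W)).trans (Eq.trans ?_ (key _ _ (uY W)).symm)
      rw [Functor.map_comp, Functor.map_comp, Category.assoc, Category.assoc, sq.w]
    obtain ⟨hc⟩ := Groth.L23.nonempty_isColimit_cofork a sq
    let φ := hc.desc (Cofork.ofπ ((AlgSp.yon S).map g) (by rw [← Functor.map_comp, hpq, Functor.map_comp]))
    have hφ : a ≫ φ = (AlgSp.yon S).map g := hc.fac _ WalkingParallelPair.one
    refine ⟨φ, Groth.L23.hom_ext_yon fun T x => ?_⟩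
    have sqT := hae.1.isPullback (x ≫ Limits.prod.fst)
    haveI := Groth.L23.epi_of_repWith _ (Groth.L23.repWith_of_isPullback sqT hae)
      (Groth.L23.repWith_of_isPullback sqT has)
    rw [← cancel_epi ((AlgSp.yon S).map (hae.1.snd (x ≫ Limits.prod.fst)))]
    obtain ⟨t, ht⟩ := (AlgSp.yon S).map_surjective (hae.1.fst (x ≫ Limits.prod.fst))
    obtain ⟨u, hu⟩ := (AlgSp.yon S).map_surjective (x ≫ Limits.prod.snd)
    have e : ((AlgSp.yon S).map t ≫ a) ≫ φ = Limits.prod.lift ((AlgSp.yon S).map t ≫ a)
        ((AlgSp.yon S).map (hae.1.snd (x ≫ Limits.prod.fst) ≫ u)) ≫ ψ := by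
      rw [Category.assoc, hφ]; exact key _ t _
    rw [ht, hae.1.w] at e
    refine (?_ : _ = _).trans (e.trans ?_)
    · simp
    · refine Eq.trans (congrArg (· ≫ ψ) ?_) (Category.assoc _ _ _)
      apply Limits.prod.hom_ext <;> simp [hu] <;> first | exact prod.lift_fst _ _ | exact prod.lift_snd _ _

end Groth.Agent.S13209
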