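import Groth.Statements.S13210
-- import your own Groth.Agent.* helpers here

set_option autoImplicit false
set_option backward.isDefEq.respectTransparency false
set_option backward.isDefEq.respectTransparency.types false
universe u
open CategoryTheory CategoryTheory.Limits AlgebraicGeometry
open AlgGrp

namespace Groth.Agent.S13210

/-- a sheaf with a representable monomorphism into an algebraic space is an algebraic space -/
theorem isAlgSpace_of_mono {S : Scheme.{u}} {F Z : AlgSp.Sp S} (hF : AlgSp.IsAlgSpace F) (i : Z ⟶ F) [Mono i]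
    (hi : AlgSp.Representable i) : AlgSp.IsAlgSpace Z where
  diag := by
    have sq : IsPullback i (diag Z) (diag F) (prod.map i i) := by
      refine IsPullback.of_isLimit' ⟨by simp [prod.comp_lift, prod.lift_map]⟩ ?_
      refine PullbackCone.IsLimit.mk _ (fun c => c.snd ≫ prod.fst) (fun c => ?_) (fun c => ?_) (fun c m h1 _ => ?_)
      · have h := congrArg (fun z => z ≫ prod.fst) c.condition
        simp only [Category.assoc, prod.lift_fst, prod.map_fst, Category.comp_id] at h
        simpa using h.symm
      · have h1 := congrArg (fun z => z ≫ prod.fst) c.condition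
        have h2 := congrArg (fun z => z ≫ prod.snd) c.condition
        simp only [Category.assoc, prod.lift_fst, prod.lift_snd, prod.map_fst, prod.map_snd,
          Category.comp_id] at h1 h2
        apply prod.hom_ext
        · simp
        · rw [← cancel_mono i]
          simp only [Category.assoc, prod.lift_snd, Category.comp_id]
          rw [← h2, h1]
      · rw [← cancel_mono i, h1, Category.assoc]
        have h := congrArg (fun z => z ≫ prod.fst) c.condition
        simp only [Category.assoc, prod.lift_fst, prod.map_fst, Category.comp_id] at h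
        exact h
    exact MorphismProperty.of_isPullback sq hF.diag
  atlas := by
    obtain ⟨U, p, h1, h2⟩ := hF.atlas
    obtain ⟨V, s, f, hV⟩ := hi p
    exact ⟨V, f, MorphismProperty.of_isPullback hV.flip h1, MorphismProperty.of_isPullback hV.flip h2⟩

/-- the common fixed locus of finitely many endomorphisms of a separated sheaf -/
theorem exists_fixed {S : Scheme.{u}} {F : AlgSp.Sp S} (hsep : AlgSp.IsSeparatedSp F)
    {G : Type u} (ρ : G → (F ⟶ F)) (s : List G) :
    ∃ (Z : AlgSp.Sp S) (i : Z ⟶ F), AlgSp.RepWith @IsClosedImmersion i ∧ Mono i ∧ (∀ g ∈ s, i ≫ ρ g = i) ∧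
      ∀ (W : AlgSp.Sp S) (x : W ⟶ F), (∀ g ∈ s, x ≫ ρ g = x) → ∃ z : W ⟶ Z, z ≫ i = x := by
  induction s with
  | nil => exact ⟨F, 𝟙 F, MorphismProperty.id_mem _ F, inferInstance, by simp, fun W x _ => ⟨x, by simp⟩⟩
  | cons g s ih =>
    obtain ⟨Z, i, hrep, hm, hfix, hu⟩ := ih
    let t : Z ⟶ F ⨯ F := prod.lift i (i ≫ ρ g)
    refine ⟨pullback t (diag F), pullback.fst t (diag F) ≫ i,
      MorphismProperty.comp_mem _ _ _ (MorphismProperty.pullback_fst _ _ hsep) hrep, mono_comp _ _, ?_, ?_⟩
    · intro a ha
      rcases List.mem_cons.1 ha with rfl | ha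
      · have h := pullback.condition (f := t) (g := diag F)
        have h1 := congrArg (fun z => z ≫ prod.fst) h
        have h2 := congrArg (fun z => z ≫ prod.snd) h
        simp only [t, Category.assoc, prod.lift_fst, prod.lift_snd, Category.comp_id] at h1 h2
        rw [Category.assoc, h2, h1]
      · rw [Category.assoc, hfix a ha]
    · intro W x hx
      obtain ⟨z, hz⟩ := hu W x fun a ha => hx a (List.mem_cons_of_mem _ ha)
      refine ⟨pullback.lift z x ?_, by rw [pullback.lift_fst_assoc]; exact hz⟩
      apply prod.hom_ext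
      · simp [t, hz]
      · simp [t, reassoc_of% hz, hx g List.mem_cons_self]

/-- Let S be a scheme, F an algebraic space over S which is separated over S, and G a finite group
acting on F by S-automorphisms. If i : Z → F exhibits the fppf sheaf Z as the sub-sheaf of G-fixed
points of F (i is G-invariant and every G-invariant morphism W → F factors uniquely through i), then
Z is an algebraic space and i is a closed immersion (representable by closed immersions). (The
published statement also treats a locally separated F, whose fixed points form a subspace, and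
compatibility with base change; this row states only the separated case.) -/
theorem result
    {S : Scheme.{u}} (F : AlgSp.Sp S) (hF : AlgSp.IsAlgSpace F) (hsep : AlgSp.IsSeparatedSp F)
    (G : Type u) [Group G] [Finite G] (ρ : G →* Aut F)
    (Z : AlgSp.Sp S) (i : Z ⟶ F) (hi : ∀ g : G, i ≫ (ρ g).hom = i)
    (huniv : ∀ (W : AlgSp.Sp S) (x : W ⟶ F), (∀ g : G, x ≫ (ρ g).hom = x) → ∃! z : W ⟶ Z, z ≫ i = x) :
    AlgSp.IsAlgSpace Z ∧ AlgSp.RepWith @IsClosedImmersion i := by
  obtain ⟨s, hs⟩ : ∃ s : List G, ∀ g, g ∈ s := by
    have := Fintype.ofFinite G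
    exact ⟨Finset.univ.toList, fun g => by simp⟩
  obtain ⟨Z', i', hrep, hm, hfix, hu⟩ := exists_fixed hsep (fun g => (ρ g).hom) s
  obtain ⟨z, hz⟩ := hu Z i fun g _ => hi g
  obtain ⟨w, hw, -⟩ := huniv Z' i' fun g => hfix g (hs g)
  have hwz : w ≫ z = 𝟙 Z' := by rw [← cancel_mono i', Category.assoc, hz, hw, Category.id_comp]
  have hzw : z ≫ w = 𝟙 Z :=
    (huniv Z i hi).unique (by rw [Category.assoc, hw, hz]) (Category.id_comp i)
  let e : Z ≅ Z' := ⟨z, w, hzw, hwz⟩
  refine ⟨(isAlgSpace_of_mono hF i' hrep.1).of_iso e.symm, ?_⟩
  rw [← hz]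
  have : IsIso z := ⟨w, hzw, hwz⟩
  exact (MorphismProperty.cancel_left_of_respectsIso (AlgSp.RepWith @IsClosedImmersion) z i').mpr hrep

end Groth.Agent.S13210
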