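import Groth.Statements.S1323
import Groth.Agent.L20.ThickeningFlat
import Groth.Agent.S1312

set_option autoImplicit false
universe u
open FlatMor

namespace Groth.Agent.S1323

open AlgebraicGeometry CategoryTheory Limits in
/-- Let S ⟶ S' be a finite order thickening, let X' ⟶ Y' be a morphism of schemes over S' with X' flat
over S', and let X ⟶ Y be its base change to S. Then X ⟶ Y is finite locally free of rank d if and
only if X' ⟶ Y' is. -/
theorem result (d : ℕ) {X X' Y Y' S S' : Scheme.{u}} (iX : X ⟶ X') (iY : Y ⟶ Y') (iS : S ⟶ S')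
    (f : X ⟶ Y) (f' : X' ⟶ Y') (g : Y ⟶ S) (g' : Y' ⟶ S')
    (hS : MoreMor.IsFiniteOrderThickening iS) (hcX : IsPullback iX (f ≫ g) (f' ≫ g') iS) (hcY : IsPullback iY g g' iS)
    (w : iX ≫ f' = f ≫ iY) [Flat (f' ≫ g')] :
    Mor2.IsFinLocFreeOfDeg d f ↔ Mor2.IsFinLocFreeOfDeg d f' := by
  obtain ⟨hc, hY⟩ := Groth.L20.Thick.deform_setting hS hcX hcY w
  have := hS.1.1
  constructor
  · rintro ⟨⟨hfin, hflat, hfp⟩, hd⟩
    have hX : MoreMor.IsThickening iX := Groth.L20.Thick.isThickening_of_isPullback hY.1 hc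
    obtain ⟨_, _⟩ := hY.1
    have hXci : IsClosedImmersion iX := hX.1
    have hXs : Surjective iX := hX.2
    have : Flat f' := Groth.L20.Thick.flat_of_deform hS.2 hcX hcY w
    have : LocallyOfFinitePresentation f' := Groth.L20.Thick.locallyOfFinitePresentation_of_deform hS.2 hcX hcY w
    have : IsSeparated (iX ≫ f') := by rw [hc.w]; infer_instance
    have : IsSeparated f' := Groth.L20.Thick.isSeparated_of_comp_surjective iX f'
    have : UniversallyClosed f' := Groth.L20.Thick.universallyClosed_of_thickening hY.1 hX hc.w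
    have : LocallyQuasiFinite f' := (Groth.Agent.S1312.result iX iY f f' hY.1 hc).mp inferInstance
    have : IsProper f' := {}
    have : IsFinite f' := IsFinite.of_isProper_of_locallyQuasiFinite f'
    refine ⟨⟨inferInstance, inferInstance, inferInstance⟩, fun y' => ?_⟩
    obtain ⟨y, rfl⟩ := iY.surjective y'
    rw [← hd y, Scheme.Hom.finrank_of_isPullback iX f f' iY hc y]
  · rintro ⟨⟨hfin, hflat, hfp⟩, hd⟩
    have h1 : IsFinite f := MorphismProperty.of_isPullback hc hfin
    have h2 : Flat f := MorphismProperty.of_isPullback hc hflat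
    have h3 : LocallyOfFinitePresentation f := MorphismProperty.of_isPullback hc hfp
    exact ⟨⟨h1, h2, h3⟩, fun y => by rw [Scheme.Hom.finrank_of_isPullback iX f f' iY hc y, hd]⟩

end Groth.Agent.S1323
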