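import Groth.Statements.S1325
import Groth.Agent.L07.SectionCompSpread

set_option autoImplicit false
set_option linter.style.haveILetI false
universe u
open FlatMor

namespace Groth.Agent.S1325

open AlgebraicGeometry CategoryTheory Limits in
/-- Let f be of finite type with a section s and let y be a point of the target. Then there is a subset
V of the closure of y, open in that closure and containing y (equivalently nonempty), such that the
trace of the section components of (f, s) on the preimage of V is open and closed in that preimage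
(with the subspace topology, which is the topology of the base change to the locally closed
subscheme V). -/
theorem result {X Y : Scheme.{u}} (f : X ⟶ Y) (s : Y ⟶ X) (hs : s ≫ f = 𝟙 Y)
    [LocallyOfFiniteType f] [QuasiCompact f] (y : Y) :
    ∃ V : Set ↑Y, V ⊆ closure {y} ∧ y ∈ V ∧ IsOpen (Subtype.val ⁻¹' V : Set ↑(closure ({y} : Set ↑Y))) ∧
      IsClopen (Subtype.val ⁻¹' MoreMor.sectionComponents f s : Set ↑(f ⁻¹' V)) := by
  obtain ⟨O, hy, C, R, hC, hR, hiff⟩ := Groth.L07.SectionComp.exists_piece_clopen f s hs y
  refine ⟨(O : Set ↑Y) ∩ closure {y}, Set.inter_subset_right, ⟨hy, subset_closure rfl⟩, ?_, ?_, ?_⟩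
  · rw [Set.preimage_inter, Subtype.coe_preimage_self, Set.inter_univ]
    exact O.isOpen.preimage continuous_subtype_val
  · have e : (Subtype.val ⁻¹' MoreMor.sectionComponents f s : Set ↑(f ⁻¹' ((O : Set ↑Y) ∩ closure {y}))) =
        Subtype.val ⁻¹' C := Set.ext fun x => (hiff x.1 x.2.1 x.2.2).1
    rw [e]
    exact hC.preimage continuous_subtype_val
  · have e : (Subtype.val ⁻¹' MoreMor.sectionComponents f s : Set ↑(f ⁻¹' ((O : Set ↑Y) ∩ closure {y})))ᶜ =
        Subtype.val ⁻¹' R := Set.ext fun x =>
      ⟨fun hx => (hiff x.1 x.2.1 x.2.2).2.mpr fun h => hx ((hiff x.1 x.2.1 x.2.2).1.mpr h),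
        fun hx h => (hiff x.1 x.2.1 x.2.2).2.mp hx ((hiff x.1 x.2.1 x.2.2).1.mp h)⟩
    rw [← isClosed_compl_iff, e]
    exact hR.preimage continuous_subtype_val

end Groth.Agent.S1325
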