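import Groth.Statements.S1328
import Groth.Agent.L07.Spread.Pieces

set_option autoImplicit false
set_option linter.style.haveILetI false
universe u
open FlatMor

namespace Groth.Agent.S1328

open AlgebraicGeometry CategoryTheory Limits in
/-- Let f be of finite type with irreducible target. If the generic fibre has exactly n irreducible
components, then over some nonempty open of the target every fibre has at least n irreducible
components. -/
theorem result {X Y : Scheme.{u}} (f : X ⟶ Y) [IrreducibleSpace ↑Y] [LocallyOfFiniteType f] [QuasiCompact f] (n : ℕ)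
    (h : (irreducibleComponents ↑(f.fiber (genericPoint ↑Y))).encard = n) :
    ∃ V : Y.Opens, (V : Set ↑Y).Nonempty ∧ ∀ y ∈ V, (n : ℕ∞) ≤ (irreducibleComponents ↑(f.fiber y)).encard := by
  let Xη := f.fiber (genericPoint ↑Y)
  let ι := f.fiberι (genericPoint ↑Y)
  have hfin : (irreducibleComponents ↑Xη).Finite := Set.finite_of_encard_eq_coe h
  haveI : Finite (irreducibleComponents ↑Xη) := hfin.to_subtype
  have hcl : ∀ S : Set ↑Xη, ι ⁻¹' closure (ι '' S) = closure S := fun S =>
    (ι.isEmbedding.isInducing.closure_eq_preimage_closure_image S).symm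
  obtain ⟨V, hξ, hcov, hown⟩ := Groth.L07.Spread.exists_opens_irredundant f
    (fun T : irreducibleComponents ↑Xη => closure (ι '' (T : Set ↑Xη))) (fun T => isClosed_closure)
    (fun x hx => by
      obtain ⟨z, rfl⟩ : x ∈ Set.range ι := by rw [f.range_fiberι]; exact hx
      exact ⟨⟨_, irreducibleComponent_mem_irreducibleComponents z⟩,
        subset_closure ⟨z, mem_irreducibleComponent, rfl⟩⟩)
    (fun T => by
      obtain ⟨g, hg⟩ : ∃ g, closure {g} = (T : Set ↑Xη) :=
        ⟨_, T.2.1.isGenericPoint_genericPoint (isClosed_of_mem_irreducibleComponents _ T.2)⟩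
      refine ⟨ι g, (Set.ext_iff.mp (f.range_fiberι _) _).mp ⟨g, rfl⟩, fun S hS hmem => hS ?_⟩
      have hgS : g ∈ (S : Set ↑Xη) := by
        rw [← (isClosed_of_mem_irreducibleComponents _ S.2).closure_eq, ← hcl]
        exact hmem
      refine Subtype.ext (le_antisymm (T.2.2 S.2.1 ?_) ?_)
      · rw [← hg]
        exact closure_minimal (Set.singleton_subset_iff.mpr hgS) (isClosed_of_mem_irreducibleComponents _ S.2)
      · rw [← hg]
        exact closure_minimal (Set.singleton_subset_iff.mpr hgS) (isClosed_of_mem_irreducibleComponents _ S.2))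
  refine ⟨V, ⟨_, hξ⟩, fun y hy => ?_⟩
  rw [← h]
  have hpick : ∀ T : irreducibleComponents ↑Xη, ∃ R : irreducibleComponents ↑(f.fiber y),
      ∀ S : irreducibleComponents ↑Xη, (R : Set ↑(f.fiber y)) ⊆ f.fiberι y ⁻¹' closure (ι '' (S : Set ↑Xη)) → S = T := by
    intro T
    obtain ⟨w, hwy, -, hw⟩ := hown y hy T
    obtain ⟨z, rfl⟩ : w ∈ Set.range (f.fiberι y) := by rw [f.range_fiberι]; exact hwy
    refine ⟨⟨_, irreducibleComponent_mem_irreducibleComponents z⟩, fun S hS => ?_⟩
    by_contra hne
    exact hw S hne (hS mem_irreducibleComponent)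
  choose R hR using hpick
  have hsub : ∀ R' : irreducibleComponents ↑(f.fiber y), ∃ S : irreducibleComponents ↑Xη,
      (R' : Set ↑(f.fiber y)) ⊆ f.fiberι y ⁻¹' closure (ι '' (S : Set ↑Xη)) := by
    intro R'
    cases nonempty_fintype (irreducibleComponents ↑Xη)
    classical
    obtain ⟨_, hz, hsub⟩ := isIrreducible_iff_sUnion_isClosed.mp R'.2.1
      (Finset.univ.image fun S : irreducibleComponents ↑Xη => f.fiberι y ⁻¹' closure (ι '' (S : Set ↑Xη)))
      (fun z hz => by
        obtain ⟨S, -, rfl⟩ := Finset.mem_image.mp hz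
        exact isClosed_closure.preimage (f.fiberι y).continuous)
      (fun z _ => by
        obtain ⟨S, hS⟩ := hcov (f.fiberι y z) (by
          rw [show f (f.fiberι y z) = y from (Set.ext_iff.mp (f.range_fiberι y) _).mp ⟨z, rfl⟩]; exact hy)
        exact Set.mem_sUnion.mpr ⟨_, Finset.mem_coe.mpr (Finset.mem_image.mpr ⟨S, Finset.mem_univ S, rfl⟩), hS⟩)
    obtain ⟨S, -, rfl⟩ := Finset.mem_image.mp hz
    exact ⟨S, hsub⟩
  refine Function.Embedding.encard_le ⟨R, fun T T' hTT => ?_⟩
  obtain ⟨S, hS⟩ := hsub (R T)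
  rw [← hR T S hS, hR T' S (hTT ▸ hS)]

end Groth.Agent.S1328
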