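import Groth.Statements.S1329
import Groth.Agent.L07.Spread.Pieces

set_option autoImplicit false
set_option linter.style.haveILetI false
universe u
open FlatMor

namespace Groth.Agent.S1329

open AlgebraicGeometry CategoryTheory Limits in
/-- Let f be of finite type with irreducible target. If the generic fibre has exactly n connected
components, then over some nonempty open of the target every fibre has at least n connected
components. -/
theorem result {X Y : Scheme.{u}} (f : X ⟶ Y) [IrreducibleSpace ↑Y] [LocallyOfFiniteType f] [QuasiCompact f] (n : ℕ)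
    (h : ENat.card (_root_.ConnectedComponents ↑(f.fiber (genericPoint ↑Y))) = n) :
    ∃ V : Y.Opens, (V : Set ↑Y).Nonempty ∧ ∀ y ∈ V, (n : ℕ∞) ≤ ENat.card (_root_.ConnectedComponents ↑(f.fiber y)) := by
  let Xη := f.fiber (genericPoint ↑Y)
  let ι := f.fiberι (genericPoint ↑Y)
  haveI : Finite (_root_.ConnectedComponents ↑Xη) := ENat.card_lt_top.mp (h ▸ ENat.natCast_lt_top n)
  let D : _root_.ConnectedComponents ↑Xη → Set ↑Xη := fun c => ConnectedComponents.mk ⁻¹' {c}
  have hD : ∀ c, IsClosed (D c) := fun c => by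
    obtain ⟨z, rfl⟩ := ConnectedComponents.surjective_coe c
    show IsClosed (ConnectedComponents.mk ⁻¹' {ConnectedComponents.mk z})
    rw [connectedComponents_preimage_singleton]
    exact isClosed_connectedComponent
  have hcl : ∀ c, ι ⁻¹' closure (ι '' D c) = D c := fun c =>
    ((ι.isEmbedding.isInducing.closure_eq_preimage_closure_image (D c)).symm).trans (hD c).closure_eq
  obtain ⟨V, hξ, hcov, hown⟩ := Groth.L07.Spread.exists_opens_irredundant f
    (fun c => closure (ι '' D c)) (fun c => isClosed_closure)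
    (fun x hx => by
      obtain ⟨z, rfl⟩ : x ∈ Set.range ι := by rw [f.range_fiberι]; exact hx
      exact ⟨ConnectedComponents.mk z, subset_closure ⟨z, rfl, rfl⟩⟩)
    (fun c => by
      obtain ⟨g, rfl⟩ := ConnectedComponents.surjective_coe c
      refine ⟨ι g, (Set.ext_iff.mp (f.range_fiberι _) _).mp ⟨g, rfl⟩, fun d hd hmem => hd ?_⟩
      have : g ∈ D d := by rw [← hcl]; exact hmem
      exact this.symm)
  choose Vd hξd hVd using fun q : {q : _root_.ConnectedComponents ↑Xη × _root_.ConnectedComponents ↑Xη // q.1 ≠ q.2} =>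
    Groth.L07.Spread.exists_opens_disjoint_of_generic f (closure (ι '' D q.1.1) ∩ closure (ι '' D q.1.2))
      (isClosed_closure.inter isClosed_closure) (fun x hx hfx => by
        obtain ⟨z, rfl⟩ : x ∈ Set.range ι := by rw [f.range_fiberι]; exact hfx
        have h1 : z ∈ D q.1.1 := by rw [← hcl]; exact hx.1
        have h2 : z ∈ D q.1.2 := by rw [← hcl]; exact hx.2
        exact q.2 (h1.symm.trans h2))
  refine ⟨⟨(V : Set ↑Y) ∩ ⋂ q, (Vd q : Set ↑Y), V.isOpen.inter (isOpen_iInter_of_finite fun q => (Vd q).isOpen)⟩,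
    ⟨_, hξ, Set.mem_iInter.mpr hξd⟩, fun y hy => ?_⟩
  have hfy : ∀ z, f (f.fiberι y z) = y := fun z => (Set.ext_iff.mp (f.range_fiberι y) _).mp ⟨z, rfl⟩
  have huniq : ∀ z c d, f.fiberι y z ∈ closure (ι '' D c) → f.fiberι y z ∈ closure (ι '' D d) → c = d := by
    intro z c d hc hd
    by_contra hne
    exact hVd ⟨(c, d), hne⟩ _ ⟨hc, hd⟩ ((hfy z).symm ▸ Set.mem_iInter.mp hy.2 ⟨(c, d), hne⟩)
  choose idx hidx using fun z => hcov (f.fiberι y z) ((hfy z).symm ▸ hy.1)
  have hpre : ∀ c, idx ⁻¹' {c} = f.fiberι y ⁻¹' closure (ι '' D c) := fun c => Set.ext fun z =>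
    ⟨fun hz => (hz : idx z = c) ▸ hidx z, fun hz => huniq z _ _ (hidx z) hz⟩
  have hlc : IsLocallyConstant idx := IsLocallyConstant.iff_isOpen_fiber.mpr fun c => by
    rw [← isClosed_compl_iff, ← Set.preimage_compl]
    rw [← Set.biUnion_of_singleton ({c}ᶜ : Set (_root_.ConnectedComponents ↑Xη)), Set.preimage_iUnion₂]
    exact Set.Finite.isClosed_biUnion (Set.toFinite _) fun d _ => by
      rw [hpre]; exact isClosed_closure.preimage (f.fiberι y).continuous
  have hsurj : Function.Surjective idx := fun c => by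
    obtain ⟨w, hwy, hwc, -⟩ := hown y hy.1 c
    obtain ⟨z, rfl⟩ : w ∈ Set.range (f.fiberι y) := by rw [f.range_fiberι]; exact hwy
    exact ⟨z, huniq z _ _ (hidx z) hwc⟩
  rw [← h]
  have : ∀ a b, ConnectedComponents.mk a = ConnectedComponents.mk b → idx a = idx b := fun a b hab =>
    hlc.apply_eq_of_isPreconnected isPreconnected_connectedComponent mem_connectedComponent
      ((ConnectedComponents.coe_eq_coe'.mp hab.symm))
  choose r hr using hsurj
  refine ENat.card_le_card_of_injective (f := fun c => ConnectedComponents.mk (r c)) fun c d hcd => ?_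
  rw [← hr c, ← hr d]
  exact this _ _ hcd

end Groth.Agent.S1329
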