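import Groth.Statements.S13336
import Groth.Agent.L17.FSheaf.AdjIso

set_option autoImplicit false
open CategoryTheory CategoryTheory.Limits
universe u
open FCompl

namespace Groth.Agent.S13336

open AlgebraicGeometry in
/-- On a locally Noetherian formal scheme presented as an adic system of locally Noetherian thickenings
with common underlying space, let (F_k) be a system of coherent modules on the levels with
compatible transition isomorphisms and 𝔉 the limit of their direct images. For every k the morphism
u_k^* 𝔉 → F_k adjoint to the projection 𝔉 → (u_k)_* F_k is an isomorphism, so that the system of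
inverse images of 𝔉 to the levels is isomorphic to the given system. -/
theorem result (𝔛 : FSch.Sys.{u}) (h𝔛 : 𝔛.IsLocNoethFormal) (𝔐 : FSch.ModSys 𝔛)
    (h𝔐 : 𝔐.IsCoh) (k : ℕ) :
    IsIso (((FSch.levelMor 𝔛 h𝔛.1 k).adj.homEquiv _ _).symm (FSch.realProj 𝔛 h𝔛.1 𝔐.F 𝔐.toPush k)) := by
  exact Groth.L17.FSheaf.isIso_adjoint_realProj 𝔛 h𝔛 h𝔐 k
end Groth.Agent.S13336
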