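import Groth.Statements.S13339
import Groth.Agent.L17.FSheaf.CompPull
import Groth.Agent.S3854

set_option autoImplicit false
open CategoryTheory CategoryTheory.Limits
universe u
open FCompl

namespace Groth.Agent.S13339

open AlgebraicGeometry in
/-- Let X be a locally Noetherian scheme, 𝓘 a quasi-coherent ideal sheaf, X̂ the completion of X along 𝓘
(the system of the closed subschemes X_k of the powers of 𝓘, as a ringed space u : X̂ → X with
structure sheaf lim O_{X_k}) and F a coherent O_X-module with completion F̂ = lim_k (u_k)_* i_k^* F.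
The canonical morphism γ^♯ : u^* F → F̂ is an isomorphism; it is pinned here as the isomorphism e
whose adjoint F → u_* F̂ has k-th component the unit F → (i_k)_* i_k^* F for every k. -/
theorem result (X : Scheme.{u}) [IsLocallyNoetherian X] (𝓘 : X.IdealSheafData)
    (h : (FSch.completionAlong X 𝓘).IsFormal) (F : X.Modules) (hF : Coh.IsCoh F) :
    ∃ e : (FSch.toSchemeMor (FSch.completionAlong X 𝓘) h (FSch.completionToX X 𝓘) (FSch.completionToX_comm X 𝓘)).pull.obj F ≅
        (FSch.complMod 𝓘 F).realMod h,
      ∀ k, ((FSch.toSchemeMor (FSch.completionAlong X 𝓘) h (FSch.completionToX X 𝓘) (FSch.completionToX_comm X 𝓘)).adj.homEquiv _ _ e.hom) ≫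
          (FSch.toSchemeMor (FSch.completionAlong X 𝓘) h (FSch.completionToX X 𝓘) (FSch.completionToX_comm X 𝓘)).push.map
            (FSch.realProj (FSch.completionAlong X 𝓘) h (FSch.complMod 𝓘 F).F (FSch.complMod 𝓘 F).toPush k) =
        (Scheme.Modules.pullbackPushforwardAdjunction (FSch.completionToX X 𝓘 k)).unit.app F ≫
          (FSch.schPushCompare (FSch.completionAlong X 𝓘) h (FSch.completionToX X 𝓘) (FSch.completionToX_comm X 𝓘) k).app _ := by
  exact Groth.L17.FSheaf.exists_pull_iso_pullSys (FSch.completionAlong X 𝓘) (FSch.completionToX X 𝓘)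
    (FSch.completionToX_comm X 𝓘) F (Groth.Agent.S3854.result X 𝓘) hF

end Groth.Agent.S13339
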