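import Groth.Statements.S13340
import Groth.Agent.L17.FSheaf.CompExact

set_option autoImplicit false
open CategoryTheory CategoryTheory.Limits
universe u
open FCompl

namespace Groth.Agent.S13340

open AlgebraicGeometry in
/-- Let X be a locally Noetherian scheme, 𝓘 a quasi-coherent ideal sheaf and X̂ the completion of X
along 𝓘 (the system of the closed subschemes of the powers of 𝓘, as a ringed space with structure
sheaf lim O_{X_k}). Completion F ↦ F̂ = lim_k (u_k)_* i_k^* F of coherent O_X-modules is exact: for
a short exact sequence 0 → F' → F → F'' → 0 of coherent modules the induced sequence of completed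
O_X̂-modules has zero composite and is short exact. -/
theorem result (X : Scheme.{u}) [IsLocallyNoetherian X] (𝓘 : X.IdealSheafData)
    (h : (FSch.completionAlong X 𝓘).IsFormal) (S : ShortComplex X.Modules) (hS : S.ShortExact)
    (h1 : Coh.IsCoh S.X₁) (h2 : Coh.IsCoh S.X₂) (h3 : Coh.IsCoh S.X₃) :
    FSch.ModSys.realModMap h (FSch.complModMap 𝓘 S.f) ≫ FSch.ModSys.realModMap h (FSch.complModMap 𝓘 S.g) = 0 ∧
      ∀ w : FSch.ModSys.realModMap h (FSch.complModMap 𝓘 S.f) ≫ FSch.ModSys.realModMap h (FSch.complModMap 𝓘 S.g) = 0,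
        (ShortComplex.mk _ _ w).ShortExact := by
  exact ⟨Groth.L17.FSheaf.realModMap_complModMap_comp 𝓘 h S,
    Groth.L17.FSheaf.shortExact_complMod 𝓘 h S hS h1 h2 h3⟩
end Groth.Agent.S13340
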