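import Groth.Statements.S13341
import Mathlib.AlgebraicGeometry.Morphisms.Separated
import Mathlib.AlgebraicGeometry.Morphisms.ClosedImmersion

set_option autoImplicit false
set_option linter.style.haveILetI false
open CategoryTheory
universe u
open FCompl

namespace Groth.Agent.S13341

open AlgebraicGeometry Limits in
theorem isPullback_graph {A A' Y Y' Z Z' : Scheme.{u}} (p : A ⟶ Z) (q : Y ⟶ Z) (p' : A' ⟶ Z') (q' : Y' ⟶ Z')
    (a : A ⟶ A') [Mono a] (y : Y ⟶ Y') [Mono y] (f : A ⟶ Y) (f' : A' ⟶ Y') (hf : f ≫ y = a ≫ f')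
    (g : A ⟶ pullback p q) (hg₁ : g ≫ pullback.fst p q = 𝟙 A) (hg₂ : g ≫ pullback.snd p q = f)
    (g' : A' ⟶ pullback p' q') (hg'₁ : g' ≫ pullback.fst p' q' = 𝟙 A') (hg'₂ : g' ≫ pullback.snd p' q' = f')
    (i : pullback p q ⟶ pullback p' q') (hi₁ : i ≫ pullback.fst p' q' = pullback.fst p q ≫ a)
    (hi₂ : i ≫ pullback.snd p' q' = pullback.snd p q ≫ y) (hc : g ≫ i = a ≫ g') :
    IsPullback a g g' i := by
  refine ⟨⟨hc.symm⟩, ⟨PullbackCone.IsLimit.mk _ (fun s => s.snd ≫ pullback.fst p q) (fun s => ?_) (fun s => ?_)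
    (fun s m h1 h2 => ?_)⟩⟩
  · have h := congrArg (· ≫ pullback.fst p' q') s.condition
    simp only [Category.assoc, hg'₁, Category.comp_id, hi₁] at h
    rw [Category.assoc, h]
  · have h := congrArg (· ≫ pullback.fst p' q') s.condition
    have h' := congrArg (· ≫ pullback.snd p' q') s.condition
    simp only [Category.assoc, hg'₁, Category.comp_id, hi₁] at h
    simp only [Category.assoc, hg'₂, hi₂] at h'
    apply pullback.hom_ext
    · simp [hg₁]
    · rw [← cancel_mono y]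
      simp only [Category.assoc, hg₂, hf]
      rw [← h', h, Category.assoc, Category.assoc]
  · rw [← cancel_mono a]
    have h := congrArg (· ≫ pullback.fst p' q') s.condition
    simp only [Category.assoc, hg'₁, Category.comp_id, hi₁] at h
    rw [h1, Category.assoc, h]

open AlgebraicGeometry Limits in
theorem isClosedImmersion_graph {A Y Z : Scheme.{u}} (p : A ⟶ Z) (q : Y ⟶ Z) [IsSeparated q]
    (g : A ⟶ pullback p q) (hg₁ : g ≫ pullback.fst p q = 𝟙 A) : IsClosedImmersion g := by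
  haveI : IsClosedImmersion (g ≫ pullback.fst p q) := by rw [hg₁]; infer_instance
  exact IsClosedImmersion.of_comp g (pullback.fst p q)

open AlgebraicGeometry in
/-- Formal schemes are presented as locally Noetherian adic systems of thickenings and the fibre product
is taken levelwise (it presents the fibre product of formal schemes since one factor is adic over
the base). Let 𝔖 be a locally Noetherian formal system, 𝔛 and 𝔜 locally Noetherian formal systems
over 𝔖 such that 𝔛 or 𝔜 is of finite type over 𝔖, and 𝔜 separated over 𝔖 at level 0. Then for every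
𝔖-morphism f : 𝔛 → 𝔜 the graph morphism 𝔛 → 𝔛 ×_𝔖 𝔜 is a closed immersion: adic, with level 0 a
closed immersion. -/
theorem result {𝔛 𝔜 𝔖 : FSch.Sys.{u}} (h𝔖 : 𝔖.IsLocNoethFormal) (h𝔛 : 𝔛.IsLocNoethFormal)
    (h𝔜 : 𝔜.IsLocNoethFormal) (p : 𝔛 ⟶ 𝔖) (q : 𝔜 ⟶ 𝔖) (hpq : FSch.IsFiniteTypeHom p ∨ FSch.IsFiniteTypeHom q)
    (hq : IsSeparated ((q : FSch.Hom 𝔜 𝔖).app 0)) (f : 𝔛 ⟶ 𝔜) (w : f ≫ q = p) :
    FSch.IsClosedImmHom (FSch.graph f p q w) := by
  refine ⟨fun n => ?_, ?_⟩
  · haveI : IsClosedImmersion (𝔜.ι n) := (h𝔜.1 n).1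
    haveI : IsClosedImmersion (𝔛.ι n) := (h𝔛.1 n).1
    exact isPullback_graph _ _ _ _ (𝔛.ι n) (𝔜.ι n) _ _ ((f : FSch.Hom 𝔛 𝔜).comm n) _
      (Limits.pullback.lift_fst _ _ _) (Limits.pullback.lift_snd _ _ _) _ (Limits.pullback.lift_fst _ _ _)
      (Limits.pullback.lift_snd _ _ _) _ (Limits.pullback.lift_fst _ _ _) (Limits.pullback.lift_snd _ _ _)
      ((FSch.graph f p q w : FSch.Hom _ _).comm n)
  · haveI := hq
    exact isClosedImmersion_graph ((p : FSch.Hom 𝔛 𝔖).app 0) ((q : FSch.Hom 𝔜 𝔖).app 0) _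
      (Limits.pullback.lift_fst _ _ _)

end Groth.Agent.S13341
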