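import Groth.Statements.S13349
import Groth.Agent.L09.FCompl.Main

set_option autoImplicit false
universe u
open FCompl

set_option backward.isDefEq.respectTransparency false
set_option backward.isDefEq.respectTransparency.types false

namespace Groth.Agent.S13349

open AlgebraicGeometry in
open CategoryTheory in
/-- Let R be a base ring of class (N) or (V) for the ideal I, A an R-algebra topologically of finite
type, and 0 → M' → M → M'' → 0 a short exact sequence of finite A-modules. Present Spf A as the
completion of Spec A along IA, with structure sheaf the limit of the structure sheaves of the closed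
subschemes V((IA)^(n+1)), and let M^Δ be the limit of the direct images of the modules associated to
M/(IA)^(n+1)M. Then the induced maps M'^Δ → M^Δ → M''^Δ compose to zero and form a short exact
sequence of O_Spf A-modules. -/
theorem result
    (R : Type u) [CommRing R] (I : Ideal R) (hR : AdicRing.IsBase R I)
    (A : Type u) [CommRing A] [Algebra R A] (hA : AdicRing.TopFiniteType R I A)
    (h : (FSch.completionAlong (Spec (CommRingCat.of A)) (FSch.idealSpec A (I.map (algebraMap R A)))).IsFormal)
    (S : ShortComplex (ModuleCat.{u} A)) (hS : S.ShortExact)
    [Module.Finite A S.X₁] [Module.Finite A S.X₂] [Module.Finite A S.X₃] :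
    ∃ w : FSch.ModSys.realModMap h (FSch.complModMap (FSch.idealSpec A (I.map (algebraMap R A))) ((tilde.functor (CommRingCat.of A)).map S.f)) ≫
        FSch.ModSys.realModMap h (FSch.complModMap (FSch.idealSpec A (I.map (algebraMap R A))) ((tilde.functor (CommRingCat.of A)).map S.g)) = 0,
      (ShortComplex.mk _ _ w).ShortExact := by
  exact Groth.L09.FCompl.shortExact_realModMap_complModMap hR hA h S hS

end Groth.Agent.S13349
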