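import Groth.Statements.S13355
import Groth.Agent.L25.Chars

set_option autoImplicit false
universe u
open GaDual

namespace Groth.Agent.S13355

/-- Over a commutative algebra A over the rationals, the formal characters (power series with constant
term 1 satisfying χ(X+Y) = χ(X)χ(Y) in two variables) are exactly the power series exp(aX) for a in
A. -/
theorem result (A : Type u) [CommRing A] [Algebra ℚ A] (χ : PowerSeries A) :
    (PowerSeries.constantCoeff χ = 1 ∧
      PowerSeries.subst (MvPowerSeries.X 0 + MvPowerSeries.X 1 : MvPowerSeries (Fin 2) A) χ =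
        PowerSeries.subst (MvPowerSeries.X 0 : MvPowerSeries (Fin 2) A) χ *
          PowerSeries.subst (MvPowerSeries.X 1 : MvPowerSeries (Fin 2) A) χ) ↔
      ∃ a : A, χ = PowerSeries.rescale a (PowerSeries.exp A) := by
  rw [Groth.L25.Chars.powerSeries_mult_iff]
  constructor
  · rintro ⟨h0, h⟩
    refine ⟨PowerSeries.coeff 1 χ, PowerSeries.ext fun n => ?_⟩
    rw [Groth.L25.Chars.coeff_rescale_exp]
    exact Groth.L25.Chars.eq_exp_of_mult _ (by rwa [PowerSeries.coeff_zero_eq_constantCoeff_apply]) h n
  · rintro ⟨a, rfl⟩
    refine ⟨?_, fun B => ?_⟩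
    · rw [← PowerSeries.coeff_zero_eq_constantCoeff_apply, Groth.L25.Chars.coeff_rescale_exp]; simp
    · simp only [Groth.L25.Chars.coeff_rescale_exp]
      exact Groth.L25.Chars.mult_exp a B
end Groth.Agent.S13355
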