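import Groth.Statements.S13356
import Groth.Agent.L25.Chars

set_option autoImplicit false
universe u
open GaDual

namespace Groth.Agent.S13356

/-- Over a commutative algebra A over the rationals, the polynomials f with f(0) = 1 and f(X+Y) =
f(X)f(Y) (the characters of the additive group into the multiplicative group over A) are exactly the
polynomials exp(aX) with a in A nilpotent. -/
theorem result (A : Type u) [CommRing A] [Algebra ℚ A] (f : Polynomial A) :
    (f.eval 0 = 1 ∧
      Polynomial.aeval (MvPolynomial.X 0 + MvPolynomial.X 1 : MvPolynomial (Fin 2) A) f =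
        Polynomial.aeval (MvPolynomial.X 0 : MvPolynomial (Fin 2) A) f *
          Polynomial.aeval (MvPolynomial.X 1 : MvPolynomial (Fin 2) A) f) ↔
      ∃ a : A, IsNilpotent a ∧ (f : PowerSeries A) = PowerSeries.rescale a (PowerSeries.exp A) := by
  rw [Groth.L25.Chars.polynomial_mult_iff, ← Polynomial.coeff_zero_eq_eval_zero]
  constructor
  · rintro ⟨h0, h⟩
    have key := Groth.L25.Chars.eq_exp_of_mult _ h0 h
    refine ⟨f.coeff 1, ⟨f.natDegree + 1, ?_⟩, PowerSeries.ext fun n => ?_⟩
    · have := key (f.natDegree + 1)
      rw [Polynomial.coeff_eq_zero_of_natDegree_lt (Nat.lt_succ_self _)] at this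
      exact ((isUnit_iff_ne_zero.2 (by positivity)).map (algebraMap ℚ A)).mul_right_eq_zero.1 this.symm
    · rw [Polynomial.coeff_coe, Groth.L25.Chars.coeff_rescale_exp]; exact key n
  · rintro ⟨a, -, hf⟩
    have e : f.coeff = fun n => algebraMap ℚ A (1 / n.factorial) * a ^ n := by
      funext n; rw [← Polynomial.coeff_coe, hf, Groth.L25.Chars.coeff_rescale_exp]
    exact ⟨by simp [e], fun B => e ▸ Groth.L25.Chars.mult_exp a B⟩
end Groth.Agent.S13356
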