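import Groth.Statements.S13357
import Groth.Agent.L25.Chars

set_option autoImplicit false
universe u
open GaDual

namespace Groth.Agent.S13357

/-- Over a commutative algebra A of prime characteristic p, the polynomials f with f(0) = 1 and f(X+Y) =
f(X)f(Y) (the characters of the additive group into the multiplicative group over A) are exactly the
finite products of truncated exponentials exp_p(a_n X^(p^n)) = Σ_{j<p} a_n^j X^(j p^n)/j! with a_n^p
= 0. -/
theorem result (p : ℕ) [Fact p.Prime] (A : Type u) [CommRing A] [CharP A p]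
    (f : Polynomial A) :
    (f.eval 0 = 1 ∧
      Polynomial.aeval (MvPolynomial.X 0 + MvPolynomial.X 1 : MvPolynomial (Fin 2) A) f =
        Polynomial.aeval (MvPolynomial.X 0 : MvPolynomial (Fin 2) A) f *
          Polynomial.aeval (MvPolynomial.X 1 : MvPolynomial (Fin 2) A) f) ↔
      ∃ (N : ℕ) (a : ℕ → A), (∀ n, a n ^ p = 0) ∧
        f = ∏ n ∈ Finset.range N, ∑ j ∈ Finset.range p,
          Polynomial.C (Ring.inverse (j.factorial : A) * a n ^ j) * Polynomial.X ^ (j * p ^ n) := by
  have hp := Fact.out (p := p.Prime)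
  rw [Groth.L25.Chars.polynomial_mult_iff, ← Polynomial.coeff_zero_eq_eval_zero]
  constructor
  · rintro ⟨h0, h⟩
    obtain ⟨N, hN⟩ : ∃ N, f.natDegree < p ^ N := ⟨f.natDegree, Nat.lt_pow_self hp.one_lt⟩
    refine ⟨N, fun k => f.coeff (p ^ k), fun k => Groth.L25.Chars.pow_p_eq_zero h0 (h (p ^ (k + 1))) le_rfl,
      Polynomial.ext fun n => ?_⟩
    refine Eq.trans ?_ (Groth.L25.Chars.coeff_prod h0 (h (p ^ N)) N le_rfl n).symm
    split_ifs with hn
    · rfl
    · exact Polynomial.coeff_eq_zero_of_natDegree_lt (by omega)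
  · rintro ⟨N, a, ha, rfl⟩
    exact ⟨Groth.L25.Chars.prod_coeff_zero a N, Groth.L25.Chars.prod_mult ha N⟩
end Groth.Agent.S13357
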