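import Groth.Statements.S13359
import Mathlib.Tactic.Ring
import Mathlib.Tactic.LinearCombination
import Mathlib.Tactic.Linarith
import Mathlib.Tactic.FieldSimp
import Mathlib.RingTheory.Localization.AtPrime.Basic
import Mathlib.RingTheory.IntegralClosure.IntegrallyClosed
import Mathlib.RingTheory.Localization.Integral

set_option autoImplicit false
universe u
open UltraProd

namespace Groth.Agent.S13359

open Classical in
theorem isDomain_loc {ι : Type u} (R : ι → Type u) [∀ i, CommRing (R i)] [∀ i, IsDomain (R i)]
    (P : Ideal (∀ i, R i)) [P.IsPrime] : IsDomain (Localization.AtPrime P) := by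
  have : NoZeroDivisors (Localization.AtPrime P) := ⟨fun {X Y} hXY => by
    obtain ⟨x, s, rfl⟩ := IsLocalization.exists_mk'_eq P.primeCompl X
    obtain ⟨y, t, rfl⟩ := IsLocalization.exists_mk'_eq P.primeCompl Y
    rw [← IsLocalization.mk'_mul, IsLocalization.mk'_eq_zero_iff] at hXY
    obtain ⟨u, hu⟩ := hXY
    let e : ∀ i, R i := fun i => if x i = 0 then 1 else 0
    rw [IsLocalization.mk'_eq_zero_iff, IsLocalization.mk'_eq_zero_iff]
    by_cases he : e ∈ P
    · have he' : (1 - e) ∉ P := fun h => (‹P.IsPrime›).ne_top (P.eq_top_iff_one.mpr (by simpa using P.add_mem h he))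
      refine Or.inr ⟨⟨1 - e, he'⟩ * u, funext fun i => ?_⟩
      by_cases hx : x i = 0
      · simp [e, hx]
      · have h := congr_fun hu i
        simp only [Pi.mul_apply, Pi.zero_apply, ← mul_assoc] at h
        have h' : (u : ∀ i, R i) i * y i = 0 :=
          (mul_eq_zero.mp (show (u : ∀ i, R i) i * y i * x i = 0 by linear_combination h)).resolve_right hx
        simp [e, hx, h']
    · refine Or.inl ⟨⟨e, he⟩, funext fun i => ?_⟩
      by_cases hx : x i = 0 <;> simp [e, hx]⟩
  exact NoZeroDivisors.to_isDomain _


/-- If (R_i) is a nonempty family of integrally closed domains, then the localization of the product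
ring ∏ R_i at any prime ideal is an integrally closed domain. -/
theorem result {ι : Type u} [Nonempty ι] (R : ι → Type u)
    [∀ i, CommRing (R i)] [∀ i, IsDomain (R i)] [∀ i, IsIntegrallyClosed (R i)]
    (P : Ideal (∀ i, R i)) [P.IsPrime] :
    IsDomain (Localization.AtPrime P) ∧ IsIntegrallyClosed (Localization.AtPrime P) := by
  classical
  have := isDomain_loc R P
  refine ⟨this, (isIntegrallyClosed_iff (FractionRing (Localization.AtPrime P))).mpr fun {x} hx => ?_⟩
  let L := Localization.AtPrime P
  let K := FractionRing L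
  obtain ⟨⟨s, hs⟩, hint⟩ := IsIntegral.exists_multiple_integral_of_isLocalization P.primeCompl x hx
  obtain ⟨p, hp, hroot⟩ := hint
  set z := (⟨s, hs⟩ : P.primeCompl) • x with hz
  obtain ⟨A, B, hB, hAB⟩ := IsFractionRing.div_surjective (A := L) z
  obtain ⟨a, t, rfl⟩ := IsLocalization.exists_mk'_eq P.primeCompl A
  obtain ⟨b, t', rfl⟩ := IsLocalization.exists_mk'_eq P.primeCompl B
  -- rewrite `z` as a quotient of elements of the product
  let φ : (∀ i, R i) →+* K := (algebraMap L K).comp (algebraMap (∀ i, R i) L)
  have hφ : (algebraMap (∀ i, R i) K) = φ := IsScalarTower.algebraMap_eq _ L K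
  let a' := a * t'.1
  let b' := b * t.1
  have hb' : φ b' ≠ 0 := by
    show algebraMap L K (algebraMap _ L b') ≠ 0
    rw [map_ne_zero_iff _ (IsFractionRing.injective L K)]
    intro h0
    rw [IsLocalization.map_eq_zero_iff P.primeCompl] at h0
    obtain ⟨u, hu⟩ := h0
    refine nonZeroDivisors.ne_zero hB ?_
    rw [IsLocalization.mk'_eq_zero_iff]
    exact ⟨u * t, by rw [Submonoid.coe_mul, mul_assoc, mul_comm (t : ∀ i, R i) b]; exact hu⟩
  have hza : z * φ b' = φ a' := by
    have h1 := congr_arg (algebraMap L K) (IsLocalization.mk'_spec L a t)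
    have h2 := congr_arg (algebraMap L K) (IsLocalization.mk'_spec L b t')
    simp only [map_mul] at h1 h2
    have hB' : algebraMap L K (IsLocalization.mk' L b t') ≠ 0 :=
      (map_ne_zero_iff _ (IsFractionRing.injective L K)).mpr (nonZeroDivisors.ne_zero hB)
    rw [div_eq_iff hB'] at hAB
    simp only [φ, a', b', map_mul, RingHom.comp_apply, ← h1, ← h2]
    linear_combination (-(algebraMap L K (algebraMap _ L t.1) * algebraMap L K (algebraMap _ L t'.1))) * hAB
  -- clear denominators in the integral equation
  set n := p.natDegree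
  let hom : (∀ i, R i) := ∑ j ∈ Finset.range (n + 1), p.coeff j * a' ^ j * b' ^ (n - j)
  have hhom : φ hom = 0 := by
    rw [Polynomial.eval₂_eq_sum_range, hφ] at hroot
    simp only [hom, map_sum, map_mul, map_pow]
    calc _ = φ b' ^ n * ∑ j ∈ Finset.range (n + 1), φ (p.coeff j) * z ^ j := by
          rw [Finset.mul_sum]
          refine Finset.sum_congr rfl fun j hj => ?_
          have hjn : j ≤ n := Nat.lt_succ_iff.mp (Finset.mem_range.mp hj)
          conv_rhs => rw [show n = n - j + j by omega, pow_add]
          rw [← hza]; ring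
      _ = 0 := by rw [hroot, mul_zero]
  rw [show φ hom = algebraMap L K (algebraMap _ L hom) from rfl,
    map_eq_zero_iff _ (IsFractionRing.injective L K), IsLocalization.map_eq_zero_iff P.primeCompl] at hhom
  obtain ⟨u, hu⟩ := hhom
  have key : ∀ i, ∃ q : R i, u.1 i * (a' i - b' i * q) = 0 := by
    intro i
    by_cases hui : u.1 i = 0
    · exact ⟨0, by rw [hui, zero_mul]⟩
    have hi := congr_fun hu i
    simp only [hom, Pi.mul_apply, Pi.zero_apply, Finset.sum_apply, Pi.pow_apply] at hi
    replace hi := (mul_eq_zero.mp hi).resolve_left hui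
    have hlead : p.coeff n i = 1 := by
      rw [show p.coeff n = p.leadingCoeff from rfl, hp.leadingCoeff]; rfl
    by_cases hbi : b' i = 0
    · refine ⟨0, ?_⟩
      rw [Finset.sum_eq_single n] at hi
      · rw [hlead, Nat.sub_self, pow_zero, one_mul, mul_one] at hi
        rw [eq_zero_of_pow_eq_zero hi]; ring
      · intro j hj hjn
        rw [hbi, zero_pow (by have := Finset.mem_range.mp hj; omega), mul_zero]
      · simp
    let F := FractionRing (R i)
    let ψ := algebraMap (R i) F
    have hψb : ψ (b' i) ≠ 0 := (map_ne_zero_iff _ (IsFractionRing.injective (R i) F)).mpr hbi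
    have hint' : IsIntegral (R i) (ψ (a' i) / ψ (b' i)) := by
      refine ⟨p.map (Pi.evalRingHom R i), hp.map _, ?_⟩
      rw [Polynomial.eval₂_map, Polynomial.eval₂_eq_sum_range]
      have h := congr_arg ψ hi
      rw [map_zero, map_sum] at h
      calc _ = (ψ (b' i) ^ n)⁻¹ * ∑ j ∈ Finset.range (n + 1), ψ (p.coeff j i * a' i ^ j * b' i ^ (n - j)) := by
            rw [Finset.mul_sum]
            refine Finset.sum_congr rfl fun j hj => ?_
            have hjn : j ≤ n := Nat.lt_succ_iff.mp (Finset.mem_range.mp hj)
            show ψ (p.coeff j i) * _ = _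
            rw [map_mul, map_mul, map_pow, map_pow, div_pow,
              show ψ (b' i) ^ n = ψ (b' i) ^ (n - j) * ψ (b' i) ^ j by rw [← pow_add, Nat.sub_add_cancel hjn]]
            have e : ∀ c A B B' : F, B ≠ 0 → c * (A / B') = (B * B')⁻¹ * (c * A * B) := by
              intro c A B B' hB
              rw [mul_inv, div_eq_mul_inv]
              linear_combination (-(c * A * B'⁻¹)) * inv_mul_cancel₀ hB
            exact e _ _ _ _ (pow_ne_zero _ hψb)
        _ = 0 := by rw [h, mul_zero]
    obtain ⟨q, hq⟩ := IsIntegrallyClosed.isIntegral_iff.mp hint'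
    refine ⟨q, ?_⟩
    have : a' i = b' i * q := IsFractionRing.injective (R i) F (by
      rw [map_mul]; show ψ _ = ψ _ * ψ q
      rw [show ψ q = _ from hq]; exact (mul_div_cancel₀ _ hψb).symm)
    rw [this, sub_self, mul_zero]
  choose q hq using key
  have hz' : z = φ q := by
    have h0 : φ (a' - b' * q) = 0 := by
      show algebraMap L K (algebraMap (∀ i, R i) L (a' - b' * q)) = 0
      have hd : algebraMap (∀ i, R i) L (a' - b' * q) = 0 :=
        (IsLocalization.map_eq_zero_iff P.primeCompl L (a' - b' * q)).mpr ⟨u, funext fun i => hq i⟩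
      rw [hd, map_zero]
    rw [map_sub, ← hza, map_mul φ b' q, sub_eq_zero] at h0
    exact mul_right_cancel₀ hb' (h0.trans (mul_comm _ _))
  refine ⟨IsLocalization.mk' L q (⟨s, hs⟩ : P.primeCompl), ?_⟩
  have hsz : φ s * x = z := by
    rw [hz, Submonoid.smul_def, Algebra.smul_def, hφ]
  have hs0 : φ s ≠ 0 := by
    show algebraMap L K (algebraMap _ L s) ≠ 0
    rw [map_ne_zero_iff _ (IsFractionRing.injective L K)]
    exact (IsLocalization.map_units L (⟨s, hs⟩ : P.primeCompl)).ne_zero
  refine mul_left_cancel₀ hs0 ?_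
  rw [hsz, hz']
  show algebraMap L K (algebraMap (∀ i, R i) L s) * algebraMap L K _ = algebraMap L K (algebraMap (∀ i, R i) L q)
  rw [← map_mul, mul_comm]
  exact congr_arg _ (IsLocalization.mk'_spec L q (⟨s, hs⟩ : P.primeCompl))

end Groth.Agent.S13359
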