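import Groth.Statements.S13360
import Mathlib.Tactic.Ring
import Mathlib.Tactic.LinearCombination
import Mathlib.Tactic.Linarith
import Mathlib.Tactic.FieldSimp
import Mathlib.RingTheory.Localization.AtPrime.Basic
import Mathlib.RingTheory.IntegralClosure.IntegrallyClosed
import Mathlib.RingTheory.Localization.Integral

set_option autoImplicit false
universe u
open UltraProd

namespace Groth.Agent.S13360

open Classical in
theorem isDomain_loc {ι : Type u} (R : ι → Type u) [∀ i, CommRing (R i)] [∀ i, IsDomain (R i)]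
    (P : Ideal (∀ i, R i)) [P.IsPrime] : IsDomain (Localization.AtPrime P) := by
  have : NoZeroDivisors (Localization.AtPrime P) := ⟨fun {X Y} hXY => by
    obtain ⟨x, s, rfl⟩ := IsLocalization.exists_mk'_eq P.primeCompl X
    obtain ⟨y, t, rfl⟩ := IsLocalization.exists_mk'_eq P.primeCompl Y
    rw [← IsLocalization.mk'_mul, IsLocalization.mk'_eq_zero_iff] at hXY
    obtain ⟨u, hu⟩ := hXY
    let e : ∀ i, R i := fun i => if x i = 0 then 1 else 0
    rw [IsLocalization.mk'_eq_zero_iff, IsLocalization.mk'_eq_zero_iff]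
    by_cases he : e ∈ P
    · have he' : (1 - e) ∉ P := fun h => (‹P.IsPrime›).ne_top (P.eq_top_iff_one.mpr (by simpa using P.add_mem h he))
      refine Or.inr ⟨⟨1 - e, he'⟩ * u, funext fun i => ?_⟩
      by_cases hx : x i = 0
      · simp [e, hx]
      · have h := congr_fun hu i
        simp only [Pi.mul_apply, Pi.zero_apply, ← mul_assoc] at h
        have h' : (u : ∀ i, R i) i * y i = 0 :=
          (mul_eq_zero.mp (show (u : ∀ i, R i) i * y i * x i = 0 by linear_combination h)).resolve_right hx
        simp [e, hx, h']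
    · refine Or.inl ⟨⟨e, he⟩, funext fun i => ?_⟩
      by_cases hx : x i = 0 <;> simp [e, hx]⟩
  exact NoZeroDivisors.to_isDomain _


/-- If (R_i) is a nonempty family of valuation rings, then the localization of the product ring ∏ R_i at
any prime ideal is a valuation ring: a domain in which, of any two elements, one divides the other. -/
theorem result {ι : Type u} [Nonempty ι] (R : ι → Type u)
    [∀ i, CommRing (R i)] [∀ i, IsDomain (R i)] [∀ i, ValuationRing (R i)]
    (P : Ideal (∀ i, R i)) [P.IsPrime] :
    IsDomain (Localization.AtPrime P) ∧ PreValuationRing (Localization.AtPrime P) := by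
  classical
  refine ⟨isDomain_loc R P, ⟨fun X Y => ?_⟩⟩
  obtain ⟨x, s, rfl⟩ := IsLocalization.exists_mk'_eq P.primeCompl X
  obtain ⟨y, t, rfl⟩ := IsLocalization.exists_mk'_eq P.primeCompl Y
  let L := Localization.AtPrime P
  let e : ∀ i, R i := fun i => if ∃ c, x i * c = y i then 1 else 0
  have key : ∀ (x y : ∀ i, R i) (s t : P.primeCompl) (e : ∀ i, R i), e ∉ P →
      (∀ i, e i = 0 ∨ ∃ c, x i * c = y i) →
      ∃ C, IsLocalization.mk' L x s * C = IsLocalization.mk' L y t := by
    intro x y s t e he hd
    choose c hc using fun i => show ∃ c, e i * (x i * c) = e i * y i from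
      (hd i).elim (fun h => ⟨0, by rw [h, zero_mul, zero_mul]⟩) fun ⟨c, h⟩ => ⟨c, by rw [h]⟩
    refine ⟨IsLocalization.mk' L (c * s.1) t, ?_⟩
    rw [← IsLocalization.mk'_mul, IsLocalization.mk'_eq_iff_eq, IsLocalization.eq_iff_exists P.primeCompl]
    refine ⟨⟨e, he⟩, funext fun i => ?_⟩
    have h := hc i
    simp only [Submonoid.coe_mul, Pi.mul_apply]
    linear_combination ((t.1 i) * (s.1 i)) * h
  by_cases he : e ∈ P
  · have he' : (1 - e) ∉ P := fun h => (‹P.IsPrime›).ne_top (P.eq_top_iff_one.mpr (by simpa using P.add_mem h he))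
    obtain ⟨C, hC⟩ := key y x t s (1 - e) he' fun i => by
      by_cases h : ∃ c, x i * c = y i
      · exact Or.inl (by simp [e, h])
      · obtain ⟨c, hc | hc⟩ := ValuationRing.cond (x i) (y i)
        · exact absurd ⟨c, hc⟩ h
        · exact Or.inr ⟨c, hc⟩
    exact ⟨C, Or.inr hC⟩
  · obtain ⟨C, hC⟩ := key x y s t e he fun i => by
      by_cases h : ∃ c, x i * c = y i
      · exact Or.inr h
      · exact Or.inl (by simp [e, h])
    exact ⟨C, Or.inl hC⟩

end Groth.Agent.S13360
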