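import Groth.Statements.S13365
import Groth.Agent.L05.ProCompl.Basic
import Mathlib.Topology.Algebra.Nonarchimedean.TotallyDisconnected

set_option autoImplicit false
universe u
open ProCompl

namespace Groth.Agent.S13365

/-- The quotient of a profinite (compact, Hausdorff, totally disconnected) abelian topological group by
a compact subgroup is profinite. -/
theorem result {A : Type u} [AddCommGroup A] [TopologicalSpace A]
    [IsTopologicalAddGroup A] [CompactSpace A] [T2Space A] [TotallyDisconnectedSpace A]
    (B : AddSubgroup A) (hB : IsCompact (B : Set A)) :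
    CompactSpace (A ⧸ B) ∧ T2Space (A ⧸ B) ∧ TotallyDisconnectedSpace (A ⧸ B) := by
  haveI hNA := Groth.L05.ProCompl.nonarchimedean_of_locallyCompact (B := A)
  haveI : IsClosed (B : Set A) := hB.isClosed
  haveI : T2Space (A ⧸ B) := inferInstance
  haveI : NonarchimedeanAddGroup (A ⧸ B) := ⟨fun U hU => by
    obtain ⟨W, hW⟩ := NonarchimedeanAddGroup.is_nonarchimedean _
      ((continuous_quotient_mk'.continuousAt (x := (0 : A))).preimage_mem_nhds hU)
    exact ⟨⟨W.toAddSubgroup.map (QuotientAddGroup.mk' B), QuotientAddGroup.isOpenMap_coe _ W.isOpen⟩,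
      Set.image_subset_iff.mpr hW⟩⟩
  exact ⟨inferInstance, inferInstance, inferInstance⟩

end Groth.Agent.S13365
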