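import Groth.Statements.S13367
import Groth.Agent.L14.FrobMod.Lang
import Mathlib.LinearAlgebra.Dimension.Constructions
import Groth.Agent.L27.StrictCover
import Mathlib.RingTheory.TensorProduct.Basic

set_option autoImplicit false
universe u v
open FrobMod

namespace Groth.Agent.S13367

/-- Over a strictly Henselian discrete valuation ring R of prime characteristic p with residue field κ,
for a finitely generated module M with n = dim_κ(κ ⊗ M) and a Frobenius-semilinear additive
bijection T of M (T(rm) = r^p T(m)), the map T − 1 is surjective and its kernel has cardinality p^n. -/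
theorem result (p : ℕ) [Fact p.Prime] {R : Type u} [CommRing R] [IsDomain R]
    [IsDiscreteValuationRing R] [HenselianLocalRing R] [IsSepClosed (IsLocalRing.ResidueField R)] [CharP R p]
    {M : Type v} [AddCommGroup M] [Module R M] [Module.Finite R M]
    (T : M →+ M) (hT : ∀ (r : R) (m : M), T (r • m) = r ^ p • T m) (hbij : Function.Bijective T) :
    Function.Surjective (fun m => T m - m) ∧
      Nat.card {m : M // T m = m} =
        p ^ Module.finrank (IsLocalRing.ResidueField R) (TensorProduct R (IsLocalRing.ResidueField R) M) := by
  classical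
  let m := IsLocalRing.maximalIdeal R
  let k := IsLocalRing.ResidueField R
  have h0 := Groth.L14.FrobMod.smul_eq_zero_of_bijective p T hT hbij.surjective
  have hbs : Module.IsTorsionBySet R M (m : Set R) := fun x a => by
    have : (a : R) • x ∈ (m • (⊤ : Submodule R M)) := Submodule.smul_mem_smul a.2 Submodule.mem_top
    rw [h0] at this
    exact (Submodule.mem_bot R).mp this
  letI : Module k M := hbs.module
  have hk : ∀ (r : R) (x : M), IsLocalRing.residue R r • x = r • x := fun r x => rfl
  haveI : IsScalarTower R k M := ⟨fun r c x => by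
    obtain ⟨c, rfl⟩ := IsLocalRing.residue_surjective c
    show (r • IsLocalRing.residue R c) • x = r • (IsLocalRing.residue R c • x)
    rw [show r • IsLocalRing.residue R c = IsLocalRing.residue R (r * c) from rfl, hk, hk, mul_smul]⟩
  haveI : Module.Finite k M := Module.Finite.of_restrictScalars_finite R k M
  haveI : CharP k p := (CharP.charP_iff_prime_eq_zero (Fact.out : p.Prime)).mpr (by
    rw [← map_natCast (IsLocalRing.residue R), CharP.cast_eq_zero, map_zero])
  haveI : HenselianLocalRing k := inferInstance
  have hres : Function.Bijective (IsLocalRing.residue k) :=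
    ⟨RingHom.injective _, IsLocalRing.residue_surjective⟩
  haveI : IsSepClosed (IsLocalRing.ResidueField k) :=
    Groth.L27.StrictCover.isSepClosed_of_ringEquiv (RingEquiv.ofBijective _ hres)
  obtain ⟨h1, h2⟩ := Groth.L14.FrobMod.lang p T (fun c x => by
      obtain ⟨c, rfl⟩ := IsLocalRing.residue_surjective c
      rw [← map_pow, hk, hk, hT]) (by
      rw [Set.range_eq_univ.mpr hbij.surjective, Submodule.span_univ] : Submodule.span k (Set.range T) = ⊤)
  refine ⟨h1, h2.trans ?_⟩
  congr 1
  let l : TensorProduct R k M →ₗ[k] M := (LinearMap.id : M →ₗ[R] M).liftBaseChange k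
  have hone : ∀ z : TensorProduct R k M, ∃ x : M, (1 : k) ⊗ₜ[R] x = z := fun z => by
    induction z with
    | zero => exact ⟨0, by simp⟩
    | tmul c x =>
      obtain ⟨c, rfl⟩ := IsLocalRing.residue_surjective c
      refine ⟨c • x, ?_⟩
      rw [TensorProduct.tmul_smul, TensorProduct.smul_tmul']
      congr 1
      exact (Algebra.algebraMap_eq_smul_one c).symm
    | add a b ha hb =>
      obtain ⟨x, rfl⟩ := ha
      obtain ⟨y, rfl⟩ := hb
      exact ⟨x + y, TensorProduct.tmul_add _ _ _⟩
  have hl : Function.Bijective l := by
    refine ⟨(injective_iff_map_eq_zero l).mpr fun z hz => ?_, fun x => ⟨(1 : k) ⊗ₜ[R] x, by simp [l]⟩⟩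
    obtain ⟨x, rfl⟩ := hone z
    have : x = 0 := by simpa [l] using hz
    rw [this, TensorProduct.tmul_zero]
  exact (LinearEquiv.ofBijective l hl).finrank_eq.symm

end Groth.Agent.S13367
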