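import Groth.Statements.S13368
import Mathlib.RingTheory.Kaehler.Basic
import Mathlib.RingTheory.DiscreteValuationRing.Basic
import Mathlib.RingTheory.Localization.Integer
import Mathlib.RingTheory.Localization.FractionRing
import Mathlib.Algebra.CharP.Lemmas
import Mathlib.LinearAlgebra.FiniteDimensional.Lemmas
import Mathlib.RingTheory.UniqueFactorizationDomain.Multiplicity
import Mathlib.RingTheory.Derivation.Basic

set_option autoImplicit false
universe u
open GaDual

namespace Groth.Agent.S13368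

section

variable {R : Type*} [CommRing R] [IsDomain R] {π : R} {p : ℕ}

theorem dvd_all (hπ : Prime π) {a : Fin p → R} (h : π ^ p ∣ ∑ i : Fin p, π ^ (i : ℕ) * a i ^ p) (i : Fin p) :
    π ∣ a i := by
  induction hn : (i : ℕ) using Nat.strong_induction_on generalizing i with
  | _ n ih =>
    subst hn
    have h1 : π ^ ((i : ℕ) + 1) ∣ ∑ j ∈ Finset.univ.erase i, π ^ (j : ℕ) * a j ^ p := Finset.dvd_sum fun j hj => by
      rcases lt_trichotomy (j : ℕ) (i : ℕ) with hlt | heq | hgt
      · exact ((pow_dvd_pow π (Nat.succ_le_of_lt i.2)).trans (pow_dvd_pow_of_dvd (ih _ hlt j rfl) p)).mul_left _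
      · exact absurd (Fin.ext heq) (Finset.ne_of_mem_erase hj)
      · exact (pow_dvd_pow π hgt).mul_right _
    have h2 : π ^ ((i : ℕ) + 1) ∣ π ^ (i : ℕ) * a i ^ p := by
      have h3 := (pow_dvd_pow π (Nat.succ_le_of_lt i.2)).trans h
      rw [← Finset.add_sum_erase _ _ (Finset.mem_univ i)] at h3
      exact (dvd_add_left h1).1 h3
    rw [pow_succ, mul_dvd_mul_iff_left (pow_ne_zero _ hπ.ne_zero)] at h2
    exact hπ.dvd_of_dvd_pow h2

theorem scale (n : ℕ) (b : Fin p → R) :
    ∑ i : Fin p, π ^ (i : ℕ) * (π ^ n * b i) ^ p = (π ^ n) ^ p * ∑ i : Fin p, π ^ (i : ℕ) * b i ^ p := by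
  rw [Finset.mul_sum]
  exact Finset.sum_congr rfl fun i _ => by ring

theorem eq_zero [WfDvdMonoid R] (hπ : Prime π) {a : Fin p → R}
    (h : ∑ i : Fin p, π ^ (i : ℕ) * a i ^ p = 0) (i : Fin p) : a i = 0 := by
  have key : ∀ n : ℕ, ∀ j, π ^ n ∣ a j := by
    intro n
    induction n with
    | zero => exact fun j => by simp
    | succ n ih =>
      choose b hb using ih
      have hb' : a = fun j => π ^ n * b j := funext hb
      have h0 : ∑ i : Fin p, π ^ (i : ℕ) * b i ^ p = 0 := by
        rw [hb', scale] at h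
        exact (mul_eq_zero.1 h).resolve_left (pow_ne_zero _ (pow_ne_zero _ hπ.ne_zero))
      intro j
      rw [hb j, pow_succ]
      exact mul_dvd_mul_left _ (dvd_all hπ (h0 ▸ dvd_zero _) j)
  by_contra hne
  obtain ⟨n, c, hc, hac⟩ := WfDvdMonoid.max_power_factor hne hπ.irreducible
  have := key (n + 1) i
  rw [hac, pow_succ, mul_dvd_mul_iff_left (pow_ne_zero _ hπ.ne_zero)] at this
  exact hc this

theorem descend (hπ : Prime π) : ∀ (M : ℕ) (r : R) (a : Fin p → R),
    (π ^ M) ^ p * r = ∑ i : Fin p, π ^ (i : ℕ) * a i ^ p → ∃ c : Fin p → R, r = ∑ i : Fin p, π ^ (i : ℕ) * c i ^ p := by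
  intro M
  induction M with
  | zero => exact fun r a h => ⟨a, by simpa using h⟩
  | succ M ih =>
    intro r a h
    have hd : π ^ p ∣ ∑ i : Fin p, π ^ (i : ℕ) * a i ^ p := by
      rw [← h, pow_succ, mul_pow]
      exact (dvd_mul_left _ _).mul_right r
    choose b hb using fun i => dvd_all hπ hd i
    refine ih r b (mul_left_cancel₀ (pow_ne_zero p (pow_ne_zero 1 hπ.ne_zero)) ?_)
    rw [← scale, ← mul_assoc, ← mul_pow, ← pow_add, add_comm, h]
    simp only [pow_one, ← hb]

end

section

variable {p : ℕ} [Fact p.Prime] {R : Type*} [CommRing R] [IsDomain R] [IsDiscreteValuationRing R] [CharP R p]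

theorem existsUnique_expansion (kp : Subfield (FractionRing R))
    (hkp : ∀ x : FractionRing R, x ∈ kp ↔ ∃ y : FractionRing R, y ^ p = x)
    (hdeg : Module.finrank kp (FractionRing R) = p) {π : R} (hπ : Irreducible π) (r : R) :
    ∃! c : Fin p → R, r = ∑ i : Fin p, π ^ (i : ℕ) * c i ^ p := by
  have hP : Prime π := hπ.prime
  have hp0 : p ≠ 0 := (Fact.out : p.Prime).ne_zero
  haveI : Nonempty (Fin p) := ⟨⟨0, Nat.pos_of_ne_zero hp0⟩⟩
  let K := FractionRing R
  let v : Fin p → K := fun i => algebraMap R K π ^ (i : ℕ)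
  have hclear : ∀ y : Fin p → K, ∃ (b : R) (a : Fin p → R), b ≠ 0 ∧ ∀ i, algebraMap R K b * y i = algebraMap R K (a i) := fun y => by
    obtain ⟨b, hb⟩ := IsLocalization.exist_integer_multiples_of_finite (nonZeroDivisors R) y
    choose a ha using fun i => hb i
    exact ⟨b, a, nonZeroDivisors.coe_ne_zero b, fun i => by rw [ha i, Algebra.smul_def]⟩
  have hcl : ∀ (b : R) (a : Fin p → R) (y : Fin p → K), (∀ i, algebraMap R K b * y i = algebraMap R K (a i)) →
      algebraMap R K (∑ i : Fin p, π ^ (i : ℕ) * a i ^ p) = algebraMap R K b ^ p * ∑ i, y i ^ p * v i := by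
    intro b a y h
    rw [map_sum, Finset.mul_sum]
    refine Finset.sum_congr rfl fun i _ => ?_
    rw [map_mul, map_pow, map_pow, ← h, mul_pow]
    ring
  have hli : LinearIndependent kp v := Fintype.linearIndependent_iff.2 fun g hg i => by
    choose y hy using fun i => (hkp _).1 (g i).2
    obtain ⟨b, a, hb, ha⟩ := hclear y
    have h0 : ∑ i : Fin p, π ^ (i : ℕ) * a i ^ p = 0 := IsFractionRing.injective R K (by
      rw [hcl b a y ha, map_zero]
      refine mul_eq_zero_of_right _ ?_
      rw [← hg]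
      exact Finset.sum_congr rfl fun j _ => by rw [hy j]; rfl)
    have h1 := ha i
    rw [eq_zero hP h0 i, map_zero, mul_eq_zero] at h1
    have h2 : y i = 0 := h1.resolve_left fun h => hb (IsFractionRing.injective R K (h.trans (map_zero _).symm))
    exact Subtype.ext (by rw [← hy i, h2, zero_pow hp0]; rfl)
  haveI : Module.Finite kp K := Module.finite_of_finrank_pos (hdeg ▸ Nat.pos_of_ne_zero hp0)
  have hspan := hli.span_eq_top_of_card_eq_finrank (by rw [Fintype.card_fin, hdeg])
  obtain ⟨g, hg⟩ := (Submodule.mem_span_range_iff_exists_fun kp).1 (hspan ▸ Submodule.mem_top (x := algebraMap R K r))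
  choose y hy using fun i => (hkp _).1 (g i).2
  obtain ⟨b, a, hb, ha⟩ := hclear y
  have h3 : b ^ p * r = ∑ i : Fin p, π ^ (i : ℕ) * a i ^ p := IsFractionRing.injective R K (by
    rw [hcl b a y ha, map_mul, map_pow]
    refine congrArg _ (hg.symm.trans ?_)
    exact Finset.sum_congr rfl fun j _ => by rw [hy j]; rfl)
  obtain ⟨M, u, rfl⟩ := IsDiscreteValuationRing.eq_unit_mul_pow_irreducible hb hπ
  have h4 : (π ^ M) ^ p * r = ∑ i : Fin p, π ^ (i : ℕ) * ((↑u⁻¹ : R) * a i) ^ p := by
    calc (π ^ M) ^ p * r = ((↑u⁻¹ : R) * ↑u) ^ p * ((π ^ M) ^ p * r) := by rw [Units.inv_mul, one_pow, one_mul]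
      _ = (↑u⁻¹ : R) ^ p * ((↑u * π ^ M) ^ p * r) := by ring
      _ = _ := by
        rw [h3, Finset.mul_sum]
        exact Finset.sum_congr rfl fun i _ => by ring
  obtain ⟨c, hc⟩ := descend hP M r _ h4
  refine ⟨c, hc, fun c' hc' => funext fun i => sub_eq_zero.1 (eq_zero hP (a := fun j => c' j - c j) ?_ i)⟩
  simp only [sub_pow_char, mul_sub, Finset.sum_sub_distrib]
  rw [← hc, ← hc', sub_self]

end

end Groth.Agent.S13368

namespace Groth.Agent.S13368

/-- Let R be a discrete valuation ring of prime characteristic p whose fraction field k has degree p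
over its subfield k^p of p-th powers, and π a uniformizer. Then every element of R is, in a unique
way, a sum of π^i c_i^p over 0 ≤ i < p with c_i in R, and the Kähler differentials of R (absolute,
i.e. over the integers, equivalently over the prime field) form a free module of rank one generated
by dπ. -/
theorem result (p : ℕ) [Fact p.Prime] {R : Type u} [CommRing R]
    [IsDomain R] [IsDiscreteValuationRing R] [CharP R p]
    (kp : Subfield (FractionRing R)) (hkp : ∀ x : FractionRing R, x ∈ kp ↔ ∃ y : FractionRing R, y ^ p = x)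
    (hdeg : Module.finrank kp (FractionRing R) = p)
    (π : R) (hπ : Irreducible π) :
    (∀ r : R, ∃! c : Fin p → R, r = ∑ i : Fin p, π ^ (i : ℕ) * c i ^ p) ∧
      Function.Bijective (fun r : R => r • KaehlerDifferential.D ℤ R π) := by
  have hex := existsUnique_expansion kp hkp hdeg hπ
  refine ⟨hex, ?_⟩
  have hp0 : p ≠ 0 := (Fact.out : p.Prime).ne_zero
  choose coef hcoef huniq using hex
  let D₀ : R → R := fun r => ∑ i : Fin p, ((i : ℕ) : R) * π ^ ((i : ℕ) - 1) * coef r i ^ p
  have hD₀ : ∀ c : Fin p → R, D₀ (∑ i : Fin p, π ^ (i : ℕ) * c i ^ p) =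
      ∑ i : Fin p, ((i : ℕ) : R) * π ^ ((i : ℕ) - 1) * c i ^ p := fun c => by
    simp only [D₀, ← huniq _ c rfl]
  have hmono : ∀ (n : ℕ) (c : R), D₀ (π ^ n * c ^ p) = (n : R) * π ^ (n - 1) * c ^ p := fun n c => by
    let k : Fin p := ⟨n % p, Nat.mod_lt _ (Nat.pos_of_ne_zero hp0)⟩
    have hn := Nat.mod_add_div n p
    have h1 : π ^ n * c ^ p = ∑ i : Fin p, π ^ (i : ℕ) * (Pi.single (M := fun _ => R) k (π ^ (n / p) * c) i) ^ p := by
      rw [Finset.sum_eq_single k (fun j _ hj => by rw [Pi.single_eq_of_ne hj, zero_pow hp0, mul_zero]) (by simp),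
        Pi.single_eq_same]
      conv_lhs => rw [← hn]
      simp only [k, mul_pow, ← pow_mul, pow_add]
      ring
    rw [h1, hD₀, Finset.sum_eq_single k (fun j _ hj => by rw [Pi.single_eq_of_ne hj, zero_pow hp0, mul_zero]) (by simp),
      Pi.single_eq_same]
    have hcast : (n : R) = ((n % p : ℕ) : R) := by
      conv_lhs => rw [← hn]
      simp
    rw [hcast]
    rcases Nat.eq_zero_or_pos (n % p) with h0 | hpos
    · simp [k, h0]
    · rw [show n - 1 = (n % p - 1) + p * (n / p) by omega]
      simp only [k, mul_pow, pow_add, pow_mul]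
      ring
  have hadd : ∀ x y, D₀ (x + y) = D₀ x + D₀ y := fun x y => by
    have h : x + y = ∑ i : Fin p, π ^ (i : ℕ) * (coef x i + coef y i) ^ p := by
      simp only [add_pow_char, mul_add, Finset.sum_add_distrib, ← hcoef]
    rw [h, hD₀]
    simp only [add_pow_char, mul_add, Finset.sum_add_distrib]
    rfl
  let D₁ : R →+ R := AddMonoidHom.mk' D₀ hadd
  have hleib : ∀ x y, D₀ (x * y) = x * D₀ y + y * D₀ x := fun x y => by
    have h : x * y = ∑ i : Fin p, ∑ j : Fin p, π ^ ((i : ℕ) + (j : ℕ)) * (coef x i * coef y j) ^ p := by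
      conv_lhs => rw [hcoef x, hcoef y, Finset.sum_mul_sum]
      exact Finset.sum_congr rfl fun i _ => Finset.sum_congr rfl fun j _ => by ring
    show D₁ (x * y) = _
    rw [h, map_sum]
    simp only [map_sum]
    show _ = x * D₀ y + y * D₀ x
    conv_rhs => rw [hcoef x, hcoef y, hD₀, hD₀, Finset.sum_mul_sum, Finset.sum_mul_sum,
      Finset.sum_comm (f := fun (i : Fin p) (j : Fin p) => π ^ (i : ℕ) * coef y i ^ p * _), ← Finset.sum_add_distrib]
    refine Finset.sum_congr rfl fun i _ => ?_
    rw [← Finset.sum_add_distrib]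
    refine Finset.sum_congr rfl fun j _ => ?_
    show D₀ _ = _
    rw [hmono]
    rcases Nat.eq_zero_or_pos (i : ℕ) with hi | hi <;> rcases Nat.eq_zero_or_pos (j : ℕ) with hj | hj
    · simp [hi, hj]
    · simp only [hi, zero_add, Nat.cast_zero, pow_zero]; ring
    · simp only [hj, add_zero, Nat.cast_zero, pow_zero]; ring
    · obtain ⟨a, ha⟩ := Nat.exists_eq_add_of_le hi
      obtain ⟨b, hb⟩ := Nat.exists_eq_add_of_le hj
      simp only [ha, hb, show 0 + 1 + a + (0 + 1 + b) - 1 = 1 + a + b by omega, Nat.add_sub_cancel_left, zero_add, Nat.cast_add,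
        Nat.cast_one, pow_add, pow_one]
      ring
  let D : Derivation ℤ R R := Derivation.mk' D₁.toIntLinearMap hleib
  have hDπ : D π = 1 := by
    show D₀ π = 1
    have := hmono 1 1
    simpa using this
  constructor
  · intro r s hrs
    have := congrArg D.liftKaehlerDifferential hrs
    simpa [hDπ] using this
  · intro ω
    have hω : ω ∈ Submodule.span R ({KaehlerDifferential.D ℤ R π} : Set _) := by
      have htop : ω ∈ Submodule.span R (Set.range (KaehlerDifferential.D ℤ R)) := by
        rw [KaehlerDifferential.span_range_derivation]; trivial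
      refine Submodule.span_le.2 ?_ htop
      rintro _ ⟨r, rfl⟩
      rw [hcoef r, map_sum]
      refine Submodule.sum_mem _ fun i _ => ?_
      rw [Derivation.leibniz, Derivation.leibniz_pow, Derivation.leibniz_pow]
      simp only [← Nat.cast_smul_eq_nsmul R, CharP.cast_eq_zero, zero_smul, smul_zero, zero_add]
      exact Submodule.smul_mem _ _ (Submodule.smul_mem _ _ (Submodule.smul_mem _ _ (Submodule.mem_span_singleton_self _)))
    exact Submodule.mem_span_singleton.1 hω

end Groth.Agent.S13368
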