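import Groth.Statements.S13369
import Groth.Agent.L06.FormSmoothPBasis
import Mathlib.RingTheory.Localization.FractionRing
import Mathlib.RingTheory.IntegralClosure.IntegrallyClosed
import Mathlib.Algebra.CharP.Algebra

set_option autoImplicit false
universe u
open GaDual

namespace Groth.Agent.S13369

variable {_unused : Unit}

theorem key (p : ℕ) [Fact p.Prime] {A : Type*} [CommRing A] [IsDomain A] [IsIntegrallyClosed A] (K : Type u) [Field K]
    [Algebra A K] [IsFractionRing A K] [CharP K p] (s : A)
    (hs : KaehlerDifferential.D ℤ A s = 0) : ∃ f : A, f ^ p = s := by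
  by_cases hc : algebraMap A K s ∈ (frobenius K p).fieldRange
  · obtain ⟨y, hy⟩ := RingHom.mem_fieldRange.1 hc
    rw [frobenius_def] at hy
    obtain ⟨f, hf⟩ := IsIntegrallyClosed.isIntegral_iff.1 (IsIntegral.of_pow (R := A) (x := y)
      (Fact.out : p.Prime).pos (hy ▸ isIntegral_algebraMap))
    exact ⟨f, IsFractionRing.injective A K (by rw [map_pow, hf, hy])⟩
  · obtain ⟨D, -, hD⟩ := Groth.L06.PBasis.exists_der_killing p (frobenius K p).fieldRange
      (fun x => RingHom.mem_fieldRange.2 ⟨x, frobenius_def p x⟩) hc
    have h := congrArg (D.compAlgebraMap A).liftKaehlerDifferential hs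
    rw [Derivation.liftKaehlerDifferential_comp_D, map_zero] at h
    exact absurd (hD.symm.trans h) one_ne_zero

open GaDual in

/-- For a normal Noetherian domain A of prime characteristic p, an element whose differential vanishes
in the absolute Kähler differentials of A is a p-th power; that is, the sequence F : A → A, d : A →
Ω_A (F the Frobenius) is exact at the middle term. (The published statement is for normal locally
Noetherian schemes of characteristic p; this row is the case of the spectrum of a normal Noetherian
domain.) -/
theorem result (p : ℕ) [Fact p.Prime] {A : Type u} [CommRing A] [IsDomain A]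
    [IsNoetherianRing A] [IsIntegrallyClosed A] [CharP A p] (s : A) (hs : KaehlerDifferential.D ℤ A s = 0) :
    ∃ f : A, f ^ p = s := by
  let K := FractionRing A
  have : CharP K p := charP_of_injective_algebraMap (IsFractionRing.injective A K) p
  exact key p K s hs

end Groth.Agent.S13369
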