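import Groth.Statements.S13370
import Mathlib.AlgebraicGeometry.AffineSpace
import Mathlib.Algebra.MvPolynomial.Nilpotent
import Groth.Prelude.Def_GmPts

set_option autoImplicit false
universe u
open GaDual

namespace Groth.Agent.S13370

open CategoryTheory AlgebraicGeometry in
lemma affine_case (n : Type u) (R : CommRingCat.{u}) [_root_.IsReduced R] (w : Γ(𝔸(n; Spec R), ⊤)) (hw : IsUnit w) :
    ∃ r : Γ(Spec R, ⊤), (𝔸(n; Spec R) ↘ Spec R).appTop r = w := by
  let u := (Scheme.ΓSpecIso (CommRingCat.of (MvPolynomial n R))).hom ((AffineSpace.SpecIso n R).inv.appTop w)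
  have hu : IsUnit u := (hw.map (AffineSpace.SpecIso n R).inv.appTop.hom).map (Scheme.ΓSpecIso _).hom.hom
  obtain ⟨r, -, hr⟩ := MvPolynomial.isUnit_iff_eq_C_of_isReduced.1 hu
  refine ⟨(Scheme.ΓSpecIso R).inv r, ?_⟩
  have h1 : (AffineSpace.SpecIso n R).inv.appTop ((𝔸(n; Spec R) ↘ Spec R).appTop ((Scheme.ΓSpecIso R).inv r)) =
      (AffineSpace.SpecIso n R).inv.appTop w := by
    rw [← GmPts.appTop_comp_apply, AffineSpace.SpecIso_inv_over]
    have h2 := congrArg (fun ψ => (ConcreteCategory.hom ψ) r)
      (Scheme.ΓSpecIso_inv_naturality (CommRingCat.ofHom (MvPolynomial.C : R →+* MvPolynomial n R)))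
    refine h2.symm.trans ?_
    change (Scheme.ΓSpecIso (CommRingCat.of (MvPolynomial n R))).inv (MvPolynomial.C r) = _
    rw [← hr]
    exact Iso.hom_inv_id_apply _ _
  have h3 := congrArg (AffineSpace.SpecIso n R).hom.appTop h1
  rw [← GmPts.appTop_comp_apply, ← GmPts.appTop_comp_apply, Iso.hom_inv_id, ← GmPts.appTop_comp_apply,
    Category.id_comp] at h3
  simp only [Iso.hom_inv_id] at h3
  exact h3


open AlgebraicGeometry in
/-- Over a reduced scheme X, each invertible global function on 𝔸ⁿ_X comes, by pullback along the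
projection to X, from an invertible global function on X. -/
theorem result (n : Type u) [Finite n] (X : Scheme.{u}) [IsReduced X]
    (w : Γ(𝔸(n; X), ⊤)) (hw : IsUnit w) :
    ∃ v : Γ(X, ⊤), IsUnit v ∧ (𝔸(n; X) ↘ X).appTop v = w := by
  open CategoryTheory in
  let z : X ⟶ AffineSpace n X := AffineSpace.homOfVector (𝟙 X) (fun _ => 0)
  have hz : z ≫ 𝔸(n; X) ↘ X = 𝟙 X := AffineSpace.homOfVector_over _ _
  refine ⟨z.appTop w, hw.map z.appTop.hom, ?_⟩
  refine Scheme.OpenCover.ext_elem _ _ (X.affineOpenCover.openCover.pullback₁ (𝔸(n; X) ↘ X)) fun i => ?_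
  let R := X.affineOpenCover.X i
  let j : Spec R ⟶ X := X.affineOpenCover.f i
  have : AlgebraicGeometry.IsReduced (Spec R) :=
    @isReduced_of_isOpenImmersion _ _ j (X.affineOpenCover.map_prop i) _
  have : _root_.IsReduced R := by rwa [← affine_isReduced_iff]
  have hpb := AffineSpace.isPullback_map (n := n) j
  let z' : Spec R ⟶ AffineSpace n (Spec R) := AffineSpace.homOfVector (𝟙 _) (fun _ => 0)
  have hz' : z' ≫ 𝔸(n; Spec R) ↘ Spec R = 𝟙 _ := AffineSpace.homOfVector_over _ _
  have hzz : j ≫ z = z' ≫ AffineSpace.map n j := by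
    apply AffineSpace.hom_ext
    · rw [Category.assoc, Category.assoc, hz, AffineSpace.map_over, reassoc_of% hz', Category.comp_id]
    · intro l
      rw [GmPts.appTop_comp_apply, GmPts.appTop_comp_apply, AffineSpace.map_appTop_coord,
        AffineSpace.homOfVector_appTop_coord, AffineSpace.homOfVector_appTop_coord, map_zero]
  have key : (AffineSpace.map n j).appTop ((𝔸(n; X) ↘ X).appTop (z.appTop w)) = (AffineSpace.map n j).appTop w := by
    obtain ⟨r, hr⟩ := affine_case n R _ (hw.map (AffineSpace.map n j).appTop.hom)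
    rw [← GmPts.appTop_comp_apply, AffineSpace.map_over, GmPts.appTop_comp_apply, ← GmPts.appTop_comp_apply j z,
      hzz, GmPts.appTop_comp_apply z']
    rw [show (AffineSpace.map n j).appTop w = _ from hr.symm, ← GmPts.appTop_comp_apply z', hz']
    rfl
  let e := hpb.isoPullback
  have he : e.hom ≫ Limits.pullback.fst _ _ = AffineSpace.map n j := hpb.isoPullback_hom_fst
  have hinj : Function.Injective e.hom.appTop := by
    intro a b hab
    have := congrArg e.inv.appTop hab
    rwa [← GmPts.appTop_comp_apply, ← GmPts.appTop_comp_apply, Iso.inv_hom_id] at this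
  apply hinj
  rw [← he, GmPts.appTop_comp_apply, GmPts.appTop_comp_apply] at key
  exact key
end Groth.Agent.S13370
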