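import Groth.Statements.S13371
import Groth.Agent.L25.GaPts
import Groth.Prelude.Def_GmPts
import Mathlib.RingTheory.Polynomial.Nilpotent

set_option autoImplicit false
universe u
open GaDual

namespace Groth.Agent.S13371

open CategoryTheory MonObj AlgebraicGeometry Limits in
lemma affine_pt {S : Scheme.{u}} (φ : Red.Ga S ⟶ Red.Gm S) [IsMonHom φ] {R B : CommRingCat.{u}}
    [_root_.IsReduced R] (j : Spec R ⟶ S) (α : R ⟶ B) (t : Over.mk (Spec.map α ≫ j) ⟶ Red.Ga S) : t ≫ φ = 1 := by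
  let C : CommRingCat.{u} := CommRingCat.of (Polynomial R)
  let T0 : Over S := Over.mk (Spec.map (CommRingCat.ofHom (Polynomial.C : R →+* Polynomial R)) ≫ j)
  let x0 : T0 ⟶ Red.Ga S := Groth.L25.GaPts.ptOfElt ((Scheme.ΓSpecIso C).inv Polynomial.X)
  let mk : ∀ {D : CommRingCat.{u}} (β : R ⟶ D) (d : D), (Over.mk (Spec.map β ≫ j) ⟶ T0) := fun β d =>
    Over.homMk (Spec.map (CommRingCat.ofHom (Polynomial.eval₂RingHom β.hom d))) (by
      show Spec.map _ ≫ Spec.map _ ≫ j = Spec.map _ ≫ j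
      rw [← Category.assoc, ← Spec.map_comp]
      congr 2; ext r; simp [C])
  have nat : ∀ {D : CommRingCat.{u}} (ψ : C ⟶ D) (c : C), (Spec.map ψ).appTop ((Scheme.ΓSpecIso C).inv c) = (Scheme.ΓSpecIso D).inv (ψ c) :=
    fun {D} ψ c => (congrArg (fun ξ => (ConcreteCategory.hom ξ) c) (Scheme.ΓSpecIso_inv_naturality ψ)).symm
  let v : Polynomial R := (Scheme.ΓSpecIso C).hom (Red.gmFn (x0 ≫ φ))
  have hvinv : Red.gmFn (x0 ≫ φ) = (Scheme.ΓSpecIso C).inv v := (Iso.hom_inv_id_apply _ _).symm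
  have hu : IsUnit (show Γ(Spec C, ⊤) from Red.gmFn (x0 ≫ φ)) := GmPts.isUnit_gmFn _
  have hv : IsUnit v := hu.map (Scheme.ΓSpecIso C).hom.hom
  have hconst : v = Polynomial.C (v.coeff 0) := by
    ext m
    rcases Nat.eq_zero_or_pos m with rfl | hm
    · simp
    · rw [Polynomial.coeff_C, if_neg hm.ne',
        ((Polynomial.isUnit_iff_coeff_isUnit_isNilpotent.1 hv).2 m hm.ne').eq_zero]
  have hzero : mk (𝟙 R) 0 ≫ x0 = 1 := by
    apply Groth.L25.GaPts.gaFn_injective
    show Red.gaFn _ = Red.gaFn _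
    rw [Groth.L25.GaPts.gaFn_comp, Groth.L25.GaPts.gaFn_ptOfElt, Groth.L25.GaPts.gaFn_one]
    exact (nat _ _).trans (by simp [C])
  have h1 : Red.gmFn (mk (𝟙 R) 0 ≫ x0 ≫ φ) = 1 := by
    rw [← Category.assoc, hzero]
    exact (congrArg Red.gmFn (MonObj.one_comp φ)).trans GmPts.gmFn_one
  have hc : v.coeff 0 = 1 := by
    rw [GmPts.gmFn_comp, hvinv] at h1
    have h2 := (nat _ v).symm.trans h1
    have h3 := congrArg (Scheme.ΓSpecIso R).hom h2
    rw [Iso.inv_hom_id_apply, map_one] at h3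
    rw [hconst] at h3
    exact (Polynomial.eval₂_C _ _).symm.trans h3
  have hx : x0 ≫ φ = 1 := by
    apply GmPts.gmFn_injective
    show Red.gmFn _ = Red.gmFn _
    rw [hvinv, hconst, hc, Polynomial.C_1, GmPts.gmFn_one]
    exact map_one (Scheme.ΓSpecIso C).inv.hom
  let b : B := (Scheme.ΓSpecIso B).hom (show Γ(Spec B, ⊤) from Red.gaFn t)
  have ht : t = mk α b ≫ x0 := by
    apply Groth.L25.GaPts.gaFn_injective
    show Red.gaFn _ = Red.gaFn _
    rw [Groth.L25.GaPts.gaFn_comp, Groth.L25.GaPts.gaFn_ptOfElt]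
    refine ((nat _ _).trans ?_).symm
    simp [C, b]
  rw [ht, Category.assoc, hx, MonObj.comp_one]

open CategoryTheory MonObj AlgebraicGeometry Limits in
lemma affine_piece {S : Scheme.{u}} (φ : Red.Ga S ⟶ Red.Gm S) [IsMonHom φ] {R : CommRingCat.{u}}
    [_root_.IsReduced R] (j : Spec R ⟶ S) :
    pullback.fst (Red.Ga S).hom j ≫ φ.left = pullback.fst (Red.Ga S).hom j ≫ (1 : Red.Ga S ⟶ Red.Gm S).left := by
  let W := pullback (Red.Ga S).hom j
  let e := pullbackLeftPullbackSndIso Red.GaZ.hom (GmPts.toBaseZ S) j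
  have hA : IsAffine Red.GaZ.left := inferInstanceAs (IsAffine (Spec (CommRingCat.of Groth.L25.GaPts.Coord.{u})))
  have : IsAffine ((𝟭 Scheme).obj Red.GaZ.left) := hA
  have : IsAffine (pullback Red.GaZ.hom (j ≫ GmPts.toBaseZ S)) :=
    @Scheme.Pullback.isAffine_of_isAffine_isAffine_isAffine _ _ _ Red.GaZ.hom (j ≫ GmPts.toBaseZ S) hA inferInstance
      (inferInstanceAs (IsAffine (Spec (CommRingCat.of (ULift.{u} ℤ)))))
  have : IsAffine W := IsAffine.of_isIso e.hom
  obtain ⟨α, hα⟩ := Spec.map_surjective (W.isoSpec.inv ≫ pullback.snd (Red.Ga S).hom j)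
  let t : Over.mk (Spec.map α ≫ j) ⟶ Red.Ga S :=
    Over.homMk (W.isoSpec.inv ≫ pullback.fst _ _)
      (by
        show (W.isoSpec.inv ≫ pullback.fst _ _) ≫ (Red.Ga S).hom = Spec.map α ≫ j
        rw [hα, Category.assoc, Category.assoc, pullback.condition])
  have key := affine_pt φ j α t
  rw [← cancel_epi W.isoSpec.inv, ← Category.assoc, ← Category.assoc]
  show (t ≫ φ).left = (t ≫ (1 : Red.Ga S ⟶ Red.Gm S)).left
  rw [key, MonObj.comp_one]


open CategoryTheory AlgebraicGeometry MonObj CartesianMonoidalCategory in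
/-- If S is a reduced scheme, every homomorphism of S-group schemes from the additive group to the
multiplicative group over S is the trivial homomorphism. -/
theorem result (S : Scheme.{u}) [IsReduced S] (φ : Red.Ga S ⟶ Red.Gm S)
    [IsMonHom φ] : φ = 1 := by
  refine Over.OverMorphism.ext (Scheme.Cover.hom_ext (S.affineOpenCover.openCover.pullback₁ (Red.Ga S).hom) _ _ fun i => ?_)
  have : IsReduced (Spec (S.affineOpenCover.X i)) :=
    @isReduced_of_isOpenImmersion _ _ (S.affineOpenCover.f i) (S.affineOpenCover.map_prop i) _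
  have : _root_.IsReduced (S.affineOpenCover.X i) := by rwa [← affine_isReduced_iff]
  exact affine_piece φ (S.affineOpenCover.f i)
end Groth.Agent.S13371
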