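import Groth.Statements.S13373
import Groth.Agent.L25.Chars

set_option autoImplicit false
universe u
open GaDual

namespace Groth.Agent.S13373

/-- Over a commutative algebra A of prime characteristic p, the formal characters (power series χ with
constant term 1 and χ(X+Y) = χ(X)χ(Y)) are exactly the infinite products ∏_n exp_p(a_n X^(p^n)) with
a_n^p = 0, where exp_p(Y) = Σ_{j<p} Y^j/j!; the infinite product is expressed through its
truncations: χ mod X^(p^m) equals the finite product over n < m. -/
theorem result (p : ℕ) [Fact p.Prime] (A : Type u) [CommRing A] [CharP A p]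
    (χ : PowerSeries A) :
    (PowerSeries.constantCoeff χ = 1 ∧
      PowerSeries.subst (MvPowerSeries.X 0 + MvPowerSeries.X 1 : MvPowerSeries (Fin 2) A) χ =
        PowerSeries.subst (MvPowerSeries.X 0 : MvPowerSeries (Fin 2) A) χ *
          PowerSeries.subst (MvPowerSeries.X 1 : MvPowerSeries (Fin 2) A) χ) ↔
      ∃ a : ℕ → A, (∀ n, a n ^ p = 0) ∧ ∀ m : ℕ,
        PowerSeries.trunc (p ^ m) χ = ∏ n ∈ Finset.range m, ∑ j ∈ Finset.range p,
          Polynomial.C (Ring.inverse (j.factorial : A) * a n ^ j) * Polynomial.X ^ (j * p ^ n) := by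
  have hp := Fact.out (p := p.Prime)
  rw [Groth.L25.Chars.powerSeries_mult_iff]
  constructor
  · rintro ⟨h0, h⟩
    rw [← PowerSeries.coeff_zero_eq_constantCoeff_apply] at h0
    refine ⟨fun k => PowerSeries.coeff (p ^ k) χ,
      fun k => Groth.L25.Chars.pow_p_eq_zero (c := fun n => PowerSeries.coeff n χ) h0 (h (p ^ (k + 1))) le_rfl,
      fun m => Polynomial.ext fun n => ?_⟩
    rw [PowerSeries.coeff_trunc]
    exact (Groth.L25.Chars.coeff_prod (c := fun n => PowerSeries.coeff n χ) h0 (h (p ^ m)) m le_rfl n).symm
  · rintro ⟨a, ha, h⟩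
    have key : ∀ m n, n < p ^ m → PowerSeries.coeff n χ = (∏ k ∈ Finset.range m, Groth.L25.Chars.expFactor p (a k) k).coeff n := by
      intro m n hn
      have := congrArg (fun q => Polynomial.coeff q n) (h m)
      simpa [PowerSeries.coeff_trunc, hn, Groth.L25.Chars.expFactor] using this
    refine ⟨?_, fun B i j hi hj => ?_⟩
    · rw [← PowerSeries.coeff_zero_eq_constantCoeff_apply, key 0 0 (by simp)]
      exact Groth.L25.Chars.prod_coeff_zero a 0
    · have hm : i + j < p ^ (i + j) := Nat.lt_pow_self hp.one_lt
      simp only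
      rw [key (i + j) i (by omega), key (i + j) j (by omega), key (i + j) (i + j) hm]
      exact Groth.L25.Chars.prod_mult ha (i + j) (i + j + 1) i j (by omega) (by omega)
end Groth.Agent.S13373
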