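import Groth.Statements.S13374
import Groth.Agent.L25.Chars

set_option autoImplicit false
universe u
open GaDual

namespace Groth.Agent.S13374

/-- Over a commutative algebra A of prime characteristic p, every character of the kernel α_(p^n) of the
n-th Frobenius of the additive group — i.e. every polynomial f of degree < p^n with f(0) = 1 and
f(X+Y) ≡ f(X)f(Y) modulo (X^(p^n), Y^(p^n)) — is the product ∏_{i<n} exp_p(a_i X^(p^i)) for some a_i
with a_i^p = 0, exp_p(Y) = Σ_{j<p} Y^j/j!. -/
theorem result (p : ℕ) [Fact p.Prime] (A : Type u) [CommRing A] [CharP A p]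
    (n : ℕ) (f : Polynomial A) (hdeg : f.natDegree < p ^ n) (h0 : f.eval 0 = 1)
    (hmul : Ideal.Quotient.mk
        (Ideal.span {(MvPolynomial.X 0 ^ p ^ n : MvPolynomial (Fin 2) A), MvPolynomial.X 1 ^ p ^ n})
        (Polynomial.aeval (MvPolynomial.X 0 + MvPolynomial.X 1 : MvPolynomial (Fin 2) A) f) =
      Ideal.Quotient.mk
        (Ideal.span {(MvPolynomial.X 0 ^ p ^ n : MvPolynomial (Fin 2) A), MvPolynomial.X 1 ^ p ^ n})
        (Polynomial.aeval (MvPolynomial.X 0 : MvPolynomial (Fin 2) A) f *
          Polynomial.aeval (MvPolynomial.X 1 : MvPolynomial (Fin 2) A) f)) :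
    ∃ a : ℕ → A, (∀ i, a i ^ p = 0) ∧
      f = ∏ i ∈ Finset.range n, ∑ j ∈ Finset.range p,
          Polynomial.C (Ring.inverse (j.factorial : A) * a i ^ j) * Polynomial.X ^ (j * p ^ i) := by
  have hp := Fact.out (p := p.Prime)
  rw [← Polynomial.coeff_zero_eq_eval_zero] at h0
  have h := Groth.L25.Chars.mult_of_mk_eq f _ hmul
  refine ⟨fun i => if i < n then f.coeff (p ^ i) else 0, fun i => ?_, Polynomial.ext fun m => ?_⟩
  · dsimp only
    split_ifs with hi
    · exact Groth.L25.Chars.pow_p_eq_zero h0 h (Nat.pow_le_pow_right hp.pos hi)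
    · exact zero_pow hp.ne_zero
  · have e : ∀ i ∈ Finset.range n, (∑ j ∈ Finset.range p, Polynomial.C (Ring.inverse (j.factorial : A) *
          (if i < n then f.coeff (p ^ i) else 0) ^ j) * Polynomial.X ^ (j * p ^ i)) =
        Groth.L25.Chars.expFactor p (f.coeff (p ^ i)) i := by
      intro i hi; simp only [Finset.mem_range.1 hi, if_true]; rfl
    rw [Finset.prod_congr rfl e, Groth.L25.Chars.coeff_prod h0 h n le_rfl m]
    split_ifs with hm
    · rfl
    · exact Polynomial.coeff_eq_zero_of_natDegree_lt (by omega)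
end Groth.Agent.S13374
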