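import Groth.Statements.S13387
import Mathlib.RingTheory.DividedPowerAlgebra.Init
import Mathlib.LinearAlgebra.Vandermonde
import Mathlib.LinearAlgebra.Matrix.Adjugate
import Mathlib.Algebra.Module.LocalizedModule.Basic
import Mathlib.RingTheory.LocalRing.ResidueField.Ideal
import Mathlib.RingTheory.LittleWedderburn
import Mathlib.SetTheory.Cardinal.Finite

set_option autoImplicit false
universe u
open ZeroCyc

namespace Groth.Agent.S13387

open DividedPowerAlgebra

theorem exists_injective {A : Type u} [CommRing A] (P : Ideal A) [P.IsPrime] (d : ℕ)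
    (h : (d : Cardinal) ≤ Cardinal.mk P.ResidueField) : ∃ t : Fin d → A, ∀ i j, t i - t j ∈ P → i = j := by
  obtain ⟨f⟩ : Nonempty (Fin d ↪ A ⧸ P) := by
    cases finite_or_infinite (A ⧸ P) with
    | inr hi => exact ⟨(Fin.valEmbedding).trans (Infinite.natEmbedding _)⟩
    | inl hi =>
      haveI : IsDomain (A ⧸ P) := Ideal.Quotient.isDomain P
      haveI : P.IsMaximal := Ideal.Quotient.maximal_of_isField P (Finite.isField_of_domain (A ⧸ P))
      have e := Equiv.ofBijective _ (Ideal.bijective_algebraMap_quotient_residueField P)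
      rw [← Cardinal.mk_congr e] at h
      haveI := Fintype.ofFinite (A ⧸ P)
      rw [Cardinal.mk_fintype, Nat.cast_le] at h
      exact Function.Embedding.nonempty_of_card_le (by rwa [Fintype.card_fin])
  choose t ht using fun i => Ideal.Quotient.mk_surjective (f i)
  exact ⟨t, fun i j hij => f.injective (by rw [← ht, ← ht]; exact Ideal.Quotient.eq.mpr hij)⟩

variable {A M : Type u} [CommRing A] [AddCommGroup M] [Module A M]

theorem two_mem (P : Ideal A) [P.IsPrime] (e f : ℕ) (ht : ∃ t : Fin (e + f) → A, ∀ i j, t i - t j ∈ P → i = j) (x y : M) :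
    ∃ s ∉ P, s • (dp A e x * dp A f y) ∈ Submodule.span A (Set.range (dp A (e + f) : M → DividedPowerAlgebra A M)) := by
  set N := Submodule.span A (Set.range (dp A (e + f) : M → DividedPowerAlgebra A M))
  obtain ⟨t, ht⟩ := ht
  by_cases he : e = 0
  · refine ⟨1, fun h1 => Ideal.IsPrime.ne_top' ((Ideal.eq_top_iff_one P).mpr h1), ?_⟩
    rw [one_smul, he, dp_zero, one_mul]
    exact Submodule.subset_span ⟨y, by simp [he]⟩
  let v : ℕ → DividedPowerAlgebra A M := fun i => dp A (e + f - i) x * dp A i y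
  have hV : ∀ j : Fin (e + f), ∑ i : Fin (e + f), t j ^ (i : ℕ) • v i ∈ N := by
    intro j
    have h1 : dp A (e + f) (x + t j • y) = ∑ i ∈ Finset.range (e + f + 1), t j ^ i • v i := by
      rw [dp_add, Finset.Nat.sum_antidiagonal_eq_sum_range_succ_mk, ← Finset.sum_range_reflect]
      refine Finset.sum_congr rfl fun i hi => ?_
      have := Finset.mem_range.mp hi
      simp only [dp_smul, mul_smul_comm, v]
      rw [show e + f + 1 - 1 - i = e + f - i by omega, show e + f - (e + f - i) = i by omega]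
    rw [Finset.sum_range_succ, ← Fin.sum_univ_eq_sum_range] at h1
    rw [← sub_eq_iff_eq_add.mpr h1]
    refine sub_mem (Submodule.subset_span ⟨_, rfl⟩) (Submodule.smul_mem _ _ ?_)
    simp only [v, Nat.sub_self, dp_zero, one_mul]
    exact Submodule.subset_span ⟨y, rfl⟩
  classical
  let V := Matrix.vandermonde t
  refine ⟨V.det, ?_, ?_⟩
  · rw [Matrix.det_vandermonde, Ideal.IsPrime.prod_mem_iff]
    rintro ⟨i, -, hi⟩
    rw [Ideal.IsPrime.prod_mem_iff] at hi
    obtain ⟨j, hj, hij⟩ := hi
    exact (Finset.mem_Ioi.mp hj).ne' (ht j i hij)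
  · have hi : f < e + f := by omega
    have hfv : dp A e x * dp A f y = v (⟨f, hi⟩ : Fin (e + f)) := by simp [v]
    have : V.det • v (⟨f, hi⟩ : Fin (e + f)) = ∑ j, V.adjugate ⟨f, hi⟩ j • ∑ i : Fin (e + f), t j ^ (i : ℕ) • v i := by
      simp only [Finset.smul_sum, smul_smul]
      rw [Finset.sum_comm]
      simp only [← Finset.sum_smul]
      have h2 : ∀ i : Fin (e + f), (∑ j, V.adjugate ⟨f, hi⟩ j * t j ^ (i : ℕ)) = if (⟨f, hi⟩ : Fin (e + f)) = i then V.det else 0 := by
        intro i
        have h3 := congrFun (congrFun (Matrix.adjugate_mul V) ⟨f, hi⟩) i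
        rw [Matrix.mul_apply, Matrix.smul_apply, Matrix.one_apply, smul_ite, smul_eq_mul, mul_one, smul_zero] at h3
        exact h3
      simp only [h2, ite_smul, zero_smul, Finset.sum_ite_eq, Finset.mem_univ, if_true]
    rw [hfv, this]
    exact sum_mem fun j _ => Submodule.smul_mem _ _ (hV j)

theorem prod_mem (P : Ideal A) [P.IsPrime] : ∀ (n : ℕ) (k : Fin n → ℕ) (m : Fin n → M),
    (∃ t : Fin (∑ i, k i) → A, ∀ i j, t i - t j ∈ P → i = j) →
    ∃ s ∉ P, s • ∏ i, dp A (k i) (m i) ∈ Submodule.span A (Set.range (dp A (∑ i, k i) : M → DividedPowerAlgebra A M))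
  | 0, k, m, _ => ⟨1, fun h1 => Ideal.IsPrime.ne_top' ((Ideal.eq_top_iff_one P).mpr h1), by
      rw [one_smul]
      exact Submodule.subset_span ⟨0, by simp [dp_zero]⟩⟩
  | n + 1, k, m, ht => by
    rw [Fin.sum_univ_succ] at ht ⊢
    obtain ⟨t, ht⟩ := ht
    obtain ⟨s, hs, hsw⟩ := prod_mem P n (fun i => k i.succ) (fun i => m i.succ)
      ⟨fun i => t (Fin.castLE (by omega) i), fun i j hij => Fin.castLE_injective _ (ht _ _ hij)⟩
    rw [Fin.prod_univ_succ]
    generalize ∏ i : Fin n, dp A (k i.succ) (m i.succ) = w at hsw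
    suffices key : ∀ z ∈ Submodule.span A (Set.range (dp A (∑ i : Fin n, k i.succ) : M → DividedPowerAlgebra A M)),
        ∃ r ∉ P, r • (dp A (k 0) (m 0) * z) ∈ Submodule.span A (Set.range (dp A (k 0 + ∑ i : Fin n, k i.succ) : M → DividedPowerAlgebra A M)) by
      obtain ⟨r, hr, hmem⟩ := key _ hsw
      refine ⟨r * s, fun h => (Ideal.IsPrime.mem_or_mem ‹_› h).elim hr hs, ?_⟩
      rwa [mul_smul, ← mul_smul_comm s]
    intro z hz
    induction hz using Submodule.span_induction with
    | zero => exact ⟨1, fun h1 => Ideal.IsPrime.ne_top' ((Ideal.eq_top_iff_one P).mpr h1), by simp⟩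
    | mem z hz =>
      obtain ⟨y, rfl⟩ := hz
      exact two_mem P _ _ ⟨t, ht⟩ _ _
    | add a b _ _ ha hb =>
      obtain ⟨r, hr, hra⟩ := ha
      obtain ⟨r', hr', hrb⟩ := hb
      refine ⟨r * r', fun h => (Ideal.IsPrime.mem_or_mem ‹_› h).elim hr hr', ?_⟩
      rw [mul_add, smul_add]
      refine add_mem ?_ ?_
      · rw [mul_comm r, mul_smul]; exact Submodule.smul_mem _ _ hra
      · rw [mul_smul]; exact Submodule.smul_mem _ _ hrb
    | smul c a _ ha =>
      obtain ⟨r, hr, hra⟩ := ha
      refine ⟨r, hr, ?_⟩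
      rw [mul_smul_comm, smul_comm]
      exact Submodule.smul_mem _ _ hra

theorem prod_mem_cyclic (P : Ideal A) [P.IsPrime] (n : ℕ) (k : Fin n → ℕ) (m : Fin n → M)
    (x : LocalizedModule P.primeCompl M) (hx : Submodule.span (Localization.AtPrime P) {x} = ⊤) :
    ∃ s ∉ P, s • ∏ i, dp A (k i) (m i) ∈ Submodule.span A (Set.range (dp A (∑ i, k i) : M → DividedPowerAlgebra A M)) := by
  induction x using LocalizedModule.induction_on with
  | h m₀ s₀ =>
    have : ∀ i, ∃ (u : A) (b : A), u ∉ P ∧ u • m i = b • m₀ := by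
      intro i
      obtain ⟨c, hc⟩ := Submodule.mem_span_singleton.mp (hx ▸ Submodule.mem_top : LocalizedModule.mk (m i) 1 ∈ Submodule.span (Localization.AtPrime P) {LocalizedModule.mk m₀ s₀})
      induction c using Localization.induction_on with
      | H y =>
        obtain ⟨a, t⟩ := y
        rw [LocalizedModule.mk_smul_mk, LocalizedModule.mk_eq] at hc
        obtain ⟨w, hw⟩ := hc
        refine ⟨w * (t * s₀), w * a, (w * (t * s₀) : P.primeCompl).2, ?_⟩
        simp only [Submonoid.smul_def, one_smul, Submonoid.coe_one, Submonoid.coe_mul] at hw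
        rw [mul_smul, mul_smul (w : A) a]
        exact hw.symm
    choose u b hu hub using this
    refine ⟨∏ i, u i ^ k i, fun h => ?_, ?_⟩
    · obtain ⟨i, -, hi⟩ := Ideal.IsPrime.prod_mem_iff.mp h
      exact hu i (Ideal.IsPrime.mem_of_pow_mem ‹_› _ hi)
    · have : (∏ i, u i ^ k i) • ∏ i, dp A (k i) (m i) = (∏ i, b i ^ k i) • ∏ i, dp A (k i) m₀ := by
        rw [← Finset.prod_smul, ← Finset.prod_smul]
        refine Finset.prod_congr rfl fun i _ => ?_
        rw [← dp_smul, ← dp_smul, hub]
      rw [this, prod_dp, ← nsmul_eq_mul]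
      exact Submodule.smul_mem _ _ (Submodule.smul_of_tower_mem _ _ (Submodule.subset_span ⟨m₀, rfl⟩))


/-- Let A be a commutative ring, M an A-module and d ≥ 0. Suppose that at each prime p of A either k(p)
has d or more elements, or the localisation M_p is a cyclic A_p-module. Then the degree-d piece
Γ^d_A(M) of the divided power algebra Γ_A(M) is spanned over A by the d-th divided powers γ_d(m), m
∈ M. -/
theorem result {A M : Type u} [CommRing A] [AddCommGroup M]
    [Module A M] (d : ℕ)
    (h : ∀ p : PrimeSpectrum A, (d : Cardinal) ≤ Cardinal.mk p.asIdeal.ResidueField ∨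
      ∃ x : LocalizedModule p.asIdeal.primeCompl M, Submodule.span (Localization.AtPrime p.asIdeal) {x} = ⊤) :
    Submodule.span A (Set.range (DividedPowerAlgebra.dp A d : M → DividedPowerAlgebra A M)) =
      PolLaw.gammaPiece A M d := by
  refine le_antisymm (Submodule.span_mono ?_) ?_
  · rintro _ ⟨m, rfl⟩
    exact ⟨1, fun _ => d, fun _ => m, by simp, by simp⟩
  refine Submodule.span_le.mpr ?_
  rintro _ ⟨n, k, m, hk, rfl⟩
  let J : Ideal A := Submodule.comap (LinearMap.toSpanSingleton A (DividedPowerAlgebra A M) (∏ i, DividedPowerAlgebra.dp A (k i) (m i)))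
    (Submodule.span A (Set.range (DividedPowerAlgebra.dp A d : M → DividedPowerAlgebra A M)))
  suffices hJ : J = ⊤ by
    have h1 : (1 : A) ∈ J := hJ ▸ Submodule.mem_top
    have h2 : (1 : A) • (∏ i, DividedPowerAlgebra.dp A (k i) (m i)) ∈ Submodule.span A (Set.range (DividedPowerAlgebra.dp A d : M → DividedPowerAlgebra A M)) := h1
    rwa [one_smul] at h2
  by_contra hJ
  obtain ⟨P, hP, hJP⟩ := Ideal.exists_le_maximal J hJ
  obtain ⟨s, hs, hmem⟩ : ∃ s ∉ P, s • ∏ i, DividedPowerAlgebra.dp A (k i) (m i) ∈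
      Submodule.span A (Set.range (DividedPowerAlgebra.dp A d : M → DividedPowerAlgebra A M)) := by
    rcases h ⟨P, hP.isPrime⟩ with h' | ⟨x, hx⟩
    · subst hk
      refine prod_mem P n k m ?_
      exact exists_injective P _ h'
    · subst hk
      exact prod_mem_cyclic P n k m x hx
  exact hs (hJP hmem)

end Groth.Agent.S13387
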