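import Groth.Statements.S13388
import Mathlib.RingTheory.DividedPowerAlgebra.Init
import Mathlib.RingTheory.MvPolynomial.Basic
import Mathlib.RingTheory.Ideal.Quotient.Operations
import Mathlib.RingTheory.LocalRing.Module
import Mathlib.RingTheory.LocalRing.ResidueField.Ideal
import Mathlib.FieldTheory.Finite.Basic
import Mathlib.Algebra.Module.LocalizedModule.Basic
import Mathlib.RingTheory.PowerSeries.Basic
import Mathlib.RingTheory.TensorProduct.Finite
import Mathlib.Data.Finset.Powerset
import Mathlib.RingTheory.Localization.Module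
import Mathlib.LinearAlgebra.Dimension.Finite

set_option autoImplicit false
universe u
open ZeroCyc

namespace Groth.Agent.S13388

open DividedPowerAlgebra
open scoped TensorProduct

section
variable (κ : Type u) [CommRing κ] (d : ℕ)

/-- Products of two variables in one slot. -/
noncomputable def slotIdeal : Ideal (MvPolynomial (Fin d × Fin 2) κ) :=
  Ideal.span (Set.range fun z : Fin d × Fin 2 × Fin 2 => MvPolynomial.X (z.1, z.2.1) * MvPolynomial.X (z.1, z.2.2))

abbrev W := MvPolynomial (Fin d × Fin 2) κ ⧸ slotIdeal κ d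

variable {κ d}

noncomputable def L (v : κ × κ) (s : Fin d) : MvPolynomial (Fin d × Fin 2) κ :=
  MvPolynomial.C v.1 * MvPolynomial.X (s, 0) + MvPolynomial.C v.2 * MvPolynomial.X (s, 1)

noncomputable def esy (v : κ × κ) (n : ℕ) (t : Finset (Fin d)) : MvPolynomial (Fin d × Fin 2) κ :=
  ∑ S ∈ t.powersetCard n, ∏ s ∈ S, L v s

theorem L_mul_L (v w : κ × κ) (s : Fin d) : Ideal.Quotient.mk (slotIdeal κ d) (L v s) * Ideal.Quotient.mk (slotIdeal κ d) (L w s) = 0 := by
  have h : ∀ i j : Fin 2, Ideal.Quotient.mk (slotIdeal κ d) (MvPolynomial.X (s, i)) * Ideal.Quotient.mk (slotIdeal κ d) (MvPolynomial.X (s, j)) = 0 := fun i j => by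
    rw [← map_mul, Ideal.Quotient.eq_zero_iff_mem]
    exact Ideal.subset_span ⟨(s, i, j), rfl⟩
  have h' : ∀ (a b : κ) (i j : Fin 2), Ideal.Quotient.mk (slotIdeal κ d) (MvPolynomial.C a) * Ideal.Quotient.mk (slotIdeal κ d) (MvPolynomial.X (s, i)) *
      (Ideal.Quotient.mk (slotIdeal κ d) (MvPolynomial.C b) * Ideal.Quotient.mk (slotIdeal κ d) (MvPolynomial.X (s, j))) = 0 := fun a b i j => by
    rw [mul_mul_mul_comm, h, mul_zero]
  simp only [L, map_add, map_mul, add_mul, mul_add, h', add_zero]

theorem esy_zero (v : κ × κ) (t : Finset (Fin d)) : esy v 0 t = 1 := by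
  simp [esy]

theorem esy_insert (v : κ × κ) (n : ℕ) {t : Finset (Fin d)} {s : Fin d} (hs : s ∉ t) :
    esy v (n + 1) (insert s t) = esy v (n + 1) t + L v s * esy v n t := by
  classical
  rw [esy, Finset.powersetCard_succ_insert hs, Finset.sum_union, esy, esy, Finset.mul_sum, Finset.sum_image]
  · refine congrArg (_ + ·) (Finset.sum_congr rfl fun S hS => ?_)
    rw [Finset.prod_insert fun h => hs ((Finset.mem_powersetCard.mp hS).1 h)]
  · intro a ha b hb hab
    have hm : ∀ c, c ∈ t.powersetCard n → s ∉ c := fun c hc h => hs ((Finset.mem_powersetCard.mp hc).1 h)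
    exact (Finset.erase_insert (hm a ha)).symm.trans ((congrArg (fun z => Finset.erase z s) hab).trans (Finset.erase_insert (hm b hb)))
  · rw [Finset.disjoint_left]
    intro S hS hS'
    obtain ⟨S', -, rfl⟩ := Finset.mem_image.mp hS'
    exact hs ((Finset.mem_powersetCard.mp hS).1 (Finset.mem_insert_self _ _))

theorem esy_empty (v : κ × κ) (n : ℕ) : esy v (n + 1) (∅ : Finset (Fin d)) = 0 := by
  rw [esy, Finset.powersetCard_eq_empty.mpr (by simp), Finset.sum_empty]

theorem mk_esy_mul (v : κ × κ) (t : Finset (Fin d)) : ∀ m n, Ideal.Quotient.mk (slotIdeal κ d) (esy v m t) * Ideal.Quotient.mk (slotIdeal κ d) (esy v n t) =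
    (m + n).choose m • Ideal.Quotient.mk (slotIdeal κ d) (esy v (m + n) t) := by
  classical
  induction t using Finset.induction with
  | empty => intro m n; rcases m with _ | m <;> rcases n with _ | n <;> simp [esy_zero, esy_empty, show ∀ a b, a + 1 + (b + 1) = (a + 1 + b) + 1 from fun _ _ => rfl]
  | insert s t hs ih =>
    intro m n
    rcases m with _ | m
    · simp [esy_zero]
    rcases n with _ | n
    · simp [esy_zero]
    have hL := L_mul_L v v s
    rw [esy_insert v m hs, esy_insert v n hs, show m + 1 + (n + 1) = (m + n + 1) + 1 by omega, esy_insert v (m + n + 1) hs]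
    simp only [map_add, map_mul, smul_add]
    have i1 := ih (m + 1) (n + 1)
    have i2 := ih (m + 1) n
    have i3 := ih m (n + 1)
    rw [show m + 1 + (n + 1) = (m + n + 1) + 1 by omega] at i1
    rw [show m + 1 + n = m + n + 1 by omega] at i2
    rw [show m + (n + 1) = m + n + 1 by omega] at i3
    simp only [nsmul_eq_mul] at i1 i2 i3 ⊢
    have hp : (((m + n + 1) + 1).choose (m + 1) : W κ d) = ((m + n + 1).choose m : W κ d) + ((m + n + 1).choose (m + 1) : W κ d) := by
      rw [Nat.choose_succ_succ', Nat.cast_add]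
    linear_combination i1 + Ideal.Quotient.mk (slotIdeal κ d) (L v s) * (i2 + i3) +
      Ideal.Quotient.mk (slotIdeal κ d) (esy v m t) * Ideal.Quotient.mk (slotIdeal κ d) (esy v n t) * hL -
      Ideal.Quotient.mk (slotIdeal κ d) (L v s) * Ideal.Quotient.mk (slotIdeal κ d) (esy v (m + n + 1) t) * hp

theorem mk_esy_add (v w : κ × κ) (t : Finset (Fin d)) : ∀ n, Ideal.Quotient.mk (slotIdeal κ d) (esy (v + w) n t) =
    ∑ k ∈ Finset.antidiagonal n, Ideal.Quotient.mk (slotIdeal κ d) (esy v k.1 t) * Ideal.Quotient.mk (slotIdeal κ d) (esy w k.2 t) := by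
  classical
  induction t using Finset.induction with
  | empty =>
    intro n
    rcases n with _ | n
    · simp [esy_zero]
    · rw [esy_empty, map_zero]
      refine (Finset.sum_eq_zero fun k hk => ?_).symm
      obtain ⟨a, b⟩ := k
      simp only [Finset.mem_antidiagonal] at hk
      rcases a with _ | a
      · obtain rfl : b = n + 1 := by omega
        simp [esy_empty]
      · simp [esy_empty]
  | insert s t hs ih =>
    intro n
    let P : κ × κ → Finset (Fin d) → PowerSeries (W κ d) := fun v t => PowerSeries.mk fun n => Ideal.Quotient.mk (slotIdeal κ d) (esy v n t)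
    have hP : ∀ v, P v (insert s t) = (1 + PowerSeries.X * PowerSeries.C (Ideal.Quotient.mk (slotIdeal κ d) (L v s))) * P v t := by
      intro v
      ext n
      rw [add_mul, one_mul, map_add, mul_assoc]
      rcases n with _ | n
      · simp [P, esy_zero]
      · rw [PowerSeries.coeff_succ_X_mul, PowerSeries.coeff_C_mul]
        simp [P, esy_insert _ n hs]
    have hadd : P (v + w) (insert s t) = P v (insert s t) * P w (insert s t) := by
      have hvw : P (v + w) t = P v t * P w t := by
        ext n; rw [PowerSeries.coeff_mul]; simpa [P] using ih n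
      have hL : L (v + w) s = L v s + L w s := by
        simp only [L, Prod.fst_add, Prod.snd_add, map_add]; ring
      rw [hP, hP, hP, hvw, hL, map_add, map_add]
      have h0 : PowerSeries.C (Ideal.Quotient.mk (slotIdeal κ d) (L v s)) * PowerSeries.C (Ideal.Quotient.mk (slotIdeal κ d) (L w s)) = 0 := by
        rw [← map_mul, L_mul_L, map_zero]
      linear_combination (-(PowerSeries.X * PowerSeries.X * P v t * P w t)) * h0
    have := congrArg (PowerSeries.coeff n) hadd
    rw [PowerSeries.coeff_mul] at this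
    simpa [P] using this

variable (κ d)
variable {A M : Type u} [CommRing A] [AddCommGroup M] [Module A M] [Algebra A κ]

theorem esy_smul (r : A) (v : κ × κ) (n : ℕ) (t : Finset (Fin d)) : esy (r • v) n t = r ^ n • esy v n t := by
  rw [esy, esy, Finset.smul_sum]
  refine Finset.sum_congr rfl fun S hS => ?_
  rw [← (Finset.mem_powersetCard.mp hS).2, ← Finset.prod_const, ← Finset.prod_smul]
  refine Finset.prod_congr rfl fun s _ => ?_
  simp only [L, Prod.smul_fst, Prod.smul_snd, smul_add, Algebra.smul_def, map_mul, Prod.fst_mul, Prod.snd_mul,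
    Prod.algebraMap_apply, MvPolynomial.algebraMap_apply, mul_assoc, mul_add]

/-- Divided powers go to elementary symmetric products of linear forms. -/
noncomputable def toW (π : M →ₗ[A] κ × κ) : DividedPowerAlgebra A M →ₐ[A] W κ d :=
  RingCon.liftₐ (DividedPowerAlgebra.ringCon A M) (MvPolynomial.aeval fun nm : ℕ × M => Ideal.Quotient.mk (slotIdeal κ d) (esy (π nm.2) nm.1 Finset.univ))
    (RingCon.ringConGen_le.mpr (by
      intro x y h
      show MvPolynomial.aeval _ x = MvPolynomial.aeval _ y
      induction h with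
      | rfl_zero => rfl
      | zero => simp [esy_zero]
      | smul =>
        simp only [MvPolynomial.aeval_X, map_smul, esy_smul]
        exact map_smul (Ideal.Quotient.mkₐ A _) _ _
      | mul => simp only [map_mul, MvPolynomial.aeval_X, map_nsmul, mk_esy_mul]
      | add => simp only [map_add, map_sum, map_mul, MvPolynomial.aeval_X, mk_esy_add]))

/-- The word with `X` on `S` and `Y` elsewhere. -/
noncomputable def word (S T : Finset (Fin d)) : (Fin d × Fin 2) →₀ ℕ :=
  ∑ s ∈ S, Finsupp.single (s, 0) 1 + ∑ s ∈ T, Finsupp.single (s, 1) 1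

theorem word_apply_zero (S T : Finset (Fin d)) (s : Fin d) : word d S T (s, 0) = if s ∈ S then 1 else 0 := by
  simp [word, Finsupp.finsetSum_apply, Finsupp.single_apply]

theorem word_apply_one (S T : Finset (Fin d)) (s : Fin d) : word d S T (s, 1) = if s ∈ T then 1 else 0 := by
  simp [word, Finsupp.finsetSum_apply, Finsupp.single_apply]

theorem word_inj {S T S' T' : Finset (Fin d)} (h : word d S T = word d S' T') : S = S' ∧ T = T' := by
  constructor
  · refine Finset.ext fun s => ?_
    have := DFunLike.congr_fun h (s, 0)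
    rw [word_apply_zero, word_apply_zero] at this
    split_ifs at this with a b <;> simp_all
  · refine Finset.ext fun s => ?_
    have := DFunLike.congr_fun h (s, 1)
    rw [word_apply_one, word_apply_one] at this
    split_ifs at this with a b <;> simp_all

theorem coeff_slotIdeal {f : MvPolynomial (Fin d × Fin 2) κ} (hf : f ∈ slotIdeal κ d) :
    ∀ z : (Fin d × Fin 2) →₀ ℕ, (∀ s, z (s, 0) + z (s, 1) ≤ 1) → MvPolynomial.coeff z f = 0 := by
  classical
  induction hf using Submodule.span_induction with
  | zero => simp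
  | add a b _ _ ha hb => intro z hz; rw [MvPolynomial.coeff_add, ha z hz, hb z hz, add_zero]
  | mem f hf =>
    intro z hz
    obtain ⟨⟨s, i, j⟩, rfl⟩ := hf
    simp only [MvPolynomial.X, MvPolynomial.monomial_mul, MvPolynomial.coeff_monomial]
    refine if_neg fun h => ?_
    have := hz s
    rw [← h] at this
    fin_cases i <;> fin_cases j <;> simp at this
  | smul g f _ ih =>
    intro z hz
    rw [smul_eq_mul, MvPolynomial.coeff_mul]
    refine Finset.sum_eq_zero fun y hy => ?_
    rw [Finset.HasAntidiagonal.mem_antidiagonal] at hy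
    have hle : ∀ t, y.2 t ≤ z t := fun t => by rw [← hy, Finsupp.add_apply]; omega
    rw [ih y.2 fun s => (Nat.add_le_add (hle _) (hle _)).trans (hz s), mul_zero]

/-- The coefficient of a word. -/
noncomputable def coeffFun (S : Finset (Fin d)) : W κ d →ₗ[κ] κ :=
  ((slotIdeal κ d).restrictScalars κ).liftQ (MvPolynomial.lcoeff κ (word d S Sᶜ)) fun f hf => by
    classical
    refine coeff_slotIdeal κ d hf _ fun s => ?_
    rw [word_apply_zero, word_apply_one]
    by_cases hs : s ∈ S <;> simp [hs]

theorem coeffFun_mk (S : Finset (Fin d)) (f : MvPolynomial (Fin d × Fin 2) κ) :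
    coeffFun κ d S (Ideal.Quotient.mk _ f) = MvPolynomial.coeff (word d S Sᶜ) f := rfl

theorem toW_dp (π : M →ₗ[A] κ × κ) (n : ℕ) (m : M) :
    toW κ d π (dp A n m) = Ideal.Quotient.mk _ (esy (π m) n Finset.univ) := by
  show MvPolynomial.aeval _ (MvPolynomial.X (n, m)) = _
  rw [MvPolynomial.aeval_X]

theorem prod_monomial {ι : Type*} (S : Finset ι) (e : ι → (Fin d × Fin 2) →₀ ℕ) (a : ι → κ) :
    ∏ s ∈ S, MvPolynomial.monomial (e s) (a s) = MvPolynomial.monomial (∑ s ∈ S, e s) (∏ s ∈ S, a s) := by
  classical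
  induction S using Finset.induction with
  | empty => simp
  | insert s S hs ih => rw [Finset.prod_insert hs, ih, MvPolynomial.monomial_mul, Finset.sum_insert hs, Finset.prod_insert hs]

theorem coeffFun_dp (π : M →ₗ[A] κ × κ) (S : Finset (Fin d)) (m : M) :
    coeffFun κ d S (toW κ d π (dp A d m)) = (π m).1 ^ S.card * (π m).2 ^ (d - S.card) := by
  classical
  have hu : Finset.powersetCard d (Finset.univ : Finset (Fin d)) = {Finset.univ} := by
    simpa using Finset.powersetCard_self (Finset.univ : Finset (Fin d))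
  rw [toW_dp, coeffFun_mk, esy, hu, Finset.sum_singleton]
  simp only [L]
  rw [Finset.prod_add, MvPolynomial.coeff_sum, Finset.sum_eq_single S]
  · simp only [MvPolynomial.C_mul_X_eq_monomial]
    rw [prod_monomial, prod_monomial, MvPolynomial.monomial_mul, MvPolynomial.coeff_monomial, ← Finset.compl_eq_univ_sdiff,
      show ∑ s ∈ S, Finsupp.single (s, (0 : Fin 2)) 1 + ∑ s ∈ Sᶜ, Finsupp.single (s, (1 : Fin 2)) 1 = word d S Sᶜ from rfl, if_pos rfl,
      Finset.prod_const, Finset.prod_const, Finset.card_compl, Fintype.card_fin]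
  · intro S' _ hS'
    simp only [MvPolynomial.C_mul_X_eq_monomial]
    rw [prod_monomial, prod_monomial, MvPolynomial.monomial_mul, MvPolynomial.coeff_monomial]
    exact if_neg fun h => hS' (word_inj d (T := Finset.univ \ S') (T' := Sᶜ) h).1
  · intro h; exact absurd (Finset.mem_powerset.mpr (Finset.subset_univ S)) h

theorem coeffFun_mul (S : Finset (Fin d)) (n : ℕ) (π : M →ₗ[A] κ × κ) (x y : M) (hx : π x = (1, 0)) (hy : π y = (0, 1)) :
    coeffFun κ d S (toW κ d π (dp A n x) * toW κ d π (dp A 1 y)) =
      if S.card = n ∧ d = n + 1 then 1 else 0 := by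
  classical
  rw [toW_dp, toW_dp, ← map_mul, coeffFun_mk, esy, esy, hx, hy, Finset.sum_mul_sum, MvPolynomial.coeff_sum]
  simp only [MvPolynomial.coeff_sum, L, map_one, map_zero, one_mul, zero_mul, add_zero, zero_add, MvPolynomial.X,
    prod_monomial, MvPolynomial.monomial_mul, Finset.prod_const_one, mul_one, MvPolynomial.coeff_monomial]
  change ∑ S' ∈ _, ∑ T ∈ _, (if word d S' T = word d S Sᶜ then (1 : κ) else 0) = _
  have hcard : Sᶜ.card = d - S.card := by rw [Finset.card_compl, Fintype.card_fin]
  have hle : S.card ≤ d := (Finset.card_le_univ S).trans (Fintype.card_fin d).le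
  by_cases hS : S.card = n ∧ d = n + 1
  · rw [if_pos hS, Finset.sum_eq_single S, Finset.sum_eq_single Sᶜ, if_pos rfl]
    · exact fun T _ hT => if_neg fun h => hT (word_inj d h).2
    · exact fun h => absurd (Finset.mem_powersetCard.mpr ⟨Finset.subset_univ _, by omega⟩) h
    · exact fun S' _ hS' => Finset.sum_eq_zero fun T _ => if_neg fun h => hS' (word_inj d h).1
    · exact fun h => absurd (Finset.mem_powersetCard.mpr ⟨Finset.subset_univ _, hS.1⟩) h
  · rw [if_neg hS]
    refine Finset.sum_eq_zero fun S' hS' => Finset.sum_eq_zero fun T hT => if_neg fun h => hS ?_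
    obtain ⟨rfl, rfl⟩ := word_inj d h
    rw [Finset.mem_powersetCard] at hS' hT
    omega

end

theorem exists_two {A M : Type u} [CommRing A] [AddCommGroup M] [Module A M] [Module.Finite A M] (P : Ideal A) [P.IsPrime]
    (hcyc : ∀ x : LocalizedModule P.primeCompl M, Submodule.span (Localization.AtPrime P) {x} ≠ ⊤) :
    ∃ (π : M →ₗ[A] P.ResidueField × P.ResidueField) (x y : M), π x = (1, 0) ∧ π y = (0, 1) := by
  let R := Localization.AtPrime P
  let Mp := LocalizedModule P.primeCompl M
  let κ := P.ResidueField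
  haveI : Module.Finite R Mp := Module.Finite.of_isLocalizedModule P.primeCompl (LocalizedModule.mkLinearMap P.primeCompl M)
  obtain ⟨ι, hι⟩ : ∃ ι : M → κ ⊗[R] Mp, ∀ m, ι m = (1 : κ) ⊗ₜ[R] LocalizedModule.mk m 1 := ⟨_, fun _ => rfl⟩
  have hspan : Submodule.span κ (Set.range ι) = ⊤ := by
    refine eq_top_iff.mpr fun z _ => ?_
    induction z using TensorProduct.induction_on with
    | zero => exact zero_mem _
    | add a b ha hb => exact add_mem (ha trivial) (hb trivial)
    | tmul c u =>
      induction u using LocalizedModule.induction_on with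
      | h m s =>
        have h1 : LocalizedModule.mk m s = (Localization.mk 1 s : R) • LocalizedModule.mk m 1 := by
          rw [LocalizedModule.mk_smul_mk, one_smul, mul_one]
        rw [h1, ← TensorProduct.smul_tmul, show ((Localization.mk 1 s : R) • c) ⊗ₜ[R] LocalizedModule.mk m 1 =
          ((Localization.mk 1 s : R) • c) • ι m by rw [hι, TensorProduct.smul_tmul', smul_eq_mul, mul_one]]
        exact Submodule.smul_mem _ _ (Submodule.subset_span ⟨m, rfl⟩)
  obtain ⟨b, hb, hb2, hb3⟩ := exists_linearIndependent κ (Set.range ι)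
  rw [hspan] at hb2
  let B := Module.Basis.mk hb3 (by rw [Subtype.range_coe, hb2])
  have hB : ∀ i : b, B i = (i : κ ⊗[R] Mp) := fun i => Module.Basis.mk_apply _ _ i
  by_cases hsub : b.Subsingleton
  · exfalso
    obtain ⟨m, hm⟩ : ∃ m, b ⊆ {ι m} := by
      rcases hsub.eq_empty_or_singleton with h | ⟨z, h⟩
      · exact ⟨0, h ▸ Set.empty_subset _⟩
      · obtain ⟨m, rfl⟩ := hb (h ▸ Set.mem_singleton z : z ∈ b)
        exact ⟨m, h.le⟩
    refine hcyc (LocalizedModule.mk m 1) (IsLocalRing.map_tensorProduct_mk_eq_top.mp ?_)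
    rw [eq_top_iff]
    intro z _
    have hz : z ∈ Submodule.span κ {ι m} := Submodule.span_mono hm (hb2 ▸ Submodule.mem_top)
    obtain ⟨c, rfl⟩ := Submodule.mem_span_singleton.mp hz
    obtain ⟨r, rfl⟩ := IsLocalRing.residue_surjective c
    refine ⟨r • LocalizedModule.mk m 1, Submodule.smul_mem _ _ (Submodule.mem_span_singleton_self _), ?_⟩
    rw [map_smul, hι, ← algebraMap_smul κ r]
    rfl
  · obtain ⟨u, hu, v, hv, huv⟩ := Set.not_subsingleton_iff.mp hsub
    obtain ⟨x, rfl⟩ := hb hu
    obtain ⟨y, rfl⟩ := hb hv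
    classical
    let φ : κ ⊗[R] Mp →ₗ[κ] κ × κ := (B.coord ⟨_, hu⟩).prod (B.coord ⟨_, hv⟩)
    let ψ : Mp →ₗ[R] κ × κ := (φ.restrictScalars R) ∘ₗ (TensorProduct.mk R κ Mp 1)
    refine ⟨(ψ.restrictScalars A) ∘ₗ LocalizedModule.mkLinearMap P.primeCompl M, x, y, ?_, ?_⟩
    · simp only [ψ, LinearMap.comp_apply, LinearMap.restrictScalars_apply, TensorProduct.mk_apply]
      rw [LocalizedModule.mkLinearMap_apply, ← hι, show ι x = B ⟨ι x, hu⟩ from (hB ⟨ι x, hu⟩).symm]
      simp [φ, huv.symm, huv]
    · simp only [ψ, LinearMap.comp_apply, LinearMap.restrictScalars_apply, TensorProduct.mk_apply]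
      rw [LocalizedModule.mkLinearMap_apply, ← hι, show ι y = B ⟨ι y, hv⟩ from (hB ⟨ι y, hv⟩).symm]
      simp [φ, huv.symm, huv]


/-- Let A be a commutative ring, M a finitely generated A-module and d ≥ 0. If the degree-d piece
Γ^d_A(M) of Γ_A(M) is spanned over A by the divided powers γ_d(m), m ∈ M, then at each prime p of A
either k(p) has d or more elements, or the localisation M_p is a cyclic A_p-module. -/
theorem result {A M : Type u} [CommRing A] [AddCommGroup M]
    [Module A M] [Module.Finite A M] (d : ℕ)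
    (h : Submodule.span A (Set.range (DividedPowerAlgebra.dp A d : M → DividedPowerAlgebra A M)) =
      PolLaw.gammaPiece A M d)
    (p : PrimeSpectrum A) :
    (d : Cardinal) ≤ Cardinal.mk p.asIdeal.ResidueField ∨
      ∃ x : LocalizedModule p.asIdeal.primeCompl M, Submodule.span (Localization.AtPrime p.asIdeal) {x} = ⊤ := by
  classical
  by_cases hd : (d : Cardinal) ≤ Cardinal.mk p.asIdeal.ResidueField
  · exact Or.inl hd
  refine Or.inr ?_
  by_contra hcyc
  push Not at hcyc
  rw [not_le] at hd
  haveI : Finite p.asIdeal.ResidueField := Cardinal.lt_aleph0_iff_finite.mp (hd.trans (Cardinal.natCast_lt_aleph0 (n := d)))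
  haveI := Fintype.ofFinite p.asIdeal.ResidueField
  rw [Cardinal.mk_fintype, Nat.cast_lt] at hd
  obtain ⟨π, x, y, hx, hy⟩ := exists_two p.asIdeal hcyc
  have h2 := Fintype.one_lt_card (α := p.asIdeal.ResidueField)
  set q := Fintype.card p.asIdeal.ResidueField
  let S₁ : Finset (Fin d) := Finset.univ.filter fun s => (s : ℕ) < d - 1
  let S₂ : Finset (Fin d) := Finset.univ.filter fun s => (s : ℕ) < d - q
  have c₁ : S₁.card = d - 1 := by simp [S₁, Fin.card_filter_val_lt]
  have c₂ : S₂.card = d - q := by simp [S₂, Fin.card_filter_val_lt]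
  let ψ : DividedPowerAlgebra A M →ₗ[A] p.asIdeal.ResidueField :=
    ((coeffFun p.asIdeal.ResidueField d S₁).restrictScalars A - (coeffFun p.asIdeal.ResidueField d S₂).restrictScalars A) ∘ₗ
      (toW p.asIdeal.ResidueField d π).toLinearMap
  have hψ : ∀ z ∈ Submodule.span A (Set.range (DividedPowerAlgebra.dp A d : M → DividedPowerAlgebra A M)), ψ z = 0 := by
    intro z hz
    induction hz using Submodule.span_induction with
    | zero => exact map_zero _
    | add a b _ _ ha hb => rw [map_add, ha, hb, add_zero]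
    | smul c a _ ha => rw [map_smul, ha, smul_zero]
    | mem z hz =>
      obtain ⟨m, rfl⟩ := hz
      simp only [ψ, LinearMap.comp_apply, AlgHom.toLinearMap_apply, LinearMap.sub_apply, LinearMap.restrictScalars_apply]
      rw [coeffFun_dp, coeffFun_dp, c₁, c₂, sub_eq_zero, show d - (d - 1) = 1 by omega, show d - (d - q) = q by omega]
      rw [FiniteField.pow_card, pow_one]
      congr 1
      rw [show d - 1 = d - q - 1 + q by omega, pow_add, FiniteField.pow_card, ← pow_succ, show d - q - 1 + 1 = d - q by omega]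
  have hz : DividedPowerAlgebra.dp A (d - 1) x * DividedPowerAlgebra.dp A 1 y ∈ PolLaw.gammaPiece A M d :=
    Submodule.subset_span ⟨2, ![d - 1, 1], ![x, y], by simp [Fin.sum_univ_two]; omega, by simp [Fin.prod_univ_two]⟩
  rw [← h] at hz
  have := hψ _ hz
  simp only [ψ, LinearMap.comp_apply, AlgHom.toLinearMap_apply, LinearMap.sub_apply, LinearMap.restrictScalars_apply] at this
  rw [map_mul (toW p.asIdeal.ResidueField d π), coeffFun_mul _ d S₁ (d - 1) π x y hx hy,
    coeffFun_mul _ d S₂ (d - 1) π x y hx hy, c₁, c₂, if_pos ⟨rfl, by omega⟩, if_neg (by omega), sub_zero] at this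
  exact one_ne_zero this

end Groth.Agent.S13388
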