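import Groth.Statements.S13389
import Mathlib.LinearAlgebra.Vandermonde
import Mathlib.LinearAlgebra.Matrix.NonsingularInverse
import Mathlib.RingTheory.DividedPowerAlgebra.Init

set_option autoImplicit false
universe u
open ZeroCyc

namespace Groth.Agent.S13389

open Finset DividedPowerAlgebra

variable {A M : Type*} [CommRing A] [AddCommGroup M] [Module A M]

theorem dp_mul_dp_mem (s : ℕ) (u : A) (hu : ∀ i j : ℕ, i < j → j ≤ s → IsUnit (u ^ i - u ^ j))
    (a : ℕ) (ha : a ≤ s) (x y : M) :
    dp A a x * dp A (s - a) y ∈ Submodule.span A (Set.range (dp A s : M → DividedPowerAlgebra A M)) := by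
  set V : Matrix (Fin (s + 1)) (Fin (s + 1)) A := Matrix.vandermonde fun i => u ^ (i : ℕ)
  have hV : IsUnit V.det := by
    rw [Matrix.det_vandermonde, IsUnit.prod_iff]
    intro i _
    rw [IsUnit.prod_iff]
    intro j hj
    have hij : i < j := Finset.mem_Ioi.1 hj
    have h := (hu i j hij (Nat.le_of_lt_succ j.2)).neg
    rwa [neg_sub] at h
  let v : Fin (s + 1) → DividedPowerAlgebra A M := fun k => dp A (k : ℕ) x * dp A (s - k) y
  have hw : ∀ t, ∑ k, V t k • v k = dp A s (u ^ (t : ℕ) • x + y) := fun t => by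
    rw [dp_add, Finset.Nat.sum_antidiagonal_eq_sum_range_succ (fun k l => dp A k (u ^ (t : ℕ) • x) * dp A l y),
      Finset.sum_range]
    refine Finset.sum_congr rfl fun k _ => ?_
    rw [dp_smul, smul_mul_assoc]
    rfl
  have hv : v ⟨a, Nat.lt_succ_of_le ha⟩ = ∑ t, V⁻¹ ⟨a, Nat.lt_succ_of_le ha⟩ t • ∑ k, V t k • v k := by
    simp only [Finset.smul_sum, smul_smul]
    rw [Finset.sum_comm]
    simp only [← Finset.sum_smul, ← Matrix.mul_apply, Matrix.nonsing_inv_mul V hV, Matrix.one_apply,
      ite_smul, one_smul, zero_smul, Finset.sum_ite_eq, Finset.mem_univ, if_true]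
  change v ⟨a, Nat.lt_succ_of_le ha⟩ ∈ _
  rw [hv]
  exact Submodule.sum_mem _ fun t _ => Submodule.smul_mem _ _ (hw t ▸ Submodule.subset_span ⟨_, rfl⟩)

theorem prod_dp_mem (d : ℕ) (u : A) (hu : ∀ i j : ℕ, i < j → j ≤ d → IsUnit (u ^ i - u ^ j)) :
    ∀ (n : ℕ) (k : Fin n → ℕ) (m : Fin n → M), (∑ i, k i) ≤ d →
      (∏ i, dp A (k i) (m i)) ∈
        Submodule.span A (Set.range (dp A (∑ i, k i) : M → DividedPowerAlgebra A M)) := by
  intro n
  induction n with
  | zero =>
    intro k m _
    exact Submodule.subset_span ⟨0, by simp [dp_zero]⟩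
  | succ n ih =>
    intro k m hk
    rw [Fin.sum_univ_castSucc] at hk ⊢
    rw [Fin.prod_univ_castSucc]
    have h := ih (fun i => k i.castSucc) (fun i => m i.castSucc) (le_trans (Nat.le_add_right _ _) hk)
    set s := ∑ i : Fin n, k i.castSucc with hs
    set N := Submodule.span A (Set.range (dp A (s + k (Fin.last n)) : M → DividedPowerAlgebra A M))
    have hle : Submodule.span A (Set.range (dp A s : M → DividedPowerAlgebra A M)) ≤
        N.comap (LinearMap.mulRight A (dp A (k (Fin.last n)) (m (Fin.last n)))) := by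
      rw [Submodule.span_le]
      rintro _ ⟨y, rfl⟩
      have := dp_mul_dp_mem (s + k (Fin.last n)) u (fun i j hij hj => hu i j hij (hj.trans hk)) s
        (Nat.le_add_right _ _) y (m (Fin.last n))
      rwa [Nat.add_sub_cancel_left] at this
    exact hle h

end Groth.Agent.S13389

namespace Groth.Agent.S13389

open Polynomial in
/-- Let P_d(T) = ∏_{0 ≤ i < j ≤ d} (T^i − T^j) − 1 ∈ ℤ[T]. If A is an algebra over ℤ[T]/(P_d), i.e.
receives a ring homomorphism from it, then for every A-module M the degree-d piece Γ^d_A(M) of the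
divided power algebra Γ_A(M) is spanned over A by the d-th divided powers γ_d(m), m ∈ M. (The
published statement adds that consequently every ring has a finite faithfully flat extension,
independent of M, over which this holds; that clause is not restated.) -/
theorem result {A M : Type u} [CommRing A] [AddCommGroup M]
    [Module A M] (d : ℕ)
    (φ : (ℤ[X] ⧸ Ideal.span {(∏ j ∈ Finset.range (d + 1), ∏ i ∈ Finset.range j,
        ((X : ℤ[X]) ^ i - X ^ j)) - 1}) →+* A) :
    Submodule.span A (Set.range (DividedPowerAlgebra.dp A d : M → DividedPowerAlgebra A M)) =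
      PolLaw.gammaPiece A M d := by
  set I : Ideal ℤ[X] := Ideal.span {(∏ j ∈ Finset.range (d + 1), ∏ i ∈ Finset.range j,
        ((X : ℤ[X]) ^ i - X ^ j)) - 1}
  let f : ℤ[X] →+* A := φ.comp (Ideal.Quotient.mk I)
  have h1 : f (∏ j ∈ Finset.range (d + 1), ∏ i ∈ Finset.range j, ((X : ℤ[X]) ^ i - X ^ j)) = 1 := by
    rw [← sub_eq_zero, ← map_one f, ← map_sub]
    show φ _ = 0
    rw [Ideal.Quotient.eq_zero_iff_mem.2 (Ideal.mem_span_singleton_self _), map_zero]
  have hu : ∀ i j : ℕ, i < j → j ≤ d → IsUnit (f X ^ i - f X ^ j) := fun i j hij hj => by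
    simp only [map_prod, map_sub, map_pow] at h1
    have h2 := IsUnit.prod_iff.1 (h1 ▸ isUnit_one) j (Finset.mem_range.2 (Nat.lt_succ_of_le hj))
    exact IsUnit.prod_iff.1 h2 i (Finset.mem_range.2 hij)
  refine le_antisymm (Submodule.span_le.2 ?_) (Submodule.span_le.2 ?_)
  · rintro _ ⟨m, rfl⟩
    exact Submodule.subset_span ⟨1, fun _ => d, fun _ => m, by simp, by simp⟩
  · rintro _ ⟨n, k, m, hk, rfl⟩
    rw [SetLike.mem_coe]
    simpa only [hk] using prod_dp_mem d (f X) hu n k m hk.le

end Groth.Agent.S13389
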