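import Groth.Statements.S13390
import Groth.Agent.L15.SegreSym
import Mathlib.RingTheory.LocalRing.ResidueField.Ideal
import Mathlib.Algebra.MvPolynomial.CommRing
import Mathlib.RingTheory.MvPolynomial
import Mathlib.Tactic.LinearCombination

set_option autoImplicit false
universe u
open scoped TensorProduct
open ZeroCyc

namespace Groth.Agent.S13390

open Groth.L15.SegreSym

/-- Let A be a commutative ring, B a graded A-algebra generated by its degree-one part B_1 with B_1 a
finitely generated A-module, and d ≥ 0. Inside the d-fold tensor power T^d_A(B) let C_k be the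
A-span of the pure tensors b_1 ⊗ ⋯ ⊗ b_d with all b_i ∈ B_k, let C = Σ_k C_k (the A-subalgebra
generated by these pure tensors; Proj C is the d-fold fibre product of X = Proj B over S = Spec A)
and let D = C ∩ TS^d_A(B) be its subring of symmetric tensors, graded by D_k = C_k ∩ TS^d_A(B), so
that Proj D is the symmetric product Sym^d(X/S). Then Proj D is covered in degree one: every t ∈ D_k
with k ≥ 1 has some power t^m, m ≥ 1, in the ideal of D generated by D_1. -/
theorem result {A B : Type u} [CommRing A] [CommRing B] [Algebra A B]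
    (𝒜 : ℕ → Submodule A B) [GradedAlgebra 𝒜] (hgen : Algebra.adjoin A (𝒜 1 : Set B) = ⊤) (hfg : (𝒜 1).FG) (d : ℕ)
    (D : Subalgebra A (⨂[A] _ : Fin d, B))
    (hD : D = Algebra.adjoin A {t | ∃ (k : ℕ) (b : Fin d → B), (∀ i, b i ∈ 𝒜 k) ∧ t = PiTensorProduct.tprod A b}
      ⊓ SymTen.TS A B d)
    (k : ℕ) (hk : 0 < k) (t : ⨂[A] _ : Fin d, B) (htD : t ∈ D)
    (htk : t ∈ Submodule.span A {s | ∃ b : Fin d → B, (∀ i, b i ∈ 𝒜 k) ∧ s = PiTensorProduct.tprod A b}) :
    ∃ m : ℕ, 0 < m ∧ (⟨t, htD⟩ : D) ^ m ∈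
      Ideal.span {x : D | (x : ⨂[A] _ : Fin d, B) ∈
        Submodule.span A {s | ∃ b : Fin d → B, (∀ i, b i ∈ 𝒜 1) ∧ s = PiTensorProduct.tprod A b}} := by
  classical
  refine pow_mem_span 𝒜 D hD _ ⟨t, htD⟩ fun R _ _ _ χ hne => ?_
  obtain ⟨x, hx, hb⟩ := exists_base_ne 𝒜 hgen χ hk _ htk hne
  let cnt : (Fin d → Fin d) → (Fin d →₀ ℕ) := fun c => ∑ j, Finsupp.single (c j) 1
  let S : (Fin d →₀ ℕ) → Finset (Fin d → Fin d) := fun ν => Finset.univ.filter fun c => cnt c = ν
  let P : MvPolynomial (Fin d) R :=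
    ∏ j, ∑ i, MvPolynomial.monomial (Finsupp.single i 1) (coord 𝒜 χ x hx j 1 ⟨x i, hx i⟩)
  have hP : P ≠ 0 := by
    refine Finset.prod_ne_zero_iff.mpr fun j _ h0 => ?_
    have h1 := congrArg (MvPolynomial.coeff (Finsupp.single j 1)) h0
    rw [MvPolynomial.coeff_sum, Finset.sum_eq_single j, MvPolynomial.coeff_monomial, if_pos rfl,
      coord_self, MvPolynomial.coeff_zero] at h1
    · exact hb h1
    · intro i _ hij
      rw [MvPolynomial.coeff_monomial,
        if_neg fun h => hij (Finsupp.single_left_injective one_ne_zero h)]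
    · exact fun h => absurd (Finset.mem_univ _) h
  obtain ⟨ν, hν⟩ := MvPolynomial.exists_coeff_ne_zero hP
  have hz : (∑ c ∈ S ν, PiTensorProduct.tprod A (fun j => x (c j))) ∈ D := by
    rw [hD]
    refine ⟨Subalgebra.sum_mem _ fun c _ => tprod_mem_segre 𝒜 fun j => hx _, ?_⟩
    intro σ
    rw [← SymTen.perm_apply, map_sum]
    refine Finset.sum_equiv (Equiv.arrowCongr σ (Equiv.refl (Fin d))) ?_ ?_
    · intro c
      simp only [S, Finset.mem_filter, Finset.mem_univ, true_and, cnt]
      rw [← Equiv.sum_comp σ fun j => Finsupp.single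
        ((Equiv.arrowCongr σ (Equiv.refl (Fin d))) c j) 1]
      simp
    · intro c _
      rw [SymTen.perm_tprod]
      rfl
  refine ⟨⟨∑ c ∈ S ν, PiTensorProduct.tprod A (fun j => x (c j)), hz⟩, ?_, ?_⟩
  · exact Submodule.sum_mem (Submodule.span A _) fun c _ => Submodule.subset_span
      ⟨fun j => x (c j), fun j => hx _, rfl⟩
  intro h0
  apply hν
  have hPe : P = ∑ c : Fin d → Fin d, MvPolynomial.monomial (cnt c)
      (∏ j, coord 𝒜 χ x hx j 1 ⟨x (c j), hx _⟩) := by
    simp only [P]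
    rw [Finset.prod_univ_sum, Fintype.piFinset_univ]
    refine Finset.sum_congr rfl fun c _ => ?_
    rw [MvPolynomial.monomial_sum_prod]
  rw [hPe, MvPolynomial.coeff_sum]
  simp only [MvPolynomial.coeff_monomial]
  rw [← Finset.sum_filter]
  have hterm : ∀ c : Fin d → Fin d, (∏ j, coord 𝒜 χ x hx j 1 ⟨x (c j), hx _⟩) =
      χ ⟨_, tprod_mem_segre 𝒜 fun j => hx (c j)⟩ * base 𝒜 χ x hx ^ (1 * (d - 1)) :=
    fun c => prod_coord 𝒜 χ x hx (fun j => x (c j)) fun j => hx _
  simp only [hterm]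
  rw [← Finset.sum_mul, ← map_sum]
  convert zero_mul _ using 2
  rw [← h0]
  congr 1
  exact Subtype.ext (by simp [S])

end Groth.Agent.S13390
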