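import Groth.Statements.S13391
import Groth.Agent.L15.SegreSym
import Mathlib.RingTheory.LocalRing.ResidueField.Ideal
import Mathlib.Algebra.MvPolynomial.CommRing
import Mathlib.RingTheory.MvPolynomial
import Mathlib.Tactic.LinearCombination

set_option autoImplicit false
universe u
open scoped TensorProduct
open ZeroCyc

namespace Groth.Agent.S13391

open Groth.L15.SegreSym

theorem coord_pow {A B : Type u} [CommRing A] [CommRing B] [Algebra A B] (𝒜 : ℕ → Submodule A B)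
    [GradedAlgebra 𝒜] {d : ℕ} {R : Type u} [CommRing R] [Algebra A R] (χ : segre 𝒜 d →ₐ[A] R)
    (x : Fin d → B) (hx : ∀ i, x i ∈ 𝒜 1) (j : Fin d) {n : ℕ} (c : 𝒜 n) (e : ℕ) :
    coord 𝒜 χ x hx j (e * n) ⟨c.1 ^ e, by simpa using SetLike.pow_mem_graded e c.2⟩ =
      coord 𝒜 χ x hx j n c ^ e := by
  have key : ∀ (m m' : ℕ) (hm : m = m') (b b' : B) (hb : b = b') (h : b ∈ 𝒜 m) (h' : b' ∈ 𝒜 m'),
      coord 𝒜 χ x hx j m ⟨_, h⟩ = coord 𝒜 χ x hx j m' ⟨_, h'⟩ := by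
    intro m m' hm b b' hb h h'; subst hm; subst hb; rfl
  induction e with
  | zero =>
    rw [key _ 0 (Nat.zero_mul n) _ 1 (pow_zero c.1) _ SetLike.GradedOne.one_mem, pow_zero]
    show χ _ = 1
    rw [← map_one χ]
    congr 1
    refine Subtype.ext ?_
    show PiTensorProduct.tprod A _ = (1 : ⨂[A] _ : Fin d, B)
    rw [PiTensorProduct.one_def]
    congr 1
    funext i
    rcases eq_or_ne i j with rfl | h
    · simp
    · simp [Function.update_of_ne h]
  | succ e ih =>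
    rw [key _ (e * n + n) (Nat.succ_mul e n) _ (c.1 ^ e * c.1) (pow_succ c.1 e) _
      (SetLike.mul_mem_graded (by simpa using SetLike.pow_mem_graded e c.2) c.2), pow_succ, ← ih,
      ← coord_mul]

theorem exists_avoid {A B : Type u} [CommRing A] [CommRing B] [Algebra A B] (𝒜 : ℕ → Submodule A B)
    [GradedAlgebra 𝒜] {d : ℕ} {R : Type u} [CommRing R] [IsDomain R] [Algebra A R]
    (χ : segre 𝒜 d →ₐ[A] R) (x : Fin d → B) (hx : ∀ i, x i ∈ 𝒜 1) (hb : base 𝒜 χ x hx ≠ 0)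
    (s : Finset (Fin d)) :
    ∃ (n : ℕ), 0 < n ∧ ∃ c : 𝒜 n, ∀ j ∈ s, coord 𝒜 χ x hx j n c ≠ 0 := by
  classical
  induction s using Finset.strongInduction with
  | _ s IH =>
  by_cases hdom : ∃ i ∈ s, ∃ j ∈ s, i ≠ j ∧
      ∀ (n : ℕ) (c : 𝒜 n), coord 𝒜 χ x hx j n c = 0 → coord 𝒜 χ x hx i n c = 0
  · obtain ⟨i, hi, j, hj, hij, hle⟩ := hdom
    obtain ⟨n, hn, c, hc⟩ := IH (s.erase j) (Finset.erase_ssubset hj)
    refine ⟨n, hn, c, fun l hl => ?_⟩
    rcases eq_or_ne l j with rfl | h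
    · exact fun h0 => hc i (Finset.mem_erase.mpr ⟨hij, hi⟩) (hle n c h0)
    · exact hc l (Finset.mem_erase.mpr ⟨h, hl⟩)
  · simp only [not_exists, not_and, not_forall] at hdom
    -- separating elements
    have sep : ∀ i ∈ s, ∀ t : Finset (Fin d), t ⊆ s.erase i →
        ∃ (n : ℕ), 0 < n ∧ ∃ c : 𝒜 n, coord 𝒜 χ x hx i n c ≠ 0 ∧
          ∀ j ∈ t, coord 𝒜 χ x hx j n c = 0 := by
      intro i hi t
      induction t using Finset.induction_on with
      | empty =>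
        exact fun _ => ⟨1, one_pos, ⟨x i, hx i⟩, by rw [coord_self]; exact hb, by simp⟩
      | insert j t hjt ih =>
        intro hsub
        obtain ⟨hjs, hts⟩ := Finset.insert_subset_iff.mp hsub
        obtain ⟨n, hn, c, hci, hct⟩ := ih hts
        obtain ⟨hji, hj⟩ := Finset.mem_erase.mp hjs
        obtain ⟨m, g, hgj, hgi⟩ := hdom i hi j hj (Ne.symm hji)
        refine ⟨n + m, by omega, ⟨c.1 * g.1, SetLike.mul_mem_graded c.2 g.2⟩, ?_, ?_⟩
        · rw [coord_mul]; exact mul_ne_zero hci hgi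
        · intro l hl
          rw [coord_mul]
          rcases Finset.mem_insert.mp hl with rfl | hl
          · rw [hgj, mul_zero]
          · rw [hct l hl, zero_mul]
    choose! n hn c hc1 hc2 using fun i hi => sep i hi (s.erase i) (subset_refl _)
    let N := ∏ i ∈ s, n i
    have hN : 0 < N := Finset.prod_pos hn
    have hmem : ∀ i : {i // i ∈ s}, (c i).1 ^ (N / n i) ∈ 𝒜 N := by
      intro i
      have := SetLike.pow_mem_graded (N / n i) (c i).2
      rwa [smul_eq_mul, Nat.div_mul_cancel (Finset.dvd_prod_of_mem n i.2)] at this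
    refine ⟨N, hN, ∑ i : {i // i ∈ s}, ⟨_, hmem i⟩, fun l hl => ?_⟩
    have hval : ∀ i : {i // i ∈ s}, coord 𝒜 χ x hx l N ⟨_, hmem i⟩ =
        coord 𝒜 χ x hx l (n i) (c i) ^ (N / n i) := by
      intro i
      rw [← coord_pow]
      have key : ∀ (m m' : ℕ) (hm : m = m') (b : B) (h : b ∈ 𝒜 m) (h' : b ∈ 𝒜 m'),
          coord 𝒜 χ x hx l m ⟨_, h⟩ = coord 𝒜 χ x hx l m' ⟨_, h'⟩ := by
        intro m m' hm b h h'; subst hm; rfl
      exact key _ _ (Nat.div_mul_cancel (Finset.dvd_prod_of_mem n i.2)).symm _ _ _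
    rw [map_sum, Finset.sum_eq_single ⟨l, hl⟩]
    · rw [hval]; exact pow_ne_zero _ (hc1 l hl)
    · intro i _ hil
      rw [hval, hc2 i i.2 l (Finset.mem_erase.mpr ⟨fun h => hil (Subtype.ext h.symm), hl⟩), zero_pow]
      exact (Nat.div_pos (Nat.le_of_dvd hN (Finset.dvd_prod_of_mem n i.2)) (hn i i.2)).ne'
    · exact fun h => absurd (Finset.mem_univ _) h

/-- Let A be a commutative ring, B a graded A-algebra generated by its degree-one part B_1 with B_1 a
finitely generated A-module, and d ≥ 0. Inside the d-fold tensor power T^d_A(B) let C_k be the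
A-span of the pure tensors b_1 ⊗ ⋯ ⊗ b_d with all b_i ∈ B_k, let C = Σ_k C_k (the A-subalgebra
generated by these pure tensors; Proj C is the d-fold fibre product of X = Proj B over S = Spec A)
and let D = C ∩ TS^d_A(B) be its subring of symmetric tensors, graded by D_k = C_k ∩ TS^d_A(B), so
that Proj D is the symmetric product Sym^d(X/S). Then Sym^d(X/S) is covered by the affine opens
Sym^d(X_f/S) = D_+(f ⊗ ⋯ ⊗ f), f ∈ B_n, n ≥ 1: every t ∈ D_k with k ≥ 1 has some power t^m, m ≥ 1,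
in the ideal of D generated by the tensors f ⊗ f ⊗ ⋯ ⊗ f with f homogeneous of positive degree. -/
theorem result {A B : Type u} [CommRing A] [CommRing B] [Algebra A B]
    (𝒜 : ℕ → Submodule A B) [GradedAlgebra 𝒜] (hgen : Algebra.adjoin A (𝒜 1 : Set B) = ⊤) (hfg : (𝒜 1).FG) (d : ℕ)
    (D : Subalgebra A (⨂[A] _ : Fin d, B))
    (hD : D = Algebra.adjoin A {t | ∃ (k : ℕ) (b : Fin d → B), (∀ i, b i ∈ 𝒜 k) ∧ t = PiTensorProduct.tprod A b}
      ⊓ SymTen.TS A B d)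
    (k : ℕ) (hk : 0 < k) (t : ⨂[A] _ : Fin d, B) (htD : t ∈ D)
    (htk : t ∈ Submodule.span A {s | ∃ b : Fin d → B, (∀ i, b i ∈ 𝒜 k) ∧ s = PiTensorProduct.tprod A b}) :
    ∃ m : ℕ, 0 < m ∧ (⟨t, htD⟩ : D) ^ m ∈
      Ideal.span {x : D | ∃ (n : ℕ) (f : B), 0 < n ∧ f ∈ 𝒜 n ∧
        (x : ⨂[A] _ : Fin d, B) = PiTensorProduct.tprod A (fun _ : Fin d => f)} := by
  classical
  refine pow_mem_span 𝒜 D hD _ ⟨t, htD⟩ fun R _ _ _ χ hne => ?_
  obtain ⟨x, hx, hb⟩ := exists_base_ne 𝒜 hgen χ hk _ htk hne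
  obtain ⟨n, hn, c, hc⟩ := exists_avoid 𝒜 χ x hx hb Finset.univ
  have hzD : PiTensorProduct.tprod A (fun _ : Fin d => c.1) ∈ D :=
    hD ▸ ⟨tprod_mem_segre 𝒜 fun _ => c.2, (SymTen.tpow A B d c.1).2⟩
  refine ⟨⟨_, hzD⟩, ⟨n, c.1, hn, c.2, rfl⟩, ?_⟩
  have h := prod_coord 𝒜 χ x hx (fun _ => c.1) (fun _ => c.2)
  intro h0
  rw [h0, zero_mul, Finset.prod_eq_zero_iff] at h
  obtain ⟨j, hj, hj0⟩ := h
  exact hc j hj hj0

end Groth.Agent.S13391
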