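import Groth.Statements.S13392
import Groth.Agent.L15.SegreSym
import Mathlib.RingTheory.LocalRing.ResidueField.Ideal
import Mathlib.Algebra.MvPolynomial.CommRing
import Mathlib.RingTheory.MvPolynomial
import Mathlib.Tactic.LinearCombination

set_option autoImplicit false
universe u
open scoped TensorProduct
open ZeroCyc

namespace Groth.Agent.S13392

open Groth.L15.SegreSym

/-- prime avoidance with few subspaces -/
theorem exists_avoid {A B : Type u} [CommRing A] [CommRing B] [Algebra A B] (𝒜 : ℕ → Submodule A B)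
    [GradedAlgebra 𝒜] {d : ℕ} {R : Type u} [CommRing R] [IsDomain R] [Algebra A R]
    (hres : ∀ p : PrimeSpectrum A, (d : Cardinal) ≤ Cardinal.mk p.asIdeal.ResidueField)
    (χ : segre 𝒜 d →ₐ[A] R) (x : Fin d → B) (hx : ∀ i, x i ∈ 𝒜 1) (hb : base 𝒜 χ x hx ≠ 0)
    (s : Finset (Fin d)) :
    ∃ c : 𝒜 1, ∀ j ∈ s, coord 𝒜 χ x hx j 1 c ≠ 0 := by
  classical
  induction s using Finset.induction_on with
  | empty => exact ⟨0, by simp⟩
  | insert j s hjs ih =>
  obtain ⟨f, hf⟩ := ih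
  by_cases hfj : coord 𝒜 χ x hx j 1 f ≠ 0
  · exact ⟨f, fun l hl => (Finset.mem_insert.mp hl).elim (fun h => h ▸ hfj) (hf l)⟩
  rw [not_not] at hfj
  let h : 𝒜 1 := ⟨x j, hx j⟩
  have hhj : coord 𝒜 χ x hx j 1 h ≠ 0 := by rw [coord_self]; exact hb
  by_cases hall : ∀ l ∈ s, coord 𝒜 χ x hx l 1 h ≠ 0
  · exact ⟨h, fun l hl => (Finset.mem_insert.mp hl).elim (fun e => e ▸ hhj) (hall l)⟩
  simp only [not_forall, not_not] at hall
  obtain ⟨l₀, hl₀, hhl₀⟩ := hall
  let p : PrimeSpectrum A := ⟨RingHom.ker (algebraMap A R), RingHom.ker_isPrime _⟩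
  haveI : p.asIdeal.IsPrime := p.2
  obtain ⟨T, hT⟩ := Cardinal.exists_finset_le_card p.asIdeal.ResidueField d (hres p)
  have hrep : ∀ q : p.asIdeal.ResidueField, ∃ a s : A, s ∉ p.asIdeal ∧
      q * algebraMap A p.asIdeal.ResidueField s = algebraMap A p.asIdeal.ResidueField a := by
    intro q
    obtain ⟨⟨a, s⟩, has⟩ := IsLocalization.surj (nonZeroDivisors (A ⧸ p.asIdeal)) q
    obtain ⟨a', rfl⟩ := Ideal.Quotient.mk_surjective a
    obtain ⟨s', hs'⟩ := Ideal.Quotient.mk_surjective (s : A ⧸ p.asIdeal)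
    refine ⟨a', s', fun h0 => ?_, ?_⟩
    · have := nonZeroDivisors.ne_zero s.2
      rw [← hs', Ne, Ideal.Quotient.eq_zero_iff_mem] at this
      exact this h0
    · simpa [← hs', ← Ideal.Quotient.algebraMap_eq, ← IsScalarTower.algebraMap_apply] using has
  choose a s' hs' hq using hrep
  let y : p.asIdeal.ResidueField → 𝒜 1 := fun q => s' q • f + a q • h
  have hy : ∀ (l : Fin d) (q : p.asIdeal.ResidueField), coord 𝒜 χ x hx l 1 (y q) =
      algebraMap A R (s' q) * coord 𝒜 χ x hx l 1 f + algebraMap A R (a q) * coord 𝒜 χ x hx l 1 h := by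
    intro l q
    simp [y, map_add, map_smul, Algebra.smul_def]
  have inj : ∀ l ∈ insert j s, ∀ q q' : p.asIdeal.ResidueField,
      coord 𝒜 χ x hx l 1 (y q) = 0 → coord 𝒜 χ x hx l 1 (y q') = 0 → q = q' := by
    intro l hl q q' h1 h2
    rw [hy] at h1 h2
    have hh : coord 𝒜 χ x hx l 1 h ≠ 0 := by
      rcases Finset.mem_insert.mp hl with rfl | hls
      · exact hhj
      · intro h0
        rw [h0, mul_zero, add_zero] at h1
        exact hf l hls ((mul_eq_zero.mp h1).resolve_left (hs' q))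
    have h3 : algebraMap A R (a q * s' q' - a q' * s' q) * coord 𝒜 χ x hx l 1 h = 0 := by
      rw [map_sub, map_mul, map_mul]
      linear_combination algebraMap A R (s' q') * h1 - algebraMap A R (s' q) * h2
    have h4 : a q * s' q' - a q' * s' q ∈ p.asIdeal := (mul_eq_zero.mp h3).resolve_right hh
    rw [← Ideal.algebraMap_residueField_eq_zero, map_sub, map_mul, map_mul, ← hq q, ← hq q'] at h4
    have hne : ∀ r, algebraMap A p.asIdeal.ResidueField (s' r) ≠ 0 := fun r h0 =>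
      hs' r (Ideal.algebraMap_residueField_eq_zero.mp h0)
    have h5 : (q - q') * (algebraMap A p.asIdeal.ResidueField (s' q) *
        algebraMap A p.asIdeal.ResidueField (s' q')) = 0 := by linear_combination h4
    exact sub_eq_zero.mp ((mul_eq_zero.mp h5).resolve_right (mul_ne_zero (hne q) (hne q')))
  have hnone : ∀ q : p.asIdeal.ResidueField, coord 𝒜 χ x hx l₀ 1 (y q) ≠ 0 := by
    intro q
    rw [hy, hhl₀, mul_zero, add_zero]
    exact mul_ne_zero (hs' q) (hf l₀ hl₀)
  suffices ∃ q ∈ T, ∀ l ∈ insert j s, coord 𝒜 χ x hx l 1 (y q) ≠ 0 by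
    obtain ⟨q, -, hq'⟩ := this
    exact ⟨y q, hq'⟩
  by_contra hc
  simp only [not_exists, not_and, not_forall, not_not] at hc
  choose bad hbad hbad0 using hc
  have hle : T.card ≤ ((insert j s).erase l₀).card := by
    refine Finset.card_le_card_of_injOn (fun q => if hq' : q ∈ T then bad q hq' else j) ?_ ?_
    · intro q hq'
      simp only [Finset.mem_coe] at hq'
      simp only [dif_pos hq', Finset.mem_coe]
      exact Finset.mem_erase.mpr ⟨fun e => hnone q (e ▸ hbad0 q hq'), hbad q hq'⟩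
    · intro q hq' q' hq'' e
      simp only [Finset.mem_coe] at hq' hq''
      simp only [dif_pos hq', dif_pos hq''] at e
      exact inj _ (hbad q hq') q q' (hbad0 q hq') (e ▸ hbad0 q' hq'')
  have h1 : ((insert j s).erase l₀).card < Fintype.card (Fin d) :=
    lt_of_lt_of_le (Finset.card_erase_lt_of_mem (Finset.mem_insert_of_mem hl₀)) (Finset.card_le_univ _)
  rw [Fintype.card_fin] at h1
  omega

/-- Let A be a commutative ring, B a graded A-algebra generated by its degree-one part B_1 with B_1 a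
finitely generated A-module, and d ≥ 0. Inside the d-fold tensor power T^d_A(B) let C_k be the
A-span of the pure tensors b_1 ⊗ ⋯ ⊗ b_d with all b_i ∈ B_k, let C = Σ_k C_k (the A-subalgebra
generated by these pure tensors; Proj C is the d-fold fibre product of X = Proj B over S = Spec A)
and let D = C ∩ TS^d_A(B) be its subring of symmetric tensors, graded by D_k = C_k ∩ TS^d_A(B), so
that Proj D is the symmetric product Sym^d(X/S). Provided each residue field of A has d or more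
elements, Sym^d(X/S) is covered by the affine opens Sym^d(X_f/S) = D_+(f ⊗ ⋯ ⊗ f) with f ∈ B_1:
every t ∈ D_k with k ≥ 1 has some power t^m, m ≥ 1, in the ideal of D generated by the tensors f ⊗ ⋯
⊗ f, f ∈ B_1. -/
theorem result {A B : Type u} [CommRing A] [CommRing B] [Algebra A B]
    (𝒜 : ℕ → Submodule A B) [GradedAlgebra 𝒜] (hgen : Algebra.adjoin A (𝒜 1 : Set B) = ⊤) (hfg : (𝒜 1).FG) (d : ℕ)
    (hres : ∀ p : PrimeSpectrum A, (d : Cardinal) ≤ Cardinal.mk p.asIdeal.ResidueField)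
    (D : Subalgebra A (⨂[A] _ : Fin d, B))
    (hD : D = Algebra.adjoin A {t | ∃ (k : ℕ) (b : Fin d → B), (∀ i, b i ∈ 𝒜 k) ∧ t = PiTensorProduct.tprod A b}
      ⊓ SymTen.TS A B d)
    (k : ℕ) (hk : 0 < k) (t : ⨂[A] _ : Fin d, B) (htD : t ∈ D)
    (htk : t ∈ Submodule.span A {s | ∃ b : Fin d → B, (∀ i, b i ∈ 𝒜 k) ∧ s = PiTensorProduct.tprod A b}) :
    ∃ m : ℕ, 0 < m ∧ (⟨t, htD⟩ : D) ^ m ∈
      Ideal.span {x : D | ∃ f : B, f ∈ 𝒜 1 ∧
        (x : ⨂[A] _ : Fin d, B) = PiTensorProduct.tprod A (fun _ : Fin d => f)} := by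
  classical
  refine pow_mem_span 𝒜 D hD _ ⟨t, htD⟩ fun R _ _ _ χ hne => ?_
  obtain ⟨x, hx, hb⟩ := exists_base_ne 𝒜 hgen χ hk _ htk hne
  obtain ⟨c, hc⟩ := exists_avoid 𝒜 hres χ x hx hb Finset.univ
  have hzD : PiTensorProduct.tprod A (fun _ : Fin d => c.1) ∈ D :=
    hD ▸ ⟨tprod_mem_segre 𝒜 fun _ => c.2, (SymTen.tpow A B d c.1).2⟩
  refine ⟨⟨_, hzD⟩, ⟨c.1, c.2, rfl⟩, ?_⟩
  have h := prod_coord 𝒜 χ x hx (fun _ => c.1) (fun _ => c.2)
  intro h0
  rw [h0, zero_mul, Finset.prod_eq_zero_iff] at h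
  obtain ⟨j, hj, hj0⟩ := h
  exact hc j hj hj0

end Groth.Agent.S13392
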