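import Groth.Statements.S13393
import Groth.Agent.L22.SymQuot.Quot
import Groth.Agent.L22.SymQuot.BaseChange

set_option autoImplicit false
universe u
open CategoryTheory CategoryTheory.Limits AlgebraicGeometry
open ZeroCyc
open Groth.L22.SymQuot

set_option backward.isDefEq.respectTransparency false
set_option linter.style.haveILetI false

namespace Groth.Agent.S13393

/-- Scheme case. Let f : X → S be separated and let (Y, q, g) be a d-th symmetric product of X over S: q
: (X/S)^d → Y is a quotient of the d-fold fibre product by the symmetric group permuting the factors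
and g : Y → S its structure map. Let S' → S be a morphism, let the symmetric group act on (X/S)^d
×_S S' through the first factor (this is the d-fold fibre product of X' = X ×_S S' over S' with its
permutation action), let r : (X/S)^d ×_S S' → Y' be a quotient by that action, i.e. a symmetric
product Sym^d(X'/S'), and let m : Y' → Y ×_S S' be the morphism with r ≫ m = q × id. Then m induces
an isomorphism on residue fields at every point of Y' (trivial residue field extensions); if every
positive integer is invertible in Γ(S', O_{S'}) then m is an isomorphism; and if X' → S' is flat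
then m is a closed immersion. (The published statement is for X a separated algebraic space over S,
where the symmetric products always exist as algebraic spaces; this row is the case of schemes in
which both quotients exist as schemes, taken as hypotheses, and leaves the universal-homeomorphism
clause to the general finite-group statement.) -/
theorem result {X S S' Y Y' : Scheme.{u}} (f : X ⟶ S) [IsSeparated f] (d : ℕ)
    (q : SymProd.fibPow f d ⟶ Y) (g : Y ⟶ S) (hq : SymProd.IsSymProd f d q g)
    (gS : S' ⟶ S)
    (ρ' : ULift.{u} (Equiv.Perm (Fin d)) →* Aut (pullback (WidePullback.base fun _ : Fin d => f) gS))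
    (hρ' : ∀ σ, (ρ' σ).hom ≫ pullback.fst (WidePullback.base fun _ : Fin d => f) gS =
        pullback.fst (WidePullback.base fun _ : Fin d => f) gS ≫ SymProd.permHom f d σ.down ∧
      (ρ' σ).hom ≫ pullback.snd (WidePullback.base fun _ : Fin d => f) gS =
        pullback.snd (WidePullback.base fun _ : Fin d => f) gS)
    (r : pullback (WidePullback.base fun _ : Fin d => f) gS ⟶ Y') (hr : SGA1.IsQuot ρ' r)
    (m : Y' ⟶ pullback g gS)
    (hm : r ≫ m = pullback.map (WidePullback.base fun _ : Fin d => f) gS g gS q (𝟙 S') (𝟙 S)
      ((Category.comp_id _).trans hq.over.symm) ((Category.comp_id gS).trans (Category.id_comp gS).symm)) :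
    (∀ y : Y', IsIso (m.residueFieldMap y)) ∧
    ((∀ n : ℕ, 0 < n → IsUnit ((n : ℕ) : Γ(S', ⊤))) → IsIso m) ∧
    (Flat (pullback.snd f gS) → IsClosedImmersion m) := by
  let fS := pullback.snd f gS
  let c : SymProd.fibPow fS d ⟶ SymProd.fibPow f d :=
    hmap f fS (pullback.fst f gS) gS pullback.condition d
  have H : IsPullback c (bse fS d) (bse f d) gS :=
    Groth.L18.SymPow.isPullback_fibPow f gS c (fun i => WidePullback.lift_π _ _ _ _ i)
      (WidePullback.lift_base _ _ _ _)
  have he : ∀ σ : ULift.{u} (Equiv.Perm (Fin d)), (SymProd.permActU fS d σ).hom ≫ H.isoPullback.hom =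
      H.isoPullback.hom ≫ (ρ' σ).hom := by
    intro σ
    apply pullback.hom_ext
    · rw [Category.assoc, Category.assoc, (hρ' σ).1, H.isoPullback_hom_fst, ← Category.assoc,
        H.isoPullback_hom_fst, SymProd.permActU_hom]
      have h := mv_hmap (d := d) f fS (pullback.fst f gS) gS pullback.condition ⟨σ.down.symm⟩
      simpa only [mv, Equiv.symm_symm] using h
    · rw [Category.assoc, Category.assoc, (hρ' σ).2, H.isoPullback_hom_snd, SymProd.permActU_hom,
        SymProd.permHom_base]
  have hm₂ : r ≫ m ≫ pullback.snd g gS = pullback.snd _ gS := by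
    rw [reassoc_of% hm, pullback.lift_snd, Category.comp_id]
  have hr' : SymProd.IsSymProd fS d (H.isoPullback.hom ≫ r) (m ≫ pullback.snd g gS) :=
    ⟨isQuot_iso_comp hr H.isoPullback _ he, by
      rw [Category.assoc, hm₂, H.isoPullback_hom_snd]⟩
  have hm₁ : (H.isoPullback.hom ≫ r) ≫ m ≫ pullback.fst g gS = c ≫ q := by
    rw [Category.assoc, reassoc_of% hm, pullback.lift_fst, ← Category.assoc, H.isoPullback_hom_fst]
  haveI : IsClosedImmersion (pullback.lift (pullback.fst f gS) fS pullback.condition) := by
    rw [show pullback.lift (pullback.fst f gS) fS pullback.condition = 𝟙 _ by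
      apply pullback.hom_ext <;> simp [fS]]
    infer_instance
  refine ⟨isIso_residueFieldMap hq _ gS pullback.condition hr' m hm₁ rfl, fun hall => ?_, fun hflat =>
    isClosedImmersion_comparison hq _ gS pullback.condition hr' m hm₁ rfl (Or.inl hflat)⟩
  let p' : pullback (WidePullback.base fun _ : Fin d => f) gS ⟶ pullback g gS :=
    pullback.map _ _ _ _ q (𝟙 S') (𝟙 S) ((Category.comp_id _).trans hq.over.symm)
      ((Category.comp_id gS).trans (Category.id_comp gS).symm)
  have hX : IsPullback (pullback.fst _ gS) p' q (pullback.fst g gS) := by
    refine IsPullback.of_bot ?_ (pullback.lift_fst _ _ _).symm (IsPullback.of_hasPullback g gS)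
    rw [hq.over, show p' ≫ pullback.snd g gS = pullback.snd _ gS by
      rw [pullback.lift_snd, Category.comp_id]]
    exact IsPullback.of_hasPullback _ gS
  have hp' : SGA1.IsQuot ρ' p' := by
    refine isQuot_baseChange_of_isUnit hq.isQuot (pullback.fst g gS)
      (isUnit_card_perm (pullback.snd g gS) hall) _ p' hX ρ'
      (fun σ => by rw [(hρ' σ).1, SymProd.permActU_hom]) fun σ => ?_
    apply pullback.hom_ext
    · rw [Category.assoc, pullback.lift_fst, ← Category.assoc, (hρ' σ).1, Category.assoc]
      exact congrArg (pullback.fst _ gS ≫ ·) (SymProd.permActU_hom f d σ ▸ hq.isQuot.inv σ)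
    · rw [Category.assoc, pullback.lift_snd, Category.comp_id, (hρ' σ).2]
  exact isIso_of_isQuot hr hp' m hm

end Groth.Agent.S13393
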