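import Groth.Statements.S13394
import Groth.Agent.L22.SymQuot.Quot
import Groth.Agent.L27.Quot.UnivHomeo

set_option autoImplicit false
universe u
open CategoryTheory CategoryTheory.Limits AlgebraicGeometry
open ZeroCyc
open Groth.L22.SymQuot

set_option backward.isDefEq.respectTransparency false
set_option linter.style.haveILetI false

namespace Groth.Agent.S13394

/-- Scheme case. Let f : X → S be separated, let (Y, q, g) be a d-th symmetric product of X over S (q :
(X/S)^d → Y a quotient of the d-fold fibre product by the symmetric group, g : Y → S), let i : Z → X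
be a closed immersion and (W, r, g_W) a d-th symmetric product of Z over S, let q((Z/S)^d) ⊆ Y be
the scheme-theoretic image of the composite (Z/S)^d → (X/S)^d → Y, and let m : W → q((Z/S)^d) be the
morphism through which that composite factors via r. Then m induces an isomorphism on residue fields
at every point of W (trivial residue field extensions); if every positive integer is invertible in
Γ(S, O_S) then m is an isomorphism; and if Z → S is flat then m is a closed immersion. (The
published statement is for X a separated algebraic space over S; this row is the case of schemes in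
which both symmetric products exist as schemes, taken as hypotheses, and leaves the
universal-homeomorphism clause to the general finite-group statement.) -/
theorem result {X Z S Y W : Scheme.{u}} (f : X ⟶ S) [IsSeparated f] (d : ℕ)
    (q : SymProd.fibPow f d ⟶ Y) (g : Y ⟶ S) (hq : SymProd.IsSymProd f d q g)
    (i : Z ⟶ X) [IsClosedImmersion i]
    (r : SymProd.fibPow (i ≫ f) d ⟶ W) (gW : W ⟶ S) (hr : SymProd.IsSymProd (i ≫ f) d r gW)
    (m : W ⟶ (SymProd.fibPowMap (i ≫ f) d f i rfl ≫ q).ker.subscheme)
    (hm : r ≫ m ≫ (SymProd.fibPowMap (i ≫ f) d f i rfl ≫ q).ker.subschemeι =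
      SymProd.fibPowMap (i ≫ f) d f i rfl ≫ q) :
    (∀ w : W, IsIso (m.residueFieldMap w)) ∧
    ((∀ n : ℕ, 0 < n → IsUnit ((n : ℕ) : Γ(S, ⊤))) → IsIso m) ∧
    (Flat (i ≫ f) → IsClosedImmersion m) := by
  let F := SymProd.fibPowMap (i ≫ f) d f i rfl
  let ι := (F ≫ q).ker.subschemeι
  haveI : IsClosedImmersion F := isClosedImmersion_fibPowMap (i ≫ f) f i rfl d
  have hg : (m ≫ ι) ≫ g = gW := by
    refine Groth.L27.Quot.hom_ext hr.isQuot ?_
    rw [Category.assoc, reassoc_of% hm, hq.over, SymProd.fibPowMap_base, hr.over]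
  have hg' : (m ≫ ι) ≫ g = gW ≫ 𝟙 S := by rw [Category.comp_id]; exact hg
  let m' : W ⟶ pullback g (𝟙 S) := pullback.lift (m ≫ ι) gW hg'
  have sq : i ≫ f = (i ≫ f) ≫ 𝟙 S := (Category.comp_id _).symm
  have hh : hmap f (i ≫ f) i (𝟙 S) sq d = F := by
    apply WidePullback.hom_ext
    · intro j; simp [F]
    · simp [F]
  haveI : IsClosedImmersion (pullback.lift i (i ≫ f) sq) := by
    haveI : IsClosedImmersion (pullback.lift i (i ≫ f) sq ≫ pullback.fst f (𝟙 S)) := by
      rw [pullback.lift_fst]; infer_instance
    exact IsClosedImmersion.of_comp (pullback.lift i (i ≫ f) sq) (pullback.fst f (𝟙 S))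
  have hm₁ : r ≫ m' ≫ pullback.fst g (𝟙 S) = hmap f (i ≫ f) i (𝟙 S) sq d ≫ q := by
    rw [hh, pullback.lift_fst]; exact hm
  have hm₂ : m' ≫ pullback.snd g (𝟙 S) = gW := pullback.lift_snd _ _ _
  have hcl : (Flat (i ≫ f) ∨ IsUnit ((d.factorial : ℕ) : Γ(S, ⊤))) → IsClosedImmersion m := fun h => by
    haveI := isClosedImmersion_comparison hq i (𝟙 S) sq hr m' hm₁ hm₂ h
    haveI : IsClosedImmersion (m ≫ ι) := by
      rw [← pullback.lift_fst (f := g) (g := 𝟙 S) (m ≫ ι) gW hg']; infer_instance
    exact IsClosedImmersion.of_comp m ι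
  refine ⟨fun w => ?_, fun hall => ?_, fun hflat => hcl (Or.inl hflat)⟩
  · haveI := isIso_residueFieldMap hq i (𝟙 S) sq hr m' hm₁ hm₂ w
    have h2 : IsIso ((m ≫ ι).residueFieldMap w) := by
      have key : ∀ φ : W ⟶ Y, φ = m ≫ ι → IsIso (φ.residueFieldMap w) → IsIso ((m ≫ ι).residueFieldMap w) := by
        rintro _ rfl h; exact h
      refine key _ (pullback.lift_fst (f := g) (g := 𝟙 S) (m ≫ ι) gW hg') ?_
      rw [Scheme.residueFieldMap_comp]
      infer_instance
    rw [ConcreteCategory.isIso_iff_bijective]
    refine ⟨(m.residueFieldMap w).hom.injective, fun z => ?_⟩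
    rw [ConcreteCategory.isIso_iff_bijective, Scheme.residueFieldMap_comp] at h2
    obtain ⟨a, ha⟩ := h2.2 z
    exact ⟨_, ha⟩
  · haveI := hcl (Or.inr (hall _ d.factorial_pos))
    obtain ⟨-, hdom⟩ := Groth.L27.Quot.closedSubscheme_comparison hq.isQuot F (SymProd.permActU (i ≫ f) d)
      (fun σ => by
        apply WidePullback.hom_ext
        · intro j; simp [F]
        · simp [F]) r hr.isQuot m hm
    exact IsClosedImmersion.isIso_iff_ker_eq_bot.2 hdom.ker_eq_bot

end Groth.Agent.S13394
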