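import Groth.Statements.S13395
import Groth.Agent.L22.SymQuot.Quot
import Groth.Agent.L22.SymQuot.Prod
import Groth.Agent.S5137

set_option autoImplicit false
universe u
open CategoryTheory CategoryTheory.Limits AlgebraicGeometry
open ZeroCyc
open Groth.L22.SymQuot

set_option backward.isDefEq.respectTransparency false
set_option linter.style.haveILetI false

namespace Groth.Agent.S13395

/-- Scheme case. Let f : X → S and g : Z → S be separated morphisms and suppose that either both are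
flat or every positive integer is invertible in Γ(S, O_S) (S is a scheme over the rationals). Let
(P, q_X) be a d-th symmetric product of X over S and (Q, q_Z) an e-th symmetric product of Z over S,
i.e. quotients of the fibre powers (X/S)^d and (Z/S)^e by the symmetric groups permuting the
factors, and let S_d × S_e act on (X/S)^d ×_S (Z/S)^e factorwise. Then q_X × q_Z : (X/S)^d ×_S
(Z/S)^e → P ×_S Q is a quotient by S_d × S_e (affine, invariant, with sections of P ×_S Q the
invariant sections): the mixed symmetric product Sym^{d,e}(X, Z) is Sym^d(X/S) ×_S Sym^e(Z/S). (The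
published statement is for separated algebraic spaces, where these quotients always exist, and adds
the identification with Γ^d(X/S) ×_S Γ^e(Z/S); this row is the scheme case with the two symmetric
products taken as hypotheses.) -/
theorem result {X Z S P Q : Scheme.{u}} (f : X ⟶ S) (g : Z ⟶ S)
    [IsSeparated f] [IsSeparated g] (d e : ℕ)
    (h : (Flat f ∧ Flat g) ∨ ∀ n : ℕ, 0 < n → IsUnit ((n : ℕ) : Γ(S, ⊤)))
    (qX : SymProd.fibPow f d ⟶ P) (pP : P ⟶ S) (hqX : SymProd.IsSymProd f d qX pP)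
    (qZ : SymProd.fibPow g e ⟶ Q) (pQ : Q ⟶ S) (hqZ : SymProd.IsSymProd g e qZ pQ)
    (ρ : ULift.{u} (Equiv.Perm (Fin d) × Equiv.Perm (Fin e)) →*
      Aut (pullback (WidePullback.base fun _ : Fin d => f) (WidePullback.base fun _ : Fin e => g)))
    (hρ : ∀ σ, (ρ σ).hom ≫ pullback.fst (WidePullback.base fun _ : Fin d => f) (WidePullback.base fun _ : Fin e => g) =
        pullback.fst (WidePullback.base fun _ : Fin d => f) (WidePullback.base fun _ : Fin e => g) ≫
          SymProd.permHom f d σ.down.1 ∧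
      (ρ σ).hom ≫ pullback.snd (WidePullback.base fun _ : Fin d => f) (WidePullback.base fun _ : Fin e => g) =
        pullback.snd (WidePullback.base fun _ : Fin d => f) (WidePullback.base fun _ : Fin e => g) ≫
          SymProd.permHom g e σ.down.2) :
    SGA1.IsQuot ρ (pullback.map (WidePullback.base fun _ : Fin d => f) (WidePullback.base fun _ : Fin e => g) pP pQ
      qX qZ (𝟙 S) ((Category.comp_id _).trans hqX.over.symm) ((Category.comp_id _).trans hqZ.over.symm)) := by
  let bX := WidePullback.base fun _ : Fin d => f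
  let bZ := WidePullback.base fun _ : Fin e => g
  let K := ULift.{u} (Equiv.Perm (Fin d) × Equiv.Perm (Fin e))
  let ι₁ : ULift.{u} (Equiv.Perm (Fin d)) →* K :=
    { toFun := fun σ => ⟨(σ.down, 1)⟩
      map_one' := rfl
      map_mul' := fun a b => ULift.ext _ _ (Prod.ext rfl (one_mul 1).symm) }
  let ι₂ : ULift.{u} (Equiv.Perm (Fin e)) →* K :=
    { toFun := fun σ => ⟨(1, σ.down)⟩
      map_one' := rfl
      map_mul' := fun a b => ULift.ext _ _ (Prod.ext (one_mul 1).symm rfl) }
  let q₁ : pullback bX bZ ⟶ pullback pP bZ :=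
    pullback.map bX bZ pP bZ qX (𝟙 _) (𝟙 S) ((Category.comp_id _).trans hqX.over.symm) (by simp)
  let q₂ : pullback pP bZ ⟶ pullback pP pQ :=
    pullback.map pP bZ pP pQ (𝟙 _) qZ (𝟙 S) (by simp) ((Category.comp_id _).trans hqZ.over.symm)
  let hh : ∀ σ : ULift.{u} (Equiv.Perm (Fin e)), pullback pP bZ ⟶ pullback pP bZ := fun σ =>
    pullback.map pP bZ pP bZ (𝟙 _) (SymProd.permHom g e σ.down) (𝟙 S) (by simp)
      (by rw [Category.comp_id, SymProd.permHom_base])
  have hh_mul : ∀ σ τ, hh σ ≫ hh τ = hh (τ * σ) := fun σ τ => by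
    apply pullback.hom_ext <;> simp [hh, SymProd.permHom_mul]
  have hh_one : hh 1 = 𝟙 _ := by
    apply pullback.hom_ext <;> simp [hh, SymProd.permHom_one]
  let ρ₂ : ULift.{u} (Equiv.Perm (Fin e)) →* Aut (pullback pP bZ) :=
    { toFun := fun σ => ⟨hh σ, hh σ⁻¹, by rw [hh_mul, inv_mul_cancel, hh_one],
        by rw [hh_mul, mul_inv_cancel, hh_one]⟩
      map_one' := Iso.ext hh_one
      map_mul' := fun σ τ => Iso.ext (hh_mul τ σ).symm }
  have hX : IsPullback (pullback.fst bX bZ) q₁ qX (pullback.fst pP bZ) := by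
    refine IsPullback.of_bot ?_ (pullback.lift_fst _ _ _).symm (IsPullback.of_hasPullback pP bZ)
    rw [hqX.over, show q₁ ≫ pullback.snd pP bZ = pullback.snd bX bZ by simp [q₁]]
    exact IsPullback.of_hasPullback bX bZ
  have hZ : IsPullback (pullback.snd pP bZ) q₂ qZ (pullback.snd pP pQ) := by
    refine IsPullback.of_bot ?_ (pullback.lift_snd _ _ _).symm (IsPullback.of_hasPullback pP pQ).flip
    rw [hqZ.over, show q₂ ≫ pullback.fst pP pQ = pullback.fst pP bZ by simp [q₂]]
    exact (IsPullback.of_hasPullback pP bZ).flip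
  have hρ₁₁ : ∀ σ, ((ρ.comp ι₁) σ).hom ≫ pullback.fst bX bZ =
      pullback.fst bX bZ ≫ (SymProd.permActU f d σ).hom := fun σ => by
    rw [SymProd.permActU_hom]; exact (hρ (ι₁ σ)).1
  have hρ₁₂ : ∀ σ, ((ρ.comp ι₁) σ).hom ≫ q₁ = q₁ := fun σ => by
    apply pullback.hom_ext
    · rw [Category.assoc, pullback.lift_fst, reassoc_of% (hρ₁₁ σ), hqX.isQuot.inv σ]
    · rw [Category.assoc, pullback.lift_snd, Category.comp_id]
      show (ρ (ι₁ σ)).hom ≫ pullback.snd bX bZ = _
      rw [(hρ (ι₁ σ)).2, show (ι₁ σ).down.2 = 1 from rfl, SymProd.permHom_one, Category.comp_id]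
  have hρ₂₁ : ∀ σ, (ρ₂ σ).hom ≫ pullback.snd pP bZ = pullback.snd pP bZ ≫ (SymProd.permActU g e σ).hom :=
    fun σ => by
      rw [SymProd.permActU_hom]
      exact pullback.lift_snd _ _ _
  have hρ₂₂ : ∀ σ, (ρ₂ σ).hom ≫ q₂ = q₂ := fun σ => by
    apply pullback.hom_ext
    · show (hh σ ≫ q₂) ≫ _ = _
      simp [hh, q₂]
    · rw [Category.assoc, pullback.lift_snd, reassoc_of% (hρ₂₁ σ), hqZ.isQuot.inv σ]
  have H₁ : SGA1.IsQuot (ρ.comp ι₁) q₁ := by
    rcases h with ⟨-, hg⟩ | hall
    · haveI : Flat bZ := flat_bse g e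
      exact Groth.Agent.S5137.result (SymProd.permActU f d) qX hqX.isQuot pP bZ _ _
        (IsPullback.of_hasPullback pP bZ) _ q₁ hX _ hρ₁₁ hρ₁₂
    · exact isQuot_baseChange_of_isUnit hqX.isQuot _
        (isUnit_card_perm (pullback.fst pP bZ ≫ pP) hall) _ q₁ hX _ hρ₁₁ hρ₁₂
  have H₂ : SGA1.IsQuot ρ₂ q₂ := by
    rcases h with ⟨hf, -⟩ | hall
    · haveI : Flat pP := flat_symProd hqX
      exact Groth.Agent.S5137.result (SymProd.permActU g e) qZ hqZ.isQuot pQ pP _ _
        (IsPullback.of_hasPullback pP pQ).flip _ q₂ hZ _ hρ₂₁ hρ₂₂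
    · exact isQuot_baseChange_of_isUnit hqZ.isQuot _
        (isUnit_card_perm (pullback.snd pP pQ ≫ pQ) hall) _ q₂ hZ _ hρ₂₁ hρ₂₂
  have key := isQuot_comp ι₁ ι₂ (fun k => ⟨⟨k.down.1⟩, ⟨k.down.2⟩,
    ULift.ext _ _ (Prod.ext (mul_one _).symm (one_mul _).symm)⟩) H₁ H₂ (fun σ => by
      apply pullback.hom_ext
      · show ((ρ (ι₂ σ)).hom ≫ q₁) ≫ _ = (q₁ ≫ hh σ) ≫ _
        rw [Category.assoc, pullback.lift_fst, reassoc_of% (hρ (ι₂ σ)).1,
          show (ι₂ σ).down.1 = 1 from rfl, SymProd.permHom_one, Category.id_comp]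
        simp [hh, q₁] <;> rfl
      · show ((ρ (ι₂ σ)).hom ≫ q₁) ≫ _ = (q₁ ≫ hh σ) ≫ _
        rw [Category.assoc, pullback.lift_snd, Category.comp_id, (hρ (ι₂ σ)).2]
        simp [hh, q₁, ι₂, bZ] <;> rfl)
  convert key using 1
  apply pullback.hom_ext <;> simp [q₁, q₂] <;> rfl

end Groth.Agent.S13395
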