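import Groth.Statements.S13399
import Groth.Agent.L22.Gamma.Alg
import Mathlib.RingTheory.PolynomialAlgebra

set_option autoImplicit false
universe u
open scoped TensorProduct
open ZeroCyc
open Groth.L22.Gamma

namespace Groth.Agent.S13399

/-- the coefficient of `T ^ j` -/
noncomputable def Lco (A P N : Type u) [CommRing A] [CommRing P] [Algebra A P] [CommRing N]
    [Algebra A N] (j : ℕ) : Polynomial P ⊗[A] N →ₗ[A] P ⊗[A] N :=
  ((Polynomial.lcoeff P j).restrictScalars A).rTensor N

variable {A P N : Type u} [CommRing A] [CommRing P] [Algebra A P] [CommRing N] [Algebra A N]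

theorem Lco_tmul (j : ℕ) (p : Polynomial P) (n : N) : Lco A P N j (p ⊗ₜ[A] n) = p.coeff j ⊗ₜ[A] n :=
  rfl

theorem exists_bound (y : Polynomial P ⊗[A] N) : ∃ M, ∀ j, M ≤ j → Lco A P N j y = 0 := by
  induction y using TensorProduct.induction_on with
  | zero => exact ⟨0, fun j _ => map_zero _⟩
  | tmul p n =>
    exact ⟨p.natDegree + 1, fun j hj => by
      rw [Lco_tmul, Polynomial.coeff_eq_zero_of_natDegree_lt (by omega), TensorProduct.zero_tmul]⟩
  | add x y hx hy =>
    obtain ⟨M, hM⟩ := hx
    obtain ⟨M', hM'⟩ := hy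
    exact ⟨max M M', fun j hj => by
      rw [map_add, hM j (le_of_max_le_left hj), hM' j (le_of_max_le_right hj), add_zero]⟩

theorem Lco_mul_linear (y : Polynomial P ⊗[A] N) (z : P ⊗[A] N) (j : ℕ) :
    Lco A P N (j + 1) (y * ((Polynomial.X : Polynomial P) ⊗ₜ[A] 1 +
      Algebra.TensorProduct.map (IsScalarTower.toAlgHom A P (Polynomial P)) (AlgHom.id A N) z)) =
      Lco A P N j y + Lco A P N (j + 1) y * z := by
  induction y using TensorProduct.induction_on with
  | zero => simp
  | add x y hx hy => rw [add_mul, map_add, map_add, map_add, hx, hy, add_mul]; abel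
  | tmul p n =>
    rw [mul_add, map_add]
    congr 1
    · rw [Algebra.TensorProduct.tmul_mul_tmul, _root_.mul_one, Lco_tmul, Lco_tmul,
        Polynomial.coeff_mul_X]
    · induction z using TensorProduct.induction_on with
      | zero => simp
      | add x y hx hy => rw [map_add, mul_add, map_add, hx, hy, mul_add]
      | tmul q m =>
        rw [Algebra.TensorProduct.map_tmul, AlgHom.id_apply, IsScalarTower.coe_toAlgHom',
          Polynomial.algebraMap_eq, Algebra.TensorProduct.tmul_mul_tmul, Lco_tmul, Lco_tmul,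
          Algebra.TensorProduct.tmul_mul_tmul, Polynomial.coeff_mul_C]

theorem result {A B Cd Ce : Type u} [CommRing A] [CommRing B] [Algebra A B]
    [CommRing Cd] [Algebra A Cd] [CommRing Ce] [Algebra A Ce] (e : ℕ)
    (γd : PolLaw.MulLaw A B Cd (e + 1)) (hγd : PolLaw.IsGammaD γd)
    (γe : PolLaw.MulLaw A B Ce e) (hγe : PolLaw.IsGammaD γe)
    (ω : Cd ⊗[A] B →ₐ[A] Ce ⊗[A] B)
    (hω : ∀ (S : Type u) [CommSemiring S] [Algebra A S] (x y : S ⊗[A] B),
      ω.toLinearMap.lTensor S
        ((Algebra.TensorProduct.includeLeft : Cd →ₐ[A] Cd ⊗[A] B).toLinearMap.lTensor S (γd.law.toFun' S x) *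
          (Algebra.TensorProduct.includeRight : B →ₐ[A] Cd ⊗[A] B).toLinearMap.lTensor S y) =
      (Algebra.TensorProduct.includeLeft : Ce →ₐ[A] Ce ⊗[A] B).toLinearMap.lTensor S (γe.law.toFun' S x) *
        (Algebra.TensorProduct.includeRight : B →ₐ[A] Ce ⊗[A] B).toLinearMap.lTensor S (x * y)) :
    Function.Surjective ω := by
  classical
  set iL : Ce →ₐ[A] Ce ⊗[A] B := Algebra.TensorProduct.includeLeft
  set iR : B →ₐ[A] Ce ⊗[A] B := Algebra.TensorProduct.includeRight
  set dL : Cd →ₐ[A] Cd ⊗[A] B := Algebra.TensorProduct.includeLeft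
  set dR : B →ₐ[A] Cd ⊗[A] B := Algebra.TensorProduct.includeRight
  have hR : ∀ b : B, iR b ∈ ω.range := by
    intro b
    have h := hω A 1 ((1 : A) ⊗ₜ[A] b)
    simp only [PolLaw.lTensor_algHom_apply, (γd.mult A).1, (γe.mult A).1, map_one, _root_.one_mul,
      Algebra.TensorProduct.map_tmul, AlgHom.id_apply] at h
    have h' := congrArg (TensorProduct.lid A (Ce ⊗[A] B)) h
    simp only [TensorProduct.lid_tmul, one_smul] at h'
    exact ⟨dR b, h'⟩
  have key : ∀ (P : Type u) [CommRing P] [Algebra A P] (z : P ⊗[A] B),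
      iL.toLinearMap.lTensor P (γe.law.toFun' P z) ∈
        (Algebra.TensorProduct.map (AlgHom.id A P) ω).range := by
    intro P _ _ z
    set R := (Algebra.TensorProduct.map (AlgHom.id A P) ω).range
    let ι₀ : P →ₐ[A] Polynomial P := IsScalarTower.toAlgHom A P (Polynomial P)
    let z' : P ⊗[A] (Ce ⊗[A] B) := iR.toLinearMap.lTensor P z
    let x : Polynomial P ⊗[A] B :=
      (Polynomial.X : Polynomial P) ⊗ₜ[A] 1 + ι₀.toLinearMap.rTensor B z
    let y : Polynomial P ⊗[A] (Ce ⊗[A] B) := iL.toLinearMap.lTensor _ (γe.law.toFun' _ x)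
    have hz' : z' ∈ R := by
      induction z using TensorProduct.induction_on with
      | zero => simpa [z'] using zero_mem R
      | add u v hu hv =>
        simp only [z'] at hu hv ⊢
        rw [map_add]
        exact add_mem hu hv
      | tmul p b =>
        obtain ⟨c, hc⟩ := hR b
        exact ⟨p ⊗ₜ[A] c, by simp [z', ← hc]⟩
    have hx : iR.toLinearMap.lTensor (Polynomial P) x =
        (Polynomial.X : Polynomial P) ⊗ₜ[A] 1 +
          Algebra.TensorProduct.map ι₀ (AlgHom.id A (Ce ⊗[A] B)) z' := by
      rw [map_add, LinearMap.lTensor_tmul, AlgHom.toLinearMap_apply, map_one]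
      congr 1
      simp only [z']
      rw [← PolLaw.rTensor_algHom_apply, ← LinearMap.comp_apply, LinearMap.lTensor_comp_rTensor,
        ← LinearMap.rTensor_comp_lTensor, LinearMap.comp_apply]
    have hy : ω.toLinearMap.lTensor _ (dL.toLinearMap.lTensor _ (γd.law.toFun' _ x)) =
        y * ((Polynomial.X : Polynomial P) ⊗ₜ[A] 1 +
          Algebra.TensorProduct.map ι₀ (AlgHom.id A (Ce ⊗[A] B)) z') := by
      have h := hω (Polynomial P) x 1
      rw [_root_.mul_one, hx, PolLaw.lTensor_algHom_apply dR, map_one, _root_.mul_one] at h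
      exact h
    have hw : ∀ j, Lco A P _ j (ω.toLinearMap.lTensor (Polynomial P)
        (dL.toLinearMap.lTensor _ (γd.law.toFun' _ x))) ∈ R := by
      intro j
      refine ⟨Lco A P _ j (dL.toLinearMap.lTensor _ (γd.law.toFun' _ x)), ?_⟩
      generalize dL.toLinearMap.lTensor _ (γd.law.toFun' _ x) = w
      induction w using TensorProduct.induction_on with
      | zero => simp
      | tmul p c => rfl
      | add u v hu hv =>
        simp only [RingHom.coe_coe, map_add] at hu hv ⊢
        rw [hu, hv]
    obtain ⟨M, hM⟩ := exists_bound y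
    have hdown : ∀ k j, M ≤ j + k → Lco A P _ j y ∈ R := by
      intro k
      induction k with
      | zero => exact fun j hj => by rw [hM j hj]; exact zero_mem R
      | succ k ih =>
        intro j hj
        have h1 := hw (j + 1)
        rw [hy, Lco_mul_linear] at h1
        have h2 := mul_mem (ih (j + 1) (by omega)) hz'
        have h3 := sub_mem h1 h2
        rwa [add_sub_cancel_right] at h3
    -- specialise `T` to `0`
    have h0 : Lco A P (Ce ⊗[A] B) 0 y = iL.toLinearMap.lTensor P (γe.law.toFun' P z) := by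
      let ε : Polynomial P →ₐ[A] P := (Polynomial.aeval (0 : P)).restrictScalars A
      have h1 : ∀ w : Polynomial P ⊗[A] (Ce ⊗[A] B),
          Lco A P _ 0 w = ε.toLinearMap.rTensor _ w := by
        intro w
        induction w using TensorProduct.induction_on with
        | zero => simp
        | tmul p n =>
          rw [Lco_tmul, LinearMap.rTensor_tmul, Polynomial.coeff_zero_eq_eval_zero]
          congr 1
        | add u v hu hv => rw [map_add, map_add, hu, hv]
      rw [h1]
      simp only [y]
      rw [← LinearMap.comp_apply, LinearMap.rTensor_comp_lTensor, ← LinearMap.lTensor_comp_rTensor,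
        LinearMap.comp_apply, PolynomialLaw.isCompat_apply']
      congr 2
      rw [map_add, ← LinearMap.comp_apply, ← LinearMap.rTensor_comp, LinearMap.rTensor_tmul]
      have : ε.toLinearMap ∘ₗ ι₀.toLinearMap = LinearMap.id := by
        apply LinearMap.ext; intro p
        simp [ε, ι₀]
      rw [this, LinearMap.rTensor_id, LinearMap.id_apply]
      simp [ε]
    rw [← h0]
    exact hdown M 0 (by omega)
  have hcoef : ∀ (ι : Type u) (v : ι → B) (ν : ι →₀ ℕ), iL (coef γe.law v ν) ∈ ω.range := by
    intro ι v ν
    obtain ⟨w, hw⟩ := key (MvPolynomial ι A) (∑ i ∈ ν.support, MvPolynomial.X i ⊗ₜ[A] v i)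
    refine ⟨cof ν w, ?_⟩
    show ω.toLinearMap (cof ν w) = iL.toLinearMap (cof ν (gen γe.law v ν.support))
    rw [← cof_lTensor, ← cof_lTensor, gen, ← hw, PolLaw.lTensor_algHom_apply]
    rfl
  have hC : ∀ c : Ce, iL c ∈ ω.range := by
    intro c
    have hc : c ∈ (Subalgebra.toSubmodule ω.range).comap iL.toLinearMap := by
      have htop := span_coef_eq_top hγe (presHom A B) presHom_surjective (monBasis A B)
      have hle : Submodule.span A (Set.range fun ν => coef γe.law
          (fun i => presHom A B (monBasis A B i)) ν) ≤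
          (Subalgebra.toSubmodule ω.range).comap iL.toLinearMap := by
        rw [Submodule.span_le]
        rintro _ ⟨ν, rfl⟩
        exact hcoef _ _ ν
      rw [htop] at hle
      exact hle trivial
    exact hc
  rw [← AlgHom.range_eq_top, eq_top_iff]
  rintro t -
  induction t using TensorProduct.induction_on with
  | zero => exact zero_mem _
  | tmul c b =>
    have : c ⊗ₜ[A] b = iL c * iR b := by simp [iL, iR]
    rw [this]
    exact mul_mem (hC c) (hR b)
  | add u v hu hv => exact add_mem hu hv

end Groth.Agent.S13399
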