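import Groth.Statements.S13400
import Groth.Agent.L22.Gamma.Ker
import Groth.Agent.L29.Trace
import Mathlib.RingTheory.TotallySplit
import Mathlib.LinearAlgebra.Matrix.Charpoly.Coeff
import Mathlib.RingTheory.Norm.Basic

set_option autoImplicit false
universe u
open scoped TensorProduct
open ZeroCyc
open Groth.L22.Gamma

namespace Groth.Agent.S13400

/-- the kernel of a norm law of a finite étale algebra is zero -/
theorem ker_eq_bot {A B : Type u} [CommRing A] [CommRing B] [Algebra A B]
    [Module.Free A B] [Module.Finite A B] [Algebra.Etale A B] {d : ℕ}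
    (N : PolLaw.MulLaw A B A d)
    (hN : ∀ (S : Type u) [CommRing S] [Algebra A S] (x : S ⊗[A] B),
      N.law.toFun' S x = Algebra.norm S x ⊗ₜ[A] (1 : A)) :
    PolLaw.ker N.law = ⊥ := by
  classical
  rw [eq_bot_iff]
  intro b hb
  rw [Ideal.mem_bot]
  refine (Groth.L29.Trace.trace_bijective (R := A) (L := B)).1 (LinearMap.ext fun w => ?_)
  rw [map_zero, LinearMap.zero_apply, Algebra.traceForm_apply]
  let S := Polynomial A
  let bB := Module.Free.chooseBasis A B
  let bS := Algebra.TensorProduct.basis S bB
  have h := hb S 1 ((Polynomial.X : S) ⊗ₜ[A] w)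
  rw [hN, hN, map_one, Algebra.TensorProduct.tmul_mul_tmul, _root_.mul_one] at h
  replace h := congrArg (Algebra.TensorProduct.rid A A S) h
  simp only [Algebra.TensorProduct.rid_tmul, one_smul] at h
  rw [Algebra.norm_eq_matrix_det bS] at h
  have hM : Algebra.leftMulMatrix bS (1 + (Polynomial.X : S) ⊗ₜ[A] (w * b)) =
      1 + (Polynomial.X : S) • (Algebra.leftMulMatrix bB (w * b)).map Polynomial.C := by
    rw [map_add, map_one]
    congr 1
    refine Matrix.ext fun i j => ?_
    rw [Matrix.smul_apply, Matrix.map_apply, Algebra.leftMulMatrix_eq_repr_mul,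
      Algebra.leftMulMatrix_eq_repr_mul, Algebra.TensorProduct.basis_apply,
      Algebra.TensorProduct.tmul_mul_tmul, _root_.mul_one, Algebra.TensorProduct.basis_repr_tmul]
    rw [show (Polynomial.X : S) • Polynomial.C _ = Polynomial.X * Polynomial.C _ from rfl]
    rw [Finsupp.smul_apply, Finsupp.mapRange_apply, smul_eq_mul]
    rfl
  rw [hM] at h
  have h1 := Matrix.coeff_det_one_add_X_smul_one (Algebra.leftMulMatrix bB (w * b))
  rw [h, Polynomial.coeff_one, if_neg one_ne_zero] at h1
  rw [_root_.mul_comm b w, Algebra.trace_eq_matrix_trace bB, ← h1]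

/-- the key: on a split algebra every law with small kernel has all weights one -/
theorem weight_one {A B T : Type u} [CommRing A] [CommRing B] [Algebra A B] [CommRing T] [Algebra A T]
    [Module.Free A B] [Module.Finite A B] {d : ℕ} (hd : Module.finrank A B = d)
    (G : PolLaw.MulLaw A B A d) (hG : PolLaw.ker G.law ≤ nilradical B) {m : ℕ}
    (e : (T ⊗[A] B) ≃ₐ[T] (Fin m → T)) (i : Fin m) :
    nm G (Polynomial T) ((Polynomial.X : Polynomial T) ⊗ₜ[A] (1 : B) *
        Algebra.TensorProduct.map (IsScalarTower.toAlgHom A T (Polynomial T)) (AlgHom.id A B)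
          (e.symm (Pi.single i 1)) +
        (1 - Algebra.TensorProduct.map (IsScalarTower.toAlgHom A T (Polynomial T)) (AlgHom.id A B)
          (e.symm (Pi.single i 1)))) = Polynomial.X := by
  classical
  let ι : T →ₐ[A] Polynomial T := IsScalarTower.toAlgHom A T (Polynomial T)
  let ε : Fin m → T ⊗[A] B := fun l => e.symm (Pi.single l 1)
  let Z : ∀ (R : Type u) [CommRing R] [Algebra A R] (g : T →ₐ[A] R) (l : Fin m) (a : R), R ⊗[A] B :=
    fun R _ _ g l a => a ⊗ₜ[A] (1 : B) * Algebra.TensorProduct.map g (AlgHom.id A B) (ε l) +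
      (1 - Algebra.TensorProduct.map g (AlgHom.id A B) (ε l))
  let P : Fin m → Polynomial T := fun l => nm G (Polynomial T) (Z (Polynomial T) ι l Polynomial.X)
  have hnat : ∀ (R : Type u) [CommRing R] [Algebra A R] (g : T →ₐ[A] R) (l : Fin m) (a : R),
      nm G R (Z R g l a) = Polynomial.eval₂ g.toRingHom a (P l) := by
    intro R _ _ g l a
    let φ : Polynomial T →ₐ[A] R :=
      { Polynomial.eval₂RingHom g.toRingHom a with
        commutes' := fun r => by simp [Polynomial.eval₂_C, IsScalarTower.algebraMap_apply A T (Polynomial T)] }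
    show _ = φ (P l)
    simp only [P]
    rw [← nm_map]
    congr 1
    have hc : φ.comp ι = g := AlgHom.ext fun t => by simp [φ, ι]
    simp only [Z, map_add, map_sub, map_mul, map_one, Algebra.TensorProduct.map_tmul]
    rw [← AlgHom.comp_apply, ← Algebra.TensorProduct.map_comp, hc, AlgHom.id_comp]
    simp [φ]
  have hidem : ∀ l, ε l * ε l = ε l := fun l => by
    simp only [ε, ← map_mul, ← Pi.single_mul, _root_.one_mul]
  have hidemR : ∀ (R : Type u) [CommRing R] [Algebra A R] (g : T →ₐ[A] R) (l : Fin m) (a b : R),
      Z R g l a * Z R g l b = Z R g l (a * b) := by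
    intro R _ _ g l a b
    have h := congrArg (Algebra.TensorProduct.map g (AlgHom.id A B)) (hidem l)
    rw [map_mul] at h
    simp only [Z]
    set q := Algebra.TensorProduct.map g (AlgHom.id A B) (ε l)
    have : (a * b) ⊗ₜ[A] (1 : B) = a ⊗ₜ[A] (1 : B) * b ⊗ₜ[A] (1 : B) := by
      rw [Algebra.TensorProduct.tmul_mul_tmul, _root_.mul_one]
    rw [this]
    linear_combination (a ⊗ₜ[A] (1 : B) * b ⊗ₜ[A] (1 : B) - a ⊗ₜ[A] (1 : B) - b ⊗ₜ[A] (1 : B) + 1) * h
  -- coefficients are orthogonal idempotents
  have horth : ∀ j k, (P i).coeff j * (P i).coeff k = if j = k then (P i).coeff j else 0 := by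
    intro j k
    let g : T →ₐ[A] Polynomial (Polynomial T) :=
      (IsScalarTower.toAlgHom A (Polynomial T) (Polynomial (Polynomial T))).comp ι
    have h := congrArg (nm G (Polynomial (Polynomial T)))
      (hidemR (Polynomial (Polynomial T)) g i (Polynomial.C Polynomial.X) Polynomial.X)
    rw [nm_mul, hnat, hnat, hnat] at h
    have hg : g.toRingHom = (Polynomial.C : Polynomial T →+* Polynomial (Polynomial T)).comp Polynomial.C := by
      ext t; simp [g, ι]
    have h1 : Polynomial.eval₂ g.toRingHom (Polynomial.C Polynomial.X : Polynomial (Polynomial T)) (P i) = Polynomial.C (P i) := by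
      rw [hg, ← Polynomial.hom_eval₂, Polynomial.eval₂_C_X]
    have h2 : Polynomial.eval₂ g.toRingHom (Polynomial.X : Polynomial (Polynomial T)) (P i) = (P i).map Polynomial.C := by
      rw [hg, Polynomial.eval₂_eq_eval_map, ← Polynomial.map_map, Polynomial.eval_map,
        Polynomial.eval₂_C_X]
    rw [h1, h2] at h
    have h3 := congrArg (fun q : Polynomial (Polynomial T) => (q.coeff k).coeff j) h
    simp only [Polynomial.coeff_C_mul, Polynomial.coeff_mul_C, Polynomial.coeff_map,
      Polynomial.eval₂_eq_sum_range, Polynomial.finset_sum_coeff] at h3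
    rw [h3]
    simp only [mul_pow, ← Polynomial.C_pow, hg, RingHom.comp_apply, ← _root_.mul_assoc, ← Polynomial.C_mul,
      Polynomial.coeff_C_mul_X_pow]
    rw [Finset.sum_eq_single k (fun l _ hlk => by rw [if_neg (Ne.symm hlk), Polynomial.coeff_zero])]
    · rw [if_pos rfl, Polynomial.coeff_C_mul_X_pow]
      split_ifs with hjk
      · rw [hjk]
      · rfl
    · intro hk
      rw [Finset.mem_range, not_lt] at hk
      rw [if_pos rfl, Polynomial.coeff_C_mul_X_pow]
      split_ifs
      · exact Polynomial.coeff_eq_zero_of_natDegree_lt (by omega)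
      · rfl
  -- at every prime the weight is one
  have hc1 : (P i).coeff 1 = 1 := by
    have hu : IsUnit ((P i).coeff 1) := by
      by_contra hu
      obtain ⟨p, hp, hmem⟩ := exists_max_ideal_of_mem_nonunits hu
      haveI : Nontrivial T := ⟨⟨0, 1, fun h => hp.ne_top ((Ideal.eq_top_iff_one p).mpr (h ▸ p.zero_mem))⟩⟩
      haveI : Nontrivial A := (algebraMap A T).domain_nontrivial
      have hm : m = d := by
        rw [← hd, ← Module.finrank_baseChange (R := T), e.toLinearEquiv.finrank_eq, Module.finrank_fin_fun]
      let Ω := FractionRing (T ⧸ p)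
      let g : T →ₐ[A] Ω := IsScalarTower.toAlgHom A T Ω
      let q : Fin m → Polynomial Ω := fun l => nm G (Polynomial Ω)
        (Z (Polynomial Ω) ((IsScalarTower.toAlgHom A Ω (Polynomial Ω)).comp g) l Polynomial.X)
      have hq : ∀ l, q l = (P l).map g.toRingHom := by
        intro l
        simp only [q]
        rw [hnat, show ((IsScalarTower.toAlgHom A Ω (Polynomial Ω)).comp g).toRingHom =
          (Polynomial.C : Ω →+* Polynomial Ω).comp g.toRingHom from rfl, Polynomial.eval₂_eq_eval_map,
          ← Polynomial.map_map, Polynomial.eval_map, Polynomial.eval₂_C_X]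
      -- weights are positive
      have hzero : ∀ l, (q l).eval 0 = 0 := by
        intro l
        let ev : Polynomial Ω →ₐ[A] Ω := (Polynomial.aeval (0 : Ω)).restrictScalars A
        have he : (q l).eval 0 = nm G Ω (Z Ω g l 0) := by
          rw [hnat, hq, Polynomial.eval_map]
        rw [he]
        set E := Algebra.TensorProduct.map g (AlgHom.id A B) (ε l) with hE
        have hE2 : E * E = E := by rw [hE, ← map_mul, hidem]
        have hZ : Z Ω g l 0 = 1 - E := by simp [Z, E]
        rw [hZ]
        by_contra hne
        -- then `E` lies in the kernel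
        have hker : E ∈ PolLaw.kerBC G.law Ω := by
          intro R _ _ _ _ x w
          have hu1 : IsUnit (nm G R (img Ω R (1 - E))) := by
            have := (isUnit_iff_ne_zero.mpr hne).map (IsScalarTower.toAlgHom A Ω R)
            rwa [← nm_map] at this
          rw [← nm_inj, ← hu1.mul_left_inj, ← nm_mul, ← nm_mul]
          congr 1
          have : img Ω R E * img Ω R (1 - E) = 0 := by
            rw [← map_mul, mul_sub, _root_.mul_one, hE2, sub_self, map_zero]
          rw [add_mul, _root_.mul_assoc]
          show x * _ + w * (img Ω R E * _) = x * _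
          rw [this, mul_zero, add_zero]
        have hnil : IsNilpotent E := by
          have h1 := Ideal.le_radical hker
          rw [radical_kerBC] at h1
          have hle : (PolLaw.ker G.law).map (Algebra.TensorProduct.includeRight : B →ₐ[A] Ω ⊗[A] B) ≤
              nilradical (Ω ⊗[A] B) :=
            Ideal.map_le_iff_le_comap.mpr fun b hb => IsNilpotent.map (mem_nilradical.mp (hG hb)) _
          have h2 := Ideal.radical_mono hle h1
          rwa [nilradical, Ideal.radical_idem, ← nilradical, mem_nilradical] at h2
        -- but it is not nilpotent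
        let ψ : Ω ⊗[A] B →ₐ[A] Ω := Algebra.TensorProduct.productMap (AlgHom.id A Ω)
          (g.comp (((Pi.evalAlgHom T (fun _ : Fin m => T) l).comp e.toAlgHom).restrictScalars A |>.comp
            Algebra.TensorProduct.includeRight))
        have hψ : ∀ z, ψ (Algebra.TensorProduct.map g (AlgHom.id A B) z) = g (e z l) := by
          intro z
          induction z using TensorProduct.induction_on with
          | zero => simp
          | tmul t b =>
            rw [Algebra.TensorProduct.map_tmul, AlgHom.id_apply, Algebra.TensorProduct.productMap_apply_tmul,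
              AlgHom.id_apply,
              show t ⊗ₜ[A] b = t • ((1 : T) ⊗ₜ[A] b) by rw [TensorProduct.smul_tmul', smul_eq_mul, _root_.mul_one],
              map_smul, Pi.smul_apply, smul_eq_mul, map_mul]
            rfl
          | add u v hu hv => simp only [map_add, hu, hv, Pi.add_apply]
        have h1 : ψ E = 1 := by
          rw [hE, hψ]
          simp [ε]
        have := hnil.map ψ
        rw [h1] at this
        exact one_ne_zero this.eq_zero
      -- their sum is `d`
      have hprod : ∏ l, q l = Polynomial.X ^ d := by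
        simp only [q]
        set g' := (IsScalarTower.toAlgHom A Ω (Polynomial Ω)).comp g
        let Φ := Algebra.TensorProduct.map g' (AlgHom.id A B)
        have hnmprod : ∀ (s : Finset (Fin m)) (f : Fin m → (Polynomial Ω) ⊗[A] B),
            nm G _ (∏ l ∈ s, f l) = ∏ l ∈ s, nm G _ (f l) := by
          intro s f
          induction s using Finset.induction_on with
          | empty => simp [nm_one]
          | insert a t ha ih => rw [Finset.prod_insert ha, Finset.prod_insert ha, nm_mul, ih]
        rw [← hnmprod, ← nm_algebraMap G]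
        congr 1
        let XX : (Polynomial Ω) ⊗[A] B := (Polynomial.X : Polynomial Ω) ⊗ₜ[A] (1 : B)
        -- transport from the split algebra with one variable
        let Ψ : Polynomial (T ⊗[A] B) →+* (Polynomial Ω) ⊗[A] B := Polynomial.eval₂RingHom Φ.toRingHom XX
        have hsplit : ∏ l, (Polynomial.X * Polynomial.C (ε l) + (1 - Polynomial.C (ε l))) =
            (Polynomial.X : Polynomial (T ⊗[A] B)) := by
          apply Polynomial.map_injective e.toAlgHom.toRingHom e.injective
          have heps : ∀ l, e (ε l) = Pi.single l 1 := fun l => e.apply_symm_apply _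
          simp only [Polynomial.map_prod, Polynomial.map_add, Polynomial.map_mul, Polynomial.map_X,
            Polynomial.map_C, Polynomial.map_sub, Polynomial.map_one]
          apply Polynomial.ext
          intro n
          funext l
          let π : (Fin m → T) →+* T := Pi.evalRingHom (fun _ => T) l
          suffices hl : Polynomial.map π (∏ l, (Polynomial.X * Polynomial.C (e.toAlgHom.toRingHom (ε l)) +
              (1 - Polynomial.C (e.toAlgHom.toRingHom (ε l))))) = Polynomial.map π Polynomial.X from
            ((Polynomial.coeff_map π n).symm.trans (congrArg (fun q => Polynomial.coeff q n) hl)).trans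
              (Polynomial.coeff_map π n)
          simp only [Polynomial.map_prod, Polynomial.map_add, Polynomial.map_mul, Polynomial.map_X,
            Polynomial.map_C, Polynomial.map_sub, Polynomial.map_one]
          rw [Finset.prod_eq_single l]
          · simp [π, heps]
          · intro l' _ hl
            simp [π, heps, Pi.single_eq_of_ne (Ne.symm hl)]
          · exact fun h => absurd (Finset.mem_univ _) h
        have := congrArg Ψ hsplit
        simp only [map_prod, map_add, map_mul, map_sub, map_one, Ψ, Polynomial.coe_eval₂RingHom,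
          Polynomial.eval₂_X, Polynomial.eval₂_C] at this
        exact this
      have hX : ∀ l, Polynomial.X ∣ q l := fun l =>
        Polynomial.X_dvd_iff.mpr (by rw [Polynomial.coeff_zero_eq_eval_zero]; exact hzero l)
      choose r hr using hX
      have hr1 : ∏ l, r l = 1 := by
        simp only [hr, Finset.prod_mul_distrib, Finset.prod_const, Finset.card_univ, Fintype.card_fin,
          hm] at hprod
        exact mul_left_cancel₀ (pow_ne_zero d Polynomial.X_ne_zero) (hprod.trans (_root_.mul_one _).symm)
      obtain ⟨c, hcu, hc⟩ := Polynomial.isUnit_iff.mp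
        (isUnit_of_dvd_one (hr1 ▸ Finset.dvd_prod_of_mem r (Finset.mem_univ i)))
      have h0 : (q i).coeff 1 = c := by
        rw [hr, ← hc, Polynomial.coeff_X_mul, Polynomial.coeff_C_zero]
      rw [hq, Polynomial.coeff_map] at h0
      refine hcu.ne_zero (h0.symm.trans ?_)
      show algebraMap T Ω _ = 0
      rw [IsScalarTower.algebraMap_apply T (T ⧸ p) Ω, Ideal.Quotient.algebraMap_eq,
        Ideal.Quotient.eq_zero_iff_mem.mpr hmem, map_zero]
    have h := horth 1 1
    rw [if_pos rfl] at h
    exact hu.mul_left_cancel (h.trans (_root_.mul_one _).symm)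
  show P i = Polynomial.X
  ext n
  rw [Polynomial.coeff_X]
  split_ifs with hn
  · rw [← hn, hc1]
  · have := horth 1 n
    rwa [if_neg hn, hc1, _root_.one_mul] at this

theorem result {A B : Type u} [CommRing A] [CommRing B] [Algebra A B]
    [Module.Free A B] [Module.Finite A B] [Algebra.Etale A B] (d : ℕ) (hd : Module.finrank A B = d)
    (N : PolLaw.MulLaw A B A d)
    (hN : ∀ (S : Type u) [CommRing S] [Algebra A S] (x : S ⊗[A] B),
      N.law.toFun' S x = Algebra.norm S x ⊗ₜ[A] (1 : A)) :
    PolLaw.ker N.law = ⊥ ∧
      ∀ F : PolLaw.MulLaw A B A d, PolLaw.ker F.law ≤ nilradical B → F = N := by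
  classical
  refine ⟨ker_eq_bot N hN, fun F hF => ?_⟩
  rcases subsingleton_or_nontrivial A with hA | hA
  · refine PolLaw.MulLaw.ext ?_
    ext S _ _ x
    haveI : Subsingleton (S ⊗[A] A) := Module.subsingleton A _
    exact Subsingleton.elim _ _
  have hrank : Module.rankAtStalk (R := A) B = d := by
    rw [Module.rankAtStalk_eq_finrank_of_free, hd]
  obtain ⟨T, _, _, _, _, _, hT⟩ := Algebra.IsFiniteSplit.exists_tensorProduct_of_etale hrank
  obtain ⟨m, ⟨e⟩⟩ := hT.nonempty_algEquiv_fun
  have hN' : PolLaw.ker N.law ≤ nilradical B := by rw [ker_eq_bot N hN]; exact bot_le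
  have key : ∀ (R : Type u) [CommRing R] [Algebra A R] (g : T →ₐ[A] R) (x : R ⊗[A] B),
      nm F R x = nm N R x := by
    intro R _ _ g x
    let ε : Fin m → R ⊗[A] B := fun i =>
      Algebra.TensorProduct.map g (AlgHom.id A B) (e.symm (Pi.single i 1))
    have hrep : ∀ x : R ⊗[A] B, ∃ a : Fin m → R, x = ∑ i, a i ⊗ₜ[A] (1 : B) * ε i := by
      intro x
      induction x using TensorProduct.induction_on with
      | zero => exact ⟨0, by simp⟩
      | tmul r b =>
        refine ⟨fun i => r * g (e ((1 : T) ⊗ₜ[A] b) i), ?_⟩
        have h1 : (1 : T) ⊗ₜ[A] b =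
            ∑ i, (e ((1 : T) ⊗ₜ[A] b) i) ⊗ₜ[A] (1 : B) * e.symm (Pi.single i 1) := by
          apply e.injective
          rw [map_sum]
          funext l
          rw [Finset.sum_apply, Finset.sum_eq_single l]
          · rw [map_mul, Pi.mul_apply, e.apply_symm_apply, Pi.single_eq_same, _root_.mul_one,
              show (e ((1 : T) ⊗ₜ[A] b) l) ⊗ₜ[A] (1 : B) = algebraMap T (T ⊗[A] B) (e ((1 : T) ⊗ₜ[A] b) l) from rfl,
              e.commutes]
            rfl
          · intro i _ hil
            rw [map_mul, Pi.mul_apply, e.apply_symm_apply, Pi.single_eq_of_ne (Ne.symm hil), mul_zero]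
          · exact fun h => absurd (Finset.mem_univ _) h
        have h2 := congrArg (Algebra.TensorProduct.map g (AlgHom.id A B)) h1
        rw [Algebra.TensorProduct.map_tmul, map_one, AlgHom.id_apply, map_sum] at h2
        have h3 : r ⊗ₜ[A] b = r ⊗ₜ[A] (1 : B) * ((1 : R) ⊗ₜ[A] b) := by
          rw [Algebra.TensorProduct.tmul_mul_tmul, _root_.mul_one, _root_.one_mul]
        rw [h3, h2, Finset.mul_sum]
        refine Finset.sum_congr rfl fun i _ => ?_
        rw [map_mul, Algebra.TensorProduct.map_tmul, map_one, ← _root_.mul_assoc,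
          Algebra.TensorProduct.tmul_mul_tmul, _root_.mul_one]
      | add y z hy hz =>
        obtain ⟨a, rfl⟩ := hy
        obtain ⟨b, rfl⟩ := hz
        exact ⟨a + b, by simp [TensorProduct.add_tmul, add_mul, Finset.sum_add_distrib]⟩
    obtain ⟨a, rfl⟩ := hrep x
    -- product decomposition
    have hsum : ∑ i, ε i = 1 := by
      simp only [ε]
      rw [← map_sum, ← map_sum, Finset.univ_sum_single (fun _ : Fin m => (1 : T))]
      show Algebra.TensorProduct.map g (AlgHom.id A B) (e.symm 1) = 1
      rw [map_one, map_one]
    have horth : ∀ i j, ε i * ε j = if i = j then ε i else 0 := by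
      intro i j
      simp only [ε, ← map_mul]
      split_ifs with h
      · rw [h, ← Pi.single_mul, _root_.one_mul]
      · have : (Pi.single i (1 : T) : Fin m → T) * Pi.single j 1 = 0 := by
          funext l
          rw [Pi.mul_apply]
          rcases eq_or_ne l i with rfl | hl
          · rw [Pi.single_eq_of_ne h, mul_zero]; rfl
          · rw [Pi.single_eq_of_ne hl, zero_mul]; rfl
        rw [this, map_zero, map_zero]
    let u : Fin m → R ⊗[A] B := fun i => a i ⊗ₜ[A] (1 : B) * ε i + (1 - ε i)
    have hprod : ∀ s : Finset (Fin m), ∏ i ∈ s, u i =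
        ∑ i ∈ s, a i ⊗ₜ[A] (1 : B) * ε i + (1 - ∑ i ∈ s, ε i) := by
      intro s
      induction s using Finset.induction_on with
      | empty => simp
      | insert j t hj ih =>
        rw [Finset.prod_insert hj, Finset.sum_insert hj, Finset.sum_insert hj, ih]
        have h1 : ε j * ∑ i ∈ t, ε i = 0 := by
          rw [Finset.mul_sum]
          exact Finset.sum_eq_zero fun i hi => by rw [horth, if_neg (fun h : j = i => hj (h ▸ hi))]
        have h2 : ε j * ∑ i ∈ t, a i ⊗ₜ[A] (1 : B) * ε i = 0 := by
          rw [Finset.mul_sum]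
          exact Finset.sum_eq_zero fun i hi => by
            rw [← _root_.mul_assoc, _root_.mul_comm (ε j), _root_.mul_assoc, horth,
              if_neg (fun h : j = i => hj (h ▸ hi)), mul_zero]
        simp only [u]
        linear_combination (a j ⊗ₜ[A] (1 : B) - 1) * h2 + (1 - a j ⊗ₜ[A] (1 : B)) * h1
    have hx : ∑ i, a i ⊗ₜ[A] (1 : B) * ε i = ∏ i, u i := by
      rw [hprod, hsum, sub_self, add_zero]
    have hval : ∀ G : PolLaw.MulLaw A B A d, PolLaw.ker G.law ≤ nilradical B → ∀ i, nm G R (u i) = a i := by
      intro G hG i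
      have h := weight_one hd G hG e i
      let φ : Polynomial T →ₐ[A] R :=
        { Polynomial.eval₂RingHom g.toRingHom (a i) with
          commutes' := fun r => by simp [Polynomial.eval₂_C, IsScalarTower.algebraMap_apply A T (Polynomial T)] }
      have h' := congrArg φ h
      rw [← nm_map] at h'
      have hX : φ Polynomial.X = a i := by simp [φ]
      rw [hX] at h'
      refine Eq.trans ?_ h'
      congr 1
      have hc : φ.comp (IsScalarTower.toAlgHom A T (Polynomial T)) = g := AlgHom.ext fun t => by simp [φ]
      simp only [u, ε, map_add, map_sub, map_mul, map_one, Algebra.TensorProduct.map_tmul, hX]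
      rw [← AlgHom.comp_apply (Algebra.TensorProduct.map φ (AlgHom.id A B)),
        ← Algebra.TensorProduct.map_comp, hc, AlgHom.id_comp]
    have hnmprod : ∀ (G : PolLaw.MulLaw A B A d) (s : Finset (Fin m)),
        nm G R (∏ i ∈ s, u i) = ∏ i ∈ s, nm G R (u i) := by
      intro G s
      induction s using Finset.induction_on with
      | empty => simp [nm_one]
      | insert a t ha ih => rw [Finset.prod_insert ha, Finset.prod_insert ha, nm_mul, ih]
    rw [hx, hnmprod, hnmprod]
    exact Finset.prod_congr rfl fun i _ => by rw [hval F hF i, hval N hN' i]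
  refine PolLaw.MulLaw.ext ?_
  ext S _ _ x
  obtain ⟨n, s, b, rfl⟩ := TensorProduct.exists_sum_tmul_eq x
  let φ : MvPolynomial (Fin n) A →ₐ[A] S := MvPolynomial.aeval s
  have hx : ∑ i, s i ⊗ₜ[A] b i = φ.toLinearMap.rTensor B (∑ i, MvPolynomial.X i ⊗ₜ[A] b i) := by
    simp [map_sum, φ]
  rw [hx, ← PolynomialLaw.isCompat_apply', ← PolynomialLaw.isCompat_apply', toFun'_eq_nm_tmul,
    toFun'_eq_nm_tmul]
  congr 2
  let R := MvPolynomial (Fin n) A
  apply Module.FaithfullyFlat.tensorProduct_mk_injective (A := A) (B := T) R
  show (Algebra.TensorProduct.includeRight : R →ₐ[A] T ⊗[A] R) _ =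
    (Algebra.TensorProduct.includeRight : R →ₐ[A] T ⊗[A] R) _
  rw [← nm_map, ← nm_map]
  exact key (T ⊗[A] R) Algebra.TensorProduct.includeLeft _

end Groth.Agent.S13400
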