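import Groth.Statements.S13401
import Groth.Agent.Lead.GrpEtale
-- import your own Groth.Agent.* helpers here

set_option autoImplicit false
universe u
open CategoryTheory CategoryTheory.Limits MonoidalCategory CartesianMonoidalCategory MonObj GrpObj AlgebraicGeometry
open GrpSch

namespace Groth.Agent.S13401

/-- Let S be a scheme and G an S-group scheme whose structure morphism is finite, flat and locally of
finite presentation (a finite locally free group scheme), and suppose that at every point s of S the
rank of G → S at s is non-zero in the residue field κ(s), i.e. the order of G is invertible on the
base. Then G → S is étale. -/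
theorem result {S : Scheme.{u}} (G : Over S) [GrpObj G]
    [IsFinite G.hom] [Flat G.hom] [LocallyOfFinitePresentation G.hom]
    (h : ∀ s : S, (Scheme.Hom.finrank G.hom s : S.residueField s) ≠ 0) : Etale G.hom := by
  refine Groth.Lead.GrpEtale.etale_of_fibres G fun s x => ?_
  rw [Scheme.Hom.finrank_pullback_snd, Scheme.fromSpecResidueField_apply]
  exact h s

end Groth.Agent.S13401
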