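import Groth.Statements.S13402
import Groth.Agent.L08.TrivialKernel

set_option autoImplicit false
universe u v w
open Hopf

namespace Groth.Agent.S13402

/-- Let k be a field and let A and B be finite-dimensional commutative and cocommutative Hopf algebras
over k (finite commutative k-group schemes G = Spec A and H = Spec B). Let f : B → A be a bialgebra
map (a homomorphism G → H) which is injective and such that the ideal of A generated by the image of
the augmentation ideal of B is the augmentation ideal of A (the homomorphism G → H has trivial
kernel). Then f is bijective, so G → H is an isomorphism; this is what makes the category of finite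
commutative k-group schemes abelian. -/
theorem result (k : Type u) [Field k] (A : Type v) (B : Type w)
    [CommRing A] [HopfAlgebra k A] [Module.Finite k A] [Coalgebra.IsCocomm k A]
    [CommRing B] [HopfAlgebra k B] [Module.Finite k B] [Coalgebra.IsCocomm k B]
    (f : B →ₐc[k] A) (hinj : Function.Injective f)
    (hker : Ideal.map f (RingHom.ker (Bialgebra.counitAlgHom k B)) = RingHom.ker (Bialgebra.counitAlgHom k A)) :
    Function.Bijective f := by
  haveI : Algebra.FiniteType k A := Module.Finite.finiteType A
  refine ⟨hinj, Groth.L08.TrivialKernel.surjective_of_ker f
    (Groth.L08.HopfImage.faithfullyFlat_of_injective f hinj) hker.ge⟩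

end Groth.Agent.S13402
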