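import Groth.Statements.S13404
import Groth.Agent.L05.Hensel.Product
import Mathlib.RingTheory.HopfAlgebra.Quotient
import Mathlib.RingTheory.HopfAlgebra.Convolution
import Mathlib.RingTheory.Flat.Stability
import Mathlib.RingTheory.IntegralClosure.GoingDown
import Mathlib.RingTheory.FiniteStability

set_option autoImplicit false
universe u v w
open Hopf

namespace Groth.Agent.S13404

open TensorProduct IsLocalRing

/-- an augmented finite local algebra over a local ring tensor itself is local, with the obvious maximal ideal -/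
theorem isLocalRing_tensor_self {R : Type u} {B : Type w} [CommRing R] [IsLocalRing R] [CommRing B] [Algebra R B]
    [Module.Finite R B] [IsLocalRing B] (εB : B →ₐ[R] R) :
    IsLocalRing (B ⊗[R] B) := by
  let ε2 : B ⊗[R] B →ₐ[R] R := Algebra.TensorProduct.lift εB εB fun _ _ => Commute.all _ _
  have hε2 : Function.Surjective ε2 := fun r => ⟨algebraMap R _ r, ε2.commutes r⟩
  haveI : ((maximalIdeal R).comap ε2).IsMaximal := Ideal.comap_isMaximal_of_surjective ε2 hε2
  haveI : Algebra.IsIntegral R B := Algebra.IsIntegral.of_finite R B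
  haveI : Algebra.IsIntegral R (B ⊗[R] B) := Algebra.IsIntegral.of_finite R _
  refine IsLocalRing.of_unique_max_ideal ⟨_, ‹_›, fun P hP => ?_⟩
  haveI := hP
  haveI : (P.comap (algebraMap R (B ⊗[R] B))).IsMaximal := Ideal.isMaximal_comap_of_isIntegral_of_isMaximal P
  have hR : P.comap (algebraMap R (B ⊗[R] B)) = maximalIdeal R := IsLocalRing.eq_maximalIdeal ‹_›
  have hkerB : ∀ b, b - algebraMap R B (εB b) ∈ maximalIdeal B := fun b => by
    rw [IsLocalRing.mem_maximalIdeal]
    intro hu
    have := hu.map εB
    rw [map_sub, AlgHom.commutes, Algebra.algebraMap_self_apply, sub_self] at this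
    exact not_isUnit_zero this
  have hmax : ∀ (i : B →ₐ[R] B ⊗[R] B), maximalIdeal B ≤ P.comap (i : B →+* B ⊗[R] B) := fun i => by
    have hint : (i : B →+* B ⊗[R] B).IsIntegral := fun x => by
      obtain ⟨q, hq, hqx⟩ := Algebra.IsIntegral.isIntegral (R := R) x
      exact ⟨q.map (algebraMap R B), hq.map _, by rw [Polynomial.eval₂_map, AlgHom.comp_algebraMap]; exact hqx⟩
    haveI : (P.comap (i : B →+* B ⊗[R] B)).IsMaximal := Ideal.isMaximal_comap_of_isIntegral_of_isMaximal' _ hint P
    exact (IsLocalRing.eq_maximalIdeal (I := P.comap (i : B →+* B ⊗[R] B)) ‹_›).ge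
  have hz : ∀ z, z - algebraMap R _ (ε2 z) ∈ P := fun z => by
    induction z using TensorProduct.induction_on with
    | zero => simp
    | add a b ha hb => rw [map_add, map_add, add_sub_add_comm]; exact P.add_mem ha hb
    | tmul a b =>
      have h1 : (a - algebraMap R B (εB a)) ⊗ₜ[R] (1 : B) ∈ P := hmax Algebra.TensorProduct.includeLeft (hkerB a)
      have h2 : (1 : B) ⊗ₜ[R] (b - algebraMap R B (εB b)) ∈ P := hmax Algebra.TensorProduct.includeRight (hkerB b)
      have h : a ⊗ₜ[R] b - algebraMap R (B ⊗[R] B) (ε2 (a ⊗ₜ b)) =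
          (a - algebraMap R B (εB a)) ⊗ₜ[R] (1 : B) * ((1 : B) ⊗ₜ b) +
            algebraMap R (B ⊗[R] B) (εB a) * ((1 : B) ⊗ₜ[R] (b - algebraMap R B (εB b))) := by
        have e1 : (a - algebraMap R B (εB a)) ⊗ₜ[R] (1 : B) = a ⊗ₜ[R] (1 : B) - algebraMap R (B ⊗[R] B) (εB a) := by
          rw [TensorProduct.sub_tmul, Algebra.TensorProduct.algebraMap_apply]
        have e2 : (1 : B) ⊗ₜ[R] (b - algebraMap R B (εB b)) = (1 : B) ⊗ₜ[R] b - algebraMap R (B ⊗[R] B) (εB b) := by
          rw [TensorProduct.tmul_sub, ← Algebra.TensorProduct.includeRight_apply (R := R) (A := B) (algebraMap R B (εB b)), AlgHom.commutes]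
        have e3 : a ⊗ₜ[R] b = a ⊗ₜ[R] (1 : B) * ((1 : B) ⊗ₜ[R] b) := by
          rw [Algebra.TensorProduct.tmul_mul_tmul, _root_.mul_one, _root_.one_mul]
        rw [e1, e2, e3]
        simp only [ε2, map_mul, Algebra.TensorProduct.lift_tmul, map_one, _root_.mul_one, _root_.one_mul]
        ring
      rw [h]
      exact P.add_mem (P.mul_mem_right _ h1) (P.mul_mem_left _ h2)
  refine ((Ideal.comap_isMaximal_of_surjective ε2 hε2 : ((maximalIdeal R).comap ε2).IsMaximal).eq_of_le hP.ne_top fun z hzm => ?_).symm
  have h1 : algebraMap R (B ⊗[R] B) (ε2 z) ∈ P := by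
    rw [← Ideal.mem_comap, hR]; exact hzm
  simpa using P.add_mem (hz z) h1

theorem idem_eq_one {R : Type u} {C : Type w} [CommRing R] [Nontrivial R] [CommRing C] [Algebra R C] [IsLocalRing C]
    (ψ : C →ₐ[R] R) {f : C} (hf : IsIdempotentElem f) (hψ : ψ f = 1) : f = 1 := by
  have h1 : f * (1 - f) = 0 := by rw [mul_sub, _root_.mul_one, hf.eq, sub_self]
  rcases IsLocalRing.isUnit_or_isUnit_one_sub_self f with hu | hu
  · exact (sub_eq_zero.mp (hu.mul_right_eq_zero.mp h1)).symm
  · rw [hu.mul_left_eq_zero.mp h1, map_zero] at hψ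
    exact absurd hψ zero_ne_one

/-- Let R be a henselian local ring and G = Spec A a finite flat group scheme over R (A a commutative
Hopf algebra over R, finite and flat as an R-module; G need not be commutative). Let e be an
idempotent of A on which the counit takes the value 1 and such that A/(1 - e) is a local ring, so
that Spec A/(1 - e) is the connected component G⁰ of G containing the unit section. Then the ideal
(1 - e) is a Hopf ideal (G⁰ is a closed subgroup scheme of G), A/(1 - e) is a henselian local ring
with the same residue field as R (the composite R → A/(1 - e) → residue field is surjective), and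
A/(1 - e) is flat over R. (The published statement also asserts that G⁰ is normal in G; this row
does not state normality.) -/
theorem result (R : Type u) [CommRing R] [HenselianLocalRing R]
    (A : Type v) [CommRing A] [HopfAlgebra R A] [Module.Finite R A] [Module.Flat R A]
    (e : A) (he : IsIdempotentElem e) (hε : Bialgebra.counitAlgHom R A e = 1)
    [IsLocalRing (A ⧸ Ideal.span ({1 - e} : Set A))] :
    (Ideal.span ({1 - e} : Set A)).IsHopfIdeal R ∧ HenselianLocalRing (A ⧸ Ideal.span ({1 - e} : Set A)) ∧
      Function.Surjective (⇑(IsLocalRing.residue (A ⧸ Ideal.span ({1 - e} : Set A))) ∘ ⇑(algebraMap R (A ⧸ Ideal.span ({1 - e} : Set A)))) ∧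
      Module.Flat R (A ⧸ Ideal.span ({1 - e} : Set A)) := by
  let I : Ideal A := Ideal.span ({1 - e} : Set A)
  let B := A ⧸ I
  let π : A →ₐ[R] B := Ideal.Quotient.mkₐ R I
  let ε := Bialgebra.counitAlgHom R A
  let εB : B →ₐ[R] R := Ideal.Quotient.liftₐ I ε fun x hx => by
    obtain ⟨c, rfl⟩ := Ideal.mem_span_singleton'.mp hx
    rw [map_mul, map_sub, map_one, show ε e = 1 from hε, sub_self, mul_zero]
  haveI : Module.Finite R B := Module.Finite.of_surjective π.toLinearMap Ideal.Quotient.mk_surjective
  haveI : IsLocalRing (B ⊗[R] B) := isLocalRing_tensor_self εB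
  have hπe : π e = 1 := by
    rw [← map_one π]
    refine Ideal.Quotient.eq.mpr ?_
    rw [show e - 1 = -(1 - e) by ring]
    exact I.neg_mem (Ideal.mem_span_singleton_self _)
  refine ⟨?_, Groth.L05.henselianLocalRing_of_finite (A := R) B, fun y => ?_, ?_⟩
  · refine { counit_eq_zero := fun x hx => ?_, map_mkQ_comul_eq_zero := fun x hx => ?_, antipode_mem := fun x hx => ?_ }
    · obtain ⟨c, rfl⟩ := Ideal.mem_span_singleton'.mp hx
      show ε (c * (1 - e)) = 0
      rw [map_mul, map_sub, map_one, show ε e = 1 from hε, sub_self, mul_zero]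
    · obtain ⟨c, rfl⟩ := Ideal.mem_span_singleton'.mp hx
      let D : A →ₐ[R] B ⊗[R] B := (Algebra.TensorProduct.map π π).comp (Bialgebra.comulAlgHom R A)
      have hD : ∀ a, TensorProduct.map (I.restrictScalars R).mkQ (I.restrictScalars R).mkQ (Coalgebra.comul a) = D a :=
        fun a => rfl
      refine (hD _).trans ?_
      have hDe : D e = 1 := by
        refine idem_eq_one (Algebra.TensorProduct.lift εB εB fun _ _ => Commute.all _ _) (he.map D) ?_
        have key : ∀ z : A ⊗[R] A, (Algebra.TensorProduct.lift εB εB fun _ _ => Commute.all _ _)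
            (Algebra.TensorProduct.map π π z) = Algebra.TensorProduct.lift ε ε (fun _ _ => Commute.all _ _) z := fun z => by
          induction z using TensorProduct.induction_on with
          | zero => simp
          | add a b ha hb => simp only [map_add, ha, hb]
          | tmul a b => rfl
        show (Algebra.TensorProduct.lift εB εB fun _ _ => Commute.all _ _) (Algebra.TensorProduct.map π π (Coalgebra.comul e)) = 1
        rw [key]
        have h2 := congrArg (TensorProduct.lid R R) (congrArg ((Coalgebra.counit (R := R) (A := A)).lTensor R)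
          (Coalgebra.rTensor_counit_comul (R := R) e))
        rw [LinearMap.lTensor_tmul, TensorProduct.lid_tmul, one_smul, show Coalgebra.counit (R := R) e = 1 from hε] at h2
        refine Eq.trans ?_ h2
        generalize Coalgebra.comul (R := R) e = z
        induction z using TensorProduct.induction_on with
        | zero => simp
        | add a b ha hb => simp only [map_add, ha, hb]
        | tmul a b => simp [ε]
      rw [map_mul, map_sub, map_one, hDe, sub_self, mul_zero]
      rfl
    · obtain ⟨c, rfl⟩ := Ideal.mem_span_singleton'.mp hx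
      let S := HopfAlgebra.antipodeAlgHom R A
      show S (c * (1 - e)) ∈ I
      rw [map_mul, map_sub, map_one]
      refine I.mul_mem_left _ ?_
      have hS : π (S e) = 1 := idem_eq_one εB ((he.map S).map π) (by
        show ε (S e) = 1
        exact (HopfAlgebra.counit_antipode (R := R) e).trans hε)
      rw [← Ideal.Quotient.eq_zero_iff_mem, map_sub, map_one]
      exact sub_eq_zero.mpr hS.symm
  · obtain ⟨b, rfl⟩ := IsLocalRing.residue_surjective y
    refine ⟨εB b, ?_⟩
    show residue B (algebraMap R B (εB b)) = residue B b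
    rw [eq_comm, ← sub_eq_zero, ← map_sub, IsLocalRing.residue_eq_zero_iff, IsLocalRing.mem_maximalIdeal]
    intro hu
    have := hu.map εB
    rw [map_sub, AlgHom.commutes, Algebra.algebraMap_self_apply, sub_self] at this
    exact not_isUnit_zero this
  · haveI : Module.Flat A B := by
      let i : B →ₗ[A] A := Submodule.liftQ _ (LinearMap.mulRight A e) (by
        refine Submodule.span_le.mpr ?_
        rintro _ rfl
        show (1 - e) * e = 0
        rw [sub_mul, _root_.one_mul, he.eq, sub_self])
      refine Module.Flat.of_retract i (Submodule.mkQ _) (LinearMap.ext fun z => ?_)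
      obtain ⟨x, rfl⟩ := Ideal.Quotient.mk_surjective z
      show Ideal.Quotient.mk _ (x * e) = Ideal.Quotient.mk _ x
      rw [Ideal.Quotient.eq, Ideal.mem_span_singleton]
      exact ⟨-x, by ring⟩
    exact Module.Flat.trans R A B

end Groth.Agent.S13404
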