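import Groth.Statements.S13405
import Groth.Agent.L08.TruncatedHopf
import Groth.Agent.L01.HopfShrink
import Groth.Agent.L01.TruncPresent
import Mathlib.RingTheory.HopfAlgebra.TensorProduct
import Mathlib.RingTheory.Artinian.Module
import Mathlib.RingTheory.LocalRing.ResidueField.Basic
import Mathlib.FieldTheory.Perfect

set_option autoImplicit false
universe u v
open Hopf

namespace Groth.Agent.S13405
open scoped TensorProduct

/-- Let R be a complete discrete valuation ring whose residue field is perfect of characteristic p > 0,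
and let G = Spec A be a connected finite flat group scheme over R: A is a commutative Hopf algebra
over R, finite and flat as an R-module, and a local ring. Then for some n there are natural numbers
e_1, ..., e_n and power series f_1, ..., f_n in R[[x_1, ..., x_n]] such that A is isomorphic as an
R-algebra to R[[x_1, ..., x_n]]/(f_1, ..., f_n) and each f_i is x_i ^ (p ^ e_i) plus a polynomial
all of whose coefficients lie in the maximal ideal of R and whose degree in x_i is less than p ^
e_i. -/
theorem result (R : Type u) [CommRing R] [IsDomain R]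
    [IsDiscreteValuationRing R] [IsAdicComplete (IsLocalRing.maximalIdeal R) R]
    (p : ℕ) [Fact p.Prime] [CharP (IsLocalRing.ResidueField R) p] [PerfectField (IsLocalRing.ResidueField R)]
    (A : Type v) [CommRing A] [HopfAlgebra R A] [Module.Finite R A] [Module.Flat R A] [IsLocalRing A] :
    ∃ (n : ℕ) (e : Fin n → ℕ) (g : Fin n → MvPolynomial (Fin n) R),
      (∀ i, (∀ d, (g i).coeff d ∈ IsLocalRing.maximalIdeal R) ∧ (g i).degreeOf i < p ^ e i) ∧
      Nonempty (A ≃ₐ[R] (MvPowerSeries (Fin n) R ⧸
        Ideal.span (Set.range fun i => (MvPowerSeries.X i : MvPowerSeries (Fin n) R) ^ p ^ e i + ↑(g i)))) := by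
  let k := IsLocalRing.ResidueField R
  have hsurj : Function.Surjective (Algebra.TensorProduct.includeRight : A →ₐ[R] k ⊗[R] A) :=
    TensorProduct.mk_surjective R A k Ideal.Quotient.mk_surjective
  haveI : Nontrivial (k ⊗[R] A) := RingHom.domain_nontrivial (Bialgebra.counitAlgHom k (k ⊗[R] A)).toRingHom
  haveI : IsLocalRing (k ⊗[R] A) :=
    IsLocalRing.of_surjective' (Algebra.TensorProduct.includeRight : A →ₐ[R] k ⊗[R] A).toRingHom hsurj
  obtain ⟨A', _, _, _, ⟨e⟩⟩ := Groth.L01.HopfShrink.exists_small k (k ⊗[R] A)
  let eA : A' ≃ₐ[k] k ⊗[R] A := e.toAlgEquiv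
  haveI : Module.Finite k A' := Module.Finite.equiv eA.toLinearEquiv.symm
  haveI : Nontrivial A' := eA.toRingEquiv.symm.injective.nontrivial
  haveI : IsLocalRing A' := IsLocalRing.of_surjective' eA.symm.toAlgHom.toRingHom eA.symm.surjective
  haveI : IsArtinianRing A' := IsArtinianRing.of_finite k A'
  have hnil : IsNilpotent (RingHom.ker (Bialgebra.counitAlgHom k A')) := by
    obtain ⟨N, hN⟩ := IsArtinianRing.isNilpotent_jacobson_bot (R := A')
    have hle : RingHom.ker (Bialgebra.counitAlgHom k A') ≤ (⊥ : Ideal A').jacobson :=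
      (IsLocalRing.le_maximalIdeal (RingHom.ker_ne_top _)).trans (IsLocalRing.maximalIdeal_le_jacobson _)
    exact ⟨N, le_bot_iff.1 ((Ideal.pow_right_mono hle N).trans hN.le)⟩
  haveI : PerfectRing k p := PerfectField.toPerfectRing p
  obtain ⟨r, ex, hex, ⟨φ⟩⟩ := Groth.L08.TruncatedHopf.exists_truncated (k := k) p A' hnil
  haveI : Module.Free R A := Module.free_of_flat_of_isLocalRing
  obtain ⟨g, hg, h⟩ := Groth.L01.TruncPresent.exists_present (fun i => p ^ ex i)
    (fun i => pow_pos (Fact.out : p.Prime).pos _) (φ.symm.trans eA)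
  exact ⟨r, ex, g, hg, h⟩

end Groth.Agent.S13405
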