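import Groth.Statements.S13407
import Mathlib.RingTheory.HopfAlgebra.Quotient
import Mathlib.RingTheory.HopfAlgebra.TensorProduct
import Mathlib.RingTheory.Flat.TorsionFree
import Mathlib.RingTheory.DedekindDomain.Basic
import Mathlib.RingTheory.DedekindDomain.PID
import Mathlib.RingTheory.Flat.EquationalCriterion
import Mathlib.Algebra.Module.Projective
import Mathlib.RingTheory.Localization.FractionRing

set_option autoImplicit false
universe u
open TensorProduct
open Hopf

namespace Groth.Agent.S13407

section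

variable {R K : Type u} [CommRing R] [IsDomain R] [Field K] [Algebra R K] [IsFractionRing R K]
variable {A : Type u} [CommRing A] [Algebra R A]

local notation "ι" => (Algebra.TensorProduct.includeRight : A →ₐ[R] K ⊗[R] A)

theorem exists_smul_eq (y : K ⊗[R] A) : ∃ s : R, s ≠ 0 ∧ ∃ a : A, s • y = ι a := by
  induction y with
  | zero => exact ⟨1, one_ne_zero, 0, by simp⟩
  | tmul k a =>
    obtain ⟨⟨r, s, hs⟩, h⟩ := IsLocalization.surj (nonZeroDivisors R) k
    refine ⟨s, nonZeroDivisors.ne_zero hs, r • a, ?_⟩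
    rw [TensorProduct.smul_tmul', Algebra.smul_def, mul_comm, h, Algebra.algebraMap_eq_smul_one,
      TensorProduct.smul_tmul]
    rfl
  | add x y hx hy =>
    obtain ⟨s, hs, a, ha⟩ := hx
    obtain ⟨t, ht, b, hb⟩ := hy
    refine ⟨s * t, mul_ne_zero hs ht, t • a + s • b, ?_⟩
    rw [smul_add, map_add, map_smul, map_smul, ← ha, ← hb, smul_smul, smul_smul, mul_comm t s]

theorem exists_smul_eq_of_mem {J' : Ideal A} {y : K ⊗[R] A} (hy : y ∈ Ideal.map ι J') :
    ∃ s : R, s ≠ 0 ∧ ∃ b ∈ J', s • y = ι b := by
  rw [Ideal.map] at hy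
  induction hy using Submodule.span_induction with
  | mem x hx => obtain ⟨b, hb, rfl⟩ := hx; exact ⟨1, one_ne_zero, b, hb, one_smul _ _⟩
  | zero => exact ⟨1, one_ne_zero, 0, zero_mem _, by simp⟩
  | add x y _ _ hx hy =>
    obtain ⟨s, hs, a, ha', ha⟩ := hx
    obtain ⟨t, ht, b, hb', hb⟩ := hy
    refine ⟨s * t, mul_ne_zero hs ht, t • a + s • b, add_mem (Submodule.smul_of_tower_mem _ _ ha')
      (Submodule.smul_of_tower_mem _ _ hb'), ?_⟩
    rw [smul_add, map_add, map_smul, map_smul, ← ha, ← hb, smul_smul, smul_smul, mul_comm t s]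
  | smul c x _ hx =>
    obtain ⟨s, hs, a, ha', ha⟩ := hx
    obtain ⟨t, ht, b, hb⟩ := exists_smul_eq c
    refine ⟨t * s, mul_ne_zero ht hs, b * a, J'.mul_mem_left b ha', ?_⟩
    rw [map_mul, ← ha, ← hb, smul_mul_smul_comm, smul_eq_mul]

theorem smul_left_cancel {s : R} (hs : s ≠ 0) {y z : K ⊗[R] A} (h : s • y = s • z) : y = z := by
  have hs' : algebraMap R K s ≠ 0 := (map_ne_zero_iff _ (IsFractionRing.injective R K)).2 hs
  rw [← algebraMap_smul K s y, ← algebraMap_smul K s z] at h
  exact smul_right_injective _ hs' h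

theorem ι_injective [Module.Flat R A] : Function.Injective (ι) := by
  intro a b h
  have h1 := Module.Flat.rTensor_preserves_injective_linearMap (M := A) (Algebra.linearMap R K)
    (IsFractionRing.injective R K)
  have h2 : (LinearMap.rTensor A (Algebra.linearMap R K)) ((1 : R) ⊗ₜ[R] a) =
      (LinearMap.rTensor A (Algebra.linearMap R K)) ((1 : R) ⊗ₜ[R] b) := by
    simpa [Algebra.TensorProduct.includeRight_apply] using h
  simpa using congrArg (TensorProduct.lid R A) (h1 h2)

theorem comap_map_eq [Module.Flat R A] (J' : Ideal A) [Module.Flat R (A ⧸ J')] :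
    (Ideal.map ι J').comap ι = J' := by
  refine le_antisymm (fun a ha => ?_) Ideal.le_comap_map
  obtain ⟨s, hs, b, hb, h⟩ := exists_smul_eq_of_mem ha
  rw [← map_smul] at h
  have hsa : s • a ∈ J' := ι_injective h ▸ hb
  haveI := Module.Flat.isTorsionFree (R := R) (M := A ⧸ J')
  rw [← Ideal.Quotient.eq_zero_iff_mem] at hsa ⊢
  exact (smul_eq_zero.1 ((Submodule.Quotient.mk_smul _ s a).symm.trans hsa)).resolve_left hs

end

section Hopf

variable {R K : Type u} [CommRing R] [IsDedekindDomain R] [Field K] [Algebra R K] [IsFractionRing R K]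
variable {A : Type u} [CommRing A] [HopfAlgebra R A]

local notation "ι" => (Algebra.TensorProduct.includeRight : A →ₐ[R] K ⊗[R] A)

/-- The comparison of tensor squares. -/
noncomputable def Φ : A ⊗[R] A →ₗ[R] (K ⊗[R] A) ⊗[K] (K ⊗[R] A) :=
  TensorProduct.lift (((TensorProduct.mk K (K ⊗[R] A) (K ⊗[R] A)).restrictScalars₁₂ R R).compl₁₂
    (ι).toLinearMap (ι).toLinearMap)

theorem Φ_tmul (x y : A) : Φ (K := K) (x ⊗ₜ[R] y) = (1 ⊗ₜ x) ⊗ₜ[K] (1 ⊗ₜ y) := rfl

theorem comul_ι (a : A) : Coalgebra.comul (R := K) (ι a) = Φ (Coalgebra.comul a) := by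
  rw [Algebra.TensorProduct.includeRight_apply, TensorProduct.comul_tmul, CommSemiring.comul_apply]
  generalize Coalgebra.comul (R := R) a = t
  induction t with
  | zero => simp
  | tmul x y => rfl
  | add x y hx hy => rw [TensorProduct.tmul_add, map_add, hx, hy, map_add]

theorem counit_ι (a : A) : Coalgebra.counit (R := K) (ι a) = algebraMap R K (Coalgebra.counit a) := by
  rw [Algebra.TensorProduct.includeRight_apply, TensorProduct.counit_tmul, Algebra.algebraMap_eq_smul_one]
  rfl

theorem antipode_ι (a : A) : HopfAlgebra.antipode K (ι a) = ι (HopfAlgebra.antipode R a) := by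
  rw [Algebra.TensorProduct.includeRight_apply, TensorProduct.antipode_def]
  simp

theorem isHopfIdeal_map [Module.Flat R A] {J' : Ideal A} (h : J'.IsHopfIdeal R) :
    (Ideal.map ι J').IsHopfIdeal K := by
  let J := Ideal.map ι J'
  have key : ∀ y ∈ J, ∃ (k : K) (b : A), b ∈ J' ∧ y = k • ι b := fun y hy => by
    obtain ⟨s, hs, b, hb, h⟩ := exists_smul_eq_of_mem hy
    refine ⟨(algebraMap R K s)⁻¹, b, hb, ?_⟩
    rw [← h, ← algebraMap_smul K s y, inv_smul_smul₀ ((map_ne_zero_iff _ (IsFractionRing.injective R K)).2 hs)]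
  refine { counit_eq_zero := ?_, map_mkQ_comul_eq_zero := ?_, antipode_mem := ?_ }
  · intro y hy
    obtain ⟨k, b, hb, rfl⟩ := key y hy
    rw [map_smul, counit_ι, h.counit_eq_zero hb, map_zero, smul_zero]
  · intro y hy
    obtain ⟨k, b, hb, rfl⟩ := key y hy
    rw [map_smul, map_smul, comul_ι]
    let qK := ((Ideal.map ι J').restrictScalars K).mkQ
    let j : (A ⧸ J'.restrictScalars R) →ₗ[R] ((K ⊗[R] A) ⧸ (Ideal.map ι J').restrictScalars K) :=
      (J'.restrictScalars R).liftQ ((qK.restrictScalars R) ∘ₗ (ι).toLinearMap) fun x hx => by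
        simp only [LinearMap.mem_ker, LinearMap.comp_apply, LinearMap.coe_restrictScalars, qK]
        exact (Submodule.Quotient.mk_eq_zero _).2 (Ideal.mem_map_of_mem _ hx)
    let Ψ : (A ⧸ J'.restrictScalars R) ⊗[R] (A ⧸ J'.restrictScalars R) →ₗ[R]
        ((K ⊗[R] A) ⧸ (Ideal.map ι J').restrictScalars K) ⊗[K] ((K ⊗[R] A) ⧸ (Ideal.map ι J').restrictScalars K) :=
      TensorProduct.lift (((TensorProduct.mk K _ _).restrictScalars₁₂ R R).compl₁₂ j j)
    have hnat : ∀ t, TensorProduct.map qK qK (Φ t) =
        Ψ (TensorProduct.map (J'.restrictScalars R).mkQ (J'.restrictScalars R).mkQ t) := by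
      intro t
      induction t with
      | zero => simp
      | tmul x y => rfl
      | add x y hx hy => simp only [map_add, hx, hy]
    rw [hnat, h.map_mkQ_comul_eq_zero hb, map_zero, smul_zero]
  · intro y hy
    obtain ⟨k, b, hb, rfl⟩ := key y hy
    rw [map_smul, antipode_ι]
    exact Submodule.smul_of_tower_mem _ k (Ideal.mem_map_of_mem _ (h.antipode_mem hb))

theorem comap_spec [Module.Finite R A] [Module.Flat R A] {J : Ideal (K ⊗[R] A)} (hJ : J.IsHopfIdeal K) :
    (J.comap ι).IsHopfIdeal R ∧ Module.Flat R (A ⧸ J.comap ι) ∧ Ideal.map ι (J.comap ι) = J := by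
  set J' := J.comap ι with hJ'
  have hmap : Ideal.map ι J' = J := by
    refine le_antisymm Ideal.map_comap_le fun y hy => ?_
    obtain ⟨s, hs, a, ha⟩ := exists_smul_eq y
    have hmem : a ∈ J' := by
      rw [hJ', Ideal.mem_comap, ← ha]
      exact Submodule.smul_of_tower_mem _ s hy
    have h2 : y = (algebraMap R K s)⁻¹ • ι a := by
      rw [← ha, ← algebraMap_smul K s y, inv_smul_smul₀ ((map_ne_zero_iff _ (IsFractionRing.injective R K)).2 hs)]
    rw [h2]
    exact Submodule.smul_of_tower_mem _ _ (Ideal.mem_map_of_mem _ hmem)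
  haveI htf : Module.IsTorsionFree R (A ⧸ J') := by
    refine Module.IsTorsionFree.of_smul_eq_zero fun s x hx => ?_
    obtain ⟨a, rfl⟩ := Submodule.Quotient.mk_surjective J' x
    refine or_iff_not_imp_left.2 fun hs => ?_
    rw [← Submodule.Quotient.mk_smul, Submodule.Quotient.mk_eq_zero, hJ', Ideal.mem_comap, map_smul,
      ← algebraMap_smul K s] at hx
    rw [Submodule.Quotient.mk_eq_zero, hJ', Ideal.mem_comap]
    have h2 := Submodule.smul_of_tower_mem J (algebraMap R K s)⁻¹ hx
    rwa [inv_smul_smul₀ ((map_ne_zero_iff _ (IsFractionRing.injective R K)).2 hs)] at h2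
  haveI hflat : Module.Flat R (A ⧸ J') := inferInstance
  refine ⟨{ counit_eq_zero := ?_, map_mkQ_comul_eq_zero := ?_, antipode_mem := ?_ }, hflat, hmap⟩
  · intro x hx
    apply IsFractionRing.injective R K
    rw [map_zero, ← counit_ι]
    exact hJ.counit_eq_zero hx
  · intro x hx
    haveI : Module.Finite R (A ⧸ J'.restrictScalars R) := inferInstance
    haveI : Module.Flat R (A ⧸ J'.restrictScalars R) :=
      Module.Flat.of_linearEquiv (Submodule.Quotient.restrictScalarsEquiv R J')
    haveI : Module.FinitePresentation R (A ⧸ J'.restrictScalars R) := Module.finitePresentation_of_finite R _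
    haveI : Module.Projective R (A ⧸ J'.restrictScalars R) := Module.Flat.projective_of_finitePresentation
    obtain ⟨n, g, f, -, -, hgf⟩ := Module.Finite.exists_comp_eq_id_of_projective R (A ⧸ J'.restrictScalars R)
    set t := TensorProduct.map (J'.restrictScalars R).mkQ (J'.restrictScalars R).mkQ (Coalgebra.comul x) with ht
    have h0 : TensorProduct.map f f t = 0 := by
      apply ((Pi.basisFun R (Fin n)).tensorProduct (Pi.basisFun R (Fin n))).repr.injective
      rw [map_zero]
      ext ⟨i, l⟩
      apply IsFractionRing.injective R K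
      rw [Finsupp.zero_apply, map_zero]
      let F : Fin n → (K ⊗[R] A) ⧸ J.restrictScalars K →ₗ[K] K := fun i =>
        (J.restrictScalars K).liftQ
          (LinearMap.liftBaseChange K
            (Algebra.linearMap R K ∘ₗ LinearMap.proj i ∘ₗ f ∘ₗ (J'.restrictScalars R).mkQ)) fun y hy => by
          obtain ⟨s, hs, b, hb, h⟩ := exists_smul_eq_of_mem (hmap.symm ▸ hy : y ∈ Ideal.map ι J')
          rw [LinearMap.mem_ker]
          refine (smul_eq_zero.1 (?_ : algebraMap R K s • _ = (0 : K))).resolve_left
            ((map_ne_zero_iff _ (IsFractionRing.injective R K)).2 hs)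
          rw [← map_smul, algebraMap_smul, h, Algebra.TensorProduct.includeRight_apply,
            LinearMap.liftBaseChange_tmul, one_smul]
          simp [show (Submodule.Quotient.mk b : A ⧸ J'.restrictScalars R) = 0 from (Submodule.Quotient.mk_eq_zero _).2 hb]
      have hnat : ∀ u : A ⊗[R] A, TensorProduct.lid K K (TensorProduct.map (F i) (F l)
          (TensorProduct.map (J.restrictScalars K).mkQ (J.restrictScalars K).mkQ (Φ u))) =
          algebraMap R K (((Pi.basisFun R (Fin n)).tensorProduct (Pi.basisFun R (Fin n))).repr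
            (TensorProduct.map f f (TensorProduct.map (J'.restrictScalars R).mkQ (J'.restrictScalars R).mkQ u))
              (i, l)) := by
        intro u
        induction u with
        | zero => simp
        | tmul x y => simp [F, Φ_tmul, mul_comm]
        | add x y hx hy => simp only [map_add, Finsupp.add_apply, hx, hy]
      rw [ht, ← hnat, ← comul_ι, hJ.map_mkQ_comul_eq_zero hx, map_zero, map_zero]
    have := congrArg (TensorProduct.map g g) h0
    rw [← LinearMap.comp_apply, ← TensorProduct.map_comp, hgf, TensorProduct.map_id, map_zero] at this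
    exact this
  · intro x hx
    rw [hJ', Ideal.mem_comap, ← antipode_ι]
    exact hJ.antipode_mem hx

end Hopf


/-- Let R be a Dedekind domain with fraction field K and let G = Spec A be a finite flat group scheme
over R (A a commutative Hopf algebra over R, finite and flat as an R-module). Closed flat R-subgroup
schemes of G correspond one-to-one to closed K-subgroup schemes of the generic fibre G_K under H ↦
H_K: the map sending a Hopf ideal J' of A with A/J' flat over R to the ideal it generates in K ⊗_R A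
is a bijection onto the set of Hopf ideals of the Hopf algebra K ⊗_R A over K (its inverse takes a
Hopf ideal of K ⊗_R A to its preimage in A). -/
theorem result (R : Type u) [CommRing R] [IsDedekindDomain R]
    (K : Type u) [Field K] [Algebra R K] [IsFractionRing R K]
    (A : Type u) [CommRing A] [HopfAlgebra R A] [Module.Finite R A] [Module.Flat R A] :
    Set.BijOn (fun J' : Ideal A => Ideal.map (Algebra.TensorProduct.includeRight : A →ₐ[R] K ⊗[R] A) J')
      {J' : Ideal A | J'.IsHopfIdeal R ∧ Module.Flat R (A ⧸ J')}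
      {J : Ideal (K ⊗[R] A) | J.IsHopfIdeal K} := by
  refine ⟨fun J' h => isHopfIdeal_map h.1, fun J₁ h₁ J₂ h₂ h => ?_, fun J hJ => ?_⟩
  · haveI := h₁.2
    haveI := h₂.2
    rw [← comap_map_eq (R := R) (K := K) J₁, ← comap_map_eq (R := R) (K := K) J₂]
    exact congrArg _ h
  · obtain ⟨h1, h2, h3⟩ := comap_spec hJ
    exact ⟨_, ⟨h1, h2⟩, h3⟩

end Groth.Agent.S13407
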