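import Groth.Statements.S13409
import Groth.Agent.L14.Graph.Flow

set_option autoImplicit false
universe u v
open CombGraph

namespace Groth.Agent.S13409

/-- Let `A` be an abelian group and `G` a finite connected simple graph on `V` that is bipartite for a
two-colouring `c : V → Bool` (adjacent vertices get different colours). If `a : V → A` has the same
sum over the vertices of each colour, then some labelling `x` of the edges by elements of `A` has,
at every vertex `v`, the sum of `x` over the edges incident to `v` equal to `a v`. (The published
statement concerns finite bipartite graphs in general; this row treats simple graphs.) -/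
theorem result {V : Type u} [Fintype V] [DecidableEq V]
    (G : SimpleGraph V) [DecidableRel G.Adj] (hconn : G.Connected) (c : V → Bool)
    (hbip : ∀ v w : V, G.Adj v w → c v ≠ c w) (A : Type v) [AddCommGroup A] (a : V → A)
    (hsum : ∑ v ∈ Finset.univ.filter (fun v => c v = true), a v =
      ∑ v ∈ Finset.univ.filter (fun v => c v = false), a v) :
    ∃ x : Sym2 V → A, ∀ v : V, ∑ e ∈ G.incidenceFinset v, x e = a v := by
  classical
  obtain ⟨r⟩ := hconn.nonempty
  choose φ hφ hbd using fun v => Groth.L14.Graph.exists_transport (A := A) G c G le_rfl hbip (hconn v r)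
  refine ⟨∑ v, φ v (Groth.L14.Graph.eps c v • a v), fun w => ?_⟩
  rw [← Groth.L14.Graph.bd_apply, map_sum]
  simp only [hbd, smul_smul, Groth.L14.Graph.eps_mul_self, one_smul]
  rw [Finset.sum_apply]
  simp only [Pi.sub_apply, Finset.sum_sub_distrib]
  rw [Finset.sum_pi_single, if_pos (Finset.mem_univ w)]
  have hz : ∑ v, Groth.L14.Graph.eps c v • a v = 0 := by
    rw [← Finset.sum_filter_add_sum_filter_not Finset.univ (fun v => c v = true)]
    have h1 : ∑ v ∈ Finset.univ.filter (fun v => c v = true), Groth.L14.Graph.eps c v • a v =
        ∑ v ∈ Finset.univ.filter (fun v => c v = true), a v :=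
      Finset.sum_congr rfl fun v hv => by simp [Groth.L14.Graph.eps, (Finset.mem_filter.mp hv).2]
    have h2 : ∑ v ∈ Finset.univ.filter (fun v => ¬ c v = true), Groth.L14.Graph.eps c v • a v =
        -∑ v ∈ Finset.univ.filter (fun v => c v = false), a v := by
      rw [← Finset.sum_neg_distrib]
      refine Finset.sum_congr (by ext v; simp) fun v hv => by simp [Groth.L14.Graph.eps, (Finset.mem_filter.mp hv).2]
    rw [h1, h2, hsum, add_neg_cancel]
  have : ∀ v, (Pi.single r (Groth.L14.Graph.eps c r • Groth.L14.Graph.eps c v • a v) : V → A) w =
      Groth.L14.Graph.eps c r • (Pi.single r (Groth.L14.Graph.eps c v • a v) : V → A) w := fun v => by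
    by_cases h : w = r <;> simp [Pi.single_apply, h]
  simp only [mul_smul, this]
  rw [← Finset.smul_sum]
  by_cases h : w = r
  · subst h; simp [hz]
  · simp [Pi.single_apply, h]

end Groth.Agent.S13409
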