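import Groth.Statements.S13410
import Groth.Agent.L14.Graph.Flow

set_option autoImplicit false
universe u v
open CombGraph

namespace Groth.Agent.S13410

/-- Let `A` be an abelian group and `G` a finite connected simple graph on `V`, bipartite for a
two-colouring `c`. Consider the additive group of labellings `x : Sym2 V → A` vanishing off the edge
set and with `∑_{e ∋ v} x e = 0` at every vertex `v`. If `e₀` is an edge whose deletion leaves `G`
connected, then evaluation at `e₀` restricted to this group is surjective and split: there is an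
additive map `φ : A → (Sym2 V → A)` with values in this group and with `φ a e₀ = a` for all `a`.
(The published statement concerns finite bipartite graphs in general; this row treats simple
graphs.) -/
theorem result {V : Type u} [Fintype V]
    [DecidableEq V] (G : SimpleGraph V) [DecidableRel G.Adj] (hconn : G.Connected) (c : V → Bool)
    (hbip : ∀ v w : V, G.Adj v w → c v ≠ c w) (A : Type v) [AddCommGroup A] (e₀ : Sym2 V)
    (he₀ : e₀ ∈ G.edgeSet) (hdel : (G.deleteEdges {e₀}).Connected) :
    ∃ φ : A →+ (Sym2 V → A),
      (∀ a : A, (∀ e : Sym2 V, e ∉ G.edgeSet → φ a e = 0) ∧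
        ∀ v : V, ∑ e ∈ G.incidenceFinset v, φ a e = 0) ∧
      ∀ a : A, φ a e₀ = a := by
  classical
  induction e₀ using Sym2.ind with
  | _ u w =>
    obtain ⟨φ, hφ, hbd⟩ := Groth.L14.Graph.exists_transport (A := A) G c (G.deleteEdges {s(u, w)})
      (SimpleGraph.deleteEdges_le _) hbip (hdel u w)
    refine ⟨AddMonoidHom.mk' (fun t => Pi.single s(u, w) t - φ (Groth.L14.Graph.eps c u • t))
      (fun x y => by simp only [smul_add, map_add, Pi.single_add]; abel), fun a => ⟨fun e he => ?_, fun v => ?_⟩, fun a => ?_⟩
    · show (Pi.single s(u, w) a : Sym2 V → A) e - φ _ e = 0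
      rw [hφ _ e (fun h => he (SimpleGraph.edgeSet_mono (SimpleGraph.deleteEdges_le _) h)), sub_zero,
        Pi.single_eq_of_ne]
      rintro rfl
      exact he he₀
    · show ∑ e ∈ G.incidenceFinset v, ((Pi.single s(u, w) a : Sym2 V → A) - φ (Groth.L14.Graph.eps c u • a)) e = 0
      rw [← Groth.L14.Graph.bd_apply, map_sub, Groth.L14.Graph.bd_single G he₀, hbd,
        Groth.L14.Graph.eps_of_ne c (hbip u w he₀), smul_smul, smul_smul, neg_mul, Groth.L14.Graph.eps_mul_self,
        one_smul, neg_smul, one_smul, Pi.single_neg]
      simp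
    · show (Pi.single s(u, w) a : Sym2 V → A) s(u, w) - φ _ s(u, w) = a
      rw [hφ _ _ (by simp [SimpleGraph.edgeSet_deleteEdges]), sub_zero, Pi.single_eq_same]

end Groth.Agent.S13410
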