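import Groth.Statements.S13411
import Groth.Agent.L14.Graph.Flow

set_option autoImplicit false
universe u v
open CombGraph

namespace Groth.Agent.S13411

/-- Let `A` be an abelian group and `G` a finite connected simple graph on `V`, bipartite for a
two-colouring `c`, with cyclomatic number `n` (number of edges minus number of vertices plus one).
Then the additive group of labellings `x : Sym2 V → A` vanishing off the edge set and with `∑_{e ∋
v} x e = 0` at every vertex `v` is isomorphic to `A^n`: it is the range of an injective additive map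
`(Fin n → A) → (Sym2 V → A)`. (The published statement concerns finite bipartite graphs in general;
this row treats simple graphs.) -/
theorem result {V : Type u} [Fintype V]
    [DecidableEq V] (G : SimpleGraph V) [DecidableRel G.Adj] (hconn : G.Connected) (c : V → Bool)
    (hbip : ∀ v w : V, G.Adj v w → c v ≠ c w) (A : Type v) [AddCommGroup A] (n : ℕ)
    (hn : G.edgeFinset.card + 1 = Fintype.card V + n) :
    ∃ f : (Fin n → A) →+ (Sym2 V → A), Function.Injective f ∧
      Set.range f = {x : Sym2 V → A | (∀ e : Sym2 V, e ∉ G.edgeSet → x e = 0) ∧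
        ∀ v : V, ∑ e ∈ G.incidenceFinset v, x e = 0} := by
  classical
  obtain ⟨T, hTG, hT⟩ := hconn.exists_isTree_le
  let K : Finset (Sym2 V) := G.edgeFinset \ T.edgeFinset
  have hsub : T.edgeFinset ⊆ G.edgeFinset := SimpleGraph.edgeFinset_mono hTG
  have hK : K.card = n := by
    have h1 := hT.card_edgeFinset
    rw [Finset.card_sdiff_of_subset hsub]
    have h2 := Finset.card_le_card hsub
    omega
  have hφ : ∀ e : {e // e ∈ K}, ∃ φ : A →+ (Sym2 V → A),
      (∀ t, Groth.L14.Graph.bd G (φ t) = 0) ∧ (∀ t, φ t e.1 = t) ∧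
      (∀ t e', e' ∉ G.edgeSet → φ t e' = 0) ∧ ∀ t, ∀ e' ∈ K, e' ≠ e.1 → φ t e' = 0 := by
    rintro ⟨e, he⟩
    induction e using Sym2.ind with
    | _ u w =>
      obtain ⟨heG, heT⟩ := Finset.mem_sdiff.mp he
      rw [SimpleGraph.mem_edgeFinset] at heG heT
      obtain ⟨φ, hφ, hbd⟩ := Groth.L14.Graph.exists_transport (A := A) G c T hTG hbip (hT.connected u w)
      refine ⟨AddMonoidHom.mk' (fun t => Pi.single s(u, w) t - φ (Groth.L14.Graph.eps c u • t))
        (fun x y => by simp only [smul_add, map_add, Pi.single_add]; abel), fun t => ?_, fun t => ?_, fun t e' he' => ?_,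
        fun t e' he' hne => ?_⟩
      · show Groth.L14.Graph.bd G ((Pi.single s(u, w) t : Sym2 V → A) - φ (Groth.L14.Graph.eps c u • t)) = 0
        rw [map_sub, Groth.L14.Graph.bd_single G heG, hbd,
          Groth.L14.Graph.eps_of_ne c (hbip u w heG), smul_smul, smul_smul, neg_mul, Groth.L14.Graph.eps_mul_self,
          one_smul, neg_smul, one_smul, Pi.single_neg]
        abel
      · show (Pi.single s(u, w) t : Sym2 V → A) s(u, w) - φ _ s(u, w) = t
        rw [hφ _ _ heT, sub_zero, Pi.single_eq_same]
      · show (Pi.single s(u, w) t : Sym2 V → A) e' - φ _ e' = 0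
        rw [hφ _ _ (fun h => he' (SimpleGraph.edgeSet_mono hTG h)), sub_zero, Pi.single_eq_of_ne]
        rintro rfl
        exact he' heG
      · show (Pi.single s(u, w) t : Sym2 V → A) e' - φ _ e' = 0
        rw [hφ _ _ (fun h => (Finset.mem_sdiff.mp he').2 (SimpleGraph.mem_edgeFinset.mpr h)), sub_zero,
          Pi.single_eq_of_ne hne]
  choose φ hbd hself hout hoth using hφ
  let ι : Fin n ≃ {e // e ∈ K} := (Fintype.equivFinOfCardEq (by rw [Fintype.card_coe, hK])).symm
  let f : (Fin n → A) →+ (Sym2 V → A) :=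
    ∑ i, (φ (ι i)).comp (Pi.evalAddMonoidHom (fun _ : Fin n => A) i)
  have hf : ∀ y, f y = ∑ i, φ (ι i) (y i) := fun y => by simp [f]
  have hval : ∀ y i, f y (ι i).1 = y i := by
    intro y i
    rw [hf, Finset.sum_apply, Finset.sum_eq_single i, hself]
    · exact fun j _ hj => hoth _ _ _ (ι i).2 (fun h => hj (ι.injective (Subtype.ext h.symm)))
    · simp
  refine ⟨f, fun y y' h => funext fun i => by rw [← hval y i, ← hval y' i, h], Set.ext fun x => ⟨?_, ?_⟩⟩
  · rintro ⟨y, rfl⟩
    refine ⟨fun e he => ?_, fun v => ?_⟩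
    · rw [hf, Finset.sum_apply]
      exact Finset.sum_eq_zero fun i _ => hout _ _ _ he
    · rw [← Groth.L14.Graph.bd_apply, hf, map_sum]
      simp [hbd]
  · rintro ⟨hx, hx0⟩
    refine ⟨fun i => x (ι i).1, ?_⟩
    rw [← sub_eq_zero]
    refine Groth.L14.Graph.eq_zero_of_tree G c T hT.IsAcyclic hTG hbip _ (fun e he => ?_) ?_
    · by_cases heG : e ∈ G.edgeSet
      · have heK : e ∈ K := Finset.mem_sdiff.mpr ⟨SimpleGraph.mem_edgeFinset.mpr heG, fun h => he (SimpleGraph.mem_edgeFinset.mp h)⟩
        obtain ⟨i, hi⟩ := ι.surjective ⟨e, heK⟩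
        have := hval (fun i => x (ι i).1) i
        rw [hi] at this
        rw [Pi.sub_apply, this, sub_self]
      · rw [Pi.sub_apply, hx e heG, hf, Finset.sum_apply, Finset.sum_eq_zero (fun i _ => hout _ _ _ heG), sub_zero]
    · funext v
      rw [map_sub, hf, map_sum]
      simp only [hbd, Finset.sum_const_zero, zero_sub, Pi.neg_apply, Pi.zero_apply, neg_eq_zero]
      exact hx0 v

end Groth.Agent.S13411
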