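import Groth.Statements.S13412
import Groth.Agent.L28.RegCurve.HLoc
-- import your own Groth.Agent.* helpers here

set_option autoImplicit false
universe u
open CategoryTheory CategoryTheory.Limits AlgebraicGeometry
open HLoc2

namespace Groth.Agent.S13412

/-- Let `k` be an algebraically closed field of characteristic zero, `R₀` an excellent normal henselian
local `k`-domain of Krull dimension two with residue field `k`, `K` a finite extension of its
fraction field, `O_K` the integral closure of `R₀` in `K`, and `X` the open subscheme of `Spec O_K`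
of non-closed points; let `U` be a nonempty open subscheme of `X`. Assume, as holds in this
situation, that `K` has etale cohomological dimension at most 2 and that the residue field of every
closed point of `U` has cohomological dimension at most 1. (The published text asserts both facts
for this situation without proof; this row carries them as hypotheses.) Then for every constructible
abelian etale sheaf `F` on `U` and every `r ≥ 4`, `H^r(U, F) = 0`. -/
theorem result
    (k : Type u) [Field k] [IsAlgClosed k] [CharZero k]
    (R₀ : Type u) [CommRing R₀] [IsDomain R₀] [HenselianLocalRing R₀] [Algebra k R₀]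
    [IsIntegrallyClosed R₀] (hexc : EGA4.IsExcellent R₀) (hdim : ringKrullDim R₀ = 2)
    (hres : Function.Surjective (fun a : k => IsLocalRing.residue R₀ (algebraMap k R₀ a)))
    (K : Type u) [Field K] [Algebra R₀ K] [Algebra (FractionRing R₀) K]
    [IsScalarTower R₀ (FractionRing R₀) K] [FiniteDimensional (FractionRing R₀) K]
    (U : (Spec (CommRingCat.of ↥(integralClosure R₀ K))).Opens)
    (hU : ∀ x : ↥(Spec (CommRingCat.of ↥(integralClosure R₀ K))), x ∈ U →
      ¬ IsClosed ({x} : Set ↥(Spec (CommRingCat.of ↥(integralClosure R₀ K)))))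
    (hne : Nonempty ↥(↑U : Scheme.{u}))
    (hcdK : EtCoh.CohDimLE (Spec (CommRingCat.of K)) 2)
    (hcdv : ∀ x : ↥(↑U : Scheme.{u}), IsClosed ({x} : Set ↥(↑U : Scheme.{u})) →
      EtCoh.CohDimLE (Spec ((↑U : Scheme.{u}).residueField x)) 1)
    (F : EtCoh.Ab (↑U : Scheme.{u})) (hF : EtPBC.IsConstructible F) (r : ℕ) (hr : 4 ≤ r) :
    Subsingleton (EtCoh.H (↑U : Scheme.{u}) F r) := by
  obtain ⟨hint, hnoe, hreg, hd, hu, hgen⟩ :=
    Groth.L28.RegCurve.setup k R₀ hexc.1 hdim K U hU hne
  haveI := hint
  haveI := hnoe
  obtain ⟨f, hf⟩ := @hgen inferInstance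
  haveI := hf
  have hη : EtCoh.CohDimLE (Spec ((U : Scheme.{u}).residueField (genericPoint ↥(U : Scheme.{u})))) 2 :=
    Groth.L28.AffLef.cohDimLE_of_primes fun ℓ _ => (Groth.L28.AffLef.cdLE_of_cohDimLE hcdK ℓ).of_integral f
  have h3 := Groth.L28.RegCurve.cohDimLE_three hreg hd hu hη hcdv
  exact h3 F (Groth.L28.ExtShriek.isTorsion_of_isConstructible hF) r (by omega)

end Groth.Agent.S13412
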