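import Groth.Statements.S13415
import Groth.Agent.L28.RegCurve.HLoc
import Groth.Agent.L28.RegCurve.ExtGm
-- import your own Groth.Agent.* helpers here

set_option autoImplicit false
universe u
open CategoryTheory CategoryTheory.Limits AlgebraicGeometry
open HLoc2

namespace Groth.Agent.S13415

/-- Let `k` be an algebraically closed field of characteristic zero, `R₀` an excellent normal henselian
local `k`-domain of Krull dimension two with residue field `k`, `K` a finite extension of its
fraction field, `O_K` the integral closure of `R₀` in `K`, and `X` the open subscheme of `Spec O_K`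
of non-closed points; let `U` be a nonempty open subscheme of `X`. Assume, as holds in this
situation, that `K` has etale cohomological dimension at most 2 and that the residue field of every
closed point of `U` has cohomological dimension at most 1. (The published text asserts both facts
for this situation without proof; this row carries them as hypotheses.) Let `F` be a constructible
abelian etale sheaf on `U` whose support lies in a closed subset `Z ≠ U` (so `Z` is a finite set of
closed points). Then `Hom_U(F, G_m) = 0` and, for every `r ≥ 0`, `Ext^{r+1}_U(F, G_m)` is isomorphic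
to `∏_{v ∈ Z} Ext^r_{k(v)}(i_v^* F, ℤ)`, where `i_v : Spec k(v) → U` is the inclusion of the point
`v` and the Ext groups are computed in abelian sheaves on the small etale sites (existence of an
isomorphism of abelian groups only; the published statement does not name it either). -/
theorem result
    (k : Type u) [Field k] [IsAlgClosed k] [CharZero k]
    (R₀ : Type u) [CommRing R₀] [IsDomain R₀] [HenselianLocalRing R₀] [Algebra k R₀]
    [IsIntegrallyClosed R₀] (hexc : EGA4.IsExcellent R₀) (hdim : ringKrullDim R₀ = 2)
    (hres : Function.Surjective (fun a : k => IsLocalRing.residue R₀ (algebraMap k R₀ a)))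
    (K : Type u) [Field K] [Algebra R₀ K] [Algebra (FractionRing R₀) K]
    [IsScalarTower R₀ (FractionRing R₀) K] [FiniteDimensional (FractionRing R₀) K]
    (U : (Spec (CommRingCat.of ↥(integralClosure R₀ K))).Opens)
    (hU : ∀ x : ↥(Spec (CommRingCat.of ↥(integralClosure R₀ K))), x ∈ U →
      ¬ IsClosed ({x} : Set ↥(Spec (CommRingCat.of ↥(integralClosure R₀ K)))))
    (hne : Nonempty ↥(↑U : Scheme.{u}))
    (hcdK : EtCoh.CohDimLE (Spec (CommRingCat.of K)) 2)
    (hcdv : ∀ x : ↥(↑U : Scheme.{u}), IsClosed ({x} : Set ↥(↑U : Scheme.{u})) →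
      EtCoh.CohDimLE (Spec ((↑U : Scheme.{u}).residueField x)) 1)
    (F : EtCoh.Ab (↑U : Scheme.{u})) (hF : EtPBC.IsConstructible F) (Z : Set ↥(↑U : Scheme.{u}))
    (hZ : IsClosed Z) (hZU : Z ≠ Set.univ) (hsupp : EtPBC.supp F ⊆ Z) :
    Subsingleton (Abelian.Ext.{u + 1} F (EtCoh.Gm (↑U : Scheme.{u})) 0) ∧
      ∀ r : ℕ, Nonempty (Abelian.Ext.{u + 1} F (EtCoh.Gm (↑U : Scheme.{u})) (r + 1) ≃+
        (∀ v : ↥Z, Abelian.Ext.{u + 1}
          ((EtCoh.pull ((↑U : Scheme.{u}).fromSpecResidueField (v : ↥(↑U : Scheme.{u})))).obj F)
          (EtCoh.const (Spec ((↑U : Scheme.{u}).residueField (v : ↥(↑U : Scheme.{u})))) ℤ) r)) := by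
  obtain ⟨hint, hnoe, hreg, hd, hu, -⟩ :=
    Groth.L28.RegCurve.setup k R₀ hexc.1 hdim K U hU hne
  haveI := hint
  haveI := hnoe
  exact Groth.L28.RegCurve.ext_Gm_of_supp hreg hd hu F Z hZ hZU hsupp

end Groth.Agent.S13415
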