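import Groth.Statements.S13416
import Groth.Agent.L28.RegCurve.HLoc
import Groth.Agent.L28.RegCurve.Embed
-- import your own Groth.Agent.* helpers here

set_option autoImplicit false
universe u
open CategoryTheory CategoryTheory.Limits AlgebraicGeometry
open HLoc2

namespace Groth.Agent.S13416

/-- Let `k` be an algebraically closed field of characteristic zero, `R₀` an excellent normal henselian
local `k`-domain of Krull dimension two with residue field `k`, `K` a finite extension of its
fraction field, `O_K` the integral closure of `R₀` in `K`, and `X` the open subscheme of `Spec O_K`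
of non-closed points; let `U` be a nonempty open subscheme of `X`. Assume, as holds in this
situation, that `K` has etale cohomological dimension at most 2 and that the residue field of every
closed point of `U` has cohomological dimension at most 1. (The published text asserts both facts
for this situation without proof; this row carries them as hypotheses.) Let `F` be a constructible
abelian etale sheaf on `U` with `mF = 0` for some `m ≥ 1`, `V` a nonempty open of `U`, and `π : U_n
→ U` a finite surjective morphism from an integral scheme with integrally closed local rings (for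
instance the normalisation of `U` in a finite extension of `K`, which is the morphism the published
statement uses) that is etale over `V` and such that the pullback of `F` to `π⁻¹(V)` is a constant
sheaf with finite value group. Then there exist a finite abelian group `M` with `mM = 0`, a
constructible abelian etale sheaf `F_f` on `U` with finite support, and a monomorphism `F →
π_*(M_{U_n}) ⊕ F_f` of abelian etale sheaves on `U`. -/
theorem result
    (k : Type u) [Field k] [IsAlgClosed k] [CharZero k]
    (R₀ : Type u) [CommRing R₀] [IsDomain R₀] [HenselianLocalRing R₀] [Algebra k R₀]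
    [IsIntegrallyClosed R₀] (hexc : EGA4.IsExcellent R₀) (hdim : ringKrullDim R₀ = 2)
    (hres : Function.Surjective (fun a : k => IsLocalRing.residue R₀ (algebraMap k R₀ a)))
    (K : Type u) [Field K] [Algebra R₀ K] [Algebra (FractionRing R₀) K]
    [IsScalarTower R₀ (FractionRing R₀) K] [FiniteDimensional (FractionRing R₀) K]
    (U : (Spec (CommRingCat.of ↥(integralClosure R₀ K))).Opens)
    (hU : ∀ x : ↥(Spec (CommRingCat.of ↥(integralClosure R₀ K))), x ∈ U →
      ¬ IsClosed ({x} : Set ↥(Spec (CommRingCat.of ↥(integralClosure R₀ K)))))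
    (hne : Nonempty ↥(↑U : Scheme.{u}))
    (hcdK : EtCoh.CohDimLE (Spec (CommRingCat.of K)) 2)
    (hcdv : ∀ x : ↥(↑U : Scheme.{u}), IsClosed ({x} : Set ↥(↑U : Scheme.{u})) →
      EtCoh.CohDimLE (Spec ((↑U : Scheme.{u}).residueField x)) 1)
    (F : EtCoh.Ab (↑U : Scheme.{u})) (hF : EtPBC.IsConstructible F) (m : ℕ) (hm : 1 ≤ m)
    (hmF : EtCoh.KilledBy m F) (V : (↑U : Scheme.{u}).Opens) (hV : Nonempty ↥(↑V : Scheme.{u}))
    (Un : Scheme.{u}) [IsIntegral Un] (hnorm : ∀ y : ↥Un, IsIntegrallyClosed ↑(Un.presheaf.stalk y))
    (π : Un ⟶ (↑U : Scheme.{u})) [IsFinite π] [Surjective π] [Etale (π ∣_ V)] (M₀ : Type) [AddCommGroup M₀] [Finite M₀]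
    (hconst : Nonempty ((EtCoh.pull (π ⁻¹ᵁ V).ι).obj ((EtCoh.pull π).obj F) ≅
      EtCoh.const (↑(π ⁻¹ᵁ V) : Scheme.{u}) M₀)) :
    ∃ (M : Type) (_ : AddCommGroup M) (_ : Finite M), (∀ x : M, m • x = 0) ∧
      ∃ (Ff : EtCoh.Ab (↑U : Scheme.{u})), EtPBC.IsConstructible Ff ∧ (EtPBC.supp Ff).Finite ∧
        ∃ ι : F ⟶ (EtCoh.push π).obj (EtCoh.const Un M) ⊞ Ff, Mono ι := by
  obtain ⟨hint, hnoe, -, hd, -, -⟩ :=
    Groth.L28.RegCurve.setup k R₀ hexc.1 hdim K U hU hne
  haveI := hint
  haveI := hnoe
  exact Groth.L28.RegCurve.exists_mono_into_push hd F hF m hmF V hV Un hnorm π M₀ hconst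

end Groth.Agent.S13416
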