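import Groth.Statements.S13418
import Groth.Agent.L26.Neron.Formal

set_option autoImplicit false
universe u
open CategoryTheory AlgebraicGeometry
open NeronHD

namespace Groth.Agent.S13418

/-- Let S be a locally Noetherian scheme over a field of characteristic 0 and S₀ ⊆ S a
scheme-theoretically dense open. If N and M are smooth S-schemes having the Néron mapping property
for S₀ ⊆ S (for every smooth S-scheme Z, restriction to S₀ is a bijection from S-morphisms Z → N
onto S₀-morphisms Z|S₀ → N|S₀), then the fibre product N ×_S M has the Néron mapping property for S₀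
⊆ S (its smoothness over S being automatic). (This row is the case of schemes, with smooth test
schemes, of a statement about algebraic spaces.) -/
theorem result {k : Type u} [Field k] [CharZero k] {S : Scheme.{u}} (σ : S ⟶ Spec (CommRingCat.of k)) [IsLocallyNoetherian S] (S₀ : S.Opens) (hS₀ : CInt.IsSchematicallyDense S₀)
    (N M : Over S) [Smooth N.hom] [Smooth M.hom]
    (hN : ∀ Z : Over S, Smooth Z.hom → Function.Bijective (fun g : Z ⟶ N => (Over.pullback S₀.ι).map g))
    (hM : ∀ Z : Over S, Smooth Z.hom → Function.Bijective (fun g : Z ⟶ M => (Over.pullback S₀.ι).map g)) :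
    ∀ Z : Over S, Smooth Z.hom → Function.Bijective (fun g : Z ⟶ Over.mk (Limits.pullback.fst N.hom M.hom ≫ N.hom) => (Over.pullback S₀.ι).map g) := by
  exact Groth.Agent.NeronL.MP.prod hN hM

end Groth.Agent.S13418
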