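import Groth.Statements.S13419
import Groth.Agent.L26.Neron.Formal

set_option autoImplicit false
universe u
open CategoryTheory AlgebraicGeometry
open NeronHD

namespace Groth.Agent.S13419

/-- Let S be a locally Noetherian scheme over a field of characteristic 0, S₀ ⊆ S₁ ⊆ S opens with S₀
scheme-theoretically dense in S, and N a smooth S-scheme. If N has the Néron mapping property for S₁
⊆ S and the restriction N|S₁ has the Néron mapping property for S₀ ⊆ S₁ (in both cases: restriction
of morphisms from smooth schemes over the base is bijective), then N has the Néron mapping property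
for S₀ ⊆ S. (Case of schemes, with smooth test schemes, of a statement about algebraic spaces.) -/
theorem result {k : Type u} [Field k] [CharZero k] {S : Scheme.{u}} (σ : S ⟶ Spec (CommRingCat.of k)) [IsLocallyNoetherian S] (S₀ S₁ : S.Opens) (h01 : S₀ ≤ S₁) (hS₀ : CInt.IsSchematicallyDense S₀)
    (N : Over S) [Smooth N.hom]
    (hN1 : ∀ Z : Over S, Smooth Z.hom → Function.Bijective (fun g : Z ⟶ N => (Over.pullback S₁.ι).map g))
    (hN10 : ∀ Z : Over (S₁ : Scheme.{u}), Smooth Z.hom → Function.Bijective (fun g : Z ⟶ (Over.pullback S₁.ι).obj N => (Over.pullback (S₁.ι ⁻¹ᵁ S₀).ι).map g)) :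
    ∀ Z : Over S, Smooth Z.hom → Function.Bijective (fun g : Z ⟶ N => (Over.pullback S₀.ι).map g) := by
  intro Z hZ
  exact (Groth.Agent.NeronL.bijective_opens_iff S₀ S₁ h01 Z
    (hN10 _ (inferInstanceAs (Smooth (Limits.pullback.snd Z.hom S₁.ι))))).2 (hN1 Z hZ)

end Groth.Agent.S13419
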