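import Groth.Statements.S13421
import Groth.Agent.L26.Neron.Formal

set_option autoImplicit false
universe u
open CategoryTheory AlgebraicGeometry
open NeronHD

namespace Groth.Agent.S13421

/-- Let T be a locally Noetherian scheme over a field of characteristic 0 and T₀ ⊆ T a
scheme-theoretically dense open. Let f : S → T be étale and such that S, viewed as a T-scheme, has
the Néron mapping property for T₀ ⊆ T, and let g : N → S be smooth and such that N, viewed as an
S-scheme, has the Néron mapping property for f⁻¹(T₀) ⊆ S (restriction of morphisms from smooth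
schemes over the base is bijective). Then N → T, the composite g ≫ f, has the Néron mapping property
for T₀ ⊆ T. (Case of schemes, with smooth test schemes, of a statement about algebraic spaces.) -/
theorem result {k : Type u} [Field k] [CharZero k] {T : Scheme.{u}} (τ : T ⟶ Spec (CommRingCat.of k)) [IsLocallyNoetherian T] (T₀ : T.Opens) (hT₀ : CInt.IsSchematicallyDense T₀)
    {S N : Scheme.{u}} (f : S ⟶ T) [Etale f] (g : N ⟶ S) [Smooth g]
    (hS : ∀ Z : Over T, Smooth Z.hom → Function.Bijective (fun g : Z ⟶ Over.mk f => (Over.pullback T₀.ι).map g))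
    (hN : ∀ Z : Over S, Smooth Z.hom → Function.Bijective (fun g : Z ⟶ Over.mk g => (Over.pullback (f ⁻¹ᵁ T₀).ι).map g)) :
    ∀ Z : Over T, Smooth Z.hom → Function.Bijective (fun g : Z ⟶ Over.mk (g ≫ f) => (Over.pullback T₀.ι).map g) := by
  exact Groth.Agent.NeronL.MP.comp g (isPullback_morphismRestrict f T₀) hS hN

end Groth.Agent.S13421
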