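import Groth.Statements.S13422
import Groth.Agent.L05.QuasiSec.Scheme
-- import your own Groth.Agent.* helpers here

set_option autoImplicit false
universe u
open CategoryTheory AlgebraicGeometry
open NeronHD

namespace Groth.Agent.S13422

/-- Let S be a locally Noetherian scheme over a field of characteristic 0, S₀ ⊆ S a scheme-theoretically
dense open, and N a smooth S-scheme with the weak Néron mapping property for S₀ ⊆ S: for every étale
S-scheme U, restriction to S₀ is a bijection from S-morphisms U → N onto S₀-morphisms U|S₀ → N|S₀.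
Then N has the uniqueness half of the Néron mapping property: for every smooth S-scheme Z,
restriction of S-morphisms Z → N to S₀ is injective. (Case of schemes of a statement about algebraic
spaces.) -/
theorem result {k : Type u} [Field k] [CharZero k] {S : Scheme.{u}} (σ : S ⟶ Spec (CommRingCat.of k)) [IsLocallyNoetherian S] (S₀ : S.Opens) (hS₀ : CInt.IsSchematicallyDense S₀)
    (N : Over S) [Smooth N.hom]
    (hN : ∀ U : Over S, Etale U.hom → Function.Bijective (fun g : U ⟶ N => (Over.pullback S₀.ι).map g))
    (Z : Over S) [Smooth Z.hom] :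
    Function.Injective (fun g : Z ⟶ N => (Over.pullback S₀.ι).map g) := by
  have hunit : ∀ (U : S.Opens) (n : ℕ), n ≠ 0 → IsUnit (n : Γ(S, U)) := by
    intro U n hn
    have h : IsUnit (n : k) := isUnit_iff_ne_zero.2 (Nat.cast_ne_zero.2 hn)
    have h2 := h.map ((σ.appLE ⊤ U le_top).hom.comp (Scheme.ΓSpecIso (CommRingCat.of k)).inv.hom)
    rwa [map_natCast] at h2
  intro g h hgh
  have e0 := (Groth.Agent.NeronL.map_eq_iff S₀.ι g h).1 hgh
  apply Over.OverMorphism.ext
  refine Groth.L05.QuasiSec.eq_of_etale_eq Z.hom hunit S₀ hS₀ N.hom g.left h.left (Over.w g) (Over.w h) ?_ ?_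
  · have sq := isPullback_morphismRestrict Z.hom S₀
    rw [← sq.flip.isoPullback_hom_fst, Category.assoc, Category.assoc, e0]
  · intro S' u w hu hw
    have hmap := (hN (Over.mk u) hu).1 (a₁ := Over.homMk w hw ≫ g) (a₂ := Over.homMk w hw ≫ h)
      (by simp only [Functor.map_comp]; exact congrArg (_ ≫ ·) hgh)
    exact congrArg CommaMorphism.left hmap

end Groth.Agent.S13422
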