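import Groth.Statements.S13423
import Groth.Agent.L05.UnibranchEtale.Main
-- import your own Groth.Agent.* helpers here

set_option autoImplicit false
universe u
open CategoryTheory AlgebraicGeometry
open NeronHD

namespace Groth.Agent.S13423

/-- Let S be a reduced, locally Noetherian scheme over a field of characteristic 0 whose local rings are
all geometrically unibranch, and let f : X → S be quasi-finite (locally of finite type,
quasi-compact, with finite discrete fibres), separated and dominant, with X connected and nonempty,
such that every fibre X_s over the residue field k(s) is smooth. Then f is étale. (Case of schemes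
of a statement about algebraic spaces.) -/
theorem result {k : Type u} [Field k] [CharZero k] {S : Scheme.{u}} (σ : S ⟶ Spec (CommRingCat.of k)) [IsLocallyNoetherian S] [IsReduced S]
    (hS : ∀ s : S, CAlg2.IsGeomUnibranch (S.presheaf.stalk s))
    {X : Scheme.{u}} (f : X ⟶ S) [LocallyOfFiniteType f] [QuasiCompact f] [LocallyQuasiFinite f] [IsSeparated f] [IsDominant f]
    [ConnectedSpace X]
    (hfib : ∀ s : S, Smooth (Limits.pullback.snd f (S.fromSpecResidueField s))) :
    Etale f := Groth.L05.UnibranchEtale.etale_of_fibres hS f hfib

end Groth.Agent.S13423
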