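import Groth.Statements.S13424
import Groth.Agent.L25.TwConst.Components
import Groth.Agent.L16.Connected.OpenCase
import Groth.Agent.L23.SourceRegular

set_option autoImplicit false
universe u
open CategoryTheory AlgebraicGeometry 
open GrpSch

namespace Groth.Agent.S13424

open CategoryTheory.Limits
set_option linter.style.haveILetI false
set_option backward.isDefEq.respectTransparency false
set_option backward.isDefEq.respectTransparency.types false

/-- Let S be a normal, locally Noetherian scheme over a field of characteristic 0. Let p : G → S and q :
H → S be smooth morphisms with sections e_G and e_H, and f : G → H an étale morphism over S with f ∘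
e_G = e_H (the case in view: an étale homomorphism of smooth group schemes and their unit sections).
Call such a pointed S-scheme aligned when the scheme-theoretic image of its section is étale over S.
If H is aligned then G is aligned. (The published statement has an arbitrary locally Noetherian
base; over the reducible curve xy = 0 the étale group scheme obtained from two copies of the base
glued along the complement of one branch maps to the trivial group by an étale homomorphism and is
not aligned, so the base is taken normal here, where the closure of the section is a union of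
connected components of the preimage of the image of e_H. Schemes only.) -/
theorem result {k : Type u} [Field k] [CharZero k] {S : Scheme.{u}} (σ : S ⟶ Spec (CommRingCat.of k)) [IsLocallyNoetherian S] (hS : Pi1.IsNormalScheme S)
    {G H : Scheme.{u}} (p : G ⟶ S) (q : H ⟶ S) [Smooth p] [Smooth q]
    (eG : S ⟶ G) (eH : S ⟶ H) (heG : eG ≫ p = 𝟙 S) (heH : eH ≫ q = 𝟙 S)
    (f : G ⟶ H) [Etale f] (hf : f ≫ q = p) (hfe : eG ≫ f = eH)
    (hH : Etale (eH.ker.subschemeι ≫ q)) :
    Etale (eG.ker.subschemeι ≫ p) := by
  let iH := eH.ker.subschemeι
  let W := pullback f iH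
  let j : W ⟶ G := pullback.fst f iH
  let π : W ⟶ S := pullback.snd f iH ≫ iH ≫ q
  have hjp : j ≫ p = π := by
    show pullback.fst f iH ≫ p = _
    rw [← hf, pullback.condition_assoc]
  haveI : IsClosedImmersion j := MorphismProperty.pullback_fst f iH inferInstance
  haveI : Etale π :=
    haveI : Etale (pullback.snd f iH) := MorphismProperty.pullback_snd f iH inferInstance
    haveI : Etale (iH ≫ q) := hH
    MorphismProperty.comp_mem _ _ _ inferInstance inferInstance
  let t : S ⟶ W := pullback.lift eG eH.toImage (hfe.trans (eH.toImage_imageι).symm)
  have htj : t ≫ j = eG := pullback.lift_fst _ _ _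
  have htπ : t ≫ π = 𝟙 S := by rw [← hjp, reassoc_of% htj, heG]
  haveI : Etale t :=
    haveI : Etale (t ≫ π) := by rw [htπ]; infer_instance
    Etale.of_comp t π
  haveI : IsLocallyNoetherian W := LocallyOfFiniteType.isLocallyNoetherian π
  haveI : IsReduced S := by
    haveI : ∀ x : S, _root_.IsReduced (S.presheaf.stalk x) := fun x =>
      haveI := (hS x).1
      inferInstance
    exact isReduced_of_isReduced_stalk S
  haveI : IsReduced W := Groth.L23.isReduced_of_smooth π
  have hub : ∀ x : S, CAlg2.IsGeomUnibranch (S.presheaf.stalk x) := fun x =>
    haveI := (hS x).1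
    haveI := (hS x).2
    Groth.L16.Connected.isGeomUnibranch_of_normal
  have hopen : IsOpen (Set.range t) := t.isOpenMap.isOpen_range
  have hcl : IsOpen (closure (Set.range t)) := by
    refine isOpen_iff_mem_nhds.2 fun x hx => ?_
    have ho := Groth.L25.TwConst.isOpen_irreducibleComponent_of_unique
      (Groth.L25.TwConst.unique_irreducibleComponent hub π) x
    obtain ⟨z, hzI, hzT⟩ := mem_closure_iff.1 hx _ ho mem_irreducibleComponent
    refine Filter.mem_of_superset (ho.mem_nhds mem_irreducibleComponent) ?_
    exact (subset_closure_inter_of_isPreirreducible_of_isOpen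
      isIrreducible_irreducibleComponent.2 hopen ⟨z, hzI, hzT⟩).trans
        (closure_mono Set.inter_subset_right)
  let C : W.Opens := ⟨closure (Set.range t), hcl⟩
  have hCr : Set.range C.ι = closure (Set.range t) := C.range_ι
  haveI : IsClosedImmersion C.ι := IsClosedImmersion.of_isPreimmersion _ (hCr ▸ isClosed_closure)
  let s : S ⟶ C.toScheme := IsOpenImmersion.lift C.ι t (hCr.symm ▸ subset_closure)
  have hsC : s ≫ C.ι = t := IsOpenImmersion.lift_fac _ _ _
  haveI : IsDominant s := by
    refine ⟨fun x => ?_⟩
    rw [C.ι.isOpenEmbedding.isEmbedding.closure_eq_preimage_closure_image]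
    have : C.ι '' Set.range s = Set.range t := by
      rw [← Set.range_comp, ← hsC]
      rfl
    rw [Set.mem_preimage, this]
    exact x.2
  haveI := IsSchemeTheoreticallyDominant.of_isDominant s
  let jC : C.toScheme ⟶ G := C.ι ≫ j
  haveI : IsClosedImmersion jC := inferInstanceAs (IsClosedImmersion (C.ι ≫ j))
  have hker : eG.ker = jC.ker := by
    rw [show eG = s ≫ jC by rw [← htj, ← hsC, Category.assoc], Scheme.Hom.ker_comp, s.ker_eq_bot,
      Scheme.IdealSheafData.map_bot]
  rw [hker]
  have h2 : jC.ker.subschemeι ≫ p = inv jC.toImage ≫ C.ι ≫ π := by
    rw [IsIso.eq_inv_comp]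
    refine (Category.assoc _ _ _).symm.trans ?_
    rw [show jC.toImage ≫ jC.ker.subschemeι = jC from jC.toImage_imageι, ← hjp]
    exact Category.assoc _ _ _
  rw [h2]
  haveI : Etale (C.ι ≫ π) := MorphismProperty.comp_mem _ _ _ inferInstance inferInstance
  exact MorphismProperty.comp_mem _ _ _ inferInstance inferInstance

end Groth.Agent.S13424
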