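import Groth.Statements.S13425
import Groth.Agent.L05.InjPoints
-- import your own Groth.Agent.* helpers here

set_option autoImplicit false
universe u
open CategoryTheory AlgebraicGeometry
open NeronHD

namespace Groth.Agent.S13425

/-- Let k be a characteristic-zero algebraically closed field and X, Y integral schemes, separated and
of finite type over k, with Y normal, and let f : X → Y be a dominant k-morphism which is injective
on k-rational points. Then f is an open immersion. (Case of schemes of a statement about algebraic
spaces.) -/
theorem result {k : Type u} [Field k] [IsAlgClosed k] [CharZero k]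
    {X Y : Scheme.{u}} (sX : X ⟶ Spec (CommRingCat.of k)) (sY : Y ⟶ Spec (CommRingCat.of k))
    [IsIntegral X] [IsIntegral Y] [IsSeparated sX] [IsSeparated sY]
    [LocallyOfFiniteType sX] [QuasiCompact sX] [LocallyOfFiniteType sY] [QuasiCompact sY]
    (hY : Pi1.IsNormalScheme Y)
    (f : X ⟶ Y) (hf : f ≫ sY = sX) [IsDominant f]
    (hinj : ∀ a b : Spec (CommRingCat.of k) ⟶ X, a ≫ sX = 𝟙 _ → b ≫ sX = 𝟙 _ → a ≫ f = b ≫ f → a = b) :
    IsOpenImmersion f := by
  haveI : IsLocallyNoetherian Y := LocallyOfFiniteType.isLocallyNoetherian sY
  haveI : IsLocallyNoetherian X := LocallyOfFiniteType.isLocallyNoetherian sX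
  haveI : LocallyOfFiniteType (f ≫ sY) := by rw [hf]; infer_instance
  haveI : LocallyOfFiniteType f := locallyOfFiniteType_of_comp f sY
  haveI : IsSeparated (f ≫ sY) := by rw [hf]; infer_instance
  haveI : IsSeparated f := IsSeparated.of_comp f sY
  haveI : CompactSpace X := QuasiCompact.compactSpace_of_compactSpace sX
  haveI : QuasiCompact (f ≫ sY) := by rw [hf]; infer_instance
  haveI : QuasiCompact f := QuasiCompact.of_comp f sY
  exact Groth.L05.InjPoints.isOpenImmersion sX sY f hf hinj fun y => (hY y).2

end Groth.Agent.S13425
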