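import Groth.Statements.S13426
import Groth.Agent.S0346
import Groth.Agent.L02.Misc.STD
import Groth.Agent.L20.GenExt.Basic

set_option autoImplicit false
universe u
open CategoryTheory MonoidalCategory CartesianMonoidalCategory MonObj GrpObj AlgebraicGeometry
open GrpSch

set_option backward.isDefEq.respectTransparency.types false
namespace Groth.Agent.S13426

/-- Let S be a locally Noetherian scheme over a field of characteristic 0, S₀ ⊆ S a scheme-theoretically
dense open, and G a smooth S-scheme with the weak Néron mapping property for S₀ ⊆ S: for every étale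
S-scheme U, restriction to S₀ is a bijection from S-morphisms U → G onto S₀-morphisms. Let H be a
smooth group scheme over S together with a monomorphism H → G of S-schemes (the case in view: G a
group scheme and H a subgroup scheme), and assume that H is aligned, i.e. the scheme-theoretic image
of its unit section is étale over S, and that H ×_S S₀ → S₀ is separated. Then H → S is separated.
(Case of schemes of a statement about group algebraic spaces; only the injectivity of H → G on
morphisms is used of the subgroup condition.) -/
theorem result {k : Type u} [Field k] [CharZero k] {S : Scheme.{u}} (σ : S ⟶ Spec (CommRingCat.of k)) [IsLocallyNoetherian S] (S₀ : S.Opens) (hS₀ : CInt.IsSchematicallyDense S₀)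
    (G : Over S) [Smooth G.hom]
    (hG : ∀ U : Over S, Etale U.hom → Function.Bijective (fun g : U ⟶ G => (Over.pullback S₀.ι).map g))
    (H : Over S) [GrpObj H] [Smooth H.hom] (j : H ⟶ G) [Mono j.left]
    (hal : Etale (η[H].left.ker.subschemeι ≫ H.hom))
    (h0 : IsSeparated (Limits.pullback.snd H.hom S₀.ι)) :
    IsSeparated H.hom := by
  haveI : IsLocallyNoetherian H.left := LocallyOfFiniteType.isLocallyNoetherian H.hom
  haveI : QuasiSeparated H.hom := inferInstance
  let e : S ⟶ H.left := η[H].left
  have he : e ≫ H.hom = 𝟙 S := Over.w η[H]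
  haveI : QuasiCompact (e ≫ H.hom) := by rw [he]; infer_instance
  haveI : QuasiCompact e := QuasiCompact.of_comp e H.hom
  haveI := Groth.L02.STD.toImage_dominant e
  let π : e.image ⟶ S := e.imageι ≫ H.hom
  haveI : Etale π := hal
  have hsec : e.toImage ≫ π = 𝟙 S := by
    show e.toImage ≫ e.imageι ≫ H.hom = _
    rw [Scheme.Hom.toImage_imageι_assoc, he]
  let a : Over.mk π ⟶ H := Over.homMk e.imageι rfl
  let b : Over.mk π ⟶ H := Over.homMk (π ≫ e) (by
    show (π ≫ e) ≫ H.hom = π
    rw [Category.assoc, he, Category.comp_id])
  have hab : a ≫ j = b ≫ j := by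
    refine (hG (Over.mk π) hal).1 ?_
    show (Over.pullback S₀.ι).map (a ≫ j) = (Over.pullback S₀.ι).map (b ≫ j)
    have key : (Over.pullback S₀.ι).map a = (Over.pullback S₀.ι).map b := by
      refine Over.OverMorphism.ext ?_
      let t : (S₀ : Scheme.{u}) ⟶ Limits.pullback π S₀.ι :=
        Limits.pullback.lift (S₀.ι ≫ e.toImage) (𝟙 _)
          (by rw [Category.assoc, hsec, Category.comp_id, Category.id_comp])
      have ht : t ≫ Limits.pullback.snd π S₀.ι = 𝟙 _ := Limits.pullback.lift_snd _ _ _
      have hsq : IsPullback S₀.ι t e.toImage (Limits.pullback.fst π S₀.ι) := by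
        refine (IsPullback.of_right (h₁₁ := t) (h₁₂ := Limits.pullback.snd π S₀.ι) (v₁₁ := S₀.ι)
          (v₁₃ := S₀.ι) (h₂₁ := e.toImage) (h₂₂ := π) ?_ (Limits.pullback.lift_fst _ _ _)
          (IsPullback.of_hasPullback π S₀.ι).flip).flip
        rw [ht, hsec]
        exact IsPullback.of_horiz_isIso ⟨by simp⟩
      haveI : IsSchemeTheoreticallyDominant t := IsSchemeTheoreticallyDominant.of_isPullback hsq
      refine Groth.L20.GenExt.ext_of_isSchemeTheoreticallyDominant
        (Limits.pullback.snd H.hom S₀.ι) ?_ t ?_
      · exact (Over.w ((Over.pullback S₀.ι).map a)).trans (Over.w ((Over.pullback S₀.ι).map b)).symm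
      · apply Limits.pullback.hom_ext
        · simp only [Over.pullback_map_left, Category.assoc, Limits.pullback.lift_fst]
          show t ≫ Limits.pullback.fst π S₀.ι ≫ e.imageι =
            t ≫ Limits.pullback.fst π S₀.ι ≫ π ≫ e
          simp only [t, Limits.pullback.lift_fst_assoc, Category.assoc]
          rw [Scheme.Hom.toImage_imageι, reassoc_of% hsec]
        · simp only [Over.pullback_map_left, Category.assoc, Limits.pullback.lift_snd]
    rw [Functor.map_comp, Functor.map_comp, key]
  haveI : Mono j := Over.mono_of_mono_left j
  have h1 : e.imageι = π ≫ e := congrArg CommaMorphism.left ((cancel_mono j).mp hab)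
  have h2 : π ≫ e.toImage = 𝟙 _ := by
    rw [← cancel_mono e.imageι, Category.assoc, Scheme.Hom.toImage_imageι, ← h1, Category.id_comp]
  haveI : IsIso e.toImage := ⟨π, hsec, h2⟩
  have hcl : IsClosedImmersion e := by
    rw [← e.toImage_imageι]
    infer_instance
  exact ((Groth.Agent.S0346.result S H).1).mpr hcl


end Groth.Agent.S13426
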