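import Groth.Statements.S13428
import Groth.Agent.L05.NeronOpen.Main
-- import your own Groth.Agent.* helpers here

set_option autoImplicit false
universe u
open CategoryTheory AlgebraicGeometry
open NeronHD

namespace Groth.Agent.S13428

/-- Let S be a normal Noetherian scheme over a field of characteristic 0 and S₀ ⊆ S a
scheme-theoretically dense open. Let N be a smooth, separated and quasi-compact S-scheme with the
Néron mapping property for S₀ ⊆ S (restriction to S₀ of S-morphisms from smooth S-schemes is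
bijective) such that N|S₀ → S₀ is étale, so that N is a quasi-projective Néron model of the
quasi-projective étale S₀-scheme N|S₀. If M is a separated, quasi-compact, étale S-scheme and φ : M
→ N is an S-morphism restricting to an isomorphism over S₀ (so M is another quasi-projective étale
extension of N|S₀, and φ is its canonical map to the Néron model), then φ is an open immersion.
(Case of schemes of the published statement.) -/
theorem result {k : Type u} [Field k] [CharZero k] {S : Scheme.{u}} (σ : S ⟶ Spec (CommRingCat.of k)) [IsNoetherian S] (hS : Pi1.IsNormalScheme S) (S₀ : S.Opens) (hS₀ : CInt.IsSchematicallyDense S₀)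
    (N : Over S) [Smooth N.hom] [IsSeparated N.hom] [QuasiCompact N.hom]
    (hN : ∀ Z : Over S, Smooth Z.hom → Function.Bijective (fun g : Z ⟶ N => (Over.pullback S₀.ι).map g))
    [Etale ((Over.pullback S₀.ι).obj N).hom]
    (M : Over S) [Etale M.hom] [IsSeparated M.hom] [QuasiCompact M.hom]
    (φ : M ⟶ N) [IsIso ((Over.pullback S₀.ι).map φ)] :
    IsOpenImmersion φ.left := by
  have hd := Groth.L05.NeronOpen.dense_of_schDense S₀ hS₀
  haveI : Etale (N.hom ∣_ S₀) := by
    haveI : Etale (Limits.pullback.snd N.hom S₀.ι) := ‹Etale ((Over.pullback S₀.ι).obj N).hom›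
    have h : N.hom ∣_ S₀ = (pullbackRestrictIsoRestrict N.hom S₀).inv ≫ Limits.pullback.snd N.hom S₀.ι := by
      rw [← pullbackRestrictIsoRestrict_hom_morphismRestrict, Iso.inv_hom_id_assoc]
    rw [h]
    infer_instance
  haveI : Etale N.hom := Groth.L05.NeronOpen.etale_of_dense S₀ N.hom hd
  haveI : Etale (φ.left ≫ N.hom) := by rw [Over.w]; infer_instance
  haveI : Etale φ.left := Etale.of_comp φ.left N.hom
  haveI : IsSeparated (φ.left ≫ N.hom) := by rw [Over.w]; infer_instance
  haveI : IsSeparated φ.left := IsSeparated.of_comp φ.left N.hom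
  haveI : Mono ((φ.left ⁻¹ᵁ (N.hom ⁻¹ᵁ S₀)).ι ≫ φ.left) := by
    let k := Limits.pullback.lift (f := M.hom) (g := S₀.ι) (φ.left ⁻¹ᵁ (N.hom ⁻¹ᵁ S₀)).ι
      (IsOpenImmersion.lift S₀.ι ((φ.left ⁻¹ᵁ (N.hom ⁻¹ᵁ S₀)).ι ≫ M.hom) (by
        rw [Scheme.Opens.range_ι, ← Over.w φ]
        rintro _ ⟨t, rfl⟩
        exact t.2)) (IsOpenImmersion.lift_fac _ _ _).symm
    haveI : Mono k := mono_of_mono_fac (h := (φ.left ⁻¹ᵁ (N.hom ⁻¹ᵁ S₀)).ι) (Limits.pullback.lift_fst _ _ _)
    haveI : IsIso ((Over.pullback S₀.ι).map φ).left :=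
      inferInstanceAs (IsIso ((Over.forget _).map ((Over.pullback S₀.ι).map φ)))
    have h : (φ.left ⁻¹ᵁ (N.hom ⁻¹ᵁ S₀)).ι ≫ φ.left =
        k ≫ ((Over.pullback S₀.ι).map φ).left ≫ Limits.pullback.fst N.hom S₀.ι := by
      have h2 : ((Over.pullback S₀.ι).map φ).left ≫ Limits.pullback.fst N.hom S₀.ι =
          Limits.pullback.fst M.hom S₀.ι ≫ φ.left := Limits.pullback.lift_fst _ _ _
      rw [h2, Limits.pullback.lift_fst_assoc]
    rw [h]
    infer_instance
  exact Groth.L05.NeronOpen.isOpenImmersion_of_dense φ.left (N.hom ⁻¹ᵁ S₀)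
    (Groth.L05.NeronOpen.dense_preimage S₀ hd)

end Groth.Agent.S13428
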