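import Groth.Statements.S13431
import Groth.Agent.L08.MulEtaleBC
import Mathlib.AlgebraicGeometry.Sites.Fpqc
import Mathlib.CategoryTheory.Monoidal.Cartesian.Over

set_option autoImplicit false
universe u
open CategoryTheory MonoidalCategory CartesianMonoidalCategory MonObj GrpObj AlgebraicGeometry
open NeronHD

namespace Groth.Agent.S13431

open CategoryTheory CategoryTheory.Limits MonoidalCategory CartesianMonoidalCategory MonObj

section
variable {S : Scheme.{u}} {S₀ : Scheme.{u}} (j : S₀ ⟶ S)

theorem prod_hom_ext {A B : Over S} {W : Over S₀} (f g : W ⟶ (Over.pullback j).obj (A ⊗ B))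
    (h₁ : f ≫ (Over.pullback j).map (fst A B) = g ≫ (Over.pullback j).map (fst A B))
    (h₂ : f ≫ (Over.pullback j).map (snd A B) = g ≫ (Over.pullback j).map (snd A B)) : f = g := by
  haveI := Over.mapPullbackAdj j |>.isRightAdjoint
  rw [← cancel_mono (CartesianMonoidalCategory.prodComparison (Over.pullback j) A B)]
  apply CartesianMonoidalCategory.hom_ext
  · simpa only [Category.assoc, CartesianMonoidalCategory.prodComparison_fst] using h₁
  · simpa only [Category.assoc, CartesianMonoidalCategory.prodComparison_snd] using h₂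

theorem exists_prod_lift {A B : Over S} {W : Over S₀} (p : W ⟶ (Over.pullback j).obj A)
    (q : W ⟶ (Over.pullback j).obj B) : ∃ l : W ⟶ (Over.pullback j).obj (A ⊗ B),
      l ≫ (Over.pullback j).map (fst A B) = p ∧ l ≫ (Over.pullback j).map (snd A B) = q := by
  haveI := Over.mapPullbackAdj j |>.isRightAdjoint
  refine ⟨lift p q ≫ inv (CartesianMonoidalCategory.prodComparison (Over.pullback j) A B), ?_, ?_⟩
  · rw [Category.assoc, CartesianMonoidalCategory.inv_prodComparison_map_fst, lift_fst]
  · rw [Category.assoc, CartesianMonoidalCategory.inv_prodComparison_map_snd, lift_snd]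

variable (N : Over S) [Smooth N.hom] [Surjective N.hom]

omit [Surjective N.hom] in
theorem smooth_fst (Z : Over S) : Smooth (fst Z N).left :=
  MorphismProperty.pullback_fst (P := @Smooth) Z.hom N.hom inferInstance

theorem surjective_fst (Z : Over S) : Surjective (fst Z N).left :=
  MorphismProperty.pullback_fst (P := @Surjective) Z.hom N.hom inferInstance

theorem epi_fst (Z : Over S) : Epi (fst Z N) := by
  haveI : Smooth (fst Z N).left := smooth_fst N Z
  haveI : Surjective (fst Z N).left := surjective_fst N Z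
  haveI : Epi (fst Z N).left := inferInstance
  exact Over.epi_of_epi_left _

theorem epi_map_fst (Z : Over S) : Epi ((Over.pullback j).map (fst Z N)) := by
  haveI : Smooth ((Over.pullback j).map (fst Z N)).left :=
    MorphismProperty.of_isPullback (P := @Smooth) (Groth.L08.MulEtale.isPullback_map j (fst Z N)).flip
      (smooth_fst N Z)
  haveI : Surjective ((Over.pullback j).map (fst Z N)).left :=
    MorphismProperty.of_isPullback (P := @Surjective) (Groth.L08.MulEtale.isPullback_map j (fst Z N)).flip
      (surjective_fst N Z)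
  haveI : Epi ((Over.pullback j).map (fst Z N)).left := inferInstance
  exact Over.epi_of_epi_left _

theorem exists_desc {Z Q : Over S} (f : Z ⊗ N ⟶ Q) (h : (Z ◁ fst N N) ≫ f = (Z ◁ snd N N) ≫ f) :
    ∃ g : Z ⟶ Q, fst Z N ≫ g = f := by
  haveI : Smooth (fst Z N).left := smooth_fst N Z
  haveI : Surjective (fst Z N).left := surjective_fst N Z
  let r : Z.left ⟶ Q.left := EffectiveEpi.desc (fst Z N).left f.left fun {W} g₁ g₂ hg => by
    let W' : Over S := Over.mk (g₁ ≫ (Z ⊗ N).hom)
    have hw : g₂ ≫ (Z ⊗ N).hom = g₁ ≫ (Z ⊗ N).hom := by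
      rw [← Over.w (fst Z N), ← Category.assoc, ← Category.assoc, hg]
    let m₁ : W' ⟶ Z ⊗ N := Over.homMk g₁ rfl
    let m₂ : W' ⟶ Z ⊗ N := Over.homMk g₂ hw
    have hm : m₁ ≫ fst Z N = m₂ ≫ fst Z N := Over.OverMorphism.ext hg
    let u : W' ⟶ Z ⊗ (N ⊗ N) := lift (m₁ ≫ fst Z N) (lift (m₁ ≫ snd Z N) (m₂ ≫ snd Z N))
    have u1 : u ≫ (Z ◁ fst N N) = m₁ := by
      apply CartesianMonoidalCategory.hom_ext <;> simp [u]
    have u2 : u ≫ (Z ◁ snd N N) = m₂ := by
      apply CartesianMonoidalCategory.hom_ext <;> simp [u, hm]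
    have h' : m₁ ≫ f = m₂ ≫ f := by rw [← u1, ← u2, Category.assoc, Category.assoc, h]
    exact congrArg CommaMorphism.left h'
  have hr : (fst Z N).left ≫ r = f.left := EffectiveEpi.fac _ _ _
  haveI : Epi (fst Z N).left := inferInstance
  exact ⟨Over.homMk r (by rw [← cancel_epi (fst Z N).left, reassoc_of% hr, Over.w f, Over.w]),
    Over.OverMorphism.ext hr⟩

end

/-- Let S be a locally Noetherian scheme over a field of characteristic 0 and S₀ ⊆ S a
scheme-theoretically dense open. Let G be a smooth group scheme over S and N a smooth S-scheme with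
N → S surjective, equipped with an action of G making N a pseudo-torsor: the translation map G ×_S N
→ N ×_S N, (g, x) ↦ (g·x, x), is an isomorphism. Then G has the Néron mapping property for S₀ ⊆ S
(restriction to S₀ of S-morphisms from smooth S-schemes is bijective) if and only if N has it. (The
published statement says 'G-torsor' with torsor defined as an action whose translation map is an
isomorphism; for N empty that holds and N has the mapping property while G need not, so surjectivity
of N → S — which gives étale-local sections — is assumed here, as the published proof uses. Case of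
schemes of a statement about algebraic spaces.) -/
theorem result {k : Type u} [Field k] [CharZero k] {S : Scheme.{u}} (σ : S ⟶ Spec (CommRingCat.of k)) [IsLocallyNoetherian S] (S₀ : S.Opens) (hS₀ : CInt.IsSchematicallyDense S₀)
    (G : Over S) [GrpObj G] [Smooth G.hom]
    (N : Over S) [Smooth N.hom] [Surjective N.hom]
    (a : AlgGrp.Action G N) (ha : NonAbH1.IsPseudoTorsorSch a) :
    (∀ Z : Over S, Smooth Z.hom → Function.Bijective (fun g : Z ⟶ G => (Over.pullback S₀.ι).map g)) ↔
    (∀ Z : Over S, Smooth Z.hom → Function.Bijective (fun g : Z ⟶ N => (Over.pullback S₀.ι).map g)) := by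
  let F := Over.pullback S₀.ι
  let θ : G ⊗ N ⟶ N ⊗ N := lift a.act (snd G N)
  haveI : IsIso θ := ha
  have hs : ∀ {A B : Over S}, Smooth A.hom → Smooth B.hom → Smooth (A ⊗ B).hom := fun {A B} hA hB => by
    haveI := hA; haveI := hB
    exact inferInstanceAs (Smooth (pullback.fst A.hom B.hom ≫ A.hom))
  have hθ1 : θ ≫ fst N N = a.act := lift_fst _ _
  have hθ2 : θ ≫ snd N N = snd G N := lift_snd _ _
  have hFθ2 : ∀ {W : Over (S₀ : Scheme.{u})} (l : W ⟶ F.obj (N ⊗ N)),
      l ≫ inv (F.map θ) ≫ F.map (snd G N) = l ≫ F.map (snd N N) := fun l => by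
    rw [← hθ2, F.map_comp, IsIso.inv_hom_id_assoc]
  constructor
  · intro hG Z hZ
    have hinj : ∀ (W : Over S), Smooth W.hom → Function.Injective (fun g : W ⟶ N => F.map g) := by
      intro W hW f₁ f₂ h
      replace h : F.map f₁ = F.map f₂ := h
      have hl : F.map (lift f₁ f₂) = F.map (lift f₂ f₂) :=
        prod_hom_ext S₀.ι _ _ (by rw [← F.map_comp, ← F.map_comp, lift_fst, lift_fst, h])
          (by rw [← F.map_comp, ← F.map_comp, lift_snd, lift_snd])
      have e1 : lift f₁ f₂ ≫ inv θ ≫ fst G N = lift f₂ f₂ ≫ inv θ ≫ fst G N := by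
        refine (hG W hW).1 ?_
        show F.map _ = F.map _
        rw [F.map_comp, hl, ← F.map_comp]
      have e2 : lift f₁ f₂ ≫ inv θ = lift f₂ f₂ ≫ inv θ := by
        apply CartesianMonoidalCategory.hom_ext
        · rw [Category.assoc, Category.assoc]; exact e1
        · rw [Category.assoc, Category.assoc, ← hθ2, IsIso.inv_hom_id_assoc, lift_snd, lift_snd]
      have e3 := congrArg (· ≫ fst N N) ((cancel_mono (inv θ)).1 e2)
      simpa only [lift_fst] using e3
    refine ⟨hinj Z hZ, fun h => ?_⟩
    obtain ⟨L, hL1, hL2⟩ := exists_prod_lift S₀.ι (F.map (fst Z N) ≫ h) (F.map (snd Z N))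
    obtain ⟨r, hr⟩ := (hG (Z ⊗ N) (hs hZ inferInstance)).2 (L ≫ inv (F.map θ) ≫ F.map (fst G N))
    replace hr : F.map r = L ≫ inv (F.map θ) ≫ F.map (fst G N) := hr
    have hf : F.map (lift r (snd Z N) ≫ a.act) = F.map (fst Z N) ≫ h := by
      have e : F.map (lift r (snd Z N)) = L ≫ inv (F.map θ) :=
        prod_hom_ext S₀.ι _ _ (by rw [← F.map_comp, lift_fst, hr, Category.assoc])
          (by rw [← F.map_comp, lift_snd, Category.assoc, hFθ2, hL2])
      rw [← hθ1, F.map_comp, F.map_comp, e, Category.assoc, IsIso.inv_hom_id_assoc, hL1]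
    obtain ⟨g, hg⟩ := exists_desc N (lift r (snd Z N) ≫ a.act) (hinj _ (hs hZ (hs inferInstance inferInstance)) (by
      show F.map _ = F.map _
      rw [F.map_comp (Z ◁ fst N N), F.map_comp (Z ◁ snd N N), hf, ← Category.assoc, ← Category.assoc, ← F.map_comp, ← F.map_comp,
        whiskerLeft_fst, whiskerLeft_fst]))
    haveI := epi_map_fst S₀.ι N Z
    refine ⟨g, ?_⟩
    show F.map g = h
    rw [← cancel_epi (F.map (fst Z N)), ← F.map_comp, hg, hf]
  · intro hN Z hZ
    have hinj : ∀ (W : Over S), Smooth W.hom → Function.Injective (fun g : W ⟶ G => F.map g) := by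
      intro W hW r₁ r₂ h
      replace h : F.map r₁ = F.map r₂ := h
      haveI := epi_fst N W
      have hl : F.map (lift (fst W N ≫ r₁) (snd W N)) = F.map (lift (fst W N ≫ r₂) (snd W N)) :=
        prod_hom_ext S₀.ι _ _ (by rw [← F.map_comp, ← F.map_comp, lift_fst, lift_fst, F.map_comp, h, ← F.map_comp])
          (by rw [← F.map_comp, ← F.map_comp, lift_snd, lift_snd])
      have e1 : lift (fst W N ≫ r₁) (snd W N) ≫ a.act = lift (fst W N ≫ r₂) (snd W N) ≫ a.act := by
        refine (hN _ (hs hW inferInstance)).1 ?_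
        show F.map _ = F.map _
        rw [F.map_comp, hl, ← F.map_comp]
      have e2 : lift (fst W N ≫ r₁) (snd W N) ≫ θ = lift (fst W N ≫ r₂) (snd W N) ≫ θ := by
        apply CartesianMonoidalCategory.hom_ext
        · rw [Category.assoc, Category.assoc, hθ1]; exact e1
        · rw [Category.assoc, Category.assoc, hθ2, lift_snd, lift_snd]
      have e3 := congrArg (· ≫ fst G N) ((cancel_mono θ).1 e2)
      simp only [lift_fst] at e3
      exact (cancel_epi (fst W N)).1 e3
    refine ⟨hinj Z hZ, fun h => ?_⟩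
    obtain ⟨L, hL1, hL2⟩ := exists_prod_lift S₀.ι (F.map (fst Z N) ≫ h) (F.map (snd Z N))
    obtain ⟨f, hf⟩ := (hN (Z ⊗ N) (hs hZ inferInstance)).2 (L ≫ F.map a.act)
    replace hf : F.map f = L ≫ F.map a.act := hf
    have hr : F.map (lift f (snd Z N) ≫ inv θ ≫ fst G N) = F.map (fst Z N) ≫ h := by
      have e : F.map (lift f (snd Z N)) = L ≫ F.map θ :=
        prod_hom_ext S₀.ι _ _ (by rw [← F.map_comp, lift_fst, hf, Category.assoc, ← F.map_comp, hθ1])
          (by rw [← F.map_comp, lift_snd, Category.assoc, ← F.map_comp, hθ2, hL2])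
      rw [F.map_comp, e, Category.assoc, ← F.map_comp, IsIso.hom_inv_id_assoc, hL1]
    obtain ⟨g, hg⟩ := exists_desc N (lift f (snd Z N) ≫ inv θ ≫ fst G N)
      (hinj _ (hs hZ (hs inferInstance inferInstance)) (by
      show F.map _ = F.map _
      rw [F.map_comp (Z ◁ fst N N), F.map_comp (Z ◁ snd N N), hr, ← Category.assoc, ← Category.assoc,
        ← F.map_comp, ← F.map_comp, whiskerLeft_fst, whiskerLeft_fst]))
    haveI := epi_map_fst S₀.ι N Z
    refine ⟨g, ?_⟩
    show F.map g = h
    rw [← cancel_epi (F.map (fst Z N)), ← F.map_comp, hg, hr]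

end Groth.Agent.S13431
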