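import Groth.Statements.S13432
import Groth.Agent.L05.NeronFinite.Mapping

set_option autoImplicit false
universe u
open CategoryTheory AlgebraicGeometry
open NeronHD

namespace Groth.Agent.S13432

/-- Let S be a normal Noetherian scheme over a field of characteristic 0 and S₀ ⊆ S a
scheme-theoretically dense open. Let π : T → S be finite with T normal, and let N ⊆ T be the open
subscheme where π is smooth (equivalently étale, π being finite). Then N → S has the Néron mapping
property for S₀ ⊆ S: for every smooth S-scheme Z, restriction to S₀ is a bijection from S-morphisms
Z → N onto S₀-morphisms Z|S₀ → N|S₀. (In the published statement T is the normal finite S-scheme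
compactifying a given quasi-projective étale S-scheme and N is the maximal quasi-projective étale
scheme containing it; that origin of T plays no role in this part of the proof, so any finite T → S
with T normal is allowed here. Case of schemes, with smooth test schemes, of a statement about
algebraic spaces.) -/
theorem result {k : Type u} [Field k] [CharZero k] {S : Scheme.{u}} (σ : S ⟶ Spec (CommRingCat.of k)) [IsNoetherian S] (hS : Pi1.IsNormalScheme S) (S₀ : S.Opens) (hS₀ : CInt.IsSchematicallyDense S₀)
    {T : Scheme.{u}} (π : T ⟶ S) [IsFinite π] [LocallyOfFinitePresentation π] (hT : Pi1.IsNormalScheme T) :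
    ∀ Z : Over S, Smooth Z.hom → Function.Bijective (fun g : Z ⟶ Over.mk (π.smoothLocus.ι ≫ π) => (Over.pullback S₀.ι).map g) := by
  intro Z hZ
  haveI := hZ
  exact Groth.L05.NeronFinite.mapping_smoothLocus hS S₀ (Groth.L05.NeronOpen.dense_of_schDense S₀ hS₀) π hT Z

end Groth.Agent.S13432
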