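import Groth.Statements.S13433
import Groth.Agent.L13.HilbPn.Count

set_option autoImplicit false
universe u
open W4c1hilbpn

namespace Groth.Agent.S13433

open W4c1hilbpn in
/-- Let k be an infinite field, S = k[x,y,z], I a monomial ideal of S of finite colength d, and T(I) =
Hom_S(I, S/I) with its grading by triples of integers. For each variable index i, the span of the
graded pieces of T(I) whose multidegree is negative exactly at i has dimension d plus the dimension
of the span of the graded pieces whose multidegree is negative exactly at the other two indices. -/
theorem result (k : Type u) [Field k] [Infinite k]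
    (I : Ideal (MvPolynomial (Fin 3) k)) (hI : IsMonomial I)
    [Module.Finite k (MvPolynomial (Fin 3) k ⧸ I)] (i : Fin 3) :
    Module.finrank k ↥(sigPiece I {i}) =
      Module.finrank k ↥(sigPiece I ({i}ᶜ : Set (Fin 3))) + Module.finrank k (MvPolynomial (Fin 3) k ⧸ I) := by
  exact Groth.Agent.L13.HilbPn.finrank_sig hI i

end Groth.Agent.S13433
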