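import Groth.Statements.S13434
import Groth.Agent.L13.HilbPn.Vanish

set_option autoImplicit false
universe u
open W4c1hilbpn

namespace Groth.Agent.S13434

open W4c1hilbpn in
/-- Let k be an infinite field, n ≥ 2, S the polynomial ring over k in n variables, I a monomial ideal
of S of finite colength and T(I) = Hom_S(I, S/I) with its grading by integer vectors. The graded
piece of T(I) in every multidegree all of whose entries are nonnegative, or all of whose entries are
negative, vanishes, and T(I) is spanned by its pieces of non-constant sign pattern (the spans, over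
the sets N of variable indices that are neither empty nor all indices, of the graded pieces whose
multidegree is negative exactly at N). -/
theorem result (k : Type u) [Field k] [Infinite k]
    (n : ℕ) (hn : 2 ≤ n) (I : Ideal (MvPolynomial (Fin n) k)) (hI : IsMonomial I)
    [Module.Finite k (MvPolynomial (Fin n) k ⧸ I)] :
    (∀ α : Fin n → ℤ, ((∀ i, 0 ≤ α i) ∨ (∀ i, α i < 0)) → tPiece I α = ⊥) ∧
      (⨆ N : {N : Set (Fin n) // N.Nonempty ∧ N ≠ Set.univ}, sigPiece I N.1) = ⊤ := by
  haveI : Nontrivial (Fin n) := Fin.nontrivial_iff_two_le.mpr hn
  exact ⟨fun α hα => Groth.Agent.L13.HilbPn.tPiece_eq_bot hI hα, Groth.Agent.L13.HilbPn.iSup_sigPiece_eq_top hI⟩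

end Groth.Agent.S13434
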