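import Groth.Statements.S13435
import Groth.Agent.L13.HilbPn.MPow

set_option autoImplicit false
universe u
open W4c1hilbpn

namespace Groth.Agent.S13435

open W4c1hilbpn in
/-- Let k be an infinite field, n ≥ 2, S the polynomial ring over k in n variables with irrelevant ideal
m, r a natural number and α an integer vector; write w for the sum of the absolute values of the
negative entries of α. The graded piece of T(m^r) = Hom_S(m^r, S/m^r) of multidegree α is zero
unless the entries of α sum to -1 and w ≤ r, and in that case its dimension is the binomial
coefficient C(n + r - w - 1, n - 1). (The published statement allows any number of variables; in one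
variable it fails: the map (x^2) → k[x]/(x^2) sending x^2 to 1 is nonzero of degree −2. This row
assumes n ≥ 2.) -/
theorem result (k : Type u) [Field k] [Infinite k]
    (n : ℕ) (hn : 2 ≤ n) (r : ℕ) (α : Fin n → ℤ) :
    Module.finrank k ↥(tPiece ((Ideal.span (Set.range (MvPolynomial.X : Fin n → MvPolynomial (Fin n) k))) ^ r) α) =
      if (∑ i, α i = -1 ∧ ∑ i, (-α i).toNat ≤ r)
        then Nat.choose (n + r - (∑ i, (-α i).toNat) - 1) (n - 1) else 0 := by
  exact Groth.Agent.L13.HilbPn.finrank_tPiece_mPow r hn α

end Groth.Agent.S13435
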