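import Groth.Statements.S1344
import Groth.Agent.L06.LocalDimFlat
import Groth.Agent.L02.CMMor.FibreDim

set_option autoImplicit false
set_option maxSynthPendingDepth 3
set_option linter.style.haveILetI false
universe u
open FlatMor

namespace Groth.Agent.S1344

open AlgebraicGeometry CategoryTheory Limits in
/-- Let f be locally of finite type between locally Noetherian schemes and Cohen–Macaulay at every
point. Then for every point x of the source with image y, the local dimension of the source at x
equals the local dimension of the target at y plus the local dimension at x of the fibre over y. -/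
theorem result {X Y : Scheme.{u}} (f : X ⟶ Y) [IsLocallyNoetherian X] [IsLocallyNoetherian Y] [LocallyOfFiniteType f]
    (hf : ∀ x : X, MoreMor.IsCMAt f x) (x : X) :
    FlatMor.localDim ↑X x = FlatMor.localDim ↑Y (f x) + FlatMor.fibreDimAt f x := by
  haveI : Flat f := (Flat.iff_flat_stalkMap _).mpr fun u => (hf u).1
  haveI : LocallyOfFinitePresentation f := LocallyOfFinitePresentation.iff_locallyOfFiniteType.mpr inferInstance
  obtain ⟨O, hO, hxO, hc⟩ := (L02.CMMor.isLocallyConstant_fibreDimAt f hf).exists_open x
  obtain ⟨d, hd⟩ := Groth.L07.OpenEquiv.exists_nat_fibreDimAt f x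
  rw [hd]
  exact Groth.L06.LocalDimFlat.localDim_eq f d ⟨O, hO⟩ (fun u hu => (hc u hu).trans hd) x hxO

end Groth.Agent.S1344
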