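import Groth.Statements.S13445
import Groth.Agent.L13.HilbPn.Coord

set_option autoImplicit false
universe u
open W4c1hilbpn

namespace Groth.Agent.S13445

open W4c1hilbpn in
/-- Let k be an infinite field, S = k[x,y,z] with irrelevant ideal m, and d, r natural numbers with d ≤
C(r+2, 3). For every ideal I of S of colength d, three times the dimension of Hom_S(I, S/I) is at
most four times the dimension of Hom_S(m^r, S/m^r). -/
theorem result (k : Type u) [Field k] [Infinite k] (d r : ℕ)
    (hdr : d ≤ Nat.choose (r + 2) 3) (I : Ideal (MvPolynomial (Fin 3) k)) [Module.Finite k (MvPolynomial (Fin 3) k ⧸ I)]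
    (hd : Module.finrank k (MvPolynomial (Fin 3) k ⧸ I) = d) :
    3 * Module.finrank k (Tgt I) ≤ 4 * Module.finrank k (Tgt ((Ideal.span (Set.range (MvPolynomial.X : Fin 3 → MvPolynomial (Fin 3) k))) ^ r)) := by
  exact Groth.Agent.L13.HilbPn.three_mul_tgt_le d r hdr I hd

end Groth.Agent.S13445
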