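import Groth.Statements.S13447
import Groth.Agent.L13.HilbPn.TwoBlockCount

set_option autoImplicit false
universe u
open W4c1hilbpn

namespace Groth.Agent.S13447

open W4c1hilbpn in
/-- Let k be a field and S = k[x_0, ..., x_n] with its standard grading; for an ideal I write Hom_S(I,
S/I)_0 for the degree-0 homomorphisms (for a monomial ideal: the span of the multigraded pieces
whose multidegree has entry sum 0). Let n ≥ 4, q ≥ 1 and r be natural numbers with r + 3 ≤ n and
either r ≥ 2, or r = 1 and q ≥ 3, and let I = x_0·(x_0, ..., x_{n-1}) + x_1^q·(x_1, ..., x_{n-r-1}).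
Then Hom_S(I, S/I)_0 has dimension 3n - 1 + (n-r-2)(r+1) + C(n+q-1, n-1). (The published statement
gives this as the dimension of the tangent space to the Hilbert scheme at the point I, identified
with Hom_S(I, S/I)_0 through the comparison of graded pieces with global sections; the row records
the dimension count itself. The published statement also assumes r + 3 ≤ n, through its standing
conventions; for r = n − 2 the count is different.) -/
theorem result (k : Type u) [Field k] (n q r : ℕ) (hn : 4 ≤ n)
    (hq : 1 ≤ q) (hr : r + 3 ≤ n) (hcase : 2 ≤ r ∨ (r = 1 ∧ 3 ≤ q)) :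
    Module.finrank k ↥(⨆ α : {α : Fin (n + 1) → ℤ // ∑ i, α i = 0}, tPiece (Ideal.span ({f : MvPolynomial (Fin (n + 1)) k | ∃ i : Fin (n + 1), i.val + 1 ≤ n ∧ f = MvPolynomial.X 0 * MvPolynomial.X i} ∪ {f : MvPolynomial (Fin (n + 1)) k | ∃ i : Fin (n + 1), 1 ≤ i.val ∧ i.val ≤ n - r - 1 ∧ f = MvPolynomial.X 1 ^ q * MvPolynomial.X i})) α.1) =
      3 * n - 1 + (n - r - 2) * (r + 1) + Nat.choose (n + q - 1) (n - 1) := by
  have h := Groth.Agent.L13.HilbPn.finrank_tI (k := k) (n := n) (q := q) (m := n - r - 1) (by omega) (by omega) (by omega) hq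
    (by unfold Groth.Agent.L13.HilbPn.Param; omega)
  haveI : IsEmpty (Groth.Agent.L13.HilbPn.Exc n q (n - r - 1)) := ⟨fun i => by have := i.2; omega⟩
  rw [Nat.card_eq_zero.mpr (Or.inl inferInstance), show n - (n - r - 1) = r + 1 by omega] at h
  have h2 : (n - r - 1) * (r + 1) = (n - r - 2) * (r + 1) + (r + 1) := by
    rw [← Nat.succ_mul]; congr 1; omega
  unfold Groth.Agent.L13.HilbPn.tI at h
  omega

end Groth.Agent.S13447
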