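import Groth.Statements.S13449
import Groth.Agent.L13.HilbPn.TwoBlockCount

set_option autoImplicit false
universe u
open W4c1hilbpn

namespace Groth.Agent.S13449

open W4c1hilbpn in
/-- Let k be a field and S = k[x_0, ..., x_n] with its standard grading; for an ideal I write Hom_S(I,
S/I)_0 for the degree-0 homomorphisms (for a monomial ideal: the span of the multigraded pieces
whose multidegree has entry sum 0). Let n ≥ 3 and I = x_0·(x_0, ..., x_{n-1}) + x_1·(x_1, ...,
x_{n-1}) (the case q = 1, r = 0 of the two-block family). Then Hom_S(I, S/I)_0 has dimension 6n - 4.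
(The published statement gives this as the dimension of the tangent space to the Hilbert scheme at
the point I; the row records the dimension count.) -/
theorem result (k : Type u) [Field k] (n : ℕ) (hn : 3 ≤ n) :
    Module.finrank k ↥(⨆ α : {α : Fin (n + 1) → ℤ // ∑ i, α i = 0}, tPiece (Ideal.span ({f : MvPolynomial (Fin (n + 1)) k | ∃ i : Fin (n + 1), i.val + 1 ≤ n ∧ f = MvPolynomial.X 0 * MvPolynomial.X i} ∪ {f : MvPolynomial (Fin (n + 1)) k | ∃ i : Fin (n + 1), 1 ≤ i.val ∧ i.val ≤ n - 1 ∧ f = MvPolynomial.X 1 * MvPolynomial.X i})) α.1) = 6 * n - 4 := by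
  have h := Groth.Agent.L13.HilbPn.finrank_tI (k := k) (n := n) (q := 1) (m := n - 1) (by omega) (by omega) (by omega) le_rfl
    (by unfold Groth.Agent.L13.HilbPn.Param; omega)
  have hE : Nat.card (Groth.Agent.L13.HilbPn.Exc n 1 (n - 1)) = n - 1 := by
    rw [Nat.card_congr (Equiv.subtypeEquivRight (q := fun i : Fin n => i ≠ ⟨1, by omega⟩) fun i =>
      ⟨fun h e => h.2.1 (by rw [e]), fun h => ⟨rfl, fun e => h (Fin.ext e), Or.inl (by omega)⟩⟩)]
    simp [Nat.card_eq_fintype_card, Fintype.card_subtype_compl]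
  rw [hE, show n - (n - 1) = 1 by omega, show n + 1 - 1 = n by omega] at h
  have hc : Nat.choose n (n - 1) = n := by rw [Nat.choose_symm (by omega), Nat.choose_one_right]
  have hI : Groth.Agent.L13.HilbPn.tI k n 1 (n - 1) = Ideal.span ({f : MvPolynomial (Fin (n + 1)) k | ∃ i : Fin (n + 1), i.val + 1 ≤ n ∧ f = MvPolynomial.X 0 * MvPolynomial.X i} ∪ {f : MvPolynomial (Fin (n + 1)) k | ∃ i : Fin (n + 1), 1 ≤ i.val ∧ i.val ≤ n - 1 ∧ f = MvPolynomial.X 1 * MvPolynomial.X i}) := by
    simp only [Groth.Agent.L13.HilbPn.tI, pow_one]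
  rw [hI] at h
  omega

end Groth.Agent.S13449
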