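import Groth.Statements.S13451
import Groth.Agent.L13.HilbPn.Comb

set_option autoImplicit false
universe u
open W4c1hilbpn

namespace Groth.Agent.S13451

open W4c1hilbpn in
section
open MvPolynomial W4c1hilbpn Groth.Agent.L13.HilbPn

variable {σ : Type} [Fintype σ] [DecidableEq σ] {k : Type u} [Field k]
  {I : Ideal (MvPolynomial σ k)}

private def pU (x : σ) : σ → ℤ := fun l => if l = x then 1 else 0

private lemma pU_sum (x : σ) : ∑ l, pU x l = 1 := by simp [pU]

private lemma pU_inj {x m x' m' : σ} (hne : x ≠ m) (e : pU m - pU x = pU m' - pU x') : x = x' ∧ m = m' := by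
  have e1 := congrFun e x
  have e2 := congrFun e m
  simp only [Pi.sub_apply, pU] at e1 e2
  simp only [if_true, hne, hne.symm, if_false] at e1 e2
  constructor <;> by_contra h <;> split_ifs at e1 e2 <;> simp_all

variable {A B : Finset σ} (T : Gens I (↥A × ↥B))
  (hg : ∀ p, T.g p = Finsupp.single p.1.1 1 + Finsupp.single p.2.1 1) (hdisj : ∀ x ∈ A, x ∉ B)

include hg in
private lemma pTgt (α : σ → ℤ) (p : ↥A × ↥B) (l : σ) :
    tgtPt T α p l = pU p.1.1 l + pU p.2.1 l + α l := by
  simp only [tgtPt, hg, Groth.Agent.L13.HilbPn.cast, Pi.add_apply, Finsupp.add_apply,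
    Finsupp.single_apply, pU, eq_comm (a := l)]
  push_cast
  split_ifs <;> rfl

include hg hdisj in
private lemma pGood {γ : σ → ℤ} :
    Good I γ ↔ (∀ l, 0 ≤ γ l) ∧ ((∀ a ∈ A, γ a = 0) ∨ ∀ b ∈ B, γ b = 0) := by
  rw [good_iff_gens T]
  refine and_congr_right fun h0 => ⟨fun h => ?_, fun h p => ?_⟩
  · by_contra hne
    push Not at hne
    obtain ⟨⟨a, ha, ha'⟩, b, hb, hb'⟩ := hne
    obtain ⟨l, hl⟩ := h (⟨a, ha⟩, ⟨b, hb⟩)
    have hab : a ≠ b := fun e => hdisj a ha (e ▸ hb)
    have := h0 l; have := h0 a; have := h0 b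
    simp only [hg, Finsupp.add_apply, Finsupp.single_apply] at hl
    split_ifs at hl with e1 e2 e2
    · exact hab (e1.trans e2.symm)
    · subst e1; simp at hl; omega
    · subst e2; simp at hl; omega
    · simp at hl; omega
  · have hab : (p.1 : σ) ≠ p.2 := fun e => hdisj _ p.1.2 (e ▸ p.2.2)
    rcases h with h | h
    · exact ⟨p.1, by simp [h _ p.1.2, hg, Finsupp.single_apply, hab.symm]⟩
    · exact ⟨p.2, by simp [h _ p.2.2, hg, Finsupp.single_apply, hab]⟩

include hg hdisj in
private lemma pSide (hB : 2 ≤ B.card) {α : σ → ℤ} {v : ↥A × ↥B → k} (hα : ∑ l, α l = 0)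
    (hv : Valid T α v) (b0 : ↥B) (hrep : ∀ a : ↥A, ∀ m ∉ A, α = pU m - pU a.1 → v (a, b0) = 0)
    (p : ↥A × ↥B) (hA0 : ∀ a ∈ A, tgtPt T α p a = 0) : v p = 0 := by
  by_cases hgd : Good I (tgtPt T α p)
  swap
  · exact hv.1 p hgd
  have hnn := hgd.1
  obtain ⟨a, b⟩ := p
  have same : ∀ b' : ↥B, v (a, b) = v (a, b') := fun b' => by
    refine hv.2 _ _ ((pGood T hg hdisj).mpr ⟨fun l => le_max_of_le_left (hnn l), Or.inl fun x hx => ?_⟩)
    have h1 := hA0 x hx
    have e : tgtPt T α (a, b') x = tgtPt T α (a, b) x := by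
      simp only [pTgt T hg, pU, show x ≠ b'.1 from fun e => hdisj x hx (e ▸ b'.2),
        show x ≠ b.1 from fun e => hdisj x hx (e ▸ b.2)]
    rw [e, h1, max_self]
  rcases le_or_gt 1 (tgtPt T α (a, b) b.1) with hb | hb
  · have hD0 : ∀ l, 0 ≤ tgtPt T α (a, b) l - pU b.1 l := fun l => by
      have := hnn l
      simp only [pU]; split_ifs with e
      · subst e; omega
      · omega
    have hDs : ∑ l, (tgtPt T α (a, b) l - pU b.1 l) = 1 := by
      simp only [Finset.sum_sub_distrib, pTgt T hg, Finset.sum_add_distrib, pU_sum, hα]; norm_num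
    obtain ⟨m, hm⟩ : ∃ m, tgtPt T α (a, b) m - pU b.1 m ≠ 0 := by
      by_contra h; push Not at h; simp [h] at hDs
    have hDm : ∀ l, tgtPt T α (a, b) l - pU b.1 l = pU m l := fun l => by
      have hle := Finset.single_le_sum (f := fun l => tgtPt T α (a, b) l - pU b.1 l)
        (fun j _ => hD0 j) (Finset.mem_univ m)
      have := hD0 m
      simp only [pU] at hle hm this ⊢
      by_cases e : l = m
      · subst e; simp only [pU] at hDs; rw [if_pos rfl]; omega
      · have h2 := Finset.add_le_sum (f := fun l => tgtPt T α (a, b) l - pU b.1 l)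
          (fun j _ => hD0 j) (Finset.mem_univ l) (Finset.mem_univ m) e
        have := hD0 l
        simp only [pU] at h2 hDs this
        rw [if_neg e]; omega
    refine (same b0).trans (hrep a m (fun hmA => hm ?_) (funext fun l => ?_))
    · have hmb : m ≠ b.1 := fun e => hdisj m hmA (e ▸ b.2)
      simp [hA0 m hmA, pU, hmb]
    · have := hDm l
      simp only [pTgt T hg, Pi.sub_apply] at this ⊢
      omega
  · obtain ⟨b', hb', hne⟩ := Finset.exists_mem_ne hB b.1
    refine (same ⟨b', hb'⟩).trans (hv.1 _ fun h => ?_)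
    have h1 := h.1 b.1
    have hab : b.1 ≠ a.1 := fun e => hdisj a.1 a.2 (e ▸ b.2)
    simp only [pTgt T hg, pU] at h1 hb
    simp only [if_true, hab, Ne.symm hne, if_false] at h1 hb
    omega

include hg hdisj in
private theorem pCount (hA : 2 ≤ A.card) (hB : 2 ≤ B.card) :
    Module.finrank k ↥(⨆ α : {α : σ → ℤ // ∑ l, α l = 0}, tPiece I α.1) =
      A.card * (Fintype.card σ - A.card) + B.card * (Fintype.card σ - B.card) := by
  classical
  let S : Finset (σ × σ) := (A ×ˢ Aᶜ) ∪ (B ×ˢ Bᶜ)
  have hcard : Fintype.card ↥S = A.card * (Fintype.card σ - A.card) + B.card * (Fintype.card σ - B.card) := by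
    rw [Fintype.card_coe, Finset.card_union_of_disjoint, Finset.card_product, Finset.card_product,
      Finset.card_compl, Finset.card_compl]
    rw [Finset.disjoint_left]
    exact fun p hp hq => hdisj _ (Finset.mem_product.mp hp).1 (Finset.mem_product.mp hq).1
  rw [← hcard]
  obtain ⟨a0, ha0⟩ := Finset.card_pos.mp (show 0 < A.card by omega)
  obtain ⟨b0, hb0⟩ := Finset.card_pos.mp (show 0 < B.card by omega)
  have mem : ∀ r : ↥S, (r.1.1 ∈ A ∧ r.1.2 ∉ A) ∨ (r.1.1 ∈ B ∧ r.1.2 ∉ B) := fun r => by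
    simpa only [S, Finset.mem_union, Finset.mem_product, Finset.mem_compl] using r.2
  have ne : ∀ r : ↥S, r.1.1 ≠ r.1.2 := fun r e => by
    rcases mem r with h | h <;> exact h.2 (e ▸ h.1)
  let ve : ↥S → ↥A × ↥B := fun r => if h : r.1.1 ∈ A then (⟨r.1.1, h⟩, ⟨b0, hb0⟩)
    else (⟨a0, ha0⟩, ⟨r.1.1, ((mem r).resolve_left fun h' => h h'.1).1⟩)
  have alinj : ∀ r r' : ↥S, pU r.1.2 - pU r.1.1 = pU r'.1.2 - pU r'.1.1 → r = r' := fun r r' e =>
    Subtype.ext (Prod.ext (pU_inj (ne r) e).1 (pU_inj (ne r) e).2)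
  refine finrank_hom0_eq T (fun r : ↥S => pU r.1.2 - pU r.1.1) ve (fun r => ?_) ?_ ?_ ?_
  · simp [Finset.sum_sub_distrib, pU_sum]
  · exact fun r r' e => alinj r r' (congrArg Prod.fst e)
  · intro α v hα hv hz p
    by_cases hgd : Good I (tgtPt T α p)
    swap
    · exact hv.1 p hgd
    rcases ((pGood T hg hdisj).mp hgd).2 with h | h
    · refine pSide T hg hdisj hB hα hv ⟨b0, hb0⟩ (fun a m hm e => ?_) p h
      have := hz ⟨(a.1, m), by simp [S, hm, a.2]⟩ e.symm
      simpa only [ve, dif_pos a.2] using this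
    · let T' : Gens I (↥B × ↥A) := ⟨fun q => T.g q.swap, T.mono, fun β => by
        rw [T.exps_iff β]
        exact ⟨fun ⟨q, hq⟩ => ⟨q.swap, by simpa using hq⟩, fun ⟨q, hq⟩ => ⟨q.swap, hq⟩⟩⟩
      have hg' : ∀ q, T'.g q = Finsupp.single q.1.1 1 + Finsupp.single q.2.1 1 := fun q => by
        show T.g q.swap = _
        rw [hg, add_comm]; rfl
      have et : ∀ q, tgtPt T' α q = tgtPt T α q.swap := fun q => rfl
      refine pSide T' hg' (fun x hx hx' => hdisj x hx' hx) hA hα (v := fun q => v q.swap)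
        ⟨fun q hq => hv.1 q.swap hq, fun q q' hq => hv.2 q.swap q'.swap hq⟩ ⟨a0, ha0⟩ (fun b m hm e => ?_) p.swap
        (by simpa only [et, Prod.swap_swap] using h)
      have := hz ⟨(b.1, m), by simp [S, hm, b.2]⟩ e.symm
      simpa [ve, Prod.swap, show b.1 ∉ A from fun h' => hdisj _ h' b.2] using this
  · intro r
    refine (fun ⟨v, hv, h1⟩ => ⟨v, hv, h1, fun r' e hne => absurd (alinj r' r e) hne⟩ :
      (∃ v, Valid T (pU r.1.2 - pU r.1.1) v ∧ v (ve r) = (1:k)) → _) ?_
    obtain ⟨⟨x, m⟩, hr⟩ := r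
    have hxm : x ≠ m := ne ⟨(x, m), hr⟩
    by_cases hxA : x ∈ A
    · have hm : m ∉ A := ((mem ⟨(x, m), hr⟩).resolve_right fun h => hdisj x hxA h.1).2
      refine ⟨fun p => if p.1.1 = x then 1 else 0, ⟨fun p hp => if_neg fun e => hp ?_, fun p q hpq => ?_⟩,
        by simp [ve, hxA]⟩
      · refine (pGood T hg hdisj).mpr ⟨fun l => ?_, Or.inl fun a ha => ?_⟩
        · simp only [pTgt T hg, Pi.sub_apply, pU, e]; split_ifs <;> omega
        · have : a ≠ p.2.1 := fun e' => hdisj a ha (e' ▸ p.2.2)
          have : a ≠ m := fun e' => hm (e' ▸ ha)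
          simp only [pTgt T hg, Pi.sub_apply, pU, e]; split_ifs <;> omega
      · have key : ∀ p q : ↥A × ↥B, p.1.1 = x → q.1.1 ≠ x → ¬ Good I (fun l =>
            max (tgtPt T (pU m - pU x) p l) (tgtPt T (pU m - pU x) q l)) := by
          intro p q hp hq hG
          rcases ((pGood T hg hdisj).mp hG).2 with h | h
          · have := h q.1.1 q.1.2
            simp only [pTgt T hg, Pi.sub_apply, pU, hp, hq, if_true, if_false] at this
            split_ifs at this <;> omega
          · have := h p.2.1 p.2.2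
            have hne : p.2.1 ≠ x := fun e => hdisj x hxA (e ▸ p.2.2)
            simp only [pTgt T hg, Pi.sub_apply, pU, hp, hne, if_true, if_false] at this
            split_ifs at this <;> omega
        by_cases hp : p.1.1 = x <;> by_cases hq : q.1.1 = x
        · simp [hp, hq]
        · exact absurd hpq (key p q hp hq)
        · exact absurd (by simpa only [max_comm] using hpq) (key q p hq hp)
        · simp [hp, hq]
    · obtain ⟨hxB, hm⟩ : x ∈ B ∧ m ∉ B := (mem ⟨(x, m), hr⟩).resolve_left fun h => hxA h.1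
      refine ⟨fun p => if p.2.1 = x then 1 else 0, ⟨fun p hp => if_neg fun e => hp ?_, fun p q hpq => ?_⟩,
        by simp [ve, hxA]⟩
      · refine (pGood T hg hdisj).mpr ⟨fun l => ?_, Or.inr fun a ha => ?_⟩
        · simp only [pTgt T hg, Pi.sub_apply, pU, e]; split_ifs <;> omega
        · have : a ≠ p.1.1 := fun e' => hdisj _ p.1.2 (e' ▸ ha)
          have : a ≠ m := fun e' => hm (e' ▸ ha)
          simp only [pTgt T hg, Pi.sub_apply, pU, e]; split_ifs <;> first | omega | simp_all
      · have key : ∀ p q : ↥A × ↥B, p.2.1 = x → q.2.1 ≠ x → ¬ Good I (fun l =>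
            max (tgtPt T (pU m - pU x) p l) (tgtPt T (pU m - pU x) q l)) := by
          intro p q hp hq hG
          rcases ((pGood T hg hdisj).mp hG).2 with h | h
          · have := h p.1.1 p.1.2
            have hne : p.1.1 ≠ x := fun e => hxA (e ▸ p.1.2)
            simp only [pTgt T hg, Pi.sub_apply, pU, hp, hne, if_true, if_false] at this
            split_ifs at this <;> omega
          · have := h q.2.1 q.2.2
            simp only [pTgt T hg, Pi.sub_apply, pU, hp, hq, if_true, if_false] at this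
            split_ifs at this <;> omega
        by_cases hp : p.2.1 = x <;> by_cases hq : q.2.1 = x
        · simp [hp, hq]
        · exact absurd hpq (key p q hp hq)
        · exact absurd (by simpa only [max_comm] using hpq) (key q p hq hp)
        · simp [hp, hq]

end


/-- Let k be an algebraically closed field of characteristic different from 2, S = k[x_0, ..., x_n] with
its standard grading, 2 ≤ c ≤ d with n ≥ c + d, and I = (x_0, ..., x_{c-1})·(x_{n-d+1}, ..., x_n),
the ideal of the union of two coordinate linear spaces of codimensions c and d meeting transversely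
and not spanning the ambient space. Then the degree-0 homomorphisms Hom_S(I, S/I)_0 form a space of
dimension c(n-c+1) + d(n-d+1). (The published statement gives this number as the dimension of the
tangent space to the Hilbert scheme at the pair of planes, for every n; the row records the count of
degree-0 homomorphisms in the non-spanning range n ≥ c + d, where that tangent space is Hom_S(I,
S/I)_0.) -/
theorem result (k : Type u) [Field k] [IsAlgClosed k] (hchar : ringChar k ≠ 2)
    (n c d : ℕ) (hc : 2 ≤ c) (hcd : c ≤ d) (hn : c + d ≤ n) :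
    Module.finrank k ↥(⨆ α : {α : Fin (n + 1) → ℤ // ∑ i, α i = 0},
      tPiece (Ideal.span {f : MvPolynomial (Fin (n + 1)) k | ∃ i j : Fin (n + 1), i.val + 1 ≤ c ∧ n + 1 ≤ j.val + d ∧
        f = MvPolynomial.X i * MvPolynomial.X j}) α.1) = c * (n - c + 1) + d * (n - d + 1) := by
  classical
  let A : Finset (Fin (n + 1)) := Finset.univ.filter fun i => i.val + 1 ≤ c
  let B : Finset (Fin (n + 1)) := Finset.univ.filter fun i => n + 1 ≤ i.val + d
  have hA : A.card = c := Finset.card_eq_of_bijective (fun i h => ⟨i, by omega⟩)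
    (fun a ha => ⟨a.1, by simp [A] at ha; omega, by simp⟩)
    (fun i h => by simp [A]; omega) (fun i j hi hj e => by simpa using e)
  have hB : B.card = d := Finset.card_eq_of_bijective (fun i h => ⟨i + (n + 1 - d), by omega⟩)
    (fun a ha => ⟨a.1 - (n + 1 - d), by simp [B] at ha; omega, Fin.ext (by simp [B] at ha ⊢; omega)⟩)
    (fun i h => by simp [B]; omega) (fun i j hi hj e => by simpa using e)
  let T := Groth.Agent.L13.HilbPn.gensOfSpan (k := k)
    (I := Ideal.span {f : MvPolynomial (Fin (n + 1)) k | ∃ i j : Fin (n + 1), i.val + 1 ≤ c ∧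
      n + 1 ≤ j.val + d ∧ f = MvPolynomial.X i * MvPolynomial.X j})
    (fun p : ↥A × ↥B => Finsupp.single p.1.1 1 + Finsupp.single p.2.1 1) (by
      congr 1
      ext f
      constructor
      · rintro ⟨i, j, hi, hj, rfl⟩
        exact ⟨_, ⟨(⟨i, by simp [A]; omega⟩, ⟨j, by simp [B]; omega⟩), rfl⟩, by simp [MvPolynomial.X, MvPolynomial.monomial_mul]⟩
      · rintro ⟨_, ⟨⟨⟨i, hi⟩, ⟨j, hj⟩⟩, rfl⟩, rfl⟩
        simp [A, B] at hi hj
        exact ⟨i, j, by omega, by omega, by simp [MvPolynomial.X, MvPolynomial.monomial_mul]⟩)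
  rw [pCount T (fun p => rfl) (fun x hx hx' => by simp [A, B] at hx hx'; omega) (by omega) (by omega),
    hA, hB, Fintype.card_fin, Nat.sub_add_comm (by omega : c ≤ n), Nat.sub_add_comm (by omega : d ≤ n)]

end Groth.Agent.S13451
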