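import Groth.Statements.S13453
import Groth.Agent.L13.HilbPn.Slice

set_option autoImplicit false
universe u
open W4c1hilbpn

namespace Groth.Agent.S13453

open W4c1hilbpn in
/-- Let k be an infinite field, S = k[x,y,z] with variables ordered x > y > z, and I a strongly stable
ideal of finite colength; write I_i for the ideal of polynomials f in k[y,z] with x^i f in I (so I
is the direct sum of the x^i I_i). Then each I_i is a strongly stable ideal of k[y,z] (with y > z)
and the ideal quotient (I_i : y) is contained in I_{i+1}. -/
theorem result (k : Type u) [Field k] [Infinite k]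
    (I : Ideal (MvPolynomial (Fin 3) k)) (hI : IsStronglyStable I) [Module.Finite k (MvPolynomial (Fin 3) k ⧸ I)] (i : ℕ) :
    IsStronglyStable (sliceX I i) ∧
      (sliceX I i).colon {(MvPolynomial.X 0 : MvPolynomial (Fin 2) k)} ≤ sliceX I (i + 1) := by
  exact Groth.Agent.L13.HilbPn.slice_stable hI i

end Groth.Agent.S13453
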