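import Groth.Statements.S13455
import Mathlib.RingTheory.MvPolynomial.Ideal

set_option autoImplicit false
universe u
open W4c1hilbpn

namespace Groth.Agent.S13455

/-- Let k be an algebraically closed field of characteristic different from 2, k0 ≥ 1 and n ≥ 2k0 - 1
natural numbers, S = k[x_0, ..., x_n], and e1 ≤ e2 ≤ k0 - 1. The ideal generated by all products x_p
x_q with e1 ≤ p, q ≤ e2 together with the products x_p x_{n-k0+1+q} for e1 ≤ p < q ≤ e2 is the
intersection, over j from e1 to e2, of the ideals generated by the variables x_i with e1 ≤ i ≤ e2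
and i ≠ j, the square x_j^2, and the variables x_{n-k0+1+q} for j < q ≤ e2 (a primary decomposition
of this monomial ideal). -/
theorem result (k : Type u) [Field k] [IsAlgClosed k] (hchar : ringChar k ≠ 2)
    (n k0 e1 e2 : ℕ) (hk : 1 ≤ k0) (hn : 2 * k0 ≤ n + 1) (he : e1 ≤ e2) (he2 : e2 + 1 ≤ k0) :
    Ideal.span ({f : MvPolynomial (Fin (n + 1)) k | ∃ p q : Fin (n + 1), e1 ≤ p.val ∧ p.val ≤ e2 ∧ e1 ≤ q.val ∧ q.val ≤ e2 ∧
        f = MvPolynomial.X p * MvPolynomial.X q} ∪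
      {f : MvPolynomial (Fin (n + 1)) k | ∃ p q m : Fin (n + 1), e1 ≤ p.val ∧ p.val < q.val ∧ q.val ≤ e2 ∧
        m.val + k0 = n + 1 + q.val ∧ f = MvPolynomial.X p * MvPolynomial.X m}) =
    ⨅ j : Fin (n + 1), ⨅ (_ : e1 ≤ j.val ∧ j.val ≤ e2),
      Ideal.span ({f : MvPolynomial (Fin (n + 1)) k | ∃ i : Fin (n + 1), e1 ≤ i.val ∧ i.val ≤ e2 ∧ i ≠ j ∧ f = MvPolynomial.X i} ∪
        {MvPolynomial.X j ^ 2} ∪
        {f : MvPolynomial (Fin (n + 1)) k | ∃ q m : Fin (n + 1), j.val < q.val ∧ q.val ≤ e2 ∧ m.val + k0 = n + 1 + q.val ∧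
          f = MvPolynomial.X m}) := by
  classical
  have hX : ∀ i : Fin (n + 1), (MvPolynomial.X i : MvPolynomial (Fin (n + 1)) k) =
      MvPolynomial.monomial (Finsupp.single i 1) 1 := fun i => rfl
  set G : Set (Fin (n + 1) →₀ ℕ) :=
    {s | ∃ p q : Fin (n + 1), e1 ≤ p.val ∧ p.val ≤ e2 ∧ e1 ≤ q.val ∧ q.val ≤ e2 ∧
        s = Finsupp.single p 1 + Finsupp.single q 1} ∪
      {s | ∃ p q m : Fin (n + 1), e1 ≤ p.val ∧ p.val < q.val ∧ q.val ≤ e2 ∧
        m.val + k0 = n + 1 + q.val ∧ s = Finsupp.single p 1 + Finsupp.single m 1} with hG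
  set H : Fin (n + 1) → Set (Fin (n + 1) →₀ ℕ) := fun j =>
    {s | ∃ i : Fin (n + 1), e1 ≤ i.val ∧ i.val ≤ e2 ∧ i ≠ j ∧ s = Finsupp.single i 1} ∪
      {Finsupp.single j 2} ∪
      {s | ∃ q m : Fin (n + 1), j.val < q.val ∧ q.val ≤ e2 ∧ m.val + k0 = n + 1 + q.val ∧
        s = Finsupp.single m 1} with hH
  have hG' : ({f : MvPolynomial (Fin (n + 1)) k | ∃ p q : Fin (n + 1), e1 ≤ p.val ∧ p.val ≤ e2 ∧ e1 ≤ q.val ∧ q.val ≤ e2 ∧
        f = MvPolynomial.X p * MvPolynomial.X q} ∪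
      {f : MvPolynomial (Fin (n + 1)) k | ∃ p q m : Fin (n + 1), e1 ≤ p.val ∧ p.val < q.val ∧ q.val ≤ e2 ∧
        m.val + k0 = n + 1 + q.val ∧ f = MvPolynomial.X p * MvPolynomial.X m}) =
      (fun s => MvPolynomial.monomial s (1 : k)) '' G := by
    rw [hG, Set.image_union]
    congr 1 <;>
      · ext f
        simp only [Set.mem_image, Set.mem_setOf_eq, hX, MvPolynomial.monomial_mul, mul_one]
        aesop
  have hH' : ∀ j : Fin (n + 1), ({f : MvPolynomial (Fin (n + 1)) k | ∃ i : Fin (n + 1), e1 ≤ i.val ∧ i.val ≤ e2 ∧ i ≠ j ∧ f = MvPolynomial.X i} ∪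
        {MvPolynomial.X j ^ 2} ∪
        {f : MvPolynomial (Fin (n + 1)) k | ∃ q m : Fin (n + 1), j.val < q.val ∧ q.val ≤ e2 ∧ m.val + k0 = n + 1 + q.val ∧
          f = MvPolynomial.X m}) = (fun s => MvPolynomial.monomial s (1 : k)) '' H j := by
    intro j
    simp only [hH, Set.image_union, Set.image_singleton, MvPolynomial.X_pow_eq_monomial]
    congr 1
    · congr 1
      ext f
      simp only [Set.mem_image, Set.mem_setOf_eq, hX]
      aesop
    · ext f
      simp only [Set.mem_image, Set.mem_setOf_eq, hX]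
      aesop
  have hle2 : ∀ (p q : Fin (n + 1)) (d : Fin (n + 1) →₀ ℕ), 1 ≤ d p → 1 ≤ d q → (p = q → 2 ≤ d p) →
      Finsupp.single p 1 + Finsupp.single q 1 ≤ d := by
    intro p q d hp hq hpq x
    simp only [Finsupp.add_apply, Finsupp.single_apply]
    split_ifs with h1 h2
    · subst h1; subst h2; exact hpq rfl
    · subst h1; omega
    · subst ‹q = x›; omega
    · omega
  have key : ∀ d : Fin (n + 1) →₀ ℕ, (∃ s ∈ G, s ≤ d) ↔
      ∀ j : Fin (n + 1), e1 ≤ j.val ∧ j.val ≤ e2 → ∃ s ∈ H j, s ≤ d := by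
    intro d
    constructor
    · rintro ⟨s, hs, hsd⟩ j hj
      rcases hs with ⟨p, q, hp1, hp2, hq1, hq2, rfl⟩ | ⟨p, q, m, hp1, hpq, hq, hm, rfl⟩
      · by_cases hpj : p = j
        · by_cases hqj : q = j
          · refine ⟨_, Or.inl (Or.inr rfl), ?_⟩
            rw [hpj, hqj, ← Finsupp.single_add] at hsd
            exact hsd
          · exact ⟨_, Or.inl (Or.inl ⟨q, hq1, hq2, hqj, rfl⟩), (self_le_add_left _ _).trans hsd⟩
        · exact ⟨_, Or.inl (Or.inl ⟨p, hp1, hp2, hpj, rfl⟩), (self_le_add_right _ _).trans hsd⟩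
      · by_cases hpj : p = j
        · exact ⟨_, Or.inr ⟨q, m, hpj ▸ hpq, hq, hm, rfl⟩, (self_le_add_left _ _).trans hsd⟩
        · exact ⟨_, Or.inl (Or.inl ⟨p, hp1, (hpq.le.trans hq), hpj, rfl⟩), (self_le_add_right _ _).trans hsd⟩
    · intro h
      by_cases hA : ∃ p : Fin (n + 1), (e1 ≤ p.val ∧ p.val ≤ e2) ∧ 1 ≤ d p
      · obtain ⟨p, hp, hdp⟩ := hA
        obtain ⟨s, hs, hsd⟩ := h p hp
        rcases hs with (⟨i, hi1, hi2, hip, rfl⟩ | hs) | ⟨q, m, hpq, hq, hm, rfl⟩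
        · exact ⟨_, Or.inl ⟨p, i, hp.1, hp.2, hi1, hi2, rfl⟩,
            hle2 p i d hdp (Finsupp.single_le_iff.1 hsd) fun e => (hip e.symm).elim⟩
        · rw [Set.mem_singleton_iff] at hs
          subst hs
          exact ⟨_, Or.inl ⟨p, p, hp.1, hp.2, hp.1, hp.2, rfl⟩,
            hle2 p p d hdp hdp fun _ => Finsupp.single_le_iff.1 hsd⟩
        · refine ⟨_, Or.inr ⟨p, q, m, hp.1, hpq, hq, hm, rfl⟩,
            hle2 p m d hdp (Finsupp.single_le_iff.1 hsd) fun e => ?_⟩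
          have := hp.2
          subst e
          omega
      · exfalso
        push_neg at hA
        obtain ⟨s, hs, hsd⟩ := h ⟨e2, by omega⟩ ⟨he, le_rfl⟩
        rcases hs with (⟨i, hi1, hi2, hip, rfl⟩ | hs) | ⟨q, m, hpq, hq, hm, rfl⟩
        · have := hA i ⟨hi1, hi2⟩
          have := Finsupp.single_le_iff.1 hsd
          omega
        · rw [Set.mem_singleton_iff] at hs
          subst hs
          have := hA ⟨e2, by omega⟩ ⟨he, le_rfl⟩
          have := Finsupp.single_le_iff.1 hsd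
          omega
        · simp only at hpq
          omega
  ext f
  simp only [Submodule.mem_iInf, hG', hH', MvPolynomial.mem_ideal_span_monomial_image, key]
  exact ⟨fun h j hj d hd => h d hd j hj, fun h d hd j hj => h j hj d hd⟩

end Groth.Agent.S13455
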