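import Groth.Statements.S13456
import Groth.Agent.L13.Fitting.Strata

set_option autoImplicit false
universe u
open W4c1hilbpn

namespace Groth.Agent.S13456

open TensorProduct in
/-- Let A be a Noetherian ring, R a finitely generated graded A-algebra (graded by the integers), M a
finitely generated graded R-module and h a function from the integers to the natural numbers. Then
the functor sending an A-algebra B to the condition 'every graded piece of M ⊗_A B is a finitely
generated locally free B-module of rank h(v)' is represented by a locally closed subscheme of Spec
A: there are ideals a and b of A such that, for every A-algebra B, all B ⊗_A M_v are finitely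
generated projective of constant rank h(v) if and only if a generates the zero ideal of B and b
generates the unit ideal of B. (The graded pieces M_v are assumed finitely generated over A, as they
are when R is positively graded with degree-zero part finite over A; the published setup allows any
finitely generated graded algebra, where graded pieces need not be finitely generated over A. Test
algebras B range over one universe.) -/
theorem result
    (A : Type u) [CommRing A] [IsNoetherianRing A]
    (R : Type u) [CommRing R] [Algebra A R] [Algebra.FiniteType A R]
    (𝒜 : ℤ → Submodule A R) [GradedAlgebra 𝒜]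
    (M : Type u) [AddCommGroup M] [Module A M] [Module R M] [IsScalarTower A R M] [Module.Finite R M]
    (ℳ : ℤ → Submodule A M) [DirectSum.Decomposition ℳ] [SetLike.GradedSMul 𝒜 ℳ]
    (hfg : ∀ v : ℤ, Module.Finite A ↥(ℳ v)) (h : ℤ → ℕ) :
    ∃ a b : Ideal A, ∀ (B : Type u) [CommRing B] [Algebra A B],
      ((∀ v : ℤ, Module.Finite B (B ⊗[A] ↥(ℳ v)) ∧ Module.Projective B (B ⊗[A] ↥(ℳ v)) ∧
          ∀ p : PrimeSpectrum B, Module.rankAtStalk (B ⊗[A] ↥(ℳ v)) p = h v) ↔
        (Ideal.map (algebraMap A B) a = ⊥ ∧ Ideal.map (algebraMap A B) b = ⊤)) := by
  haveI := hfg
  obtain ⟨a, b, hab⟩ := Groth.L13.Fitting.exists_stratum R ℳ h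
  exact ⟨a, b, hab⟩

end Groth.Agent.S13456
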