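import Groth.Statements.S13459
import Groth.Agent.L03.SurfNum.CurveDegree
import Groth.Agent.L22.EnrSev.Basic
import Groth.Agent.L22.PDual.LocFreeLow
import Groth.Agent.L29.DCoh.PullTensor
import Groth.Agent.L18.AmplePull
-- import your own Groth.Agent.* helpers here

set_option autoImplicit false
universe u
open CategoryTheory CategoryTheory.Limits AlgebraicGeometry
open Surf

namespace Groth.Agent.S13459

open Groth.L22.Inter Groth.L22.Nef Groth.L22.Big Groth.L03.Euler
open Groth.L00.Tensor (tensorUnitLeft tensorUnitRight)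

/-- Let k be a field and S an integral surface (dimension two) which is smooth over k and projective (a
closed immersion into some P^n_k over k). Let i : C → S be the closed immersion of an integral curve
(dimension one) all of whose local rings are regular, with ideal sheaf I ⊆ O_S, and let L be an
invertible O_S-module with an inverse L' (L ⊗ L' ≅ O_S). Then the intersection number of O_S(C) with
L, namely the alternating sum χ(O_S) − χ(I) − χ(L') + χ(I ⊗ L') formed with the inverses I = O_S(−C)
and L' (packaged as FGA.intNum), equals the degree of the restriction of L to C, the degree of a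
module M on C being χ(M) − χ(O_C). -/
theorem result (k : Type u) [Field k] (S : Scheme.{u}) [S.Over (Spec (CommRingCat.of k))]
    [IsIntegral S] (hdim : topologicalKrullDim S = 2) [Smooth (S ↘ (Spec (CommRingCat.of k)))]
    (hproj : ∃ (n : ℕ) (ι : S ⟶ CohB1.ProjSpace n k), IsClosedImmersion ι ∧ ι ≫ CohB1.ProjSpace.toSpec n k = (S ↘ (Spec (CommRingCat.of k))))
    (C : Scheme.{u}) (i : C ⟶ S) [IsClosedImmersion i] [IsIntegral C] (hC : topologicalKrullDim C = 1)
    (hCreg : ∀ c : C, IsRegularLocalRing (C.presheaf.stalk c))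
    (L L' : S.Modules) (hL : PicF.IsInvertible L) (hLL' : Nonempty (CohB1.tensorMod L L' ≅ Coh.structureModule S)) :
    letI : C.Over (Spec (CommRingCat.of k)) := ⟨i ≫ (S ↘ (Spec (CommRingCat.of k)))⟩
    FGA.intNum k S 2 ![ClSub.idealMod i.ker, L'] (Coh.structureModule S) =
      Curv2.deg k C ((Scheme.Modules.pullback i).obj L) 1 := by
  obtain ⟨N, ι, hι, hιk⟩ := hproj
  haveI : IsProper (S ↘ (Spec (CommRingCat.of k))) := by
    rw [← hιk]
    haveI := Groth.L16.ProjSpace.isProper_toSpec N k
    infer_instance
  have hd2 : topologicalKrullDim S = (2 : ℕ) := hdim.trans Nat.cast_ofNat.symm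
  have hC1 : topologicalKrullDim C = (1 : ℕ) := hC.trans Nat.cast_one.symm
  have hreg : ∀ x : S, IsRegularLocalRing (S.presheaf.stalk x) :=
    fun x => Groth.L08.Cube.isRegularLocalRing_of_smooth (S ↘ Spec (CommRingCat.of k)) x
  obtain ⟨hI, -⟩ := Groth.L03.SurfNum.CurveDegree.invertible_ker k i hd2 hreg hC1
  obtain ⟨e⟩ := hLL'
  have hL' := Groth.L22.EnrSev.isInvertible_of_inverse hL e
  letI : C.Over (Spec (CommRingCat.of k)) := ⟨i ≫ (S ↘ (Spec (CommRingCat.of k)))⟩
  have h := Groth.L03.SurfNum.CurveDegree.deg_pullback k i hd2 hreg hC1 hL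
  rw [ii_comm, ← Groth.L03.SurfNum.Gram.ii_inverse k hd2.le hL hL' hI e, ii_comm, ← intNum_eq_ii k hd2.le] at h
  exact_mod_cast h.symm

end Groth.Agent.S13459
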