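import Groth.Statements.S13460
import Mathlib.AlgebraicGeometry.OrderOfVanishing
import Mathlib.RingTheory.DiscreteValuationRing.TFAE
import Mathlib.RingTheory.Ideal.UFD

set_option autoImplicit false
universe u
open CategoryTheory CategoryTheory.Limits AlgebraicGeometry

namespace Groth.Agent.S13460

theorem isDVR_of_principal (R : Type u) [CommRing R] [IsDomain R] [IsLocalRing R] [IsNoetherianRing R]
    {ϖ : R} (h : IsLocalRing.maximalIdeal R = Ideal.span {ϖ}) (h0 : ϖ ≠ 0) :
    IsDiscreteValuationRing R ∧ Irreducible ϖ := by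
  have hnf : ¬ IsField R := fun hf => by
    rw [IsLocalRing.isField_iff_maximalIdeal_eq, h, Ideal.span_singleton_eq_bot] at hf
    exact h0 hf
  haveI : IsDiscreteValuationRing R :=
    (((IsDiscreteValuationRing.TFAE R hnf).out 0 4 :
      IsDiscreteValuationRing R ↔ (IsLocalRing.maximalIdeal R).IsPrincipal)).2 ⟨ϖ, h⟩
  exact ⟨inferInstance, (IsDiscreteValuationRing.irreducible_iff_uniformizer ϖ).2 h⟩

/-- Let A be a Noetherian integral domain which is a unique factorization domain, and X = Spec A. Then
the divisor class group of X vanishes: every Weil divisor D on X, an integer-valued function on the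
points of X with finite support inside the points of coheight 1 (codimension one), is the divisor of
a nonzero rational function f on X, i.e. the order of vanishing of f at every point x of coheight 1
is D(x). (The published statement assumes only that A is a unique factorization domain; this row
also assumes A Noetherian.) -/
theorem result (A : Type u) [CommRing A] [IsDomain A] [IsNoetherianRing A]
    [UniqueFactorizationMonoid A]
    (D : ↥(Spec (CommRingCat.of A)) → ℤ) (hD : ∀ x, Order.coheight x ≠ 1 → D x = 0) (hfin : {x | D x ≠ 0}.Finite) :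
    ∃ f : ↑(Spec (CommRingCat.of A)).functionField, f ≠ 0 ∧
      ∀ x : ↥(Spec (CommRingCat.of A)), Order.coheight x = 1 → Scheme.ord f x = D x := by
  classical
  let X := Spec (CommRingCat.of A)
  haveI : IsDomain (CommRingCat.of A) := inferInstanceAs (IsDomain A)
  haveI : IsNoetherianRing (CommRingCat.of A) := inferInstanceAs (IsNoetherianRing A)
  haveI : Nonempty X := inferInstanceAs (Nonempty (PrimeSpectrum A))
  haveI : Nonempty (⊤ : X.Opens) := ⟨⟨Classical.arbitrary X, trivial⟩⟩
  let r : A → X.functionField := fun a =>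
    X.germToFunctionField ⊤ ((Scheme.ΓSpecIso (CommRingCat.of A)).inv a)
  have hr : ∀ (a : A) (x : X), r a = algebraMap (X.presheaf.stalk x) X.functionField
      (X.presheaf.germ ⊤ x trivial ((Scheme.ΓSpecIso (CommRingCat.of A)).inv a)) := fun a x =>
    (Scheme.algebraMap_germ_eq_germToFunctionField (X := X) (U := ⊤) (x := x) trivial _).symm
  have hht : ∀ x : X, Order.coheight x = 1 → x.asIdeal.height = 1 := fun x hx =>
    (idealHeight_eq_coheight (CommRingCat.of A) x).trans hx
  choose! π hπ using fun (x : X) (hx : Order.coheight x = 1) =>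
    (UniqueFactorizationMonoid.isPrincipal_of_height_eq_one (p := x.asIdeal) (hht x hx)).principal
  have hπ0 : ∀ x : X, Order.coheight x = 1 → π x ≠ 0 := fun x hx h0 => by
    have h := hht x hx
    rw [hπ x hx, h0] at h
    simp at h
  have key : ∀ (z : X) (hz : Order.coheight z = 1) (x : X), Order.coheight x = 1 →
      Scheme.ordHom z hz (r (π x)) = WithZero.exp (if z = x then (1 : ℤ) else 0) := fun z hz x hx => by
    let O := (Spec (CommRingCat.of A)).presheaf.stalk z
    letI : Algebra (CommRingCat.of A) O := StructureSheaf.stalkAlgebra (CommRingCat.of A) z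
    haveI : IsLocalization.AtPrime O z.asIdeal := StructureSheaf.IsLocalization.to_stalk (CommRingCat.of A) z
    have hgerm : ∀ a : A, X.presheaf.germ ⊤ z trivial ((Scheme.ΓSpecIso (CommRingCat.of A)).inv a) = algebraMap (CommRingCat.of A) O a := fun a => rfl
    have hm : IsLocalRing.maximalIdeal O = Ideal.span {algebraMap (CommRingCat.of A) O (π z)} := by
      rw [← IsLocalization.AtPrime.map_eq_maximalIdeal z.asIdeal O]
      conv_lhs => rw [hπ z hz]
      exact (Ideal.map_span _ _).trans (by rw [Set.image_singleton])
    have h0 : algebraMap (CommRingCat.of A) O (π z) ≠ 0 :=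
      (map_ne_zero_iff _ (IsLocalization.injective O z.asIdeal.primeCompl_le_nonZeroDivisors)).2 (hπ0 z hz)
    haveI : Ring.KrullDimLE 1 O := AlgebraicGeometry.krullDimLE_of_coheight_le hz.le
    obtain ⟨hdvr, hirr⟩ := isDVR_of_principal O hm h0
    haveI := hdvr
    show Ring.ordFrac O (r (π x)) = _
    rw [hr (π x) z, hgerm]
    by_cases he : z = x
    · subst he
      rw [if_pos rfl]
      exact Ring.ordFrac_irreducible hirr
    · rw [if_neg he, WithZero.exp_zero]
      refine Ring.ordFrac_of_isUnit (IsLocalization.map_units O (⟨π x, fun hmem => he ?_⟩ : z.asIdeal.primeCompl))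
      have hle : x.asIdeal ≤ z.asIdeal := by
        rw [hπ x hx]; exact (Ideal.span_singleton_le_iff_mem _).2 hmem
      rcases hle.lt_or_eq with h | h
      · have h2 := Ideal.height_add_one_le_of_lt_of_isPrime h
        rw [hht x hx, hht z hz] at h2
        norm_num at h2
      · exact (PrimeSpectrum.ext h).symm
  have hr0 : ∀ x : X, Order.coheight x = 1 → r (π x) ≠ 0 := fun x hx h0 => by
    have h := key x hx x hx
    rw [h0, map_zero] at h
    exact WithZero.exp_ne_zero h.symm
  have hco : ∀ x ∈ hfin.toFinset, Order.coheight x = 1 := fun x hx => by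
    by_contra hn
    exact hfin.mem_toFinset.1 hx (hD x hn)
  refine ⟨∏ x ∈ hfin.toFinset, r (π x) ^ D x,
    Finset.prod_ne_zero_iff.2 fun x hx => zpow_ne_zero _ (hr0 x (hco x hx)), fun z hz => ?_⟩
  rw [Scheme.ord_eq_iff hz (Finset.prod_ne_zero_iff.2 fun x hx => zpow_ne_zero _ (hr0 x (hco x hx))), map_prod]
  rw [Finset.prod_congr rfl fun x hx => (map_zpow₀ _ _ _).trans (congrArg (· ^ D x) (key z hz x (hco x hx)))]
  by_cases hz' : z ∈ hfin.toFinset
  · rw [Finset.prod_eq_single_of_mem z hz' fun x _ hne => by rw [if_neg (Ne.symm hne), WithZero.exp_zero, one_zpow]]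
    rw [if_pos rfl, ← WithZero.exp_zsmul, smul_eq_mul, mul_one]
    rfl
  · rw [Finset.prod_eq_one fun x hx => by
      rw [if_neg (fun h : z = x => hz' (h ▸ hx)), WithZero.exp_zero, one_zpow]]
    have : D z = 0 := by
      by_contra h; exact hz' (hfin.mem_toFinset.2 h)
    rw [this]
    rfl

end Groth.Agent.S13460
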