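import Groth.Statements.S13461
import Groth.Agent.L21.Duality.Nondegenerate
import Groth.Agent.L21.Duality.Deg
import Groth.Agent.L03.BlowAcyc.Twists
import Groth.Agent.L21.Disc.SimplyConn

set_option autoImplicit false
set_option backward.isDefEq.respectTransparency false
set_option linter.style.haveILetI false
universe u
open CategoryTheory CategoryTheory.Limits AlgebraicGeometry TopologicalSpace
open Curves

namespace Groth.Agent.S13461

/-- Let k be a field and X a smooth proper geometrically connected curve over k (proper, smooth and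
geometrically connected over k, of dimension one) of genus dim_k H^1(X, O_X) = 4, and let i : X →
P^3_k be a closed immersion over k whose pullback of O(1) is isomorphic to the sheaf of
differentials Ω_{X/k} (X is canonically embedded, hence not hyperelliptic). Then X lies on a quadric
surface: there is a nonzero global section Q of O_{P^3_k}(2) whose pullback along i is the zero
section of i^*O(2). (The published statement goes on to assert that X is the complete intersection
of such a quadric with a cubic surface; this row states only the existence of the quadric.) -/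
theorem result (k : Type u) [Field k] (X : Scheme.{u}) [X.Over (Spec (CommRingCat.of k))]
    [IsProper (X ↘ (Spec (CommRingCat.of k)))] [Smooth (X ↘ (Spec (CommRingCat.of k)))] [GeometricallyConnected (X ↘ (Spec (CommRingCat.of k)))]
    (hdim : topologicalKrullDim X = 1) (hg : Curv2.genus k X = 4)
    (i : X ⟶ CohB1.ProjSpace 3 k) [IsClosedImmersion i] (hi : i ≫ CohB1.ProjSpace.toSpec 3 k = X ↘ (Spec (CommRingCat.of k)))
    (hcan : Nonempty ((Scheme.Modules.pullback i).obj (Twist.twistProjSpace 3 k 1) ≅ Omega.sheaf (X ↘ (Spec (CommRingCat.of k))))) :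
    ∃ Q : Γ(Twist.twistProjSpace 3 k 2, ⊤), Q ≠ 0 ∧
      OmegaSh.pullSect i (Twist.twistProjSpace 3 k 2) ⊤ Q = 0 := by
  let j : X ⟶ Spec (CommRingCat.of k) := X ↘ (Spec (CommRingCat.of k))
  haveI : GeometricallyIntegral j := Groth.L21.Disc.geometricallyIntegral_of_smooth j
  haveI : IsIntegral X := GeometricallyIntegral.isIntegral_of_subsingleton j
  haveI := Groth.L21.RR.isNoetherian_of_proper (X := X) k
  haveI : GeometricallyIntegral (X ↘ Spec (CommRingCat.of k)) := Groth.L21.Disc.geometricallyIntegral_of_smooth j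
  have h0 := Groth.L21.RR.h0_eq_one_of_geometricallyIntegral (X := X) k hdim
  have hg' : Groth.L21.RR.h k 1 (Coh.structureModule X) = 4 := hg
  obtain ⟨e1⟩ := hcan
  have hΩ : PicF.IsInvertible (Omega.sheaf (X ↘ Spec (CommRingCat.of k))) :=
    Groth.L21.Duality.isInvertible_omega (k := k) hdim
  obtain ⟨t⟩ := Groth.L16.ProjTwist.nonempty_tensor_twist_iso_one (CohB1.polyGrading 3 k)
    (Groth.L03.BlowAcyc.cover_deg_one 3 k) 1 1
  let T := Twist.twistProjSpace 3 k ((2 : ℕ) : ℤ)
  let M := (Scheme.Modules.pullback i).obj T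
  let eM : M ≅ CohB1.tensorMod (Omega.sheaf (X ↘ Spec (CommRingCat.of k))) (Omega.sheaf (X ↘ Spec (CommRingCat.of k))) :=
    (Scheme.Modules.pullback i).mapIso t.symm ≪≫ (Groth.L29.DC.PullTensor.pullTensor i _ _).symm ≪≫
      Groth.L00.Tensor.tensorIso e1 e1
  have hMi : PicF.IsInvertible M :=
    Groth.L18.Ample.isInvertible_pullback i (Groth.L16.ProjTwist.isInvertible_twistProjSpace 3 k _)
  have hdeg : Curv2.deg k X M 1 = 12 := by
    rw [Groth.L21.RR.deg_congr k eM 1, Groth.L21.Duality.deg_tensor hdim hΩ hΩ,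
      (Groth.L21.Duality.omega_invariants (k := k) hdim).2.2 h0, hg]
    norm_num
  have h1M : Groth.L21.RR.h k 1 M = 0 :=
    haveI := Groth.L21.RR.subsingleton_h1_of_deg_gt k hdim.le h0 hMi (by rw [hdeg, hg']; norm_num)
    Module.finrank_zero_of_subsingleton
  have h0M : Groth.L21.RR.h k 0 M = 9 := by
    rw [Curv2.deg, Groth.L21.RR.euler_eq k hdim.le, Groth.L21.RR.euler_eq k hdim.le, h0, hg', h1M] at hdeg
    push_cast at hdeg
    omega
  haveI : IsProper (CohB1.ProjSpace.toSpec 3 k) := Groth.L16.ProjSpace.isProper_toSpec (n := 3) (R := k)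
  haveI : IsProper (CohB1.ProjSpace 3 k ↘ Spec (CommRingCat.of k)) :=
    inferInstanceAs (IsProper (CohB1.ProjSpace.toSpec 3 k))
  haveI := Groth.L21.RR.finite_HH' k (Groth.L16.ProperFinite.isCoh_of_isInvertible hMi) 0
  have hc : ∀ c : k, i.app ⊤ (Coh.toGlobal (CohB1.ProjSpace 3 k ↘ Spec (CommRingCat.of k)) c) =
      Coh.toGlobal (X ↘ Spec (CommRingCat.of k)) c := fun c => by
    have h1 : (CohB1.ProjSpace 3 k ↘ Spec (CommRingCat.of k)).appTop ≫ i.appTop =
        (X ↘ Spec (CommRingCat.of k)).appTop := by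
      rw [← Scheme.Hom.comp_appTop, show i ≫ (CohB1.ProjSpace 3 k ↘ Spec (CommRingCat.of k)) = _ from hi]
    exact congr($(h1) ((Scheme.ΓSpecIso (CommRingCat.of k)).inv c))
  let F : Coh.HH (CohB1.ProjSpace 3 k) T 0 →ₗ[k] Coh.HH X M 0 :=
    { toFun := fun x => (Groth.L21.RR.e0 M).symm
        (OmegaSh.pullSect i T ⊤ (Groth.L21.RR.e0 T x))
      map_add' := fun x y => by
        rw [map_add]
        exact (congrArg _ (map_add (OmegaSh.pullSect i T ⊤).hom _ _)).trans (map_add _ _ _)
      map_smul' := fun c x => by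
        apply (Groth.L21.RR.e0 M).injective
        rw [RingHom.id_apply, Groth.L21.RR.e0_smul, Groth.L21.RR.e0_smul, AddEquiv.apply_symm_apply,
          AddEquiv.apply_symm_apply]
        refine (Scheme.Modules.Hom.app_smul ((Scheme.Modules.pullbackPushforwardAdjunction i).unit.app T) _ _).trans ?_
        exact congrArg (fun a : Γ(X, ⊤) => (a • (show Γ(M, ⊤) from OmegaSh.pullSect i T ⊤ (Groth.L21.RR.e0 T x)) : Γ(M, ⊤))) (hc c) }
  have hsrc : Module.finrank k (Coh.HH (CohB1.ProjSpace 3 k) T 0) = 10 := by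
    obtain ⟨e⟩ := Groth.L16.ProjSpace.nonempty_H0_twist_linearEquiv (n := 3) (R := k) 2
    rw [show T = Twist.twistProjSpace 3 k ((2 : ℕ) : ℤ) from rfl, e.finrank_eq,
      (Groth.L03.PlanePoints.finrank_homogeneous (F := k) 3 2).2]
    rfl
  have hni : ¬ Function.Injective F := fun hF => by
    have hle : Module.finrank k (Coh.HH (CohB1.ProjSpace 3 k) T 0) ≤ Groth.L21.RR.h k 0 M :=
      LinearMap.finrank_le_finrank_of_injective hF
    omega
  rw [injective_iff_map_eq_zero] at hni
  push Not at hni
  obtain ⟨x, hx, hx0⟩ := hni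
  refine ⟨Groth.L21.RR.e0 T x, fun h => hx0 ((Groth.L21.RR.e0 T).injective (h.trans (map_zero _).symm)), ?_⟩
  have h2 := congrArg (Groth.L21.RR.e0 M) hx
  rw [map_zero] at h2
  exact ((Groth.L21.RR.e0 M).apply_symm_apply _).symm.trans h2

end Groth.Agent.S13461
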