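import Groth.Statements.S13462
import Groth.Agent.L07.ExtShAff.Main
import Groth.Agent.L08.DoubleDual.Main

set_option autoImplicit false
universe u
open GmDual

namespace Groth.Agent.S13462

open CategoryTheory AlgebraicGeometry MonObj in
/-- Let k be a field of characteristic p > 0 and G₁ → G₂ → G₃ homomorphisms of commutative k-group
schemes with trivial composite, short exact as a sequence of abelian sheaves on the big fppf site of
Spec k, with G₃ affine of finite type over k. Then the dual sequence 0 → Ĝ₃ → Ĝ₂ → Ĝ₁ → 0 of fppf
dual sheaves (internal Hom into the multiplicative group) is short exact. (The published statement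
assumes all three groups affine of finite type, which its proof uses only for G₃, and also treats
characteristic zero on the small étale site; this row is the positive-characteristic fppf case.) -/
theorem result (p : ℕ) [Fact p.Prime] (k : Type u) [Field k] [CharP k p]
    (G₁ G₂ G₃ : Over (Spec (CommRingCat.of k)))
    [GrpObj G₁] [IsCommMonObj G₁] [GrpObj G₂] [IsCommMonObj G₂] [GrpObj G₃] [IsCommMonObj G₃]
    [IsAffine G₃.left] [LocallyOfFiniteType G₃.hom]
    (f : G₁ ⟶ G₂) (g : G₂ ⟶ G₃) [IsMonHom f] [IsMonHom g] (w : f ≫ g = 1)
    (hex : (CGrpSh.seq Scheme.fppfPrecoverage f g w).ShortExact) :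
    ((CGrpSh.seq Scheme.fppfPrecoverage f g w).op.map (CGrpSh2.dualFunctor Scheme.fppfPrecoverage (Spec (CommRingCat.of k)))).ShortExact := by
  have hExt := Groth.L07.ExtShAff.isZero_extSh_of_liftsLoc (Groth.L07.ExtShAff.liftsLoc_affine p G₃)
  let J := CGrpSh2.Gm Scheme.fppfPrecoverage (Spec (CommRingCat.of k))
  let Sh := CGrpSh.seq Scheme.fppfPrecoverage f g w
  haveI : Epi Sh.g := hex.epi_g
  exact
    { exact := Groth.L08.DoubleDual.exact_dual J Sh hex.exact
      mono_f := Groth.L08.DoubleDual.mono_dMap J Sh.g
      epi_g := Groth.L08.DoubleDual.epi_dMap J Sh hex hExt }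

end Groth.Agent.S13462
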