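import Groth.Statements.S13464
import Groth.Agent.L08.DoubleDual.Main
-- import your own Groth.Agent.* helpers here

set_option autoImplicit false
set_option backward.isDefEq.respectTransparency.types false
set_option linter.style.haveILetI false
universe u
open GmDual

namespace Groth.Agent.S13464

open CategoryTheory AlgebraicGeometry MonObj CategoryTheory.Limits in
/-- Let k be a field and 1 → G₁ → G₂ → G₃ → 1 a sequence of commutative k-group schemes, short exact as
abelian sheaves on the big fppf site of Spec k, such that the fppf sheaf 𝓔xt¹(G₃, 𝔾_m) vanishes. If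
the double-duality maps of G₁ and of G₃ are isomorphisms of fppf sheaves, the double-duality map of
G₂ is an isomorphism as well. -/
theorem result (k : Type u) [Field k]
    (G₁ G₂ G₃ : Over (Spec (CommRingCat.of k)))
    [GrpObj G₁] [IsCommMonObj G₁] [GrpObj G₂] [IsCommMonObj G₂] [GrpObj G₃] [IsCommMonObj G₃]
    (f : G₁ ⟶ G₂) (g : G₂ ⟶ G₃) [IsMonHom f] [IsMonHom g] (w : f ≫ g = 1)
    (hex : (CGrpSh.seq Scheme.fppfPrecoverage f g w).ShortExact)
    (hExt : IsZero ((HomSh.extSh (QuotSh.J Scheme.fppfPrecoverage (Spec (CommRingCat.of k))) (CGrpSh.pts Scheme.fppfPrecoverage G₃) 1).obj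
      (CGrpSh2.Gm Scheme.fppfPrecoverage (Spec (CommRingCat.of k)))))
    (h₁ : IsIso (CGrpSh2.toDoubleDual Scheme.fppfPrecoverage (CGrpSh.pts Scheme.fppfPrecoverage G₁)))
    (h₃ : IsIso (CGrpSh2.toDoubleDual Scheme.fppfPrecoverage (CGrpSh.pts Scheme.fppfPrecoverage G₃))) :
    IsIso (CGrpSh2.toDoubleDual Scheme.fppfPrecoverage (CGrpSh.pts Scheme.fppfPrecoverage G₂)) := by
  exact Groth.L08.DoubleDual.isIso_bidual (CGrpSh2.Gm Scheme.fppfPrecoverage (Spec (CommRingCat.of k)))
    (CGrpSh.seq Scheme.fppfPrecoverage f g w) hex hExt h₁ h₃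

end Groth.Agent.S13464
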