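import Groth.Statements.S13469
import Groth.Agent.L08.CharSurj
import Mathlib.GroupTheory.QuotientGroup.Finite
-- import your own Groth.Agent.* helpers here

set_option autoImplicit false
set_option backward.isDefEq.respectTransparency.types false
set_option linter.style.haveILetI false
universe u
open GmDual

namespace Groth.Agent.S13469

open CategoryTheory AlgebraicGeometry MonObj in
/-- Let k be a field and i : H → G a homomorphism of affine commutative k-group schemes of finite type
which is a closed immersion. Then the restriction map Ĝ(k) → Ĥ(k) on characters defined over k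
(morphisms of abelian sheaves on the big fppf site of Spec k from the sheaf of points to the
multiplicative group, restricted along i) has finite cokernel: its image is a subgroup of finite
index. -/
theorem result (k : Type u) [Field k]
    (H G : Over (Spec (CommRingCat.of k))) [GrpObj H] [IsCommMonObj H] [GrpObj G] [IsCommMonObj G]
    [IsAffine H.left] [LocallyOfFiniteType H.hom] [IsAffine G.left] [LocallyOfFiniteType G.hom]
    (i : H ⟶ G) [IsMonHom i] [IsClosedImmersion i.left] :
    (Preadditive.leftComp (CGrpSh2.Gm Scheme.fppfPrecoverage (Spec (CommRingCat.of k)))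
      (CGrpSh.ptsMap Scheme.fppfPrecoverage i)).range.FiniteIndex := by
  haveI := Groth.L08.CharSurj.characters_fg H
  let R := (Preadditive.leftComp (CGrpSh2.Gm Scheme.fppfPrecoverage (Spec (CommRingCat.of k)))
      (CGrpSh.ptsMap Scheme.fppfPrecoverage i)).range
  haveI : Module.Finite ℤ ((CGrpSh.pts Scheme.fppfPrecoverage H ⟶
      CGrpSh2.Gm Scheme.fppfPrecoverage (Spec (CommRingCat.of k))) ⧸ R) :=
    Module.Finite.of_surjective (QuotientAddGroup.mk' R).toIntLinearMap (QuotientAddGroup.mk'_surjective R)
  have htor : AddMonoid.IsTorsion ((CGrpSh.pts Scheme.fppfPrecoverage H ⟶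
      CGrpSh2.Gm Scheme.fppfPrecoverage (Spec (CommRingCat.of k))) ⧸ R) := fun x => by
    obtain ⟨χ, rfl⟩ := QuotientAddGroup.mk'_surjective R x
    obtain ⟨n, hn, -, hmem⟩ := Groth.L08.CharSurj.exists_preimage H G i χ
    refine isOfFinAddOrder_iff_nsmul_eq_zero.2 ⟨n, hn, ?_⟩
    rw [← map_nsmul]
    exact (QuotientAddGroup.eq_zero_iff _).2 hmem
  haveI : AddGroup.FG ((CGrpSh.pts Scheme.fppfPrecoverage H ⟶
      CGrpSh2.Gm Scheme.fppfPrecoverage (Spec (CommRingCat.of k))) ⧸ R) := Module.Finite.iff_addGroup_fg.1 inferInstance
  haveI := AddCommGroup.finite_of_fg_torsion _ htor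
  exact AddSubgroup.finiteIndex_of_finite_quotient

end Groth.Agent.S13469
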