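import Groth.Statements.S13470
import Groth.Agent.L08.CharSurj
-- import your own Groth.Agent.* helpers here

set_option autoImplicit false
set_option backward.isDefEq.respectTransparency.types false
set_option linter.style.haveILetI false
universe u
open GmDual

namespace Groth.Agent.S13470

open CategoryTheory AlgebraicGeometry MonObj in
/-- Let k be an algebraically closed field and i : H → G a homomorphism of affine commutative k-group
schemes of finite type which is a closed immersion. Then the restriction map Ĝ(k) → Ĥ(k) on
characters defined over k (morphisms of abelian sheaves on the big fppf site of Spec k from the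
sheaf of points to the multiplicative group, restricted along i) is surjective. -/
theorem result (k : Type u) [Field k] [IsAlgClosed k]
    (H G : Over (Spec (CommRingCat.of k))) [GrpObj H] [IsCommMonObj H] [GrpObj G] [IsCommMonObj G]
    [IsAffine H.left] [LocallyOfFiniteType H.hom] [IsAffine G.left] [LocallyOfFiniteType G.hom]
    (i : H ⟶ G) [IsMonHom i] [IsClosedImmersion i.left] :
    Function.Surjective (Preadditive.leftComp (CGrpSh2.Gm Scheme.fppfPrecoverage (Spec (CommRingCat.of k)))
      (CGrpSh.ptsMap Scheme.fppfPrecoverage i)) := by
  intro χ
  obtain ⟨n, hn, hk, φ, hφ⟩ := Groth.L08.CharSurj.exists_preimage H G i χ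
  refine ⟨φ, ?_⟩
  rw [hφ, hk inferInstance, one_smul]

end Groth.Agent.S13470
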