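import Groth.Statements.S13473
import Groth.Agent.L07.GaExt.FrobExt
import Groth.Agent.L07.GaExt.Tower

set_option autoImplicit false
universe u
open GaDual

namespace Groth.Agent.S13473

open CategoryTheory AlgebraicGeometry MonObj CategoryTheory.Limits in
/-- Let R be a commutative ring of prime characteristic p with surjective Frobenius, and U a commutative
R-group scheme with a finite chain of commutative R-group schemes U₀, …, Uₙ = U, where U₀ is the
trivial sheaf and each Uⱼ → Uⱼ₊₁ → G_a is short exact as abelian sheaves on the big fppf site of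
Spec R (so the successive quotients are the additive group). Then the first fppf cohomology group
H^1(R, Û) of the dual sheaf of U (internal Hom into the multiplicative group) vanishes. -/
theorem result (p : ℕ) [Fact p.Prime]
    (R : Type u) [CommRing R] [CharP R p] (hFrob : Function.Surjective (frobenius R p))
    (n : ℕ) (U : Fin (n + 1) → Over (Spec (CommRingCat.of R))) [∀ j, GrpObj (U j)] [∀ j, IsCommMonObj (U j)]
    (incl : ∀ j : Fin n, U j.castSucc ⟶ U j.succ) (proj : ∀ j : Fin n, U j.succ ⟶ Red.Ga (Spec (CommRingCat.of R)))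
    [∀ j, IsMonHom (incl j)] [∀ j, IsMonHom (proj j)] (w : ∀ j, incl j ≫ proj j = 1)
    (hex : ∀ j, (CGrpSh.seq Scheme.fppfPrecoverage (incl j) (proj j) (w j)).ShortExact)
    (h0 : IsZero (CGrpSh.pts Scheme.fppfPrecoverage (U 0))) :
    Subsingleton (BigSite.H Scheme.fppfPrecoverage (Spec (CommRingCat.of R))
      (CGrpSh2.dualSh Scheme.fppfPrecoverage (CGrpSh.pts Scheme.fppfPrecoverage (U (Fin.last n)))) 1) := by
  refine Groth.L07.GaExt.subsingleton_H_one_homSh_of_ext _ _ ?_
  exact Groth.L07.GaExt.subsingleton_ext_one_tower (CGrpSh2.Gm Scheme.fppfPrecoverage _) n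
    (fun j => CGrpSh.pts Scheme.fppfPrecoverage (U j)) (CGrpSh.pts Scheme.fppfPrecoverage (Red.Ga (Spec (CommRingCat.of R))))
    (fun j => (CGrpSh.seq Scheme.fppfPrecoverage (incl j) (proj j) (w j)).f)
    (fun j => (CGrpSh.seq Scheme.fppfPrecoverage (incl j) (proj j) (w j)).g)
    (fun j => (CGrpSh.seq Scheme.fppfPrecoverage (incl j) (proj j) (w j)).zero) hex h0
    (Groth.L07.GaExt.subsingleton_ext_one_frob p hFrob) (Fin.last n)

end Groth.Agent.S13473
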