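import Groth.Statements.S13475
import Groth.Agent.L07.GmFppf.GaFlat
-- import your own Groth.Agent.* helpers here

set_option autoImplicit false
universe u
open GaDual

namespace Groth.Agent.S13475

open CategoryTheory AlgebraicGeometry MonObj CategoryTheory.Limits in
/-- Let k be a field and U a split commutative unipotent k-group, given with a finite filtration by
commutative k-group schemes U₀, …, Uₙ = U with U₀ the trivial sheaf and each Uⱼ → Uⱼ₊₁ → G_a short
exact as abelian sheaves on the big fppf site of Spec k. Then H^i(k, U) = 0 for every i > 0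
(cohomology of the sheaf of points of U on the big fppf site). -/
theorem result (k : Type u) [Field k]
    (n : ℕ) (U : Fin (n + 1) → Over (Spec (CommRingCat.of k))) [∀ j, GrpObj (U j)] [∀ j, IsCommMonObj (U j)]
    (incl : ∀ j : Fin n, U j.castSucc ⟶ U j.succ) (proj : ∀ j : Fin n, U j.succ ⟶ Red.Ga (Spec (CommRingCat.of k)))
    [∀ j, IsMonHom (incl j)] [∀ j, IsMonHom (proj j)] (w : ∀ j, incl j ≫ proj j = 1)
    (hex : ∀ j, (CGrpSh.seq Scheme.fppfPrecoverage (incl j) (proj j) (w j)).ShortExact)
    (h0 : IsZero (CGrpSh.pts Scheme.fppfPrecoverage (U 0)))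
    (i : ℕ) (hi : 0 < i) :
    Subsingleton (BigSite.H Scheme.fppfPrecoverage (Spec (CommRingCat.of k)) (CGrpSh.pts Scheme.fppfPrecoverage (U (Fin.last n))) i) := by
  obtain ⟨A, hA⟩ : ∃ A : BigSite.Ab Scheme.fppfPrecoverage (Spec (CommRingCat.of k)),
      A = (constantSheaf _ AddCommGrpCat.{u + 1}).obj (AddCommGrpCat.of (ULift.{u + 1} ℤ)) := ⟨_, rfl⟩
  suffices h : ∀ j, ∀ x : Abelian.Ext.{u + 1} A (CGrpSh.pts Scheme.fppfPrecoverage (U j)) i, x = 0 by
    subst hA
    exact ⟨fun x y => (h _ x).trans (h _ y).symm⟩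
  intro j
  induction j using Fin.induction with
  | zero => intro x; exact (x.comp_mk₀_id).symm.trans (by rw [h0.eq_of_src (𝟙 _) 0, Abelian.Ext.mk₀_zero, Abelian.Ext.comp_zero])
  | succ j ih =>
    intro x
    haveI := Groth.L07.GmFppf.subsingleton_H_add (Spec (CommRingCat.of k)) i hi
    have h1 : x.comp (Abelian.Ext.mk₀ (CGrpSh.seq Scheme.fppfPrecoverage (incl j) (proj j) (w j)).g) (add_zero i) = 0 := by
      subst hA
      exact Subsingleton.elim (α := BigSite.H Scheme.fppfPrecoverage (Spec (CommRingCat.of k))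
        (CGrpSh.pts Scheme.fppfPrecoverage (Red.Ga (Spec (CommRingCat.of k)))) i) _ _
    obtain ⟨y, hy⟩ := Abelian.Ext.covariant_sequence_exact₂ A (hex j) x h1
    rw [← hy, ih y]
    exact Abelian.Ext.zero_comp A i (Abelian.Ext.mk₀ _) i _

end Groth.Agent.S13475
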