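import Groth.Statements.S13479
import Groth.Agent.L07.ExtShAff.Main

set_option autoImplicit false
universe u
open GmDual

namespace Groth.Agent.S13479

open CategoryTheory AlgebraicGeometry MonObj CategoryTheory.Limits in
/-- For a field k of characteristic p > 0 and an affine commutative k-group scheme G of finite type, the
fppf sheaf 𝓔xt^1_k(G, G_m), the first Ext sheaf of the sheaf of points of G with values in the
multiplicative group on the big fppf site of Spec k, vanishes. (This fails in characteristic zero.) -/
theorem result (p : ℕ) [Fact p.Prime] (k : Type u) [Field k] [CharP k p]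
    (G : Over (Spec (CommRingCat.of k))) [GrpObj G] [IsCommMonObj G] [IsAffine G.left] [LocallyOfFiniteType G.hom] :
    IsZero ((HomSh.extSh (QuotSh.J Scheme.fppfPrecoverage (Spec (CommRingCat.of k))) (CGrpSh.pts Scheme.fppfPrecoverage G) 1).obj
      (CGrpSh2.Gm Scheme.fppfPrecoverage (Spec (CommRingCat.of k)))) := by
  exact Groth.L07.ExtShAff.isZero_extSh_of_liftsLoc (Groth.L07.ExtShAff.liftsLoc_affine p G)

end Groth.Agent.S13479
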