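import Mathlib.AlgebraicGeometry.Morphisms.Flat
import Mathlib.AlgebraicGeometry.Morphisms.FinitePresentation
import Mathlib.AlgebraicGeometry.AffineScheme
import Mathlib.RingTheory.RingHom.Flat
import Mathlib.RingTheory.Ideal.Quotient.Basic
import Groth.Agent.L02.CAlg.QFSlice.Scheme

set_option autoImplicit false
namespace CAlg
end CAlg
universe u
open FlatMor

namespace Groth.Agent.S1348

open AlgebraicGeometry CategoryTheory Limits in
/-- Let f be locally of finite presentation and flat at a point x with image s, and let h be an element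
of the maximal ideal of the local ring at x whose image in the local ring of the fibre (the local
ring at x modulo the ideal generated by the maximal ideal at s) is a nonzerodivisor. Then there is
an affine open neighbourhood U of x and a nonzerodivisor of its coordinate ring with germ h at x (so
its zero locus is an effective Cartier divisor of U through x) whose zero scheme is flat and locally
of finite presentation over the base. -/
theorem result {X S : Scheme.{u}} (f : X ⟶ S) [LocallyOfFinitePresentation f] (x : X)
    (hflat : (f.stalkMap x).hom.Flat) (h : X.presheaf.stalk x) (hm : h ∈ IsLocalRing.maximalIdeal (X.presheaf.stalk x))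
    (hreg : Ideal.Quotient.mk (Ideal.map (f.stalkMap x).hom (IsLocalRing.maximalIdeal (S.presheaf.stalk (f x)))) h ∈
      nonZeroDivisors (X.presheaf.stalk x ⧸ Ideal.map (f.stalkMap x).hom (IsLocalRing.maximalIdeal (S.presheaf.stalk (f x))))) :
    ∃ (U : X.Opens) (hU : IsAffineOpen U) (hx : x ∈ U) (h' : Γ(X, U)), X.presheaf.germ U x hx h' = h ∧ h' ∈ nonZeroDivisors Γ(X, U) ∧
      Flat (Spec.map (CommRingCat.ofHom (Ideal.Quotient.mk (Ideal.span {h'}))) ≫ hU.fromSpec ≫ f) ∧
      LocallyOfFinitePresentation (Spec.map (CommRingCat.ofHom (Ideal.Quotient.mk (Ideal.span {h'}))) ≫ hU.fromSpec ≫ f) := by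
  obtain ⟨U, hU, hx, hs', -, h0, hwr, -, -, h3, h4, -⟩ :=
    L02.CAlg.QFSlice.exists_slice f x hflat [h] (fun a ha => by rw [List.mem_singleton] at ha; exact ha ▸ hm)
      (by
        rw [List.map_singleton, RingTheory.Sequence.isWeaklyRegular_cons_iff]
        exact ⟨fun a b hab => by
          simp only [smul_eq_mul] at hab
          exact (mem_nonZeroDivisors_iff_right.mp hreg (a - b) (by rw [sub_mul, mul_comm a, mul_comm b, hab, sub_self]) |> sub_eq_zero.mp),
          RingTheory.Sequence.IsWeaklyRegular.nil _ _⟩) ⊤ trivial
  rcases hs' with _ | ⟨h', _ | ⟨h'', l⟩⟩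
  · simp at h0
  · rw [List.map_singleton, List.singleton_inj] at h0
    rw [RingTheory.Sequence.isWeaklyRegular_cons_iff] at hwr
    rw [Ideal.ofList_singleton] at h3 h4
    refine ⟨U, hU, hx, h', h0, mem_nonZeroDivisors_iff_right.mpr fun a ha => ?_, h3, h4⟩
    exact hwr.1 (show h' • a = h' • 0 by rw [smul_zero, smul_eq_mul, mul_comm]; exact ha)
  · simp at h0

end Groth.Agent.S1348
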