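import Groth.Statements.S13486
import Groth.Agent.L04.DerComp.RHomComplete

set_option autoImplicit false
universe u
open CategoryTheory CategoryTheory.Limits Opposite
attribute [local instance] HasDerivedCategory.standard
open DerComp

namespace Groth.Agent.S13486

/-- On a ringed site (C, O) with a sheaf of ideals I, if L in D(O) is derived complete with respect to I
then so is RHom_O(K, L) for every K in D(O). Here K is given by a cochain complex P of O-modules and
RHom_O(P, -) is the right adjoint of the derived tensor product with P, assumed to exist. -/
theorem result {C : Type u} [SmallCategory C] {J : GrothendieckTopology C} (O : Sheaf J CommRingCat.{u}) (I : DerComp.IdealSh O) (P : CochainComplex (ModSite.Mod O) ℤ) [ModSite.HasLTensorCx P] [DerComp.HasRHom P] (L : DerivedCategory (ModSite.Mod O)) (hL : DerComp.IsDerComp O I L) : DerComp.IsDerComp O I ((DerComp.RHom P).obj L) := by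

    exact Groth.L04.DerComp.isDerComp_RHom I P L hL

end Groth.Agent.S13486
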