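import Groth.Statements.S13498
import Groth.Agent.L04.DerComp.FlatEquiv

set_option autoImplicit false
universe u
open CategoryTheory CategoryTheory.Limits Opposite
attribute [local instance] HasDerivedCategory.standard
open DerComp

namespace Groth.Agent.S13498

/-- Let phi : O -> O' be a flat homomorphism of sheaves of rings on a site, I a sheaf of ideals of O of
finite type with O/I = O'/I O' (the induced map of quotient sheaves is an isomorphism: injectivity
and local surjectivity are spelled out on sections). Then the restriction functor D(O') -> D(O)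
induces an equivalence from D_comp(O', I O') to D_comp(O, I): it is fully faithful on I O'-derived
complete objects and every I-derived complete object is, up to isomorphism, the restriction of an I
O'-derived complete object. Flatness is exactness of tensoring with O' on O-modules; exactness of
restriction of scalars is an instance hypothesis. -/
theorem result {C : Type u} [SmallCategory C] {J : GrothendieckTopology C} {O O' : Sheaf J CommRingCat.{u}} (φ : O ⟶ O') (I : DerComp.IdealSh O) (hI : I.IsFiniteType) (I' : DerComp.IdealSh O') (hI' : DerComp.IsIdealExt φ I I') (hflat : ModSite.IsFlat ((SheafOfModules.restrictScalars.{u} ((sheafCompose J (forget₂ CommRingCat.{u} RingCat.{u})).map φ)).obj (ModSite.unit O'))) (hinj : ∀ (U : C) (f : O.obj.obj (op U)), (φ.hom.app (op U)).hom f ∈ I'.ideal U → f ∈ I.ideal U) (hsurj : ∀ (U : C) (f' : O'.obj.obj (op U)), ∃ S ∈ J U, ∀ ⦃V : C⦄ (g : V ⟶ U), S g → ∃ a : O.obj.obj (op V), (O'.obj.map g.op).hom f' - (φ.hom.app (op V)).hom a ∈ I'.ideal V) [PreservesFiniteLimits (SheafOfModules.restrictScalars.{u} ((sheafCompose J (forget₂ CommRingCat.{u}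 RingCat.{u})).map φ))] [PreservesFiniteColimits (SheafOfModules.restrictScalars.{u} ((sheafCompose J (forget₂ CommRingCat.{u} RingCat.{u})).map φ))] : (∀ K' L' : DerivedCategory (ModSite.Mod O'), DerComp.IsDerComp O' I' K' → DerComp.IsDerComp O' I' L' → Function.Bijective (fun ψ : K' ⟶ L' => (SheafOfModules.restrictScalars.{u} ((sheafCompose J (forget₂ CommRingCat.{u} RingCat.{u})).map φ)).mapDerivedCategory.map ψ)) ∧ (∀ E : DerivedCategory (ModSite.Mod O), DerComp.IsDerComp O I E → ∃ K' : DerivedCategory (ModSite.Mod O'), DerComp.IsDerComp O' I' K' ∧ Nonempty ((SheafOfModules.restrictScalars.{u} ((sheafCompose J (forget₂ CommRingCat.{u} RingCat.{u})).map φ)).mapDerivedCategory.obj K' ≅ E)) := by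
  haveI : PreservesFiniteLimits (Groth.L04.DerComp.ringMor φ).push := ‹PreservesFiniteLimits (SheafOfModules.restrictScalars.{u} _)›
  haveI : PreservesFiniteColimits (Groth.L04.DerComp.ringMor φ).push := ‹PreservesFiniteColimits (SheafOfModules.restrictScalars.{u} _)›
  exact Groth.L04.DerComp.flat_equiv hI ⟨hI', hinj, hsurj⟩ hflat

end Groth.Agent.S13498
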