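import Groth.Statements.S13501
import Groth.Agent.L28.ExtShriek.IndConstr
-- import your own Groth.Agent.* helpers here

set_option autoImplicit false
universe u
open CategoryTheory CategoryTheory.Limits AlgebraicGeometry Opposite
open EtPBC

namespace Groth.Agent.S13501

/-- Let X be a quasi-compact and quasi-separated scheme and F a torsion abelian sheaf on X_et. If Hom(F,
-) commutes with filtered colimits (of shape any small filtered category in the universe of the
sheaf category's morphisms), then F is constructible. This is the converse of the compactness of
constructible sheaves. -/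
theorem result (X : Scheme.{u}) [CompactSpace X]
    [QuasiSeparatedSpace X] (F : EtCoh.Ab X) (hF : EtCoh.IsTorsion F)
    (hc : ∀ (J : Type (u + 1)) [SmallCategory J] [IsFiltered J],
      PreservesColimitsOfShape J (coyoneda.obj (op F))) :
    EtPBC.IsConstructible F := by
  obtain ⟨h⟩ := Groth.L28.ExtShriek.isColimit_presCocone (F := F) hF
  haveI := hc (Groth.L28.ExtShriek.PresOver F)
  obtain ⟨j, g, hg⟩ := Types.jointly_surjective _ (isColimitOfPreserves (coyoneda.obj (op F)) h) (𝟙 F)
  exact Groth.L28.ExtShriek.isConstructible_of_retract j.1.isConstructible_obj g _ hg

end Groth.Agent.S13501
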