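import Groth.Statements.S13503
import Groth.Agent.L14.Popescu.Functor

set_option autoImplicit false
universe u
open CategoryTheory CategoryTheory.Limits
open Hensel

namespace Groth.Agent.S13503

/-- Let A be a Noetherian henselian local ring with maximal ideal m such that the map from A to its
m-adic completion Â is a regular ring homomorphism (flat with Noetherian, geometrically regular
fibres; this holds when A is excellent, which is the published hypothesis — the proof uses only the
regularity of A → Â). Let F be a functor from the category of A-algebras (commutative rings under A)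
to sets which preserves filtered colimits, let n ≥ 1 and ξ ∈ F(Â). Then there is η ∈ F(A) such that
η and ξ have the same image in F(A/m^n). Here π is the A-algebra map Â → A/m^n (pinned by its
underlying ring map) and ρ the A-algebra map A → A/m^n. -/
theorem result (A : Type u) [CommRing A] [IsNoetherianRing A]
    [HenselianLocalRing A]
    (hreg : CAlg.IsRegularHom A (AdicCompletion (IsLocalRing.maximalIdeal A) A))
    (F : Under (CommRingCat.of A) ⥤ Type u)
    (hF : ∀ (J : Type u) [SmallCategory J] [IsFiltered J], PreservesColimitsOfShape J F)
    (n : ℕ) (hn : 1 ≤ n)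
    (π : Under.mk (CommRingCat.ofHom (algebraMap A (AdicCompletion (IsLocalRing.maximalIdeal A) A))) ⟶
      Under.mk (CommRingCat.ofHom (algebraMap A (A ⧸ IsLocalRing.maximalIdeal A ^ n))))
    (hπ : π.right = CommRingCat.ofHom
      (AdicCompletion.evalₐ (IsLocalRing.maximalIdeal A) n : AdicCompletion (IsLocalRing.maximalIdeal A) A →ₐ[A]
        A ⧸ IsLocalRing.maximalIdeal A ^ n).toRingHom)
    (ρ : Under.mk (𝟙 (CommRingCat.of A)) ⟶
      Under.mk (CommRingCat.ofHom (algebraMap A (A ⧸ IsLocalRing.maximalIdeal A ^ n))))
    (ξ : F.obj (Under.mk (CommRingCat.ofHom (algebraMap A (AdicCompletion (IsLocalRing.maximalIdeal A) A))))) :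
    ∃ η : F.obj (Under.mk (𝟙 (CommRingCat.of A))), F.map ρ η = F.map π ξ := by
  exact Groth.L14.Popescu.exists_functor_approx _ n
    (fun C _ _ _ φ => Groth.L14.Popescu.exists_section_approx _ hreg φ n) F hF π hπ ρ ξ

end Groth.Agent.S13503
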