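import Groth.Statements.S13506
import Groth.Agent.L27.HenselProperClopen
import Groth.Agent.L19.Limit.Components

set_option autoImplicit false
universe u
open CategoryTheory CategoryTheory.Limits AlgebraicGeometry
open Hensel

namespace Groth.Agent.S13506

/-- Let A be a Noetherian ring which is complete for the adic topology of an ideal I, f : X → Spec A
proper and X_0 = X ×_{Spec A} Spec (A/I). Then the projection X_0 → X induces a bijection from the
connected components of X_0 to the connected components of X. -/
theorem result (A : Type u) [CommRing A]
    [IsNoetherianRing A] (I : Ideal A) [IsAdicComplete I A] {X : Scheme.{u}}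
    (f : X ⟶ Spec (CommRingCat.of A)) [IsProper f] :
    Function.Bijective
      (Continuous.connectedComponentsMap
        (pullback.fst f (Spec.map (CommRingCat.ofHom (Ideal.Quotient.mk I)))).continuous) := by
  haveI : HenselianRing A I := inferInstance
  let j := pullback.fst f (Spec.map (CommRingCat.ofHom (Ideal.Quotient.mk I)))
  let T := pullback f (Spec.map (CommRingCat.ofHom (Ideal.Quotient.mk I)))
  have hp : f ≫ Spec.map (CommRingCat.ofHom (RingHom.id A)) = f := by rw [CommRingCat.ofHom_id, Spec.map_id]; exact Category.comp_id f
  haveI : IsLocallyNoetherian T := LocallyOfFiniteType.isLocallyNoetherian (pullback.snd f (Spec.map (CommRingCat.ofHom (Ideal.Quotient.mk I))))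
  haveI : CompactSpace T := (quasiCompact_iff_compactSpace (pullback.snd f (Spec.map (CommRingCat.ofHom (Ideal.Quotient.mk I))))).mp inferInstance
  haveI : IsNoetherian T := {}
  constructor
  · intro a b hab
    obtain ⟨y, rfl⟩ := ConnectedComponents.surjective_coe a
    obtain ⟨y', rfl⟩ := ConnectedComponents.surjective_coe b
    obtain ⟨U, ⟨hU, hUV⟩, -⟩ := Groth.L27.HenselProper.clopen_lift I I (RingHom.id A) f f hp (Ideal.map_id I).le (connectedComponent y) (Groth.L19.Limit.isClopen_connectedComponent_of_noetherian y)
    rw [ConnectedComponents.coe_eq_coe']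
    have h1 : j y ∈ U := hUV.ge mem_connectedComponent
    have h2 : connectedComponent (j y) = connectedComponent (j y') := ConnectedComponents.coe_eq_coe.mp hab
    have h3 : j y' ∈ U := hU.connectedComponent_subset h1 (h2 ▸ mem_connectedComponent)
    exact connectedComponent_eq (hUV.le h3) ▸ mem_connectedComponent
  · intro c
    obtain ⟨x, rfl⟩ := ConnectedComponents.surjective_coe c
    by_contra hne
    have hd : Disjoint (Set.range j) (connectedComponent x) := Set.disjoint_left.mpr fun _ ⟨t, ht⟩ hx => hne ⟨(t : ConnectedComponents T), ConnectedComponents.coe_eq_coe.mpr (connectedComponent_eq (ht ▸ hx)).symm⟩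
    have h0 := Groth.L27.HenselProper.closed_eq_empty I I (RingHom.id A) f f hp (Ideal.map_id I).le isClosed_connectedComponent hd
    exact (h0.le mem_connectedComponent : x ∈ (∅ : Set X))

end Groth.Agent.S13506
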