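import Groth.Statements.S13508
import Groth.Agent.L09.FibSiteTop

set_option autoImplicit false
universe v₁ u₁ v₂ u₂ v₃ u₃
open CategoryTheory Opposite Pseudofunctor.CoGrothendieck
open FibSite

namespace Groth.Agent.S13508
open CategoryTheory Category Limits Opposite Pseudofunctor.CoGrothendieck Groth.L09.FibSiteTop

/-- For a fibred category `F` over `𝒮` with topologies `J` on its fibres all of whose inverse-image
functors are continuous, a sieve `S` on an object `X` of the total category is covering for the
total topology (the topology generated by the coverings of the fibres) if and only if `S` contains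
the image under the fibre inclusion of some `J X.base`-covering sieve of `X.fiber`. (The published
statement is for fibred sites, whose inverse-image functors are moreover morphisms of sites; its
proof uses only their continuity, as the text itself remarks.) -/
theorem result {𝒮 : Type u₁} [Category.{v₁} 𝒮]
    (F : Pseudofunctor (LocallyDiscrete 𝒮ᵒᵖ) Cat.{v₂, u₂}) (J : FibSite.Topologies F)
    (hF : FibSite.IsPreFibSite F J) (X : ∫ᶜ F) (S : Sieve X) :
    S ∈ FibSite.totalTopology F J X ↔
      ∃ R ∈ J X.base X.fiber, Sieve.functorPushforward (ι F X.base) R ≤ S := by
  rw [mem_total_iff hF]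
  exact ⟨fun h => ⟨_, h, Sieve.functorPullback_pushforward_le (ι F X.base) _⟩,
    fun ⟨R, hR, hle⟩ => (J X.base).superset_covering
      ((R.le_functorPushforward_pullback (ι F X.base)).trans (Sieve.functorPullback_monotone (ι F X.base) _ hle)) hR⟩

end Groth.Agent.S13508
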