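import Groth.Statements.S13509
import Groth.Agent.L09.FibSiteTop

set_option autoImplicit false
universe v₁ u₁ v₂ u₂ v₃ u₃
open CategoryTheory Opposite Pseudofunctor.CoGrothendieck
open FibSite

namespace Groth.Agent.S13509
open CategoryTheory Category Limits Opposite Pseudofunctor.CoGrothendieck Groth.L09.FibSiteTop

/-- For a fibred category `F` over `𝒮` with topologies `J` on its fibres all of whose inverse-image
functors are continuous, the topology induced on the fibre over `S` by the total topology (the
finest topology on `F(S)` for which the fibre inclusion is continuous towards the topology generated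
by the coverings of the fibres) is `J S` itself. (The published statement is for fibred sites; its
proof uses only the continuity of the inverse-image functors.) -/
theorem result {𝒮 : Type u₁} [Category.{v₁} 𝒮]
    (F : Pseudofunctor (LocallyDiscrete 𝒮ᵒᵖ) Cat.{v₂, u₂}) (J : FibSite.Topologies F)
    (hF : FibSite.IsPreFibSite F J) (S : 𝒮) :
    (ι F S).inducedTopology (FibSite.totalTopology F J) = J S := by
  have := isContinuous_ι hF S
  refine Functor.restrictedTopology_eq_inducedTopology_of_isContinuous (le_antisymm ?_ fun U R hR =>
    Functor.mem_restrictedTopology_of_functorPushforward_mem (FibSite.functorPushforward_mem_totalTopology hR))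
  rw [Functor.restrictedTopology, Precoverage.toGrothendieck_eq_sInf]
  refine sInf_le fun U R hR => ?_
  have hR' := (GrothendieckTopology.mem_toPrecoverage_iff (FibSite.totalTopology F J) _).1 (Precoverage.mem_comap_iff.1 hR)
  rw [Sieve.generate_map_eq_functorPushforward] at hR'
  refine (J S).superset_covering ?_ ((mem_total_iff hF _ _).1 hR')
  rintro W b ⟨U', r, c, hr, e⟩
  have hb : c.base = 𝟙 S := by
    have := congrArg Pseudofunctor.CoGrothendieck.Hom.base e
    exact (comp_id c.base).symm.trans this.symm
  obtain ⟨a, rfl⟩ := exists_ι_map c hb
  have : b = a ≫ r := ι_map_injective (e.trans ((ι F S).map_comp a r).symm)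
  rw [this]
  exact (Sieve.generate R).downward_closed hr a

end Groth.Agent.S13509
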