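import Groth.Statements.S13510
import Groth.Agent.L09.FibSiteTop

set_option autoImplicit false
universe v₁ u₁ v₂ u₂ v₃ u₃
open CategoryTheory Opposite Pseudofunctor.CoGrothendieck
open FibSite

namespace Groth.Agent.S13510
open CategoryTheory Category Limits Opposite Pseudofunctor.CoGrothendieck Groth.L09.FibSiteTop

/-- For a fibred category `F` over `𝒮` with topologies `J` on its fibres all of whose inverse-image
functors are continuous, every fibre inclusion `ι F S` is cocontinuous from the fibre site `(F(S), J
S)` to the total category with the topology generated by the coverings of the fibres: every covering
sieve of an object of the fibre, for the total topology, contains the image of a `J S`-covering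
sieve. (The published statement is for fibred sites; its proof uses only the continuity of the
inverse-image functors.) -/
theorem result {𝒮 : Type u₁} [Category.{v₁} 𝒮]
    (F : Pseudofunctor (LocallyDiscrete 𝒮ᵒᵖ) Cat.{v₂, u₂}) (J : FibSite.Topologies F)
    (hF : FibSite.IsPreFibSite F J) (S : 𝒮) :
    (ι F S).IsCocontinuous (J S) (FibSite.totalTopology F J) := by
  exact isCocontinuous_ι hF S

end Groth.Agent.S13510
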