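import Groth.Statements.S13513
import Groth.Agent.L09.FibSiteRan

set_option autoImplicit false
universe u
open CategoryTheory CategoryTheory.Limits Opposite Pseudofunctor.CoGrothendieck
open FibSite

namespace Groth.Agent.S13513
open CategoryTheory Category Limits Opposite Pseudofunctor.CoGrothendieck Groth.L09.FibSiteRan

/-- Let `F` be a fibred site over a small category `𝒮` with small fibres (every inverse-image functor is
a morphism of sites) and let `i` be a final object of `𝒮`. Then the left adjoint `α_{i!}` of the
restriction of sheaves of sets from the total site to the fibre over `i` is full and faithful;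
equivalently the composite "extend from the fibre over `i`, then restrict back" is isomorphic to the
identity through the unit of the adjunction. The continuity of the fibre inclusion and the existence
of the left adjoint are carried as instance hypotheses. -/
theorem result {𝒮 : Type u} [SmallCategory 𝒮]
    (F : Pseudofunctor (LocallyDiscrete 𝒮ᵒᵖ) Cat.{u, u}) (J : FibSite.Topologies F)
    (hF : FibSite.IsFibSite F J) (i : 𝒮) (hi : IsTerminal i)
    [(ι F i).IsContinuous (J i) (FibSite.totalTopology F J)]
    [((ι F i).sheafPushforwardContinuous (Type u) (J i) (FibSite.totalTopology F J)).IsRightAdjoint] :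
    (FibSite.extend F J (Type u) i).Full ∧ (FibSite.extend F J (Type u) i).Faithful := by
  have := Groth.L09.FibSiteTop.isCocontinuous_ι hF.isPreFibSite i
  have : (ι F i).Full := ⟨fun h => Groth.L09.FibSiteTop.exists_ι_map h (hi.hom_ext _ _)⟩
  have : (ι F i).Faithful := ⟨fun h => Groth.L09.FibSiteTop.ι_map_injective h⟩
  have : IsIso ((ι F i).op.ranAdjunction (Type u)).counit := inferInstance
  let hr : (ι F i).op.ran.FullyFaithful (C := ((F.obj ⟨op i⟩)ᵒᵖ ⥤ Type u)) :=
    ((ι F i).op.ranAdjunction (Type u)).fullyFaithfulROfIsIsoCounit
  let hc : (FibSite.coextend F J (Type u) i).FullyFaithful :=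
    Functor.FullyFaithful.ofCompFaithful (G := sheafToPresheaf _ _)
      (show (FibSite.coextend F J (Type u) i ⋙ sheafToPresheaf _ _).FullyFaithful from
        (fullyFaithfulSheafToPresheaf (J i) (Type u)).comp hr)
  let t : Adjunction.Triple (FibSite.extend F J (Type u) i) (FibSite.restr F J (Type u) i)
      (FibSite.coextend F J (Type u) i) :=
    ⟨(ι F i).sheafAdjunctionContinuous (Type u) (J i) (FibSite.totalTopology F J),
     (ι F i).sheafAdjunctionCocontinuous (Type u) (J i) (FibSite.totalTopology F J)⟩
  let h := t.fullyFaithfulEquiv.symm hc
  exact ⟨h.full, h.faithful⟩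

end Groth.Agent.S13513
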