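import Groth.Statements.S13514
import Groth.Agent.L09.FibSiteRan

set_option autoImplicit false
universe u
open CategoryTheory CategoryTheory.Limits Opposite Pseudofunctor.CoGrothendieck
open FibSite

namespace Groth.Agent.S13514
open CategoryTheory Category Limits Opposite Pseudofunctor.CoGrothendieck Groth.L09.FibSiteRan

/-- Let `F` be a fibred site over a small category `𝒮` with small fibres (every inverse-image functor is
a morphism of sites) and let `i` be a final object of `𝒮`. Then the left adjoint `α_{i!}` of the
restriction of sheaves of sets from the total site to the fibre over `i` is left exact (it preserves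
finite limits), so that the pair (`α_{i!}`, restriction) is a morphism of topoi from the total topos
to the topos of the fibre. The continuity of the fibre inclusion and the existence of the left
adjoint are carried as instance hypotheses. -/
theorem result {𝒮 : Type u} [SmallCategory 𝒮]
    (F : Pseudofunctor (LocallyDiscrete 𝒮ᵒᵖ) Cat.{u, u}) (J : FibSite.Topologies F)
    (hF : FibSite.IsFibSite F J) (i : 𝒮) (hi : IsTerminal i)
    [(ι F i).IsContinuous (J i) (FibSite.totalTopology F J)]
    [((ι F i).sheafPushforwardContinuous (Type u) (J i) (FibSite.totalTopology F J)).IsRightAdjoint] :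
    PreservesFiniteLimits (FibSite.extend F J (Type u) i) := by
  have hc : ∀ S, (ι F S).IsContinuous (J S) (FibSite.totalTopology F J) :=
    fun S => Groth.L09.FibSiteTop.isContinuous_ι hF.isPreFibSite S
  refine preservesFiniteLimits_of_restr _ fun j => ?_
  have := Groth.L09.FibSiteTop.isCocontinuous_ι hF.isPreFibSite j
  have hfc : ∀ f : j ⟶ i, (FibSite.invImage F f).IsContinuous (J i) (J j) := fun f => (hF f).1
  have hfr : ∀ f : j ⟶ i, ((FibSite.invImage F f).sheafPushforwardContinuous (Type u) (J i) (J j)).IsRightAdjoint :=
    fun f => (hF f).2.1
  obtain ⟨_, _, hlex⟩ := hF (hi.from j)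
  have := isIso_p (J := J) i j (hi.from j) (fun g => hi.hom_ext _ _)
  refine ⟨fun K _ _ => ?_⟩
  exact preservesLimitsOfShape_of_natIso
    (((FibSite.invImage F (hi.from j)).sheafAdjunctionContinuous (Type u) (J i) (J j)).leftAdjointUniq
      ((adj i j).ofNatIsoRight (asIso (p (J := J) i j (hi.from j)))))

end Groth.Agent.S13514
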