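import Groth.Statements.S13523
import Groth.Agent.L09.CechOpen

set_option autoImplicit false
universe u
open CategoryTheory CategoryTheory.Limits Opposite TopologicalSpace
open FibDesc

namespace Groth.Agent.S13523

/-- A surjective local homeomorphism `f : X ⟶ S` of topological spaces is universally of cohomological
1-descent for abelian sheaves. -/
theorem result {X S : TopCat.{u}} (f : X ⟶ S)
    (hf : IsLocalHomeomorph f) (hsurj : Function.Surjective f) : FibDesc.IsUnivCohDescentMap f := by
  intro S' g
  have hloc : ∀ z : S', ∃ (V : Opens S') (σ : TopCat.of V ⟶ pullback f g),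
      z ∈ V ∧ σ ≫ pullback.snd f g = TopCat.ofHom ⟨Subtype.val, continuous_subtype_val⟩ := by
    intro z
    obtain ⟨x, hx⟩ := hsurj (g z)
    obtain ⟨e, hxe, hfe⟩ := hf x
    let V : Opens S' := (Opens.map g).obj ⟨e.target, e.open_target⟩
    have hz : z ∈ V := by
      show g z ∈ e.target
      rw [← hx, hfe]
      exact e.map_source hxe
    let c : C(V, X) := ⟨fun v => e.symm (g v.1),
      e.continuousOn_symm.comp_continuous (g.hom.continuous.comp continuous_subtype_val) (fun v => v.2)⟩
    refine ⟨V, pullback.lift (TopCat.ofHom c) (TopCat.ofHom ⟨Subtype.val, continuous_subtype_val⟩) ?_, hz,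
      pullback.lift_snd _ _ _⟩
    ext v
    show f (e.symm (g v.1)) = g v.1
    rw [hfe]
    exact e.right_inv v.2
  choose V σ hV hσ using hloc
  refine Groth.L09.CechOpen.isCohDescentMap_of_openCover (pullback.snd f g)
    (fun z => (TopCat.ofHom ⟨Subtype.val, continuous_subtype_val⟩ : TopCat.of (V z) ⟶ S'))
    (fun z => (V z).isOpenEmbedding) (fun z => ⟨z, ⟨z, hV z⟩, rfl⟩) (fun z => ?_)
  exact Groth.L09.Contraction.isCohDescentTop (Groth.L09.CechSection.contraction _
    (pullback.lift (σ z) (𝟙 _) (by rw [Category.id_comp]; exact hσ z)) (pullback.lift_snd _ _ _))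

end Groth.Agent.S13523
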