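import Groth.Statements.S13528
import Groth.Agent.L09.FibSiteConv

set_option autoImplicit false
universe u
open CategoryTheory CategoryTheory.Limits Opposite Pseudofunctor.CoGrothendieck
open FibSite

namespace Groth.Agent.S13528

/-- Let `F` be a fibred category over a small category `𝒮` with small fibres and topologies `J` on the
fibres all of whose inverse-image functors are continuous, let `i` be an object of `𝒮`, `U` an
object of the fibre over `i`, and `u : R ⟶ h_U` a morphism of presheaves of sets on that fibre into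
the presheaf represented by `U`. Then `u` is bicovering for `J i` (inverted by every `J i`-sheaf) if
and only if its left Kan extension along the fibre inclusion `ι F i` is bicovering for the topology
on the total category generated by the coverings of the fibres. (The published statement is for
fibred sites; its proof uses only the continuity of the inverse-image functors.) -/
theorem result {𝒮 : Type u} [SmallCategory 𝒮]
    (F : Pseudofunctor (LocallyDiscrete 𝒮ᵒᵖ) Cat.{u, u}) (J : FibSite.Topologies F)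
    (hF : FibSite.IsPreFibSite F J) (i : 𝒮) {R : (F.obj ⟨op i⟩)ᵒᵖ ⥤ Type u} {U : F.obj ⟨op i⟩}
    (u : R ⟶ yoneda.obj U) :
    (J i).W u ↔ (FibSite.totalTopology F J).W (((ι F i).op.lan (H := Type u)).map u) := by
  have := Groth.L09.FibSiteTop.isContinuous_ι hF i
  have := Groth.L09.FibSiteTop.isCocontinuous_ι hF i
  have hf : ∀ f : i ⟶ i, (FibSite.invImage F f).IsContinuous (J i) (J i) := fun f => hF f
  let adj := (ι F i).op.lanAdjunction (Type u)
  refine ⟨fun h => Functor.W_map_of_adjunction_of_isContinuous (J i) (FibSite.totalTopology F J) (ι F i) _ adj u h,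
    fun h Z hZ => ?_⟩
  have hloc : ∀ (Q : FibSite.TotSh F J (Type u)), Function.Bijective
      (fun g : yoneda.obj U ⟶ (ι F i).op ⋙ Q.obj => u ≫ g) := fun Q =>
    (adj.map_comp_bijective_iff u Q.obj).1 (h _ Q.property)
  have hpt : ∀ (W : Sheaf (J i) (Type u)) (pt : Limits.terminal (Sheaf (J i) (Type u)) ⟶ W),
      Function.Bijective (fun g : yoneda.obj U ⟶ W.obj => u ≫ g) := by
    intro W pt
    let s := (Groth.L09.FibSiteConv.sec i W pt).hom
    let r := ((Groth.L09.FibSiteConv.r i).app W).hom
    have e : s ≫ r = 𝟙 _ := congrArg (fun k => k.hom) (Groth.L09.FibSiteConv.sec_r i W pt)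
    refine ⟨fun a b (hab : u ≫ a = u ≫ b) => ?_, fun φ => ?_⟩
    · have h1 : a ≫ s = b ≫ s := (hloc _).1 (show u ≫ a ≫ s = u ≫ b ≫ s by rw [← Category.assoc, hab, Category.assoc])
      exact (Category.comp_id a).symm.trans ((congrArg (a ≫ ·) e.symm).trans ((Category.assoc _ _ _).symm.trans
        ((congrArg (· ≫ r) h1).trans ((Category.assoc _ _ _).trans ((congrArg (b ≫ ·) e).trans (Category.comp_id b))))))
    · obtain ⟨g, hg⟩ := (hloc _).2 (φ ≫ s)
      exact ⟨g ≫ r, (Category.assoc _ _ _).symm.trans ((congrArg (· ≫ r) hg).trans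
        ((Category.assoc _ _ _).trans ((congrArg (φ ≫ ·) e).trans (Category.comp_id φ))))⟩
  let Zs : Sheaf (J i) (Type u) := ⟨Z, hZ⟩
  let F' := sheafToPresheaf (J i) (Type u)
  have hsq := (Groth.L09.PlusPoint.isPullback_inl (Limits.terminal.from Zs)).map F'
  refine ⟨fun a b (hab : u ≫ a = u ≫ b) => hsq.hom_ext ?_ ?_, fun φ => ?_⟩
  · exact (hpt _ coprod.inr).1 (show u ≫ a ≫ _ = u ≫ b ≫ _ by rw [← Category.assoc, hab, Category.assoc])
  · exact (hpt _ (𝟙 _)).1 (show u ≫ a ≫ _ = u ≫ b ≫ _ by rw [← Category.assoc, hab, Category.assoc])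
  · obtain ⟨e, he⟩ := (hpt _ coprod.inr).2 (φ ≫ F'.map (coprod.inl : Zs ⟶ Zs ⨿ ⊤_ _))
    obtain ⟨o, ho⟩ := (hpt _ (𝟙 _)).2 (φ ≫ F'.map (Limits.terminal.from Zs))
    have hw := (hpt _ coprod.inr).1 (a₁ := e ≫ F'.map (coprod.map (Limits.terminal.from Zs) (𝟙 (⊤_ _))))
      (a₂ := o ≫ F'.map coprod.inl) (by
        show u ≫ e ≫ _ = u ≫ o ≫ _
        refine (Category.assoc _ _ _).symm.trans ((congrArg (· ≫ _) he).trans ?_)
        refine Eq.symm ((Category.assoc _ _ _).symm.trans ((congrArg (· ≫ _) ho).trans ?_))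
        refine (Category.assoc _ _ _).trans ((congrArg (φ ≫ ·) hsq.w.symm).trans (Category.assoc _ _ _).symm))
    refine ⟨hsq.lift e o hw, hsq.hom_ext ?_ ?_⟩
    · exact (Category.assoc _ _ _).trans ((congrArg (u ≫ ·) (hsq.lift_fst e o hw)).trans he)
    · exact (Category.assoc _ _ _).trans ((congrArg (u ≫ ·) (hsq.lift_snd e o hw)).trans ho)

end Groth.Agent.S13528
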