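import Groth.Statements.S13533
import Groth.Agent.L15.BasicElements
import Mathlib.RingTheory.LocalRing.Module
import Mathlib.Algebra.Module.LocalizedModule.Exact
import Mathlib.LinearAlgebra.Dimension.OrzechProperty

set_option autoImplicit false
universe u
open ResProp

namespace Groth.Agent.S13533

open Groth.L15.BasicElements

section
variable {A : Type u} [CommRing A] {M : Type u} [AddCommGroup M] [Module A M] {m : ℕ}

theorem linearCombination_eq_zero_det (z : Fin m → M) (f : Fin m → Module.Dual A M)
    (c : Fin m → A) (hc : Fintype.linearCombination A z c = 0) (b : Fin m) :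
    (Matrix.of fun a b => f a (z b)).det * c b = 0 := by
  classical
  have h1 : Matrix.mulVec (Matrix.of fun a b => f a (z b)) c = 0 := by
    funext a
    have := congrArg (f a) hc
    simpa [Fintype.linearCombination_apply, Matrix.mulVec, dotProduct, map_sum, mul_comm] using this
  have h2 := congrArg (Matrix.mulVec (Matrix.of fun a b => f a (z b)).adjugate) h1
  rw [Matrix.mulVec_mulVec, Matrix.adjugate_mul, Matrix.smul_mulVec, Matrix.one_mulVec,
    Matrix.mulVec_zero] at h2
  simpa using congrFun h2 b

theorem quotient_free_localized [Module.Finite A M] {r k : ℕ} (hm : r = m + k) (p : PrimeSpectrum A)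
    (e : LocalizedModule p.asIdeal.primeCompl M ≃ₗ[Localization.AtPrime p.asIdeal]
      (Fin r → Localization.AtPrime p.asIdeal))
    (z : Fin m → M) (f : Fin m → Module.Dual A M)
    (hdet : (Matrix.of fun a b => f a (z b)).det ∉ p.asIdeal) :
    Nonempty (LocalizedModule p.asIdeal.primeCompl
        (M ⧸ LinearMap.range (Fintype.linearCombination A z)) ≃ₗ[Localization.AtPrime p.asIdeal]
      (Fin k → Localization.AtPrime p.asIdeal)) := by
  classical
  set N := LinearMap.range (Fintype.linearCombination A z) with hNdef
  let S := p.asIdeal.primeCompl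
  let L := Localization.AtPrime p.asIdeal
  let MS := LocalizedModule S M
  let mk := LocalizedModule.mkLinearMap S M
  let ι : (Fin m → L) →ₗ[L] MS := Fintype.linearCombination L (fun b => mk (z b))
  let G : MS →ₗ[L] (Fin m → L) := LinearMap.pi fun a =>
    LinearMap.extendScalarsOfIsLocalization S L
      (IsLocalizedModule.map S mk (Algebra.linearMap A L) (f a))
  have hG : ∀ v a, G (mk v) a = algebraMap A L (f a v) := by
    intro v a
    change IsLocalizedModule.map S mk (Algebra.linearMap A L) (f a) (mk v) = _
    rw [IsLocalizedModule.map_apply]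
    rfl
  let T : Matrix (Fin m) (Fin m) L :=
    (algebraMap A L).mapMatrix (Matrix.of fun a b => f a (z b))
  have hT : IsUnit T.det := by
    rw [← RingHom.map_det]
    exact IsLocalization.map_units L (⟨_, hdet⟩ : S)
  let R : MS →ₗ[L] (Fin m → L) := (Matrix.toLin' T⁻¹) ∘ₗ G
  have hRι : ∀ c, R (ι c) = c := by
    intro c
    have h1 : G (ι c) = T.mulVec c := by
      funext a
      simp only [ι, Fintype.linearCombination_apply, map_sum, map_smul, Finset.sum_apply,
        Pi.smul_apply, hG, smul_eq_mul, T, Matrix.mulVec, dotProduct, RingHom.mapMatrix_apply,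
        Matrix.map_apply, Matrix.of_apply]
      exact Finset.sum_congr rfl fun b _ => mul_comm _ _
    change Matrix.toLin' T⁻¹ (G (ι c)) = c
    rw [h1, Matrix.toLin'_apply, Matrix.mulVec_mulVec, Matrix.nonsing_inv_mul T hT,
      Matrix.one_mulVec]
  have hι : Function.Injective ι := Function.LeftInverse.injective hRι
  have hcompl : IsCompl (LinearMap.range ι) (LinearMap.ker R) := by
    constructor
    · rw [Submodule.disjoint_def]
      rintro _ ⟨c, rfl⟩ hc
      rw [LinearMap.mem_ker, hRι] at hc
      rw [hc, map_zero]
    · rw [codisjoint_iff, eq_top_iff]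
      intro v _
      rw [show v = ι (R v) + (v - ι (R v)) by abel]
      refine Submodule.add_mem_sup ⟨_, rfl⟩ ?_
      rw [LinearMap.mem_ker, map_sub, hRι, sub_self]
  let q : MS →ₗ[L] LocalizedModule S (M ⧸ N) := LocalizedModule.map S N.mkQ
  have hq : Function.Surjective q := LocalizedModule.map_surjective S _ N.mkQ_surjective
  have hker : LinearMap.ker q = LinearMap.range ι := by
    refine le_antisymm (fun v hv => ?_) ?_
    · have hex : Function.Exact
          (IsLocalizedModule.map S (LocalizedModule.mkLinearMap S (Fin m → A)) mk
            (Fintype.linearCombination A z))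
          (IsLocalizedModule.map S mk (LocalizedModule.mkLinearMap S (M ⧸ N)) N.mkQ) := by
        refine LocalizedModule.map_exact S _ _ (LinearMap.exact_iff.mpr ?_)
        rw [Submodule.ker_mkQ]
      obtain ⟨w, rfl⟩ := (hex v).mp hv
      induction w using LocalizedModule.induction_on with
      | h c s =>
        rw [IsLocalizedModule.map_LocalizedModules]
        refine ⟨(Localization.mk 1 s : L) • fun b => algebraMap A L (c b), ?_⟩
        rw [map_smul]
        have : ι (fun b => algebraMap A L (c b)) = mk (Fintype.linearCombination A z c) := by
          simp [ι, Fintype.linearCombination_apply, map_sum, algebraMap_smul]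
        rw [this, LocalizedModule.mkLinearMap_apply, LocalizedModule.mk_smul_mk, one_smul, mul_one]
    · rintro _ ⟨c, rfl⟩
      simp only [LinearMap.mem_ker, ι, Fintype.linearCombination_apply, map_sum, map_smul]
      refine Finset.sum_eq_zero fun b _ => ?_
      have hb : z b ∈ N := ⟨Pi.single b 1, by simp⟩
      change c b • IsLocalizedModule.map S mk (LocalizedModule.mkLinearMap S (M ⧸ N)) N.mkQ (mk (z b)) = 0
      simp only [mk, LocalizedModule.mkLinearMap_apply, IsLocalizedModule.map_LocalizedModules,
        Submodule.mkQ_apply, (Submodule.Quotient.mk_eq_zero N).mpr hb, LocalizedModule.zero_mk,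
        smul_zero]
  let eq1 : LocalizedModule S (M ⧸ N) ≃ₗ[L] LinearMap.ker R :=
    (q.quotKerEquivOfSurjective hq).symm.trans
      ((Submodule.quotEquivOfEq _ _ hker).trans
        (Submodule.quotientEquivOfIsCompl _ _ hcompl))
  have : Module.Free L MS := Module.Free.of_equiv e.symm
  have : Module.Finite L MS := Module.Finite.equiv e.symm
  let prj : MS →ₗ[L] LinearMap.ker R :=
    LinearMap.codRestrict _ (LinearMap.id - ι ∘ₗ R) (fun v => by
      rw [LinearMap.mem_ker, LinearMap.sub_apply, LinearMap.id_apply, map_sub]
      exact sub_eq_zero.mpr (hRι (R v)).symm)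
  have : Module.Projective L (LinearMap.ker R) := by
    refine Module.Projective.of_split (LinearMap.ker R).subtype prj ?_
    ext ⟨v, hv⟩
    simp [prj, LinearMap.mem_ker.mp hv]
  have hfin : Module.Finite L (LinearMap.ker R) := Module.Finite.of_surjective prj fun ⟨v, hv⟩ =>
    ⟨v, by ext; simp [prj, LinearMap.mem_ker.mp hv]⟩
  have : Module.Free L (LinearMap.ker R) := Module.free_of_flat_of_isLocalRing
  have hrk : Module.finrank L (LinearMap.ker R) = k := by
    have h1 : Module.finrank L MS = r := by rw [e.finrank_eq, Module.finrank_fin_fun]
    let e2 : ((Fin m → L) × LinearMap.ker R) ≃ₗ[L] MS :=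
      ((LinearEquiv.ofInjective ι hι).prodCongr (LinearEquiv.refl L _)).trans
        (Submodule.prodEquivOfIsCompl _ _ hcompl)
    rw [← e2.finrank_eq, Module.finrank_prod, Module.finrank_fin_fun] at h1
    omega
  exact ⟨eq1.trans (Module.finBasisOfFinrankEq L (LinearMap.ker R) hrk).equivFun⟩

end

/-- Let k ≤ r, let A be a Noetherian ring none of whose associated primes has height greater than k, and
let M be a finitely generated A-module which is free of rank r at every prime of height at most k.
Then M has a free submodule N of rank r - k such that M/N is free of rank k at every prime of height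
at most k. Freeness of a given rank is expressed by linear isomorphisms with coordinate modules.
(The published statement has no hypothesis on the associated primes of A; for A = ℤ[X]/(X², 2X), M =
A/(X), k = 0 and r = 1 every other hypothesis holds while X annihilates M, so M contains no free
submodule of rank 1. The printed argument produces an element of M that is part of a basis at every
prime of height at most k; the submodule it generates is free exactly when its annihilator vanishes
at the associated primes of A, which the added hypothesis guarantees.) -/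
theorem result (A : Type u) [CommRing A] [IsNoetherianRing A]
    (M : Type u) [AddCommGroup M] [Module A M] [Module.Finite A M] (k r : ℕ) (hkr : k ≤ r)
    (hAss : ∀ p ∈ associatedPrimes A A, p.height ≤ k)
    (hM : ∀ p : PrimeSpectrum A, p.asIdeal.height ≤ k →
      Nonempty (LocalizedModule p.asIdeal.primeCompl M ≃ₗ[Localization.AtPrime p.asIdeal]
        (Fin r → Localization.AtPrime p.asIdeal))) :
    ∃ N : Submodule A M, Nonempty (N ≃ₗ[A] (Fin (r - k) → A)) ∧
      ∀ p : PrimeSpectrum A, p.asIdeal.height ≤ k →
        Nonempty (LocalizedModule p.asIdeal.primeCompl (M ⧸ N) ≃ₗ[Localization.AtPrime p.asIdeal]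
          (Fin k → Localization.AtPrime p.asIdeal)) := by
  classical
  have : Module.FinitePresentation A M := Module.finitePresentation_of_finite A M
  let F := fun p hp => (exists_frame (r := r) p (hM p hp).some).some
  obtain ⟨x, hx⟩ := exists_basic hkr F
  have hdet : ∀ (p : PrimeSpectrum A), p.asIdeal.height ≤ k →
      ∃ f : Fin (r - k) → Module.Dual A M,
        (Matrix.of fun a b => f a (x b)).det ∉ p.asIdeal := by
    intro p hp
    refine (F p hp).exists_det_of_linearIndependent x (linearIndependent_iff_card_le_finrank_span.mpr ?_)
    rw [Fintype.card_fin]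
    exact hx p hp
  have hinj : Function.Injective (Fintype.linearCombination A x) := by
    rw [← LinearMap.ker_eq_bot, eq_bot_iff]
    intro c hc
    refine Submodule.mem_bot A |>.mpr (funext fun b => ?_)
    by_contra hb
    obtain ⟨P, hP, hle⟩ := exists_le_isAssociatedPrime_of_isNoetherianRing A (c b) hb
    have := hP.isPrime
    obtain ⟨f, hf⟩ := hdet ⟨P, hP.isPrime⟩ (hAss P hP)
    exact hf (hle (Submodule.mem_colon_singleton.mpr
      ((Submodule.mem_bot A).mpr (linearCombination_eq_zero_det x f c hc b))))
  refine ⟨LinearMap.range (Fintype.linearCombination A x),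
    ⟨(LinearEquiv.ofInjective _ hinj).symm⟩, fun p hp => ?_⟩
  obtain ⟨f, hf⟩ := hdet p hp
  exact quotient_free_localized (by omega) p (hM p hp).some x f hf

end Groth.Agent.S13533
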