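import Groth.Statements.S13534
import Groth.Agent.L16.FlatQuot.Main

set_option autoImplicit false
universe u
open CategoryTheory CategoryTheory.Limits AlgebraicGeometry
open ResProp

namespace Groth.Agent.S13534

/-- In the case of schemes, on a quasi-compact scheme with affine diagonal (the intersection of any two
affine opens is affine) every quasi-coherent module is a quotient of a flat quasi-coherent module.
(The published statement is for quasi-compact algebraic stacks with affine diagonal; this row is the
case of schemes.) -/
theorem result (X : Scheme.{u}) [CompactSpace X]
    (hd : ∀ V W : X.Opens, IsAffineOpen V → IsAffineOpen W → IsAffineOpen (V ⊓ W))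
    (M : X.Modules) (hM : Coh.IsQCoh M) :
    ∃ (F : X.Modules) (π : F ⟶ M), Coh.IsQCoh F ∧ FlatMod.IsFlat F ∧ Epi π := by
  exact Groth.L16.FlatQuot.exists_flat_cover hd M hM
end Groth.Agent.S13534
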