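import Groth.Statements.S13535
import Groth.Agent.L17.Kun.AffinePush
import Groth.Agent.L07.PrinParts.Mod
import Groth.Agent.L03.Euler.Push
import Groth.Agent.L16.AffineBC.Pullback

set_option autoImplicit false
universe u
open CategoryTheory CategoryTheory.Limits AlgebraicGeometry
open ResProp

set_option backward.isDefEq.respectTransparency.types false
namespace Groth.Agent.S13535

/-- Let X and Y be proper over a Noetherian ring A and let f : Y ⟶ X be a finite A-morphism. If a
sequence (E_n) of coherent modules on X is cohomologically d-ample (d a positive integer), meaning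
that for every coherent F the groups H^i(X, F ⊗ E_n) vanish for all i ≥ d + 1 and all large n, then
so is the sequence of pullbacks (f^*E_n) on Y. -/
theorem result (A : Type u) [CommRing A] [IsNoetherianRing A]
    {X Y : Scheme.{u}} (pX : X ⟶ Spec (CommRingCat.of A)) (pY : Y ⟶ Spec (CommRingCat.of A))
    [IsProper pX] [IsProper pY] (f : Y ⟶ X) (hf : f ≫ pX = pY) [IsFinite f]
    (d : ℕ) (hd : 0 < d) (E : ℕ → X.Modules) (hE : ∀ n, Coh.IsCoh (E n))
    (hamp : ∀ F : X.Modules, Coh.IsCoh F → ∃ n₀ : ℕ, ∀ n : ℕ, n₀ ≤ n → ∀ i : ℕ, d + 1 ≤ i →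
        Subsingleton (Coh.HH X (CohB1.tensorMod F (E n)) i)) :
    ∀ F : Y.Modules, Coh.IsCoh F → ∃ n₀ : ℕ, ∀ n : ℕ, n₀ ≤ n → ∀ i : ℕ, d + 1 ≤ i →
        Subsingleton (Coh.HH Y (CohB1.tensorMod F ((Scheme.Modules.pullback f).obj (E n))) i) := by
  intro F hF
  haveI : X.IsSeparated := ⟨(terminal.comp_from pX).symm ▸ (inferInstance : IsSeparated (pX ≫ terminal.from _))⟩
  haveI : Coh.IsQCoh F := hF.1
  obtain ⟨n₀, h₀⟩ := hamp _ (Groth.L07.PrinParts.isCoh_pushforward_finite f hF)
  refine ⟨n₀, fun n hn i hi => ?_⟩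
  haveI : Coh.IsQCoh (E n) := (hE n).1
  let M := CohB1.tensorMod F ((Scheme.Modules.pullback f).obj (E n))
  haveI : Coh.IsQCoh M :=
    haveI := Groth.L16.AffineBC.isQCoh_pullback f (E n)
    Groth.L00.Tensor.isQCoh_tensorMod _ _
  have sq : IsPullback (𝟙 Y) f f (𝟙 X) := IsPullback.of_horiz_isIso ⟨by simp⟩
  haveI hiso := Groth.L17.Kun.isIso_θc f (𝟙 X) (𝟙 Y) f sq (E n) F
  let e : CohB1.tensorMod ((Scheme.Modules.pushforward f).obj F) (E n) ≅ (Scheme.Modules.pushforward f).obj M :=
    Groth.L00.Tensor.tensorComm _ _ ≪≫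
      Groth.L00.Tensor.tensorIso (Iso.refl (E n)) ((Scheme.Modules.pullbackId X).app _).symm ≪≫
      (@asIso _ _ _ _ (Groth.L17.FlatPair.θc f (𝟙 X) (𝟙 Y) f sq.w (E n) F) hiso) ≪≫
      (Scheme.Modules.pushforward f).mapIso
        (Groth.L00.Tensor.tensorIso (Iso.refl _) ((Scheme.Modules.pullbackId Y).app F) ≪≫
          Groth.L00.Tensor.tensorComm _ _)
  have hV : ∀ (m : ℕ) (a : Fin (m + 1) → X.affineOpens), IsAffineOpen (⨅ j, (a j).1) :=
    fun m a => IsAffineOpen.iInf fun j => (a j).2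
  haveI : Coh.IsQCoh ((Coh.push f).obj M) := Groth.L16.QcqsPush.isQCoh_push M f
  obtain ⟨eq1, -⟩ := Groth.L16.PushCompare.exists_HH_push f M (fun U : X.affineOpens => U.1)
    (iSup_affineOpens_eq_top X)
    (fun m a q => subsingleton_of_forall_eq 0 (Groth.L17.hu_affine_eq_zero M ((hV m a).preimage f) q))
    (fun m a q => subsingleton_of_forall_eq 0 (Groth.L17.hu_affine_eq_zero _ (hV m a) q)) i
  haveI := h₀ n hn i hi
  have hinj : Function.Injective (Groth.L16.CohLinear.hmap e.inv i) :=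
    Function.LeftInverse.injective (g := Groth.L16.CohLinear.hmap e.hom i) fun x => by
      refine (Groth.L16.CohLinear.hmap_comp e.inv e.hom i x).symm.trans ?_
      rw [e.inv_hom_id]
      exact Groth.L16.CohLinear.hmap_id i x
  haveI : Subsingleton (Coh.HH X ((Scheme.Modules.pushforward f).obj M) i) := hinj.subsingleton
  exact eq1.toEquiv.subsingleton

end Groth.Agent.S13535
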