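import Groth.Statements.S13540
import Groth.Agent.L27.CohAmple.Main

set_option autoImplicit false
universe u
open CategoryTheory CategoryTheory.Limits AlgebraicGeometry
open ResProp

namespace Groth.Agent.S13540

/-- Let f : Y ⟶ X be a proper birational morphism (an isomorphism over a dense open with dense preimage)
of d-dimensional schemes proper over a Noetherian ring A, with Y carrying an ample invertible module
L. If a coherent module F on X pulls back to a module isomorphic to L over the preimage of an open V
of X containing all points of codimension at most 1, then F is cohomologically (d-1)-ample: for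
every coherent G on X the groups H^i(X, G ⊗ F^n) (tensor powers) vanish for all i ≥ d and all large
n. Here d ≥ 1: for d = 0 the vanishing would include degree 0 and fails when X = Y is the spectrum
of a field and F = L is the structure sheaf; (d-1)-ampleness presupposes d ≥ 1. -/
theorem result (A : Type u) [CommRing A] [IsNoetherianRing A]
    {X Y : Scheme.{u}} (pX : X ⟶ Spec (CommRingCat.of A)) (pY : Y ⟶ Spec (CommRingCat.of A))
    [IsProper pX] [IsProper pY] (f : Y ⟶ X) (hf : f ≫ pX = pY) [IsProper f]
    (U : X.Opens) (hU : Dense (U : Set X)) (hU' : Dense ((f ⁻¹ᵁ U : Y.Opens) : Set Y)) (hiso : IsIso (f ∣_ U))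
    (d : ℕ) (hd : 1 ≤ d) (hX : topologicalKrullDim X = d) (hY : topologicalKrullDim Y = d)
    (L : Y.Modules) (hL : CohB1.IsAmple L)
    (V : X.Opens) (hV : ∀ y : X, ringKrullDim (X.presheaf.stalk y) ≤ 1 → y ∈ V)
    (F : X.Modules) (hF : Coh.IsCoh F)
    (hFL : Nonempty (((Scheme.Modules.pullback f).obj F).restrict (f ⁻¹ᵁ V).ι ≅ L.restrict (f ⁻¹ᵁ V).ι)) :
    ∀ G : X.Modules, Coh.IsCoh G → ∃ n₀ : ℕ, ∀ n : ℕ, n₀ ≤ n → ∀ i : ℕ, d ≤ i →
      Subsingleton (Coh.HH X (CohB1.tensorMod G (CohB1.tensorPow F n)) i) := by
  exact Groth.L27.CohAmple.cohAmple A pX pY f U hU hU' hiso d hd hX.le L hL V hV F hF hFL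

end Groth.Agent.S13540
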