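import Groth.Statements.S13541
import Groth.Agent.L09.ResEmb.Forward
import Groth.Agent.L09.ResEmb.Backward

set_option autoImplicit false
universe u
open CategoryTheory CategoryTheory.Limits AlgebraicGeometry
open ResProp

namespace Groth.Agent.S13541

/-- In the case of schemes, a Noetherian scheme S has the resolution property exactly when each affine
finite-type morphism X ⟶ S factors over S through a closed immersion of X into a vector bundle V(E)
= Spec Sym(E), E a finite locally free module on S (V(E) is given as the relative spectrum of a
quasi-coherent algebra A with a map E ⟶ A making A the symmetric algebra of E). (The published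
statement is for Noetherian algebraic stacks; this row is the case of schemes.) -/
theorem result (S : Scheme.{u}) [IsNoetherian S] :
    PerfAux.HasResolutionProperty S ↔
      ∀ (X : Scheme.{u}) (f : X ⟶ S) [IsAffineHom f] [LocallyOfFiniteType f],
        ∃ (E : S.Modules) (A : RelSpec.QCAlg S) (j : E ⟶ A.toModule) (i : X ⟶ A.spec),
          Coh.IsQCoh E ∧ FlatMod.IsFinLocFree E ∧ RelSpec.IsSymAlg E A j ∧ IsClosedImmersion i ∧ i ≫ A.π = f := by
  refine ⟨fun h X f _ _ => Groth.L09.ResEmb.exists_embedding_of_resolution h f,
    Groth.L09.ResEmb.hasResolutionProperty_of_embeddings S⟩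

end Groth.Agent.S13541
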