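import Groth.Statements.S13542
import Groth.Agent.L29.DCoh.GenPush

set_option autoImplicit false
universe u
open CategoryTheory CategoryTheory.Limits AlgebraicGeometry
open ResProp

namespace Groth.Agent.S13542

/-- In the case of schemes over an affine base, let f : X ⟶ Y be finite, flat, of finite presentation
and surjective between quasi-compact quasi-separated schemes. If a family (E_i) of finitely
presented quasi-coherent modules on X is generating, i.e. every quasi-coherent module on X is a
quotient of a direct sum of copies of the E_i, then the family of direct images (f_*E_i) is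
generating on Y. (The published statement is for morphisms of algebraic stacks and families
generating relative to a further morphism; this row is the case of schemes with the absolute notion
of a generating family.) -/
theorem result {X Y : Scheme.{u}}
    [CompactSpace X] [QuasiSeparatedSpace X] [CompactSpace Y] [QuasiSeparatedSpace Y]
    (f : X ⟶ Y) [IsFinite f] [Flat f] [LocallyOfFinitePresentation f] [Surjective f]
    {ι : Type u} (E : ι → X.Modules) (hE : ∀ i, Coh.IsQCoh (E i) ∧ CohB1.IsFP (E i))
    (hgen : ∀ M : X.Modules, Coh.IsQCoh M →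
      ∃ (κ : Type u) (j : κ → ι) (π : (∐ fun k : κ => E (j k)) ⟶ M), Epi π) :
    ∀ N : Y.Modules, Coh.IsQCoh N →
      ∃ (κ : Type u) (j : κ → ι) (π : (∐ fun k : κ => (Scheme.Modules.pushforward f).obj (E (j k))) ⟶ N), Epi π := by
  intro N hN
  haveI := hN
  have hf : Mor2.IsFinLocFree f := ⟨inferInstance, inferInstance, inferInstance⟩
  obtain ⟨P, π, hP, hπ⟩ := Groth.L29.DC.GenPush.exists_epi_push_pullback f
    (Groth.L19.FinLocPush.isFinLocFree_push f hf).2 N
  haveI := hP
  haveI : Coh.IsQCoh ((Scheme.Modules.pullback f).obj P) := Groth.L16.AffineBC.isQCoh_pullback f P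
  obtain ⟨κ, j, ρ, hρ⟩ := hgen ((Scheme.Modules.pullback f).obj P) inferInstance
  let D : Discrete κ ⥤ X.Modules := Discrete.functor fun k => E (j k)
  haveI : Coh.IsQCoh (∐ fun k : κ => E (j k)) :=
    Groth.L29.DC.QCohColim.isQCoh_colimit D _ (colimit.isColimit D) fun k => (hE (j k.as)).1
  haveI := Groth.L18.DirImg.preservesColimit_pushforward f D fun k => (hE (j k.as)).1
  haveI := hρ
  haveI := hπ
  haveI := Groth.L29.DC.GenPush.epi_push_map f ρ
  refine ⟨κ, j, (PreservesCoproduct.iso (Scheme.Modules.pushforward f) (fun k : κ => E (j k))).inv ≫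
    (Scheme.Modules.pushforward f).map ρ ≫ π, ?_⟩
  infer_instance

end Groth.Agent.S13542
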