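import Groth.Statements.S13543
import Groth.Agent.L09.ResEmb.Generating

set_option autoImplicit false
universe u
open CategoryTheory CategoryTheory.Limits AlgebraicGeometry
open ResProp

namespace Groth.Agent.S13543

/-- In the case of schemes, on a quasi-compact quasi-separated scheme X let (E_i) be a family of
finitely presented quasi-coherent modules closed (up to isomorphism) under binary tensor products
and binary direct sums. Then (E_i) is a generating family, i.e. every quasi-coherent module is a
quotient of a direct sum of copies of the E_i, if and only if every affine morphism Y ⟶ X factors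
over X through a closed immersion of Y into the vector bundle V(E) = Spec Sym(E) of a direct sum E
of copies of members of the family, with finitely many summands whenever Y ⟶ X is of finite type
(V(E) is given as the relative spectrum of a quasi-coherent algebra that is the symmetric algebra of
E). (The published statement is for quasi-compact quasi-separated algebraic stacks and takes E to be
the direct sum of a subfamily without repeated members; this row is the case of schemes and allows
repetitions, as the printed argument produces: for the generating family of free modules k, k^2,
k^3, … on a point and the affine morphism from the spectrum of a polynomial ring in uncountably many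
variables, no direct sum of distinct members works.) -/
theorem result (X : Scheme.{u}) [CompactSpace X] [QuasiSeparatedSpace X]
    {ι : Type u} (E : ι → X.Modules) (hE : ∀ i, Coh.IsQCoh (E i) ∧ CohB1.IsFP (E i))
    (htens : ∀ i i' : ι, ∃ i'' : ι, Nonempty (E i'' ≅ CohB1.tensorMod (E i) (E i')))
    (hsum : ∀ i i' : ι, ∃ i'' : ι, Nonempty (E i'' ≅ E i ⊞ E i')) :
    (∀ M : X.Modules, Coh.IsQCoh M → ∃ (κ : Type u) (j : κ → ι) (π : (∐ fun k : κ => E (j k)) ⟶ M), Epi π) ↔
    (∀ (Y : Scheme.{u}) (f : Y ⟶ X) [IsAffineHom f],
      ∃ (κ : Type u) (j : κ → ι) (B : RelSpec.QCAlg X) (φ : (∐ fun k : κ => E (j k)) ⟶ B.toModule) (c : Y ⟶ B.spec),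
        RelSpec.IsSymAlg (∐ fun k : κ => E (j k)) B φ ∧ IsClosedImmersion c ∧ c ≫ B.π = f ∧
        (LocallyOfFiniteType f → Finite κ)) := by
  exact Groth.L09.ResEmb.generating_iff E hE

end Groth.Agent.S13543
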