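import Groth.Statements.S13547
import Groth.Agent.L10.FMBC.Equiv

set_option autoImplicit false
set_option linter.style.haveILetI false
set_option backward.defeqAttrib.useBackward true
set_option backward.isDefEq.respectTransparency false
universe u
open CategoryTheory AlgebraicGeometry
attribute [local instance] HasDerivedCategory.standard
open DEquiv

namespace Groth.Agent.S13547

/-- Let X → S and Y → S be smooth proper morphisms and let K, a complex of modules on X ×_S Y, be a
Fourier–Mukai kernel giving a relative equivalence over S from X to Y. The derived functors involved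
are assumed to exist (instance binders), and the Fourier–Mukai functor Φ_K = Rpr_{2,*}(Lpr_1^*(−)
⊗^L K) is assumed to send perfect objects to perfect objects (hypothesis h). Then Φ_K : D_perf(O_X)
⥤ D_perf(O_Y) is an equivalence of categories. -/
theorem result {S X Y : Scheme.{u}} (a : X ⟶ S) (b : Y ⟶ S)
    [Smooth a] [IsProper a] [Smooth b] [IsProper b]
    (K : CochainComplex (Limits.pullback a b).Modules ℤ)
    [DCoh.HasLpull (Limits.pullback.fst a b)] [DCoh.HasLTensorCx K] [DCoh.HasRpush (Limits.pullback.snd a b)]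
    [DCoh.HasLpull (FMK.p12 a b a)] [DCoh.HasRpush (FMK.p13 a b a)]
    [∀ L : CochainComplex (FMK.T a b a).Modules ℤ, DCoh.HasLTensorCx L]
    [DCoh.HasLpull (FMK.p12 b a b)] [DCoh.HasRpush (FMK.p13 b a b)]
    [∀ L : CochainComplex (FMK.T b a b).Modules ℤ, DCoh.HasLTensorCx L]
    (hK : FMK.IsRelEquivKernel a b K)
    (h : ∀ M : DCoh.D X, SGA6.perfP X M → SGA6.perfP Y ((FMK.phi a b K).obj M)) :
    (FMK.phiOn a b K (SGA6.perfP X) (SGA6.perfP Y) h).IsEquivalence := by
  obtain ⟨hKp, K', hK'p, h₁, h₂⟩ := hK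
  haveI : DCoh.HasLpull (Limits.pullback.fst b a) := Groth.L00.KFlat.hasLpull _
  haveI : DCoh.HasLTensorCx K' := Groth.L00.KFlat.hasLTensorCx K'
  haveI : DCoh.HasRpush (Limits.pullback.snd b a) := Groth.L29.DC.RpushQC.hasRpush _
  have hKq := Groth.L29.DC.PCQCoh.isQCohD_of_perfect hKp
  have hK'q := Groth.L29.DC.PCQCoh.isQCohD_of_perfect hK'p
  obtain ⟨η⟩ := Groth.L10.FMBC.nonempty_phi_comp_id a b K K' hKq hK'q h₁
  obtain ⟨ε⟩ := Groth.L10.FMBC.nonempty_phi_comp_id b a K' K hK'q hKq h₂
  have hX : SGA6.perfP X ≤ DCoh.IsQCohD (X := X) := fun M hM => Groth.L29.DC.PCQCoh.isQCohD_of_perfect hM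
  have hY : SGA6.perfP Y ≤ DCoh.IsQCohD (X := Y) := fun M hM => Groth.L29.DC.PCQCoh.isQCohD_of_perfect hM
  exact Groth.L10.FMBC.isEquivalence_lift (SGA6.perfP X) (SGA6.perfP Y) (FMK.phi a b K) (FMK.phi b a K') h
    (Groth.L10.FMBC.isPerfect_phi b a K' hK'p) (Functor.isoWhiskerLeft (ObjectProperty.ιOfLE hX) η)
    (Functor.isoWhiskerLeft (ObjectProperty.ιOfLE hY) ε)

end Groth.Agent.S13547
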