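import Groth.Statements.S9734
import Groth.Agent.S9435
import Mathlib.AlgebraicGeometry.Morphisms.Etale
import Mathlib.AlgebraicGeometry.ResidueField
import Mathlib.RingTheory.LocalRing.ResidueField.Ideal

set_option autoImplicit false
universe u
open FlatMor

namespace Groth.Agent.S9734

open AlgebraicGeometry CategoryTheory Limits in
/-- Let S be a scheme, s a point of S and k a finite separable field extension of the residue field
κ(s). Then there is an étale neighbourhood (U, u) ⟶ (S, s) whose residue field extension κ(u)/κ(s)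
is isomorphic to k/κ(s). -/
theorem result (S : Scheme.{u}) (s : S) (k : Type u) [Field k]
    [Algebra (S.residueField s) k] [FiniteDimensional (S.residueField s) k] [Algebra.IsSeparable (S.residueField s) k] :
    ∃ (U : Scheme.{u}) (g : U ⟶ S) (u : U) (hu : g u = s), Etale g ∧
      letI := ((S.residueFieldCongr hu).inv ≫ g.residueFieldMap u).hom.toAlgebra
      Nonempty (k ≃ₐ[S.residueField s] U.residueField u) := by
  obtain ⟨_, ⟨V, hV, rfl⟩, hsV, -⟩ :=
    S.isBasis_affineOpens.exists_subset_of_mem_open (Set.mem_univ s) isOpen_univ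
  let p := (hV.primeIdealOf ⟨s, hsV⟩).asIdeal
  letI : Algebra Γ(S, V) (S.presheaf.stalk s) := S.presheaf.algebra_section_stalk ⟨s, hsV⟩
  haveI := hV.isLocalization_stalk ⟨s, hsV⟩
  let ev : Γ(S, V) →+* S.residueField s := (S.evaluation V s hsV).hom
  have hker : ∀ a, a ∈ p ↔ ev a = 0 := fun a => by
    have h1 : ev a = 0 ↔ ¬ IsUnit (algebraMap Γ(S, V) (S.presheaf.stalk s) a) :=
      (IsLocalRing.residue_eq_zero_iff _).trans (IsLocalRing.mem_maximalIdeal _)
    rw [h1, IsLocalization.AtPrime.isUnit_to_map_iff (S.presheaf.stalk s) p a]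
    exact ⟨fun h h' => h' h, fun h => not_not.1 h⟩
  let e : p.ResidueField →+* S.residueField s := Ideal.ResidueField.lift p ev
    (fun a ha => (hker a).1 ha) (fun a ha => (isUnit_iff_ne_zero.2 fun h => ha ((hker a).2 h)))
  have he : Function.Bijective e := by
    refine ⟨e.injective, fun b => ?_⟩
    obtain ⟨t, rfl⟩ := S.residue_surjective s b
    obtain ⟨⟨a, c⟩, hac⟩ := IsLocalization.surj p.primeCompl t
    refine ⟨algebraMap Γ(S, V) p.ResidueField a / algebraMap Γ(S, V) p.ResidueField c.1, ?_⟩
    rw [map_div₀, Ideal.ResidueField.lift_algebraMap, Ideal.ResidueField.lift_algebraMap,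
      div_eq_iff (fun h => c.2 ((hker _).2 h))]
    have := congrArg (S.residue s) hac
    rw [map_mul] at this
    exact this.symm
  letI : Algebra p.ResidueField k := ((algebraMap (S.residueField s) k).comp e).toAlgebra
  letI : Algebra p.ResidueField (S.residueField s) := e.toAlgebra
  haveI : IsScalarTower p.ResidueField (S.residueField s) k := IsScalarTower.of_algebraMap_eq fun _ => rfl
  haveI : Module.Finite p.ResidueField (S.residueField s) :=
    Module.Finite.of_surjective (Algebra.linearMap p.ResidueField (S.residueField s)) he.2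
  haveI : Module.Finite p.ResidueField k := Module.Finite.trans (S.residueField s) k
  haveI : Algebra.IsSeparable p.ResidueField (S.residueField s) :=
    AlgEquiv.Algebra.isSeparable (AlgEquiv.ofBijective (Algebra.ofId p.ResidueField (S.residueField s)) he)
  haveI : Algebra.IsSeparable p.ResidueField k := Algebra.IsSeparable.trans p.ResidueField (S.residueField s) k
  letI : Algebra Γ(S, V) k := ((algebraMap (S.residueField s) k).comp ev).toAlgebra
  haveI : IsScalarTower Γ(S, V) p.ResidueField k := IsScalarTower.of_algebraMap_eq fun a =>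
    (congrArg (algebraMap (S.residueField s) k) (Ideal.ResidueField.lift_algebraMap p ev _ _ a)).symm
  obtain ⟨R', _, _, hR', ψ, hψ⟩ := Groth.Agent.S9435.result Γ(S, V) p k
  let t : Spec (CommRingCat.of k) ⟶ Spec (CommRingCat.of R') := Spec.map (CommRingCat.ofHom ψ.toRingHom)
  let g : Spec (CommRingCat.of R') ⟶ S :=
    Spec.map (CommRingCat.ofHom (algebraMap Γ(S, V) R')) ≫ hV.fromSpec
  haveI : Etale (Spec.map (CommRingCat.ofHom (algebraMap Γ(S, V) R'))) := by
    rw [HasRingHomProperty.Spec_iff (P := @Etale)]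
    exact RingHom.etale_algebraMap.mpr hR'
  let σ : Spec (CommRingCat.of k) ⟶ S :=
    Spec.map (CommRingCat.ofHom (algebraMap (S.residueField s) k)) ≫ S.fromSpecResidueField s
  have htg : t ≫ g = σ := by
    have h1 : S.fromSpecResidueField s = Spec.map (S.evaluation V s hsV) ≫ hV.fromSpec := by
      rw [Scheme.fromSpecResidueField, ← hV.fromSpecStalk_eq_fromSpecStalk hsV, IsAffineOpen.fromSpecStalk,
        ← Category.assoc, ← Spec.map_comp]
      rfl
    show Spec.map _ ≫ Spec.map _ ≫ hV.fromSpec = Spec.map _ ≫ _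
    rw [h1, ← Spec.map_comp_assoc, ← Spec.map_comp_assoc]
    congr 2
    ext a
    exact ψ.commutes a
  obtain ⟨⟨u, φ⟩, hφ⟩ : ∃ x, (Scheme.SpecToEquivOfField k (Spec (CommRingCat.of R'))).symm x = t :=
    ⟨_, (Scheme.SpecToEquivOfField k (Spec (CommRingCat.of R'))).symm_apply_apply t⟩
  have hφt : Spec.map φ ≫ (Spec (CommRingCat.of R')).fromSpecResidueField u = t := hφ
  have h2 : (Scheme.SpecToEquivOfField k S).symm ⟨g u, g.residueFieldMap u ≫ φ⟩ =
      (Scheme.SpecToEquivOfField k S).symm ⟨s, CommRingCat.ofHom (algebraMap (S.residueField s) k)⟩ := by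
    show Spec.map (g.residueFieldMap u ≫ φ) ≫ S.fromSpecResidueField (g u) = σ
    rw [Spec.map_comp, Category.assoc, Scheme.Hom.SpecMap_residueFieldMap_fromSpecResidueField, ← Category.assoc,
      hφt, htg]
  obtain ⟨hu, hmap⟩ := Scheme.SpecToEquivOfField_eq_iff.1 ((Scheme.SpecToEquivOfField k S).symm.injective h2)
  have hu' : g u = s := hu
  have hmap' : g.residueFieldMap u ≫ φ = (S.residueFieldCongr hu').hom ≫ CommRingCat.ofHom (algebraMap (S.residueField s) k) := hmap
  have hsurj : Function.Surjective φ := by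
    have hr : Set.range ψ ⊆ φ.hom.fieldRange := by
      rintro _ ⟨r, rfl⟩
      refine ⟨(Spec (CommRingCat.of R')).residue u ((Spec (CommRingCat.of R')).presheaf.germ ⊤ u trivial
        ((Scheme.ΓSpecIso (CommRingCat.of R')).inv r)), ?_⟩
      rw [Scheme.fromSpecResidueField, Spec.fromSpecStalk_eq, ← Spec.map_comp, ← Spec.map_comp] at hφt
      exact RingHom.congr_fun (congrArg CommRingCat.Hom.hom (Spec.map_injective hφt)) r
    intro x
    have hx : x ∈ Subfield.closure (Set.range ψ) := by rw [hψ]; trivial
    exact (Subfield.closure_le.2 hr) hx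
  refine ⟨Spec (CommRingCat.of R'), g, u, hu', inferInstance, ?_⟩
  letI := ((S.residueFieldCongr hu').inv ≫ g.residueFieldMap u).hom.toAlgebra
  let φ' : (Spec (CommRingCat.of R')).residueField u →ₐ[S.residueField s] k := ⟨φ.hom, fun c => by
    show ((S.residueFieldCongr hu').inv ≫ g.residueFieldMap u ≫ φ) c = _
    rw [hmap', Iso.inv_hom_id_assoc]
    rfl⟩
  exact ⟨(AlgEquiv.ofBijective φ' ⟨φ'.toRingHom.injective, hsurj⟩).symm⟩
end Groth.Agent.S9734
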