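import Groth.Statements.S1355
import Groth.Agent.L16.Connected.FiniteLevels
import Groth.Agent.S9734
import Mathlib.AlgebraicGeometry.Geometrically.Connected

set_option autoImplicit false
universe u
open FlatMor

namespace Groth.Agent.S1355

open AlgebraicGeometry CategoryTheory Limits in
/-- Let f : X → S and s a point of S. The fibre of f over s is geometrically connected if and only if
for every étale morphism U → S and every point u over s, the fibre over u of the base change of f to
U is connected. -/
theorem result {X S : Scheme.{u}} (f : X ⟶ S) (s : S) :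
    GeometricallyConnected (f.fiberToSpecResidueField s) ↔
      ∀ (U : Scheme.{u}) (g : U ⟶ S) (u : U), Etale g → g u = s → ConnectedSpace ↑((pullback.snd f g).fiber u) := by
  have key : ∀ (U : Scheme.{u}) (g : U ⟶ S) (u : U) (φ : S.residueField s ⟶ U.residueField u),
      Spec.map φ ≫ S.fromSpecResidueField s = U.fromSpecResidueField u ≫ g →
      Nonempty ((pullback.snd f g).fiber u ≅ pullback (f.fiberToSpecResidueField s) (Spec.map φ)) :=
    fun U g u φ hφ => ⟨pullbackLeftPullbackSndIso f g (U.fromSpecResidueField u) ≪≫ pullback.congrHom rfl hφ.symm ≪≫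
      (pullbackLeftPullbackSndIso f (S.fromSpecResidueField s) (Spec.map φ)).symm⟩
  constructor
  · intro hc U g u _ hu
    subst hu
    haveI := hc
    obtain ⟨e⟩ := key U g u (g.residueFieldMap u) (Scheme.Hom.SpecMap_residueFieldMap_fromSpecResidueField g u)
    haveI : ConnectedSpace ↥(pullback (f.fiberToSpecResidueField (g u)) (Spec.map (g.residueFieldMap u))) :=
      GeometricallyConnected.geometrically_connectedSpace (f := f.fiberToSpecResidueField (g u)) _ _ _
        (IsPullback.of_hasPullback _ _)
    exact e.inv.homeomorph.surjective.connectedSpace e.inv.homeomorph.continuous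
  · intro h
    refine Groth.L16.Connected.geometricallyConnected_of_forall_finite_separable (k := S.residueField s)
      (f.fiberToSpecResidueField s) fun K _ _ _ _ => ?_
    obtain ⟨U, g, u, hu, hg, ⟨ε⟩⟩ := Groth.Agent.S9734.result S s K
    let φ : S.residueField s ⟶ U.residueField u := (S.residueFieldCongr hu).inv ≫ g.residueFieldMap u
    have hφ : Spec.map φ ≫ S.fromSpecResidueField s = U.fromSpecResidueField u ≫ g := by
      rw [Spec.map_comp, Category.assoc, ← Scheme.Hom.SpecMap_residueFieldMap_fromSpecResidueField]
      congr 1
      rw [← Scheme.residueFieldCongr_fromSpecResidueField hu, ← Spec.map_comp_assoc]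
      simp
    obtain ⟨e⟩ := key U g u φ hφ
    haveI := h U g u hg hu
    letI := φ.hom.toAlgebra
    let eK : Spec (U.residueField u) ≅ Spec (CommRingCat.of K) :=
      Scheme.Spec.mapIso (show CommRingCat.of K ≅ U.residueField u from ε.toRingEquiv.toCommRingCatIso).op
    have heK : eK.hom ≫ Spec.map (CommRingCat.ofHom (algebraMap (S.residueField s) K)) = Spec.map φ := by
      show Spec.map _ ≫ _ = _
      rw [← Spec.map_comp]
      congr 1
      ext c
      exact ε.commutes c
    let m : pullback (f.fiberToSpecResidueField s) (Spec.map φ) ⟶
        pullback (f.fiberToSpecResidueField s) (Spec.map (CommRingCat.ofHom (algebraMap (S.residueField s) K))) :=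
      pullback.map _ _ _ _ (𝟙 _) eK.hom (𝟙 _) (by simp) (by rw [Category.comp_id]; exact heK.symm)
    haveI : IsIso m := inferInstance
    haveI : ConnectedSpace ↥(pullback (f.fiberToSpecResidueField s) (Spec.map φ)) :=
      e.hom.homeomorph.surjective.connectedSpace e.hom.homeomorph.continuous
    exact m.homeomorph.surjective.connectedSpace m.homeomorph.continuous
end Groth.Agent.S1355
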