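import Groth.Statements.S13555
import Groth.Agent.L10.FMAdj.Basic

set_option autoImplicit false
set_option linter.style.haveILetI false
set_option linter.unusedVariables false
set_option backward.defeqAttrib.useBackward true
set_option backward.isDefEq.respectTransparency false
universe u
open CategoryTheory AlgebraicGeometry
attribute [local instance] HasDerivedCategory.standard
open DEquiv

namespace Groth.Agent.S13555

/-- Let S, X and Y be quasi-compact quasi-separated schemes, X → S proper, flat and of finite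
presentation, Y → S a morphism, and K a complex of modules on X ×_S Y defining a perfect object with
quasi-coherent cohomology sheaves. Let a denote the right adjoint of Rpr_{2,*} : D_QCoh(O_{X ×_S Y})
→ D_QCoh(O_Y) (assumed to exist, instance binder), a(O_Y) its value on the structure sheaf in degree
0, and let K' be a complex of modules on Y ×_S X whose image in the derived category is isomorphic
to the derived pullback, along the symmetry Y ×_S X → X ×_S Y, of RHom(K, a(O_Y)). The derived
functors involved are assumed to exist and the two Fourier–Mukai functors are assumed to preserve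
objects with quasi-coherent cohomology sheaves (hypotheses h, h'). Then Φ_{K'} : D_QCoh(O_Y) ⥤
D_QCoh(O_X) is right adjoint to Φ_K : D_QCoh(O_X) ⥤ D_QCoh(O_Y) (existence of an adjunction; the
published statement names the comparison map Hom(M, Φ_{K'} N) → Hom(Φ_K M, N), which is not
constructed here). -/
theorem result {S X Y : Scheme.{u}} (a : X ⟶ S) (b : Y ⟶ S)
    [CompactSpace S] [QuasiSeparatedSpace S] [CompactSpace X] [QuasiSeparatedSpace X]
    [CompactSpace Y] [QuasiSeparatedSpace Y]
    [IsProper a] [Flat a] [LocallyOfFinitePresentation a]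
    (K : CochainComplex (Limits.pullback a b).Modules ℤ) (hK : DCoh.IsPerfect (DCoh.toD _ K))
    (hKq : DCoh.IsQCohD (DCoh.toD _ K))
    [DCoh.HasLpull (Limits.pullback.fst a b)] [DCoh.HasLTensorCx K] [DCoh.HasRpush (Limits.pullback.snd a b)]
    [DCoh.HasRSheafHom K]
    (hR : DCoh.RpushPreservesQCoh (Limits.pullback.snd a b)) [DCoh.HasShriek (Limits.pullback.snd a b) hR]
    (OY : DCoh.DQCoh Y) (hOY : OY.obj ≅ DCoh.inD Y (Coh.structureModule Y))
    [DCoh.HasLpull (Limits.pullbackSymmetry b a).hom]
    (K' : CochainComplex (Limits.pullback b a).Modules ℤ)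
    (hK' : Nonempty (DCoh.toD _ K' ≅ (DCoh.Lpull (Limits.pullbackSymmetry b a).hom).obj
      ((DCoh.RSheafHom K).obj (DCoh.dualizingCx (Limits.pullback.snd a b) hR OY))))
    [DCoh.HasLpull (Limits.pullback.fst b a)] [DCoh.HasLTensorCx K'] [DCoh.HasRpush (Limits.pullback.snd b a)]
    (h : ∀ M : DCoh.D X, DCoh.IsQCohD M → DCoh.IsQCohD ((FMK.phi a b K).obj M))
    (h' : ∀ N : DCoh.D Y, DCoh.IsQCohD N → DCoh.IsQCohD ((FMK.phi b a K').obj N)) :
    Nonempty (FMK.phiOn a b K DCoh.IsQCohD DCoh.IsQCohD h ⊣ FMK.phiOn b a K' DCoh.IsQCohD DCoh.IsQCohD h') := by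
  haveI : QuasiSeparated (b ≫ Limits.terminal.from S) := by
    rw [Limits.terminalIsTerminal.hom_ext (b ≫ Limits.terminal.from S) (Limits.terminal.from Y)]
    exact (quasiSeparatedSpace_iff_quasiSeparated Y).1 ‹_›
  haveI : QuasiSeparated (Limits.terminal.from S) := (quasiSeparatedSpace_iff_quasiSeparated S).1 ‹_›
  haveI : QuasiCompact (b ≫ Limits.terminal.from S) := by
    rw [Limits.terminalIsTerminal.hom_ext (b ≫ Limits.terminal.from S) (Limits.terminal.from Y)]
    exact (compactSpace_iff_quasiCompact Y).1 ‹_›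
  haveI : QuasiSeparated b := QuasiSeparated.of_comp b (Limits.terminal.from S)
  haveI : QuasiCompact b := QuasiCompact.of_comp b (Limits.terminal.from S)
  haveI : CompactSpace ↥(Limits.pullback a b) :=
    QuasiCompact.compactSpace_of_compactSpace (Limits.pullback.snd a b)
  haveI : QuasiSeparatedSpace ↥(Limits.pullback a b) :=
    quasiSeparatedSpace_of_quasiSeparated (Limits.pullback.snd a b)
  haveI := fun {A B : Scheme.{u}} (k : A ⟶ B) => Groth.L00.KFlat.hasLpull k
  haveI := fun {A B : Scheme.{u}} (k : A ⟶ B) => Groth.L29.DC.RpushQC.hasRpush k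
  haveI := fun {V : Scheme.{u}} (E : CochainComplex V.Modules ℤ) => Groth.L00.KFlat.hasLTensorCx E
  obtain ⟨W, -, ⟨eW⟩⟩ := Groth.L07.BvdB.DualHom.exists_kflat_rep
    ((DCoh.RSheafHom K).obj (DCoh.dualizingCx (Limits.pullback.snd a b) hR OY))
  let σ := (Limits.pullbackSymmetry b a).hom
  obtain ⟨d⟩ := hK'
  obtain ⟨c⟩ := Groth.L10.FMAdj.nonempty_kernel_iso σ
    (Limits.pullbackSymmetry_hom_comp_fst b a) (Limits.pullbackSymmetry_hom_comp_snd b a) W K'
    ⟨d ≪≫ (DCoh.Lpull σ).mapIso eW.symm⟩
  have h'' : ∀ N : DCoh.D Y, DCoh.IsQCohD N → DCoh.IsQCohD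
      ((DCoh.Lpull (Limits.pullback.snd a b) ⋙ DCoh.LTensorCx W ⋙ DCoh.Rpush (Limits.pullback.fst a b)).obj N) :=
    fun N hN => Groth.L29.DC.isQCohD_of_iso (c.app N) (h' N hN)
  obtain ⟨adj⟩ := Groth.L10.FMAdj.nonempty_adj (Limits.pullback.fst a b) (Limits.pullback.snd a b) K hK hR OY hOY
    W ⟨eW⟩ h h''
  exact ⟨adj.ofNatIsoRight (NatIso.ofComponents (fun N => ObjectProperty.isoMk _ (c.app N.obj).symm)
    (fun f => by apply ObjectProperty.hom_ext; exact c.inv.naturality f.hom))⟩

end Groth.Agent.S13555
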