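import Groth.Statements.S13559
import Groth.Agent.L29.FMAdj.Gor
import Groth.Agent.S13555
-- import your own Groth.Agent.* helpers here

set_option autoImplicit false
set_option linter.style.haveILetI false
set_option backward.defeqAttrib.useBackward true
set_option backward.isDefEq.respectTransparency false
set_option backward.isDefEq.respectTransparency.types false
universe u
open CategoryTheory AlgebraicGeometry
attribute [local instance] HasDerivedCategory.standard
open DEquiv

set_option maxHeartbeats 800000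

namespace Groth.Agent.S13559

/-- Let S be a Noetherian scheme, X → S and Y → S proper flat morphisms with X → S a Gorenstein
morphism, and K a complex of modules on X ×_S Y defining a perfect object, with dual K^∨ = RHom(K,
O). Let ω_{X/S} = a(O_S) be the relative dualizing complex of X over S, a being the right adjoint of
R(X → S)_* on D_QCoh (assumed to exist) and O_S the structure sheaf in degree 0. The derived
functors involved are assumed to exist (instance binders). Then for every complex W on X ×_S Y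
representing Lpr_1^* ω_{X/S} and every complex K' on Y ×_S X whose image in the derived category is
isomorphic to the derived pullback, along the symmetry Y ×_S X → X ×_S Y, of K^∨ ⊗^L W: K' defines a
perfect object, and, assuming the two Fourier–Mukai functors preserve perfect objects (hypotheses h,
h'), Φ_{K'} : D_perf(O_Y) ⥤ D_perf(O_X) is right adjoint to Φ_K : D_perf(O_X) ⥤ D_perf(O_Y)
(existence of an adjunction). -/
theorem result {S X Y : Scheme.{u}} [IsNoetherian S] (a : X ⟶ S) (b : Y ⟶ S)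
    [IsProper a] [Flat a] [IsProper b] [Flat b]
    (K : CochainComplex (Limits.pullback a b).Modules ℤ) (hK : DCoh.IsPerfect (DCoh.toD _ K))
    [DCoh.HasLpull (Limits.pullback.fst a b)] [DCoh.HasLTensorCx K] [DCoh.HasRpush (Limits.pullback.snd a b)]
    [DCoh.HasRSheafHom K]
    (hG : Dual3.IsGorensteinMor a)
    [DCoh.HasRpush a] (hRa : DCoh.RpushPreservesQCoh a) [DCoh.HasShriek a hRa]
    (OS : DCoh.DQCoh S) (hOS : OS.obj ≅ DCoh.inD S (Coh.structureModule S))
    (W : CochainComplex (Limits.pullback a b).Modules ℤ) [DCoh.HasLTensorCx W]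
    (hW : Nonempty (DCoh.toD _ W ≅ (DCoh.Lpull (Limits.pullback.fst a b)).obj (DCoh.dualizingCx a hRa OS)))
    [DCoh.HasLpull (Limits.pullbackSymmetry b a).hom]
    (K' : CochainComplex (Limits.pullback b a).Modules ℤ)
    (hK' : Nonempty (DCoh.toD _ K' ≅ (DCoh.Lpull (Limits.pullbackSymmetry b a).hom).obj
      ((DCoh.LTensorCx W).obj ((DCoh.RSheafHom K).obj (DCoh.inD _ (Coh.structureModule (Limits.pullback a b)))))))
    [DCoh.HasLpull (Limits.pullback.fst b a)] [DCoh.HasLTensorCx K'] [DCoh.HasRpush (Limits.pullback.snd b a)]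
    (h : ∀ M : DCoh.D X, SGA6.perfP X M → SGA6.perfP Y ((FMK.phi a b K).obj M))
    (h' : ∀ N : DCoh.D Y, SGA6.perfP Y N → SGA6.perfP X ((FMK.phi b a K').obj N)) :
    DCoh.IsPerfect (DCoh.toD _ K') ∧
      Nonempty (FMK.phiOn a b K (SGA6.perfP X) (SGA6.perfP Y) h ⊣ FMK.phiOn b a K' (SGA6.perfP Y) (SGA6.perfP X) h') := by
  haveI : IsNoetherian X := by
    haveI := LocallyOfFiniteType.isLocallyNoetherian a
    haveI := QuasiCompact.compactSpace_of_compactSpace a
    constructor
  haveI : IsNoetherian Y := by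
    haveI := LocallyOfFiniteType.isLocallyNoetherian b
    haveI := QuasiCompact.compactSpace_of_compactSpace b
    constructor
  haveI : LocallyOfFinitePresentation a := LocallyOfFinitePresentation.iff_locallyOfFiniteType.mpr inferInstance
  haveI : LocallyOfFinitePresentation b := LocallyOfFinitePresentation.iff_locallyOfFiniteType.mpr inferInstance
  haveI := fun {A B : Scheme.{u}} (k : A ⟶ B) => Groth.L00.KFlat.hasLpull k
  haveI := fun {A B : Scheme.{u}} (k : A ⟶ B) => Groth.L29.DC.RpushQC.hasRpush k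
  haveI := fun {V : Scheme.{u}} (E : CochainComplex V.Modules ℤ) => Groth.L00.KFlat.hasLTensorCx E
  haveI := fun {V : Scheme.{u}} (E : CochainComplex V.Modules ℤ) => Groth.L29.DC.RHom.hasRSheafHom E
  haveI : CompactSpace ↥(Limits.pullback a b) := QuasiCompact.compactSpace_of_compactSpace (Limits.pullback.fst a b)
  haveI : QuasiSeparatedSpace ↥(Limits.pullback a b) :=
    quasiSeparatedSpace_of_quasiSeparated (Limits.pullback.fst a b)
  let σ := (Limits.pullbackSymmetry b a).hom
  obtain ⟨W', hW'f, ⟨w'⟩⟩ := Groth.L07.BvdB.DualHom.exists_kflat_rep (DCoh.toD _ W)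
  obtain ⟨cw⟩ := Groth.L29.DC.RHom.nonempty_lt_iso w'
  obtain ⟨D, hD, ⟨d⟩⟩ := Groth.L07.BvdB.DualHom.exists_kflat_rep
    ((DCoh.RSheafHom K).obj (DCoh.inD _ (Coh.structureModule (Limits.pullback a b))))
  obtain ⟨hDp, ⟨ρ⟩⟩ := Groth.L10.DualNat.nonempty_RSheafHom_iso_LT K hK D ⟨d⟩
  have hq : ∀ {A B : Scheme.{u}} (j : A ⟶ B) [QuasiCompact j] [QuasiSeparated j], DCoh.RpushPreservesQCoh j :=
    fun j _ _ M hM => Groth.L29.DC.RpushQC.isQCohD_Rpush j M hM
  have hKq : DCoh.IsQCohD (DCoh.toD _ K) := Groth.L29.DC.PCQCoh.isQCohD_of_perfect hK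
  obtain ⟨w⟩ := hW
  have hWp : DCoh.IsPerfect (DCoh.toD _ W) := Groth.L29.DC.isPerfect_of_iso w.symm
    (Groth.L29.DC.isPerfect_Lpull _ (Groth.L29.FMAdj.isPerfect_dualizing a hG (DCoh.shriekAdj a hRa) OS ⟨hOS⟩))
  haveI : DCoh.HasShriek (Limits.pullback.snd a b) (hq _) :=
    Groth.Agent.S1766.result _ _ (Limits.pullback.snd a b) (hq _)
  let OY : DCoh.DQCoh Y := ⟨DCoh.inD Y (Coh.structureModule Y), Groth.Lead.LTMod.isQCohD_inD_of
    (Groth.L16.Rees.RelVanish.isCoh_structureModule Y).1⟩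
  obtain ⟨bc⟩ := Groth.L29.FMAdj.nonempty_dualizing_baseChange (IsPullback.of_hasPullback a b)
    (DCoh.shriekAdj a hRa) (DCoh.shriekAdj (Limits.pullback.snd a b) (hq _)) OS ⟨hOS⟩ OY ⟨Iso.refl _⟩
  obtain ⟨k'⟩ := hK'
  have hKD : DCoh.IsPerfect ((DCoh.LTensorCx W).obj ((DCoh.RSheafHom K).obj
      (DCoh.inD _ (Coh.structureModule (Limits.pullback a b))))) :=
    Groth.L29.DC.isPerfect_of_iso ((cw.app _) ≪≫ (DCoh.LTensorCx W).mapIso d)
      (Groth.L29.DC.isPerfect_LTensorCx W' hW'f (Groth.L29.DC.isPerfect_of_iso w'.symm hWp) _ hDp)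
  refine ⟨Groth.L29.DC.isPerfect_of_iso k'.symm (Groth.L29.DC.isPerfect_Lpull _ hKD), ?_⟩
  obtain ⟨cm⟩ := Groth.Lead.FlatPerfect.nonempty_LTensorCx_comm W D hD
  let eK : (DCoh.RSheafHom K).obj (DCoh.dualizingCx (Limits.pullback.snd a b) (hq _) OY) ≅
      (DCoh.LTensorCx W).obj ((DCoh.RSheafHom K).obj (DCoh.inD _ (Coh.structureModule (Limits.pullback a b)))) :=
    ρ.app _ ≪≫ (DCoh.LTensorCx D).mapIso (bc ≪≫ w.symm) ≪≫ cm.symm ≪≫ (DCoh.LTensorCx W).mapIso d
  have hKq' : DCoh.IsQCohD (DCoh.toD _ K') :=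
    Groth.L29.DC.PCQCoh.isQCohD_of_perfect (Groth.L29.DC.isPerfect_of_iso k'.symm (Groth.L29.DC.isPerfect_Lpull _ hKD))
  have h₁ : ∀ M : DCoh.D X, DCoh.IsQCohD M → DCoh.IsQCohD ((FMK.phi a b K).obj M) := fun M hM =>
    hq (Limits.pullback.snd a b) ((DCoh.LTensorCx K).obj ((DCoh.Lpull (Limits.pullback.fst a b)).obj M))
      (Groth.L29.DC.isQCohD_LTensorCx K hKq (Groth.L29.DC.isQCohD_Lpull (Limits.pullback.fst a b) hM))
  have h₂ : ∀ N : DCoh.D Y, DCoh.IsQCohD N → DCoh.IsQCohD ((FMK.phi b a K').obj N) := fun N hN =>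
    hq (Limits.pullback.snd b a) ((DCoh.LTensorCx K').obj ((DCoh.Lpull (Limits.pullback.fst b a)).obj N))
      (Groth.L29.DC.isQCohD_LTensorCx K' hKq' (Groth.L29.DC.isQCohD_Lpull (Limits.pullback.fst b a) hN))
  obtain ⟨adj⟩ := Groth.Agent.S13555.result a b K hK hKq (hq _) OY (Iso.refl _) K'
    ⟨k' ≪≫ (DCoh.Lpull σ).mapIso eK.symm⟩ h₁ h₂
  exact Groth.L29.FMAdj.nonempty_restrictPerf (fun M => h₁ M.obj M.property) (fun N => h₂ N.obj N.property) adj h h'

end Groth.Agent.S13559
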