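import Groth.Statements.S1453
import Groth.Agent.S1327
import Groth.Agent.L07.SectionCompConn
import Groth.Agent.L07.SectionCompConstr
import Groth.Agent.L20.AdmSep
import Mathlib.AlgebraicGeometry.AlgClosed.Basic
import Mathlib.AlgebraicGeometry.Geometrically.Connected
import Mathlib.AlgebraicGeometry.Geometrically.Reduced
import Mathlib.AlgebraicGeometry.Morphisms.UniversallyOpen

set_option autoImplicit false
universe u
open FlatMor

set_option backward.isDefEq.respectTransparency.types false
set_option linter.style.haveILetI false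
set_option backward.isDefEq.respectTransparency false
namespace Groth.Agent.S1453
open AlgebraicGeometry CategoryTheory Limits Topology

/-- Connectedness after all algebraically closed extensions suffices. -/
theorem geometricallyConnected_of_algClosed {X Y : Scheme.{u}} (f : X ⟶ Y)
    (h : ∀ (K : Type u) [Field K] [IsAlgClosed K] (t : Spec (CommRingCat.of K) ⟶ Y), ConnectedSpace ↥(pullback f t)) :
    GeometricallyConnected f := by
  refine ⟨geometrically_iff_of_isClosedUnderIsomorphisms.mpr fun K _ t => ?_⟩
  let ext := Spec.map (CommRingCat.ofHom (algebraMap K (AlgebraicClosure K)))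
  haveI := h (AlgebraicClosure K) (ext ≫ t)
  haveI : Surjective ext := ⟨fun _ => ⟨IsLocalRing.closedPoint (AlgebraicClosure K), Subsingleton.elim (α := PrimeSpectrum K) _ _⟩⟩
  let e := (pullbackLeftPullbackSndIso f t ext).hom
  haveI : ConnectedSpace ↥(pullback (pullback.snd f t) ext) := e.homeomorph.connectedSpace_iff.mpr inferInstance
  exact (pullback.fst (pullback.snd f t) ext).surjective.connectedSpace (pullback.fst (pullback.snd f t) ext).continuous

theorem preimage_univ {K : Type u} [Field K] {P : Scheme.{u}} (h : P ⟶ Spec (CommRingCat.of K)) (z : Spec (CommRingCat.of K)) :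
    h ⁻¹' {z} = Set.univ :=
  Set.eq_univ_of_forall fun _ => Subsingleton.elim (α := PrimeSpectrum K) _ _

theorem key {X Y Z : Scheme.{u}} (f : X ⟶ Y) [Flat f] [LocallyOfFinitePresentation f] [QuasiCompact f] [QuasiSeparated f]
    [GeometricallyReduced f] (g : Z ⟶ Y) (hg : Mor2.IsFinLocFree g) (σ : Z ⟶ X) (hσ : σ ≫ f = g) (y : Y) (hZy : y ∈ Set.range ⇑g)
    (hXy : GeometricallyConnected (f.fiberToSpecResidueField y)) :
    ∃ U : X.Opens, IsCompact (U : Set ↑X) ∧ f ⁻¹' {y} ⊆ (U : Set ↑X) ∧
      ∀ y' : Y, (∃ x ∈ U, f x = y') → GeometricallyConnected ((U.ι ≫ f).fiberToSpecResidueField y') := by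
  obtain ⟨_, _, _⟩ := hg
  let h := pullback.snd f g
  let π := pullback.fst f g
  let τ : Z ⟶ pullback f g := pullback.lift σ (𝟙 Z) (by rw [hσ, Category.id_comp])
  have hτ : τ ≫ h = 𝟙 Z := pullback.lift_snd _ _ _
  let SC := MoreMor.sectionComponents h τ
  have hSCo : IsOpen SC := by
    refine isOpen_iff_mem_nhds.mpr fun x hx => mem_interior_iff_mem_nhds.mp ?_
    exact Groth.Agent.S1327.result h τ hτ (h x) inferInstance hx
  -- over `y` everything lies in the section components
  have hall : ∀ x : ↥(pullback f g), g (h x) = y → x ∈ SC := by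
    intro x hx
    have hconn : _root_.IsPreconnected (h ⁻¹' {h x}) := by
      rw [← h.range_fiberι, ← Set.image_univ]
      haveI : ConnectedSpace ↥(h.fiber (h x)) := by
        let t := Z.fromSpecResidueField (h x) ≫ g
        haveI : ConnectedSpace ↥(pullback f t) := by
          subst hx
          let r := Spec.map (g.residueFieldMap (h x))
          have ht : r ≫ Y.fromSpecResidueField (g (h x)) = t := Scheme.Hom.SpecMap_residueFieldMap_fromSpecResidueField g (h x)
          haveI : ConnectedSpace ↥(pullback (pullback.snd f (Y.fromSpecResidueField (g (h x)))) r) :=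
            hXy.geometrically_connectedSpace _ _ _ (IsPullback.of_hasPullback _ _)
          exact ((pullbackLeftPullbackSndIso f (Y.fromSpecResidueField (g (h x))) r).hom ≫
            (pullback.congrHom rfl ht).hom).homeomorph.connectedSpace_iff.mp inferInstance
        exact (pullbackLeftPullbackSndIso f g (Z.fromSpecResidueField (h x))).hom.homeomorph.connectedSpace_iff.mpr inferInstance
      exact isPreconnected_univ.image _ (h.fiberι (h x)).continuous.continuousOn
    have hs : τ (h x) ∈ h ⁻¹' {h x} := by
      show h (τ (h x)) = h x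
      rw [← Scheme.Hom.comp_apply, hτ]; rfl
    exact hconn.subset_connectedComponentIn hs (Set.Subset.refl _) (show x ∈ h ⁻¹' {h x} from rfl)
  -- pairs of sections in a common component
  let a := pullback.fst g g
  let b := pullback.snd g g
  let pr2 : pullback g g ⟶ pullback f g := pullback.lift (b ≫ σ) a (by rw [Category.assoc, hσ, pullback.condition])
  let Bad : Set Y := (a ≫ g) '' (pr2 ⁻¹' SC)ᶜ
  have hBad : IsClosed Bad := (a ≫ g).isClosedMap _ (hSCo.preimage pr2.continuous).isClosed_compl
  have hyBad : y ∉ Bad := by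
    rintro ⟨w, hw, hwy⟩
    refine hw (hall _ ?_)
    rw [← Scheme.Hom.comp_apply, ← Scheme.Hom.comp_apply, ← Category.assoc, show pr2 ≫ h = a from pullback.lift_snd _ _ _]
    exact hwy
  have hopen : IsOpen (Set.range g) := g.isOpenMap.isOpen_range
  obtain ⟨V, hV, hyV, hVsub⟩ := exists_isAffineOpen_mem_and_subset
    (show y ∈ (⟨Badᶜ ∩ Set.range g, hBad.isOpen_compl.inter hopen⟩ : Y.Opens) from ⟨hyBad, hZy⟩)
  let U : X.Opens := ⟨π '' SC ∩ f ⁻¹' V, (π.isOpenMap _ hSCo).inter (V.2.preimage f.continuous)⟩
  have hUc : IsCompact (U : Set X) := by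
    let W : (pullback f g).Opens := (h ≫ g) ⁻¹ᵁ V
    haveI : QuasiCompact (h ≫ g) := inferInstance
    haveI : QuasiSeparated (h ≫ g) := inferInstance
    haveI : CompactSpace (W : Scheme.{u}) := isCompact_iff_compactSpace.mp ((h ≫ g).isCompact_preimage hV.isCompact)
    haveI : QuasiSeparatedSpace (W : Scheme.{u}) := (isQuasiSeparated_iff_quasiSeparatedSpace _ W.2).mp
      ((h ≫ g).isQuasiSeparated_preimage hV.isQuasiSeparated)
    have h1 : IsConstructible (W.ι ⁻¹' SC) :=
      ((Groth.L07.SectionComp.isLocallyConstructible_sectionComponents h τ hτ).preimage_of_isOpenEmbedding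
        W.ι.isOpenEmbedding).isConstructible
    have h2 := ((Groth.L20.AdmSep.isCompact_of_isConstructible h1).image W.ι.continuous).image π.continuous
    rw [Set.image_preimage_eq_inter_range, Scheme.Opens.range_ι] at h2
    have h3 : (U : Set X) = π '' (SC ∩ W) := by
      show π '' SC ∩ f ⁻¹' V = _
      rw [← Set.image_inter_preimage]
      refine congrArg _ (congrArg _ ?_)
      ext w
      show f (π w) ∈ V ↔ (h ≫ g) w ∈ V
      rw [← Scheme.Hom.comp_apply, show π ≫ f = h ≫ g from pullback.condition]
    rw [h3]; exact h2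
  refine ⟨U, hUc, fun x hx => ?_, fun y' hy' => ?_⟩
  · obtain ⟨z, hz⟩ := hZy
    obtain ⟨q, hq1, hq2⟩ := Scheme.Pullback.exists_preimage_pullback (f := f) (g := g) x z ((show f x = y from hx).trans hz.symm)
    refine ⟨⟨q, hall q ?_, hq1⟩, ?_⟩
    · rw [hq2]; exact hz
    · show f x ∈ V
      rw [show f x = y from hx]; exact hyV
  refine geometricallyConnected_of_algClosed _ fun K _ _ t => ?_
  let t' := t ≫ Y.fromSpecResidueField y'
  suffices h0 : ConnectedSpace ↥(pullback (U.ι ≫ f) t') from
    (pullbackLeftPullbackSndIso (U.ι ≫ f) (Y.fromSpecResidueField y') t).hom.homeomorph.connectedSpace_iff.mpr h0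
  obtain ⟨x₀, hx₀U, hx₀⟩ := hy'
  have hy'V : y' ∈ V := hx₀ ▸ hx₀U.2
  have ht' : ∀ k, t' k = y' := fun k => by
    have : Y.fromSpecResidueField y' (t k) ∈ Set.range (Y.fromSpecResidueField y') := ⟨_, rfl⟩
    rw [Scheme.range_fromSpecResidueField] at this
    exact this
  let XK := pullback f t'
  let hK : XK ⟶ Spec (CommRingCat.of K) := pullback.snd f t'
  let p : XK ⟶ X := pullback.fst f t'
  let ZK := pullback g t'
  haveI : IsFinite (pullback.snd g t') := inferInstance
  have hclosed : ∀ q : ↥ZK, IsClosed ({q} : Set ↥ZK) := fun q => by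
    have hd := (pullback.snd g t').isDiscrete_preimage_singleton (IsLocalRing.closedPoint K)
    rw [preimage_univ] at hd
    haveI := isDiscrete_iff_discreteTopology.mp hd
    haveI : DiscreteTopology ↥ZK := (Homeomorph.Set.univ ↥ZK).symm.isEmbedding.discreteTopology
    exact isClosed_discrete _
  -- the section of the base change through a rational point
  have hsec : ∀ (z : Spec (CommRingCat.of K) ⟶ Z) (hz : z ≫ g = t'),
      ∀ (sK : Spec (CommRingCat.of K) ⟶ XK), sK ≫ p = z ≫ σ → sK ≫ hK = 𝟙 _ →
      ∀ w : ↥XK, pullback.lift (f := f) (g := g) p (hK ≫ z) (by rw [Category.assoc, hz]; exact pullback.condition) w ∈ SC →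
        w ∈ connectedComponent (sK (IsLocalRing.closedPoint K)) := by
    intro z hz sK hs1 hs2 w hw
    let P := pullback.lift (f := f) (g := g) p (hK ≫ z) (by rw [Category.assoc, hz]; exact pullback.condition)
    have sq : IsPullback P hK h z := by
      refine IsPullback.of_right (h₁₁ := P) (h₁₂ := π) (v₁₁ := hK) (v₁₂ := h) (v₁₃ := f) (h₂₁ := z) (h₂₂ := g) ?_
        (pullback.lift_snd _ _ _) (IsPullback.of_hasPullback f g)
      rw [show P ≫ π = p from pullback.lift_fst _ _ _, hz]
      exact IsPullback.of_hasPullback f t'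
    have hsP : sK ≫ P = z ≫ τ := by
      apply pullback.hom_ext
      · simp [P, τ, hs1]
      · simp [P, τ, reassoc_of% hs2]
    have h1 := Groth.L07.SectionComp.sectionComponents_baseChange h τ sq sK hτ hs2 hsP
    have h2 : w ∈ MoreMor.sectionComponents hK sK := h1.symm ▸ hw
    have h3 : w ∈ connectedComponentIn (hK ⁻¹' {hK w}) (sK (hK w)) := h2
    rw [preimage_univ, connectedComponentIn_univ,
      show hK w = IsLocalRing.closedPoint K from Subsingleton.elim (α := PrimeSpectrum K) _ _] at h3
    exact h3
  -- every point of the pullback of `U` comes from some rational point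
  have hpts : ∀ w : ↥XK, p w ∈ U → ∃ (z : Spec (CommRingCat.of K) ⟶ Z) (hz : z ≫ g = t') (sK : Spec (CommRingCat.of K) ⟶ XK),
      sK ≫ p = z ≫ σ ∧ sK ≫ hK = 𝟙 _ ∧ w ∈ connectedComponent (sK (IsLocalRing.closedPoint K)) := by
    intro w hw
    obtain ⟨q, hq, hqw⟩ := hw.1
    obtain ⟨r, hr1, hr2⟩ := Scheme.Pullback.exists_preimage_pullback (f := p) (g := π) w q hqw.symm
    let m : pullback p π ⟶ ZK := pullback.lift (pullback.snd p π ≫ h) (pullback.fst p π ≫ hK) (by
      rw [Category.assoc, show h ≫ g = π ≫ f from pullback.condition.symm, ← pullback.condition_assoc, Category.assoc,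
        show p ≫ f = hK ≫ t' from pullback.condition])
    let e := pointOfClosedPoint (pullback.snd g t') (m r) (hclosed _)
    have he : e ≫ pullback.snd g t' = 𝟙 _ := pointOfClosedPoint_comp _ _ _
    let z := e ≫ pullback.fst g t'
    have hz : z ≫ g = t' := by
      rw [Category.assoc, pullback.condition, reassoc_of% he]
    let sK : Spec (CommRingCat.of K) ⟶ XK := pullback.lift (z ≫ σ) (𝟙 _) (by rw [Category.assoc, hσ, hz, Category.id_comp])
    refine ⟨z, hz, sK, pullback.lift_fst _ _ _, pullback.lift_snd _ _ _, hsec z hz sK (pullback.lift_fst _ _ _) (pullback.lift_snd _ _ _) w ?_⟩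
    -- `m` determines the lift
    let P := pullback.lift (f := f) (g := g) p (hK ≫ z) (by rw [Category.assoc, hz]; exact pullback.condition)
    let E : pullback p π ⟶ pullback f g := pullback.fst p π ≫ P
    -- both lifts agree at `r`
    let ρ : Spec ((pullback p π).residueField r) ⟶ pullback p π := (pullback p π).fromSpecResidueField r
    have hfac : ρ ≫ m = ρ ≫ m ≫ pullback.snd g t' ≫ e := by
      obtain ⟨l, hl⟩ : ∃ l, l ≫ e = ρ ≫ m := by
        refine ⟨Spec.map (m.residueFieldMap r) ≫ Spec.map (residueFieldIsoBase (pullback.snd g t') (m r) (hclosed _)).inv, ?_⟩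
        show _ ≫ Spec.map _ ≫ _ = _
        rw [Category.assoc, ← reassoc_of% (Spec.map_comp (residueFieldIsoBase (pullback.snd g t') (m r) (hclosed _)).hom (residueFieldIsoBase (pullback.snd g t') (m r) (hclosed _)).inv), Iso.hom_inv_id, Spec.map_id, Category.id_comp]
        exact Scheme.Hom.SpecMap_residueFieldMap_fromSpecResidueField m r
      rw [← reassoc_of% hl, reassoc_of% he, hl]
    have hEq : ρ ≫ E = ρ ≫ pullback.snd p π := by
      apply pullback.hom_ext
      · simp [E, P, pullback.condition]
        rfl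
      · simp only [E, P, Category.assoc, pullback.lift_snd]
        have := congrArg (fun φ => φ ≫ pullback.fst g t') hfac
        simp only [m, Category.assoc, pullback.lift_fst, pullback.lift_snd_assoc] at this
        exact this.symm
    have hEr : E r = q := by
      obtain ⟨k, hk⟩ : r ∈ Set.range ρ := by rw [Scheme.range_fromSpecResidueField]; rfl
      rw [← hk, ← Scheme.Hom.comp_apply, hEq, Scheme.Hom.comp_apply, hk, hr2]
    show P w ∈ SC
    rw [← hr1, ← Scheme.Hom.comp_apply]
    show E r ∈ SC
    rw [hEr]; exact hq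
  -- all these sections are in one component
  have hsame : ∀ (z z' : Spec (CommRingCat.of K) ⟶ Z) (hz : z ≫ g = t') (hz' : z' ≫ g = t')
      (sK sK' : Spec (CommRingCat.of K) ⟶ XK), sK ≫ p = z ≫ σ → sK ≫ hK = 𝟙 _ → sK' ≫ p = z' ≫ σ → sK' ≫ hK = 𝟙 _ →
      sK' (IsLocalRing.closedPoint K) ∈ connectedComponent (sK (IsLocalRing.closedPoint K)) := by
    intro z z' hz hz' sK sK' h1 h2 h1' h2'
    refine hsec z hz sK h1 h2 _ ?_
    let c := pullback.lift (f := g) (g := g) z z' (hz.trans hz'.symm)
    rw [← Scheme.Hom.comp_apply]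
    have : sK' ≫ pullback.lift (f := f) (g := g) p (hK ≫ z) (by rw [Category.assoc, hz]; exact pullback.condition) = c ≫ pr2 := by
      apply pullback.hom_ext
      · simp [c, pr2, b, h1']
      · simp [c, pr2, a, reassoc_of% h2']
    rw [this, Scheme.Hom.comp_apply]
    by_contra hnot
    have hmem : (a ≫ g) (c (IsLocalRing.closedPoint K)) ∈ Bad := ⟨_, hnot, rfl⟩
    rw [← Scheme.Hom.comp_apply, show c ≫ a ≫ g = t' by simp [c, a, hz], ht'] at hmem
    exact (hVsub hy'V).1 hmem
  let j : pullback (U.ι ≫ f) t' ⟶ XK := pullback.map _ _ _ _ U.ι (𝟙 _) (𝟙 _) (by simp) (by simp)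
  have hj : Set.range j = p ⁻¹' U := by
    rw [Scheme.Pullback.range_map]
    ext w; simp [p]; rfl
  obtain ⟨w₀, hw₀⟩ : ∃ w : ↥XK, p w ∈ U := by
    obtain ⟨w, hw, -⟩ := Scheme.Pullback.exists_preimage_pullback (f := f) (g := t') x₀ (IsLocalRing.closedPoint K) (by rw [ht', hx₀])
    exact ⟨w, by rw [show p w = x₀ from hw]; exact hx₀U⟩
  obtain ⟨z, hz, sK, h1, h2, -⟩ := hpts w₀ hw₀
  have hset : p ⁻¹' U = connectedComponent (sK (IsLocalRing.closedPoint K)) := by
    ext w
    constructor
    · intro hw
      obtain ⟨z', hz', sK', h1', h2', hw'⟩ := hpts w hw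
      exact connectedComponent_eq (hsame z z' hz hz' sK sK' h1 h2 h1' h2') ▸ hw'
    · intro hw
      refine ⟨⟨pullback.lift (f := f) (g := g) p (hK ≫ z) (by rw [Category.assoc, hz]; exact pullback.condition) w, ?_, ?_⟩, ?_⟩
      · let P := pullback.lift (f := f) (g := g) p (hK ≫ z) (by rw [Category.assoc, hz]; exact pullback.condition)
        have sq : IsPullback P hK h z := by
          refine IsPullback.of_right (h₁₁ := P) (h₁₂ := π) (v₁₁ := hK) (v₁₂ := h) (v₁₃ := f) (h₂₁ := z) (h₂₂ := g) ?_
            (pullback.lift_snd _ _ _) (IsPullback.of_hasPullback f g)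
          rw [show P ≫ π = p from pullback.lift_fst _ _ _, hz]
          exact IsPullback.of_hasPullback f t'
        have hsP : sK ≫ P = z ≫ τ := by
          apply pullback.hom_ext
          · simp [P, τ, h1]
          · simp [P, τ, reassoc_of% h2]
        have h3 := Groth.L07.SectionComp.sectionComponents_baseChange h τ sq sK hτ h2 hsP
        have h4 : w ∈ MoreMor.sectionComponents hK sK := by
          show w ∈ connectedComponentIn (hK ⁻¹' {hK w}) (sK (hK w))
          rw [preimage_univ, connectedComponentIn_univ,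
            show hK w = IsLocalRing.closedPoint K from Subsingleton.elim (α := PrimeSpectrum K) _ _]
          exact hw
        exact (h3 ▸ h4 : w ∈ P ⁻¹' SC)
      · rw [← Scheme.Hom.comp_apply, pullback.lift_fst]
      · show f (p w) ∈ V
        rw [← Scheme.Hom.comp_apply, show p ≫ f = hK ≫ t' from pullback.condition, Scheme.Hom.comp_apply, ht']
        exact hy'V
  rw [connectedSpace_iff_univ]
  refine ⟨?_, ?_⟩
  · obtain ⟨w, hw⟩ : w₀ ∈ Set.range j := by rw [hj]; exact hw₀
    exact ⟨w, trivial⟩
  · rw [← j.isOpenEmbedding.isInducing.isPreconnected_image, Set.image_univ, hj, hset]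
    exact isPreconnected_connectedComponent
end Groth.Agent.S1453
namespace Groth.Agent.S1453

open AlgebraicGeometry CategoryTheory Limits in
/-- Let f : X → Y be flat and of finite presentation with all fibres geometrically reduced, let Z → Y be
finite locally free with a Y-morphism σ : Z → X, and let y be a point with Z_y nonempty and X_y
geometrically connected. Then there is a quasi-compact open X⁰ of X containing the whole fibre X_y
such that every nonempty fibre of X⁰ → Y is geometrically connected. -/
theorem result {X Y Z : Scheme.{u}} (f : X ⟶ Y) [Flat f] [LocallyOfFinitePresentation f] [QuasiCompact f] [QuasiSeparated f]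
    [GeometricallyReduced f] (g : Z ⟶ Y) (hg : Mor2.IsFinLocFree g) (σ : Z ⟶ X) (hσ : σ ≫ f = g) (y : Y) (hZy : y ∈ Set.range ⇑g)
    (hXy : GeometricallyConnected (f.fiberToSpecResidueField y)) :
    ∃ U : X.Opens, IsCompact (U : Set ↑X) ∧ f ⁻¹' {y} ⊆ (U : Set ↑X) ∧
      ∀ y' : Y, (∃ x ∈ U, f x = y') → GeometricallyConnected ((U.ι ≫ f).fiberToSpecResidueField y') := by
  exact key f g hg σ hσ y hZy hXy

end Groth.Agent.S1453
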