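import Groth.Statements.S1356
import Groth.Agent.S1549
import Groth.Agent.S0412
import Groth.Agent.S1353
import Groth.Agent.S1453
import Groth.Agent.L05.Point.Crit
import Groth.Agent.L22.Cyc.PushPull
import Groth.Agent.L19.Limit.Immersion
import Groth.Agent.L23.LocalDimEtale

set_option autoImplicit false
universe u
open FlatMor

set_option backward.isDefEq.respectTransparency.types false
set_option linter.style.haveILetI false
set_option backward.isDefEq.respectTransparency false
set_option backward.isDefEq.respectTransparency.types false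
namespace Groth.Agent.S1356
open AlgebraicGeometry CategoryTheory Limits

theorem geometricallyReduced_openImm_comp {U X Y : Scheme.{u}} (j : U ⟶ X) [IsOpenImmersion j] (f : X ⟶ Y)
    [GeometricallyReduced f] : GeometricallyReduced (j ≫ f) := by
  refine ⟨geometrically_iff_of_isClosedUnderIsomorphisms.mpr fun K _ t => ?_⟩
  haveI : IsReduced (pullback f t) :=
    GeometricallyReduced.geometrically_isReduced (f := f) _ _ _ (IsPullback.of_hasPullback f t)
  exact isReduced_of_isOpenImmersion ((pullbackRightPullbackFstIso f t j).inv ≫ pullback.snd j (pullback.fst f t))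

/-- Fibres of a base change are base changes of fibres. -/
theorem fiber_baseChange {P : MorphismProperty Scheme.{u}} [P.IsStableUnderBaseChange] {Z Y Y' Z' : Scheme.{u}}
    {p : Z ⟶ Y} {g : Y' ⟶ Y} {q : Z' ⟶ Z} {p' : Z' ⟶ Y'} (H : IsPullback q p' p g) (w : Y') {y : Y} (hy : g w = y)
    (h : P (p.fiberToSpecResidueField y)) : P (p'.fiberToSpecResidueField w) := by
  subst hy
  let r := Spec.map (g.residueFieldMap w)
  have hP : IsPullback (p'.fiberι w ≫ q) (p'.fiberToSpecResidueField w) p (r ≫ Y.fromSpecResidueField (g w)) := by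
    rw [Scheme.Hom.SpecMap_residueFieldMap_fromSpecResidueField]
    exact ((IsPullback.of_hasPullback p' (Y'.fromSpecResidueField w)).flip.paste_vert H.flip).flip
  have t : IsPullback (p.fiberι (g w)) (p.fiberToSpecResidueField (g w)) p (Y.fromSpecResidueField (g w)) :=
    IsPullback.of_hasPullback p (Y.fromSpecResidueField (g w))
  let l := t.lift (p'.fiberι w ≫ q) (p'.fiberToSpecResidueField w ≫ r) (by rw [Category.assoc]; exact hP.w)
  exact MorphismProperty.of_isPullback
    (IsPullback.of_right (h₁₁ := l) (by rw [t.lift_fst]; exact hP) (t.lift_snd _ _ _) t) h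

theorem nhd_smooth_of_fiber_point {X Y : Scheme.{u}} (f : X ⟶ Y) [LocallyOfFinitePresentation f] [Flat f] {y : Y}
    (z : f.fiber y) (h : Groth.L05.Point.Nhd @Smooth (f.fiberToSpecResidueField y) z) :
    Groth.L05.Point.Nhd @Smooth f (f.fiberι y z) := by
  have key : ∀ (x : X) (y : Y) (_ : f x = y) (z : f.fiber y), f.fiberι y z = x →
      Groth.L05.Point.Nhd @Smooth (f.fiberToSpecResidueField y) z → Groth.L05.Point.Nhd @Smooth f x := by
    intro x y hy z hz h
    subst hy
    refine Groth.L05.Point.nhd_smooth_of_fiber f _ ((Flat.iff_flat_stalkMap _).mp ‹_› _) ?_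
    rw [show f.asFiber x = z from (f.fiberι _).isEmbedding.injective ((f.fiberι_asFiber x).trans hz.symm)]
    exact h
  exact key _ y (Groth.L22.Cyc.fromSpec_fiber_apply f y z) z rfl h

end Groth.Agent.S1356
namespace Groth.Agent.S1356

open AlgebraicGeometry CategoryTheory Limits in
/-- Let h : Y → S be flat and of finite presentation with all fibres geometrically reduced, let s be a
point of S and T an open of the fibre over s which is geometrically connected over the residue field
of s. Then there are an affine elementary étale neighbourhood (S', s') of (S, s) and a quasi-compact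
open V of the base change of Y to S', with every fibre of V → S' geometrically connected, whose
points over s' are exactly the points of the base change over s' whose image in Y lies in T. -/
theorem result {Y S : Scheme.{u}} (h : Y ⟶ S) [Flat h] [LocallyOfFinitePresentation h] [QuasiCompact h] [QuasiSeparated h]
    [GeometricallyReduced h] (s : S) (T : (h.fiber s).Opens) (hT : GeometricallyConnected (T.ι ≫ h.fiberToSpecResidueField s)) :
    ∃ (S' : Scheme.{u}) (g : S' ⟶ S) (s' : S'), IsAffine S' ∧ Hens2.IsEtaleNbhd g s' s ∧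
      ∃ V : (pullback h g).Opens, IsCompact (V : Set ↑(pullback h g)) ∧ GeometricallyConnected (V.ι ≫ pullback.snd h g) ∧
        ∀ y' : ↑(pullback h g), pullback.snd h g y' = s' → (y' ∈ V ↔ pullback.fst h g y' ∈ (h.fiberι s) '' (T : Set ↑(h.fiber s))) := by
  obtain ⟨S₀, hS₀, hsS₀, -⟩ := exists_isAffineOpen_mem_and_subset (show s ∈ (⊤ : S.Opens) from trivial)
  haveI : IsAffine (S₀ : Scheme.{u}) := hS₀
  obtain ⟨O₀, hO₀, hTO⟩ := (h.fiberι s).isEmbedding.isInducing.isOpen_iff.mp T.2
  haveI : LocallyOfFiniteType (h.fiberToSpecResidueField s) := MorphismProperty.pullback_snd _ _ inferInstance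
  haveI : QuasiCompact (h.fiberToSpecResidueField s) := MorphismProperty.pullback_snd _ _ inferInstance
  haveI : IsLocallyNoetherian (h.fiber s) := LocallyOfFiniteType.isLocallyNoetherian (h.fiberToSpecResidueField s)
  haveI : CompactSpace ↥(h.fiber s) := QuasiCompact.compactSpace_of_compactSpace (h.fiberToSpecResidueField s)
  haveI : IsNoetherian (h.fiber s) := ⟨⟩
  let O : Y.Opens := ⟨O₀, hO₀⟩ ⊓ h ⁻¹ᵁ S₀
  have hsub : h.fiberι s '' (T : Set ↑(h.fiber s)) ⊆ ⋃ A : {A : Y.affineOpens // A.1 ≤ O}, (A.1.1 : Set Y) := by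
    rintro _ ⟨z, hz, rfl⟩
    have hzO : h.fiberι s z ∈ O := ⟨(hTO.symm ▸ hz : z ∈ h.fiberι s ⁻¹' O₀), by
      show h (h.fiberι s z) ∈ S₀
      rw [Groth.L22.Cyc.fromSpec_fiber_apply]; exact hsS₀⟩
    obtain ⟨A, hA, hzA, hAO⟩ := exists_isAffineOpen_mem_and_subset hzO
    exact Set.mem_iUnion.mpr ⟨⟨⟨A, hA⟩, hAO⟩, hzA⟩
  obtain ⟨t, ht⟩ := ((TopologicalSpace.NoetherianSpace.isCompact (T : Set ↑(h.fiber s))).image (h.fiberι s).continuous).elim_finite_subcover
    _ (fun A => A.1.1.2) hsub
  let W : Y.Opens := t.sup fun A => A.1.1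
  have hWle : W ≤ O := Finset.sup_le fun A _ => A.2
  have hWc : IsCompact (W : Set Y) := by
    show IsCompact ((t.sup fun A => A.1.1 : Y.Opens) : Set Y)
    rw [Finset.sup_eq_iSup, TopologicalSpace.Opens.coe_iSup]
    simp only [TopologicalSpace.Opens.coe_iSup]
    exact t.finite_toSet.isCompact_biUnion fun A _ => A.1.2.isCompact
  have hWT : h.fiberι s ⁻¹ᵁ W = T := by
    refine TopologicalSpace.Opens.ext (Set.ext fun z => ⟨fun hz => ?_, fun hz => ?_⟩)
    · have h1 : z ∈ h.fiberι s ⁻¹' O₀ := (hWle hz).1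
      rw [hTO] at h1
      exact h1
    · obtain ⟨A, hA, hzA⟩ := Set.mem_iUnion₂.mp (ht ⟨z, hz, rfl⟩)
      exact (Finset.le_sup (f := fun A : {A : Y.affineOpens // A.1 ≤ O} => A.1.1) hA) hzA
  let f : (W : Scheme.{u}) ⟶ (S₀ : Scheme.{u}) := Y.homOfLE (hWle.trans inf_le_right) ≫ (h ∣_ S₀)
  have hfι : f ≫ S₀.ι = W.ι ≫ h := by simp [f]
  haveI : CompactSpace ↥(W : Scheme.{u}) := isCompact_iff_compactSpace.mp hWc
  haveI : QuasiCompact f := (quasiCompact_iff_compactSpace _).mpr ‹_›
  haveI : QuasiSeparated f := inferInstance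
  haveI : GeometricallyReduced f := geometricallyReduced_openImm_comp _ _
  let s₀ : ↥(S₀ : Scheme.{u}) := ⟨s, hsS₀⟩
  -- the fibre of `f`
  have hT2 : GeometricallyConnected ((W.ι ≫ h).fiberToSpecResidueField s) := by
    have H : IsPullback (h.fiberι s ∣_ W) ((h.fiberι s ⁻¹ᵁ W).ι ≫ h.fiberToSpecResidueField s) (W.ι ≫ h) (S.fromSpecResidueField s) :=
      (isPullback_morphismRestrict (h.fiberι s) W).paste_vert (IsPullback.of_hasPullback h (S.fromSpecResidueField s))
    have hT' : GeometricallyConnected ((h.fiberι s ⁻¹ᵁ W).ι ≫ h.fiberToSpecResidueField s) := by rw [hWT]; exact hT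
    have e := H.isoIsPullback_hom_snd _ _ (IsPullback.of_hasPullback (W.ι ≫ h) (S.fromSpecResidueField s))
    rw [← e, MorphismProperty.cancel_left_of_respectsIso (P := @GeometricallyConnected)] at hT'
    exact hT'
  have hf : GeometricallyConnected (f.fiberToSpecResidueField s₀) := by
    have H : IsPullback (𝟙 _) f (W.ι ≫ h) S₀.ι := by
      refine IsPullback.of_vert_isIso_mono ?_ |>.flip
      exact ⟨by rw [Category.id_comp, hfι]⟩
    exact fiber_baseChange H s₀ rfl hT2
  haveI : Nonempty ↥(f.fiber s₀) := by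
    haveI : ConnectedSpace ↥(pullback (f.fiberToSpecResidueField s₀) (𝟙 (Spec (CommRingCat.of (S₀.toScheme.residueField s₀))))) :=
      hf.geometrically_connectedSpace _ _ _ (IsPullback.of_hasPullback (f.fiberToSpecResidueField s₀) (𝟙 _))
    exact ⟨pullback.fst (f.fiberToSpecResidueField s₀) (𝟙 _) (Nonempty.some inferInstance)⟩
  -- a smooth point
  letI : (f.fiber s₀).Over (Spec (CommRingCat.of (S₀.toScheme.residueField s₀))) := ⟨f.fiberToSpecResidueField s₀⟩
  haveI : LocallyOfFiniteType (f.fiber s₀ ↘ Spec (CommRingCat.of (S₀.toScheme.residueField s₀))) :=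
    MorphismProperty.pullback_snd _ _ inferInstance
  haveI hgr : GeometricallyReduced (f.fiber s₀ ↘ Spec (CommRingCat.of (S₀.toScheme.residueField s₀))) :=
    MorphismProperty.pullback_snd _ _ ‹GeometricallyReduced f›
  haveI : IsReduced (f.fiber s₀) := inferInstance
  obtain ⟨U₀, hU₀, hU₀s⟩ := (Groth.Agent.S1549.result _ (f.fiber s₀)).mp hgr
  obtain ⟨z, hz⟩ := hU₀.nonempty
  obtain ⟨U, hzU, hU⟩ := nhd_smooth_of_fiber_point f z ⟨U₀, hz, hU₀s⟩
  haveI := hU
  obtain ⟨S', g, s', hg, hgs, σ₀, hσ₀⟩ := Groth.Agent.S0412.result (U.ι ≫ f) s₀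
    ⟨⟨f.fiberι s₀ z, hzU⟩, Groth.L22.Cyc.fromSpec_fiber_apply f s₀ z⟩
  haveI := hg
  haveI := Groth.L23.lqf_of_etale g
  obtain ⟨U₁, g₁, u₀, hu₀, V, v, hvV, hVfin, hvu, -, -, -⟩ := Groth.Agent.S1353.result g s' (g.quasiFiniteAt s')
  rw [hgs] at hu₀
  haveI := hu₀.etale
  obtain ⟨A, hA, huA, -⟩ := exists_isAffineOpen_mem_and_subset (show u₀ ∈ (⊤ : U₁.Opens) from trivial)
  haveI : IsAffine (A : Scheme.{u}) := hA
  let g₁' := A.ι ≫ g₁
  let u : ↥(A : Scheme.{u}) := ⟨u₀, huA⟩
  have hgu : g₁' u = s₀ := hu₀.base_eq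
  let π := V.ι ≫ pullback.snd g g₁
  haveI : IsFinite π := hVfin
  have hπ : Mor2.IsFinLocFree (pullback.snd π A.ι) :=
    ⟨MorphismProperty.pullback_snd _ _ hVfin, MorphismProperty.pullback_snd _ _ inferInstance,
      MorphismProperty.pullback_snd _ _ inferInstance⟩
  let f₁ := pullback.snd f g₁'
  haveI : Flat f₁ := MorphismProperty.pullback_snd _ _ inferInstance
  haveI : LocallyOfFinitePresentation f₁ := MorphismProperty.pullback_snd _ _ inferInstance
  haveI : QuasiCompact f₁ := MorphismProperty.pullback_snd _ _ inferInstance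
  haveI : QuasiSeparated f₁ := MorphismProperty.pullback_snd _ _ inferInstance
  let σ : pullback π A.ι ⟶ pullback f g₁' :=
    pullback.lift (pullback.fst π A.ι ≫ V.ι ≫ pullback.fst g g₁ ≫ σ₀ ≫ U.ι) (pullback.snd π A.ι) (by
      simp only [Category.assoc, g₁']
      rw [hσ₀, pullback.condition, ← pullback.condition_assoc]
      simp only [π, Category.assoc])
  obtain ⟨q, hq1, hq2⟩ := Scheme.Pullback.exists_preimage_pullback (f := π) (g := A.ι) (⟨v, hvV⟩ : ↥(V : Scheme.{u})) u hvu
  have hσs : σ ≫ f₁ = pullback.snd π A.ι := pullback.lift_snd _ _ _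
  obtain ⟨U₂, hU₂c, hU₂f, hU₂g⟩ := Groth.Agent.S1453.result f₁ (pullback.snd π A.ι) hπ σ hσs u ⟨q, hq2⟩
    (fiber_baseChange (P := @GeometricallyConnected) (IsPullback.of_hasPullback f g₁') u hgu hf)
  have hfσ : f₁ (σ q) = u := by rw [← Scheme.Hom.comp_apply, hσs]; exact hq2
  obtain ⟨D, hD, huD, hDle⟩ := exists_isAffineOpen_mem_and_subset (x := u)
    (U := ⟨f₁ '' (U₂ : Set ↑(pullback f g₁')), f₁.isOpenMap _ U₂.2⟩) ⟨σ q, hU₂f hfσ, hfσ⟩
  haveI : IsAffine (D : Scheme.{u}) := hD
  let g' : (D : Scheme.{u}) ⟶ S := D.ι ≫ g₁' ≫ S₀.ι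
  let d : ↥(D : Scheme.{u}) := ⟨u, huD⟩
  refine ⟨D, g', d, inferInstance, ⟨inferInstance, ?_, ?_⟩, ?_⟩
  · exact congrArg S₀.ι hgu
  · show Function.Bijective ((D.ι ≫ A.ι ≫ g₁ ≫ S₀.ι).residueFieldMap d)
    rw [Scheme.residueFieldMap_comp, Scheme.residueFieldMap_comp, Scheme.residueFieldMap_comp]
    simp only [CommRingCat.hom_comp, RingHom.coe_comp]
    exact (((ConcreteCategory.bijective_of_isIso (D.ι.residueFieldMap d)).comp
      (ConcreteCategory.bijective_of_isIso (A.ι.residueFieldMap _))).comp hu₀.residue_bijective).comp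
        (ConcreteCategory.bijective_of_isIso (S₀.ι.residueFieldMap _))
  let P := pullback f (D.ι ≫ g₁')
  let k : P ⟶ pullback h g' := pullback.lift (pullback.fst f (D.ι ≫ g₁') ≫ W.ι) (pullback.snd f (D.ι ≫ g₁')) (by
    rw [Category.assoc, ← hfι, pullback.condition_assoc]; simp [g'])
  let m : P ⟶ pullback f g₁' := pullback.lift (pullback.fst f (D.ι ≫ g₁')) (pullback.snd f (D.ι ≫ g₁') ≫ D.ι)
    (by rw [Category.assoc]; exact pullback.condition)
  have hP : IsPullback (pullback.fst f (D.ι ≫ g₁')) (pullback.snd f (D.ι ≫ g₁')) (W.ι ≫ h) g' := by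
    rw [← hfι]
    simpa [g'] using IsPullback.of_isLimit' ⟨by rw [pullback.condition_assoc]⟩ (pullbackIsPullbackOfCompMono f (D.ι ≫ g₁') S₀.ι)
  have hk : IsPullback (pullback.fst f (D.ι ≫ g₁')) k W.ι (pullback.fst h g') := by
    refine IsPullback.of_bot ?_ (by simp [k]) (IsPullback.of_hasPullback h g')
    rw [pullback.lift_snd]; exact hP
  haveI : IsOpenImmersion k := MorphismProperty.of_isPullback (P := @IsOpenImmersion) hk inferInstance
  have hm : IsPullback m (pullback.snd f (D.ι ≫ g₁')) f₁ D.ι :=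
    IsPullback.of_right (by rw [pullback.lift_fst]; exact IsPullback.of_hasPullback f (D.ι ≫ g₁')) (pullback.lift_snd _ _ _)
      (IsPullback.of_hasPullback f g₁')
  refine ⟨k ''ᵁ (m ⁻¹ᵁ U₂), ?_, ?_, fun y' hy' => ⟨?_, ?_⟩⟩
  · refine IsCompact.image ?_ k.continuous
    haveI : IsOpenImmersion m := MorphismProperty.of_isPullback (P := @IsOpenImmersion) hm.flip inferInstance
    refine m.isOpenEmbedding.isInducing.isCompact_iff.mpr ?_
    show IsCompact (m '' (m ⁻¹' (U₂ : Set ↑(pullback f g₁'))))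
    rw [Set.image_preimage_eq_inter_range, Groth.L19.Limit.range_of_isPullback hm.flip, Scheme.Opens.range_ι]
    haveI : CompactSpace ↥(pullback f g₁') := QuasiCompact.compactSpace_of_compactSpace f₁
    haveI : QuasiSeparatedSpace ↥(pullback f g₁') := quasiSeparatedSpace_of_quasiSeparated f₁
    exact QuasiSeparatedSpace.inter_isCompact _ _ U₂.2 hU₂c (D.2.preimage f₁.continuous)
      (f₁.isCompact_preimage hD.isCompact)
  · have hc : GeometricallyConnected ((m ⁻¹ᵁ U₂).ι ≫ pullback.snd f (D.ι ≫ g₁')) := by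
      refine (GeometricallyConnected.iff_geometricallyConnected_fiber _).mpr fun d' => ?_
      exact fiber_baseChange (P := @GeometricallyConnected) ((isPullback_morphismRestrict m U₂).paste_vert hm) d' rfl
        (hU₂g _ (hDle d'.2))
    have e : (k.isoImage (m ⁻¹ᵁ U₂)).hom ≫ (k ''ᵁ (m ⁻¹ᵁ U₂)).ι ≫ pullback.snd h g' =
        (m ⁻¹ᵁ U₂).ι ≫ pullback.snd f (D.ι ≫ g₁') := by
      rw [Scheme.Hom.isoImage_hom_ι_assoc, pullback.lift_snd]
    rw [← e, MorphismProperty.cancel_left_of_respectsIso (P := @GeometricallyConnected)] at hc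
    exact hc
  · rintro ⟨p, -, rfl⟩
    have hy : pullback.fst h g' (k p) = W.ι (pullback.fst f (D.ι ≫ g₁') p) := by
      rw [← Scheme.Hom.comp_apply, pullback.lift_fst]; rfl
    have hs : h (pullback.fst h g' (k p)) = s := by
      rw [← Scheme.Hom.comp_apply (pullback.fst h g'), pullback.condition, Scheme.Hom.comp_apply]
      erw [hy']
      exact congrArg S₀.ι hgu
    obtain ⟨z, hz⟩ : pullback.fst h g' (k p) ∈ Set.range (h.fiberι s) := by rw [h.range_fiberι]; exact hs
    refine ⟨z, ?_, hz⟩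
    rw [← hWT]
    show h.fiberι s z ∈ W
    rw [hz, hy]; exact (pullback.fst f (D.ι ≫ g₁') p).2
  · rintro ⟨z, hz, hzy⟩
    have hyW : pullback.fst h g' y' ∈ W := by
      rw [← hzy]; exact (show z ∈ h.fiberι s ⁻¹ᵁ W by rw [hWT]; exact hz)
    obtain ⟨p, -, hp⟩ := Scheme.exists_preimage_of_isPullback hk ⟨_, hyW⟩ y' rfl
    refine ⟨p, hU₂f ?_, hp⟩
    show f₁ (m p) = u
    rw [← Scheme.Hom.comp_apply, hm.w, Scheme.Hom.comp_apply]
    rw [← hp, ← Scheme.Hom.comp_apply, pullback.lift_snd] at hy'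
    rw [hy']; rfl


end Groth.Agent.S1356
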