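import Groth.Statements.S13560
import Groth.Agent.L29.FMAdj.Gor
import Groth.Agent.S13555
-- import your own Groth.Agent.* helpers here

set_option autoImplicit false
set_option linter.style.haveILetI false
set_option backward.defeqAttrib.useBackward true
set_option backward.isDefEq.respectTransparency false
set_option backward.isDefEq.respectTransparency.types false
universe u
open CategoryTheory AlgebraicGeometry
attribute [local instance] HasDerivedCategory.standard
open DEquiv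

set_option maxHeartbeats 800000

namespace Groth.Agent.S13560

/-- Let S be a Noetherian scheme, X → S and Y → S proper flat morphisms with Y → S a Gorenstein
morphism, and K a complex of modules on X ×_S Y defining a perfect object, with dual K^∨ = RHom(K,
O). Let ω_{Y/S} = a(O_S) be the relative dualizing complex of Y over S, a being the right adjoint of
R(Y → S)_* on D_QCoh (assumed to exist) and O_S the structure sheaf in degree 0. The derived
functors involved are assumed to exist (instance binders). Then for every complex W on X ×_S Y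
representing Lpr_2^* ω_{Y/S} and every complex K'' on Y ×_S X whose image in the derived category is
isomorphic to the derived pullback, along the symmetry Y ×_S X → X ×_S Y, of K^∨ ⊗^L W: K'' defines
a perfect object, and, assuming the two Fourier–Mukai functors preserve perfect objects (hypotheses
h, h''), Φ_{K''} : D_perf(O_Y) ⥤ D_perf(O_X) is left adjoint to Φ_K : D_perf(O_X) ⥤ D_perf(O_Y)
(existence of an adjunction). -/
theorem result {S X Y : Scheme.{u}} [IsNoetherian S] (a : X ⟶ S) (b : Y ⟶ S)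
    [IsProper a] [Flat a] [IsProper b] [Flat b]
    (K : CochainComplex (Limits.pullback a b).Modules ℤ) (hK : DCoh.IsPerfect (DCoh.toD _ K))
    [DCoh.HasLpull (Limits.pullback.fst a b)] [DCoh.HasLTensorCx K] [DCoh.HasRpush (Limits.pullback.snd a b)]
    [DCoh.HasRSheafHom K]
    (hG : Dual3.IsGorensteinMor b)
    [DCoh.HasRpush b] (hRb : DCoh.RpushPreservesQCoh b) [DCoh.HasShriek b hRb]
    (OS : DCoh.DQCoh S) (hOS : OS.obj ≅ DCoh.inD S (Coh.structureModule S))
    [DCoh.HasLpull (Limits.pullback.snd a b)]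
    (W : CochainComplex (Limits.pullback a b).Modules ℤ) [DCoh.HasLTensorCx W]
    (hW : Nonempty (DCoh.toD _ W ≅ (DCoh.Lpull (Limits.pullback.snd a b)).obj (DCoh.dualizingCx b hRb OS)))
    [DCoh.HasLpull (Limits.pullbackSymmetry b a).hom]
    (K'' : CochainComplex (Limits.pullback b a).Modules ℤ)
    (hK'' : Nonempty (DCoh.toD _ K'' ≅ (DCoh.Lpull (Limits.pullbackSymmetry b a).hom).obj
      ((DCoh.LTensorCx W).obj ((DCoh.RSheafHom K).obj (DCoh.inD _ (Coh.structureModule (Limits.pullback a b)))))))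
    [DCoh.HasLpull (Limits.pullback.fst b a)] [DCoh.HasLTensorCx K''] [DCoh.HasRpush (Limits.pullback.snd b a)]
    (h : ∀ M : DCoh.D X, SGA6.perfP X M → SGA6.perfP Y ((FMK.phi a b K).obj M))
    (h'' : ∀ N : DCoh.D Y, SGA6.perfP Y N → SGA6.perfP X ((FMK.phi b a K'').obj N)) :
    DCoh.IsPerfect (DCoh.toD _ K'') ∧
      Nonempty (FMK.phiOn b a K'' (SGA6.perfP Y) (SGA6.perfP X) h'' ⊣ FMK.phiOn a b K (SGA6.perfP X) (SGA6.perfP Y) h) := by
  haveI : IsNoetherian X := by
    haveI := LocallyOfFiniteType.isLocallyNoetherian a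
    haveI := QuasiCompact.compactSpace_of_compactSpace a
    constructor
  haveI : IsNoetherian Y := by
    haveI := LocallyOfFiniteType.isLocallyNoetherian b
    haveI := QuasiCompact.compactSpace_of_compactSpace b
    constructor
  haveI : LocallyOfFinitePresentation a := LocallyOfFinitePresentation.iff_locallyOfFiniteType.mpr inferInstance
  haveI : LocallyOfFinitePresentation b := LocallyOfFinitePresentation.iff_locallyOfFiniteType.mpr inferInstance
  haveI := fun {A B : Scheme.{u}} (k : A ⟶ B) => Groth.L00.KFlat.hasLpull k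
  haveI := fun {A B : Scheme.{u}} (k : A ⟶ B) => Groth.L29.DC.RpushQC.hasRpush k
  haveI := fun {V : Scheme.{u}} (E : CochainComplex V.Modules ℤ) => Groth.L00.KFlat.hasLTensorCx E
  haveI := fun {V : Scheme.{u}} (E : CochainComplex V.Modules ℤ) => Groth.L29.DC.RHom.hasRSheafHom E
  haveI : CompactSpace ↥(Limits.pullback a b) := QuasiCompact.compactSpace_of_compactSpace (Limits.pullback.fst a b)
  haveI : QuasiSeparatedSpace ↥(Limits.pullback a b) :=
    quasiSeparatedSpace_of_quasiSeparated (Limits.pullback.fst a b)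
  let σ := (Limits.pullbackSymmetry b a).hom
  obtain ⟨W', hW'f, ⟨w'⟩⟩ := Groth.L07.BvdB.DualHom.exists_kflat_rep (DCoh.toD _ W)
  obtain ⟨cw⟩ := Groth.L29.DC.RHom.nonempty_lt_iso w'
  obtain ⟨D, hD, ⟨d⟩⟩ := Groth.L07.BvdB.DualHom.exists_kflat_rep
    ((DCoh.RSheafHom K).obj (DCoh.inD _ (Coh.structureModule (Limits.pullback a b))))
  obtain ⟨hDp, ⟨ρ⟩⟩ := Groth.L10.DualNat.nonempty_RSheafHom_iso_LT K hK D ⟨d⟩
  have hq : ∀ {A B : Scheme.{u}} (j : A ⟶ B) [QuasiCompact j] [QuasiSeparated j], DCoh.RpushPreservesQCoh j :=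
    fun j _ _ M hM => Groth.L29.DC.RpushQC.isQCohD_Rpush j M hM
  have hKq : DCoh.IsQCohD (DCoh.toD _ K) := Groth.L29.DC.PCQCoh.isQCohD_of_perfect hK
  obtain ⟨w⟩ := hW
  have hWp : DCoh.IsPerfect (DCoh.toD _ W) := Groth.L29.DC.isPerfect_of_iso w.symm
    (Groth.L29.DC.isPerfect_Lpull _ (Groth.L29.FMAdj.isPerfect_dualizing b hG (DCoh.shriekAdj b hRb) OS ⟨hOS⟩))
  haveI : DCoh.HasShriek (Limits.pullback.fst a b) (hq _) :=
    Groth.Agent.S1766.result _ _ (Limits.pullback.fst a b) (hq _)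
  let OX : DCoh.DQCoh X := ⟨DCoh.inD X (Coh.structureModule X), Groth.Lead.LTMod.isQCohD_inD_of
    (Groth.L16.Rees.RelVanish.isCoh_structureModule X).1⟩
  obtain ⟨bc⟩ := Groth.L29.FMAdj.nonempty_dualizing_baseChange (IsPullback.of_hasPullback a b).flip
    (DCoh.shriekAdj b hRb) (DCoh.shriekAdj (Limits.pullback.fst a b) (hq _)) OS ⟨hOS⟩ OX ⟨Iso.refl _⟩
  obtain ⟨k'⟩ := hK''
  let V := (DCoh.LTensorCx W).obj ((DCoh.RSheafHom K).obj (DCoh.inD _ (Coh.structureModule (Limits.pullback a b))))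
  have hKD : DCoh.IsPerfect V :=
    Groth.L29.DC.isPerfect_of_iso ((cw.app _) ≪≫ (DCoh.LTensorCx W).mapIso d)
      (Groth.L29.DC.isPerfect_LTensorCx W' hW'f (Groth.L29.DC.isPerfect_of_iso w'.symm hWp) _ hDp)
  have hKp : DCoh.IsPerfect (DCoh.toD _ K'') :=
    Groth.L29.DC.isPerfect_of_iso k'.symm (Groth.L29.DC.isPerfect_Lpull _ hKD)
  refine ⟨hKp, ?_⟩
  obtain ⟨K₁, hK₁, ⟨k₁⟩⟩ := Groth.L07.BvdB.DualHom.exists_kflat_rep V
  obtain ⟨c⟩ := Groth.L10.FMAdj.nonempty_kernel_iso σ
    (Limits.pullbackSymmetry_hom_comp_fst b a) (Limits.pullbackSymmetry_hom_comp_snd b a) K₁ K''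
    ⟨k' ≪≫ (DCoh.Lpull σ).mapIso k₁.symm⟩
  have h₁ : ∀ M : DCoh.D X, DCoh.IsQCohD M → DCoh.IsQCohD ((FMK.phi a b K).obj M) := fun M hM =>
    hq (Limits.pullback.snd a b) ((DCoh.LTensorCx K).obj ((DCoh.Lpull (Limits.pullback.fst a b)).obj M))
      (Groth.L29.DC.isQCohD_LTensorCx K hKq (Groth.L29.DC.isQCohD_Lpull (Limits.pullback.fst a b) hM))
  have h₂ : ∀ N : DCoh.D Y, DCoh.IsQCohD N → DCoh.IsQCohD ((FMK.phi b a K'').obj N) := fun N hN =>
    hq (Limits.pullback.snd b a) ((DCoh.LTensorCx K'').obj ((DCoh.Lpull (Limits.pullback.fst b a)).obj N))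
      (Groth.L29.DC.isQCohD_LTensorCx K'' (Groth.L29.DC.PCQCoh.isQCohD_of_perfect hKp)
      (Groth.L29.DC.isQCohD_Lpull (Limits.pullback.fst b a) hN))
  have h₃ : ∀ N : DCoh.D Y, DCoh.IsQCohD N → DCoh.IsQCohD
      ((DCoh.Lpull (Limits.pullback.snd a b) ⋙ DCoh.LTensorCx K₁ ⋙ DCoh.Rpush (Limits.pullback.fst a b)).obj N) :=
    fun N hN => Groth.L29.DC.isQCohD_of_iso (c.app N) (h₂ N hN)
  obtain ⟨adj⟩ := Groth.L29.FMAdj.nonempty_adj_left (Limits.pullback.fst a b) (Limits.pullback.snd a b) K hK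
    (hq _) (DCoh.shriekAdj (Limits.pullback.fst a b) (hq _)) OX ⟨Iso.refl _⟩ W ⟨w ≪≫ bc.symm⟩ hWp K₁ ⟨k₁⟩ h₁ h₃
  exact Groth.L29.FMAdj.nonempty_restrictPerf (F := FMK.phi b a K'') (fun N => h₂ N.obj N.property)
    (fun M => h₁ M.obj M.property) (adj.ofNatIsoLeft (NatIso.ofComponents (fun N => ObjectProperty.isoMk _ (c.app N.obj).symm)
      (fun f => by apply ObjectProperty.hom_ext; exact c.inv.naturality f.hom))) h'' h

end Groth.Agent.S13560
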