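import Groth.Statements.S13561
import Groth.Agent.L29.FMAdj.Gor
import Groth.Agent.L29.BCAdj.AdjTor
import Groth.Agent.S13555

set_option autoImplicit false
set_option linter.style.haveILetI false
set_option backward.defeqAttrib.useBackward true
set_option backward.isDefEq.respectTransparency false
set_option backward.isDefEq.respectTransparency.types false
set_option maxHeartbeats 800000
universe u
open CategoryTheory AlgebraicGeometry
attribute [local instance] HasDerivedCategory.standard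
open DEquiv

namespace Groth.Agent.S13561

/-- Let S be a Noetherian scheme, Y → S a flat proper Gorenstein morphism, X → S a morphism of finite
type, and K a complex of modules on X ×_S Y defining a perfect object with quasi-coherent cohomology
sheaves, with dual K^∨ = RHom(K, O). Let ω_{Y/S} = a(O_S) be the relative dualizing complex of Y
over S, a being the right adjoint of R(Y → S)_* on D_QCoh (assumed to exist) and O_S the structure
sheaf in degree 0. The derived functors involved are assumed to exist (instance binders). Then for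
every complex W on X ×_S Y representing Lpr_2^* ω_{Y/S} and every complex K' on Y ×_S X whose image
in the derived category is isomorphic to the derived pullback, along the symmetry Y ×_S X → X ×_S Y,
of K^∨ ⊗^L W, and assuming the two Fourier–Mukai functors preserve objects with quasi-coherent
cohomology sheaves (hypotheses h, h'), Φ_{K'} : D_QCoh(O_Y) ⥤ D_QCoh(O_X) is left adjoint to Φ_K :
D_QCoh(O_X) ⥤ D_QCoh(O_Y) (existence of an adjunction; the published statement names the isomorphism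
Hom(N, Φ_K M) → Hom(Φ_{K'} N, M), which is not constructed here). -/
theorem result {S X Y : Scheme.{u}} [IsNoetherian S]
    (a : X ⟶ S) (b : Y ⟶ S) [LocallyOfFiniteType a] [QuasiCompact a] [IsProper b] [Flat b]
    (hG : Dual3.IsGorensteinMor b)
    (K : CochainComplex (Limits.pullback a b).Modules ℤ) (hK : DCoh.IsPerfect (DCoh.toD _ K))
    (hKq : DCoh.IsQCohD (DCoh.toD _ K))
    [DCoh.HasLpull (Limits.pullback.fst a b)] [DCoh.HasLTensorCx K] [DCoh.HasRpush (Limits.pullback.snd a b)]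
    [DCoh.HasRSheafHom K]
    [DCoh.HasRpush b] (hRb : DCoh.RpushPreservesQCoh b) [DCoh.HasShriek b hRb]
    (OS : DCoh.DQCoh S) (hOS : OS.obj ≅ DCoh.inD S (Coh.structureModule S))
    [DCoh.HasLpull (Limits.pullback.snd a b)]
    (W : CochainComplex (Limits.pullback a b).Modules ℤ) [DCoh.HasLTensorCx W]
    (hW : Nonempty (DCoh.toD _ W ≅ (DCoh.Lpull (Limits.pullback.snd a b)).obj (DCoh.dualizingCx b hRb OS)))
    [DCoh.HasLpull (Limits.pullbackSymmetry b a).hom]
    (K' : CochainComplex (Limits.pullback b a).Modules ℤ)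
    (hK' : Nonempty (DCoh.toD _ K' ≅ (DCoh.Lpull (Limits.pullbackSymmetry b a).hom).obj
      ((DCoh.LTensorCx W).obj ((DCoh.RSheafHom K).obj (DCoh.inD _ (Coh.structureModule (Limits.pullback a b)))))))
    [DCoh.HasLpull (Limits.pullback.fst b a)] [DCoh.HasLTensorCx K'] [DCoh.HasRpush (Limits.pullback.snd b a)]
    (h : ∀ M : DCoh.D X, DCoh.IsQCohD M → DCoh.IsQCohD ((FMK.phi a b K).obj M))
    (h' : ∀ N : DCoh.D Y, DCoh.IsQCohD N → DCoh.IsQCohD ((FMK.phi b a K').obj N)) :
    Nonempty (FMK.phiOn b a K' DCoh.IsQCohD DCoh.IsQCohD h' ⊣ FMK.phiOn a b K DCoh.IsQCohD DCoh.IsQCohD h) := by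
  haveI : IsNoetherian X := by
    haveI := LocallyOfFiniteType.isLocallyNoetherian a
    haveI := QuasiCompact.compactSpace_of_compactSpace a
    constructor
  haveI : IsNoetherian Y := by
    haveI := LocallyOfFiniteType.isLocallyNoetherian b
    haveI := QuasiCompact.compactSpace_of_compactSpace b
    constructor
  haveI : LocallyOfFinitePresentation b := LocallyOfFinitePresentation.iff_locallyOfFiniteType.mpr inferInstance
  haveI := fun {A B : Scheme.{u}} (k : A ⟶ B) => Groth.L00.KFlat.hasLpull k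
  haveI := fun {A B : Scheme.{u}} (k : A ⟶ B) => Groth.L29.DC.RpushQC.hasRpush k
  haveI := fun {V : Scheme.{u}} (E : CochainComplex V.Modules ℤ) => Groth.L00.KFlat.hasLTensorCx E
  haveI := fun {V : Scheme.{u}} (E : CochainComplex V.Modules ℤ) => Groth.L29.DC.RHom.hasRSheafHom E
  haveI : CompactSpace ↥(Limits.pullback a b) := QuasiCompact.compactSpace_of_compactSpace (Limits.pullback.fst a b)
  haveI : QuasiSeparatedSpace ↥(Limits.pullback a b) :=
    quasiSeparatedSpace_of_quasiSeparated (Limits.pullback.fst a b)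
  let σ := (Limits.pullbackSymmetry b a).hom
  have hq : ∀ {A B : Scheme.{u}} (j : A ⟶ B) [QuasiCompact j] [QuasiSeparated j], DCoh.RpushPreservesQCoh j :=
    fun j _ _ M hM => Groth.L29.DC.RpushQC.isQCohD_Rpush j M hM
  have hL : ∀ {A B : Scheme.{u}} (j : A ⟶ B), Dual3.LpullPreservesQCoh j :=
    fun j K hK => Groth.L29.DC.isQCohD_Lpull j hK
  obtain ⟨w⟩ := hW
  have hWp : DCoh.IsPerfect (DCoh.toD _ W) := Groth.L29.DC.isPerfect_of_iso w.symm
    (Groth.L29.DC.isPerfect_Lpull _ (Groth.L29.FMAdj.isPerfect_dualizing b hG (DCoh.shriekAdj b hRb) OS ⟨hOS⟩))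
  haveI : DCoh.HasShriek (Limits.pullback.fst a b) (hq _) :=
    Groth.Agent.S1766.result _ _ (Limits.pullback.fst a b) (hq _)
  let OX : DCoh.DQCoh X := ⟨DCoh.inD X (Coh.structureModule X), Groth.Lead.LTMod.isQCohD_inD_of
    (Groth.L16.Rees.RelVanish.isCoh_structureModule X).1⟩
  -- base change of the relative dualizing complex
  have hsq : IsPullback (Limits.pullback.snd a b) (Limits.pullback.fst a b) b a :=
    (IsPullback.of_hasPullback a b).flip
  let Aa := Groth.L29.BCAdj.adjQ a (hq a) (hL a)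
  let Aq := Groth.L29.BCAdj.adjQ (Limits.pullback.snd a b) (hq _) (hL _)
  have hθ := Groth.L29.BCAdj.isIso_bcQ (hf := hRb) (hf' := hq (Limits.pullback.fst a b)) Aa Aq
    (Groth.L29.BCAdj.BC_flat_vert hsq)
  have hξ := Groth.L29.BCAdj.Mate.isIso_xi (DCoh.shriekAdj b hRb) (DCoh.shriekAdj (Limits.pullback.fst a b) (hq _))
    _ Aa Aq hθ ((Dual3.LpullQ a (hL a)).obj OS)
  haveI := Groth.L29.BCAdj.isIso_bcMap_ft (DCoh.shriekAdj b hRb) (DCoh.shriekAdj (Limits.pullback.fst a b) (hq _))
    Aa Aq hsq OS hOS hξ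
  obtain ⟨l⟩ := Groth.L29.BCAdj.nonempty_Lpull_OD a
  let i : (Dual3.LpullQ a (hL a)).obj OS ≅ OX := ObjectProperty.isoMk _ ((DCoh.Lpull a).mapIso hOS ≪≫ l)
  let bc : DCoh.toD _ W ≅ ((DCoh.shriek (Limits.pullback.fst a b) (hq _)).obj OX).obj :=
    w ≪≫ (DCoh.IsQCohD (X := Limits.pullback a b)).ι.mapIso (asIso (Dual3.bcMap (DCoh.shriekAdj b hRb)
      (DCoh.shriekAdj (Limits.pullback.fst a b) (hq _)) _ Aa Aq OS hξ) ≪≫
        (DCoh.shriek (Limits.pullback.fst a b) (hq _)).mapIso i)
  -- the kernel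
  obtain ⟨k'⟩ := hK'
  obtain ⟨K₁, hK₁, ⟨k₁⟩⟩ := Groth.L07.BvdB.DualHom.exists_kflat_rep
    ((DCoh.LTensorCx W).obj ((DCoh.RSheafHom K).obj (DCoh.inD _ (Coh.structureModule (Limits.pullback a b)))))
  obtain ⟨c⟩ := Groth.L10.FMAdj.nonempty_kernel_iso σ
    (Limits.pullbackSymmetry_hom_comp_fst b a) (Limits.pullbackSymmetry_hom_comp_snd b a) K₁ K'
    ⟨k' ≪≫ (DCoh.Lpull σ).mapIso k₁.symm⟩
  have h₃ : ∀ N : DCoh.D Y, DCoh.IsQCohD N → DCoh.IsQCohD
      ((DCoh.Lpull (Limits.pullback.snd a b) ⋙ DCoh.LTensorCx K₁ ⋙ DCoh.Rpush (Limits.pullback.fst a b)).obj N) :=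
    fun N hN => Groth.L29.DC.isQCohD_of_iso (c.app N) (h' N hN)
  obtain ⟨adj⟩ := Groth.L29.FMAdj.nonempty_adj_left (Limits.pullback.fst a b) (Limits.pullback.snd a b) K hK
    (hq _) (DCoh.shriekAdj (Limits.pullback.fst a b) (hq _)) OX ⟨Iso.refl _⟩ W ⟨bc⟩ hWp K₁ ⟨k₁⟩ h h₃
  exact ⟨adj.ofNatIsoLeft (NatIso.ofComponents (fun N => ObjectProperty.isoMk _ (c.app N.obj).symm)
      (fun f => by apply ObjectProperty.hom_ext; exact c.inv.naturality f.hom))⟩

end Groth.Agent.S13561
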