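import Groth.Statements.S13568
import Groth.Agent.L24.St.PointsUniv

set_option autoImplicit false
universe u
open CategoryTheory AlgebraicGeometry
open AlgSt

namespace Groth.Agent.S13568

/-- The composition of two universally injective morphisms of algebraic stacks is universally injective
(universally injective: every base change to an algebraic stack is injective on points). -/
theorem result {S : Scheme.{u}} {𝒳 𝒴 𝒵 : AlgSt.Cat S}
    (h𝒳 : AlgSt.IsAlgStack Scheme.fppfPrecoverage 𝒳) (h𝒴 : AlgSt.IsAlgStack Scheme.fppfPrecoverage 𝒴)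
    (h𝒵 : AlgSt.IsAlgStack Scheme.fppfPrecoverage 𝒵)
    (f : 𝒳 ⥤ᵇ 𝒴) (g : 𝒴 ⥤ᵇ 𝒵) (hf : AlgSt.IsUnivInjective Scheme.fppfPrecoverage f)
    (hg : AlgSt.IsUnivInjective Scheme.fppfPrecoverage g) :
    AlgSt.IsUnivInjective Scheme.fppfPrecoverage (BasedFunctor.comp f g) := by
  intro 𝒲 h𝒲 h w₁ w₂ e
  obtain ⟨w₁, rfl⟩ := (Groth.L24.St.bijective_map_of_isEquivOver (Groth.L24.St.fpComp_isEquivOver h f g)).surjective w₁
  obtain ⟨w₂, rfl⟩ := (Groth.L24.St.bijective_map_of_isEquivOver (Groth.L24.St.fpComp_isEquivOver h f g)).surjective w₂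
  rw [← Groth.L24.St.map_comp_apply, ← Groth.L24.St.map_comp_apply, Groth.L24.St.fpComp_fst,
    Groth.L24.St.map_comp_apply, Groth.L24.St.map_comp_apply] at e
  exact congrArg _ (Groth.L24.St.injective_fpFst_of_diag h𝒳.isStack.1 h𝒴.isStack.1
    (Groth.L09.Fib.fp_isFibGrpd h𝒲.isStack.1 h𝒴.isStack.1 h𝒵.isStack.1)
    (Groth.L24.St.isSurjective_diag_of_injective f (hf 𝒳 h𝒳 f)) _ (hg 𝒲 h𝒲 h e))

end Groth.Agent.S13568
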