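import Groth.Statements.S13569
import Groth.Agent.L24.St.UnivInjLocal
-- import your own Groth.Agent.* helpers here

set_option autoImplicit false
universe u
open CategoryTheory AlgebraicGeometry
open AlgSt

set_option backward.isDefEq.respectTransparency false
set_option backward.isDefEq.respectTransparency.types false

namespace Groth.Agent.S13569

/-- (2) ⇒ (1): let `f : 𝒳 ⟶ 𝒴` be a morphism of algebraic stacks over `S`. If for every affine scheme
`Z` over `S` and every `Z ⟶ 𝒴` the projection `Z ×_𝒴 𝒳 ⟶ Z` is universally injective, then `f` is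
universally injective (every base change to an algebraic stack is injective on points). The converse
implication is the base-change property. -/
theorem result {S : Scheme.{u}} {𝒳 𝒴 : AlgSt.Cat S}
    (h𝒳 : AlgSt.IsAlgStack Scheme.fppfPrecoverage 𝒳) (h𝒴 : AlgSt.IsAlgStack Scheme.fppfPrecoverage 𝒴) (f : 𝒳 ⥤ᵇ 𝒴)
    (h : ∀ (Z : Over S) [IsAffine Z.left] (z : FibCat.overCat Z ⥤ᵇ 𝒴),
      AlgSt.IsUnivInjective Scheme.fppfPrecoverage (FibCat.fpFst z f)) :
    AlgSt.IsUnivInjective Scheme.fppfPrecoverage f := by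
  refine Groth.L24.St.isUnivInjective_of_cover h𝒳 h𝒴 f fun y => ?_
  obtain ⟨Z, hZ, z, hz⟩ := Groth.L24.St.exists_field_chart h𝒴.isStack.1 y
  exact ⟨_, Groth.L24.St.isAlgStack_overCat Z, z, hz, @h Z hZ z⟩

end Groth.Agent.S13569
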