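
import Groth.Statements.S1654
import Groth.Agent.L22.GeomConn.Irred
import Groth.Agent.S4646
import Groth.Agent.L22.FibreDim

set_option autoImplicit false
universe u
open CategoryTheory CategoryTheory.Limits AlgebraicGeometry
open Variety

namespace Groth.Agent.S1654

/-- Let X be a k-scheme locally of finite type, having only finitely many irreducible components. There
is then a finite separable extension k' of k such that every irreducible component of X_{k'}, with
its reduced induced structure, is geometrically irreducible over k'. -/
theorem result (k : Type u) [Field k] (X : Scheme.{u}) [X.Over (Spec (CommRingCat.of k))] [LocallyOfFiniteType (X ↘ (Spec (CommRingCat.of k)))]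
    (hirr : (irreducibleComponents (X : Type u)).Finite) :
    ∃ (k' : Type u) (_ : Field k') (_ : Algebra k k'), FiniteDimensional k k' ∧ Algebra.IsSeparable k k' ∧
      ∀ (T : Set (Curv2.bc k X k')) (hT : T ∈ irreducibleComponents (Curv2.bc k X k' : Type u)),
        GeometricallyIrreducible
          ((Scheme.IdealSheafData.vanishingIdeal ⟨T, isClosed_of_mem_irreducibleComponents T hT⟩).subschemeι ≫
            Curv2.bcSnd k X k') := by
  let f := X ↘ Spec (CommRingCat.of k)
  haveI : Finite ↥(irreducibleComponents ↥X) := hirr.to_subtype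
  obtain ⟨L, _, _, hfd, hsep, hL⟩ := Groth.Agent.S4646.result f fun Z hZ => by
    refine ⟨Curv2.resMap k X _, Groth.L22.FibreDim.SpecMap_resMap k X _, ?_⟩
    letI := Curv2.resAlgebra k X hZ.1.genericPoint
    exact Groth.L22.GeomConn.finiteDimensional_separableClosure f _ (Groth.L22.FibreDim.SpecMap_resMap k X _)
  refine ⟨L, inferInstance, inferInstance, hfd, hsep, fun T hT => ?_⟩
  set ι := (Scheme.IdealSheafData.vanishingIdeal ⟨T, isClosed_of_mem_irreducibleComponents T hT⟩).subschemeι with hι
  have hιr : Set.range ι = T := by
    rw [hι, Scheme.IdealSheafData.range_subschemeι, Scheme.IdealSheafData.coe_support_vanishingIdeal]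
    rfl
  refine ⟨geometrically_iff_of_isClosedUnderIsomorphisms.mpr fun K _ y => ?_⟩
  obtain ⟨θ, rfl⟩ := Spec.map_surjective y
  algebraize [θ.hom]
  let π' := FBase.bcπ (FBase.bcStr f L) K
  have hrange : Set.range (Limits.pullback.snd ι π') = π' ⁻¹' T := by
    rw [Scheme.Pullback.range_snd, hιr]
    rfl
  haveI : IrreducibleSpace (Set.range (Limits.pullback.snd ι π')) :=
    Subtype.irreducibleSpace (hrange ▸ hL K T hT)
  haveI : IrreducibleSpace ↥(Limits.pullback ι π') :=
    (Limits.pullback.snd ι π').isEmbedding.toHomeomorph.irreducibleSpace_iff.mpr inferInstance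
  have hirr' : IrreducibleSpace ↥(Limits.pullback ι (Limits.pullback.fst (FBase.bcStr f L) (Spec.map (CommRingCat.ofHom (algebraMap L K))))) :=
    ‹IrreducibleSpace ↥(Limits.pullback ι π')›
  exact (pullbackRightPullbackFstIso (FBase.bcStr f L) (Spec.map (CommRingCat.ofHom (algebraMap L K))) ι).hom.homeomorph.irreducibleSpace_iff.mp hirr'

end Groth.Agent.S1654
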