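import Groth.Statements.S1357
import Groth.Agent.S1654
import Groth.Agent.L20.SmoothStrat.Field
import Groth.Agent.L23.RegCompl
import Mathlib.RingTheory.Etale.StandardEtale
import Mathlib.FieldTheory.PrimitiveElement

set_option autoImplicit false
universe u
open FlatMor

set_option backward.isDefEq.respectTransparency.types false
set_option linter.style.haveILetI false
set_option backward.isDefEq.respectTransparency false
set_option backward.isDefEq.respectTransparency.types false
namespace Groth.Agent.S1357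
open AlgebraicGeometry CategoryTheory Limits

theorem isFrac_residueField {A : Type u} [CommRing A] (p : Ideal A) [p.IsPrime] (x : p.ResidueField) :
    ∃ a s : A, IsUnit (algebraMap A p.ResidueField s) ∧ x * algebraMap A _ s = algebraMap A _ a := by
  obtain ⟨y, rfl⟩ := IsLocalRing.residue_surjective x
  obtain ⟨⟨a, s⟩, h⟩ := IsLocalization.surj p.primeCompl y
  refine ⟨a, s, isUnit_iff_ne_zero.mpr fun h => s.2 (Ideal.algebraMap_residueField_eq_zero.mp h), ?_⟩
  rw [IsScalarTower.algebraMap_apply A (Localization.AtPrime p) p.ResidueField,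
    IsScalarTower.algebraMap_apply A (Localization.AtPrime p) p.ResidueField, IsLocalRing.ResidueField.algebraMap_eq,
    ← map_mul, h]

theorem exists_den {A : Type u} [CommRing A] (p : Ideal A) [p.IsPrime] (S0 : Finset p.ResidueField) :
    ∃ s : A, s ∉ p ∧ ∀ x ∈ S0, ∃ c : A, x * algebraMap A p.ResidueField s = algebraMap A p.ResidueField c := by
  classical
  induction S0 using Finset.induction_on with
  | empty => exact ⟨1, fun h => ‹p.IsPrime›.ne_top ((Ideal.eq_top_iff_one p).mpr h), by simp⟩
  | insert x S hx ih =>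
    obtain ⟨s, hs, hS⟩ := ih
    obtain ⟨a, d, hd, hxd⟩ := isFrac_residueField p x
    refine ⟨d * s, Ideal.IsPrime.mul_notMem ‹_› (fun h => hd.ne_zero (Ideal.algebraMap_residueField_eq_zero.mpr h)) hs, ?_⟩
    intro y hy
    rcases Finset.mem_insert.mp hy with rfl | hy
    · exact ⟨a * s, by rw [map_mul, map_mul, ← mul_assoc, hxd]⟩
    · obtain ⟨c, hc⟩ := hS y hy
      exact ⟨d * c, by rw [map_mul, map_mul, mul_left_comm, hc]⟩

theorem etale_adjoinRoot {R : Type u} [CommRing R] (E : StandardEtalePair R) (h : E.g = 1) :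
    Algebra.Etale R (AdjoinRoot E.f) := by
  refine Algebra.Etale.of_equiv (AlgEquiv.ofAlgHom
    (E.lift (AdjoinRoot.root E.f) ⟨by rw [AdjoinRoot.aeval_eq, AdjoinRoot.mk_self], by rw [h, map_one]; exact isUnit_one⟩)
    (AdjoinRoot.liftAlgHom E.f (Algebra.ofId R E.Ring) E.X E.hasMap_X.1) ?_ ?_)
  · refine AdjoinRoot.algHom_ext ?_
    simp
  · refine E.hom_ext ?_
    simp

theorem irreducibleSpace_opens {Y : Scheme.{u}} [IrreducibleSpace ↥Y] (V : Y.Opens) {y : Y} (hy : y ∈ V) :
    IrreducibleSpace ↥(V : Scheme.{u}) := by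
  have h : IsIrreducible (V : Set Y) :=
    ⟨⟨y, hy⟩, (IrreducibleSpace.isIrreducible_univ _).2.open_subset V.2 (Set.subset_univ _)⟩
  exact Subtype.irreducibleSpace h

theorem good_of_iso {X X' S S' : Scheme.{u}} (f : X ⟶ S)
    (hf : ∀ (T : Set X) (hT : T ∈ irreducibleComponents (X : Type u)), GeometricallyIrreducible
      ((Scheme.IdealSheafData.vanishingIdeal ⟨T, isClosed_of_mem_irreducibleComponents T hT⟩).subschemeι ≫ f))
    (e : X' ≅ X) (j : S ≅ S') (f' : X' ⟶ S') (he : e.hom ≫ f ≫ j.hom = f')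
    (T' : Set X') (hT' : T' ∈ irreducibleComponents (X' : Type u)) :
    GeometricallyIrreducible
      ((Scheme.IdealSheafData.vanishingIdeal ⟨T', isClosed_of_mem_irreducibleComponents T' hT'⟩).subschemeι ≫ f') := by
  let T : Set X := e.inv ⁻¹' T'
  have hsurj : Function.Surjective e.inv := e.inv.homeomorph.surjective
  have hT : T ∈ irreducibleComponents (X : Type u) :=
    preimage_mem_irreducibleComponents hT' e.inv.isOpenEmbedding (by
      rw [hsurj.range_eq, Set.inter_univ]; exact hT'.1.nonempty)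
  let J' := Scheme.IdealSheafData.vanishingIdeal (X := X') ⟨T', isClosed_of_mem_irreducibleComponents T' hT'⟩
  let J := Scheme.IdealSheafData.vanishingIdeal (X := X) ⟨T, isClosed_of_mem_irreducibleComponents T hT⟩
  haveI : IsReduced J.subscheme := Groth.L18.isReduced_vanishingIdeal_subscheme _
  haveI : IsReduced J'.subscheme := Groth.L18.isReduced_vanishingIdeal_subscheme _
  obtain ⟨d, hd⟩ := Groth.L20.SmoothStrat.exists_iso_of_range_eq (J'.subschemeι ≫ e.hom) J.subschemeι (by
    rw [Scheme.Hom.comp_base, TopCat.coe_comp, Set.range_comp, Scheme.IdealSheafData.range_subschemeι,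
      Scheme.IdealSheafData.range_subschemeι, Scheme.IdealSheafData.coe_support_vanishingIdeal,
      Scheme.IdealSheafData.coe_support_vanishingIdeal]
    show e.hom '' T' = e.inv ⁻¹' T'
    refine Set.image_eq_preimage_of_inverse (fun x => ?_) (fun x => ?_) ▸ rfl
    · rw [← Scheme.Hom.comp_apply, e.hom_inv_id]; rfl
    · rw [← Scheme.Hom.comp_apply, e.inv_hom_id]; rfl)
  show GeometricallyIrreducible (J'.subschemeι ≫ f')
  rw [← he, ← Category.assoc, ← hd, Category.assoc, ← Category.assoc J.subschemeι,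
    MorphismProperty.cancel_left_of_respectsIso (P := @GeometricallyIrreducible),
    MorphismProperty.cancel_right_of_respectsIso (P := @GeometricallyIrreducible)]
  exact hf T hT

end Groth.Agent.S1357
namespace Groth.Agent.S1357

open AlgebraicGeometry CategoryTheory Limits in
/-- Let f be of finite type with irreducible target Y. Then there are a nonempty open V of Y and a
surjective finite étale morphism g from an irreducible affine scheme Y' to V such that, for the base
change f' of f to Y', every irreducible component of the generic fibre of f' (with its reduced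
induced structure) is geometrically irreducible over the residue field of the generic point of Y'. -/
theorem result {X Y : Scheme.{u}} (f : X ⟶ Y) [IrreducibleSpace ↑Y] [LocallyOfFiniteType f] [QuasiCompact f] :
    ∃ (V : Y.Opens) (Y' : Scheme.{u}) (g : Y' ⟶ (V : Scheme.{u})) (hY' : IrreducibleSpace ↑Y'), (V : Set ↑Y).Nonempty ∧ IsAffine Y' ∧ Surjective g ∧ IsFinite g ∧ Etale g ∧
      ∀ (Z : Set ↑((pullback.snd f (g ≫ V.ι)).fiber (genericPoint ↑Y'))) (hZ : Z ∈ irreducibleComponents ↑((pullback.snd f (g ≫ V.ι)).fiber (genericPoint ↑Y'))),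
        GeometricallyIrreducible ((Scheme.IdealSheafData.vanishingIdeal (⟨Z, isClosed_of_mem_irreducibleComponents Z hZ⟩ : TopologicalSpace.Closeds _)).subschemeι ≫
          (pullback.snd f (g ≫ V.ι)).fiberToSpecResidueField (genericPoint ↑Y')) := by
  obtain ⟨_, ⟨V₀, hV₀, rfl⟩, hηV, -⟩ := Y.isBasis_affineOpens.exists_subset_of_mem_open
    (Set.mem_univ (genericPoint ↥Y)) isOpen_univ
  let A := Γ(Y, V₀)
  let ι₀ : Spec A ⟶ Y := hV₀.fromSpec
  haveI : IrreducibleSpace ↥(Spec A) :=
    haveI : Nonempty ↥(V₀ : Scheme.{u}) := ⟨⟨_, hηV⟩⟩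
    haveI : IrreducibleSpace ↥(V₀ : Scheme.{u}) := irreducibleSpace_opens V₀ hηV
    hV₀.isoSpec.inv.homeomorph.irreducibleSpace_iff.mpr inferInstance
  have hprime : (nilradical A).IsPrime := PrimeSpectrum.irreducibleSpace_iff_isPrime_nilradical.mp ‹_›
  let P := nilradical A
  haveI : P.IsPrime := hprime
  let K := P.ResidueField
  let φ : A →+* K := algebraMap A K
  let kK : Spec (CommRingCat.of K) ⟶ Y := Spec.map (CommRingCat.ofHom φ) ≫ ι₀
  let XK := pullback f kK
  letI : XK.Over (Spec (CommRingCat.of K)) := ⟨pullback.snd f kK⟩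
  haveI : LocallyOfFiniteType (XK ↘ Spec (CommRingCat.of K)) := MorphismProperty.pullback_snd _ _ inferInstance
  haveI : CompactSpace ↥XK := QuasiCompact.compactSpace_of_compactSpace (pullback.snd f kK)
  haveI : IsLocallyNoetherian XK := LocallyOfFiniteType.isLocallyNoetherian (pullback.snd f kK)
  haveI : IsNoetherian XK := ⟨⟩
  obtain ⟨L, _, _, hfd, hsep, hL⟩ := Groth.Agent.S1654.result K XK TopologicalSpace.NoetherianSpace.finite_irreducibleComponents
  obtain ⟨α, hα⟩ := Field.exists_primitive_element K L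
  have hint : IsIntegral K α := IsIntegral.of_finite K α
  let q := minpoly K α
  obtain ⟨a, b, hab⟩ : q.Separable := Algebra.IsSeparable.isSeparable K α
  -- clear denominators
  classical
  let S0 : Finset K := q.coeffs ∪ a.coeffs ∪ b.coeffs
  obtain ⟨s, hs, hsc⟩ := exists_den P S0
  let R := Localization.Away s
  let ρ : R →+* K := IsLocalization.Away.lift s (g := φ) (isUnit_iff_ne_zero.mpr fun h => hs (Ideal.algebraMap_residueField_eq_zero.mp h))
  have hρA : ∀ x, ρ (algebraMap A R x) = φ x := fun x => IsLocalization.Away.lift_eq s _ x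
  have hrange : ∀ x ∈ S0, x ∈ ρ.range := by
    intro x hx
    obtain ⟨c, hc⟩ := hsc x hx
    refine ⟨algebraMap A R c * IsLocalization.Away.invSelf s, ?_⟩
    have h1 : ρ (algebraMap A R s) * ρ (IsLocalization.Away.invSelf s) = 1 := by
      rw [← map_mul, IsLocalization.Away.mul_invSelf, map_one]
    rw [map_mul, hρA, ← hc, mul_assoc, ← hρA, h1, mul_one]
  have hnil : ∀ x, ρ x = 0 → IsNilpotent x := by
    intro x hx
    obtain ⟨⟨c, w⟩, hw⟩ := IsLocalization.surj (Submonoid.powers s) x
    have h1 : φ c = 0 := by rw [← hρA, ← hw, map_mul, hx, zero_mul]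
    have h2 : IsNilpotent (algebraMap A R c) :=
      (mem_nilradical.mp (Ideal.algebraMap_residueField_eq_zero.mp h1)).map _
    rw [← hw] at h2
    obtain ⟨v, hv⟩ := (IsLocalization.map_units R w).exists_right_inv
    rw [show x = (x * algebraMap A R w) * v by rw [mul_assoc, hv, mul_one]]
    exact (Commute.all _ _).isNilpotent_mul_right h2
  have hlift : ∀ p : Polynomial K, p.coeffs ⊆ S0 → p ∈ Polynomial.lifts ρ := fun p hp => by
    rw [Polynomial.lifts_iff_coeff_lifts]
    intro n
    by_cases hn : p.coeff n = 0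
    · exact ⟨0, by rw [map_zero, hn]⟩
    · exact hrange _ (hp (Polynomial.coeff_mem_coeffs hn))
  obtain ⟨g, hg, -, hgm⟩ := Polynomial.lifts_and_natDegree_eq_and_monic
    (hlift q (Finset.subset_union_left.trans Finset.subset_union_left)) (minpoly.monic hint)
  obtain ⟨a₀, ha₀⟩ := (Polynomial.mem_lifts a).mp (hlift a (Finset.subset_union_right.trans Finset.subset_union_left))
  obtain ⟨b₀, hb₀⟩ := (Polynomial.mem_lifts b).mp (hlift b Finset.subset_union_right)
  have hunit : IsUnit (a₀ * g + b₀ * Polynomial.derivative g) := by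
    have h : IsNilpotent (a₀ * g + b₀ * Polynomial.derivative g - 1) := Polynomial.isNilpotent_iff.mpr fun i => hnil _ (by
      rw [← Polynomial.coeff_map, Polynomial.map_sub, Polynomial.map_add, Polynomial.map_mul, Polynomial.map_mul,
        Polynomial.map_one, ← Polynomial.derivative_map, ha₀, hb₀, hg, hab, sub_self, Polynomial.coeff_zero])
    simpa using h.isUnit_add_one
  obtain ⟨u, hu⟩ := hunit.exists_right_inv
  let E : StandardEtalePair R := ⟨g, hgm, 1, b₀ * u, a₀ * u, 0, by rw [pow_zero, ← hu]; ring⟩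
  let B := AdjoinRoot g
  haveI : Algebra.Etale R B := etale_adjoinRoot E rfl
  haveI : Module.Finite R B := hgm.finite_adjoinRoot
  haveI : Module.Free R B := hgm.free_adjoinRoot
  have h0 : g.eval₂ ((algebraMap K L).comp ρ) α = 0 := by
    rw [← Polynomial.eval₂_map, hg]; exact minpoly.aeval K α
  let θ : B →+* L := AdjoinRoot.lift ((algebraMap K L).comp ρ) α h0
  have hθ : ∀ x, θ x = 0 → IsNilpotent x := by
    intro x hx
    obtain ⟨h, rfl⟩ := AdjoinRoot.mk_surjective x
    have hmod : AdjoinRoot.mk g h = AdjoinRoot.mk g (h %ₘ g) :=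
      (AdjoinRoot.mk_leftInverse hgm (AdjoinRoot.mk g h)).symm.trans (by rw [AdjoinRoot.modByMonicHom_mk])
    rw [hmod] at hx ⊢
    haveI : Nontrivial R := ρ.domain_nontrivial
    have h1 : (h %ₘ g).map ρ = 0 := by
      by_contra hne
      have hev : Polynomial.aeval α ((h %ₘ g).map ρ) = 0 := by
        rw [Polynomial.aeval_def, Polynomial.eval₂_map]
        exact (AdjoinRoot.lift_mk h0 _).symm.trans hx
      have h2 := minpoly.degree_le_of_ne_zero K α hne hev
      rw [show minpoly K α = g.map ρ from hg.symm, hgm.degree_map] at h2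
      exact absurd (h2.trans Polynomial.degree_map_le) (not_le.mpr (Polynomial.degree_modByMonic_lt h hgm))
    exact (Polynomial.isNilpotent_iff.mpr fun i => hnil _ (by
      rw [← Polynomial.coeff_map, h1, Polynomial.coeff_zero])).map (AdjoinRoot.mk g)
  haveI : Nontrivial B := θ.domain_nontrivial
  have hker : nilradical B = RingHom.ker θ :=
    le_antisymm (fun x hx => ((mem_nilradical.mp hx).map θ).eq_zero) (fun x hx => mem_nilradical.mpr (hθ x hx))
  haveI hB : IrreducibleSpace ↥(Spec (CommRingCat.of B)) :=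
    PrimeSpectrum.irreducibleSpace_iff_isPrime_nilradical.mpr (by rw [hker]; exact RingHom.ker_isPrime θ)
  let q₀ : PrimeSpectrum B := ⟨RingHom.ker θ, RingHom.ker_isPrime θ⟩
  let Q : ↥(Spec (CommRingCat.of B)) := q₀
  haveI : (RingHom.ker θ).IsPrime := RingHom.ker_isPrime θ
  have hQ : genericPoint ↥(Spec (CommRingCat.of B)) = Q := by
    refine (genericPoint_spec _).eq ?_
    show closure {(Q : PrimeSpectrum B)} = Set.univ
    rw [PrimeSpectrum.closure_singleton, show q₀.asIdeal = nilradical B from hker.symm]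
    exact (PrimeSpectrum.zeroLocus_eq_univ_iff _).mpr fun x hx => hx
  let j : Spec (CommRingCat.of R) ⟶ Y := Spec.map (CommRingCat.ofHom (algebraMap A R)) ≫ ι₀
  haveI : IsOpenImmersion j := inferInstance
  let σ : Spec (CommRingCat.of B) ⟶ Spec (CommRingCat.of R) := Spec.map (CommRingCat.ofHom (algebraMap R B))
  have hσf : IsFinite σ := (IsFinite.SpecMap_iff _).mpr (RingHom.finite_algebraMap.mpr inferInstance)
  have hσe : Etale σ := (HasRingHomProperty.Spec_iff (P := @Etale)).mpr (RingHom.etale_algebraMap.mpr inferInstance)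
  have hσs : Surjective σ := ⟨PrimeSpectrum.comap_surjective_of_faithfullyFlat (A := R) (B := B)⟩
  refine ⟨j.opensRange, Spec (CommRingCat.of B), σ ≫ j.isoOpensRange.hom, hB, ?_, inferInstance, inferInstance,
    inferInstance, inferInstance, ?_⟩
  · exact ⟨j (σ Q), ⟨_, rfl⟩⟩
  rw [hQ]
  intro Z hZ
  let gY := (σ ≫ j.isoOpensRange.hom) ≫ j.opensRange.ι
  have hgY : gY = σ ≫ j := by simp [gY]
  -- the residue field at the generic point
  let ψ : q₀.asIdeal.ResidueField →+* L := Ideal.ResidueField.lift _ θ le_rfl (fun x hx => isUnit_iff_ne_zero.mpr hx)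
  have hψ : ψ.comp (algebraMap B _) = θ := RingHom.ext fun x => Ideal.ResidueField.lift_algebraMap _ θ le_rfl (fun x hx => isUnit_iff_ne_zero.mpr hx) x
  have hψs : Function.Surjective ψ := by
    have hK : ∀ x : K, algebraMap K L x ∈ ψ.fieldRange := by
      intro x
      obtain ⟨c, d, hd, hx⟩ := isFrac_residueField P x
      have hA : ∀ c : A, algebraMap K L (φ c) ∈ ψ.fieldRange := fun c => ⟨algebraMap B _ (AdjoinRoot.of g (algebraMap A R c)), by
        rw [← RingHom.comp_apply ψ, hψ, AdjoinRoot.lift_of, RingHom.comp_apply, hρA]⟩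
      rw [show x = φ c / φ d from eq_div_of_mul_eq hd.ne_zero hx, map_div₀]
      exact div_mem (hA c) (hA d)
    intro y
    have hy : y ∈ Algebra.adjoin K {α} := by
      rw [← IntermediateField.adjoin_simple_toSubalgebra_of_isAlgebraic hint.isAlgebraic, hα]; trivial
    refine Algebra.adjoin_induction (fun z hz => ?_) (fun r => hK r) (fun _ _ _ _ h1 h2 => ψ.fieldRange.add_mem h1 h2)
      (fun _ _ _ _ h1 h2 => ψ.fieldRange.mul_mem h1 h2) hy
    rw [Set.mem_singleton_iff.mp hz]
    exact ⟨algebraMap B _ (AdjoinRoot.root g), by rw [← RingHom.comp_apply ψ, hψ, AdjoinRoot.lift_root]⟩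
  let eκ : (Spec (CommRingCat.of B)).residueField Q ≅ CommRingCat.of L :=
    Scheme.Spec.residueFieldIso (CommRingCat.of B) Q ≪≫ (RingEquiv.ofBijective ψ ⟨ψ.injective, hψs⟩).toCommRingCatIso
  let fr := (Spec (CommRingCat.of B)).fromSpecResidueField Q
  have heκ : Spec.map eκ.hom ≫ fr = Spec.map (CommRingCat.ofHom θ) := by
    rw [← hψ, CommRingCat.ofHom_comp, Spec.map_comp]
    show Spec.map (_ ≫ _) ≫ fr = _
    rw [Spec.map_comp, Category.assoc]
    refine congrArg (Spec.map _ ≫ ·) ?_
    show Spec.map _ ≫ fr = _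
    rw [show fr = _ from (Scheme.Spec.map_residueFieldIso_inv_eq_fromSpecResidueField (CommRingCat.of B) Q).symm,
      ← Category.assoc, ← Spec.map_comp, Iso.inv_hom_id, Spec.map_id, Category.id_comp]
  let sKL := Spec.map (CommRingCat.ofHom (algebraMap K L))
  have hbase : Spec.map (CommRingCat.ofHom θ) ≫ gY = sKL ≫ kK := by
    rw [hgY]
    show _ ≫ Spec.map _ ≫ Spec.map _ ≫ ι₀ = Spec.map _ ≫ Spec.map _ ≫ ι₀
    simp only [← Spec.map_comp_assoc, ← CommRingCat.ofHom_comp, ← RingHom.comp_assoc]
    congr 3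
    refine RingHom.ext fun x => ?_
    show θ (AdjoinRoot.of g (algebraMap A R x)) = algebraMap K L (φ x)
    rw [AdjoinRoot.lift_of, RingHom.comp_apply, hρA]
  let F := (pullback.snd f gY).fiber Q
  let jL := Scheme.Spec.mapIso eκ.op.symm
  have H1 : IsPullback ((pullback.snd f gY).fiberι Q ≫ pullback.fst f gY)
      ((pullback.snd f gY).fiberToSpecResidueField Q) f (fr ≫ gY) :=
    ((IsPullback.of_hasPullback (pullback.snd f gY) fr).flip.paste_vert
      (IsPullback.of_hasPullback f gY).flip).flip
  have H1' : IsPullback ((pullback.snd f gY).fiberι Q ≫ pullback.fst f gY)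
      ((pullback.snd f gY).fiberToSpecResidueField Q ≫ Spec.map eκ.inv) f (sKL ≫ kK) := by
    refine H1.of_iso (Iso.refl _) (Iso.refl _) (asIso (Spec.map eκ.inv)) (Iso.refl _) (by simp) (by simp) (by simp) ?_
    rw [← hbase, ← heκ, asIso_hom]
    simp [← Spec.map_comp_assoc]
  have H2 : IsPullback (Curv2.bcFst K XK L ≫ pullback.fst f kK) (Curv2.bcSnd K XK L) f (sKL ≫ kK) :=
    ((IsPullback.of_hasPullback (pullback.snd f kK) sKL).flip.paste_vert
      (IsPullback.of_hasPullback f kK).flip).flip
  have hE := H1'.isoIsPullback_hom_snd _ _ H2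
  exact good_of_iso (Curv2.bcSnd K XK L) hL (H1'.isoIsPullback _ _ H2) (asIso (Spec.map eκ.hom)) _ (by
    rw [asIso_hom, reassoc_of% hE, ← Spec.map_comp, Iso.hom_inv_id, Spec.map_id, Category.comp_id]) Z hZ


end Groth.Agent.S1357
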