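import Groth.Statements.S13573
import Groth.Agent.L24.Tors.QuotTransfer

set_option autoImplicit false
universe u
open CategoryTheory AlgebraicGeometry MonoidalCategory
open AlgSt

namespace Groth.Agent.S13573

/-- For a group action: let `G` be a group scheme over `S` that is smooth and affine over `S`, acting on
a scheme `X` over `S`. Then the canonical morphism `X ⟶ [X/G]` (sending a `T`-point `x` of `X` to
the trivial torsor `G ×_S T` with the equivariant map `(g, t) ↦ g · x(t)`) is representable by
algebraic spaces, smooth, and surjective. (The published statement is for a smooth groupoid in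
algebraic spaces; this row is the action groupoid of a smooth affine group scheme.) -/
theorem result {S : Scheme.{u}} (G : Over S) [GrpObj G]
    [Smooth G.hom] [IsAffineHom G.hom] (X : Over S) (aX : AlgGrp.Action G X) :
    AlgSt.RepByAlgSpWith (AlgSp.LocP @Smooth)
        (BasedFunctor.comp (AlgSt.ofOverCat X) (AlgSt.quotMap Scheme.fppfPrecoverage G aX)) ∧
      AlgSt.RepByAlgSpWith AlgSp.IsSurjectiveMor
        (BasedFunctor.comp (AlgSt.ofOverCat X) (AlgSt.quotMap Scheme.fppfPrecoverage G aX)) := by
  exact ⟨(Groth.L24.Tors.repWith_quotMap_iff Groth.L24.Tors.isEquivOver_toSpQuot_fppf _).2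
        (Groth.L24.Tors.spQuotMap_locP _ (AlgSp.IsAlgSpace.yon_obj _) (Groth.L24.Tors.isAlgSpace_schSp G) Groth.L23.etLocal_smooth
          (Groth.L24.Tors.locP_schSp_hom Groth.L23.etLocal_smooth inferInstance)),
      (Groth.L24.Tors.repWith_quotMap_iff Groth.L24.Tors.isEquivOver_toSpQuot_fppf _).2
        (Groth.L24.Tors.spQuotMap_surjective _ (AlgSp.IsAlgSpace.yon_obj _) (Groth.L24.Tors.isAlgSpace_schSp G))⟩

end Groth.Agent.S13573
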