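import Groth.Statements.S13574
import Groth.Agent.L09.Artin.Apps.BG

set_option autoImplicit false
universe u
open CategoryTheory AlgebraicGeometry MonoidalCategory
open AlgSt

set_option backward.isDefEq.respectTransparency false
set_option backward.isDefEq.respectTransparency.types false

namespace Groth.Agent.S13574

/-- For an affine group scheme: let `G` be a group scheme over `S` with `G ⟶ S` affine. Then the
classifying stack `BG = [S/G]` (objects over `T`: the fppf `G_T`-torsors, which are schemes since
`G` is affine) is an algebraic stack over `S` if and only if `G ⟶ S` is flat and locally of finite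
presentation. (The published statement is for a group algebraic space over an algebraic space `B`;
this row is the case `B = S` with `G` an affine group scheme.) -/
theorem result {S : Scheme.{u}} (G : Over S) [GrpObj G]
    [IsAffineHom G.hom] :
    AlgSt.IsAlgStack Scheme.fppfPrecoverage (AlgSt.BG Scheme.fppfPrecoverage G) ↔
      Flat G.hom ∧ LocallyOfFinitePresentation G.hom := by
  refine ⟨Groth.L09.Artin.flat_lfp_of_isAlgStack_BG, fun ⟨h1, h2⟩ => ?_⟩
  haveI := h1
  haveI := h2
  exact Groth.L09.Artin.isAlgStack_quotSt (AlgSt.trivAction G)

end Groth.Agent.S13574
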