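import Groth.Statements.S13579
import Groth.Agent.L10.DTen.Adic.Main

set_option autoImplicit false
universe u
open CategoryTheory CategoryTheory.Limits MonoidalCategory
attribute [local instance] HasDerivedCategory.standard
open DTen

namespace Groth.Agent.S13579

/-- Let `A` be a Noetherian commutative ring (the derived tensor product on `D(A)` being assumed to
exist and to be computed by K-flat complexes), `I` an ideal and `K` a bounded cochain complex of
finite `A`-modules. Then the inverse system of canonical morphisms `K ⊗^L_A A/I^{n+1} ⟶ K/I^{n+1}K`
in `D(A)` is an isomorphism of pro-objects. Here `K/I^{n+1}K` is written as the plain tensor product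
complex `K ⊗_A (A/I^{n+1})[0]`, to which it is canonically isomorphic, and the morphisms are the
canonical maps from the derived to the plain tensor product. -/
theorem result (A : Type u) [CommRing A] [IsNoetherianRing A]
    [DTen.HasLTen A] [DTen.KFlatComputes A] (I : Ideal A) (K : DRing.Cx A) (a b : ℤ) (hK : DRing.VanishesOutside K a b)
    (hKf : ∀ i : ℤ, Module.Finite A (K.X i)) :
    DerCA.IsProIso (Functor.whiskerLeft
      (CohIII.adicSystem I (ModuleCat.of A A) ⋙ HomologicalComplex.single (ModuleCat.{u} A) (ComplexShape.up ℤ) 0)
      (DTen.εLeft A K)) := by
  exact Groth.L10.Adic.isProIso_LTen_adicSystem I K a b hK hKf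

end Groth.Agent.S13579
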