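import Groth.Statements.S1358
import Groth.Agent.S1357
import Groth.Agent.S1629
import Groth.Agent.L20.GenQS.Basic
import Groth.Agent.L20.UnivHomeo
import Groth.Agent.L18.Quiet.Comp
import Groth.Agent.L19.Limit.Core
import Groth.Agent.L22.Cyc.DropDim
import Mathlib.RingTheory.Spectrum.Prime.Homeomorph

set_option autoImplicit false
universe u
open FlatMor

set_option backward.isDefEq.respectTransparency.types false
set_option linter.style.haveILetI false
set_option backward.isDefEq.respectTransparency false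
set_option backward.isDefEq.respectTransparency.types false
namespace Groth.Agent.S1358
open AlgebraicGeometry CategoryTheory Limits
open Groth.Agent.S1357 (isFrac_residueField exists_den irreducibleSpace_opens)

theorem charP_of_expChar (B : Type u) [CommRing B] {q : ℕ} [hq : ExpChar B q] (hp : q.Prime) : CharP B q := by
  cases hq with
  | zero => exact absurd hp Nat.not_prime_one
  | prime _ => assumption

theorem isReduced_nilradical (Z : Scheme.{u}) : IsReduced Z.nilradical.subscheme := by
  rw [← Scheme.IdealSheafData.vanishingIdeal_top]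
  exact Groth.L18.isReduced_vanishingIdeal_subscheme _

theorem surjective_nilradical (Z : Scheme.{u}) : Surjective Z.nilradical.subschemeι := by
  refine ⟨Set.range_eq_univ.mp ?_⟩
  rw [Scheme.IdealSheafData.range_subschemeι, Scheme.support_nilradical]
  rfl

theorem isReduced_fiber_generic {Z Y : Scheme.{u}} [IsIntegral Y] [IsReduced Z] (p : Z ⟶ Y) :
    IsReduced (p.fiber (genericPoint ↥Y)) := by
  haveI : ∀ z : ↥(p.fiber (genericPoint ↥Y)),
      _root_.IsReduced ((p.fiber (genericPoint ↥Y)).presheaf.stalk z) := by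
    intro z
    obtain ⟨hs, hk⟩ := Groth.L18.stalkMap_fiberι p (genericPoint ↥Y) z
    have hF : ∀ y' : Y, y' = genericPoint ↥Y → IsField (Y.presheaf.stalk y') := by
      rintro _ rfl
      exact Field.toIsField Y.functionField
    have hy := Groth.L22.Cyc.fromSpec_fiber_apply p (genericPoint ↥Y) z
    rw [IsLocalRing.isField_iff_maximalIdeal_eq.1 (hF _ hy), Ideal.map_bot] at hk
    exact isReduced_of_injective
      (RingEquiv.ofBijective ((p.fiberι (genericPoint ↥Y)).stalkMap z).hom
        ⟨(RingHom.injective_iff_ker_eq_bot _).2 hk, hs⟩).symm.toRingHom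
      (RingEquiv.injective _)
  exact isReduced_of_isReduced_stalk _

/-- Geometric reducedness at the generic fibre passes to an open of the base. -/
theorem geometricallyReduced_fiber_restrict {Z Y : Scheme.{u}} (p : Z ⟶ Y) (W : Y.Opens) (w : ↥(W : Scheme.{u}))
    (h : GeometricallyReduced (p.fiberToSpecResidueField (W.ι w))) :
    GeometricallyReduced ((pullback.snd p W.ι).fiberToSpecResidueField w) := by
  let p' := pullback.snd p W.ι
  let r := Spec.map (W.ι.residueFieldMap w)
  have hP : IsPullback (p'.fiberι w ≫ pullback.fst p W.ι) (p'.fiberToSpecResidueField w) p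
      (r ≫ Y.fromSpecResidueField (W.ι w)) := by
    rw [Scheme.Hom.SpecMap_residueFieldMap_fromSpecResidueField]
    exact ((IsPullback.of_hasPullback p' ((W : Scheme.{u}).fromSpecResidueField w)).flip.paste_vert
      (IsPullback.of_hasPullback p W.ι).flip).flip
  have t : IsPullback (p.fiberι (W.ι w)) (p.fiberToSpecResidueField (W.ι w)) p (Y.fromSpecResidueField (W.ι w)) :=
    IsPullback.of_hasPullback p (Y.fromSpecResidueField (W.ι w))
  let l := t.lift (p'.fiberι w ≫ pullback.fst p W.ι) (p'.fiberToSpecResidueField w ≫ r)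
    (by rw [Category.assoc]; exact hP.w)
  have hl : IsPullback l (p'.fiberToSpecResidueField w) (p.fiberToSpecResidueField (W.ι w)) r :=
    IsPullback.of_right (by rw [t.lift_fst]; exact hP) (t.lift_snd _ _ _) t
  exact MorphismProperty.of_isPullback (P := @GeometricallyReduced) hl h

end Groth.Agent.S1358
namespace Groth.Agent.S1358

open Groth.Agent.S1357 (isFrac_residueField exists_den irreducibleSpace_opens)
open AlgebraicGeometry CategoryTheory Limits in
/-- Let f be of finite type with irreducible target Y. Then there are a nonempty open V of Y, a finite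
universal homeomorphism g from an integral affine scheme Y' to V, and a reduced scheme X' with a
surjective closed immersion into the base change of X to Y' (so X' is the reduction of that base
change), such that X' → Y' is flat and of finite presentation and its generic fibre is geometrically
reduced. -/
theorem result {X Y : Scheme.{u}} (f : X ⟶ Y) [IrreducibleSpace ↑Y] [LocallyOfFiniteType f] [QuasiCompact f] :
    ∃ (V : Y.Opens) (Y' : Scheme.{u}) (g : Y' ⟶ (V : Scheme.{u})) (X' : Scheme.{u}) (r : X' ⟶ pullback f (g ≫ V.ι)) (hY' : IsIntegral Y'),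
      (V : Set ↑Y).Nonempty ∧ IsAffine Y' ∧ IsFinite g ∧ FlatMor.IsUnivHomeo g ∧ IsClosedImmersion r ∧ Surjective r ∧ IsReduced X' ∧
      Flat (r ≫ pullback.snd f (g ≫ V.ι)) ∧ LocallyOfFinitePresentation (r ≫ pullback.snd f (g ≫ V.ι)) ∧
      QuasiCompact (r ≫ pullback.snd f (g ≫ V.ι)) ∧ QuasiSeparated (r ≫ pullback.snd f (g ≫ V.ι)) ∧
      GeometricallyReduced ((r ≫ pullback.snd f (g ≫ V.ι)).fiberToSpecResidueField (genericPoint ↑Y')) := by
  obtain ⟨_, ⟨V₀, hV₀, rfl⟩, hηV, -⟩ := Y.isBasis_affineOpens.exists_subset_of_mem_open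
    (Set.mem_univ (genericPoint ↥Y)) isOpen_univ
  let A := Γ(Y, V₀)
  let ι₀ : Spec A ⟶ Y := hV₀.fromSpec
  haveI : IrreducibleSpace ↥(Spec A) :=
    haveI : IrreducibleSpace ↥(V₀ : Scheme.{u}) := irreducibleSpace_opens V₀ hηV
    hV₀.isoSpec.inv.homeomorph.irreducibleSpace_iff.mpr inferInstance
  have hprime : (nilradical A).IsPrime := PrimeSpectrum.irreducibleSpace_iff_isPrime_nilradical.mp ‹_›
  let P := nilradical A
  haveI : P.IsPrime := hprime
  let K := P.ResidueField
  let φ : A →+* K := algebraMap A K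
  let kK : Spec (CommRingCat.of K) ⟶ Y := Spec.map (CommRingCat.ofHom φ) ≫ ι₀
  let XK := pullback f kK
  letI : XK.Over (Spec (CommRingCat.of K)) := ⟨pullback.snd f kK⟩
  haveI : LocallyOfFiniteType (XK ↘ Spec (CommRingCat.of K)) := MorphismProperty.pullback_snd _ _ inferInstance
  haveI : CompactSpace ↥XK := QuasiCompact.compactSpace_of_compactSpace (pullback.snd f kK)
  haveI : IsLocallyNoetherian XK := LocallyOfFiniteType.isLocallyNoetherian (pullback.snd f kK)
  haveI : IsNoetherian XK := ⟨⟩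
  obtain ⟨L, _, _, hfd, hpi, hL⟩ := Groth.Agent.S1629.result K XK TopologicalSpace.NoetherianSpace.finite_irreducibleComponents
  obtain ⟨T, hT⟩ := (inferInstance : Algebra.FiniteType K L).out
  let e := ringExpChar K
  haveI : ExpChar K e := ringExpChar.expChar K
  have hpow : ∀ t : L, ∃ n c, t ^ (e ^ n) = algebraMap K L c := fun t => by
    obtain ⟨n, c, hc⟩ := IsPurelyInseparable.pow_mem K e t
    exact ⟨n, c, hc.symm⟩
  choose nn cc hcc using hpow
  -- clear denominators
  classical
  obtain ⟨s, hs, hsc⟩ := exists_den P (T.image cc)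
  let R := Localization.Away s
  let ρ : R →+* K := IsLocalization.Away.lift s (g := φ) (isUnit_iff_ne_zero.mpr fun h => hs (Ideal.algebraMap_residueField_eq_zero.mp h))
  have hρA : ∀ x, ρ (algebraMap A R x) = φ x := fun x => IsLocalization.Away.lift_eq s _ x
  have hrange : ∀ x ∈ T.image cc, x ∈ ρ.range := by
    intro x hx
    obtain ⟨c, hc⟩ := hsc x hx
    refine ⟨algebraMap A R c * IsLocalization.Away.invSelf s, ?_⟩
    have h1 : ρ (algebraMap A R s) * ρ (IsLocalization.Away.invSelf s) = 1 := by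
      rw [← map_mul, IsLocalization.Away.mul_invSelf, map_one]
    rw [map_mul, hρA, ← hc, mul_assoc, ← hρA, h1, mul_one]
  have hnil : ∀ x, ρ x = 0 → IsNilpotent x := by
    intro x hx
    obtain ⟨⟨c, w⟩, hw⟩ := IsLocalization.surj (Submonoid.powers s) x
    have h1 : φ c = 0 := by rw [← hρA, ← hw, map_mul, hx, zero_mul]
    have h2 : IsNilpotent (algebraMap A R c) :=
      (mem_nilradical.mp (Ideal.algebraMap_residueField_eq_zero.mp h1)).map _
    rw [← hw] at h2
    obtain ⟨v, hv⟩ := (IsLocalization.map_units R w).exists_right_inv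
    rw [show x = (x * algebraMap A R w) * v by rw [mul_assoc, hv, mul_one]]
    exact (Commute.all _ _).isNilpotent_mul_right h2
  letI : Algebra R L := ((algebraMap K L).comp ρ).toAlgebra
  let BS : Subalgebra R L := Algebra.adjoin R (T : Set L)
  have hTint : ∀ t ∈ (T : Set L), IsIntegral R t := fun t ht => by
    obtain ⟨r, hr⟩ := hrange _ (Finset.mem_image_of_mem cc ht)
    refine IsIntegral.of_pow (n := e ^ nn t) (pow_pos (expChar_pos K e) _) ?_
    rw [hcc, ← hr]; exact isIntegral_algebraMap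
  let B := ↥BS
  haveI : Module.Finite R B := Module.Finite.iff_fg.mpr (fg_adjoin_of_finite T.finite_toSet hTint)
  haveI : ExpChar L e := expChar_of_injective_ringHom (algebraMap K L).injective e
  haveI : ExpChar B e := BS.val.toRingHom.expChar Subtype.val_injective e
  have hBpow : ∀ x ∈ BS, ∃ N, x ^ (e ^ N) ∈ (algebraMap R L).range := by
    intro x hx
    have mono : ∀ {z : L} {N M : ℕ}, N ≤ M → z ^ (e ^ N) ∈ (algebraMap R L).range → z ^ (e ^ M) ∈ (algebraMap R L).range := by
      intro z N M h hz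
      rw [← Nat.add_sub_cancel' h, pow_add, pow_mul]
      exact Subring.pow_mem _ hz _
    refine Algebra.adjoin_induction (fun t ht => ?_) (fun r => ⟨0, r, by simp⟩) ?_ ?_ hx
    · obtain ⟨r, hr⟩ := hrange _ (Finset.mem_image_of_mem cc ht)
      exact ⟨nn t, r, by rw [hcc, ← hr]; rfl⟩
    · rintro a b - - ⟨N, hN⟩ ⟨M, hM⟩
      refine ⟨max N M, ?_⟩
      rw [add_pow_expChar_pow]
      exact add_mem (mono (le_max_left _ _) hN) (mono (le_max_right _ _) hM)
    · rintro a b - - ⟨N, hN⟩ ⟨M, hM⟩
      refine ⟨max N M, ?_⟩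
      rw [mul_pow]
      exact mul_mem (mono (le_max_left _ _) hN) (mono (le_max_right _ _) hM)
  have hnilker : RingHom.ker (algebraMap R B) ≤ nilradical R := fun x hx => by
    refine mem_nilradical.mpr (hnil x ?_)
    refine (algebraMap K L).injective ?_
    rw [map_zero]
    exact (congrArg Subtype.val (RingHom.mem_ker.mp hx) :)
  let σ : Spec (CommRingCat.of B) ⟶ Spec (CommRingCat.of R) := Spec.map (CommRingCat.ofHom (algebraMap R B))
  haveI hσf : IsFinite σ := (IsFinite.SpecMap_iff _).mpr (RingHom.finite_algebraMap.mpr inferInstance)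
  have hhomeo : IsHomeomorph σ := PrimeSpectrum.isHomeomorph_comap (algebraMap R B) (fun x => by
    obtain ⟨N, r, hr⟩ := hBpow x.1 x.2
    exact ⟨e ^ N, pow_pos (expChar_pos K e) _, r, Subtype.ext hr⟩) hnilker
  haveI : UniversallyInjective σ := by
    refine ((tfae_universallyInjective.{u} σ).out 0 1).mpr ?_
    intro K' instK' g₁ g₂ h
    obtain ⟨ψ₁, rfl⟩ := Spec.map_surjective g₁
    obtain ⟨ψ₂, rfl⟩ := Spec.map_surjective g₂
    have h' : Spec.map ψ₁ ≫ σ = Spec.map ψ₂ ≫ σ := h
    rw [← Spec.map_comp, ← Spec.map_comp] at h'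
    have heq := congrArg CommRingCat.Hom.hom (Spec.map_injective h')
    let ψ₁' : B →+* K' := ψ₁.hom
    let ψ₂' : B →+* K' := ψ₂.hom
    refine congrArg Spec.map (CommRingCat.hom_ext (RingHom.ext fun (x : B) => show ψ₁' x = ψ₂' x from ?_))
    obtain ⟨N, r, hr⟩ := hBpow x.1 x.2
    have hxy : (ψ₁' x) ^ (e ^ N) = (ψ₂' x) ^ (e ^ N) := by
      rw [← map_pow, ← map_pow, show x ^ (e ^ N) = algebraMap R B r from Subtype.ext hr.symm]
      exact RingHom.congr_fun heq r
    rcases expChar_is_prime_or_one B e with hp | h1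
    · haveI := Fact.mk hp
      haveI : CharP B e := charP_of_expChar B hp
      haveI : CharP K' e := (CharP.charP_iff_prime_eq_zero hp).mpr (by
        rw [← map_natCast ψ₁', CharP.cast_eq_zero, map_zero])
      haveI : ExpChar K' e := ExpChar.prime hp
      exact iterateFrobenius_inj K' e N (by rw [iterateFrobenius_def, iterateFrobenius_def]; exact hxy)
    · rw [h1, one_pow, pow_one, pow_one] at hxy
      exact hxy
  have hσu : FlatMor.IsUnivHomeo σ := (Groth.L20.isUnivHomeo_iff σ).mpr ⟨inferInstance, inferInstance, ⟨hhomeo.bijective.2⟩⟩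
  let j : Spec (CommRingCat.of R) ⟶ Y := Spec.map (CommRingCat.ofHom (algebraMap A R)) ≫ ι₀
  haveI : IsOpenImmersion j := inferInstance
  let Y₁ := Spec (CommRingCat.of B)
  haveI : IsIntegral Y₁ := inferInstance
  let gY : Y₁ ⟶ Y := σ ≫ j
  let P₁ := pullback f gY
  let i₁ := P₁.nilradical.subschemeι
  haveI : IsReduced P₁.nilradical.subscheme := isReduced_nilradical _
  haveI : Surjective i₁ := surjective_nilradical _
  haveI : QuasiCompact (pullback.snd f gY) := MorphismProperty.pullback_snd _ _ inferInstance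
  haveI : LocallyOfFiniteType (pullback.snd f gY) := MorphismProperty.pullback_snd _ _ inferInstance
  let p₁ := i₁ ≫ pullback.snd f gY
  obtain ⟨U, hU, hUf, hUp⟩ := Groth.Agent.S0414.result p₁
  obtain ⟨U₂, hU₂, hU₂q⟩ := Groth.L20.GenQS.exists_open_quasiSeparated p₁
  let Q := genericPoint ↥Y₁
  have hQ : Q ∈ U ⊓ U₂ := ⟨Groth.L20.GenQS.genericPoint_mem U hU.nonempty, Groth.L20.GenQS.genericPoint_mem U₂ hU₂⟩
  obtain ⟨D, hD, hQD, hDle⟩ := exists_isAffineOpen_mem_and_subset (x := σ Q)
    (U := ⟨σ '' ((U ⊓ U₂ : Y₁.Opens) : Set Y₁), hhomeo.isOpenMap _ (U ⊓ U₂).2⟩) ⟨Q, hQ, rfl⟩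
  let W := σ ⁻¹ᵁ D
  have hWle : W ≤ U ⊓ U₂ := fun z hz => by
    obtain ⟨z', hz', hzz⟩ := hDle (show σ z ∈ D from hz)
    rwa [hhomeo.bijective.1 hzz] at hz'
  let j' := D.ι ≫ j
  let g := (σ ∣_ D) ≫ j'.isoOpensRange.hom
  have hg : g ≫ j'.opensRange.ι = W.ι ≫ gY := by
    simp [g, j', gY, W]
  haveI : Nonempty ↥(W : Scheme.{u}) := ⟨⟨Q, hQD⟩⟩
  haveI hWint : IsIntegral (W : Scheme.{u}) := isIntegral_of_isOpenImmersion W.ι
  haveI : IsAffine (D : Scheme.{u}) := hD
  haveI : IsFinite (σ ∣_ D) := MorphismProperty.of_isPullback (isPullback_morphismRestrict σ D).flip hσf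
  haveI : IsAffine (W : Scheme.{u}) := hD.preimage σ
  let p' := pullback.snd p₁ W.ι
  let X' := pullback p₁ W.ι
  haveI : IsReduced X' := isReduced_of_isOpenImmersion (pullback.fst p₁ W.ι)
  let r : X' ⟶ pullback f (g ≫ j'.opensRange.ι) :=
    (pullbackRightPullbackFstIso (pullback.snd f gY) W.ι i₁).inv ≫ pullback.snd i₁ _ ≫
      (pullbackLeftPullbackSndIso f gY W.ι).hom ≫ (pullback.congrHom rfl hg.symm).hom
  have hr : r ≫ pullback.snd f (g ≫ j'.opensRange.ι) = p' := by
    simp [r, p', p₁]
  haveI hr1 : IsClosedImmersion r := by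
    haveI : IsClosedImmersion (pullback.snd i₁ (pullback.fst (pullback.snd f gY) W.ι)) :=
      MorphismProperty.pullback_snd _ _ inferInstance
    show IsClosedImmersion (_ ≫ _ ≫ _ ≫ _); infer_instance
  haveI hr2 : Surjective r := by
    haveI : Surjective (pullback.snd i₁ (pullback.fst (pullback.snd f gY) W.ι)) :=
      MorphismProperty.pullback_snd _ _ ‹_›
    show Surjective (_ ≫ _ ≫ _ ≫ _); infer_instance
  have hres : ∀ {Pp : MorphismProperty Scheme.{u}} [Pp.IsStableUnderBaseChange] {O : Y₁.Opens}, W ≤ O → Pp (p₁ ∣_ O) → Pp p' :=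
    fun {Pp} _ {O} hle h => by
      have h1 := (Groth.L19.Limit.pb_iff_of_isPullback (isPullback_morphismRestrict p₁ O).flip).mp h
      have h2 := Groth.L19.Limit.pb_comp (Scheme.homOfLE Y₁ hle) h1
      rw [Scheme.homOfLE_ι] at h2
      exact (Groth.L19.Limit.pb_iff_of_isPullback (IsPullback.of_hasPullback p₁ W.ι)).mpr h2
  refine ⟨j'.opensRange, W, g, X', r, hWint, ?_, inferInstance, inferInstance, ?_, hr1, hr2, inferInstance, ?_, ?_, ?_, ?_, ?_⟩
  · exact ⟨j (σ Q), ⟨⟨σ Q, hQD⟩, rfl⟩⟩
  · have h1 : FlatMor.IsUnivHomeo (σ ∣_ D) := MorphismProperty.of_isPullback (P := FlatMor.IsUnivHomeo) (isPullback_morphismRestrict σ D).flip hσu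
    have h2 : FlatMor.IsUnivHomeo j'.isoOpensRange.hom :=
      (Groth.L20.isUnivHomeo_iff _).mpr ⟨inferInstance, inferInstance, inferInstance⟩
    exact Groth.L18.Quiet.isUnivHomeo_comp h1 h2
  · rw [hr]; exact hres (hWle.trans inf_le_left) hUf
  · rw [hr]; exact hres (hWle.trans inf_le_left) hUp
  · rw [hr]; exact MorphismProperty.pullback_snd _ _ inferInstance
  · rw [hr]; exact hres (hWle.trans inf_le_right) hU₂q
  rw [hr]
  refine geometricallyReduced_fiber_restrict p₁ W _ ?_
  rw [show W.ι (genericPoint ↥(W : Scheme.{u})) = Q from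
    genericPoint_eq_of_isOpenImmersion W.ι]
  -- the generic fibre
  let θ : B →+* L := BS.val.toRingHom
  let q₀ : PrimeSpectrum B := ⟨⊥, Ideal.isPrime_bot⟩
  have hQ0 : Q = q₀ := genericPoint_eq_bot_of_affine (CommRingCat.of B)
  rw [hQ0]
  let ψ : q₀.asIdeal.ResidueField →+* L := Ideal.ResidueField.lift _ θ bot_le (fun x hx => isUnit_iff_ne_zero.mpr fun h => hx (Subtype.ext h))
  have hψ : ψ.comp (algebraMap B _) = θ := RingHom.ext fun x => Ideal.ResidueField.lift_algebraMap _ θ bot_le (fun x hx => isUnit_iff_ne_zero.mpr fun h => hx (Subtype.ext h)) x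
  have hψs : Function.Surjective ψ := by
    have hK : ∀ x : K, algebraMap K L x ∈ ψ.fieldRange := by
      intro x
      obtain ⟨c, d, hd, hx⟩ := isFrac_residueField P x
      have hA : ∀ c : A, algebraMap K L (φ c) ∈ ψ.fieldRange := fun c => ⟨algebraMap B _ (algebraMap R B (algebraMap A R c)), by
        rw [← RingHom.comp_apply ψ, hψ]
        show algebraMap K L (ρ (algebraMap A R c)) = _
        rw [hρA]⟩
      rw [show x = φ c / φ d from eq_div_of_mul_eq hd.ne_zero hx, map_div₀]
      exact div_mem (hA c) (hA d)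
    intro y
    have hy : y ∈ Algebra.adjoin K (T : Set L) := by rw [hT]; trivial
    refine Algebra.adjoin_induction (fun z hz => ?_) (fun r => hK r) (fun _ _ _ _ h1 h2 => ψ.fieldRange.add_mem h1 h2)
      (fun _ _ _ _ h1 h2 => ψ.fieldRange.mul_mem h1 h2) hy
    exact ⟨algebraMap B _ ⟨z, Algebra.subset_adjoin hz⟩, by rw [← RingHom.comp_apply ψ, hψ]; rfl⟩
  let eκ : Y₁.residueField q₀ ≅ CommRingCat.of L :=
    Scheme.Spec.residueFieldIso (CommRingCat.of B) q₀ ≪≫ (RingEquiv.ofBijective ψ ⟨ψ.injective, hψs⟩).toCommRingCatIso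
  let fr := Y₁.fromSpecResidueField q₀
  have heκ : Spec.map eκ.hom ≫ fr = Spec.map (CommRingCat.ofHom θ) := by
    rw [← hψ, CommRingCat.ofHom_comp, Spec.map_comp]
    show Spec.map (_ ≫ _) ≫ fr = _
    rw [Spec.map_comp, Category.assoc]
    refine congrArg (Spec.map _ ≫ ·) ?_
    show Spec.map _ ≫ fr = _
    rw [show fr = _ from (Scheme.Spec.map_residueFieldIso_inv_eq_fromSpecResidueField (CommRingCat.of B) q₀).symm,
      ← Category.assoc, ← Spec.map_comp, Iso.inv_hom_id, Spec.map_id, Category.id_comp]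
  let sKL := Spec.map (CommRingCat.ofHom (algebraMap K L))
  have hbase : Spec.map (CommRingCat.ofHom θ) ≫ gY = sKL ≫ kK := by
    show _ ≫ Spec.map _ ≫ Spec.map _ ≫ ι₀ = Spec.map _ ≫ Spec.map _ ≫ ι₀
    simp only [← Spec.map_comp_assoc, ← CommRingCat.ofHom_comp, ← RingHom.comp_assoc]
    congr 3
    refine RingHom.ext fun x => ?_
    show algebraMap K L (ρ (algebraMap A R x)) = algebraMap K L (φ x)
    rw [hρA]
  let pf := pullback.snd f gY
  have H1 : IsPullback (pf.fiberι q₀ ≫ pullback.fst f gY) (pf.fiberToSpecResidueField q₀) f (fr ≫ gY) :=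
    ((IsPullback.of_hasPullback pf fr).flip.paste_vert (IsPullback.of_hasPullback f gY).flip).flip
  have H1' : IsPullback (pf.fiberι q₀ ≫ pullback.fst f gY)
      (pf.fiberToSpecResidueField q₀ ≫ Spec.map eκ.inv) f (sKL ≫ kK) := by
    refine H1.of_iso (Iso.refl _) (Iso.refl _) (asIso (Spec.map eκ.inv)) (Iso.refl _) (by simp) (by simp) (by simp) ?_
    rw [← hbase, ← heκ, asIso_hom]
    simp [← Spec.map_comp_assoc]
  have H2 : IsPullback (Curv2.bcFst K XK L ≫ pullback.fst f kK) (Curv2.bcSnd K XK L) f (sKL ≫ kK) :=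
    ((IsPullback.of_hasPullback (pullback.snd f kK) sKL).flip.paste_vert
      (IsPullback.of_hasPullback f kK).flip).flip
  let E := H1'.isoIsPullback _ _ H2
  let Bc := Curv2.bc K XK L
  haveI : IsReduced (p₁.fiber q₀) := by rw [← hQ0]; exact isReduced_fiber_generic p₁
  let c : p₁.fiber q₀ ⟶ Bc := (pullbackRightPullbackFstIso pf fr i₁).inv ≫ pullback.snd i₁ _ ≫ E.hom
  haveI : IsClosedImmersion c := by
    haveI : IsClosedImmersion (pullback.snd i₁ (pullback.fst pf fr)) := MorphismProperty.pullback_snd _ _ inferInstance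
    show IsClosedImmersion (_ ≫ _ ≫ _); infer_instance
  haveI : Surjective c := by
    haveI : Surjective (pullback.snd i₁ (pullback.fst pf fr)) := MorphismProperty.pullback_snd _ _ ‹_›
    show Surjective (_ ≫ _ ≫ _); infer_instance
  haveI : IsReduced Bc.nilradical.subscheme := isReduced_nilradical _
  haveI := surjective_nilradical Bc
  obtain ⟨d, hd⟩ := Groth.L20.SmoothStrat.exists_iso_of_range_eq c Bc.nilradical.subschemeι
    (c.surjective.range_eq.trans Bc.nilradical.subschemeι.surjective.range_eq.symm)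
  have hc : c ≫ Curv2.bcSnd K XK L ≫ Spec.map eκ.hom = p₁.fiberToSpecResidueField q₀ := by
    show ((pullbackRightPullbackFstIso pf fr i₁).inv ≫ pullback.snd i₁ _ ≫ E.hom) ≫ _ = _
    simp only [Category.assoc]
    rw [reassoc_of% (H1'.isoIsPullback_hom_snd _ _ H2), ← Spec.map_comp, Iso.hom_inv_id, Spec.map_id, Category.comp_id]
    exact pullbackRightPullbackFstIso_inv_snd_snd _ _ _
  rw [← hc, ← hd, Category.assoc, MorphismProperty.cancel_left_of_respectsIso (P := @GeometricallyReduced),
    ← Category.assoc, MorphismProperty.cancel_right_of_respectsIso (P := @GeometricallyReduced)]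
  exact hL


end Groth.Agent.S1358
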