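import Groth.Statements.S13582
import Groth.Agent.L15.RightDerivedExt
import Groth.Agent.L15.ExtSupp.ExtHZ
import Groth.Agent.L15.ExtSupp.HomZ
import Mathlib.Tactic.Ring
import Mathlib.Tactic.LinearCombination
import Mathlib.Tactic.FieldSimp
import Mathlib.Algebra.BigOperators.Ring.Finset

set_option autoImplicit false
universe u
open CategoryTheory CategoryTheory.Limits
open ExtSupp

namespace Groth.Agent.S13582

/-- On a ringed site, for an object `U` with closed complement `Z` and a sheaf of modules `M`, the
`q`-th right derived functor of `N ↦ Γ_Z(ℋom_O(M, N))`, which is the definition of Ext with supports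
`Ext^q_{O,Z}(M, -)` as a derived functor, is isomorphic as a functor of `N` to `N ↦ Ext^q_O(M ⊗ O_Z,
N) = Ext^q_O(M/M_U, N)`. Existence of an isomorphism of functors only. The internal hom out of `M`,
the right adjoint of restriction to `U` and injective resolutions of sheaves of modules are assumed
to exist. -/
theorem result {C : Type u} [SmallCategory C]
    {J : GrothendieckTopology C} {O : Sheaf J CommRingCat.{u}} [HasExt.{u} (ModSite.Mod O)]
    (U : C) [ModSite.HasPushOver O U] (M : ModSite.Mod O) [ModSite.HasSheafHom M]
    [HasInjectiveResolutions (ModSite.Mod O)] (q : ℕ) :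
    Nonempty (ExtSupp.ExtZR U M q ≅ Abelian.extFunctorObj ((ModSite.quotOn O U).obj M) q) := by
  haveI := (Groth.L15.ExtSupp.quotSectAdj (O := O) U).left_adjoint_additive
  haveI := NatIso.isIso_app_of_isIso (Groth.L00.ModSiteTensor.shfAdj O).counit M
  haveI : (ExtSupp.gammaZHom U M).Additive :=
    haveI := (Groth.L15.ExtSupp.quotSectAdj (O := O) U).right_adjoint_additive
    haveI := (ModSite.sheafHomAdj M).right_adjoint_additive
    inferInstance
  let eU : ((ModSite.tensorBi O).flip.obj M).obj (ModSite.unit O) ≅ M :=
    (Groth.L00.ModSiteTensor.shf O).mapIso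
      (MonoidalCategory.leftUnitor ((Groth.L00.ModSiteTensor.preF O).obj M)) ≪≫
      @asIso _ _ _ _ ((Groth.L00.ModSiteTensor.shfAdj O).counit.app M)
        (NatIso.isIso_app_of_isIso (Groth.L00.ModSiteTensor.shfAdj O).counit M)
  let e : ExtSupp.gammaZHom U M ≅ preadditiveCoyoneda.obj (Opposite.op ((ModSite.quotOn O U).obj M)) :=
    NatIso.ofComponents
      (fun N => AddEquiv.toAddCommGrpIso
        ((Groth.L15.ExtSupp.sectHomEquiv U M (ModSite.unit O) N).trans
          (Groth.L15.ExtSupp.precompIso ((ModSite.quotOn O U).mapIso eU) N)))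
      (fun {N N'} g => by
        ext φ
        exact (congrArg (fun w => ((ModSite.quotOn O U).mapIso eU).inv ≫ w)
          (Groth.L15.ExtSupp.sectHomEquiv_natural_right U M g φ)).trans (Category.assoc _ _ _).symm)
  exact ⟨Groth.L15.ExtSupp.rightDerivedIso e q ≪≫
    Groth.L15.RightDerivedExt.iso ((ModSite.quotOn O U).obj M) q⟩

end Groth.Agent.S13582
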