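import Groth.Statements.S13583
import Groth.Agent.L18.HomPDerived
import Groth.Agent.L18.GammaLCAb

set_option autoImplicit false
universe u
open CategoryTheory TopologicalSpace
open SuppFam

namespace Groth.Agent.S13583

open CategoryTheory.Limits Opposite Groth.L17

set_option linter.style.haveILetI false
set_option backward.isDefEq.respectTransparency false
set_option backward.isDefEq.respectTransparency.types false

variable {X : TopCat.{u}} {W V : Opens X} (h : W ≤ V)

noncomputable def pairFun : Opens X ⥤ CohTop.Ab X where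
  obj O := LocCohZ.zq (inf_le_inf_right O h : W ⊓ O ≤ V ⊓ O)
  map {O O'} g := LocCohZ.zqMap (inf_le_inf_right O' h) (inf_le_inf_right O h)
    (inf_le_inf_left W (leOfHom g)) (inf_le_inf_left V (leOfHom g))
  map_id O := SuppFam.zqMap_id _
  map_comp {O O' O''} g g' := (SuppFam.zqMap_comp _ _ _ _ _ _ _).symm

/-- `O` as an open of the subspace. -/
noncomputable abbrev sub (O : Opens X) : Opens (TopCat.of V) := (Opens.map (CohCx.incl V)).obj O

theorem image_sub (O : Opens X) : V.isOpenEmbedding.isOpenMap.functor.obj (sub (V := V) O) = V ⊓ O := by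
  ext p
  exact ⟨fun ⟨q, hq, e⟩ => e ▸ ⟨q.2, hq⟩, fun ⟨hV, hO⟩ => ⟨⟨p, hV⟩, hO, rfl⟩⟩

theorem res_res_eq_zero {F : CohTop.Ab X} {A B D E : Opens X} (hBA : B ≤ A) (hDB : D ≤ B) (hEA : E ≤ A) (hDE : D ≤ E)
    (s : F.obj.obj (op A)) (h : F.obj.map (homOfLE hEA).op s = 0) :
    F.obj.map (homOfLE hDB).op (F.obj.map (homOfLE hBA).op s) = 0 := by
  rw [← ConcreteCategory.comp_apply, ← F.obj.map_comp,
    show (homOfLE hBA).op ≫ (homOfLE hDB).op = (homOfLE hEA).op ≫ (homOfLE hDE).op from Subsingleton.elim _ _,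
    F.obj.map_comp, ConcreteCategory.comp_apply, h, map_zero]

/-- The image of a morphism `ℤ_{V∩O}/ℤ_{W∩O} ⟶ F` as a section. -/
noncomputable def val (F : CohTop.Ab X) (O : Opens X) (ψ : (pairFun h).obj O ⟶ F) :
    ((CohTop.restrFunctor V).obj F).obj.obj (op (sub (V := V) O)) :=
  F.obj.map (homOfLE (image_sub O).le).op
    (CohFree.evalGen (Opens.grothendieckTopology X) (V ⊓ O) F (cokernel.π _ ≫ ψ))

theorem val_vanish (F : CohTop.Ab X) (O : Opens X) (ψ : (pairFun h).obj O ⟶ F) :
    ((CohTop.restrFunctor V).obj F).obj.map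
      (homOfLE (inf_le_left : sub (V := V) O ⊓ SuppFam.inOpen V W ≤ sub (V := V) O)).op (val h F O ψ) = 0 := by
  refine res_res_eq_zero (image_sub O).le
    (leOfHom (V.isOpenEmbedding.isOpenMap.functor.map (homOfLE inf_le_left)))
    (inf_le_inf_right O h) ?_ _ ?_
  · rintro _ ⟨q, ⟨hO, hW⟩, rfl⟩
    exact ⟨hW, hO⟩
  · refine (CohFree.evalGen_freeSheafMap_comp _ _ _ _).symm.trans ?_
    rw [cokernel.condition_assoc, zero_comp, map_zero]

theorem val_add (F : CohTop.Ab X) (O : Opens X) (a b : (pairFun h).obj O ⟶ F) :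
    val h F O (a + b) = val h F O a + val h F O b := by
  simp only [val]
  rw [Preadditive.comp_add, map_add]
  exact map_add _ _ _

theorem val_injective (F : CohTop.Ab X) (O : Opens X) : Function.Injective (val h F O) := by
  intro a b e
  have hinj : Function.Injective (F.obj.map (homOfLE (image_sub (V := V) O).le).op) := by
    intro x y hxy
    have := congrArg (F.obj.map (homOfLE (image_sub (V := V) O).ge).op) hxy
    rw [← ConcreteCategory.comp_apply, ← ConcreteCategory.comp_apply, ← F.obj.map_comp,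
      show (homOfLE (image_sub (V := V) O).le).op ≫ (homOfLE (image_sub (V := V) O).ge).op = 𝟙 _ from
        Subsingleton.elim _ _, F.obj.map_id] at this
    exact this
  have e' := hinj e
  apply (cancel_epi (cokernel.π _)).1
  rw [← CohFree.ofSect_evalGen _ (V ⊓ O) F (cokernel.π _ ≫ a), ← CohFree.ofSect_evalGen _ (V ⊓ O) F (cokernel.π _ ≫ b), e']

theorem val_surjective (F : CohTop.Ab X) (O : Opens X)
    (t : ((CohTop.restrFunctor V).obj F).obj.obj (op (sub (V := V) O)))
    (ht : ((CohTop.restrFunctor V).obj F).obj.map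
      (homOfLE (inf_le_left : sub (V := V) O ⊓ SuppFam.inOpen V W ≤ sub (V := V) O)).op t = 0) :
    ∃ ψ, val h F O ψ = t := by
  let s : F.obj.obj (op (V ⊓ O)) := F.obj.map (homOfLE (image_sub (V := V) O).ge).op t
  have hs : F.obj.map (homOfLE (inf_le_inf_right O h)).op s = 0 := by
    refine res_res_eq_zero (image_sub (V := V) O).ge (inf_le_inf_right O h)
      (leOfHom (V.isOpenEmbedding.isOpenMap.functor.map (homOfLE inf_le_left))) ?_ t ht
    rintro p ⟨hW, hO⟩
    exact ⟨⟨p, h hW⟩, ⟨hO, hW⟩, rfl⟩
  refine ⟨cokernel.desc _ (CohFree.ofSect _ (V ⊓ O) F s) ?_, ?_⟩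
  · rw [← CohFree.ofSect_evalGen (Opens.grothendieckTopology X) (W ⊓ O) F (_ ≫ _),
      CohFree.evalGen_freeSheafMap_comp, CohFree.evalGen_ofSect,
      show (F.obj.map (homOfLE (inf_le_inf_right O h)).op).hom s = 0 from hs,
      ← (CohFree.evalGen (Opens.grothendieckTopology X) (W ⊓ O) F).map_zero, CohFree.ofSect_evalGen]
  · simp only [val, cokernel.π_desc, CohFree.evalGen_ofSect, s]
    rw [← ConcreteCategory.comp_apply, ← F.obj.map_comp]
    exact congr($(F.obj.map_id _) t)

theorem val_res (F : CohTop.Ab X) {O O' : Opens X} (g : O' ⟶ O) (ψ : (pairFun h).obj O ⟶ F) :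
    val h F O' ((pairFun h).map g ≫ ψ) =
      ((CohTop.restrFunctor V).obj F).obj.map ((Opens.map (CohCx.incl V)).map g).op (val h F O ψ) := by
  simp only [val, pairFun, LocCohZ.zqMap, cokernel.π_desc_assoc, Category.assoc,
    CohFree.evalGen_freeSheafMap_comp]
  change _ = F.obj.map _ (F.obj.map _ _)
  rw [← ConcreteCategory.comp_apply, ← ConcreteCategory.comp_apply, ← F.obj.map_comp, ← F.obj.map_comp]
  exact congr($(congrArg F.obj.map (Subsingleton.elim _ _)) _)

theorem nonempty_homP_iso : Nonempty (Groth.L18.HomPDerived.homP (pairFun h) ⋙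
    presheafToSheaf (Opens.grothendieckTopology X) AddCommGrpCat.{u} ≅ SuppFam.sectSuppLC h) := by
  let U := SuppFam.inOpen V W
  have hval : ∀ (F : CohTop.Ab X) (O : Opens X) (ψ : (pairFun h).obj O ⟶ F),
      ∃ s, (SectSupp.incl U ((CohTop.restrFunctor V).obj F)).hom.app (op (sub (V := V) O)) s = val h F O ψ :=
    fun F O ψ => SectSupp.exists_incl_app_eq U _ _ _ (val_vanish h F O ψ)
  choose f hf using hval
  have hadd : ∀ F O a b, f F O (a + b) = f F O a + f F O b := fun F O a b =>
    SectSupp.incl_app_injective U _ _ (by rw [map_add, hf, hf, hf, val_add])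
  have hbij : ∀ F O, Function.Bijective (f F O) := fun F O => by
    refine ⟨fun a b e => val_injective h F O (by rw [← hf, ← hf, e]), fun s => ?_⟩
    obtain ⟨ψ, hψ⟩ := val_surjective h F O _ (SectSupp.incl_app_mem U _ _ s)
    exact ⟨ψ, SectSupp.incl_app_injective U _ _ ((hf F O ψ).trans hψ)⟩
  let e : ∀ F O, ((pairFun h).obj O ⟶ F) ≃+
      ((LocCohZ.sectSuppF U).obj ((CohTop.restrFunctor V).obj F)).obj.obj (op (sub (V := V) O)) :=
    fun F O => AddEquiv.ofBijective (AddMonoidHom.mk' (f F O) (hadd F O)) (hbij F O)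
  let τ : Groth.L18.HomPDerived.homP (pairFun h) ≅
      SuppFam.sectSuppLC h ⋙ sheafToPresheaf (Opens.grothendieckTopology X) AddCommGrpCat.{u} :=
    NatIso.ofComponents (fun F => NatIso.ofComponents (fun O => AddEquiv.toAddCommGrpIso (e F O.unop))
      (fun {O O'} g => by
        ext ψ
        apply SectSupp.incl_app_injective U _ _
        refine (hf F O'.unop ((pairFun h).map g.unop ≫ ψ)).trans ((val_res h F g.unop ψ).trans ?_)
        refine Eq.trans ?_ (NatTrans.naturality_apply (SectSupp.incl U ((CohTop.restrFunctor V).obj F)).hom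
          ((Opens.map (CohCx.incl V)).map g.unop).op (f F O.unop ψ)).symm
        exact congrArg _ (hf F O.unop ψ).symm))
      (fun {F G} φ => by
        ext O ψ
        apply SectSupp.incl_app_injective U _ _
        refine (hf G O.unop (ψ ≫ φ)).trans ?_
        refine Eq.trans ?_ (congrArg (fun k : (LocCohZ.sectSuppF U).obj ((CohTop.restrFunctor V).obj F) ⟶
          (CohTop.restrFunctor V).obj G => k.hom.app (op (sub (V := V) O.unop)) (f F O.unop ψ))
          (SectSupp.incl_map U ((CohTop.restrFunctor V).map φ))).symm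
        refine Eq.trans ?_ (congrArg (((CohTop.restrFunctor V).map φ).hom.app (op (sub (V := V) O.unop)))
          (hf F O.unop ψ)).symm
        simp only [val]
        refine Eq.trans ?_ (NatTrans.naturality_apply φ.hom (homOfLE (image_sub (V := V) O.unop).le).op _).symm
        exact congrArg _ rfl)
  exact ⟨Functor.isoWhiskerRight τ _ ≪≫ Functor.associator _ _ _ ≪≫
    Functor.isoWhiskerLeft _ (asIso (sheafificationAdjunction (Opens.grothendieckTopology X) AddCommGrpCat.{u}).counit) ≪≫
    Functor.rightUnitor _⟩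

/-- For an abelian sheaf `F` on a topological space `X` and a locally closed `Z = V ∖ W` (`W ≤ V`
opens), the local cohomology sheaf `ℋ^q_Z(F)`, the `q`-th right derived functor of the sheaf of
sections with supports in `Z`, is isomorphic to the sheaf associated to the presheaf `V' ↦ H^q_{Z ∩
V'}(V', F)` (here written through the Ext groups with supports for the pair `W ∩ V' ≤ V ∩ V'`).
Existence of an isomorphism only; the canonical comparison map is not named. -/
theorem result {X : TopCat.{u}} (F : CohTop.Ab X) {W V : Opens X} (h : W ≤ V)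
    (q : ℕ) :
    Nonempty ((SuppFam.HZshLC h q).obj F ≅
      (presheafToSheaf (Opens.grothendieckTopology X) AddCommGrpCat.{u}).obj (SuppFam.HZpre F q h)) := by
  obtain ⟨α⟩ := nonempty_homP_iso h
  haveI : (presheafToSheaf (Opens.grothendieckTopology X) AddCommGrpCat.{u}).Additive :=
    Functor.additive_of_preserves_binary_products _
  obtain ⟨e⟩ := Groth.L18.HomPDerived.nonempty_rightDerived_iso (pairFun h) F q
  exact ⟨(Groth.L10.SiteCoh.rightDerivedCongr α q).symm.app F ≪≫
    Groth.L10.SiteCoh.rightDerivedCompIso _ _ q F ≪≫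
    (presheafToSheaf (Opens.grothendieckTopology X) AddCommGrpCat.{u}).mapIso e⟩

end Groth.Agent.S13583
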