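import Groth.Statements.S13590
import Groth.Agent.L04.SupportSh.Restrict
import Groth.Agent.L04.SupportSh.ClosedAdj
-- import your own Groth.Agent.* helpers here

set_option autoImplicit false
universe u
open CategoryTheory TopologicalSpace
open SuppFam

set_option backward.isDefEq.respectTransparency false

namespace Groth.Agent.S13590

/-- For an abelian sheaf `F` on a topological space `X` and a locally closed `Z = V ∖ W` (`W ≤ V`
opens), if `F` is injective then the sheaf `Γ_Z(F) = i_* i^!(F)` of sections of `F` with supports in
`Z` is injective. -/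
theorem result {X : TopCat.{u}} (F : CohTop.Ab X) {W V : Opens X} (h : W ≤ V)
    (hF : Injective F) : Injective ((SuppFam.sectSuppLC h).obj F) := by
  haveI := hF
  haveI : Injective ((CohTop.restrFunctor V).obj F) := Groth.L04.SupportSh.injective_restrFunctor V F
  set U := SuppFam.inOpen V W
  haveI h1 : Injective ((LocCohZ.sectSuppF U).obj ((CohTop.restrFunctor V).obj F)) := by
    obtain ⟨adj⟩ := Groth.L04.SupportSh.nonempty_push_sectSupp_adjunction U
    haveI : (CohTop.push (CohCx.inclCompl U)).PreservesMonomorphisms :=
      Functor.preservesMonomorphisms_of_adjunction (TopCat.Sheaf.pullbackPushforwardAdjunction AddCommGrpCat.{u} (CohCx.inclCompl U))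
    have h2 := Injective.injective_of_adjoint adj ((CohTop.restrFunctor V).obj F)
    haveI : (CohTop.pull (CohCx.inclCompl U)).PreservesMonomorphisms :=
      haveI := Groth.L04.SupportSh.preservesFiniteLimits_pull (CohCx.inclCompl U)
      inferInstance
    have h3 := Injective.injective_of_adjoint (TopCat.Sheaf.pullbackPushforwardAdjunction AddCommGrpCat.{u} (CohCx.inclCompl U))
      ((LocCohZ.sectSuppF U ⋙ CohTop.pull (CohCx.inclCompl U)).obj ((CohTop.restrFunctor V).obj F))
    haveI := Groth.L04.SupportSh.isIso_unit_of_vanishesOn U _
      (Groth.L04.SupportSh.vanishesOn_sectSupp U ((CohTop.restrFunctor V).obj F))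
    exact Injective.of_iso (asIso ((Groth.L04.SupportSh.adjC' U).unit.app ((LocCohZ.sectSuppF U).obj ((CohTop.restrFunctor V).obj F)))).symm h3
  haveI : (CohTop.pull (CohCx.incl V)).PreservesMonomorphisms :=
    haveI := Groth.L04.SupportSh.preservesFiniteLimits_pull (CohCx.incl V)
    inferInstance
  exact Injective.injective_of_adjoint (TopCat.Sheaf.pullbackPushforwardAdjunction AddCommGrpCat.{u} (CohCx.incl V))
    ((LocCohZ.sectSuppF U).obj ((CohTop.restrFunctor V).obj F))

end Groth.Agent.S13590
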