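import Groth.Statements.S13593
import Groth.Agent.L24.Tors.Basic
import Groth.Agent.L24.Tors.FullSub

set_option autoImplicit false
universe u
open CategoryTheory AlgebraicGeometry MonoidalCategory
open AlgSt

namespace Groth.Agent.S13593

/-- Let `B` be an algebraic space over `S` and `G` a group algebraic space over `B`. The functor from
the category of fppf `G`-torsors (torsors that are algebraic spaces) to the category of
`𝒢/ℬ`-torsors (torsors given as fppf sheaves, `𝒢`, `ℬ` the underlying sheaves), which views an
algebraic space as a sheaf, is an equivalence of categories over `(Sch/S)_{fppf}`; here it is the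
inclusion of the full subcategory on the objects whose torsor is an algebraic space. -/
theorem result (S : Scheme.{u}) (B : AlgSp.Sp S) (hB : AlgSp.IsAlgSpace B)
    (G : Over B) [GrpObj G] (hG : AlgSp.IsAlgSpace G.left) :
    FibCat.IsEquivOver
      (AlgSt.subIncl (AlgSt.SpBG Scheme.fppfPrecoverage G) (fun A => AlgSp.IsAlgSpace A.P.left)) := by
  exact Groth.L24.Tors.isEquivOver_subIncl fun A => Groth.L24.Tors.isAlgSpace_torsor hB hG A

end Groth.Agent.S13593
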