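import Groth.Statements.S13598
import Groth.Agent.L05.Henselization.StrictUniq

set_option autoImplicit false
universe u
open Hensel

namespace Groth.Agent.S13598

/-- For a local ring A, a henselization A ⟶ S of A (S a henselian local ring, the structure map local,
and initial among local homomorphisms from A to henselian local rings) and an ideal I of A inside
the maximal ideal, the quotient S/IS with its induced algebra structure over A/I is a henselization
of A/I. (The local-ring and local-homomorphism instances on the quotients hold automatically; they
are taken as hypotheses only so that the conclusion can be stated.) -/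
theorem result {A S : Type u} [CommRing A] [IsLocalRing A] [CommRing S]
    [IsLocalRing S] [Algebra A S] [IsLocalHom (algebraMap A S)] [Hensel.IsHenselization A S]
    (I : Ideal A) (hI : I ≤ IsLocalRing.maximalIdeal A)
    [IsLocalRing (A ⧸ I)] [IsLocalRing (S ⧸ I.map (algebraMap A S))]
    [IsLocalHom (algebraMap (A ⧸ I) (S ⧸ I.map (algebraMap A S)))] :
    Hensel.IsHenselization (A ⧸ I) (S ⧸ I.map (algebraMap A S)) := by
  refine ⟨?_, fun T _ _ f hf => ?_⟩
  · haveI : HenselianLocalRing S := Hensel.IsHenselization.henselian (R := A)
    haveI : HenselianRing S (IsLocalRing.maximalIdeal S) := inferInstance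
    haveI h1 := Groth.L05.henselianRing_quotient (IsLocalRing.maximalIdeal S)
      (I.map (algebraMap A S))
    haveI : HenselianRing (S ⧸ I.map (algebraMap A S))
        (IsLocalRing.maximalIdeal (S ⧸ I.map (algebraMap A S))) := by
      have e : (IsLocalRing.maximalIdeal S).map (Ideal.Quotient.mk (I.map (algebraMap A S))) =
          IsLocalRing.maximalIdeal (S ⧸ I.map (algebraMap A S)) := by
        refine IsLocalRing.eq_maximalIdeal ?_
        exact Ideal.IsMaximal.map_of_surjective_of_ker_le Ideal.Quotient.mk_surjective
          (Ideal.mk_ker.trans_le (IsLocalRing.le_maximalIdeal (Ideal.Quotient.nontrivial_iff.mp inferInstance)))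
      rwa [← e]
    exact Groth.L05.henselianLocalRing_of_henselianRing
  · haveI := hf
    haveI : IsLocalHom (Ideal.Quotient.mk I) := IsLocalHom.of_surjective _ Ideal.Quotient.mk_surjective
    obtain ⟨g, hg, hgu⟩ := Hensel.IsHenselization.universal (R := A) (S := S) T
      (f.comp (Ideal.Quotient.mk I)) inferInstance
    have hker : ∀ x ∈ I.map (algebraMap A S), g x = 0 := by
      intro x hx
      have hle : I.map (algebraMap A S) ≤ RingHom.ker g := Ideal.map_le_iff_le_comap.mpr fun a ha => by
        rw [Ideal.mem_comap, RingHom.mem_ker, ← RingHom.comp_apply, hg, RingHom.comp_apply,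
          Ideal.Quotient.eq_zero_iff_mem.mpr ha, map_zero]
      exact hle hx
    refine ⟨Ideal.Quotient.lift _ g hker, ?_, fun g₂ hg₂ => ?_⟩
    · refine Ideal.Quotient.ringHom_ext (RingHom.ext fun a => ?_)
      exact DFunLike.congr_fun hg a
    · refine Ideal.Quotient.ringHom_ext ?_
      rw [Ideal.Quotient.lift_comp_mk]
      refine hgu _ (RingHom.ext fun a => ?_)
      exact DFunLike.congr_fun hg₂ (Ideal.Quotient.mk I a)

end Groth.Agent.S13598
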