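import Groth.Statements.S13600
import Groth.Agent.L22.DivSub.Basic
-- import your own Groth.Agent.* helpers here

set_option autoImplicit false
universe u
open CategoryTheory AlgebraicGeometry
open Cyc

namespace Groth.Agent.S13600

/-- Let X be a separated Noetherian scheme and W = Σ a_i z_i an effective cycle on X (a function from
the points of X to the integers, non-negative and with finite support) whose points z_i (those with
a_i ≠ 0) have codimension 1 with X regular there, i.e. O_{X,z_i} is a discrete valuation ring. Then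
X has a unique closed subscheme Z (a quasi-coherent ideal sheaf) such that (1) Z has no embedded
components (every point of Z at which the maximal ideal of the local ring of Z is an associated
prime is a maximal point of Z) and (2) the cycle of Z is W: every maximal point z of Z has O_{Z,z}
of length W(z), and every point with W ≠ 0 is a maximal point of Z. -/
theorem result (X : Scheme.{u}) [IsNoetherian X]
    [X.IsSeparated] (W : X → ℤ) (hfin : {x | W x ≠ 0}.Finite) (hpos : ∀ x, 0 ≤ W x)
    (hreg : ∀ x, W x ≠ 0 → ∃ _ : IsDomain ↑(X.presheaf.stalk x), IsDiscreteValuationRing ↑(X.presheaf.stalk x)) :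
    ∃! 𝓘 : X.IdealSheafData,
      (∀ z : ↥𝓘.subscheme,
        IsAssociatedPrime (IsLocalRing.maximalIdeal ↑(𝓘.subscheme.presheaf.stalk z))
          ↑(𝓘.subscheme.presheaf.stalk z) → ∀ z' : ↥𝓘.subscheme, z' ⤳ z → z' = z) ∧
      (∀ z : ↥𝓘.subscheme, (∀ z' : ↥𝓘.subscheme, z' ⤳ z → z' = z) →
        Module.length ↑(𝓘.subscheme.presheaf.stalk z) ↑(𝓘.subscheme.presheaf.stalk z) =
          ((W (𝓘.subschemeι.base z)).toNat : ℕ∞)) ∧
      (∀ x : X, W x ≠ 0 → ∃ z : ↥𝓘.subscheme, 𝓘.subschemeι.base z = x ∧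
        ∀ z' : ↥𝓘.subscheme, z' ⤳ z → z' = z) := by
  classical
  let a : X → ℕ := fun x => (W x).toNat
  have ha : ∀ x, a x ≠ 0 ↔ W x ≠ 0 := fun x => by
    have := hpos x
    simp only [a]
    omega
  have hf : {x | a x ≠ 0}.Finite := hfin.subset fun x hx => (ha x).1 hx
  have hr : ∀ x, a x ≠ 0 → ∃ _ : IsDomain ↑(X.presheaf.stalk x), IsDiscreteValuationRing ↑(X.presheaf.stalk x) :=
    fun x hx => hreg x ((ha x).1 hx)
  refine ⟨Groth.L22.DivSub.idl a hf, ⟨?_, ?_, ?_⟩, fun J hJ => ?_⟩
  · exact fun w hw => Groth.L22.DivSub.not_embedded a hf hr w hw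
  · intro w hw
    have h0 := (Groth.L22.DivSub.isMaxPoint_iff a hf hr w).1 hw
    obtain ⟨_, _⟩ := hr _ h0
    rw [Groth.L22.DivSub.length_stalk, Groth.L22.DivSub.sI_idl_self a hf hr h0,
      IsDiscreteValuationRing.length_quotient_pow_maximalIdeal]
  · intro x hx
    obtain ⟨w, rfl⟩ := Groth.L22.DivSub.exists_over (Groth.L22.DivSub.idl a hf)
      ((Groth.L22.DivSub.sI_idl_ne_top_iff a hf x).2 ⟨x, (ha x).2 hx, specializes_rfl⟩)
    exact ⟨w, rfl, (Groth.L22.DivSub.isMaxPoint_iff a hf hr w).2 ((ha _).2 hx)⟩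
  · exact Groth.L22.DivSub.eq_idl a hf hr J hJ.1 hJ.2.1 (fun x hx => hJ.2.2 x ((ha x).1 hx))

end Groth.Agent.S13600
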