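import Groth.Agent.L18.SymPowAffine
import Groth.Agent.L08.SymTenFlat
import Groth.Statements.S13601
-- import your own Groth.Agent.* helpers here

set_option autoImplicit false
universe u
open CategoryTheory AlgebraicGeometry
open SymProd

namespace Groth.Agent.S13601

/-- Let f : X ⟶ S be a flat morphism of schemes such that every finite set of points of X lying over a
single point of S is contained in an affine open of X, let n ≥ 0, and let (Y, q, g) be an n-th
symmetric power of X over S: q : X ×_S ⋯ ×_S X ⟶ Y (n factors) is a quotient by the symmetric group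
on n letters permuting the factors (affine, invariant, identifying sections of O_Y with invariant
sections) and g : Y ⟶ S satisfies q ≫ g = the structure map of the fibre power. Then g is flat. -/
theorem result {X S Y : Scheme.{u}} (f : X ⟶ S) [Flat f]
    (hAF : SymProd.IsAF f) (n : ℕ) (q : SymProd.fibPow f n ⟶ Y) (g : Y ⟶ S)
    (hq : SymProd.IsSymProd f n q g) : Flat g := by
  rw [HasRingHomProperty.iff_exists_appLE (P := @Flat) (RingHom.Flat.stableUnderComposition.stableUnderCompositionWithLocalizationAway RingHom.Flat.holdsForLocalizationAway).left]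
  intro y
  obtain ⟨V, U, W', hV, hU, hUV, hy, hW', hle, hbox⟩ := Groth.L18.SymPow.exists_chart f hAF q g hq y
  refine ⟨⟨V, hV⟩, ⟨W', hW'⟩, hy, hle, ?_⟩
  letI := (f.appLE V U hUV).hom.toAlgebra
  letI := (g.appLE V W' hle).hom.toAlgebra
  obtain ⟨e⟩ := Groth.L18.SymPow.exists_quotEquiv f q g hq hV hU hUV hle hbox
  haveI : Module.Flat ↑Γ(S, V) ↑Γ(X, U) := Flat.flat_appLE f hV hU hUV
  haveI : Module.Flat ↑Γ(S, V) (SymTen.TS ↑Γ(S, V) ↑Γ(X, U) n) := Groth.L22.Gamma.flat_TS_of_flat n
  exact Module.Flat.of_linearEquiv e.toLinearEquiv.symm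

end Groth.Agent.S13601
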