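import Groth.Statements.S13603
import Mathlib.RingTheory.Localization.Basic
import Mathlib.GroupTheory.GroupAction.Defs
import Mathlib.Data.Set.Finite.Basic
import Mathlib.Algebra.Ring.Action.Basic
import Mathlib.Algebra.BigOperators.Ring.Finset
import Mathlib.Algebra.BigOperators.Group.Finset.Piecewise

set_option autoImplicit false
universe u v
open CAlg

namespace Groth.Agent.S13603

/-- Let a group G act on a commutative ring B by ring automorphisms so that every element of B has a
finite orbit, and let S ⊆ B be a multiplicative set of G-fixed elements (so each g ∈ G induces an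
endomorphism of the localization S⁻¹B; the hypothesis that g maps S into S is implied by the
previous one and is only carried to name that endomorphism). Then an element of S⁻¹B is fixed by all
of G if and only if it is a fraction b/s with b fixed by G and s ∈ S: the canonical map S⁻¹(B^G) →
(S⁻¹B)^G is onto. -/
theorem result {B : Type u} [CommRing B]
    {G : Type v} [Group G] [MulSemiringAction G B] (hfin : ∀ b : B, (MulAction.orbit G b).Finite)
    (S : Submonoid B) (hS : ∀ (g : G) (s : B), s ∈ S → g • s = s)
    (hS' : ∀ g : G, S ≤ S.comap (MulSemiringAction.toRingHom G B g)) (x : Localization S) :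
    (∀ g : G, IsLocalization.map (Localization S) (MulSemiringAction.toRingHom G B g) (hS' g) x = x) ↔
      ∃ (b : B) (s : S), (∀ g : G, g • b = b) ∧ x = IsLocalization.mk' (Localization S) b s := by
  classical
  constructor
  · intro h
    obtain ⟨b, s, rfl⟩ := IsLocalization.exists_mk'_eq S x
    have key : ∀ g : G, ∃ t : S, (t : B) * (g • b) = t * b := by
      intro g
      have h1 := h g
      rw [IsLocalization.map_mk'] at h1
      obtain ⟨c, hc⟩ := IsLocalization.eq.mp h1
      refine ⟨c * s, ?_⟩
      simp only [MulSemiringAction.toRingHom_apply, hS g s.1 s.2] at hc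
      rw [Submonoid.coe_mul, mul_assoc, mul_assoc]
      exact hc
    have key' : ∀ c ∈ (hfin b).toFinset, ∃ t : S, (t : B) * c = t * b := fun c hc => by
      obtain ⟨g, rfl⟩ := (hfin b).mem_toFinset.mp hc
      exact key g
    choose t ht using key'
    let T : S := ∏ c ∈ (hfin b).toFinset.attach, t c.1 c.2
    have hT : ∀ g : G, (T : B) * (g • b) = T * b := fun g => by
      have hmem : g • b ∈ (hfin b).toFinset := (hfin b).mem_toFinset.mpr ⟨g, rfl⟩
      obtain ⟨r, hr⟩ : t _ hmem ∣ T :=
        Finset.dvd_prod_of_mem (fun c : {c // c ∈ (hfin b).toFinset} => t c.1 c.2) (Finset.mem_attach _ ⟨_, hmem⟩)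
      rw [hr, Submonoid.coe_mul, mul_comm (t _ hmem : B), mul_assoc, ht _ hmem, ← mul_assoc]
    refine ⟨T * b, T * s, fun g => ?_, ?_⟩
    · rw [smul_mul', hS g T.1 T.2, hT]
    · rw [eq_comm, IsLocalization.mk'_eq_iff_eq, Submonoid.coe_mul]
      ring_nf
  · rintro ⟨b, s, hb, rfl⟩ g
    rw [IsLocalization.map_mk']
    congr 1
    · exact hb g
    · exact Subtype.ext (hS g s.1 s.2)

end Groth.Agent.S13603
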