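import Groth.Prelude.Def_BlowUp2
import Mathlib.AlgebraicGeometry.IdealSheaf.Subscheme
import Mathlib.AlgebraicGeometry.Morphisms.Smooth
import Mathlib.AlgebraicGeometry.Morphisms.Separated
import Mathlib.AlgebraicGeometry.Pullbacks
import Mathlib.RingTheory.KrullDimension.Basic
import Groth.Agent.L02.RelCartier.Descent

set_option autoImplicit false
namespace Cyc
end Cyc
universe u
open CategoryTheory AlgebraicGeometry
open CategoryTheory.Limits
open Cyc

namespace Groth.Agent.S13604

/-- Let k be a field, X a separated k-scheme of finite type, smooth of relative dimension r, and Z ⊆ X a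
closed subscheme (a quasi-coherent ideal sheaf) of pure dimension r − 1, i.e. the local ring of X at
every maximal point of Z has dimension 1. If for some field extension K/k the base change Z_K ⊆ X_K
= X ×_k Spec K (the inverse image ideal sheaf along the first projection) is an effective Cartier
divisor, then the ideal of Z is locally generated by a single non-zero-divisor, i.e. Z too is
effective Cartier. -/
theorem result {k : Type u} [Field k] {K : Type u} [Field K]
    [Algebra k K] {X : Scheme.{u}} (f : X ⟶ Spec (CommRingCat.of k)) (r : ℕ) [SmoothOfRelativeDimension r f]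
    [QuasiCompact f] [IsSeparated f] (𝓘 : X.IdealSheafData)
    (hpure : ∀ z : ↥𝓘.subscheme, (∀ z' : ↥𝓘.subscheme, z' ⤳ z → z' = z) →
      ringKrullDim ↑(X.presheaf.stalk (𝓘.subschemeι.base z)) = 1)
    (hK : BlowUp.IsEffCartierIdeal
      (𝓘.comap (pullback.fst f (Spec.map (CommRingCat.ofHom (algebraMap k K)))))) :
    BlowUp.IsEffCartierIdeal 𝓘 := by
  haveI : Smooth f := SmoothOfRelativeDimension.smooth r f
  haveI : LocallyOfFiniteType f := inferInstance
  haveI : IsLocallyNoetherian X := LocallyOfFiniteType.isLocallyNoetherian f
  haveI : Flat (Spec.map (CommRingCat.ofHom (algebraMap k K))) :=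
    Groth.L02.RelCartier.flat_SpecMap_field _
  haveI : Surjective (Spec.map (CommRingCat.ofHom (algebraMap k K))) :=
    ⟨fun x => ⟨(IsLocalRing.closedPoint K : PrimeSpectrum K), Subsingleton.elim (α := PrimeSpectrum k) _ _⟩⟩
  exact Groth.L02.RelCartier.isEffCartier_of_comap_flat_surjective _ 𝓘 hK

end Groth.Agent.S13604
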