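import Groth.Statements.S13605
import Groth.Agent.L16.SymProd.Chart
import Groth.Agent.L27.Quot.Affine

set_option autoImplicit false
universe u
open CategoryTheory AlgebraicGeometry
open CategoryTheory.Limits
open SymProd

open CategoryTheory.Limits

namespace Groth.Agent.S13605

/-- Let f : X ⟶ S be a morphism of schemes satisfying (AF) (every finite set of points of X over a
single point of S lies in an affine open of X), let 𝒮 be a cover of S by affine opens, let d ≥ 1 and
let (Y, q, g) be a d-th symmetric power of X over S: q : X ×_S ⋯ ×_S X ⟶ Y is a quotient by the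
symmetric group on d letters permuting the factors (affine, invariant, sections of O_Y = invariant
sections) and q ≫ g is the structure map of the fibre power. Then Y is covered by affine opens of
the form Sym^d(U/V) with V in the given cover: for every point y of Y there are V ∈ 𝒮 and an affine
open U ⊆ f⁻¹V of X such that the open W = ⋂_i pr_i⁻¹ U of the fibre power (the fibre power of U over
V) is affine and stable under every permutation of the factors, and an affine open W' of Y
containing y with q⁻¹ W' = W. (The published statement also fixes an affine open cover of X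
subordinate to the cover of S, in which any d points over a common point of a member V lie in a
common member mapping into V, and concludes that the corresponding opens Sym^d(U/V) cover Y; this
row states the pointwise form, producing U for each y.) -/
theorem result {X S Y : Scheme.{u}} (f : X ⟶ S) (hAF : SymProd.IsAF f)
    (𝒮 : Set S.Opens) (h𝒮 : ∀ V ∈ 𝒮, IsAffineOpen V) (hcov : ∀ s : S, ∃ V ∈ 𝒮, s ∈ V)
    (d : ℕ) (hd : 0 < d) (q : SymProd.fibPow f d ⟶ Y) (g : Y ⟶ S) (hq : SymProd.IsSymProd f d q g) (y : Y) :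
    ∃ V ∈ 𝒮, ∃ U : X.Opens, IsAffineOpen U ∧ U ≤ f ⁻¹ᵁ V ∧
      ∃ W : (SymProd.fibPow f d).Opens,
        (W : Set ↥(SymProd.fibPow f d)) =
          ⋂ i : Fin d, (WidePullback.π (fun _ : Fin d => f) i).base ⁻¹' (U : Set X) ∧
        IsAffineOpen W ∧ (∀ σ : Equiv.Perm (Fin d), (SymProd.permHom f d σ) ⁻¹ᵁ W = W) ∧
        ∃ W' : Y.Opens, y ∈ W' ∧ IsAffineOpen W' ∧ q ⁻¹ᵁ W' = W := by
  haveI : Finite (ULift.{u} (Equiv.Perm (Fin d))) := inferInstance
  obtain ⟨x, hx⟩ := Groth.L27.Quot.surjective hq.isQuot y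
  obtain ⟨V, hVS, hxV⟩ := hcov ((WidePullback.base (fun _ : Fin d => f)).base x)
  obtain ⟨U, hU, hUV, hxW⟩ := Groth.L16.SymProd.exists_box f d hAF x (h𝒮 V hVS) hxV
  refine ⟨V, hVS, U, hU, hUV, Groth.L16.SymProd.box f d U V, Groth.L16.SymProd.coe_box_of_pos f d hd hUV,
    Groth.L16.SymProd.isAffineOpen_box f d hU (h𝒮 V hVS) hUV, Groth.L16.SymProd.preimage_box f d U V, ?_⟩
  haveI := Groth.L27.Quot.isIntegralHom hq.isQuot
  let W := Groth.L16.SymProd.box f d U V
  let W' : Y.Opens := ⟨(q.base '' (W : Set ↥(SymProd.fibPow f d))ᶜ)ᶜ,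
    (q.isClosedMap _ W.2.isClosed_compl).isOpen_compl⟩
  have hstab : ∀ a b, q.base a = q.base b → a ∈ W → b ∈ W := by
    intro a b hab ha
    obtain ⟨σ, rfl⟩ := Groth.L27.Quot.exists_eq_of_map_eq hq.isQuot hab
    rw [SymProd.permActU_hom]
    show a ∈ SymProd.permHom f d σ.down ⁻¹ᵁ W
    rw [Groth.L16.SymProd.preimage_box]; exact ha
  have hpre : q ⁻¹ᵁ W' = W := by
    ext a
    refine ⟨fun h => ?_, fun ha => ?_⟩
    · by_contra hna
      exact h ⟨a, hna, rfl⟩
    · rintro ⟨b, hb, hba⟩
      exact hb (hstab a b hba.symm ha)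
  refine ⟨W', ?_, ?_, hpre⟩
  · rintro ⟨b, hb, hby⟩
    exact hb (hstab x b (hx.trans hby.symm) hxW)
  · haveI : IsAffine (q ⁻¹ᵁ W').toScheme := by
      rw [hpre]; exact Groth.L16.SymProd.isAffineOpen_box f d hU (h𝒮 V hVS) hUV
    exact Groth.L27.Quot.isAffine_of_isQuot (Groth.L27.Quot.isQuot_restrict hq.isQuot W'
      (Groth.L27.Quot.restrictAction hq.isQuot.inv W') (Groth.L27.Quot.restrictAction_ι hq.isQuot.inv W'))
end Groth.Agent.S13605
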