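import Groth.Statements.S13608
import Mathlib.RingTheory.AdicCompletion.Completeness
import Mathlib.RingTheory.AdicCompletion.Functoriality

set_option autoImplicit false
universe u v
open CAlg

namespace Groth.Agent.S13608

/-- Let A be a commutative ring, I a finitely generated ideal of A and (M_n) an inverse system of
A-modules with transition maps f_n : M_(n+1) → M_n such that I^(n+1) M_n = 0 for every n. If L is an
inverse limit of the system (projections π_n compatible with the f_n, jointly injective, and such
that every compatible family of elements lifts to L), then L is complete and separated for the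
I-adic topology. No surjectivity of the transition maps is assumed. -/
theorem result
    (A : Type u) [CommRing A] (I : Ideal A) (hI : I.FG)
    (M : ℕ → Type v) [∀ n, AddCommGroup (M n)] [∀ n, Module A (M n)]
    (f : ∀ n, M (n + 1) →ₗ[A] M n)
    (hkill : ∀ n, I ^ (n + 1) • (⊤ : Submodule A (M n)) = ⊥)
    (L : Type v) [AddCommGroup L] [Module A L] (π : ∀ n, L →ₗ[A] M n)
    (hπ : ∀ n, f n ∘ₗ π (n + 1) = π n)
    (hinj : ∀ x : L, (∀ n, π n x = 0) → x = 0)
    (hlift : ∀ y : (∀ n, M n), (∀ n, f n (y (n + 1)) = y n) → ∃ x : L, ∀ n, π n x = y n) :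
    IsAdicComplete I L := by
  classical
  have hπkill : ∀ n, ∀ z ∈ (I ^ (n + 1) • ⊤ : Submodule A L), π n z = 0 := fun n z hz => by
    have h := Submodule.mem_map_of_mem (f := π n) hz
    rw [Submodule.map_smul''] at h
    have h' := Submodule.smul_mono le_rfl le_top h
    rwa [hkill n, Submodule.mem_bot] at h'
  haveI : IsHausdorff I L := ⟨fun x hx => hinj x fun n => hπkill n x (SModEq.zero.mp (hx (n + 1)))⟩
  let p : ∀ n, (L ⧸ (I ^ (n + 1) • ⊤ : Submodule A L)) →ₗ[A] M n := fun n => Submodule.liftQ _ (π n) (hπkill n)
  have hex : ∀ u : AdicCompletion I L, ∃ x : L, ∀ n, π n x = p n (u.val (n + 1)) := fun u => by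
    refine hlift _ fun n => ?_
    rw [← u.2 (Nat.le_succ (n + 1))]
    obtain ⟨z, hz⟩ := Submodule.Quotient.mk_surjective _ (u.val (n + 1 + 1))
    rw [← hz]
    exact LinearMap.congr_fun (hπ n) z
  choose Φ hΦ using hex
  have hext : ∀ x y : L, (∀ n, π n x = π n y) → x = y := fun x y h =>
    sub_eq_zero.mp (hinj _ fun n => by rw [map_sub, h n, sub_self])
  let Φl : AdicCompletion I L →ₗ[A] L :=
    { toFun := Φ
      map_add' := fun u v => hext _ _ fun n => by
        rw [map_add, hΦ, hΦ, hΦ, ← map_add]; rfl
      map_smul' := fun c u => hext _ _ fun n => by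
        rw [RingHom.id_apply, map_smul, hΦ, hΦ, ← map_smul]; rfl }
  have hof : ∀ x : L, Φl (AdicCompletion.of I L x) = x := fun x => hext _ _ fun n => hΦ _ n
  haveI := AdicCompletion.isAdicComplete (M := L) hI
  refine { prec' := fun g hg => ?_ }
  obtain ⟨u, hu⟩ := IsPrecomplete.prec' (I := I) (fun n => AdicCompletion.of I L (g n)) fun {m n} hmn => by
    have h := hg hmn
    rw [SModEq.sub_mem] at h ⊢
    rw [← map_sub]
    have h' := Submodule.mem_map_of_mem (f := AdicCompletion.of I L) h
    rw [Submodule.map_smul''] at h'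
    exact Submodule.smul_mono le_rfl le_top h'
  refine ⟨Φl u, fun n => ?_⟩
  have h := hu n
  rw [SModEq.sub_mem] at h ⊢
  have h' := Submodule.mem_map_of_mem (f := Φl) h
  rw [Submodule.map_smul'', map_sub, hof] at h'
  exact Submodule.smul_mono le_rfl le_top h'

end Groth.Agent.S13608
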