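import Groth.Statements.S1361
import Groth.Agent.S1356
import Groth.Agent.S1357
import Groth.Agent.S9734

set_option autoImplicit false
universe u
open FlatMor

set_option backward.isDefEq.respectTransparency.types false
set_option linter.style.haveILetI false
set_option backward.isDefEq.respectTransparency false
set_option backward.isDefEq.respectTransparency.types false
namespace Groth.Agent.S1361
open AlgebraicGeometry CategoryTheory Limits Topology

/-- A connected component containing only geometrically irreducible components is geometrically connected. -/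
theorem geometricallyConnected_component {G : Scheme.{u}} {k : Type u} [Field k] (p : G ⟶ Spec (CommRingCat.of k))
    [IsNoetherian G]
    (hirr : ∀ (Z : Set G) (hZ : Z ∈ irreducibleComponents (G : Type u)), GeometricallyIrreducible
      ((Scheme.IdealSheafData.vanishingIdeal ⟨Z, isClosed_of_mem_irreducibleComponents Z hZ⟩).subschemeι ≫ p))
    (T : G.Opens) {x : G} (hT : (T : Set G) = connectedComponent x) : GeometricallyConnected (T.ι ≫ p) := by
  refine ⟨geometrically_iff_of_isClosedUnderIsomorphisms.mpr fun K _ t => ?_⟩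
  let q := pullback.fst p t
  haveI : Surjective t := ⟨fun _ => ⟨IsLocalRing.closedPoint K, Subsingleton.elim (α := PrimeSpectrum k) _ _⟩⟩
  haveI : Surjective q := MorphismProperty.pullback_fst _ _ ‹Surjective t›
  have hfin := TopologicalSpace.NoetherianSpace.finite_irreducibleComponents (α := ↥G)
  have hC : ∀ (Z : Set G) (hZ : Z ∈ irreducibleComponents (G : Type u)), _root_.IsPreconnected (q ⁻¹' Z) := by
    intro Z hZ
    let i := (Scheme.IdealSheafData.vanishingIdeal (X := G) ⟨Z, isClosed_of_mem_irreducibleComponents Z hZ⟩).subschemeι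
    haveI : IrreducibleSpace ↥(pullback (i ≫ p) t) :=
      (hirr Z hZ).geometrically_irreducibleSpace _ _ _ (IsPullback.of_hasPullback (i ≫ p) t)
    let m := (pullbackRightPullbackFstIso p t i).inv ≫ pullback.snd i q
    have hm : Set.range m = q ⁻¹' Z := by
      rw [Scheme.Hom.comp_base, TopCat.coe_comp, Set.range_comp,
        (pullbackRightPullbackFstIso p t i).inv.surjective.range_eq, Set.image_univ, Scheme.Pullback.range_snd,
        Scheme.IdealSheafData.range_subschemeι, Scheme.IdealSheafData.coe_support_vanishingIdeal]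
      rfl
    rw [← hm, ← Set.image_univ]
    exact isPreconnected_univ.image _ m.continuous.continuousOn
  have hsub : ∀ z ∈ T, ∃ Z ∈ irreducibleComponents (G : Type u), z ∈ Z ∧ Z ⊆ T := by
    intro z hz
    refine ⟨irreducibleComponent z, irreducibleComponent_mem_irreducibleComponents z, mem_irreducibleComponent, ?_⟩
    change z ∈ (T : Set G) at hz
    rw [hT] at hz ⊢
    rw [connectedComponent_eq hz]
    exact irreducibleComponent_subset_connectedComponent
  have hpre : _root_.IsConnected (q ⁻¹' (T : Set G)) := by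
    refine ⟨(show (T : Set G).Nonempty from ⟨x, by rw [hT]; exact mem_connectedComponent⟩).preimage q.surjective, ?_⟩
    refine isPreconnected_iff_subset_of_disjoint.mpr ?_
    intro u v hu hv huv hdis
    have hor : ∀ Z ∈ irreducibleComponents (G : Type u), Z ⊆ T → q ⁻¹' Z ⊆ u ∨ q ⁻¹' Z ⊆ v := fun Z hZ hZT =>
      isPreconnected_iff_subset_of_disjoint.mp (hC Z hZ) u v hu hv ((Set.preimage_mono hZT).trans huv)
        (Set.eq_empty_of_subset_empty ((Set.inter_subset_inter_left _ (Set.preimage_mono hZT)).trans hdis.le))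
    let A := ⋃₀ {Z | Z ∈ irreducibleComponents (G : Type u) ∧ Z ⊆ T ∧ q ⁻¹' Z ⊆ u}
    let B := ⋃₀ {Z | Z ∈ irreducibleComponents (G : Type u) ∧ Z ⊆ T ∧ q ⁻¹' Z ⊆ v}
    have hA : IsClosed A := by
      show IsClosed (⋃₀ _)
      rw [Set.sUnion_eq_biUnion]
      exact (hfin.subset fun Z h => h.1).isClosed_biUnion fun Z h => isClosed_of_mem_irreducibleComponents Z h.1
    have hB : IsClosed B := by
      show IsClosed (⋃₀ _)
      rw [Set.sUnion_eq_biUnion]
      exact (hfin.subset fun Z h => h.1).isClosed_biUnion fun Z h => isClosed_of_mem_irreducibleComponents Z h.1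
    have hcov : (T : Set G) ⊆ A ∪ B := fun z hz => by
      obtain ⟨Z, hZ, hzZ, hZT⟩ := hsub z hz
      rcases hor Z hZ hZT with h | h
      · exact Or.inl ⟨Z, ⟨hZ, hZT, h⟩, hzZ⟩
      · exact Or.inr ⟨Z, ⟨hZ, hZT, h⟩, hzZ⟩
    have hAB : (T : Set G) ∩ (A ∩ B) = ∅ := by
      refine Set.eq_empty_iff_forall_notMem.mpr ?_
      rintro z ⟨hzT, ⟨Z, ⟨-, -, hu'⟩, hzZ⟩, ⟨Z', ⟨-, -, hv'⟩, hzZ'⟩⟩
      obtain ⟨w, rfl⟩ := q.surjective z
      exact Set.eq_empty_iff_forall_notMem.mp hdis w ⟨hzT, hu' hzZ, hv' hzZ'⟩
    have hTc : _root_.IsPreconnected (T : Set G) := by rw [hT]; exact isPreconnected_connectedComponent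
    have h := isPreconnected_closed_iff.mp hTc
    by_cases e : ((T : Set G) ∩ A).Nonempty
    · left
      intro w hw
      by_contra hwu
      rcases hcov hw with ⟨Z, ⟨-, -, hu'⟩, hwZ⟩ | hwB
      · exact hwu (hu' hwZ)
      · obtain ⟨z, hz⟩ := h A B hA hB hcov e ⟨q w, hw, hwB⟩
        exact Set.eq_empty_iff_forall_notMem.mp hAB z hz
    · right
      intro w hw
      rcases hcov hw with hwA | ⟨Z, ⟨-, -, hv'⟩, hwZ⟩
      · exact absurd ⟨q w, hw, hwA⟩ e
      · exact hv' hwZ
  let m := (pullbackRightPullbackFstIso p t T.ι).inv ≫ pullback.snd T.ι q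
  haveI : IsOpenImmersion m := inferInstance
  have hm : Set.range m = q ⁻¹' (T : Set G) := by
    rw [Scheme.Hom.comp_base, TopCat.coe_comp, Set.range_comp,
      (pullbackRightPullbackFstIso p t T.ι).inv.surjective.range_eq, Set.image_univ, Scheme.Pullback.range_snd,
      Scheme.Opens.range_ι]
  haveI : ConnectedSpace ↥(Set.range m) := isConnected_iff_connectedSpace.mp (hm ▸ hpre)
  exact m.isOpenEmbedding.isEmbedding.toHomeomorph.symm.surjective.connectedSpace (Homeomorph.continuous _)

end Groth.Agent.S1361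
namespace Groth.Agent.S1361

open AlgebraicGeometry CategoryTheory Limits in
/-- Let f : X → S be flat, locally of finite presentation, with geometrically reduced fibres. Then for
every point x of X there are an étale morphism X' → X whose image contains x, an étale morphism S' →
S and a factorization X' → S' → S of X' → X → S such that X' → S' is a flat morphism of finite
presentation all of whose fibres are geometrically connected and geometrically reduced. -/
theorem result {X S : Scheme.{u}} (f : X ⟶ S) [Flat f] [LocallyOfFinitePresentation f] [GeometricallyReduced f] (x : X) :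
    ∃ (X' S' : Scheme.{u}) (a : X' ⟶ X) (b : X' ⟶ S') (c : S' ⟶ S), Etale a ∧ x ∈ Set.range ⇑a ∧ Etale c ∧ a ≫ f = b ≫ c ∧
      Flat b ∧ LocallyOfFinitePresentation b ∧ QuasiCompact b ∧ QuasiSeparated b ∧ GeometricallyConnected b ∧ GeometricallyReduced b := by
  obtain ⟨S₀, hS₀, hxS₀, -⟩ := exists_isAffineOpen_mem_and_subset (show f x ∈ (⊤ : S.Opens) from trivial)
  obtain ⟨U, hU, hxU, hUle⟩ := exists_isAffineOpen_mem_and_subset (show x ∈ f ⁻¹ᵁ S₀ from hxS₀)
  haveI : IsAffine (S₀ : Scheme.{u}) := hS₀
  haveI : IsAffine (U : Scheme.{u}) := hU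
  let f₀ : (U : Scheme.{u}) ⟶ (S₀ : Scheme.{u}) := X.homOfLE hUle ≫ (f ∣_ S₀)
  have hf₀ : f₀ ≫ S₀.ι = U.ι ≫ f := by simp [f₀]
  haveI : GeometricallyReduced f₀ := Groth.Agent.S1356.geometricallyReduced_openImm_comp _ _
  let x₀ : ↥(U : Scheme.{u}) := ⟨x, hxU⟩
  let s₀ : ↥(S₀ : Scheme.{u}) := f₀ x₀
  let k := S₀.toScheme.residueField s₀
  let G := f₀.fiber s₀
  letI : G.Over (Spec (CommRingCat.of k)) := ⟨f₀.fiberToSpecResidueField s₀⟩
  haveI : LocallyOfFiniteType (G ↘ Spec (CommRingCat.of k)) := MorphismProperty.pullback_snd _ _ inferInstance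
  haveI : CompactSpace ↥G := QuasiCompact.compactSpace_of_compactSpace (f₀.fiberToSpecResidueField s₀)
  haveI : IsLocallyNoetherian G := LocallyOfFiniteType.isLocallyNoetherian (G ↘ Spec (CommRingCat.of k))
  haveI : IsNoetherian G := ⟨⟩
  obtain ⟨L, _, _, _, _, hL⟩ := Groth.Agent.S1654.result k G TopologicalSpace.NoetherianSpace.finite_irreducibleComponents
  obtain ⟨U₁, g₁, u, hu, hg₁, e⟩ := Groth.Agent.S9734.result S₀.toScheme s₀ L
  haveI := hg₁
  let ρ := (S₀.toScheme.residueFieldCongr hu).inv ≫ g₁.residueFieldMap u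
  letI : Algebra k (U₁.residueField u) := ρ.hom.toAlgebra
  obtain ⟨e⟩ := e
  let f₁ := pullback.snd f₀ g₁
  haveI : Flat f₁ := MorphismProperty.pullback_snd _ _ inferInstance
  haveI : LocallyOfFinitePresentation f₁ := MorphismProperty.pullback_snd _ _ inferInstance
  haveI : QuasiCompact f₁ := MorphismProperty.pullback_snd _ _ inferInstance
  haveI : QuasiSeparated f₁ := MorphismProperty.pullback_snd _ _ inferInstance
  haveI : GeometricallyReduced f₁ := MorphismProperty.pullback_snd _ _ ‹GeometricallyReduced f₀›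
  let G₁ := f₁.fiber u
  let je : CommRingCat.of L ≅ U₁.residueField u := e.toRingEquiv.toCommRingCatIso
  let sKL := Spec.map (CommRingCat.ofHom (algebraMap k L))
  have hje : Spec.map je.hom ≫ sKL = Spec.map ρ := by
    rw [← Spec.map_comp]
    exact congrArg Spec.map (CommRingCat.hom_ext (RingHom.ext fun c => e.commutes c))
  have hρ : Spec.map ρ ≫ S₀.toScheme.fromSpecResidueField s₀ = U₁.fromSpecResidueField u ≫ g₁ := by
    rw [Spec.map_comp, Category.assoc,
      show Spec.map (S₀.toScheme.residueFieldCongr hu).inv ≫ S₀.toScheme.fromSpecResidueField s₀ =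
        S₀.toScheme.fromSpecResidueField (g₁ u) from Scheme.residueFieldCongr_fromSpecResidueField hu.symm,
      Scheme.Hom.SpecMap_residueFieldMap_fromSpecResidueField]
  have H1 : IsPullback (f₁.fiberι u ≫ pullback.fst f₀ g₁) (f₁.fiberToSpecResidueField u) f₀ (U₁.fromSpecResidueField u ≫ g₁) :=
    ((IsPullback.of_hasPullback f₁ (U₁.fromSpecResidueField u)).flip.paste_vert
      (IsPullback.of_hasPullback f₀ g₁).flip).flip
  have H1' : IsPullback (f₁.fiberι u ≫ pullback.fst f₀ g₁) (f₁.fiberToSpecResidueField u ≫ Spec.map je.hom)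
      f₀ (sKL ≫ S₀.toScheme.fromSpecResidueField s₀) := by
    refine H1.of_iso (Iso.refl _) (Iso.refl _) (asIso (Spec.map je.hom)) (Iso.refl _) (by simp) (by simp) (by simp) ?_
    rw [asIso_hom, reassoc_of% hje, hρ]; simp
  have H2 : IsPullback (Curv2.bcFst k G L ≫ f₀.fiberι s₀) (Curv2.bcSnd k G L) f₀ (sKL ≫ S₀.toScheme.fromSpecResidueField s₀) :=
    ((IsPullback.of_hasPullback (f₀.fiberToSpecResidueField s₀) sKL).flip.paste_vert
      (IsPullback.of_hasPullback f₀ (S₀.toScheme.fromSpecResidueField s₀)).flip).flip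
  have hG₁ := Groth.Agent.S1357.good_of_iso (Curv2.bcSnd k G L) hL (H1'.isoIsPullback _ _ H2)
    (asIso (Spec.map je.inv)) (f₁.fiberToSpecResidueField u) (by
      rw [asIso_hom, reassoc_of% (H1'.isoIsPullback_hom_snd _ _ H2), ← Spec.map_comp, Iso.inv_hom_id, Spec.map_id,
        Category.comp_id])
  haveI : LocallyOfFiniteType (f₁.fiberToSpecResidueField u) := MorphismProperty.pullback_snd _ _ inferInstance
  haveI : CompactSpace ↥G₁ := QuasiCompact.compactSpace_of_compactSpace (f₁.fiberToSpecResidueField u)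
  haveI : IsLocallyNoetherian G₁ := LocallyOfFiniteType.isLocallyNoetherian (f₁.fiberToSpecResidueField u)
  haveI : IsNoetherian G₁ := ⟨⟩
  obtain ⟨y, hy1, hy2⟩ := Scheme.Pullback.exists_preimage_pullback (f := f₀) (g := g₁) x₀ u hu.symm
  obtain ⟨z, hz⟩ : y ∈ Set.range (f₁.fiberι u) := by rw [f₁.range_fiberι]; exact hy2
  have hopen : IsOpen (connectedComponent z) := by
    have h : (connectedComponent z)ᶜ = ⋃ Z ∈ {Z | Z ∈ irreducibleComponents (G₁ : Type u) ∧ ¬ Z ⊆ connectedComponent z}, Z := by
      ext w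
      simp only [Set.mem_compl_iff, Set.mem_iUnion, Set.mem_setOf_eq, exists_prop]
      constructor
      · exact fun hw => ⟨irreducibleComponent w, ⟨irreducibleComponent_mem_irreducibleComponents w,
          fun h => hw (h mem_irreducibleComponent)⟩, mem_irreducibleComponent⟩
      · rintro ⟨Z, ⟨hZ, hne⟩, hwZ⟩ hw
        refine hne ?_
        rw [connectedComponent_eq hw]
        exact hZ.1.isConnected.subset_connectedComponent hwZ
    rw [← isClosed_compl_iff, h]
    exact (TopologicalSpace.NoetherianSpace.finite_irreducibleComponents.subset fun Z hZ => hZ.1).isClosed_biUnion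
      fun Z hZ => isClosed_of_mem_irreducibleComponents Z hZ.1
  let T : G₁.Opens := ⟨connectedComponent z, hopen⟩
  have hT : GeometricallyConnected (T.ι ≫ f₁.fiberToSpecResidueField u) :=
    geometricallyConnected_component (k := U₁.residueField u) _ hG₁ T rfl
  obtain ⟨S', g, s', hS', hnb, V, hVc, hVconn, hVmem⟩ := Groth.Agent.S1356.result f₁ u T hT
  haveI := hnb.etale
  haveI : CompactSpace ↥(V : Scheme.{u}) := isCompact_iff_compactSpace.mp hVc
  haveI : GeometricallyReduced (pullback.snd f₁ g) := MorphismProperty.pullback_snd _ _ inferInstance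
  let a : (V : Scheme.{u}) ⟶ X := V.ι ≫ pullback.fst f₁ g ≫ pullback.fst f₀ g₁ ≫ U.ι
  refine ⟨V, S', a, V.ι ≫ pullback.snd f₁ g, g ≫ g₁ ≫ S₀.ι, inferInstance, ?_, inferInstance, ?_, inferInstance,
    inferInstance, (quasiCompact_iff_compactSpace _).mpr inferInstance, inferInstance, hVconn,
    Groth.Agent.S1356.geometricallyReduced_openImm_comp _ _⟩
  · obtain ⟨w, hw1, hw2⟩ := Scheme.Pullback.exists_preimage_pullback (f := f₁) (g := g) y s'
      (by rw [show f₁ y = u from hy2]; exact hnb.base_eq.symm)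
    have hwV : w ∈ V := (hVmem w hw2).mpr ⟨z, mem_connectedComponent, hz.trans hw1.symm⟩
    refine ⟨⟨w, hwV⟩, ?_⟩
    show U.ι (pullback.fst f₀ g₁ (pullback.fst f₁ g w)) = x
    rw [hw1, hy1]; rfl
  · simp only [a, Category.assoc, ← hf₀, pullback.condition_assoc, f₁]


end Groth.Agent.S1361
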