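import Groth.Statements.S13610
import Groth.Agent.L28.Noeth.Connected

set_option autoImplicit false
open CategoryTheory CategoryTheory.Limits AlgebraicGeometry Opposite
universe u
open EtModW

namespace Groth.Agent.S13610

/-- On a connected Noetherian scheme X, with Λ a Noetherian coefficient ring, consider an inverse system
(F_n) of sheaves of Λ-modules on the small etale site of X all of whose members are finite-type
locally constant (etale-locally constant with finitely generated value). Then, for every pair of
geometric points s, s' of X, the two inverse systems of stalks (F_n,s)_n and (F_n,s')_n are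
isomorphic as ℕ-indexed systems of Λ-modules. (Existence of an isomorphism of systems only; in the
published statement the isomorphisms are composites of specialization maps and their inverses.) -/
theorem result
    (Λ : Type (u + 1)) [CommRing Λ] [IsNoetherianRing Λ]
    (X : Scheme.{u}) [IsNoetherian X] [ConnectedSpace X]
    (F : ℕᵒᵖ ⥤ EtModW.Mod Λ X) (hF : ∀ n : ℕ, EtModW.IsFTLocConst Λ (F.obj (op n)))
    {Ω : Type u} [Field Ω] [IsSepClosed Ω] (s : Spec (CommRingCat.of Ω) ⟶ X)
    {Ω' : Type u} [Field Ω'] [IsSepClosed Ω'] (s' : Spec (CommRingCat.of Ω') ⟶ X) :
    Nonempty ((F ⋙ EtModW.stalk Λ s) ≅ (F ⋙ EtModW.stalk Λ s')) := by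
  exact Groth.L28.Noeth.nonempty_iso_of_connected hF s s'

end Groth.Agent.S13610
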