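import Groth.Statements.S13614
import Groth.Agent.L28.Strata.EtMod
import Groth.Agent.L28.Pts.Linear

set_option autoImplicit false
open CategoryTheory CategoryTheory.Limits AlgebraicGeometry Opposite
universe u
open EtModW

namespace Groth.Agent.S13614

/-- Let f : X' → X be a morphism of Noetherian schemes, Λ a Noetherian ring, I an ideal of Λ and F =
(F_n) an inverse system of constructible sheaves of Λ-modules on the small etale site of X which is
AR I-adic: I^(n+1) F_n = 0 for all n and F receives a morphism with kernel and cokernel null up to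
translation from an I-adic system of constructible sheaves. Then the system of pullbacks (f^* F_n)_n
on X' is AR I-adic in the same sense. -/
theorem result
    (Λ : Type (u + 1)) [CommRing Λ] [IsNoetherianRing Λ] (I : Ideal Λ)
    {X X' : Scheme.{u}} [IsNoetherian X] [IsNoetherian X'] (f : X' ⟶ X)
    (F : ARSys.PS (EtModW.Mod Λ X)) (hc : ∀ n : ℕ, EtModW.IsConstructible Λ (F.obj (op n)))
    (hF : (ARSys.TermKilled I F ∧ ∃ (Y : ARSys.PS (EtModW.Mod Λ X)) (v : Y ⟶ F), ARSys.IsAdic I Y ∧ (∀ n : ℕ, EtModW.IsConstructible Λ (Y.obj (op n))) ∧ ARSys.IsARIso v)) :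
    (ARSys.TermKilled I (F ⋙ EtModW.pull Λ f) ∧ ∃ (Y : ARSys.PS (EtModW.Mod Λ X')) (v : Y ⟶ (F ⋙ EtModW.pull Λ f)), ARSys.IsAdic I Y ∧ (∀ n : ℕ, EtModW.IsConstructible Λ (Y.obj (op n))) ∧ ARSys.IsARIso v) := by
  obtain ⟨hk, Y, v, hY, hYc, hv⟩ := hF
  haveI := Groth.L28.Strata.preservesFiniteLimits_pullMod (Λ := Λ) f
  exact ⟨Groth.L28.AR.termKilled_comp (EtModW.pull Λ f) hk, Y ⋙ EtModW.pull Λ f,
    Functor.whiskerRight v (EtModW.pull Λ f),
    Groth.L28.AR.isAdic_comp (EtModW.pull Λ f) (Groth.L28.Strata.pullPushAdjMod f) hY,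
    fun n => Groth.L28.Strata.isConstructibleMod_pull f (hYc n),
    Groth.L28.AR.isARIso_whiskerRight (EtModW.pull Λ f) hv⟩

end Groth.Agent.S13614
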