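import Groth.Statements.S13622
import Mathlib.RingTheory.AdicCompletion.Completeness
import Mathlib.RingTheory.AdicCompletion.Algebra
import Mathlib.RingTheory.Finiteness.Basic
import Mathlib.Data.Nat.Basic

set_option autoImplicit false
universe u v
open CAlg

namespace Groth.Agent.S13622

/-- Let A be a commutative ring, I a finitely generated ideal and (M_n) an inverse system of finitely
generated A-modules whose transition maps f_n : M_(n+1) → M_n are surjective with kernel I^(n+1)
M_(n+1), and with I^(n+1) M_n = 0 for all n. If L is an inverse limit of the system (projections π_n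
compatible with the f_n, jointly injective, every compatible family lifting to L), endowed with a
module structure over the I-adic completion A^ of A that is compatible with its A-module structure,
then L is finitely generated as an A^-module. No completeness of A is assumed. -/
theorem result
    (A : Type u) [CommRing A] (I : Ideal A) (hI : I.FG)
    (M : ℕ → Type v) [∀ n, AddCommGroup (M n)] [∀ n, Module A (M n)] [∀ n, Module.Finite A (M n)]
    (f : ∀ n, M (n + 1) →ₗ[A] M n) (hf : ∀ n, Function.Surjective (f n))
    (hker : ∀ n, LinearMap.ker (f n) = I ^ (n + 1) • (⊤ : Submodule A (M (n + 1))))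
    (hkill : ∀ n, I ^ (n + 1) • (⊤ : Submodule A (M n)) = ⊥)
    (L : Type v) [AddCommGroup L] [Module A L] (π : ∀ n, L →ₗ[A] M n)
    (hπ : ∀ n, f n ∘ₗ π (n + 1) = π n)
    (hinj : ∀ x : L, (∀ n, π n x = 0) → x = 0)
    (hlift : ∀ y : (∀ n, M n), (∀ n, f n (y (n + 1)) = y n) → ∃ x : L, ∀ n, π n x = y n)
    [Module (AdicCompletion I A) L] [IsScalarTower A (AdicCompletion I A) L] :
    Module.Finite (AdicCompletion I A) L := by
  classical
  have hsurj : ∀ n, Function.Surjective (π n) := by
    intro n z
    have hstep : ∀ j (w : M j), ∃ w' : M (j + 1), f j w' = w := fun j w => hf j w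
    choose up hup using hstep
    let down : ∀ j, j ≤ n → M j := fun j hj =>
      Nat.decreasingInduction (motive := fun j _ => M j) (fun j _ w => f j w) z hj
    let y : ∀ j, M j := fun j =>
      if hj : j ≤ n then down j hj else Nat.leRec (motive := fun j _ => M j) z (fun j _ w => up j w) (Nat.le_of_not_le hj)
    obtain ⟨x, hx⟩ := hlift y (fun j => by
      by_cases hj : j + 1 ≤ n
      · simp only [y, dif_pos hj, dif_pos (Nat.le_of_succ_le hj), down]
        exact (Nat.decreasingInduction_succ_left (motive := fun j _ => M j) (fun j _ w => f j w) z hj _).symm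
      · by_cases hj' : j ≤ n
        · obtain rfl : j = n := by omega
          simp only [y, dif_neg hj, dif_pos le_rfl, down, Nat.decreasingInduction_self]
          rw [Nat.leRec_succ _ _ le_rfl, Nat.leRec_self, hup]
        · simp only [y, dif_neg hj, dif_neg hj']
          rw [Nat.leRec_succ _ _ (Nat.le_of_not_le hj'), hup])
    exact ⟨x, by rw [hx n]; simp [y, down]⟩
  obtain ⟨k, m, hm⟩ := Module.Finite.exists_fin (R := A) (M := M 0)
  choose g hg using fun i => hsurj 0 (m i)
  have hcomp : ∀ n x, f n (π (n + 1) x) = π n x := fun n x => LinearMap.congr_fun (hπ n) x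
  have hgen : ∀ n, Submodule.span A (Set.range fun i => π n (g i)) = ⊤ := by
    intro n
    induction n with
    | zero => simp only [hg]; exact hm
    | succ n ih =>
      set W := Submodule.span A (Set.range fun i => π (n + 1) (g i)) with hW
      have h1 : W ⊔ I ^ (n + 1) • ⊤ = ⊤ := by
        rw [← hker, ← Submodule.comap_map_eq, hW, Submodule.map_span, ← Set.range_comp]
        rw [show (f n ∘ fun i => π (n + 1) (g i)) = fun i => π n (g i) from funext fun i => hcomp n (g i),
          ih, Submodule.comap_top]
      have h2 : I ^ (n + 1) • (⊤ : Submodule A (M (n + 1))) ≤ W := by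
        conv_lhs => rw [← h1, Submodule.smul_sup, ← Submodule.smul_assoc, smul_eq_mul, ← pow_add]
        refine sup_le Submodule.smul_le_right ?_
        refine le_trans (le_trans (Submodule.smul_mono_left
          (Ideal.pow_le_pow_right (by omega : n + 1 + 1 ≤ n + 1 + (n + 1)))) (hkill (n + 1)).le) bot_le
      exact top_le_iff.1 (h1 ▸ sup_le le_rfl h2)
  refine ⟨⟨Finset.univ.image g, ?_⟩⟩
  rw [Finset.coe_image, Finset.coe_univ, Set.image_univ, eq_top_iff]
  intro x _
  rw [Submodule.mem_span_range_iff_exists_fun]
  have hstep : ∀ n (c : Fin k → A), π n (∑ i, c i • g i) = π n x →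
      ∃ c' : Fin k → A, π (n + 1) (∑ i, c' i • g i) = π (n + 1) x ∧ ∀ i, c' i - c i ∈ I ^ (n + 1) := by
    intro n c hc
    have h : π (n + 1) (x - ∑ i, c i • g i) ∈ I ^ (n + 1) • Submodule.span A (Set.range fun i => π (n + 1) (g i)) := by
      rw [hgen, ← hker, LinearMap.mem_ker, hcomp, map_sub, hc, sub_self]
    obtain ⟨b, hb, hbx⟩ := (Submodule.mem_ideal_smul_span_iff_exists_sum _ _ _).1 h
    rw [Finsupp.sum_fintype b (fun i c => c • π (n + 1) (g i)) (fun _ => zero_smul _ _)] at hbx
    refine ⟨fun i => c i + b i, ?_, fun i => by simpa using hb i⟩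
    rw [map_sub, map_sum, eq_sub_iff_add_eq] at hbx
    rw [map_sum, ← hbx, ← Finset.sum_add_distrib]
    exact Finset.sum_congr rfl fun i _ => by rw [add_smul, map_add, map_smul, map_smul]; abel
  obtain ⟨c₀, hc₀⟩ : ∃ c : Fin k → A, π 0 (∑ i, c i • g i) = π 0 x := by
    obtain ⟨c, hc⟩ := (Submodule.mem_span_range_iff_exists_fun A).1
      ((hgen 0).ge (Submodule.mem_top : π 0 x ∈ _))
    exact ⟨c, by rw [map_sum, ← hc]; simp only [map_smul]⟩
  choose next hnext hnext' using hstep
  let C : ∀ n, {c : Fin k → A // π n (∑ i, c i • g i) = π n x} := fun n =>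
    Nat.rec ⟨c₀, hc₀⟩ (fun j c => ⟨next j c.1 c.2, hnext j c.1 c.2⟩) n
  let s : Fin k → ℕ → A := fun i n => (C (n - 1)).1 i
  have hs : ∀ i n, s i n ≡ s i (n + 1) [SMOD (I ^ n • ⊤ : Submodule A A)] := by
    intro i n
    rw [SModEq.sub_mem, smul_eq_mul, Ideal.mul_top]
    cases n with
    | zero => simp
    | succ j =>
      rw [← neg_sub, neg_mem_iff]
      exact hnext' j (C j).1 (C j).2 i
  let a : Fin k → AdicCompletion I A := fun i =>
    AdicCompletion.mk I A (AdicCompletion.AdicCauchySequence.mk I A (s i) (hs i))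
  refine ⟨a, ?_⟩
  rw [← sub_eq_zero]
  refine hinj _ fun n => ?_
  rw [map_sub, sub_eq_zero, ← (C n).2, map_sum, map_sum]
  refine Finset.sum_congr rfl fun i _ => ?_
  rw [← sub_eq_zero, ← map_sub, ← algebraMap_smul (AdicCompletion I A) ((C n).1 i) (g i), ← sub_smul]
  have hmem : a i - algebraMap A (AdicCompletion I A) ((C n).1 i) ∈
      I ^ (n + 1) • (⊤ : Submodule A (AdicCompletion I A)) := by
    rw [AdicCompletion.pow_smul_top_eq_ker_eval hI, LinearMap.mem_ker, map_sub, sub_eq_zero]
    rfl
  refine Submodule.smul_induction_on hmem (fun r hr t _ => ?_) (fun u v hu hv => by rw [add_smul, map_add, hu, hv, add_zero])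
  rw [smul_assoc, map_smul]
  exact (Submodule.eq_bot_iff _).1 (hkill n) _ (Submodule.smul_mem_smul hr Submodule.mem_top)

end Groth.Agent.S13622
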