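import Groth.Statements.S13623
import Mathlib.RingTheory.GradedAlgebra.Basic
import Mathlib.FieldTheory.IsAlgClosed.AlgebraicClosure
import Mathlib.RingTheory.TensorProduct.Maps
import Mathlib.RingTheory.Nakayama
import Mathlib.LinearAlgebra.Dual.Lemmas
import Mathlib.Algebra.Module.Torsion.Basic

set_option autoImplicit false
universe u
open TensorProduct
open CAlg

namespace Groth.Agent.S13623

/-- Let A be a commutative ring and B a commutative A-algebra, graded by A-submodules B_m (m ≥ 0)
forming a graded-algebra structure, such that every B_m is a finitely generated A-module. If for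
every algebraically closed field k and every A-algebra structure on k the k-algebra k ⊗_A B is
generated by the image of B_1 under b ↦ 1 ⊗ b, then its degree-one part B_1 generates the A-algebra
B. (Algebraically closed fields are taken in the universe of A.) -/
theorem result
    (A : Type u) [CommRing A] (B : Type u) [CommRing B] [Algebra A B]
    (𝒜 : ℕ → Submodule A B) [GradedAlgebra 𝒜]
    (hfin : ∀ m : ℕ, Module.Finite A (𝒜 m))
    (hgen : ∀ (k : Type u) [Field k] [IsAlgClosed k] [Algebra A k],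
      Algebra.adjoin k ((Algebra.TensorProduct.includeRight : B →ₐ[A] k ⊗[A] B) '' (𝒜 1 : Set B)) = ⊤) :
    Algebra.adjoin A (𝒜 1 : Set B) = ⊤ := by
  classical
  set A' := Algebra.adjoin A (𝒜 1 : Set B) with hA'
  have hmon : ∀ b ∈ Submonoid.closure (𝒜 1 : Set B), ∃ m, b ∈ 𝒜 m := fun b hb => by
    induction hb using Submonoid.closure_induction with
    | mem x hx => exact ⟨1, hx⟩
    | one => exact ⟨0, SetLike.one_mem_graded 𝒜⟩
    | mul x y _ _ hx hy =>
      obtain ⟨i, hi⟩ := hx
      obtain ⟨j, hj⟩ := hy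
      exact ⟨i + j, SetLike.mul_mem_graded hi hj⟩
  have hsub : ∀ b ∈ Submonoid.closure (𝒜 1 : Set B), b ∈ A' := fun b hb =>
    (Submonoid.closure_le (S := A'.toSubmonoid)).mpr Algebra.subset_adjoin hb
  have hproj : ∀ m, ∀ b ∈ A', GradedAlgebra.proj 𝒜 m b ∈ A' := by
    intro m b hb
    have hb' : b ∈ Submodule.span A (Submonoid.closure (𝒜 1 : Set B) : Set B) := by
      rw [← Algebra.adjoin_eq_span]; exact hb
    induction hb' using Submodule.span_induction with
    | mem x hx =>
      obtain ⟨i, hi⟩ := hmon x hx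
      rw [GradedAlgebra.proj_apply]
      rcases eq_or_ne i m with rfl | h
      · rw [DirectSum.decompose_of_mem_same 𝒜 hi]; exact hsub x hx
      · rw [DirectSum.decompose_of_mem_ne 𝒜 hi h]; exact A'.zero_mem
    | zero => rw [map_zero]; exact A'.zero_mem
    | add x y hx hy ihx ihy =>
      rw [map_add]
      refine A'.add_mem (ihx ?_) (ihy ?_) <;> (show _ ∈ Subalgebra.toSubmodule A'; rw [Algebra.adjoin_eq_span]; assumption)
    | smul c x hx ih =>
      rw [map_smul]
      exact A'.smul_mem (ih (show x ∈ Subalgebra.toSubmodule A' by rw [Algebra.adjoin_eq_span]; assumption)) c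
  have hdeg : ∀ m, ∀ b ∈ 𝒜 m, b ∈ A' := by
    intro m
    haveI := hfin m
    let N : Submodule A (𝒜 m) := (Subalgebra.toSubmodule A').comap (𝒜 m).subtype
    suffices hN : N = ⊤ from fun b hb => (show (⟨b, hb⟩ : 𝒜 m) ∈ N from hN ▸ Submodule.mem_top)
    by_contra hN
    let M := (𝒜 m) ⧸ N
    haveI : Nontrivial M := Submodule.Quotient.nontrivial_iff.mpr hN
    have hann : Module.annihilator A M ≠ ⊤ := fun h => by
      obtain ⟨x, hx⟩ := exists_ne (0 : M)
      exact hx (by rw [← one_smul A x]; exact Module.mem_annihilator.mp (h ▸ Submodule.mem_top) x)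
    obtain ⟨P, hP, hPle⟩ := Ideal.exists_le_maximal _ hann
    haveI := hP
    have hne : (P • (⊤ : Submodule A M)) ≠ ⊤ := fun h => by
      obtain ⟨r, hr, hrM⟩ := Submodule.exists_sub_one_mem_and_smul_eq_zero_of_fg_of_le_smul P (⊤ : Submodule A M) Module.Finite.fg_top h.ge
      refine hP.ne_top ((Ideal.eq_top_iff_one _).mpr ?_)
      have h2 := P.sub_mem (hPle (Module.mem_annihilator.mpr fun x => hrM x Submodule.mem_top)) hr
      simpa using h2
    letI := Ideal.Quotient.field P
    let V := M ⧸ P • (⊤ : Submodule A M)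
    haveI : Nontrivial V := Submodule.Quotient.nontrivial_iff.mpr hne
    obtain ⟨v, hv⟩ := exists_ne (0 : V)
    obtain ⟨φ, hφ⟩ := Module.Projective.exists_dual_ne_zero (A ⧸ P) hv
    let k := AlgebraicClosure (A ⧸ P)
    let pr : B →ₗ[A] (𝒜 m) := (GradedAlgebra.proj 𝒜 m).codRestrict _ fun b => by
      rw [GradedAlgebra.proj_apply]; exact (DirectSum.decompose 𝒜 b m).2
    let ψ : B →ₗ[A] k := (Algebra.linearMap (A ⧸ P) k).restrictScalars A ∘ₗ φ.restrictScalars A ∘ₗ
      (P • (⊤ : Submodule A M)).mkQ ∘ₗ N.mkQ ∘ₗ pr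
    have hψA : ∀ b ∈ A', ψ b = 0 := fun b hb => by
      have h0 : N.mkQ (pr b) = 0 := (Submodule.Quotient.mk_eq_zero N).mpr (hproj m b hb)
      simp only [ψ, LinearMap.comp_apply]
      rw [h0, map_zero, map_zero, map_zero]
    let Ψ : TensorProduct A k B →ₗ[k] k := ψ.liftBaseChange k
    have hΨ : ∀ z ∈ Algebra.adjoin k ((Algebra.TensorProduct.includeRight : B →ₐ[A] TensorProduct A k B) '' (𝒜 1 : Set B)), Ψ z = 0 := by
      intro z hz
      have hz' : z ∈ Subalgebra.toSubmodule (Algebra.adjoin k ((Algebra.TensorProduct.includeRight : B →ₐ[A] TensorProduct A k B) '' (𝒜 1 : Set B))) := hz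
      rw [Algebra.adjoin_eq_span] at hz'
      refine (Submodule.span_le (p := LinearMap.ker Ψ)).mpr ?_ hz'
      intro w hw
      rw [SetLike.mem_coe, ← MonoidHom.map_mclosure (Algebra.TensorProduct.includeRight : B →ₐ[A] TensorProduct A k B)] at hw
      obtain ⟨b, hb, rfl⟩ := hw
      show Ψ ((1 : k) ⊗ₜ[A] b) = 0
      simp only [Ψ, LinearMap.liftBaseChange_tmul, one_smul]
      exact hψA b (hsub b hb)
    obtain ⟨x, hx⟩ := Submodule.Quotient.mk_surjective _ v
    obtain ⟨y, hy⟩ := Submodule.Quotient.mk_surjective _ x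
    have h1 := hΨ ((1 : k) ⊗ₜ[A] (y : B)) (by rw [hgen k]; exact Algebra.mem_top)
    simp only [Ψ, LinearMap.liftBaseChange_tmul, one_smul] at h1
    refine hφ ((map_eq_zero_iff (algebraMap (A ⧸ P) k) (RingHom.injective _)).mp ?_)
    rw [← h1]
    have hpr : pr (y : B) = y := Subtype.ext (by
      show GradedAlgebra.proj 𝒜 m (y : B) = y
      rw [GradedAlgebra.proj_apply, DirectSum.decompose_of_mem_same 𝒜 y.2])
    subst hx hy
    simp only [ψ, LinearMap.comp_apply, hpr]
    rfl
  rw [eq_top_iff]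
  intro b _
  rw [← DirectSum.sum_support_decompose 𝒜 b]
  exact A'.sum_mem fun m _ => hdeg m _ (DirectSum.decompose 𝒜 b m).2

end Groth.Agent.S13623
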