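import Groth.Statements.S13624
import Groth.Agent.L21.GorOpen.Main

set_option autoImplicit false
universe u
open CategoryTheory CategoryTheory.Limits AlgebraicGeometry Opposite
open Goren

namespace Groth.Agent.S13624

/-- Let f : X → Y be a proper, flat morphism of schemes which is locally of finite presentation. Then
the set of points y of Y whose scheme-theoretic fibre X_y = X ×_Y Spec κ(y) is a Gorenstein scheme
(every local ring of X_y is a Gorenstein local ring) is open in Y. -/
theorem result (X Y : Scheme.{u}) (f : X ⟶ Y)
    [IsProper f] [Flat f] [LocallyOfFinitePresentation f] :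
    IsOpen {y : Y | ∀ x : ↥(f.fiber y), LocCoh.IsGorensteinLocalRing ((f.fiber y).presheaf.stalk x)} := by
  have key : ∀ (x : X) (y : Y) (z : ↥(f.fiber y)), f.fiberι y z = x → f x = y → Dual3.IsGorensteinAt f x →
      LocCoh.IsGorensteinLocalRing ((f.fiber y).presheaf.stalk z) := by
    intro x y z hx hy hg
    subst hy
    have : z = f.asFiber x := (f.fiberι (f x)).isEmbedding.injective (hx.trans (f.fiberι_asFiber x).symm)
    rw [this]
    exact hg.2
  have h : {y : Y | ∀ x : ↥(f.fiber y), LocCoh.IsGorensteinLocalRing ((f.fiber y).presheaf.stalk x)} =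
      (⇑f '' {x | Dual3.IsGorensteinAt f x}ᶜ)ᶜ := by
    ext y
    simp only [Set.mem_setOf_eq, Set.mem_compl_iff, Set.mem_image, not_exists, not_and]
    constructor
    · rintro hy x hx rfl
      exact hx ⟨Flat.stalkMap f x, hy _⟩
    · intro hy z
      have hz : f (f.fiberι y z) = y := by
        have : f.fiberι y z ∈ Set.range (f.fiberι y) := ⟨z, rfl⟩
        rwa [f.range_fiberι y] at this
      exact key _ y z rfl hz (by_contra fun hne => hy _ hne hz)
  rw [h]
  exact (f.isClosedMap _ (Groth.L21.GorOpen.isOpen_gorenstein f).isClosed_compl).isOpen_compl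

end Groth.Agent.S13624
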