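import Groth.Statements.S13626
import Groth.Agent.L17.AffinePush
import Groth.Agent.L17.ToAbRpush
import Groth.Agent.L17.ProjFormula
import Groth.Agent.L17.ClosedPush
import Groth.Agent.L22.Inter.PushProper
-- import your own Groth.Agent.* helpers here

set_option autoImplicit false
universe u
open CategoryTheory CategoryTheory.Limits AlgebraicGeometry
open Coh

namespace Groth.Agent.S13626

/-- Let f : X → Y be a morphism of schemes with R^i f_* O_X = 0 for every i ≥ 1 and f_* O_X ≅ O_Y. Then
for every invertible O_Y-module L and every p ≥ 0 the groups H^p(X, f^* L) and H^p(Y, L) are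
isomorphic (existence of a group isomorphism; the higher direct images are the right derived
functors of f_* on O_X-modules, under the instance argument recording that O_X-modules have
injective resolutions). -/
theorem result
    {X Y : Scheme.{u}} (f : X ⟶ Y) [HasInjectiveResolutions X.Modules]
    (hR : ∀ i : ℕ, IsZero ((Coh.Rpush f (i + 1)).obj (Coh.structureModule X)))
    (h0 : Nonempty ((Coh.push f).obj (Coh.structureModule X) ≅ Coh.structureModule Y))
    (L : Y.Modules) (hL : PicF.IsInvertible L) (p : ℕ) :
    Nonempty (Coh.HH X ((Scheme.Modules.pullback f).obj L) p ≃+ Coh.HH Y L p) := by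
  let M := (Scheme.Modules.pullback f).obj L
  have hLf := Groth.L16.Existence.isFinLocFree_of_isInvertible hL
  have hM : ∀ i : ℕ, IsZero ((Coh.Rpush f (i + 1)).obj M) := fun i => by
    obtain ⟨e⟩ := Groth.L17.ProjFormula.nonempty_Rpush_iso f L (Coh.structureModule X) hLf (i + 1)
    refine IsZero.of_iso (IsZero.of_iso ?_ e.symm)
      ((Coh.Rpush f (i + 1)).mapIso (Groth.L00.Tensor.tensorUnitRight M).symm)
    exact (Groth.L00.Tensor.tensorLeftF L).map_isZero (hR i)
  have hloc : Groth.L10.SiteCoh.LocAcyclic (Opens.grothendieckTopology Y) (TopologicalSpace.Opens.map f.base) (Coh.toAb M) := by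
    refine (Groth.L10.SiteCoh.isZero_Rpush_succ_iff (Opens.grothendieckTopology Y) (TopologicalSpace.Opens.map f.base) (Coh.toAb M)).1 fun q => ?_
    obtain ⟨e⟩ := Groth.L17.nonempty_toAb_Rpush_iso f M (q + 1)
    exact IsZero.of_iso ((SheafOfModules.toSheaf Y.ringCatSheaf).map_isZero (hM q)) e.symm
  obtain ⟨e1⟩ := Groth.L10.TopCoh.nonempty_H_push (Y := Y.toTopCat) f.base (Coh.toAb M) hloc p
  haveI := Groth.L17.ProjFormula.isIso_θ f L (Coh.structureModule X) hLf
  obtain ⟨e0⟩ := h0
  let e2 : (Coh.push f).obj M ≅ L :=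
    (Scheme.Modules.pushforward f).mapIso (Groth.L00.Tensor.tensorUnitRight M).symm ≪≫
      (asIso (Groth.L17.ClosedPush.θ f (Coh.structureModule X) L)).symm ≪≫
      Groth.L00.Tensor.tensorIso (Iso.refl L) e0 ≪≫ Groth.L00.Tensor.tensorUnitRight L
  exact ⟨e1.trans
    { toFun := Groth.L16.CohLinear.hmap e2.hom p
      invFun := Groth.L16.CohLinear.hmap e2.inv p
      left_inv := fun x => by rw [← Groth.L16.CohLinear.hmap_comp, e2.hom_inv_id, Groth.L16.CohLinear.hmap_id]
      right_inv := fun x => by rw [← Groth.L16.CohLinear.hmap_comp, e2.inv_hom_id, Groth.L16.CohLinear.hmap_id]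
      map_add' := map_add _ }⟩

end Groth.Agent.S13626
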