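import Groth.Statements.S13627
import Groth.Agent.L20.GeomFibre
import Mathlib.FieldTheory.IsAlgClosed.AlgebraicClosure

set_option autoImplicit false
set_option maxSynthPendingDepth 3
set_option backward.isDefEq.respectTransparency.types false
set_option backward.isDefEq.respectTransparency false
set_option linter.style.haveILetI false
universe u
open CategoryTheory CategoryTheory.Limits AlgebraicGeometry Opposite
open FBase

namespace Groth.Agent.S13627

/-- Let P be a property of schemes over fields, invariant under isomorphisms of schemes over the base
field and ascending along every field extension k → K (if Z over k has P then Z ×_k Spec K over K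
has P). For a morphism of schemes f : X → T, these conditions are equivalent: (1) for every
algebraically closed field k and every morphism Spec k → T the fibre X ×_T Spec k has P over k; (2)
for every point t of T the fibre of f over Spec of an algebraic closure of the residue field κ(t)
has P. (Fields are taken in the universe of the schemes. The published statement also treats a
morphism from an algebraic space X to a scheme T; this row treats morphisms of schemes.) -/
theorem result
    (P : ∀ (k : Type u) [Field k] (Z : Scheme.{u}), (Z ⟶ Spec (CommRingCat.of k)) → Prop)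
    (hiso : ∀ (k : Type u) [Field k] (Z Z' : Scheme.{u}) (e : Z ≅ Z') (g : Z' ⟶ Spec (CommRingCat.of k)),
      P k Z' g → P k Z (e.hom ≫ g))
    (hext : ∀ (k K : Type u) [Field k] [Field K] (i : k →+* K) (Z : Scheme.{u}) (g : Z ⟶ Spec (CommRingCat.of k)),
      P k Z g → P K (pullback g (Spec.map (CommRingCat.ofHom i))) (pullback.snd g (Spec.map (CommRingCat.ofHom i))))
    {X T : Scheme.{u}} (f : X ⟶ T) :
    (∀ (k : Type u) [Field k] [IsAlgClosed k] (σ : Spec (CommRingCat.of k) ⟶ T),
        P k (pullback f σ) (pullback.snd f σ)) ↔
      ∀ t : T, P (AlgebraicClosure ↥(T.residueField t))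
        (pullback f (Spec.map (CommRingCat.ofHom (algebraMap ↥(T.residueField t) (AlgebraicClosure ↥(T.residueField t)))) ≫
          T.fromSpecResidueField t))
        (pullback.snd f (Spec.map (CommRingCat.ofHom (algebraMap ↥(T.residueField t) (AlgebraicClosure ↥(T.residueField t)))) ≫
          T.fromSpecResidueField t)) := by
  refine ⟨fun h t => h _ _, fun h k _ _ σ => ?_⟩
  obtain ⟨⟨t, φ⟩, rfl⟩ := (Scheme.SpecToEquivOfField k T).symm.surjective σ
  letI : Algebra (T.residueField t) k := φ.hom.toAlgebra
  let j : AlgebraicClosure ↥(T.residueField t) →ₐ[T.residueField t] k := IsAlgClosed.lift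
  let a := Spec.map (CommRingCat.ofHom (algebraMap ↥(T.residueField t) (AlgebraicClosure ↥(T.residueField t)))) ≫
    T.fromSpecResidueField t
  let b := Spec.map (CommRingCat.ofHom j.toRingHom)
  have hb : b ≫ a = Spec.map φ ≫ T.fromSpecResidueField t := by
    rw [← Category.assoc, ← Spec.map_comp, ← CommRingCat.ofHom_comp,
      show j.toRingHom.comp (algebraMap _ (AlgebraicClosure ↥(T.residueField t))) = algebraMap _ k from j.comp_algebraMap]
    rfl
  show P k (pullback f (Spec.map φ ≫ T.fromSpecResidueField t)) (pullback.snd f (Spec.map φ ≫ T.fromSpecResidueField t))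
  let e : pullback f (Spec.map φ ≫ T.fromSpecResidueField t) ≅ pullback (pullback.snd f a) b :=
    pullback.congrHom rfl hb.symm ≪≫ (pullbackLeftPullbackSndIso f a b).symm
  have h1 := hiso k _ _ e _ (hext _ k j.toRingHom _ _ (h t))
  have he : e.hom ≫ pullback.snd (pullback.snd f a) b = pullback.snd f (Spec.map φ ≫ T.fromSpecResidueField t) := by
    simp [e]
  exact he ▸ h1

end Groth.Agent.S13627
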