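import Groth.Statements.S13628
import Groth.Agent.L20.GeomFibre
import Mathlib.FieldTheory.IsAlgClosed.AlgebraicClosure

set_option autoImplicit false
set_option maxSynthPendingDepth 3
set_option backward.isDefEq.respectTransparency.types false
set_option backward.isDefEq.respectTransparency false
set_option linter.style.haveILetI false
universe u
open CategoryTheory CategoryTheory.Limits AlgebraicGeometry Opposite
open FBase

namespace Groth.Agent.S13628

/-- Let P be a property of schemes over fields, invariant under isomorphisms of schemes over the base
field and invariant in both directions under every field extension k → K (Z over k has P if and only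
if Z ×_k Spec K over K has P). Let f : X → T be a morphism of schemes, h : T' → T a surjective
morphism of schemes and f' : X' → T' a base change of f along h. If for every algebraically closed
field k and every Spec k → T' the fibre X' ×_{T'} Spec k has P, then for every algebraically closed
field k and every Spec k → T the fibre X ×_T Spec k has P. (Fields are taken in the universe of the
schemes. The published statement is that families of del Pezzo surfaces form a stack for the étale
topology; this row is the step of its proof that descends the condition on geometric fibres along a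
surjective base change, stated for any fibre property with the invariance above.) -/
theorem result
    (P : ∀ (k : Type u) [Field k] (Z : Scheme.{u}), (Z ⟶ Spec (CommRingCat.of k)) → Prop)
    (hiso : ∀ (k : Type u) [Field k] (Z Z' : Scheme.{u}) (e : Z ≅ Z') (g : Z' ⟶ Spec (CommRingCat.of k)),
      P k Z' g → P k Z (e.hom ≫ g))
    (hext : ∀ (k K : Type u) [Field k] [Field K] (i : k →+* K) (Z : Scheme.{u}) (g : Z ⟶ Spec (CommRingCat.of k)),
      P k Z g ↔ P K (pullback g (Spec.map (CommRingCat.ofHom i))) (pullback.snd g (Spec.map (CommRingCat.ofHom i))))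
    {X T X' T' : Scheme.{u}} (f : X ⟶ T) (h : T' ⟶ T) [Surjective h] (f' : X' ⟶ T') (h' : X' ⟶ X)
    (sq : IsPullback h' f' f h)
    (H : ∀ (k : Type u) [Field k] [IsAlgClosed k] (σ' : Spec (CommRingCat.of k) ⟶ T'),
        P k (pullback f' σ') (pullback.snd f' σ'))
    (k : Type u) [Field k] [IsAlgClosed k] (σ : Spec (CommRingCat.of k) ⟶ T) :
    P k (pullback f σ) (pullback.snd f σ) := by
  obtain ⟨⟨t, φ⟩, rfl⟩ := (Scheme.SpecToEquivOfField k T).symm.surjective σ
  obtain ⟨t', rfl⟩ := h.surjective t
  let ψ := h.residueFieldMap t'
  obtain ⟨M₀, _, a', b', hab⟩ := Groth.L20.exists_field_over _ k _ φ.hom ψ.hom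
  let M := AlgebraicClosure M₀
  let a := (algebraMap M₀ M).comp a'
  let σ' : Spec (CommRingCat.of M) ⟶ T' :=
    Spec.map (CommRingCat.ofHom ((algebraMap M₀ M).comp b')) ≫ T'.fromSpecResidueField t'
  let s := Spec.map (CommRingCat.ofHom a)
  have hσ : σ' ≫ h = s ≫ Spec.map φ ≫ T.fromSpecResidueField (h t') := by
    simp only [σ', s, Category.assoc, ← Scheme.Hom.SpecMap_residueFieldMap_fromSpecResidueField]
    simp only [← Category.assoc, ← Spec.map_comp]
    refine congrArg (fun r => Spec.map r ≫ T.fromSpecResidueField (h t')) (CommRingCat.hom_ext ?_)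
    simp only [a, CommRingCat.hom_comp, CommRingCat.hom_ofHom, RingHom.comp_assoc]
    exact congrArg (fun r => (algebraMap M₀ M).comp r) hab.symm
  show P k (pullback f (Spec.map φ ≫ T.fromSpecResidueField (h t'))) (pullback.snd f (Spec.map φ ≫ T.fromSpecResidueField (h t')))
  rw [hext k M a]
  let e1 : pullback (pullback.snd f (Spec.map φ ≫ T.fromSpecResidueField (h t'))) s ≅ pullback f' σ' :=
    pullbackLeftPullbackSndIso f _ s ≪≫ pullback.congrHom rfl hσ.symm ≪≫
      (((IsPullback.of_hasPullback f' σ').flip.paste_vert sq.flip).flip.isoPullback).symm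
  have h1 := hiso M _ _ e1 _ (H M σ')
  have he : e1.hom ≫ pullback.snd f' σ' = pullback.snd (pullback.snd f (Spec.map φ ≫ T.fromSpecResidueField (h t'))) s := by
    simp [e1]
  exact he ▸ h1

end Groth.Agent.S13628
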