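import Groth.Prelude.Def_FGA
import Groth.Prelude.Def_ClSub2
import Mathlib.AlgebraicGeometry.Fiber
import Mathlib.AlgebraicGeometry.Morphisms.FinitePresentation
import Mathlib.Topology.KrullDimension
import Mathlib.Data.Fin.VecNotation
import Groth.Agent.L02.Num.Pull
import Groth.Agent.L08.Cube.Inverse
import Groth.Agent.L17.BC.GenApply
import Groth.Agent.L29.DCoh.RelTor
import Groth.Agent.L18.LocFreeFP
import Groth.Agent.L22.Inter.Fga
import Groth.Agent.L29.DCoh.PCQCoh
import Groth.Agent.L16.Existence.Vanishing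
import Groth.Agent.L21.RR.Coh
import Groth.Agent.L03.Euler.Basic

set_option autoImplicit false
set_option linter.style.haveILetI false
namespace FGA
end FGA
universe u
open CategoryTheory CategoryTheory.Limits AlgebraicGeometry Opposite
open FGA

namespace Groth.Agent.S13629

/-- Let f : X → Y be a proper, flat morphism of schemes, locally of finite presentation, whose
scheme-theoretic fibres X_y all have Krull dimension at most 2, and let L be an invertible
O_X-module with a tensor inverse M (M ⊗ L ≅ O_X). Then the self-intersection number (L_y · L_y) of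
the restriction of L to the fibre X_y over κ(y), namely the alternating sum χ(O_{X_y}) − 2χ(M_y) +
χ(M_y ⊗ M_y) of Euler characteristics in degrees ≤ 2, is a locally constant function of y: every
point y₀ of Y has an open neighbourhood on which it equals its value at y₀. (The published statement
is the case where the fibres are integral normal Gorenstein surfaces and L is the relative dualizing
sheaf, so that the number is the self-intersection K² of the canonical class of the fibre; the fibre
X_y is regarded as a scheme over Spec κ(y) through the second projection.) -/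
theorem result
    {X Y : Scheme.{u}} (f : X ⟶ Y) [IsProper f] [Flat f] [LocallyOfFinitePresentation f]
    (hdim : ∀ y : Y, topologicalKrullDim ↥(f.fiber y) ≤ 2)
    (L M : X.Modules) (hL : PicF.IsInvertible L) (hM : ClSub.IsInverseOf M L) (y₀ : Y) :
    ∃ U : Y.Opens, y₀ ∈ U ∧ ∀ y : Y, y ∈ U →
      @FGA.intNum ↥(Y.residueField y) _ (f.fiber y) ⟨f.fiberToSpecResidueField y⟩ 2 2
            ![(Scheme.Modules.pullback (f.fiberι y)).obj M, (Scheme.Modules.pullback (f.fiberι y)).obj M]
            (Coh.structureModule (f.fiber y)) =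
        @FGA.intNum ↥(Y.residueField y₀) _ (f.fiber y₀) ⟨f.fiberToSpecResidueField y₀⟩ 2 2
            ![(Scheme.Modules.pullback (f.fiberι y₀)).obj M, (Scheme.Modules.pullback (f.fiberι y₀)).obj M]
            (Coh.structureModule (f.fiber y₀)) := by
  obtain ⟨eM⟩ := hM
  obtain ⟨N, hN, ⟨eN⟩⟩ := Groth.L08.Cube.exists_inverse hL
  have hMi : PicF.IsInvertible M := Groth.L18.Ample.isInvertible_of_iso
    ((Groth.L00.Tensor.tensorUnitLeft N).symm ≪≫ Groth.L00.Tensor.tensorIso eM.symm (Iso.refl N) ≪≫
      Groth.L00.Tensor.tensorAssoc M L N ≪≫ Groth.L00.Tensor.tensorIso (Iso.refl M) eN ≪≫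
      Groth.L00.Tensor.tensorUnitRight M) hN
  let T : Finset (Fin 2) → X.Modules := fun I =>
    CohB1.tensorMod (FGA.tensorList ((I.sort (· ≤ ·)).map fun _ => M)) (Coh.structureModule X)
  have hT : ∀ I, PicF.IsInvertible (T I) := fun I => Groth.L18.GenLoc.isInvertible_tensor
    (Groth.L02.Num.isInvertible_tensorList (fun _ => hMi) _) (Groth.L18.Ample.isInvertible_structureModule X)
  have key : ∀ (y : Y) (I : Finset (Fin 2)),
      @FGA.eulerCharLE ↥(Y.residueField y) _ (f.fiber y) ⟨f.fiberToSpecResidueField y⟩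
          (CohB1.tensorMod (FGA.tensorList ((I.sort (· ≤ ·)).map
            ![(Scheme.Modules.pullback (f.fiberι y)).obj M, (Scheme.Modules.pullback (f.fiberι y)).obj M]))
            (Coh.structureModule (f.fiber y))) 2 =
        ∑ i ∈ Finset.range 3, (-1 : ℤ) ^ i * (CohIII.fiberRank f (T I) i y : ℤ) := by
    intro y I
    letI : (f.fiber y).Over (Spec (CommRingCat.of (Y.residueField y))) := ⟨f.fiberToSpecResidueField y⟩
    refine Finset.sum_congr rfl fun i _ => congrArg (fun n : ℕ => (-1 : ℤ) ^ i * (n : ℤ)) ?_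
    have hl : (![(Scheme.Modules.pullback (f.fiberι y)).obj M, (Scheme.Modules.pullback (f.fiberι y)).obj M]) =
        fun _ : Fin 2 => (Scheme.Modules.pullback (f.fiberι y)).obj M := funext fun j => by fin_cases j <;> rfl
    rw [hl]
    obtain ⟨e⟩ := Groth.L02.Num.nonempty_pullback_tensorList (f.fiberι y) (fun _ => M) (I.sort (· ≤ ·))
    exact Groth.L03.Euler.finrank_HH_of_iso
      (Groth.L00.Tensor.tensorIso e (Groth.L29.LocFree.pullbackUnitIso (f.fiberι y)).symm ≪≫
        Groth.L29.DC.PullTensor.pullTensor (f.fiberι y) _ _) i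
  have hdim0 : ∀ (I : Finset (Fin 2)) (y : Y) (i : ℕ), 3 ≤ i → CohIII.fiberRank f (T I) i y = 0 := by
    intro I y i hi
    letI : (f.fiber y).Over (Spec (CommRingCat.of (Y.residueField y))) := ⟨f.fiberToSpecResidueField y⟩
    haveI : IsProper ((f.fiber y) ↘ Spec (CommRingCat.of (Y.residueField y))) :=
      MorphismProperty.pullback_snd (P := @IsProper) f (Y.fromSpecResidueField y) inferInstance
    haveI := Groth.L21.RR.isNoetherian_of_proper (X := f.fiber y) (Y.residueField y)
    haveI : Subsingleton (CohIII.fiberH f (T I) y i) :=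
      Groth.L22.Inter.subsingleton_HH_of_dim (d := 2) (by exact_mod_cast hdim y) _ (by omega)
    exact Module.finrank_zero_of_subsingleton
  have hev : ∀ I, ∀ᶠ y in nhds y₀, ∑ i ∈ Finset.range 3, (-1 : ℤ) ^ i * (CohIII.fiberRank f (T I) i y : ℤ) =
      ∑ i ∈ Finset.range 3, (-1 : ℤ) ^ i * (CohIII.fiberRank f (T I) i y₀ : ℤ) := by
    intro I
    have hfree := Groth.L16.Existence.isFinLocFree_of_isInvertible (hT I)
    haveI : Coh.IsQCoh (T I) := Groth.L29.DC.PCQCoh.isQCoh_of_isFinLocFree hfree
    have hfl : FlatMod.IsFlatOver f (T I) :=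
      Groth.L29.DC.RelTor.isFlatOver_of_isFlat f (Groth.L29.DC.isFlat_of_isFinLocFree hfree)
    obtain ⟨N₀, hN₀⟩ := Groth.L17.BC.exists_eulerSum_eventually_eq f (T I)
      (Groth.L18.LFP.isFP_of_isFinLocFree _ hfree) hfl y₀
    refine hN₀.mono fun y hy => ?_
    have hsum : ∀ z, (∀ i, N₀ ≤ i → CohIII.fiberRank f (T I) i z = 0) →
        ∑ i ∈ Finset.range 3, (-1 : ℤ) ^ i * (CohIII.fiberRank f (T I) i z : ℤ) =
          ∑ i ∈ Finset.range N₀, (-1 : ℤ) ^ i * (CohIII.fiberRank f (T I) i z : ℤ) := by
      intro z hz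
      rcases le_total N₀ 3 with hle | hle
      · refine (Finset.sum_subset (Finset.range_mono hle) fun i _ hi => ?_).symm
        rw [hz i (not_lt.1 fun h => hi (Finset.mem_range.2 h)), Nat.cast_zero, mul_zero]
      · refine Finset.sum_subset (Finset.range_mono hle) fun i _ hi => ?_
        rw [hdim0 I z i (not_lt.1 fun h => hi (Finset.mem_range.2 h)), Nat.cast_zero, mul_zero]
    rw [hsum y hy.1, hsum y₀ (hN₀.self_of_nhds).1]
    exact hy.2
  obtain ⟨W, hW, hWo, hy₀W⟩ := eventually_nhds_iff.1 (Filter.eventually_all.2 hev)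
  refine ⟨⟨W, hWo⟩, hy₀W, fun y hy => ?_⟩
  refine Finset.sum_congr rfl fun I _ => congrArg ((-1 : ℤ) ^ I.card * ·) ?_
  rw [key y I, key y₀ I]
  exact hW y hy I

end Groth.Agent.S13629
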