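import Groth.Statements.S1363
import Groth.Agent.L07.Count.FlatProper

set_option autoImplicit false
set_option linter.style.haveILetI false
universe u
open FlatMor

namespace Groth.Agent.S1363

open AlgebraicGeometry CategoryTheory Limits in
/-- For a flat proper morphism of finite presentation, the function on the target counting the connected
components of the geometric fibres is lower semicontinuous. -/
theorem result {X S : Scheme.{u}} (f : X ⟶ S) [IsProper f] [Flat f] [LocallyOfFinitePresentation f] :
    LowerSemicontinuous (fun s : ↑S => MoreMor.nGeomConnComp f s) := by
  exact Groth.L07.Count.lowerSemicontinuous_nGeomConnComp_proper f

end Groth.Agent.S1363
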