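import Groth.Statements.S13631
import Mathlib.LinearAlgebra.Dimension.Constructions
import Mathlib.LinearAlgebra.Dimension.Free
import Mathlib.RingTheory.Finiteness.Cardinality
import Mathlib.RingTheory.Noetherian.Basic
import Mathlib.LinearAlgebra.Dimension.Finite
import Mathlib.LinearAlgebra.FreeModule.Finite.Basic
import Mathlib.LinearAlgebra.FreeModule.StrongRankCondition

set_option autoImplicit false
universe u v w
open CAlg

namespace Groth.Agent.S13631

/-- Let k be a field, R an integral domain which is a k-algebra of infinite dimension over k, M a finite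
free R-module, σ a ring automorphism of R mapping the image of k onto itself, and φ : M → M a
σ-semilinear map. If the cokernel of φ is finite-dimensional over k, in the sense that some finitely
generated k-subspace N of M satisfies M = N + φ(M), then φ is injective. -/
theorem result
    {k : Type u} {R : Type v} {M : Type w} [Field k] [CommRing R] [IsDomain R] [Algebra k R]
    (hR : ¬ Module.Finite k R)
    [AddCommGroup M] [Module R M] [Module k M] [IsScalarTower k R M]
    [Module.Finite R M] [Module.Free R M]
    (σ : R ≃+* R)
    (hσ : ∀ x : k, ∃ y : k, σ (algebraMap k R x) = algebraMap k R y)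
    (hσ' : ∀ y : k, ∃ x : k, σ (algebraMap k R x) = algebraMap k R y)
    (φ : M →ₛₗ[(σ : R →+* R)] M)
    (hcoker : ∃ N : Submodule k M, N.FG ∧ ∀ m : M, ∃ n ∈ N, ∃ m' : M, m = n + φ m') :
    Function.Injective φ := by
  classical
  haveI : RingHomSurjective (σ : R →+* R) := ⟨σ.surjective⟩
  by_contra hinj
  obtain ⟨x, hx, hx0⟩ : ∃ x, φ x = 0 ∧ x ≠ 0 := by
    rw [injective_iff_map_eq_zero] at hinj; push Not at hinj; exact hinj
  have hex : ∃ q : M, ∀ a : R, a ≠ 0 → a • q ∉ LinearMap.range φ := by
    by_contra hall
    push Not at hall
    let b := Module.finBasis R M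
    choose a ha0 ha using fun i => hall (b i)
    choose v hv using ha
    let w : Option (Fin (Module.finrank R M)) → M := fun o => o.elim x v
    have hw : LinearIndependent R w := by
      refine Fintype.linearIndependent_iff.mpr fun g hg => ?_
      rw [Fintype.sum_option] at hg
      have h1 := congrArg φ hg
      simp only [w, map_add, map_sum, map_zero, LinearMap.map_smulₛₗ, Option.elim, hx, smul_zero, zero_add, hv, smul_smul] at h1
      have h2 : ∀ i, g (some i) = 0 := fun i => by
        have := (Fintype.linearIndependent_iff.mp b.linearIndependent _ h1) i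
        simpa using (mul_eq_zero.mp this).resolve_right (ha0 i)
      simp only [h2, zero_smul, Finset.sum_const_zero, add_zero] at hg
      rintro (_ | i)
      · exact (smul_eq_zero.mp hg).resolve_right hx0
      · exact h2 i
    have := hw.fintype_card_le_finrank
    simp at this
  obtain ⟨q, hq⟩ := hex
  obtain ⟨N, hN, hNM⟩ := hcoker
  let π : M →ₗ[k] M ⧸ LinearMap.range φ := (LinearMap.range φ).mkQ.restrictScalars k
  haveI : Module.Finite k N := Module.Finite.iff_fg.mpr hN
  haveI : Module.Finite k (M ⧸ LinearMap.range φ) := Module.Finite.of_surjective (π.comp N.subtype) fun z => by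
    obtain ⟨m, rfl⟩ := Submodule.Quotient.mk_surjective _ z
    obtain ⟨n, hn, m', rfl⟩ := hNM m
    exact ⟨⟨n, hn⟩, by simp [π]⟩
  refine hR (Module.Finite.of_injective (π.comp ((LinearMap.toSpanSingleton R M q).restrictScalars k)) ?_)
  rw [injective_iff_map_eq_zero]
  intro a ha
  by_contra h
  exact hq a h ((Submodule.Quotient.mk_eq_zero _).mp (by simpa [π] using ha))

end Groth.Agent.S13631
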