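import Groth.Statements.S13632
import Groth.Agent.L01.FibreIso

set_option autoImplicit false
universe u
open TensorProduct
open CAlg

namespace Groth.Agent.S13632

/-- Let S = Spec R, X = Spec A finite and flat over S, Y = Spec B of finite type over S, and φ : X → Y
an S-morphism given by f : B → A. If for every point s of S the fibres X_s and Y_s have the same
order (the κ(s)-dimension of their rings of global sections κ(s) ⊗ A and κ(s) ⊗ B; equivalently at
every geometric point) and φ is an isomorphism over every closed point of S (κ(m) ⊗ f bijective for
every maximal ideal m), then φ is an isomorphism, i.e. f is bijective. (The published statement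
allows an arbitrary base scheme S and Y separated of finite type over S; this row is the case of an
affine base with X and Y affine, the case its proof treats directly. Over a base with no closed
points the general statement fails: the hypothesis at closed points is then empty.) -/
theorem result
    {R A B : Type u} [CommRing R] [CommRing A] [CommRing B] [Algebra R A] [Algebra R B]
    [Module.Finite R A] [Module.Flat R A] [Algebra.FiniteType R B]
    (f : B →ₐ[R] A)
    (hrank : ∀ p : PrimeSpectrum R,
      Module.rank p.asIdeal.ResidueField (p.asIdeal.ResidueField ⊗[R] B) =
        Module.rank p.asIdeal.ResidueField (p.asIdeal.ResidueField ⊗[R] A))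
    (hmax : ∀ (m : Ideal R) [m.IsMaximal],
      Function.Bijective (LinearMap.lTensor m.ResidueField f.toLinearMap)) :
    Function.Bijective f := by
  exact L01.FibreIso.bijective f (fun p _ => hrank ⟨p, inferInstance⟩) fun m _ => (hmax m).2


end Groth.Agent.S13632
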