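import Groth.Statements.S13633
import Groth.Agent.L08.FinSubIso.Basic
import Groth.Agent.L08.AbelianGrp
import Groth.Agent.L25.Bridge.Lift
import Groth.Agent.L26.Poincare.Reducibility
import Groth.Agent.L08.MonoClosed
-- import your own Groth.Agent.* helpers here

set_option autoImplicit false
set_option backward.isDefEq.respectTransparency.types false
set_option linter.style.haveILetI false
universe u
open CategoryTheory CategoryTheory.Limits MonoidalCategory CartesianMonoidalCategory MonObj AlgebraicGeometry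
open GrpSch

set_option maxHeartbeats 1000000
namespace Groth.Agent.S13633

/-- Let k be a field, K an algebraic closure of k, and ψ : G → H a homomorphism of commutative affine
group schemes of finite type over k. Assume that for every finite commutative group scheme I over k
the map Hom(I, G) → Hom(I, H), f ↦ f ≫ ψ, on group-scheme homomorphisms is bijective, and that ψ
induces a bijection G(K) → H(K) on K-valued points. Then ψ is an isomorphism. (All group schemes are
commutative by the standing convention.) -/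
theorem result
    {k : Type u} [Field k] (K : Type u) [Field K] [Algebra k K] [IsAlgClosure k K]
    (G H : Over (Spec (CommRingCat.of k)))
    [GrpObj G] [IsCommMonObj G] [GrpObj H] [IsCommMonObj H]
    [IsAffine G.left] [IsAffine H.left] [LocallyOfFiniteType G.hom] [LocallyOfFiniteType H.hom]
    (ψ : G ⟶ H) [IsMonHom ψ]
    (hinj : ∀ (I : Over (Spec (CommRingCat.of k))) [GrpObj I] [IsCommMonObj I] [IsFinite I.hom]
      (f g : I ⟶ G) [IsMonHom f] [IsMonHom g], f ≫ ψ = g ≫ ψ → f = g)
    (hsurj : ∀ (I : Over (Spec (CommRingCat.of k))) [GrpObj I] [IsCommMonObj I] [IsFinite I.hom]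
      (h : I ⟶ H) [IsMonHom h], ∃ f : I ⟶ G, IsMonHom f ∧ f ≫ ψ = h)
    (hpts : Function.Bijective fun x : Over.mk (Spec.map (CommRingCat.ofHom (algebraMap k K))) ⟶ G => x ≫ ψ) :
    IsIso ψ := by
  classical
  haveI : QuasiCompact G.hom := (HasAffineProperty.iff_of_isAffine (P := @QuasiCompact)).2 inferInstance
  haveI : IsAlgClosed K := IsAlgClosure.isAlgClosed k
  haveI : Algebra.IsAlgebraic k K := IsAlgClosure.isAlgebraic
  have ft : ∀ {C : Type u} [CommRing C] [HopfAlgebra k C] {X : Over (Spec (CommRingCat.of k))} [LocallyOfFiniteType X.hom]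
      (e : Groth.L08.HomSpace.specOf k C ⟶ X) [IsIso e], Algebra.FiniteType k C := by
    intro C _ _ X _ e _
    haveI : IsIso e.left := inferInstanceAs (IsIso ((Over.forget _).map e))
    haveI hft : LocallyOfFiniteType (Groth.L08.HomSpace.specOf k C).hom := by rw [← Over.w e]; infer_instance
    change LocallyOfFiniteType (Spec.map (CommRingCat.ofHom (algebraMap k C))) at hft
    rwa [HasRingHomProperty.Spec_iff (P := @LocallyOfFiniteType), CommRingCat.hom_ofHom,
      RingHom.finiteType_algebraMap] at hft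
  have fin : ∀ (C : Type u) [CommRing C] [HopfAlgebra k C], Module.Finite k C →
      IsFinite (Groth.L08.HomSpace.specOf k C).hom := by
    intro C _ _ h
    show IsFinite (Spec.map (CommRingCat.ofHom (algebraMap k C)))
    rw [IsFinite.SpecMap_iff, CommRingCat.hom_ofHom, RingHom.finite_algebraMap]
    exact h
  -- the kernel is finite, hence trivial
  obtain ⟨N, gN, i, _, _, hNc, hker⟩ := Groth.L08.AbelianGrp.exists_kernel ψ
  haveI := hNc inferInstance
  haveI : Mono i := Over.mono_of_mono_left i
  haveI : IsAffine N.left := isAffine_of_isAffineHom i.left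
  haveI : LocallyOfFiniteType N.hom := by rw [← Over.w i]; infer_instance
  obtain ⟨C, _, _, ⟨eN⟩⟩ := Groth.L25.Bridge.exists_hopf N
  let eN' : N ≅ Groth.L08.HomSpace.specOf k C := (Grp.forget _).mapIso eN
  haveI : IsMonHom eN'.hom := eN.hom.hom.isMonHom_hom
  haveI : IsMonHom eN'.inv := eN.inv.hom.isMonHom_hom
  haveI : Algebra.FiniteType k C := ft eN'.inv
  haveI : Module.Finite k C := Groth.L08.FinSubIso.finite_of_subsingleton_points (K := K) fun x => by
    let z : Groth.L08.HomSpace.specOf k K ⟶ N := Spec.mapMulEquiv (WithConv.toConv x) ≫ eN'.inv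
    have h1 : z ≫ i = 1 := hpts.1 (show (z ≫ i) ≫ ψ = (1 : Groth.L08.HomSpace.specOf k K ⟶ G) ≫ ψ by
      rw [MonObj.one_comp, Category.assoc, hker.w, ← Category.assoc, toUnit_unique (z ≫ toUnit N) (toUnit _), Hom.one_def])
    have h2 : z = 1 := by rw [← cancel_mono i, h1, MonObj.one_comp]
    have h3 : Spec.mapMulEquiv (WithConv.toConv x) = (1 : Groth.L08.HomSpace.specOf k K ⟶ Groth.L08.HomSpace.specOf k C) := by
      rw [← cancel_mono eN'.inv, MonObj.one_comp]; exact h2
    exact congrArg WithConv.ofConv (Spec.mapMulEquiv.injective (h3.trans (map_one _).symm))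
  haveI : IsFinite N.hom := by
    haveI := fin C inferInstance
    haveI : IsIso eN'.hom.left := inferInstanceAs (IsIso ((Over.forget _).map eN'.hom))
    rw [← Over.w eN'.hom]; infer_instance
  haveI : IsMonHom (1 : N ⟶ G) :=
    { one_hom := by simp [Hom.one_def]
      mul_hom := by
        rw [MonObj.comp_one, show ((1 : N ⟶ G) ⊗ₘ (1 : N ⟶ G)) = lift (fst N N ≫ 1) (snd N N ≫ 1) by ext <;> simp,
          ← Hom.mul_def, MonObj.comp_one, MonObj.comp_one, _root_.one_mul] }
  have hi : i = 1 := hinj N i 1 (by rw [MonObj.one_comp, hker.w, Hom.one_def])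
  haveI : Mono ψ := Groth.L08.AbelianGrp.mono_of_kernel ψ i hker hi
  -- closed immersion into the Hopf model
  obtain ⟨B, _, _, ⟨eH⟩⟩ := Groth.L25.Bridge.exists_hopf H
  let eH' : H ≅ Groth.L08.HomSpace.specOf k B := (Grp.forget _).mapIso eH
  haveI : IsMonHom eH'.hom := eH.hom.hom.isMonHom_hom
  haveI : IsMonHom eH'.inv := eH.inv.hom.isMonHom_hom
  haveI : Algebra.FiniteType k B := ft eH'.inv
  haveI : IsCommMonObj (Groth.L08.HomSpace.specOf k B) := Groth.Agent.Poincare.Reducibility.isCommMonObj_of_mono eH'.inv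
  haveI : LocallyOfFiniteType (Groth.L08.HomSpace.specOf k B).hom := by
    show LocallyOfFiniteType (Spec.map (CommRingCat.ofHom (algebraMap k B)))
    rwa [HasRingHomProperty.Spec_iff (P := @LocallyOfFiniteType), CommRingCat.hom_ofHom, RingHom.finiteType_algebraMap]
  let j := ψ ≫ eH'.hom
  haveI : IsMonHom j := inferInstanceAs (IsMonHom (ψ ≫ eH'.hom))
  haveI : Mono j := inferInstanceAs (Mono (ψ ≫ eH'.hom))
  haveI : QuasiCompact j.left := Groth.L08.AbelianGrp.quasiCompact_left j
  haveI : IsClosedImmersion j.left := Groth.L08.MonoClosed.isClosedImmersion_of_field j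
  obtain ⟨I, hI, hfac⟩ := Groth.L08.HomSpace.exists_hopfIdeal j
  have hbot : I = ⊥ := by
    refine Groth.L08.FinSubIso.eq_zero_of_points (k := k) (K := K) I ?_ ?_ ?_
    · intro R _ _ g h hg hh a ha
      obtain ⟨z, hz⟩ := (hfac R g).2 hg
      obtain ⟨z', hz'⟩ := (hfac R h).2 hh
      exact (hfac R (g * h)).1 ⟨z * z', by rw [MonObj.mul_comp, hz, hz', map_mul]⟩ a ha
    · intro x a ha
      obtain ⟨z, hz⟩ := hpts.2 (Spec.mapMulEquiv (WithConv.toConv x) ≫ eH'.inv : Groth.L08.HomSpace.specOf k K ⟶ H)
      refine (hfac K (WithConv.toConv x)).1 ⟨z, ?_⟩ a ha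
      show z ≫ ψ ≫ eH'.hom = _
      rw [← Category.assoc, show z ≫ ψ = _ from hz]; exact (Category.assoc _ _ _).trans ((congrArg _ eH'.inv_hom_id).trans (Category.comp_id _))
    · intro R _ _ g 𝔪 n hn hg a ha
      obtain ⟨q, hq⟩ := ExpChar.exists k
      cases hq with
      | zero =>
        -- reduced: geometric points suffice
        haveI := Groth.L08.CartierRed.isReduced_of_charZero (k := k) (A := B)
        have h0 : a = 0 := by
          refine (mem_nilradical.1 ?_ : IsNilpotent a).eq_zero
          haveI : IsJacobsonRing B := isJacobsonRing_of_finiteType (A := k)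
          rw [nilradical, Ideal.radical_eq_jacobson, Ideal.jacobson, Ideal.mem_sInf]
          rintro m ⟨-, hm⟩
          haveI := hm
          letI := Ideal.Quotient.field m
          haveI : Algebra.FiniteType k (B ⧸ m) :=
            Algebra.FiniteType.of_surjective (Ideal.Quotient.mkₐ k m) Ideal.Quotient.mk_surjective
          haveI : Module.Finite k (B ⧸ m) := finite_of_finite_type_of_isJacobsonRing k (B ⧸ m)
          let θ : B ⧸ m →ₐ[k] K := IsAlgClosed.lift
          let x := θ.comp (Ideal.Quotient.mkₐ k m)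
          obtain ⟨z, hz⟩ := hpts.2 (Spec.mapMulEquiv (WithConv.toConv x) ≫ eH'.inv : Groth.L08.HomSpace.specOf k K ⟶ H)
          have := (hfac K (WithConv.toConv x)).1 ⟨z, by
            show z ≫ ψ ≫ eH'.hom = _
            rw [← Category.assoc, show z ≫ ψ = _ from hz]; exact (Category.assoc _ _ _).trans ((congrArg _ eH'.inv_hom_id).trans (Category.comp_id _))⟩ a ha
          exact Ideal.Quotient.eq_zero_iff_mem.1 ((map_eq_zero θ).1 this)
        rw [h0, map_zero]
      | prime hp =>
        haveI : Fact q.Prime := ⟨hp⟩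
        let J := Groth.L08.FinSubIso.frobIdeal k B (q ^ n)
        haveI : J.IsHopfIdeal k := Groth.L08.FinSubIso.isHopfIdeal_frobIdeal q n
        haveI : IsFinite (Groth.L08.HomSpace.specOf k (B ⧸ J)).hom :=
          fin _ (Groth.L08.FinSubIso.finite_quotient_frobIdeal (q ^ n) (pow_pos hp.pos n))
        obtain ⟨incl, hincl, _, _⟩ := Groth.L08.FinSubIso.exists_subgroup_of_hopfIdeal (k := k) J
        haveI : Mono incl := Over.mono_of_mono_left incl
        haveI : IsCommMonObj (Groth.L08.HomSpace.specOf k (B ⧸ J)) := Groth.Agent.Poincare.Reducibility.isCommMonObj_of_mono incl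
        haveI : IsMonHom (incl ≫ eH'.inv) := inferInstance
        obtain ⟨f, -, hf⟩ := hsurj (Groth.L08.HomSpace.specOf k (B ⧸ J)) (incl ≫ eH'.inv)
        have h1 := (hfac (B ⧸ J) (WithConv.toConv (Ideal.Quotient.mkₐ k J))).1 ⟨f, by
          show f ≫ ψ ≫ eH'.hom = _
          rw [← hincl]
          rw [← Category.assoc, hf, Category.assoc, Iso.inv_hom_id, Category.comp_id]⟩ a ha
        have h2 : J ≤ RingHom.ker g.ofConv := Ideal.span_le.2 (by
          rintro _ ⟨b, hb, rfl⟩
          show g.ofConv (b ^ q ^ n) = 0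
          rw [map_pow]
          have := Ideal.pow_le_pow_right (I := 𝔪) (Nat.lt_pow_self hp.one_lt).le (Ideal.pow_mem_pow (hg b hb) (q ^ n))
          rwa [hn, Ideal.mem_bot] at this)
        exact h2 (Ideal.Quotient.eq_zero_iff_mem.1 h1)
  obtain ⟨z, hz⟩ := (hfac B (WithConv.toConv (AlgHom.id k B))).2 fun a ha => by
    rw [hbot, Ideal.mem_bot] at ha
    simp [ha]
  have hid : Spec.mapMulEquiv (WithConv.toConv (AlgHom.id k B)) = 𝟙 (Groth.L08.HomSpace.specOf k B) :=
    Over.OverMorphism.ext (Spec.map_id (CommRingCat.of B))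
  haveI : IsSplitEpi j := IsSplitEpi.mk' ⟨z, hz.trans hid⟩
  haveI : IsIso j := isIso_of_mono_of_isSplitEpi j
  exact IsIso.of_isIso_comp_right ψ eH'.hom

end Groth.Agent.S13633
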