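import Groth.Statements.S13634
import Groth.Agent.L09.MultDesc

set_option autoImplicit false
universe u
open CategoryTheory CategoryTheory.Limits MonoidalCategory CartesianMonoidalCategory MonObj AlgebraicGeometry
open MultSch

set_option backward.isDefEq.respectTransparency false
set_option backward.isDefEq.respectTransparency.types false

namespace Groth.Agent.S13634

/-- Let π : M → M'' be a homomorphism of commutative group schemes over a scheme S which is an
epimorphism of fppf sheaves, H a commutative group scheme over S and φ : (M'')^r → H a multilinear
morphism. If the composite of φ with π^r : M^r → (M'')^r is alternating, then φ is alternating. (The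
published statement is for module schemes over a ring R and an R-multilinear φ; the ring action
plays no role, so this row states it for commutative group schemes, which contains that case.) -/
theorem result
    {S : Scheme.{u}} {M M'' H : Over S}
    [GrpObj M] [IsCommMonObj M] [GrpObj M''] [IsCommMonObj M''] [GrpObj H] [IsCommMonObj H]
    (π : M ⟶ M'') [IsMonHom π] (hπ : Epi (CGrpSh.ptsMap Scheme.fppfPrecoverage π))
    {r : ℕ} (φ : MultSch.pow M'' r ⟶ H) (hφ : MultSch.IsMultilinear φ)
    (halt : ∀ (T : Over S) (x : Fin r → (T ⟶ M)) (i j : Fin r), i ≠ j → x i = x j →
      MultSch.tuple (fun l => x l ≫ π) ≫ φ = 1) :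
    MultSch.IsAlternating φ := by
  intro T x i j hij hxij
  obtain ⟨R, hR, hR'⟩ := Groth.L09.MultDesc.lift_loc_fin π hπ x
  refine Groth.L09.MultDesc.hom_ext_loc hR _ _ fun V g hg => ?_
  obtain ⟨m, hm⟩ := hR' g hg
  have h := halt V (Function.update m j (m i)) i j hij
    (by rw [Function.update_self, Function.update_of_ne hij])
  rw [MonObj.comp_one, ← Category.assoc, Groth.L09.MultDesc.comp_tuple, ← h]
  congr 2
  funext l
  rcases eq_or_ne l j with rfl | hl
  · rw [Function.update_self, hm, hxij]
  · rw [Function.update_of_ne hl, hm]

end Groth.Agent.S13634
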