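import Groth.Statements.S13635
import Groth.Agent.L09.MultDesc

set_option autoImplicit false
universe u w
open CategoryTheory CategoryTheory.Limits MonoidalCategory CartesianMonoidalCategory MonObj AlgebraicGeometry
open MultSch

namespace Groth.Agent.S13635

theorem tuple_injective {S : Scheme.{u}} {X T : Over S} : ∀ {n : ℕ} {x y : Fin n → (T ⟶ X)},
    tuple x = tuple y → x = y
  | 0, _, _, _ => funext fun l => l.elim0
  | n + 1, x, y, h => by
    have h1 := congrArg (fun t => t ≫ fst X (MultSch.pow X n)) h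
    have h2 := congrArg (fun t => t ≫ snd X (MultSch.pow X n)) h
    simp only [tuple, lift_fst, lift_snd] at h1 h2
    funext l
    exact Fin.cases h1 (fun i => congrFun (tuple_injective h2) i) l

open Groth.L09.MultDesc

theorem map_update {A B : Type*} {n : ℕ} (f : A → B) (x : Fin n → A) (i : Fin n) (y : A) :
    (fun l => f (Function.update x i y l)) = Function.update (fun l => f (x l)) i (f y) := by
  funext l
  rcases eq_or_ne l i with rfl | h
  · rw [Function.update_self, Function.update_self]
  · rw [Function.update_of_ne h, Function.update_of_ne h]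

theorem swap_mul {S : Scheme.{u}} {M N : Over S} [GrpObj M] [GrpObj N] {n : ℕ} (φ : MultSch.pow M n ⟶ N)
    (hmult : MultSch.IsMultilinear φ) (halt : MultSch.IsAlternating φ) {T : Over S} (x : Fin n → (T ⟶ M))
    (a b : Fin n) (hab : a ≠ b) :
    (tuple x ≫ φ) * (tuple (Function.update (Function.update x a (x b)) b (x a)) ≫ φ) = 1 := by
  let F : (T ⟶ M) → (T ⟶ M) → (T ⟶ N) := fun p q => tuple (Function.update (Function.update x a p) b q) ≫ φ
  have hd : ∀ p, F p p = 1 := fun p => halt T _ a b hab (by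
    rw [Function.update_self, Function.update_of_ne hab, Function.update_self])
  have hb : ∀ p q q', F p (q * q') = F p q * F p q' := fun p q q' => hmult T _ b q q'
  have ha : ∀ p p' q, F (p * p') q = F p q * F p' q := fun p p' q => by
    show tuple _ ≫ φ = tuple _ ≫ φ * tuple _ ≫ φ
    simp only [Function.update_comm hab]
    exact hmult T _ a p p'
  have hx : F (x a) (x b) = tuple x ≫ φ := by
    show tuple _ ≫ φ = _
    rw [Function.update_eq_self, Function.update_eq_self]
  have h := hd (x a * x b)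
  rw [hb, ha, ha, hd, hd, _root_.one_mul, _root_.mul_one] at h
  rw [← hx]
  exact mul_eq_one_comm.mp h

/-- Let M₁ → M₂ → M₃ → 0 be a sequence of R-module schemes over a scheme S, with R-linear homomorphisms
j : M₁ → M₂ and π : M₂ → M₃, exact as a sequence of fppf sheaves. For n ≥ 1 and an R-module scheme
N, the sequence 0 → Alt(M₃^n, N) → Alt(M₂^n, N) → Alt(M₁ × M₂^(n-1), N) of R-multilinear alternating
morphisms is exact: an R-multilinear alternating φ : M₂^n → N which is trivial on all points with
first coordinate in the image of j is of the form φ' ∘ π^n for a unique morphism φ' : M₃^n → N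
(unique among all morphisms), and this φ' is R-multilinear and alternating. -/
theorem result
    {S : Scheme.{u}} {R : Type w} [CommRing R] {M₁ M₂ M₃ N : Over S}
    [GrpObj M₁] [IsCommMonObj M₁] [GrpObj M₂] [IsCommMonObj M₂] [GrpObj M₃] [IsCommMonObj M₃]
    [GrpObj N] [IsCommMonObj N]
    (ρ₁ : MultSch.RMod R M₁) (ρ₂ : MultSch.RMod R M₂) (ρ₃ : MultSch.RMod R M₃) (ρN : MultSch.RMod R N)
    (j : M₁ ⟶ M₂) (π : M₂ ⟶ M₃) [IsMonHom j] [IsMonHom π]
    (hj : ∀ a : R, j ≫ ρ₂.act a = ρ₁.act a ≫ j) (hπ : ∀ a : R, π ≫ ρ₃.act a = ρ₂.act a ≫ π)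
    (w : j ≫ π = 1) (hex : (CGrpSh.seq Scheme.fppfPrecoverage j π w).Exact)
    (hepi : Epi (CGrpSh.ptsMap Scheme.fppfPrecoverage π))
    {n : ℕ} (hn : 1 ≤ n) (φ : MultSch.pow M₂ n ⟶ N)
    (hmult : MultSch.IsMultilinear φ) (hlin : MultSch.IsRLinear ρ₂ ρN φ) (halt : MultSch.IsAlternating φ)
    (hvan : ∀ (T : Over S) (y : T ⟶ M₁) (x : Fin n → (T ⟶ M₂)), x ⟨0, hn⟩ = y ≫ j →
      MultSch.tuple x ≫ φ = 1) :
    ∃ φ' : MultSch.pow M₃ n ⟶ N,
      (∀ (T : Over S) (x : Fin n → (T ⟶ M₂)), MultSch.tuple x ≫ φ = MultSch.tuple (fun l => x l ≫ π) ≫ φ') ∧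
      MultSch.IsMultilinear φ' ∧ MultSch.IsRLinear ρ₃ ρN φ' ∧ MultSch.IsAlternating φ' ∧
      ∀ φ'' : MultSch.pow M₃ n ⟶ N,
        (∀ (T : Over S) (x : Fin n → (T ⟶ M₂)), MultSch.tuple x ≫ φ = MultSch.tuple (fun l => x l ≫ π) ≫ φ'') →
          φ'' = φ' := by
  classical
  -- φ vanishes as soon as one coordinate comes from M₁
  have hvan' : ∀ (T : Over S) (x : Fin n → (T ⟶ M₂)) (l : Fin n) (y : T ⟶ M₁), x l = y ≫ j →
      tuple x ≫ φ = 1 := by
    intro T x l y hy
    rcases eq_or_ne ⟨0, hn⟩ l with h0 | h0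
    · subst h0; exact hvan T y x hy
    · have h := swap_mul φ hmult halt x ⟨0, hn⟩ l h0
      have h2 := hvan T y (Function.update (Function.update x ⟨0, hn⟩ (x l)) l (x ⟨0, hn⟩))
        (by rw [Function.update_of_ne h0, Function.update_self, hy])
      rw [h2, _root_.mul_one] at h
      exact h
  -- one coordinate may be changed within a fibre of π
  have step : ∀ (T : Over S) (x : Fin n → (T ⟶ M₂)) (l : Fin n) (z : T ⟶ M₂), x l ≫ π = z ≫ π →
      tuple x ≫ φ = tuple (Function.update x l z) ≫ φ := by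
    intro T x l z h
    have hd : (x l / z) ≫ π = 1 := by rw [GrpObj.div_comp, h, div_self']
    obtain ⟨R₀, hR₀, hR₀'⟩ := ker_loc j π w hex (x l / z) hd
    refine hom_ext_loc hR₀ _ _ fun W g hg => ?_
    obtain ⟨m, hm⟩ := hR₀' g hg
    have h1 : g ≫ x l = (g ≫ z) * (m ≫ j) := by rw [hm, GrpObj.comp_div, mul_div_cancel]
    rw [← Category.assoc, ← Category.assoc, comp_tuple, comp_tuple, map_update,
      show (fun i => g ≫ x i) = Function.update (fun i => g ≫ x i) l ((g ≫ z) * (m ≫ j)) by
        rw [← h1, Function.update_eq_self],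
      hmult, Function.update_idem, hvan' W (Function.update _ l (m ≫ j)) l m (Function.update_self _ _ _),
      _root_.mul_one]
  -- congruence in all coordinates
  have key : ∀ (T : Over S) (x x' : Fin n → (T ⟶ M₂)), (∀ l, x l ≫ π = x' l ≫ π) →
      tuple x ≫ φ = tuple x' ≫ φ := by
    intro T x x' h
    suffices hs : ∀ s : Finset (Fin n), tuple x ≫ φ = tuple (fun l => if l ∈ s then x' l else x l) ≫ φ by
      simpa using hs Finset.univ
    intro s
    induction s using Finset.induction_on with
    | empty => simp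
    | @insert a s ha ih =>
      rw [ih, step T _ a (x' a) (by simp only [if_neg ha, h])]
      congr 2
      funext l
      rcases eq_or_ne l a with rfl | hl
      · simp
      · simp [Function.update_of_ne hl, hl]
  obtain ⟨c, hc⟩ := exists_tuple (𝟙 (MultSch.pow M₃ n))
  obtain ⟨R₁, hR₁, hR₁'⟩ := lift_loc_fin π hepi c
  choose m hm using hR₁'
  obtain ⟨φ', hφ'⟩ := amalgamate hR₁ (fun V g hg => tuple (m g hg) ≫ φ) (by
    intro V W i g hg
    show _ ≫ φ = i ≫ _ ≫ φ
    rw [← Category.assoc i (tuple _) φ, comp_tuple]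
    refine key _ _ _ fun l => ?_
    simp only [Category.assoc, hm])
  have val : ∀ (V : Over S) (x : Fin n → (V ⟶ M₂)), tuple x ≫ φ = tuple (fun l => x l ≫ π) ≫ φ' := by
    intro V x
    let t : V ⟶ MultSch.pow M₃ n := tuple fun l => x l ≫ π
    refine hom_ext_loc ((CategoryTheory.GrothendieckTopology.pullback_stable _ t) hR₁) _ _ fun W g hg => ?_
    have e₃ : g ≫ tuple x ≫ φ = tuple (fun l => g ≫ x l) ≫ φ := by rw [← Category.assoc, comp_tuple]
    refine e₃.trans (Eq.trans ?_ ((Category.assoc g t φ').symm.trans (hφ' (g ≫ t) hg)).symm)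
    refine key _ _ _ fun l => ?_
    rw [hm]
    have e₄ : t ≫ tuple c = t := by rw [hc, Category.comp_id]
    rw [Category.assoc g (x l) π, Category.assoc g t (c l)]
    refine congrArg (g ≫ ·) ?_
    have e₅ : (fun l => t ≫ c l) = fun l => x l ≫ π := by
      have := e₄
      rw [comp_tuple] at this
      exact tuple_injective this
    exact (congrFun e₅ l).symm
  have lifts : ∀ {T : Over S} (y : Fin n → (T ⟶ M₃)) (a b : (T ⟶ N)),
      (∀ (W : Over S) (g : W ⟶ T) (x : Fin n → (W ⟶ M₂)), (∀ l, x l ≫ π = g ≫ y l) → g ≫ a = g ≫ b) → a = b := by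
    intro T y a b h
    obtain ⟨R₂, hR₂, hR₂'⟩ := lift_loc_fin π hepi y
    refine hom_ext_loc hR₂ _ _ fun W g hg => ?_
    obtain ⟨x, hx⟩ := hR₂' g hg
    exact h W g x hx
  refine ⟨φ', val, ?_, ?_, ?_, ?_⟩
  · intro T y i a b
    refine lifts (Function.update y i a) _ _ fun W g x hx => ?_
    obtain ⟨R₃, hR₃, hR₃'⟩ := lift_loc π hepi (g ≫ b)
    refine hom_ext_loc hR₃ _ _ fun W' g' hg' => ?_
    obtain ⟨k, hk⟩ := hR₃' g' hg'
    have ha : g' ≫ g ≫ a = (g' ≫ x i) ≫ π := by rw [Category.assoc, hx i, Function.update_self]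
    have hy : Function.update (fun l => g' ≫ g ≫ y l) i ((g' ≫ x i) ≫ π) =
        fun l => (g' ≫ x l) ≫ π := by
      funext l
      rcases eq_or_ne l i with rfl | hl
      · rw [Function.update_self]
      · rw [Function.update_of_ne hl, Category.assoc g' (x l) π, hx l, Function.update_of_ne hl]
    have hu : ∀ z : W' ⟶ M₂, Function.update (fun l => g' ≫ g ≫ y l) i (z ≫ π) =
        fun l => Function.update (fun l => g' ≫ x l) i z l ≫ π := by
      intro z
      rw [map_update (fun v => v ≫ π), ← hy, Function.update_idem]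
    simp only [MonObj.comp_mul, ← Category.assoc g, comp_tuple, map_update, ← Category.assoc g']
    simp only [Category.assoc g' g]
    rw [ha, ← hk, ← MonObj.mul_comp, hu, hu, hu, ← val, ← val, ← val]
    exact hmult _ _ i _ _
  · intro T y i a
    refine lifts y _ _ fun W g x hx => ?_
    simp only [← Category.assoc g, comp_tuple, map_update]
    have hy : (fun l => g ≫ y l) = fun l => x l ≫ π := funext fun l => (hx l).symm
    rw [← hx i, Category.assoc (x i) π (ρ₃.act a), hπ, ← Category.assoc (x i), hy,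
      ← map_update (fun v => v ≫ π), ← val, ← val]
    exact hlin _ _ i a
  · intro T y i k hik hy
    refine lifts y _ _ fun W g x hx => ?_
    rw [MonObj.comp_one, ← Category.assoc g, comp_tuple,
      show (fun l => g ≫ y l) = fun l => Function.update x k (x i) l ≫ π from funext fun l => by
        rcases eq_or_ne l k with rfl | hl
        · rw [Function.update_self, hx, hy]
        · rw [Function.update_of_ne hl, hx], ← val]
    exact halt _ _ i k hik (by rw [Function.update_of_ne hik, Function.update_self])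
  · intro φ'' h''
    refine hom_ext_loc hR₁ _ _ fun V g hg => ?_
    have e : g = tuple fun l => m g hg l ≫ π := by
      refine ((Category.comp_id g).symm.trans ?_)
      rw [← hc, comp_tuple]
      exact congrArg tuple (funext fun l => (hm g hg l).symm)
    rw [e, ← h'', ← val]

end Groth.Agent.S13635
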