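import Groth.Statements.S13636
import Groth.Agent.L09.MultDesc

set_option autoImplicit false
universe u w
open CategoryTheory CategoryTheory.Limits MonoidalCategory CartesianMonoidalCategory MonObj AlgebraicGeometry
open MultSch

set_option backward.isDefEq.respectTransparency false
set_option backward.isDefEq.respectTransparency.types false

namespace Groth.Agent.S13636

/-- Let M' → M → M'' → 0 be a sequence of R-module schemes over a scheme S, with R-linear homomorphisms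
j and π, exact as fppf sheaves, and let ψ : P × M × Q → N be a morphism to an R-module scheme N
which is additive and R-linear in the coordinate M (on T-valued points) and trivial on all points
whose M-coordinate lies in the image of j. Then ψ = ψ' ∘ (id × π × id) for a unique morphism ψ' : P
× M'' × Q → N, and ψ' is additive and R-linear in the coordinate M''. (The published statement has a
product M₁ × ⋯ × M_r of R-module schemes with the exact sequence in the i-th factor and ψ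
R-multilinear; here the factors before and after the i-th are collected into single S-schemes P and
Q, and only linearity in the i-th coordinate, the one the statement is about, is carried; linearity
in the other coordinates passes between ψ and ψ' formally.) -/
theorem result
    {S : Scheme.{u}} {R : Type w} [CommRing R] {P Q M' M M'' N : Over S}
    [GrpObj M'] [IsCommMonObj M'] [GrpObj M] [IsCommMonObj M] [GrpObj M''] [IsCommMonObj M'']
    [GrpObj N] [IsCommMonObj N]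
    (ρ' : MultSch.RMod R M') (ρ : MultSch.RMod R M) (ρ'' : MultSch.RMod R M'') (ρN : MultSch.RMod R N)
    (j : M' ⟶ M) (π : M ⟶ M'') [IsMonHom j] [IsMonHom π]
    (hj : ∀ a : R, j ≫ ρ.act a = ρ'.act a ≫ j) (hπ : ∀ a : R, π ≫ ρ''.act a = ρ.act a ≫ π)
    (w : j ≫ π = 1) (hex : (CGrpSh.seq Scheme.fppfPrecoverage j π w).Exact)
    (hepi : Epi (CGrpSh.ptsMap Scheme.fppfPrecoverage π))
    (ψ : P ⊗ (M ⊗ Q) ⟶ N)
    (hadd : ∀ (T : Over S) (p : T ⟶ P) (q : T ⟶ Q) (y z : T ⟶ M),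
      lift p (lift (y * z) q) ≫ ψ = (lift p (lift y q) ≫ ψ) * (lift p (lift z q) ≫ ψ))
    (hlin : ∀ (T : Over S) (p : T ⟶ P) (q : T ⟶ Q) (y : T ⟶ M) (a : R),
      lift p (lift (y ≫ ρ.act a) q) ≫ ψ = (lift p (lift y q) ≫ ψ) ≫ ρN.act a)
    (hvan : ∀ (T : Over S) (p : T ⟶ P) (q : T ⟶ Q) (y' : T ⟶ M'), lift p (lift (y' ≫ j) q) ≫ ψ = 1) :
    ∃ ψ' : P ⊗ (M'' ⊗ Q) ⟶ N,
      (P ◁ (π ▷ Q)) ≫ ψ' = ψ ∧
      (∀ (T : Over S) (p : T ⟶ P) (q : T ⟶ Q) (y z : T ⟶ M''),
        lift p (lift (y * z) q) ≫ ψ' = (lift p (lift y q) ≫ ψ') * (lift p (lift z q) ≫ ψ')) ∧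
      (∀ (T : Over S) (p : T ⟶ P) (q : T ⟶ Q) (y : T ⟶ M'') (a : R),
        lift p (lift (y ≫ ρ''.act a) q) ≫ ψ' = (lift p (lift y q) ≫ ψ') ≫ ρN.act a) ∧
      ∀ ψ'' : P ⊗ (M'' ⊗ Q) ⟶ N, (P ◁ (π ▷ Q)) ≫ ψ'' = ψ → ψ'' = ψ' := by
  classical
  let T := P ⊗ (M'' ⊗ Q)
  let p₀ : T ⟶ P := fst _ _
  let y₀ : T ⟶ M'' := snd _ _ ≫ fst _ _
  let q₀ : T ⟶ Q := snd _ _ ≫ snd _ _
  -- two lifts of a point give the same value
  have key : ∀ (V : Over S) (p : V ⟶ P) (q : V ⟶ Q) (y z : V ⟶ M), y ≫ π = z ≫ π →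
      lift p (lift y q) ≫ ψ = lift p (lift z q) ≫ ψ := by
    intro V p q y z h
    have hd : (y / z) ≫ π = 1 := by rw [GrpObj.div_comp, h, div_self']
    obtain ⟨R, hR, hR'⟩ := Groth.L09.MultDesc.ker_loc j π w hex (y / z) hd
    refine Groth.L09.MultDesc.hom_ext_loc hR _ _ fun W g hg => ?_
    obtain ⟨m, hm⟩ := hR' g hg
    have h1 : g ≫ y = (g ≫ z) * (m ≫ j) := by rw [hm, GrpObj.comp_div, mul_div_cancel]
    rw [← Category.assoc, ← Category.assoc, comp_lift, comp_lift, comp_lift, comp_lift, h1,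
      hadd, hvan, _root_.mul_one]
  obtain ⟨R, hR, hR'⟩ := Groth.L09.MultDesc.lift_loc π hepi y₀
  choose m hm using hR'
  obtain ⟨ψ', hψ'⟩ := Groth.L09.MultDesc.amalgamate hR
    (fun V g hg => lift (g ≫ p₀) (lift (m g hg) (g ≫ q₀)) ≫ ψ) (by
      intro V W i g hg
      show _ ≫ ψ = i ≫ _ ≫ ψ
      rw [← Category.assoc i (lift _ _) ψ, comp_lift, comp_lift, ← Category.assoc i g p₀, ← Category.assoc i g q₀]
      refine key _ _ _ _ _ ?_
      simp only [Category.assoc, hm])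
  -- the value of the descended morphism on lifted points
  have val : ∀ (V : Over S) (p : V ⟶ P) (q : V ⟶ Q) (y : V ⟶ M),
      lift p (lift (y ≫ π) q) ≫ ψ' = lift p (lift y q) ≫ ψ := by
    intro V p q y
    let t : V ⟶ T := lift p (lift (y ≫ π) q)
    refine Groth.L09.MultDesc.hom_ext_loc ((CategoryTheory.GrothendieckTopology.pullback_stable _ t) hR) _ _
      fun W g hg => ?_
    show g ≫ t ≫ ψ' = _
    have e₁ : (g ≫ t) ≫ p₀ = g ≫ p := by simp [t, p₀, T]
    have e₂ : (g ≫ t) ≫ q₀ = g ≫ q := by simp [t, q₀, T]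
    have e₃ : g ≫ lift p (lift y q) ≫ ψ = lift (g ≫ p) (lift (g ≫ y) (g ≫ q)) ≫ ψ := by
      rw [← Category.assoc, comp_lift, comp_lift]
    refine ((Category.assoc g t ψ').symm.trans (hψ' (g ≫ t) hg)).trans (Eq.trans ?_ e₃.symm)
    rw [e₁, e₂]
    refine key _ _ _ _ _ ?_
    rw [hm]
    simp [t, y₀, T]
  have main : ∀ φ : P ⊗ (M'' ⊗ Q) ⟶ N, (P ◁ (π ▷ Q)) ≫ φ = ψ →
      ∀ (V : Over S) (p : V ⟶ P) (q : V ⟶ Q) (y : V ⟶ M),
        lift p (lift (y ≫ π) q) ≫ φ = lift p (lift y q) ≫ ψ := by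
    intro φ hφ V p q y
    rw [← hφ, ← Category.assoc, lift_whiskerLeft, lift_whiskerRight]
  have uniq : ∀ φ φ' : P ⊗ (M'' ⊗ Q) ⟶ N, (∀ (V : Over S) (p : V ⟶ P) (q : V ⟶ Q) (y : V ⟶ M),
      lift p (lift (y ≫ π) q) ≫ φ = lift p (lift (y ≫ π) q) ≫ φ') → φ = φ' := by
    intro φ φ' h
    refine Groth.L09.MultDesc.hom_ext_loc hR _ _ fun V g hg => ?_
    have hg' : g = lift (g ≫ p₀) (lift (m g hg ≫ π) (g ≫ q₀)) := by
      rw [hm, ← comp_lift, ← comp_lift]
      refine (Category.comp_id g).symm.trans (congrArg (g ≫ ·) ?_)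
      apply CartesianMonoidalCategory.hom_ext
      · simp [p₀, T]
      · apply CartesianMonoidalCategory.hom_ext <;> simp [y₀, q₀, T]
    rw [hg']
    exact h _ _ _ _
  refine ⟨ψ', ?_, fun V p q y z => ?_, fun V p q y a => ?_, fun φ hφ => uniq _ _ fun V p q y => ?_⟩
  · conv_rhs => rw [← Category.id_comp ψ]
    have hid : (𝟙 (P ⊗ (M ⊗ Q))) = lift (fst _ _) (lift (snd _ _ ≫ fst _ _) (snd _ _ ≫ snd _ _)) := by
      apply CartesianMonoidalCategory.hom_ext
      · simp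
      · apply CartesianMonoidalCategory.hom_ext <;> simp
    have hW : P ◁ (π ▷ Q) = lift (fst _ _) (lift ((snd _ _ ≫ fst _ _) ≫ π) (snd _ _ ≫ snd _ _)) := by
      apply CartesianMonoidalCategory.hom_ext
      · simp
      · apply CartesianMonoidalCategory.hom_ext <;> simp
    rw [hW, hid]
    exact val _ _ _ _
  · obtain ⟨R₁, hR₁, h₁⟩ := Groth.L09.MultDesc.lift_loc_fin π hepi ![y, z]
    refine Groth.L09.MultDesc.hom_ext_loc hR₁ _ _ fun W g hg => ?_
    obtain ⟨k, hk⟩ := h₁ g hg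
    have hy : k 0 ≫ π = g ≫ y := hk 0
    have hz : k 1 ≫ π = g ≫ z := hk 1
    simp only [MonObj.comp_mul, ← Category.assoc, comp_lift]
    rw [← hy, ← hz, ← MonObj.mul_comp, val, val, val, hadd]
  · obtain ⟨R₁, hR₁, h₁⟩ := Groth.L09.MultDesc.lift_loc π hepi y
    refine Groth.L09.MultDesc.hom_ext_loc hR₁ _ _ fun W g hg => ?_
    obtain ⟨k, hk⟩ := h₁ g hg
    simp only [← Category.assoc, comp_lift]
    rw [← hk, Category.assoc k π (ρ''.act a), hπ, ← Category.assoc, val, val, hlin]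
  · rw [main φ hφ, val]

end Groth.Agent.S13636
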