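import Groth.Statements.S13637
import Groth.Agent.L17.FSheaf.RpushCoh

set_option autoImplicit false
open CategoryTheory
universe u
open FSch

namespace Groth.Agent.S13637

/-- Let 𝔛 and 𝔜 be locally Noetherian formal schemes (adic systems of thickenings with locally
Noetherian levels), f : 𝔛 ⟶ 𝔜 a proper morphism (adic, with proper morphism of smallest levels) and
𝔉 a coherent O_𝔛-module. Then every higher direct image R^q f_* 𝔉 (q ≥ 0) is a coherent O_𝔜-module. -/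
theorem result (𝔛 𝔜 : FSch.Sys.{u}) (h𝔛 : 𝔛.IsLocNoethFormal) (h𝔜 : 𝔜.IsLocNoethFormal)
    (f : 𝔛 ⟶ 𝔜) (hf : FSch.IsProperHom f) [HasInjectiveResolutions (FSch.ModF 𝔛 h𝔛.1)]
    (𝔉 : FSch.ModF 𝔛 h𝔛.1) (h𝔉 : FSch.IsCohF 𝔛 h𝔛.1 𝔉) (q : ℕ) :
    FSch.IsCohF 𝔜 h𝔜.1 ((FSch.RpushF f h𝔛.1 h𝔜.1 q).obj 𝔉) := by
  exact Groth.L17.FSheaf.RpushF.isCohF_rpushF h𝔛 h𝔜 f 𝔉 h𝔉 hf q

end Groth.Agent.S13637
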