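import Groth.Statements.S13638
import Groth.Agent.L17.FSheaf.RpushIso

set_option autoImplicit false
open CategoryTheory CategoryTheory.Limits Opposite
universe u
open FSch

namespace Groth.Agent.S13638

/-- Let 𝔛, 𝔜 be locally Noetherian formal schemes, f : 𝔛 ⟶ 𝔜 a proper morphism and 𝔉 a coherent
O_𝔛-module; write u_k : X_k ⟶ 𝔛 for the k-th level and 𝔉_k = (u_k)_* u_k^* 𝔉 = 𝔉 ⊗ O_{X_k}, an
inverse system under the transition maps. Then for every q the canonical map R^q f_* 𝔉 ⟶ lim_k R^q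
f_* 𝔉_k, with components R^q f_* of the units 𝔉 ⟶ 𝔉_k, is an isomorphism (pinned here as an
isomorphism onto the limit compatible with all the projections). The published statement also
asserts that this map is a homeomorphism for the natural topologies; this row does not carry
topologies. -/
theorem result (𝔛 𝔜 : FSch.Sys.{u}) (h𝔛 : 𝔛.IsLocNoethFormal)
    (h𝔜 : 𝔜.IsLocNoethFormal) (f : 𝔛 ⟶ 𝔜) (hf : FSch.IsProperHom f)
    [HasInjectiveResolutions (FSch.ModF 𝔛 h𝔛.1)] (𝔉 : FSch.ModF 𝔛 h𝔛.1) (h𝔉 : FSch.IsCohF 𝔛 h𝔛.1 𝔉) (q : ℕ) :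
    ∃ e : (FSch.RpushF f h𝔛.1 h𝔜.1 q).obj 𝔉 ≅ limit (Functor.ofOpSequence
        (X := fun k => (FSch.RpushF f h𝔛.1 h𝔜.1 q).obj
          ((FSch.levelMor 𝔛 h𝔛.1 k).push.obj ((FSch.levelMor 𝔛 h𝔛.1 k).pull.obj 𝔉)))
        (fun k => (FSch.RpushF f h𝔛.1 h𝔜.1 q).map (FSch.levelTrans 𝔛 h𝔛.1 𝔉 k))),
      ∀ k : ℕ, e.hom ≫ limit.π (Functor.ofOpSequence
        (X := fun k => (FSch.RpushF f h𝔛.1 h𝔜.1 q).obj
          ((FSch.levelMor 𝔛 h𝔛.1 k).push.obj ((FSch.levelMor 𝔛 h𝔛.1 k).pull.obj 𝔉)))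
        (fun k => (FSch.RpushF f h𝔛.1 h𝔜.1 q).map (FSch.levelTrans 𝔛 h𝔛.1 𝔉 k))) (op k) =
        (FSch.RpushF f h𝔛.1 h𝔜.1 q).map ((FSch.levelMor 𝔛 h𝔛.1 k).adj.unit.app 𝔉) := by
  exact Groth.L17.FSheaf.RpushF.exists_rpush_iso_limit h𝔛 h𝔜 f 𝔉 h𝔉 hf q
end Groth.Agent.S13638
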