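import Groth.Statements.S1364
import Groth.Agent.L07.Count.FlatProperConst

set_option autoImplicit false
set_option linter.style.haveILetI false
universe u
set_option maxSynthPendingDepth 3
set_option backward.isDefEq.respectTransparency.types false
open FlatMor

namespace Groth.Agent.S1364

open AlgebraicGeometry CategoryTheory Limits in
/-- For a flat proper morphism of finite presentation whose geometric fibres are reduced, the function
on the target counting the connected components of the geometric fibres is locally constant. -/
theorem result {X S : Scheme.{u}} (f : X ⟶ S) [IsProper f] [Flat f] [LocallyOfFinitePresentation f] [GeometricallyReduced f] :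
    IsLocallyConstant (fun s : ↑S => MoreMor.nGeomConnComp f s) := by
  refine (IsLocallyConstant.iff_eventually_eq _).mpr fun s => ?_
  obtain ⟨V, hV, hVn⟩ := Groth.L07.Count.nGeomConnComp_eq_nhds_flat_proper f s
    (inferInstanceAs (GeometricallyReduced (pullback.snd f (S.fromSpecResidueField s))))
  exact Filter.mem_of_superset hV hVn

end Groth.Agent.S1364
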