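import Groth.Statements.S13640
import Groth.Agent.L17.FSheaf.GrML

set_option autoImplicit false
open CategoryTheory CategoryTheory.Limits Opposite
universe u
open FSch

namespace Groth.Agent.S13640

/-- Let A be an adic Noetherian ring with ideal of definition J, 𝔜 = Spf A, 𝔛 a locally Noetherian
formal scheme, f : 𝔛 ⟶ Spf A a proper morphism and 𝔉 a coherent O_𝔛-module; write u_k : X_k ⟶ 𝔛 for
the k-th level and 𝔉_k = (u_k)_* u_k^* 𝔉 = 𝔉 / J^(k+1) 𝔉. Then for every n the inverse system of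
abelian groups (H^n(𝔛, 𝔉_k))_{k ≥ 0}, with the maps induced by the transitions 𝔉_{k+1} ⟶ 𝔉_k,
satisfies the Mittag-Leffler condition. (The published statement also asserts that each H^n(𝔛, 𝔉) is
a finite A-module and that the kernels of H^n(𝔛, 𝔉) ⟶ H^n(𝔛, 𝔉_k) form a J-good filtration; this row
states only the Mittag-Leffler clause.) -/
theorem result (A : Type u) [CommRing A] [IsNoetherianRing A] (J : Ideal A)
    [IsAdicComplete J A] (h𝔜 : (FSch.spf A J).IsLocNoethFormal) (𝔛 : FSch.Sys.{u}) (h𝔛 : 𝔛.IsLocNoethFormal)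
    (f : 𝔛 ⟶ FSch.spf A J) (hf : FSch.IsProperHom f) [HasInjectiveResolutions (FSch.ModF 𝔛 h𝔛.1)]
    (𝔉 : FSch.ModF 𝔛 h𝔛.1) (h𝔉 : FSch.IsCohF 𝔛 h𝔛.1 𝔉) (n : ℕ) :
    ARSys.IsML (Functor.ofOpSequence
      (X := fun k => AddCommGrpCat.of (FSch.HF 𝔛 h𝔛.1 ((FSch.levelMor 𝔛 h𝔛.1 k).push.obj ((FSch.levelMor 𝔛 h𝔛.1 k).pull.obj 𝔉)) n))
      (fun k => AddCommGrpCat.ofHom
        (Sheaf.H.map ((SheafOfModules.toSheaf _).map (FSch.levelTrans 𝔛 h𝔛.1 𝔉 k)) n))) := by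
  exact Groth.L17.FSheaf.GrQuot.isML_levels (hX := h𝔛) hf.1 h𝔉 hf.2 n

end Groth.Agent.S13640
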