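import Groth.Statements.S13642
import Groth.Agent.L17.FSheaf.RestrictSpf

set_option autoImplicit false
open CategoryTheory
universe u
open FSch AlgebraicGeometry Groth.L17.FSheaf

namespace Groth.Agent.S13642

/-- Let f : 𝔛 ⟶ 𝔜 be a finite morphism of locally Noetherian formal schemes (adic, with finite morphism
of smallest levels). Then for every open U of 𝔜 the restriction f⁻¹(U) ⟶ U of f to the induced
formal schemes on U and on its inverse image is a finite morphism. -/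
theorem result (𝔛 𝔜 : FSch.Sys.{u}) (h𝔛 : 𝔛.IsLocNoethFormal) (h𝔜 : 𝔜.IsLocNoethFormal)
    (f : 𝔛 ⟶ 𝔜) (hf : FSch.IsFiniteHom f) (U : (𝔜.X 0).Opens) :
    FSch.IsFiniteHom (FSch.Hom.restrictOpen f h𝔛.1 h𝔜.1 U) := by
  refine ⟨Groth.L17.FSheaf.Restr.isAdicHom_restrict 𝔜 h𝔜 h𝔛.1 f hf.1, ?_⟩
  exact MorphismProperty.of_isPullback (P := @IsFinite)
    (isPullback_resLE ((f : FSch.Hom 𝔛 𝔜).app 0) (FSch.Hom.lvU_preimage f h𝔛.1 h𝔜.1 0 U).symm).flip hf.2

end Groth.Agent.S13642
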