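import Groth.Statements.S13643
import Groth.Agent.L17.FSheaf.UnitCoh

set_option autoImplicit false
open CategoryTheory
universe u
open FSch

namespace Groth.Agent.S13643

/-- Let f : 𝔛 ⟶ 𝔜 be a finite morphism of locally Noetherian formal schemes (adic, with finite morphism
of smallest levels). Then f_* O_𝔛 is a coherent O_𝔜-module. (The published statement says that f_*
O_𝔛 is a coherent O_𝔜-algebra; this row asserts coherence of the underlying O_𝔜-module only.) -/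
theorem result (𝔛 𝔜 : FSch.Sys.{u}) (h𝔛 : 𝔛.IsLocNoethFormal) (h𝔜 : 𝔜.IsLocNoethFormal)
    (f : 𝔛 ⟶ 𝔜) (hf : FSch.IsFiniteHom f) :
    FSch.IsCohF 𝔜 h𝔜.1 ((FSch.pushF f h𝔛.1 h𝔜.1).obj (FSch.unitF 𝔛 h𝔛.1)) := by
  haveI := hf.2
  exact Groth.L17.FSheaf.isCohF_pushF_unitF h𝔛 h𝔜 f ⟨hf.1, inferInstance⟩

end Groth.Agent.S13643
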