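import Groth.Statements.S13645
import Groth.Agent.L17.FSheaf.AlgzCompletion

set_option autoImplicit false
open CategoryTheory CategoryTheory.Limits AlgebraicGeometry
universe u
open FSch

namespace Groth.Agent.S13645

/-- Suppose A is a Noetherian adic ring whose ideal of definition is J, put Y = Spec A, take f : X ⟶ Y
separated and of finite type, and write X̂ for the completion of X along f⁻¹(V(J)). Say that an
O_X̂-module is algebraizable if it is isomorphic to the completion of some coherent O_X-module with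
support proper over Y. Given a short exact sequence 0 ⟶ ℋ ⟶ 𝔉 ⟶ 𝔊 ⟶ 0 of coherent O_X̂-modules where
both ℋ and 𝔊 are algebraizable, the middle term 𝔉 is algebraizable as well. -/
theorem result (A : Type u) [CommRing A] [IsNoetherianRing A] (J : Ideal A) [IsAdicComplete J A]
    {X : Scheme.{u}} (f : X ⟶ Spec (CommRingCat.of A)) [IsSeparated f] [LocallyOfFiniteType f] [QuasiCompact f]
    (𝓘 : X.IdealSheafData) (h𝓘 : 𝓘 = (FSch.idealSpec A J).comap f)
    (hX : (FSch.completionAlong X 𝓘).IsFormal)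
    (S : ShortComplex (FSch.ModF (FSch.completionAlong X 𝓘) hX)) (hS : S.ShortExact)
    (h₁ : FSch.IsCohF _ hX S.X₁) (h₂ : FSch.IsCohF _ hX S.X₂) (h₃ : FSch.IsCohF _ hX S.X₃)
    (a₁ : (∃ G : X.Modules, Coh.IsCoh G ∧ ClSub.IsProperOver f (CohB1.support G) ∧
        Nonempty (S.X₁ ≅ (FSch.complMod 𝓘 G).realMod hX)))
    (a₃ : (∃ G : X.Modules, Coh.IsCoh G ∧ ClSub.IsProperOver f (CohB1.support G) ∧
        Nonempty (S.X₃ ≅ (FSch.complMod 𝓘 G).realMod hX))) :
    (∃ G : X.Modules, Coh.IsCoh G ∧ ClSub.IsProperOver f (CohB1.support G) ∧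
        Nonempty (S.X₂ ≅ (FSch.complMod 𝓘 G).realMod hX)) := by
  open AlgebraicGeometry in
  haveI : IsLocallyNoetherian X := LocallyOfFiniteType.isLocallyNoetherian f
  have hN := Groth.Agent.S3854.result X 𝓘
  have hcl := Groth.L17.FSheaf.isClosedImmersion_completionToX 𝓘
  have hcut := Groth.L17.FSheaf.cutOver_completion J f 𝓘 h𝓘
  have hiff := Groth.L17.FSheaf.isAlgzC_iff f 𝓘 hN
  exact (hiff S.X₂).2 (Groth.L17.FSheaf.isAlgz_of_shortExact J f (FSch.completionAlong X 𝓘) hN
    (FSch.completionToX X 𝓘) (FSch.completionToX_comm X 𝓘) hcl hcut S hS h₂ ((hiff S.X₁).1 a₁) ((hiff S.X₃).1 a₃))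

end Groth.Agent.S13645
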