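import Groth.Statements.S13647
import Groth.Agent.L17.FSheaf.CompPush
import Groth.Agent.L17.FSheaf.AlgzCompletion
import Groth.Agent.L17.ProperOver
import Groth.Agent.L16.Exist.PropSupp
import Groth.Agent.S3854

set_option autoImplicit false
open CategoryTheory CategoryTheory.Limits AlgebraicGeometry
universe u
open FSch

namespace Groth.Agent.S13647

/-- Suppose A is a Noetherian ring that is adic with J as an ideal of definition, and put Y = Spec A.
Consider finite-type morphisms f : X ⟶ Y and h : Z ⟶ Y together with a proper Y-morphism g : Z ⟶ X.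
Write X̂ and Ẑ for the completions along the preimages of V(J), and ĝ : Ẑ ⟶ X̂ for the map on
completions induced by g. A module on X̂ (resp. Ẑ) is termed algebraizable if it is isomorphic to
the completion of some coherent module on X (resp. Z) having support proper over Y. Under these
assumptions, whenever 𝔉 is an algebraizable O_Ẑ-module, its direct image ĝ_* 𝔉 is again an
algebraizable O_X̂-module. -/
theorem result (A : Type u) [CommRing A] [IsNoetherianRing A]
    (J : Ideal A) [IsAdicComplete J A] {X Z : Scheme.{u}} (f : X ⟶ Spec (CommRingCat.of A))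
    [LocallyOfFiniteType f] [QuasiCompact f] (h : Z ⟶ Spec (CommRingCat.of A)) [LocallyOfFiniteType h]
    [QuasiCompact h] (g : Z ⟶ X) (hg : g ≫ f = h) [IsProper g]
    (𝓘 : X.IdealSheafData) (h𝓘 : 𝓘 = (FSch.idealSpec A J).comap f)
    (𝓚 : Z.IdealSheafData) (h𝓚 : 𝓚 = (FSch.idealSpec A J).comap h)
    (hX : (FSch.completionAlong X 𝓘).IsFormal) (hZ : (FSch.completionAlong Z 𝓚).IsFormal)
    (hpc : FSch.PowCompat g 𝓚 𝓘) (𝔉 : FSch.ModF (FSch.completionAlong Z 𝓚) hZ)
    (a𝔉 : (∃ G : Z.Modules, Coh.IsCoh G ∧ ClSub.IsProperOver h (CohB1.support G) ∧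
        Nonempty (𝔉 ≅ (FSch.complMod 𝓚 G).realMod hZ))) :
    (∃ G : X.Modules, Coh.IsCoh G ∧ ClSub.IsProperOver f (CohB1.support G) ∧
        Nonempty ((FSch.pushF (FSch.completionMap g 𝓚 𝓘 hpc) hZ hX).obj 𝔉 ≅ (FSch.complMod 𝓘 G).realMod hX)) := by
  open AlgebraicGeometry in
  haveI : IsLocallyNoetherian X := LocallyOfFiniteType.isLocallyNoetherian f
  haveI : CompactSpace X := QuasiCompact.compactSpace_of_compactSpace f
  haveI : AlgebraicGeometry.IsNoetherian X := ⟨⟩
  haveI : IsLocallyNoetherian Z := LocallyOfFiniteType.isLocallyNoetherian h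
  haveI : CompactSpace Z := QuasiCompact.compactSpace_of_compactSpace h
  haveI : AlgebraicGeometry.IsNoetherian Z := ⟨⟩
  obtain ⟨G, hG, hs, ⟨e⟩⟩ := a𝔉
  have hM := Groth.L16.Exist.isCoh_pushforward g hG
  refine ⟨(Scheme.Modules.pushforward g).obj G, hM, ?_, ?_⟩
  · obtain ⟨hc, hp⟩ := hs
    have key : IsProper ((((Scheme.IdealSheafData.vanishingIdeal ⟨CohB1.support G, hc⟩).subschemeι) ≫ g) ≫ f) := by
      rw [Category.assoc, hg]
      exact hp
    haveI := key
    refine Groth.L17.ProperOver.isProperOver_mono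
      (Groth.L17.ProperOver.isProperOver_range f
        ((Scheme.IdealSheafData.vanishingIdeal ⟨CohB1.support G, hc⟩).subschemeι ≫ g))
      (Groth.L16.CohSupport.isClosed_support _ hM.2) (fun x hx => ?_)
    obtain ⟨y, hy, rfl⟩ := Groth.L16.Exist.support_push_image g hG hx
    obtain ⟨w, hw⟩ := (Groth.L17.ProperOver.range_ι ⟨CohB1.support G, hc⟩).ge hy
    exact ⟨w, (Scheme.Hom.comp_apply _ _ w).trans (congrArg g hw)⟩
  have h𝓚' : 𝓚 = 𝓘.comap g := by
    rw [h𝓚, h𝓘, ← Scheme.IdealSheafData.comap_comp, hg]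
  subst h𝓚'
  exact Groth.L17.FSheaf.nonempty_pushF_iso g (FSch.completionMap g (𝓘.comap g) 𝓘 hpc)
    (Groth.Agent.S3854.result Z (𝓘.comap g)) (Groth.Agent.S3854.result X 𝓘)
    (FSch.completionToX Z (𝓘.comap g)) (FSch.completionToX_comm Z (𝓘.comap g))
    (FSch.completionToX X 𝓘) (FSch.completionToX_comm X 𝓘) (FSch.completionMap_sq g (𝓘.comap g) 𝓘 hpc)
    (Groth.L17.FSheaf.isClosedImmersion_completionToX (𝓘.comap g))
    (Groth.L17.FSheaf.isClosedImmersion_completionToX 𝓘 0)
    (Groth.L17.FSheaf.cutBy_completionToX (𝓘.comap g)) (Groth.L17.FSheaf.cutBy_completionToX 𝓘) hG 𝔉 e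

end Groth.Agent.S13647
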