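import Groth.Statements.S13648
import Groth.Agent.L17.FSheaf.RpushBC
import Groth.Agent.L17.ComplSquare
import Groth.Agent.L17.ProperCoh
import Groth.Agent.S3854
import Groth.Agent.L17.FSheaf.AlgzCompletion

set_option autoImplicit false
open CategoryTheory CategoryTheory.Limits AlgebraicGeometry
universe u
open FSch

namespace Groth.Agent.S13648

/-- Let f : X ⟶ Y be a proper morphism of Noetherian schemes, 𝓘 an ideal of O_Y defining a closed subset
Y', 𝓚 = 𝓘 O_X its inverse image, Ŷ and X̂ the completions along Y' and f⁻¹(Y'), f̂ : X̂ ⟶ Ŷ the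
extension of f, j : Ŷ ⟶ Y and i : X̂ ⟶ X the canonical morphisms of ringed spaces, and F a coherent
O_X-module, so that F̂ = i^* F. Then for every n the completion (R^n f_* F)^ = j^*(R^n f_* F) is
isomorphic to R^n f̂_*(F̂) as an O_Ŷ-module. Only the existence of an isomorphism is asserted; the
published statement asserts that the canonical base-change morphism ρ_n of the square is an
isomorphism, moreover a homeomorphism. -/
theorem result (X Y : Scheme.{u}) [IsNoetherian X]
    [IsNoetherian Y] (f : X ⟶ Y) [IsProper f] (𝓘 : Y.IdealSheafData) (𝓚 : X.IdealSheafData)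
    (h𝓚 : 𝓚 = 𝓘.comap f) (hpc : FSch.PowCompat f 𝓚 𝓘) (hX : (FSch.completionAlong X 𝓚).IsFormal)
    (hY : (FSch.completionAlong Y 𝓘).IsFormal) [HasInjectiveResolutions X.Modules]
    [HasInjectiveResolutions (FSch.ModF (FSch.completionAlong X 𝓚) hX)] (F : X.Modules) (hF : Coh.IsCoh F)
    (n : ℕ) :
    Nonempty ((FSch.toSchemeMor (FSch.completionAlong Y 𝓘) hY (FSch.completionToX Y 𝓘) (FSch.completionToX_comm Y 𝓘)).pull.obj ((Coh.Rpush f n).obj F) ≅
      (FSch.RpushF (FSch.completionMap f 𝓚 𝓘 hpc) hX hY n).obj ((FSch.toSchemeMor (FSch.completionAlong X 𝓚) hX (FSch.completionToX X 𝓚) (FSch.completionToX_comm X 𝓚)).pull.obj F)) := by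
  subst h𝓚
  have hX' : (FSch.completionAlong X (𝓘.comap f)).IsLocNoethFormal := Groth.Agent.S3854.result X (𝓘.comap f)
  have hY' : (FSch.completionAlong Y 𝓘).IsLocNoethFormal := Groth.Agent.S3854.result Y 𝓘
  haveI hcl := Groth.L17.FSheaf.isClosedImmersion_completionToX (𝓘.comap f) 0
  haveI hclY := Groth.L17.FSheaf.isClosedImmersion_completionToX 𝓘 0
  have hcut := Groth.L17.FSheaf.cutBy_completionToX (𝓘.comap f)
  haveI := Groth.L17.FSheaf.RpushComp.preservesFiniteColimits_pushKap hX'.1
    (FSch.completionToX X (𝓘.comap f)) (FSch.completionToX_comm X (𝓘.comap f))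
  haveI := Groth.L17.FSheaf.RpushComp.preservesInjective_pushKap hX'.1
    (FSch.completionToX X (𝓘.comap f)) (FSch.completionToX_comm X (𝓘.comap f)) hcut
  haveI : HasInjectiveResolutions (ModSite.Mod X.sheaf) := (inferInstance : HasInjectiveResolutions X.Modules)
  have hφ : FSch.IsProperHom (FSch.completionMap f (𝓘.comap f) 𝓘 hpc) :=
    ⟨Groth.L17.ComplSquare.isAdicHom f 𝓘 hpc,
      MorphismProperty.of_isPullback (P := @IsProper) (Groth.L17.ComplSquare.isPullback_level f 𝓘 hpc 0) ‹IsProper f›⟩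
  exact Groth.L17.FSheaf.RpushBC.nonempty_iso f (FSch.completionMap f (𝓘.comap f) 𝓘 hpc) hX' hY'
    (FSch.completionToX X (𝓘.comap f)) (FSch.completionToX_comm X (𝓘.comap f))
    (FSch.completionToX Y 𝓘) (FSch.completionToX_comm Y 𝓘)
    (FSch.completionMap_sq f (𝓘.comap f) 𝓘 hpc) F n hF hφ
    (Groth.L17.FSheaf.isClosedImmersion_completionToX (𝓘.comap f)) hcut
    (Groth.L17.FSheaf.cutBy_completionToX 𝓘) (Groth.L17.ProperCoh.isCoh_Rpush f F hF n)

end Groth.Agent.S13648
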