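import Groth.Statements.S13649
import Groth.Agent.L17.ComplUnit.Spread
import Groth.Agent.L17.ComplSquare
import Groth.Agent.L17.FSheaf.AlgzCompletion
import Groth.Agent.S3854

set_option autoImplicit false
open CategoryTheory CategoryTheory.Limits AlgebraicGeometry Opposite TopologicalSpace
universe u
open FSch

namespace Groth.Agent.S13649

/-- Suppose X is a Noetherian (separated) scheme and 𝓘 is an ideal cutting out a closed subset X'. Take
a proper morphism f : Z ⟶ X, write X̂ and Ẑ for the completions of X along X' and of Z along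
f⁻¹(X'), and let f̂ : Ẑ ⟶ X̂ be the morphism extending f. Let 𝓜 be an ideal of O_X (automatically
coherent, since X is Noetherian), and write U for the open complement of the support of O_X/𝓜;
assume that over U the morphism f restricts to an isomorphism f⁻¹(U) ⟶ U. Given any coherent
O_X̂-module 𝔉, one can find n > 0 for which 𝓜̂^n = (𝓜^n) O_X̂ kills both the kernel and the cokernel
of the canonical map ρ_𝔉 : 𝔉 ⟶ f̂_* f̂^* 𝔉. The statement is phrased on the base of opens X̂ ∩ U'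
with U' an affine open of X: whenever s is a section of 𝓜^n over U', its image in Γ(X̂ ∩ U', O_X̂)
multiplies every section of Ker ρ_𝔉 and of Coker ρ_𝔉 over X̂ ∩ U' to zero. -/
theorem result (X Z : Scheme.{u}) [IsNoetherian X] [X.IsSeparated] (f : Z ⟶ X) [IsProper f]
    (𝓘 : X.IdealSheafData) (𝓚 : Z.IdealSheafData) (h𝓚 : 𝓚 = 𝓘.comap f) (hpc : FSch.PowCompat f 𝓚 𝓘)
    (hX : (FSch.completionAlong X 𝓘).IsFormal) (hZ : (FSch.completionAlong Z 𝓚).IsFormal)
    (𝓜 : X.IdealSheafData) (hU : IsIso (f ∣_ 𝓜.support.compl))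
    (𝔉 : FSch.ModF (FSch.completionAlong X 𝓘) hX) (h𝔉 : FSch.IsCohF _ hX 𝔉) :
    ∃ n : ℕ, 0 < n ∧
      ∀ (U : X.affineOpens) (s : Γ(X, ↑U)), s ∈ (𝓜 ^ n).ideal U →
        ∀ r : ((FSch.completionAlong X 𝓘).Osh hX).obj.obj (op ((FSch.completionToX X 𝓘 0) ⁻¹ᵁ (U : X.Opens))),
          r = (FSch.schSharp (FSch.completionAlong X 𝓘) hX (FSch.completionToX X 𝓘) (FSch.completionToX_comm X 𝓘)).hom.app (op (U : X.Opens)) s →
          (∀ x : ModSite.sect (kernel ((FSch.homMor (FSch.completionMap f 𝓚 𝓘 hpc) hZ hX).adj.unit.app 𝔉)) ((FSch.completionToX X 𝓘 0) ⁻¹ᵁ (U : X.Opens)), r • x = 0) ∧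
          (∀ x : ModSite.sect (cokernel ((FSch.homMor (FSch.completionMap f 𝓚 𝓘 hpc) hZ hX).adj.unit.app 𝔉)) ((FSch.completionToX X 𝓘 0) ⁻¹ᵁ (U : X.Opens)), r • x = 0) := by
  open Groth.L17.FSheaf Groth.L17.ComplUnit in
  open AlgebraicGeometry in
  classical
  subst h𝓚
  haveI : IsLocallyNoetherian Z := LocallyOfFiniteType.isLocallyNoetherian f
  have hX' : (FSch.completionAlong X 𝓘).IsLocNoethFormal := Groth.Agent.S3854.result X 𝓘
  have hZ' : (FSch.completionAlong Z (𝓘.comap f)).IsLocNoethFormal := Groth.Agent.S3854.result Z (𝓘.comap f)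
  let φ := FSch.completionMap f (𝓘.comap f) 𝓘 hpc
  have hsq : ∀ n, IsPullback (FSch.completionToX Z (𝓘.comap f) n) ((φ : FSch.Hom _ _).app n) f
      (FSch.completionToX X 𝓘 n) := Groth.L17.ComplSquare.isPullback_level f 𝓘 hpc
  have hr0 : IsClosedImmersion (FSch.completionToX X 𝓘 0) := isClosedImmersion_completionToX 𝓘 0
  have hφ : FSch.IsProperHom φ :=
    ⟨Groth.L17.ComplSquare.isAdicHom f 𝓘 hpc,
      MorphismProperty.of_isPullback (P := @IsProper) (hsq 0) ‹IsProper f›⟩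
  let η := (FSch.homMor φ hZ hX).adj.unit.app 𝔉
  have hP := isCohF_pushF φ hZ' hX' (hφ := hφ) _ (isCohF_pullF φ hZ' hX' 𝔉 h𝔉)
  have hK : FSch.IsCohF _ hX (kernel η) := isCohF_kernel _ hX' h𝔉 hP η
  have hC : FSch.IsCohF _ hX (cokernel η) := isCohF_cokernel _ hX' h𝔉 hP η
  have hloc : ∀ W : X.affineOpens, ∃ n : ℕ, ∀ s ∈ (𝓜.ideal W) ^ n, _ := fun W =>
    exists_pow_killing_unit f φ hZ' hX' (FSch.completionToX Z (𝓘.comap f)) (FSch.completionToX_comm Z (𝓘.comap f))
      (FSch.completionToX X 𝓘) (FSch.completionToX_comm X 𝓘) hsq W.2 hr0 𝓜.support.compl hU (𝓜.ideal W)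
      (fun a ha x hx hxs => (X.mem_zeroLocus_iff (U := W.1) _ x).1
        ((Scheme.IdealSheafData.mem_support_iff_of_mem (U := W) (X.basicOpen_le a hx)).1 hxs) a ha hx) 𝔉 h𝔉 hφ
  choose n hn using hloc
  obtain ⟨t, ht⟩ := isCompact_univ.elim_finite_subcover (fun W : X.affineOpens => (W.1 : Set X))
    (fun W => W.1.2) fun x _ => by
      obtain ⟨_, ⟨W, hW, rfl⟩, hxW, -⟩ :=
        X.isBasis_affineOpens.exists_subset_of_mem_open (Set.mem_univ x) isOpen_univ
      exact Set.mem_iUnion.2 ⟨⟨W, hW⟩, hxW⟩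
  let N := t.sup n + 1
  refine ⟨N, Nat.succ_pos _, fun U s hs r hr => ?_⟩
  have hr' : r = α hX' (FSch.completionToX X 𝓘) (FSch.completionToX_comm X 𝓘) s := hr
  have hcov : ∀ x : X, ∃ W ∈ (↑t : Set X.affineOpens), x ∈ W.1 := fun x => by
    obtain ⟨W, hW, hx⟩ := Set.mem_iUnion₂.1 (ht (Set.mem_univ x))
    exact ⟨W, hW, hx⟩
  have hle : ∀ W ∈ (↑t : Set X.affineOpens), (𝓜 ^ N).ideal W ≤ (𝓜.ideal W) ^ n W := fun W hW => by
    rw [Scheme.IdealSheafData.ideal_pow]
    exact Ideal.pow_le_pow_right ((Finset.le_sup (f := n) hW).trans (Nat.le_succ _))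
  rw [hr']
  exact ⟨fun x => kills_of_cover _ hX' _ (FSch.completionToX_comm X 𝓘) hr0 (kernel η) hK (𝓜 ^ N) _ hcov
      (fun W hW s hs => (hn W s (hle W hW hs)).1) U s hs x,
    fun x => kills_of_cover _ hX' _ (FSch.completionToX_comm X 𝓘) hr0 (cokernel η) hC (𝓜 ^ N) _ hcov
      (fun W hW s hs => (hn W s (hle W hW hs)).2) U s hs x⟩

end Groth.Agent.S13649
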