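import Groth.Statements.S1365
import Groth.Agent.L16.Connected.AppIso
import Groth.Agent.L16.Rees.InvNearFibre
import Groth.Agent.L19.NormalSections

set_option autoImplicit false
universe u
open FlatMor

namespace Groth.Agent.S1365

open AlgebraicGeometry CategoryTheory Limits in
/-- Let f : X → S be proper with S integral and normal and X reduced, such that the generic points of
the irreducible components of X all lie over the generic point ξ of S, and such that the global
functions of the generic fibre are just the residue field of ξ. Then the structure sheaf of S is the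
pushforward of that of X (all components of f on opens are isomorphisms) and f has geometrically
connected fibres. -/
theorem result {X S : Scheme.{u}} (f : X ⟶ S) [IsProper f] [IsIntegral S] (hS : Pi1.IsNormalScheme S) [IsReduced X]
    (hgen : ∀ Z ∈ irreducibleComponents ↑X, ∀ x : X, IsGenericPoint x Z → f x = genericPoint ↑S)
    (h0 : Function.Bijective ((f.fiberToSpecResidueField (genericPoint ↑S)).appTop)) :
    (∀ U : S.Opens, IsIso (f.app U)) ∧ GeometricallyConnected f := by
  let ξ := genericPoint S
  let h := f.fiberToSpecResidueField ξ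
  haveI hiso : IsIso (S.residue ξ) := by
    rw [ConcreteCategory.isIso_iff_bijective]
    exact ⟨RingHom.injective (show S.functionField →+* S.residueField ξ from (S.residue ξ).hom), S.residue_surjective ξ⟩
  have key : ∀ V : S.Opens, IsAffineOpen V → Function.Bijective (f.app V) := by
    intro V hV
    rcases (V : Set S).eq_empty_or_nonempty with h0e | hne
    · obtain rfl : V = ⊥ := SetLike.coe_injective h0e
      haveI : Subsingleton Γ(X, f ⁻¹ᵁ ⊥) := by
        rw [show f ⁻¹ᵁ (⊥ : S.Opens) = ⊥ from rfl]; infer_instance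
      exact ⟨fun a b _ => Subsingleton.elim a b, fun s => ⟨0, Subsingleton.elim _ _⟩⟩
    have hξ : ξ ∈ V := ((genericPoint_spec S).mem_open_set_iff V.2).mpr (by simpa using hne)
    let i := f.fiberι ξ
    have htop : (⊤ : (f.fiber ξ).Opens) ≤ i ⁻¹ᵁ (f ⁻¹ᵁ V) := fun w _ => by
      show f (i w) ∈ V
      have : i w ∈ Set.range i := ⟨w, rfl⟩
      rw [Scheme.Hom.range_fiberι] at this
      rw [show f (i w) = ξ from this]
      exact hξ
    have htop' : (⊤ : (Spec (S.residueField ξ)).Opens) ≤ S.fromSpecResidueField ξ ⁻¹ᵁ V := fun w _ => by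
      show S.fromSpecResidueField ξ w ∈ V
      rw [Scheme.fromSpecResidueField_apply]; exact hξ
    let α : S.functionField →+* Γ(f.fiber ξ, ⊤) :=
      (S.residue ξ ≫ (Scheme.ΓSpecIso (S.residueField ξ)).inv ≫ h.appTop).hom
    have hα : Function.Bijective α :=
      (h0.comp (ConcreteCategory.bijective_of_isIso (Scheme.ΓSpecIso (S.residueField ξ)).inv)).comp
        (ConcreteCategory.bijective_of_isIso (S.residue ξ))
    have hcomp : ∀ a, (i.appLE (f ⁻¹ᵁ V) ⊤ htop) (f.app V a) = α (S.presheaf.germ V ξ hξ a) := by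
      intro a
      have e1 : f.app V ≫ i.appLE (f ⁻¹ᵁ V) ⊤ htop = (i ≫ f).appLE V ⊤ htop := by
        rw [← Scheme.Hom.appLE_comp_appLE i f V (f ⁻¹ᵁ V) ⊤ le_rfl htop, Scheme.Hom.app_eq_appLE]
      have e2 : (i ≫ f).appLE V ⊤ htop = (h ≫ S.fromSpecResidueField ξ).appLE V ⊤ (fun w _ => htop' trivial) := by
        congr 1
        exact pullback.condition
      have e3 : (h ≫ S.fromSpecResidueField ξ).appLE V ⊤ (fun w _ => htop' trivial) =
          (S.fromSpecResidueField ξ).appLE V ⊤ htop' ≫ h.appTop := by
        rw [← Scheme.Hom.appLE_comp_appLE h (S.fromSpecResidueField ξ) V ⊤ ⊤ htop' le_top]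
        exact congrArg _ (h.appLE_eq_app)
      refine (congr($(e1.trans (e2.trans e3)) a)).trans ?_
      rw [Groth.L16.Rees.NearFibre.fromSpecResidueField_app_top ξ hξ htop']
      rfl
    refine ⟨fun a b hab => germ_injective_of_isIntegral S ξ hξ (hα.1 ?_), fun s => ?_⟩
    · rw [← hcomp, ← hcomp, hab]
    obtain ⟨z, hz⟩ := hα.2 (i.appLE (f ⁻¹ᵁ V) ⊤ htop s)
    have hint : ((S.presheaf.germ V ξ hξ).hom.comp (RingHom.id _)).IsIntegralElem z := by
      obtain ⟨P, hP, hPs⟩ := Groth.L16.Connected.isIntegral_app f hV s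
      refine ⟨P, hP, hα.1 ?_⟩
      rw [map_zero, Polynomial.hom_eval₂, hz, show α.comp ((S.presheaf.germ V ξ hξ).hom.comp (RingHom.id _)) =
        (i.appLE (f ⁻¹ᵁ V) ⊤ htop).hom.comp (f.app V).hom from RingHom.ext fun a => (hcomp a).symm]
      exact (Polynomial.hom_eval₂ P (f.app V).hom (i.appLE (f ⁻¹ᵁ V) ⊤ htop).hom s).symm.trans
        ((congrArg _ hPs).trans (map_zero _))
    obtain ⟨a, ha⟩ := Groth.L19.NormalSec.exists_section_of_isIntegral (fun x => (hS x).2) V hξ (RingHom.id _) z hint
    refine ⟨a, ?_⟩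
    rw [← sub_eq_zero, ← basicOpen_eq_bot_iff]
    refine le_bot_iff.1 fun x hx => ?_
    obtain ⟨η, hη⟩ := QuasiSober.sober (isIrreducible_irreducibleComponent (x := x)) isClosed_irreducibleComponent
    have hxη : η ⤳ x := hη.specializes mem_irreducibleComponent
    have hηD := hxη.mem_open (X.basicOpen (f.app V a - s)).2 hx
    have hηξ := hgen _ (irreducibleComponent_mem_irreducibleComponents x) η hη
    obtain ⟨w, hw⟩ : η ∈ Set.range i := by rw [Scheme.Hom.range_fiberι]; exact hηξ
    rw [← hw] at hηD
    have hwD : w ∈ (f.fiber ξ).basicOpen (i.appLE (f ⁻¹ᵁ V) ⊤ htop (f.app V a - s)) := by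
      rw [Scheme.basicOpen_appLE]
      exact ⟨trivial, hηD⟩
    rw [map_sub, hcomp, ha, hz, sub_self, Scheme.basicOpen_zero] at hwD
    exact hwD
  have hall : ∀ U : S.Opens, IsIso (f.app U) := fun U =>
    (ConcreteCategory.isIso_iff_bijective _).2 (Groth.L17.bijective_app_of_affine f key U)
  exact ⟨hall, Groth.L16.Connected.geometricallyConnected f hall⟩
end Groth.Agent.S1365
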