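import Groth.Statements.S13650
import Groth.Agent.L17.FSheaf.FormalCoh
import Groth.Agent.L17.FSheaf.AlgzCompletion
import Groth.Agent.S3854

set_option autoImplicit false
open CategoryTheory CategoryTheory.Limits AlgebraicGeometry
universe u
open FSch

namespace Groth.Agent.S13650

/-- Let A be a Noetherian ring, I an ideal of A, X a scheme proper over Spec A, F a coherent O_X-module,
X̂ the completion of X along the inverse image of V(I), i : X̂ ⟶ X the canonical morphism of ringed
spaces and F̂ = i^* F its completion. Then for every n the cohomology group H^n(X̂, F̂) of the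
formal scheme is isomorphic to the inverse limit lim_k H^n(X, F/I^(k+1)F). Only the existence of an
additive isomorphism is asserted; the published statement asserts that the canonical map ψ_n, built
from the maps H^n(X̂, F̂) ⟶ H^n(X, F/I^(k+1)F), is bijective. -/
theorem result (A : Type u) [CommRing A] [IsNoetherianRing A]
    (I : Ideal A) (X : Scheme.{u}) [X.Over (Spec (CommRingCat.of A))] [IsProper (X ↘ Spec (CommRingCat.of A))]
    (𝓚 : X.IdealSheafData) (h𝓚 : 𝓚 = (FSch.idealSpec A I).comap (X ↘ Spec (CommRingCat.of A)))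
    (hX : (FSch.completionAlong X 𝓚).IsFormal) (F : X.Modules) (hF : Coh.IsCoh F) (n : ℕ) :
    Nonempty (FSch.HF (FSch.completionAlong X 𝓚) hX ((FSch.toSchemeMor (FSch.completionAlong X 𝓚) hX (FSch.completionToX X 𝓚) (FSch.completionToX_comm X 𝓚)).pull.obj F) n ≃+ Formal.HHlim I F n) := by
  set_option backward.isDefEq.respectTransparency false in
  haveI : IsLocallyNoetherian X := LocallyOfFiniteType.isLocallyNoetherian (X ↘ Spec (CommRingCat.of A))
  haveI : CompactSpace X := QuasiCompact.compactSpace_of_compactSpace (X ↘ Spec (CommRingCat.of A))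
  haveI : AlgebraicGeometry.IsNoetherian X := ⟨⟩
  have hcut : Groth.L17.FSheaf.CutOver I (FSch.completionAlong X 𝓚) (FSch.completionToX X 𝓚) :=
    Groth.L17.FSheaf.cutOver_completion I (X ↘ Spec (CommRingCat.of A)) 𝓚 h𝓚
  exact Groth.L17.FSheaf.nonempty_HF_equiv (FSch.completionAlong X 𝓚) (FSch.completionToX X 𝓚)
    (FSch.completionToX_comm X 𝓚) I (Groth.Agent.S3854.result X 𝓚)
    (Groth.L17.FSheaf.isClosedImmersion_completionToX 𝓚) hcut hF n

end Groth.Agent.S13650
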