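import Groth.Statements.S13654
import Groth.Agent.L20.FBlow.Extend

set_option autoImplicit false
open CategoryTheory AlgebraicGeometry
universe u
open FBlow

set_option backward.isDefEq.respectTransparency.types false
namespace Groth.Agent.S13654

/-- Let R be a base ring of class (N) or (V) for the ideal I and X an admissible formal R-scheme,
presented I-adically: a formal system of thickenings X_0 → X_1 → ⋯ adic over Spf R = (Spec
R/I^(n+1))_n (all squares cartesian), with every level X_n locally of finite presentation over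
R/I^(n+1), structure sheaf O_X = lim O_{X_n} on the common underlying space, and no I-torsion (over
every open, a section of O_X annihilated by the kernel of O_X → O_{X_0} is zero); assume that the
underlying space of X is quasi-separated and quasi-paracompact (covered by quasi-compact opens each
of which meets only finitely many of the others). Let U be a quasi-compact open subset, carrying the
induced formal system, and J_U a coherent open ideal of O_U. Then J_U extends to a coherent open
ideal J of O_X: the ideal J·O_U generated by J along the inclusion of U is J_U, and J can moreover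
be chosen so that its sections over every open subset disjoint from U form the unit ideal. -/
theorem result
    (R : Type u) [CommRing R] (I : Ideal R) (hR : AdicRing.IsBase R I)
    (𝔛 : FSch.Sys.{u}) (h : 𝔛.IsFormal) (p : 𝔛 ⟶ FSch.spf R I) (hp : FSch.IsAdicHom p)
    (hfp : ∀ n, LocallyOfFinitePresentation ((p : FSch.Hom 𝔛 (FSch.spf R I)).app n))
    (htf : ∀ (U : (𝔛.X 0).Opens) (s : (𝔛.Osh h).obj.obj (Opposite.op U)),
      (∀ a ∈ (FBlow.IdealSh.ker (𝔛.OshProj h 0)).sect U, a * s = 0) → s = 0)
    [QuasiSeparatedSpace (𝔛.X 0)]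
    (hqp : ∃ (ι : Type u) (V : ι → (𝔛.X 0).Opens), (⨆ i, V i) = ⊤ ∧ (∀ i, IsCompact (V i : Set (𝔛.X 0))) ∧
      ∀ i, Set.Finite {j : ι | V i ⊓ V j ≠ ⊥})
    (U : (𝔛.X 0).Opens) (hUc : IsCompact (U : Set (𝔛.X 0))) (hU : (𝔛.restrictOpen h U).IsFormal)
    (JU : FBlow.IdealSh ((𝔛.restrictOpen h U).Osh hU)) (hJU : FBlow.IsCohOpen (𝔛.restrictOpen h U) hU JU) :
    ∃ J : FBlow.IdealSh (𝔛.Osh h), FBlow.IsCohOpen 𝔛 h J ∧
      FBlow.idealMap (𝔛.restrictOpenι h U) hU h J = JU ∧
      ∀ V : (𝔛.X 0).Opens, V ⊓ U = ⊥ → J.sect V = ⊤ := by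
  obtain ⟨ι, V, hcov, hc, hf⟩ := hqp
  obtain ⟨W, hWc, hW⟩ := Groth.L20.FBlow.exists_compact_nhd_closure V hcov hc hf U hUc
  exact Groth.L20.FBlow.exists_extension hR hp hfp hUc hWc hW hU hJU


end Groth.Agent.S13654
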