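import Groth.Statements.S13657
import Groth.Agent.L20.FBlow.Torsion

set_option autoImplicit false
open CategoryTheory AlgebraicGeometry
universe u
open FBlow

set_option backward.isDefEq.respectTransparency.types false
namespace Groth.Agent.S13657

/-- Let R be a base ring of class (N) or (V) for the ideal I and X an admissible formal R-scheme,
presented I-adically: a formal system of thickenings X_0 → X_1 → ⋯ adic over Spf R = (Spec
R/I^(n+1))_n (all squares cartesian), with every level X_n locally of finite presentation over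
R/I^(n+1), structure sheaf O_X = lim O_{X_n} on the common underlying space, and no I-torsion (over
every open, a section of O_X annihilated by the kernel of O_X → O_{X_0} is zero). Let J be a
coherent open ideal of O_X and X' → X an admissible formal blowing-up of J (universal-property
sense). Then X' is an admissible formal R-scheme again: O_{X'} has no I-torsion (over every open, a
section annihilated by the kernel of O_{X'} → O_{X'_0} vanishes), and the levels of the composite X'
→ X → Spf R are locally of finite presentation over the rings R/I^(n+1). -/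
theorem result
    (R : Type u) [CommRing R] (I : Ideal R) (hR : AdicRing.IsBase R I)
    (𝔛 : FSch.Sys.{u}) (h : 𝔛.IsFormal) (p : 𝔛 ⟶ FSch.spf R I) (hp : FSch.IsAdicHom p)
    (hfp : ∀ n, LocallyOfFinitePresentation ((p : FSch.Hom 𝔛 (FSch.spf R I)).app n))
    (htf : ∀ (U : (𝔛.X 0).Opens) (s : (𝔛.Osh h).obj.obj (Opposite.op U)),
      (∀ a ∈ (FBlow.IdealSh.ker (𝔛.OshProj h 0)).sect U, a * s = 0) → s = 0)
    (J : FBlow.IdealSh (𝔛.Osh h)) (hJ : FBlow.IsCohOpen 𝔛 h J)
    (𝔛' : FSch.Sys.{u}) (h' : 𝔛'.IsFormal) (b : 𝔛' ⟶ 𝔛) (hb : FBlow.IsAdmBlowUp b h' h J) :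
    (∀ (U : (𝔛'.X 0).Opens) (s : (𝔛'.Osh h').obj.obj (Opposite.op U)),
        (∀ a ∈ (FBlow.IdealSh.ker (𝔛'.OshProj h' 0)).sect U, a * s = 0) → s = 0) ∧
      ∀ n, LocallyOfFinitePresentation ((b ≫ p : FSch.Hom 𝔛' (FSch.spf R I)).app n) := by
  obtain ⟨h1, h2⟩ := Groth.L20.FBlow.baseTF_lfp_of_isAdmBlowUp hR hp hfp htf hJ hb
  exact ⟨Groth.L20.FBlow.noTors_of_baseTF h1, h2⟩


end Groth.Agent.S13657
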