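import Groth.Statements.S13658
import Groth.Agent.L20.FBlow.Mul

set_option autoImplicit false
open CategoryTheory AlgebraicGeometry
universe u
open FBlow

set_option backward.isDefEq.respectTransparency.types false
namespace Groth.Agent.S13658

/-- Let R be a base ring of class (N) or (V) for the ideal I and X an admissible formal R-scheme,
presented I-adically: a formal system of thickenings X_0 → X_1 → ⋯ adic over Spf R = (Spec
R/I^(n+1))_n (all squares cartesian), with every level X_n locally of finite presentation over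
R/I^(n+1), structure sheaf O_X = lim O_{X_n} on the common underlying space, and no I-torsion (over
every open, a section of O_X annihilated by the kernel of O_X → O_{X_0} is zero). Let J and K be
coherent open ideals of O_X, X' → X an admissible formal blowing-up of J (universal-property sense)
and X'' → X' an admissible formal blowing-up of the ideal K·O_{X'}. Then the composite X'' → X is an
admissible formal blowing-up of the product ideal J·K. -/
theorem result
    (R : Type u) [CommRing R] (I : Ideal R) (hR : AdicRing.IsBase R I)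
    (𝔛 : FSch.Sys.{u}) (h : 𝔛.IsFormal) (p : 𝔛 ⟶ FSch.spf R I) (hp : FSch.IsAdicHom p)
    (hfp : ∀ n, LocallyOfFinitePresentation ((p : FSch.Hom 𝔛 (FSch.spf R I)).app n))
    (htf : ∀ (U : (𝔛.X 0).Opens) (s : (𝔛.Osh h).obj.obj (Opposite.op U)),
      (∀ a ∈ (FBlow.IdealSh.ker (𝔛.OshProj h 0)).sect U, a * s = 0) → s = 0)
    (J K : FBlow.IdealSh (𝔛.Osh h)) (hJ : FBlow.IsCohOpen 𝔛 h J) (hK : FBlow.IsCohOpen 𝔛 h K)
    (𝔛' : FSch.Sys.{u}) (h' : 𝔛'.IsFormal) (b : 𝔛' ⟶ 𝔛) (hb : FBlow.IsAdmBlowUp b h' h J)
    (𝔛'' : FSch.Sys.{u}) (h'' : 𝔛''.IsFormal) (b' : 𝔛'' ⟶ 𝔛')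
    (hb' : FBlow.IsAdmBlowUp b' h'' h' (FBlow.idealMap b h' h K)) :
    FBlow.IsAdmBlowUp (b' ≫ b) h'' h (FBlow.IdealSh.mul J K) := by
  exact Groth.L20.FBlow.isAdmBlowUp_comp_mul hR hp hfp htf hJ hK hb hb'


end Groth.Agent.S13658
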