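import Groth.Statements.S13659
import Groth.Agent.L20.FBlow.CutBase

set_option autoImplicit false
open CategoryTheory AlgebraicGeometry
universe u
open FBlow

set_option backward.isDefEq.respectTransparency.types false
namespace Groth.Agent.S13659

/-- Let R be a base ring of class (N) or (V) for the ideal I, A an admissible R-algebra and 𝔞 a finitely
generated open ideal of A (one containing I^k A for some k). Present Spf A as the completion of Spec
A along the ideal IA (the formal system of the closed subschemes V((IA)^(n+1))), and let P → Spec A
be a scheme-theoretic blowing-up of 𝔞 (universal-property sense) along which the powers of IA pull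
back to the powers of the pulled-back ideal. Then the induced morphism from the completion of P
along the inverse image of IA to Spf A is the admissible formal blowing-up of the ideal 𝔞·O_{Spf A}:
it is adic, 𝔞 generates an invertible ideal of the structure sheaf of the completion of P, and every
adic morphism of formal systems Y → Spf A under which 𝔞 generates an invertible ideal of O_Y factors
through it in exactly one way. (The published statement identifies the two constructions for A
merely topologically of finite presentation; the universal property asserted here is the one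
established for admissible A, so A is taken admissible.) -/
theorem result
    (R : Type u) [CommRing R] (I : Ideal R) (hR : AdicRing.IsBase R I)
    (A : Type u) [CommRing A] [Algebra R A] (hA : AdicRing.Admissible R I A)
    (𝔞 : Ideal A) (h𝔞 : 𝔞.FG) (k : ℕ) (hk : (I ^ k).map (algebraMap R A) ≤ 𝔞)
    (P : Scheme.{u}) (q : P ⟶ Spec (CommRingCat.of A)) (hq : BlowUp.IsBlowUp q (FSch.idealSpec A 𝔞))
    (hpc : FSch.PowCompat q ((FSch.idealSpec A (I.map (algebraMap R A))).comap q) (FSch.idealSpec A (I.map (algebraMap R A))))
    (hX : (FSch.completionAlong (Spec (CommRingCat.of A)) (FSch.idealSpec A (I.map (algebraMap R A)))).IsFormal)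
    (hP : (FSch.completionAlong P ((FSch.idealSpec A (I.map (algebraMap R A))).comap q)).IsFormal) :
    FBlow.IsAdmBlowUp (FSch.completionMap q ((FSch.idealSpec A (I.map (algebraMap R A))).comap q) (FSch.idealSpec A (I.map (algebraMap R A))) hpc) hP hX
      (FBlow.schIdealMap (FSch.completionAlong (Spec (CommRingCat.of A)) (FSch.idealSpec A (I.map (algebraMap R A)))) hX
        (FSch.completionToX (Spec (CommRingCat.of A)) (FSch.idealSpec A (I.map (algebraMap R A))))
        (FSch.completionToX_comm (Spec (CommRingCat.of A)) (FSch.idealSpec A (I.map (algebraMap R A))))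
        (FBlow.IdealSh.ofData (FSch.idealSpec A 𝔞))) := by
  haveI := Groth.L20.FBlow.lft_of_isBlowUp h𝔞 hq
  have hd := Groth.L20.FBlow.isThick_completion P ((FSch.idealSpec A (I.map (algebraMap R A))).comap q)
  refine Groth.L20.FBlow.isAdmBlowUp_of_scheme (d := FSch.completionToX P _) hR
    (let ⟨n, φ, hφ, _⟩ := hA.1; ⟨n, φ, hφ⟩) (FSch.completionToX_comm _ _)
    (Groth.L20.FBlow.isThick_completion _ _) hq (FSch.completionToX_comm _ _) (fun n => ?_)
    (Groth.L20.FBlow.genOn_schIdealMap hX _ _ 𝔞)
  haveI := (hd n).1
  haveI := ((Groth.L20.FBlow.isThick_completion (Spec (CommRingCat.of A))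
    (FSch.idealSpec A (I.map (algebraMap R A)))) n).1
  refine Groth.L20.FBlow.isPullback_of_ker _ _ _ _ ?_ ?_
  · exact (Scheme.IdealSheafData.subschemeMap_subschemeι _ _ _ (Scheme.IdealSheafData.le_map_iff_comap_le.mpr (hpc n))).symm
  · rw [(hd n).2, ((Groth.L20.FBlow.isThick_completion (Spec (CommRingCat.of A))
      (FSch.idealSpec A (I.map (algebraMap R A)))) n).2, Groth.L17.Thick.comap_pow]


end Groth.Agent.S13659
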