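import Groth.Statements.S13660
import Groth.Agent.L20.FBlow.ChartMain

set_option autoImplicit false
open CategoryTheory AlgebraicGeometry
universe u
open FBlow

set_option backward.isDefEq.respectTransparency.types false
namespace Groth.Agent.S13660

/-- Let R be a base ring of class (N) or (V) for the ideal I, A an admissible R-algebra and f_0, …, f_r
elements generating an open ideal 𝔞 of A (one containing I^k A for some k); present Spf A as the
formal system (Spec A/(IA)^(n+1))_n and let X' → Spf A be an admissible formal blowing-up of the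
ideal 𝔞·O_{Spf A} (universal-property sense). For each i let U_i be the locus of points of X' having
a neighbourhood on every open subset of which the ideals generated by 𝔞 and by f_i in O_{X'}
coincide, and let A_i be the I-adic completion of A[ζ_j ; j ≠ i]/(f_i ζ_j − f_j ; j ≠ i) divided by
its f_i-power torsion. Then the U_i cover X', and for every i there is a morphism Spf A_i → X' over
Spf A (its composite with X' → Spf A is the morphism induced by A → A_i) which is an open immersion
at every level and whose underlying image is exactly U_i. -/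
theorem result
    (R : Type u) [CommRing R] (I : Ideal R) (hR : AdicRing.IsBase R I)
    (A : Type u) [CommRing A] [Algebra R A] (hA : AdicRing.Admissible R I A)
    (r : ℕ) (f : Fin (r + 1) → A) (k : ℕ) (hopen : (I ^ k).map (algebraMap R A) ≤ Ideal.span (Set.range f))
    (hX : (FSch.spf A (I.map (algebraMap R A))).IsFormal)
    (𝔛' : FSch.Sys.{u}) (h' : 𝔛'.IsFormal) (b : 𝔛' ⟶ (FSch.spf A (I.map (algebraMap R A))))
    (hb : FBlow.IsAdmBlowUp b h' hX (FBlow.schIdealMap (FSch.spf A (I.map (algebraMap R A))) hX (FSch.spfToSpec A (I.map (algebraMap R A))) (FSch.spfToSpec_comm A (I.map (algebraMap R A))) (FBlow.IdealSh.ofData (FSch.idealSpec A (Ideal.span (Set.range f)))))) :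
    (∀ x : 𝔛'.X 0, ∃ i : Fin (r + 1), x ∈ {x : 𝔛'.X 0 | ∃ V : (𝔛'.X 0).Opens, x ∈ V ∧ ∀ V' : (𝔛'.X 0).Opens, V' ≤ V →
          (FBlow.idealMap b h' hX (FBlow.schIdealMap (FSch.spf A (I.map (algebraMap R A))) hX (FSch.spfToSpec A (I.map (algebraMap R A))) (FSch.spfToSpec_comm A (I.map (algebraMap R A))) (FBlow.IdealSh.ofData (FSch.idealSpec A (Ideal.span (Set.range f)))))).sect V' =
          (FBlow.idealMap b h' hX (FBlow.schIdealMap (FSch.spf A (I.map (algebraMap R A))) hX (FSch.spfToSpec A (I.map (algebraMap R A))) (FSch.spfToSpec_comm A (I.map (algebraMap R A))) (FBlow.IdealSh.ofData (FSch.idealSpec A (Ideal.span {f i}))))).sect V'}) ∧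
    ∀ (i : Fin (r + 1)) (hi : (FSch.spf (AdicRing.chartAdm I f i) (I.map (algebraMap R (AdicRing.chartAdm I f i)))).IsFormal)
      (hle : (I.map (algebraMap R A)) ≤ (I.map (algebraMap R (AdicRing.chartAdm I f i))).comap (algebraMap A (AdicRing.chartAdm I f i))),
      ∃ u : FSch.spf (AdicRing.chartAdm I f i) (I.map (algebraMap R (AdicRing.chartAdm I f i))) ⟶ 𝔛',
        u ≫ b = FSch.spfMap (I.map (algebraMap R (AdicRing.chartAdm I f i))) (I.map (algebraMap R A)) (algebraMap A (AdicRing.chartAdm I f i)) hle ∧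
        (∀ n, IsOpenImmersion ((u : FSch.Hom (FSch.spf (AdicRing.chartAdm I f i) (I.map (algebraMap R (AdicRing.chartAdm I f i)))) 𝔛').app n)) ∧
        Set.range ((u : FSch.Hom (FSch.spf (AdicRing.chartAdm I f i) (I.map (algebraMap R (AdicRing.chartAdm I f i)))) 𝔛').app 0).base = {x : 𝔛'.X 0 | ∃ V : (𝔛'.X 0).Opens, x ∈ V ∧ ∀ V' : (𝔛'.X 0).Opens, V' ≤ V →
          (FBlow.idealMap b h' hX (FBlow.schIdealMap (FSch.spf A (I.map (algebraMap R A))) hX (FSch.spfToSpec A (I.map (algebraMap R A))) (FSch.spfToSpec_comm A (I.map (algebraMap R A))) (FBlow.IdealSh.ofData (FSch.idealSpec A (Ideal.span (Set.range f)))))).sect V' =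
          (FBlow.idealMap b h' hX (FBlow.schIdealMap (FSch.spf A (I.map (algebraMap R A))) hX (FSch.spfToSpec A (I.map (algebraMap R A))) (FSch.spfToSpec_comm A (I.map (algebraMap R A))) (FBlow.IdealSh.ofData (FSch.idealSpec A (Ideal.span {f i}))))).sect V'} := by
  have hR' := hR
  have hI : I.FG := Groth.L05.Bosch.isBase_fg hR
  refine ⟨fun x => Groth.L20.FBlow.exists_mem_chartLocus f rfl hb.2.1 x, fun i hi hle => ?_⟩
  obtain ⟨⟨n, φ, hφ, -⟩, -⟩ := hA
  have hAi := Groth.L20.FBlow.tft_chartAdm (I := I) f i hR ⟨n, φ, hφ⟩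
  refine Groth.L20.FBlow.exists_chart_openImmersion (hX := hX) (hI.map _)
    (Groth.L20.FBlow.map_chartAdm f i) hle hb (Ideal.subset_span ⟨i, rfl⟩)
    (Groth.L20.FBlow.isChart_chartAdm f i hI) (fun W => ?_) (Groth.L20.FBlow.nzd_chartAdm f i)
    (Groth.L20.FBlow.span_map_chartAdm f i) hi
  have h1 := Groth.L20.FBlow.flat_completion (R := R) (A := AdicRing.chartAdm I f i)
    (q := 𝟙 (Spec (CommRingCat.of (AdicRing.chartAdm I f i)))) hR' hAi W
  rw [← Scheme.IdealSheafData.comap_id (FSch.idealSpec (AdicRing.chartAdm I f i) (I.map (algebraMap R (AdicRing.chartAdm I f i))))]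
  exact h1


end Groth.Agent.S13660
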