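import Groth.Statements.S13662
import Groth.Agent.L20.FBlow.Adjoin

set_option autoImplicit false
open CategoryTheory AlgebraicGeometry
open scoped TensorProduct
universe u
open FBlow

set_option backward.isDefEq.respectTransparency.types false
namespace Groth.Agent.S13662

/-- Let R be a complete valuation ring of height one with t a nonzero element generating an ideal of
definition and K its field of fractions, A an admissible R-algebra, f_1, …, f_n elements of A ⊗_R K
that are integral over A, c a nonzero element of R and g_1, …, g_n elements of A with g_i = c f_i in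
A ⊗_R K; put A' = A[f_1, …, f_n] ⊂ A ⊗_R K and 𝔞 = (c, g_1, …, g_n) ⊂ A, and present Spf A and Spf
A' as the formal systems (Spec A/(t)^(m+1))_m and (Spec A'/(t)^(m+1))_m. Then the morphism Spf A' →
Spf A induced by the inclusion A ⊂ A' is the admissible formal blowing-up of the ideal 𝔞·O_{Spf A}
in the sense of the universal property: it is adic, 𝔞 generates an invertible ideal of O_{Spf A'},
and every adic morphism of formal systems Y → Spf A under which 𝔞 generates an invertible ideal of
O_Y factors through Spf A' → Spf A in exactly one way. (The published hypothesis on the f_i is that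
their supremum seminorm on the affinoid algebra A ⊗_R K is at most 1; integrality over A is what is
derived from it and used, and is taken as the hypothesis here.) -/
theorem result
    (R : Type u) [CommRing R] [IsDomain R] [ValuationRing R] [Ring.KrullDimLE 1 R]
    (t : R) (ht : t ≠ 0) [IsAdicComplete (Ideal.span {t}) R]
    (A : Type u) [CommRing A] [Algebra R A] (hA : AdicRing.Admissible R (Ideal.span {t}) A)
    (n : ℕ) (f : Fin n → A ⊗[R] FractionRing R) (hf : ∀ i, IsIntegral A (f i))
    (c : R) (hc : c ≠ 0) (g : Fin n → A)
    (hg : ∀ i, algebraMap A (A ⊗[R] FractionRing R) (g i) = c • f i)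
    (hX : (FSch.spf A ((Ideal.span {t}).map (algebraMap R A))).IsFormal) (h' : (FSch.spf ↥(Algebra.adjoin A (Set.range f)) ((Ideal.span {t}).map (algebraMap R ↥(Algebra.adjoin A (Set.range f))))).IsFormal)
    (hle : ((Ideal.span {t}).map (algebraMap R A)) ≤ ((Ideal.span {t}).map (algebraMap R ↥(Algebra.adjoin A (Set.range f)))).comap (algebraMap A ↥(Algebra.adjoin A (Set.range f)))) :
    FBlow.IsAdmBlowUp (FSch.spfMap ((Ideal.span {t}).map (algebraMap R ↥(Algebra.adjoin A (Set.range f)))) ((Ideal.span {t}).map (algebraMap R A)) (algebraMap A ↥(Algebra.adjoin A (Set.range f))) hle) h' hX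
      (FBlow.schIdealMap (FSch.spf A ((Ideal.span {t}).map (algebraMap R A))) hX (FSch.spfToSpec A ((Ideal.span {t}).map (algebraMap R A))) (FSch.spfToSpec_comm A ((Ideal.span {t}).map (algebraMap R A)))
        (FBlow.IdealSh.ofData (FSch.idealSpec A (Ideal.span (insert (algebraMap R A c) (Set.range g)))))) := by
  have hR : AdicRing.IsBase R (Ideal.span {t}) :=
    ⟨inferInstance, Or.inr ⟨inferInstance, inferInstance, inferInstance, t, ht, rfl⟩⟩
  have hinj := Groth.L20.FBlow.injective_algebraMap_tensor ht hA.2
  have hca : algebraMap A (A ⊗[R] FractionRing R) (algebraMap R A c) = algebraMap R (A ⊗[R] FractionRing R) c :=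
    (IsScalarTower.algebraMap_apply R A (A ⊗[R] FractionRing R) c).symm
  have hu : IsUnit (algebraMap A (A ⊗[R] FractionRing R) (algebraMap R A c)) := by
    have h1 : IsUnit (algebraMap R (FractionRing R) c) :=
      ((map_ne_zero_iff _ (IsFractionRing.injective R (FractionRing R))).2 hc).isUnit
    have h2 := h1.map (Algebra.TensorProduct.includeRight : FractionRing R →ₐ[R] A ⊗[R] FractionRing R)
    rw [AlgHom.commutes] at h2
    rw [hca]
    exact h2
  obtain ⟨⟨k, φ, hφ, -⟩, -⟩ := hA
  exact Groth.L20.FBlow.isAdmBlowUp_adjoin_range (K := A ⊗[R] FractionRing R) hR ⟨k, φ, hφ⟩ hinj hu g f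
    (fun i => by rw [hca]; exact (hg i).trans (Algebra.smul_def c (f i))) hf hX h' hle


end Groth.Agent.S13662
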