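import Mathlib.Tactic
import Groth.Statements.S13663


set_option autoImplicit false
universe u
open GrRing

namespace Groth.Agent.S13663

/-- Let A be a commutative ring graded by the integers whose ideal generated by the homogeneous elements
of positive degree has homogeneous generators f_1, …, f_p, of positive degrees d_1, …, d_p, and let
d be a positive integer divisible by each d_i. Then A_N = A_d · A_{N-d} for every integer N > dp -
(d_1 + ⋯ + d_p). -/
theorem result {R A : Type u} [CommRing R] [CommRing A] [Algebra R A]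
    (𝒜 : ℤ → Submodule R A) [GradedAlgebra 𝒜]
    {p : ℕ} (f : Fin p → A) (deg : Fin p → ℤ) (hdeg : ∀ i, 0 < deg i) (hf : ∀ i, f i ∈ 𝒜 (deg i))
    (hgen : Ideal.span {a : A | ∃ n : ℤ, 0 < n ∧ a ∈ 𝒜 n} = Ideal.span (Set.range f))
    (d : ℤ) (hd : 0 < d) (hdvd : ∀ i, deg i ∣ d) (N : ℤ) (hN : d * p - ∑ i, deg i < N) :
    𝒜 N = 𝒜 d * 𝒜 (N - d) := by
  classical
  have hexp : ∀ (n : ℤ) (a : A), 0 < n → a ∈ 𝒜 n → ∃ c : Fin p → A, (∀ i, c i ∈ 𝒜 (n - deg i)) ∧ ∑ i, c i * f i = a := by
    intro n a hn ha
    have h1 : a ∈ Ideal.span (Set.range f) := hgen ▸ Ideal.subset_span ⟨n, hn, ha⟩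
    obtain ⟨c, hc⟩ := Ideal.mem_span_range_iff_exists_fun.1 h1
    refine ⟨fun i => DirectSum.decompose 𝒜 (c i) (n - deg i), fun i => SetLike.coe_mem _, ?_⟩
    conv_rhs => rw [← DirectSum.decompose_of_mem_same 𝒜 ha, ← hc, DirectSum.decompose_sum, DFinsupp.finset_sum_apply,
      Submodule.coe_sum]
    refine Finset.sum_congr rfl fun i _ => ?_
    have h2 := DirectSum.coe_decompose_mul_add_of_right_mem 𝒜 (a := c i) (i := n - deg i) (hf i)
    rw [sub_add_cancel] at h2
    exact h2.symm
  refine le_antisymm (fun x hx => ?_) (Submodule.mul_le.2 fun a ha b hb => by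
    have := SetLike.mul_mem_graded (A := 𝒜) ha hb
    rwa [add_sub_cancel] at this)
  let kk : Fin p → ℕ := fun i => (d / deg i).toNat
  have hkk : ∀ i, (kk i : ℤ) * deg i = d := fun i => by
    simp only [kk]
    rw [Int.toNat_of_nonneg (Int.ediv_nonneg hd.le (hdeg i).le), Int.ediv_mul_cancel (hdvd i)]
  suffices H : ∀ (M : ℕ) (e : Fin p → ℕ), (∀ i, e i ≤ kk i) → ∑ i, (kk i - e i) ≤ M →
      ∀ a ∈ 𝒜 (N - ∑ i, (e i : ℤ) * deg i), (∏ i, f i ^ e i) * a ∈ 𝒜 d * 𝒜 (N - d) by
    simpa using H _ 0 (fun i => Nat.zero_le _) le_rfl x (by simpa using hx)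
  intro M
  induction M using Nat.strong_induction_on with
  | _ M ih =>
    intro e he hM a ha
    by_cases hfull : ∃ i, e i = kk i
    · obtain ⟨i, hi⟩ := hfull
      have hfi : f i ^ e i ∈ 𝒜 d := by
        have := SetLike.pow_mem_graded (A := 𝒜) (e i) (hf i)
        rwa [nsmul_eq_mul, hi, hkk i, ← hi] at this
      rw [← Finset.mul_prod_erase _ _ (Finset.mem_univ i), mul_assoc]
      refine Submodule.mul_mem_mul hfi ?_
      have h1 : (∏ j ∈ Finset.univ.erase i, f j ^ e j) ∈ 𝒜 (∑ j ∈ Finset.univ.erase i, (e j : ℤ) * deg j) := by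
        have := SetLike.prod_mem_graded 𝒜 (fun j => (e j : ℕ) • deg j) (fun j => f j ^ e j)
          (fun j (_ : j ∈ Finset.univ.erase i) => SetLike.pow_mem_graded (e j) (hf j))
        simpa [nsmul_eq_mul] using this
      have h2 := SetLike.mul_mem_graded (A := 𝒜) h1 ha
      have h3 : ∑ j, (e j : ℤ) * deg j = d + ∑ j ∈ Finset.univ.erase i, (e j : ℤ) * deg j := by
        rw [← Finset.add_sum_erase _ _ (Finset.mem_univ i), hi, hkk i]
      convert h2 using 2
      rw [h3]
      ring
    · push Not at hfull
      have hle : ∀ i, (e i : ℤ) * deg i ≤ d - deg i := fun i => by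
        have h1 : (e i : ℤ) + 1 ≤ kk i := by have := he i; have := hfull i; omega
        nlinarith [hdeg i, hkk i]
      have hpos : 0 < N - ∑ i, (e i : ℤ) * deg i := by
        have h2 := Finset.sum_le_sum (fun i (_ : i ∈ Finset.univ) => hle i)
        rw [Finset.sum_sub_distrib] at h2
        simp only [Finset.sum_const, Finset.card_univ, Fintype.card_fin, nsmul_eq_mul] at h2
        rw [mul_comm] at hN
        linarith
      obtain ⟨c, hc, hca⟩ := hexp _ a hpos ha
      rw [← hca, Finset.mul_sum]
      refine Submodule.sum_mem _ fun i _ => ?_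
      have heq : (∏ j, f j ^ e j) * (c i * f i) = (∏ j, f j ^ Function.update e i (e i + 1) j) * c i := by
        rw [← Finset.mul_prod_erase _ _ (Finset.mem_univ i), ← Finset.mul_prod_erase _ _ (Finset.mem_univ i),
          Function.update_self, pow_succ,
          Finset.prod_congr rfl (fun j (hj : j ∈ Finset.univ.erase i) =>
            show f j ^ Function.update e i (e i + 1) j = f j ^ e j by rw [Function.update_of_ne (Finset.ne_of_mem_erase hj)])]
        ring
      rw [heq]
      have hsum : ∑ j, (kk j - Function.update e i (e i + 1) j) < ∑ j, (kk j - e j) := by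
        refine Finset.sum_lt_sum (fun j _ => ?_) ⟨i, Finset.mem_univ i, ?_⟩
        · by_cases hj : j = i
          · subst hj; simp; omega
          · rw [Function.update_of_ne hj]
        · rw [Function.update_self]
          have := he i; have := hfull i; omega
      refine ih _ (lt_of_lt_of_le hsum hM) _ (fun j => ?_) le_rfl _ ?_
      · by_cases hj : j = i
        · subst hj; rw [Function.update_self]; have := he j; have := hfull j; omega
        · rw [Function.update_of_ne hj]; exact he j
      · convert hc i using 2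
        rw [← Finset.add_sum_erase _ _ (Finset.mem_univ i), ← Finset.add_sum_erase _ _ (Finset.mem_univ i),
          Function.update_self, Finset.sum_congr rfl (fun j (hj : j ∈ Finset.univ.erase i) =>
            show ((Function.update e i (e i + 1) j : ℕ) : ℤ) * deg j = (e j : ℤ) * deg j by
              rw [Function.update_of_ne (Finset.ne_of_mem_erase hj)])]
        push_cast
        ring
end Groth.Agent.S13663
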