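import Groth.Agent.S13663
import Mathlib.RingTheory.Ideal.Operations
import Mathlib.RingTheory.Noetherian.Basic
import Groth.Statements.S13664


set_option autoImplicit false
universe u
open GrRing

namespace Groth.Agent.S13664

/-- Let A be a commutative ring graded by the integers whose ideal I generated by the homogeneous
elements of positive degree has homogeneous generators f_1, …, f_p, of positive degrees d_1, …, d_p,
let d be a positive integer divisible by each d_i, and let x be an element of an A-module M. The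
following are equivalent: x is annihilated by some power of I; x is annihilated by (A_d)^n for all
sufficiently large n; there is an integer s such that A_n x = 0 for all n ≥ s. (The published
statement is for a homogeneous element of a graded module; this row drops both the grading of M and
the homogeneity of x, which play no role.) -/
theorem result {R A : Type u} [CommRing R] [CommRing A] [Algebra R A]
    (𝒜 : ℤ → Submodule R A) [GradedAlgebra 𝒜]
    {p : ℕ} (f : Fin p → A) (deg : Fin p → ℤ) (hdeg : ∀ i, 0 < deg i) (hf : ∀ i, f i ∈ 𝒜 (deg i))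
    (hgen : Ideal.span {a : A | ∃ n : ℤ, 0 < n ∧ a ∈ 𝒜 n} = Ideal.span (Set.range f))
    (d : ℤ) (hd : 0 < d) (hdvd : ∀ i, deg i ∣ d)
    {M : Type u} [AddCommGroup M] [Module A M] (x : M) :
    [x ∈ GrLC.gam (Ideal.span (Set.range f)) M,
     ∃ n₀ : ℕ, ∀ n : ℕ, n₀ ≤ n → ∀ r ∈ (𝒜 d) ^ n, r • x = 0,
     ∃ s : ℤ, ∀ n : ℤ, s ≤ n → ∀ r ∈ 𝒜 n, r • x = 0].TFAE := by
  classical
  set I := Ideal.span (Set.range f) with hI
  have hfI : ∀ n : ℤ, 0 < n → ∀ a ∈ 𝒜 n, a ∈ I := fun n hn a ha => hgen ▸ Ideal.subset_span ⟨n, hn, ha⟩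
  let B : ℤ := max (d * p - ∑ i, deg i) 0
  have hdeep : ∀ (j : ℕ) (N : ℤ), B + j * d < N → ∀ a ∈ 𝒜 N, a ∈ I ^ j := by
    intro j
    induction j with
    | zero => intros; simp
    | succ j ih =>
      intro N hN a ha
      have hB1 : d * p - ∑ i, deg i ≤ B := le_max_left _ _
      push_cast at hN
      have hN' : d * p - ∑ i, deg i < N := by nlinarith
      rw [Groth.Agent.S13663.result 𝒜 f deg hdeg hf hgen d hd hdvd N hN'] at ha
      refine Submodule.mul_induction_on ha (fun u hu v hv => ?_) fun u v hu hv => add_mem hu hv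
      rw [pow_succ']
      exact Ideal.mul_mem_mul (hfI d hd u hu) (ih _ (by linarith) v hv)
  tfae_have 1 → 3 := by
    rintro ⟨j, hj⟩
    exact ⟨B + j * d + 1, fun n hn r hr => hj r (hdeep j n (by linarith) r hr)⟩
  tfae_have 3 → 2 := by
    rintro ⟨s, hs⟩
    refine ⟨s.toNat, fun n hn r hr => hs (n * d) ?_ r ?_⟩
    · have : (s.toNat : ℤ) ≤ n := by exact_mod_cast hn
      have : s ≤ (s.toNat : ℤ) := Int.self_le_toNat s
      nlinarith
    · have h : ∀ n : ℕ, (𝒜 d) ^ n ≤ 𝒜 ((n : ℤ) * d) := by
        intro n
        induction n with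
        | zero => rw [pow_zero, Submodule.one_le]; simpa using SetLike.GradedOne.one_mem
        | succ n ih =>
          rw [pow_succ]
          refine (Submodule.mul_le.2 fun u hu v hv => ?_)
          have := SetLike.mul_mem_graded (A := 𝒜) (ih hu) hv
          push_cast
          rwa [add_one_mul]
      exact h n hr
  tfae_have 2 → 1 := by
    rintro ⟨n₀, hn₀⟩
    let J : Ideal A :=
      { carrier := {r | r • x = 0}
        add_mem' := fun {a b} ha hb => by
          change (a + b) • x = 0
          rw [add_smul, ha, hb, add_zero]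
        zero_mem' := zero_smul A x
        smul_mem' := fun c a ha => by
          change (c • a) • x = 0
          rw [smul_assoc, ha, smul_zero] }
    have hrad : I ≤ J.radical := Ideal.span_le.2 (by
      rintro - ⟨i, rfl⟩
      refine ⟨(d / deg i).toNat * n₀, ?_⟩
      change f i ^ _ • x = 0
      rw [pow_mul]
      refine hn₀ n₀ le_rfl _ (Submodule.pow_mem_pow _ ?_ n₀)
      have := SetLike.pow_mem_graded (A := 𝒜) (d / deg i).toNat (hf i)
      rwa [nsmul_eq_mul, Int.toNat_of_nonneg (Int.ediv_nonneg hd.le (hdeg i).le), Int.ediv_mul_cancel (hdvd i)] at this)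
    obtain ⟨j, hj⟩ := Ideal.exists_pow_le_of_le_radical_of_fg hrad ⟨Finset.univ.image f, by simp [hI]⟩
    exact ⟨j, fun r hr => hj hr⟩
  tfae_finish
end Groth.Agent.S13664
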