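import Groth.Statements.S13665
import Mathlib.RingTheory.GradedAlgebra.Homogeneous.Ideal
import Mathlib.RingTheory.FiniteType
import Mathlib.RingTheory.Adjoin.FG
import Mathlib.Tactic.TFAE

set_option autoImplicit false
universe u
open GrRing

namespace Groth.Agent.S13665

section
open DirectSum
variable {R A : Type u} [CommRing R] [CommRing A] [Algebra R A] (𝒜 : ℤ → Submodule R A) [GradedAlgebra 𝒜]

theorem exists_coeffs {T : Finset A} {δ : A → ℤ} (hT : ∀ f ∈ T, f ∈ 𝒜 (δ f)) {x : A} {n : ℤ}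
    (hx : x ∈ Ideal.span (T : Set A)) (hxn : x ∈ 𝒜 n) :
    ∃ c : A → A, (∀ f, c f ∈ 𝒜 (n - δ f)) ∧ x = ∑ f ∈ T, c f * f := by
  obtain ⟨a, -, ha⟩ := Submodule.mem_span_finset.mp hx
  refine ⟨fun f => decompose 𝒜 (a f) (n - δ f), fun f => SetLike.coe_mem _, ?_⟩
  have h := congrArg (fun y => (decompose 𝒜 y n : A)) ha
  rw [decompose_of_mem_same 𝒜 hxn] at h
  rw [← h, decompose_sum, DFinsupp.finsetSum_apply, AddSubmonoidClass.coe_finsetSum]
  refine Finset.sum_congr rfl fun f hf => ?_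
  have := coe_decompose_mul_add_of_right_mem 𝒜 (i := n - δ f) (a := a f) (hT f hf)
  rw [sub_add_cancel] at this
  exact this

theorem isNoetherian_zero (h : ∀ I : Ideal A, I.IsHomogeneous 𝒜 → I.FG) : IsNoetherianRing (𝒜 0) := by
  classical
  refine ⟨fun a => ?_⟩
  let S : Set A := Subtype.val '' (a : Set (𝒜 0))
  have hhom : (Ideal.span S).IsHomogeneous 𝒜 := Ideal.homogeneous_span 𝒜 S (by
    rintro _ ⟨y, -, rfl⟩; exact ⟨0, y.2⟩)
  obtain ⟨T, hTS, hT⟩ := (Submodule.fg_span_iff_fg_span_finset_subset S).mp (h _ hhom)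
  refine ⟨T.preimage Subtype.val Subtype.val_injective.injOn, le_antisymm ?_ fun x hx => ?_⟩
  · refine Submodule.span_le.mpr fun x hx => ?_
    obtain ⟨y, hy, hxy⟩ := hTS (Finset.mem_preimage.mp hx)
    rwa [← Subtype.ext hxy]
  · have hxS : (x : A) ∈ Ideal.span (T : Set A) := by
      rw [Ideal.span, ← hT]; exact Submodule.subset_span ⟨x, hx, rfl⟩
    have hTd : ∀ f ∈ T, f ∈ 𝒜 0 := fun f hf => by
      obtain ⟨y, -, rfl⟩ := hTS hf; exact y.2
    obtain ⟨c, hc, hsum⟩ := exists_coeffs 𝒜 (δ := fun _ => 0) hTd hxS x.2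
    have : x = ∑ f ∈ T.attach, (⟨c f, by simpa using hc f⟩ : 𝒜 0) * ⟨f, hTd f f.2⟩ := by
      apply Subtype.ext
      rw [AddSubmonoidClass.coe_finsetSum]
      exact hsum.trans (Finset.sum_attach T (fun f => c f * f)).symm
    rw [this]
    exact Submodule.sum_mem _ fun f _ => Submodule.smul_mem _ _
      (Submodule.subset_span (Finset.mem_preimage.mpr f.2))

theorem adjoin_fg (h : ∀ I : Ideal A, I.IsHomogeneous 𝒜 → I.FG) (e : ℤ) (he : e = 1 ∨ e = -1) :
    (Algebra.adjoin (𝒜 0) {a : A | ∃ n : ℕ, a ∈ 𝒜 (e * n)}).FG := by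
  classical
  have fgspan : ∀ S : Set A, (∀ x ∈ S, SetLike.IsHomogeneousElem 𝒜 x) →
      ∃ T : Finset A, (T : Set A) ⊆ S ∧ Ideal.span S = Ideal.span (T : Set A) := fun S hS =>
    (Submodule.fg_span_iff_fg_span_finset_subset S).mp (h _ (Ideal.homogeneous_span 𝒜 S hS))
  obtain ⟨T, hTS, hT⟩ := fgspan {a | ∃ n : ℕ, 0 < n ∧ a ∈ 𝒜 (e * n)} (fun x ⟨n, _, hx⟩ => ⟨_, hx⟩)
  choose! d hd0 hd using fun f (hf : f ∈ T) => hTS hf
  let D := T.sup d
  choose G hG hGspan using fun n : ℕ => fgspan (𝒜 (e * n) : Set A) (fun x hx => ⟨_, hx⟩)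
  refine ⟨T ∪ (Finset.range (D + 1)).biUnion G, le_antisymm (Algebra.adjoin_mono ?_) (Algebra.adjoin_le ?_)⟩
  · intro x hx
    rcases Finset.mem_union.mp hx with hx | hx
    · exact ⟨d x, hd x hx⟩
    · obtain ⟨n, -, hxn⟩ := Finset.mem_biUnion.mp hx
      exact ⟨n, hG n hxn⟩
  · rintro x ⟨n, hx⟩
    induction n using Nat.strong_induction_on generalizing x with
    | _ n ih =>
    rcases Nat.lt_or_ge D n with hn | hn
    · have hxT : x ∈ Ideal.span (T : Set A) := hT ▸ Ideal.subset_span ⟨n, by omega, hx⟩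
      obtain ⟨c, hc, hsum⟩ := exists_coeffs 𝒜 (δ := fun f => e * d f) hd hxT hx
      rw [hsum]
      refine Subalgebra.sum_mem _ fun f hf => Subalgebra.mul_mem _ ?_
        (Algebra.subset_adjoin (Finset.mem_union_left _ hf))
      have hle : d f ≤ n := (Finset.le_sup (f := d) hf).trans hn.le
      refine ih (n - d f) (by have := hd0 f hf; omega) ?_
      rw [Nat.cast_sub hle, mul_sub]
      exact hc f
    · have hxG : x ∈ Ideal.span (G n : Set A) := hGspan n ▸ Ideal.subset_span hx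
      obtain ⟨c, hc, hsum⟩ := exists_coeffs 𝒜 (δ := fun _ => e * (n : ℤ)) (fun f hf => hG n hf) hxG hx
      rw [hsum]
      refine Subalgebra.sum_mem _ fun f hf => Subalgebra.mul_mem _ ?_
        (Algebra.subset_adjoin (Finset.mem_union_right _ (Finset.mem_biUnion.mpr ⟨n, by simp; omega, hf⟩)))
      exact Subalgebra.algebraMap_mem _ (⟨c f, by simpa using hc f⟩ : 𝒜 0)

end


/-- For a commutative ring A graded by the integers, with degree-zero subring A_0, the following are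
equivalent: A is Noetherian; each homogeneous ideal of A has a finite generating set; A_0 is
Noetherian and the subalgebras A_{≥0}, A_{≤0} are each of finite type over A_0; A_0 is Noetherian
and A is an A_0-algebra of finite type. -/
theorem result {R A : Type u} [CommRing R] [CommRing A] [Algebra R A]
    (𝒜 : ℤ → Submodule R A) [GradedAlgebra 𝒜] :
    [IsNoetherianRing A,
     ∀ I : Ideal A, I.IsHomogeneous 𝒜 → I.FG,
     IsNoetherianRing (𝒜 0) ∧ (Algebra.adjoin (𝒜 0) {a : A | ∃ n : ℤ, 0 ≤ n ∧ a ∈ 𝒜 n}).FG ∧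
       (Algebra.adjoin (𝒜 0) {a : A | ∃ n : ℤ, n ≤ 0 ∧ a ∈ 𝒜 n}).FG,
     IsNoetherianRing (𝒜 0) ∧ Algebra.FiniteType (𝒜 0) A].TFAE := by
  classical
  tfae_have 1 → 2 := fun _ I _ => IsNoetherian.noetherian I
  tfae_have 2 → 3 := fun h => by
    refine ⟨isNoetherian_zero 𝒜 h, ?_, ?_⟩
    · convert adjoin_fg 𝒜 h 1 (Or.inl rfl) using 3
      ext a
      exact ⟨fun ⟨n, hn, ha⟩ => ⟨n.toNat, by rwa [one_mul, Int.toNat_of_nonneg hn]⟩,
        fun ⟨n, ha⟩ => ⟨1 * n, by positivity, ha⟩⟩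
    · convert adjoin_fg 𝒜 h (-1) (Or.inr rfl) using 3
      ext a
      exact ⟨fun ⟨n, hn, ha⟩ => ⟨(-n).toNat, by rwa [Int.toNat_of_nonneg (by omega), neg_one_mul, neg_neg]⟩,
        fun ⟨n, ha⟩ => ⟨-1 * n, by omega, ha⟩⟩
  tfae_have 3 → 4 := fun ⟨h0, hp, hm⟩ => by
    obtain ⟨T, hT⟩ := hp
    obtain ⟨T', hT'⟩ := hm
    refine ⟨h0, ⟨⟨T ∪ T', eq_top_iff.mpr fun x _ => ?_⟩⟩⟩
    rw [← DirectSum.sum_support_decompose 𝒜 x]
    refine Subalgebra.sum_mem _ fun i _ => ?_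
    rcases le_total 0 i with hi | hi
    · have : (DirectSum.decompose 𝒜 x i : A) ∈ Algebra.adjoin (𝒜 0) (T : Set A) :=
        hT ▸ Algebra.subset_adjoin ⟨i, hi, SetLike.coe_mem _⟩
      exact Algebra.adjoin_mono (by rw [Finset.coe_union]; exact Set.subset_union_left) this
    · have : (DirectSum.decompose 𝒜 x i : A) ∈ Algebra.adjoin (𝒜 0) (T' : Set A) :=
        hT' ▸ Algebra.subset_adjoin ⟨i, hi, SetLike.coe_mem _⟩
      exact Algebra.adjoin_mono (by rw [Finset.coe_union]; exact Set.subset_union_right) this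
  tfae_have 4 → 1 := fun ⟨h0, hf⟩ => by
    haveI := h0; haveI := hf
    exact Algebra.FiniteType.isNoetherianRing (𝒜 0) A
  tfae_finish

end Groth.Agent.S13665
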