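import Groth.Statements.S1367
import Groth.Agent.L12.GenusZero.Local

set_option autoImplicit false
universe u
open FlatMor

namespace Groth.Agent.S1367

open AlgebraicGeometry CategoryTheory Limits in
/-- Let f : X → Y be proper and y a point whose fibre has dimension at most 1 and satisfies H^1(X_y, O)
= 0. Then there is an open neighbourhood V of y such that R^1 f_* O_X vanishes on V, in the concrete
sense that H^1 of the structure sheaf vanishes on the preimage of every affine open of V, and the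
same holds for the base change of f along any morphism to V. -/
theorem result {X Y : Scheme.{u}} (f : X ⟶ Y) [IsProper f] (y : Y)
    (hdim : topologicalKrullDim ↑(f.fiber y) ≤ 1) (hH1 : Subsingleton (Coh.HH (f.fiber y) (Coh.structureModule (f.fiber y)) 1)) :
    ∃ V : Y.Opens, y ∈ V ∧ ∀ (Y' : Scheme.{u}) (g : Y' ⟶ (V : Scheme.{u})) (U : Y'.Opens), IsAffineOpen U →
      Subsingleton (Coh.HHon (pullback f (g ≫ V.ι)) (Coh.structureModule (pullback f (g ≫ V.ι))) (pullback.snd f (g ≫ V.ι) ⁻¹ᵁ U) 1) := by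
  obtain ⟨V, hV, hyV, -, hvan⟩ := Groth.L12.GenusZero.exists_good_nhd f y hdim hH1
  refine ⟨V, hyV, fun Y' g U hU => ?_⟩
  haveI := hvan Γ(Y', U) _ (Groth.L17.BC.fV (pullback.snd f (g ≫ V.ι)) hU)
    ((pullback.snd f (g ≫ V.ι) ⁻¹ᵁ U).ι ≫ pullback.fst f (g ≫ V.ι)) (hU.fromSpec ≫ g ≫ V.ι)
    ((Groth.L17.BC.Classes.isPullback_fV (pullback.snd f (g ≫ V.ι)) hU).paste_horiz
      (IsPullback.of_hasPullback f (g ≫ V.ι))) (by
        rintro _ ⟨z, rfl⟩
        show (hU.fromSpec ≫ g ≫ V.ι) z ∈ V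
        rw [Scheme.Hom.comp_apply, Scheme.Hom.comp_apply]
        exact (g (hU.fromSpec z)).2)
  exact Groth.L12.GenusZero.subsingleton_of_iso
    ((Groth.L29.LocFree.pullbackUnitIso (pullback.snd f (g ≫ V.ι) ⁻¹ᵁ U).ι).symm ≪≫
      ((Scheme.Modules.restrictFunctorIsoPullback (pullback.snd f (g ≫ V.ι) ⁻¹ᵁ U).ι).app _).symm) 1

end Groth.Agent.S1367
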