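import Groth.Statements.S13682
import Mathlib.LinearAlgebra.Multilinear.Curry
import Mathlib.Algebra.BigOperators.Fin
import Mathlib.Tactic.Module
import Mathlib.Tactic.Ring
import Mathlib.Tactic.LinearCombination
import Mathlib.Tactic.FieldSimp
import Mathlib.Algebra.BigOperators.Ring.Finset

set_option autoImplicit false
universe u v w
open scoped BigOperators
open BTGrp

namespace Groth.Agent.S13682

theorem aux {A : Type u} [CommRing A] (α : A) {N : Type w} [AddCommGroup N] [Module A N] (n : ℕ) :
    ∀ {r : ℕ} (M : Fin r → Type v) [∀ i, AddCommGroup (M i)] [∀ i, Module A (M i)]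
      (φ : MultilinearMap A M N) (y w : ∀ i, ℕ → M i),
      (∀ i, ∀ j < n, w i (j + 1) = w i j + α • y i j) →
      (∀ j < n, φ (fun k => w k (j + 1)) = φ (fun k => w k j) +
          α • ∑ i : Fin r, φ (fun k => if k < i then w k (j + 1) else if k = i then y k j else w k j)) ∧
      (∑ i : Fin r, ∑ j ∈ Finset.range n,
          φ (fun k => if k < i then w k (j + 1) else if k = i then y k j else w k j)) =
        ∑ i : Fin r, ∑ j ∈ Finset.range n,
          φ (fun k => if k < i then w k n else if k = i then y k j else w k 0) := by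
  intro r
  induction r with
  | zero =>
    intro M _ _ φ y w _
    exact ⟨fun j _ => by simp [Subsingleton.elim (fun k => w k (j + 1)) (fun k => w k j)], by simp⟩
  | succ r ih =>
    intro M _ _ φ y w hw
    let M' : Fin r → Type v := fun i => M i.succ
    let ψ : M 0 →ₗ[A] MultilinearMap A M' N := φ.curryLeft
    let y' : ∀ i, ℕ → M' i := fun i => y i.succ
    let w' : ∀ i, ℕ → M' i := fun i => w i.succ
    have ih' := fun v : M 0 => ih M' (ψ v) y' w' (fun i => hw i.succ)
    have hcons : ∀ (v : ∀ k, M k), φ v = ψ (v 0) (fun k => v k.succ) := fun v => by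
      show φ v = φ (Fin.cons (v 0) (fun k => v k.succ))
      congr 1
      funext k
      refine Fin.cases ?_ (fun i => ?_) k <;> simp
    let T : M 0 → ℕ → N := fun v j =>
      ∑ i : Fin r, ψ v (fun k => if k < i then w' k (j + 1) else if k = i then y' k j else w' k j)
    let T' : M 0 → ℕ → N := fun v j =>
      ∑ i : Fin r, ψ v (fun k => if k < i then w' k n else if k = i then y' k j else w' k 0)
    have hTT : ∀ v, ∑ j ∈ Finset.range n, T v j = ∑ j ∈ Finset.range n, T' v j := by
      intro v
      simp only [T, T']
      rw [Finset.sum_comm, (ih' v).2, Finset.sum_comm]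
    let Φ : M 0 → ℕ → N := fun v j => ψ v (fun k => w' k j)
    have hΦ : ∀ v, ∀ j < n, Φ v (j + 1) = Φ v j + α • T v j := fun v => (ih' v).1
    have hΦl : ∀ j, j ≤ n → ∀ v, Φ v j = Φ v 0 + α • ∑ l ∈ Finset.range j, T v l := by
      intro j
      induction j with
      | zero => intro _ v; simp
      | succ j ihj =>
        intro hj v
        rw [hΦ v j hj, ihj (by omega) v, Finset.sum_range_succ, smul_add, add_assoc]
    have hTadd : ∀ v v' j, T (v + v') j = T v j + T v' j := fun v v' j => by
      simp only [T, map_add, MultilinearMap.add_apply, Finset.sum_add_distrib]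
    have hTsmul : ∀ (v : M 0) j, T (α • v) j = α • T v j := fun v j => by
      simp only [T, map_smul, MultilinearMap.smul_apply, Finset.smul_sum]
    constructor
    · intro j hj
      rw [hcons, hcons (fun k => w k j), Fin.sum_univ_succ]
      rw [hcons (fun k => if k < 0 then _ else _)]
      simp only [hcons (fun k => if k < Fin.succ _ then _ else _), Fin.not_lt_zero, if_false, if_true,
        Fin.succ_pos, Fin.succ_ne_zero, Fin.succ_lt_succ_iff, Fin.succ_inj]
      change Φ _ (j + 1) = Φ _ j + α • (Φ (y 0 j) j + T (w 0 (j + 1)) j)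
      rw [hΦ _ j hj, hw 0 j hj]
      simp only [Φ, map_add, map_smul, MultilinearMap.add_apply, MultilinearMap.smul_apply]
      module
    · rw [Fin.sum_univ_succ, Fin.sum_univ_succ, Finset.sum_comm,
        Finset.sum_comm (s := (Finset.univ : Finset (Fin r)))]
      simp only [hcons (fun k => if k < _ then _ else _), Fin.not_lt_zero, if_false, if_true,
        Fin.succ_pos, Fin.succ_ne_zero, Fin.succ_lt_succ_iff, Fin.succ_inj]
      simp only [hcons (fun k => if k = 0 then _ else _), if_true, Fin.succ_ne_zero, if_false]
      change (∑ j ∈ Finset.range n, Φ (y 0 j) j) + (∑ j ∈ Finset.range n, T (w 0 (j + 1)) j) =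
        (∑ j ∈ Finset.range n, Φ (y 0 j) 0) + ∑ j ∈ Finset.range n, T' (w 0 n) j
      rw [← hTT]
      have hwl : ∀ j, j ≤ n → ∀ l, T (w 0 j) l = T (w 0 0) l + α • ∑ m ∈ Finset.range j, T (y 0 m) l := by
        intro j
        induction j with
        | zero => intro _ l; simp
        | succ j ihj =>
          intro hj l
          rw [hw 0 j hj, hTadd, hTsmul, ihj (by omega) l, Finset.sum_range_succ, smul_add, add_assoc]
      rw [Finset.sum_congr rfl fun j hj => hΦl j (Finset.mem_range.1 hj).le (y 0 j),
        Finset.sum_congr (g := fun j => T (w 0 0) j + α • ∑ m ∈ Finset.range (j + 1), T (y 0 m) j)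
          rfl fun j hj => hwl (j + 1) (Finset.mem_range.1 hj) j,
        Finset.sum_congr (g := fun j => T (w 0 0) j + α • ∑ m ∈ Finset.range n, T (y 0 m) j)
          rfl fun j _ => hwl n le_rfl j]
      simp only [Finset.sum_add_distrib, ← Finset.smul_sum]
      suffices key : (∑ j ∈ Finset.range n, ∑ l ∈ Finset.range j, T (y 0 j) l) +
          (∑ j ∈ Finset.range n, ∑ m ∈ Finset.range (j + 1), T (y 0 m) j) =
          ∑ j ∈ Finset.range n, ∑ m ∈ Finset.range n, T (y 0 m) j by
        rw [← key, smul_add]; abel
      clear * -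
      induction n with
      | zero => simp
      | succ n ih =>
        simp only [Finset.sum_range_succ, Finset.sum_add_distrib] at ih ⊢
        rw [← ih]
        abel

/-- Let A be a commutative ring, α ∈ A a non-zero-divisor, M_1, …, M_r and N modules over A and φ : M_1
× ⋯ × M_r → N an A-multilinear map. Let n be a natural number and let y_{i,j} (j < n) and w_{i,j} (j
≤ n) be elements of M_i with w_{i,j+1} = w_{i,j} + α y_{i,j} for all i and all j < n. Then Σ_i
Σ_{j<n} φ(w_{1,j+1}, …, w_{i-1,j+1}, y_{i,j}, w_{i+1,j}, …, w_{r,j}) = Σ_i Σ_{j<n} φ(w_{1,n}, …,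
w_{i-1,n}, y_{i,j}, w_{i+1,0}, …, w_{r,0}). (The published statement takes n ≥ 1; for n = 0 both
sides are empty sums. The families y, w are indexed by all natural numbers here and only the indices
named above enter.) -/
theorem result {A : Type u} [CommRing A] (α : A) (hα : α ∈ nonZeroDivisors A)
    {r : ℕ} (M : Fin r → Type v) (N : Type w) [∀ i, AddCommGroup (M i)] [∀ i, Module A (M i)]
    [AddCommGroup N] [Module A N] (φ : MultilinearMap A M N) (n : ℕ)
    (y w : ∀ i, ℕ → M i) (hw : ∀ i, ∀ j < n, w i (j + 1) = w i j + α • y i j) :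
    (∑ i : Fin r, ∑ j ∈ Finset.range n,
        φ (fun k => if k < i then w k (j + 1) else if k = i then y k j else w k j)) =
      ∑ i : Fin r, ∑ j ∈ Finset.range n,
        φ (fun k => if k < i then w k n else if k = i then y k j else w k 0) := by
  exact (aux α n M φ y w hw).2

end Groth.Agent.S13682
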