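import Groth.Statements.S13685
import Groth.Agent.L15.DW.Ext
import Mathlib.Tactic.Ring
import Mathlib.Tactic.LinearCombination
import Mathlib.Tactic.FieldSimp
import Mathlib.Algebra.BigOperators.Ring.Finset

set_option autoImplicit false
universe u v w
open Disp

namespace Groth.Agent.S13685

/-- Let p be a prime, R a commutative ring, W its ring of p-typical Witt vectors, D = (P, Q, F, V⁻¹) a
3n-display over R with a normal decomposition P = L ⊕ T, Q = L + I_R T in which T is free of rank
one over W, and E the 3n-display structure on ⋀^r P whose distinguished submodule is spanned by the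
wedges of elements of Q and whose V⁻¹ sends q_1 ∧ ⋯ ∧ q_r to V⁻¹q_1 ∧ ⋯ ∧ V⁻¹q_r. Then the wedge map
λ : P^r → ⋀^r P is an alternating multilinear morphism of 3n-displays from D to E, and for every
3n-display D' = (P', Q', F', V'⁻¹) and every alternating multilinear morphism of 3n-displays φ : P^r
→ P' (W-multilinear alternating, φ(Q^r) ⊆ Q', V'⁻¹(φ(q)) = φ(V⁻¹q_1, …, V⁻¹q_r), F'(φ(q_1, …, x_i,
…, q_r)) = φ(V⁻¹q_1, …, F x_i, …, V⁻¹q_r)) there is a unique W-linear ψ : ⋀^r P → P' that is a
morphism of 3n-displays from E to D' (ψ maps E's submodule into Q' and commutes with F and V⁻¹) with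
ψ ∘ λ = φ. (The published statement has T projective of rank one; this row takes T free of rank
one.) -/
theorem result (p : ℕ) [Fact p.Prime] (R : Type u) [CommRing R]
    (P : Type v) [AddCommGroup P] [Module (WittVector p R) P] (D : W4c1extbt610.Display3n p R P)
    (hT : ∃ L T : Submodule (WittVector p R) P, IsCompl L T ∧ D.Q = L ⊔ W4c1extbt610.IV p R • T ∧
      Nonempty (T ≃ₗ[WittVector p R] WittVector p R))
    (r : ℕ) (E : W4c1extbt610.Display3n p R (⋀[WittVector p R]^r P)) (hE : W4c1extbt610.IsExtPow D r E) :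
    W4c1extbt610.IsAltMult D E (exteriorPower.ιMulti (WittVector p R) r) ∧
      ∀ (P' : Type w) [AddCommGroup P'] [Module (WittVector p R) P'] (D' : W4c1extbt610.Display3n p R P')
        (φ : P [⋀^Fin r]→ₗ[WittVector p R] P'), W4c1extbt610.IsAltMult D D' φ →
        ∃! ψ : ⋀[WittVector p R]^r P →ₗ[WittVector p R] P',
          W4c1extbt610.IsHom E D' ψ ∧ ψ.compAlternatingMap (exteriorPower.ιMulti (WittVector p R) r) = φ := by
  refine ⟨Groth.L15.DW.isAltMult_ext D E hE, fun P' _ _ D' φ hφ => ?_⟩
  exact Groth.L15.DW.existsUnique_hom D E hE D' φ hφ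

end Groth.Agent.S13685
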