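import Groth.Statements.S13686
import Groth.Agent.L15.DW.ExtRank
import Mathlib.Tactic.Ring
import Mathlib.Tactic.LinearCombination
import Mathlib.Tactic.FieldSimp
import Mathlib.Algebra.BigOperators.Ring.Finset

set_option autoImplicit false
universe u v
open Disp

namespace Groth.Agent.S13686

/-- Let p be a prime, R a nontrivial commutative ring, W its ring of p-typical Witt vectors and D = (P,
Q, F, V⁻¹) a 3n-display over R with a normal decomposition P = L ⊕ T, Q = L + I_R T in which L is
free of rank m and T is free of rank one over W (so P is free of rank m + 1, the height). For r ≥ 1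
let E be the 3n-display structure on ⋀^r P whose distinguished submodule is spanned by the wedges of
elements of Q and whose V⁻¹ acts factorwise on them. Then E admits a normal decomposition ⋀^r P = L'
⊕ T', with distinguished submodule L' + I_R T', in which T' is free of rank (m choose r−1) over W:
with h = m + 1 the height, the tangent module of the exterior power has rank (h−1 choose r−1). (The
published statement has T projective of rank one and P of height h; this row takes L and T free, R
nontrivial and r ≥ 1.) -/
theorem result (p : ℕ) [Fact p.Prime] (R : Type u) [CommRing R] [Nontrivial R]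
    (P : Type v) [AddCommGroup P] [Module (WittVector p R) P] (D : W4c1extbt610.Display3n p R P) (m : ℕ)
    (L T : Submodule (WittVector p R) P) (hLT : IsCompl L T) (hQ : D.Q = L ⊔ W4c1extbt610.IV p R • T)
    (hL : Module.Free (WittVector p R) L) (hLr : Module.finrank (WittVector p R) L = m)
    (hT : Nonempty (T ≃ₗ[WittVector p R] WittVector p R))
    (r : ℕ) (hr : 1 ≤ r) (E : W4c1extbt610.Display3n p R (⋀[WittVector p R]^r P)) (hE : W4c1extbt610.IsExtPow D r E) :
    ∃ L' T' : Submodule (WittVector p R) (⋀[WittVector p R]^r P), IsCompl L' T' ∧
      E.Q = L' ⊔ W4c1extbt610.IV p R • T' ∧ Module.Free (WittVector p R) T' ∧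
      Module.finrank (WittVector p R) T' = m.choose (r - 1) := by
  obtain ⟨eT⟩ := hT
  obtain ⟨E0, hE0, L', T', hc, hQ0, hT'⟩ := Groth.L15.DW.exists_extPow D hLT hQ eT r
  have hEE : E = E0 := Groth.L15.DW.isExtPow_unique D hE0 hE
  haveI := D.finite
  obtain ⟨hfree, hrank⟩ := Groth.L15.DW.free_ker_map_proj hLT m hL hLr eT r hr
  subst hT'
  exact ⟨L', _, hc, by rw [hEE]; exact hQ0, hfree, hrank⟩

end Groth.Agent.S13686
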