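import Groth.Statements.S13689
import Groth.Agent.L24.KrullSchmidt.Isotypical

set_option autoImplicit false
set_option backward.isDefEq.respectTransparency.types false
universe u
open CategoryTheory CategoryTheory.Limits AlgebraicGeometry
open ASBun

namespace Groth.Agent.S13689

open W4c1astiltbs12 in
/-- Let X be proper over a field k, K an algebraic closure of k with projection π : X_K → X, and E a
nonzero finite locally free O_X-module which is absolutely rank-one-isotypical: π^*E ≅ L^{⊕r} for
some r and some invertible O_{X_K}-module L that is indecomposable (nonzero, and in any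
decomposition as a direct sum one summand is zero; for an invertible module this says X_K is
connected). Then E ≅ G^{⊕n} for some n and some indecomposable finite locally free O_X-module G, and
G is unique: any indecomposable G and G' with E ≅ G^{⊕n} and E ≅ G'^{⊕m} are isomorphic. (The
published statement assumes k infinite and X projective, and its extension in the text X proper and
geometrically integral; the argument uses only properness of X and indecomposability of the type L,
without which the structure sheaf of two points is a counterexample.) -/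
theorem result (k : Type u) [Field k] {X : Scheme.{u}}
    (p : X ⟶ Spec (CommRingCat.of k)) [IsProper p] (K : Type u) [Field K] [Algebra k K]
    [IsAlgClosure k K] (E : X.Modules) (hE : FlatMod.IsFinLocFree E) (hE0 : ¬ IsZero E)
    (L : (W4bk4gw11416.baseChange p K).Modules) (hL : PicF.IsInvertible L)
    (hLi : (¬ IsZero L ∧ ∀ A B : (W4bk4gw11416.baseChange p K).Modules, Nonempty (L ≅ A ⊞ B) → IsZero A ∨ IsZero B))
    (r : ℕ) (e : Nonempty (bcMod p K E ≅ pow L r)) :
    (∃ (G : X.Modules) (n : ℕ), FlatMod.IsFinLocFree G ∧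
      (¬ IsZero G ∧ ∀ A B : X.Modules, Nonempty (G ≅ A ⊞ B) → IsZero A ∨ IsZero B) ∧
      Nonempty (E ≅ pow G n)) ∧
    (∀ (G G' : X.Modules) (n m : ℕ),
      (¬ IsZero G ∧ ∀ A B : X.Modules, Nonempty (G ≅ A ⊞ B) → IsZero A ∨ IsZero B) →
      (¬ IsZero G' ∧ ∀ A B : X.Modules, Nonempty (G' ≅ A ⊞ B) → IsZero A ∨ IsZero B) →
      Nonempty (E ≅ pow G n) → Nonempty (E ≅ pow G' m) → Nonempty (G ≅ G')) := by
  classical
  letI : X.Over (Spec (CommRingCat.of k)) := ⟨p⟩
  haveI : IsProper (X ↘ Spec (CommRingCat.of k)) := ‹IsProper p›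
  letI : (W4bk4gw11416.baseChange p K).Over (Spec (CommRingCat.of K)) :=
    ⟨W4bk4gw11416.baseChangeTo p K⟩
  have sq : IsPullback (proj p K) (W4bk4gw11416.baseChange p K ↘ Spec (CommRingCat.of K))
      (X ↘ Spec (CommRingCat.of k)) (Spec.map (CommRingCat.ofHom (algebraMap k K))) :=
    IsPullback.of_hasPullback p (Spec.map (CommRingCat.ofHom (algebraMap k K)))
  haveI : IsProper (W4bk4gw11416.baseChange p K ↘ Spec (CommRingCat.of K)) :=
    MorphismProperty.of_isPullback (P := @IsProper) sq inferInstance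
  haveI : IsLocallyNoetherian X := LocallyOfFiniteType.isLocallyNoetherian (X ↘ Spec (CommRingCat.of k))
  have hfinK : ∀ {A : (W4bk4gw11416.baseChange p K).Modules}, FlatMod.IsFinLocFree A → Module.Finite K (A ⟶ A) :=
    fun hA => Groth.L14.Quot.finite_hom (Groth.L16.NegPow.isCoh_of_isFinLocFree hA)
      (Groth.L16.NegPow.isCoh_of_isFinLocFree hA)
  haveI : Module.Finite k (E ⟶ E) := Groth.L14.Quot.finite_hom (Groth.L16.NegPow.isCoh_of_isFinLocFree hE)
      (Groth.L16.NegPow.isCoh_of_isFinLocFree hE)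
  obtain ⟨eE⟩ := e
  refine ⟨?_, ?_⟩
  · obtain ⟨n, f, hf, ⟨d⟩⟩ := Groth.L24.KrullSchmidt.exists_decomp k _ E rfl
    have hn : 0 < n := Nat.pos_of_ne_zero fun h => hE0 (by
      subst h
      exact ((IsZero.iff_id_eq_zero _).2 (Sigma.hom_ext _ _ fun i => i.elim0)).of_iso d)
    have hlf : ∀ i, FlatMod.IsFinLocFree (f i) := fun i => Groth.L24.KrullSchmidt.isFinLocFree_retract hE
      ((Groth.L24.KrullSchmidt.isRetract_member f i).trans (Groth.L21.Weil.IsRetract.of_iso d.symm))
    have hpow : ∀ i, ∃ m : ℕ, Nonempty (bcMod p K (f i) ≅ pow L m) := fun i => by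
      haveI := hfinK (Groth.L29.LocFree.pullback (proj p K) (hlf i))
      haveI := hfinK (Groth.L16.Existence.isFinLocFree_of_isInvertible hL)
      refine Groth.L24.KrullSchmidt.exists_pow_of_retract K hLi (r := r) ?_
      obtain ⟨j, q, hjq⟩ := (Groth.L24.KrullSchmidt.isRetract_member f i).trans
        (Groth.L21.Weil.IsRetract.of_iso d.symm)
      exact Groth.L21.Weil.IsRetract.trans ⟨(Scheme.Modules.pullback (proj p K)).map j,
        (Scheme.Modules.pullback (proj p K)).map q, by rw [← Functor.map_comp, hjq, CategoryTheory.Functor.map_id]⟩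
        (Groth.L21.Weil.IsRetract.of_iso eE)
    have hiso : ∀ i, Nonempty (f i ≅ f ⟨0, hn⟩) := fun i => by
      obtain ⟨m, ⟨a⟩⟩ := hpow i
      obtain ⟨m', ⟨a'⟩⟩ := hpow ⟨0, hn⟩
      exact Groth.L24.KrullSchmidt.nonempty_iso_of_isotypical (proj p K) sq (hlf i) (hlf _) (hf i) (hf _) m m' a a'
    exact ⟨f ⟨0, hn⟩, n, hlf _, hf _, ⟨d ≪≫ Sigma.mapIso fun i => (hiso i).some⟩⟩
  · rintro G G' n m hG hG' ⟨a⟩ ⟨a'⟩
    have hn : 0 < n := Nat.pos_of_ne_zero fun h => hE0 (by
      subst h
      exact ((IsZero.iff_id_eq_zero _).2 (Sigma.hom_ext _ _ fun i => i.elim0)).of_iso a)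
    obtain ⟨σ, hσ⟩ := Groth.L24.KrullSchmidt.unique k (fun _ : Fin n => G) (fun _ : Fin m => G')
      (fun _ => hG) (fun _ => hG') a a'
    exact hσ ⟨0, hn⟩

end Groth.Agent.S13689
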