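import Groth.Statements.S13692
import Groth.Agent.L11.GalForms
import Groth.Agent.L11.ModCancel
import Mathlib.RingTheory.TensorProduct.Finite
import Mathlib.RingTheory.SimpleModule.InjectiveProjective
import Mathlib.LinearAlgebra.Matrix.ToLin

set_option autoImplicit false
universe u v w
open scoped TensorProduct
attribute [local instance] CSAGal.tensorAction GpH1.unitsAction
open GalCoh

namespace Groth.Agent.S13692

/-- Let K be a finite Galois extension of a field k with Galois group G = Aut_k(K), and A a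
finite-dimensional associative unital k-algebra, not assumed simple or central. Then H¹(G, (K ⊗_k
A)ˣ) is trivial, G acting on K ⊗_k A through the first factor. (The published statement allows any
Galois extension and reduces to the finite case by a direct limit; the finite case is stated.) -/
theorem result (k : Type u) [Field k] (K : Type v)
    [Field K] [Algebra k K] [FiniteDimensional k K] [IsGalois k K]
    (A : Type w) [Ring A] [Algebra k A] [FiniteDimensional k A] :
    GpH1.H1.IsTrivial (K ≃ₐ[k] K) (K ⊗[k] A)ˣ := by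
  classical
  intro x
  obtain ⟨a, rfl⟩ := GpH1.OneCocycle.cl_surjective x
  have ha1 : a 1 = 1 := by
    have := a.2 1 1
    rwa [mul_one, one_smul, left_eq_mul] at this
  have hsm : ∀ (σ : K ≃ₐ[k] K) (c : K) (y : K ⊗[k] A), σ • (c • y) = σ c • σ • y := fun σ c y => by
    induction y using TensorProduct.induction_on with
    | zero => simp
    | tmul d b => change (σ (c * d)) ⊗ₜ[k] b = (σ c * σ d) ⊗ₜ[k] b; rw [map_mul]
    | add p q hp hq => simp only [smul_add, hp, hq]
  let ρ : Groth.L11.Descent.SemiAct k K (K ⊗[k] A) :=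
    { act := fun σ =>
        { toFun := fun y => σ • y * (((a σ)⁻¹ : (K ⊗[k] A)ˣ) : K ⊗[k] A)
          map_zero' := by rw [smul_zero, zero_mul]
          map_add' := fun p q => by rw [smul_add, add_mul] }
      act_one := fun v => by
        change (1 : K ≃ₐ[k] K) • v * _ = v
        rw [ha1, one_smul, inv_one, Units.val_one, mul_one]
      act_mul := fun σ τ v => by
        change (σ * τ) • v * _ = σ • (τ • v * _) * _
        rw [smul_mul', mul_smul, mul_assoc]
        congr 1
        rw [a.2 σ τ, mul_inv_rev, Units.val_mul, ← smul_inv']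
        rfl
      act_smul := fun σ c v => by
        change σ • (c • v) * _ = σ c • (σ • v * _)
        rw [hsm, smul_mul_assoc] }
  letI : Module A (K ⊗[k] A) :=
    Module.compHom _ (Algebra.TensorProduct.includeRight : A →ₐ[k] K ⊗[k] A).toRingHom
  have hA : ∀ (b : A) (y : K ⊗[k] A), b • y = ((1 : K) ⊗ₜ[k] b) * y := fun b y => rfl
  haveI : IsScalarTower k A (K ⊗[k] A) := ⟨fun r b y => by
    rw [hA, hA, TensorProduct.tmul_smul, smul_mul_assoc]⟩
  have hσA : ∀ (σ : K ≃ₐ[k] K) (b : A), σ • ((1 : K) ⊗ₜ[k] b) = (1 : K) ⊗ₜ[k] b := fun σ b => by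
    change (σ (1 : K)) ⊗ₜ[k] b = _
    rw [map_one]
  let WA : Submodule A (K ⊗[k] A) :=
    { carrier := ρ.fixed
      zero_mem' := ρ.fixed.zero_mem
      add_mem' := fun hp hq => ρ.fixed.add_mem hp hq
      smul_mem' := fun b y hy σ => by
        change σ • (b • y) * _ = b • y
        rw [hA, smul_mul', hσA, mul_assoc]
        exact congrArg _ (hy σ) }
  haveI : FiniteDimensional k WA :=
    Module.Finite.equiv (LinearEquiv.refl k (WA.restrictScalars k))
  let d := Module.finrank k K
  let b : Module.Basis (Fin d) k K := Module.finBasis k K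
  haveI : Nonempty (Fin d) := ⟨⟨0, Module.finrank_pos⟩⟩
  let ψ : (Fin d → A) →ₗ[A] K ⊗[k] A :=
    { toFun := fun f => ∑ i, b i ⊗ₜ[k] f i
      map_add' := fun f g => by simp [TensorProduct.tmul_add, Finset.sum_add_distrib]
      map_smul' := fun r f => by
        rw [RingHom.id_apply, hA, Finset.mul_sum]
        simp }
  have hψ : Function.Bijective ψ := by
    let e := TensorProduct.equivFinsuppOfBasisLeft (N := A) b
    have key : (ψ : (Fin d → A) → K ⊗[k] A) = e.symm ∘ Finsupp.equivFunOnFinite.symm := by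
      funext f
      change _ = e.symm (Finsupp.equivFunOnFinite.symm f)
      rw [TensorProduct.equivFinsuppOfBasisLeft_symm_apply, Finsupp.sum_fintype _ _ (fun i => TensorProduct.tmul_zero _ _)]
      rfl
    rw [key]
    exact e.symm.bijective.comp (Equiv.bijective _)
  let φ : (Fin d → WA) →ₗ[A] K ⊗[k] A :=
    { toFun := fun f => ∑ i, b i • (f i : K ⊗[k] A)
      map_add' := fun f g => by simp [Finset.sum_add_distrib]
      map_smul' := fun r f => by
        rw [RingHom.id_apply, hA, Finset.mul_sum]
        simp [hA] }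
  have hsurj : Function.Surjective φ := by
    intro y
    have hy : y ∈ Submodule.span K (ρ.fixed : Set (K ⊗[k] A)) := by rw [ρ.span_fixed]; trivial
    induction hy using Submodule.span_induction with
    | mem z hz =>
      refine ⟨fun i => b.repr 1 i • (⟨z, hz⟩ : WA), ?_⟩
      change ∑ i, b i • (b.repr 1 i • z) = z
      simp_rw [smul_comm (b _) (b.repr 1 _) z, ← smul_assoc]
      rw [← Finset.sum_smul, b.sum_repr, one_smul]
    | zero => exact ⟨0, map_zero φ⟩
    | add p q _ _ hp hq =>
      obtain ⟨f, rfl⟩ := hp; obtain ⟨g, rfl⟩ := hq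
      exact ⟨f + g, map_add φ f g⟩
    | smul c p _ hp =>
      obtain ⟨f, rfl⟩ := hp
      refine ⟨fun j => ∑ i, b.repr (c * b i) j • f i, ?_⟩
      change ∑ j, b j • ((∑ i, b.repr (c * b i) j • f i : WA) : K ⊗[k] A) = c • ∑ i, b i • (f i : K ⊗[k] A)
      simp only [Submodule.coe_sum, Submodule.coe_smul_of_tower, Finset.smul_sum]
      rw [Finset.sum_comm]
      refine Finset.sum_congr rfl fun i _ => ?_
      simp_rw [smul_comm (b _) (b.repr (c * b i) _) (f i : K ⊗[k] A), ← smul_assoc]
      rw [← Finset.sum_smul, b.sum_repr, smul_eq_mul, mul_smul]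
  have hinj : Function.Injective φ := by
    have hfr : Module.finrank k (Fin d → WA) = Module.finrank k (K ⊗[k] A) := by
      rw [Module.finrank_pi_fintype, Finset.sum_const, Finset.card_univ, Fintype.card_fin]
      rw [← (ρ.equiv.restrictScalars k).finrank_eq, Module.finrank_tensorProduct]
      rfl
    exact (LinearMap.injective_iff_surjective_of_finrank_eq_finrank (f := φ.restrictScalars k) hfr).mpr hsurj
  obtain ⟨w, hw⟩ := Groth.L11.ModCancel.exists_generator' (k := k)
    ((LinearEquiv.ofBijective φ ⟨hinj, hsurj⟩).trans (LinearEquiv.ofBijective ψ hψ).symm)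
  have hR : ∀ y : K ⊗[k] A, ∃ r, r * (w : K ⊗[k] A) = y := by
    intro y
    obtain ⟨f, rfl⟩ := hsurj y
    have : ∀ i, ∃ r : A, r • w = f i := fun i => Submodule.mem_span_singleton.mp (hw ▸ Submodule.mem_top)
    choose r hr using this
    refine ⟨∑ i, b i ⊗ₜ[k] r i, ?_⟩
    change _ = ∑ i, b i • (f i : K ⊗[k] A)
    rw [Finset.sum_mul]
    refine Finset.sum_congr rfl fun i _ => ?_
    rw [← hr i, Submodule.coe_smul, hA, ← smul_mul_assoc, TensorProduct.smul_tmul', smul_eq_mul, mul_one]
  obtain ⟨r, hr⟩ := hR 1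
  haveI : IsArtinianRing (K ⊗[k] A) := IsArtinianRing.of_finite K _
  have hr' : (w : K ⊗[k] A) * r = 1 := by
    have hs : Function.Surjective (LinearMap.mulRight K (w : K ⊗[k] A)) := fun y => ⟨y * r, by
      rw [LinearMap.mulRight_apply, mul_assoc, hr, mul_one]⟩
    have hj := LinearMap.injective_iff_surjective.mpr hs
    apply hj
    rw [LinearMap.mulRight_apply, LinearMap.mulRight_apply, mul_assoc, hr, mul_one, one_mul]
  refine (GpH1.OneCocycle.cl_eq_cl_iff _ _).mpr ⟨⟨w, r, hr', hr⟩, fun σ => ?_⟩
  rw [show (GpH1.OneCocycle.trivial : GpH1.OneCocycle (K ≃ₐ[k] K) (K ⊗[k] A)ˣ) σ = 1 from rfl, mul_one]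
  rw [eq_inv_mul_iff_mul_eq]
  refine Units.ext ?_
  change (w : K ⊗[k] A) * (a σ : K ⊗[k] A) = σ • (w : K ⊗[k] A)
  exact ((Units.mul_inv_eq_iff_eq_mul (a σ)).mp (w.2 σ)).symm

end Groth.Agent.S13692
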