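import Groth.Statements.S13694
import Groth.Agent.L24.KrullSchmidt.Division
import Groth.Agent.L08.Cube.SeesawH0
import Groth.Agent.L08.Cube.FibreFun
import Groth.Agent.L08.Cube.Inverse

set_option autoImplicit false
set_option backward.isDefEq.respectTransparency.types false
universe u
open CategoryTheory CategoryTheory.Limits AlgebraicGeometry
open ASBun

namespace Groth.Agent.S13694

open W4c1astiltbs12 in
/-- Let X be a proper, geometrically integral scheme over a field k, K an algebraic closure of k with
projection π : X_K → X, and E an indecomposable finite locally free O_X-module (nonzero, and in any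
decomposition as a direct sum one summand is zero) which is absolutely rank-one-isotypical: π^*E ≅
L^{⊕r} for some invertible O_{X_K}-module L and some r. Then the endomorphism ring of E is a
division ring: every nonzero endomorphism of E is an isomorphism. (The published statement says more
precisely that this ring is a central division algebra over k; only the division-ring property is
stated here.) -/
theorem result (k : Type u) [Field k]
    {X : Scheme.{u}} (p : X ⟶ Spec (CommRingCat.of k)) [IsProper p] [GeometricallyIntegral p]
    (K : Type u) [Field K] [Algebra k K] [IsAlgClosure k K]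
    (E : X.Modules) (hE : FlatMod.IsFinLocFree E)
    (hEi : (¬ IsZero E ∧ ∀ A B : X.Modules, Nonempty (E ≅ A ⊞ B) → IsZero A ∨ IsZero B))
    (L : (W4bk4gw11416.baseChange p K).Modules) (hL : PicF.IsInvertible L) (r : ℕ)
    (e : Nonempty (bcMod p K E ≅ pow L r)) (f : E ⟶ E) (hf : f ≠ 0) : IsIso f := by
  letI : X.Over (Spec (CommRingCat.of k)) := ⟨p⟩
  haveI : IsProper (X ↘ Spec (CommRingCat.of k)) := ‹IsProper p›
  letI : (W4bk4gw11416.baseChange p K).Over (Spec (CommRingCat.of K)) :=
    ⟨W4bk4gw11416.baseChangeTo p K⟩
  have sq : IsPullback (proj p K) (W4bk4gw11416.baseChange p K ↘ Spec (CommRingCat.of K))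
      (X ↘ Spec (CommRingCat.of k)) (Spec.map (CommRingCat.ofHom (algebraMap k K))) :=
    IsPullback.of_hasPullback p (Spec.map (CommRingCat.ofHom (algebraMap k K)))
  haveI : Nonempty X := by
    by_contra hX
    rw [not_nonempty_iff] at hX
    exact hEi.1 ((Groth.L00.Stk.isZero_iff E).2 fun x => (hX.false x).elim)
  haveI : Flat p := by
    haveI : Subsingleton ↥(Spec (CommRingCat.of k)) := inferInstanceAs (Subsingleton (PrimeSpectrum k))
    infer_instance
  have hp := Groth.L08.Cube.bijective_toGlobal_of_geometric (k := k) p
  have hk : Function.Bijective (Coh.toGlobal (W4bk4gw11416.baseChange p K ↘ Spec (CommRingCat.of K))) :=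
    (Groth.L08.Cube.bijective_toGlobal_baseChange p hp (proj p K) _ sq).2
  obtain ⟨a⟩ := e
  obtain ⟨L', -, ⟨t⟩⟩ := Groth.L08.Cube.exists_inverse hL
  exact Groth.L24.KrullSchmidt.isIso_endo (proj p K) sq hk t hE hEi a f hf

end Groth.Agent.S13694
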