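
import Groth.Statements.S13696
import Groth.Agent.L22.Gamma.KerBasic

set_option autoImplicit false
universe u
open scoped TensorProduct
open ZeroCyc

namespace Groth.Agent.S13696

/-- Let F : B → A be a multiplicative polynomial law homogeneous of degree d, where B is a commutative
algebra over the commutative ring A. For b ∈ B the characteristic polynomial of b with respect to F
is χ_b = F_{A[X]}(1 ⊗ b − X ⊗ 1) ∈ A[X] ⊗_A A = A[X], and the Cayley–Hamilton ideal of F is the
ideal of B generated by the elements χ_b(b), b ∈ B. Then the Cayley–Hamilton ideal is contained in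
the kernel of F, and the kernel of F is contained in the radical of the Cayley–Hamilton ideal. -/
theorem result {A : Type u} [CommRing A] {B : Type u} [CommRing B] [Algebra A B]
    {d : ℕ} (F : PolLaw.MulLaw A B A d) (χ : B → Polynomial A)
    (hχ : ∀ b : B, χ b = TensorProduct.rid A (Polynomial A)
      (F.law.toFun' (Polynomial A) ((1 : Polynomial A) ⊗ₜ[A] b - Polynomial.X ⊗ₜ[A] (1 : B)))) :
    Ideal.span (Set.range fun b : B => Polynomial.aeval b (χ b)) ≤ PolLaw.ker F.law ∧
      PolLaw.ker F.law ≤ (Ideal.span (Set.range fun b : B => Polynomial.aeval b (χ b))).radical := by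
  have hb : ∀ b, χ b = Groth.L22.Gamma.cpoly F ((1 : A) ⊗ₜ[A] b) := fun b =>
    (hχ b).trans (Groth.L22.Gamma.cpoly_one_tmul F b).symm
  refine ⟨Ideal.span_le.mpr ?_, fun b hb' => ⟨d, ?_⟩⟩
  · rintro _ ⟨b, rfl⟩
    simp only [hb]
    exact Groth.L22.Gamma.aeval_cpoly_mem_ker F b
  · have hmem : Polynomial.aeval b (χ b) ∈
        Ideal.span (Set.range fun b : B => Polynomial.aeval b (χ b)) := Ideal.subset_span ⟨b, rfl⟩
    have hval : Polynomial.aeval b (χ b) = (-b) ^ d := by
      rw [hb, Groth.L22.Gamma.cpoly_eq_of_mem_ker F hb', map_pow, map_neg, Polynomial.aeval_X]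
    rw [hval, neg_pow] at hmem
    have h2 := Ideal.mul_mem_left _ ((-1) ^ d) hmem
    rwa [← mul_assoc, ← mul_pow, neg_one_mul, neg_neg, one_pow, one_mul] at h2

end Groth.Agent.S13696
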