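
import Groth.Statements.S13700
import Groth.Agent.L22.Gamma.Separable

set_option autoImplicit false
universe u
open scoped TensorProduct
open ZeroCyc

namespace Groth.Agent.S13700

/-- Let F : B → A be a multiplicative polynomial law homogeneous of degree d over the commutative ring
A, and let g ∈ A[X] be a monic polynomial which is separable (g and its derivative generate the unit
ideal), so that A' = A[X]/(g) is étale over A. Then the kernel of the base change of F to A' is the
ideal of A' ⊗_A B generated by the kernel of F. -/
theorem result {A : Type u} [CommRing A] {B : Type u} [CommRing B] [Algebra A B]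
    {d : ℕ} (F : PolLaw.MulLaw A B A d) (g : Polynomial A) (hg : g.Monic) (hsep : g.Separable) :
    (PolLaw.ker F.law).map (Algebra.TensorProduct.includeRight : B →ₐ[A] AdjoinRoot g ⊗[A] B) =
      PolLaw.kerBC F.law (AdjoinRoot g) := by
  exact Groth.L22.Gamma.map_ker_eq_kerBC_adjoinRoot F g hg hsep

end Groth.Agent.S13700
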