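import Groth.Statements.S13702
import Mathlib.RingTheory.AdjoinRoot
import Mathlib.FieldTheory.IsAlgClosed.AlgebraicClosure
import Mathlib.FieldTheory.Separable
import Mathlib.LinearAlgebra.Matrix.ToLinearEquiv
import Mathlib.LinearAlgebra.Determinant
import Mathlib.RingTheory.LocalRing.ResidueField.Basic
import Mathlib.FieldTheory.Perfect

set_option autoImplicit false
set_option linter.style.haveILetI false
universe u
open ZeroCyc

namespace Groth.Agent.S13702

/-- Let A be a local ring with residue field of characteristic p > 0, let g ∈ A[X] be monic and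
separable of degree n, so that A' = A[X]/(g) is an étale A-algebra, and let q = p^s with s ≥ 0. Then
the powers 1, t^q, t^{2q}, …, t^{(n-1)q} of the class t of X form a basis of A' as an A-module. -/
theorem result {A : Type u} [CommRing A] [IsLocalRing A] (p : ℕ) [Fact p.Prime]
    [CharP (IsLocalRing.ResidueField A) p] (g : Polynomial A) (hg : g.Monic) (hsep : g.Separable) (s : ℕ) :
    ∃ b : Module.Basis (Fin g.natDegree) A (AdjoinRoot g),
      ∀ i : Fin g.natDegree, b i = AdjoinRoot.root g ^ (p ^ s * (i : ℕ)) := by
  classical
  let κ := IsLocalRing.ResidueField A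
  let r : A →+* κ := IsLocalRing.residue A
  haveI : ExpChar κ p := ExpChar.prime Fact.out
  let B := AdjoinRoot.powerBasisAux' hg
  let v : Fin g.natDegree → AdjoinRoot g := fun i => AdjoinRoot.root g ^ (p ^ s * (i : ℕ))
  have hM : IsUnit (B.toMatrix v).det := by
    by_contra hnu
    have h0 : ((B.toMatrix v).map r).det = 0 := by
      rw [← RingHom.mapMatrix_apply, ← RingHom.map_det]
      exact not_not.mp fun h => hnu ((IsLocalRing.residue_ne_zero_iff_isUnit _).mp h)
    obtain ⟨c, hc, hMc⟩ := Matrix.exists_mulVec_eq_zero_iff.mpr h0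
    let gb := g.map r
    have hgb : gb.Monic := hg.map r
    have hdeg : gb.natDegree = g.natDegree := hg.natDegree_map r
    have hrem : (∑ i, Polynomial.C (c i) * Polynomial.X ^ (p ^ s * (i : ℕ))) %ₘ gb = 0 := by
      ext j
      by_cases hj : j < g.natDegree
      · have hj' := congrFun hMc ⟨j, hj⟩
        simp only [Matrix.mulVec, dotProduct, Matrix.map_apply, Module.Basis.toMatrix_apply, Pi.zero_apply] at hj'
        rw [← Polynomial.modByMonicHom_apply, map_sum, Polynomial.finsetSum_coeff, Polynomial.coeff_zero, ← hj']
        refine Finset.sum_congr rfl fun i _ => ?_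
        rw [← Polynomial.smul_eq_C_mul, map_smul, Polynomial.modByMonicHom_apply, Polynomial.coeff_smul, smul_eq_mul, mul_comm]
        congr 1
        rw [AdjoinRoot.powerBasisAux'_repr_apply_to_fun,
          show v i = AdjoinRoot.mk g (Polynomial.X ^ (p ^ s * (i : ℕ))) by simp [v], AdjoinRoot.modByMonicHom_mk,
          show ((Polynomial.X ^ (p ^ s * (i : ℕ))) %ₘ gb) = ((Polynomial.X ^ (p ^ s * (i : ℕ))) %ₘ g).map r by
            rw [Polynomial.map_modByMonic r hg]; simp [gb],
          Polynomial.coeff_map]
      · rw [Polynomial.coeff_zero]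
        apply Polynomial.coeff_eq_zero_of_degree_lt
        refine lt_of_lt_of_le (Polynomial.degree_modByMonic_lt _ hgb) ?_
        rw [Polynomial.degree_eq_natDegree hgb.ne_zero, hdeg]
        exact_mod_cast not_lt.mp hj
    let K := AlgebraicClosure κ
    have hcard := Polynomial.card_rootSet_eq_natDegree (K := K) (hsep.map (f := r)) (IsAlgClosed.splits _)
    haveI : ExpChar K p := expChar_of_injective_algebraMap (algebraMap κ K).injective p
    let h : Polynomial K := ∑ i : Fin g.natDegree, Polynomial.C (algebraMap κ K (c i)) * Polynomial.X ^ (i : ℕ)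
    have hinj : Function.Injective (fun a : gb.rootSet K => (a : K) ^ p ^ s) :=
      fun a b hab => Subtype.ext (iterateFrobenius_inj K p s (by simpa [iterateFrobenius_def] using hab))
    have hroot : ∀ a : gb.rootSet K, h.eval ((a : K) ^ p ^ s) = 0 := by
      intro a
      obtain ⟨q, hq⟩ := (Polynomial.modByMonic_eq_zero_iff_dvd hgb).mp hrem
      have ha : Polynomial.aeval (a : K) gb = 0 := (Polynomial.mem_rootSet.mp a.2).2
      have := congrArg (Polynomial.aeval (a : K)) hq
      rw [map_mul, ha, zero_mul, map_sum] at this
      rw [← this, Polynomial.eval_finsetSum]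
      refine Finset.sum_congr rfl fun i _ => ?_
      simp [pow_mul]
    have hh : h = 0 := by
      by_cases hn : g.natDegree = 0
      · refine Finset.sum_eq_zero fun i _ => ?_
        exact absurd i.2 (by omega)
      refine Polynomial.eq_zero_of_natDegree_lt_card_of_eval_eq_zero h hinj hroot ?_
      rw [hcard, hdeg]
      refine lt_of_le_of_lt (Polynomial.natDegree_sum_le_of_forall_le _ _ (n := g.natDegree - 1) fun i _ => ?_) (by omega)
      refine (Polynomial.natDegree_C_mul_X_pow_le _ _).trans ?_
      omega
    refine hc (funext fun i => ?_)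
    have := congrArg (fun P => Polynomial.coeff P (i : ℕ)) hh
    simpa [h, Polynomial.finsetSum_coeff, Polynomial.coeff_C_mul, Polynomial.coeff_X_pow, Fin.val_inj] using this
  have := (B.is_basis_iff_det).mpr (by rwa [Module.Basis.det_apply])
  exact ⟨Module.Basis.mk this.1 this.2.ge, fun i => by simp [v]⟩

end Groth.Agent.S13702
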