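
import Groth.Statements.S13703
import Groth.Agent.L22.Gamma.Basic3

set_option autoImplicit false
universe u
open scoped TensorProduct
open ZeroCyc

namespace Groth.Agent.S13703

/-- Let A be an integral domain, B a commutative A-algebra and F : B → A a multiplicative polynomial law
homogeneous of degree d. For every prime ideal P of B minimal among those containing the kernel of
F, the contraction of P to A is zero and every prime of A is the contraction of a prime of B
containing P. Geometrically: every irreducible component of the support of the family of zero-cycles
on Spec B defined by F maps onto Spec A. (The published statement is over an arbitrary algebraic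
space S, every irreducible component of the support mapping onto an irreducible component of S, and
its proof reduces to an integral affine base; this row is that case.) -/
theorem result {A : Type u} [CommRing A] [IsDomain A] {B : Type u} [CommRing B] [Algebra A B]
    {d : ℕ} (F : PolLaw.MulLaw A B A d) {P : Ideal B} (hP : P ∈ (PolLaw.ker F.law).minimalPrimes) :
    P.comap (algebraMap A B) = ⊥ ∧
      ∀ q : Ideal A, q.IsPrime → ∃ Q : Ideal B, Q.IsPrime ∧ P ≤ Q ∧ Q.comap (algebraMap A B) = q := by
  exact Groth.L22.Gamma.minimalPrimes_ker F hP

end Groth.Agent.S13703
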