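import Groth.Statements.S13708
import Mathlib.AlgebraicGeometry.Morphisms.Immersion
-- import your own Groth.Agent.* helpers here

set_option autoImplicit false
universe u
open CategoryTheory CategoryTheory.Limits AlgebraicGeometry
open ZeroCyc

namespace Groth.Agent.S13708

/-- Let X be a scheme over S such that every finite set of points of X over a common point of S lies in
some affine open subscheme of X (the condition (AF)). Then X is separated over S. (The published
condition (AF) asks for an open U with U → S quasi-affine rather than U affine; with U affine, as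
here, the same argument applies verbatim, and the two conditions agree over a quasi-separated base.) -/
theorem result {X S : Scheme.{u}} (f : X ⟶ S) (hX : SymProd.IsAF f) :
    IsSeparated f := by
  classical
  have : IsClosedImmersion (pullback.diagonal f) := by
    rw [IsClosedImmersion.iff_isPreimmersion]
    refine ⟨(show IsImmersion (pullback.diagonal f) from inferInstance).toIsPreimmersion, ?_⟩
    rw [← isOpen_compl_iff, isOpen_iff_forall_mem_open]
    intro z hz
    obtain ⟨U, hU, hmem⟩ := hX (f.base (pullback.fst f f z)) {pullback.fst f f z, pullback.snd f f z} (by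
      intro x hx
      rw [Finset.mem_insert, Finset.mem_singleton] at hx
      rcases hx with rfl | rfl
      · rfl
      · rw [← Scheme.Hom.comp_apply, ← Scheme.Hom.comp_apply, pullback.condition])
    have : IsAffine U := hU
    have : IsSeparated ((U.ι ≫ f) ≫ terminal.from S) := by
      rw [terminal.comp_from]; infer_instance
    have : IsSeparated (U.ι ≫ f) := IsSeparated.of_comp _ (terminal.from S)
    let j : pullback (U.ι ≫ f) (U.ι ≫ f) ⟶ pullback f f :=
      pullback.map (U.ι ≫ f) (U.ι ≫ f) f f U.ι U.ι (𝟙 S) (by simp) (by simp)
    have hj : pullback.diagonal (U.ι ≫ f) ≫ j = U.ι ≫ pullback.diagonal f := by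
      apply pullback.hom_ext
      · erw [Category.assoc, pullback.lift_fst, pullback.diagonal_fst_assoc, Category.assoc, pullback.diagonal_fst, Category.comp_id]
      · erw [Category.assoc, pullback.lift_snd, pullback.diagonal_snd_assoc, Category.assoc, pullback.diagonal_snd, Category.comp_id]
    have hjr : Set.range j = (pullback.fst f f) ⁻¹' (U : Set X) ∩ (pullback.snd f f) ⁻¹' (U : Set X) := by
      simp only [j, Scheme.Pullback.range_map, Scheme.Opens.range_ι]
    refine ⟨j '' (Set.range (pullback.diagonal (U.ι ≫ f)))ᶜ, ?_, ?_, ?_⟩
    · rintro _ ⟨w, hw, rfl⟩ ⟨x, hx⟩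
      have hxU : x ∈ U := by
        have h1 : pullback.fst f f (j w) ∈ U := (hjr.le ⟨w, rfl⟩).1
        rwa [← hx, ← Scheme.Hom.comp_apply, pullback.diagonal_fst] at h1
      refine hw ⟨⟨x, hxU⟩, j.isOpenEmbedding.injective ?_⟩
      rw [← Scheme.Hom.comp_apply, hj, Scheme.Hom.comp_apply]
      exact hx
    · exact j.isOpenEmbedding.isOpenMap _
        (pullback.diagonal (U.ι ≫ f)).isClosedEmbedding.isClosed_range.isOpen_compl
    · obtain ⟨w, hw⟩ := hjr.ge ⟨hmem _ (Finset.mem_insert_self _ _),
        hmem _ (Finset.mem_insert_of_mem (Finset.mem_singleton_self _))⟩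
      refine ⟨w, fun hwd => ?_, hw⟩
      obtain ⟨u, rfl⟩ := hwd
      exact hz ⟨U.ι u, by rw [← Scheme.Hom.comp_apply, ← hj, Scheme.Hom.comp_apply]; exact hw⟩
  exact ⟨inferInstance⟩

end Groth.Agent.S13708
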