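
import Groth.Statements.S13711
import Groth.Agent.L22.FaithfullyFlatPointwise
import Groth.Agent.L22.AffineDescent

set_option autoImplicit false
universe u
open CategoryTheory CategoryTheory.Limits AlgebraicGeometry
open ZeroCyc

namespace Groth.Agent.S13711

/-- Let f : X → Y be a morphism of schemes and g : Y' → Y a faithfully flat morphism (flat and
surjective, not assumed quasi-compact). Then f is affine exactly when it is quasi-compact,
quasi-separated, and its base change X ×_Y Y' → Y' along g is affine. -/
theorem result {X Y Y' : Scheme.{u}} (f : X ⟶ Y) (g : Y' ⟶ Y)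
    [Flat g] [Surjective g] :
    IsAffineHom f ↔ QuasiCompact f ∧ QuasiSeparated f ∧ IsAffineHom (pullback.snd f g) := by
  constructor
  · intro hf
    exact ⟨inferInstance, inferInstance, MorphismProperty.pullback_snd _ _ hf⟩
  · rintro ⟨hqc, hqs, ha⟩
    refine ⟨fun U hU => ?_⟩
    haveI : IsAffine U.toScheme := hU
    haveI : QuasiCompact (f ∣_ U) :=
      MorphismProperty.of_isPullback (P := @QuasiCompact) (isPullback_morphismRestrict f U).flip
        hqc
    haveI : QuasiSeparated (f ∣_ U) :=
      MorphismProperty.of_isPullback (P := @QuasiSeparated) (isPullback_morphismRestrict f U).flip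
        hqs
    haveI : CompactSpace (f ⁻¹ᵁ U).toScheme := QuasiCompact.compactSpace_of_compactSpace (f ∣_ U)
    haveI : QuasiSeparatedSpace (f ⁻¹ᵁ U).toScheme :=
      quasiSeparatedSpace_of_quasiSeparated (f ∣_ U)
    refine ⟨?_⟩
    refine Groth.L22.Pointwise.isIso_of_pointwise _ fun r => ?_
    let u := U.toScheme.isoSpec.inv (Spec.map (f ∣_ U).appTop r)
    obtain ⟨t, ht⟩ := g.surjective (U.ι u)
    obtain ⟨_, ⟨W, hW, rfl⟩, htW, hWU⟩ := Y'.isBasis_affineOpens.exists_subset_of_mem_open
      (a := t) (show t ∈ g ⁻¹ᵁ U by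
        change g.base t ∈ U
        rw [ht]; exact u.2) (g ⁻¹ᵁ U).2
    change Y'.Opens at W
    haveI : IsAffine W.toScheme := hW
    let p := g.resLE U W hWU
    haveI : IsOpenImmersion (Y'.homOfLE (show W ≤ g ⁻¹ᵁ U from hWU)) := inferInstance
    haveI : Flat (g ∣_ U) :=
      MorphismProperty.of_isPullback (P := @Flat) (isPullback_morphismRestrict g U).flip
        inferInstance
    haveI : Flat p := by
      simp only [p, Scheme.Hom.resLE]
      infer_instance
    have H := IsPullback.of_hasPullback (f ∣_ U) p
    have hbig := H.paste_horiz (isPullback_morphismRestrict f U).flip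
    rw [Scheme.Hom.resLE_comp_ι] at hbig
    let l : pullback (f ∣_ U) p ⟶ pullback f g := pullback.lift
      (pullback.fst (f ∣_ U) p ≫ (f ⁻¹ᵁ U).ι) (pullback.snd (f ∣_ U) p ≫ W.ι) (by
        rw [hbig.w]; simp only [Category.assoc])
    have hl : IsPullback l (pullback.snd (f ∣_ U) p) (pullback.snd f g) W.ι := by
      refine IsPullback.of_right ?_ (pullback.lift_snd _ _ _) (IsPullback.of_hasPullback f g)
      simp only [l, pullback.lift_fst]
      exact hbig
    haveI : IsAffineHom (pullback.snd (f ∣_ U) p) := MorphismProperty.of_isPullback hl ha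
    haveI : IsAffine (pullback (f ∣_ U) p) :=
      isAffine_of_isAffineHom (pullback.snd (f ∣_ U) p)
    have hsq := Groth.L22.AffDesc.isPullback_toSpecΓ H
    have hR := ((Groth.L22.AffDesc.isPushout_appTop H).op.map Scheme.Spec).flip
    refine ⟨_, Spec.map (pullback.fst (f ∣_ U) p).appTop, ?_, ?_, ?_⟩
    · refine MorphismProperty.of_isPullback hR.flip ?_
      exact (MorphismProperty.arrow_mk_iso_iff @Flat
        (Arrow.isoMk W.toScheme.isoSpec U.toScheme.isoSpec (by
          simpa [Scheme.isoSpec] using (Scheme.toSpecΓ_naturality p).symm) :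
          Arrow.mk p ≅ Arrow.mk (Spec.map p.appTop))).1 inferInstance
    · have hpu : p ⟨t, htW⟩ = u := by
        apply U.ι.injective
        rw [← Scheme.Hom.comp_apply, Scheme.Hom.resLE_comp_ι, Scheme.Hom.comp_apply]
        exact ht
      have hspec : Spec.map (f ∣_ U).appTop r =
          Spec.map p.appTop (W.toScheme.isoSpec.hom ⟨t, htW⟩) := by
        rw [← Scheme.Hom.comp_apply, Scheme.isoSpec_hom_naturality, Scheme.Hom.comp_apply, hpu]
        exact (Scheme.inv_hom_apply U.toScheme.isoSpec _).symm
      obtain ⟨z, hz, -⟩ := Scheme.exists_preimage_of_isPullback hR r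
        (W.toScheme.isoSpec.hom ⟨t, htW⟩) hspec
      exact ⟨z, hz⟩
    · rw [← IsPullback.isoPullback_inv_snd hsq]
      haveI : IsIso (pullback (f ∣_ U) p).toSpecΓ := inferInstance
      infer_instance

end Groth.Agent.S13711
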