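
import Groth.Statements.S13712
import Groth.Agent.L22.IntegralImage

set_option autoImplicit false
universe u
open CategoryTheory CategoryTheory.Limits AlgebraicGeometry
open ZeroCyc

namespace Groth.Agent.S13712

/-- Let f : X → Y and g : Y → S be morphisms of schemes with g separated, such that the composite X → S
is integral with topologically finite fibres (every fibre is a finite set). Then the
scheme-theoretic image Y' of f, with its closed immersion Y' → Y, is integral over S, and Y' → S
again has topologically finite fibres. (The published statement is for algebraic spaces; this row is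
the case of schemes.) -/
theorem result {X Y S : Scheme.{u}} (f : X ⟶ Y) (g : Y ⟶ S)
    [IsSeparated g] [IsIntegralHom (f ≫ g)] (hfin : ∀ s : S, Set.Finite ((f ≫ g).base ⁻¹' {s})) :
    IsIntegralHom (f.imageι ≫ g) ∧ ∀ s : S, Set.Finite ((f.imageι ≫ g).base ⁻¹' {s}) := by
  haveI : IsIntegralHom f := IsIntegralHom.of_comp f g
  haveI : Surjective f.toImage := by
    constructor
    intro z
    have hz : f.imageι z ∈ closure (Set.range f) := by
      rw [← Scheme.Hom.support_ker]
      exact z.2
    rw [f.isClosedMap.isClosed_range.closure_eq] at hz
    obtain ⟨x, hx⟩ := hz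
    refine ⟨x, f.imageι.isEmbedding.injective ?_⟩
    rw [← Scheme.Hom.comp_apply, Scheme.Hom.toImage_imageι]
    exact hx
  have e : f.toImage ≫ f.imageι ≫ g = f ≫ g := by
    rw [← Category.assoc, Scheme.Hom.toImage_imageι]
  haveI : IsIntegralHom (f.toImage ≫ f.imageι ≫ g) := e ▸ inferInstance
  exact Groth.L22.IntImage.isIntegralHom_of_integral_comp f.toImage (f.imageι ≫ g)
    (fun s => by rw [e]; exact hfin s)

end Groth.Agent.S13712
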