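import Groth.Statements.S13713
-- import your own Groth.Agent.* helpers here
import Groth.Agent.L22.Gamma.Finite
import Mathlib.RingTheory.Adjoin.Tower
import Mathlib.RingTheory.Invariant.Basic
import Mathlib.RingTheory.FiniteType

set_option autoImplicit false
universe u
open scoped TensorProduct
open ZeroCyc

namespace Groth.Agent.S13713

open scoped TensorProduct
open Groth.L22.Gamma MvPolynomial

section
variable {A : Type u} [CommRing A] (d : ℕ) (σ : Type u)

/-- Permutation of the blocks of variables. -/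
noncomputable def act : Equiv.Perm (Fin d) →* (MvPolynomial (Fin d × σ) ℤ ≃+* MvPolynomial (Fin d × σ) ℤ) where
  toFun s := (renameEquiv ℤ (Equiv.prodCongr s (Equiv.refl σ))).toRingEquiv
  map_one' := RingEquiv.ext fun p => by simp [Equiv.Perm.one_def]
  map_mul' s t := RingEquiv.ext fun p => by
    simp [rename_rename, RingAut.mul_apply, Equiv.Perm.coe_mul]
    rfl

/-- The invariant polynomials. -/
noncomputable def Inv : Subalgebra ℤ (MvPolynomial (Fin d × σ) ℤ) :=
  subalgebraOfSubring
    { carrier := {p | ∀ s : Equiv.Perm (Fin d), act d σ s p = p}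
      mul_mem' := fun hx hy s => by rw [map_mul, hx s, hy s]
      one_mem' := fun s => map_one _
      add_mem' := fun hx hy s => by rw [map_add, hx s, hy s]
      zero_mem' := fun s => map_zero _
      neg_mem' := fun hx s => by rw [map_neg, hx s] }

theorem inv_fg [Finite σ] : (Inv d σ).FG := by
  letI : MulSemiringAction (Equiv.Perm (Fin d)) (MvPolynomial (Fin d × σ) ℤ) :=
    MulSemiringAction.compHom _ (act d σ)
  haveI : SMulCommClass (Equiv.Perm (Fin d)) ↥(Inv d σ) (MvPolynomial (Fin d × σ) ℤ) :=
    ⟨fun s a p => by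
      change act d σ s ((a : MvPolynomial (Fin d × σ) ℤ) * p) = (a : MvPolynomial (Fin d × σ) ℤ) * act d σ s p
      rw [map_mul, a.2 s]⟩
  haveI : Algebra.IsInvariant ↥(Inv d σ) (MvPolynomial (Fin d × σ) ℤ) (Equiv.Perm (Fin d)) :=
    ⟨fun p hp => ⟨⟨p, hp⟩, rfl⟩⟩
  haveI : Algebra.IsIntegral ↥(Inv d σ) (MvPolynomial (Fin d × σ) ℤ) :=
    Algebra.IsInvariant.isIntegral _ _ (Equiv.Perm (Fin d))
  haveI : Algebra.FiniteType ↥(Inv d σ) (MvPolynomial (Fin d × σ) ℤ) :=
    Algebra.FiniteType.of_restrictScalars_finiteType ℤ _ _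
  haveI : Module.Finite ↥(Inv d σ) (MvPolynomial (Fin d × σ) ℤ) := Algebra.IsIntegral.finite
  exact (Subalgebra.fg_top _).1 (fg_of_fg_of_fg ℤ ↥(Inv d σ) (MvPolynomial (Fin d × σ) ℤ)
    Algebra.FiniteType.out Module.Finite.fg_top Subtype.val_injective)

variable (A) in
/-- Evaluation of the blocks of variables in the tensor power. -/
noncomputable def psi : MvPolynomial (Fin d × σ) ℤ →+* TP A (MvPolynomial σ A) d :=
  eval₂Hom (Int.castRingHom _) fun p =>
    PiTensorProduct.singleAlgHom (R := A) (A := fun _ : Fin d => MvPolynomial σ A) p.1 (X p.2)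

theorem perm_single (s : Equiv.Perm (Fin d)) (k : Fin d) (a : MvPolynomial σ A) :
    SymTen.perm A (MvPolynomial σ A) d s
      (PiTensorProduct.singleAlgHom (R := A) (A := fun _ : Fin d => MvPolynomial σ A) k a) =
    PiTensorProduct.singleAlgHom (R := A) (A := fun _ : Fin d => MvPolynomial σ A) (s k) a := by
  change SymTen.perm A _ d s (PiTensorProduct.tprod A (Pi.mulSingle k a)) =
    PiTensorProduct.tprod A (Pi.mulSingle (s k) a)
  rw [SymTen.perm_tprod]
  congr 1
  funext i
  simp [Pi.mulSingle_apply, Equiv.symm_apply_eq]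

theorem psi_act (s : Equiv.Perm (Fin d)) (p : MvPolynomial (Fin d × σ) ℤ) :
    psi A d σ (act d σ s p) = SymTen.perm A (MvPolynomial σ A) d s (psi A d σ p) := by
  suffices (psi A d σ).comp (act d σ s).toRingHom =
      (SymTen.perm A (MvPolynomial σ A) d s).toRingHom.comp (psi A d σ) from DFunLike.congr_fun this p
  refine MvPolynomial.ringHom_ext (fun n => by simp) fun ⟨k, i⟩ => ?_
  simpa [psi, act] using (perm_single (A := A) d σ s k (X i)).symm

theorem psi_mem {p : MvPolynomial (Fin d × σ) ℤ} (hp : p ∈ Inv d σ) :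
    psi A d σ p ∈ SymTen.TS A (MvPolynomial σ A) d := fun s => by
  rw [← SymTen.perm_apply, ← psi_act, hp s]

/-- The monomial attached to a function into exponents. -/
noncomputable def blk (c : Fin d → σ →₀ ℕ) : MvPolynomial (Fin d × σ) ℤ :=
  ∏ k, rename (fun i => (k, i)) (monomial (c k) 1)

theorem act_blk (s : Equiv.Perm (Fin d)) (c : Fin d → σ →₀ ℕ) :
    act d σ s (blk d σ c) = blk d σ (c ∘ s.symm) := by
  simp only [blk, map_prod]
  refine Fintype.prod_equiv s _ _ fun k => ?_
  simp [act, rename_rename, Function.comp_def]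

theorem psi_blk (c : Fin d → σ →₀ ℕ) :
    psi A d σ (blk d σ c) = PiTensorProduct.tprod A fun k => monBasis A σ (c k) := by
  have h : ∀ k (p : MvPolynomial σ ℤ), psi A d σ (rename (fun i => (k, i)) p) =
      PiTensorProduct.singleAlgHom (R := A) (A := fun _ : Fin d => MvPolynomial σ A) k
        (MvPolynomial.map (Int.castRingHom A) p) := by
    intro k p
    suffices (psi A d σ).comp (rename fun i : σ => (k, i)).toRingHom =
        (PiTensorProduct.singleAlgHom (R := A) (A := fun _ : Fin d => MvPolynomial σ A) k).toRingHom.comp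
          (MvPolynomial.map (Int.castRingHom A)) from DFunLike.congr_fun this p
    refine MvPolynomial.ringHom_ext (fun n => by simp) fun i => ?_
    simp [psi]
  simp only [blk, map_prod, h, map_monomial, map_one]
  change ∏ k, PiTensorProduct.tprod A (Pi.mulSingle k (monomial (c k) (1 : A))) = _
  rw [← PiTensorProduct.tprod_prod, Finset.univ_prod_mulSingle]
  simp [monBasis]

theorem sym_mem (ν : (σ →₀ ℕ) →₀ ℕ) :
    sym A d (monBasis A σ) ν ∈ psi A d σ '' (Inv d σ : Set (MvPolynomial (Fin d × σ) ℤ)) := by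
  refine ⟨∑ c ∈ symIdx d ν, blk d σ c, fun s => ?_, ?_⟩
  · simp only [map_sum, act_blk]
    refine Finset.sum_bij' (fun c _ => c ∘ s.symm) (fun c _ => c ∘ s) ?_ ?_ ?_ ?_ fun c _ => rfl
    · intro c hc
      simpa [cnt_comp_perm] using hc
    · intro c hc
      simpa [cnt_comp_perm] using hc
    · intro c _
      simp [Function.comp_assoc]
    · intro c _
      simp [Function.comp_assoc]
  · simp only [map_sum, psi_blk]
    rfl

end


/-- Let (C, γ) be the algebra of divided powers Γ^d_A(B) of a commutative A-algebra B with its universal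
multiplicative law γ : B → C homogeneous of degree d (every multiplicative law B → C' homogeneous of
degree d factors uniquely through γ by an algebra map C → C'). If B is of finite type over A then so
is C = Γ^d_A(B). -/
theorem result {A : Type u} [CommRing A] {B : Type u} [CommRing B] [Algebra A B] {C : Type u} [CommRing C] [Algebra A C]
    {d : ℕ} (γ : PolLaw.MulLaw A B C d) (hγ : PolLaw.IsGammaD γ) [Algebra.FiniteType A B] :
    Algebra.FiniteType A C := by
  classical
  obtain ⟨s, π, hπ⟩ := Algebra.FiniteType.iff_quotient_mvPolynomial.1 ‹Algebra.FiniteType A B›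
  obtain ⟨g, hg⟩ := inv_fg d (↥s)
  have hTS : SymTen.TS A (MvPolynomial ↥s A) d = Algebra.adjoin A (psi A d ↥s '' g) := by
    refine le_antisymm (fun t ht => ?_) (Algebra.adjoin_le ?_)
    · refine (Submodule.span_le (p := Subalgebra.toSubmodule (Algebra.adjoin A (psi A d ↥s '' g)))).2
        ?_ (symT_le_span (monBasis A ↥s) (mem_TS_iff.1 ht))
      rintro _ ⟨ν, rfl⟩
      obtain ⟨p, hp, hpe⟩ := sym_mem (A := A) d ↥s ν
      rw [← hpe]
      change psi A d _ p ∈ Algebra.adjoin A _
      rw [← hg] at hp
      clear hpe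
      induction hp using Algebra.adjoin_induction with
      | mem x hx => exact Algebra.subset_adjoin ⟨x, hx, rfl⟩
      | algebraMap n => simpa [psi] using intCast_mem _ n
      | add x y _ _ hx hy => rw [map_add]; exact add_mem hx hy
      | mul x y _ _ hx hy => rw [map_mul]; exact mul_mem hx hy
    · rintro _ ⟨p, hp, rfl⟩
      exact psi_mem d ↥s (hg ▸ Algebra.subset_adjoin hp)
  haveI : Algebra.FiniteType A (SymTen.TS A (MvPolynomial ↥s A) d) :=
    ⟨(Subalgebra.fg_top _).2 ⟨g.image (psi A d ↥s), by rw [hTS, Finset.coe_image]⟩⟩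
  exact Algebra.FiniteType.of_surjective _ (thetaHom_surjective hγ π hπ (monBasis A ↥s))

end Groth.Agent.S13713
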