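import Groth.Statements.S13714
import Groth.Agent.L22.Gamma.Residue
import Mathlib.RingTheory.FinitePresentation
import Mathlib.RingTheory.Adjoin.Tower
import Mathlib.RingTheory.IntegralClosure.IsIntegralClosure.Basic
import Mathlib.Algebra.MvPolynomial.Supported
import Mathlib.RingTheory.TensorProduct.Maps
import Mathlib.RingTheory.RingHom.FinitePresentation

set_option autoImplicit false
universe u
open scoped TensorProduct
open ZeroCyc
open Groth.L22.Gamma

namespace Groth.Agent.S13714

section CoefZero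

variable {A M N : Type u} [CommRing A] [AddCommGroup M] [Module A M] [AddCommGroup N] [Module A N]

/-- a coefficient with a member in the span of a bad subfamily vanishes -/
theorem coef_zero {F : M →ₚₗ[A] N} {d : ℕ} (hF : PolLaw.IsHomog F d) {κ ι : Type u} (u : κ → M)
    (S : Set κ) (w : ι → M) (hw : ∀ i, w i ∈ Submodule.span A (Set.range u)) {ν : ι →₀ ℕ} {i₀ : ι}
    (hi₀ : i₀ ∈ ν.support) (hwi : w i₀ ∈ Submodule.span A (u '' S))
    (h : ∀ μ : κ →₀ ℕ, (∃ j ∈ μ.support, j ∈ S) → coef F u μ = 0) :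
    coef F w ν = 0 := by
  classical
  obtain ⟨a₀, ha₀S, ha₀⟩ := (Finsupp.mem_span_image_iff_linearCombination A).mp hwi
  choose a ha using fun i => (Finsupp.mem_span_range_iff_exists_finsupp.mp (hw i))
  let b : ι → κ →₀ A := Function.update a i₀ a₀
  have hb : ∀ i, ((b i).sum fun j c => c • u j) = w i := by
    intro i
    rcases eq_or_ne i i₀ with rfl | hne
    · simp only [b, Function.update_self]
      exact ha₀
    · simp only [b, Function.update_of_ne hne]
      exact ha i
  let J := ν.support.biUnion fun i => (b i).support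
  have harg : (∑ i ∈ ν.support, (MvPolynomial.X i : MvPolynomial ι A) ⊗ₜ[A] w i) =
      ∑ j ∈ J, (∑ i ∈ ν.support, b i j • MvPolynomial.X i) ⊗ₜ[A] u j := by
    simp only [TensorProduct.sum_tmul, TensorProduct.smul_tmul]
    rw [Finset.sum_comm]
    refine Finset.sum_congr rfl fun i hi => ?_
    rw [← TensorProduct.tmul_sum, ← hb i]
    congr 1
    exact Finsupp.sum_of_support_subset _ (Finset.subset_biUnion_of_mem (fun i => (b i).support) hi)
      _ fun j _ => zero_smul A _
  rw [coef, gen, harg, apply_sum hF, map_sum]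
  refine Finset.sum_eq_zero fun μ _ => ?_
  by_cases hbad : ∃ j ∈ μ.support, j ∈ S
  · rw [h μ hbad, TensorProduct.tmul_zero, map_zero]
  · rw [cof_tmul]
    have hmem : (∏ j ∈ J, (∑ i ∈ ν.support, b i j • MvPolynomial.X i : MvPolynomial ι A) ^ μ j) ∈
        MvPolynomial.supported A {i | i ≠ i₀} := by
      refine Subalgebra.prod_mem _ fun j _ => ?_
      rcases eq_or_ne (μ j) 0 with hj | hj
      · rw [hj, pow_zero]; exact one_mem _
      refine pow_mem (Subalgebra.sum_mem _ fun i _ => ?_) _
      rcases eq_or_ne i i₀ with rfl | hne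
      · have : b i j = 0 := by
          simp only [b, Function.update_self]
          by_contra hne
          exact hbad ⟨j, Finsupp.mem_support_iff.mpr hj, ha₀S (Finsupp.mem_support_iff.mpr hne)⟩
        rw [this, zero_smul]; exact zero_mem _
      · refine Subalgebra.smul_mem _ ?_ _
        rw [MvPolynomial.supported_eq_adjoin_X]
        exact Algebra.subset_adjoin ⟨i, hne, rfl⟩
    have hc : MvPolynomial.coeff ν
        (∏ j ∈ J, (∑ i ∈ ν.support, b i j • MvPolynomial.X i : MvPolynomial ι A) ^ μ j) = 0 := by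
      by_contra hne
      have := MvPolynomial.mem_supported.mp hmem
        ((MvPolynomial.mem_vars i₀).mpr ⟨ν, MvPolynomial.mem_support_iff.mpr hne, hi₀⟩)
      exact this rfl
    rw [hc, zero_smul]

end CoefZero

section BaseChange

variable (A₀ A σ : Type u) [CommRing A₀] [CommRing A] [Algebra A₀ A] (d : ℕ)

/-- extension of coefficients -/
noncomputable def bc : MvPolynomial σ A₀ →ₐ[A₀] MvPolynomial σ A :=
  MvPolynomial.mapAlgHom (Algebra.ofId A₀ A)

theorem bc_apply (p : MvPolynomial σ A₀) : bc A₀ A σ p = MvPolynomial.map (algebraMap A₀ A) p := rfl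

/-- extension of coefficients on tensor powers -/
noncomputable def bcT : (⨂[A₀] _ : Fin d, MvPolynomial σ A₀) →ₐ[A₀] (⨂[A] _ : Fin d, MvPolynomial σ A) :=
  PiTensorProduct.liftAlgHom
    (((PiTensorProduct.tprod A).restrictScalars A₀).compLinearMap fun _ => (bc A₀ A σ).toLinearMap)
    (by simp [PiTensorProduct.one_def]; rfl)
    (by intro x y; simp [PiTensorProduct.tprod_mul_tprod]; rfl)

theorem bcT_tprod (v : Fin d → MvPolynomial σ A₀) :
    bcT A₀ A σ d (PiTensorProduct.tprod A₀ v) =
      PiTensorProduct.tprod A (fun i => bc A₀ A σ (v i)) := by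
  simp [bcT]

theorem bcT_sym {κ : Type u} (v : κ → MvPolynomial σ A₀) (ν : κ →₀ ℕ) :
    bcT A₀ A σ d (sym A₀ d v ν) = sym A d (fun i => bc A₀ A σ (v i)) ν := by
  simp [sym, map_sum, bcT_tprod]

theorem bcT_mem {t : ⨂[A₀] _ : Fin d, MvPolynomial σ A₀} (ht : t ∈ SymTen.TS A₀ (MvPolynomial σ A₀) d) :
    bcT A₀ A σ d t ∈ SymTen.TS A (MvPolynomial σ A) d := by
  have hle : symT A₀ (MvPolynomial σ A₀) d ≤
      ((Subalgebra.toSubmodule (SymTen.TS A (MvPolynomial σ A) d)).restrictScalars A₀).comap
        (bcT A₀ A σ d).toLinearMap := by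
    refine (symT_le_span (monBasis A₀ σ)).trans (Submodule.span_le.mpr ?_)
    rintro _ ⟨ν, rfl⟩
    show bcT A₀ A σ d _ ∈ SymTen.TS A (MvPolynomial σ A) d
    rw [bcT_sym]
    exact mem_TS_iff.mpr (sym_mem _ _)
  exact hle (mem_TS_iff.mp ht)

/-- extension of coefficients on symmetric tensors -/
noncomputable def bcS : SymTen.TS A₀ (MvPolynomial σ A₀) d →ₐ[A₀] SymTen.TS A (MvPolynomial σ A) d :=
  ((bcT A₀ A σ d).comp (SymTen.TS A₀ (MvPolynomial σ A₀) d).val).codRestrict
    ((SymTen.TS A (MvPolynomial σ A) d).restrictScalars A₀) fun t => bcT_mem A₀ A σ d t.2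

theorem bcS_coef {κ : Type u} (v : κ → MvPolynomial σ A₀) (ν : κ →₀ ℕ) :
    bcS A₀ A σ d (coef (tauFree d (monBasis A₀ σ)).law v ν) =
      coef (tauFree d (monBasis A σ)).law (fun i => bc A₀ A σ (v i)) ν := by
  apply Subtype.ext
  show bcT A₀ A σ d ((SymTen.TS A₀ (MvPolynomial σ A₀) d).val _) =
    (SymTen.TS A (MvPolynomial σ A) d).val _
  rw [coef_tauFree, coef_tauFree, bcT_sym]

theorem monBasis_bc (m : σ →₀ ℕ) : bc A₀ A σ (monBasis A₀ σ m) = monBasis A σ m := by
  simp [monBasis, bc_apply, MvPolynomial.map_monomial]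

end BaseChange

/-- a criterion for a map from a base change to be bijective -/
theorem lift_bijective {A₀ A S₀ D ι : Type u} [CommRing A₀] [CommRing A] [Algebra A₀ A] [CommRing S₀]
    [Algebra A₀ S₀] [CommRing D] [Algebra A D] [Algebra A₀ D] [IsScalarTower A₀ A D]
    (j : S₀ →ₐ[A₀] D) (v : ι → S₀) (hv : Submodule.span A₀ (Set.range v) = ⊤)
    (hD : Submodule.span A (Set.range fun i => j (v i)) = ⊤)
    (back : D →ₗ[A] A ⊗[A₀] S₀) (hback : ∀ i, back (j (v i)) = (1 : A) ⊗ₜ[A₀] v i) :
    Function.Bijective (Algebra.TensorProduct.lift (Algebra.ofId A D) j (fun _ _ => Commute.all _ _)) := by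
  let Φ := Algebra.TensorProduct.lift (Algebra.ofId A D) j (fun _ _ => Commute.all _ _)
  have hΦ : ∀ z, Φ ((1 : A) ⊗ₜ[A₀] z) = j z := fun z => by
    rw [Algebra.TensorProduct.lift_tmul, map_one, _root_.one_mul]
  refine ⟨Function.LeftInverse.injective (g := back) fun w => ?_, fun y => ?_⟩
  · induction w using TensorProduct.induction_on with
    | zero => simp
    | add x y hx hy => rw [map_add, map_add, hx, hy]
    | tmul a s =>
      have hs : s ∈ Submodule.span A₀ (Set.range v) := by rw [hv]; trivial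
      induction hs using Submodule.span_induction with
      | mem z hz =>
        obtain ⟨i, rfl⟩ := hz
        have : a ⊗ₜ[A₀] v i = a • ((1 : A) ⊗ₜ[A₀] v i) := by
          rw [TensorProduct.smul_tmul', smul_eq_mul, _root_.mul_one]
        rw [this, map_smul, map_smul, hΦ, hback]
      | zero => simp
      | add x y _ _ hx hy => rw [TensorProduct.tmul_add, map_add, map_add, hx, hy]
      | smul r x _ hx =>
        rw [TensorProduct.tmul_smul, ← algebraMap_smul A r (a ⊗ₜ[A₀] x), map_smul, map_smul, hx]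
  · have hy : y ∈ Submodule.span A (Set.range fun i => j (v i)) := by rw [hD]; trivial
    have hle : Submodule.span A (Set.range fun i => j (v i)) ≤ LinearMap.range Φ.toLinearMap := by
      rw [Submodule.span_le]
      rintro _ ⟨i, rfl⟩
      exact ⟨(1 : A) ⊗ₜ[A₀] v i, hΦ (v i)⟩
    exact hle hy

/-- symmetric tensors of a polynomial ring commute with base change -/
theorem finitePresentation_TS (A₀ A σ : Type u) [CommRing A₀] [CommRing A] [Algebra A₀ A] (d : ℕ)
    [Algebra.FinitePresentation A₀ (SymTen.TS A₀ (MvPolynomial σ A₀) d)] :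
    Algebra.FinitePresentation A (SymTen.TS A (MvPolynomial σ A) d) := by
  classical
  have hj : ∀ ν, bcS A₀ A σ d (coef (tauFree d (monBasis A₀ σ)).law (monBasis A₀ σ) ν) =
      coef (tauFree d (monBasis A σ)).law (monBasis A σ) ν := by
    intro ν
    rw [bcS_coef]
    congr 1
    funext m
    exact monBasis_bc A₀ A σ m
  have hbij := lift_bijective (bcS A₀ A σ d)
    (fun ν => coef (tauFree d (monBasis A₀ σ)).law (monBasis A₀ σ) ν)
    (span_coef_tauFree _) (by simp only [hj]; exact span_coef_tauFree _)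
    (symLift d (monBasis A σ)
        (fun ν => (1 : A) ⊗ₜ[A₀] coef (tauFree d (monBasis A₀ σ)).law (monBasis A₀ σ) ν) ∘ₗ
      (SymTen.TS A (MvPolynomial σ A) d).val.toLinearMap) (fun ν => by
      rw [hj, LinearMap.comp_apply, AlgHom.toLinearMap_apply, coef_tauFree]
      by_cases hν : (ν.sum fun _ k => k) = d
      · exact symLift_sym _ _ (exists_cnt_eq ν hν)
      · rw [sym_eq_zero _ hν, map_zero,
          coef_eq_zero_of_degree_ne (tauFree d (monBasis A₀ σ)).homog _ hν, TensorProduct.tmul_zero])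
  exact Algebra.FinitePresentation.equiv (AlgEquiv.ofBijective _ hbij)

theorem finiteType_TS (A₀ σ : Type u) [CommRing A₀] [IsNoetherianRing A₀] [Finite σ] (d : ℕ) :
    Algebra.FiniteType A₀ (SymTen.TS A₀ (MvPolynomial σ A₀) d) := by
  classical
  let T := ⨂[A₀] _ : Fin d, MvPolynomial σ A₀
  let S := SymTen.TS A₀ (MvPolynomial σ A₀) d
  have hT : (⊤ : Subalgebra A₀ T).FG := by
    let g : MvPolynomial (Fin d × σ) A₀ →ₐ[A₀] T := MvPolynomial.aeval fun p =>
      PiTensorProduct.singleAlgHom (R := A₀) (A := fun _ : Fin d => MvPolynomial σ A₀) p.1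
        (MvPolynomial.X p.2)
    have hg : Function.Surjective g := by
      rw [← AlgHom.range_eq_top, eq_top_iff]
      rintro t -
      induction t using PiTensorProduct.induction_on with
      | add x y hx hy => exact add_mem hx hy
      | smul_tprod r v =>
        refine Subalgebra.smul_mem _ ?_ r
        have hsingle : ∀ (j : Fin d) (p : MvPolynomial σ A₀),
            PiTensorProduct.singleAlgHom (R := A₀) (A := fun _ : Fin d => MvPolynomial σ A₀) j p ∈
              g.range := by
          intro j p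
          refine ⟨MvPolynomial.rename (fun i => (j, i)) p, ?_⟩
          show (g.comp (MvPolynomial.rename fun i => (j, i))) p = _
          congr 1
          refine MvPolynomial.algHom_ext fun i => ?_
          simp [g]
          rfl
        have hprod : PiTensorProduct.tprod A₀ v = ∏ j : Fin d,
            PiTensorProduct.singleAlgHom (R := A₀) (A := fun _ : Fin d => MvPolynomial σ A₀) j (v j) := by
          simp only [PiTensorProduct.singleAlgHom_apply, MonoidHom.mulSingle_apply]
          rw [← PiTensorProduct.tprod_prod, Finset.univ_prod_mulSingle]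
        rw [hprod]
        exact Subalgebra.prod_mem _ fun j _ => hsingle j (v j)
    haveI : Algebra.FiniteType A₀ T := Algebra.FiniteType.of_surjective g hg
    exact Algebra.FiniteType.out
  haveI : Algebra.IsIntegral S T := ⟨fun z => isIntegral_val z⟩
  haveI : Algebra.FiniteType A₀ T := ⟨hT⟩
  haveI : Algebra.FiniteType S T := Algebra.FiniteType.of_restrictScalars_finiteType A₀ S T
  haveI : Module.Finite S T := Algebra.IsIntegral.finite
  exact ⟨fg_of_fg_of_fg A₀ S T hT Module.Finite.fg_top Subtype.val_injective⟩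

theorem result {A : Type u} [CommRing A] {B : Type u} [CommRing B] [Algebra A B] {C : Type u} [CommRing C] [Algebra A C]
    {d : ℕ} (γ : PolLaw.MulLaw A B C d) (hγ : PolLaw.IsGammaD γ) [Algebra.FinitePresentation A B] :
    Algebra.FinitePresentation A C := by
  classical
  obtain ⟨n, f, hf, hker⟩ := Algebra.FinitePresentation.out (R := A) (A := B)
  let σ : Type u := ULift.{u} (Fin n)
  let π : MvPolynomial σ A →ₐ[A] B := f.comp (MvPolynomial.rename ULift.down)
  have hren : Function.Bijective (MvPolynomial.rename (R := A) (ULift.down : σ → Fin n)) :=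
    (MvPolynomial.renameEquiv A Equiv.ulift).bijective
  have hπ : Function.Surjective π := hf.comp hren.2
  have hI : (RingHom.ker π.toRingHom).FG := by
    have : RingHom.ker π.toRingHom = (RingHom.ker f.toRingHom).map
        (MvPolynomial.renameEquiv A (Equiv.ulift : σ ≃ Fin n)).toRingEquiv.symm := by
      rw [Ideal.map_symm]
      rfl
    rw [this]
    exact hker.map _
  obtain ⟨G, hG⟩ := hI
  let coeffs : Finset A := G.biUnion fun g => g.support.image fun m => g.coeff m
  let A₀ : Subalgebra ℤ A := Algebra.adjoin ℤ (coeffs : Set A)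
  haveI : IsNoetherianRing A₀ := isNoetherianRing_of_fg ⟨coeffs, rfl⟩
  haveI : Algebra.FinitePresentation A₀ (SymTen.TS A₀ (MvPolynomial σ A₀) d) :=
    Algebra.FinitePresentation.of_finiteType.mp (finiteType_TS A₀ σ d)
  haveI : IsNoetherianRing (SymTen.TS A₀ (MvPolynomial σ A₀) d) :=
    haveI : Algebra.FiniteType A₀ (SymTen.TS A₀ (MvPolynomial σ A₀) d) := finiteType_TS A₀ σ d
    Algebra.FiniteType.isNoetherianRing A₀ _
  haveI hTS : Algebra.FinitePresentation A (SymTen.TS A (MvPolynomial σ A) d) :=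
    finitePresentation_TS A₀ A σ d
  let φ := bc A₀ A σ
  let e₀ := monBasis A₀ σ
  let e := monBasis A σ
  let I₀ : Set (MvPolynomial σ A₀) := {p | π (φ p) = 0}
  let K₀ : Ideal (SymTen.TS A₀ (MvPolynomial σ A₀) d) :=
    Ideal.span {x | ∃ μ : MvPolynomial σ A₀ →₀ ℕ, (∃ j ∈ μ.support, j ∈ I₀) ∧
      x = coef (tauFree d e₀).law id μ}
  let J : Ideal (SymTen.TS A (MvPolynomial σ A) d) := K₀.map (bcS A₀ A σ d).toRingHom
  have hJ : J.FG := Ideal.FG.map (IsNoetherian.noetherian K₀) _
  let θ := thetaHom e (γ.precomp π)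
  have hθ : Function.Surjective θ := thetaHom_surjective hγ π hπ e
  -- lifting elements
  have hspanall : ∀ p : MvPolynomial σ A, p ∈ Submodule.span A (Set.range φ) := by
    intro p
    rw [p.as_sum]
    refine Submodule.sum_mem _ fun m _ => ?_
    have : MvPolynomial.monomial m (p.coeff m) = p.coeff m • φ (MvPolynomial.monomial m 1) := by
      simp [φ, bc_apply, MvPolynomial.map_monomial, MvPolynomial.smul_monomial]
    rw [this]
    exact Submodule.smul_mem _ _ (Submodule.subset_span ⟨_, rfl⟩)
  have hspanker : ∀ p : MvPolynomial σ A, π p = 0 → p ∈ Submodule.span A (φ '' I₀) := by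
    intro p hp
    have hp' : p ∈ Ideal.span (G : Set (MvPolynomial σ A)) := hG.symm ▸ hp
    obtain ⟨c, -, rfl⟩ := Submodule.mem_span_finset.mp hp'
    refine Submodule.sum_mem _ fun g hg => ?_
    obtain ⟨g₀, hg₀⟩ : ∃ g₀, φ g₀ = g := by
      have : g ∈ Set.range (MvPolynomial.map (σ := σ) (algebraMap A₀ A)) := by
        rw [MvPolynomial.mem_range_map_iff_coeffs_subset]
        intro x hx
        obtain ⟨m, hm, rfl⟩ := MvPolynomial.mem_coeffs_iff.mp hx
        exact ⟨⟨g.coeff m, Algebra.subset_adjoin (Finset.mem_biUnion.mpr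
          ⟨g, hg, Finset.mem_image.mpr ⟨m, hm, rfl⟩⟩)⟩, rfl⟩
      exact this
    have hg0 : π g = 0 := by
      have : g ∈ RingHom.ker π.toRingHom := hG ▸ Ideal.subset_span hg
      exact this
    rw [(c g).as_sum, Finset.sum_smul]
    refine Submodule.sum_mem _ fun m _ => ?_
    have : MvPolynomial.monomial m ((c g).coeff m) • g =
        (c g).coeff m • φ (MvPolynomial.monomial m 1 * g₀) := by
      rw [map_mul, hg₀]
      simp only [φ, bc_apply, MvPolynomial.map_monomial, map_one, smul_eq_mul,
        ← smul_mul_assoc, MvPolynomial.smul_monomial, _root_.mul_one]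
    rw [this]
    refine Submodule.smul_mem _ _ (Submodule.subset_span ⟨_, ?_, rfl⟩)
    show π (φ (MvPolynomial.monomial m 1 * g₀)) = 0
    rw [map_mul, hg₀, map_mul, hg0, mul_zero]
  -- `J` is the kernel
  have hJle : J ≤ RingHom.ker θ.toRingHom := by
    rw [Ideal.map_le_iff_le_comap, Ideal.span_le]
    rintro _ ⟨μ, ⟨j, hj, hjI⟩, rfl⟩
    show θ (bcS A₀ A σ d (coef (tauFree d e₀).law id μ)) = 0
    rw [bcS_coef]
    show θ.toLinearMap _ = 0
    rw [← coef_postcomp, postcomp_thetaHom]
    show coef (PolLaw.precomp γ.law π.toLinearMap) _ μ = 0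
    rw [coef_precomp]
    exact coef_eq_zero_of_apply_eq_zero γ.law _ hj hjI
  let mk : SymTen.TS A (MvPolynomial σ A) d →ₐ[A] SymTen.TS A (MvPolynomial σ A) d ⧸ J :=
    Ideal.Quotient.mkₐ A J
  let F : PolLaw.MulLaw A (MvPolynomial σ A) (SymTen.TS A (MvPolynomial σ A) d ⧸ J) d :=
    PolLaw.MulLaw.postcomp (C := SymTen.TS A (MvPolynomial σ A) d) (C' := SymTen.TS A (MvPolynomial σ A) d ⧸ J) mk (tauFree d e)
  obtain ⟨γ', hγ'⟩ := exists_descend F π hπ (by
    rintro κ v ν ⟨i, hi, hv⟩
    refine coef_zero F.homog (u := φ) I₀ v (fun i => hspanall _) hi (hspanker _ hv) ?_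
    rintro μ ⟨j, hj, hjI⟩
    show coef (PolLaw.postcomp mk.toLinearMap (tauFree d e).law) φ μ = 0
    rw [coef_postcomp]
    refine Ideal.Quotient.eq_zero_iff_mem.mpr ?_
    have h := Ideal.mem_map_of_mem (bcS A₀ A σ d).toRingHom
      (Ideal.subset_span (s := {x | ∃ μ : MvPolynomial σ A₀ →₀ ℕ, (∃ j ∈ μ.support, j ∈ I₀) ∧
        x = coef (tauFree d e₀).law id μ}) ⟨μ, ⟨j, hj, hjI⟩, rfl⟩)
    have h' := bcS_coef A₀ A σ d id μ
    exact (show bcS A₀ A σ d (coef (tauFree d e₀).law id μ) = coef (tauFree d e).law φ μ from h') ▸ h)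
  obtain ⟨g, hg, -⟩ := hγ _ γ'
  have hgθ : g.comp θ = mk := by
    refine (eq_thetaHom e (γ'.precomp π) _ ?_).trans (eq_thetaHom e (γ'.precomp π) mk ?_).symm
    · show PolLaw.postcomp (g.toLinearMap ∘ₗ θ.toLinearMap) _ = _
      rw [← postcomp_postcomp, postcomp_thetaHom]
      show PolLaw.precomp (PolLaw.postcomp g.toLinearMap γ.law) π.toLinearMap = _
      rw [hg]
      rfl
    · exact hγ'.symm
  have hkerθ : RingHom.ker θ.toRingHom = J := by
    refine le_antisymm (fun z hz => ?_) hJle
    rw [← Ideal.Quotient.eq_zero_iff_mem]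
    show mk z = 0
    rw [← hgθ, AlgHom.comp_apply, show θ z = 0 from hz, map_zero]
  have hq : Algebra.FinitePresentation A (SymTen.TS A (MvPolynomial σ A) d ⧸ J) :=
    Algebra.FinitePresentation.quotient (R := A) hJ
  exact @Algebra.FinitePresentation.equiv A (SymTen.TS A (MvPolynomial σ A) d ⧸ J) C _ _ _ _ _ hq
    ((Ideal.quotientEquivAlgOfEq A hkerθ.symm).trans (Ideal.quotientKerAlgEquivOfSurjective hθ))

end Groth.Agent.S13714
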