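
import Groth.Statements.S13721
import Groth.Agent.L22.Gamma.FiniteKer

set_option autoImplicit false
universe u
open scoped TensorProduct
open ZeroCyc

namespace Groth.Agent.S13721

/-- Let F : B → A be a multiplicative polynomial law homogeneous of degree d over the commutative ring
A, on a commutative A-algebra B which is finite as an A-module, and let A' be the filtered direct
limit of a directed system (A'_i, t_ij) of commutative A-algebras (t_ii the identity, t_jk ∘ t_ij =
t_ik) with structure maps φ_i : A'_i → A' (compatible with the t_ij, jointly surjective, and an
element of A'_i vanishing in A' already vanishes in some A'_j). Then the kernel of the base change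
of F to A', an ideal of A' ⊗_A B, is the supremum over i of the extensions along φ_i ⊗ B of the
kernels of the base changes of F to the A'_i: the kernel of the base-changed law is the direct limit
of the kernels. (The published statement has no finiteness hypothesis on B and is false without one:
for a suitable algebra B that is not finitely generated and a suitable directed system of quotients
of A, an element of A' ⊗_A B lies in the kernel over the limit although it comes from the kernel at
no finite stage, because the conditions cutting out the kernel at an element are infinitely many and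
die one at a time along the system; the published proof's reduction to finite B does not go through.
This row assumes B finite over A, the case that proof establishes.) -/
theorem result {A : Type u} [CommRing A] {B : Type u} [CommRing B] [Algebra A B]
    [Module.Finite A B] {A' : Type u} [CommRing A'] [Algebra A A'] {ι : Type u} [Preorder ι] [IsDirected ι (fun i j => i ≤ j)] [Nonempty ι]
    (Ai : ι → Type u) [∀ i, CommRing (Ai i)] [∀ i, Algebra A (Ai i)]
    (t : ∀ i j : ι, i ≤ j → (Ai i →ₐ[A] Ai j)) (φ : ∀ i : ι, Ai i →ₐ[A] A')
    (hcomp : ∀ (i j : ι) (h : i ≤ j), (φ j).comp (t i j h) = φ i)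
    (hsurj : ∀ a : A', ∃ (i : ι) (x : Ai i), φ i x = a)
    (hzero : ∀ (i : ι) (x : Ai i), φ i x = 0 → ∃ (j : ι) (h : i ≤ j), t i j h x = 0)
    (hid : ∀ (i : ι) (h : i ≤ i), t i i h = AlgHom.id A (Ai i))
    (htrans : ∀ (i j k : ι) (hij : i ≤ j) (hjk : j ≤ k), (t j k hjk).comp (t i j hij) = t i k (hij.trans hjk))
    {d : ℕ} (F : PolLaw.MulLaw A B A d) :
    PolLaw.kerBC F.law A' =
      ⨆ i : ι, (PolLaw.kerBC F.law (Ai i)).map (Algebra.TensorProduct.map (φ i) (AlgHom.id A B)) := by
  exact Groth.L22.Gamma.kerBC_eq_iSup_of_isDirectLimit F Ai t φ hcomp hsurj hzero htrans

end Groth.Agent.S13721
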