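import Groth.Statements.S13725
import Mathlib.RingTheory.AdjoinRoot
import Mathlib.Algebra.CharP.Lemmas
import Mathlib.RingTheory.TensorProduct.Basic
import Mathlib.Tactic

set_option autoImplicit false
universe u
open scoped TensorProduct
open ZeroCyc

namespace Groth.Agent.S13725

/-- Let k be a field of characteristic p > 0 and let F : k → k be the law x ↦ x^p, multiplicative and
homogeneous of degree p over k. The kernel of F is the zero ideal, but after the flat base change k
→ A' = k[X]/(X^p) the kernel of the base-changed law on A' ⊗_k k is not zero (the class of X lies in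
it). So in characteristic p, forming the kernel of a multiplicative law is not compatible with flat
base change. -/
theorem result {k : Type u} [Field k] (p : ℕ) [Fact p.Prime] [CharP k p] :
    PolLaw.ker (PolLaw.MulLaw.pow k k p).law = ⊥ ∧
      PolLaw.kerBC (PolLaw.MulLaw.pow k k p).law (AdjoinRoot ((Polynomial.X : Polynomial k) ^ p)) ≠ ⊥ := by
  have hp : p ≠ 0 := (Fact.out : p.Prime).ne_zero
  refine ⟨?_, ?_⟩
  · rw [eq_bot_iff]
    intro b hb
    have h : (0 + 1 * ((1 : k) ⊗ₜ[k] b)) ^ p = (0 : k ⊗[k] k) ^ p := hb k 0 1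
    rw [zero_add, one_mul, zero_pow hp] at h
    have h2 := congrArg (Algebra.TensorProduct.lid k k) h
    rw [map_pow, Algebra.TensorProduct.lid_tmul, one_smul, map_zero] at h2
    exact (Submodule.mem_bot k).mpr (eq_zero_of_pow_eq_zero h2)
  · intro h
    let f : Polynomial k := (Polynomial.X : Polynomial k) ^ p
    let z : AdjoinRoot f ⊗[k] k := AdjoinRoot.root f ⊗ₜ[k] (1 : k)
    have hz : z ∈ PolLaw.kerBC (PolLaw.MulLaw.pow k k p).law (AdjoinRoot f) := by
      intro R _ _ _ _ x w
      show (x + w * Algebra.TensorProduct.map (IsScalarTower.toAlgHom k (AdjoinRoot f) R)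
        (AlgHom.id k k) z) ^ p = x ^ p
      obtain ⟨r, hr⟩ := exists_add_pow_prime_eq (Fact.out : p.Prime) x
        (w * Algebra.TensorProduct.map (IsScalarTower.toAlgHom k (AdjoinRoot f) R) (AlgHom.id k k) z)
      have h0 : AdjoinRoot.root f ^ p = 0 := by
        have := AdjoinRoot.eval₂_root f
        simpa [f] using this
      have hp0 : (p : R ⊗[k] k) = 0 := by
        rw [← map_natCast (algebraMap k (R ⊗[k] k)), CharP.cast_eq_zero, map_zero]
      have hz0 : z ^ p = 0 := by
        show (AdjoinRoot.root f ⊗ₜ[k] (1 : k)) ^ p = 0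
        rw [Algebra.TensorProduct.tmul_pow, h0, TensorProduct.zero_tmul]
      rw [hr, mul_pow, ← map_pow, hz0, map_zero, mul_zero, hp0]
      simp
    rw [h, Submodule.mem_bot] at hz
    have h2 := congrArg (Algebra.TensorProduct.rid k k (AdjoinRoot f)) hz
    rw [Algebra.TensorProduct.rid_tmul, one_smul, map_zero] at h2
    refine AdjoinRoot.mk_ne_zero_of_natDegree_lt (Polynomial.monic_X_pow p) Polynomial.X_ne_zero ?_ h2
    simp [(Fact.out : p.Prime).one_lt]


end Groth.Agent.S13725
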