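import Groth.Statements.S13726
import Mathlib.RingTheory.MvPolynomial.Ideal
import Mathlib.RingTheory.Ideal.Maps
import Mathlib.Algebra.DualNumber
import Mathlib.RingTheory.Finiteness.Defs
import Mathlib.Algebra.CharP.Lemmas
import Mathlib.Algebra.CharP.Algebra
import Mathlib.RingTheory.TensorProduct.Basic

set_option autoImplicit false
universe u
open scoped TensorProduct
open ZeroCyc

namespace Groth.Agent.S13726

/-- Let k be a field of characteristic p > 0 and A = k[t_i : i ∈ ℕ]/(t_i^p : i ∈ ℕ). The law x ↦ x^p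
from A to A is multiplicative and homogeneous of degree p over A; its kernel is the ideal generated
by the classes of the variables t_i, and this ideal is not finitely generated. Hence the image of a
family of zero-cycles need not be of finite presentation over the base even when X → S is. -/
theorem result {k : Type u} [Field k] (p : ℕ) [Fact p.Prime] [CharP k p] :
    PolLaw.ker (PolLaw.MulLaw.pow
        (MvPolynomial ℕ k ⧸ Ideal.span (Set.range fun i : ℕ => (MvPolynomial.X i : MvPolynomial ℕ k) ^ p))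
        (MvPolynomial ℕ k ⧸ Ideal.span (Set.range fun i : ℕ => (MvPolynomial.X i : MvPolynomial ℕ k) ^ p)) p).law =
      (Ideal.span (Set.range fun i : ℕ => (MvPolynomial.X i : MvPolynomial ℕ k))).map
        (Ideal.Quotient.mk (Ideal.span (Set.range fun i : ℕ => (MvPolynomial.X i : MvPolynomial ℕ k) ^ p))) ∧
    ¬ (PolLaw.ker (PolLaw.MulLaw.pow
        (MvPolynomial ℕ k ⧸ Ideal.span (Set.range fun i : ℕ => (MvPolynomial.X i : MvPolynomial ℕ k) ^ p))
        (MvPolynomial ℕ k ⧸ Ideal.span (Set.range fun i : ℕ => (MvPolynomial.X i : MvPolynomial ℕ k) ^ p)) p).law).FG := by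
  classical
  set J := Ideal.span (Set.range fun i : ℕ => (MvPolynomial.X i : MvPolynomial ℕ k) ^ p) with hJ
  have hp2 : 2 ≤ p := (Fact.out : p.Prime).two_le
  have hp0 : (p : MvPolynomial ℕ k ⧸ J) = 0 := by
    rw [← map_natCast (algebraMap k (MvPolynomial ℕ k ⧸ J)) p, CharP.cast_eq_zero, map_zero]
  have hker : ∀ b : MvPolynomial ℕ k ⧸ J,
      b ∈ PolLaw.ker (PolLaw.MulLaw.pow (MvPolynomial ℕ k ⧸ J) (MvPolynomial ℕ k ⧸ J) p).law ↔ b ^ p = 0 := by
    intro b
    constructor
    · intro h
      have h1 := h (MvPolynomial ℕ k ⧸ J) 0 1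
      simp only [zero_add, one_mul] at h1
      replace h1 := congrArg (Algebra.TensorProduct.lid (MvPolynomial ℕ k ⧸ J) (MvPolynomial ℕ k ⧸ J)) h1
      have h2 : ∀ z : (MvPolynomial ℕ k ⧸ J) ⊗[MvPolynomial ℕ k ⧸ J] (MvPolynomial ℕ k ⧸ J),
          (PolLaw.MulLaw.pow (MvPolynomial ℕ k ⧸ J) (MvPolynomial ℕ k ⧸ J) p).law.toFun' (MvPolynomial ℕ k ⧸ J) z =
            z ^ p := fun z => rfl
      rw [h2, h2, map_pow, map_pow, Algebra.TensorProduct.lid_tmul, one_smul] at h1
      simpa [zero_pow (show p ≠ 0 by omega)] using h1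
    · intro h S _ _ x w
      change (x + w * (1 ⊗ₜ[MvPolynomial ℕ k ⧸ J] b)) ^ p = x ^ p
      obtain ⟨r, hr⟩ := exists_add_pow_prime_eq (Fact.out : p.Prime) x (w * (1 ⊗ₜ[MvPolynomial ℕ k ⧸ J] b))
      rw [hr, mul_pow, Algebra.TensorProduct.tmul_pow, h, TensorProduct.tmul_zero, mul_zero, add_zero]
      rw [← map_natCast (algebraMap (MvPolynomial ℕ k ⧸ J) (S ⊗[MvPolynomial ℕ k ⧸ J] (MvPolynomial ℕ k ⧸ J))) p,
        hp0, map_zero]
      simp
  have hmem : ∀ b : MvPolynomial ℕ k ⧸ J, b ^ p = 0 ↔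
      b ∈ (Ideal.span (Set.range fun i : ℕ => (MvPolynomial.X i : MvPolynomial ℕ k))).map (Ideal.Quotient.mk J) := by
    intro b
    constructor
    · intro hb
      obtain ⟨P, rfl⟩ := Ideal.Quotient.mk_surjective b
      refine Ideal.mem_map_of_mem _ ?_
      rw [← map_pow, Ideal.Quotient.eq_zero_iff_mem] at hb
      have hle : J ≤ RingHom.ker (MvPolynomial.constantCoeff : MvPolynomial ℕ k →+* k) := by
        rw [hJ, Ideal.span_le]
        rintro _ ⟨i, rfl⟩
        simp [zero_pow (show p ≠ 0 by omega)]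
      have h0 : P.constantCoeff = 0 := by
        have := hle hb
        rw [RingHom.mem_ker, map_pow] at this
        exact eq_zero_of_pow_eq_zero this
      rw [show (Set.range fun i : ℕ => (MvPolynomial.X i : MvPolynomial ℕ k)) = MvPolynomial.X '' Set.univ by simp,
        MvPolynomial.mem_ideal_span_X_image]
      intro d hd
      obtain ⟨i, hi⟩ : ∃ i, d i ≠ 0 := by
        by_contra hne
        push Not at hne
        rw [show d = 0 from Finsupp.ext hne, MvPolynomial.mem_support_iff, ← MvPolynomial.constantCoeff_eq] at hd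
        exact hd h0
      exact ⟨i, trivial, hi⟩
    · intro hb
      haveI : Nontrivial (MvPolynomial ℕ k ⧸ J) := by
        refine Ideal.Quotient.nontrivial_iff.2 fun htop => ?_
        have hle : J ≤ RingHom.ker (MvPolynomial.constantCoeff : MvPolynomial ℕ k →+* k) := by
          rw [hJ, Ideal.span_le]
          rintro _ ⟨i, rfl⟩
          simp [zero_pow (show p ≠ 0 by omega)]
        have := hle (htop ▸ Submodule.mem_top (x := (1 : MvPolynomial ℕ k)))
        simp at this
      haveI : CharP (MvPolynomial ℕ k ⧸ J) p := charP_of_injective_algebraMap (algebraMap k _).injective p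
      rw [Ideal.map_span, ← Set.range_comp] at hb
      induction hb using Submodule.span_induction with
      | mem x hx =>
        obtain ⟨i, rfl⟩ := hx
        rw [Function.comp_apply, ← map_pow, Ideal.Quotient.eq_zero_iff_mem]
        exact Ideal.subset_span ⟨i, rfl⟩
      | zero => exact zero_pow (by omega)
      | add x y _ _ hx hy => rw [add_pow_char, hx, hy, add_zero]
      | smul c x _ hx => rw [smul_eq_mul, mul_pow, hx, mul_zero]
  have heq : PolLaw.ker (PolLaw.MulLaw.pow (MvPolynomial ℕ k ⧸ J) (MvPolynomial ℕ k ⧸ J) p).law =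
      (Ideal.span (Set.range fun i : ℕ => (MvPolynomial.X i : MvPolynomial ℕ k))).map (Ideal.Quotient.mk J) :=
    Ideal.ext fun b => (hker b).trans (hmem b)
  refine ⟨heq, ?_⟩
  rw [heq, Ideal.map_span, ← Set.range_comp]
  intro hfg
  obtain ⟨s, hs, hseq⟩ := (Submodule.fg_span_iff_fg_span_finset_subset _).1 hfg
  choose idx hidx using fun x : (s : Set (MvPolynomial ℕ k ⧸ J)) => hs x.2
  obtain ⟨N, hN⟩ := (Finset.univ.image idx).bddAbove
  let φ₀ : MvPolynomial ℕ k →ₐ[k] DualNumber k := MvPolynomial.aeval fun i => if i = N + 1 then DualNumber.eps else 0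
  have hφ : ∀ a ∈ J, φ₀ a = 0 := by
    intro a ha
    have : J ≤ RingHom.ker φ₀ := by
      rw [hJ, Ideal.span_le]
      rintro _ ⟨i, rfl⟩
      simp only [SetLike.mem_coe, RingHom.mem_ker, map_pow, φ₀, MvPolynomial.aeval_X]
      split_ifs
      · rw [show p = 2 + (p - 2) by omega, pow_add, pow_two, DualNumber.eps_mul_eps, zero_mul]
      · exact zero_pow (by omega)
    exact this ha
  let φ : MvPolynomial ℕ k ⧸ J →+* DualNumber k := Ideal.Quotient.lift J φ₀.toRingHom hφ
  have hle : Ideal.span (s : Set (MvPolynomial ℕ k ⧸ J)) ≤ RingHom.ker φ := by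
    rw [Ideal.span_le]
    intro x hx
    rw [SetLike.mem_coe, RingHom.mem_ker, ← show _ = x from hidx ⟨x, hx⟩]
    change φ₀ (MvPolynomial.X (idx ⟨x, hx⟩)) = 0
    have : idx ⟨x, hx⟩ ≤ N := hN (by simp)
    simp [φ₀, show idx ⟨x, hx⟩ ≠ N + 1 by omega]
  have : Ideal.Quotient.mk J (MvPolynomial.X (N + 1)) ∈ Ideal.span (s : Set (MvPolynomial ℕ k ⧸ J)) := by
    have h1 : Ideal.Quotient.mk J (MvPolynomial.X (N + 1)) ∈
        Ideal.span (Set.range (⇑(Ideal.Quotient.mk J) ∘ fun i : ℕ => (MvPolynomial.X i : MvPolynomial ℕ k))) :=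
      Ideal.subset_span ⟨N + 1, rfl⟩
    exact le_of_eq hseq h1
  have h2 := hle this
  rw [RingHom.mem_ker] at h2
  change φ₀ (MvPolynomial.X (N + 1)) = 0 at h2
  simp [φ₀] at h2
  exact one_ne_zero (congrArg TrivSqZeroExt.snd h2)

end Groth.Agent.S13726
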