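
import Groth.Statements.S13727
import Groth.Agent.L22.Gamma.Idem

set_option autoImplicit false
universe u
open scoped TensorProduct
open ZeroCyc

namespace Groth.Agent.S13727

/-- Let A be a commutative ring whose prime spectrum is connected, B a commutative A-algebra and F : B →
A a multiplicative polynomial law homogeneous of degree d. Then Spec(B/ker F), the support of the
family of zero-cycles of degree d defined by F, has at most d connected components (in particular
finitely many). -/
theorem result {A : Type u} [CommRing A] [ConnectedSpace (PrimeSpectrum A)]
    {B : Type u} [CommRing B] [Algebra A B] {d : ℕ} (F : PolLaw.MulLaw A B A d) :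
    Finite (ConnectedComponents (PrimeSpectrum (PolLaw.image F.law))) ∧
      Nat.card (ConnectedComponents (PrimeSpectrum (PolLaw.image F.law))) ≤ d := by
  exact Groth.L22.Gamma.connectedComponents_image F

end Groth.Agent.S13727
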