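import Groth.Statements.S13730
import Groth.Agent.L22.Gamma.Universal
import Mathlib.LinearAlgebra.PiTensorProduct.Basic
import Mathlib.RingTheory.TensorProduct.Free
import Mathlib.RingTheory.TensorProduct.Maps
import Mathlib.RingTheory.Nilpotent.Lemmas
import Mathlib.LinearAlgebra.TensorProduct.RightExactness

set_option autoImplicit false
universe u
open scoped TensorProduct
open ZeroCyc
open Groth.L22.Gamma

namespace Groth.Agent.S13730

/-- universally reduced ⊗ reduced is reduced -/
theorem isReduced_tensor {K R S : Type u} [Field K] [CommRing R] [Algebra K R] [CommRing S]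
    [Algebra K S] [IsReduced S]
    (h : ∀ (L : Type u) [Field L] [Algebra K L], IsReduced (L ⊗[K] R)) :
    IsReduced (S ⊗[K] R) := by
  refine ⟨fun z hz => ?_⟩
  let e := Module.Free.chooseBasis K R
  apply (Algebra.TensorProduct.basis S e).repr.injective
  rw [map_zero]
  ext i
  refine IsReduced.eq_zero _ ?_
  rw [← mem_nilradical, nilradical, Ideal.radical_eq_sInf, Submodule.mem_sInf]
  rintro (p : Ideal S) ⟨-, hp⟩
  haveI := hp
  let L := FractionRing (S ⧸ p)
  let φ : S →ₐ[K] L := (IsScalarTower.toAlgHom K (S ⧸ p) L).comp (Ideal.Quotient.mkₐ K p)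
  have hnat : ∀ w : S ⊗[K] R, (Algebra.TensorProduct.basis L e).repr
      (Algebra.TensorProduct.map φ (AlgHom.id K R) w) i =
        φ ((Algebra.TensorProduct.basis S e).repr w i) := by
    intro w
    induction w using TensorProduct.induction_on with
    | zero => simp
    | tmul s r =>
      rw [Algebra.TensorProduct.map_tmul, AlgHom.id_apply, Algebra.TensorProduct.basis_repr_tmul,
        Algebra.TensorProduct.basis_repr_tmul]
      simp
    | add x y hx hy => simp only [map_add, Finsupp.add_apply, hx, hy]
  haveI := h L
  have h0 := IsReduced.eq_zero _ (hz.map (Algebra.TensorProduct.map φ (AlgHom.id K R)))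
  have h1 := hnat z
  rw [h0, map_zero, Finsupp.zero_apply] at h1
  have h2 : algebraMap (S ⧸ p) L (Ideal.Quotient.mk p ((Algebra.TensorProduct.basis S e).repr z i)) = 0 :=
    h1.symm
  rw [IsFractionRing.to_map_eq_zero_iff] at h2
  exact Ideal.Quotient.eq_zero_iff_mem.mp h2

variable {A B : Type u} [CommRing A] [CommRing B] [Algebra A B]

/-- splitting off the first factor -/
noncomputable def split (n : ℕ) : (⨂[A] _ : Fin (n + 1), B) →ₐ[A] B ⊗[A] (⨂[A] _ : Fin n, B) :=
  PiTensorProduct.liftAlgHom
    { toFun := fun v => v 0 ⊗ₜ[A] PiTensorProduct.tprod A (fun i : Fin n => v i.succ)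
      map_update_add' := fun v j a b => by
        refine Fin.cases ?_ ?_ j
        · simp [TensorProduct.add_tmul, Function.update_self, Fin.succ_ne_zero]
        · intro j
          have : ∀ c, (fun i : Fin n => Function.update v j.succ c i.succ) =
              Function.update (fun i : Fin n => v i.succ) j c := fun c => by
            funext i
            rcases eq_or_ne i j with rfl | h
            · simp
            · simp [Function.update_of_ne h, Function.update_of_ne (fun e : i.succ = j.succ => h (Fin.succ_injective _ e))]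
          simp only [this, MultilinearMap.map_update_add,
            Function.update_of_ne (Fin.succ_ne_zero j).symm, TensorProduct.tmul_add]
      map_update_smul' := fun v j a b => by
        refine Fin.cases ?_ ?_ j
        · simp [TensorProduct.smul_tmul', Function.update_self, Fin.succ_ne_zero]
        · intro j
          have : ∀ c, (fun i : Fin n => Function.update v j.succ c i.succ) =
              Function.update (fun i : Fin n => v i.succ) j c := fun c => by
            funext i
            rcases eq_or_ne i j with rfl | h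
            · simp
            · simp [Function.update_of_ne h, Function.update_of_ne (fun e : i.succ = j.succ => h (Fin.succ_injective _ e))]
          simp only [this, MultilinearMap.map_update_smul,
            Function.update_of_ne (Fin.succ_ne_zero j).symm, TensorProduct.tmul_smul] }
    (by simp [PiTensorProduct.one_def, Algebra.TensorProduct.one_def]; rfl)
    (fun x y => by
      simp only [MultilinearMap.coe_mk, Pi.mul_apply, Algebra.TensorProduct.tmul_mul_tmul,
        PiTensorProduct.tprod_mul_tprod]
      rfl)

theorem split_injective (n : ℕ) : Function.Injective (split (A := A) (B := B) n) := by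
  let back : B ⊗[A] (⨂[A] _ : Fin n, B) →ₗ[A] (⨂[A] _ : Fin (n + 1), B) :=
    TensorProduct.lift
      { toFun := fun b => PiTensorProduct.lift
          ((PiTensorProduct.tprod A : MultilinearMap A (fun _ : Fin (n + 1) => B) _).curryLeft b)
        map_add' := fun b c => by rw [map_add, map_add]
        map_smul' := fun a b => by rw [map_smul, map_smul]; rfl }
  have : ∀ t, back (split (A := A) (B := B) n t) = t := by
    intro t
    induction t using PiTensorProduct.induction_on with
    | smul_tprod r v =>
      rw [map_smul, map_smul]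
      congr 1
      rw [split, PiTensorProduct.liftAlgHom_apply, PiTensorProduct.lift.tprod]
      simp only [back, MultilinearMap.coe_mk, TensorProduct.lift.tmul, LinearMap.coe_mk,
        AddHom.coe_mk, PiTensorProduct.lift.tprod, MultilinearMap.curryLeft_apply]
      congr 1
      exact Fin.cons_self_tail v
    | add x y hx hy => simp only [map_add, hx, hy]
  exact Function.LeftInverse.injective this

theorem split_bijective (n : ℕ) : Function.Bijective (split (A := A) (B := B) n) := by
  refine ⟨split_injective n, ?_⟩
  rw [← AlgHom.range_eq_top, eq_top_iff]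
  rintro z -
  induction z using TensorProduct.induction_on with
  | zero => exact zero_mem _
  | add x y hx hy => exact add_mem hx hy
  | tmul b t =>
    induction t using PiTensorProduct.induction_on with
    | smul_tprod r v =>
      rw [TensorProduct.tmul_smul]
      refine Subalgebra.smul_mem _ ?_ r
      refine ⟨PiTensorProduct.tprod A (Fin.cons b v), ?_⟩
      simp [split]
    | add x y hx hy => rw [TensorProduct.tmul_add]; exact add_mem hx hy

theorem isReduced_TP (K : Type u) [Field K] [Algebra A K]
    (hred : ∀ (L : Type u) [Field L] [Algebra A L], IsReduced (L ⊗[A] B)) (n : ℕ) :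
    IsReduced (K ⊗[A] (⨂[A] _ : Fin n, B)) := by
  induction n with
  | zero =>
    let e : (⨂[A] _ : Fin 0, B) ≃ₗ[A] A := PiTensorProduct.isEmptyEquiv (Fin 0)
    have hbij : Function.Bijective (Algebra.ofId A (⨂[A] _ : Fin 0, B)) := by
      have h : ∀ a : A, Algebra.ofId A (⨂[A] _ : Fin 0, B) a = e.symm a := fun a => by
        rw [Algebra.ofId_apply, Algebra.algebraMap_eq_smul_one, PiTensorProduct.isEmptyEquiv_symm_apply,
          PiTensorProduct.one_def]
        congr 2
        exact Subsingleton.elim _ _
      rw [funext h]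
      exact e.symm.bijective
    exact isReduced_of_injective
      ((Algebra.TensorProduct.congr (AlgEquiv.refl (R := A) (A₁ := K))
        (AlgEquiv.ofBijective _ hbij)).symm.trans (Algebra.TensorProduct.rid A A K))
      (AlgEquiv.injective _)
  | succ n ih =>
    haveI := ih
    have hR : ∀ (L : Type u) [Field L] [Algebra K L], IsReduced (L ⊗[K] (K ⊗[A] B)) := by
      intro L _ _
      letI : Algebra A L := Algebra.compHom L (algebraMap A K)
      haveI : IsScalarTower A K L := IsScalarTower.of_algebraMap_eq fun _ => rfl
      haveI := hred L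
      exact isReduced_of_injective (Algebra.TensorProduct.cancelBaseChange A K K L B)
        (AlgEquiv.injective _)
    haveI : IsReduced ((K ⊗[A] (⨂[A] _ : Fin n, B)) ⊗[K] (K ⊗[A] B)) := isReduced_tensor hR
    let e1 : K ⊗[A] (⨂[A] _ : Fin (n + 1), B) ≃ₐ[A] K ⊗[A] (B ⊗[A] (⨂[A] _ : Fin n, B)) :=
      Algebra.TensorProduct.congr AlgEquiv.refl (AlgEquiv.ofBijective _ (split_bijective n))
    let e2 : K ⊗[A] (B ⊗[A] (⨂[A] _ : Fin n, B)) ≃ₐ[A] K ⊗[A] ((⨂[A] _ : Fin n, B) ⊗[A] B) :=
      Algebra.TensorProduct.congr AlgEquiv.refl (Algebra.TensorProduct.comm A _ _)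
    let e3 : K ⊗[A] ((⨂[A] _ : Fin n, B) ⊗[A] B) ≃ₐ[A] (K ⊗[A] (⨂[A] _ : Fin n, B)) ⊗[A] B :=
      (Algebra.TensorProduct.assoc A A A K (⨂[A] _ : Fin n, B) B).symm
    let e4 := (Algebra.TensorProduct.cancelBaseChange A K K (K ⊗[A] (⨂[A] _ : Fin n, B)) B).symm
    exact isReduced_of_injective (((e1.trans e2).trans e3).trans (e4.restrictScalars A))
      (AlgEquiv.injective _)

/-- for flat `B` the symmetric tensors are a pure submodule of all tensors -/
theorem lTensor_val_injective [Module.Flat A B] (K : Type u) [AddCommGroup K] [Module A K] (d : ℕ) :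
    Function.Injective ((SymTen.TS A B d).val.toLinearMap.lTensor K) := by
  classical
  rw [injective_iff_map_eq_zero]
  intro w hw
  let e := monBasis A B
  let π := presHom A B
  have hπ : Function.Surjective π := presHom_surjective
  obtain ⟨n, k, y, rfl⟩ := TensorProduct.exists_sum_tmul_eq w
  choose z hz using fun i => surjective_TSmap_of_flat (d := d) e hπ (y i)
  have hker : (tmapL d π.toLinearMap).lTensor K
      (∑ i, k i ⊗ₜ[A] (SymTen.TS A _ d).val (z i)) = 0 := by
    rw [← hw, map_sum, map_sum]
    refine Finset.sum_congr rfl fun i _ => ?_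
    rw [LinearMap.lTensor_tmul, LinearMap.lTensor_tmul, AlgHom.toLinearMap_apply, ← hz i, TSmap_val]
  have hsurj : Function.Surjective (tmapL d π.toLinearMap) := tmapL_surjective hπ
  have hexact := LinearMap.exact_subtype_ker_map (tmapL d π.toLinearMap)
  obtain ⟨q, hq⟩ := ((lTensor_exact (M := ↥(LinearMap.ker (tmapL d π.toLinearMap))) (N := TP A (MvPolynomial B A) d) (f := (LinearMap.ker (tmapL d π.toLinearMap)).subtype) (g := tmapL d π.toLinearMap) K hexact hsurj) _).1 hker
  obtain ⟨m, l, t, rfl⟩ := TensorProduct.exists_sum_tmul_eq q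
  obtain ⟨ι', F', _, _, e', g, π', hg, hgt⟩ := exists_free_killing e (π := π.toLinearMap) hπ
    (fun j => (t j : TP A _ d)) (fun j => LinearMap.mem_ker.mp (t j).2)
  -- in the free module
  have hF : ∑ i, k i ⊗ₜ[A] tmapL d g ((SymTen.TS A _ d).val (z i)) = 0 := by
    have := congrArg ((tmapL d g).lTensor K) hq
    simp only [map_sum, LinearMap.lTensor_tmul, Submodule.subtype_apply, hgt,
      TensorProduct.tmul_zero, Finset.sum_const_zero] at this
    exact this.symm
  -- retract to symmetric tensors and push to `B`
  let r : TP A F' d →ₗ[A] symT A F' d :=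
    (symLift d e' (sym A d e')).codRestrict (symT A F' d) fun t =>
      symLift_mem e' _ _ (fun ν => sym_mem _ ν) t
  let back : symT A F' d →ₗ[A] SymTen.TS A B d :=
    { toFun := fun s => ⟨tmapL d π' s.1, mem_TS_iff.mpr (tmapL_mem π' s.2)⟩
      map_add' := fun a b => Subtype.ext (map_add _ a.1 b.1)
      map_smul' := fun a b => Subtype.ext (map_smul _ a b.1) }
  have := congrArg ((back ∘ₗ r).lTensor K) hF
  rw [map_sum, map_zero] at this
  rw [← this]
  refine Finset.sum_congr rfl fun i _ => ?_
  rw [LinearMap.lTensor_tmul]
  congr 1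
  refine Subtype.ext ?_
  show (y i : ⨂[A] _ : Fin d, B) = tmapL d π' (symLift d e' (sym A d e') _)
  rw [symLift_self e' (t := tmapL d g ((SymTen.TS A _ d).val (z i)))
      (tmapL_mem g (mem_TS_iff.mp (z i).2)), ← LinearMap.comp_apply, ← tmapL_comp,
    hg, ← TSmap_val, hz]
  rfl

theorem result {A : Type u} [CommRing A] {B : Type u} [CommRing B] [Algebra A B] {C : Type u} [CommRing C] [Algebra A C]
    {d : ℕ} (γ : PolLaw.MulLaw A B C d) (hγ : PolLaw.IsGammaD γ) [Module.Flat A B]
    (hred : ∀ (K : Type u) [Field K] [Algebra A K], IsReduced (K ⊗[A] B)) :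
    ∀ (K : Type u) [Field K] [Algebra A K], IsReduced (K ⊗[A] C) := by
  intro K _ _
  obtain ⟨τ, -, hτ⟩ := exists_isGammaD_of_flat_or_isUnit (A := A) (B := B) d (Or.inl inferInstance)
  obtain ⟨f, hf, -⟩ := hγ _ τ
  obtain ⟨g, hg, -⟩ := hτ C γ
  have hgf : g.comp f = AlgHom.id A C := by
    refine (hγ C γ).unique ?_ ?_
    · show PolLaw.postcomp (g.toLinearMap ∘ₗ f.toLinearMap) γ.law = γ.law
      rw [← postcomp_postcomp, hf, hg]
    · ext S _ _ x
      show LinearMap.lTensor S LinearMap.id _ = _
      simp
  haveI := isReduced_TP (B := B) K hred d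
  have hinj : Function.Injective ((SymTen.TS A B d).val.toLinearMap.lTensor K ∘ₗ f.toLinearMap.lTensor K) := by
    refine (lTensor_val_injective K d).comp (Function.LeftInverse.injective (g := g.toLinearMap.lTensor K) ?_)
    intro x
    rw [← LinearMap.comp_apply, ← LinearMap.lTensor_comp]
    have : g.toLinearMap ∘ₗ f.toLinearMap = LinearMap.id := congrArg AlgHom.toLinearMap hgf
    rw [this, LinearMap.lTensor_id, LinearMap.id_apply]
  let φ : K ⊗[A] C →ₐ[A] K ⊗[A] (⨂[A] _ : Fin d, B) :=
    Algebra.TensorProduct.map (AlgHom.id A K) ((SymTen.TS A B d).val.comp f)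
  refine isReduced_of_injective φ ?_
  have he : ⇑φ = ⇑((SymTen.TS A B d).val.toLinearMap.lTensor K ∘ₗ f.toLinearMap.lTensor K) := by
    funext x
    rw [← LinearMap.lTensor_comp]
    induction x using TensorProduct.induction_on with
    | zero => simp
    | tmul s c => rfl
    | add x y hx hy => rw [map_add, map_add, hx, hy]
  rw [he]
  exact hinj

end Groth.Agent.S13730
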