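import Groth.Statements.S13732
import Groth.Agent.S14770
import Groth.Agent.L20.QfRefine.Fppf
-- import your own Groth.Agent.* helpers here

set_option autoImplicit false
universe u
open HTop

set_option backward.isDefEq.respectTransparency.types false
set_option linter.style.haveILetI false

namespace Groth.Agent.S13732

open CategoryTheory CategoryTheory.Limits AlgebraicGeometry in
/-- Let Y be a separated Noetherian scheme and {p_j : Y_j → Y} a finite family of separated quasi-finite
morphisms of finite type whose induced morphism from the disjoint union of the Y_j to Y is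
universally submersive (a qfh-covering). Then there are a finite surjective morphism p : Y' → Y and
finitely many open subschemes V_1, …, V_n covering Y' such that every composite V_i → Y' → Y factors
through some member of the family. -/
theorem result {Y : Scheme.{u}} [IsNoetherian Y] [Y.IsSeparated] (E : PreZeroHypercover.{u} Y) [Finite E.I₀] [∀ j, LocallyOfFiniteType (E.f j)] [∀ j, QuasiCompact (E.f j)] [∀ j, LocallyQuasiFinite (E.f j)] [∀ j, IsSeparated (E.f j)] (hE : SGA1.UnivSubmersive (Sigma.desc E.f)) : ∃ (Y' : Scheme.{u}) (p : Y' ⟶ Y) (n : ℕ) (V : Fin n → Y'.Opens), IsFinite p ∧ Surjective p ∧ ⨆ i, V i = ⊤ ∧ ∀ i, ∃ (j : E.I₀) (h : (↑(V i) : Scheme.{u}) ⟶ E.X j), h ≫ E.f j = (V i).ι ≫ p := by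
  classical
  let g : (∐ E.X) ⟶ Y := Sigma.desc E.f
  haveI : LocallyOfFinitePresentation g :=
    IsZariskiLocalAtSource.sigmaDesc (P := @LocallyOfFinitePresentation) fun j => inferInstance
  haveI : LocallyQuasiFinite g :=
    IsZariskiLocalAtSource.sigmaDesc (P := @LocallyQuasiFinite) fun j => inferInstance
  haveI : ∀ j, CompactSpace (E.X j) := fun j => QuasiCompact.compactSpace_of_compactSpace (E.f j)
  haveI : CompactSpace ↥(∐ E.X) := (sigmaMk E.X).compactSpace
  haveI : QuasiCompact g := inferInstance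
  have hsub : Subtr.UnivSSubtrusive g := (Groth.Agent.S14770.result g).mp hE
  obtain ⟨X', Y', h, p, q, hpq, hp, -, -, hloc, hq, hqs, -⟩ :=
    Groth.L20.QfRefine.exists_refinement g (Groth.L20.IntCover.π Y)
      (Groth.L20.IntCover.exists_section_subtr g hsub)
  have key : ∀ y : Y', ∃ (W : Y'.Opens) (j : E.I₀) (r : ↑W ⟶ E.X j), IsAffineOpen W ∧ y ∈ W ∧
      r ≫ E.f j = W.ι ≫ q := fun y => by
    obtain ⟨x, rfl⟩ := p.surjective y
    obtain ⟨U, hxU, hU⟩ := hloc x
    let i := U.ι ≫ p
    refine Groth.L20.QfRefine.exists_component E.f q (V := i.opensRange)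
      (i.isoOpensRange.inv ≫ U.ι ≫ h) ?_ ⟨⟨x, hxU⟩, rfl⟩
    rw [← cancel_epi i.isoOpensRange.hom]
    simp only [Category.assoc, Iso.hom_inv_id_assoc, Scheme.Hom.isoOpensRange_hom_ι_assoc, i]
    exact congrArg (U.ι ≫ ·) hpq
  choose W j r hW hyW hr using key
  haveI : CompactSpace Y' := QuasiCompact.compactSpace_of_compactSpace q
  obtain ⟨s, hs⟩ := isCompact_univ.elim_finite_subcover (fun y => (W y : Set Y')) (fun y => (W y).2)
    (fun y _ => Set.mem_iUnion.mpr ⟨y, hyW y⟩)
  refine ⟨Y', q, s.card, fun a => W (s.equivFin.symm a).1, hq, hqs, top_le_iff.mp fun y _ => ?_,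
    fun a => ⟨_, r _, hr _⟩⟩
  obtain ⟨z, hz, hyz⟩ := Set.mem_iUnion₂.mp (hs (Set.mem_univ y))
  refine TopologicalSpace.Opens.mem_iSup.mpr ⟨s.equivFin ⟨z, hz⟩, ?_⟩
  show y ∈ W (s.equivFin.symm (s.equivFin ⟨z, hz⟩)).1
  rw [show (s.equivFin.symm (s.equivFin ⟨z, hz⟩)).1 = z by rw [Equiv.symm_apply_apply]]
  exact hyz

end Groth.Agent.S13732
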