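import Groth.Statements.S13733
import Groth.Agent.L20.BlowFlat.Subtrusive
import Groth.Agent.L20.RedGeneric
import Groth.Agent.L05.SmoothCrit.LocalModelScheme
import Groth.Agent.L13.Nagata.StrictIso
import Groth.Agent.L06.QfhUnibranch
import Groth.Agent.S13732
import Groth.Agent.S14770
import Groth.Agent.S2735

set_option autoImplicit false
universe u
open HTop

set_option backward.isDefEq.respectTransparency.types false
set_option linter.style.haveILetI false
namespace Groth.Agent.S13733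

open CategoryTheory CategoryTheory.Limits AlgebraicGeometry in
/-- Let Y be a separated Noetherian scheme and {p_j : Y_j → Y} a finite family of separated morphisms of
finite type whose induced morphism from the disjoint union of the Y_j to Y is universally submersive
(an h-covering). Then there are: a reduced scheme Y_red with a surjective closed immersion ι : Y_red
→ Y, a surjective blow-up b : Y'' → Y_red of Y_red in some quasi-coherent sheaf of ideals (b has the
universal property of the blowing up), a finite surjective morphism q : Y' → Y'', and finitely many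
open subschemes V_1, …, V_n covering Y', such that the composite p = q ≫ b ≫ ι is proper and
surjective and every composite V_i → Y' → Y factors through some member of the family. -/
theorem result {Y : Scheme.{u}} [IsNoetherian Y] [Y.IsSeparated] (E : PreZeroHypercover.{u} Y) [Finite E.I₀] [∀ j, LocallyOfFiniteType (E.f j)] [∀ j, QuasiCompact (E.f j)] [∀ j, IsSeparated (E.f j)] (hE : SGA1.UnivSubmersive (Sigma.desc E.f)) : ∃ (Yr Y'' Y' : Scheme.{u}) (ι : Yr ⟶ Y) (𝓘 : Yr.IdealSheafData) (b : Y'' ⟶ Yr) (q : Y' ⟶ Y'') (n : ℕ) (V : Fin n → Y'.Opens), IsClosedImmersion ι ∧ Surjective ι ∧ IsReduced Yr ∧ BlowUp.IsBlowUp b 𝓘 ∧ Surjective b ∧ IsFinite q ∧ Surjective q ∧ IsProper (q ≫ b ≫ ι) ∧ Surjective (q ≫ b ≫ ι) ∧ ⨆ i, V i = ⊤ ∧ ∀ i, ∃ (j : E.I₀) (h : (↑(V i) : Scheme.{u}) ⟶ E.X j), h ≫ E.f j = (V i).ι ≫ q ≫ b ≫ ι := by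
  haveI := fun j => (‹∀ j, LocallyOfFiniteType (E.f j)› j)
  haveI : Finite E.I₀ := ‹_›
  let ι := Y.nilradical.subschemeι
  haveI : IsReduced Y.nilradical.subscheme := Groth.L20.RedGeneric.isReduced_nilradical_subscheme Y
  haveI hιs : Surjective ι := ⟨fun y => by
    have h1 : y ∈ Set.range Y.nilradical.subschemeι := by
      rw [Scheme.IdealSheafData.range_subschemeι, Scheme.support_nilradical]; trivial
    exact h1⟩
  haveI : IsLocallyNoetherian Y.nilradical.subscheme := LocallyOfFiniteType.isLocallyNoetherian ι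
  haveI : CompactSpace Y.nilradical.subscheme := QuasiCompact.compactSpace_of_compactSpace ι
  haveI : IsNoetherian Y.nilradical.subscheme := {}
  haveI : Y.nilradical.subscheme.IsSeparated :=
    ⟨by rw [← terminal.comp_from ι]; infer_instance⟩
  haveI : LocallyOfFiniteType (Sigma.desc E.f) := IsZariskiLocalAtSource.sigmaDesc fun j => inferInstance
  haveI : ∀ j, CompactSpace (E.X j) := fun j => QuasiCompact.compactSpace_of_compactSpace (E.f j)
  haveI : CompactSpace ↥(∐ E.X) := (AlgebraicGeometry.sigmaMk E.X).compactSpace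
  haveI : QuasiCompact (Sigma.desc E.f) := quasiCompact_of_compactSpace _
  let D := pullback (Sigma.desc E.f) ι
  let a : D ⟶ ∐ E.X := pullback.fst (Sigma.desc E.f) ι
  let f : D ⟶ Y.nilradical.subscheme := pullback.snd (Sigma.desc E.f) ι
  haveI : LocallyOfFinitePresentation f := Groth.L05.SmoothCrit.lfp_of_noetherian f
  haveI : IsLocallyNoetherian D := LocallyOfFiniteType.isLocallyNoetherian f
  haveI : QuasiSeparated f := inferInstance
  haveI : (SGA1.UnivSubmersive.{u}).IsStableUnderBaseChange :=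
    inferInstanceAs (MorphismProperty.universally _).IsStableUnderBaseChange
  have hsub : SGA1.UnivSubmersive f :=
    MorphismProperty.of_isPullback (P := SGA1.UnivSubmersive) (IsPullback.of_hasPullback (Sigma.desc E.f) ι) hE
  have hgen : IsCompact {y : Y.nilradical.subscheme | ∀ y', y' ⤳ y → y' = y} :=
    TopologicalSpace.NoetherianSpace.isCompact _
  obtain ⟨U, 𝓘, Y'', b, -, -, hb, hadm, hbs, hstr⟩ := Groth.L20.BlowFlat.exists_flattening_subtrusive hgen f
    ((Groth.Agent.S14770.result f).1 hsub)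
  haveI := Groth.L13.BU.isProper_blowUp hb hadm.1
  haveI := hbs
  haveI : IsLocallyNoetherian Y'' := LocallyOfFiniteType.isLocallyNoetherian b
  haveI : CompactSpace Y'' := QuasiCompact.compactSpace_of_compactSpace b
  haveI : IsNoetherian Y'' := {}
  haveI : Y''.IsSeparated := ⟨by rw [← terminal.comp_from b]; infer_instance⟩
  let X' := pullback f b
  let p₁ : X' ⟶ D := pullback.fst f b
  let p₂ : X' ⟶ Y'' := pullback.snd f b
  haveI : IsLocallyNoetherian X' := LocallyOfFiniteType.isLocallyNoetherian p₂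
  haveI : CompactSpace X' := QuasiCompact.compactSpace_of_compactSpace p₂
  haveI : IsNoetherian X' := {}
  let Oc : X'.Opens := ((𝓘.comap f).comap p₁).support.compl
  haveI : CompactSpace Oc := isCompact_iff_compactSpace.1 (TopologicalSpace.NoetherianSpace.isCompact _)
  haveI : QuasiCompact Oc.ι := quasiCompact_of_compactSpace _
  let 𝒥 : X'.IdealSheafData := Oc.ι.ker
  have h𝒥 : ∀ (V : X'.affineOpens) (a : Γ(X', V.1)), a ∈ 𝒥.ideal V ↔
      BlowUp.KilledByPowerNear ((𝓘.comap f).comap p₁) (Coh.structureModule X') V a := by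
    intro V a
    rw [show 𝒥.ideal V = RingHom.ker (Oc.ι.app V.1).hom from Scheme.Hom.ker_apply Oc.ι V, RingHom.mem_ker]
    refine Iff.trans ?_ (Groth.L13.Nagata.killed_iff_restrict_eq_zero ((𝓘.comap f).comap p₁)
      (Groth.L13.Nagata.isFiniteType_comap (Groth.L13.Nagata.isFiniteType_comap hadm.1 _) _) V
      (Oc.ι ''ᵁ Oc.ι ⁻¹ᵁ V.1) (Oc.ι.image_preimage_le V.1) (fun x hx => ?_) a).symm
    · rw [Scheme.Opens.ι_app]
      exact Iff.rfl
    · rw [Oc.ι.image_preimage_eq_opensRange_inf, Scheme.Opens.opensRange_ι]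
      exact ⟨fun h => h.1, fun h => ⟨h, hx⟩⟩
  obtain ⟨hfl, hsu, hfp, -, -⟩ := hstr X' p₁ p₂ (IsPullback.of_hasPullback f b) 𝒥 h𝒥
  obtain ⟨T, g, h, hgh, hgfl, hgfp, hgqf, hgs, hgaff⟩ := Groth.Agent.S2735.result (𝒥.subschemeι ≫ p₂)
  haveI : IsAffine T := hgaff inferInstance
  haveI : QuasiCompact g := quasiCompact_of_compactSpace g
  haveI : UniversallyOpen g := inferInstance
  haveI : IsSeparated g := inferInstance
  let E' : PreZeroHypercover.{u} Y'' := ⟨PUnit.{u + 1}, fun _ => T, fun _ => g⟩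
  haveI : Finite E'.I₀ := inferInstanceAs (Finite PUnit)
  haveI : ∀ i, LocallyOfFiniteType (E'.f i) := fun _ => (inferInstance : LocallyOfFiniteType g)
  haveI : ∀ i, QuasiCompact (E'.f i) := fun _ => ‹QuasiCompact g›
  haveI : ∀ i, LocallyQuasiFinite (E'.f i) := fun _ => ‹LocallyQuasiFinite g›
  haveI : ∀ i, IsSeparated (E'.f i) := fun _ => ‹IsSeparated g›
  have hE' : SGA1.UnivSubmersive (Sigma.desc E'.f) := by
    refine Groth.L06.QfhUnibranch.univSubmersive_of_comp (Sigma.ι (fun _ : PUnit.{u + 1} => T) PUnit.unit)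
      (Sigma.desc E'.f) ?_
    rw [Sigma.ι_desc]
    exact Groth.L06.QfhUnibranch.univSubmersive_of_open_surjective g
  obtain ⟨Y', q, n, V, hqf, hqs, hV, hfac⟩ := Groth.Agent.S13732.result E' hE'
  choose i₀ s hs using hfac
  haveI := hqf
  haveI := hqs
  let w : ∀ k, (V k : Scheme.{u}) ⟶ ∐ E.X := fun k => s k ≫ h ≫ 𝒥.subschemeι ≫ p₁ ≫ a
  have hw : ∀ k, w k ≫ Sigma.desc E.f = (V k).ι ≫ q ≫ b ≫ ι := fun k => by
    show (s k ≫ h ≫ 𝒥.subschemeι ≫ p₁ ≫ a) ≫ _ = _
    simp only [Category.assoc]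
    rw [show a ≫ Sigma.desc E.f = f ≫ ι from pullback.condition, ← Category.assoc p₁ f ι,
      show p₁ ≫ f = p₂ ≫ b from pullback.condition, Category.assoc]
    rw [← Category.assoc 𝒥.subschemeι p₂, ← Category.assoc h (𝒥.subschemeι ≫ p₂), hgh, ← Category.assoc (s k) g]
    rw [show s k ≫ g = (V k).ι ≫ q from hs k, Category.assoc]
  let eK : Fin n × E.I₀ ≃ Fin (Nat.card (Fin n × E.I₀)) := Finite.equivFin _
  let V' : Fin (Nat.card (Fin n × E.I₀)) → Y'.Opens :=
    fun m => (V (eK.symm m).1).ι ''ᵁ (w (eK.symm m).1 ⁻¹ᵁ (Sigma.ι E.X (eK.symm m).2).opensRange)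
  refine ⟨Y.nilradical.subscheme, Y'', Y', ι, 𝓘, b, q, _, V', inferInstance, hιs, inferInstance, hb, hbs,
    hqf, hqs, inferInstance, inferInstance, top_unique fun y _ => ?_, fun m => ⟨(eK.symm m).2, ?_⟩⟩
  · obtain ⟨k, hk⟩ := TopologicalSpace.Opens.mem_iSup.1 (hV.ge (Set.mem_univ y))
    obtain ⟨⟨j, z⟩, hz⟩ := (AlgebraicGeometry.sigmaMk E.X).surjective (w k ⟨y, hk⟩)
    rw [AlgebraicGeometry.sigmaMk_mk] at hz
    refine TopologicalSpace.Opens.mem_iSup.2 ⟨eK (k, j), ?_⟩
    show y ∈ (V (eK.symm (eK (k, j))).1).ι ''ᵁ (w (eK.symm (eK (k, j))).1 ⁻¹ᵁ (Sigma.ι E.X (eK.symm (eK (k, j))).2).opensRange)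
    rw [Equiv.symm_apply_apply]
    exact ⟨⟨y, hk⟩, ⟨z, hz⟩, rfl⟩
  · generalize hkj : eK.symm m = kj
    obtain ⟨k, j⟩ := kj
    have hVm : V' m = (V k).ι ''ᵁ (w k ⁻¹ᵁ (Sigma.ι E.X j).opensRange) := by
      show (V (eK.symm m).1).ι ''ᵁ _ = _
      rw [hkj]
    have h1 : Set.range (V' m).ι ⊆ Set.range (V k).ι := by
      rw [Scheme.Opens.range_ι, Scheme.Opens.range_ι, hVm]
      rintro _ ⟨y, -, rfl⟩
      exact y.2
    let l : (V' m : Scheme.{u}) ⟶ (V k : Scheme.{u}) := IsOpenImmersion.lift (V k).ι (V' m).ι h1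
    have hl : l ≫ (V k).ι = (V' m).ι := IsOpenImmersion.lift_fac _ _ _
    have h2 : Set.range (l ≫ w k) ⊆ Set.range (Sigma.ι E.X j) := by
      rintro _ ⟨y, rfl⟩
      rw [Scheme.Hom.comp_apply]
      obtain ⟨y', hy', he⟩ := (hVm.le y.2)
      have : y' = l y := (V k).ι.isOpenEmbedding.injective (he.trans (by
        rw [← Scheme.Hom.comp_apply, hl]; rfl))
      exact this ▸ hy'
    refine ⟨IsOpenImmersion.lift (Sigma.ι E.X j) (l ≫ w k) h2, ?_⟩
    calc IsOpenImmersion.lift (Sigma.ι E.X j) (l ≫ w k) h2 ≫ E.f j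
        = (IsOpenImmersion.lift (Sigma.ι E.X j) (l ≫ w k) h2 ≫ Sigma.ι E.X j) ≫ Sigma.desc E.f := by
          rw [Category.assoc, Sigma.ι_desc]
      _ = (V' m).ι ≫ q ≫ b ≫ ι := by
        rw [IsOpenImmersion.lift_fac, Category.assoc, hw k, ← Category.assoc l, hl]


end Groth.Agent.S13733
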