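import Groth.Statements.S13735
import Groth.Agent.L07.FlatVal.StalkBase
import Groth.Agent.S2566
import Groth.Agent.L09.SubtrNoeth

set_option autoImplicit false
set_option linter.style.haveILetI false
universe u
open HTop

namespace Groth.Agent.S13735

open CategoryTheory CategoryTheory.Limits AlgebraicGeometry in
/-- Let S be a separated reduced Noetherian scheme, f : X → S a separated morphism locally of finite
type and g : S' → S a separated morphism of finite type which is universally submersive (an
h-covering). If the base change of f along g is flat, then f is flat. -/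
theorem result {X S S' : Scheme.{u}} [IsNoetherian S] [IsReduced S] [S.IsSeparated] (f : X ⟶ S) [LocallyOfFiniteType f] [IsSeparated f] (g : S' ⟶ S) [LocallyOfFiniteType g] [QuasiCompact g] [IsSeparated g] (hg : SGA1.UnivSubmersive g) (hflat : Flat (pullback.snd f g)) : Flat f := by
  haveI : LocallyOfFinitePresentation f := LocallyOfFinitePresentation.iff_locallyOfFiniteType.mpr inferInstance
  have hlift := Groth.L09.Subtr.exists_dvr_lift
    (Groth.L09.Subtr.DVRPair.univSSubtrusive (Groth.L09.Subtr.dvrPair_of_univSubmersive hg))
  rw [Flat.iff_flat_stalkMap]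
  intro x
  refine (Groth.L07.FlatVal.flat_stalkMap_iff_forall_dvr f x).mpr fun A' _ _ _ φ _ x' _ hx' => ?_
  let γ := Spec.map (CommRingCat.ofHom φ) ≫ S.fromSpecStalk (f.base x)
  let fA := pullback.snd f γ
  obtain ⟨D, _, _, _, a, b, hb, hab⟩ := hlift A' γ
  letI : Algebra A' D := (Spec.preimage b).hom.toAlgebra
  have hbmap : Spec.map (CommRingCat.ofHom (algebraMap A' D)) = b := Spec.map_preimage b
  have hinj : Function.Injective (algebraMap A' D) := by
    rw [RingHom.injective_iff_ker_eq_bot, RingHom.ker_eq_comap_bot]
    exact congrArg PrimeSpectrum.asIdeal (show (Spec.map (CommRingCat.ofHom (algebraMap A' D))).base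
      (⊥ : PrimeSpectrum D) = (⊥ : PrimeSpectrum A') by rw [hbmap]; exact Groth.L09.Subtr.apply_genPt_of_surjective b)
  haveI : IsLocalHom (algebraMap A' D) := by
    refine ((IsLocalRing.local_hom_TFAE (algebraMap A' D)).out 0 4).mpr ?_
    exact congrArg PrimeSpectrum.asIdeal (show (Spec.map (CommRingCat.ofHom (algebraMap A' D))).base
      (IsLocalRing.closedPoint D) = IsLocalRing.closedPoint A' by rw [hbmap]; exact Groth.L09.Subtr.apply_closedPt_of_surjective b)
  have hU : CAlg2.IsUnibranch A' := by
    refine (Groth.L06.Unibranch.isUnibranch_iff (RingHom.id A') (fun x => ⟨Polynomial.X - Polynomial.C x,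
      Polynomial.monic_X_sub_C x, by simp⟩) (fun a ha => ?_) fun x => ⟨1, x, by simp, by simp⟩).mpr inferInstance
    rw [show a = 0 from ha]
    exact zero_mem _
  haveI hfl : Flat (pullback.snd fA (Spec.map (CommRingCat.ofHom (algebraMap A' D)))) := by
    rw [hbmap]
    have h1 : Flat (pullback.snd (pullback.snd f g) a) := inferInstance
    have h2 : Flat (pullback.snd f (a ≫ g)) := by
      rw [← pullbackLeftPullbackSndIso_inv_snd_snd f g a]
      infer_instance
    have h3 : Flat (pullback.snd f (b ≫ γ)) := hab ▸ h2
    rw [← pullbackLeftPullbackSndIso_hom_snd f γ b]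
    infer_instance
  haveI : LocallyOfFinitePresentation fA := inferInstanceAs (LocallyOfFinitePresentation (pullback.snd f γ))
  exact Groth.Agent.S2566.result hU hinj fA x' hx' fun z _ _ => Flat.stalkMap _ z

end Groth.Agent.S13735
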