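import Groth.Statements.S13737
import Groth.Agent.S13731
import Groth.Agent.L22.BlowUp
import Groth.Agent.L22.MaximalPoints
import Mathlib.AlgebraicGeometry.Morphisms.Separated
import Mathlib.AlgebraicGeometry.Morphisms.FiniteType

set_option linter.style.haveILetI false

set_option autoImplicit false
universe u
open HTop

namespace Groth.Agent.S13737

open CategoryTheory CategoryTheory.Limits AlgebraicGeometry in
/-- Let X be a separated integral Noetherian scheme, b : X' → X a blow-up of X in a quasi-coherent sheaf
of ideals (characterised by the universal property of blowing up), with X' separated and b of finite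
type, and let U be an open subscheme of X' whose composite U → X' → X is universally submersive (an
h-covering). Then U = X'. (The published statement takes X only integral; its proof applies the
surjectivity of dominating components for Noetherian schemes, so this row takes X Noetherian.) -/
theorem result {X X' : Scheme.{u}} [IsNoetherian X] [X.IsSeparated] [IsIntegral X] [X'.IsSeparated] (𝓘 : X.IdealSheafData) (b : X' ⟶ X) [LocallyOfFiniteType b] [QuasiCompact b] (hb : BlowUp.IsBlowUp b 𝓘) (U : X'.Opens) (hU : SGA1.UnivSubmersive (U.ι ≫ b)) : U = ⊤ := by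
  haveI : IsLocallyNoetherian X' := LocallyOfFiniteType.isLocallyNoetherian b
  haveI : CompactSpace X' := QuasiCompact.compactSpace_of_compactSpace b
  haveI : IsNoetherian X' := {}
  let P := pullback (U.ι ≫ b) b
  let a : P ⟶ X' := pullback.fst (U.ι ≫ b) b ≫ U.ι
  let c : P ⟶ X' := pullback.snd (U.ι ≫ b) b
  have hac : a ≫ b = c ≫ b := (Category.assoc _ _ _).trans pullback.condition
  haveI : (SGA1.UnivSubmersive.{u}).IsStableUnderBaseChange :=
    inferInstanceAs (MorphismProperty.universally _).IsStableUnderBaseChange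
  have hc : SGA1.UnivSubmersive c :=
    MorphismProperty.of_isPullback (P := SGA1.UnivSubmersive) (IsPullback.of_hasPullback (U.ι ≫ b) b) hU
  haveI : QuasiCompact U.ι := inferInstance
  haveI : LocallyOfFiniteType c := inferInstance
  haveI : QuasiCompact c := inferInstance
  haveI : X.IsSeparated := inferInstance
  haveI : IsSeparated b := IsSeparated.of_comp b (terminal.from X)
  haveI : IsSeparated c := inferInstance
  let E : PreZeroHypercover.{u} X' := ⟨PUnit.{u + 1}, fun _ => P, fun _ => c⟩
  haveI : ∀ i, LocallyOfFiniteType (E.f i) := fun _ => ‹LocallyOfFiniteType c›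
  haveI : ∀ i, QuasiCompact (E.f i) := fun _ => ‹QuasiCompact c›
  haveI : ∀ i, IsSeparated (E.f i) := fun _ => ‹IsSeparated c›
  have hE : SGA1.UnivSubmersive (Sigma.desc E.f) := by
    have e : Sigma.desc E.f = (Sigma.desc fun _ : PUnit.{u + 1} => 𝟙 P) ≫ c :=
      Sigma.hom_ext _ _ fun i => by simp [E]
    have : IsIso (Sigma.desc fun _ : PUnit.{u + 1} => 𝟙 P) :=
      ⟨Sigma.ι (fun _ : PUnit.{u + 1} => P) PUnit.unit, Sigma.hom_ext _ _ fun i => by simp, by simp⟩
    haveI : (SGA1.UnivSubmersive.{u}).RespectsIso :=
      inferInstanceAs (MorphismProperty.universally _).RespectsIso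
    rw [e, MorphismProperty.cancel_left_of_respectsIso SGA1.UnivSubmersive]
    exact hc
  refine top_le_iff.1 fun x' _ => ?_
  obtain ⟨_, ξ, v, hξv, hv, hcomp⟩ := Groth.Agent.S13731.result E hE x'
  change c v = x' at hv
  change closure {c ξ} ∈ irreducibleComponents ↥X' at hcomp
  have hmax : ∀ y : X', y ⤳ c ξ → y = c ξ := fun y hy => by
    have h1 : closure {c ξ} ⊆ closure {y} := closure_minimal
      (Set.singleton_subset_iff.2 (specializes_iff_mem_closure.1 hy)) isClosed_closure
    have h2 : closure {y} = closure {c ξ} := le_antisymm (hcomp.2 isIrreducible_singleton.closure h1) h1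
    exact ((isGenericPoint_closure (x := y)).eq (h2 ▸ isGenericPoint_closure (x := c ξ)))
  have hC : b (c ξ) ∈ 𝓘.support.compl := fun hmem => by
    refine Groth.L22.notMem_support_of_maximal hb.1 hmax ?_
    rw [Scheme.IdealSheafData.support_comap]
    exact hmem
  let C : X.Opens := 𝓘.support.compl
  haveI : IsIso (b ∣_ C) := Groth.L22.Ideals.isIso_restrict_compl hb
  let N : P.Opens := a ⁻¹ᵁ (b ⁻¹ᵁ C)
  have hNc : N.ι ≫ a = N.ι ≫ c := by
    have h1 : Set.range (N.ι ≫ a) ⊆ Set.range (b ⁻¹ᵁ C).ι := by
      rintro _ ⟨z, rfl⟩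
      rw [Scheme.Opens.range_ι]
      exact z.2
    have h2 : Set.range (N.ι ≫ c) ⊆ Set.range (b ⁻¹ᵁ C).ι := by
      rintro _ ⟨z, rfl⟩
      rw [Scheme.Opens.range_ι]
      show b ((N.ι ≫ c) z) ∈ C
      rw [← Scheme.Hom.comp_apply, Category.assoc, ← hac, ← Category.assoc]
      exact z.2
    rw [← IsOpenImmersion.lift_fac _ _ h1, ← IsOpenImmersion.lift_fac _ _ h2]
    congr 1
    rw [← cancel_mono (b ∣_ C), ← cancel_mono C.ι, Category.assoc, Category.assoc,
      morphismRestrict_ι, IsOpenImmersion.lift_fac_assoc, IsOpenImmersion.lift_fac_assoc]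
    exact (Category.assoc _ _ _).trans ((congrArg (N.ι ≫ ·) hac).trans (Category.assoc _ _ _).symm)
  let e : P ⟶ pullback (terminal.from X') (terminal.from X') := pullback.lift a c (terminal.hom_ext _ _)
  have hξN : ξ ∈ N := by
    show b (a ξ) ∈ 𝓘.support.compl
    rw [show b (a ξ) = b (c ξ) from congrArg (fun m : P ⟶ X => m ξ) hac]
    exact hC
  have hΔ : e ξ ∈ Set.range (pullback.diagonal (terminal.from X')) := by
    refine ⟨(N.ι ≫ a) ⟨ξ, hξN⟩, ?_⟩
    have : (N.ι ≫ a) ≫ pullback.diagonal (terminal.from X') = N.ι ≫ e := by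
      apply pullback.hom_ext
      · rw [Category.assoc, Category.assoc, pullback.diagonal_fst, Category.comp_id, Category.assoc]
        exact (congrArg (N.ι ≫ ·) (pullback.lift_fst a c _)).symm
      · rw [Category.assoc, Category.assoc, pullback.diagonal_snd, Category.comp_id, Category.assoc]
        exact hNc.trans (congrArg (N.ι ≫ ·) (pullback.lift_snd a c _)).symm
    exact congrArg (fun m : (N : Scheme.{u}) ⟶ pullback (terminal.from X') (terminal.from X') => m ⟨ξ, hξN⟩) this
  obtain ⟨z, hz⟩ := (hξv.map e.continuous).mem_closed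
    (pullback.diagonal (terminal.from X')).isClosedEmbedding.isClosed_range hΔ
  have h1 : z = a v :=
    ((congrArg (fun m : X' ⟶ X' => m z) (pullback.diagonal_fst (terminal.from X'))).symm.trans
      (congrArg (fun w => pullback.fst (terminal.from X') (terminal.from X') w) hz)).trans
      (congrArg (fun m : P ⟶ X' => m v) (pullback.lift_fst a c _))
  have h2 : z = c v :=
    ((congrArg (fun m : X' ⟶ X' => m z) (pullback.diagonal_snd (terminal.from X'))).symm.trans
      (congrArg (fun w => pullback.snd (terminal.from X') (terminal.from X') w) hz)).trans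
      (congrArg (fun m : P ⟶ X' => m v) (pullback.lift_snd a c _))
  rw [← hv, ← h2, h1]
  exact ((pullback.fst (U.ι ≫ b) b) v).2

end Groth.Agent.S13737
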