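import Groth.Statements.S13738
import Mathlib.AlgebraicGeometry.PullbackCarrier
import Mathlib.AlgebraicGeometry.ResidueField
import Mathlib.AlgebraicGeometry.Morphisms.Finite
import Mathlib.AlgebraicGeometry.Noetherian
import Mathlib.FieldTheory.IsAlgClosed.AlgebraicClosure
import Mathlib.Topology.NoetherianSpace

set_option linter.style.haveILetI false

set_option autoImplicit false
universe u
open SGA1

namespace Groth.Agent.S13738

open CategoryTheory CategoryTheory.Limits AlgebraicGeometry in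
theorem exists_smul_eq {X S : Scheme.{u}} (q : X ⟶ S) {G : Type u} [Group G] (ρ : G →* Aut X)
    (htrans : ∀ (Ω : Type u) [Field Ω] [IsAlgClosed Ω] (τ₁ τ₂ : Spec (CommRingCat.of Ω) ⟶ X), τ₁ ≫ q = τ₂ ≫ q → ∃ g : G, τ₁ ≫ (ρ g).hom = τ₂)
    (a b : X) (h : q a = q b) : ∃ g : G, (ρ g).hom a = b := by
  obtain ⟨z, hza, hzb⟩ := Scheme.Pullback.exists_preimage_pullback (f := q) (g := q) a b h
  let P := pullback q q
  let ζ : Spec (CommRingCat.of (AlgebraicClosure (P.residueField z))) ⟶ P :=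
    Spec.map (CommRingCat.ofHom (algebraMap (P.residueField z) (AlgebraicClosure (P.residueField z)))) ≫
      P.fromSpecResidueField z
  let pt : Spec (CommRingCat.of (AlgebraicClosure (P.residueField z))) :=
    IsLocalRing.closedPoint (AlgebraicClosure (P.residueField z))
  have hζ : ζ pt = z := by
    simp only [ζ, Scheme.Hom.comp_apply]
    exact Scheme.fromSpecResidueField_apply z _
  obtain ⟨g, hg⟩ := htrans _ (ζ ≫ pullback.fst q q) (ζ ≫ pullback.snd q q)
    (by simp only [ζ, Category.assoc, pullback.condition])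
  refine ⟨g, ?_⟩
  have := congrArg (fun m : _ ⟶ X => m pt) hg
  simp only [Scheme.Hom.comp_apply, hζ] at this
  rwa [hza, hzb] at this

open CategoryTheory CategoryTheory.Limits AlgebraicGeometry in
/-- Let S be a separated irreducible Noetherian scheme, q : X → S finite and surjective with X
separated, and G a finite group acting on X by S-automorphisms, transitively on the geometric points
of X over every geometric point of S. Then every irreducible component of X maps onto S and G acts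
transitively on the set of irreducible components of X. -/
theorem result {X S : Scheme.{u}} [IsNoetherian S] [S.IsSeparated] [X.IsSeparated] [IrreducibleSpace ↥S] (q : X ⟶ S) [IsFinite q] [Surjective q] {G : Type u} [Group G] [Finite G] (ρ : G →* Aut X) (hρ : ∀ g : G, (ρ g).hom ≫ q = q) (htrans : ∀ (Ω : Type u) [Field Ω] [IsAlgClosed Ω] (τ₁ τ₂ : Spec (CommRingCat.of Ω) ⟶ X), τ₁ ≫ q = τ₂ ≫ q → ∃ g : G, τ₁ ≫ (ρ g).hom = τ₂) : (∀ T ∈ irreducibleComponents ↥X, Set.image (fun x => q x) T = Set.univ) ∧ ∀ T₁ ∈ irreducibleComponents ↥X, ∀ T₂ ∈ irreducibleComponents ↥X, ∃ g : G, Set.image (fun x => (ρ g).hom x) T₁ = T₂ := by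
  classical
  have hfin : ∀ s : S, (q ⁻¹' {s}).Finite := fun s => q.finite_preimage_singleton s
  let η : S := genericPoint S
  have hη : closure ({η} : Set S) = Set.univ := (genericPoint_spec S).def
  have hclosed : IsClosedMap q := q.isClosedMap
  have htr : ∀ a b : X, q a = q b → ∃ g : G, (ρ g).hom a = b := exists_smul_eq q ρ htrans
  have himg : ∀ ξ : X, q ξ = η → Set.image (fun x => q x) (closure {ξ}) = Set.univ := fun ξ hξ => by
    refine Set.eq_univ_of_univ_subset ?_
    rw [← hη]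
    exact closure_minimal (Set.singleton_subset_iff.2 ⟨ξ, subset_closure rfl, hξ⟩) (hclosed _ isClosed_closure)
  have hmove : ∀ (g : G) (ξ : X), Set.image (fun x => (ρ g).hom x) (closure {ξ}) = closure {(ρ g).hom ξ} := fun g ξ => by
    haveI : IsIso (ρ g).hom := (ρ g).isIso_hom
    rw [show (fun x => (ρ g).hom x) = (ρ g).hom.homeomorph from rfl, Homeomorph.image_closure, Set.image_singleton]
    rfl
  have hcov : ∀ x : X, ∃ ξ, q ξ = η ∧ x ∈ closure {ξ} := fun x => by
    obtain ⟨ξ₀, hξ₀⟩ := q.surjective η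
    obtain ⟨x', hx', hqx'⟩ : q x ∈ Set.image (fun x => q x) (closure {ξ₀}) := by rw [himg ξ₀ hξ₀]; trivial
    obtain ⟨g, rfl⟩ := htr x' x hqx'
    refine ⟨(ρ g).hom ξ₀, ?_, hmove g ξ₀ ▸ Set.mem_image_of_mem _ hx'⟩
    rw [← Scheme.Hom.comp_apply, hρ, hξ₀]
  have hcomp : ∀ T ∈ irreducibleComponents ↥X, ∃ ξ, q ξ = η ∧ T = closure {ξ} := fun T hT => by
    let F := (hfin η).toFinset
    have hsub : T ⊆ ⋃₀ ↑(F.image fun ξ => closure ({ξ} : Set X)) := fun x _ => by
      obtain ⟨ξ, hξ, hx⟩ := hcov x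
      exact ⟨_, Finset.mem_coe.2 (Finset.mem_image_of_mem _ ((hfin η).mem_toFinset.2 hξ)), hx⟩
    obtain ⟨Z, hZ, hTZ⟩ := (isIrreducible_iff_sUnion_isClosed.1 hT.1) _
      (fun z hz => by obtain ⟨ξ, -, rfl⟩ := Finset.mem_image.1 hz; exact isClosed_closure) hsub
    obtain ⟨ξ, hξ, rfl⟩ := Finset.mem_image.1 hZ
    exact ⟨ξ, (hfin η).mem_toFinset.1 hξ, le_antisymm hTZ (hT.2 isIrreducible_singleton.closure hTZ)⟩
  refine ⟨fun T hT => ?_, fun T₁ hT₁ T₂ hT₂ => ?_⟩
  · obtain ⟨ξ, hξ, rfl⟩ := hcomp T hT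
    exact himg ξ hξ
  · obtain ⟨ξ₁, h₁, rfl⟩ := hcomp T₁ hT₁
    obtain ⟨ξ₂, h₂, rfl⟩ := hcomp T₂ hT₂
    obtain ⟨g, hg⟩ := htr ξ₁ ξ₂ (h₁.trans h₂.symm)
    exact ⟨g, (hmove g ξ₁).trans (by rw [hg])⟩

end Groth.Agent.S13738
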