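import Groth.Statements.S13739
import Groth.Agent.L23.Chow.SchemeSurj
import Mathlib.FieldTheory.IsAlgClosed.AlgebraicClosure
import Mathlib.AlgebraicGeometry.Morphisms.Finite

set_option autoImplicit false
universe u
open SGA1

set_option backward.isDefEq.respectTransparency false
set_option backward.isDefEq.respectTransparency.types false

namespace Groth.Agent.S13739

open CategoryTheory CategoryTheory.Limits AlgebraicGeometry in
/-- Let S be a separated Noetherian scheme, q : X → S finite surjective with X separated, G a finite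
group acting on X by S-automorphisms and transitively on the geometric points of X over every
geometric point of S, and r : Y → X a morphism with Y separated. If υ is the morphism from the
disjoint union of G copies of Y to Y ×_S X (Y over S through r ≫ q) whose σ-th component is (id_Y, r
≫ σ), then υ is finite and surjective. -/
theorem result {X S Y : Scheme.{u}} [IsNoetherian S] [S.IsSeparated] [X.IsSeparated] [Y.IsSeparated] (q : X ⟶ S) [IsFinite q] [Surjective q] {G : Type u} [Group G] [Finite G] (ρ : G →* Aut X) (hρ : ∀ g : G, (ρ g).hom ≫ q = q) (htrans : ∀ (Ω : Type u) [Field Ω] [IsAlgClosed Ω] (τ₁ τ₂ : Spec (CommRingCat.of Ω) ⟶ X), τ₁ ≫ q = τ₂ ≫ q → ∃ g : G, τ₁ ≫ (ρ g).hom = τ₂) (r : Y ⟶ X) (υ : (∐ fun _ : G => Y) ⟶ pullback (r ≫ q) q) (hυ₁ : ∀ σ : G, Sigma.ι (fun _ : G => Y) σ ≫ υ ≫ pullback.fst (r ≫ q) q = 𝟙 Y) (hυ₂ : ∀ σ : G, Sigma.ι (fun _ : G => Y) σ ≫ υ ≫ pullback.snd (r ≫ q) q = r ≫ (ρ σ).hom) : IsFinite υ ∧ Surjective υ := by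
  classical
  haveI := Fintype.ofFinite G
  have hfold : υ ≫ pullback.fst (r ≫ q) q = Sigma.desc fun _ : G => 𝟙 Y :=
    Sigma.hom_ext _ _ fun σ => by rw [hυ₁, Sigma.ι_desc]
  haveI : IsFinite (υ ≫ pullback.fst (r ≫ q) q) := by
    rw [hfold]
    exact Groth.L23.Chow.isFinite_sigmaDesc _
  haveI : IsSeparated (pullback.fst (r ≫ q) q) := inferInstance
  refine ⟨IsFinite.of_comp υ (pullback.fst (r ≫ q) q), ⟨fun w => ?_⟩⟩
  let P := pullback (r ≫ q) q
  let Ω := AlgebraicClosure (P.residueField w)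
  let ω : Spec (CommRingCat.of Ω) ⟶ P :=
    Spec.map (CommRingCat.ofHom (algebraMap (P.residueField w) Ω)) ≫ P.fromSpecResidueField w
  obtain ⟨g, hg⟩ := htrans Ω (ω ≫ pullback.fst (r ≫ q) q ≫ r) (ω ≫ pullback.snd (r ≫ q) q)
    (by simp only [Category.assoc, pullback.condition])
  have he : (ω ≫ pullback.fst (r ≫ q) q ≫ Sigma.ι (fun _ : G => Y) g) ≫ υ = ω := by
    apply pullback.hom_ext
    · simp only [Category.assoc, hυ₁, Category.comp_id]
    · simp only [Category.assoc, hυ₂]
      simpa only [Category.assoc] using hg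
  refine ⟨(ω ≫ pullback.fst (r ≫ q) q ≫ Sigma.ι (fun _ : G => Y) g) (IsLocalRing.closedPoint Ω), ?_⟩
  rw [← Scheme.Hom.comp_apply, he]
  show (Spec.map _ ≫ P.fromSpecResidueField w) _ = w
  rw [Scheme.Hom.comp_apply, Scheme.fromSpecResidueField_apply]

end Groth.Agent.S13739
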