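import Groth.Statements.S1374
import Groth.Agent.L20.ClosedBetween
import Mathlib.AlgebraicGeometry.Fiber
import Mathlib.Topology.JacobsonSpace

set_option autoImplicit false
universe u
open FlatMor

set_option linter.style.haveILetI false

namespace Groth.Agent.S1374

open AlgebraicGeometry CategoryTheory Limits in
/-- Let f : X ⟶ S be locally of finite type and x ⤳ x' a specialization of points of X, with x' a closed
point of its fibre f⁻¹(f(x')) and f(x) ≠ f(x'). Then the points x₁ with f(x₁) = f(x) which are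
closed in the fibre f⁻¹(f(x)) and satisfy x ⤳ x₁ ⤳ x' are dense in the closure of {x} intersected
with the fibre f⁻¹(f(x)) (fibres taken as subspaces of X). (The published statement omits the
condition f(x) ≠ f(x'), but the claim fails without it; it is stated here with that condition.) -/
theorem result {X S : Scheme.{u}} (f : X ⟶ S) [LocallyOfFiniteType f] (x x' : X) (hsp : x ⤳ x') (hne : f x ≠ f x')
    (hcl : IsClosed (Subtype.val ⁻¹' {x'} : Set ↑(f ⁻¹' {f x'}))) :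
    Dense (Subtype.val ⁻¹' {x₁ : ↑X | f x₁ = f x ∧ IsClosed (Subtype.val ⁻¹' {x₁} : Set ↑(f ⁻¹' {f x})) ∧ x ⤳ x₁ ∧ x₁ ⤳ x'} :
      Set ↑(closure {x} ∩ f ⁻¹' {f x})) := by
  haveI : JacobsonSpace (f.fiber (f x)) := inferInstance
  haveI : JacobsonSpace ↑(f ⁻¹' {f x}) := JacobsonSpace.of_isOpenEmbedding (f.fiberHomeo (f x)).symm.isOpenEmbedding
  rw [dense_iff_inter_open]
  rintro _ ⟨O, hO, rfl⟩ ⟨⟨y, hy, hys⟩, hyO : y ∈ O⟩
  have hxO : x ∈ O := (specializes_iff_mem_closure.mpr hy).mem_open hO hyO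
  obtain ⟨_, ⟨V, hV, rfl⟩, hx'V, -⟩ :=
    S.isBasis_affineOpens.exists_subset_of_mem_open (Set.mem_univ (f x')) isOpen_univ
  obtain ⟨_, ⟨U, hU, rfl⟩, hx'U, hUV⟩ :=
    X.isBasis_affineOpens.exists_subset_of_mem_open (a := x') (show x' ∈ f ⁻¹ᵁ V from hx'V) (f ⁻¹ᵁ V).2
  have e : U ≤ f ⁻¹ᵁ V := hUV
  have hxU : x ∈ U := hsp.mem_open U.2 hx'U
  obtain ⟨g, hgO, hxg⟩ := hU.exists_basicOpen_le (V := ⟨O, hO⟩) ⟨x, hxO⟩ hxU
  let φ : Γ(S, V) →+* Γ(X, U) := (f.appLE V U e).hom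
  letI : Algebra Γ(S, V) Γ(X, U) := φ.toAlgebra
  haveI : Algebra.FiniteType Γ(S, V) Γ(X, U) := f.finiteType_appLE hV hU e
  let P := (hU.primeIdealOf ⟨x, hxU⟩).asIdeal
  let P' := (hU.primeIdealOf ⟨x', hx'U⟩).asIdeal
  let pt : PrimeSpectrum Γ(X, U) → X := fun Q => hU.fromSpec Q
  have hpt : ∀ Q, pt Q ∈ U := fun Q => by
    have : pt Q ∈ Set.range hU.fromSpec := ⟨Q, rfl⟩
    rwa [hU.range_fromSpec] at this
  haveI := hU.isOpenImmersion_fromSpec
  have hprime : ∀ Q, hU.primeIdealOf ⟨pt Q, hpt Q⟩ = Q := fun Q =>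
    hU.fromSpec.isOpenEmbedding.injective (hU.fromSpec_primeIdealOf ⟨_, hpt Q⟩)
  have hfpt : ∀ (Q : PrimeSpectrum Γ(X, U)) (z : X) (hzU : z ∈ U),
      Q.asIdeal.comap φ = (hU.primeIdealOf ⟨z, hzU⟩).asIdeal.comap φ → f (pt Q) = f z := by
    intro Q z hzU hQ
    have h1 := hV.fromSpec_primeIdealOf ⟨f (pt Q), e (hpt Q)⟩
    have h2 := hV.fromSpec_primeIdealOf ⟨f z, e hzU⟩
    rw [← IsAffineOpen.comap_primeIdealOf_appLE V hV U hU e (hpt Q), hprime] at h1
    rw [← IsAffineOpen.comap_primeIdealOf_appLE V hV U hU e hzU] at h2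
    exact h1.symm.trans ((congrArg hV.fromSpec (PrimeSpectrum.ext hQ)).trans h2)
  have hspec : ∀ (Q : PrimeSpectrum Γ(X, U)) (z : X) (hzU : z ∈ U),
      (hU.primeIdealOf ⟨z, hzU⟩).asIdeal ≤ Q.asIdeal → z ⤳ pt Q := by
    intro Q z hzU hle
    have h1 := ((PrimeSpectrum.le_iff_specializes (hU.primeIdealOf ⟨z, hzU⟩) Q).mp hle).map hU.fromSpec.continuous
    rwa [hU.fromSpec_primeIdealOf] at h1
  let A := Γ(S, V) ⧸ P.comap φ
  let B := Γ(X, U) ⧸ P
  haveI : (P.comap φ).IsPrime := Ideal.comap_isPrime _ _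
  haveI : P.IsPrime := (hU.primeIdealOf ⟨x, hxU⟩).isPrime
  letI : Algebra A B := (Ideal.quotientMap P φ le_rfl).toAlgebra
  haveI : IsScalarTower Γ(S, V) A B := IsScalarTower.of_algebraMap_eq fun _ => rfl
  haveI : Algebra.FiniteType Γ(S, V) B := Algebra.FiniteType.trans ‹Algebra.FiniteType Γ(S, V) Γ(X, U)› inferInstance
  haveI : Algebra.FiniteType A B := Algebra.FiniteType.of_restrictScalars_finiteType Γ(S, V) A B
  have hle : P ≤ P' :=
    (PrimeSpectrum.le_iff_specializes (hU.primeIdealOf ⟨x, hxU⟩) (hU.primeIdealOf ⟨x', hx'U⟩)).mpr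
      (hU.fromSpec.isOpenEmbedding.isInducing.specializes_iff.mp
        (by rw [hU.fromSpec_primeIdealOf, hU.fromSpec_primeIdealOf]; exact hsp))
  let m' : Ideal B := P'.map (Ideal.Quotient.mk P)
  haveI : m'.IsPrime := by
    haveI : P'.IsPrime := (hU.primeIdealOf ⟨x', hx'U⟩).isPrime
    exact Ideal.map_isPrime_of_surjective Ideal.Quotient.mk_surjective (by rw [Ideal.mk_ker]; exact hle)
  have hm'c : m'.comap (Ideal.Quotient.mk P) = P' := by
    rw [Ideal.comap_map_of_surjective _ Ideal.Quotient.mk_surjective, ← RingHom.ker_eq_comap_bot,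
      Ideal.mk_ker, sup_eq_left.mpr hle]
  have hcomap : ∀ (q : Ideal B) (a : Γ(S, V)),
      Ideal.Quotient.mk (P.comap φ) a ∈ q.comap (algebraMap A B) ↔ a ∈ (q.comap (Ideal.Quotient.mk P)).comap φ :=
    fun q a => Iff.rfl
  have hne' : m'.comap (algebraMap A B) ≠ ⊥ := by
    intro h
    apply hne
    have hPP : P'.comap φ = P.comap φ := by
      refine le_antisymm (fun a ha => ?_) (Ideal.comap_mono hle)
      have h1 : Ideal.Quotient.mk (P.comap φ) a ∈ m'.comap (algebraMap A B) := by rw [hcomap, hm'c]; exact ha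
      rw [h, Ideal.mem_bot] at h1
      exact Ideal.Quotient.eq_zero_iff_mem.mp h1
    have h1 := hfpt (hU.primeIdealOf ⟨x', hx'U⟩) x hxU hPP
    simp only [pt] at h1
    rw [hU.fromSpec_primeIdealOf] at h1
    exact h1.symm
  have hclosed : ∀ q : Ideal B, q.IsPrime → m' ≤ q → q.comap (algebraMap A B) = m'.comap (algebraMap A B) → q = m' := by
    intro q hq hmq hqc
    haveI := hq
    let Q : PrimeSpectrum Γ(X, U) := ⟨q.comap (Ideal.Quotient.mk P), Ideal.comap_isPrime _ _⟩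
    have hQP : (hU.primeIdealOf ⟨x', hx'U⟩).asIdeal ≤ Q.asIdeal := hm'c.symm.le.trans (Ideal.comap_mono hmq)
    have hQc : Q.asIdeal.comap φ = (hU.primeIdealOf ⟨x', hx'U⟩).asIdeal.comap φ := by
      ext a
      change a ∈ (q.comap (Ideal.Quotient.mk P)).comap φ ↔ a ∈ P'.comap φ
      rw [← hcomap, hqc, hcomap, hm'c]
    have hfQ := hfpt Q x' hx'U hQc
    have hsQ : (⟨x', rfl⟩ : ↑(f ⁻¹' {f x'})) ⤳ ⟨pt Q, hfQ⟩ :=
      (subtype_specializes_iff _ _).mpr (hspec Q x' hx'U hQP)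
    have hptx : pt Q = x' := hsQ.mem_closed hcl rfl
    have hPQ : P' = Q.asIdeal := by
      show (hU.primeIdealOf ⟨x', hx'U⟩).asIdeal = _
      rw [show hU.primeIdealOf ⟨x', hx'U⟩ = hU.primeIdealOf ⟨pt Q, hpt Q⟩ from congrArg hU.primeIdealOf (Subtype.ext hptx.symm), hprime]
    rw [← Ideal.map_comap_of_surjective _ Ideal.Quotient.mk_surjective q]
    exact congrArg (Ideal.map _) hPQ.symm
  have hgP : g ∉ P := by
    have h1 : hU.primeIdealOf ⟨x, hxU⟩ ∈ hU.fromSpec ⁻¹ᵁ X.basicOpen g := by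
      show hU.fromSpec (hU.primeIdealOf ⟨x, hxU⟩) ∈ X.basicOpen g
      rw [hU.fromSpec_primeIdealOf]; exact hxg
    rw [hU.fromSpec_preimage_basicOpen] at h1
    exact h1
  have hinj : Function.Injective (algebraMap A B) := Ideal.quotientMap_injective
  obtain ⟨q, hqp, hqm, hqbot, hgq, hmax⟩ := Groth.L20.ClosedBetween.exists_prime hinj m' hne' hclosed
    (Ideal.Quotient.mk P g) (fun h => hgP (Ideal.Quotient.eq_zero_iff_mem.mp h))
  haveI := hqp
  let Q : PrimeSpectrum Γ(X, U) := ⟨q.comap (Ideal.Quotient.mk P), Ideal.comap_isPrime _ _⟩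
  have hPQ : P ≤ Q.asIdeal := fun a ha => by
    show Ideal.Quotient.mk P a ∈ q
    rw [Ideal.Quotient.eq_zero_iff_mem.mpr ha]; exact zero_mem _
  have hQP' : Q.asIdeal ≤ P' := hm'c ▸ Ideal.comap_mono hqm
  have hQc : Q.asIdeal.comap φ = P.comap φ := by
    refine le_antisymm (fun a ha => ?_) (Ideal.comap_mono hPQ)
    have h1 : Ideal.Quotient.mk (P.comap φ) a ∈ q.comap (algebraMap A B) := (hcomap q a).mpr ha
    rw [hqbot, Ideal.mem_bot] at h1
    exact Ideal.Quotient.eq_zero_iff_mem.mp h1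
  have hfQ : f (pt Q) = f x := hfpt Q x hxU hQc
  have hxQ : x ⤳ pt Q := hspec Q x hxU hPQ
  have hQx' : pt Q ⤳ x' := by
    have h1 := ((PrimeSpectrum.le_iff_specializes Q (hU.primeIdealOf ⟨x', hx'U⟩)).mp hQP').map hU.fromSpec.continuous
    rwa [hU.fromSpec_primeIdealOf] at h1
  have hQg : pt Q ∈ O := by
    apply hgO
    have h1 : Q ∈ hU.fromSpec ⁻¹ᵁ X.basicOpen g := by
      rw [hU.fromSpec_preimage_basicOpen]; exact hgq
    exact h1
  have hQcl : IsClosed (Subtype.val ⁻¹' {pt Q} : Set ↑(f ⁻¹' {f x})) := by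
    have heq : (Subtype.val ⁻¹' {pt Q} : Set ↑(f ⁻¹' {f x})) = {⟨pt Q, hfQ⟩} := by
      ext z; simp [Subtype.ext_iff]
    rw [heq]
    refine isClosed_singleton_of_isLocallyClosed_singleton
      ⟨Subtype.val ⁻¹' (U : Set X), closure {⟨pt Q, hfQ⟩}, U.2.preimage continuous_subtype_val, isClosed_closure, ?_⟩
    refine Set.Subset.antisymm (fun z hz => ?_) ?_
    · rw [Set.mem_singleton_iff] at hz; subst hz; exact ⟨hpt Q, subset_closure rfl⟩
    rintro ⟨z, hzs⟩ ⟨hzU : z ∈ U, hzc⟩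
    have hQz : pt Q ⤳ z := (subtype_specializes_iff _ _).mp (specializes_iff_mem_closure.mpr hzc)
    have hle' : Q.asIdeal ≤ (hU.primeIdealOf ⟨z, hzU⟩).asIdeal :=
      (PrimeSpectrum.le_iff_specializes Q (hU.primeIdealOf ⟨z, hzU⟩)).mpr
        (hU.fromSpec.isOpenEmbedding.isInducing.specializes_iff.mp (by rw [hU.fromSpec_primeIdealOf]; exact hQz))
    have hzc' : (hU.primeIdealOf ⟨z, hzU⟩).asIdeal.comap φ = P.comap φ := by
      have h1 := congrArg PrimeSpectrum.asIdeal (IsAffineOpen.comap_primeIdealOf_appLE V hV U hU e hzU)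
      have h2 := congrArg PrimeSpectrum.asIdeal (IsAffineOpen.comap_primeIdealOf_appLE V hV U hU e hxU)
      refine h1.trans (Eq.trans ?_ h2.symm)
      exact congrArg PrimeSpectrum.asIdeal (congrArg hV.primeIdealOf (Subtype.ext (hzs : f z = f x)))
    have hzQ : hU.primeIdealOf ⟨z, hzU⟩ = Q := by
      refine PrimeSpectrum.ext (le_antisymm (fun a ha => ?_) hle')
      by_contra haQ
      obtain ⟨c, a₀, ha₀, hc⟩ := hmax (Ideal.Quotient.mk P a) haQ
      obtain ⟨c, rfl⟩ := Ideal.Quotient.mk_surjective c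
      obtain ⟨a₀, rfl⟩ := Ideal.Quotient.mk_surjective a₀
      have h1 : a * c - φ a₀ ∈ Q.asIdeal := by
        show Ideal.Quotient.mk P (a * c - φ a₀) ∈ q
        rw [map_sub, map_mul]; exact hc
      have h2 : φ a₀ ∈ (hU.primeIdealOf ⟨z, hzU⟩).asIdeal := by
        have h3 := sub_mem (Ideal.mul_mem_right c _ ha) (hle' h1)
        rwa [sub_sub_cancel] at h3
      exact ha₀ (Ideal.Quotient.eq_zero_iff_mem.mpr (hzc' ▸ (Ideal.mem_comap.mpr h2)))
    refine Subtype.ext ?_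
    show z = pt Q
    exact (hU.fromSpec_primeIdealOf ⟨z, hzU⟩).symm.trans (congrArg hU.fromSpec hzQ)
  exact ⟨⟨pt Q, specializes_iff_mem_closure.mp hxQ, hfQ⟩, hQg, hfQ, hQcl, hxQ, hQx'⟩

end Groth.Agent.S1374
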