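import Groth.Statements.S13740
import Groth.Agent.L23.Chow.SchemeSurj
import Groth.Agent.L27.TopInv.Hom
import Groth.Agent.L27.FEtGal.Galois
import Mathlib.CategoryTheory.Sites.Hypercover.Zero

set_option autoImplicit false
universe w u
open SGA1

namespace Groth.Agent.S13740

open CategoryTheory CategoryTheory.Limits AlgebraicGeometry in
/-- Let S be a separated Noetherian scheme, π : X → S finite and surjective with X separated, G a finite
group acting on X by S-automorphisms and transitively on the geometric points of X over every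
geometric point of S, and F a presheaf of sets on schemes satisfying the sheaf condition for every
finite family of quasi-finite morphisms of finite type whose induced morphism from the disjoint
union is universally submersive (a qfh-sheaf). Then pulling back along π identifies F(S) with the
G-invariant elements of F(X): F(π) is injective with image the invariants. (The published statement
takes F a qfh-sheaf on Noetherian schemes over S; this row takes a presheaf on all schemes with the
sheaf property for every such family, a stronger hypothesis.) -/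
theorem result {X S : Scheme.{u}} [IsNoetherian S] [S.IsSeparated] [X.IsSeparated] (q : X ⟶ S) [IsFinite q] [Surjective q] {G : Type u} [Group G] [Finite G] (ρ : G →* Aut X) (hρ : ∀ g : G, (ρ g).hom ≫ q = q) (htrans : ∀ (Ω : Type u) [Field Ω] [IsAlgClosed Ω] (τ₁ τ₂ : Spec (CommRingCat.of Ω) ⟶ X), τ₁ ≫ q = τ₂ ≫ q → ∃ g : G, τ₁ ≫ (ρ g).hom = τ₂) (F : Scheme.{u}ᵒᵖ ⥤ Type w) (hF : ∀ ⦃T : Scheme.{u}⦄ (E : PreZeroHypercover.{u} T), Finite E.I₀ → (∀ i, LocallyOfFiniteType (E.f i)) → (∀ i, QuasiCompact (E.f i)) → (∀ i, LocallyQuasiFinite (E.f i)) → SGA1.UnivSubmersive (Sigma.desc E.f) → Presieve.IsSheafFor F E.presieve₀) : Function.Injective (F.map q.op) ∧ Set.range (F.map q.op) = {f : F.obj (Opposite.op X) | ∀ g : G, F.map (ρ g).hom.op f = f} := by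
  have sheaf : ∀ {T : Scheme.{u}} {J : Type u} [Finite J] {W : J → Scheme.{u}} (f : ∀ j, W j ⟶ T) [∀ j, IsFinite (f j)],
      (∀ t : T, ∃ j y, f j y = t) → Presieve.IsSheafFor F (Presieve.ofArrows W f) := by
    intro T J _ W f _ hs
    let E : PreZeroHypercover.{u} T := { I₀ := J, X := W, f := f }
    haveI : IsFinite (Sigma.desc f) := Groth.L23.Chow.isFinite_sigmaDesc f
    haveI : Surjective (Sigma.desc f) := ⟨fun t => by
      obtain ⟨j, y, rfl⟩ := hs t
      exact ⟨Sigma.ι W j y, by rw [← Scheme.Hom.comp_apply, Sigma.ι_desc]⟩⟩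
    exact hF E inferInstance (fun i => inferInstanceAs (LocallyOfFiniteType (f i)))
      (fun i => inferInstanceAs (QuasiCompact (f i))) (fun i => inferInstanceAs (LocallyQuasiFinite (f i)))
      (Groth.L27.TopInv.univSubmersive_of_universallyClosed (Sigma.desc f))
  have hq : Presieve.IsSheafFor F (Presieve.singleton q) := by
    have := sheaf (J := PUnit) (W := fun _ => X) (fun _ => q) (fun t => ⟨PUnit.unit, q.surjective t⟩)
    rwa [Presieve.ofArrows_pUnit] at this
  refine ⟨fun a b h => hq.isSeparatedFor.ext fun Y g hg => ?_, Set.ext fun f => ⟨?_, fun hf => ?_⟩⟩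
  · obtain ⟨⟩ := hg
    exact h
  · rintro ⟨y, rfl⟩ g
    exact (ConcreteCategory.congr_hom (F.map_comp q.op (ρ g).hom.op) y).symm.trans (by rw [← op_comp, hρ])
  · let d : ∀ g : G, X ⟶ pullback q q := fun g => pullback.lift (𝟙 X) (ρ g).hom (by rw [Category.id_comp, hρ])
    haveI : ∀ g, IsFinite (d g) := fun g => by
      haveI : IsFinite (d g ≫ pullback.fst q q) := by
        rw [show d g ≫ pullback.fst q q = 𝟙 X from pullback.lift_fst _ _ _]; infer_instance
      exact IsFinite.of_comp (d g) (pullback.fst q q)
    have hd : ∀ z : ↥(pullback q q), ∃ g y, d g y = z := by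
      intro z
      obtain ⟨Ω, _, _, τ, rfl⟩ := Groth.L27.FEtGal.exists_geometric z
      obtain ⟨g, hg⟩ := htrans Ω (τ ≫ pullback.fst q q) (τ ≫ pullback.snd q q)
        (by rw [Category.assoc, Category.assoc, pullback.condition])
      refine ⟨g, (τ ≫ pullback.fst q q) default, ?_⟩
      have e : (τ ≫ pullback.fst q q) ≫ d g = τ := by
        apply pullback.hom_ext
        · rw [Category.assoc, show d g ≫ pullback.fst q q = 𝟙 X from pullback.lift_fst _ _ _, Category.comp_id]
        · rw [Category.assoc, show d g ≫ pullback.snd q q = (ρ g).hom from pullback.lift_snd _ _ _, hg]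
      rw [← Scheme.Hom.comp_apply, e]
    have hD := sheaf d hd
    obtain ⟨y, hy, -⟩ := (Presieve.isSheafFor_singleton.1 hq) f fun {Z} p₁ p₂ hp => by
      have key : F.map (pullback.fst q q).op f = F.map (pullback.snd q q).op f := hD.isSeparatedFor.ext fun Y g hg => by
        obtain ⟨g⟩ := hg
        have e1 := ConcreteCategory.congr_hom (F.map_comp (pullback.fst q q).op (d g).op) f
        have e2 := ConcreteCategory.congr_hom (F.map_comp (pullback.snd q q).op (d g).op) f
        rw [← op_comp, show d g ≫ pullback.fst q q = 𝟙 X from pullback.lift_fst _ _ _, op_id, F.map_id] at e1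
        rw [← op_comp, show d g ≫ pullback.snd q q = (ρ g).hom from pullback.lift_snd _ _ _] at e2
        exact e1.symm.trans ((hf g).symm.trans e2)
      have l1 := ConcreteCategory.congr_hom (F.map_comp (pullback.fst q q).op (pullback.lift p₁ p₂ hp).op) f
      have l2 := ConcreteCategory.congr_hom (F.map_comp (pullback.snd q q).op (pullback.lift p₁ p₂ hp).op) f
      rw [← op_comp, pullback.lift_fst] at l1
      rw [← op_comp, pullback.lift_snd] at l2
      exact l1.trans ((congrArg (F.map (pullback.lift p₁ p₂ hp).op) key).trans l2.symm)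
    exact ⟨y, hy⟩


end Groth.Agent.S13740
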