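import Groth.Statements.S13741
import Mathlib.FieldTheory.Normal.Defs
import Mathlib.AlgebraicGeometry.ResidueField

set_option autoImplicit false
universe u
open SGA1

set_option backward.isDefEq.respectTransparency false
set_option backward.isDefEq.respectTransparency.types false

namespace Groth.Agent.S13741

open CategoryTheory CategoryTheory.Limits AlgebraicGeometry in
/-- Let S be a separated Noetherian scheme, q : X → S finite and surjective with X separated, and G a
finite group acting on X by S-automorphisms. Assume that G acts transitively on every fibre of q,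
that each residue field extension k(x)/k(q x) is normal, and that for each x every k(q
x)-automorphism of k(x) is induced by an element of G fixing x. Then for every algebraically closed
field Ω, any two Ω-points of X with the same composite to S are conjugate under G. -/
theorem result {X S : Scheme.{u}} [IsNoetherian S] [S.IsSeparated] [X.IsSeparated] (q : X ⟶ S) [IsFinite q] [Surjective q] {G : Type u} [Group G] [Finite G] (ρ : G →* Aut X) (hρ : ∀ g : G, (ρ g).hom ≫ q = q) (h1 : ∀ x y : X, q x = q y → ∃ g : G, (ρ g).hom x = y) (h2 : ∀ x : X, @Normal (S.residueField (q x)) (X.residueField x) _ _ (q.residueFieldMap x).hom.toAlgebra) (h3 : ∀ (x : X) (σ : X.residueField x ≅ X.residueField x), q.residueFieldMap x ≫ σ.hom = q.residueFieldMap x → ∃ g : G, X.fromSpecResidueField x ≫ (ρ g).hom = Spec.map σ.hom ≫ X.fromSpecResidueField x) (Ω : Type u) [Field Ω] [IsAlgClosed Ω] (τ₁ τ₂ : Spec (CommRingCat.of Ω) ⟶ X) (hτ : τ₁ ≫ q = τ₂ ≫ q) : ∃ g : G, τ₁ ≫ (ρ g).hom = τ₂ := by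
  classical
  let pt := fun τ : Spec (CommRingCat.of Ω) ⟶ X => τ (IsLocalRing.closedPoint Ω)
  have hpt : q (pt τ₁) = q (pt τ₂) := by
    show (τ₁ ≫ q) _ = (τ₂ ≫ q) _
    rw [hτ]
  obtain ⟨g₀, hg₀⟩ := h1 _ _ hpt
  have main : ∀ (τ : Spec (CommRingCat.of Ω) ⟶ X), τ ≫ q = τ₂ ≫ q → pt τ = pt τ₂ →
      ∃ g : G, τ ≫ (ρ g).hom = τ₂ := by
    intro τ hτq he
    obtain ⟨⟨x, a⟩, rfl⟩ := (Scheme.SpecToEquivOfField Ω X).symm.surjective τ
    obtain ⟨⟨y, b⟩, rfl⟩ := (Scheme.SpecToEquivOfField Ω X).symm.surjective τ₂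
    have hx : ∀ (z : X) (c : X.residueField z ⟶ CommRingCat.of Ω),
        pt ((Scheme.SpecToEquivOfField Ω X).symm ⟨z, c⟩) = z := fun z c => by
      show (Spec.map c ≫ X.fromSpecResidueField z) _ = z
      rw [Scheme.Hom.comp_apply, Scheme.fromSpecResidueField_apply]
    rw [hx, hx] at he
    subst he
    change (Spec.map a ≫ X.fromSpecResidueField x) ≫ q = (Spec.map b ≫ X.fromSpecResidueField x) ≫ q at hτq
    change ∃ g : G, (Spec.map a ≫ X.fromSpecResidueField x) ≫ (ρ g).hom = Spec.map b ≫ X.fromSpecResidueField x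
    rw [Category.assoc, Category.assoc, ← Scheme.Hom.SpecMap_residueFieldMap_fromSpecResidueField,
      ← Spec.map_comp_assoc, ← Spec.map_comp_assoc, cancel_mono, Spec.map_inj] at hτq
    letI algF : Algebra (S.residueField (q x)) (X.residueField x) := (q.residueFieldMap x).hom.toAlgebra
    letI : Algebra (X.residueField x) Ω := a.hom.toAlgebra
    letI : Algebra (S.residueField (q x)) Ω := (q.residueFieldMap x ≫ a).hom.toAlgebra
    haveI : IsScalarTower (S.residueField (q x)) (X.residueField x) Ω := IsScalarTower.of_algebraMap_eq fun _ => rfl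
    haveI : Normal (S.residueField (q x)) (X.residueField x) := h2 x
    let bA : X.residueField x →ₐ[S.residueField (q x)] Ω :=
      { b.hom with commutes' := fun r => (congr($hτq r)).symm }
    let σ₀ := bA.restrictNormal (X.residueField x)
    have hσ : ∀ r, a (σ₀ r) = b r := fun r => bA.restrictNormal_commutes (X.residueField x) r
    let σ₁ : X.residueField x ≃+* X.residueField x :=
      RingEquiv.ofBijective σ₀ (Algebra.IsAlgebraic.algHom_bijective σ₀)
    let σ : X.residueField x ≅ X.residueField x := σ₁.toCommRingCatIso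
    obtain ⟨g, hg⟩ := h3 x σ (CommRingCat.hom_ext (RingHom.ext fun r => σ₀.commutes r))
    refine ⟨g, ?_⟩
    rw [Category.assoc, hg, ← Spec.map_comp_assoc,
      show σ.hom ≫ a = b from CommRingCat.hom_ext (RingHom.ext hσ)]
  obtain ⟨g, hg⟩ := main (τ₁ ≫ (ρ g₀).hom) (by rw [Category.assoc, hρ, hτ])
    (by show (τ₁ ≫ (ρ g₀).hom) _ = _; rw [Scheme.Hom.comp_apply]; exact hg₀)
  refine ⟨g * g₀, ?_⟩
  rw [map_mul]
  show τ₁ ≫ (ρ g₀).hom ≫ (ρ g).hom = τ₂
  rw [← Category.assoc, hg]

end Groth.Agent.S13741
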