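import Groth.Statements.S13742
import Groth.Agent.L22.Cyc.DropDim
-- import your own Groth.Agent.* helpers here

set_option autoImplicit false
universe u
open Cyc

namespace Groth.Agent.S13742

open CategoryTheory CategoryTheory.Limits AlgebraicGeometry in
/-- Let S be a separated Noetherian scheme, f : X → S separated of finite type, z a point of X mapping
to a generic point of an irreducible component of S, and ι : Z → X a closed immersion from a reduced
scheme with image the closure of z (the closure of z with its reduced structure). Then Z ×_S Spec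
k(f z) is an integral scheme, and its image in the fibre X ×_S Spec k(f z) is the closure of the
unique point w of that fibre lying over z: Z ×_S Spec k(f z) is the closure of z in its fibre, with
reduced structure. -/
theorem result {X S Z : Scheme.{u}} [IsNoetherian S] [S.IsSeparated] [X.IsSeparated] (f : X ⟶ S) [LocallyOfFiniteType f] [QuasiCompact f] (z : X) (hz : closure {f z} ∈ irreducibleComponents ↥S) (ι : Z ⟶ X) [IsClosedImmersion ι] [IsReduced Z] (hZ : Set.range ι = closure {z}) : IsIntegral (pullback (ι ≫ f) (S.fromSpecResidueField (f z))) ∧ ∃ w : ↥(pullback f (S.fromSpecResidueField (f z))), pullback.fst f (S.fromSpecResidueField (f z)) w = z ∧ Set.range (pullback.map (ι ≫ f) (S.fromSpecResidueField (f z)) f (S.fromSpecResidueField (f z)) ι (𝟙 _) (𝟙 S) (Category.comp_id _) ((Category.comp_id _).trans (Category.id_comp _).symm)) = closure {w} := by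
  have hzr : z ∈ Set.range ι := hZ.ge (subset_closure rfl)
  obtain ⟨z0, hz0⟩ := hzr
  have hgen0 : IsGenericPoint z0 Set.univ := Set.eq_univ_of_forall fun y =>
    specializes_iff_mem_closure.1 (ι.isClosedEmbedding.isInducing.specializes_iff.1 (by
      rw [hz0, specializes_iff_mem_closure, ← hZ]; exact ⟨y, rfl⟩))
  haveI : IrreducibleSpace ↥Z :=
    { isPreirreducible_univ := (hgen0 ▸ isIrreducible_singleton.closure :
        IsIrreducible (Set.univ : Set ↥Z)).2
      toNonempty := ⟨z0⟩ }
  haveI : IsIntegral Z := isIntegral_of_irreducibleSpace_of_isReduced Z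
  have e0 : genericPoint ↥Z = z0 := (genericPoint_spec ↥Z).eq hgen0
  have hp0 : (ι ≫ f) (genericPoint ↥Z) = f z := by
    rw [Scheme.Hom.comp_apply, e0, hz0]
  haveI hred : IsReduced ((ι ≫ f).fiber (f z)) := by
    haveI : ∀ a : ↥((ι ≫ f).fiber (f z)),
        _root_.IsReduced (((ι ≫ f).fiber (f z)).presheaf.stalk a) := by
      intro a
      obtain ⟨hs, hk⟩ := Groth.L18.stalkMap_fiberι (ι ≫ f) (f z) a
      let g := ι ≫ f
      let x := g.fiberι (f z) a
      have hgx : g x = g (genericPoint ↥Z) :=
        (Groth.L22.Cyc.fromSpec_fiber_apply g (f z) a).trans hp0.symm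
      have hzero : Ideal.map (g.stalkMap x).hom (IsLocalRing.maximalIdeal _) = ⊥ := by
        refine eq_bot_iff.2 (Ideal.map_le_iff_le_comap.2 fun r hr => ?_)
        rw [Ideal.mem_comap, Ideal.mem_bot]
        refine IsFractionRing.injective (Z.presheaf.stalk x) Z.functionField ?_
        rw [map_zero]
        have key := congrArg (fun q => q.hom r)
          (g.stalkSpecializes_stalkMap (genericPoint ↥Z) x (genericPoint_specializes x))
        simp only [CommRingCat.hom_comp, RingHom.comp_apply] at key
        refine key.symm.trans (by_contra fun hne => ?_)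
        haveI : IsLocalHom (S.presheaf.stalkSpecializes
            ((genericPoint_specializes x).map g.continuous)).hom := by
          have key2 : ∀ (a b : S) (h : a ⤳ b), a = b → IsLocalHom (S.presheaf.stalkSpecializes h).hom := by
            rintro a b h rfl
            rw [TopCat.Presheaf.stalkSpecializes_refl]
            exact ⟨fun _ h => h⟩
          exact key2 _ _ _ hgx.symm
        exact hr (isUnit_of_map_unit _ r (isUnit_of_map_unit _ _ (isUnit_iff_ne_zero.2 hne)))
      rw [hzero] at hk
      exact isReduced_of_injective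
        (RingEquiv.ofBijective ((g.fiberι (f z)).stalkMap a).hom
          ⟨(RingHom.injective_iff_ker_eq_bot _).2 hk, hs⟩).symm.toRingHom
        (RingEquiv.injective _)
    exact isReduced_of_isReduced_stalk _
  obtain ⟨a0, ha0⟩ : genericPoint ↥Z ∈ Set.range ((ι ≫ f).fiberι (f z)) :=
    ((ι ≫ f).range_fiberι _).ge hp0
  have hgen : IsGenericPoint a0 Set.univ := Set.eq_univ_of_forall fun y =>
    specializes_iff_mem_closure.1 (((ι ≫ f).fiberι _).isEmbedding.isInducing.specializes_iff.1
      (ha0 ▸ genericPoint_specializes _))
  haveI : IrreducibleSpace ↥((ι ≫ f).fiber (f z)) :=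
    { isPreirreducible_univ := (hgen ▸ isIrreducible_singleton.closure :
        IsIrreducible (Set.univ : Set ↥((ι ≫ f).fiber (f z)))).2
      toNonempty := ⟨a0⟩ }
  refine ⟨isIntegral_of_irreducibleSpace_of_isReduced ((ι ≫ f).fiber (f z)), ?_⟩
  obtain ⟨w, hw⟩ : z ∈ Set.range (f.fiberι (f z)) := (f.range_fiberι _).ge rfl
  refine ⟨w, hw, ?_⟩
  rw [Scheme.Pullback.range_map]
  have : Set.range (𝟙 (Spec (S.residueField (f z))) : _ ⟶ _) = Set.univ :=
    Set.eq_univ_of_forall fun t => ⟨t, rfl⟩
  rw [this, Set.preimage_univ, Set.inter_univ, hZ]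
  have h := (f.fiberι (f z)).isEmbedding.isInducing.closure_eq_preimage_closure_image {w}
  rw [Set.image_singleton, hw] at h
  exact h.symm

end Groth.Agent.S13742
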