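import Groth.Statements.S13744
import Groth.Agent.L22.Cyc.FiniteDeg
import Groth.Agent.L02.Quot.DvrExt
-- import your own Groth.Agent.* helpers here

set_option autoImplicit false
set_option backward.isDefEq.respectTransparency false
universe u
open Cyc

namespace Groth.Agent.S13744

open CategoryTheory CategoryTheory.Limits AlgebraicGeometry in
/-- Let S be a separated Noetherian scheme, p : X → S separated of finite type, ι : Z → X a closed
immersion with Z integral, R a discrete valuation ring with fraction field K and x : Spec R → S. Let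
φ be the scheme-theoretic image in Z ×_S Spec R of Z ×_S Spec K (the flat closure of the generic
fibre), regarded as a closed subscheme of X ×_S Spec R. Then the cycle of φ (coefficient at t =
length of the local ring of φ above t, an infinite length read as 0) equals the cycle of Z ×_S Spec
K pushed forward along the inclusion X ×_S Spec K → X ×_S Spec R. -/
theorem result {X S Z : Scheme.{u}} [IsNoetherian S] [S.IsSeparated] [X.IsSeparated] (p : X ⟶ S) [LocallyOfFiniteType p] [QuasiCompact p] (ι : Z ⟶ X) [IsClosedImmersion ι] [IsIntegral Z] (R : Type u) [CommRing R] [IsDomain R] [IsDiscreteValuationRing R] (x : Spec (CommRingCat.of R) ⟶ S) (t : ↥(pullback p x)) : Cyc.subschemeFun (fun _ => (0 : ℤ)) 0 ((pullback.map (ι ≫ p) (Spec.map (CommRingCat.ofHom (algebraMap R (FractionRing R))) ≫ x) (ι ≫ p) x (𝟙 Z) (Spec.map (CommRingCat.ofHom (algebraMap R (FractionRing R)))) (𝟙 S) ((Category.comp_id _).trans (Category.id_comp _).symm) (Category.comp_id _)).ker.subschemeι ≫ pullback.map (ι ≫ p) x p x ι (𝟙 _) (𝟙 S) (Category.comp_id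 _) ((Category.comp_id _).trans (Category.id_comp _).symm)) t = ∑ᶠ t' ∈ {t' : ↥(pullback p (Spec.map (CommRingCat.ofHom (algebraMap R (FractionRing R))) ≫ x)) | (pullback.map p (Spec.map (CommRingCat.ofHom (algebraMap R (FractionRing R))) ≫ x) p x (𝟙 X) (Spec.map (CommRingCat.ofHom (algebraMap R (FractionRing R)))) (𝟙 S) ((Category.comp_id _).trans (Category.id_comp _).symm) (Category.comp_id _)) t' = t}, Cyc.subschemeFun (fun _ => (0 : ℤ)) 0 (pullback.map (ι ≫ p) (Spec.map (CommRingCat.ofHom (algebraMap R (FractionRing R))) ≫ x) p (Spec.map (CommRingCat.ofHom (algebraMap R (FractionRing R))) ≫ x) ι (𝟙 _) (𝟙 S) (Category.comp_id _) ((Category.comp_id _).trans (Category.id_comp _).symm)) t' := by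
  classical
  let K := FractionRing R
  let w := Spec.map (CommRingCat.ofHom (algebraMap R K))
  haveI : IsOpenImmersion w := Groth.L02.Quot.DvrExt.isOpenImmersion_generic R
  let m : pullback (ι ≫ p) (w ≫ x) ⟶ pullback (ι ≫ p) x :=
    pullback.map (ι ≫ p) (w ≫ x) (ι ≫ p) x (𝟙 Z) w (𝟙 S)
      ((Category.comp_id _).trans (Category.id_comp _).symm) (Category.comp_id _)
  let g : pullback (ι ≫ p) x ⟶ pullback p x :=
    pullback.map (ι ≫ p) x p x ι (𝟙 _) (𝟙 S) (Category.comp_id _)
      ((Category.comp_id _).trans (Category.id_comp _).symm)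
  let j : pullback p (w ≫ x) ⟶ pullback p x :=
    pullback.map p (w ≫ x) p x (𝟙 X) w (𝟙 S)
      ((Category.comp_id _).trans (Category.id_comp _).symm) (Category.comp_id _)
  let g' : pullback (ι ≫ p) (w ≫ x) ⟶ pullback p (w ≫ x) :=
    pullback.map (ι ≫ p) (w ≫ x) p (w ≫ x) ι (𝟙 _) (𝟙 S) (Category.comp_id _)
      ((Category.comp_id _).trans (Category.id_comp _).symm)
  change Cyc.subschemeFun (fun _ => (0 : ℤ)) 0 (m.imageι ≫ g) t =
    ∑ᶠ t' ∈ {t' | j t' = t}, Cyc.subschemeFun (fun _ => (0 : ℤ)) 0 g' t'
  haveI : IsOpenImmersion m :=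
    MorphismProperty.pullbackMap (P := @IsOpenImmersion) (inferInstanceAs (IsOpenImmersion (𝟙 Z)))
      (inferInstanceAs (IsOpenImmersion w)) (Category.id_comp _).symm rfl
  haveI : IsOpenImmersion j :=
    MorphismProperty.pullbackMap (P := @IsOpenImmersion) (inferInstanceAs (IsOpenImmersion (𝟙 X)))
      (inferInstanceAs (IsOpenImmersion w)) (Category.id_comp _).symm rfl
  haveI : IsClosedImmersion g :=
    MorphismProperty.pullbackMap (P := @IsClosedImmersion) ‹IsClosedImmersion ι›
      (inferInstanceAs (IsClosedImmersion (𝟙 (Spec (CommRingCat.of R))))) rfl (Category.id_comp _).symm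
  haveI : IsNoetherian (pullback (ι ≫ p) x) := by
    haveI : IsLocallyNoetherian (pullback (ι ≫ p) x) :=
      LocallyOfFiniteType.isLocallyNoetherian (pullback.snd (ι ≫ p) x)
    haveI : CompactSpace ↥(pullback (ι ≫ p) x) :=
      QuasiCompact.compactSpace_of_compactSpace (pullback.snd (ι ≫ p) x)
    exact {}
  haveI : QuasiCompact m := inferInstance
  haveI : IsLocallyNoetherian m.image := LocallyOfFiniteType.isLocallyNoetherian m.imageι
  haveI : TopologicalSpace.NoetherianSpace ↥m.image :=
    m.imageι.isClosedEmbedding.isInducing.noetherianSpace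
  let e := m.toImage
  have heι : ∀ b, m.imageι (e b) = m b := fun b => by
    rw [← Scheme.Hom.comp_apply, Scheme.Hom.toImage_imageι]
  have hrange : Set.range e = m.imageι ⁻¹' Set.range m := by
    ext a
    exact ⟨fun ⟨b, hb⟩ => ⟨b, by rw [← hb, heι]⟩, fun ⟨b, hb⟩ =>
      ⟨b, m.imageι.isEmbedding.injective ((heι b).trans hb)⟩⟩
  have hL : ∀ b, Module.length (m.image.presheaf.stalk (e b)) (m.image.presheaf.stalk (e b)) =
      Module.length ((pullback (ι ≫ p) (w ≫ x)).presheaf.stalk b)
        ((pullback (ι ≫ p) (w ≫ x)).presheaf.stalk b) := fun b => by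
    have hbij : Function.Bijective ((e ≫ m.imageι).stalkMap b).hom := by
      have hiso : IsIso ((e ≫ m.imageι).stalkMap b) := by
        have h2 : IsOpenImmersion (e ≫ m.imageι) := by
          rw [Scheme.Hom.toImage_imageι]; infer_instance
        infer_instance
      exact ConcreteCategory.bijective_of_isIso ((e ≫ m.imageι).stalkMap b)
    rw [Scheme.Hom.stalkMap_comp, CommRingCat.hom_comp, RingHom.coe_comp] at hbij
    have hs : Function.Surjective (m.imageι.stalkMap (e b)).hom :=
      m.imageι.stalkMap_surjective (e b)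
    have he : Function.Bijective (e.stalkMap b).hom :=
      ⟨fun u v huv => by
        obtain ⟨u', rfl⟩ := hs u
        obtain ⟨v', rfl⟩ := hs v
        exact congrArg _ (hbij.1 huv), hbij.2.of_comp⟩
    exact Groth.L22.Cyc.length_self_of_ringEquiv (RingEquiv.ofBijective _ he)
  have hsupp : ∀ a : ↥m.image,
      Module.length (m.image.presheaf.stalk a) (m.image.presheaf.stalk a) ≠ ⊤ → a ∈ Set.range e := by
    intro a ha
    haveI : IsFiniteLength (m.image.presheaf.stalk a) (m.image.presheaf.stalk a) :=
      Module.length_ne_top_iff.1 ha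
    haveI : IsArtinianRing (m.image.presheaf.stalk a) :=
      (isFiniteLength_iff_isNoetherian_isArtinian.1 this).2
    have hmax : ∀ a', a' ⤳ a → a' = a := fun a' h => by
      obtain ⟨q, hq⟩ : a' ∈ Set.range (m.image.fromSpecStalk a) := by
        rw [Scheme.range_fromSpecStalk]; exact h
      rw [← hq, show q = IsLocalRing.closedPoint _ from
        PrimeSpectrum.ext (IsLocalRing.eq_maximalIdeal (IsArtinianRing.isMaximal_of_isPrime q.asIdeal)),
        Scheme.fromSpecStalk_closedPoint]
    have hC : closure ({a} : Set ↥m.image) ∈ irreducibleComponents ↥m.image := by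
      refine ⟨isIrreducible_singleton.closure, fun T hT hle => ?_⟩
      obtain ⟨c, hc⟩ := QuasiSober.sober hT.closure isClosed_closure
      have : c = a := hmax c (hc.specializes (subset_closure (hle (subset_closure rfl))))
      subst this
      exact subset_closure.trans hc.def.ge
    obtain ⟨U, hUo, hUne, hUC⟩ :=
      TopologicalSpace.NoetherianSpace.exists_isOpen_nonempty_subset_irreducibleComponent _ hC
    obtain ⟨_, hbU, b, rfl⟩ := (m.toImage.denseRange).inter_open_nonempty U hUo
      hUne
    exact (hrange ▸ (m.opensRange.2.preimage m.imageι.continuous) : IsOpen (Set.range e)).stableUnderGeneralization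
      (specializes_iff_mem_closure.2 (hUC hbU)) ⟨b, rfl⟩
  let L : ↥m.image → ℤ := fun a =>
    ((Module.length (m.image.presheaf.stalk a) (m.image.presheaf.stalk a)).toNat : ℤ)
  have heinj : Function.Injective e := fun u v huv =>
    m.isEmbedding.injective (by rw [← heι, ← heι, huv])
  have hsq : ∀ b, g (m b) = j (g' b) := fun b => by
    have : m ≫ g = g' ≫ j := by
      apply pullback.hom_ext <;> simp [m, g, j, g']
    rw [← Scheme.Hom.comp_apply, ← Scheme.Hom.comp_apply, this]
  rw [Cyc.subschemeFun, if_pos rfl]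
  change (∑ᶠ a ∈ {a : ↥m.image | (m.imageι ≫ g) a = t}, L a) = _
  have h1 : (∑ᶠ a ∈ {a : ↥m.image | (m.imageι ≫ g) a = t}, L a) =
      ∑ᶠ b ∈ {b | j (g' b) = t}, L (e b) := by
    refine Eq.trans ?_ (finsum_mem_image heinj.injOn)
    refine finsum_mem_inter_support_eq' _ _ _ fun a ha => ⟨fun h => ?_, ?_⟩
    · obtain ⟨b, rfl⟩ := hsupp a fun htop => ha (by simp only [L, htop]; rfl)
      refine ⟨b, ?_, rfl⟩
      rw [Set.mem_setOf_eq, Scheme.Hom.comp_apply, heι, hsq] at h
      exact h
    · rintro ⟨b, hb, rfl⟩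
      rw [Set.mem_setOf_eq, Scheme.Hom.comp_apply, heι, hsq]
      exact hb
  rw [h1]
  by_cases ht : ∃ t', j t' = t
  · obtain ⟨t', rfl⟩ := ht
    rw [show {t'' | j t'' = j t'} = {t'} from Set.ext fun u =>
      ⟨fun h => j.isOpenEmbedding.injective h, fun h => congrArg _ h⟩, finsum_mem_singleton,
      Cyc.subschemeFun, if_pos rfl]
    refine finsum_mem_congr (Set.ext fun b =>
      ⟨fun h => j.isOpenEmbedding.injective h, fun h => congrArg _ h⟩) fun b _ => ?_
    simp only [L, hL]
  · rw [show {t'' | j t'' = t} = (∅ : Set _) from Set.eq_empty_of_forall_notMem fun u hu => ht ⟨u, hu⟩,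
      finsum_mem_empty, show {b | j (g' b) = t} = (∅ : Set _) from
      Set.eq_empty_of_forall_notMem fun b hb => ht ⟨_, hb⟩, finsum_mem_empty]

end Groth.Agent.S13744
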