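import Groth.Statements.S13750
import Groth.Agent.L05.NbhdLimit.LocalExt
-- import your own Groth.Agent.* helpers here

set_option autoImplicit false
universe u
open CategoryTheory AlgebraicGeometry
open Neron

namespace Groth.Agent.S13750

/-- Let S be a locally Noetherian scheme, U ⊆ S an open subscheme and N → S a smooth separated morphism
of finite type having the Néron mapping property with respect to U: for every smooth S-scheme Y,
restriction to U is a bijection from S-morphisms Y → N onto U-morphisms Y ×_S U → N ×_S U. Let s be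
a point of S and S̃ = Spec O_{S,s} → S the canonical morphism. Then N ×_S S̃ → S̃ has the Néron
mapping property with respect to the preimage Ũ of U: for every smooth S̃-scheme Ỹ, restriction to Ũ
is a bijection from S̃-morphisms Ỹ → N ×_S S̃ onto Ũ-morphisms. (The published statement is for N an
algebraic space which is a Néron model of an abelian scheme over U and also covers the strict
henselisation at a geometric point; this row is the localisation case for a scheme N, with no
abelian-scheme hypothesis.) -/
theorem result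
    {S : Scheme.{u}} [IsLocallyNoetherian S] (U : S.Opens)
    (N : Over S) [Smooth N.hom] [IsSeparated N.hom] [QuasiCompact N.hom]
    (hN : ∀ Y : Over S, Smooth Y.hom →
      Function.Bijective (fun f : Y ⟶ N => (Over.pullback U.ι).map f))
    (s : S) (Y' : Over (Spec (S.presheaf.stalk s))) [Smooth Y'.hom] :
    Function.Bijective (fun f : Y' ⟶ (Over.pullback (S.fromSpecStalk s)).obj N =>
      (Over.pullback ((S.fromSpecStalk s) ⁻¹ᵁ U).ι).map f) := by
  refine Groth.Agent.NeronL.bijective_baseChange U.ι (S.fromSpecStalk s)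
    (isPullback_morphismRestrict (S.fromSpecStalk s) U) Y' ?_
  rw [Groth.L05.NbhdLimit.bijective_iff_ext1]
  refine Groth.L05.NbhdLimit.ext1_of_affineOpens _ fun W => ?_
  obtain ⟨V, hV, hsV, -⟩ := exists_isAffineOpen_mem_and_subset (x := s) (U := ⊤) trivial
  haveI : IsNoetherianRing Γ(S, V) := IsLocallyNoetherian.component_noetherian ⟨V, hV⟩
  letI alg : Algebra Γ(S, V) (S.presheaf.stalk s) := (S.presheaf.germ V s hsV).hom.toAlgebra
  haveI hloc : IsLocalization.AtPrime (S.presheaf.stalk s) (hV.primeIdealOf ⟨s, hsV⟩).asIdeal :=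
    hV.isLocalization_stalk ⟨s, hsV⟩
  haveI : LocallyOfFinitePresentation N.hom := inferInstance
  haveI : IsAffine (W.1 : Scheme.{u}) := W.2
  haveI hsm : Smooth (W.1.ι ≫ Y'.hom) := inferInstance
  have key := @Groth.L05.NbhdLimit.ext1_of_affine Γ(S, V) _ _ (hV.primeIdealOf ⟨s, hsV⟩).asIdeal _
    (S.presheaf.stalk s) _ alg hloc S N.left N.hom hV.fromSpec _ _ U
    (fun {Y} h hh => (Groth.L05.NbhdLimit.bijective_iff_ext1 (Over.mk h) N).1 (hN (Over.mk h) hh))
    (W.1 : Scheme.{u}) W.2 (W.1.ι ≫ Y'.hom) hsm
  have e : (W.1.ι ≫ Y'.hom) ≫ Spec.map (CommRingCat.ofHom (algebraMap Γ(S, V) (S.presheaf.stalk s))) ≫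
      hV.fromSpec = W.1.ι ≫ Y'.hom ≫ S.fromSpecStalk s := by
    rw [Category.assoc, ← IsAffineOpen.fromSpecStalk_eq_fromSpecStalk hV hsV]
    rfl
  exact e ▸ key

end Groth.Agent.S13750
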