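import Groth.Agent.L18.RatPoint.Main
import Groth.Statements.S13751
-- import your own Groth.Agent.* helpers here

set_option autoImplicit false
universe u
open CategoryTheory CategoryTheory.Limits AlgebraicGeometry MonObj
open Neron

namespace Groth.Agent.S13751

/-- Let S be a locally Noetherian scheme all of whose local rings are regular, let U ⊆ S be a dense open
subscheme and let A → S be an abelian scheme: a proper smooth group scheme over S whose geometric
fibres are connected. Then A is a Néron model of its restriction A ×_S U over S, in the sense that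
for every smooth S-scheme Y the restriction map from S-morphisms Y → A to U-morphisms Y ×_S U → A
×_S U is a bijection. (The published statement is for an abelian algebraic space over a regular base
and does not ask U to be dense; for U empty and A of positive relative dimension the identity and
the zero map of A both restrict to the empty morphism, so uniqueness fails, and the published
uniqueness argument uses density — this row takes A a scheme and U dense.) -/
theorem result
    {S : Scheme.{u}} [IsLocallyNoetherian S] (hreg : ∀ s : S, IsRegularLocalRing (S.presheaf.stalk s))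
    (U : S.Opens) (hU : Dense (U : Set S))
    (A : Over S) [GrpObj A] [IsProper A.hom] [Smooth A.hom]
    (hconn : ∀ (L : Type u) [Field L] (t : Spec (CommRingCat.of L) ⟶ S), ConnectedSpace ↑(pullback A.hom t))
    (Y : Over S) [Smooth Y.hom] :
    Function.Bijective (fun f : Y ⟶ A => (Over.pullback U.ι).map f) := by
  haveI hsY : ∀ y : Y.left, IsRegularLocalRing (Y.left.presheaf.stalk y) := fun y => by
    obtain ⟨_, ⟨W, hW, rfl⟩, hyW, -⟩ :=
      S.isBasis_affineOpens.exists_subset_of_mem_open (Set.mem_univ (Y.hom y)) isOpen_univ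
    haveI : IsNoetherianRing Γ(S, W) := IsLocallyNoetherian.component_noetherian ⟨W, hW⟩
    haveI : IsRegularRing Γ(S, W) := isRegularRing_iff.2 fun p hp => by
      have hmem : hW.fromSpec ⟨p, hp⟩ ∈ W := (hW.isoSpec.inv _).2
      letI := S.presheaf.algebra_section_stalk ⟨hW.fromSpec ⟨p, hp⟩, hmem⟩
      haveI := hW.isLocalization_stalk' ⟨p, hp⟩ hmem
      haveI := hreg (hW.fromSpec ⟨p, hp⟩)
      exact IsRegularLocalRing.of_ringEquiv (R := S.presheaf.stalk (hW.fromSpec ⟨p, hp⟩))
        (@IsLocalization.algEquiv _ _ p.primeCompl _ _ _ (hW.isLocalization_stalk' ⟨p, hp⟩ hmem) (Localization.AtPrime p) _ _ _).toRingEquiv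
    let q : (Y.hom ⁻¹ᵁ W : Scheme.{u}) ⟶ Spec (CommRingCat.of Γ(S, W)) := (Y.hom ∣_ W) ≫ hW.isoSpec.hom
    haveI : Smooth (Y.hom ∣_ W) := IsZariskiLocalAtTarget.restrict ‹Smooth Y.hom› W
    haveI : Smooth q := inferInstance
    haveI := Groth.L26.Weil.regular_stalk q ⟨y, hyW⟩
    exact IsRegularLocalRing.of_ringEquiv
      ((Y.hom ⁻¹ᵁ W).stalkIso ⟨y, hyW⟩).commRingCatIsoToRingEquiv
  haveI : IsLocallyNoetherian Y.left := LocallyOfFiniteType.isLocallyNoetherian Y.hom
  haveI : IsReduced Y.left := Groth.L26.Weil.isReduced_of_regular_stalks hsY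
  let V : Y.left.Opens := Y.hom ⁻¹ᵁ U
  have hV : Dense (V : Set Y.left) := Groth.L26.Weil.dense_preimage Y.hom hU
  haveI : GrpObj (Over.mk A.hom) := ‹GrpObj A›
  let c : (V : Scheme.{u}) ≅ pullback Y.hom U.ι :=
    IsOpenImmersion.isoOfRangeEq V.ι (pullback.fst Y.hom U.ι) (by
      rw [Scheme.Pullback.range_fst, Scheme.Opens.range_ι, Scheme.Opens.range_ι]
      rfl)
  have hc : c.hom ≫ pullback.fst Y.hom U.ι = V.ι := IsOpenImmersion.isoOfRangeEq_hom_fac _ _ _
  constructor
  · intro f f' hff
    have h := congrArg (fun φ => c.hom ≫ CommaMorphism.left φ ≫ pullback.fst A.hom U.ι) hff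
    simp only [Over.pullback_map_left, pullback.lift_fst, reassoc_of% hc] at h
    exact Over.OverMorphism.ext (Groth.L26.Weil.ext_dense A.hom ((Over.w f).trans (Over.w f').symm) hV h)
  · intro φ
    let g : (V : Scheme.{u}) ⟶ A.left := c.hom ≫ φ.left ≫ pullback.fst A.hom U.ι
    have hφw : φ.left ≫ pullback.snd A.hom U.ι = pullback.snd Y.hom U.ι := Over.w φ
    have hg : g ≫ A.hom = V.ι ≫ Y.hom := by
      rw [← hc, Category.assoc, Category.assoc, Category.assoc, pullback.condition, reassoc_of% hφw,
        ← pullback.condition]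
    haveI : IsProper (pullback.snd A.hom Y.hom) := MorphismProperty.pullback_snd (P := @IsProper) _ _ inferInstance
    have hno := (Groth.L18.RatPoint.noRat_group A.hom).pullback Y.hom
    obtain ⟨F, ⟨hF, hFg⟩, -⟩ := Groth.L26.Weil.existsUnique_extension Y.hom A.hom V hV g hg fun y => by
      obtain ⟨W, h, hyW, hh, hh'⟩ := Groth.L18.RatPoint.exists_extension_at (pullback.snd A.hom Y.hom) hno V hV
        (pullback.lift g V.ι hg) (pullback.lift_snd _ _ _) y
      refine ⟨W, h ≫ pullback.fst A.hom Y.hom, hyW, by rw [Category.assoc, pullback.condition, reassoc_of% hh], ?_⟩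
      have h2 := congrArg (fun ψ => Y.left.homOfLE (le_inf inf_le_right inf_le_left : V ⊓ W ≤ W ⊓ V) ≫ ψ ≫
        pullback.fst A.hom Y.hom) hh'
      simpa only [Category.assoc, Scheme.homOfLE_homOfLE_assoc, pullback.lift_fst] using h2
    refine ⟨Over.homMk F hF, Over.OverMorphism.ext ?_⟩
    simp only [Over.pullback_map_left, Over.homMk_left]
    refine pullback.hom_ext ?_ ?_
    · rw [pullback.lift_fst, ← cancel_epi c.hom, reassoc_of% hc, hFg]
    · rw [pullback.lift_snd, hφw]

end Groth.Agent.S13751
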