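import Groth.Statements.S13757
import Groth.Agent.L15.BlowUp
import Mathlib.Tactic.Ring
import Mathlib.Tactic.LinearCombination
import Mathlib.Tactic.FieldSimp
import Mathlib.Algebra.BigOperators.Ring.Finset

set_option autoImplicit false
universe u
open LabGraph

namespace Groth.Agent.S13757

/-- Let G be a finite connected multigraph (loops and multiple edges allowed) with vertex set V, edge
set E, endpoint map E → V × V and a labelling of the edges by positive integers l. A vertex
labelling φ : V → ℤ is Cartier when l(e) divides the difference of the values of φ at the two
endpoints of every edge e; its multidegree is the vertex labelling whose value at v is the sum, over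
the edge-ends at v, of (value of φ at the other endpoint − φ(v)) / l(e). Then the Cartier vertex
labellings of multidegree zero are exactly the constant ones: the kernel of the multidegree operator
on Cartier labellings is ℤ, embedded as the constants. -/
theorem result
    {V E : Type u} [Fintype V] [Fintype E] [DecidableEq V] [DecidableEq E]
    (ends : E → V × V) (l : E → ℕ) (hl : ∀ e, 0 < l e) (hconn : LabGraph.Connected ends)
    (φ : V → ℤ) (hφ : LabGraph.IsCartier ends l φ) :
    (∀ v : V, LabGraph.mdeg ends l φ v = 0) ↔ ∀ v w : V, φ v = φ w := by
  exact Groth.L15.Cycles.mdeg_eq_zero_iff hl hconn hφ

end Groth.Agent.S13757
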