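import Groth.Statements.S13759
import Groth.Agent.L15.BlowUp
import Mathlib.Tactic.Ring
import Mathlib.Tactic.LinearCombination
import Mathlib.Tactic.FieldSimp
import Mathlib.Algebra.BigOperators.Ring.Finset

set_option autoImplicit false
universe u
open LabGraph

namespace Groth.Agent.S13759

/-- Let G be a finite connected multigraph with vertex set V, edge set E, endpoint map E → V × V and
positive integer edge labels l, and let G̃ be its total blow-up graph: every edge e is replaced by a
path of l(e) edges through l(e) − 1 new vertices, all new edges labelled 1 (so every vertex
labelling of G̃ is Cartier and its multidegree is the sum over edge-ends of the differences of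
values). Let H, resp. H̃, be the cokernel of the multidegree operator from Cartier vertex labellings
of G to ℤ^V, resp. of G̃ to ℤ^Ṽ, and ε : H → H̃ the map induced by extending vertex labellings of G
by zero on the new vertices. Then ε is injective: if a vertex labelling α of G, extended by zero, is
the multidegree of some vertex labelling of G̃, then α is the multidegree of some Cartier vertex
labelling of G. -/
theorem result
    {V E : Type u} [Fintype V] [Fintype E] [DecidableEq V] [DecidableEq E]
    (ends : E → V × V) (l : E → ℕ) (hl : ∀ e, 0 < l e) (hconn : LabGraph.Connected ends)
    (α : V → ℤ) (ψ : LabGraph.BlVert V E l → ℤ)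
    (hψ : ∀ w : LabGraph.BlVert V E l,
      LabGraph.mdeg (LabGraph.blEnds ends l) (fun _ => 1) ψ w = Sum.elim α (fun _ => (0 : ℤ)) w) :
    ∃ φ : V → ℤ, LabGraph.IsCartier ends l φ ∧ ∀ v : V, LabGraph.mdeg ends l φ v = α v := by
  exact Groth.L15.Cycles.exists_cartier_of_harmonic hl hψ

end Groth.Agent.S13759
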