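import Groth.Statements.S1376
import Groth.Agent.L19.Approx.Zmt
import Groth.Agent.L17.Approx.Extend

set_option autoImplicit false
universe u
open FlatMor

namespace Groth.Agent.S1376

open AlgebraicGeometry CategoryTheory Limits in
/-- Let S be quasi-compact and quasi-separated, U a quasi-compact open of S and V → U a surjective
finite morphism. Then there is a surjective finite morphism V' → S whose base change to U is V (V is
the fibre product of V' and U over S). -/
theorem result {S V : Scheme.{u}} [CompactSpace ↑S] [QuasiSeparatedSpace ↑S] (U : S.Opens) (hU : IsCompact (U : Set ↑S))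
    (v : V ⟶ (U : Scheme.{u})) [IsFinite v] [Surjective v] :
    ∃ (V' : Scheme.{u}) (π : V' ⟶ S) (i : V ⟶ V'), Surjective π ∧ IsFinite π ∧ IsPullback i v π U.ι := by
  haveI : QuasiCompact U.ι := Groth.L17.Approx.quasiCompact_ι U hU
  haveI : QuasiCompact (v ≫ U.ι) := inferInstance
  obtain ⟨T, j, q, hjo, hjc, hq, hjq⟩ := Groth.L19.Approx.exists_openImmersion_finite (v ≫ U.ι)
  haveI := hjo
  haveI := hjc
  haveI := hq
  let Z : TopologicalSpace.Closeds S := ⟨(U : Set S)ᶜ, U.isOpen.isClosed_compl⟩
  let W : Scheme.{u} := (Scheme.IdealSheafData.vanishingIdeal Z).subscheme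
  let w : W ⟶ S := (Scheme.IdealSheafData.vanishingIdeal Z).subschemeι
  have hw : Set.range w = (U : Set S)ᶜ := by
    rw [Scheme.IdealSheafData.range_subschemeι, Scheme.IdealSheafData.coe_support_vanishingIdeal]
    rfl
  let π₁ : j.image ⟶ S := j.imageι ≫ q
  have hπ₁ : j.toImage ≫ π₁ = v ≫ U.ι := by
    simp only [π₁]; rw [Scheme.Hom.toImage_imageι_assoc, hjq]
  refine ⟨j.image ⨿ W, coprod.desc π₁ w, j.toImage ≫ coprod.inl, ?_, inferInstance, ?_⟩
  · refine ⟨fun s => ?_⟩
    by_cases hs : s ∈ U
    · obtain ⟨x, hx⟩ := v.surjective ⟨s, hs⟩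
      refine ⟨(coprod.inl : j.image ⟶ j.image ⨿ W) (j.toImage x), ?_⟩
      rw [← Scheme.Hom.comp_apply, coprod.inl_desc, ← Scheme.Hom.comp_apply, hπ₁,
        Scheme.Hom.comp_apply, hx]
      rfl
    · obtain ⟨x, hx⟩ := hw.ge (show s ∈ (U : Set S)ᶜ from hs)
      refine ⟨(coprod.inr : W ⟶ j.image ⨿ W) x, ?_⟩
      rw [← Scheme.Hom.comp_apply, coprod.inr_desc, hx]
  · refine (IsOpenImmersion.isPullback v _ _ _ (by rw [Category.assoc, coprod.inl_desc, hπ₁]) ?_).flip
    rw [Scheme.Opens.opensRange_ι]
    apply TopologicalSpace.Opens.ext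
    ext z
    constructor
    · intro hz
      replace hz : coprod.desc π₁ w z ∈ U := hz
      obtain ⟨t | t, rfl⟩ := (coprodMk j.image W).surjective z
      · rw [coprodMk_inl, ← Scheme.Hom.comp_apply, coprod.inl_desc] at hz
        rw [coprodMk_inl]
        have hmem : j.imageι t ∈ Set.range j := by
          have hc : j.imageι t ∈ closure (Set.range j) := by
            have h : j.imageι t ∈ Set.range j.imageι := ⟨t, rfl⟩
            rw [show Set.range j.imageι = _ from Scheme.IdealSheafData.range_subschemeι _] at h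
            rw [Scheme.Hom.support_ker] at h
            exact h
          -- `range j` is closed inside `q ⁻¹ U`
          let k : V ⟶ (q ⁻¹ᵁ U : T.Opens) := IsOpenImmersion.lift (q ⁻¹ᵁ U).ι j (by
            rw [Scheme.Opens.range_ι]
            rintro _ ⟨x, rfl⟩
            show q (j x) ∈ U
            rw [← Scheme.Hom.comp_apply, hjq, Scheme.Hom.comp_apply]
            exact (v x).2)
          have hk : k ≫ (q ⁻¹ᵁ U).ι = j := IsOpenImmersion.lift_fac _ _ _
          haveI : IsFinite (k ≫ (q ∣_ U)) := by
            have : k ≫ (q ∣_ U) = v := by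
              rw [← cancel_mono U.ι, Category.assoc, morphismRestrict_ι, ← Category.assoc, hk, hjq]
            rw [this]; infer_instance
          haveI : IsFinite k := IsFinite.of_comp k (q ∣_ U)
          have hcl : IsClosed (Set.range k) := k.isClosedMap.isClosed_range
          have hr : Set.range k = (q ⁻¹ᵁ U).ι ⁻¹' Set.range j := by
            ext a
            constructor
            · rintro ⟨x, rfl⟩
              exact ⟨x, by rw [← Scheme.Hom.comp_apply, hk]⟩
            · rintro ⟨x, hx⟩
              exact ⟨x, (q ⁻¹ᵁ U).ι.isOpenEmbedding.injective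
                (by rw [← Scheme.Hom.comp_apply, hk, hx])⟩
          let a : ((q ⁻¹ᵁ U : T.Opens) : Scheme.{u}) := ⟨j.imageι t, hz⟩
          have hmem' : a ∈ closure (Set.range k) := by
            rw [hr, ← (q ⁻¹ᵁ U).ι.isOpenEmbedding.isOpenMap.preimage_closure_eq_closure_preimage
              (q ⁻¹ᵁ U).ι.continuous]
            exact hc
          rw [hcl.closure_eq, hr] at hmem'
          exact hmem'
        obtain ⟨x, hx⟩ := hmem
        refine ⟨x, ?_⟩
        have : j.toImage x = t := j.imageι.isEmbedding.injective (by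
          rw [← Scheme.Hom.comp_apply, Scheme.Hom.toImage_imageι, hx])
        rw [Scheme.Hom.comp_apply, this]
      · rw [coprodMk_inr, ← Scheme.Hom.comp_apply, coprod.inr_desc] at hz
        exact absurd hz (hw.le ⟨t, rfl⟩)
    · rintro ⟨x, rfl⟩
      show coprod.desc π₁ w _ ∈ U
      rw [← Scheme.Hom.comp_apply, Category.assoc, coprod.inl_desc, hπ₁, Scheme.Hom.comp_apply]
      exact (v x).2
end Groth.Agent.S1376
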