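import Groth.Statements.S13763
import Groth.Agent.L07.PrinParts.GrBaseChange
import Groth.Agent.L19.OmegaSh.GroupScheme
import Groth.Agent.L21.Bundle.Calc
import Groth.Agent.L15.OmegaCoh
import Groth.Agent.L19.LimMod.Zero

set_option linter.style.haveILetI false
set_option backward.isDefEq.respectTransparency false
set_option backward.isDefEq.respectTransparency.types false

set_option autoImplicit false
universe u
open CategoryTheory CategoryTheory.Limits MonoidalCategory CartesianMonoidalCategory MonObj GrpObj AlgebraicGeometry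
open CanPar

namespace Groth.Agent.S13763

/-- Pullback of a conormal module onto the one of the base change. -/
theorem exists_conormal_epi {X Y X₁ Y₁ : Scheme.{u}} {f : X ⟶ Y} {f₁ : X₁ ⟶ Y₁} {φ : Y₁ ⟶ Y} {ψ : X₁ ⟶ X}
    [IsClosedImmersion f] (hsq : IsPullback f₁ ψ φ f) :
    ∃ q : (Scheme.Modules.pullback ψ).obj (Omega.conormal f) ⟶ Omega.conormal f₁, Epi q := by
  obtain ⟨α, -, hα, -⟩ := Groth.L07.PrinParts.exists_idealMap φ f.ker f₁.ker (by
    rw [← hsq.isoPullback_hom_fst, Scheme.Hom.ker_comp_of_isIso, Scheme.IdealSheafData.ker_fst_of_isClosedImmersion])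
  haveI := hα
  haveI : (Scheme.Modules.pullback f₁).IsLeftAdjoint :=
    (Scheme.Modules.pullbackPushforwardAdjunction f₁).isLeftAdjoint
  exact ⟨((Scheme.Modules.pullbackComp ψ f).app _ ≪≫ (Scheme.Modules.pullbackCongr hsq.w.symm).app _ ≪≫
    ((Scheme.Modules.pullbackComp f₁ φ).app _).symm).hom ≫ (Scheme.Modules.pullback f₁).map α, epi_comp _ _⟩

open MonObj in
theorem omega_iso_conormal {S : Scheme.{u}} (G : Over S) [GrpObj G] [QuasiSeparated G.hom] :
    Nonempty (LieS.omega G ≅ Omega.conormal η[G].left) := by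
  obtain ⟨e⟩ := Groth.L19.OmegaSh.omega_iso_pullback_conormal G
  have hη : η[G].left ≫ G.hom = 𝟙 S := by
    have h := Over.w η[G]
    exact h
  exact ⟨(Scheme.Modules.pullback η[G].left).mapIso e ≪≫
    (Scheme.Modules.pullbackComp η[G].left G.hom).app _ ≪≫
    (Scheme.Modules.pullbackCongr hη).app _ ≪≫ (Scheme.Modules.pullbackId S).app _⟩

open MonObj in
theorem exists_epi_omega {S : Scheme.{u}} (G P : Over S) [GrpObj G] [GrpObj P] [IsSeparated G.hom]
    (i : P ⟶ G) [IsMonHom i] [IsClosedImmersion i.left] :
    ∃ q : LieS.omega G ⟶ LieS.omega P, Epi q := by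
  haveI : IsSeparated P.hom := by rw [← Over.w i]; infer_instance
  have hηG : η[G].left ≫ G.hom = 𝟙 S := Over.w η[G]
  haveI : IsClosedImmersion η[G].left := by
    haveI : IsClosedImmersion (η[G].left ≫ G.hom) := by rw [hηG]; exact inferInstanceAs (IsClosedImmersion (𝟙 S))
    exact IsClosedImmersion.of_comp η[G].left G.hom
  have hw : η[P].left ≫ i.left = 𝟙 S ≫ η[G].left := by
    rw [Category.id_comp, ← Over.comp_left, IsMonHom.one_hom]
  have hsq : IsPullback η[P].left (𝟙 S) i.left η[G].left :=
    ⟨⟨hw⟩, ⟨PullbackCone.IsLimit.mk hw (fun c => c.snd)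
      (fun c => by
        rw [← cancel_mono i.left, Category.assoc, hw, Category.id_comp]
        exact c.condition.symm)
      (fun c => Category.comp_id _) (fun c m _ h₂ => by rw [← h₂]; exact (Category.comp_id m).symm)⟩⟩
  obtain ⟨q, hq⟩ := exists_conormal_epi hsq
  obtain ⟨a⟩ := omega_iso_conormal G
  obtain ⟨b⟩ := omega_iso_conormal P
  haveI := hq
  exact ⟨a.hom ≫ ((Scheme.Modules.pullbackId S).app _).inv ≫ q ≫ b.inv, inferInstance⟩

/-- Let X be a smooth proper geometrically connected curve over a field k and G a reductive group scheme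
over X. Then there is an integer M such that every parabolic subgroup P of G has degree at most M.
Here the degree of P means the degree of its Lie algebra, a vector bundle on X; it is written as
minus the degree of the module of invariant differentials e^*Ω_{P/X}, which for P smooth over X is
locally free (of the rank n quantified below) and dual to the Lie algebra bundle. -/
theorem result (k : Type u) [Field k] (X : Scheme.{u}) [X.Over (Spec (CommRingCat.of k))]
    [IsIntegral X] [IsProper (X ↘ Spec (CommRingCat.of k))] [Smooth (X ↘ Spec (CommRingCat.of k))]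
    [GeometricallyConnected (X ↘ Spec (CommRingCat.of k))] (hdim : topologicalKrullDim X = 1)
    (G : Over X) [GrpObj G] (hG : Red.IsReductive G) :
    ∃ M : ℤ, ∀ (P : Over X) [GrpObj P] (i : P ⟶ G), Red.IsParabolic i →
      ∀ n : ℕ, FlatMod.IsFinLocFreeOfRank n (LieS.omega P) →
        -Curv2.deg k X (LieS.omega P) n ≤ M := by
  haveI : IsLocallyNoetherian X := LocallyOfFiniteType.isLocallyNoetherian (X ↘ Spec (CommRingCat.of k))
  have hd := hdim.le
  haveI : IsAffineHom G.hom := hG.1
  haveI : Smooth G.hom := hG.2.1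
  have hcG : Coh.IsCoh (LieS.omega G) :=
    Groth.L19.LimMod.isCoh_pullback' _ (Groth.L15.OmegaCoh.isCoh_omega G.hom)
  open Groth.L21.Bundle in obtain ⟨N, hN⟩ := exists_dg_bound k hd hcG
  open Groth.L21.Bundle in refine ⟨N - dg k (LieS.omega G), fun P _ i hi n hn => ?_⟩
  haveI := hi.1
  haveI := hi.2.1
  obtain ⟨q, hq⟩ := exists_epi_omega G P i
  haveI := hq
  have hcP := Groth.L21.Bundle.isCoh_of_rank hn
  have h1 := (Groth.L21.Bundle.add_kernel k hd q hcG hcP).2
  have h2 := hN _ (kernel.ι q) inferInstance (Groth.L21.Bundle.coh_kernel hcG hcP q)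
  rw [Groth.L21.Bundle.dg_eq k hn]
  omega

end Groth.Agent.S13763
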