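import Groth.Statements.S1377
import Mathlib.AlgebraicGeometry.Normalization
import Mathlib.AlgebraicGeometry.IdealSheaf.Subscheme
import Mathlib.AlgebraicGeometry.Morphisms.Integral
import Mathlib.AlgebraicGeometry.Morphisms.Smooth

set_option autoImplicit false
universe u
open FlatMor

set_option linter.style.haveILetI false
set_option backward.isDefEq.respectTransparency false

namespace Groth.Agent.S1377

open AlgebraicGeometry CategoryTheory Limits in
/-- Let S be a scheme, U ⊆ S an open subscheme whose inclusion U → S is quasi-compact (U retrocompact in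
S), and V → U a surjective integral morphism. Then there are a scheme V' and a surjective integral
morphism V' → S whose base change to U is V → U. (The published statement puts no condition on U,
and in that generality it is false: e.g. S = Spec ∏_i ℤ/4^i with U = D(2) ∪ ⋃_i D(e_i), e_i the
idempotents, and V equal to U except that over D(2) it is cut out by x = (2^i)_i. Stated here with U
→ S quasi-compact, under which hypothesis the published argument applies.) -/
theorem result {S V : Scheme.{u}} (U : S.Opens) [QuasiCompact U.ι]
    (v : V ⟶ (U : Scheme.{u})) [IsIntegralHom v] [Surjective v] :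
    ∃ (V' : Scheme.{u}) (π : V' ⟶ S) (i : V ⟶ V'), Surjective π ∧ IsIntegralHom π ∧ IsPullback i v π U.ι := by
  haveI : QuasiSeparated U.ι := inferInstance
  let f : V ⟶ S := v ≫ U.ι
  let N := f.normalization
  haveI : IsIso (pullback.fst v (𝟙 (U : Scheme.{u}))) := inferInstance
  let r : pullback f U.ι ⟶ V := pullback.fst f U.ι
  have hr : IsPullback (𝟙 V) v f U.ι := IsPullback.of_horiz_isIso_mono ⟨by simp [f]⟩
  haveI : IsIso (pullback.snd f U.ι).toNormalization := by
    haveI : IsIntegralHom (pullback.snd f U.ι) := by
      rw [← hr.isoPullback_inv_snd]; infer_instance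
    infer_instance
  let e : V ≅ pullback f.fromNormalization U.ι :=
    hr.isoPullback ≪≫ asIso (pullback.snd f U.ι).toNormalization ≪≫ asIso (f.normalizationPullback U.ι)
  have he : e.hom ≫ pullback.snd _ _ = v := by simp [e]
  let Z := Scheme.IdealSheafData.vanishingIdeal ⟨(U : Set S)ᶜ, U.2.isClosed_compl⟩
  have hZ : Set.range Z.subschemeι = (U : Set S)ᶜ := by
    rw [Z.range_subschemeι]; rfl
  let π : f.normalization ⨿ Z.subscheme ⟶ S := coprod.desc f.fromNormalization Z.subschemeι
  refine ⟨_, π, e.hom ≫ pullback.fst _ _ ≫ coprod.inl, ⟨fun s => ?_⟩, inferInstance, ?_⟩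
  · by_cases hs : s ∈ U
    · obtain ⟨x, hx⟩ := v.surjective ⟨s, hs⟩
      refine ⟨(coprod.inl : f.normalization ⟶ f.normalization ⨿ Z.subscheme) (f.toNormalization x), ?_⟩
      rw [← Scheme.Hom.comp_apply, coprod.inl_desc, ← Scheme.Hom.comp_apply,
        Scheme.Hom.toNormalization_fromNormalization, Scheme.Hom.comp_apply, hx]
      rfl
    · obtain ⟨z, hz⟩ := (show s ∈ Set.range Z.subschemeι from hZ ▸ hs)
      refine ⟨(coprod.inr : Z.subscheme ⟶ f.normalization ⨿ Z.subscheme) z, ?_⟩
      rw [← Scheme.Hom.comp_apply, coprod.inr_desc]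
      exact hz
  · refine (IsOpenImmersion.isPullback v (e.hom ≫ pullback.fst _ _ ≫ coprod.inl) U.ι π ?_ ?_).flip
    · simp only [π, Category.assoc, coprod.inl_desc, pullback.condition]
      rw [← Category.assoc, he]
    · apply TopologicalSpace.Opens.ext
      rw [Scheme.Opens.opensRange_ι, Scheme.Hom.coe_opensRange]
      ext p
      constructor
      · intro hp
        obtain ⟨q, rfl⟩ := (coprodMk _ _).surjective p
        rcases q with q | q
        · rw [coprodMk_inl] at hp ⊢
          have hq : f.fromNormalization q ∈ U := by
            have h1 : π ((coprod.inl : f.normalization ⟶ _) q) ∈ U := hp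
            rwa [← Scheme.Hom.comp_apply, coprod.inl_desc] at h1
          obtain ⟨w, hw⟩ : q ∈ Set.range (pullback.fst f.fromNormalization U.ι) := by
            rw [IsOpenImmersion.range_pullbackFst]; exact ⟨⟨_, hq⟩, rfl⟩
          obtain ⟨x, rfl⟩ := e.hom.homeomorph.surjective w
          exact ⟨x, by rw [Scheme.Hom.comp_apply, Scheme.Hom.comp_apply]; exact congrArg _ hw⟩
        · rw [coprodMk_inr] at hp
          have h1 : π ((coprod.inr : Z.subscheme ⟶ f.normalization ⨿ _) q) ∈ U := hp
          rw [← Scheme.Hom.comp_apply, coprod.inr_desc] at h1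
          exact absurd h1 (show Z.subschemeι q ∈ (U : Set S)ᶜ from hZ ▸ ⟨q, rfl⟩)
      · rintro ⟨x, rfl⟩
        show π _ ∈ U
        rw [← Scheme.Hom.comp_apply, Category.assoc, Category.assoc, coprod.inl_desc, pullback.condition,
          ← Category.assoc, he, Scheme.Hom.comp_apply]
        exact (v x).2

end Groth.Agent.S1377
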