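import Groth.Statements.S13771
import Groth.Agent.L08.PLie

set_option autoImplicit false
universe u v w
open PLie

namespace Groth.Agent.S13771

/-- Let R be a commutative ring of prime characteristic p, L₁ and L₂ Lie algebras over R, φ a p-mapping
on L₁ and f : L₁ → L₂ a morphism of Lie algebras whose kernel is stable under φ (a p-ideal). Then
the image f(L₁), a Lie subalgebra of L₂, carries exactly one p-mapping ψ for which the corestriction
of f to its image is a morphism of p-Lie algebras, i.e. ψ (f x) = f (φ x) for all x. -/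
theorem result (R : Type u) [CommRing R] (p : ℕ) [Fact p.Prime] [CharP R p]
    (L₁ : Type v) [LieRing L₁] [LieAlgebra R L₁] (L₂ : Type w) [LieRing L₂] [LieAlgebra R L₂]
    (φ : PLie.PMap R p L₁) (f : L₁ →ₗ⁅R⁆ L₂) (hker : ∀ x : L₁, f x = 0 → f (φ x) = 0) :
    ∃! ψ : PLie.PMap R p f.range, PLie.IsPHom φ ψ f.rangeRestrict := by
  have hw : ∀ (a : L₂) (x : L₁) (l : List Bool), PLie.bracketWord (PLie.pair a (f x)) (0 : L₂) l = 0 := by
    intro a x l
    induction l with
    | nil => rfl
    | cons i l ih => rw [PLie.bracketWord_cons, ih, lie_zero]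
  have hwd : ∀ x x', f x = f x' → f (φ.toFun x) = f (φ.toFun x') := by
    intro x x' h
    have hk : f (x - x') = 0 := by rw [map_sub, h, sub_self]
    have h1 : f (φ.toFun (x' + (x - x'))) = f (φ.toFun x') := by
      rw [φ.map_add, map_sub, map_add, hker _ hk, Groth.L08.Jac.map_jacobson, hk, PLie.jacobson, add_zero]
      rw [Finset.sum_eq_zero, sub_zero]
      intro t _
      have : PLie.bracketWord (PLie.pair (f x') (0 : L₂)) (0 : L₂) (List.ofFn t) = 0 := by
        have := hw (f x') (x - x') (List.ofFn t)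
        rwa [hk] at this
      rw [this, smul_zero]
    rwa [add_sub_cancel] at h1
  have key : ∀ (n : ℕ) (x w : L₁), (LieAlgebra.ad R f.range (f.rangeRestrict x) ^ n) (f.rangeRestrict w) =
      f.rangeRestrict ((LieAlgebra.ad R L₁ x ^ n) w) := by
    intro n x
    induction n with
    | zero => intro w; rfl
    | succ n ih =>
      intro w
      rw [pow_succ', pow_succ', Module.End.mul_apply, Module.End.mul_apply, ih, LieAlgebra.ad_apply,
        LieAlgebra.ad_apply, LieHom.map_lie]
  have hs : Function.Surjective f.rangeRestrict := f.surjective_rangeRestrict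
  let s : f.range → L₁ := Function.surjInv hs
  have hψ : ∀ x, f.rangeRestrict (φ.toFun (s (f.rangeRestrict x))) = f.rangeRestrict (φ.toFun x) := fun x =>
    Subtype.ext (hwd _ _ (congrArg Subtype.val (Function.surjInv_eq hs (f.rangeRestrict x))))
  refine ⟨⟨fun r => f.rangeRestrict (φ.toFun (s r)), ?_, ?_, ?_⟩, fun x => (hψ x).symm, ?_⟩
  · intro c r
    obtain ⟨x, rfl⟩ := hs r
    rw [← map_smul, hψ, hψ, φ.map_smul, map_smul]
  · intro r
    obtain ⟨x, rfl⟩ := hs r
    refine LinearMap.ext fun r' => ?_
    obtain ⟨w, rfl⟩ := hs r'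
    rw [hψ, key, ← φ.ad_map, LieAlgebra.ad_apply, LieAlgebra.ad_apply, LieHom.map_lie]
  · intro r r'
    obtain ⟨x, rfl⟩ := hs r
    obtain ⟨x', rfl⟩ := hs r'
    rw [← map_add f.rangeRestrict, hψ, hψ, hψ, φ.map_add, map_sub, map_add, Groth.L08.Jac.map_jacobson]
  · intro ψ h
    refine Groth.L08.PLie.pmap_ext Set.univ Submodule.span_univ fun r _ => ?_
    obtain ⟨x, rfl⟩ := hs r
    exact (h x).symm.trans (hψ x).symm

end Groth.Agent.S13771
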