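import Groth.Statements.S13775
import Groth.Agent.L08.PLieThree

set_option autoImplicit false
universe u v
open PLie

namespace Groth.Agent.S13775
open Groth.L08

/-- Let R be a commutative ring of prime characteristic p and L a Lie algebra over R, free as a module
with basis x = bs 0, y = bs 1, z = bs 2 and brackets [x,y] = y, [x,z] = y + z, [y,z] = 0. Then L
carries no p-mapping. (The published statement is the corresponding entry of the classification
table of three-dimensional Lie algebras over an algebraically closed field of characteristic p; this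
row states it over every commutative ring of characteristic p.) -/
theorem result (R : Type u) [CommRing R] (p : ℕ) [Fact p.Prime] [CharP R p]
    (L : Type v) [LieRing L] [LieAlgebra R L] (bs : Module.Basis (Fin 3) R L)
    (hxy : ⁅bs 0, bs 1⁆ = bs 1) (hxz : ⁅bs 0, bs 2⁆ = bs 1 + bs 2) (hyz : ⁅bs 1, bs 2⁆ = 0) :
    IsEmpty (PLie.PMap R p L) := by
  refine ⟨fun φ => ?_⟩
  have hxy' : ⁅bs 0, bs 1⁆ = PLie3.vec bs 0 1 0 := by rw [hxy, ← PLie3.basis1]
  have hxz' : ⁅bs 0, bs 2⁆ = PLie3.vec bs 0 1 1 := by rw [hxz]; simp [PLie3.vec]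
  have hyz' : ⁅bs 1, bs 2⁆ = PLie3.vec bs 0 0 0 := by rw [hyz, PLie3.vec_zero]
  have hy : ∀ n : ℕ, (LieAlgebra.ad R L (PLie3.vec bs 1 0 0) ^ n) (PLie3.vec bs 0 1 0) = PLie3.vec bs 0 1 0 := by
    intro n
    induction n with
    | zero => rfl
    | succ n ih =>
      rw [pow_succ', Module.End.mul_apply, ih, PLie3.ad_vec bs hxy' hxz' hyz']
      simp
  have hz : ∀ n : ℕ, (LieAlgebra.ad R L (PLie3.vec bs 1 0 0) ^ n) (PLie3.vec bs 0 0 1) = PLie3.vec bs 0 n 1 := by
    intro n
    induction n with
    | zero => simp [PLie3.vec]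
    | succ n ih =>
      rw [pow_succ', Module.End.mul_apply, ih, PLie3.ad_vec bs hxy' hxz' hyz', PLie3.vec_inj]
      push_cast
      refine ⟨?_, ?_, ?_⟩ <;> ring
  obtain ⟨r, s, t, hu⟩ := PLie3.exists_vec bs (φ.toFun (PLie3.vec bs 1 0 0))
  have h1 := hy p
  have h2 := hz p
  rw [← φ.ad_map, hu, PLie3.ad_vec bs hxy' hxz' hyz', PLie3.vec_inj] at h1 h2
  have e1 : r = 1 := by linear_combination h1.2.1
  have e2 : r = 0 := by
    have := h2.2.1
    rw [CharP.cast_eq_zero] at this
    linear_combination this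
  haveI : Nontrivial R := CharP.nontrivial_of_char_ne_one (Fact.out : p.Prime).ne_one
  exact zero_ne_one (e2.symm.trans e1)

end Groth.Agent.S13775
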