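import Groth.Statements.S13776
import Groth.Agent.L08.PLieThree

set_option autoImplicit false
universe u v
open PLie

namespace Groth.Agent.S13776
open Groth.L08

/-- Let R be a commutative ring of prime characteristic p, t ∈ R, and L a Lie algebra over R, free as a
module with basis x = bs 0, y = bs 1, z = bs 2 and brackets [x,y] = y, [x,z] = t • z, [y,z] = 0.
Then L carries a p-mapping if and only if t ^ p = t. (The published statement is the corresponding
entry of the classification table over an algebraically closed field of characteristic p, where the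
condition reads: t lies in the prime field; this row states it over every commutative ring of
characteristic p.) -/
theorem result (R : Type u) [CommRing R] (p : ℕ) [Fact p.Prime] [CharP R p] (t : R)
    (L : Type v) [LieRing L] [LieAlgebra R L] (bs : Module.Basis (Fin 3) R L)
    (hxy : ⁅bs 0, bs 1⁆ = bs 1) (hxz : ⁅bs 0, bs 2⁆ = t • bs 2) (hyz : ⁅bs 1, bs 2⁆ = 0) :
    Nonempty (PLie.PMap R p L) ↔ t ^ p = t := by
  have hxy' : ⁅bs 0, bs 1⁆ = PLie3.vec bs 0 1 0 := by rw [hxy, ← PLie3.basis1]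
  have hxz' : ⁅bs 0, bs 2⁆ = PLie3.vec bs 0 0 t := by rw [hxz]; simp [PLie3.vec]
  have hyz' : ⁅bs 1, bs 2⁆ = PLie3.vec bs 0 0 0 := by rw [hyz, PLie3.vec_zero]
  have hw : ∀ (n : ℕ) (u v : R), (LieAlgebra.ad R L (PLie3.vec bs 1 0 0) ^ n) (PLie3.vec bs 0 u v) =
      PLie3.vec bs 0 u (t ^ n * v) := by
    intro n u v
    induction n with
    | zero => simp
    | succ n ih =>
      rw [pow_succ', Module.End.mul_apply, ih, PLie3.ad_vec bs hxy' hxz' hyz', PLie3.vec_inj]
      refine ⟨?_, ?_, ?_⟩ <;> ring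
  have hp0 : ∀ (f : Module.End R L), f ^ 2 = 0 → f ^ p = 0 := fun f h => by
    rw [← Nat.sub_add_cancel (Fact.out : p.Prime).two_le, pow_add, h, mul_zero]
  constructor
  · rintro ⟨φ⟩
    obtain ⟨r, s, t', hu⟩ := PLie3.exists_vec bs (φ.toFun (PLie3.vec bs 1 0 0))
    have h1 := hw p 1 0
    have h2 := hw p 0 1
    rw [← φ.ad_map, hu, PLie3.ad_vec bs hxy' hxz' hyz', PLie3.vec_inj] at h1 h2
    linear_combination t * h1.2.1 - h2.2.2
  · intro ht
    refine ⟨(Groth.L08.PLie.exists_pmap bs ![bs 0, 0, 0] fun i => ?_).choose⟩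
    fin_cases i
    · change LieAlgebra.ad R L (bs 0) ^ p = LieAlgebra.ad R L (bs 0)
      rw [PLie3.basis0 bs]
      obtain ⟨q, hq⟩ : ∃ q, p = q + 1 := ⟨p - 1, (Nat.sub_add_cancel (Fact.out : p.Prime).pos).symm⟩
      refine PLie3.end_ext bs ?_ ?_ ?_
      · have h0 : LieAlgebra.ad R L (PLie3.vec bs 1 0 0) (PLie3.vec bs 1 0 0) = 0 := by
          rw [LieAlgebra.ad_apply, lie_self]
        rw [h0, hq, pow_succ, Module.End.mul_apply, h0, map_zero]
      · rw [hw, PLie3.ad_vec bs hxy' hxz' hyz', PLie3.vec_inj]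
        refine ⟨?_, ?_, ?_⟩ <;> ring
      · rw [hw, ht, PLie3.ad_vec bs hxy' hxz' hyz', PLie3.vec_inj]
        refine ⟨?_, ?_, ?_⟩ <;> ring
    all_goals
      change LieAlgebra.ad R L _ ^ p = LieAlgebra.ad R L 0
      rw [map_zero]
      refine hp0 _ (PLie3.end_ext bs ?_ ?_ ?_)
    all_goals
      simp [PLie3.basis1 bs, PLie3.basis2 bs, pow_two, Module.End.mul_apply, -LieAlgebra.ad_apply,
        PLie3.ad_vec bs hxy' hxz' hyz', PLie3.vec_zero]

end Groth.Agent.S13776
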