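import Groth.Statements.S13777
import Groth.Agent.L08.PLieThree

set_option autoImplicit false
universe u v
open PLie

namespace Groth.Agent.S13777
open Groth.L08

/-- Let R be a commutative ring of characteristic 2 and L a Lie algebra over R, free as a module with
basis x = bs 0, y = bs 1, z = bs 2 and brackets [x,y] = z, [x,z] = −x, [y,z] = y. Then L carries no
2-mapping. (The published statement is the corresponding entry of the classification table over an
algebraically closed field of characteristic 2; this row states it over every commutative ring of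
characteristic 2.) -/
theorem result (R : Type u) [CommRing R] [CharP R 2]
    (L : Type v) [LieRing L] [LieAlgebra R L] (bs : Module.Basis (Fin 3) R L)
    (hxy : ⁅bs 0, bs 1⁆ = bs 2) (hxz : ⁅bs 0, bs 2⁆ = -bs 0) (hyz : ⁅bs 1, bs 2⁆ = bs 1) :
    IsEmpty (PLie.PMap R 2 L) := by
  refine ⟨fun φ => ?_⟩
  haveI : Fact (Nat.Prime 2) := ⟨Nat.prime_two⟩
  have hxy' : ⁅bs 0, bs 1⁆ = PLie3.vec bs 0 0 1 := by rw [hxy, ← PLie3.basis2]
  have hxz' : ⁅bs 0, bs 2⁆ = PLie3.vec bs (-1) 0 0 := by rw [hxz]; simp [PLie3.vec]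
  have hyz' : ⁅bs 1, bs 2⁆ = PLie3.vec bs 0 1 0 := by rw [hyz, ← PLie3.basis1]
  obtain ⟨r, s, t, hu⟩ := PLie3.exists_vec bs (φ.toFun (PLie3.vec bs 1 0 0))
  have h := fun w => LinearMap.congr_fun (φ.ad_map (PLie3.vec bs 1 0 0)) w
  simp only [hu, pow_two, Module.End.mul_apply] at h
  have h1 := h (PLie3.vec bs 1 0 0)
  have h2 := h (PLie3.vec bs 0 1 0)
  simp only [PLie3.ad_vec bs hxy' hxz' hyz', PLie3.vec_inj] at h1 h2
  have e2 := h2.1
  have e1 := h1.1
  haveI : Nontrivial R := CharP.nontrivial_of_char_ne_one (v := 2) (by norm_num)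
  refine one_ne_zero (α := R) ?_
  ring_nf at e1 e2 h1 h2 ⊢
  linear_combination e2

end Groth.Agent.S13777
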