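import Groth.Statements.S13778
import Groth.Agent.L08.PLieThree
import Mathlib.Algebra.DualNumber
import Mathlib.Algebra.Ring.GeomSum

set_option autoImplicit false
universe u v
open PLie

set_option maxHeartbeats 4000000

namespace Groth.Agent.S13778
open Groth.L08 DualNumber

open DualNumber in
/-- Let K be a field of prime characteristic p, K[ε] the ring of dual numbers (taken with its
characteristic-p structure), t ∈ K with t ^ p = t (an element of the prime field), and a, …, i ∈ K.
Let L be a Lie algebra over K[ε], free as a module with basis x = bs 0, y = bs 1, z = bs 2 and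
brackets [x,y] = aε x + (1 + bε) y + cε z, [x,z] = dε x + eε y + (t + fε) z, [y,z] = gε x + hε y +
iε z. Then L carries a p-mapping over K[ε] if and only if b t = f, c = e = 0 when t = 1, and g = 0
when p = 2. (The published statement determines the singular locus of the restrictable locus in the
centreless stratum of the moduli scheme of based three-dimensional Lie algebras, for t non-zero, and
the rank-one-centre stratum treats t = 0; this row states the restrictability criterion for the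
first-order deformations of l_t that the proofs compute, over any field of characteristic p in place
of the prime field and for every t in the prime field.) -/
theorem result (K : Type u) [Field K] (p : ℕ) [Fact p.Prime] [CharP K p]
    [CharP (DualNumber K) p] (t a b c d e f g h i : K) (ht : t ^ p = t)
    (L : Type v) [LieRing L] [LieAlgebra (DualNumber K) L] (bs : Module.Basis (Fin 3) (DualNumber K) L)
    (hxy : ⁅bs 0, bs 1⁆ = (a • ε : DualNumber K) • bs 0 + (1 + b • ε : DualNumber K) • bs 1 + (c • ε : DualNumber K) • bs 2)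
    (hxz : ⁅bs 0, bs 2⁆ = (d • ε : DualNumber K) • bs 0 + (e • ε : DualNumber K) • bs 1 +
      (algebraMap K (DualNumber K) t + f • ε) • bs 2)
    (hyz : ⁅bs 1, bs 2⁆ = (g • ε : DualNumber K) • bs 0 + (h • ε : DualNumber K) • bs 1 + (i • ε : DualNumber K) • bs 2) :
    Nonempty (PLie.PMap (DualNumber K) p L) ↔ (b * t = f ∧ (t = 1 → c = 0 ∧ e = 0) ∧ (p = 2 → g = 0)) := by
  let T : DualNumber K := algebraMap K (DualNumber K) t
  have hxy' : ⁅bs 0, bs 1⁆ = PLie3.vec bs (a • ε : DualNumber K) (1 + b • ε) (c • ε) := hxy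
  have hxz' : ⁅bs 0, bs 2⁆ = PLie3.vec bs (d • ε : DualNumber K) (e • ε) (T + f • ε) := hxz
  have hyz' : ⁅bs 1, bs 2⁆ = PLie3.vec bs (g • ε : DualNumber K) (h • ε) (i • ε) := hyz
  let X : Module.End (DualNumber K) L := LieAlgebra.ad (DualNumber K) L (PLie3.vec bs 1 0 0)
  let Y : Module.End (DualNumber K) L := LieAlgebra.ad (DualNumber K) L (PLie3.vec bs 0 1 0)
  let Z : Module.End (DualNumber K) L := LieAlgebra.ad (DualNumber K) L (PLie3.vec bs 0 0 1)
  have had := PLie3.ad_vec bs hxy' hxz' hyz'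
  obtain ⟨hd, hi⟩ : d = t * h ∧ i = -(a * t) := by
    have hJ := lie_jacobi (PLie3.vec bs (1 : DualNumber K) 0 0) (PLie3.vec bs 0 1 0) (PLie3.vec bs 0 0 1)
    simp only [PLie3.lie_vec bs hxy' hxz' hyz', PLie3.vec_add] at hJ
    rw [← PLie3.vec_zero bs, PLie3.vec_inj] at hJ
    have h1 := congrArg TrivSqZeroExt.snd hJ.2.1
    have h2 := congrArg TrivSqZeroExt.snd hJ.2.2
    simp [TrivSqZeroExt.snd_mul, T, TrivSqZeroExt.algebraMap_eq_inl] at h1 h2
    exact ⟨by linear_combination h1, by linear_combination -h2⟩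
  let S : ℕ → K := fun n => ∑ j ∈ Finset.range n, t ^ j
  have hX1 : ∀ n : ℕ, (X ^ (n + 1)) (PLie3.vec bs 0 1 0) =
      PLie3.vec bs (a • ε) (1 + ((n + 1 : ℕ) * b) • ε) ((S (n + 1) * c) • ε) := by
    intro n
    induction n with
    | zero =>
      rw [pow_one]
      simp only [X, had, PLie3.vec_inj]
      refine ⟨?_, ?_, ?_⟩ <;> simp [S]
    | succ n ih =>
      rw [pow_succ', Module.End.mul_apply, ih]
      simp only [X, had, PLie3.vec_inj, show S (n + 1 + 1) = t * S (n + 1) + 1 from geom_sum_succ]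
      refine ⟨?_, ?_, ?_⟩ <;>
        (apply TrivSqZeroExt.ext <;>
          simp [TrivSqZeroExt.snd_mul, T, TrivSqZeroExt.algebraMap_eq_inl] <;> ring)
  have hX2 : ∀ n : ℕ, (X ^ (n + 1)) (PLie3.vec bs 0 0 1) =
      PLie3.vec bs ((t ^ n * d) • ε) ((S (n + 1) * e) • ε) (T ^ (n + 1) + (((n + 1 : ℕ) : K) * t ^ n * f) • ε) := by
    intro n
    induction n with
    | zero =>
      rw [pow_one]
      simp only [X, had, PLie3.vec_inj]
      refine ⟨?_, ?_, ?_⟩ <;> simp [S]
    | succ n ih =>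
      rw [pow_succ', Module.End.mul_apply, ih]
      simp only [X, had, PLie3.vec_inj, show S (n + 1 + 1) = S (n + 1) + t ^ (n + 1) from Finset.sum_range_succ _ _]
      refine ⟨?_, ?_, ?_⟩ <;>
        (apply TrivSqZeroExt.ext <;>
          simp [TrivSqZeroExt.snd_mul, T, TrivSqZeroExt.algebraMap_eq_inl, ← TrivSqZeroExt.inl_pow] <;> ring)
  have hp2 := (Fact.out : p.Prime).two_le
  have hp1 : p - 1 + 1 = p := by omega
  have hX1' := hX1 (p - 1)
  have hX2' := hX2 (p - 1)
  rw [hp1, CharP.cast_eq_zero, zero_mul, zero_smul, add_zero] at hX1'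
  rw [hp1, CharP.cast_eq_zero, zero_mul, zero_mul, zero_smul, add_zero, show T ^ p = T by simp only [T, ← map_pow, ht]] at hX2'
  have hS : (t = 1 → S p = 0) ∧ (t ≠ 1 → S p = 1) := by
    refine ⟨fun h1 => by simp [S, h1], fun h1 => ?_⟩
    have := geom_sum_mul t p
    rw [ht] at this
    exact mul_right_cancel₀ (sub_ne_zero.2 h1) (this.trans (one_mul _).symm)
  have hY2 : ∀ u v w : DualNumber K, (Y ^ 2) (PLie3.vec bs u v w) =
      PLie3.vec bs 0 (u * a • ε + w * (-g) • ε) 0 := by
    intro u v w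
    simp only [Y, pow_two, Module.End.mul_apply, had, PLie3.vec_inj]
    refine ⟨?_, ?_, ?_⟩ <;>
      (apply TrivSqZeroExt.ext <;> simp [TrivSqZeroExt.snd_mul, T, TrivSqZeroExt.algebraMap_eq_inl] <;> ring)
  have hY3 : Y ^ 3 = 0 := by
    refine PLie3.end_ext bs ?_ ?_ ?_ <;>
      (rw [pow_succ', Module.End.mul_apply, hY2, LinearMap.zero_apply]
       simp only [Y, had]
       rw [← PLie3.vec_zero bs, PLie3.vec_inj]
       refine ⟨?_, ?_, ?_⟩ <;>
         (apply TrivSqZeroExt.ext <;> simp [TrivSqZeroExt.snd_mul, T, TrivSqZeroExt.algebraMap_eq_inl] <;> ring))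
  have hZ2 : ∀ u v w : DualNumber K, (Z ^ 2) (PLie3.vec bs u v w) =
      PLie3.vec bs 0 0 (u * (d * t) • ε + v * (g * t) • ε) := by
    intro u v w
    simp only [Z, pow_two, Module.End.mul_apply, had, PLie3.vec_inj]
    refine ⟨?_, ?_, ?_⟩ <;>
      (apply TrivSqZeroExt.ext <;> simp [TrivSqZeroExt.snd_mul, T, TrivSqZeroExt.algebraMap_eq_inl] <;> ring)
  have hZ3 : Z ^ 3 = 0 := by
    refine PLie3.end_ext bs ?_ ?_ ?_ <;>
      (rw [pow_succ', Module.End.mul_apply, hZ2, LinearMap.zero_apply]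
       simp only [Z, had]
       rw [← PLie3.vec_zero bs, PLie3.vec_inj]
       refine ⟨?_, ?_, ?_⟩ <;>
         (apply TrivSqZeroExt.ext <;> simp [TrivSqZeroExt.snd_mul, T, TrivSqZeroExt.algebraMap_eq_inl] <;> ring))
  constructor
  · rintro ⟨φ⟩
    obtain ⟨r, s, w, hu⟩ := PLie3.exists_vec bs (φ.toFun (PLie3.vec bs 1 0 0))
    have hw := fun z => LinearMap.congr_fun (φ.ad_map (PLie3.vec bs 1 0 0)) z
    have e0 := hw (PLie3.vec bs 1 0 0)
    have e1 := hw (PLie3.vec bs 0 1 0)
    have e2 := hw (PLie3.vec bs 0 0 1)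
    have h0 : LieAlgebra.ad (DualNumber K) L (PLie3.vec bs 1 0 0) (PLie3.vec bs 1 0 0) = 0 := by
      rw [LieAlgebra.ad_apply, lie_self]
    rw [hu, had, ← hp1, pow_succ, Module.End.mul_apply, h0, map_zero, ← PLie3.vec_zero bs, PLie3.vec_inj] at e0
    rw [hu, had, show LieAlgebra.ad (DualNumber K) L (PLie3.vec bs 1 0 0) = X from rfl, hX1', PLie3.vec_inj] at e1
    rw [hu, had, show LieAlgebra.ad (DualNumber K) L (PLie3.vec bs 1 0 0) = X from rfl, hX2', PLie3.vec_inj] at e2
    have s0 := congrArg TrivSqZeroExt.fst e0.2.1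
    have w0 := congrArg TrivSqZeroExt.fst e0.2.2
    have r0 := congrArg TrivSqZeroExt.fst e1.2.1
    have A1 := congrArg TrivSqZeroExt.snd e1.2.1
    have A2 := congrArg TrivSqZeroExt.snd e1.2.2
    have A3 := congrArg TrivSqZeroExt.snd e2.2.1
    have A4 := congrArg TrivSqZeroExt.snd e2.2.2
    simp [TrivSqZeroExt.snd_mul, T, TrivSqZeroExt.algebraMap_eq_inl] at s0 w0 r0 A1 A2 A3 A4
    simp only [s0, r0, zero_mul, mul_zero, neg_zero, add_zero, zero_add, one_mul] at A1 A2 A3 A4
    have w1 : TrivSqZeroExt.fst w * t = 0 := by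
      rcases w0 with h' | h' <;> rw [h'] <;> simp
    refine ⟨?_, fun h1 => ?_, fun h2 => ?_⟩
    · linear_combination t * A1 - A4 + h * w1
    · rw [hS.1 h1, zero_mul] at A2 A3
      refine ⟨?_, by simpa using A3⟩
      rw [hi] at A2
      linear_combination A2 - a * w1
    · subst h2
      obtain ⟨r', s', w', hu'⟩ := PLie3.exists_vec bs (φ.toFun (PLie3.vec bs 0 1 0))
      have hw' := fun z => LinearMap.congr_fun (φ.ad_map (PLie3.vec bs 0 1 0)) z
      have f0 := hw' (PLie3.vec bs 1 0 0)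
      have f1 := hw' (PLie3.vec bs 0 1 0)
      have f2 := hw' (PLie3.vec bs 0 0 1)
      rw [hu', had, show LieAlgebra.ad (DualNumber K) L (PLie3.vec bs 0 1 0) = Y from rfl, hY2, PLie3.vec_inj]
        at f0 f1 f2
      have s0' := congrArg TrivSqZeroExt.fst f0.2.1
      have r0' := congrArg TrivSqZeroExt.fst f1.2.1
      have B := congrArg TrivSqZeroExt.snd f2.2.1
      simp [TrivSqZeroExt.snd_mul, T, TrivSqZeroExt.algebraMap_eq_inl] at s0' r0' B
      simpa [s0', r0'] using B.symm
  · rintro ⟨hbt, hce, hg⟩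
    have hdd : t ^ (p - 1) * d = d := by
      rcases eq_or_ne t 0 with h0 | h0
      · rw [hd, h0, zero_mul, mul_zero]
      · rw [mul_right_cancel₀ h0 (show t ^ (p - 1) * t = 1 * t by rw [← pow_succ, hp1, ht, one_mul]), one_mul]
    have hSce : S p * c = c ∧ S p * e = e := by
      rcases eq_or_ne t 1 with h1 | h1
      · rw [(hce h1).1, (hce h1).2]; simp
      · rw [hS.2 h1]; simp
    refine ⟨(Groth.L08.PLie.exists_pmap bs
      ![PLie3.vec bs (1 - b • ε) 0 0, PLie3.vec bs 0 (if p = 2 then (-a) • ε else 0) 0,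
        PLie3.vec bs 0 0 (if p = 2 then (-d) • ε else 0)] fun j => ?_).choose⟩
    fin_cases j
    · change LieAlgebra.ad (DualNumber K) L (bs 0) ^ p = LieAlgebra.ad (DualNumber K) L (PLie3.vec bs _ 0 0)
      rw [PLie3.basis0 bs]
      refine PLie3.end_ext bs ?_ ?_ ?_
      · have h0 : LieAlgebra.ad (DualNumber K) L (PLie3.vec bs 1 0 0) (PLie3.vec bs 1 0 0) = 0 := by
          rw [LieAlgebra.ad_apply, lie_self]
        rw [← hp1, pow_succ, Module.End.mul_apply, h0, map_zero, had, ← PLie3.vec_zero bs, PLie3.vec_inj]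
        simp
      · rw [show LieAlgebra.ad (DualNumber K) L (PLie3.vec bs 1 0 0) = X from rfl, hX1', had, hSce.1, PLie3.vec_inj]
        refine ⟨?_, ?_, ?_⟩ <;>
          (apply TrivSqZeroExt.ext <;> simp [TrivSqZeroExt.snd_mul, T, TrivSqZeroExt.algebraMap_eq_inl] <;> ring)
      · rw [show LieAlgebra.ad (DualNumber K) L (PLie3.vec bs 1 0 0) = X from rfl, hX2', had, hSce.2, hdd,
          PLie3.vec_inj]
        refine ⟨?_, ?_, ?_⟩ <;>
          (apply TrivSqZeroExt.ext <;>
            simp [TrivSqZeroExt.snd_mul, T, TrivSqZeroExt.algebraMap_eq_inl, ← hbt] <;> ring)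
    · change LieAlgebra.ad (DualNumber K) L (bs 1) ^ p = LieAlgebra.ad (DualNumber K) L (PLie3.vec bs 0 _ 0)
      rw [PLie3.basis1 bs, show LieAlgebra.ad (DualNumber K) L (PLie3.vec bs 0 1 0) = Y from rfl]
      rcases eq_or_ne p 2 with rfl | h2
      · obtain rfl := hg rfl
        refine PLie3.end_ext bs ?_ ?_ ?_ <;>
          (rw [hY2, if_pos rfl, had, PLie3.vec_inj]
           refine ⟨?_, ?_, ?_⟩ <;>
             (apply TrivSqZeroExt.ext <;> simp [TrivSqZeroExt.snd_mul, T, TrivSqZeroExt.algebraMap_eq_inl] <;> ring))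
      rw [if_neg h2, PLie3.vec_zero bs, map_zero, PLie3.pow_eq_zero_of_three hY3 (by omega)]
    · change LieAlgebra.ad (DualNumber K) L (bs 2) ^ p = LieAlgebra.ad (DualNumber K) L (PLie3.vec bs 0 0 _)
      rw [PLie3.basis2 bs, show LieAlgebra.ad (DualNumber K) L (PLie3.vec bs 0 0 1) = Z from rfl]
      rcases eq_or_ne p 2 with rfl | h2
      · obtain rfl := hg rfl
        refine PLie3.end_ext bs ?_ ?_ ?_ <;>
          (rw [hZ2, if_pos rfl, had, PLie3.vec_inj]
           refine ⟨?_, ?_, ?_⟩ <;>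
             (apply TrivSqZeroExt.ext <;> simp [TrivSqZeroExt.snd_mul, T, TrivSqZeroExt.algebraMap_eq_inl] <;> ring))
      rw [if_neg h2, PLie3.vec_zero bs, map_zero, PLie3.pow_eq_zero_of_three hZ3 (by omega)]

end Groth.Agent.S13778
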