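import Groth.Statements.S13779
import Groth.Agent.L08.PLieThree

set_option autoImplicit false
universe u v
open PLie

namespace Groth.Agent.S13779
open Groth.L08

/-- Let p be an odd prime, R a commutative ring of characteristic p, t ∈ R, and L a Lie algebra over R,
free as a module with basis x = bs 0, y = bs 1, z = bs 2 and brackets [x,y] = z, [x,z] = t • y,
[y,z] = 0. Then L carries a p-mapping φ with φ x = t ^ ((p - 1) / 2) • x, φ y = 0 and φ z = 0. (The
published statement concerns the Lie algebra with these brackets over a field of Laurent series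
k((t)), k algebraically closed of odd characteristic, t the variable; this row states its
restrictability over every commutative ring of odd prime characteristic and every t.) -/
theorem result (R : Type u) [CommRing R] (p : ℕ) [Fact p.Prime] [CharP R p] (hp : p ≠ 2)
    (t : R) (L : Type v) [LieRing L] [LieAlgebra R L] (bs : Module.Basis (Fin 3) R L)
    (hxy : ⁅bs 0, bs 1⁆ = bs 2) (hxz : ⁅bs 0, bs 2⁆ = t • bs 1) (hyz : ⁅bs 1, bs 2⁆ = 0) :
    ∃ φ : PLie.PMap R p L, φ (bs 0) = t ^ ((p - 1) / 2) • bs 0 ∧ φ (bs 1) = 0 ∧ φ (bs 2) = 0 := by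
  have hxy' : ⁅bs 0, bs 1⁆ = PLie3.vec bs 0 0 1 := by rw [hxy, ← PLie3.basis2]
  have hxz' : ⁅bs 0, bs 2⁆ = PLie3.vec bs 0 t 0 := by rw [hxz]; simp [PLie3.vec]
  have hyz' : ⁅bs 1, bs 2⁆ = PLie3.vec bs 0 0 0 := by rw [hyz, PLie3.vec_zero]
  have hm : p = 2 * ((p - 1) / 2) + 1 := by
    obtain ⟨m, hm⟩ := (Fact.out : p.Prime).odd_of_ne_two hp
    omega
  have h3 : 3 ≤ p := by have := (Fact.out : p.Prime).two_le; omega
  have hsq : LieAlgebra.ad R L (PLie3.vec bs 1 0 0) ^ 3 = t • LieAlgebra.ad R L (PLie3.vec bs 1 0 0) := by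
    refine PLie3.end_ext bs ?_ ?_ ?_ <;>
      simp [pow_succ, Module.End.mul_apply, LinearMap.smul_apply, -LieAlgebra.ad_apply,
        PLie3.ad_vec bs hxy' hxz' hyz', PLie3.vec_smul, PLie3.vec_zero]
  have hodd : ∀ n : ℕ, LieAlgebra.ad R L (PLie3.vec bs 1 0 0) ^ (2 * n + 1) =
      t ^ n • LieAlgebra.ad R L (PLie3.vec bs 1 0 0) := by
    intro n
    induction n with
    | zero => simp
    | succ n ih =>
      rw [show 2 * (n + 1) + 1 = 2 * n + 1 + 2 by ring, pow_add, ih, smul_mul_assoc, ← pow_succ', hsq, smul_smul,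
        pow_succ]
  obtain ⟨φ, hφ⟩ := Groth.L08.PLie.exists_pmap bs ![t ^ ((p - 1) / 2) • bs 0, 0, 0] fun i => by
    fin_cases i
    · change LieAlgebra.ad R L (bs 0) ^ p = LieAlgebra.ad R L (t ^ ((p - 1) / 2) • bs 0)
      rw [map_smul, PLie3.basis0 bs]
      conv_lhs => rw [hm]
      exact hodd _
    all_goals
      change LieAlgebra.ad R L _ ^ p = LieAlgebra.ad R L 0
      rw [map_zero]
      refine PLie3.pow_eq_zero_of_three (PLie3.end_ext bs ?_ ?_ ?_) h3
    all_goals
      simp [PLie3.basis1 bs, PLie3.basis2 bs, pow_succ, Module.End.mul_apply, -LieAlgebra.ad_apply,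
        PLie3.ad_vec bs hxy' hxz' hyz', PLie3.vec_zero]
  exact ⟨φ, hφ 0, hφ 1, hφ 2⟩

end Groth.Agent.S13779
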