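import Groth.Statements.S13781
import Groth.Agent.L01.RootExt

set_option autoImplicit false
universe u
open CAlg

namespace Groth.Agent.S13781

/-- Let A be a regular local ring, s a non-zero element of A such that A/(s) is regular, and e a
positive integer invertible in A. Then A[t]/(t^e - s) is regular. (Regularity of a ring is taken
throughout as: Noetherian, with every localization at a prime ideal a regular local ring; the
hypotheses on A and on A/(s) and the conclusion on A[t]/(t^e - s) are all read this way, which for
the local rings A and A/(s) is the usual notion once localizations of regular local rings are known
to be regular.) -/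
theorem result (A : Type u) [CommRing A] [IsLocalRing A]
    [IsRegularRing A] (s : A) (hs : s ≠ 0) (hreg : IsRegularRing (A ⧸ Ideal.span {s}))
    (e : ℕ) (he : 0 < e) (heu : IsUnit (e : A)) :
    IsRegularRing (AdjoinRoot (Polynomial.X ^ e - Polynomial.C s)) := Groth.L01.RootExt.isRegularRing s e hs hreg he heu

end Groth.Agent.S13781
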