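import Groth.Statements.S13782
import Groth.Agent.L12.CotTSmooth
import Groth.Agent.L01.Regular
import Mathlib.RingTheory.Derivation.MapCoeffs
import Mathlib.Algebra.Polynomial.Derivation
import Mathlib.RingTheory.AdjoinRoot
import Mathlib.RingTheory.Ideal.Cotangent
import Mathlib.RingTheory.Ideal.Colon
import Mathlib.RingTheory.Ideal.IdempotentFG

set_option autoImplicit false
universe u
open CAlg

namespace Groth.Agent.S13782

section
open scoped TensorProduct
open Polynomial
variable {k : Type u} [Field k] {P : Type u} [CommRing P] [Algebra k P]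
  {B : Type u} [CommRing B] [Algebra k B] [Algebra P B] [IsScalarTower k P B]

theorem formallySmooth_of_derivation [Algebra.FormallySmooth k P]
    (hsurj : Function.Surjective (algebraMap P B)) (F : P)
    (hker : RingHom.ker (algebraMap P B) = Ideal.span {F})
    (D : Derivation k P B) (hD : D F = 1) : Algebra.FormallySmooth k B := by
  rw [Algebra.FormallySmooth.iff_split_injection hsurj]
  let I := RingHom.ker (algebraMap P B)
  let c : I.Cotangent := I.toCotangent ⟨F, hker.ge (Ideal.mem_span_singleton_self F)⟩
  have hc : ∀ r ∈ I, r • c = 0 := fun r hr => by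
    rw [← map_smul, Ideal.toCotangent_eq_zero, pow_two]
    exact Ideal.mul_mem_mul hr (hker.ge (Ideal.mem_span_singleton_self F))
  let μ : B →ₗ[P] I.Cotangent :=
    ((LinearMap.ker (Algebra.linearMap P B)).liftQ (LinearMap.toSpanSingleton P I.Cotangent c)
      (fun r hr => hc r hr)) ∘ₗ
      ((Algebra.linearMap P B).quotKerEquivOfSurjective hsurj).symm.toLinearMap
  have hμ : ∀ r : P, μ (algebraMap P B r) = r • c := fun r => by
    have : ((Algebra.linearMap P B).quotKerEquivOfSurjective hsurj).symm (algebraMap P B r) =
        Submodule.Quotient.mk r := (LinearEquiv.symm_apply_eq _).2 rfl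
    simp only [μ, LinearMap.comp_apply, LinearEquiv.coe_coe, this]
    exact Submodule.liftQ_apply _ _ _
  let D' : B ⊗[P] Ω[P⁄k] →ₗ[B] B := D.liftKaehlerDifferential.liftBaseChange B
  refine ⟨μ ∘ₗ D'.restrictScalars P, LinearMap.ext fun y => ?_⟩
  obtain ⟨⟨x, hx⟩, rfl⟩ := Ideal.toCotangent_surjective I y
  have hx' : x ∈ Ideal.span {F} := hker.le hx
  obtain ⟨a, rfl⟩ := Ideal.mem_span_singleton'.1 hx'
  have hF0 : algebraMap P B F = 0 := (hker.ge (Ideal.mem_span_singleton_self F) : F ∈ I)
  have h1 : D (a * F) = algebraMap P B a := by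
    rw [Derivation.leibniz, hD, Algebra.smul_def, Algebra.smul_def, hF0, zero_mul, add_zero, mul_one]
  rw [LinearMap.comp_apply, KaehlerDifferential.kerCotangentToTensor_toCotangent, LinearMap.id_apply,
    LinearMap.comp_apply]
  change μ (D' (1 ⊗ₜ KaehlerDifferential.D k P (a * F))) = _
  rw [LinearMap.liftBaseChange_tmul, one_smul, Derivation.liftKaehlerDifferential_comp_D, h1, hμ,
    ← map_smul]
  rfl

theorem exists_derivation_of_formallySmooth [Algebra.FormallySmooth k P] [Algebra.FormallySmooth k B]
    (hsurj : Function.Surjective (algebraMap P B)) (F : P)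
    (hker : RingHom.ker (algebraMap P B) = Ideal.span {F}) (hF : ∀ a, a * F = 0 → a = 0) :
    ∃ D : Derivation k P B, D F = 1 := by
  obtain ⟨l, hl⟩ := (Algebra.FormallySmooth.iff_split_injection (R := k) hsurj).1 ‹_›
  let I := RingHom.ker (algebraMap P B)
  let τ : P →ₗ[P] I := LinearMap.toSpanSingleton P I ⟨F, hker.ge (Ideal.mem_span_singleton_self F)⟩
  have hτ : Function.Bijective τ := by
    refine ⟨(injective_iff_map_eq_zero τ).2 fun a ha => hF a (congrArg Subtype.val ha), fun x => ?_⟩
    obtain ⟨a, ha⟩ := Ideal.mem_span_singleton'.1 (hker.le x.2)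
    exact ⟨a, Subtype.ext ha⟩
  let ψ : I →ₗ[P] B := Algebra.linearMap P B ∘ₗ (LinearEquiv.ofBijective τ hτ).symm.toLinearMap
  let φ : I.Cotangent →ₗ[P] B := (I • ⊤ : Submodule P I).liftQ ψ (by
    rw [Submodule.smul_le]
    intro r hr y _
    rw [LinearMap.mem_ker, map_smul, Algebra.smul_def, (hr : algebraMap P B r = 0), zero_mul])
  have hφ : φ (I.toCotangent ⟨F, hker.ge (Ideal.mem_span_singleton_self F)⟩) = 1 := by
    change ψ _ = 1
    have : (LinearEquiv.ofBijective τ hτ).symm ⟨F, hker.ge (Ideal.mem_span_singleton_self F)⟩ = 1 :=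
      (LinearEquiv.symm_apply_eq _).2 (Subtype.ext (one_mul F).symm)
    simp [ψ, this]
  refine ⟨((φ ∘ₗ l) ∘ₗ TensorProduct.mk P B (Ω[P⁄k]) 1).compDer (KaehlerDifferential.D k P), ?_⟩
  have := LinearMap.congr_fun hl (I.toCotangent ⟨F, hker.ge (Ideal.mem_span_singleton_self F)⟩)
  rw [LinearMap.comp_apply, KaehlerDifferential.kerCotangentToTensor_toCotangent, LinearMap.id_apply] at this
  change φ (l (1 ⊗ₜ KaehlerDifferential.D k P F)) = 1
  rw [this, hφ]

theorem nonZeroDivisor_of_irreducible {A : Type u} [CommRing A] [Algebra k A] [Algebra.Smooth k A]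
    {s : A} (hs : Irreducible s) : ∀ a, a * s = 0 → a = 0 := by
  classical
  haveI : IsNoetherianRing A := Algebra.FiniteType.isNoetherianRing k A
  let I : Ideal A := LinearMap.ker (LinearMap.mulRight A s)
  have hmem : ∀ a, a ∈ I ↔ a * s = 0 := fun a => Iff.rfl
  have hII : I * I = I := by
    refine le_antisymm Ideal.mul_le_left fun x hx => ?_
    by_contra hxn
    have hne : Submodule.colon (I * I) ({x} : Set A) ≠ ⊤ := fun h => hxn (by
      have := (h.symm ▸ Submodule.mem_top : (1 : A) ∈ Submodule.colon (I * I) ({x} : Set A))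
      simpa [Submodule.mem_colon_singleton] using this)
    obtain ⟨m, hm, hle⟩ := Ideal.exists_le_maximal _ hne
    haveI : Algebra.IsSmoothAt k m :=
      inferInstanceAs (Algebra.FormallySmooth k (Localization m.primeCompl))
    haveI := Groth.L12.CotTLib.regular_of_isSmoothAt (k := k) m
    haveI := Groth.L01.isDomain_of_regular (Localization.AtPrime m)
    have h0 : algebraMap A (Localization.AtPrime m) x * algebraMap A _ s = 0 := by
      rw [← map_mul, (hmem x).1 hx, map_zero]
    rcases mul_eq_zero.1 h0 with h | h
    · obtain ⟨⟨r, hr⟩, hrx⟩ := (IsLocalization.map_eq_zero_iff m.primeCompl _ x).1 h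
      exact hr (hle (Submodule.mem_colon_singleton.2 (by rw [smul_eq_mul, show r * x = 0 from hrx]; exact zero_mem _)))
    · obtain ⟨⟨r, hr⟩, hrs⟩ := (IsLocalization.map_eq_zero_iff m.primeCompl _ s).1 h
      exact hr (hle (Submodule.mem_colon_singleton.2 (Ideal.mul_mem_mul ((hmem r).2 hrs) hx)))
  obtain ⟨e, he, hIe⟩ := (Ideal.isIdempotentElem_iff_of_fg I (IsNoetherian.noetherian I)).1 hII
  have hes : e * s = 0 := (hmem e).1 (hIe.ge (Ideal.mem_span_singleton_self e))
  have hfac : s = (e + s) * (1 - e) := by linear_combination he.eq + hes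
  intro a ha
  have hae : a ∈ Ideal.span {e} := hIe.le ((hmem a).2 ha)
  rcases hs.isUnit_or_isUnit hfac with hu | hu
  · exfalso
    have hirr : Irreducible (1 - e) := by
      rw [hfac, irreducible_isUnit_mul hu] at hs
      exact hs
    have h2 : (1 - e) * (1 - e) = 1 - e := he.one_sub.eq
    rcases hirr.isUnit_or_isUnit h2.symm with h | h <;> exact hirr.not_isUnit h
  · have he0 : e = 0 := hu.mul_left_cancel (by linear_combination -he.eq)
    simpa [he0, Ideal.mem_span_singleton] using hae

/-- Extend a derivation of `A` to `A[X]` with given value at `X`. -/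
noncomputable def extend {A : Type u} [CommRing A] [Algebra k A] (d : Derivation k A A) (c : A[X]) :
    Derivation k A[X] A[X] :=
  PolynomialModule.equivPolynomialSelf.compDer d.mapCoeffs +
    c • (Polynomial.derivative' (R := A)).restrictScalars k

theorem extend_C {A : Type u} [CommRing A] [Algebra k A] (d : Derivation k A A) (c : A[X]) (a : A) :
    extend d c (C a) = C (d a) := by
  simp [extend, derivative']

theorem extend_X {A : Type u} [CommRing A] [Algebra k A] (d : Derivation k A A) (c : A[X]) :
    extend d c X = c := by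
  simp [extend, derivative']

end


/-- Let k be a field, A a smooth k-algebra, s an irreducible element of A and e an integer, at least 2,
that is invertible in k. Then the k-algebra A[t]/(t^e - s) is smooth exactly when the quotient ring
A/(s) is a smooth k-algebra. (Smooth over k means formally smooth and of finite presentation over
k.) -/
theorem result (k A : Type u) [Field k] [CommRing A] [Algebra k A]
    [Algebra.Smooth k A] (s : A) (hs : Irreducible s) (e : ℕ) (he : 2 ≤ e) (hek : (e : k) ≠ 0) :
    Algebra.Smooth k (AdjoinRoot (Polynomial.X ^ e - Polynomial.C s)) ↔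
      Algebra.Smooth k (A ⧸ Ideal.span {s}) := by
  classical
  set f : Polynomial A := Polynomial.X ^ e - Polynomial.C s with hf
  haveI : Algebra.FormallySmooth A (Polynomial A) :=
    Algebra.FormallySmooth.of_equiv (MvPolynomial.pUnitAlgEquiv.{u, 0} A)
  haveI : Algebra.FormallySmooth k (Polynomial A) := Algebra.FormallySmooth.comp k A (Polynomial A)
  letI : Algebra (Polynomial A) (AdjoinRoot f) := (AdjoinRoot.mk f).toAlgebra
  haveI : IsScalarTower k (Polynomial A) (AdjoinRoot f) := IsScalarTower.of_algebraMap_eq fun x => by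
    rw [IsScalarTower.algebraMap_apply k A (Polynomial A), IsScalarTower.algebraMap_apply k A (AdjoinRoot f)]
    rfl
  have hsurjB : Function.Surjective (algebraMap (Polynomial A) (AdjoinRoot f)) := AdjoinRoot.mk_surjective
  have hkerB : RingHom.ker (algebraMap (Polynomial A) (AdjoinRoot f)) = Ideal.span {f} := Ideal.mk_ker
  have hekA : IsUnit ((e : A)) := by
    rw [← map_natCast (algebraMap k A)]
    exact (Ne.isUnit hek).map _
  constructor
  · intro hB
    obtain ⟨D, hD⟩ := exists_derivation_of_formallySmooth (k := k) hsurjB f hkerB (fun a ha => by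
      by_contra h
      exact h (((Polynomial.monic_X_pow_sub_C s (by omega : e ≠ 0)).mem_nonZeroDivisors.2 a ha)))
    let π : AdjoinRoot f →+* A ⧸ Ideal.span {s} :=
      AdjoinRoot.lift (Ideal.Quotient.mk _) 0 (by
        simp [f, zero_pow (by omega : e ≠ 0)])
    let D' : Derivation k A (A ⧸ Ideal.span {s}) := Derivation.mk'
      { toFun := fun a => -π (D (Polynomial.C a))
        map_add' := fun a b => by simp only [map_add, neg_add]
        map_smul' := fun r a => by
          rw [← Polynomial.smul_C, Derivation.map_smul, RingHom.id_apply, smul_neg]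
          congr 1
          rw [Algebra.smul_def, map_mul, Algebra.smul_def]
          congr 1
          rw [IsScalarTower.algebraMap_apply k A (AdjoinRoot f)]
          exact AdjoinRoot.lift_of _ }
      (fun a b => by
        simp only [LinearMap.coe_mk, AddHom.coe_mk, map_mul, Derivation.leibniz, map_add, neg_add]
        congr 1 <;>
          (rw [Algebra.smul_def, map_mul, smul_neg, Algebra.smul_def]
           congr 2
           exact AdjoinRoot.lift_of _))
    have hD's : D' s = 1 := by
      have h1 : π (D (Polynomial.X ^ e - Polynomial.C s)) = 1 := (congrArg π hD).trans (map_one π)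
      rw [map_sub, map_sub, Derivation.leibniz_pow] at h1
      rw [← h1]
      change -π (D (Polynomial.C s)) = _
      have h0 : π (algebraMap (Polynomial A) (AdjoinRoot f) Polynomial.X) = 0 := AdjoinRoot.lift_root _
      rw [Algebra.smul_def (Polynomial.X ^ (e - 1)), map_nsmul, map_mul, map_pow, map_pow, h0,
        zero_pow (by omega : e - 1 ≠ 0), zero_mul, smul_zero, zero_sub]
    haveI : Algebra.FormallySmooth k (A ⧸ Ideal.span {s}) :=
      formallySmooth_of_derivation Ideal.Quotient.mk_surjective s Ideal.mk_ker D' hD's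
    exact ⟨this, Algebra.FinitePresentation.quotient (Submodule.fg_span_singleton s)⟩
  · intro hQ
    obtain ⟨D, hD⟩ := exists_derivation_of_formallySmooth (k := k) (P := A) (B := A ⧸ Ideal.span {s})
      Ideal.Quotient.mk_surjective s Ideal.mk_ker (nonZeroDivisor_of_irreducible (k := k) hs)
    obtain ⟨l, hl⟩ := Module.projective_lifting_property (Submodule.mkQ (Ideal.span {s}))
      D.liftKaehlerDifferential (Submodule.mkQ_surjective _)
    let d : Derivation k A A := l.compDer (KaehlerDifferential.D k A)
    obtain ⟨a, ha⟩ : ∃ a, d s = 1 + a * s := by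
      have h1 : Ideal.Quotient.mk (Ideal.span {s}) (d s) = 1 := by
        refine Eq.trans ?_ hD
        exact (LinearMap.congr_fun hl (KaehlerDifferential.D k A s)).trans
          (Derivation.liftKaehlerDifferential_comp_D D s)
      rw [← map_one (Ideal.Quotient.mk (Ideal.span {s})), Ideal.Quotient.eq, Ideal.mem_span_singleton'] at h1
      obtain ⟨a, ha⟩ := h1
      exact ⟨a, by linear_combination -ha⟩
    obtain ⟨u, hu⟩ := hekA.exists_left_inv
    haveI : Algebra.FormallySmooth k (AdjoinRoot f) := formallySmooth_of_derivation hsurjB f hkerB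
      ((Algebra.linearMap (Polynomial A) (AdjoinRoot f)).compDer
        (extend (-d) (Polynomial.C (-(u * a)) * Polynomial.X : Polynomial A))) (by
        change AdjoinRoot.mk f (extend (-d) (Polynomial.C (-(u * a)) * Polynomial.X : Polynomial A) f) = 1
        rw [hf, map_sub, Derivation.leibniz_pow, extend_C, extend_X, Derivation.neg_apply, ha,
          ← hf]
        rw [← map_one (AdjoinRoot.mk f), AdjoinRoot.mk_eq_mk]
        refine ⟨Polynomial.C (-a), ?_⟩
        have h3 : (Polynomial.C u : Polynomial A) * (e : Polynomial A) = 1 := by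
          rw [← map_natCast Polynomial.C, ← map_mul, hu, map_one]
        rw [nsmul_eq_mul, smul_eq_mul, hf]
        have hpow : (Polynomial.X : Polynomial A) ^ e = Polynomial.X ^ (e - 1) * Polynomial.X := by
          rw [← pow_succ, Nat.sub_add_cancel (by omega)]
        rw [hpow]
        simp only [map_mul, map_neg, map_add, map_one]
        linear_combination -(Polynomial.C a * Polynomial.X ^ (e - 1) * Polynomial.X) * h3)
    exact ⟨this, Algebra.FinitePresentation.trans k A (AdjoinRoot f)⟩

end Groth.Agent.S13782
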