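import Groth.Statements.S13784
import Mathlib.RingTheory.IntegralDomain
import Mathlib.RingTheory.LocalRing.ResidueField.Basic

set_option autoImplicit false
universe u
open CAlg

namespace Groth.Agent.S13784

/-- Let A be a commutative local ring and G a finite subgroup of Aˣ. If the order of G is invertible in
A, then G is cyclic. -/
theorem result {A : Type u} [CommRing A] [IsLocalRing A]
    (G : Subgroup Aˣ) [Finite G] (hG : IsUnit ((Nat.card G : ℕ) : A)) : IsCyclic G := by
  let f : G →* IsLocalRing.ResidueField A :=
    ((IsLocalRing.residue A).toMonoidHom.comp (Units.coeHom A)).comp G.subtype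
  refine isCyclic_of_injective_ringHom f ((injective_iff_map_eq_one f).mpr fun g hg => ?_)
  set n := Nat.card G with hn
  have hgn : ((g : Aˣ) : A) ^ n = 1 := by
    have h := pow_card_eq_one' (x := g)
    rw [← hn] at h
    have := congrArg (fun z : G => ((z : Aˣ) : A)) h
    simpa using this
  have hm : ((g : Aˣ) : A) - 1 ∈ IsLocalRing.maximalIdeal A := by
    rw [← IsLocalRing.residue_eq_zero_iff, map_sub, map_one, sub_eq_zero]
    exact hg
  have hsum : IsUnit (∑ i ∈ Finset.range n, ((g : Aˣ) : A) ^ i) := by
    by_contra hnu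
    have h0 : IsLocalRing.residue A (∑ i ∈ Finset.range n, ((g : Aˣ) : A) ^ i) = 0 :=
      (IsLocalRing.residue_eq_zero_iff _).mpr ((IsLocalRing.mem_maximalIdeal _).mpr hnu)
    have hg1 : IsLocalRing.residue A ((g : Aˣ) : A) = 1 := hg
    have := (hG.map (IsLocalRing.residue A)).ne_zero
    rw [map_natCast] at this
    simp [map_sum, map_pow, hg1] at h0
    exact this h0
  have : (((g : Aˣ) : A) - 1) * ∑ i ∈ Finset.range n, ((g : Aˣ) : A) ^ i = 0 := by
    rw [mul_comm, geom_sum_mul, hgn, sub_self]
  rw [hsum.mul_left_eq_zero, sub_eq_zero] at this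
  exact Subtype.ext (Units.ext this)

end Groth.Agent.S13784
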