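import Groth.Statements.S13785
import Mathlib.LinearAlgebra.Matrix.Charpoly.Coeff
import Mathlib.LinearAlgebra.Matrix.MvPolynomial

set_option autoImplicit false
universe u
open CAlg

namespace Groth.Agent.S13785

/-- For any commutative ring A, the determinant of the generic n × n matrix is a nonzerodivisor of the
polynomial ring over A in the n² matrix entries. -/
theorem result (A : Type u) [CommRing A] (n : ℕ) :
    (Matrix.mvPolynomialX (Fin n) (Fin n) A).det ∈ nonZeroDivisors (MvPolynomial (Fin n × Fin n) A) := by
  classical
  rw [mem_nonZeroDivisors_iff_right]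
  intro f hf
  let P := MvPolynomial (Fin n × Fin n) A
  let φ : P →+* Polynomial P :=
    (MvPolynomial.aeval (R := A) fun ij : Fin n × Fin n =>
      Polynomial.C (MvPolynomial.X ij : P) + if ij.1 = ij.2 then Polynomial.X else 0).toRingHom
  have hdet : φ (Matrix.mvPolynomialX (Fin n) (Fin n) A).det =
      Matrix.charpoly (-(Matrix.mvPolynomialX (Fin n) (Fin n) A)) := by
    rw [RingHom.map_det, Matrix.charpoly]
    congr 1
    refine Matrix.ext fun i j => ?_
    by_cases h : i = j
    · subst h; simp [φ, P, Matrix.charmatrix, sub_eq_add_neg, add_comm]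
    · simp [φ, P, Matrix.charmatrix, h]
  have h1 := congrArg φ hf
  rw [map_mul, map_zero, hdet] at h1
  have h2 : φ f = 0 := ((Matrix.charpoly_monic _).mul_left_eq_zero_iff).mp h1
  have h3 : (Polynomial.evalRingHom (0 : P)).comp φ = RingHom.id P := by
    refine MvPolynomial.ringHom_ext (fun r => ?_) (fun ij => ?_)
    · simp [φ, P, Polynomial.algebraMap_apply, MvPolynomial.algebraMap_eq]
    · by_cases h : ij.1 = ij.2 <;> simp [φ, P, h]
  have := RingHom.congr_fun h3 f
  simpa [h2] using this.symm

end Groth.Agent.S13785
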