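import Groth.Statements.S13786
import Mathlib.RingTheory.MvPolynomial.Groebner
import Mathlib.LinearAlgebra.Matrix.MvPolynomial
import Mathlib.LinearAlgebra.Projection
import Mathlib.RingTheory.Flat.FaithfullyFlat.Basic
import Mathlib.RingTheory.Flat.Basic
import Mathlib.LinearAlgebra.FreeModule.Basic
import Mathlib.Logic.Equiv.Fin.Basic

set_option autoImplicit false
universe u
open CAlg

namespace Groth.Agent.S13786

/-- For a commutative ring A and n ≥ 1, with det the determinant of the generic n × n matrix in the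
polynomial ring A[X] in n² indeterminates, the A-algebra A[X]/(det) is faithfully flat over A. (For
n = 0 the determinant is 1 and the quotient is the zero ring, so n ≥ 1 is required.) -/
theorem result (A : Type u) [CommRing A] (n : ℕ) (hn : 0 < n) :
    Module.FaithfullyFlat A
      (MvPolynomial (Fin n × Fin n) A ⧸ Ideal.span {(Matrix.mvPolynomialX (Fin n) (Fin n) A).det}) := by
  classical
  rcases subsingleton_or_nontrivial A with hA | hA
  · haveI : Module.Flat A (MvPolynomial (Fin n × Fin n) A ⧸ Ideal.span {(Matrix.mvPolynomialX (Fin n) (Fin n) A).det}) := by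
      haveI := Module.subsingleton A (MvPolynomial (Fin n × Fin n) A ⧸ Ideal.span {(Matrix.mvPolynomialX (Fin n) (Fin n) A).det})
      infer_instance
    exact ⟨fun {m} hm => absurd (Subsingleton.elim m ⊤) hm.ne_top⟩
  let L : LinearOrder (Fin n × Fin n) := LinearOrder.lift' finProdFinEquiv finProdFinEquiv.injective
  let m : MonomialOrder (Fin n × Fin n) := @MonomialOrder.lex _ L (@Finite.to_wellFoundedGT _ _ L.toPreorder)
  set D := (Matrix.mvPolynomialX (Fin n) (Fin n) A).det
  let e : Equiv.Perm (Fin n) → ((Fin n × Fin n) →₀ ℕ) := fun σ => ∑ i, Finsupp.single (σ i, i) 1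
  have heσ : ∀ σ i, e σ (σ i, i) = 1 := fun σ i => by
    simp [e, Finsupp.finsetSum_apply, Finsupp.single_apply, Prod.ext_iff]
  have heinj : Function.Injective e := fun σ τ h => by
    refine Equiv.ext fun i => ?_
    have h1 : e τ (σ i, i) = 1 := h ▸ heσ σ i
    by_contra hne
    rw [show e τ (σ i, i) = 0 from ?_] at h1
    · exact zero_ne_one h1
    simp only [e, Finsupp.finsetSum_apply]
    refine Finset.sum_eq_zero fun x _ => Finsupp.single_eq_of_ne fun h2 => ?_
    rw [Prod.ext_iff] at h2
    obtain ⟨h2, h3⟩ := h2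
    simp only at h2 h3
    subst h3
    exact hne h2
  have hD : D = ∑ σ : Equiv.Perm (Fin n), MvPolynomial.monomial (e σ) ((Equiv.Perm.sign σ : ℤ) : A) := by
    rw [show D = _ from Matrix.det_apply' _]
    refine Finset.sum_congr rfl fun σ _ => ?_
    rw [MvPolynomial.monomial_sum_index, map_intCast]
    congr 1
  have hcoeff : ∀ τ, D.coeff (e τ) = ((Equiv.Perm.sign τ : ℤ) : A) := fun τ => by
    rw [hD, MvPolynomial.coeff_sum, Finset.sum_eq_single τ (fun σ _ hne => ?_) (by simp)]
    · simp
    · rw [MvPolynomial.coeff_monomial, if_neg fun h => hne (heinj h)]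
  have hD0 : D ≠ 0 := Matrix.det_mvPolynomialX_ne_zero (Fin n) A
  have hdeg : m.degree D ∈ D.support := m.degree_mem_support hD0
  obtain ⟨τ, hτ⟩ : ∃ τ, e τ = m.degree D := by
    rw [MvPolynomial.mem_support_iff] at hdeg
    by_contra hne
    push Not at hne
    apply hdeg
    generalize m.degree D = c at hne ⊢
    rw [hD]
    rw [MvPolynomial.coeff_sum]
    exact Finset.sum_eq_zero fun σ _ => by rw [MvPolynomial.coeff_monomial, if_neg (hne σ)]
  have hlc : IsUnit (m.leadingCoeff D) := by
    rw [MonomialOrder.leadingCoeff, ← hτ, hcoeff]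
    exact (Units.map (Int.castRingHom A).toMonoidHom (Equiv.Perm.sign τ)).isUnit
  have hδ : m.degree D ≠ 0 := fun h => by
    have := heσ τ ⟨0, hn⟩
    rw [hτ, h] at this
    simp at this
  set δ := m.degree D
  let W : Submodule A (MvPolynomial (Fin n × Fin n) A) := MvPolynomial.restrictSupport A {c | ¬ δ ≤ c}
  let I : Submodule A (MvPolynomial (Fin n × Fin n) A) := (Ideal.span {D}).restrictScalars A
  have hcompl : IsCompl I W := by
    refine ⟨Submodule.disjoint_def.mpr fun p hpI hpW => ?_, codisjoint_iff.mpr (eq_top_iff.mpr fun p _ => ?_)⟩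
    · obtain ⟨q, rfl⟩ := Ideal.mem_span_singleton'.mp hpI
      by_contra hne
      have hq : q ≠ 0 := fun h => hne (by rw [h, zero_mul])
      have h1 : ¬ δ ≤ m.degree (q * D) := (MvPolynomial.mem_restrictSupport_iff A).mp hpW (m.degree_mem_support hne)
      refine h1 ?_
      rw [m.degree_mul_of_right_mem_nonZeroDivisors hq hlc.mem_nonZeroDivisors]
      exact le_add_self
    · obtain ⟨g, r, hp, -, hr⟩ := MonomialOrder.div_single hlc p
      rw [hp]
      exact Submodule.add_mem_sup (Ideal.mem_span_singleton'.mpr ⟨g, rfl⟩) hr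
  let eQ : (MvPolynomial (Fin n × Fin n) A ⧸ Ideal.span {D}) ≃ₗ[A] W :=
    ((Submodule.Quotient.restrictScalarsEquiv A (Ideal.span {D})).symm).trans (Submodule.quotientEquivOfIsCompl I W hcompl)
  haveI : Module.Free A W := Module.Free.of_basis (MvPolynomial.basisRestrictSupport A {c | ¬ δ ≤ c})
  haveI : Module.Free A (MvPolynomial (Fin n × Fin n) A ⧸ Ideal.span {D}) := Module.Free.of_equiv eQ.symm
  haveI : Nontrivial W := by
    refine ⟨⟨⟨1, ?_⟩, 0, fun h => one_ne_zero (congrArg Subtype.val h)⟩⟩
    intro c hc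
    have hc0 : c = 0 := by simpa using hc
    subst hc0
    exact fun h => hδ (le_antisymm h zero_le)
  haveI : Nontrivial (MvPolynomial (Fin n × Fin n) A ⧸ Ideal.span {D}) := eQ.toEquiv.nontrivial
  infer_instance

end Groth.Agent.S13786
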