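import Groth.Statements.S13787
import Mathlib.Algebra.Polynomial.Laurent
import Mathlib.LinearAlgebra.Matrix.MvPolynomial
import Mathlib.LinearAlgebra.Matrix.Determinant.Basic

set_option autoImplicit false
universe u
open CAlg

namespace Groth.Agent.S13787

/-- Let A be a nonzero commutative ring and n ≥ 1, let det be the determinant of the generic n × n
matrix in the polynomial ring A[X] in its n² entries, and let A[X, 1/det] be the localization at det
(the coordinate ring of GL_n over A). The homomorphism Aˣ × ℤ → (A[X, 1/det])ˣ sending (a, e) to a ·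
det^e is injective. (The published statement takes the exponent in the group of locally constant
ℤ-valued functions on Spec A, which also covers A = 0; with integer exponents as here, A must be
nonzero and n ≥ 1.) -/
theorem result (A : Type u) [CommRing A] [Nontrivial A] (n : ℕ) (hn : 0 < n) :
    Function.Injective (fun p : Aˣ × ℤ =>
        Units.map (algebraMap A (Localization.Away (Matrix.mvPolynomialX (Fin n) (Fin n) A).det)).toMonoidHom p.1 *
          (IsLocalization.Away.algebraMap_isUnit (S := Localization.Away (Matrix.mvPolynomialX (Fin n) (Fin n) A).det)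
            (Matrix.mvPolynomialX (Fin n) (Fin n) A).det).unit ^ p.2) := by
  classical
  let D := (Matrix.mvPolynomialX (Fin n) (Fin n) A).det
  let L := Localization.Away D
  have hdet : ∀ (B : Type u) [CommRing B] [Algebra A B] (M : Matrix (Fin n) (Fin n) B),
      MvPolynomial.aeval (fun ij : Fin n × Fin n => M ij.1 ij.2) D = M.det := fun B _ _ M => by
    rw [AlgHom.map_det]
    congr 1
    ext i j
    simp [Matrix.mvPolynomialX]
  let t : LaurentPolynomial A := LaurentPolynomial.T 1
  let i0 : Fin n := ⟨0, hn⟩
  let M : Matrix (Fin n) (Fin n) (LaurentPolynomial A) := Matrix.diagonal (Function.update 1 i0 t)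
  have hM : M.det = t := by
    simp [M, Matrix.det_diagonal, Finset.prod_update_of_mem]
  let ev : MvPolynomial (Fin n × Fin n) A →ₐ[A] LaurentPolynomial A := MvPolynomial.aeval fun ij => M ij.1 ij.2
  have hevD : ev D = t := (hdet _ M).trans hM
  let ψ : L →+* LaurentPolynomial A := IsLocalization.Away.lift D (g := ev.toRingHom) (by
    show IsUnit (ev D); rw [hevD]; exact LaurentPolynomial.isUnit_T 1)
  rintro ⟨a, e⟩ ⟨b, f⟩ h
  have key : ∀ (c : Aˣ) (k : ℤ), ψ ((Units.map (algebraMap A L).toMonoidHom c *
      (IsLocalization.Away.algebraMap_isUnit (S := L) D).unit ^ k : Lˣ) : L) =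
        LaurentPolynomial.C (c : A) * LaurentPolynomial.T k := by
    intro c k
    rw [Units.val_mul, map_mul]
    congr 1
    · show ψ (algebraMap A L c) = _
      rw [IsScalarTower.algebraMap_apply A (MvPolynomial (Fin n × Fin n) A) L, IsLocalization.Away.lift_eq]
      exact ev.commutes _
    · have hu : Units.map ψ.toMonoidHom (IsLocalization.Away.algebraMap_isUnit (S := L) D).unit =
          (LaurentPolynomial.isUnit_T (1 : ℤ)).unit := Units.ext (by
        simp only [Units.coe_map, IsUnit.unit_spec]
        exact (IsLocalization.Away.lift_eq _ _ _).trans hevD)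
      show ((Units.map ψ.toMonoidHom (_ ^ k) : (LaurentPolynomial A)ˣ) : LaurentPolynomial A) = _
      rw [map_zpow, hu]
      induction k using Int.induction_on with
      | zero => simp
      | succ k ih => rw [zpow_add_one, Units.val_mul, ih, IsUnit.unit_spec, ← LaurentPolynomial.T_add]
      | pred k ih =>
        have h1 := ih
        rw [show (-(k : ℤ)) = (-(k : ℤ) - 1) + 1 by ring, zpow_add_one, Units.val_mul, IsUnit.unit_spec,
          LaurentPolynomial.T_add] at h1
        exact (LaurentPolynomial.isUnit_T 1).mul_right_cancel h1
  have h1 := congrArg (fun x : Lˣ => ψ (x : L)) h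
  simp only at h1
  rw [key a e, key b f, ← LaurentPolynomial.single_eq_C_mul_T, ← LaurentPolynomial.single_eq_C_mul_T] at h1
  have h2 := congrArg (fun p : LaurentPolynomial A => p.coeff e) h1
  simp only [AddMonoidAlgebra.coeff_single, Finsupp.single_apply] at h2
  by_cases hef : f = e
  · subst hef
    simp at h2
    exact Prod.ext (Units.ext h2) rfl
  · simp [hef] at h2

end Groth.Agent.S13787
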