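
import Groth.Statements.S6485
import Mathlib.RingTheory.MvPolynomial.IrreducibleQuadratic
import Mathlib.LinearAlgebra.Matrix.MvPolynomial
import Mathlib.LinearAlgebra.Matrix.Permutation
import Mathlib.RingTheory.Polynomial.UniqueFactorization

set_option autoImplicit false
universe u
open IntMult

namespace Groth.Agent.S6485

open MvPolynomial in
/-- Expansion along the first row. -/
theorem step (k : Type u) [Field k] (m : ℕ) (hm : 1 ≤ m)
    (ih : Irreducible (Matrix.mvPolynomialX (Fin m) (Fin m) k).det) :
    Irreducible (Matrix.mvPolynomialX (Fin (m + 1)) (Fin (m + 1)) k).det := by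
  classical
  set X' := Matrix.mvPolynomialX (Fin (m + 1)) (Fin (m + 1)) k with hX'
  set i₀ : Fin (m + 1) × Fin (m + 1) := (0, 0)
  set M : MvPolynomial (Fin (m + 1) × Fin (m + 1)) k := (X'.submatrix Fin.succ Fin.succ).det
  set N : MvPolynomial (Fin (m + 1) × Fin (m + 1)) k :=
    ∑ j : Fin m, (-1) ^ (j.succ : ℕ) * X (0, j.succ) *
      (X'.submatrix Fin.succ j.succ.succAbove).det with hN
  have hdet : X'.det = M * X i₀ + N := by
    rw [Matrix.det_succ_row_zero, Fin.sum_univ_succ]
    simp only [Fin.val_zero, pow_zero, one_mul, Fin.succAbove_zero]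
    rw [show X' 0 0 = X i₀ from rfl, mul_comm]
    rfl
  let ι : Fin m × Fin m → Fin (m + 1) × Fin (m + 1) := Prod.map Fin.succ Fin.succ
  have hι : Function.Injective ι := (Fin.succ_injective _).prodMap (Fin.succ_injective _)
  have hM : M = rename ι (Matrix.mvPolynomialX (Fin m) (Fin m) k).det := by
    rw [AlgHom.map_det]
    exact congrArg Matrix.det (Matrix.ext fun i j => by simp [X', ι])
  -- `M` is irreducible
  have hMirr : Irreducible M := by
    rw [hM]
    let e : Fin m × Fin m ≃ Set.range ι := Equiv.ofInjective ι hι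
    rw [show ι = (Subtype.val : Set.range ι → _) ∘ e from rfl, ← rename_rename]
    refine Prime.irreducible ((MvPolynomial.prime_rename_iff _).2 ?_)
    exact (MulEquiv.prime_iff (renameEquiv k e)).2 (UniqueFactorizationMonoid.irreducible_iff_prime.1 ih)
  -- variables
  have hrow : ∀ (g : Fin m → Fin (m + 1)) (A : Matrix (Fin m) (Fin m)
      (MvPolynomial (Fin (m + 1) × Fin (m + 1)) k)),
      A = X'.submatrix Fin.succ g → i₀ ∉ A.det.vars := by
    intro g A hA hmem
    have : A.det = rename (fun p : Fin m × Fin m => (p.1.succ, g p.2))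
        (Matrix.mvPolynomialX (Fin m) (Fin m) k).det := by
      rw [AlgHom.map_det, hA]
      exact congrArg Matrix.det (Matrix.ext fun i j => by simp [X'])
    rw [this] at hmem
    obtain ⟨p, -, hp⟩ := Finset.mem_image.1 (vars_rename _ _ hmem)
    exact Fin.succ_ne_zero _ (congrArg Prod.fst hp)
  have hiM : i₀ ∉ M.vars := hrow _ _ rfl
  have hiN : i₀ ∉ N.vars := by
    intro h
    rw [hN] at h
    obtain ⟨j, -, hj⟩ := Finset.mem_biUnion.1 (vars_sum_subset _ _ h)
    rcases Finset.mem_union.1 (vars_mul _ _ hj) with hj | hj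
    · rcases Finset.mem_union.1 (vars_mul _ _ hj) with hj | hj
      · have : ((-1 : MvPolynomial (Fin (m + 1) × Fin (m + 1)) k)) ^ (j.succ : ℕ) =
            C ((-1) ^ (j.succ : ℕ)) := by simp
        rw [this, vars_C] at hj
        exact Finset.notMem_empty _ hj
      · rw [vars_X, Finset.mem_singleton] at hj
        exact Fin.succ_ne_zero _ (congrArg Prod.snd hj).symm
    · exact hrow _ _ rfl hj
  rw [hdet]
  refine irreducible_mul_X_add M N i₀ hMirr.ne_zero hiM hiN ?_
  refine hMirr.isRelPrime_iff_not_dvd.2 ?_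
  rintro ⟨q, hq⟩
  -- evaluate at a transposition matrix
  let a : Fin (m + 1) := ⟨1, by omega⟩
  let σ : Equiv.Perm (Fin (m + 1)) := Equiv.swap 0 a
  let v : Fin (m + 1) × Fin (m + 1) → k := fun p => σ.permMatrix k p.1 p.2
  have h1 : eval v X'.det ≠ 0 := by
    rw [hX', Matrix.eval_det_mvPolynomialX, show (Matrix.of fun i j => v (i, j)) = σ.permMatrix k
      from rfl, Matrix.det_permutation]
    rcases Int.units_eq_one_or (Equiv.Perm.sign σ) with h | h <;> simp [h]
  have h2 : eval v M = 0 := by
    rw [RingHom.map_det]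
    apply Matrix.det_eq_zero_of_row_eq_zero (⟨0, hm⟩ : Fin m)
    intro j
    simp only [RingHom.mapMatrix_apply, Matrix.map_apply, Matrix.submatrix_apply, X',
      Matrix.mvPolynomialX_apply, eval_X, v, Equiv.Perm.permMatrix, PEquiv.toMatrix_apply,
      Equiv.toPEquiv_apply, Option.mem_def, Option.some.injEq]
    rw [if_neg]
    rw [show (⟨0, hm⟩ : Fin m).succ = a from rfl, Equiv.swap_apply_right]
    exact (Fin.succ_ne_zero j).symm
  apply h1
  rw [hdet, hq, map_add, map_mul, map_mul, h2, zero_mul, zero_mul, add_zero]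

/-- Let k be a field and n ≥ 1. Then the determinant of the generic matrix (x_{ij})_{1 ≤ i, j ≤ n} is an
irreducible element of the polynomial ring k[x_{ij}] (Mathlib's Matrix.mvPolynomialX is the generic
matrix over MvPolynomial (Fin n × Fin n) k). -/
theorem result (k : Type u) [Field k] (n : ℕ) (hn : 1 ≤ n) : Irreducible (Matrix.mvPolynomialX (Fin n) (Fin n) k).det := by
  classical
  induction n, hn using Nat.le_induction with
  | base =>
    rw [Matrix.det_fin_one]
    rw [Matrix.mvPolynomialX_apply]
    simpa using MvPolynomial.irreducible_mul_X_add (R := k) (1 : MvPolynomial (Fin 1 × Fin 1) k) 0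
      (0, 0) one_ne_zero (by simp) (by simp) isRelPrime_one_left
  | succ m hm ih => exact Groth.Agent.S6485.step k m hm ih

end Groth.Agent.S6485
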