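import Groth.Statements.S13788
import Groth.Agent.S13787
import Groth.Agent.S6485
import Mathlib.RingTheory.MvPolynomial.Homogeneous
import Mathlib.RingTheory.Polynomial.UniqueFactorization
import Mathlib.RingTheory.Nilpotent.Lemmas
import Mathlib.RingTheory.LocalRing.ResidueField.Ideal
import Mathlib.RingTheory.MvPolynomial.Basic
import Mathlib.Algebra.MvPolynomial.Nilpotent
import Mathlib.Algebra.Polynomial.Laurent

set_option autoImplicit false
universe u
open CAlg

namespace Groth.Agent.S13788

/-- Units of GL_n: let A be a nonzero commutative ring whose only idempotents are 0 and 1, let n ≥ 1,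
let det be the determinant of the generic n × n matrix in the polynomial ring A[X] in its n²
entries, and let A[X, 1/det] be the coordinate ring of GL_n over A. The homomorphism Aˣ × ℤ → (A[X,
1/det])ˣ, (a, e) ↦ a · det^e, is bijective if and only if A is reduced. (The published statement
allows Spec A disconnected, with exponents locally constant ℤ-valued functions on Spec A; this row
is the connected case, to which the published proof reduces.) -/
theorem result (A : Type u) [CommRing A] [Nontrivial A]
    (hconn : ∀ e : A, IsIdempotentElem e → e = 0 ∨ e = 1) (n : ℕ) (hn : 0 < n) :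
    Function.Bijective (fun p : Aˣ × ℤ =>
        Units.map (algebraMap A (Localization.Away (Matrix.mvPolynomialX (Fin n) (Fin n) A).det)).toMonoidHom p.1 *
          (IsLocalization.Away.algebraMap_isUnit (S := Localization.Away (Matrix.mvPolynomialX (Fin n) (Fin n) A).det)
            (Matrix.mvPolynomialX (Fin n) (Fin n) A).det).unit ^ p.2) ↔ IsReduced A := by
  classical
  let D := (Matrix.mvPolynomialX (Fin n) (Fin n) A).det
  let L := Localization.Away D
  have hDu : IsUnit (algebraMap (MvPolynomial (Fin n × Fin n) A) L D) := IsLocalization.Away.algebraMap_isUnit _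
  have hdet : ∀ (B : Type u) [CommRing B] [Algebra A B] (M : Matrix (Fin n) (Fin n) B),
      MvPolynomial.aeval (fun ij : Fin n × Fin n => M ij.1 ij.2) D = M.det := fun B _ _ M => by
    rw [AlgHom.map_det]
    congr 1
    ext i j
    simp [Matrix.mvPolynomialX]
  let t : LaurentPolynomial A := LaurentPolynomial.T 1
  let i0 : Fin n := ⟨0, hn⟩
  constructor
  · intro hbij
    refine isReduced_iff_pow_one_lt 2 one_lt_two |>.mpr fun ε hε => ?_
    let X0 : L := algebraMap _ L (MvPolynomial.C ε * MvPolynomial.X (i0, i0))
    have hsq : X0 * X0 = 0 := by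
      rw [← map_mul, show (MvPolynomial.C ε * MvPolynomial.X (i0, i0)) * (MvPolynomial.C ε * MvPolynomial.X (i0, i0)) =
        MvPolynomial.C (ε ^ 2) * MvPolynomial.X (i0, i0) ^ 2 by rw [map_pow]; ring, hε, map_zero, zero_mul, map_zero]
    let u : Lˣ := ⟨1 + X0, 1 - X0, by linear_combination -hsq, by linear_combination -hsq⟩
    obtain ⟨⟨a, e⟩, hae⟩ := hbij.2 u
    have hae' : Units.map (algebraMap A L).toMonoidHom a * hDu.unit ^ e = u := hae
    let M : Matrix (Fin n) (Fin n) (LaurentPolynomial A) := Matrix.diagonal (Function.update 1 i0 t)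
    have hM : M.det = t := by
      simp [M, Matrix.det_diagonal, Finset.prod_update_of_mem]
    let ev : MvPolynomial (Fin n × Fin n) A →ₐ[A] LaurentPolynomial A := MvPolynomial.aeval fun ij => M ij.1 ij.2
    have hevD : ev D = t := (hdet _ M).trans hM
    let ψ : L →+* LaurentPolynomial A := IsLocalization.Away.lift D (g := ev.toRingHom) (by
      show IsUnit (ev D); rw [hevD]; exact LaurentPolynomial.isUnit_T 1)
    have hψ : ∀ p, ψ (algebraMap _ L p) = ev p := fun p => IsLocalization.Away.lift_eq _ _ _
    clear hae
    have hψD : ∀ e : ℤ, ψ ((hDu.unit ^ e : Lˣ) : L) = LaurentPolynomial.T e := fun e => by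
      have hu : Units.map ψ.toMonoidHom hDu.unit = (LaurentPolynomial.isUnit_T (1 : ℤ)).unit := Units.ext (by
        simp only [Units.coe_map, IsUnit.unit_spec]
        exact (hψ D).trans hevD)
      show ((Units.map ψ.toMonoidHom (_ ^ e) : (LaurentPolynomial A)ˣ) : LaurentPolynomial A) = _
      rw [map_zpow, hu]
      induction e using Int.induction_on with
      | zero => simp
      | succ k ih => rw [zpow_add_one, Units.val_mul, ih, IsUnit.unit_spec, ← LaurentPolynomial.T_add]
      | pred k ih =>
        have h1 := ih
        rw [show (-(k : ℤ)) = (-(k : ℤ) - 1) + 1 by ring, zpow_add_one, Units.val_mul, IsUnit.unit_spec,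
          LaurentPolynomial.T_add] at h1
        exact (LaurentPolynomial.isUnit_T 1).mul_right_cancel h1
    have h1 := congrArg (fun x : Lˣ => ψ (x : L)) hae'
    simp only [Units.val_mul, map_mul] at h1
    have h2 : ψ ((Units.map (algebraMap A L).toMonoidHom a : Lˣ) : L) = LaurentPolynomial.C (a : A) := by
      show ψ (algebraMap A L a) = _
      rw [IsScalarTower.algebraMap_apply A (MvPolynomial (Fin n × Fin n) A) L, hψ]
      exact ev.commutes _
    rw [h2, hψD] at h1
    have h3 : ψ (u : L) = 1 + LaurentPolynomial.C ε * t := by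
      show ψ (1 + X0) = _
      rw [map_add, map_one, hψ, map_mul, MvPolynomial.aeval_X]
      simp [M, ev]
    rw [h3, ← LaurentPolynomial.single_eq_C_mul_T, show (1 : LaurentPolynomial A) = AddMonoidAlgebra.single 0 1 from rfl,
      ← LaurentPolynomial.single_eq_C_mul_T] at h1
    have h4 := congrArg (fun p : LaurentPolynomial A => p.coeff 0) h1
    have h5 := congrArg (fun p : LaurentPolynomial A => p.coeff 1) h1
    simp only [AddMonoidAlgebra.coeff_add, Finsupp.add_apply, AddMonoidAlgebra.coeff_single, Finsupp.single_apply] at h4 h5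
    by_cases he0 : e = 0
    · subst he0; simpa using h5.symm
    · exfalso
      rw [if_neg he0] at h4
      simp at h4
  · intro hred
    refine ⟨Groth.Agent.S13787.result A n hn, fun u => ?_⟩
    obtain ⟨f₀, N, hf⟩ : ∃ (f : MvPolynomial (Fin n × Fin n) A) (N : ℕ), (u : L) * algebraMap _ L D ^ N = algebraMap _ L f := by
      obtain ⟨⟨x, ⟨_, N, rfl⟩⟩, hx⟩ := IsLocalization.surj (Submonoid.powers D) (u : L)
      exact ⟨x, N, by rw [← map_pow]; exact hx⟩
    obtain ⟨g, N', hg⟩ : ∃ (g : MvPolynomial (Fin n × Fin n) A) (N : ℕ), ((u⁻¹ : Lˣ) : L) * algebraMap _ L D ^ N = algebraMap _ L g := by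
      obtain ⟨⟨x, ⟨_, N, rfl⟩⟩, hx⟩ := IsLocalization.surj (Submonoid.powers D) ((u⁻¹ : Lˣ) : L)
      exact ⟨x, N, by rw [← map_pow]; exact hx⟩
    have hfg0 : algebraMap _ L (f₀ * g) = algebraMap _ L (D ^ (N + N')) := by
      rw [map_mul, ← hf, ← hg, map_pow, pow_add]
      linear_combination (algebraMap _ L D ^ N * algebraMap _ L D ^ N') * u.mul_inv
    obtain ⟨⟨_, j, rfl⟩, hj⟩ := (IsLocalization.eq_iff_exists (Submonoid.powers D) L).mp hfg0
    let f := D ^ j * f₀
    let M := j + (N + N')
    have hfgM : f * g = D ^ M := by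
      simp only [f, M, pow_add, mul_assoc]
      simp only [pow_add] at hj
      exact hj
    let id1 : Fin n × Fin n → A := fun ij => if ij.1 = ij.2 then 1 else 0
    have hevD : MvPolynomial.eval id1 D = 1 := by
      rw [RingHom.map_det]
      rw [show (MvPolynomial.eval id1).mapMatrix (Matrix.mvPolynomialX (Fin n) (Fin n) A) = 1 by
        ext i j; simp [Matrix.mvPolynomialX, id1, Matrix.one_apply], Matrix.det_one]
    let a := MvPolynomial.eval id1 f
    have ha : IsUnit a := IsUnit.of_mul_eq_one (MvPolynomial.eval id1 g) (by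
      rw [← map_mul, hfgM, map_pow, hevD, one_pow])
    let c : ℕ → A := fun e => MvPolynomial.eval id1 (MvPolynomial.homogeneousComponent (n * e) f)
    -- description modulo each prime
    have key : ∀ (p : Ideal A) [p.IsPrime], ∃ e ≤ M, (MvPolynomial.map (algebraMap A p.ResidueField) f =
        MvPolynomial.C (algebraMap A p.ResidueField a) * MvPolynomial.map (algebraMap A p.ResidueField) D ^ e) ∧
        ∀ e', algebraMap A p.ResidueField (c e') = if e' = e then algebraMap A p.ResidueField a else 0 := by
      intro p _
      let k := p.ResidueField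
      let φ := algebraMap A k
      let Dk := (Matrix.mvPolynomialX (Fin n) (Fin n) k).det
      have hDmap : MvPolynomial.map φ D = Dk := by
        rw [RingHom.map_det]
        congr 1
        ext i j; simp [Matrix.mvPolynomialX]
      have hDprime : Prime Dk := (Groth.Agent.S6485.result k n hn).prime
      have hdvd : MvPolynomial.map φ f ∣ Dk ^ M := ⟨MvPolynomial.map φ g, by rw [← map_mul, hfgM, map_pow, hDmap]⟩
      obtain ⟨e, he, hass⟩ := (dvd_prime_pow hDprime M).mp hdvd
      obtain ⟨w, hw⟩ := hass.symm
      obtain ⟨w0, -, hw0⟩ := MvPolynomial.isUnit_iff_eq_C_of_isReduced.mp w.isUnit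
      have hevk : MvPolynomial.eval (φ ∘ id1) Dk = 1 := by
        rw [← hDmap, MvPolynomial.eval_map, ← MvPolynomial.eval₂_comp, hevD, map_one]
      have hwa : w0 = φ a := by
        have h := congrArg (MvPolynomial.eval (φ ∘ id1)) hw
        rw [map_mul, map_pow, hevk, one_pow, one_mul, hw0, MvPolynomial.eval_C, MvPolynomial.eval_map,
          ← MvPolynomial.eval₂_comp] at h
        exact h
      have hfe : MvPolynomial.map φ f = MvPolynomial.C (φ a) * Dk ^ e := by
        rw [← hw, hw0, hwa, mul_comm]
      refine ⟨e, he, by rw [hDmap]; exact hfe, fun e' => ?_⟩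
      have hhom : (MvPolynomial.C (φ a) * Dk ^ e).IsHomogeneous (n * e) := by
        have hD1 : Dk.IsHomogeneous n := by
          simp only [Dk, Matrix.det_apply]
          refine MvPolynomial.IsHomogeneous.sum _ _ _ fun σ _ => ?_
          have hp : (∏ i, Matrix.mvPolynomialX (Fin n) (Fin n) k (σ i) i).IsHomogeneous n := by
            simpa [Matrix.mvPolynomialX] using MvPolynomial.IsHomogeneous.prod Finset.univ
              (fun i => (MvPolynomial.X (σ i, i) : MvPolynomial (Fin n × Fin n) k)) (fun _ => 1)
              fun i _ => MvPolynomial.isHomogeneous_X k _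
          rw [Units.smul_def, ← MvPolynomial.mem_homogeneousSubmodule]
          exact zsmul_mem hp _
        exact (hD1.pow e).C_mul _
      have hcomm : MvPolynomial.map φ (MvPolynomial.homogeneousComponent (n * e') f) =
          MvPolynomial.homogeneousComponent (n * e') (MvPolynomial.map φ f) := by
        apply MvPolynomial.ext
        intro d
        rw [MvPolynomial.coeff_map, MvPolynomial.coeff_homogeneousComponent, MvPolynomial.coeff_homogeneousComponent,
          MvPolynomial.coeff_map]
        split_ifs <;> simp
      show φ (MvPolynomial.eval id1 _) = _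
      rw [MvPolynomial.eval₂_comp, ← MvPolynomial.eval_map, hcomm, hfe,
        MvPolynomial.homogeneousComponent_of_mem hhom]
      by_cases h : e' = e
      · subst h; simp [hevk]; rfl
      · rw [if_neg h, if_neg (fun h' => h (Nat.eq_of_mul_eq_mul_left hn h')), map_zero]
    have hzero : ∀ x : A, (∀ (p : Ideal A) [p.IsPrime], algebraMap A p.ResidueField x = 0) → x = 0 := fun x hx => by
      refine IsReduced.eq_zero x ?_
      rw [← mem_nilradical, nilradical_eq_sInf, Submodule.mem_sInf]
      intro p hp
      haveI : Ideal.IsPrime p := hp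
      exact Ideal.algebraMap_residueField_eq_zero.mp (hx p)
    obtain ⟨ai, hai⟩ := ha.exists_left_inv
    have hne : ∀ (p : Ideal A) [p.IsPrime], algebraMap A p.ResidueField a ≠ 0 := fun p _ => (ha.map _).ne_zero
    have hidem : ∀ e, IsIdempotentElem (ai * c e) := fun e => sub_eq_zero.mp <| hzero _ fun p _ => by
      obtain ⟨e₁, -, -, h⟩ := key p
      have h1 : algebraMap A p.ResidueField ai * algebraMap A p.ResidueField a = 1 := by rw [← map_mul, hai, map_one]
      simp only [map_sub, map_mul, h]
      split_ifs
      · rw [h1]; ring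
      · ring
    obtain ⟨p₀, hp₀⟩ := Ideal.exists_maximal A
    obtain ⟨e, he, -, hce⟩ := key p₀
    have hone : ai * c e = 1 := (hconn _ (hidem e)).resolve_left fun h => by
      have h' := congrArg (algebraMap A p₀.ResidueField) h
      rw [map_mul, hce, if_pos rfl, ← map_mul, hai, map_one, map_zero] at h'
      exact one_ne_zero h'
    have hfeq : f = MvPolynomial.C a * D ^ e := by
      rw [← sub_eq_zero]
      apply MvPolynomial.ext
      intro d
      rw [MvPolynomial.coeff_zero]
      refine hzero _ fun p _ => ?_
      obtain ⟨e₁, -, hf1, hc1⟩ := key p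
      have : e = e₁ := by
        by_contra hne'
        have h' := congrArg (algebraMap A p.ResidueField) hone
        rw [map_mul, hc1, if_neg hne', mul_zero, map_one] at h'
        exact zero_ne_one h'
      subst this
      rw [← MvPolynomial.coeff_map, map_sub, hf1, map_mul, map_pow, MvPolynomial.map_C, sub_self, MvPolynomial.coeff_zero]
    refine ⟨⟨ha.unit, (e : ℤ) - ((j + N : ℕ) : ℤ)⟩, ?_⟩
    have hU : u * hDu.unit ^ ((j + N : ℕ) : ℤ) =
        Units.map (algebraMap A L).toMonoidHom ha.unit * hDu.unit ^ (e : ℤ) := by
      apply Units.ext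
      simp only [Units.val_mul, zpow_natCast, Units.val_pow_eq_pow_val, IsUnit.unit_spec, Units.coe_map]
      have h1 := congrArg (algebraMap _ L) hfeq
      rw [map_mul, map_pow, map_mul, map_pow, ← hf] at h1
      show (u : L) * _ = algebraMap A L a * _
      rw [IsScalarTower.algebraMap_apply A (MvPolynomial (Fin n × Fin n) A) L, MvPolynomial.algebraMap_eq, ← h1, pow_add]
      ring
    show Units.map (algebraMap A L).toMonoidHom ha.unit * hDu.unit ^ ((e : ℤ) - ((j + N : ℕ) : ℤ)) = u
    rw [zpow_sub, ← mul_assoc, ← hU, mul_inv_cancel_right]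

end Groth.Agent.S13788
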