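import Groth.Statements.S13790
import Mathlib.RingTheory.Localization.FractionRing

set_option autoImplicit false
universe u
open CAlg

namespace Groth.Agent.S13790

/-- Let A be a commutative ring with total ring of fractions Q and let B be a ring with A ⊆ B ⊆ Q. Then
Q, with the inclusion B ⊆ Q, is the total ring of fractions of B. -/
theorem result {A Q : Type u} [CommRing A] [CommRing Q] [Algebra A Q] [IsFractionRing A Q] (B : Subalgebra A Q) :
    IsFractionRing B Q := by
  have hmk : ∀ q : Q, ∃ r u : A, u ∈ nonZeroDivisors A ∧ q * algebraMap A Q u = algebraMap A Q r := fun q => by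
    obtain ⟨⟨r, u⟩, h⟩ := IsLocalization.surj (nonZeroDivisors A) q
    exact ⟨r, u, u.2, h⟩
  have hnzd : ∀ a : A, a ∈ nonZeroDivisors A → algebraMap A B a ∈ nonZeroDivisors B := fun a ha => by
    rw [mem_nonZeroDivisors_iff_right]
    intro x hx
    have hu := (IsLocalization.map_units Q (⟨a, ha⟩ : nonZeroDivisors A))
    refine Subtype.ext (hu.mul_left_eq_zero.mp ?_)
    exact congrArg Subtype.val hx
  have hback : ∀ b : B, b ∈ nonZeroDivisors B → ∃ r u : A, r ∈ nonZeroDivisors A ∧ u ∈ nonZeroDivisors A ∧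
      (b : Q) * algebraMap A Q u = algebraMap A Q r := fun b hb => by
    obtain ⟨r, u, hu, h⟩ := hmk b
    refine ⟨r, u, ?_, hu, h⟩
    rw [mem_nonZeroDivisors_iff_right]
    intro a ha
    have h1 : algebraMap A B a * algebraMap A B u * b = 0 := by
      apply Subtype.ext
      change algebraMap A Q a * algebraMap A Q u * (b : Q) = 0
      rw [mul_assoc, mul_comm (algebraMap A Q u), h, ← map_mul, ha, map_zero]
    have h2 : algebraMap A B a * algebraMap A B u = 0 := mem_nonZeroDivisors_iff_right.mp hb _ h1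
    have h3 := mem_nonZeroDivisors_iff_right.mp (hnzd u hu) _ h2
    have h4 : algebraMap A Q a = 0 := congrArg Subtype.val h3
    exact (map_eq_zero_iff _ (IsFractionRing.injective A Q)).mp h4
  refine ⟨⟨fun b => ?_, fun q => ?_, fun {x y} h => ⟨1, ?_⟩⟩⟩
  · obtain ⟨r, u, hr, hu, h⟩ := hback b b.2
    have hr' := IsLocalization.map_units Q (⟨r, hr⟩ : nonZeroDivisors A)
    rw [show algebraMap A Q (⟨r, hr⟩ : nonZeroDivisors A) = (b.1 : Q) * algebraMap A Q u from h.symm] at hr'
    exact (IsUnit.mul_iff.mp hr').1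
  · obtain ⟨r, u, hu, h⟩ := hmk q
    exact ⟨⟨algebraMap A B r, ⟨algebraMap A B u, hnzd u hu⟩⟩, h⟩
  · rw [show x = y from Subtype.ext h]

end Groth.Agent.S13790
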