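import Groth.Statements.S13791
import Groth.Agent.L10.ConstSec
import Mathlib.Algebra.Homology.ShortComplex.ExactFunctor
import Mathlib.Algebra.Homology.DerivedCategory.Ext.ExactSequences

set_option autoImplicit false
set_option backward.defeqAttrib.useBackward true
set_option backward.isDefEq.respectTransparency false
set_option backward.defeqAttrib.useBackward true
set_option backward.isDefEq.respectTransparency false
universe u
open CategoryTheory
open CohSite

namespace Groth.Agent.S13791

/-- On a site, for a short exact sequence 0 → A → B → C → 0 of abelian groups the map H¹(A) → H¹(B) on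
the first cohomology of the associated constant sheaves is injective. Stated for an injective
homomorphism f : A → B (C being its cokernel), with H¹ the Ext-based sheaf cohomology of the site. -/
theorem result {C : Type u} [SmallCategory C] (J : GrothendieckTopology C)
    {A B : Type u} [AddCommGroup A] [AddCommGroup B] (f : A →+ B) (hf : Function.Injective f) :
    Function.Injective
      (Sheaf.H.map ((constantSheaf J AddCommGrpCat.{u}).map (AddCommGrpCat.ofHom f)) 1) := by
  let F := AddCommGrpCat.ofHom f
  haveI : Mono F := (AddCommGrpCat.mono_iff_injective F).2 hf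
  let S₀ := ShortComplex.mk F (Limits.cokernel.π F) (Limits.cokernel.condition F)
  have hS₀ : S₀.ShortExact :=
    { exact := ShortComplex.exact_of_g_is_cokernel S₀ (Limits.cokernelIsCokernel F) }
  haveI : Limits.PreservesFiniteLimits (constantSheaf J AddCommGrpCat.{u}) :=
    Limits.comp_preservesFiniteLimits (Functor.const Cᵒᵖ) (presheafToSheaf J AddCommGrpCat.{u})
  haveI : Limits.PreservesFiniteColimits (constantSheaf J AddCommGrpCat.{u}) :=
    Limits.comp_preservesFiniteColimits (Functor.const Cᵒᵖ) (presheafToSheaf J AddCommGrpCat.{u})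
  have h1 := hS₀.map_of_exact (constantSheaf J AddCommGrpCat.{u})
  rw [injective_iff_map_eq_zero]
  intro x hx
  obtain ⟨x₃, rfl⟩ := Abelian.Ext.covariant_sequence_exact₁ _ h1 x hx (n₀ := 0) rfl
  obtain ⟨ψ, rfl⟩ := (Abelian.Ext.mk₀_bijective _ _).2 x₃
  obtain ⟨φ, rfl⟩ := Groth.L10.ConstSec.surjective_hom J S₀.g
    ((AddCommGrpCat.epi_iff_surjective _).1 hS₀.epi_g) ψ
  rw [← Abelian.Ext.mk₀_comp_mk₀, Abelian.Ext.comp_assoc_of_second_deg_zero]
  erw [h1.comp_extClass, Abelian.Ext.comp_zero]

end Groth.Agent.S13791
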