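import Groth.Statements.S13792
import Groth.Agent.L21.CurveTop

set_option autoImplicit false
universe u
open CategoryTheory AlgebraicGeometry
open Curves

namespace Groth.Agent.S13792

/-- Let k be a field and E an integral k-scheme of finite type whose underlying space has dimension 1,
and let ι : G → E be a closed immersion. Then either ι is an isomorphism or G is finite over k. (The
published statement is about a closed subgroup scheme of an elliptic curve and its proof states this
fact for E geometrically integral; this row assumes only that E is integral.) -/
theorem result {k : Type u} [Field k]
    {E G : Scheme.{u}} (f : E ⟶ Spec (CommRingCat.of k)) [LocallyOfFiniteType f] [QuasiCompact f]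
    [IsIntegral E] (hdim : topologicalKrullDim ↥E = 1) (ι : G ⟶ E) [IsClosedImmersion ι] :
    IsIso ι ∨ IsFinite (ι ≫ f) := by
  exact Groth.L21.CurveTop.isIso_or_isFinite f hdim.le ι

end Groth.Agent.S13792
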