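import Groth.Statements.S13794
import Mathlib.Tactic.LinearCombination
import Mathlib.Tactic.NormNum
import Mathlib.Algebra.Polynomial.Coeff

set_option autoImplicit false
universe u
open Polynomial
open Curves

namespace Groth.Agent.S13794

/-- Let k be a field of characteristic not 3 and β ∈ k. If a line ax + by + c = 0 with a³ ≠ b³ is the
tangent line at a flex point of the affine cubic x³ + y³ + β = 3xy, then β is a cube in k. Here the
line is normalised to b ≠ 0 (the roles of x and y are symmetric) and the flex-tangency is expressed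
by the restriction of the cubic to the line being λ (x − x₀)³. -/
theorem result {k : Type u} [Field k] (h3 : (3 : k) ≠ 0)
    (β a b c : k) (hb : b ≠ 0) (hab : a ^ 3 ≠ b ^ 3) (lam x₀ : k)
    (hflex : (X : k[X]) ^ 3 + (C (-a / b) * X + C (-c / b)) ^ 3 + C β - 3 * X * (C (-a / b) * X + C (-c / b)) =
      C lam * (X - C x₀) ^ 3) :
    ∃ γ : k, β = γ ^ 3 := by
  have hμ : (-a / b) ^ 3 + 1 ≠ 0 := by
    intro h
    apply hab
    rw [div_pow, div_add_one (pow_ne_zero _ hb), div_eq_zero_iff] at h
    rcases h with h | h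
    · linear_combination -h
    · exact absurd h (pow_ne_zero _ hb)
  generalize -a / b = μ at hflex hμ
  generalize -c / b = ν at hflex
  have e1 : (X : k[X]) ^ 3 + (C μ * X + C ν) ^ 3 + C β - 3 * X * (C μ * X + C ν) =
      C (μ ^ 3 + 1) * X ^ 3 + C (3 * μ ^ 2 * ν - 3 * μ) * X ^ 2 + C (3 * μ * ν ^ 2 - 3 * ν) * X ^ 1 +
        C (ν ^ 3 + β) * X ^ 0 := by
    simp only [map_add, map_sub, map_mul, map_pow, map_one, map_ofNat]; ring
  have e2 : C lam * ((X : k[X]) - C x₀) ^ 3 =
      C lam * X ^ 3 + C (-(3 * lam * x₀)) * X ^ 2 + C (3 * lam * x₀ ^ 2) * X ^ 1 +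
        C (-(lam * x₀ ^ 3)) * X ^ 0 := by
    simp only [map_neg, map_mul, map_pow, map_ofNat]; ring
  rw [e1, e2] at hflex
  have c3 := congrArg (fun q => Polynomial.coeff q 3) hflex
  have c2 := congrArg (fun q => Polynomial.coeff q 2) hflex
  have c1 := congrArg (fun q => Polynomial.coeff q 1) hflex
  have c0 := congrArg (fun q => Polynomial.coeff q 0) hflex
  simp only [coeff_add, coeff_C_mul_X_pow] at c3 c2 c1 c0
  norm_num at c3 c2 c1 c0
  have d2 : lam * x₀ = μ - μ ^ 2 * ν := mul_left_cancel₀ h3 (by linear_combination c2)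
  have d1 : lam * x₀ ^ 2 = μ * ν ^ 2 - ν := mul_left_cancel₀ h3 (by linear_combination -c1)
  by_cases hμν : μ * ν = 1
  · have : x₀ = 0 := by
      have : lam * x₀ = 0 := by rw [d2]; linear_combination -μ * hμν
      exact (mul_eq_zero.1 this).resolve_left (c3 ▸ hμ)
    exact ⟨-ν, by rw [this] at c0; linear_combination c0⟩
  · have hsum : (1 - μ * ν) * (μ ^ 2 + ν) = 0 := by
      linear_combination (-(lam * x₀) - (μ - μ ^ 2 * ν)) * d2 + lam * d1 + (ν * (1 - μ * ν)) * c3
    have hν : ν = -μ ^ 2 := by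
      have := (mul_eq_zero.1 hsum).resolve_left (sub_ne_zero.2 (Ne.symm hμν))
      linear_combination this
    subst hν
    have hx : x₀ = μ := by
      have hl : lam ≠ 0 := c3 ▸ hμ
      exact mul_left_cancel₀ hl (by linear_combination d2 + μ * c3)
    subst hx
    exact ⟨-x₀, by linear_combination c0 + x₀ ^ 3 * c3⟩

end Groth.Agent.S13794
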