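import Groth.Statements.S13797
import Groth.Agent.L11.Az.Morita
import Mathlib.LinearAlgebra.TensorPower.Basic
import Mathlib.LinearAlgebra.Matrix.ToLinearEquiv
import Mathlib.LinearAlgebra.Matrix.Determinant.Basic

set_option autoImplicit false
universe u
open scoped TensorProduct
open Brauer

namespace Groth.Agent.S13797

/-- In the case of an affine scheme — let A be a commutative ring, n ≥ 1 and α an A-algebra automorphism
of the n × n matrix algebra over A. The A-module L of matrices M with M N = α(N) M for every matrix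
N (the module of sections of the line bundle attached to the torsor of liftings of α to GL_n) is
invertible, and its class in the Picard group of A is n-torsion: the n-fold tensor power of L is
isomorphic to A (existence of an isomorphism only). (The published statement is for an automorphism
of End(O^n) on any locally ringed site, in the form: the sheaf of liftings is a 𝔾_m-torsor whose
class in Pic is n-torsion; this row is the affine case.) -/
theorem result (A : Type u) [CommRing A] (n : ℕ) (hn : 0 < n)
    (α : Matrix (Fin n) (Fin n) A ≃ₐ[A] Matrix (Fin n) (Fin n) A) :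
    Module.Invertible A
        (LinearMap.ker (LinearMap.mul A (Matrix (Fin n) (Fin n) A) -
          (LinearMap.lcomp A (Matrix (Fin n) (Fin n) A) α.toLinearMap).comp (LinearMap.mul A (Matrix (Fin n) (Fin n) A)).flip)) ∧
      Nonempty ((⨂[A] _ : Fin n,
          LinearMap.ker (LinearMap.mul A (Matrix (Fin n) (Fin n) A) -
            (LinearMap.lcomp A (Matrix (Fin n) (Fin n) A) α.toLinearMap).comp (LinearMap.mul A (Matrix (Fin n) (Fin n) A)).flip)) ≃ₗ[A] A) := by
  classical
  set L := LinearMap.ker (LinearMap.mul A (Matrix (Fin n) (Fin n) A) -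
          (LinearMap.lcomp A (Matrix (Fin n) (Fin n) A) α.toLinearMap).comp (LinearMap.mul A (Matrix (Fin n) (Fin n) A)).flip) with hL
  have memL : ∀ M, M ∈ L ↔ ∀ N, M * N = α N * M := fun M => by
    simp [hL, LinearMap.mem_ker, sub_eq_zero, LinearMap.ext_iff]
  let φ : Module.End A (Fin n → A) ≃ₐ[A] Module.End A (Fin n → A) :=
    Matrix.toLinAlgEquiv'.symm.trans (α.trans Matrix.toLinAlgEquiv')
  let e : Matrix (Fin n) (Fin n) A ≃ₗ[A] ((Fin n → A) →ₗ[A] (Fin n → A)) := Matrix.toLin'
  have hmap : L.map (e : Matrix (Fin n) (Fin n) A →ₗ[A] _) = Groth.L11.Az.lifts φ := by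
    ext l
    rw [Submodule.mem_map_equiv, memL]
    obtain ⟨M, rfl⟩ := e.surjective l
    rw [LinearEquiv.symm_apply_apply]
    constructor
    · intro h f
      obtain ⟨N, rfl⟩ := Matrix.toLinAlgEquiv'.surjective f
      simp only [φ, e, AlgEquiv.trans_apply, AlgEquiv.symm_apply_apply]
      change Matrix.toLin' (α N) ∘ₗ Matrix.toLin' M = Matrix.toLin' M ∘ₗ Matrix.toLin' N
      rw [← Matrix.toLin'_mul, ← Matrix.toLin'_mul, h N]
    · intro h N
      have h2 := h (Matrix.toLinAlgEquiv' N)
      simp only [φ, e, AlgEquiv.trans_apply, AlgEquiv.symm_apply_apply] at h2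
      refine Matrix.toLin'.injective ?_
      rw [Matrix.toLin'_mul, Matrix.toLin'_mul]
      exact h2.symm
  let eL : L ≃ₗ[A] Groth.L11.Az.lifts φ := (e.submoduleMap L).trans (LinearEquiv.ofEq _ _ hmap)
  haveI : Nonempty (Fin n) := ⟨⟨0, hn⟩⟩
  haveI : Module.FaithfullyFlat A (Fin n → A) :=
    { submodule_ne_top := fun m hm htop => hm.ne_top ((Ideal.eq_top_iff_one m).mpr (by
        have h1 : (fun _ => 1 : Fin n → A) ∈ m • (⊤ : Submodule A (Fin n → A)) := by rw [htop]; trivial
        exact Submodule.smul_induction_on (p := fun x : Fin n → A => x ⟨0, hn⟩ ∈ m) h1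
          (fun r hr x _ => m.mul_mem_right _ hr) (fun x y hx hy => m.add_mem hx hy))) }
  haveI := Groth.L11.Az.lifts_invertible φ
  haveI hLinv : Module.Invertible A L := Module.Invertible.congr eL.symm
  refine ⟨hLinv, ?_⟩
  have hpow : ∀ k : ℕ, Module.Invertible A (⨂[A]^k L) := fun k => by
    induction k with
    | zero => exact Module.Invertible.congr (PiTensorProduct.isEmptyEquiv (Fin 0) (R := A) (s := fun _ => L)).symm
    | succ k ih =>
      haveI : Module.Invertible A (⨂[A]^1 L) :=
        Module.Invertible.congr (PiTensorProduct.subsingletonEquiv (R := A) (s := fun _ : Fin 1 => L) 0).symm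
      exact Module.Invertible.congr (TensorPower.mulEquiv (R := A) (M := L) (n := k) (m := 1))
  haveI := hpow n
  let col : Fin n → (L →ₗ[A] (Fin n → A)) := fun j =>
    (LinearMap.pi fun i => (LinearMap.proj j).comp (LinearMap.proj i : Matrix (Fin n) (Fin n) A →ₗ[A] Fin n → A)).comp L.subtype
  let d : (⨂[A]^n L) →ₗ[A] A :=
    PiTensorProduct.lift ((Matrix.detRowAlternating (n := Fin n) (R := A)).toMultilinearMap.compLinearMap col)
  have hd : ∀ M : L, d (PiTensorProduct.tprod A fun _ => M) = (M : Matrix (Fin n) (Fin n) A).det := fun M => by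
    rw [← Matrix.det_transpose]
    simp only [d, PiTensorProduct.lift.tprod]
    rfl
  refine ⟨LinearEquiv.ofBijective d (Module.Invertible.bijective_of_surjective ?_)⟩
  rw [← LinearMap.range_eq_top]
  by_contra hne
  obtain ⟨m, hm, hle⟩ := Ideal.exists_le_maximal (LinearMap.range d) hne
  obtain ⟨M, i, j, hMij⟩ : ∃ (M : L) (i j : Fin n), (M : Matrix (Fin n) (Fin n) A) i j ∉ m := by
    by_contra h
    push Not at h
    obtain ⟨t, ht⟩ := (Groth.L11.Az.evalLifts_bijective φ).2 1
    have : ∀ i, Groth.L11.Az.evalLifts φ t i ∈ m := fun i => by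
      clear ht
      induction t using TensorProduct.induction_on with
      | zero => simp
      | add a b ha hb => rw [map_add]; exact m.add_mem ha hb
      | tmul x l =>
        obtain ⟨M, rfl⟩ := eL.surjective l
        change Matrix.toLin' (M : Matrix (Fin n) (Fin n) A) x i ∈ m
        rw [Matrix.toLin'_apply]
        simp only [Matrix.mulVec, dotProduct]
        exact Ideal.sum_mem _ fun k _ => m.mul_mem_right _ (h M i k)
    exact hm.ne_top ((Ideal.eq_top_iff_one m).mpr (by simpa [ht] using this ⟨0, hn⟩))
  letI := Ideal.Quotient.field m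
  let q := Ideal.Quotient.mk m
  have hdet : ((M : Matrix (Fin n) (Fin n) A).map q).det ≠ 0 := fun h0 => by
    obtain ⟨v, hv, hMv⟩ := Matrix.exists_mulVec_eq_zero_iff.mpr h0
    obtain ⟨k, hk⟩ : ∃ k, v k ≠ 0 := Function.ne_iff.mp hv
    obtain ⟨c, hc⟩ := Ideal.Quotient.mk_surjective (v k)⁻¹
    have key : ((M : Matrix (Fin n) (Fin n) A).map q).mulVec (((Matrix.single j k c : Matrix (Fin n) (Fin n) A).map q).mulVec v) = 0 := by
      rw [Matrix.mulVec_mulVec, ← Matrix.map_mul, (memL _).mp M.2, Matrix.map_mul, ← Matrix.mulVec_mulVec, hMv,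
        Matrix.mulVec_zero]
    have e1 : ((Matrix.single j k c : Matrix (Fin n) (Fin n) A).map q).mulVec v = Pi.single j 1 := by
      rw [Matrix.map_single _ _ _ q, show q c = (v k)⁻¹ from hc]
      funext l
      rcases eq_or_ne l j with rfl | hl
      · simp [Matrix.mulVec, dotProduct, Matrix.single, hk]
      · simp [Matrix.mulVec, dotProduct, Matrix.single, hl, Ne.symm hl]
    rw [e1] at key
    have := congrFun key i
    simp only [Matrix.mulVec_single, MulOpposite.op_one, one_smul, Matrix.col_apply, Matrix.map_apply, Pi.zero_apply] at this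
    exact hMij (Ideal.Quotient.eq_zero_iff_mem.mp this)
  refine hdet ?_
  rw [← RingHom.mapMatrix_apply, ← RingHom.map_det]
  exact Ideal.Quotient.eq_zero_iff_mem.mpr (hle ⟨_, hd M⟩)

end Groth.Agent.S13797
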