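import Groth.Statements.S13801
import Mathlib.NumberTheory.Padics.PadicVal.Basic
import Mathlib.Data.Nat.Factorial.BigOperators
import Mathlib.Data.Nat.Choose.Basic
-- import your own Groth.Agent.* helpers here

set_option autoImplicit false
open ChowMon

namespace Groth.Agent.S13801

/-- For a prime p and positive natural numbers a_1, ..., a_k with sum n one has v_p(a_1!) + ... +
v_p(a_k!) ≤ v_p(n!), and the inequality is strict whenever some a_i is not divisible by p^(v_p(n)). -/
theorem result {k : ℕ} (p : ℕ) [Fact p.Prime]
    (a : Fin k → ℕ) (ha : ∀ i, 0 < a i) :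
    (∑ i, padicValNat p (a i).factorial ≤ padicValNat p (∑ i, a i).factorial) ∧
      ((∃ i, ¬ p ^ padicValNat p (∑ j, a j) ∣ a i) →
        ∑ i, padicValNat p (a i).factorial < padicValNat p (∑ i, a i).factorial) := by
  have hp : p.Prime := Fact.out
  have key : ∀ s : Finset (Fin k), ∑ i ∈ s, padicValNat p (a i).factorial ≤ padicValNat p (∑ i ∈ s, a i).factorial := by
    intro s
    have h1 : padicValNat p (∏ i ∈ s, (a i).factorial) ≤ padicValNat p (∑ i ∈ s, a i).factorial :=
      (padicValNat_dvd_iff_le (Nat.factorial_ne_zero _)).1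
        (pow_padicValNat_dvd.trans (Nat.prod_factorial_dvd_factorial_sum s a))
    have h2 : padicValNat p (∏ i ∈ s, (a i).factorial) = ∑ i ∈ s, padicValNat p (a i).factorial := by
      induction s using Finset.induction_on with
      | empty => simp
      | insert x t hx ih =>
        rw [Finset.prod_insert hx, Finset.sum_insert hx, padicValNat.mul (Nat.factorial_ne_zero _)
          (Finset.prod_ne_zero_iff.2 fun i _ => Nat.factorial_ne_zero _), ih]
        exact (padicValNat_dvd_iff_le (Nat.factorial_ne_zero _)).1
          (pow_padicValNat_dvd.trans (Nat.prod_factorial_dvd_factorial_sum t a))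
    rwa [h2] at h1
  refine ⟨key Finset.univ, fun ⟨i, hi⟩ => ?_⟩
  have hai := ha i
  rw [← Finset.sum_erase_add _ _ (Finset.mem_univ i), ← Finset.sum_erase_add _ _ (Finset.mem_univ i)] at *
  set m := ∑ j ∈ Finset.univ.erase i, a j with hm
  have h2 := key (Finset.univ.erase i)
  rw [← hm] at h2
  have hc : 0 < padicValNat p ((m + a i).choose (a i)) := by
    refine Nat.pos_of_ne_zero fun h0 => hi ?_
    have hne : (m + a i).choose (a i) ≠ 0 := (Nat.choose_pos (by omega)).ne'
    have e := Nat.add_one_mul_choose_eq (m + (a i - 1)) (a i - 1)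
    rw [show m + (a i - 1) + 1 = m + a i by omega, show a i - 1 + 1 = a i by omega] at e
    have hne2 : (m + (a i - 1)).choose (a i - 1) ≠ 0 := (Nat.choose_pos (by omega)).ne'
    have e2 := congrArg (padicValNat p) e
    rw [padicValNat.mul (by omega) hne2, padicValNat.mul hne (by omega), h0] at e2
    exact (pow_dvd_pow p (by omega)).trans pow_padicValNat_dvd
  have e3 : (m + a i).choose (a i) * ((a i).factorial * m.factorial) = (m + a i).factorial := by
    have := Nat.add_choose_mul_factorial_mul_factorial m (a i)
    rw [← this]; try ring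
  rw [← e3, padicValNat.mul (Nat.choose_pos (by omega)).ne' (by positivity),
    padicValNat.mul (Nat.factorial_ne_zero _) (Nat.factorial_ne_zero _)]
  omega

end Groth.Agent.S13801
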