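import Groth.Statements.S13807
import Groth.Agent.L05.EtaPt.Val

set_option autoImplicit false
universe u
open EtaPt

namespace Groth.Agent.S13807

/-- For a field K the pointwise ring M_η(K) is all of N_η(K) = F(k((0))). Here η is a natural
transformation from the identity of the category of fields to an endofunctor F with F(η_K) bijective
and η_K purely inseparable for every field K, N_η(A) is the product of the F(k(p)) over the primes p
of A with diagonal map t_A, and M_η(A) ⊆ N_η(A) is the subring of elements sent into the range of
t_R by every ring map from A to a valuation ring R at whose fraction field η is bijective; q_A : A →
M_η(A) is the corestriction of t_A. -/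
theorem result (η : EtaPt.FieldEndo.{u}) (K : Type u) [Field K] : η.M K = ⊤ := by
  exact Groth.L05.EtaPt.M_eq_top_of_field η K

end Groth.Agent.S13807
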