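import Groth.Statements.S13810
import Groth.Agent.L05.EtaPt.Misc

set_option autoImplicit false
universe u
open EtaPt

namespace Groth.Agent.S13810

/-- For commutative rings A and B, the pair of maps N_η of the two projections restricts to a bijection
from M_η(A × B) onto M_η(A) × M_η(B). Here η is a natural transformation from the identity of the
category of fields to an endofunctor F with F(η_K) bijective and η_K purely inseparable for every
field K, N_η(A) is the product of the F(k(p)) over the primes p of A with diagonal map t_A, and
M_η(A) ⊆ N_η(A) is the subring of elements sent into the range of t_R by every ring map from A to a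
valuation ring R at whose fraction field η is bijective; q_A : A → M_η(A) is the corestriction of
t_A. -/
theorem result (η : EtaPt.FieldEndo.{u}) (A B : Type u) [CommRing A] [CommRing B] :
    Set.BijOn (fun x : η.N (A × B) => (η.Nmap (RingHom.fst A B) x, η.Nmap (RingHom.snd A B) x))
      (η.M (A × B)) ((η.M A : Set (η.N A)) ×ˢ (η.M B : Set (η.N B))) := by
  exact Groth.L05.EtaPt.bijOn_prod

end Groth.Agent.S13810
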