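import Groth.Statements.S13814
import Groth.Agent.L05.EtaPt.Val

set_option autoImplicit false
universe u
open EtaPt

namespace Groth.Agent.S13814

/-- Let R be a valuation ring with fraction field K = k((0)) such that η is bijective at K, or such that
every field of the same characteristic as R at which η is bijective is perfect. Then the ring M_η(R)
is again a valuation ring, every element of F(K) is a quotient of generic components of elements of
M_η(R), and an element of F(K) that is both the generic component of an element of M_η(R) and in the
image of K comes from R. (The published statement assumes nothing about η beyond the standing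
conditions, and then fails: for the endofunctor equal to the perfect closure on the fields of
characteristic 2 and transcendence degree at least 2 over the prime field and to the identity on
every other field, and R = F_2(s)[t] localised at (t), neither of the elements (s^(1/2) t, 0) and
(t, 0) of M_η(R) ⊆ F(K) × F_2(s) divides the other, so M_η(R) is not a valuation ring. This row
assumes that η is bijective at Frac R, or that every field of the same characteristic as R at which
η is bijective is perfect; both the identity and the perfect closure satisfy this.) Here η is a
natural transformation from the identity of the category of fields to an endofunctor F with F(η_K)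
bijective and η_K purely inseparable for every field K, N_η(A) is the product of the F(k(p)) over
the primes p of A with diagonal map t_A, and M_η(A) ⊆ N_η(A) is the subring of elements sent into
the range of t_R by every ring map from A to a valuation ring R at whose fraction field η is
bijective; q_A : A → M_η(A) is the corestriction of t_A. -/
theorem result (η : EtaPt.FieldEndo.{u}) (R : Type u) [CommRing R] [IsDomain R] [ValuationRing R]
    (hη : η.InV R ∨ ∀ (k : Type u) [Field k], ringChar k = ringChar R →
      Function.Bijective (η.eta k) → PerfectField k) :
    IsDomain (η.M R) ∧ PreValuationRing (η.M R) ∧
      (∀ y : η.obj (⊥ : Ideal R).ResidueField, ∃ a b : η.M R,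
        (b : η.N R) ⟨⊥, Ideal.isPrime_bot⟩ ≠ 0 ∧
          y * (b : η.N R) ⟨⊥, Ideal.isPrime_bot⟩ = (a : η.N R) ⟨⊥, Ideal.isPrime_bot⟩) ∧
      (fun x : η.N R => x ⟨⊥, Ideal.isPrime_bot⟩) '' (η.M R : Set (η.N R)) ∩
          Set.range (η.eta (⊥ : Ideal R).ResidueField) =
        Set.range ((η.eta (⊥ : Ideal R).ResidueField).comp (algebraMap R (⊥ : Ideal R).ResidueField)) := by
  haveI := Groth.L05.EtaPt.isIntegrallyClosed_of_valuationRing R
  exact ⟨Groth.L05.EtaPt.isDomain_M, Groth.L05.EtaPt.preValuationRing_M hη,
    Groth.L05.EtaPt.exists_num_den hη, Groth.L05.EtaPt.image_inter_range hη⟩

end Groth.Agent.S13814
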