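import Groth.Statements.S13820
import Groth.Agent.L05.EtaPt.Misc

set_option autoImplicit false
universe u
open EtaPt

namespace Groth.Agent.S13820

/-- Let A have finitely many minimal prime ideals and let B be an A-algebra with Spec B → Spec A
surjective, C the integral closure of A in B; then the inclusion C ⊆ B carries (C/A)_η onto (B/A)_η.
Here η is a natural transformation from the identity of the category of fields to an endofunctor F
with F(η_K) bijective and η_K purely inseparable for every field K, N_η(A) is the product of the
F(k(p)) over the primes p of A with diagonal map t_A, and M_η(A) ⊆ N_η(A) is the subring of elements
sent into the range of t_R by every ring map from A to a valuation ring R at whose fraction field η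
is bijective; q_A : A → M_η(A) is the corestriction of t_A. For a ring map f : A → B, (B/A)_η ⊆ B
denotes the subring of elements b with t_B(b) in N_η(f)(M_η(A)) (the image in B of the fibre product
of M_η(A) and B over M_η(B)), and q_{B/A} : A → (B/A)_η the corestriction of f. -/
theorem result (η : EtaPt.FieldEndo.{u}) (A B : Type u) [CommRing A] [CommRing B] [Algebra A B]
    (hA : (minimalPrimes A).Finite) (hs : Function.Surjective (PrimeSpectrum.comap (algebraMap A B))) :
    (η.rel (algebraMap A (integralClosure A B))).map (integralClosure A B).val.toRingHom =
      η.rel (algebraMap A B) := by
  exact Groth.L05.EtaPt.rel_integralClosure A B hA hs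

end Groth.Agent.S13820
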