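import Groth.Statements.S13823
import Groth.Agent.L05.EtaPt.Normal

set_option autoImplicit false
universe u
open EtaPt

namespace Groth.Agent.S13823

/-- Let A → A' be faithfully flat with A and A' having finitely many minimal prime ideals, and let Ā, Ā'
be the integral closures of A, A' in their total rings of fractions; if q_{Ā'/A'} is bijective then
q_{Ā/A} is bijective. Here η is a natural transformation from the identity of the category of fields
to an endofunctor F with F(η_K) bijective and η_K purely inseparable for every field K, N_η(A) is
the product of the F(k(p)) over the primes p of A with diagonal map t_A, and M_η(A) ⊆ N_η(A) is the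
subring of elements sent into the range of t_R by every ring map from A to a valuation ring R at
whose fraction field η is bijective; q_A : A → M_η(A) is the corestriction of t_A. For a ring map f
: A → B, (B/A)_η ⊆ B denotes the subring of elements b with t_B(b) in N_η(f)(M_η(A)) (the image in B
of the fibre product of M_η(A) and B over M_η(B)), and q_{B/A} : A → (B/A)_η the corestriction of f. -/
theorem result (η : EtaPt.FieldEndo.{u}) (A A' : Type u) [CommRing A] [CommRing A'] [Algebra A A'] [Module.FaithfullyFlat A A']
    (hA : (minimalPrimes A).Finite) (hA' : (minimalPrimes A').Finite)
    (h : Function.Bijective (η.qRel (algebraMap A' (integralClosure A' (FractionRing A'))))) :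
    Function.Bijective (η.qRel (algebraMap A (integralClosure A (FractionRing A)))) := by
  exact Groth.L05.EtaPt.bijective_qRel_integralClosure A A' h

end Groth.Agent.S13823
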