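import Groth.Statements.S13831
import Groth.Agent.L15.ResDegree
import Mathlib.FieldTheory.PurelyInseparable.Basic
-- import your own Groth.Agent.* helpers here

set_option autoImplicit false
universe u
open AlgebraicGeometry
open ChowMon

namespace Groth.Agent.S13831

/-- For a finite universal homeomorphism p : T' → T of Noetherian schemes there is an integer d ≥ 1 such
that for every point t' of T' over t the residue field degree [k(t') : k(t)] is a power of the
exponential characteristic of k(t) dividing d. -/
theorem result {T' T : Scheme.{u}} (p : T' ⟶ T) [IsFinite p] (hp : FlatMor.IsUnivHomeo p)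
    [IsNoetherian T] [IsNoetherian T'] [T.IsSeparated] [T'.IsSeparated] :
    ∃ d : ℕ, 0 < d ∧ ∀ t' : T', ∃ e : ℕ,
      @Module.finrank (T.residueField (p t')) (T'.residueField t') _ _
          (p.residueFieldMap t').hom.toAlgebra.toModule =
        ringExpChar (T.residueField (p t')) ^ e ∧
      ringExpChar (T.residueField (p t')) ^ e ∣ d := by
  classical
  haveI : UniversallyInjective p :=
    ⟨CategoryTheory.MorphismProperty.universally_mono (fun _ _ _ h => IsHomeomorph.injective h) _ hp⟩
  have hpi : ∀ t' : T', (p.residueFieldMap t').hom.IsPurelyInseparable := by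
    have h : UniversallyInjective p ↔
        Function.Injective p ∧ ∀ x, (p.residueFieldMap x).hom.IsPurelyInseparable :=
      (tfae_universallyInjective p).out 0 2
    exact (h.mp inferInstance).2
  choose N hN using fun U : T.affineOpens => Groth.L15.ResDegree.exists_bound p U
  obtain ⟨S, hS⟩ := isCompact_univ.elim_finite_subcover
    (fun U : T.affineOpens => ((U : T.Opens) : Set T)) (fun U => (U : T.Opens).2)
    (fun x _ => by
      obtain ⟨V, hV, hxV, -⟩ := exists_isAffineOpen_mem_and_subset (U := ⊤) (x := x) trivial
      exact Set.mem_iUnion.mpr ⟨⟨V, hV⟩, hxV⟩)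
  refine ⟨(S.sup N + 1).factorial, Nat.factorial_pos _, fun t' => ?_⟩
  obtain ⟨U, hUS, hU⟩ := Set.mem_iUnion₂.mp (hS (Set.mem_univ (p t')))
  letI := (p.residueFieldMap t').hom.toAlgebra
  obtain ⟨hfd, hle⟩ := hN U t' hU
  haveI : IsPurelyInseparable (T.residueField (p t')) (T'.residueField t') := hpi t'
  obtain ⟨e, he⟩ := IsPurelyInseparable.finrank_eq_pow (T.residueField (p t'))
    (E := T'.residueField t') (ringExpChar (T.residueField (p t')))
  refine ⟨e, he, Nat.dvd_factorial (he ▸ Module.finrank_pos) ?_⟩
  rw [← he]
  exact (hle.trans (Finset.le_sup hUS)).trans (Nat.le_succ _)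

end Groth.Agent.S13831
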