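import Groth.Statements.S13835
import Mathlib.AlgebraicGeometry.Morphisms.Separated
import Mathlib.AlgebraicGeometry.Morphisms.UnderlyingMap

set_option autoImplicit false
universe u
open AlgebraicGeometry CategoryTheory
open ChowMon

open CategoryTheory.Limits

namespace Groth.Agent.S13835

/-- Let p : T' → T be a universal homeomorphism of separated schemes with T reduced and f' : T' → Y a
morphism (Y separated); if T has an open cover by affine opens U_i such that each restriction of f'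
to p⁻¹(U_i) factors through p⁻¹(U_i) → U_i, then f' factors through p. -/
theorem result {T' T Y : Scheme.{u}} (p : T' ⟶ T) (hp : FlatMor.IsUnivHomeo p) [IsReduced T]
    [T.IsSeparated] [T'.IsSeparated] [Y.IsSeparated] (f' : T' ⟶ Y)
    {ι : Type u} (U : ι → T.affineOpens) (hU : ⨆ i, (U i : T.Opens) = ⊤)
    (hloc : ∀ i, ∃ fi : ((U i : T.Opens) : Scheme.{u}) ⟶ Y, (p ⁻¹ᵁ (U i : T.Opens)).ι ≫ f' = (p ∣_ (U i : T.Opens)) ≫ fi) :
    ∃ f : T ⟶ Y, p ≫ f = f' := by
  classical
  haveI : Surjective p := by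
    refine ⟨?_⟩
    have h := MorphismProperty.universally_le
      (AlgebraicGeometry.topologically (fun f => IsHomeomorph f)) _ hp
    exact h.surjective
  choose g hg using hloc
  let 𝒰 := T.openCoverOfIsOpenCover (fun i => (U i : T.Opens)) hU
  refine ⟨𝒰.glueMorphisms g ?_, ?_⟩
  · intro i j
    haveI : IsReduced (pullback (𝒰.f i) (𝒰.f j)) :=
      isReduced_of_isOpenImmersion (pullback.fst (𝒰.f i) (𝒰.f j) ≫ 𝒰.f i)
    let q := pullback.fst (𝒰.f i) (𝒰.f j) ≫ 𝒰.f i
    have hq : q = pullback.snd (𝒰.f i) (𝒰.f j) ≫ 𝒰.f j := pullback.condition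
    refine ext_of_isDominant (pullback.snd p q) ?_
    let a : pullback p q ⟶ (p ⁻¹ᵁ (U i : T.Opens)).toScheme :=
      (isPullback_morphismRestrict p (U i : T.Opens)).lift
        (pullback.snd p q ≫ pullback.fst (𝒰.f i) (𝒰.f j)) (pullback.fst p q)
        (by rw [Category.assoc]; exact pullback.condition.symm)
    let b : pullback p q ⟶ (p ⁻¹ᵁ (U j : T.Opens)).toScheme :=
      (isPullback_morphismRestrict p (U j : T.Opens)).lift
        (pullback.snd p q ≫ pullback.snd (𝒰.f i) (𝒰.f j)) (pullback.fst p q)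
        (by rw [Category.assoc, pullback.condition (f := p), hq]; rfl)
    have ha1 : a ≫ (p ∣_ (U i : T.Opens))
        = pullback.snd p q ≫ pullback.fst (𝒰.f i) (𝒰.f j) := IsPullback.lift_fst _ _ _ _
    have ha2 : a ≫ (p ⁻¹ᵁ (U i : T.Opens)).ι = pullback.fst p q := IsPullback.lift_snd _ _ _ _
    have hb1 : b ≫ (p ∣_ (U j : T.Opens))
        = pullback.snd p q ≫ pullback.snd (𝒰.f i) (𝒰.f j) := IsPullback.lift_fst _ _ _ _
    have hb2 : b ≫ (p ⁻¹ᵁ (U j : T.Opens)).ι = pullback.fst p q := IsPullback.lift_snd _ _ _ _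
    calc pullback.snd p q ≫ pullback.fst (𝒰.f i) (𝒰.f j) ≫ g i
        = a ≫ (p ∣_ (U i : T.Opens)) ≫ g i := by
          rw [← Category.assoc a]; erw [ha1]; exact (Category.assoc _ _ _).symm
      _ = pullback.fst p q ≫ f' := by rw [← hg i, ← Category.assoc, ha2]
      _ = b ≫ (p ∣_ (U j : T.Opens)) ≫ g j := by rw [← hg j, ← Category.assoc, hb2]
      _ = pullback.snd p q ≫ pullback.snd (𝒰.f i) (𝒰.f j) ≫ g j := by
          rw [← Category.assoc b]; erw [hb1]; exact Category.assoc _ _ _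
  · refine (T'.openCoverOfIsOpenCover (fun i => p ⁻¹ᵁ (U i : T.Opens)) ?_).hom_ext _ _ ?_
    · rw [TopologicalSpace.IsOpenCover, ← Scheme.Hom.preimage_iSup, hU, Scheme.Hom.preimage_top]
    · intro i
      show (p ⁻¹ᵁ (U i : T.Opens)).ι ≫ p ≫ _ = (p ⁻¹ᵁ (U i : T.Opens)).ι ≫ f'
      rw [hg i, ← Category.assoc, ← morphismRestrict_ι, Category.assoc]
      congr 1
      exact Scheme.Cover.ι_glueMorphisms 𝒰 g _ i
end Groth.Agent.S13835
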