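import Groth.Statements.S14673
import Groth.Agent.L08.SymTenFlat

set_option autoImplicit false
universe u
open scoped TensorProduct
open SymTen

namespace Groth.Agent.S14673

/-- Let R be a commutative ring, A a commutative R-algebra which is flat as an R-module, and n ≥ 0. For
a ∈ A and j ≥ 0 write σ_j(a) for the j-th elementary symmetric polynomial in the n elements 1 ⊗ ⋯ ⊗
a ⊗ ⋯ ⊗ 1 of the n-fold tensor power of A over R, that is, the sum over the j-element sets I of
indices of the pure tensors having a in the places of I and 1 in the other places. Then the
subalgebra TS^n_R(A) of symmetric tensors (tensors fixed by every permutation of the factors) equals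
the R-subalgebra generated by all the σ_j(a). -/
theorem result (R : Type u) [CommRing R] (A : Type u) [CommRing A] [Algebra R A]
    [Module.Flat R A] (n : ℕ) :
    SymTen.TS R A n = Algebra.adjoin R {t : ⨂[R] _ : Fin n, A | ∃ (a : A) (j : ℕ),
      t = ∑ I ∈ (Finset.univ : Finset (Fin n)).powersetCard j,
        PiTensorProduct.tprod R (fun i : Fin n => if i ∈ I then a else (1 : A))} := by
  classical
  refine le_antisymm (fun y hy => Groth.L08.SymTenFlat.symT_le_adjoin hy) (Algebra.adjoin_le ?_)
  rintro _ ⟨a, j, rfl⟩
  exact Groth.L08.SymTenFlat.esym_mem a j

end Groth.Agent.S14673
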