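import Groth.Statements.S13839
import Groth.Agent.L15.SemiNorm
import Groth.Agent.S14673
-- import your own Groth.Agent.* helpers here

set_option autoImplicit false
universe u
open AlgebraicGeometry
open scoped TensorProduct
open ChowMon

namespace Groth.Agent.S13839

/-- Let C be a Noetherian seminormal A-algebra, g : C → C' an A-algebra map with C' reduced such that
Spec C' → Spec C is a finite universal homeomorphism, and d ≥ 1 an integer divisible by every
residue degree [k(q) : k(g⁻¹q)]; let B be a flat A-algebra and φ : B → C' an A-algebra map. Then for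
every symmetric tensor x ∈ TS^d_A(B) the element φ(m_d(x)) of C', m_d : B^{⊗d} → B the
multiplication, lies in the image of C. (The published statement does not assume C' reduced and is
false without it: take A = C = k a field, C' = k[ε]/(ε²), d = 1, B = k[t] and φ(t) = ε; then ε is
not in k.) -/
theorem result (A C C' B : Type u) [CommRing A] [CommRing C] [CommRing C'] [CommRing B]
    [Algebra A C] [Algebra A C'] [Algebra A B] [IsNoetherianRing C] (hC : HTop.IsSeminormalRing C)
    (g : C →ₐ[A] C') [IsReduced C'] (hfin : g.toRingHom.Finite)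
    (hg : FlatMor.IsUnivHomeo (Spec.map (CommRingCat.ofHom g.toRingHom)))
    (d : ℕ) (hd : 0 < d)
    (hdeg : ∀ q : PrimeSpectrum C',
      @Module.finrank (PrimeSpectrum.comap g.toRingHom q).asIdeal.ResidueField q.asIdeal.ResidueField _ _
          (Ideal.ResidueField.map (PrimeSpectrum.comap g.toRingHom q).asIdeal q.asIdeal g.toRingHom
            rfl).toAlgebra.toModule ∣ d)
    [Module.Flat A B] (φ : B →ₐ[A] C') (x : ⨂[A] _ : Fin d, B) (hx : x ∈ SymTen.TS A B d) :
    φ (PiTensorProduct.lift (MultilinearMap.mkPiAlgebra A (Fin d) B) x) ∈ g.range := by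
  classical
  letI : Algebra C C' := g.toRingHom.toAlgebra
  have hsurj : Function.Surjective (PrimeSpectrum.comap g.toRingHom) := by
    have h := CategoryTheory.MorphismProperty.universally_le
      (AlgebraicGeometry.topologically (fun f => IsHomeomorph f)) _ hg
    exact h.surjective
  have hbij : Function.Injective (PrimeSpectrum.comap g.toRingHom) := by
    have h := CategoryTheory.MorphismProperty.universally_le
      (AlgebraicGeometry.topologically (fun f => IsHomeomorph f)) _ hg
    exact h.injective
  haveI := Groth.L15.SemiNorm.isReduced_of_isSeminormal hC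
  have hinj : Function.Injective (algebraMap C C') := by
    rw [RingHom.injective_iff_ker_eq_bot, eq_bot_iff]
    intro a ha
    refine (IsNilpotent.eq_zero ?_ : a = 0)
    rw [nilpotent_iff_mem_prime]
    intro P hP
    obtain ⟨Q, hQ⟩ := hsurj ⟨P, hP⟩
    have : P = Q.asIdeal.comap g.toRingHom := (congrArg PrimeSpectrum.asIdeal hQ).symm
    rw [this, Ideal.mem_comap]
    rw [RingHom.mem_ker] at ha
    rw [show g.toRingHom a = 0 from ha]
    exact zero_mem _
  haveI : Module.Finite C C' := hfin
  haveI : UniversallyInjective (Spec.map (CommRingCat.ofHom g.toRingHom)) :=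
    ⟨CategoryTheory.MorphismProperty.universally_mono (fun _ _ _ h => IsHomeomorph.injective h) _ hg⟩
  have key : ∀ (w : C') (j : ℕ), (d.choose j : C') * w ^ j ∈ (algebraMap C C').range := by
    intro w j
    refine Groth.L15.SemiNorm.mem_range_of_residual hC hinj hbij _ ?_
    intro Q
    have hd' := hdeg Q
    set P := (PrimeSpectrum.comap g.toRingHom Q).asIdeal with hP
    let ρ : P.ResidueField →+* Q.asIdeal.ResidueField :=
      Ideal.ResidueField.map P Q.asIdeal g.toRingHom rfl
    letI := ρ.toAlgebra
    have hcompat : ∀ c : C, ρ (algebraMap C P.ResidueField c) =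
        algebraMap C' Q.asIdeal.ResidueField (g c) := fun c => by
      simp [ρ]
    haveI : FiniteDimensional P.ResidueField Q.asIdeal.ResidueField :=
      Module.finite_of_finrank_pos (Nat.pos_of_dvd_of_pos hd' hd)
    haveI : IsPurelyInseparable P.ResidueField Q.asIdeal.ResidueField := by
      rw [isPurelyInseparable_iff_subsingleton_emb, subsingleton_iff]
      intro σ₁ σ₂
      apply AlgHom.coe_ringHom_injective
      apply Ideal.ResidueField.ringHom_ext
      have h12 : UniversallyInjective (Spec.map (CommRingCat.ofHom g.toRingHom)) ↔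
          ∀ (K : Type u) [Field K], Function.Injective
            (fun t ↦ CategoryTheory.CategoryStruct.comp (obj := Scheme.{u}) (X := Spec (.of K)) t
              (Spec.map (CommRingCat.ofHom g.toRingHom))) :=
        (tfae_universallyInjective (Spec.map (CommRingCat.ofHom g.toRingHom))).out 0 1
      have h2 := h12.mp inferInstance (AlgebraicClosure Q.asIdeal.ResidueField)
      let ψ₁ := σ₁.toRingHom.comp (algebraMap C' Q.asIdeal.ResidueField)
      let ψ₂ := σ₂.toRingHom.comp (algebraMap C' Q.asIdeal.ResidueField)
      have h3 : ψ₁.comp g.toRingHom = ψ₂.comp g.toRingHom := by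
        ext c
        show σ₁ (algebraMap C' Q.asIdeal.ResidueField (g c)) =
          σ₂ (algebraMap C' Q.asIdeal.ResidueField (g c))
        rw [← hcompat]
        exact (σ₁.commutes _).trans (σ₂.commutes _).symm
      have h4 := @h2 (Spec.map (CommRingCat.ofHom ψ₁)) (Spec.map (CommRingCat.ofHom ψ₂)) (by
        simp only [← Spec.map_comp, ← CommRingCat.ofHom_comp, h3])
      exact congrArg CommRingCat.Hom.hom (Spec.map_injective h4)
    obtain ⟨z, hz⟩ := Groth.L15.SemiNorm.choose_mul_pow_mem_range (F := P.ResidueField)
      hd' (algebraMap C' Q.asIdeal.ResidueField w) j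
    obtain ⟨a, b, hb, rfl⟩ := IsFractionRing.div_surjective (C ⧸ P) z
    obtain ⟨a, rfl⟩ := Ideal.Quotient.mk_surjective a
    obtain ⟨b, rfl⟩ := Ideal.Quotient.mk_surjective b
    refine ⟨a, b, ?_, ?_⟩
    · have : Ideal.Quotient.mk P b ≠ 0 := nonZeroDivisors.ne_zero hb
      rw [Ne, Ideal.Quotient.eq_zero_iff_mem] at this
      exact this
    · rw [← Ideal.algebraMap_residueField_eq_zero, map_sub, map_mul, map_mul, map_natCast,
        map_pow, ← hz]
      have hb' : algebraMap C P.ResidueField b ≠ 0 := by
        rw [Ne, Ideal.algebraMap_residueField_eq_zero]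
        have : Ideal.Quotient.mk P b ≠ 0 := nonZeroDivisors.ne_zero hb
        rwa [Ne, Ideal.Quotient.eq_zero_iff_mem] at this
      have e : ∀ c : C, algebraMap (C ⧸ P) P.ResidueField (Ideal.Quotient.mk P c) =
          algebraMap C P.ResidueField c := fun c =>
        (IsScalarTower.algebraMap_apply C (C ⧸ P) P.ResidueField c).symm
      rw [e, e]
      have e2 : ∀ c : C, algebraMap C' Q.asIdeal.ResidueField (algebraMap C C' c) =
          algebraMap P.ResidueField Q.asIdeal.ResidueField (algebraMap C P.ResidueField c) :=
        fun c => (hcompat c).symm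
      rw [e2, e2, ← map_mul, mul_div_cancel₀ _ hb', sub_self]
  let ψ : (⨂[A] _ : Fin d, B) →ₐ[A] C' :=
    φ.comp (PiTensorProduct.liftAlgHom (MultilinearMap.mkPiAlgebra A (Fin d) B)
      (by simp) (by intro a b; simp [Finset.prod_mul_distrib]))
  show ψ x ∈ g.range
  have hx' : x ∈ Algebra.adjoin A _ := (Groth.Agent.S14673.result A B d) ▸ hx
  refine (Algebra.adjoin_le (S := g.range.comap ψ) ?_) hx'
  rintro t ⟨a, j, rfl⟩
  rw [SetLike.mem_coe, Subalgebra.mem_comap, map_sum]
  have hterm : ∀ I ∈ (Finset.univ : Finset (Fin d)).powersetCard j,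
      ψ (PiTensorProduct.tprod A (fun i : Fin d => if i ∈ I then a else (1 : B))) = φ a ^ j := by
    intro I hI
    have : ψ (PiTensorProduct.tprod A (fun i : Fin d => if i ∈ I then a else (1 : B))) =
        φ (∏ i : Fin d, if i ∈ I then a else (1 : B)) := by
      show φ _ = φ _
      congr 1
      simp
    rw [this, Fintype.prod_ite_mem, Finset.prod_const, (Finset.mem_powersetCard.mp hI).2, map_pow]
  rw [Finset.sum_congr rfl hterm, Finset.sum_const, Finset.card_powersetCard, Finset.card_univ,
    Fintype.card_fin, nsmul_eq_mul]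
  obtain ⟨c, hc⟩ := key (φ a) j
  exact ⟨c, hc⟩

end Groth.Agent.S13839
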