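import Groth.Statements.S13840
import Groth.Agent.L11.CSA.PeriodIndex

set_option autoImplicit false
universe u v
open scoped TensorProduct
open Brauer

namespace Groth.Agent.S13840

/-- Let κ be a field, L a finite field extension of κ of degree d, A a finite-dimensional central simple
κ-algebra and n a positive integer coprime to d such that the n-fold tensor power of A over κ is
split over κ (the period of A divides n). Then the index of A divides n if and only if the index of
the L-algebra L ⊗_κ A divides n. (The published statement is for a finite locally free morphism of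
schemes Y → X of degree d, a class in H²(X, G_m), a point p of X and the fibre of Y over p, and its
proof uses that the period of the class divides n without stating it; without that hypothesis the
backward implication fails. This row is the case of a point with Y the spectrum of a field, with the
period hypothesis made explicit.) -/
theorem result (κ : Type u) [Field κ] (L : Type u) [Field L] [Algebra κ L]
    [FiniteDimensional κ L] (A : Type v) [Ring A] [Algebra κ A] [Algebra.IsCentral κ A] [IsSimpleRing A]
    [FiniteDimensional κ A] (n : ℕ) (hn : 0 < n) (hcop : Nat.Coprime n (Module.finrank κ L))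
    (hper : Curves.Splits κ (CSAGal.tpow κ A n) κ) :
    (∃ d : ℕ, CSAGal.IsIndex κ A d ∧ d ∣ n) ↔ (∃ d' : ℕ, CSAGal.IsIndex L (L ⊗[κ] A) d' ∧ d' ∣ n) := by
  haveI := Groth.L11.CSA.isCentral_baseChange κ A L
  obtain ⟨d, hd⟩ := Groth.L11.Idx.exists_isIndex (k := κ) (A := A)
  obtain ⟨d', hd'⟩ := Groth.L11.Idx.exists_isIndex (k := L) (A := L ⊗[κ] A)
  constructor
  · rintro ⟨d₀, hd₀, hdn⟩
    exact ⟨d', hd', (Groth.L11.Idx.baseChange_dvd hd₀ L hd').trans hdn⟩
  · rintro ⟨d₀, hd₀, hdn⟩
    exact ⟨d, hd, (Groth.L11.Idx.isIndex_dvd_of_baseChange hd L hd₀ hper hcop).trans hdn⟩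

end Groth.Agent.S13840
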