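import Groth.Statements.S13841
import Groth.Agent.L11.CSA.PeriodIndex

set_option autoImplicit false
universe u v
open scoped TensorProduct
open Brauer

namespace Groth.Agent.S13841

/-- Let k be a field and A a finite-dimensional central simple k-algebra of period n. Then A has index n
if and only if there is a finite field extension k' of k of degree coprime to n such that the index
of the k'-algebra k' ⊗_k A divides n. (The published statement is for a class of period n in H²(X,
G_m) on a scheme X over k; this row is the case where X is the spectrum of k.) -/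
theorem result (k : Type u) [Field k] (A : Type v) [Ring A] [Algebra k A]
    [Algebra.IsCentral k A] [IsSimpleRing A] [FiniteDimensional k A] (n : ℕ) (hper : CSAGal.IsPeriod k A n) :
    CSAGal.IsIndex k A n ↔
      ∃ (k' : Type u) (_ : Field k') (_ : Algebra k k') (_ : FiniteDimensional k k'),
        Nat.Coprime n (Module.finrank k k') ∧ ∃ d' : ℕ, CSAGal.IsIndex k' (k' ⊗[k] A) d' ∧ d' ∣ n := by
  obtain ⟨d, hd⟩ := Groth.L11.Idx.exists_isIndex (k := k) (A := A)
  constructor
  · intro h
    haveI := Groth.L11.CSA.isCentral_baseChange k A k
    obtain ⟨d', hd'⟩ := Groth.L11.Idx.exists_isIndex (k := k) (A := k ⊗[k] A)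
    refine ⟨k, inferInstance, inferInstance, inferInstance, by rw [Module.finrank_self]; exact Nat.coprime_one_right n, d', hd', ?_⟩
    exact Groth.L11.Idx.baseChange_dvd h k hd'
  · rintro ⟨k', _, _, _, hcop, d', hd', hdn⟩
    have h : d = n := Nat.dvd_antisymm ((Groth.L11.Idx.isIndex_dvd_of_baseChange hd k' hd' hper.2.1 hcop).trans hdn)
      (Groth.L11.Idx.period_dvd_index hd hper)
    exact h ▸ hd

end Groth.Agent.S13841
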