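import Groth.Statements.S13843
import Groth.Agent.L28.EtTrace.Galois

set_option autoImplicit false
universe u
open CategoryTheory CategoryTheory.Limits AlgebraicGeometry
open GalCoh

namespace Groth.Agent.S13843

/-- Let K be a field, F an abelian sheaf on the small étale site of Spec K, i > 0 and α a class in
H^i(Spec K, F) which pulls back to zero over some finite separable field extension L of K. If p is a
prime not dividing the order of α, then there is a finite separable field extension L' of K whose
degree is not divisible by p and over which α pulls back to zero. Hence the period and the index of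
α have the same prime factors. (Exactness of pullback of abelian sheaves, which always holds, is
carried as an instance hypothesis, in the conclusion for every such instance.) -/
theorem result (K : Type u) [Field K] (F : EtCoh.Ab (Spec (CommRingCat.of K))) (i : ℕ)
    (hi : 0 < i) (α : EtCoh.H (Spec (CommRingCat.of K)) F i) (L : Type u) [Field L] [Algebra K L] [FiniteDimensional K L]
    [Algebra.IsSeparable K L] [PreservesFiniteLimits (EtCoh.pull (Spec.map (CommRingCat.ofHom (algebraMap K L))))]
    (hα : EtCore.Hpull (Spec.map (CommRingCat.ofHom (algebraMap K L))) F i α = 0) (p : ℕ) (hp : p.Prime) (hpα : ¬ p ∣ addOrderOf α) :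
    ∃ (L' : Type u) (_ : Field L') (_ : Algebra K L') (_ : FiniteDimensional K L') (_ : Algebra.IsSeparable K L'),
      ¬ p ∣ Module.finrank K L' ∧
        ∀ [PreservesFiniteLimits (EtCoh.pull (Spec.map (CommRingCat.ofHom (algebraMap K L'))))],
          EtCore.Hpull (Spec.map (CommRingCat.ofHom (algebraMap K L'))) F i α = 0 := by
  exact Groth.L28.EtTrace.exists_killing_prime_to K F i α L hα p hp hpα

end Groth.Agent.S13843
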