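import Groth.Statements.S13844
import Groth.Agent.L21.Curve.SmoothDescent
import Groth.Agent.L21.Curve.DVR

set_option autoImplicit false
universe u
open CategoryTheory CategoryTheory.Limits AlgebraicGeometry
attribute [local instance] Curv2.resAlgebra
open Curves

namespace Groth.Agent.S13844

/-- Let K be a field and C a normal curve over K, namely an integral normal separated K-scheme of finite
type of dimension one, and let S be a set of closed points of C whose residue fields are separable
over K. If the structure morphism of C is smooth at every point outside S, then it is smooth. (The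
published statement takes S to be a closed subscheme finite étale over K, that is finitely many such
points; this row allows any set of closed points with separable residue fields.) -/
theorem result (K : Type u) [Field K] (C : Scheme.{u}) [C.Over (Spec (CommRingCat.of K))]
    [IsIntegral C] [IsSeparated (C ↘ (Spec (CommRingCat.of K)))] [LocallyOfFinitePresentation (C ↘ (Spec (CommRingCat.of K)))]
    [QuasiCompact (C ↘ (Spec (CommRingCat.of K)))] (hN : ∀ x : C, IsIntegrallyClosed (C.presheaf.stalk x))
    (hdim : topologicalKrullDim C = 1) (S : Set C)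
    (hS : ∀ x ∈ S, IsClosed ({x} : Set C) ∧ Algebra.IsSeparable K (C.residueField x))
    (hsm : ∀ x : C, x ∉ S → x ∈ (C ↘ (Spec (CommRingCat.of K))).smoothLocus) :
    AlgebraicGeometry.Smooth (C ↘ (Spec (CommRingCat.of K))) := by
  classical
  set pC := C ↘ (Spec (CommRingCat.of K)) with hpC
  haveI : LocallyOfFiniteType pC := inferInstance
  haveI : IsLocallyNoetherian C := LocallyOfFiniteType.isLocallyNoetherian pC
  rw [← Scheme.Hom.smoothLocus_eq_top_iff, ← top_le_iff]
  intro x _
  by_cases hxS : x ∈ S
  swap
  · exact hsm x hxS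
  obtain ⟨hxc, hsep⟩ := hS x hxS
  haveI := Groth.L21.Curve.isDVR_stalk_closed hdim (fun z => ⟨inferInstance, hN z⟩) hxc
  obtain ⟨V, hV, hxV, -⟩ := exists_isAffineOpen_mem_and_subset (X := C) (U := ⊤) (TopologicalSpace.Opens.mem_top x)
  haveI : Nonempty V := ⟨⟨x, hxV⟩⟩
  haveI := Groth.L21.SmoothDescent.isClosed_primeIdealOf hV hxV hxc
  let e : K ≃+* Γ(Spec (CommRingCat.of K), ⊤) := (Scheme.ΓSpecIso (CommRingCat.of K)).symm.commRingCatIsoToRingEquiv
  letI : Field Γ(Spec (CommRingCat.of K), ⊤) := (e.symm.toMulEquiv.isField (Field.toIsField K)).toField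
  rw [Scheme.Hom.mem_smoothLocus, formallySmooth_stalkMap_iff ⊤ (isAffineOpen_top _) V hV le_top hxV]
  have hft := pC.finiteType_appLE (isAffineOpen_top _) hV (le_top : V ≤ pC ⁻¹ᵁ ⊤)
  letI := (pC.appLE ⊤ V le_top).hom.toAlgebra
  haveI : Algebra.FiniteType Γ(Spec (CommRingCat.of K), ⊤) Γ(C, V) := hft
  set q := (hV.primeIdealOf ⟨x, hxV⟩).asIdeal
  letI := C.presheaf.algebra_section_stalk ⟨x, hxV⟩
  haveI := hV.isLocalization_stalk ⟨x, hxV⟩
  let ψ := (IsLocalization.algEquiv q.primeCompl (C.presheaf.stalk x) (Localization.AtPrime q)).toRingEquiv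
  let ψ' : C.residueField x ≃+* q.ResidueField := IsLocalRing.ResidueField.mapEquiv ψ
  have hsq : (algebraMap Γ(Spec (CommRingCat.of K), ⊤) q.ResidueField).comp e.toRingHom =
      ψ'.toRingHom.comp (algebraMap K (C.residueField x)) := by
    refine RingHom.ext fun c => ?_
    show algebraMap _ q.ResidueField (e c) = ψ' (C.residue x (C.presheaf.germ ⊤ x trivial
      (pC.appTop ((Scheme.ΓSpecIso (CommRingCat.of K)).inv c))))
    show _ = IsLocalRing.residue _ (ψ _)
    rw [IsScalarTower.algebraMap_apply _ (Localization.AtPrime q) q.ResidueField]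
    refine congrArg (IsLocalRing.residue (Localization.AtPrime q)) ?_
    rw [IsScalarTower.algebraMap_apply _ Γ(C, V) (Localization.AtPrime q),
      ← (IsLocalization.algEquiv q.primeCompl (C.presheaf.stalk x) (Localization.AtPrime q)).commutes]
    refine congrArg ψ ?_
    exact C.presheaf.germ_res_apply _ _ _ _
  haveI : Algebra.IsSeparable Γ(Spec (CommRingCat.of K), ⊤) q.ResidueField :=
    Algebra.IsSeparable.of_equiv_equiv e ψ' hsq
  refine Groth.L21.SmoothDescent.isSmoothAt_of_isPrincipal_of_isSeparable Γ(Spec (CommRingCat.of K), ⊤) Γ(C, V) q ?_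
  obtain ⟨π, hπ⟩ := (IsPrincipalIdealRing.principal (IsLocalRing.maximalIdeal (C.presheaf.stalk x))).principal
  refine ⟨ψ π, ?_⟩
  have hm : IsLocalRing.maximalIdeal (Localization.AtPrime q) =
      (IsLocalRing.maximalIdeal (C.presheaf.stalk x)).map ψ.toRingHom :=
    (IsLocalRing.eq_maximalIdeal (Ideal.map_isMaximal_of_equiv ψ)).symm
  rw [hm, hπ]
  exact (Ideal.map_span ψ.toRingHom {π}).trans (by rw [Set.image_singleton]; rfl)

end Groth.Agent.S13844
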