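import Groth.Statements.S13846
import Mathlib.LinearAlgebra.Dual.Lemmas
import Mathlib.Algebra.DirectSum.Module
import Mathlib.LinearAlgebra.Isomorphisms

set_option autoImplicit false
universe u v
open TwSh

namespace Groth.Agent.S13846

/-- Let k be a field and V, W finite-dimensional ℤ-graded k-vector spaces, V = ⊕ V_i with V ≠ 0 and W =
⊕ W_i. Let φ : End_k(V) ≃ End_k(W) be a k-algebra isomorphism which sends every endomorphism
homogeneous of degree d (one mapping V_i into V_{i+d} for all i) to an endomorphism homogeneous of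
degree d. Then there are an integer n and a k-linear isomorphism g : V ≅ W with g(V_i) = W_{i+n} for
every i such that φ(f) = g ∘ f ∘ g⁻¹ for all f; moreover n is unique and g is unique up to a nonzero
scalar: if g' : V ≅ W satisfies g'(V_i) = W_{i+n'} for all i and φ(f) = g' ∘ f ∘ g'⁻¹ for all f,
then n' = n and g' = c·g for some c ∈ kˣ. (The published statement is about non-zero perfect
complexes over k: an isomorphism of their derived endomorphism algebras, as algebra objects of the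
derived category, is induced by an isomorphism from the first complex to a shift of the second, for
a unique shift and up to a unit; this row is its form for finite-dimensional ℤ-graded vector spaces,
to which the bounded derived category of a field is equivalent by taking cohomology.) -/
theorem result (k : Type u) [Field k] (V W : Type v) [AddCommGroup V] [Module k V] [FiniteDimensional k V] [Nontrivial V] [AddCommGroup W] [Module k W] [FiniteDimensional k W] (𝒱 : ℤ → Submodule k V) (h𝒱 : DirectSum.IsInternal 𝒱) (𝒲 : ℤ → Submodule k W) (h𝒲 : DirectSum.IsInternal 𝒲) (φ : Module.End k V ≃ₐ[k] Module.End k W) (hφ : ∀ (d : ℤ) (f : Module.End k V), (∀ (i : ℤ) (x : V), x ∈ 𝒱 i → f x ∈ 𝒱 (i + d)) → ∀ (i : ℤ) (y : W), y ∈ 𝒲 i → φ f y ∈ 𝒲 (i + d)) : ∃ (n : ℤ) (g : V ≃ₗ[k] W), (∀ i : ℤ, Submodule.map (g : V →ₗ[k] W) (𝒱 i) = 𝒲 (i + n)) ∧ (∀ f : Module.End k V, φ f = (g : V →ₗ[k] W) ∘ₗ f ∘ₗ (g.symm : W →ₗ[k] V)) ∧ ∀ (n' : ℤ) (g' : V ≃ₗ[k] W), (∀ i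 : ℤ, Submodule.map (g' : V →ₗ[k] W) (𝒱 i) = 𝒲 (i + n')) → (∀ f : Module.End k V, φ f = (g' : V →ₗ[k] W) ∘ₗ f ∘ₗ (g'.symm : W →ₗ[k] V)) → n' = n ∧ ∃ c : kˣ, ∀ x : V, g' x = c • g x := by
  classical
  have htop := h𝒱.submodule_iSup_eq_top
  obtain ⟨i0, v0, hv0, hv0ne⟩ : ∃ i, ∃ v ∈ 𝒱 i, v ≠ 0 := by
    by_contra h
    push Not at h
    have : (⊤ : Submodule k V) ≤ ⊥ := htop ▸ iSup_le fun i v hv => (Submodule.mem_bot k).2 (h i v hv)
    obtain ⟨v, hv⟩ := exists_ne (0 : V)
    exact hv ((Submodule.mem_bot k).1 (this (Submodule.mem_top (x := v))))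
  have hnotmem : v0 ∉ ⨆ (l : ℤ) (_ : l ≠ i0), 𝒱 l := fun h =>
    hv0ne (Submodule.disjoint_def.1 (h𝒱.submodule_iSupIndep i0) v0 hv0 h)
  obtain ⟨ξ₀, hξne, hξbot⟩ := Submodule.exists_dual_map_eq_bot_of_notMem hnotmem inferInstance
  let ξ : Module.Dual k V := (ξ₀ v0)⁻¹ • ξ₀
  have hξ1 : ξ v0 = 1 := by simp [ξ, hξne]
  have hξ0 : ∀ l, l ≠ i0 → ∀ v ∈ 𝒱 l, ξ v = 0 := by
    intro l hl v hv
    have hmem : v ∈ ⨆ (m : ℤ) (_ : m ≠ i0), 𝒱 m := Submodule.mem_iSup_of_mem l (Submodule.mem_iSup_of_mem hl hv)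
    have := Submodule.mem_map_of_mem (f := ξ₀) hmem
    rw [hξbot, Submodule.mem_bot] at this
    simp [ξ, this]
  let R : V →ₗ[k] Module.End k V := LinearMap.smulRightₗ ξ
  have hR : ∀ x v, R x v = ξ v • x := fun x v => rfl
  have hRhom : ∀ (i : ℤ) (x : V), x ∈ 𝒱 i → ∀ (l : ℤ) (v : V), v ∈ 𝒱 l → R x v ∈ 𝒱 (l + (i - i0)) := by
    intro i x hx l v hv
    rw [hR]
    by_cases hl : l = i0
    · subst hl
      rw [show l + (i - l) = i by abel]
      exact Submodule.smul_mem _ _ hx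
    · rw [hξ0 l hl v hv, zero_smul]
      exact zero_mem _
  have hRne : φ (R v0) ≠ 0 := by
    intro h
    rw [map_eq_zero_iff _ φ.injective] at h
    have := LinearMap.congr_fun h v0
    rw [hR, hξ1, one_smul] at this
    exact hv0ne this
  obtain ⟨j0, y0, hy0, hy0ne⟩ : ∃ j, ∃ y ∈ 𝒲 j, φ (R v0) y ≠ 0 := by
    by_contra h
    push Not at h
    refine hRne (LinearMap.ker_eq_top.1 (eq_top_iff.2 ?_))
    rw [← h𝒲.submodule_iSup_eq_top]
    exact iSup_le fun j y hy => h j y hy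
  set w0 := φ (R v0) y0 with hw0
  have hw0mem : w0 ∈ 𝒲 j0 := by
    have := hφ (i0 - i0) (R v0) (fun l v hv => hRhom i0 v0 hv0 l v hv) j0 y0 hy0
    simpa using this
  have hw0fix : φ (R v0) w0 = w0 := by
    rw [hw0, ← Module.End.mul_apply, ← map_mul]
    congr 2
    ext v
    simp [hR, hξ1]
  let g₀ : V →ₗ[k] W := LinearMap.applyₗ w0 ∘ₗ φ.toLinearMap ∘ₗ R
  have hg₀ : ∀ x, g₀ x = φ (R x) w0 := fun x => rfl
  have hint : ∀ (f : Module.End k V) x, g₀ (f x) = φ f (g₀ x) := by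
    intro f x
    have hfx : R (f x) = f * R x := by
      ext v
      simp [hR]
    rw [hg₀, hg₀, hfx, map_mul]
    rfl
  have hgv0 : g₀ v0 = w0 := hw0fix
  have hinj : Function.Injective g₀ := by
    rw [← LinearMap.ker_eq_bot, Submodule.eq_bot_iff]
    intro x hx
    by_contra hx0
    obtain ⟨μ₀, hμ, -⟩ := Submodule.exists_dual_map_eq_bot_of_notMem (p := (⊥ : Submodule k V))
      (by simpa using hx0) inferInstance
    let f : Module.End k V := ((μ₀ x)⁻¹ • μ₀).smulRight v0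
    have := hint f x
    rw [LinearMap.mem_ker.1 hx, map_zero, show f x = v0 by simp [f, hμ], hgv0] at this
    exact hy0ne this
  have hsurj : Function.Surjective g₀ := by
    intro y
    obtain ⟨μ₀, hμ, -⟩ := Submodule.exists_dual_map_eq_bot_of_notMem (p := (⊥ : Submodule k W))
      (show w0 ∉ (⊥ : Submodule k W) by simpa using hy0ne) inferInstance
    let ψ : Module.End k W := ((μ₀ w0)⁻¹ • μ₀).smulRight y
    refine ⟨φ.symm ψ v0, ?_⟩
    rw [hint, φ.apply_symm_apply, hgv0]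
    simp [ψ, hμ]
  let g := LinearEquiv.ofBijective g₀ ⟨hinj, hsurj⟩
  have hgW : ∀ (i : ℤ) (x : V), x ∈ 𝒱 i → g₀ x ∈ 𝒲 (i + (j0 - i0)) := by
    intro i x hx
    have := hφ (i - i0) (R x) (fun l v hv => hRhom i x hx l v hv) j0 w0 hw0mem
    rwa [show j0 + (i - i0) = i + (j0 - i0) by abel] at this
  refine ⟨j0 - i0, g, fun i => ?_, fun f => ?_, fun n' g' hg' hf' => ?_⟩
  · refine le_antisymm (Submodule.map_le_iff_le_comap.2 (hgW i)) fun y hy => ?_
    obtain ⟨x, rfl⟩ := hsurj y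
    have hx : x ∈ 𝒱 i ⊔ ⨆ (l : ℤ) (_ : l ≠ i), 𝒱 l := by
      rw [← iSup_split_single 𝒱 i, htop]; trivial
    obtain ⟨a, ha, b, hb, rfl⟩ := Submodule.mem_sup.1 hx
    have hb' : g₀ b ∈ ⨆ (m : ℤ) (_ : m ≠ i + (j0 - i0)), 𝒲 m := by
      have hle : (⨆ (l : ℤ) (_ : l ≠ i), 𝒱 l) ≤ Submodule.comap g₀ (⨆ (m : ℤ) (_ : m ≠ i + (j0 - i0)), 𝒲 m) :=
        iSup₂_le fun l hl v hv =>
          Submodule.mem_iSup_of_mem (l + (j0 - i0)) (Submodule.mem_iSup_of_mem (fun h => hl (add_right_cancel h)) (hgW l v hv))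
      exact hle hb
    rw [map_add] at hy
    have hb0 : g₀ b = 0 := Submodule.disjoint_def.1 (h𝒲.submodule_iSupIndep _) _
      (by simpa using Submodule.sub_mem _ hy (hgW i a ha)) hb'
    exact ⟨a, ha, by simp [g, hb0]⟩
  · refine LinearMap.ext fun y => ?_
    obtain ⟨x, rfl⟩ := hsurj y
    simp only [LinearMap.comp_apply, LinearEquiv.coe_coe]
    rw [show g.symm (g₀ x) = x from g.symm_apply_apply x]
    exact (hint f x).symm
  · have hh : ∀ (f : Module.End k V) (x : V), g.symm (g' (f x)) = f (g.symm (g' x)) := by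
      intro f x
      have h1 : φ f (g' x) = g' (f x) := by rw [hf']; simp
      obtain ⟨z, hz⟩ := hsurj (g' x)
      rw [← hz, show g.symm (g₀ z) = z from g.symm_apply_apply z, ← h1, ← hz, ← hint,
        show g.symm (g₀ (f z)) = f z from g.symm_apply_apply _]
    have hc : ∀ x, g.symm (g' x) = ξ (g.symm (g' v0)) • x := by
      intro x
      have := hh (R x) v0
      rw [hR, hξ1, one_smul, hR] at this
      exact this
    set c := ξ (g.symm (g' v0)) with hcdef
    have hg'x : ∀ x, g' x = c • g x := fun x => by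
      rw [← map_smul, ← hc, g.apply_symm_apply]
    have hc0 : c ≠ 0 := by
      intro h
      have := hg'x v0
      rw [h, zero_smul, LinearEquiv.map_eq_zero_iff] at this
      exact hv0ne this
    refine ⟨?_, Units.mk0 c hc0, fun x => hg'x x⟩
    by_contra hne
    have h1 : g' v0 ∈ 𝒲 (i0 + n') := hg' i0 ▸ Submodule.mem_map_of_mem hv0
    have h2 : g' v0 ∈ 𝒲 (i0 + (j0 - i0)) := by
      rw [hg'x]; exact Submodule.smul_mem _ _ (hgW i0 v0 hv0)
    have h3 : g' v0 = 0 := Submodule.disjoint_def.1 (h𝒲.submodule_iSupIndep _) _ h2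
      (Submodule.mem_iSup_of_mem (i0 + n') (Submodule.mem_iSup_of_mem (fun h => hne (add_left_cancel h)) h1))
    exact hv0ne ((LinearEquiv.map_eq_zero_iff g').1 h3)

end Groth.Agent.S13846
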