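import Groth.Statements.S13847
import Mathlib.RingTheory.SimpleModule.Isotypic
import Mathlib.RingTheory.SimpleModule.WedderburnArtin
import Mathlib.RingTheory.Jacobson.Radical
import Mathlib.Algebra.Module.Torsion.Basic
import Mathlib.RingTheory.Length
import Mathlib.LinearAlgebra.Quotient.Basic

set_option autoImplicit false
universe u v
open TwSh

namespace Groth.Agent.S13847

section S13847Helpers

variable {A : Type u} [Ring A] {P Q : Type v} [AddCommGroup P] [Module A P] [AddCommGroup Q] [Module A Q]

local notation "J" => Ring.jacobson A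
local notation3 "bar" M => M ⧸ (Ring.jacobson A • (⊤ : Submodule A M))

/-- The reduction of a linear map modulo the radical. -/
noncomputable def redMap (f : P →ₗ[A] Q) : (bar P) →ₗ[A ⧸ J] (bar Q) where
  toFun := Submodule.mapQ _ _ f (Submodule.map_le_iff_le_comap.1 (by
    rw [Submodule.map_smul'']
    exact Submodule.smul_mono le_rfl le_top))
  map_add' := map_add _
  map_smul' := fun c x => by
    obtain ⟨a, rfl⟩ := Ideal.Quotient.mk_surjective c
    obtain ⟨p, rfl⟩ := Submodule.Quotient.mk_surjective _ x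
    rw [RingHom.id_apply, Module.Quotient.mk_smul_mk, Submodule.mapQ_apply, Submodule.mapQ_apply,
      Module.Quotient.mk_smul_mk, map_smul]

theorem redMap_mk (f : P →ₗ[A] Q) (p : P) : redMap f (Submodule.Quotient.mk p) = Submodule.Quotient.mk (f p) := rfl

theorem redMap_surjective [Module.Projective A P] (g : (bar P) →ₗ[A ⧸ J] (bar Q)) :
    ∃ f : P →ₗ[A] Q, redMap f = g := by
  let g₀ : P →ₗ[A] (bar Q) :=
    { toFun := fun p => g (Submodule.Quotient.mk p)
      map_add' := fun a b => by rw [Submodule.Quotient.mk_add, map_add]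
      map_smul' := fun a p => by
        rw [RingHom.id_apply, ← Module.Quotient.mk_smul_mk, map_smul]
        generalize g (Submodule.Quotient.mk p) = y
        obtain ⟨q, rfl⟩ := Submodule.Quotient.mk_surjective _ y
        rw [Module.Quotient.mk_smul_mk, Submodule.Quotient.mk_smul] }
  obtain ⟨f, hf⟩ := Module.projective_lifting_property (Submodule.mkQ _) g₀ (Submodule.mkQ_surjective _)
  refine ⟨f, LinearMap.ext fun x => ?_⟩
  obtain ⟨p, rfl⟩ := Submodule.Quotient.mk_surjective _ x
  exact LinearMap.congr_fun hf p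

/-- A lift of the identity is bijective. -/
theorem bijective_of_redMap_eq_id [Module.Finite A P] [Module.Projective A P] (h : P →ₗ[A] P)
    (hh : redMap h = LinearMap.id) : Function.Bijective h := by
  have hsurj : ∀ h : P →ₗ[A] P, redMap h = LinearMap.id → Function.Surjective h := by
    intro h hh
    rw [← LinearMap.range_eq_top, ← Submodule.Quotient.subsingleton_iff,
      ← not_nontrivial_iff_subsingleton]
    intro hn
    have hfg : (⊤ : Submodule A (P ⧸ LinearMap.range h)).FG := Module.Finite.fg_top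
    refine absurd (hfg.eq_bot_of_le_jacobson_smul fun y _ => ?_) (by exact top_ne_bot)
    obtain ⟨p, rfl⟩ := Submodule.Quotient.mk_surjective _ y
    have h1 : p - h p ∈ J • (⊤ : Submodule A P) :=
      (Submodule.Quotient.eq _).1 (LinearMap.congr_fun hh (Submodule.Quotient.mk p)).symm
    have h2 : Submodule.Quotient.mk (p := LinearMap.range h) p = (LinearMap.range h).mkQ (p - h p) := by
      rw [map_sub, Submodule.mkQ_apply, Submodule.mkQ_apply,
        (Submodule.Quotient.mk_eq_zero _).2 (LinearMap.mem_range_self h p), sub_zero]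
    rw [h2]
    have h3 := Submodule.mem_map_of_mem (f := (LinearMap.range h).mkQ) h1
    rw [Submodule.map_smul''] at h3
    exact Submodule.smul_mono le_rfl le_top h3
  have hs := hsurj h hh
  obtain ⟨s, hs'⟩ := Module.projective_lifting_property h LinearMap.id hs
  have hsid : redMap s = LinearMap.id := LinearMap.ext fun x => by
    obtain ⟨p, rfl⟩ := Submodule.Quotient.mk_surjective _ x
    have h1 := LinearMap.congr_fun hh (Submodule.Quotient.mk (s p))
    rw [redMap_mk, show h (s p) = p from LinearMap.congr_fun hs' p] at h1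
    exact h1.symm
  refine ⟨fun x y hxy => ?_, hs⟩
  obtain ⟨x, rfl⟩ := hsurj s hsid x
  obtain ⟨y, rfl⟩ := hsurj s hsid y
  rw [show h (s x) = x from LinearMap.congr_fun hs' x, show h (s y) = y from LinearMap.congr_fun hs' y] at hxy
  rw [hxy]

/-- The kernel of reduction, described inside the endomorphism ring. -/
theorem redMap_eq_zero_iff [Module.Finite A P] [Module.Projective A P] {S : Type v} [AddCommGroup S]
    [Module (A ⧸ J) S] [IsSimpleModule (A ⧸ J) S] {n : ℕ} (e : (bar P) ≃ₗ[A ⧸ J] (Fin n → S))
    (f : Module.End A P) : redMap f = 0 ↔ ∀ g : Module.End A P, IsUnit (1 + g * f) := by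
  classical
  constructor
  · intro hf g
    rw [Module.End.isUnit_iff]
    refine bijective_of_redMap_eq_id _ (LinearMap.ext fun x => ?_)
    obtain ⟨p, rfl⟩ := Submodule.Quotient.mk_surjective _ x
    have h1 := LinearMap.congr_fun hf (Submodule.Quotient.mk p)
    rw [redMap_mk, LinearMap.zero_apply] at h1
    have h2 : redMap g (Submodule.Quotient.mk (f p)) = 0 := by rw [h1, map_zero]
    rw [redMap_mk] at h2
    show Submodule.Quotient.mk (p + g (f p)) = Submodule.Quotient.mk p
    rw [Submodule.Quotient.mk_add, h2, add_zero]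
  · intro hu
    by_contra hf
    obtain ⟨i, j, hij⟩ : ∃ i j, (LinearMap.proj j ∘ₗ e.toLinearMap ∘ₗ redMap f ∘ₗ e.symm.toLinearMap ∘ₗ
        LinearMap.single (A ⧸ J) (fun _ : Fin n => S) i : S →ₗ[A ⧸ J] S) ≠ 0 := by
      by_contra h
      push Not at h
      refine hf (LinearMap.ext fun x => ?_)
      rw [← e.symm_apply_apply x, LinearMap.zero_apply]
      generalize e x = y
      rw [← Finset.univ_sum_single y, map_sum, map_sum]
      refine Finset.sum_eq_zero fun i _ => e.injective (funext fun j => ?_)
      rw [map_zero]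
      exact LinearMap.congr_fun (h i j) (y i)
    obtain ⟨σ, hσ⟩ : ∃ σ : S ≃ₗ[A ⧸ J] S, ∀ s, σ s = (LinearMap.proj j ∘ₗ e.toLinearMap ∘ₗ redMap f ∘ₗ
        e.symm.toLinearMap ∘ₗ LinearMap.single (A ⧸ J) (fun _ : Fin n => S) i : S →ₗ[A ⧸ J] S) s :=
      ⟨LinearEquiv.ofBijective _ (LinearMap.bijective_of_ne_zero hij), fun s => rfl⟩
    obtain ⟨g, hg⟩ := redMap_surjective (P := P) (Q := P) (-(e.symm.toLinearMap ∘ₗ
      LinearMap.single (A ⧸ J) (fun _ : Fin n => S) i ∘ₗ σ.symm.toLinearMap ∘ₗ LinearMap.proj j ∘ₗ e.toLinearMap))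
    haveI := IsSimpleModule.nontrivial (A ⧸ J) S
    obtain ⟨s, hs⟩ := exists_ne (0 : S)
    obtain ⟨p, hp⟩ := Submodule.Quotient.mk_surjective _ (e.symm (LinearMap.single (A ⧸ J) (fun _ : Fin n => S) i s))
    have h2 : (Submodule.Quotient.mk ((1 + g * f) p) : bar P) = 0 := by
      show Submodule.Quotient.mk (p + g (f p)) = 0
      rw [Submodule.Quotient.mk_add, ← redMap_mk g, hg, ← redMap_mk f, hp]
      show _ + -(e.symm (LinearMap.single (A ⧸ J) (fun _ : Fin n => S) i (σ.symm _))) = 0
      have hs2 := σ.symm_apply_eq.2 (hσ s).symm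
      simp only [LinearMap.comp_apply, LinearEquiv.coe_coe] at hs2 ⊢
      rw [hs2, add_neg_cancel]
    obtain ⟨u, hu'⟩ := hu g
    have h3 : (Submodule.Quotient.mk p : bar P) = 0 := by
      have h4 : redMap (↑u⁻¹ : Module.End A P) (Submodule.Quotient.mk ((1 + g * f) p)) = 0 := by rw [h2, map_zero]
      rw [redMap_mk, ← hu'] at h4
      rwa [← Module.End.mul_apply, Units.inv_mul, Module.End.one_apply] at h4
    rw [hp] at h3
    have h5 := congrFun (e.symm.injective (h3.trans (map_zero _).symm)) i
    simp at h5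
    exact hs h5

theorem e_comp_aux : True := trivial

/-- The coordinate projections. -/
noncomputable def coordProj {n : ℕ} {S : Type v} [AddCommGroup S] [Module (A ⧸ J) S] (eP : (bar P) ≃ₗ[A ⧸ J] (Fin n → S))
    (i : Fin n) : (bar P) →ₗ[A ⧸ J] (bar P) :=
  eP.symm.toLinearMap ∘ₗ LinearMap.single (A ⧸ J) (fun _ : Fin n => S) i ∘ₗ LinearMap.proj i ∘ₗ eP.toLinearMap

theorem coordProj_comp {n : ℕ} {S : Type v} [AddCommGroup S] [Module (A ⧸ J) S] (eP : (bar P) ≃ₗ[A ⧸ J] (Fin n → S))
    (i j : Fin n) : coordProj eP i ∘ₗ coordProj eP j = if i = j then coordProj eP i else 0 := by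
  refine LinearMap.ext fun x => ?_
  simp only [coordProj, LinearMap.comp_apply, LinearEquiv.coe_coe, eP.apply_symm_apply]
  rcases eq_or_ne i j with h | h
  · subst h; simp [coordProj]
  · simp [h]

theorem coordProj_ne_zero {n : ℕ} {S : Type v} [AddCommGroup S] [Module (A ⧸ J) S] [IsSimpleModule (A ⧸ J) S]
    (eP : (bar P) ≃ₗ[A ⧸ J] (Fin n → S)) (i : Fin n) : coordProj eP i ≠ 0 := by
  haveI := IsSimpleModule.nontrivial (A ⧸ J) S
  obtain ⟨s, hs⟩ := exists_ne (0 : S)
  intro h
  have h1 := congrArg eP (LinearMap.congr_fun h (eP.symm (Pi.single i s)))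
  simp [coordProj] at h1
  exact hs h1

theorem card_le_of_equiv [Module.Finite A P] [Module.Projective A P] [Module.Finite A Q] [Module.Projective A Q]
    (φ : Module.End A P ≃+* Module.End A Q) {S : Type v} [AddCommGroup S] [Module (A ⧸ J) S]
    [IsSimpleModule (A ⧸ J) S] {n m : ℕ} (eP : (bar P) ≃ₗ[A ⧸ J] (Fin n → S))
    (eQ : (bar Q) ≃ₗ[A ⧸ J] (Fin m → S)) : n ≤ m := by
  classical
  have hK : ∀ f, redMap f = 0 ↔ redMap (φ f) = 0 := fun f => by
    rw [redMap_eq_zero_iff eP, redMap_eq_zero_iff eQ]
    constructor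
    · intro h g
      have := (h (φ.symm g)).map φ
      rwa [map_add, map_one, map_mul, φ.apply_symm_apply] at this
    · intro h g
      have := (h (φ g)).map φ.symm
      rwa [map_add, map_one, map_mul, φ.symm_apply_apply, φ.symm_apply_apply] at this
  let ε : Fin n → ((bar P) →ₗ[A ⧸ J] (bar P)) := fun i =>
    coordProj eP i
  choose f hf using fun i => redMap_surjective (P := P) (Q := P) (ε i)
  have hsub : ∀ {M : Type v} [AddCommGroup M] [Module A M] (a b : Module.End A M), redMap (a - b) = redMap a - redMap b := fun a b =>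
    LinearMap.ext fun x => by obtain ⟨p, rfl⟩ := Submodule.Quotient.mk_surjective _ x; rfl
  have hmul : ∀ {M : Type v} [AddCommGroup M] [Module A M] (a b : Module.End A M), redMap (a * b) = redMap a ∘ₗ redMap b := fun a b =>
    LinearMap.ext fun x => by obtain ⟨p, rfl⟩ := Submodule.Quotient.mk_surjective _ x; rfl
  have horth : ∀ i j, redMap (φ (f i)) ∘ₗ redMap (φ (f j)) = if i = j then redMap (φ (f i)) else 0 := by
    intro i j
    have h1 : redMap (f i * f j - if i = j then f i else 0) = 0 := by
      rw [hsub, hmul, hf, hf, coordProj_comp eP i j]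
      split_ifs with h
      · rw [hf, sub_self]
      · rw [sub_eq_zero]; exact (LinearMap.ext fun x => by obtain ⟨p, rfl⟩ := Submodule.Quotient.mk_surjective _ x; rfl)
    rw [hK, map_sub, map_mul, hsub, hmul, sub_eq_zero] at h1
    rw [h1]
    split_ifs with h
    · rfl
    · rw [map_zero]; exact LinearMap.ext fun x => by obtain ⟨p, rfl⟩ := Submodule.Quotient.mk_surjective _ x; rfl
  have hne : ∀ i, redMap (φ (f i)) ≠ 0 := fun i h => by
    rw [← hK, hf] at h
    exact coordProj_ne_zero eP i h
  let Ψ : (bar Q) →ₗ[A ⧸ J] (∀ i, LinearMap.range (redMap (φ (f i)))) :=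
    LinearMap.pi fun i => (redMap (φ (f i))).rangeRestrict
  have hΨ : Function.Surjective Ψ := fun y => by
    refine ⟨∑ i, (y i : bar Q), funext fun j => Subtype.ext ?_⟩
    show redMap (φ (f j)) (∑ i, (y i : bar Q)) = _
    have hy : ∀ i, redMap (φ (f j)) (y i : bar Q) = if j = i then (y i : bar Q) else 0 := fun i => by
      obtain ⟨z, hz⟩ := (y i).2
      rw [← hz, ← LinearMap.comp_apply, horth]
      split_ifs with h
      · rw [h]
      · rfl
    rw [map_sum, Finset.sum_congr rfl fun i _ => hy i, Finset.sum_ite_eq, if_pos (Finset.mem_univ _)]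
  have h1 := Module.length_le_of_surjective Ψ hΨ
  rw [Module.length_pi_of_fintype, eQ.length_eq, Module.length_pi_of_fintype] at h1
  simp only [Module.length_eq_one (A ⧸ J) S, Finset.sum_const, Finset.card_univ, Fintype.card_fin, nsmul_eq_mul, mul_one] at h1
  have h2 : (n : ℕ∞) ≤ ∑ i : Fin n, Module.length (A ⧸ J) (LinearMap.range (redMap (φ (f i)))) := by
    refine le_trans (by simp) (Finset.sum_le_sum (s := Finset.univ) (f := fun _ : Fin n => (1 : ℕ∞)) fun i _ => ?_)
    rw [ENat.one_le_iff_ne_zero]
    intro h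
    refine hne i (LinearMap.ext fun x => ?_)
    haveI := Module.length_eq_zero_iff.1 h
    exact congrArg Subtype.val (Subsingleton.elim (⟨_, LinearMap.mem_range_self _ x⟩ : LinearMap.range (redMap (φ (f i)))) 0)
  exact_mod_cast h2.trans h1

end S13847Helpers


/-- Let A be a ring which is strongly local, that is, the quotient of A by its Jacobson radical J is a
simple left-Artinian ring, and let P and Q be finitely generated projective left A-modules. If
End_A(P) and End_A(Q) are isomorphic as rings, then P ≅ Q as A-modules. (The published assertion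
says more, that every ring isomorphism End_A(P) ≅ End_A(Q) is induced by an isomorphism P ≅ Q; that
is not correct for isomorphisms which are not linear over the centre — complex conjugation is a ring
automorphism of End_ℂ(ℂ) = ℂ induced by no ℂ-linear map — and this row keeps the existence of an
isomorphism P ≅ Q, which is what the first part of the printed proof establishes.) -/
theorem result (A : Type u) [Ring A] [IsSimpleRing (A ⧸ Ring.jacobson A)] [IsArtinianRing (A ⧸ Ring.jacobson A)] (P Q : Type v) [AddCommGroup P] [Module A P] [Module.Finite A P] [Module.Projective A P] [AddCommGroup Q] [Module A Q] [Module.Finite A Q] [Module.Projective A Q] (e : Module.End A P ≃+* Module.End A Q) : Nonempty (P ≃ₗ[A] Q) := by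
  classical
  have hss : IsSemisimpleRing (A ⧸ Ring.jacobson A) :=
    ((isSimpleRing_isArtinianRing_iff (R := A ⧸ Ring.jacobson A)).1 ⟨inferInstance, inferInstance⟩).1
  haveI := hss
  let PB := P ⧸ (Ring.jacobson A • (⊤ : Submodule A P))
  let QB := Q ⧸ (Ring.jacobson A • (⊤ : Submodule A Q))
  haveI : IsScalarTower A (A ⧸ Ring.jacobson A) PB := ⟨fun a c x => by
    obtain ⟨b, rfl⟩ := Ideal.Quotient.mk_surjective c
    obtain ⟨p, rfl⟩ := Submodule.Quotient.mk_surjective _ x
    show (Ideal.Quotient.mk _ (a * b)) • Submodule.Quotient.mk p = _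
    rw [Module.Quotient.mk_smul_mk, Module.Quotient.mk_smul_mk, mul_smul, Submodule.Quotient.mk_smul]⟩
  haveI : IsScalarTower A (A ⧸ Ring.jacobson A) QB := ⟨fun a c x => by
    obtain ⟨b, rfl⟩ := Ideal.Quotient.mk_surjective c
    obtain ⟨p, rfl⟩ := Submodule.Quotient.mk_surjective _ x
    show (Ideal.Quotient.mk _ (a * b)) • Submodule.Quotient.mk p = _
    rw [Module.Quotient.mk_smul_mk, Module.Quotient.mk_smul_mk, mul_smul, Submodule.Quotient.mk_smul]⟩
  haveI : Module.Finite (A ⧸ Ring.jacobson A) PB := Module.Finite.of_restrictScalars_finite A _ _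
  haveI : Module.Finite (A ⧸ Ring.jacobson A) QB := Module.Finite.of_restrictScalars_finite A _ _
  have hequiv : ∀ (η : PB ≃ₗ[A ⧸ Ring.jacobson A] QB), Nonempty (P ≃ₗ[A] Q) := fun η => by
    obtain ⟨f, hf⟩ := redMap_surjective (P := P) (Q := Q) η.toLinearMap
    obtain ⟨g, hg⟩ := redMap_surjective (P := Q) (Q := P) η.symm.toLinearMap
    have h1 : redMap (g ∘ₗ f) = LinearMap.id := LinearMap.ext fun x => by
      obtain ⟨p, rfl⟩ := Submodule.Quotient.mk_surjective _ x
      rw [redMap_mk, LinearMap.comp_apply, ← redMap_mk g, ← redMap_mk f, hf, hg]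
      exact η.symm_apply_apply _
    have h2 : redMap (f ∘ₗ g) = LinearMap.id := LinearMap.ext fun x => by
      obtain ⟨p, rfl⟩ := Submodule.Quotient.mk_surjective _ x
      rw [redMap_mk, LinearMap.comp_apply, ← redMap_mk f, ← redMap_mk g, hg, hf]
      exact η.apply_symm_apply _
    have hfi : Function.Injective f := Function.Injective.of_comp (f := g) (bijective_of_redMap_eq_id _ h1).1
    have hfs : Function.Surjective f := Function.Surjective.of_comp (g := g) (bijective_of_redMap_eq_id _ h2).2
    exact ⟨LinearEquiv.ofBijective f ⟨hfi, hfs⟩⟩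
  rcases subsingleton_or_nontrivial (PB × QB) with h | h
  · haveI : Subsingleton PB := (LinearMap.inl_injective (R := A ⧸ Ring.jacobson A) (M := PB) (M₂ := QB)).subsingleton
    haveI : Subsingleton QB := (LinearMap.inr_injective (R := A ⧸ Ring.jacobson A) (M := PB) (M₂ := QB)).subsingleton
    exact hequiv (LinearEquiv.ofSubsingleton PB QB)
  · obtain ⟨S, hS⟩ := IsAtomic.exists_atom (Submodule (A ⧸ Ring.jacobson A) (PB × QB))
    rw [← isSimpleModule_iff_isAtom] at hS
    have hT := IsSimpleRing.isIsotypic (A ⧸ Ring.jacobson A) (PB × QB) S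
    obtain ⟨n, ⟨eP⟩⟩ := (hT.of_injective (LinearMap.inl _ PB QB) LinearMap.inl_injective).linearEquiv_fun
    obtain ⟨m, ⟨eQ⟩⟩ := (hT.of_injective (LinearMap.inr _ PB QB) LinearMap.inr_injective).linearEquiv_fun
    obtain rfl : n = m := le_antisymm (card_le_of_equiv e eP eQ) (card_le_of_equiv e.symm eQ eP)
    exact hequiv (eP.trans eQ.symm)


end Groth.Agent.S13847
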