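import Groth.Statements.S13848
import Mathlib.RingTheory.Jacobson.Ring
import Mathlib.RingTheory.TwoSidedIdeal.Operations
import Mathlib.RingTheory.SimpleRing.Basic
import Mathlib.LinearAlgebra.Dual.Defs
import Mathlib.RingTheory.Nakayama
import Mathlib.Algebra.Module.Projective
import Mathlib.Tactic

set_option autoImplicit false
universe u v
open TwSh

namespace Groth.Agent.S13848

/-- Let A be a ring with A/J a simple left-Artinian ring, J the Jacobson radical, and let P be a
non-zero finitely generated projective left A-module. An A-linear automorphism u of P which commutes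
with every A-linear endomorphism of P (equivalently, induces the identity on End_A(P) by
conjugation) is scalar multiplication by a unique central element a of A: u(x) = a·x for all x ∈ P,
and a is determined by u. (So the automorphisms of P acting trivially on End_A(P) are exactly the
central units of A acting by scalars; the published assertion does not exclude P = 0, where
uniqueness fails.) -/
theorem result (A : Type u) [Ring A] [IsSimpleRing (A ⧸ Ring.jacobson A)] [IsArtinianRing (A ⧸ Ring.jacobson A)] (P : Type v) [AddCommGroup P] [Module A P] [Module.Finite A P] [Module.Projective A P] [Nontrivial P] (u : P ≃ₗ[A] P) (hu : ∀ f : Module.End A P, (u : P →ₗ[A] P) ∘ₗ f = f ∘ₗ (u : P →ₗ[A] P)) : ∃! a : A, (∀ b : A, a * b = b * a) ∧ ∀ x : P, u x = a • x := by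
  classical
  obtain ⟨s, hs⟩ := Module.projective_def'.mp (inferInstance : Module.Projective A P)
  let f : P → P →ₗ[A] A := fun z => Finsupp.lapply z ∘ₗ s
  -- the trace ideal of `P`, as a two-sided ideal, is everything
  let T : Submodule A A := Submodule.span A (Set.range fun zx : P × P => f zx.1 zx.2)
  let T' : Submodule A A := ⨆ g : P →ₗ[A] A, LinearMap.range g
  have hT'mul : ∀ (a : A), ∀ t ∈ T', t * a ∈ T' := by
    intro a t ht
    let m : A →ₗ[A] A := LinearMap.toSpanSingleton A A a
    have : T'.map m ≤ T' := by
      rw [Submodule.map_iSup]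
      refine iSup_le fun g => ?_
      rw [← LinearMap.range_comp]
      exact le_iSup (fun g : P →ₗ[A] A => LinearMap.range g) _
    exact this ⟨t, ht, rfl⟩
  have hxT : ∀ x : P, x ∈ (T' • (⊤ : Submodule A P)) := by
    intro x
    have hx : x = Finsupp.linearCombination A id (s x) := (LinearMap.congr_fun hs x).symm
    rw [hx, Finsupp.linearCombination_apply]
    refine Submodule.sum_mem _ fun z _ => Submodule.smul_mem_smul ?_ trivial
    exact (le_iSup (fun g : P →ₗ[A] A => LinearMap.range g) (f z)) ⟨x, rfl⟩
  have hone : (1 : A) ∈ T' := by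
    haveI : Ideal.IsTwoSided (T' : Ideal A) := ⟨fun a h => hT'mul a _ h⟩
    let J := Ring.jacobson A
    let U : Ideal (A ⧸ J) := Ideal.map (Ideal.Quotient.mk J) (T' : Ideal A)
    let I' : TwoSidedIdeal (A ⧸ J) := TwoSidedIdeal.mk' (U : Set (A ⧸ J))
      U.zero_mem (fun hx hy => U.add_mem hx hy) (fun hx => U.neg_mem hx)
      (fun {x y} hy => U.mul_mem_left x hy) (fun {x y} hx => by
        obtain ⟨a, ha, rfl⟩ := (Ideal.mem_map_iff_of_surjective _ Ideal.Quotient.mk_surjective).mp
          (SetLike.mem_coe.mp hx)
        obtain ⟨b, rfl⟩ := Ideal.Quotient.mk_surjective y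
        rw [← map_mul]
        exact Ideal.mem_map_of_mem _ (hT'mul b a ha))
    rcases IsSimpleRing.simple.eq_bot_or_eq_top I' with h | h
    · exfalso
      have hTJ : T' ≤ (J : Submodule A A) := fun t ht => by
        have : Ideal.Quotient.mk J t ∈ I' := by
          rw [TwoSidedIdeal.mem_mk']
          exact Ideal.mem_map_of_mem _ ht
        rw [h, TwoSidedIdeal.mem_bot] at this
        exact Ideal.Quotient.eq_zero_iff_mem.mp this
      have hN : (⊤ : Submodule A P) ≤ J • ⊤ := fun x _ => Submodule.smul_mono_left hTJ (hxT x)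
      exact top_ne_bot (Module.Finite.fg_top.eq_bot_of_le_jacobson_smul hN)
    · have h1 : (1 : A ⧸ J) ∈ I' := h ▸ trivial
      rw [TwoSidedIdeal.mem_mk'] at h1
      obtain ⟨t, ht, ht1⟩ := (Ideal.mem_map_iff_of_surjective _ Ideal.Quotient.mk_surjective).mp h1
      have htop : (T' : Ideal A) = ⊤ := by
        by_contra hne
        obtain ⟨M, hM, hle⟩ := Ideal.exists_le_maximal (T' : Ideal A) hne
        apply hM.ne_top
        rw [Ideal.eq_top_iff_one]
        have hJM : J ≤ M := Ring.jacobson_le_of_isMaximal M
        have : t - 1 ∈ M := hJM (Ideal.Quotient.eq_zero_iff_mem.mp (by rw [map_sub, map_one, ht1, sub_self]))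
        simpa using sub_mem (hle ht) this
      exact htop ▸ trivial
  have hrep : ∀ t ∈ T', ∃ a : A, ∀ y : P, u (t • y) = a • y := by
    intro t ht
    induction ht using Submodule.iSup_induction' with
    | mem g x hx =>
      obtain ⟨z, rfl⟩ := hx
      refine ⟨g (u z), fun y => ?_⟩
      have := LinearMap.congr_fun (hu (g.smulRight y)) z
      simpa using this
    | zero => exact ⟨0, fun y => by simp⟩
    | add x y _ _ hx hy =>
      obtain ⟨a, ha⟩ := hx
      obtain ⟨b, hb⟩ := hy
      exact ⟨a + b, fun z => by rw [add_smul, map_add, ha, hb, add_smul]⟩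
  obtain ⟨a, ha⟩ := hrep 1 hone
  have ha' : ∀ y : P, u y = a • y := fun y => by rw [← ha, one_smul]
  have hfaith : ∀ c : A, (∀ y : P, c • y = 0) → c = 0 := by
    intro c hc
    have : ∀ t ∈ T', c * t = 0 := by
      intro t ht
      induction ht using Submodule.iSup_induction' with
      | mem g x hx =>
        obtain ⟨z, rfl⟩ := hx
        rw [← smul_eq_mul, ← map_smul, hc, map_zero]
      | zero => simp
      | add x y _ _ hx hy => rw [mul_add, hx, hy, add_zero]
    simpa using this 1 hone
  refine ⟨a, ⟨fun b => ?_, ha'⟩, fun a' ⟨_, ha''⟩ => ?_⟩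
  · refine sub_eq_zero.mp (hfaith _ fun y => ?_)
    rw [sub_smul, mul_smul, mul_smul, ← ha', ← ha' y, u.map_smul, sub_self]
  · refine sub_eq_zero.mp (hfaith _ fun y => ?_)
    rw [sub_smul, ← ha', ← ha'' y, sub_self]


end Groth.Agent.S13848
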