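import Groth.Statements.S1386
import Groth.Agent.L20.FibreScheme

set_option autoImplicit false
universe u
open FlatMor

namespace Groth.Agent.S1386

open AlgebraicGeometry CategoryTheory Limits in
/-- Fibrewise flatness criterion (critère de platitude par fibres), for the structure sheaf: let f : X →
Y and g : Y → S be morphisms of schemes with X locally of finite presentation over S (via g ∘ f) and
Y locally of finite type over S. For a point x of X with images y = f(x) and s = g(y) the following
are equivalent: (1) X → S is flat at x and the induced morphism of fibres X_s → Y_s is flat at x;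
(2) Y → S is flat at y and f is flat at x. Moreover the set of points x at which (2) holds is open
in X. The published statement treats a finitely presented quasi-coherent O_X-module; here the module
is O_X. -/
theorem result {X Y S : Scheme.{u}} (f : X ⟶ Y) (g : Y ⟶ S) [LocallyOfFinitePresentation (f ≫ g)] [LocallyOfFiniteType g] :
    (∀ x : X, ((f ≫ g).stalkMap x).hom.Flat ∧ ((MoreMor.fiberMap f g (g (f x))).stalkMap ((f ≫ g).asFiber x)).hom.Flat ↔
        (g.stalkMap (f x)).hom.Flat ∧ (f.stalkMap x).hom.Flat) ∧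
      IsOpen {x : ↑X | (g.stalkMap (f x)).hom.Flat ∧ (f.stalkMap x).hom.Flat} := by
  haveI := Groth.L20.locallyOfFinitePresentation_of_comp f g
  have key : ∀ x : X, (f.stalkMap x).hom.Flat → (g.stalkMap (f x)).hom.Flat →
      ((f ≫ g).stalkMap x).hom.Flat := fun x hf hg => by
    rw [Scheme.Hom.stalkMap_comp]
    exact RingHom.Flat.comp hg hf
  refine ⟨fun x => ⟨fun ⟨h1, h2⟩ => ?_, fun ⟨hg, hf⟩ => ⟨key x hf hg, Groth.L20.flat_stalkMap_fiberMap_of_flat f g x hf⟩⟩, ?_⟩
  · have hf := Groth.L20.flat_stalkMap_of_fiberMap f g x h1 h2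
    exact ⟨Groth.L20.flat_stalkMap_of_comp f g x h1 hf, hf⟩
  · have heq : {x : ↑X | (g.stalkMap (f x)).hom.Flat ∧ (f.stalkMap x).hom.Flat} =
        {x : X | ((f ≫ g).stalkMap x).hom.Flat} ∩ {x : X | (f.stalkMap x).hom.Flat} := by
      ext x
      exact ⟨fun ⟨hg, hf⟩ => ⟨key x hf hg, hf⟩, fun ⟨h, hf⟩ => ⟨Groth.L20.flat_stalkMap_of_comp f g x h hf, hf⟩⟩
    rw [heq]
    exact (Groth.L20.isOpen_flat_stalkMap (f ≫ g)).inter (Groth.L20.isOpen_flat_stalkMap f)

end Groth.Agent.S1386
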