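import Groth.Statements.S13860
import Mathlib.GroupTheory.Sylow
import Mathlib.RepresentationTheory.Basic
import Mathlib.Algebra.CharP.Basic
import Mathlib.GroupTheory.Coset.Card
import Mathlib.GroupTheory.GroupAction.Quotient

set_option autoImplicit false
universe u v w
open ModRep

namespace Groth.Agent.S13860

/-- For k a field of characteristic p > 0, G a finite group and P a Sylow p-subgroup of G, a short exact
sequence of k[G]-modules has a k[G]-linear splitting exactly when it has a k[P]-linear one. Stated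
here for the surjection of the sequence: a G-equivariant k-linear map g : B → C between k-linear
representations of G admits a G-equivariant k-linear section if and only if it admits a
P-equivariant k-linear section. -/
theorem result {k : Type u} [Field k] (p : ℕ) [Fact p.Prime]
    [CharP k p] {G : Type v} [Group G] [Finite G] (P : Sylow p G)
    {B C : Type w} [AddCommGroup B] [Module k B] [AddCommGroup C] [Module k C]
    (ρB : Representation k G B) (ρC : Representation k G C)
    (g : B →ₗ[k] C) (hg : ∀ x : G, g ∘ₗ ρB x = ρC x ∘ₗ g) :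
    (∃ s : C →ₗ[k] B, g ∘ₗ s = LinearMap.id ∧ ∀ x : G, s ∘ₗ ρC x = ρB x ∘ₗ s) ↔
      (∃ s : C →ₗ[k] B, g ∘ₗ s = LinearMap.id ∧ ∀ x : G, x ∈ P → s ∘ₗ ρC x = ρB x ∘ₗ s) := by
  classical
  refine ⟨fun ⟨s, hs, he⟩ => ⟨s, hs, fun x _ => he x⟩, fun ⟨s, hs, he⟩ => ?_⟩
  letI := Fintype.ofFinite G
  let H : Subgroup G := (P : Subgroup G)
  haveI : Fintype (G ⧸ H) := Fintype.ofFinite _
  let T : G → (C →ₗ[k] B) := fun x => (ρB x).comp (s.comp (ρC x⁻¹))
  have hT : ∀ x, ∀ q ∈ H, T (x * q) = T x := by
    intro x q hq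
    apply LinearMap.ext
    intro c
    have h := LinearMap.congr_fun (he q hq) (ρC q⁻¹ (ρC x⁻¹ c))
    simp only [LinearMap.comp_apply] at h
    show ρB (x * q) (s (ρC (x * q)⁻¹ c)) = ρB x (s (ρC x⁻¹ c))
    rw [mul_inv_rev, map_mul, map_mul, Module.End.mul_apply, Module.End.mul_apply, ← h,
      ← Module.End.mul_apply (ρC q) (ρC q⁻¹), ← map_mul, mul_inv_cancel, map_one, Module.End.one_apply]
  let F : G ⧸ H → (C →ₗ[k] B) := Quotient.lift T (fun a b hab => by
    have h : a⁻¹ * b ∈ H := QuotientGroup.leftRel_apply.mp hab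
    rw [← hT a _ h, mul_inv_cancel_left])
  have hidx : (Fintype.card (G ⧸ H) : k) ≠ 0 := by
    rw [Ne, CharP.cast_eq_zero_iff k p, ← Nat.card_eq_fintype_card]
    exact P.not_dvd_index
  refine ⟨(Fintype.card (G ⧸ H) : k)⁻¹ • ∑ q, F q, ?_, fun y => ?_⟩
  · have e : ∀ q, g ∘ₗ F q = LinearMap.id := by
      intro q
      induction q using Quotient.inductionOn with
      | _ x =>
        apply LinearMap.ext
        intro c
        show g (ρB x (s (ρC x⁻¹ c))) = c
        have h1 := LinearMap.congr_fun (hg x) (s (ρC x⁻¹ c))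
        have h2 := LinearMap.congr_fun hs (ρC x⁻¹ c)
        simp only [LinearMap.comp_apply, LinearMap.id_apply] at h1 h2
        rw [h1, h2, ← Module.End.mul_apply, ← map_mul, mul_inv_cancel, map_one, Module.End.one_apply]
    apply LinearMap.ext
    intro c
    have e' : ∀ q, g (F q c) = c := fun q => LinearMap.congr_fun (e q) c
    simp only [LinearMap.comp_apply, LinearMap.smul_apply, LinearMap.sum_apply, map_smul, map_sum, e', Finset.sum_const,
      Finset.card_univ, ← Nat.cast_smul_eq_nsmul k, smul_smul, inv_mul_cancel₀ hidx, one_smul, LinearMap.id_apply]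
  · rw [LinearMap.smul_comp, LinearMap.comp_smul]
    congr 1
    apply LinearMap.ext
    intro c
    simp only [LinearMap.comp_apply, LinearMap.sum_apply, map_sum]
    refine Finset.sum_bij' (fun q _ => y⁻¹ • q) (fun q _ => y • q) (fun _ _ => Finset.mem_univ _) (fun _ _ => Finset.mem_univ _)
      (fun q _ => smul_inv_smul y q) (fun q _ => inv_smul_smul y q) fun q _ => ?_
    induction q using Quotient.inductionOn with
    | _ x =>
      show ρB x (s (ρC x⁻¹ (ρC y c))) = ρB y (ρB (y⁻¹ * x) (s (ρC (y⁻¹ * x)⁻¹ c)))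
      rw [← Module.End.mul_apply (ρB y), ← map_mul, mul_inv_cancel_left, mul_inv_rev, inv_inv, map_mul,
        Module.End.mul_apply]

end Groth.Agent.S13860
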