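import Groth.Statements.S13861
import Groth.Agent.L15.ASRank
import Mathlib.Tactic.Ring
import Mathlib.Tactic.LinearCombination
import Mathlib.Tactic.FieldSimp
import Mathlib.Algebra.BigOperators.Ring.Finset

set_option autoImplicit false
universe u
open ASCover

namespace Groth.Agent.S13861

/-- Let k be an algebraically closed field of characteristic p > 0 and n ≥ 1 an integer prime to p; let
u ∈ k[[t]] be the power series with constant term 1 and u^n · (1 + t^n) = 1, so that t ↦ t·u = t(1 +
t^n)^(-1/n) defines a k-automorphism σ of k((t)) of order p (the action at a totally ramified point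
of a ℤ/p-cover of curves with break n). For an integer a, the fractional ideal t^a·k[[t]] is stable
under σ; transported to B = k[[t]] along h ↦ t^a·h the action of σ reads h ↦ u^a · h(t·u). For a
group G of order p generated by g acting on B through this map, the first group cohomology H^1(G, B)
is finite-dimensional over k, of dimension n − ⌊(a−1)/p⌋ + ⌊(a−1−n)/p⌋. (The published lemma also
identifies this H^1 with the cokernel of k((t))^G → (k((t))/t^a k[[t]])^G and names explicit
representatives t^i, a − n ≤ i ≤ a − 1 with p ∤ i, of a basis; those parts are not restated here.) -/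
theorem result {k : Type u} [Field k] [IsAlgClosed k] (p : ℕ)
    [Fact p.Prime] [CharP k p] (n : ℕ) (hn : 0 < n) (hpn : ¬ p ∣ n)
    (u : PowerSeries k) (hu1 : PowerSeries.constantCoeff u = 1)
    (hun : u ^ n * (1 + PowerSeries.X ^ n) = 1) (hu : IsUnit u) (a : ℤ)
    {G : Type u} [Group G] [Finite G] (g : G) (hG : Nat.card G = p)
    (hg : ∀ x : G, x ∈ Subgroup.zpowers g)
    (ρ : Representation k G (PowerSeries k))
    (hρ : ∀ h : PowerSeries k, ρ g h =
      ((hu.unit ^ a : (PowerSeries k)ˣ) : PowerSeries k) * PowerSeries.subst (PowerSeries.X * u) h) :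
    Module.Finite k (groupCohomology.H1 (Rep.of ρ)) ∧
      (Module.finrank k (groupCohomology.H1 (Rep.of ρ)) : ℤ) =
        n - (a - 1) / (p : ℤ) + (a - 1 - n) / (p : ℤ) := by
  exact Groth.L15.AS.finrank_H1 hu (fun h => hpn ((CharP.cast_eq_zero_iff k p n).1 h)) hu1 hun hG hg a ρ
    (LinearMap.ext fun h => (hρ h).trans (Groth.L15.AS.tw_apply hu a h).symm)

end Groth.Agent.S13861
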