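import Groth.Statements.S13864
import Groth.Agent.L15.ASBase
import Mathlib.Tactic.Ring
import Mathlib.Tactic.LinearCombination
import Mathlib.Tactic.FieldSimp
import Mathlib.Algebra.BigOperators.Ring.Finset

set_option autoImplicit false
universe u
open ASCover

namespace Groth.Agent.S13864

/-- Let k be an algebraically closed field of characteristic p > 0, n ≥ 1 an integer prime to p, u ∈
k[[t]] the power series with constant term 1 and u^n · (1 + t^n) = 1 (so σ(t) = t·u is a
k-automorphism of k((t)) of order p), and a an integer; σ acts on I = t^a·k[[t]], and transported to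
B = k[[t]] along h ↦ t^a·h the action is h ↦ u^a · h(t·u). For 1 ≤ m ≤ n let c_m ∈ B be determined
by t^m · c_m = u^(a−m) − 1; this is the cocycle value σ(t^i) − t^i ∈ I of the element t^i, i = a −
m, divided by t^a. The published lemma says that the classes of the t^i with a − n ≤ i ≤ a − 1 and p
∤ i form a basis of H^1(⟨σ⟩, I); this row states their linear independence: if Σ λ_m c_m, summed
over 1 ≤ m ≤ n with p ∤ a − m, equals u^a · h(t·u) − h for some h ∈ B, then every such λ_m is 0.
(Together with the dimension of this H^1, namely n − ⌊(a−1)/p⌋ + ⌊(a−1−n)/p⌋, this gives the basis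
statement.) -/
theorem result {k : Type u} [Field k] [IsAlgClosed k] (p : ℕ)
    [Fact p.Prime] [CharP k p] (n : ℕ) (hn : 0 < n) (hpn : ¬ p ∣ n)
    (u : PowerSeries k) (hu1 : PowerSeries.constantCoeff u = 1)
    (hun : u ^ n * (1 + PowerSeries.X ^ n) = 1) (hu : IsUnit u) (a : ℤ)
    (c : ℕ → PowerSeries k)
    (hc : ∀ m : ℕ, 1 ≤ m → m ≤ n →
      PowerSeries.X ^ m * c m = ((hu.unit ^ (a - m) : (PowerSeries k)ˣ) : PowerSeries k) - 1)
    (coef : ℕ → k) (h : PowerSeries k)
    (hh : ((hu.unit ^ a : (PowerSeries k)ˣ) : PowerSeries k) * PowerSeries.subst (PowerSeries.X * u) h - h =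
      ∑ m ∈ (Finset.Icc 1 n).filter (fun m : ℕ => ¬ (p : ℤ) ∣ a - (m : ℤ)), coef m • c m) :
    ∀ m ∈ (Finset.Icc 1 n).filter (fun m : ℕ => ¬ (p : ℤ) ∣ a - (m : ℤ)), coef m = 0 := by
  exact Groth.L15.AS.coeff_eq_zero (Groth.L15.AS.natCast_ne_zero p hpn) hu1 hun p hu a c hc coef h hh

end Groth.Agent.S13864
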