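import Groth.Statements.S13867
import Groth.Agent.L19.DescAppBij
import Groth.Agent.L19.QuotientMap
import Groth.Agent.L25.DescHom
import Groth.Agent.S0086
import Groth.Agent.L25.Actions
import Groth.Agent.L20.DescLocus.AppIsoH0

set_option autoImplicit false
set_option backward.isDefEq.respectTransparency.types false
set_option backward.isDefEq.respectTransparency false
set_option linter.style.haveILetI false
universe u
open CategoryTheory MonoidalCategory CartesianMonoidalCategory MonObj GrpObj AlgebraicGeometry
open ParSch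

open Groth.L19.QuotientMap (comp_whisker_mul)

namespace Groth.Agent.S13867

/-- Let k be an algebraically closed field, G a group scheme of finite type over k and H ⊆ H' closed
subgroup schemes of G. Let q : G → X and q' : G → X' be the quotients of G by H and by H' (fppf
quotients represented by schemes), f : X → X' the morphism with q ≫ f = q', and r : H' → Y the
quotient of H' by H. Then f is a contraction (proper, and O_{X'}(U) → O_X(f⁻¹ U) is an isomorphism
for every open U of X') if and only if Y is proper over k and the global functions of Y reduce to k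
(the map k → Γ(Y, O_Y) is an isomorphism). -/
theorem result
    (k : Type u) [Field k] [IsAlgClosed k]
    (G : Over (Spec (CommRingCat.of k))) [GrpObj G] [LocallyOfFiniteType G.hom] [QuasiCompact G.hom]
    (H H' : Over (Spec (CommRingCat.of k))) [GrpObj H] [GrpObj H']
    (iH : H ⟶ G) [IsMonHom iH] (hH : IsClosedImmersion iH.left)
    (iH' : H' ⟶ G) [IsMonHom iH'] (hH' : IsClosedImmersion iH'.left)
    (e : H ⟶ H') [IsMonHom e] (he : e ≫ iH' = iH)
    (X X' Y : Over (Spec (CommRingCat.of k))) (q : G ⟶ X) (hq : RedSub.IsQuotient iH q) (q' : G ⟶ X') (hq' : RedSub.IsQuotient iH' q')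
    (f : X ⟶ X') (hf : q ≫ f = q') (r : H' ⟶ Y) (hr : RedSub.IsQuotient e r) :
    (IsProper f.left ∧ ∀ U : X'.left.Opens, IsIso (f.left.app U)) ↔
      (IsProper Y.hom ∧ IsIso Y.hom.appTop) := by
  haveI : MorphismProperty.DescendsAlong @IsProper (@Surjective ⊓ @Flat ⊓ @QuasiCompact : MorphismProperty Scheme.{u}) :=
    Groth.Agent.S0086.result
  haveI : IsClosedImmersion iH'.left := hH'
  haveI : IsClosedImmersion iH.left := hH
  haveI : Mono iH' := Over.mono_of_mono_left iH'
  obtain ⟨hqs, hqf, hqp, hsq⟩ := hq
  obtain ⟨hqs', hqf', hqp', hsq'⟩ := hq'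
  obtain ⟨hrs, hrf, hrp, hsr⟩ := hr
  haveI := hqs; haveI := hqf; haveI := hqp
  haveI := hqs'; haveI := hqf'; haveI := hqp'
  haveI := hrs; haveI := hrf; haveI := hrp
  haveI : IsLocallyNoetherian G.left := LocallyOfFiniteType.isLocallyNoetherian G.hom
  haveI : CompactSpace G.left := QuasiCompact.compactSpace_of_compactSpace G.hom
  haveI : IsNoetherian G.left := {}
  haveI : TopologicalSpace.NoetherianSpace X.left :=
    TopologicalSpace.noetherianSpace_of_surjective q.left q.left.continuous q.left.surjective
  haveI : TopologicalSpace.NoetherianSpace X'.left :=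
    TopologicalSpace.noetherianSpace_of_surjective q'.left q'.left.continuous q'.left.surjective
  haveI : QuasiCompact q.left := quasiCompact_of_compactSpace q.left
  haveI : QuasiCompact q'.left := quasiCompact_of_compactSpace q'.left
  haveI : IsLocallyNoetherian H'.left := by
    haveI : LocallyOfFiniteType H'.hom := by rw [← Over.w iH']; infer_instance
    exact LocallyOfFiniteType.isLocallyNoetherian H'.hom
  haveI : CompactSpace H'.left := iH'.left.isClosedEmbedding.compactSpace
  haveI : IsNoetherian H'.left := {}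
  haveI : TopologicalSpace.NoetherianSpace Y.left :=
    TopologicalSpace.noetherianSpace_of_surjective r.left r.left.continuous r.left.surjective
  haveI : QuasiCompact r.left := quasiCompact_of_compactSpace r.left
  have hcq : Groth.L27.Torsor.Cov q := Groth.L25.DescHom.cov_of_flat q
  have hcr : Groth.L27.Torsor.Cov r := Groth.L25.DescHom.cov_of_flat r
  haveI : Flat G.hom := inferInstance
  haveI : Surjective G.hom := Groth.L25.Actions.surjective_grp G
  -- the two coverings of `G ×_{X'} X` and `G × Y`
  set sd := Limits.pullback.snd q' f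
  set fs := Limits.pullback.fst q' f
  let u : G ⊗ H' ⟶ Limits.pullback q' f := Limits.pullback.lift (fst G H') (((G ◁ iH') ≫ μ[G]) ≫ q)
    (by rw [Category.assoc, hf]; exact hsq'.w)
  have hu : Groth.L27.Torsor.Cov u := by
    have sq0 : IsPullback (((G ◁ iH') ≫ μ[G])) (fst G H') q' q' := hsq'.flip
    rw [← hf] at sq0
    have sq1 : IsPullback ((G ◁ iH') ≫ μ[G]) u q sd := by
      refine IsPullback.of_bot (v₂₁ := fs) ?_ (Limits.pullback.lift_snd _ _ _).symm
        (IsPullback.of_hasPullback q' f).flip
      rw [show u ≫ fs = fst G H' from Limits.pullback.lift_fst _ _ _]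
      rw [← hf]
      exact sq0
    exact Groth.L27.Torsor.Cov.of_isPullback sq1 hcq
  have hc₂ : Groth.L27.Torsor.Cov (G ◁ r) := Groth.L27.Torsor.Cov.whiskerLeft G hcr
  have hiff : ∀ (T : Over (Spec (CommRingCat.of k))) (m₁ m₂ : T ⟶ G ⊗ H'),
      m₁ ≫ u = m₂ ≫ u ↔ m₁ ≫ (G ◁ r) = m₂ ≫ (G ◁ r) := by
    intro T m₁ m₂
    constructor
    · intro h
      have h1 : m₁ ≫ fst G H' = m₂ ≫ fst G H' := by
        have := h =≫ fs
        simpa [u, fs, Limits.pullback.lift_fst] using this
      have h2 : (m₁ ≫ (G ◁ iH') ≫ μ[G]) ≫ q = (m₂ ≫ (G ◁ iH') ≫ μ[G]) ≫ q := by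
        have := h =≫ sd
        simpa [u, sd, Limits.pullback.lift_snd] using this
      obtain ⟨n, hn1, hn2⟩ := hsq.exists_lift _ _ h2
      rw [comp_whisker_mul, hn1, comp_whisker_mul, comp_whisker_mul, h1, _root_.mul_assoc, mul_left_cancel_iff,
        ← he, ← Category.assoc (snd G H), ← Category.assoc n, ← Category.assoc m₁, ← Category.assoc m₂,
        ← MonObj.mul_comp, cancel_mono] at hn2
      refine CartesianMonoidalCategory.hom_ext _ _ ?_ ?_
      · simp only [Category.assoc, whiskerLeft_fst, h1]
      · simp only [Category.assoc, whiskerLeft_snd]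
        have hw := lift (m₁ ≫ snd G H') (n ≫ snd G H) ≫= hsr.w
        rw [← Category.assoc, lift_fst, ← Category.assoc, comp_whisker_mul, lift_fst, lift_snd_assoc] at hw
        simp only [Category.assoc] at hw hn2
        rw [hw, ← Category.assoc m₂, ← hn2]
    · intro h
      have h1 : m₁ ≫ fst G H' = m₂ ≫ fst G H' := by
        have := h =≫ fst G Y
        simpa using this
      have h2 : (m₁ ≫ snd G H') ≫ r = (m₂ ≫ snd G H') ≫ r := by
        have := h =≫ snd G Y
        simpa using this
      obtain ⟨n, hn1, hn2⟩ := hsr.exists_lift _ _ h2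
      refine Limits.pullback.hom_ext ?_ ?_
      · simp only [u, Category.assoc, Limits.pullback.lift_fst, h1]
      · simp only [u, Category.assoc, Limits.pullback.lift_snd]
        have hA : m₂ ≫ (G ◁ iH') ≫ μ[G] =
            lift (m₁ ≫ (G ◁ iH') ≫ μ[G]) (n ≫ snd H' H) ≫ (G ◁ iH) ≫ μ[G] := by
          rw [comp_whisker_mul, comp_whisker_mul, comp_whisker_mul, lift_fst, lift_snd_assoc, h1,
            ← Category.assoc m₂ (snd G H') iH', ← hn2, comp_whisker_mul, hn1, ← he, MonObj.mul_comp,
            _root_.mul_assoc]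
          simp only [Category.assoc]
        have hw := lift (m₁ ≫ (G ◁ iH') ≫ μ[G]) (n ≫ snd H' H) ≫= hsq.w
        simp only [← Category.assoc, lift_fst] at hw
        simp only [Category.assoc] at hw hA
        rw [← Category.assoc m₂, ← Category.assoc (m₂ ≫ _)]
        simp only [Category.assoc]
        rw [reassoc_of% hA, hw]
  obtain ⟨φ, hφ⟩ := Groth.L27.Torsor.descend hu (G ◁ r) fun T a b h => (hiff T a b).1 h
  obtain ⟨ψ, hψ⟩ := Groth.L27.Torsor.descend hc₂ u fun T a b h => (hiff T a b).2 h
  haveI : IsIso ψ := ⟨φ, Groth.L27.Torsor.cancel hc₂ (by rw [← Category.assoc, hψ, hφ, Category.comp_id]),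
    Groth.L27.Torsor.cancel hu (by rw [← Category.assoc, hφ, hψ, Category.comp_id])⟩
  have hψf : ψ ≫ fs = fst G Y := Groth.L27.Torsor.cancel hc₂ (by
    rw [← Category.assoc, hψ, whiskerLeft_fst]; exact Limits.pullback.lift_fst _ _ _)
  have pbO : IsPullback (ψ ≫ sd) (fst G Y) f q' := by
    refine (IsPullback.of_hasPullback q' f).flip.of_iso' (asIso ψ) (Iso.refl _) (Iso.refl _) (Iso.refl _) ?_ ?_ ?_ ?_
    all_goals simp [fs, sd, hψf]
  have pb : IsPullback (ψ ≫ sd).left (fst G Y).left f.left q'.left := pbO.map (Over.forget _)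
  have pbY : IsPullback (snd G Y).left (fst G Y).left Y.hom G.hom := (Groth.L25.Actions.isPullback_snd G Y).flip
  have hprop : IsProper f.left ↔ IsProper Y.hom := by
    constructor
    · intro h
      haveI : IsProper (fst G Y).left := MorphismProperty.of_isPullback (P := @IsProper) pb h
      exact MorphismProperty.of_isPullback_of_descendsAlong (P := @IsProper)
        (Q := @Surjective ⊓ @Flat ⊓ @QuasiCompact) pbY.flip ⟨⟨‹_›, ‹_›⟩, ‹QuasiCompact G.hom›⟩ inferInstance
    · intro h
      haveI : IsProper (fst G Y).left := MorphismProperty.of_isPullback (P := @IsProper) pbY h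
      exact MorphismProperty.of_isPullback_of_descendsAlong (P := @IsProper)
        (Q := @Surjective ⊓ @Flat ⊓ @QuasiCompact) pb.flip ⟨⟨‹_›, ‹_›⟩, ‹QuasiCompact q'.left›⟩ inferInstance
  constructor
  · rintro ⟨hp, happ⟩
    haveI := hp
    haveI hY : IsProper Y.hom := hprop.1 hp
    refine ⟨hY, (ConcreteCategory.isIso_iff_bijective _).2 ?_⟩
    exact Groth.L19.DescAppBij.bijective_app_of_descent pbY (fun V => Groth.L02.Canon.DescInvertible.bijective_app_of_flat pb
      (fun U => (ConcreteCategory.isIso_iff_bijective _).1 (happ U)) V) ⊤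
  · rintro ⟨hp, happ⟩
    haveI := hp
    haveI hf : IsProper f.left := hprop.2 hp
    refine ⟨hf, fun U => (ConcreteCategory.isIso_iff_bijective _).2 ?_⟩
    have hY : ∀ V, Function.Bijective (Y.hom.app V) := fun V => (ConcreteCategory.isIso_iff_bijective _).1
      (Groth.L20.DescLocus.isIso_app_of_appTop Y.hom ((ConcreteCategory.isIso_iff_bijective _).1 happ) V)
    exact Groth.L19.DescAppBij.bijective_app_of_descent pb
      (fun V => Groth.L02.Canon.DescInvertible.bijective_app_of_flat pbY hY V) U

end Groth.Agent.S13867
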