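import Groth.Statements.S1387
import Groth.Agent.L20.VertLP.Alg
import Groth.Agent.L07.FibreDimSemi
import Groth.Agent.L07.EquidimQF
import Groth.Agent.L22.LocalDim

set_option autoImplicit false
universe u
open FlatMor

set_option backward.isDefEq.respectTransparency.types false
set_option linter.style.haveILetI false
set_option backward.isDefEq.respectTransparency false
namespace Groth.Agent.S1387
open AlgebraicGeometry CategoryTheory Limits Topology TopologicalSpace Groth.L22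

theorem map_genericPoint {X S : Scheme.{u}} (f : X ⟶ S) [IrreducibleSpace S] [IrreducibleSpace X] [IsDominant f] :
    f (genericPoint X) = genericPoint S := by
  refine ((genericPoint_spec X).image f.continuous).eq ?_
  show IsGenericPoint (genericPoint S) _
  rw [Set.image_univ, f.denseRange.closure_range]
  exact genericPoint_spec S

theorem exists_fibre_dim {X S : Scheme.{u}} (f : X ⟶ S) [IrreducibleSpace S] [IrreducibleSpace X] [IsDominant f]
    [LocallyOfFiniteType f] : ∃ n : ℕ, topologicalKrullDim ↥(f.fiber (genericPoint S)) = (n : WithBot ℕ∞) ∧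
      ∀ O : X.Opens, (O : Set X).Nonempty →
        topologicalKrullDim ↥((O : Set X) ∩ f ⁻¹' {genericPoint S}) = (n : WithBot ℕ∞) := by
  let η := genericPoint S
  obtain ⟨c, hc⟩ : genericPoint X ∈ Set.range (f.fiberι η) := by
    rw [f.range_fiberι]; exact map_genericPoint f
  haveI : IrreducibleSpace ↥(f.fiber η) := by
    refine irreducibleSpace_def _ |>.mpr ?_
    show IsIrreducible (Set.univ : Set ↥(f.fiber η))
    have h : closure ({c} : Set ↥(f.fiber η)) = Set.univ := by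
      rw [(f.fiberι η).isEmbedding.isInducing.closure_eq_preimage_closure_image, Set.image_singleton, hc,
        genericPoint_closure, Set.preimage_univ]
    rw [← h]
    exact isIrreducible_singleton.closure
  letI : (f.fiber η).Over (Spec (CommRingCat.of (S.residueField η))) := ⟨f.fiberToSpecResidueField η⟩
  haveI : LocallyOfFiniteType (f.fiber η ↘ Spec (CommRingCat.of (S.residueField η))) :=
    MorphismProperty.pullback_snd f (S.fromSpecResidueField η) ‹LocallyOfFiniteType f›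
  obtain ⟨n, hn, -, hU⟩ := Groth.L22.SchemeDim.exists_dim_eq_trdeg (S.residueField η) (X := f.fiber η)
  refine ⟨n, hn, fun O hO => ?_⟩
  have hξ : genericPoint X ∈ O := ((genericPoint_spec X).mem_open_set_iff O.2).2
    (by obtain ⟨y, hy⟩ := hO; exact ⟨y, trivial, hy⟩)
  have hne : ((f.fiberι η ⁻¹ᵁ O : (f.fiber η).Opens) : Set (f.fiber η)).Nonempty := ⟨c, by
    show f.fiberι η c ∈ O
    rw [hc]; exact hξ⟩
  rw [← hU _ hne]
  refine (Groth.L22.SchemeDim.topologicalKrullDim_eq_of_isEmbedding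
    (f := fun w : ↥(f.fiberι η ⁻¹ᵁ O) => f.fiberι η w.1)
    ((f.fiberι η).isEmbedding.comp IsEmbedding.subtypeVal) ?_)
  ext p
  constructor
  · rintro ⟨w, rfl⟩
    refine ⟨w.2, ?_⟩
    show f (f.fiberι η w.1) ∈ ({η} : Set S)
    exact Groth.L07.Equidim.apply_fiberι f η w.1
  · rintro ⟨hp1, hp2⟩
    obtain ⟨w, hw⟩ : p ∈ Set.range (f.fiberι η) := by rw [f.range_fiberι]; exact hp2
    refine ⟨⟨w, ?_⟩, hw⟩
    show f.fiberι η w ∈ O
    rw [hw]; exact hp1

theorem fromSpec_comp {X S : Scheme.{u}} (f : X ⟶ S) {V : S.Opens} (hV : IsAffineOpen V) {W : X.Opens}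
    (hW : IsAffineOpen W) (e : W ≤ f ⁻¹ᵁ V) (p : PrimeSpectrum Γ(X, W)) :
    letI := (f.appLE V W e).hom.toAlgebra
    hV.fromSpec (PrimeSpectrum.comap (algebraMap Γ(S, V) Γ(X, W)) p) = f (hW.fromSpec p) :=
  congrArg (fun g : Spec Γ(X, W) ⟶ S => g p) (IsAffineOpen.SpecMap_appLE_fromSpec f hV hW e)

theorem key {X S : Scheme.{u}} (f : X ⟶ S) [IrreducibleSpace S] [IrreducibleSpace X] [IsDominant f] [LocallyOfFiniteType f]
    (s : S) (hdim : topologicalKrullDim ↑(f.fiber s) ≤ topologicalKrullDim ↑(f.fiber (genericPoint ↑S)))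
    (Z : X.IdealSheafData) (hZ : ∀ x : X, ∃ (U : X.Opens) (hU : IsAffineOpen U) (g : Γ(X, U)), x ∈ U ∧ Z.ideal ⟨U, hU⟩ = Ideal.span {g})
    (hη : ∀ x ∈ (Z.support : Set ↑X), f x ≠ genericPoint ↑S) :
    ∀ x : ↑(f ⁻¹' {s}), (x : ↑X) ∈ (Z.support : Set ↑X) →
      ∃ C ∈ irreducibleComponents ↑(f ⁻¹' {s}), x ∈ C ∧ Subtype.val '' C ⊆ (Z.support : Set ↑X) := by
  classical
  rintro ⟨x, hx⟩ hxZ
  simp only [Set.mem_preimage, Set.mem_singleton_iff] at hx
  subst hx
  by_contra hcon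
  push_neg at hcon
  let F : Set X := f ⁻¹' {f x}
  let ZF : Set F := Subtype.val ⁻¹' (Z.support : Set X)
  obtain ⟨U, hU, g, hxU, hg⟩ := hZ x
  obtain ⟨V, hV, hyV, -⟩ := exists_isAffineOpen_mem_and_subset (Opens.mem_top (f x))
  obtain ⟨r₁, hr₁V, hxr₁⟩ := hU.exists_basicOpen_le (V := f ⁻¹ᵁ V ⊓ U) ⟨x, ⟨hyV, hxU⟩⟩ hxU
  let W₀ := X.basicOpen r₁
  have hW₀ : IsAffineOpen W₀ := hU.basicOpen r₁
  have e₀ : W₀ ≤ f ⁻¹ᵁ V := fun w hw => (hr₁V hw).1
  letI := (f.appLE V W₀ e₀).hom.toAlgebra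
  haveI : Algebra.FiniteType Γ(S, V) Γ(X, W₀) := f.finiteType_appLE hV hW₀ e₀
  -- remove the components of the affine fibre missing `x`
  let y : S := f x
  let R := (hV.primeIdealOf ⟨y, hyV⟩).asIdeal.Fiber Γ(X, W₀)
  let F₀ : Set X := (W₀ : Set X) ∩ f ⁻¹' {y}
  haveI : NoetherianSpace F₀ := by
    haveI : Algebra.FiniteType (hV.primeIdealOf ⟨y, hyV⟩).asIdeal.ResidueField R := inferInstance
    haveI : IsNoetherianRing R := Algebra.FiniteType.isNoetherianRing (hV.primeIdealOf ⟨y, hyV⟩).asIdeal.ResidueField R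
    haveI : NoetherianSpace ↑(PrimeSpectrum.comap (algebraMap Γ(S, V) Γ(X, W₀)) ⁻¹' {hV.primeIdealOf ⟨y, hyV⟩}) :=
      noetherianSpace_of_surjective _ (PrimeSpectrum.preimageHomeomorphFiber Γ(S, V) Γ(X, W₀) (hV.primeIdealOf ⟨y, hyV⟩)).symm.continuous (PrimeSpectrum.preimageHomeomorphFiber Γ(S, V) Γ(X, W₀) (hV.primeIdealOf ⟨y, hyV⟩)).symm.surjective
    let φ : ↑(PrimeSpectrum.comap (algebraMap Γ(S, V) Γ(X, W₀)) ⁻¹' {hV.primeIdealOf ⟨y, hyV⟩}) → F₀ := fun p =>
      ⟨hW₀.fromSpec p.1, LocalDim.fromSpec_mem hW₀ p.1, by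
        show f (hW₀.fromSpec p.1) = y
        rw [← fromSpec_comp f hV hW₀ e₀ p.1]
        exact (congrArg hV.fromSpec p.2).trans (hV.fromSpec_primeIdealOf ⟨y, hyV⟩)⟩
    have hφ : Continuous φ := Continuous.subtype_mk (hW₀.fromSpec.continuous.comp continuous_subtype_val) _
    refine noetherianSpace_of_surjective φ hφ fun w => ⟨⟨hW₀.primeIdealOf ⟨w.1, w.2.1⟩, ?_⟩, ?_⟩
    · show PrimeSpectrum.comap _ _ = _
      refine (IsAffineOpen.comap_primeIdealOf_appLE V hV W₀ hW₀ e₀ w.2.1).trans ?_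
      congr 1
      exact Subtype.ext w.2.2
    · exact Subtype.ext (hW₀.fromSpec_primeIdealOf ⟨w.1, w.2.1⟩)
  let x₀ : F₀ := ⟨x, hxr₁, rfl⟩
  let K : Set F₀ := ⋃₀ {C | C ∈ irreducibleComponents F₀ ∧ x₀ ∉ C}
  have hK : IsClosed K := by
    rw [show K = ⋃ C ∈ {C | C ∈ irreducibleComponents F₀ ∧ x₀ ∉ C}, C from Set.sUnion_eq_biUnion]
    exact (NoetherianSpace.finite_irreducibleComponents.subset fun C hC => hC.1).isClosed_biUnion
      fun C hC => isClosed_of_mem_irreducibleComponents C hC.1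
  let O : X.Opens := ⟨(closure (Subtype.val '' K))ᶜ, isClosed_closure.isOpen_compl⟩
  have hxO : x ∈ O := fun h => by
    have : x₀ ∈ closure K := by
      rw [IsInducing.subtypeVal.closure_eq_preimage_closure_image]; exact h
    rw [hK.closure_eq] at this
    obtain ⟨C, ⟨-, hC⟩, hxC⟩ := this
    exact hC hxC
  obtain ⟨r₂, hr₂, hxr₂⟩ := hW₀.exists_basicOpen_le (V := O) ⟨x, hxO⟩ hxr₁
  let W := X.basicOpen r₂
  have hW : IsAffineOpen W := hW₀.basicOpen r₂
  have hWW₀ : W ≤ W₀ := X.basicOpen_le r₂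
  let T : Set X := (W : Set X) ∩ f ⁻¹' {y}
  let ZT : Set T := Subtype.val ⁻¹' (Z.support : Set X)
  have hext : ∀ Y : Set T, IsIrreducible Y → IsClosed Y → Y ⊆ ZT →
      ∃ Y' : Set T, IsIrreducible Y' ∧ IsClosed Y' ∧ Y ⊆ Y' ∧ ¬ Y' ⊆ ZT := by
    intro Y hY _ hYZ
    let j : T → F₀ := fun t => ⟨t.1, hWW₀ t.2.1, t.2.2⟩
    have hj : IsOpenEmbedding j := by
      refine ⟨IsEmbedding.inclusion (s := T) (t := F₀) (fun w hw => ⟨hWW₀ hw.1, hw.2⟩), ?_⟩
      have : Set.range j = Subtype.val ⁻¹' (W : Set X) := by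
        ext w; exact ⟨fun ⟨t, ht⟩ => ht ▸ t.2.1, fun h => ⟨⟨w.1, h, w.2.2⟩, rfl⟩⟩
      rw [this]; exact W.2.preimage continuous_subtype_val
    obtain ⟨C, hC, hsub⟩ := exists_mem_irreducibleComponents_subset_of_isIrreducible _ (hY.image j hj.continuous.continuousOn)
    obtain ⟨t, ht⟩ := hY.nonempty
    have hxC : x₀ ∈ C := by
      by_contra h
      exact hr₂ t.2.1 (subset_closure ⟨j t, ⟨C, ⟨hC, h⟩, hsub ⟨t, ht, rfl⟩⟩, rfl⟩)
    refine ⟨j ⁻¹' C, ⟨⟨⟨x, hxr₂, rfl⟩, hxC⟩, hC.1.2.preimage hj⟩,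
      (isClosed_of_mem_irreducibleComponents C hC).preimage hj.continuous, Set.image_subset_iff.mp hsub, fun hle => ?_⟩
    -- the component of the whole fibre through `C`
    have hCZ : Subtype.val '' C ⊆ (Z.support : Set X) := by
      have h1 : C ⊆ closure (C ∩ Set.range j) :=
        subset_closure_inter_of_isPreirreducible_of_isOpen hC.1.2 hj.isOpen_range ⟨x₀, hxC, ⟨⟨x, hxr₂, rfl⟩, rfl⟩⟩
      have h2 : closure (C ∩ Set.range j) ⊆ Subtype.val ⁻¹' (Z.support : Set X) := by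
        refine closure_minimal ?_ (Z.support.isClosed.preimage continuous_subtype_val)
        rintro _ ⟨hw, ⟨w, rfl⟩⟩
        exact hle hw
      exact Set.image_subset_iff.mpr (h1.trans h2)
    let k : F₀ → F := fun w => ⟨w.1, w.2.2⟩
    have hk : IsOpenEmbedding k := by
      refine ⟨IsEmbedding.inclusion (s := F₀) (t := F) (fun w hw => hw.2), ?_⟩
      have : Set.range k = Subtype.val ⁻¹' (W₀ : Set X) := by
        ext w; exact ⟨fun ⟨t, ht⟩ => ht ▸ t.2.1, fun h => ⟨⟨w.1, h, w.2⟩, rfl⟩⟩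
      rw [this]; exact W₀.2.preimage continuous_subtype_val
    obtain ⟨D, hD, hsubD⟩ := exists_mem_irreducibleComponents_subset_of_isIrreducible _ (hC.1.image k hk.continuous.continuousOn)
    refine hcon D hD (hsubD ⟨x₀, hxC, rfl⟩) ?_
    have hCmax : k ⁻¹' D = C := (hC.eq_of_subset ⟨⟨x₀, hsubD ⟨x₀, hxC, rfl⟩⟩, hD.1.2.preimage hk⟩ (Set.image_subset_iff.mp hsubD)).symm
    have h3 : D ⊆ closure (D ∩ Set.range k) :=
      subset_closure_inter_of_isPreirreducible_of_isOpen hD.1.2 hk.isOpen_range ⟨k x₀, hsubD ⟨x₀, hxC, rfl⟩, ⟨x₀, rfl⟩⟩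
    refine Set.image_subset_iff.mpr (h3.trans (closure_minimal ?_ (Z.support.isClosed.preimage continuous_subtype_val)))
    rintro _ ⟨hw, ⟨w, rfl⟩⟩
    exact hCZ ⟨w, hCmax.subset hw, rfl⟩
  obtain ⟨n, hn, hnO⟩ := exists_fibre_dim f
  have hT : topologicalKrullDim T ≤ (n : WithBot ℕ∞) := by
    rw [← hn]
    refine le_trans (Groth.L22.SchemeDim.topologicalKrullDim_mono Set.inter_subset_right) (le_trans (le_of_eq ?_) hdim)
    exact Groth.L22.SchemeDim.topologicalKrullDim_eq_of_isEmbedding (f.fiberι y).isEmbedding (f.range_fiberι y)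
  obtain ⟨m, rfl⟩ : ∃ m, n = m + 1 := by
    refine Nat.exists_eq_succ_of_ne_zero fun h0 => ?_
    subst h0
    have h2 : topologicalKrullDim T ≤ 0 := by simpa using hT
    obtain ⟨Y', hY'i, hY'c, hsub, hnot⟩ := hext (closure {(⟨x, hxr₂, rfl⟩ : T)}) isIrreducible_singleton.closure isClosed_closure
      (closure_minimal (Set.singleton_subset_iff.mpr hxZ) (Z.support.isClosed.preimage continuous_subtype_val))
    let a : IrreducibleCloseds T := ⟨_, (isIrreducible_singleton (x := (⟨x, hxr₂, rfl⟩ : T))).closure, isClosed_closure⟩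
    let b : IrreducibleCloseds T := ⟨Y', hY'i, hY'c⟩
    have hab : a < b := lt_of_le_of_ne hsub fun he => hnot ((congrArg (fun c : IrreducibleCloseds T => (c : Set T)) he).symm.subset.trans
      (closure_minimal (Set.singleton_subset_iff.mpr hxZ) (Z.support.isClosed.preimage continuous_subtype_val)))
    have := (Order.LTSeries.length_le_krullDim ((RelSeries.singleton _ a).snoc b hab)).trans h2
    simp at this
    exact absurd this (not_le.mpr zero_lt_one)
  have hzT := Groth.L20.VertLP.dim_add_one_le ZT (Z.support.isClosed.preimage continuous_subtype_val) hext m hT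
  have eW : W ≤ f ⁻¹ᵁ V := hWW₀.trans e₀
  letI := (f.appLE V W eW).hom.toAlgebra
  haveI : Algebra.FiniteType Γ(S, V) Γ(X, W) := f.finiteType_appLE hV hW eW
  have hWU : W ≤ U := fun w hw => (hr₁V (hWW₀ hw)).2
  let gW : Γ(X, W) := (X.presheaf.map (homOfLE hWU).op).hom g
  have hsupp : ∀ w, w ∈ W → (w ∈ (Z.support : Set X) ↔ w ∉ X.basicOpen gW) := by
    intro w hw
    have h1 := Z.coe_support_inter ⟨U, hU⟩
    have h2 : w ∈ (Z.support : Set X) ↔ w ∈ X.zeroLocus (Z.ideal ⟨U, hU⟩ : Set Γ(X, U)) := by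
      constructor
      · exact fun h => ((Set.ext_iff.mp h1 w).mp ⟨h, hWU hw⟩).1
      · exact fun h => ((Set.ext_iff.mp h1 w).mpr ⟨h, hWU hw⟩).1
    rw [h2, hg, Scheme.zeroLocus_span, Scheme.mem_zeroLocus_iff, show X.basicOpen gW = W ⊓ X.basicOpen g from X.basicOpen_res g _]
    constructor
    · exact fun h hc => h g rfl hc.2
    · rintro h _ rfl hc; exact h ⟨hw, hc⟩
  have hf : ∀ p : PrimeSpectrum Γ(X, W), hV.fromSpec (PrimeSpectrum.comap (algebraMap Γ(S, V) Γ(X, W)) p) = f (hW.fromSpec p) :=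
    fun p => fromSpec_comp f hV hW eW p
  have hmem : ∀ p : PrimeSpectrum Γ(X, W), gW ∈ p.asIdeal ↔ hW.fromSpec p ∈ (Z.support : Set X) := fun p => by
    rw [hsupp _ (LocalDim.fromSpec_mem hW p)]
    show gW ∈ p.asIdeal ↔ p ∉ hW.fromSpec ⁻¹ᵁ X.basicOpen gW
    rw [hW.fromSpec_preimage_basicOpen]
    exact not_not.symm
  have hξW : genericPoint X ∈ W := ((genericPoint_spec X).mem_open_set_iff W.2).2 ⟨x, trivial, hxr₂⟩
  let P0 := hW.primeIdealOf ⟨genericPoint X, hξW⟩
  let q := hW.primeIdealOf ⟨x, hxr₂⟩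
  haveI := P0.2
  haveI := q.2
  have hP0 : ∀ p : Ideal Γ(X, W), p.IsPrime → P0.asIdeal ≤ p := fun p hp => by
    refine (PrimeSpectrum.le_iff_specializes P0 ⟨p, hp⟩).mpr (hW.fromSpec.isOpenEmbedding.isInducing.specializes_iff.mp ?_)
    rw [hW.fromSpec_primeIdealOf]
    exact (genericPoint_spec X).specializes trivial
  have hη' : ∀ r, r ∉ P0.asIdeal → ((m + 1 : ℕ) : WithBot ℕ∞) ≤ topologicalKrullDim {p : PrimeSpectrum Γ(X, W) |
      r ∉ p.asIdeal ∧ p.asIdeal.comap (algebraMap Γ(S, V) Γ(X, W)) = P0.asIdeal.comap (algebraMap Γ(S, V) Γ(X, W))} := by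
    intro r hr
    have hrne : (X.basicOpen r : Set X).Nonempty := ⟨genericPoint X, by
      have h : P0 ∈ hW.fromSpec ⁻¹ᵁ X.basicOpen r := by rw [hW.fromSpec_preimage_basicOpen]; exact hr
      exact (congrArg (fun z => z ∈ X.basicOpen r) (hW.fromSpec_primeIdealOf ⟨genericPoint X, hξW⟩)).mp h⟩
    rw [← hnO (X.basicOpen r) hrne]
    refine le_of_eq (Groth.L22.SchemeDim.topologicalKrullDim_eq_of_isEmbedding
      (f := fun p : {p : PrimeSpectrum Γ(X, W) | r ∉ p.asIdeal ∧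
        p.asIdeal.comap (algebraMap Γ(S, V) Γ(X, W)) = P0.asIdeal.comap (algebraMap Γ(S, V) Γ(X, W))} => hW.fromSpec p.1)
      (hW.fromSpec.isOpenEmbedding.isEmbedding.comp IsEmbedding.subtypeVal) ?_)
    ext w
    constructor
    · rintro ⟨⟨p, hp1, hp2⟩, rfl⟩
      refine ⟨?_, ?_⟩
      · show p ∈ hW.fromSpec ⁻¹ᵁ X.basicOpen r
        rw [hW.fromSpec_preimage_basicOpen]; exact hp1
      · show f (hW.fromSpec p) ∈ ({genericPoint S} : Set S)
        rw [← hf, show PrimeSpectrum.comap (algebraMap Γ(S, V) Γ(X, W)) p = PrimeSpectrum.comap _ P0 from PrimeSpectrum.ext hp2,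
          hf, hW.fromSpec_primeIdealOf]
        exact map_genericPoint f
    · rintro ⟨hw1, hw2⟩
      have hwW : w ∈ W := X.basicOpen_le r hw1
      refine ⟨⟨hW.primeIdealOf ⟨w, hwW⟩, ?_, ?_⟩, hW.fromSpec_primeIdealOf ⟨w, hwW⟩⟩
      · show hW.primeIdealOf ⟨w, hwW⟩ ∈ PrimeSpectrum.basicOpen r
        rw [← hW.fromSpec_preimage_basicOpen]
        show hW.fromSpec _ ∈ X.basicOpen r
        rw [hW.fromSpec_primeIdealOf]; exact hw1
      · refine congrArg PrimeSpectrum.asIdeal (hV.fromSpec.isOpenEmbedding.injective ?_ :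
          PrimeSpectrum.comap (algebraMap Γ(S, V) Γ(X, W)) (hW.primeIdealOf ⟨w, hwW⟩) = PrimeSpectrum.comap _ P0)
        rw [hf, hf, hW.fromSpec_primeIdealOf, hW.fromSpec_primeIdealOf, map_genericPoint f]
        exact hw2
  have hs' : topologicalKrullDim {p : PrimeSpectrum Γ(X, W) | gW ∈ p.asIdeal ∧
      p.asIdeal.comap (algebraMap Γ(S, V) Γ(X, W)) = q.asIdeal.comap (algebraMap Γ(S, V) Γ(X, W))} ≤ (m : WithBot ℕ∞) := by
    refine le_trans ?_ hzT
    let Sp := {p : PrimeSpectrum Γ(X, W) | gW ∈ p.asIdeal ∧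
      p.asIdeal.comap (algebraMap Γ(S, V) Γ(X, W)) = q.asIdeal.comap (algebraMap Γ(S, V) Γ(X, W))}
    let φ : Sp → ZT := fun p => ⟨⟨hW.fromSpec p.1, LocalDim.fromSpec_mem hW p.1, by
        show f (hW.fromSpec p.1) = y
        rw [← hf, show PrimeSpectrum.comap (algebraMap Γ(S, V) Γ(X, W)) p.1 = PrimeSpectrum.comap _ q from PrimeSpectrum.ext p.2.2,
          hf, hW.fromSpec_primeIdealOf]⟩, (hmem p.1).mp p.2.1⟩
    have hc : Continuous φ := ((hW.fromSpec.continuous.comp continuous_subtype_val).subtype_mk _).subtype_mk _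
    refine IsInducing.topologicalKrullDim_le (f := φ) (IsInducing.of_comp hc
      (continuous_subtype_val.comp continuous_subtype_val) ?_)
    exact hW.fromSpec.isOpenEmbedding.isInducing.comp IsInducing.subtypeVal
  have hgq : gW ∈ q.asIdeal := by rw [hmem, hW.fromSpec_primeIdealOf]; exact hxZ
  obtain ⟨w, hwp, -, hw0, hgw⟩ := Groth.L20.VertLP.exists_prime_mem (A := Γ(S, V)) gW q.asIdeal P0.asIdeal hP0 hgq m hs' hη'
  refine hη (hW.fromSpec ⟨w, hwp⟩) ((hmem ⟨w, hwp⟩).mp hgw) ?_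
  rw [← hf, show PrimeSpectrum.comap (algebraMap Γ(S, V) Γ(X, W)) ⟨w, hwp⟩ = PrimeSpectrum.comap _ P0 from PrimeSpectrum.ext hw0,
    hf, hW.fromSpec_primeIdealOf]
  exact map_genericPoint f
end Groth.Agent.S1387
namespace Groth.Agent.S1387

open AlgebraicGeometry CategoryTheory Limits in
/-- Let f : X → S be dominant and locally of finite type with X and S irreducible, let η be the generic
point of S and s a point with dim X_s ≤ dim X_η, and let Z be a locally principal closed subscheme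
of X (its ideal sheaf is generated by one section on an affine neighbourhood of each point) whose
generic fibre is empty. Then, set-theoretically, the fibre of Z over s is a union of irreducible
components of the fibre of X over s. -/
theorem result {X S : Scheme.{u}} (f : X ⟶ S) [IrreducibleSpace ↑S] [IrreducibleSpace ↑X] [IsDominant f] [LocallyOfFiniteType f]
    (s : S) (hdim : topologicalKrullDim ↑(f.fiber s) ≤ topologicalKrullDim ↑(f.fiber (genericPoint ↑S)))
    (Z : X.IdealSheafData) (hZ : ∀ x : X, ∃ (U : X.Opens) (hU : IsAffineOpen U) (g : Γ(X, U)), x ∈ U ∧ Z.ideal ⟨U, hU⟩ = Ideal.span {g})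
    (hη : ∀ x ∈ (Z.support : Set ↑X), f x ≠ genericPoint ↑S) :
    ∀ x : ↑(f ⁻¹' {s}), (x : ↑X) ∈ (Z.support : Set ↑X) →
      ∃ C ∈ irreducibleComponents ↑(f ⁻¹' {s}), x ∈ C ∧ Subtype.val '' C ⊆ (Z.support : Set ↑X) := by
  exact key f s hdim Z hZ hη

end Groth.Agent.S1387
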