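import Groth.Statements.S13875
import Groth.Agent.L22.Gamma.Alg
import Groth.Agent.L22.Gamma.Norm
import Mathlib.RingTheory.Polynomial.IsIntegral
import Mathlib.LinearAlgebra.Matrix.Charpoly.Eigs
import Mathlib.FieldTheory.IsAlgClosed.Spectrum
import Mathlib.FieldTheory.IsAlgClosed.AlgebraicClosure
import Mathlib.LinearAlgebra.FreeModule.Finite.Basic
import Mathlib.LinearAlgebra.Matrix.Charpoly.LinearMap
import Mathlib.RingTheory.IntegralClosure.Algebra.Basic
import Mathlib.RingTheory.TensorProduct.Free
import Mathlib.RingTheory.Finiteness.Small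

set_option autoImplicit false
universe u
open scoped TensorProduct
open ZeroCyc
open Groth.L22.Gamma

namespace Groth.Agent.S13875

section DetLaw

variable {A K B : Type u} [CommRing A] [CommRing K] [Algebra A K] [CommRing B] [Algebra A B]
  {d : ℕ} (ρ : B →ₐ[A] Matrix (Fin d) (Fin d) K)

/-- the matrix of an element of `S ⊗ B` -/
noncomputable def Phi (S : Type u) [CommSemiring S] [Algebra A S] :
    S ⊗[A] B →ₐ[A] Matrix (Fin d) (Fin d) (K ⊗[A] S) :=
  Algebra.TensorProduct.lift
    ((IsScalarTower.toAlgHom A (K ⊗[A] S) (Matrix (Fin d) (Fin d) (K ⊗[A] S))).comp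
      Algebra.TensorProduct.includeRight)
    ((Algebra.TensorProduct.includeLeft : K →ₐ[A] K ⊗[A] S).mapMatrix.comp ρ)
    (fun s b => Algebra.commutes ((1 : K) ⊗ₜ[A] s) _)

theorem Phi_tmul (S : Type u) [CommSemiring S] [Algebra A S] (s : S) (b : B) :
    Phi ρ S (s ⊗ₜ[A] b) = ((1 : K) ⊗ₜ[A] s) • (ρ b).map (fun k => k ⊗ₜ[A] (1 : S)) := by
  rw [Phi, Algebra.TensorProduct.lift_tmul, Algebra.smul_def]
  rfl

/-- the determinant law -/
noncomputable def detK : PolLaw.MulLaw A B K d where
  law :=
  { toFun' := fun S _ _ x => Algebra.TensorProduct.comm A K S (Phi ρ S x).det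
    isCompat' := fun {S} _ _ {S'} _ _ φ => by
      funext x
      simp only [Function.comp_apply]
      let ψ : K ⊗[A] S →ₐ[A] K ⊗[A] S' := Algebra.TensorProduct.map (AlgHom.id A K) φ
      have h1 : Phi ρ S' (φ.toLinearMap.rTensor B x) = ψ.mapMatrix (Phi ρ S x) := by
        induction x using TensorProduct.induction_on with
        | zero => simp
        | tmul s b =>
          rw [LinearMap.rTensor_tmul, AlgHom.toLinearMap_apply, Phi_tmul, Phi_tmul]
          ext i j
          simp [ψ, Algebra.TensorProduct.tmul_mul_tmul]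
        | add x y hx hy => simp only [map_add, hx, hy]
      have h2 : ∀ z : K ⊗[A] S, φ.toLinearMap.rTensor K (Algebra.TensorProduct.comm A K S z) =
          Algebra.TensorProduct.comm A K S' (ψ z) := by
        intro z
        induction z using TensorProduct.induction_on with
        | zero => simp
        | tmul k s => simp [ψ]
        | add y z hy hz => simp only [map_add, hy, hz]
      rw [h1, ← AlgHom.map_det, h2] }
  homog S _ _ s x := by
    show Algebra.TensorProduct.comm A K S (Phi ρ S (s • x)).det =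
      s ^ d • Algebra.TensorProduct.comm A K S (Phi ρ S x).det
    have h : Phi ρ S (s • x) = ((1 : K) ⊗ₜ[A] s) • Phi ρ S x := by
      induction x using TensorProduct.induction_on with
      | zero => simp
      | tmul t b =>
        rw [TensorProduct.smul_tmul', Phi_tmul, Phi_tmul, smul_smul,
          Algebra.TensorProduct.tmul_mul_tmul, _root_.mul_one, smul_eq_mul]
      | add x y hx hy => simp only [smul_add, map_add, hx, hy]
    rw [h, Matrix.det_smul, Fintype.card_fin, map_mul, map_pow, Algebra.smul_def, map_pow,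
      Algebra.TensorProduct.comm_tmul, Algebra.TensorProduct.algebraMap_apply, Algebra.algebraMap_self_apply]
  mult S _ _ := by
    refine ⟨?_, fun x y => ?_⟩
    · show Algebra.TensorProduct.comm A K S (Phi ρ S 1).det = 1
      rw [map_one, Matrix.det_one, map_one]
    · show Algebra.TensorProduct.comm A K S (Phi ρ S (x * y)).det = _
      rw [map_mul, Matrix.det_mul, map_mul]

theorem detK_apply (S : Type u) [CommSemiring S] [Algebra A S] (x : S ⊗[A] B) :
    (detK ρ).law.toFun' S x = Algebra.TensorProduct.comm A K S (Phi ρ S x).det := rfl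

end DetLaw

section Integral

variable {A K B : Type u} [CommRing A] [IsDomain A] [IsIntegrallyClosed A] [Field K] [Algebra A K]
  [IsFractionRing A K] [CommRing B] [Algebra A B] [Algebra.IsIntegral A B] {d : ℕ}
  (ρ : B →ₐ[A] Matrix (Fin d) (Fin d) K)

attribute [local instance] MvPolynomial.algebraMvPolynomial in
theorem coef_mem_range {ι : Type u} (v : ι → B) (ν : ι →₀ ℕ) :
    coef (detK ρ).law v ν ∈ Set.range (algebraMap A K) := by
  classical
  let R0 := MvPolynomial ι A
  let R1 := MvPolynomial ι K
  let ψ : K ⊗[A] R0 →ₐ[A] R1 := Algebra.TensorProduct.productMap (IsScalarTower.toAlgHom A K R1)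
    (MvPolynomial.mapAlgHom (Algebra.ofId A K))
  have hψ : ∀ (k : K) (p : R0), ψ (k ⊗ₜ[A] p) = MvPolynomial.C k * MvPolynomial.map (algebraMap A K) p :=
    fun k p => by
      rw [show ψ = Algebra.TensorProduct.productMap (IsScalarTower.toAlgHom A K R1)
        (MvPolynomial.mapAlgHom (Algebra.ofId A K)) from rfl, Algebra.TensorProduct.productMap_apply_tmul]
      rfl
  have hcof : ∀ y : K ⊗[A] R0,
      cof ν (Algebra.TensorProduct.comm A K R0 y) = MvPolynomial.coeff ν (ψ y) := by
    intro y
    induction y using TensorProduct.induction_on with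
    | zero => simp
    | tmul k p =>
      rw [Algebra.TensorProduct.comm_tmul, cof_tmul, hψ, MvPolynomial.coeff_C_mul,
        MvPolynomial.coeff_map, Algebra.smul_def, _root_.mul_comm]
    | add y z hy hz =>
      rw [map_add, map_add, map_add, hy, hz]
      exact (MvPolynomial.coeff_add ν _ _).symm
  let z : R0 ⊗[A] B := ∑ i ∈ ν.support, (MvPolynomial.X i : R0) ⊗ₜ[A] v i
  have hc : coef (detK ρ).law v ν = MvPolynomial.coeff ν (ψ.mapMatrix (Phi ρ R0 z)).det := by
    rw [← AlgHom.map_det, ← hcof]
    rfl
  rw [hc]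
  set Y : Matrix (Fin d) (Fin d) R1 := ψ.mapMatrix (Phi ρ R0 z) with hY
  have hz : IsIntegral R0 z := by
    refine IsIntegral.sum _ fun i _ => ?_
    exact IsIntegral.tmul (MvPolynomial.X i : R0) (Algebra.IsIntegral.isIntegral (v i))
  obtain ⟨q, hqm, hq⟩ := hz
  let θ : R0 ⊗[A] B →ₐ[A] Matrix (Fin d) (Fin d) R1 := ψ.mapMatrix.comp (Phi ρ R0)
  let L := AlgebraicClosure (FractionRing R1)
  let ι' : R1 →+* L := (algebraMap (FractionRing R1) L).comp (algebraMap R1 (FractionRing R1))
  have hι : Function.Injective ι' :=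
    (algebraMap (FractionRing R1) L).injective.comp (IsFractionRing.injective R1 (FractionRing R1))
  letI : Algebra R0 L := (ι'.comp (MvPolynomial.map (algebraMap A K))).toAlgebra
  let Θ : R0 ⊗[A] B →+* Matrix (Fin d) (Fin d) L := ι'.mapMatrix.comp θ.toRingHom
  have hΘ : ∀ p : R0, Θ (p ⊗ₜ[A] 1) = algebraMap L (Matrix (Fin d) (Fin d) L) (algebraMap R0 L p) := by
    intro p
    show ι'.mapMatrix (θ (p ⊗ₜ[A] 1)) = _
    have hθ : θ (p ⊗ₜ[A] 1) = algebraMap R1 (Matrix (Fin d) (Fin d) R1)
        (MvPolynomial.map (algebraMap A K) p) := by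
      show ψ.mapMatrix (Phi ρ R0 _) = _
      rw [Phi_tmul, map_one, Algebra.algebraMap_eq_smul_one]
      ext i j
      by_cases h : i = j
      · subst h
        simp [Matrix.smul_apply, hψ]
      · simp [Matrix.smul_apply, Matrix.one_apply_ne h, hψ]
    rw [hθ]
    ext i j
    simp [Matrix.algebraMap_matrix_apply, apply_ite ι', RingHom.algebraMap_toAlgebra]
  have hroot : Polynomial.aeval (Θ z) (q.map (algebraMap R0 L)) = 0 := by
    have h0 := congrArg Θ hq
    rw [Polynomial.hom_eval₂, map_zero] at h0
    rw [← h0, Polynomial.aeval_def, Polynomial.eval₂_map]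
    congr 1
    exact RingHom.ext fun p => (hΘ p).symm
  have hμ : ∀ μ ∈ (Θ z).charpoly.roots, IsIntegral R0 μ := by
    intro μ hμ
    have hspec : μ ∈ spectrum L (Θ z) :=
      Matrix.mem_spectrum_iff_isRoot_charpoly.mpr (Polynomial.isRoot_of_mem_roots hμ)
    have := spectrum.subset_polynomial_aeval (Θ z) (q.map (algebraMap R0 L)) ⟨μ, hspec, rfl⟩
    rw [hroot] at this
    have h0 : Polynomial.eval μ (q.map (algebraMap R0 L)) = 0 := by
      by_contra hne
      rw [spectrum.mem_iff, sub_zero] at this
      exact this ((isUnit_iff_ne_zero.mpr hne).map _)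
    exact ⟨q, hqm, by rwa [Polynomial.eval_map] at h0⟩
  have hdet : IsIntegral R0 (ι' Y.det) := by
    have he : ι' Y.det = (Θ z).det := RingHom.map_det ι' Y
    rw [he, Matrix.det_eq_prod_roots_charpoly]
    exact Multiset.prod_induction (IsIntegral R0) _ (fun a b ha hb => ha.mul hb) isIntegral_one hμ
  have hint : IsIntegral R0 Y.det := by
    obtain ⟨p, hpm, hp⟩ := hdet
    refine ⟨p, hpm, hι ?_⟩
    rw [map_zero, Polynomial.hom_eval₂]
    exact hp
  exact IsIntegrallyClosed.isIntegral_iff.mp (MvPolynomial.isIntegral_iff_isIntegral_coeff.mp hint ν)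

end Integral

theorem Phi_natural {A K B B' : Type u} [CommRing A] [CommRing K] [Algebra A K] [CommRing B]
    [Algebra A B] [CommRing B'] [Algebra A B'] {d : ℕ} (ρ : B' →ₐ[A] Matrix (Fin d) (Fin d) K)
    (π : B →ₐ[A] B') :
    ((detK ρ).precomp π).law = (detK (ρ.comp π)).law := by
  ext S _ _ x
  show (detK ρ).law.toFun' S (π.toLinearMap.lTensor S x) = (detK (ρ.comp π)).law.toFun' S x
  rw [detK_apply, detK_apply]
  congr 2
  induction x using TensorProduct.induction_on with
  | zero => simp
  | tmul s b => rw [LinearMap.lTensor_tmul, Phi_tmul, Phi_tmul]; rfl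
  | add x y hx hy => simp only [map_add, hx, hy]

/-- a law whose coefficients lie in `A` comes from a law with values in `A` -/
theorem exists_lift {A K B : Type u} [CommRing A] [CommRing K] [Algebra A K] [CommRing B] [Algebra A B]
    (hinj : Function.Injective (algebraMap A K)) {d : ℕ} (G : PolLaw.MulLaw A B K d)
    (h : ∀ (ι : Type u) (v : ι → B) (ν : ι →₀ ℕ), coef G.law v ν ∈ Set.range (algebraMap A K)) :
    ∃ F : PolLaw.MulLaw A B A d, PolLaw.postcomp (Algebra.linearMap A K) F.law = G.law := by
  let π := presHom A B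
  let e := monBasis A B
  let θ := thetaHom e (G.precomp π)
  have hrange : ∀ z, θ z ∈ Set.range (algebraMap A K) := by
    intro z
    have hz : z ∈ Submodule.span A (Set.range fun ν => coef (tauFree d e).law e ν) := by
      rw [span_coef_tauFree]; trivial
    have hle : Submodule.span A (Set.range fun ν => coef (tauFree d e).law e ν) ≤
        (LinearMap.range (Algebra.linearMap A K)).comap θ.toLinearMap := by
      refine Submodule.span_le.mpr ?_
      rintro _ ⟨ν, rfl⟩
      show θ.toLinearMap (coef (tauFree d e).law e ν) ∈ LinearMap.range (Algebra.linearMap A K)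
      rw [← coef_postcomp, postcomp_thetaHom]
      show coef (PolLaw.precomp G.law π.toLinearMap) e ν ∈ _
      rw [coef_precomp]
      exact h _ _ ν
    exact hle hz
  let o : A →ₐ[A] K := Algebra.ofId A K
  have ho : Function.Injective o := hinj
  have hrange' : ∀ z, θ z ∈ o.range := hrange
  let g : SymTen.TS A (MvPolynomial B A) d →ₐ[A] A :=
    (AlgEquiv.ofInjective o ho).symm.toAlgHom.comp (θ.codRestrict o.range hrange')
  have hg : ∀ z, algebraMap A K (g z) = θ z := by
    intro z
    show ((AlgEquiv.ofInjective o ho) ((AlgEquiv.ofInjective o ho).symm ⟨θ z, hrange' z⟩) : K) = _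
    rw [AlgEquiv.apply_symm_apply]
  let F0 : PolLaw.MulLaw A (MvPolynomial B A) A d := (tauFree d e).postcomp g
  have hF0 : PolLaw.postcomp (Algebra.linearMap A K) F0.law = PolLaw.precomp G.law π.toLinearMap := by
    show PolLaw.postcomp (Algebra.linearMap A K) (PolLaw.postcomp g.toLinearMap (tauFree d e).law) = _
    rw [postcomp_postcomp]
    have : Algebra.linearMap A K ∘ₗ g.toLinearMap = θ.toLinearMap := LinearMap.ext hg
    rw [this, postcomp_thetaHom]
    rfl
  obtain ⟨F, hF⟩ := exists_descend F0 π presHom_surjective (by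
    rintro κ v ν ⟨i, hi, hv⟩
    apply hinj
    rw [map_zero]
    show Algebra.linearMap A K _ = 0
    rw [← coef_postcomp, hF0, coef_precomp]
    exact coef_eq_zero_of_apply_eq_zero _ _ hi hv)
  refine ⟨F, precomp_injective π.toLinearMap presHom_surjective ?_⟩
  rw [← hF0, ← hF]
  ext S _ _ x
  rfl

section Main

variable {A B M : Type u} [CommRing A] [IsDomain A] [CommRing B] [Algebra A B] [AddCommGroup M]
  [Module A M] [Module B M] [IsScalarTower A B M]
  {K : Type u} [Field K] [Algebra A K] {d : ℕ} (bK : Module.Basis (Fin d) K (K ⊗[A] M))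

/-- the matrix representation of `B` -/
noncomputable def rho : B →ₐ[A] Matrix (Fin d) (Fin d) K :=
  (((LinearMap.toMatrixAlgEquiv bK).toAlgHom.comp (PolLaw.actEnd M K)).restrictScalars A).comp
    Algebra.TensorProduct.includeRight

omit [IsDomain A] in
theorem rho_apply (b : B) :
    rho bK b = LinearMap.toMatrixAlgEquiv bK (PolLaw.actEnd M K ((1 : K) ⊗ₜ[A] b)) := rfl

omit [IsDomain A] in
theorem rho_eq_zero {b : B} (hb : ∀ m : M, b • m = 0) : rho bK b = 0 := by
  rw [rho_apply]
  have : PolLaw.actEnd M K ((1 : K) ⊗ₜ[A] b) = 0 := by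
    apply LinearMap.ext
    intro z
    induction z using TensorProduct.induction_on with
    | zero => simp
    | tmul s m => rw [PolLaw.actEnd_tmul_tmul, hb, TensorProduct.tmul_zero]; rfl
    | add x y hx hy => rw [map_add, map_add, hx, hy]
  rw [this, map_zero]

omit [IsDomain A] in
theorem det_actEnd_eq (L : Type u) [CommRing L] [Algebra A L] (κ : K →ₐ[A] L)
    (S : Type u) [CommRing S] [Algebra A S] (φ : S →ₐ[A] L) (x : S ⊗[A] B) :
    LinearMap.det (PolLaw.actEnd M L (Algebra.TensorProduct.map φ (AlgHom.id A B) x)) =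
      Algebra.TensorProduct.productMap κ φ (Phi (rho bK) S x).det := by
  classical
  letI : Algebra K L := κ.toRingHom.toAlgebra
  haveI : IsScalarTower A K L := IsScalarTower.of_algebraMap_eq fun a => (κ.commutes a).symm
  let cb : L ⊗[K] (K ⊗[A] M) ≃ₗ[L] L ⊗[A] M := TensorProduct.AlgebraTensorModule.cancelBaseChange A K L L M
  let bL : Module.Basis (Fin d) L (L ⊗[A] M) := (Algebra.TensorProduct.basis L bK).map cb
  have hcb : ∀ w : K ⊗[A] M, cb (1 ⊗ₜ[K] w) = κ.toLinearMap.rTensor M w := by
    intro w
    induction w using TensorProduct.induction_on with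
    | zero => simp
    | tmul k m =>
      rw [TensorProduct.AlgebraTensorModule.cancelBaseChange_tmul, LinearMap.rTensor_tmul,
        Algebra.smul_def, _root_.mul_one]
      rfl
    | add y z hy hz => rw [TensorProduct.tmul_add, map_add, map_add, hy, hz]
  have hrepr : ∀ (w : K ⊗[A] M) (i : Fin d), bL.repr (κ.toLinearMap.rTensor M w) i = κ (bK.repr w i) := by
    intro w i
    rw [← hcb, Module.Basis.map_repr, LinearEquiv.trans_apply, LinearEquiv.symm_apply_apply,
      Algebra.TensorProduct.basis_repr_tmul]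
    simp [RingHom.algebraMap_toAlgebra]
  rw [← LinearMap.det_toMatrix bL, AlgHom.map_det]
  congr 1
  induction x using TensorProduct.induction_on with
  | zero => simp
  | tmul s b =>
    ext i j
    rw [Algebra.TensorProduct.map_tmul, AlgHom.id_apply,
      show φ s ⊗ₜ[A] b = φ s • ((1 : L) ⊗ₜ[A] b) by rw [TensorProduct.smul_tmul', smul_eq_mul, _root_.mul_one],
      map_smul, map_smul, Matrix.smul_apply, LinearMap.toMatrix_apply]
    have hbl : bL j = κ.toLinearMap.rTensor M (bK j) := by
      rw [← hcb]
      simp [bL]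
    have h1 : ((1 : L) ⊗ₜ[A] b) = Algebra.TensorProduct.map κ (AlgHom.id A B) ((1 : K) ⊗ₜ[A] b) := by
      rw [Algebra.TensorProduct.map_tmul, map_one, AlgHom.id_apply]
    rw [hbl, h1, ← PolLaw.rTensor_actEnd M κ, hrepr, Phi_tmul]
    simp [rho_apply, LinearMap.toMatrixAlgEquiv_apply, Algebra.TensorProduct.productMap_apply_tmul,
      _root_.mul_comm]
  | add x y hx hy => simp only [map_add, hx, hy]

end Main

theorem result {A B M : Type u} [CommRing A] [IsDomain A] [IsIntegrallyClosed A]
    [CommRing B] [Algebra A B] [AddCommGroup M] [Module A M] [Module B M] [IsScalarTower A B M] [Module.Finite A M]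
    (d : ℕ) (hd : Module.finrank (FractionRing A) (FractionRing A ⊗[A] M) = d) :
    ∃! N : PolLaw.MulLaw A B A d, ∀ (n : ℕ) (x : MvPolynomial (Fin n) A ⊗[A] B),
      algebraMap (MvPolynomial (Fin n) A) (FractionRing (MvPolynomial (Fin n) A))
          (TensorProduct.rid A (MvPolynomial (Fin n) A) (N.law.toFun' (MvPolynomial (Fin n) A) x)) =
        LinearMap.det (PolLaw.actEnd M (FractionRing (MvPolynomial (Fin n) A))
          (Algebra.TensorProduct.map
            (IsScalarTower.toAlgHom A (MvPolynomial (Fin n) A) (FractionRing (MvPolynomial (Fin n) A)))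
            (AlgHom.id A B) x)) := by
  classical
  let K := FractionRing A
  let bK : Module.Basis (Fin d) K (K ⊗[A] M) := Module.finBasisOfFinrankEq K (K ⊗[A] M) hd
  let ρ : B →ₐ[A] Matrix (Fin d) (Fin d) K := rho bK
  -- the image of `B` is integral
  let J : Ideal B := RingHom.ker ρ.toRingHom
  have hint : Algebra.IsIntegral A (B ⧸ J) := by
    refine ⟨fun y => ?_⟩
    obtain ⟨b, rfl⟩ := Ideal.Quotient.mk_surjective y
    obtain ⟨p, hpm, hp⟩ :=
      LinearMap.exists_monic_and_aeval_eq_zero A (Algebra.lsmul A A M b)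
    refine ⟨p, hpm, ?_⟩
    rw [← Polynomial.aeval_def, ← Ideal.Quotient.mkₐ_eq_mk A, Polynomial.aeval_algHom_apply,
      Ideal.Quotient.mkₐ_eq_mk, Ideal.Quotient.eq_zero_iff_mem]
    refine rho_eq_zero bK fun m => ?_
    rw [Polynomial.aeval_algHom_apply] at hp
    exact LinearMap.congr_fun hp m
  haveI := hint
  let ρ' : (B ⧸ J) →ₐ[A] Matrix (Fin d) (Fin d) K := Ideal.Quotient.liftₐ J ρ (fun _ h => h)
  have hρ : ρ'.comp (Ideal.Quotient.mkₐ A J) = ρ := AlgHom.ext fun b => rfl
  obtain ⟨F, hF⟩ := exists_lift (IsFractionRing.injective A K) (detK ρ) (fun ι v ν => by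
    rw [← hρ, ← Phi_natural]
    show coef (PolLaw.precomp (detK ρ').law (Ideal.Quotient.mkₐ A J).toLinearMap) v ν ∈ _
    rw [coef_precomp]
    exact coef_mem_range ρ' _ ν)
  have hspec : ∀ (n : ℕ) (x : MvPolynomial (Fin n) A ⊗[A] B),
      algebraMap (MvPolynomial (Fin n) A) (FractionRing (MvPolynomial (Fin n) A))
          (TensorProduct.rid A (MvPolynomial (Fin n) A) (F.law.toFun' (MvPolynomial (Fin n) A) x)) =
        LinearMap.det (PolLaw.actEnd M (FractionRing (MvPolynomial (Fin n) A))
          (Algebra.TensorProduct.map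
            (IsScalarTower.toAlgHom A (MvPolynomial (Fin n) A) (FractionRing (MvPolynomial (Fin n) A)))
            (AlgHom.id A B) x)) := by
    intro n x
    let S := MvPolynomial (Fin n) A
    let L := FractionRing S
    let φ : S →ₐ[A] L := IsScalarTower.toAlgHom A S L
    have hinj : Function.Injective (Algebra.ofId A L) := by
      show Function.Injective (algebraMap A L)
      rw [IsScalarTower.algebraMap_eq A S L]
      exact (IsFractionRing.injective S L).comp (MvPolynomial.C_injective _ _)
    let κ : K →ₐ[A] L := IsFractionRing.liftAlgHom hinj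
    rw [det_actEnd_eq bK L κ S φ x]
    have h := congr_fun (congrArg (fun G : B →ₚₗ[A] K => G.toFun' S) hF) x
    change (Algebra.linearMap A K).lTensor S (F.law.toFun' S x) = _ at h
    rw [detK_apply] at h
    have key : ∀ y : S ⊗[A] A, φ (TensorProduct.rid A S y) = Algebra.TensorProduct.productMap κ φ
        ((Algebra.TensorProduct.comm A K S).symm ((Algebra.linearMap A K).lTensor S y)) := by
      intro y
      induction y using TensorProduct.induction_on with
      | zero => simp
      | tmul s a =>
        rw [LinearMap.lTensor_tmul, Algebra.linearMap_apply, TensorProduct.rid_tmul, map_smul]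
        simp [Algebra.smul_def, _root_.mul_comm]
      | add y z hy hz => simp only [map_add, hy, hz]
    refine (key _).trans ?_
    rw [h, AlgEquiv.symm_apply_apply]
  refine ⟨F, hspec, fun N hN => PolLaw.MulLaw.ext ?_⟩
  ext S _ _ x
  obtain ⟨n, s, b, rfl⟩ := TensorProduct.exists_sum_tmul_eq x
  let φ : MvPolynomial (Fin n) A →ₐ[A] S := MvPolynomial.aeval s
  have hx : ∑ i, s i ⊗ₜ[A] b i = φ.toLinearMap.rTensor B (∑ i, MvPolynomial.X i ⊗ₜ[A] b i) := by
    simp [map_sum, φ]
  rw [hx, ← PolynomialLaw.isCompat_apply', ← PolynomialLaw.isCompat_apply']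
  congr 1
  apply (TensorProduct.rid A (MvPolynomial (Fin n) A)).injective
  apply IsFractionRing.injective (MvPolynomial (Fin n) A) (FractionRing (MvPolynomial (Fin n) A))
  rw [hN, hspec]

end Groth.Agent.S13875
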