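import Groth.Statements.S13876
import Mathlib.LinearAlgebra.Matrix.SchurComplement
import Mathlib.RingTheory.Spectrum.Prime.FreeLocus
import Mathlib.RingTheory.LocalRing.Module
import Mathlib.RingTheory.LocalProperties.Basic

set_option autoImplicit false
universe u
open scoped TensorProduct
open ZeroCyc

namespace Groth.Agent.S13876

section

variable {A B M : Type u} [CommRing A] [CommRing B] [Algebra A B]
  [AddCommGroup M] [Module A M] [Module B M] [IsScalarTower A B M]
  {n : ℕ} (f : (Fin n → A) →ₗ[A] M) (g : M →ₗ[A] (Fin n → A))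

/-- the matrix of `g ∘ (b • ·) ∘ f` -/
noncomputable def T0 : B →ₗ[A] Matrix (Fin n) (Fin n) A :=
  (LinearMap.toMatrix' (R := A) (m := Fin n) (n := Fin n)).toLinearMap ∘ₗ
    (LinearMap.llcomp A (Fin n → A) M (Fin n → A) g) ∘ₗ
      (LinearMap.lcomp A M f) ∘ₗ (Algebra.lsmul A A M).toLinearMap

theorem T0_apply (b : B) :
    T0 f g b = LinearMap.toMatrix' (g ∘ₗ Algebra.lsmul A A M b ∘ₗ f) := rfl

theorem T0_mul (hfg : f ∘ₗ g = LinearMap.id) (a b : B) :
    T0 f g (a * b) = T0 f g a * T0 f g b := by
  have hfg' : ∀ m, f (g m) = m := fun m => LinearMap.congr_fun hfg m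
  simp only [T0_apply]
  rw [← LinearMap.toMatrix'_comp]
  congr 1
  ext v
  simp [hfg', mul_smul]

/-- the complementary idempotent -/
noncomputable def E' : Matrix (Fin n) (Fin n) A := 1 - T0 (B := B) f g 1

/-- base change of `T0` -/
noncomputable def TS (S : Type u) [CommSemiring S] [Algebra A S] :
    S ⊗[A] B →ₗ[A] Matrix (Fin n) (Fin n) S :=
  TensorProduct.lift (LinearMap.mk₂ A
    (fun (s : S) (b : B) => s • (T0 f g b).map (algebraMap A S))
    (fun s t b => add_smul s t _)
    (fun a s b => by rw [smul_assoc])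
    (fun s b c => by
      rw [map_add, Matrix.map_add _ (map_add (algebraMap A S)), smul_add])
    (fun a s b => by
      ext i j
      simp only [map_smul, Matrix.map_apply, Matrix.smul_apply, smul_eq_mul, map_mul]
      rw [Algebra.smul_def]
      ring))

@[simp] theorem TS_tmul (S : Type u) [CommSemiring S] [Algebra A S] (s : S) (b : B) :
    TS f g S (s ⊗ₜ[A] b) = s • (T0 f g b).map (algebraMap A S) := rfl

theorem TS_smul (S : Type u) [CommSemiring S] [Algebra A S] (r : S) (x : S ⊗[A] B) :
    TS f g S (r • x) = r • TS f g S x := by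
  induction x using TensorProduct.induction_on with
  | zero => simp
  | tmul s b => rw [TensorProduct.smul_tmul', TS_tmul, TS_tmul, smul_eq_mul, mul_smul]
  | add x y hx hy => simp only [smul_add, map_add, hx, hy]

theorem TS_mul (hfg : f ∘ₗ g = LinearMap.id) (S : Type u) [CommSemiring S] [Algebra A S]
    (x y : S ⊗[A] B) : TS f g S (x * y) = TS f g S x * TS f g S y := by
  induction x using TensorProduct.induction_on with
  | zero => simp
  | tmul s b =>
    induction y using TensorProduct.induction_on with
    | zero => simp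
    | tmul t c =>
      rw [Algebra.TensorProduct.tmul_mul_tmul, TS_tmul, TS_tmul, TS_tmul, T0_mul f g hfg,
        Matrix.map_mul, Matrix.smul_mul, Matrix.mul_smul, mul_smul]
    | add y z hy hz => simp only [mul_add, map_add, hy, hz]
  | add x z hx hz => simp only [add_mul, map_add, hx, hz]

/-- the matrix of `x` extended by the identity -/
noncomputable def mS (S : Type u) [CommSemiring S] [Algebra A S] (x : S ⊗[A] B) :
    Matrix (Fin n) (Fin n) S :=
  TS f g S x + (E' (B := B) f g).map (algebraMap A S)

theorem mS_map {S S' : Type u} [CommSemiring S] [Algebra A S] [CommSemiring S'] [Algebra A S']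
    (φ : S →ₐ[A] S') (x : S ⊗[A] B) :
    mS f g S' (Algebra.TensorProduct.map φ (AlgHom.id A B) x) = (mS f g S x).map φ := by
  have : TS f g S' (Algebra.TensorProduct.map φ (AlgHom.id A B) x) = (TS f g S x).map φ := by
    induction x using TensorProduct.induction_on with
    | zero => simp
    | tmul s b =>
      ext i j
      simp
    | add x y hx hy => simp only [map_add, hx, hy, Matrix.map_add _ (map_add φ)]
  ext i j
  simp [mS, this]

theorem mS_one (S : Type u) [CommSemiring S] [Algebra A S] :
    mS f g S (1 : S ⊗[A] B) = 1 := by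
  rw [mS, Algebra.TensorProduct.one_def, TS_tmul, one_smul, ← Matrix.map_add _ (map_add _)]
  rw [E', add_sub_cancel, Matrix.map_one _ (map_zero _) (map_one _)]

theorem mS_mul (hfg : f ∘ₗ g = LinearMap.id) (S : Type u) [CommSemiring S] [Algebra A S]
    (x y : S ⊗[A] B) : mS f g S (x * y) = mS f g S x * mS f g S y := by
  have h0 : T0 f g (1 : B) * T0 f g (1 : B) = T0 f g (1 : B) := by rw [← T0_mul f g hfg, _root_.one_mul]
  have h1 : ∀ b : B, T0 f g b * E' (B := B) f g = 0 := fun b => by
    rw [E', mul_sub, ← T0_mul f g hfg, _root_.mul_one, _root_.mul_one, sub_self]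
  have h2 : ∀ b : B, E' (B := B) f g * T0 f g b = 0 := fun b => by
    rw [E', sub_mul, ← T0_mul f g hfg, _root_.one_mul, _root_.one_mul, sub_self]
  have h3 : E' (B := B) f g * E' (B := B) f g = E' (B := B) f g := by
    rw [E', sub_mul, _root_.one_mul, mul_sub, _root_.mul_one, h0, sub_self, sub_zero]
  set e := (E' (B := B) f g).map (algebraMap A S) with he
  have h1' : ∀ z : S ⊗[A] B, TS f g S z * e = 0 := by
    intro z
    induction z using TensorProduct.induction_on with
    | zero => simp
    | tmul s b => rw [TS_tmul, Matrix.smul_mul, he, ← Matrix.map_mul, h1, Matrix.map_zero _ (map_zero _), smul_zero]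
    | add z w hz hw => rw [map_add, add_mul, hz, hw, add_zero]
  have h2' : ∀ z : S ⊗[A] B, e * TS f g S z = 0 := by
    intro z
    induction z using TensorProduct.induction_on with
    | zero => simp
    | tmul s b => rw [TS_tmul, Matrix.mul_smul, he, ← Matrix.map_mul, h2, Matrix.map_zero _ (map_zero _), smul_zero]
    | add z w hz hw => rw [map_add, mul_add, hz, hw, add_zero]
  have h3' : e * e = e := by rw [he, ← Matrix.map_mul, h3]
  rw [mS, mS, mS, ← he, add_mul, mul_add, mul_add, h1', h2', h3', TS_mul f g hfg, add_zero, zero_add]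

/-- the determinant -/
noncomputable def dM (R : Type u) [CommRing R] [Algebra A R] (x : R ⊗[A] B) : R :=
  (mS f g R x).det

theorem dM_map {R R' : Type u} [CommRing R] [Algebra A R] [CommRing R'] [Algebra A R']
    (ψ : R →ₐ[A] R') (x : R ⊗[A] B) :
    dM f g R' (Algebra.TensorProduct.map ψ (AlgHom.id A B) x) = ψ (dM f g R x) := by
  rw [dM, dM, mS_map, AlgHom.map_det]
  rfl

theorem dM_eq_detAct (hfg : f ∘ₗ g = LinearMap.id) (S : Type u) [CommRing S] [Algebra A S]
    [Module.Free S (S ⊗[A] M)] [Module.Finite S (S ⊗[A] M)] (x : S ⊗[A] B) :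
    dM f g S x = PolLaw.detAct M S x := by
  classical
  let bn : Module.Basis (Fin n) S (S ⊗[A] (Fin n → A)) :=
    Algebra.TensorProduct.basis S (Pi.basisFun A (Fin n))
  let bm := Module.Free.chooseBasis S (S ⊗[A] M)
  haveI : Fintype (Module.Free.ChooseBasisIndex S (S ⊗[A] M)) := inferInstance
  let F := LinearMap.toMatrix bn bm (f.baseChange S)
  let G := LinearMap.toMatrix bm bn (g.baseChange S)
  let Φ := LinearMap.toMatrix bm bm (PolLaw.actEnd M S x)
  have hFG : F * G = 1 := by
    rw [← LinearMap.toMatrix_comp bm bn bm, ← LinearMap.baseChange_comp, hfg,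
      LinearMap.baseChange_id, LinearMap.toMatrix_id]
  have key : ∀ y : S ⊗[A] B,
      TS f g S y = LinearMap.toMatrix bn bn
        (g.baseChange S ∘ₗ PolLaw.actEnd M S y ∘ₗ f.baseChange S) := by
    intro y
    induction y using TensorProduct.induction_on with
    | zero => simp
    | tmul s b =>
      ext i j
      rw [LinearMap.toMatrix_apply, Algebra.TensorProduct.basis_apply, LinearMap.comp_apply,
        LinearMap.comp_apply, LinearMap.baseChange_tmul, PolLaw.actEnd_tmul_tmul,
        LinearMap.baseChange_tmul, Algebra.TensorProduct.basis_repr_tmul, TS_tmul, T0_apply]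
      simp [Pi.basisFun_apply, Pi.basisFun_repr]
    | add y z hy hz =>
      rw [map_add, hy, hz, map_add, LinearMap.add_comp, LinearMap.comp_add, map_add]
  have hT : TS f g S x = G * Φ * F := by
    rw [key, LinearMap.toMatrix_comp bn bm bn, LinearMap.toMatrix_comp bn bm bm, Matrix.mul_assoc]
  have h1 : (T0 (B := B) f g 1).map (algebraMap A S) = G * F := by
    have := key ((1 : S) ⊗ₜ[A] (1 : B))
    rw [TS_tmul, one_smul] at this
    rw [this, ← Algebra.TensorProduct.one_def, map_one, Module.End.one_eq_id, LinearMap.id_comp, LinearMap.toMatrix_comp bn bm bn]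
  have hm : mS f g S x = 1 + G * ((Φ - 1) * F) := by
    rw [mS, hT, E', Matrix.map_sub _ (map_sub _), Matrix.map_one _ (map_zero _) (map_one _), h1]
    simp only [Matrix.sub_mul, Matrix.mul_sub, Matrix.mul_assoc, Matrix.one_mul]
    abel
  rw [dM, hm, Matrix.det_one_add_mul_comm, Matrix.mul_assoc, hFG, Matrix.mul_one, add_sub_cancel,
    PolLaw.detAct, ← LinearMap.det_toMatrix bm]

/-- the value of the law -/
noncomputable def val (S : Type u) [CommSemiring S] [Algebra A S] (x : S ⊗[A] B) : S :=
  Algebra.TensorProduct.lid A S (dM f g (A ⊗[A] S) (PolLaw.toRing A B S x))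

theorem val_eq (S : Type u) [CommRing S] [Algebra A S] (x : S ⊗[A] B) :
    val f g S x = dM f g S x := by
  have h1 : Algebra.TensorProduct.map (Algebra.TensorProduct.lid A S).toAlgHom (AlgHom.id A B)
      (PolLaw.toRing A B S x) = x := by
    induction x using TensorProduct.induction_on with
    | zero => simp
    | tmul s b => simp [Algebra.TensorProduct.map_tmul, Algebra.TensorProduct.lid_symm_apply]
    | add x y hx hy => simp only [map_add, hx, hy]
  conv_rhs => rw [← h1, dM_map]
  rfl

theorem val_map {S S' : Type u} [CommSemiring S] [Algebra A S] [CommSemiring S'] [Algebra A S']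
    (φ : S →ₐ[A] S') (x : S ⊗[A] B) :
    val f g S' (φ.toLinearMap.rTensor B x) = φ (val f g S x) := by
  let ψ : A ⊗[A] S →ₐ[A] A ⊗[A] S' := Algebra.TensorProduct.map (AlgHom.id A A) φ
  have hψ : Algebra.TensorProduct.map ψ (AlgHom.id A B) (PolLaw.toRing A B S x) =
      PolLaw.toRing A B S' (φ.toLinearMap.rTensor B x) := by
    induction x using TensorProduct.induction_on with
    | zero => simp
    | tmul s b => simp [ψ, Algebra.TensorProduct.map_tmul, Algebra.TensorProduct.lid_symm_apply,
        LinearMap.rTensor_tmul]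
    | add x y hx hy => simp only [map_add, hx, hy]
  have hlid : ∀ r : A ⊗[A] S,
      Algebra.TensorProduct.lid A S' (ψ r) = φ (Algebra.TensorProduct.lid A S r) := by
    intro r
    induction r using TensorProduct.induction_on with
    | zero => simp
    | tmul a s => simp [ψ, Algebra.TensorProduct.map_tmul, Algebra.TensorProduct.lid_tmul]
    | add x y hx hy => simp only [map_add, hx, hy]
  rw [val, val, ← hψ, dM_map, hlid]

theorem dM_smul [Module.Finite A M] [Module.Projective A M] (d : ℕ)
    (hd : ∀ p : PrimeSpectrum A, Module.rankAtStalk M p = d) (hfg : f ∘ₗ g = LinearMap.id)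
    (R : Type u) [CommRing R] [Algebra A R] (r : R) (x : R ⊗[A] B) :
    dM f g R (r • x) = r ^ d * dM f g R x := by
  classical
  refine Module.eq_of_localization_maximal (R := R) (M := R)
    (fun P [P.IsMaximal] => Localization.AtPrime P)
    (fun P [P.IsMaximal] => Algebra.linearMap R (Localization.AtPrime P)) _ _ ?_
  intro P _
  let L := Localization.AtPrime P
  let ψ : R →ₐ[A] L := IsScalarTower.toAlgHom A R L
  show ψ (dM f g R (r • x)) = ψ (r ^ d * dM f g R x)
  rw [map_mul, map_pow, ← dM_map f g ψ, ← dM_map f g ψ]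
  have hsm : Algebra.TensorProduct.map ψ (AlgHom.id A B) (r • x) =
      ψ r • Algebra.TensorProduct.map ψ (AlgHom.id A B) x := by
    induction x using TensorProduct.induction_on with
    | zero => simp
    | tmul s b => simp [TensorProduct.smul_tmul']
    | add x y hx hy => simp only [smul_add, map_add, hx, hy]
  rw [hsm]
  generalize Algebra.TensorProduct.map ψ (AlgHom.id A B) x = y
  generalize ψ r = s
  haveI : Module.Flat L (L ⊗[A] M) := inferInstance
  haveI : Module.Free L (L ⊗[A] M) := Module.free_of_flat_of_isLocalRing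
  rw [dM_eq_detAct f g hfg, dM_eq_detAct f g hfg]
  unfold PolLaw.detAct
  rw [map_smul, LinearMap.det_smul]
  congr 2
  have h := Module.rankAtStalk_baseChange (R := A) (M := M) (S := L) (IsLocalRing.closedPoint L)
  rw [hd, Module.rankAtStalk_eq_finrank_of_free] at h
  exact h

/-- the law -/
noncomputable def theLaw [Module.Finite A M] [Module.Projective A M] (d : ℕ)
    (hd : ∀ p : PrimeSpectrum A, Module.rankAtStalk M p = d) (hfg : f ∘ₗ g = LinearMap.id) :
    PolLaw.MulLaw A B A d where
  law :=
  { toFun' := fun S _ _ x => val f g S x ⊗ₜ[A] (1 : A)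
    isCompat' := fun φ => by
      funext x
      simp only [Function.comp_apply]
      rw [LinearMap.rTensor_tmul, AlgHom.toLinearMap_apply, val_map] }
  homog S _ _ s x := by
    show val f g S (s • x) ⊗ₜ[A] (1 : A) = s ^ d • (val f g S x ⊗ₜ[A] (1 : A))
    rw [TensorProduct.smul_tmul', smul_eq_mul]
    congr 1
    have : PolLaw.toRing A B S (s • x) =
        (Algebra.TensorProduct.lid A S).symm s • PolLaw.toRing A B S x := by
      induction x using TensorProduct.induction_on with
      | zero => simp
      | tmul t b => simp [TensorProduct.smul_tmul', Algebra.TensorProduct.lid_symm_apply]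
      | add x y hx hy => simp only [smul_add, map_add, hx, hy]
    rw [val, val, this, dM_smul f g d hd hfg, map_mul, map_pow, AlgEquiv.apply_symm_apply]
  mult S _ _ := by
    refine ⟨?_, fun x y => ?_⟩
    · show val f g S 1 ⊗ₜ[A] (1 : A) = 1
      have h1 : PolLaw.toRing A B S 1 = 1 := by
        simp [Algebra.TensorProduct.one_def, Algebra.TensorProduct.lid_symm_apply]
      rw [val, h1, dM, mS_one, Matrix.det_one, map_one]
      rfl
    · show val f g S (x * y) ⊗ₜ[A] (1 : A) = _
      rw [val, map_mul, dM, mS_mul f g hfg, Matrix.det_mul, map_mul,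
        Algebra.TensorProduct.tmul_mul_tmul, _root_.mul_one]
      rfl

theorem theLaw_apply [Module.Finite A M] [Module.Projective A M] (d : ℕ)
    (hd : ∀ p : PrimeSpectrum A, Module.rankAtStalk M p = d) (hfg : f ∘ₗ g = LinearMap.id)
    (S : Type u) [CommRing S] [IsLocalRing S] [Algebra A S] (x : S ⊗[A] B) :
    (theLaw f g d hd hfg).law.toFun' S x = PolLaw.detAct M S x ⊗ₜ[A] (1 : A) := by
  show val f g S x ⊗ₜ[A] (1 : A) = _
  haveI : Module.Free S (S ⊗[A] M) := Module.free_of_flat_of_isLocalRing
  rw [val_eq, dM_eq_detAct f g hfg]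

end

/-- laws with values in `A` are determined on local test algebras -/
theorem law_ext {A B : Type u} [CommRing A] [CommRing B] [Algebra A B] {F G : B →ₚₗ[A] A}
    (h : ∀ (S : Type u) [CommRing S] [IsLocalRing S] [Algebra A S] (x : S ⊗[A] B),
      F.toFun' S x = G.toFun' S x) : F = G := by
  have key : ∀ (R : Type u) [CommRing R] [Algebra A R] (x : R ⊗[A] B),
      F.toFun' R x = G.toFun' R x := by
    intro R _ _ x
    apply (Algebra.TensorProduct.rid A A R).injective
    refine Module.eq_of_localization_maximal (R := R) (M := R)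
      (fun P [P.IsMaximal] => Localization.AtPrime P)
      (fun P [P.IsMaximal] => Algebra.linearMap R (Localization.AtPrime P)) _ _ ?_
    intro P _
    let ψ : R →ₐ[A] Localization.AtPrime P := IsScalarTower.toAlgHom A R (Localization.AtPrime P)
    have hr : ∀ z : R ⊗[A] A, ψ (Algebra.TensorProduct.rid A A R z) =
        Algebra.TensorProduct.rid A A (Localization.AtPrime P) (ψ.toLinearMap.rTensor A z) := by
      intro z
      induction z using TensorProduct.induction_on with
      | zero => simp
      | tmul s a => simp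
      | add z w hz hw => simp only [map_add, hz, hw]
    show ψ (Algebra.TensorProduct.rid A A R (F.toFun' R x)) =
      ψ (Algebra.TensorProduct.rid A A R (G.toFun' R x))
    rw [hr, hr, F.isCompat_apply' ψ, G.isCompat_apply' ψ, h]
  ext S _ _ x
  letI : CommRing (A ⊗[A] S) := inferInstance
  let e : A ⊗[A] S ≃ₐ[A] S := Algebra.TensorProduct.lid A S
  have h0 : x = e.toAlgHom.toLinearMap.rTensor B (e.symm.toAlgHom.toLinearMap.rTensor B x) := by
    rw [← LinearMap.comp_apply, ← LinearMap.rTensor_comp]
    have : e.toAlgHom.toLinearMap ∘ₗ e.symm.toAlgHom.toLinearMap = LinearMap.id := by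
      ext a; simp
    rw [this, LinearMap.rTensor_id, LinearMap.id_apply]
  rw [h0, ← F.isCompat_apply', ← G.isCompat_apply', key]

theorem result {A B M : Type u} [CommRing A] [CommRing B] [Algebra A B]
    [AddCommGroup M] [Module A M] [Module B M] [IsScalarTower A B M] [Module.Finite A M] [Module.Projective A M]
    (d : ℕ) (hd : ∀ p : PrimeSpectrum A, Module.rankAtStalk M p = d) :
    ∃! N : PolLaw.MulLaw A B A d, ∀ (S : Type u) [CommRing S] [IsLocalRing S] [Algebra A S] (x : S ⊗[A] B),
      N.law.toFun' S x = PolLaw.detAct M S x ⊗ₜ[A] (1 : A) := by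
  obtain ⟨n, f, hf⟩ := Module.Finite.exists_fin' A M
  obtain ⟨g, hfg⟩ := Module.projective_lifting_property f LinearMap.id hf
  refine ⟨theLaw f g d hd hfg, theLaw_apply f g d hd hfg, fun N hN => ?_⟩
  refine PolLaw.MulLaw.ext (law_ext fun S _ _ _ x => ?_)
  rw [hN S x, theLaw_apply f g d hd hfg S x]

end Groth.Agent.S13876
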