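import Groth.Statements.S13879
import Mathlib.RingTheory.Ideal.Operations
import Mathlib.LinearAlgebra.Span.Basic
-- import your own Groth.Agent.* helpers here

set_option autoImplicit false
universe u
open Crimp

namespace Groth.Agent.S13879

theorem closed_iff {R M : Type*} [CommRing R] [CommRing M] [Algebra R M] (g : M) (I : Ideal R) (S : Submodule R M)
    (hS : S = Submodule.span R {(1 : M), g} ⊔ I • (⊤ : Submodule R M)) :
    (∀ x ∈ S, ∀ y ∈ S, x * y ∈ S) ↔ g * g ∈ S := by
  have h1 : (1 : M) ∈ S := hS ▸ Submodule.mem_sup_left (Submodule.subset_span (Or.inl rfl))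
  have hg : g ∈ S := hS ▸ Submodule.mem_sup_left (Submodule.subset_span (Or.inr rfl))
  refine ⟨fun h => h g hg g hg, fun hgg => ?_⟩
  have hI : ∀ z ∈ I • (⊤ : Submodule R M), ∀ y : M, z * y ∈ S := fun z hz y => by
    refine Submodule.smul_induction_on (p := fun z => z * y ∈ S) hz (fun r hr t _ => ?_) fun a b ha hb => ?_
    · rw [smul_mul_assoc]
      exact hS ▸ Submodule.mem_sup_right (Submodule.smul_mem_smul hr trivial)
    · rw [add_mul]; exact S.add_mem ha hb
  have hgy : ∀ y ∈ S, g * y ∈ S := fun y hy => by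
    rw [hS, Submodule.mem_sup] at hy
    obtain ⟨u, hu, z, hz, rfl⟩ := hy
    obtain ⟨a, b, rfl⟩ := Submodule.mem_span_pair.1 hu
    rw [mul_add, mul_add, mul_smul_comm, mul_smul_comm, mul_one, mul_comm g z]
    exact S.add_mem (S.add_mem (S.smul_mem a hg) (S.smul_mem b hgg)) (hI z hz g)
  intro x hx y hy
  rw [hS, Submodule.mem_sup] at hx
  obtain ⟨u, hu, z, hz, rfl⟩ := hx
  obtain ⟨a, b, rfl⟩ := Submodule.mem_span_pair.1 hu
  rw [add_mul, add_mul, smul_mul_assoc, smul_mul_assoc, one_mul]
  exact S.add_mem (S.add_mem (S.smul_mem a hy) (S.smul_mem b (hgy y hy))) (hI z hz y)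

/-- Over R = k⟦t⟧ with k an algebraically closed field of characteristic zero, let S' = R × R × R and
let S be the R-submodule R·1 + R·(t ^ m f) + t ^ n S' of S' for some f in S' and natural numbers m,
n. Then S is closed under multiplication (equivalently, is an R-subalgebra of S') if and only if t ^
(2m) f ^ 2 lies in S. (The published statement has m ≤ n and S' / S isomorphic to R / (t ^ m) ⊕ R /
(t ^ n), under which S has this shape; this row states the criterion for every submodule of this
shape.) -/
theorem result {k : Type u} [Field k] [IsAlgClosed k] [CharZero k] (m n : ℕ) (f : (Fin 3 → PowerSeries k))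
    (S : Submodule (PowerSeries k) (Fin 3 → PowerSeries k))
    (hS : S = Submodule.span (PowerSeries k) {(1 : (Fin 3 → PowerSeries k)), ((PowerSeries.X : PowerSeries k) ^ m) • f} ⊔
        Ideal.span {(PowerSeries.X : PowerSeries k) ^ n} • (⊤ : Submodule (PowerSeries k) (Fin 3 → PowerSeries k))) :
    (∀ x ∈ S, ∀ y ∈ S, x * y ∈ S) ↔ ((PowerSeries.X : PowerSeries k) ^ (2 * m)) • (f * f) ∈ S := by
  rw [closed_iff (((PowerSeries.X : PowerSeries k) ^ m) • f) _ S hS, smul_mul_smul_comm, ← pow_add, two_mul]

end Groth.Agent.S13879
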