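import Groth.Statements.S13880
import Groth.Agent.L14.Crimp.Double
import Mathlib.Algebra.CharP.Algebra
import Mathlib.Tactic.LinearCombination

set_option autoImplicit false
universe u
open Crimp

namespace Groth.Agent.S13880

/-- Over R = k⟦t⟧ with k an algebraically closed field of characteristic zero, let S' = R × R, the
trivial double cover of the formal disk (branch divisor (t ^ 0)). An R-subalgebra S of S' admits an
R-basis of size 2 whose discriminant generates (t ^ b), that is, S is a crimp with branch divisor (t
^ b), if and only if b = 2n for some n and S = R·1 + t ^ n S'. So there is exactly one such crimp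
when b is even and none when b is odd; moreover the subalgebra R·1 + t ^ n S' is isomorphic as an
R-algebra to R[y] / (y ^ 2 - t ^ (2n)) (existence of an isomorphism; y ↦ (t ^ n, -t ^ n)). (The
published statement also gives the space of crimps its reduced one-point scheme structure; this row
classifies its k-points.) -/
theorem result {k : Type u} [Field k] [IsAlgClosed k] [CharZero k] (b : ℕ) (S : Subalgebra (PowerSeries k) (Fin 2 → PowerSeries k)) :
    ((∃ bS : Module.Basis (Fin 2) (PowerSeries k) S,
      Ideal.span {Algebra.discr (PowerSeries k) ⇑bS} = Ideal.span {(PowerSeries.X : PowerSeries k) ^ b}) ↔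
    ∃ n : ℕ, b = 2 * n ∧
      Subalgebra.toSubmodule S = Submodule.span (PowerSeries k) {(1 : (Fin 2 → PowerSeries k))} ⊔
        Ideal.span {(PowerSeries.X : PowerSeries k) ^ n} • (⊤ : Submodule (PowerSeries k) (Fin 2 → PowerSeries k))) ∧
    (∀ n : ℕ, Subalgebra.toSubmodule S = Submodule.span (PowerSeries k) {(1 : (Fin 2 → PowerSeries k))} ⊔
        Ideal.span {(PowerSeries.X : PowerSeries k) ^ n} • (⊤ : Submodule (PowerSeries k) (Fin 2 → PowerSeries k)) →
      Nonempty (S ≃ₐ[PowerSeries k] AdjoinRoot (Polynomial.X ^ 2 - Polynomial.C ((PowerSeries.X : PowerSeries k) ^ (2 * n))))) := by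
  have h2 : IsUnit (2 : PowerSeries k) := by
    rw [PowerSeries.isUnit_iff_constantCoeff, map_ofNat]
    exact isUnit_iff_ne_zero.2 two_ne_zero
  obtain ⟨u, hu⟩ := h2.exists_left_inv
  have h : Groth.L14.CrimpDouble.Quad (A := Fin 2 → PowerSeries k) (1 : PowerSeries k) ![1, -1] := by
    refine ⟨?_, fun x => ⟨u * (x 0 + x 1), u * (x 0 - x 1), ?_⟩, fun a g e => ?_⟩
    · funext i; fin_cases i <;> simp
    · funext i
      fin_cases i <;> simp
      · linear_combination x 0 * hu
      · linear_combination x 1 * hu
    · have e0 := congrFun e 0
      have e1 := congrFun e 1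
      simp at e0 e1
      exact ⟨by linear_combination u * e0 + u * e1 - a * hu, by linear_combination u * e0 - u * e1 - g * hu⟩
  have := Groth.L14.CrimpDouble.main (S := S) h 0 (by rw [pow_zero]) b
  simp only [Nat.add_zero, Groth.L14.CrimpDouble.IsShape] at this
  exact this

end Groth.Agent.S13880
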