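import Groth.Statements.S13881
import Groth.Agent.L14.Crimp.Double

set_option autoImplicit false
universe u
open Crimp

namespace Groth.Agent.S13881

variable {_unused : Unit}

theorem quad_root (k : Type u) [Field k] : Groth.L14.CrimpDouble.Quad
    (A := AdjoinRoot (Polynomial.X ^ 2 - Polynomial.C (PowerSeries.X : PowerSeries k))) (PowerSeries.X : PowerSeries k)
    (AdjoinRoot.root (Polynomial.X ^ 2 - Polynomial.C (PowerSeries.X : PowerSeries k))) := by
  have hm : (Polynomial.X ^ 2 - Polynomial.C (PowerSeries.X : PowerSeries k)).Monic :=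
    Polynomial.monic_X_pow_sub_C _ two_ne_zero
  set f := Polynomial.X ^ 2 - Polynomial.C (PowerSeries.X : PowerSeries k) with hf
  have hdeg : f.natDegree = 2 := Polynomial.natDegree_X_pow_sub_C
  have hf1 : f ≠ 1 := fun h => by rw [h, Polynomial.natDegree_one] at hdeg; omega
  refine ⟨?_, fun x => ?_, fun a g e => ?_⟩
  · have := AdjoinRoot.mk_self (f := f)
    rw [hf, map_sub, map_pow, AdjoinRoot.mk_X, AdjoinRoot.mk_C, sub_eq_zero] at this
    rw [← sq, this, Algebra.smul_def, mul_one]
    rfl
  · obtain ⟨q, rfl⟩ := AdjoinRoot.mk_surjective x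
    refine ⟨(q %ₘ f).coeff 0, (q %ₘ f).coeff 1, ?_⟩
    conv_rhs => rw [← Polynomial.modByMonic_add_div q f, map_add, map_mul, AdjoinRoot.mk_self, zero_mul, add_zero]
    have hd := Polynomial.natDegree_modByMonic_lt q hm hf1
    conv_rhs => rw [Polynomial.eq_X_add_C_of_natDegree_le_one (show (q %ₘ f).natDegree ≤ 1 by omega)]
    rw [map_add, map_mul, AdjoinRoot.mk_X, AdjoinRoot.mk_C, AdjoinRoot.mk_C, Algebra.smul_def, Algebra.smul_def,
      mul_one, add_comm, AdjoinRoot.algebraMap_eq]
  · have e' : AdjoinRoot.mk f (Polynomial.C g * Polynomial.X + Polynomial.C a) = 0 := by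
      rw [← e, map_add, map_mul, AdjoinRoot.mk_X, AdjoinRoot.mk_C, AdjoinRoot.mk_C, Algebra.smul_def, Algebra.smul_def,
        mul_one, add_comm, AdjoinRoot.algebraMap_eq]
    rw [AdjoinRoot.mk_eq_zero] at e'
    have h0 := Polynomial.eq_zero_of_dvd_of_natDegree_lt e' (by
      have := Polynomial.natDegree_linear_le (a := g) (b := a)
      omega)
    exact ⟨by simpa using congrArg (fun p => Polynomial.coeff p 0) h0, by simpa using congrArg (fun p => Polynomial.coeff p 1) h0⟩

open Crimp in

/-- Over R = k⟦t⟧ with k an algebraically closed field of characteristic zero, let S' = R[x] / (x ^ 2 -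
t), the ramified smooth double cover of the formal disk (branch divisor (t)). An R-subalgebra S of
S' admits an R-basis of size 2 whose discriminant generates (t ^ b), that is, S is a crimp with
branch divisor (t ^ b), if and only if b = 2n + 1 for some n and S = R·1 + t ^ n S'. So there is
exactly one such crimp when b is odd and none when b is even; moreover the subalgebra R·1 + t ^ n S'
is isomorphic as an R-algebra to R[y] / (y ^ 2 - t ^ (2n+1)) (existence of an isomorphism; y ↦ t ^ n
x). (The published statement describes this algebra as R[y] / (y ^ 2 - t ^ (b - a)) with a = 1, that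
is R[y] / (y ^ 2 - t ^ (2n)); that algebra has discriminant ideal (t ^ (b - 1)), not (t ^ b), so
this row uses R[y] / (y ^ 2 - t ^ b) = R[y] / (y ^ 2 - t ^ (2n+1)), which is the algebra R·1 + t ^ n
S'. The published statement also gives the space of crimps its reduced one-point scheme structure;
this row classifies its k-points.) -/
theorem result {k : Type u} [Field k] [IsAlgClosed k] [CharZero k] (b : ℕ)
    (S : Subalgebra (PowerSeries k) (AdjoinRoot (Polynomial.X ^ 2 - Polynomial.C (PowerSeries.X : PowerSeries k)))) :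
    ((∃ bS : Module.Basis (Fin 2) (PowerSeries k) S,
      Ideal.span {Algebra.discr (PowerSeries k) ⇑bS} = Ideal.span {(PowerSeries.X : PowerSeries k) ^ b}) ↔
    ∃ n : ℕ, b = 2 * n + 1 ∧
      Subalgebra.toSubmodule S = Submodule.span (PowerSeries k) {(1 : (AdjoinRoot (Polynomial.X ^ 2 - Polynomial.C (PowerSeries.X : PowerSeries k))))} ⊔
        Ideal.span {(PowerSeries.X : PowerSeries k) ^ n} • (⊤ : Submodule (PowerSeries k) (AdjoinRoot (Polynomial.X ^ 2 - Polynomial.C (PowerSeries.X : PowerSeries k))))) ∧
    (∀ n : ℕ, Subalgebra.toSubmodule S = Submodule.span (PowerSeries k) {(1 : (AdjoinRoot (Polynomial.X ^ 2 - Polynomial.C (PowerSeries.X : PowerSeries k))))} ⊔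
        Ideal.span {(PowerSeries.X : PowerSeries k) ^ n} • (⊤ : Submodule (PowerSeries k) (AdjoinRoot (Polynomial.X ^ 2 - Polynomial.C (PowerSeries.X : PowerSeries k)))) →
      Nonempty (S ≃ₐ[PowerSeries k] AdjoinRoot (Polynomial.X ^ 2 - Polynomial.C ((PowerSeries.X : PowerSeries k) ^ (2 * n + 1))))) := by
  have h := quad_root k
  have := Groth.L14.CrimpDouble.main (S := S) h 1 (by rw [pow_one]) b
  simp only [Groth.L14.CrimpDouble.IsShape] at this
  exact this

end Groth.Agent.S13881
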