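import Groth.Statements.S13882
import Mathlib.RingTheory.FiniteType
import Mathlib.RingTheory.MvPolynomial.Basic
import Mathlib.Tactic

set_option autoImplicit false
universe u
open FinCov

namespace Groth.Agent.S13882

/-- Over a field K of characteristic zero, the functor that sends a K-scheme S to the set of isomorphism
classes of pairs (A, τ) of an O_S-algebra A and an O_S-module isomorphism τ from A to the free
module of rank d, equivalently to the set of commutative unital algebra structures on the rank-d
free module with its standard basis, is represented by an affine K-scheme of finite type. Stated on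
affine K-schemes in one universe: there is a finitely generated commutative K-algebra B with
bijections between K-algebra maps B → A and based algebra structures of rank d over A, natural in
the commutative K-algebra A. -/
theorem result (K : Type u) [Field K] [CharZero K] (d : ℕ) :
    ∃ (B : Type u) (_ : CommRing B) (_ : Algebra K B) (_ : Algebra.FiniteType K B)
      (η : ∀ (A : Type u) [CommRing A] [Algebra K A], (B →ₐ[K] A) ≃ W4c1hurwitzcpt.BasedAlg d A),
      ∀ (A A' : Type u) [CommRing A] [Algebra K A] [CommRing A'] [Algebra K A']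
        (f : A →ₐ[K] A') (g : B →ₐ[K] A),
        η A' (f.comp g) = (η A g).map f.toRingHom := by
  classical
  let V := (Fin d × Fin d × Fin d) ⊕ Fin d
  let c : Fin d → Fin d → Fin d → MvPolynomial V K := fun i j k => MvPolynomial.X (Sum.inl (i, j, k))
  let w : Fin d → MvPolynomial V K := fun i => MvPolynomial.X (Sum.inr i)
  let S : Set (MvPolynomial V K) :=
    (Set.range fun p : Fin d × Fin d × Fin d => c p.1 p.2.1 p.2.2 - c p.2.1 p.1 p.2.2) ∪
    (Set.range fun p : Fin d × Fin d × Fin d × Fin d =>
      (∑ k, c p.1 p.2.1 k * c k p.2.2.1 p.2.2.2) - ∑ k, c p.2.1 p.2.2.1 k * c p.1 k p.2.2.2) ∪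
    (Set.range fun p : Fin d × Fin d => (∑ i, w i * c i p.1 p.2) - if p.1 = p.2 then 1 else 0)
  let B := MvPolynomial V K ⧸ Ideal.span S
  let q : MvPolynomial V K →ₐ[K] B := Ideal.Quotient.mkₐ K (Ideal.span S)
  have hS : ∀ s ∈ S, q s = 0 := fun s hs => Ideal.Quotient.eq_zero_iff_mem.mpr (Ideal.subset_span hs)
  let univ : W4c1hurwitzcpt.BasedAlg d B :=
    { c := fun i j k => q (c i j k)
      u := fun i => q (w i)
      comm := fun i j k => by
        have h := hS _ (Or.inl (Or.inl ⟨(i, j, k), rfl⟩))
        rwa [map_sub, sub_eq_zero] at h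
      assoc := fun i j l m => by
        have h := hS _ (Or.inl (Or.inr ⟨(i, j, l, m), rfl⟩))
        rw [map_sub, map_sum, map_sum, sub_eq_zero] at h
        simpa only [map_mul] using h
      unit := fun j m => by
        have h := hS _ (Or.inr ⟨(j, m), rfl⟩)
        rw [map_sub, map_sum, sub_eq_zero] at h
        simp only [map_mul] at h
        rw [h]
        split_ifs <;> simp }
  refine ⟨B, inferInstance, inferInstance, inferInstance, fun A _ _ =>
    { toFun := fun f => univ.map f.toRingHom
      invFun := fun s => Ideal.Quotient.liftₐ (Ideal.span S)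
        (MvPolynomial.aeval (Sum.elim (fun p => s.c p.1 p.2.1 p.2.2) s.u)) ?_
      left_inv := ?_
      right_inv := ?_ }, fun A A' _ _ _ _ f g => ?_⟩
  · intro a ha
    refine (Ideal.span_le.mpr ?_ : Ideal.span S ≤ RingHom.ker _) ha
    intro x hx
    simp only [SetLike.mem_coe, RingHom.mem_ker]
    rcases hx with (⟨⟨i, j, k⟩, rfl⟩ | ⟨⟨i, j, l, m⟩, rfl⟩) | ⟨⟨j, m⟩, rfl⟩
    · simp [c, s.comm i j k]
    · simpa [c, sub_eq_zero] using s.assoc i j l m
    · simp [c, w, s.unit j m, apply_ite (MvPolynomial.aeval (Sum.elim (fun p : Fin d × Fin d × Fin d => s.c p.1 p.2.1 p.2.2) s.u))]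
  · intro f
    refine Ideal.Quotient.algHom_ext K (MvPolynomial.algHom_ext fun v => ?_)
    rcases v with ⟨i, j, k⟩ | i <;>
      simp [univ, c, w, q, B, W4c1hurwitzcpt.BasedAlg.map, Ideal.Quotient.mkₐ_eq_mk]
  · intro s
    ext <;> simp [univ, c, w, q, B, W4c1hurwitzcpt.BasedAlg.map, Ideal.Quotient.mkₐ_eq_mk]
  · ext <;> rfl

end Groth.Agent.S13882
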