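import Groth.Statements.S13884
import Mathlib.RingTheory.PowerSeries.Expand
import Mathlib.RingTheory.PowerSeries.Inverse
import Mathlib.RingTheory.Nakayama
import Mathlib.LinearAlgebra.Dimension.OrzechProperty
import Mathlib.LinearAlgebra.FiniteDimensional.Basic
import Mathlib.RingTheory.Finiteness.Basic

set_option autoImplicit false
universe u
open Crimp

namespace Groth.Agent.S13884

/-- Over R = k⟦t⟧ with k an algebraically closed field of characteristic zero, let S' = k⟦x⟧ regarded as
an R-algebra through t ↦ x ^ 3, that is S' = R[x] / (x ^ 3 - t), the smooth totally ramified triple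
cover of the formal disk. If M is an R-submodule of S' which is free of rank 3, then M has an
R-basis consisting of three power series whose x-adic valuations are pairwise distinct modulo 3.
(Items (2) and (3) of the published proposition, on the base change of M to R[s] / (s ^ 3 - t), are
not restated.) -/
theorem result {k : Type u} [Field k] [IsAlgClosed k] [CharZero k]
    (M : Submodule (PowerSeries k) (W4c1hurwitzcpt.RootDisk 3 k))
    (bM : Module.Basis (Fin 3) (PowerSeries k) M) :
    ∃ g : Module.Basis (Fin 3) (PowerSeries k) M, ∀ i j : Fin 3, i ≠ j →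
      ¬ Nat.ModEq 3 (PowerSeries.order (W4c1hurwitzcpt.RootDisk.val (((g i : M) : (W4c1hurwitzcpt.RootDisk 3 k)) : W4c1hurwitzcpt.RootDisk 3 k))).toNat
        (PowerSeries.order (W4c1hurwitzcpt.RootDisk.val (((g j : M) : (W4c1hurwitzcpt.RootDisk 3 k)) : W4c1hurwitzcpt.RootDisk 3 k))).toNat := by
  classical
  let vl : W4c1hurwitzcpt.RootDisk 3 k ≃+* PowerSeries k := W4c1hurwitzcpt.RootDisk.val
  have hsmul : ∀ (a : PowerSeries k) (f : W4c1hurwitzcpt.RootDisk 3 k),
      vl (a • f) = PowerSeries.expand 3 (by norm_num) a * vl f := fun a f => rfl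
  have hmono : ∀ (c : k) (j : ℕ) (f : W4c1hurwitzcpt.RootDisk 3 k),
      vl ((PowerSeries.C c * PowerSeries.X ^ j) • f) = PowerSeries.C c * (PowerSeries.X ^ (3 * j) * vl f) := by
    intro c j f
    rw [hsmul, map_mul, map_pow, PowerSeries.expand_C, PowerSeries.expand_X, ← pow_mul, mul_assoc]
  let Φ : (Fin 3 → PowerSeries k) →ₗ[PowerSeries k] W4c1hurwitzcpt.RootDisk 3 k :=
    Fintype.linearCombination (PowerSeries k) (fun r : Fin 3 => vl.symm (PowerSeries.X ^ (r : ℕ)))
  have hΦ : ∀ (c : Fin 3 → PowerSeries k) (r : Fin 3) (n : ℕ),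
      PowerSeries.coeff (3 * n + (r : ℕ)) (vl (Φ c)) = PowerSeries.coeff n (c r) := by
    intro c r n
    simp only [Φ, Fintype.linearCombination_apply, map_sum, hsmul, RingEquiv.apply_symm_apply]
    rw [Finset.sum_eq_single r]
    · rw [PowerSeries.coeff_mul_X_pow', if_pos (Nat.le_add_left _ _), Nat.add_sub_cancel]
      exact PowerSeries.coeff_expand_mul _ _ _ _
    · intro s _ hs
      rw [PowerSeries.coeff_mul_X_pow']
      split_ifs with h
      · refine PowerSeries.coeff_expand_of_not_dvd _ _ _ ?_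
        have h1 := r.isLt; have h2 := s.isLt; have h3 : (s : ℕ) ≠ r := Fin.val_ne_of_ne hs
        omega
      · rfl
    · simp
  have hΦsurj : Function.Surjective Φ := by
    intro f
    refine ⟨fun r => PowerSeries.mk fun n => PowerSeries.coeff (3 * n + (r : ℕ)) (vl f), ?_⟩
    apply vl.injective
    ext n
    have h := hΦ (fun r => PowerSeries.mk fun n => PowerSeries.coeff (3 * n + (r : ℕ)) (vl f)) ⟨n % 3, Nat.mod_lt _ (by norm_num)⟩ (n / 3)
    simpa [Nat.div_add_mod] using h
  have hfin : Module.Finite (PowerSeries k) (W4c1hurwitzcpt.RootDisk 3 k) := Module.Finite.of_surjective Φ hΦsurj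
  -- every element has a t-power multiple in M
  have hker : LinearMap.ker Φ = ⊥ := by
    rw [Submodule.eq_bot_iff]
    intro c hc
    funext r; ext n
    rw [← hΦ c r n, LinearMap.mem_ker.1 hc]
    simp
  let eΦ := LinearEquiv.ofBijective Φ ⟨LinearMap.ker_eq_bot.1 hker, hΦsurj⟩
  have hrank : Module.finrank (PowerSeries k) (W4c1hurwitzcpt.RootDisk 3 k) = 3 := by
    rw [← eΦ.finrank_eq, Module.finrank_fin_fun]
  have hfull : ∀ f : W4c1hurwitzcpt.RootDisk 3 k, ∃ N : ℕ, (PowerSeries.X : PowerSeries k) ^ N • f ∈ M := by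
    intro f
    haveI : Module.Free (PowerSeries k) (W4c1hurwitzcpt.RootDisk 3 k) := Module.Free.of_equiv eΦ
    have hdep : ¬ LinearIndependent (PowerSeries k) (Fin.cons f (fun i => ((bM i : M) : W4c1hurwitzcpt.RootDisk 3 k)) : Fin 4 → _) := by
      intro h
      have := h.fintype_card_le_finrank
      rw [hrank, Fintype.card_fin] at this
      omega
    obtain ⟨g, hg, i₀, hi₀⟩ := Fintype.not_linearIndependent_iff.1 hdep
    rw [Fin.sum_univ_succ] at hg
    simp only [Fin.cons_zero, Fin.cons_succ] at hg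
    by_cases h0 : g 0 = 0
    · exfalso
      rw [h0, zero_smul, zero_add] at hg
      have h' : ∀ j : Fin 3, g j.succ = 0 := by
        refine Fintype.linearIndependent_iff.1 bM.linearIndependent _ ?_
        apply Subtype.ext
        simpa using hg
      refine hi₀ ?_
      induction i₀ using Fin.cases with
      | zero => exact h0
      | succ j => exact h' j
    · have hmem : g 0 • f ∈ M := by
        rw [eq_neg_of_add_eq_zero_left hg]
        exact M.neg_mem (M.sum_mem fun j _ => M.smul_mem _ (bM j).2)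
      refine ⟨(g 0).order.toNat, ?_⟩
      obtain ⟨u, hu⟩ := PowerSeries.isUnit_divided_by_X_pow_order h0
      have h1 := PowerSeries.X_pow_order_mul_divXPowOrder (f := g 0)
      rw [← hu] at h1
      have h2 : (PowerSeries.X : PowerSeries k) ^ (g 0).order.toNat = (↑u⁻¹ : PowerSeries k) * g 0 := by
        conv_rhs => rw [← h1]
        rw [mul_comm (↑u⁻¹ : PowerSeries k), mul_assoc, Units.mul_inv, mul_one]
      rw [h2, mul_smul]
      exact M.smul_mem _ hmem
  choose NN hNN using hfull
  obtain ⟨N, hN⟩ : ∃ N : ℕ, ∀ f : W4c1hurwitzcpt.RootDisk 3 k, (PowerSeries.X : PowerSeries k) ^ N • f ∈ M := by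
    refine ⟨Finset.univ.sup fun r : Fin 3 => NN (Φ (Pi.single r 1)), fun f => ?_⟩
    obtain ⟨c, rfl⟩ := hΦsurj f
    have hc : c = ∑ r, c r • (Pi.single r 1 : Fin 3 → PowerSeries k) := pi_eq_sum_univ' c
    rw [hc, map_sum, Finset.smul_sum]
    refine M.sum_mem fun r _ => ?_
    rw [map_smul, smul_comm]
    refine M.smul_mem _ ?_
    rw [← Nat.add_sub_cancel' (Finset.le_sup (f := fun r : Fin 3 => NN (Φ (Pi.single r 1))) (Finset.mem_univ r)), add_comm, pow_add, mul_smul]
    exact M.smul_mem _ (hNN _)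
  let P : Fin 3 → ℕ → Prop := fun r n => n % 3 = (r : ℕ) ∧ ∃ f ∈ M, (vl f).order = (n : ℕ∞)
  have hex : ∀ r, ∃ n, P r n := by
    intro r
    refine ⟨3 * N + r, by omega, _, hN (vl.symm (PowerSeries.X ^ (r : ℕ))), ?_⟩
    rw [← one_mul ((PowerSeries.X : PowerSeries k) ^ N), ← map_one PowerSeries.C, hmono, map_one, one_mul, RingEquiv.apply_symm_apply, ← pow_add, PowerSeries.order_X_pow]
  have hv : ∀ r, P r (Nat.find (hex r)) := fun r => Nat.find_spec (hex r)
  choose g hgM hgord using fun r => (hv r).2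
  let gM : Fin 3 → M := fun r => ⟨g r, hgM r⟩
  have happrox : ∀ (n : ℕ) (f : M), ∃ h ∈ Submodule.span (PowerSeries k) (Set.range gM),
      ∀ i < n, PowerSeries.coeff i (vl ((f - h : M) : W4c1hurwitzcpt.RootDisk 3 k)) = 0 := by
    intro n f
    induction n with
    | zero => exact ⟨0, zero_mem _, fun i hi => absurd hi (Nat.not_lt_zero i)⟩
    | succ n ih =>
      obtain ⟨h, hh, hlow⟩ := ih
      let d := PowerSeries.coeff n (vl ((f - h : M) : W4c1hurwitzcpt.RootDisk 3 k))
      by_cases hd : d = 0
      · refine ⟨h, hh, fun i hi => ?_⟩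
        rcases Nat.lt_succ_iff_lt_or_eq.1 hi with hi | rfl
        · exact hlow i hi
        · exact hd
      · let r : Fin 3 := ⟨n % 3, Nat.mod_lt _ (by norm_num)⟩
        have hord : (vl ((f - h : M) : W4c1hurwitzcpt.RootDisk 3 k)).order = (n : ℕ∞) :=
          PowerSeries.order_eq_nat.2 ⟨hd, hlow⟩
        have hle : Nat.find (hex r) ≤ n := Nat.find_min' _ ⟨rfl, _, (f - h).2, hord⟩
        have hmod : Nat.find (hex r) % 3 = n % 3 := (hv r).1
        obtain ⟨j, hj⟩ : ∃ j, n = 3 * j + Nat.find (hex r) := ⟨(n - Nat.find (hex r)) / 3, by omega⟩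
        obtain ⟨hlead, hsmall⟩ := PowerSeries.order_eq_nat.1 (hgord r)
        let a : PowerSeries k := PowerSeries.C (d / PowerSeries.coeff (Nat.find (hex r)) (vl (g r))) * PowerSeries.X ^ j
        refine ⟨h + a • gM r, add_mem hh (Submodule.smul_mem _ _ (Submodule.subset_span ⟨r, rfl⟩)), fun i hi => ?_⟩
        have hsplit : ((f - (h + a • gM r) : M) : W4c1hurwitzcpt.RootDisk 3 k) = ((f - h : M) : W4c1hurwitzcpt.RootDisk 3 k) - a • g r := by
          rw [sub_add_eq_sub_sub, Submodule.coe_sub, Submodule.coe_smul]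
        rw [hsplit, map_sub, map_sub, hmono, PowerSeries.coeff_C_mul, PowerSeries.coeff_X_pow_mul']
        rcases Nat.lt_succ_iff_lt_or_eq.1 hi with hi | rfl
        · rw [hlow i hi]
          split_ifs with h'
          · rw [hsmall (i - 3 * j) (by omega)]; simp
          · simp
        · rw [if_pos (by omega), show i - 3 * j = Nat.find (hex r) by omega, div_mul_cancel₀ _ hlead, sub_self]
  have htop : Submodule.span (PowerSeries k) (Set.range gM) = ⊤ := by
    haveI : Module.Finite (PowerSeries k) M := Module.Finite.of_basis bM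
    refine top_unique (Submodule.le_of_le_smul_of_le_jacobson_bot (I := IsLocalRing.maximalIdeal (PowerSeries k))
      Module.Finite.fg_top (IsLocalRing.jacobson_eq_maximalIdeal _ bot_ne_top).ge fun f _ => ?_)
    obtain ⟨h, hh, hlow⟩ := happrox (3 * (N + 1)) f
    refine Submodule.mem_sup.2 ⟨h, hh, f - h, ?_, add_sub_cancel h f⟩
    obtain ⟨w, hw⟩ := PowerSeries.X_pow_dvd_iff.2 hlow
    have heq : f - h = (PowerSeries.X : PowerSeries k) • (⟨(PowerSeries.X : PowerSeries k) ^ N • vl.symm w, hN _⟩ : M) := by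
      apply Subtype.ext
      apply vl.injective
      rw [hw, Submodule.coe_smul, ← mul_smul, ← pow_succ', ← one_mul ((PowerSeries.X : PowerSeries k) ^ (N + 1)), ← map_one PowerSeries.C, hmono,
        RingEquiv.apply_symm_apply]
      simp
    rw [heq]
    exact Submodule.smul_mem_smul ((IsLocalRing.mem_maximalIdeal _).2 fun h => by
      simpa using PowerSeries.isUnit_iff_constantCoeff.1 h) Submodule.mem_top
  refine ⟨basisOfTopLeSpanOfCardEqFinrank gM htop.ge (by rw [Fintype.card_fin, Module.finrank_eq_card_basis bM, Fintype.card_fin]), fun i j hij => ?_⟩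
  simp only [coe_basisOfTopLeSpanOfCardEqFinrank]
  show ¬ Nat.ModEq 3 (vl (g i)).order.toNat (vl (g j)).order.toNat
  rw [hgord, hgord]
  intro h
  have h' : Nat.find (hex i) % 3 = Nat.find (hex j) % 3 := h
  rw [(hv i).1, (hv j).1] at h'
  exact hij (Fin.ext h')

end Groth.Agent.S13884
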