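import Groth.Statements.S13885
import Groth.Agent.L14.Crimp.ValBasis
import Mathlib.LinearAlgebra.FreeModule.PID
import Mathlib.RingTheory.LocalRing.Module
import Mathlib.RingTheory.PowerSeries.Inverse
import Mathlib.LinearAlgebra.Dimension.Constructions

set_option autoImplicit false
universe u
open Crimp

namespace Groth.Agent.S13885

/-- Over R = k⟦t⟧ with k an algebraically closed field of characteristic zero, let S' = k⟦x⟧ × R, where
k⟦x⟧ is regarded as an R-algebra through t ↦ x ^ 2, that is S' = R[x] / (x ^ 2 - t) ⊕ R, the smooth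
simply ramified triple cover of the formal disk, with R embedded diagonally. If M is an R-submodule
of S' containing 1 which is free of rank 3, then M is spanned by 1, (f₁, 0) and (f₂, 0) for some
power series f₁, f₂ whose x-adic valuations are distinct modulo 2. (Items (2) and (3) of the
published proposition, on the base change of M to R[s] / (s ^ 2 - t), are not restated.) -/
theorem result {k : Type u} [Field k] [IsAlgClosed k] [CharZero k]
    (M : Submodule (PowerSeries k) (W4c1hurwitzcpt.RootDisk 2 k × PowerSeries k))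
    (h1 : (1 : (W4c1hurwitzcpt.RootDisk 2 k × PowerSeries k)) ∈ M)
    (bM : Module.Basis (Fin 3) (PowerSeries k) M) :
    ∃ f₁ f₂ : W4c1hurwitzcpt.RootDisk 2 k,
      ¬ Nat.ModEq 2 (PowerSeries.order (W4c1hurwitzcpt.RootDisk.val (f₁ : W4c1hurwitzcpt.RootDisk 2 k))).toNat (PowerSeries.order (W4c1hurwitzcpt.RootDisk.val (f₂ : W4c1hurwitzcpt.RootDisk 2 k))).toNat ∧
      M = Submodule.span (PowerSeries k) {(1 : (W4c1hurwitzcpt.RootDisk 2 k × PowerSeries k)), (f₁, 0), (f₂, 0)} := by
  classical
  let ι0 : W4c1hurwitzcpt.RootDisk 2 k →ₗ[PowerSeries k] (W4c1hurwitzcpt.RootDisk 2 k × PowerSeries k) := LinearMap.inl _ _ _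
  let N : Submodule (PowerSeries k) (W4c1hurwitzcpt.RootDisk 2 k) := M.comap ι0
  have hN : ∀ {f}, f ∈ N ↔ (f, (0 : PowerSeries k)) ∈ M := fun {f} => Iff.rfl
  let e : M ≃ₗ[PowerSeries k] N × PowerSeries k :=
    { toFun := fun z => (⟨z.1.1 - z.1.2 • 1, hN.2 (by
          have h : ((z : W4c1hurwitzcpt.RootDisk 2 k × PowerSeries k).1 - (z : W4c1hurwitzcpt.RootDisk 2 k × PowerSeries k).2 • 1, (0 : PowerSeries k)) = (z : _ × _) - z.1.2 • (1 : _ × _) := by
            ext : 1 <;> simp
          rw [h]; exact M.sub_mem z.2 (M.smul_mem _ h1))⟩, z.1.2)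
      map_add' := fun z w => by
        refine Prod.ext (Subtype.ext ?_) rfl
        simp [add_smul]; abel
      map_smul' := fun c z => by
        refine Prod.ext (Subtype.ext ?_) rfl
        simp [smul_sub, mul_smul]
      invFun := fun w => ⟨((w.1 : W4c1hurwitzcpt.RootDisk 2 k) + w.2 • 1, w.2), by
        have h : (((w.1 : W4c1hurwitzcpt.RootDisk 2 k) + w.2 • 1, w.2) : _ × PowerSeries k) = ((w.1 : W4c1hurwitzcpt.RootDisk 2 k), 0) + w.2 • (1 : _ × _) := by
          ext : 1 <;> simp
        rw [h]; exact M.add_mem (hN.1 w.1.2) (M.smul_mem _ h1)⟩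
      left_inv := fun z => by ext : 2 <;> simp
      right_inv := fun w => by ext : 2 <;> simp }
  haveI : Module.Finite (PowerSeries k) M := Module.Finite.of_basis bM
  haveI : Module.Free (PowerSeries k) M := Module.Free.of_basis bM
  haveI : Module.Finite (PowerSeries k) (N × PowerSeries k) := Module.Finite.equiv e
  haveI : Module.Finite (PowerSeries k) N := Module.Finite.of_surjective (LinearMap.fst (PowerSeries k) N (PowerSeries k)) LinearMap.fst_surjective
  haveI : Module.Projective (PowerSeries k) (N × PowerSeries k) := Module.Projective.of_equiv e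
  haveI : Module.Projective (PowerSeries k) N := Module.Projective.of_split (LinearMap.inl _ _ (PowerSeries k)) (LinearMap.fst _ _ _) (LinearMap.fst_comp_inl ..)
  haveI : Module.Free (PowerSeries k) N := Module.free_of_flat_of_isLocalRing
  have hr : Module.finrank (PowerSeries k) N = 2 := by
    have h := e.finrank_eq
    rw [Module.finrank_prod, Module.finrank_eq_card_basis bM, Fintype.card_fin, Module.finrank_self] at h
    omega
  obtain ⟨g, hg⟩ := Groth.L14.Crimp.ValBasis.exists_basis_order_mod N (Module.finBasisOfFinrankEq (PowerSeries k) N hr)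
  refine ⟨g 0, g 1, fun h => ?_, ?_⟩
  · have h' : _ % 2 = _ % 2 := h
    rw [hg 0, hg 1] at h'
    simp at h'
  · refine le_antisymm (fun z hz => ?_) (Submodule.span_le.2 ?_)
    · have hz' : (z : _ × _) = z.2 • (1 : _ × PowerSeries k) + ι0 ((e ⟨z, hz⟩).1 : W4c1hurwitzcpt.RootDisk 2 k) := by
        ext : 1 <;> simp [ι0, e]
      rw [hz', ← g.sum_repr (e ⟨z, hz⟩).1, Fin.sum_univ_two]
      simp only [Submodule.coe_add, Submodule.coe_smul, map_add, map_smul]
      refine add_mem (Submodule.smul_mem _ _ (Submodule.subset_span (by simp))) (add_mem (Submodule.smul_mem _ _ (Submodule.subset_span ?_)) (Submodule.smul_mem _ _ (Submodule.subset_span ?_))) <;> simp [ι0]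
    · intro z hz
      simp only [Set.mem_insert_iff, Set.mem_singleton_iff] at hz
      rcases hz with rfl | rfl | rfl
      · exact h1
      · exact hN.1 (g 0).2
      · exact hN.1 (g 1).2

end Groth.Agent.S13885
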