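import Groth.Statements.S13886
import Groth.Agent.L14.Crimp.Triple

set_option autoImplicit false
universe u
open Crimp

namespace Groth.Agent.S13886

/-- Over R = k⟦t⟧ with k an algebraically closed field of characteristic zero, let S' = R × R × R be the
unramified triple cover of the formal disk and let m ≤ n ≤ 2m be natural numbers. For every f in S'
not lying in R·1 + t S', the R-submodule S = R·1 + R·(t ^ m f) + t ^ n S' is closed under
multiplication, hence an R-subalgebra (a crimp), and S' / S is isomorphic to R / (t ^ m) ⊕ R / (t ^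
n) (so the crimp has μ-invariant n - m and branch divisor (t ^ (2(m+n)))). Together with the
structure result for submodules with this quotient, this identifies the k-points of the space of
crimps of splitting type (m, n), 2m ≥ n, with the submodules of this shape. (The published statement
moreover asserts that this stratum is an irreducible variety of dimension n - m; that part is not
restated.) -/
theorem result {k : Type u} [Field k] [IsAlgClosed k] [CharZero k]
    (m n : ℕ) (hmn : m ≤ n) (hn : n ≤ 2 * m)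
    (f : (Fin 3 → PowerSeries k)) (hf : f ∉ Submodule.span (PowerSeries k) {(1 : (Fin 3 → PowerSeries k))} ⊔ Ideal.span {(PowerSeries.X : PowerSeries k)} • (⊤ : Submodule (PowerSeries k) (Fin 3 → PowerSeries k)))
    (S : Submodule (PowerSeries k) (Fin 3 → PowerSeries k))
    (hS : S = Submodule.span (PowerSeries k) {(1 : (Fin 3 → PowerSeries k)), ((PowerSeries.X : PowerSeries k) ^ m) • f} ⊔
        Ideal.span {(PowerSeries.X : PowerSeries k) ^ n} • (⊤ : Submodule (PowerSeries k) (Fin 3 → PowerSeries k))) :
    (∀ x ∈ S, ∀ y ∈ S, x * y ∈ S) ∧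
    Nonempty (((Fin 3 → PowerSeries k) ⧸ S) ≃ₗ[PowerSeries k]
      ((PowerSeries k ⧸ Ideal.span {(PowerSeries.X : PowerSeries k) ^ m}) × (PowerSeries k ⧸ Ideal.span {(PowerSeries.X : PowerSeries k) ^ n}))) := by
  classical
  set I := Ideal.span {(PowerSeries.X : PowerSeries k) ^ n} • (⊤ : Submodule (PowerSeries k) (Fin 3 → PowerSeries k)) with hI
  have hImem : ∀ z, z ∈ I ↔ ∃ w : Fin 3 → PowerSeries k, (PowerSeries.X : PowerSeries k) ^ n • w = z := by
    intro z
    rw [hI, Submodule.ideal_span_singleton_smul, ← SetLike.mem_coe, Submodule.coe_pointwise_smul, Set.mem_smul_set]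
    simp
  have hspan : ∀ z, z ∈ S ↔ ∃ a b : PowerSeries k, ∃ w : Fin 3 → PowerSeries k,
      a • 1 + b • ((PowerSeries.X : PowerSeries k) ^ m • f) + (PowerSeries.X : PowerSeries k) ^ n • w = z := by
    intro z
    rw [hS, Submodule.mem_sup]
    simp only [Submodule.mem_span_pair, hImem]
    constructor
    · rintro ⟨_, ⟨a, b, rfl⟩, _, ⟨w, rfl⟩, rfl⟩; exact ⟨a, b, w, rfl⟩
    · rintro ⟨a, b, w, rfl⟩; exact ⟨_, ⟨a, b, rfl⟩, _, ⟨w, rfl⟩, rfl⟩
  refine ⟨fun x hx y hy => ?_, ?_⟩
  · obtain ⟨a, b, w, rfl⟩ := (hspan x).1 hx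
    obtain ⟨a', b', w', rfl⟩ := (hspan y).1 hy
    refine (hspan _).2 ⟨a * a', a * b' + b * a', fun q =>
      b * b' * (PowerSeries.X : PowerSeries k) ^ (2 * m - n) * f q ^ 2 + a * w' q + a' * w q +
        (PowerSeries.X : PowerSeries k) ^ m * f q * (b * w' q + b' * w q) +
        (PowerSeries.X : PowerSeries k) ^ n * w q * w' q, ?_⟩
    funext q
    simp only [Pi.add_apply, Pi.smul_apply, Pi.one_apply, Pi.mul_apply, smul_eq_mul, mul_one]
    have h2 : (PowerSeries.X : PowerSeries k) ^ n * PowerSeries.X ^ (2 * m - n) = PowerSeries.X ^ m * PowerSeries.X ^ m := by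
      rw [← pow_add, ← pow_add]; congr 1; omega
    linear_combination b * b' * f q ^ 2 * h2
  obtain ⟨i, j, l, hne, hli, hlj, hcov⟩ : ∃ i j l : Fin 3,
      PowerSeries.constantCoeff (f i) ≠ PowerSeries.constantCoeff (f j) ∧ l ≠ i ∧ l ≠ j ∧
      ∀ q, q = i ∨ q = j ∨ q = l := by
    by_cases h01 : PowerSeries.constantCoeff (f 0) = PowerSeries.constantCoeff (f 1)
    · by_cases h02 : PowerSeries.constantCoeff (f 0) = PowerSeries.constantCoeff (f 2)
      · refine absurd (Submodule.mem_sup.2 ⟨PowerSeries.C (PowerSeries.constantCoeff (f 0)) • 1,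
          Submodule.smul_mem _ _ (Submodule.mem_span_singleton_self _),
          f - PowerSeries.C (PowerSeries.constantCoeff (f 0)) • 1, Groth.L14.Crimp.mem_tS.2 ?_,
          add_sub_cancel _ _⟩) hf
        funext q
        fin_cases q <;> simp [Groth.L14.Crimp.red, ← h01, ← h02]
      · exact ⟨0, 2, 1, h02, by decide, by decide, by decide⟩
    · exact ⟨0, 1, 2, h01, by decide, by decide, by decide⟩
  obtain ⟨u, hu⟩ : IsUnit (f i - f j) := PowerSeries.isUnit_iff_constantCoeff.2 (by
    rw [map_sub, isUnit_iff_ne_zero, sub_ne_zero]; exact hne)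
  set P : Fin 3 → ((Fin 3 → PowerSeries k) →ₗ[PowerSeries k] PowerSeries k) := LinearMap.proj
  set bF := ((u⁻¹ : (PowerSeries k)ˣ) : PowerSeries k) • (P i - P j) with hbF
  set aF := P i - f i • bF with haF
  set cF := P l - aF - f l • bF with hcF
  set φ : (Fin 3 → PowerSeries k) →ₗ[PowerSeries k] _ :=
    ((Ideal.span {(PowerSeries.X : PowerSeries k) ^ m}).mkQ.comp bF).prod
      ((Ideal.span {(PowerSeries.X : PowerSeries k) ^ n}).mkQ.comp cF) with hφ
  have hb : ∀ z, bF z = (↑u⁻¹ : PowerSeries k) * (z i - z j) := fun z => by simp [hbF, P]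
  have hc : ∀ z, cF z = z l - (z i - f i * bF z) - f l * bF z := fun z => by simp [hcF, haF, P]
  have huu : (↑u⁻¹ : PowerSeries k) * (f i - f j) = 1 := by rw [← hu, Units.inv_mul]
  have hmul : ∀ z, (f i - f j) * bF z = z i - z j := fun z => by
    rw [hb, ← mul_assoc, mul_comm (f i - f j), huu, one_mul]
  have hrec : ∀ z q, z q = (z i - f i * bF z) + bF z * f q + if q = l then cF z else 0 := by
    intro z q
    rcases hcov q with rfl | rfl | rfl
    · rw [if_neg hli.symm]; ring
    · rw [if_neg hlj.symm]; linear_combination hmul z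
    · rw [if_pos rfl, hc]; ring
  have hker : LinearMap.ker φ = S := by
    ext z
    rw [hspan]
    simp only [hφ, LinearMap.ker_prod, Submodule.mem_inf, LinearMap.mem_ker, LinearMap.comp_apply,
      Submodule.mkQ_apply, Submodule.Quotient.mk_eq_zero, Ideal.mem_span_singleton]
    constructor
    · rintro ⟨⟨β, hβ⟩, ⟨γ, hγ⟩⟩
      refine ⟨z i - f i * bF z, β, fun q => if q = l then γ else 0, funext fun q => ?_⟩
      simp only [Pi.add_apply, Pi.smul_apply, Pi.one_apply, smul_eq_mul, mul_one]
      rw [hrec z q, hrec z i, if_neg hli.symm, hβ, hγ, mul_ite, mul_zero]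
      ring
    · rintro ⟨a, b, w, rfl⟩
      have hbz : bF (a • 1 + b • ((PowerSeries.X : PowerSeries k) ^ m • f) + (PowerSeries.X : PowerSeries k) ^ n • w) =
          PowerSeries.X ^ m * b + PowerSeries.X ^ n * bF w := by
        simp only [map_add, map_smul, smul_eq_mul]
        rw [hb 1, hb f, huu]
        simp only [Pi.one_apply, sub_self, mul_zero, mul_one, zero_add]
        ring
      constructor
      · rw [hbz]; exact dvd_add (dvd_mul_right _ _) ((pow_dvd_pow _ hmn).mul_right _)
      · refine ⟨cF w, ?_⟩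
        simp only [map_add, map_smul, smul_eq_mul]
        rw [hc 1, hc f, hb 1, hb f, huu]
        simp only [Pi.one_apply, sub_self, mul_zero, mul_one, zero_add]
        ring
  have hsurj : Function.Surjective φ := by
    rintro ⟨B, C⟩
    obtain ⟨B, rfl⟩ := Submodule.Quotient.mk_surjective _ B
    obtain ⟨C, rfl⟩ := Submodule.Quotient.mk_surjective _ C
    refine ⟨B • f + C • Pi.single l 1, ?_⟩
    have h1 : bF (B • f + C • Pi.single l 1) = B := by
      simp only [map_add, map_smul, smul_eq_mul]
      rw [hb f, hb, huu, Pi.single_eq_of_ne hli.symm, Pi.single_eq_of_ne hlj.symm]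
      ring
    have h2 : cF (B • f + C • Pi.single l 1) = C := by
      rw [hc, h1]
      simp only [Pi.add_apply, Pi.smul_apply, smul_eq_mul, Pi.single_eq_same,
        Pi.single_eq_of_ne hli.symm]
      ring
    simp only [hφ, LinearMap.prod_apply, Function.prod_apply, LinearMap.comp_apply, h1, h2, Submodule.mkQ_apply]
  exact ⟨(Submodule.quotEquivOfEq _ _ hker.symm).trans (φ.quotKerEquivOfSurjective hsurj)⟩

end Groth.Agent.S13886
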