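import Groth.Statements.S13887
import Groth.Agent.L13.PairBlow.Points
import Groth.Agent.L16.HomSh.LocFreeModPow
import Groth.Agent.L13.PointBlow.Lift
import Groth.Agent.L13.PointBlow.Twist
import Groth.Agent.L29.DCoh.TensorPerfect

set_option autoImplicit false
universe u
open AlgebraicGeometry CategoryTheory CategoryTheory.Limits
open SurfBl

namespace Groth.Agent.S13887

/-- Let k be an algebraically closed field of characteristic zero, X a k-scheme smooth of relative
dimension 2 over k, s a closed point of X, β : B → X a blowing up of X in the reduced point s, E ⊆ B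
the exceptional divisor with ideal I_E (the inverse image ideal of the ideal of s), V a finite
locally free O_B-module and e : β^*β_*V → V the counit of the pull-back / direct-image adjunction.
If l ≥ 0 is such that (I_E ^ l ⊗ V)|_E, which is V|_E ⊗ O_E(l), is generated by its global sections,
then the cokernel of e is annihilated by I_E ^ l: over every affine open U of B, every section of
I_E ^ l over U multiplies every section of coker(e) over U to zero. -/
theorem result
    {k : Type u} [Field k] [IsAlgClosed k] [CharZero k]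
    (X : Scheme.{u}) [X.Over (Spec (CommRingCat.of k))] [SmoothOfRelativeDimension 2 (X ↘ Spec (CommRingCat.of k))]
    (s : X) (hs : IsClosed ({s} : Set X))
    {B : Scheme.{u}} (β : B ⟶ X) (hβ : BlowUp.IsBlowUp β (Scheme.IdealSheafData.vanishingIdeal ⟨{s}, hs⟩))
    (V : B.Modules) (hV : FlatMod.IsFinLocFree V) (l : ℕ)
    (hgen : Curv2.IsGloballyGenerated ((Scheme.Modules.pullback (BlowUp.exceptional β (Scheme.IdealSheafData.vanishingIdeal ⟨{s}, hs⟩)).subschemeι).obj
      (CohB1.tensorMod (ClSub.idealMod ((BlowUp.exceptional β (Scheme.IdealSheafData.vanishingIdeal ⟨{s}, hs⟩)) ^ l)) V))) :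
    ∀ (U : B.affineOpens)
      (q : (cokernel ((Scheme.Modules.pullbackPushforwardAdjunction β).counit.app V)).presheaf.obj (Opposite.op U.1))
      (a : Γ(B, U.1)), a ∈ ((BlowUp.exceptional β (Scheme.IdealSheafData.vanishingIdeal ⟨{s}, hs⟩)) ^ l).ideal U → a • q = 0 := by
  haveI : Smooth (X ↘ Spec (CommRingCat.of k)) := SmoothOfRelativeDimension.smooth 2 _
  haveI : IsLocallyNoetherian X := Groth.L13.PairBlow.isLocallyNoetherian_over (k := k) X
  have hc : Groth.L13.PairBlow.GoodCentre (Scheme.IdealSheafData.vanishingIdeal ⟨{s}, hs⟩) :=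
    Groth.L13.PairBlow.goodCentre_vanishingIdeal hs (Set.finite_singleton s)
      (fun x hx => (Set.mem_singleton_iff.1 hx) ▸ hs)
      (fun x _ => Groth.L21.Smooth.regular_stalk (X ↘ Spec (CommRingCat.of k)) x)
      (fun x hx => (Set.mem_singleton_iff.1 hx) ▸ Groth.L13.PairBlow.ringKrullDim_stalk_smooth (k := k) X s hs)
  intro U q a ha
  set J := BlowUp.exceptional β (Scheme.IdealSheafData.vanishingIdeal ⟨{s}, hs⟩) ^ l with hJ
  obtain ⟨hinv, -⟩ := Groth.L13.PointBlow.nonempty_idealMod_pow
    ((Groth.Agent.L19.IdealInvertible.isEffCartier_iff _).2 hβ.1) l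
  have hV' : FlatMod.IsFinLocFree (CohB1.tensorMod (ClSub.idealMod J) V) :=
    Groth.L29.DC.isFinLocFree_tensor (Groth.L16.Existence.isFinLocFree_of_isInvertible hinv) hV
  let adj := Scheme.Modules.pullbackPushforwardAdjunction β
  haveI : Epi (adj.counit.app (CohB1.tensorMod (ClSub.idealMod J) V)) :=
    Groth.L13.PairBlow.epi_counit hβ hc.locallyPair hV' hgen
  have h0 : Groth.L13.PointBlow.mulI J V ≫ cokernel.π (adj.counit.app V) = 0 := by
    have hn := adj.counit.naturality (Groth.L13.PointBlow.mulI J V)
    simp only [Functor.id_map] at hn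
    refine (cancel_epi (adj.counit.app (CohB1.tensorMod (ClSub.idealMod J) V))).1 ?_
    rw [← Category.assoc, ← hn, Category.assoc, cokernel.condition, comp_zero, comp_zero]
  obtain ⟨m, hm⟩ := (Groth.L18.IdealModule.mem_ideal_iff J U.2 a).1 ha
  refine Groth.L21.Extend.eq_of_locally _ _ _ fun y hy => ?_
  obtain ⟨W, hW, t, hyW, ht⟩ := Groth.L16.HomSh.exists_local_lift (cokernel.π (adj.counit.app V)) q hy
  refine ⟨W, hW, hyW, ?_⟩
  refine (Groth.L21.Extend.rs_smul _ hW a q).trans ?_
  refine (congrArg (Groth.L18.Frame.ro hW a • ·) ht.symm).trans ?_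
  have h1 := congr(($h0).app W (Groth.L18.GenLoc.tens _ V W (Groth.L18.Frame.rs _ hW m) t))
  have h2 : (Groth.L13.PointBlow.mulI J V).app W (Groth.L18.GenLoc.tens _ V W (Groth.L18.Frame.rs _ hW m) t) =
      Groth.L18.Frame.ro hW a • t := by
    rw [Groth.L13.PointBlow.mulI_tens]
    refine congrArg (· • t) ?_
    rw [← hm]
    exact congr($((ClSub.idealModι J).mapPresheaf.naturality (homOfLE hW).op) m)
  refine (((cokernel.π (adj.counit.app V)).app_smul _ _).symm.trans ?_).trans (map_zero _).symm
  rw [← h2]
  exact h1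

end Groth.Agent.S13887
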