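import Groth.Statements.S1389
import Mathlib.AlgebraicGeometry.Morphisms.Etale
import Mathlib.AlgebraicGeometry.ResidueField

set_option autoImplicit false
universe u
open FlatMor

namespace Groth.Agent.S1389

open AlgebraicGeometry CategoryTheory Limits in
/-- Let (U, u) and (U', u') be étale neighbourhoods of a point s of S and h₁, h₂ two S-morphisms U → U'
sending u to u' which induce the same map of residue fields κ(u') → κ(u). Then there is an étale
neighbourhood (U'', u'') of s with an S-morphism h : U'' → U sending u'' to u and with h followed by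
h₁ equal to h followed by h₂. -/
theorem result {S U U' : Scheme.{u}} (s : S) (g : U ⟶ S) (g' : U' ⟶ S) [Etale g] [Etale g'] (u : U) (u' : U')
    (hu : g u = s) (hu' : g' u' = s) (h₁ h₂ : U ⟶ U') (w₁ : h₁ ≫ g' = g) (w₂ : h₂ ≫ g' = g) (e₁ : h₁ u = u') (e₂ : h₂ u = u')
    (hres : (U'.residueFieldCongr e₁).inv ≫ h₁.residueFieldMap u = (U'.residueFieldCongr e₂).inv ≫ h₂.residueFieldMap u) :
    ∃ (U'' : Scheme.{u}) (g'' : U'' ⟶ S) (u'' : U'') (h : U'' ⟶ U), Etale g'' ∧ g'' u'' = s ∧ h ≫ g = g'' ∧ h u'' = u ∧ h ≫ h₁ = h ≫ h₂ := by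
  let L : U ⟶ pullback g' g' := pullback.lift h₁ h₂ (w₁.trans w₂.symm)
  let h := pullback.fst L (pullback.diagonal g')
  have hL₁ : L ≫ pullback.fst g' g' = h₁ := pullback.lift_fst _ _ _
  have hL₂ : L ≫ pullback.snd g' g' = h₂ := pullback.lift_snd _ _ _
  have hh₁ : h ≫ h₁ = pullback.snd L (pullback.diagonal g') := by
    have := congrArg (· ≫ pullback.fst g' g') (pullback.condition (f := L) (g := pullback.diagonal g'))
    simp only [Category.assoc, hL₁, pullback.diagonal_fst, Category.comp_id] at this
    exact this
  have hh₂ : h ≫ h₂ = pullback.snd L (pullback.diagonal g') := by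
    have := congrArg (· ≫ pullback.snd g' g') (pullback.condition (f := L) (g := pullback.diagonal g'))
    simp only [Category.assoc, hL₂, pullback.diagonal_snd, Category.comp_id] at this
    exact this
  let a := U.fromSpecResidueField u
  have ha : a ≫ h₁ = a ≫ h₂ := by
    have key : ∀ (k : U ⟶ U') (e : k u = u'),
        a ≫ k = Spec.map ((U'.residueFieldCongr e).inv ≫ k.residueFieldMap u) ≫
          U'.fromSpecResidueField u' := by
      intro k e
      simp [a]
    rw [key h₁ e₁, key h₂ e₂, hres]
  let z : Spec (U.residueField u) ⟶ pullback L (pullback.diagonal g') :=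
    pullback.lift a (a ≫ h₁) (by
      apply pullback.hom_ext
      · simp only [Category.assoc, hL₁, pullback.diagonal_fst, Category.comp_id]
      · simp only [Category.assoc, hL₂, pullback.diagonal_snd, Category.comp_id, ha])
  refine ⟨_, h ≫ g, z (IsLocalRing.closedPoint _), h, ?_, ?_, rfl, ?_, hh₁.trans hh₂.symm⟩
  · infer_instance
  all_goals
    have hu'' : h (z (IsLocalRing.closedPoint _)) = u := by
      have he : z ≫ h = a := pullback.lift_fst _ _ _
      have := Scheme.Hom.comp_apply z h (IsLocalRing.closedPoint _)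
      rw [he] at this
      rw [← this]
      exact Scheme.fromSpecResidueField_apply u _
  · rw [Scheme.Hom.comp_apply, hu'', hu]
  · exact hu''

end Groth.Agent.S1389
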