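import Groth.Statements.S1390
import Groth.Agent.L24.Dominate.Main

set_option autoImplicit false
set_option backward.isDefEq.respectTransparency.types false
universe u
open FlatMor

namespace Groth.Agent.S1390

open AlgebraicGeometry CategoryTheory Limits in
/-- Let (U, u) be an étale neighbourhood of (S, s), i.e. U → S étale with u over s. Then there are an
affine open neighbourhood V of s and a surjective, finite, flat morphism of finite presentation π :
T → V such that every point t of T over s has an open neighbourhood W_t with an S-morphism W_t → U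
sending t to u. -/
theorem result {U S : Scheme.{u}} (e : U ⟶ S) [Etale e] (u : U) (s : S) (hu : e u = s) :
    ∃ (V : S.Opens) (T : Scheme.{u}) (π : T ⟶ (V : Scheme.{u})), s ∈ V ∧ IsAffineOpen V ∧ Surjective π ∧ IsFinite π ∧ Flat π ∧ LocallyOfFinitePresentation π ∧
      ∀ t : T, V.ι (π t) = s → ∃ (W : T.Opens) (h : (W : Scheme.{u}) ⟶ U), t ∈ W ∧ h ≫ e = W.ι ≫ π ≫ V.ι ∧ ∀ ht : t ∈ W, h ⟨t, ht⟩ = u := by
  subst hu
  exact Groth.L24.Dominate.exists_finLocFree_dominating e u

end Groth.Agent.S1390
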