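import Groth.Statements.S13903
import Mathlib.FieldTheory.PrimitiveElement
import Mathlib.LinearAlgebra.FreeModule.Finite.Matrix
import Mathlib.RingTheory.Artinian.Module
import Mathlib.FieldTheory.IsAlgClosed.AlgebraicClosure

set_option autoImplicit false
universe u
open EtAlg

namespace Groth.Agent.S13903

/-- Let K be a field and L a finite-dimensional reduced commutative K-algebra of dimension d all of
whose elements are separable over K, generated as a K-algebra by z and t. In any finite set of at
least d^(4d) elements of K there is an element c such that c • z + t generates L as a K-algebra.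
(The published statement does not require separability; for K of characteristic p and L obtained by
adjoining p-th roots of two independent indeterminates, L is a reduced finite K-algebra generated by
two elements with no single generator, so separability over K is assumed here, as the counting in
the published proof requires.) -/
theorem result (K L : Type u) [Field K] [CommRing L]
    [Algebra K L] [Module.Finite K L] [IsReduced L] [Algebra.IsSeparable K L] (z t : L)
    (hgen : Algebra.adjoin K ({z, t} : Set L) = ⊤) (S : Finset K)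
    (hS : Module.finrank K L ^ (4 * Module.finrank K L) ≤ S.card) :
    ∃ c ∈ S, Algebra.adjoin K ({c • z + t} : Set L) = ⊤ := by
  classical
  haveI : IsArtinianRing L := isArtinian_of_tower K (inferInstanceAs (IsArtinian K L))
  let Ω := AlgebraicClosure K
  let n := Module.finrank K L
  haveI : Fintype (L →ₐ[K] Ω) := Fintype.ofFinite _
  haveI : Fintype (MaximalSpectrum L) := Fintype.ofFinite _
  -- there are at least `n` embeddings
  have hcard : n ≤ Nat.card (L →ₐ[K] Ω) := by
    letI : ∀ m : MaximalSpectrum L, Field (L ⧸ m.asIdeal) := fun m => Ideal.Quotient.field _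
    have hsep : ∀ m : MaximalSpectrum L, Algebra.IsSeparable K (L ⧸ m.asIdeal) := fun m => ⟨fun x => by
      obtain ⟨y, rfl⟩ := Ideal.Quotient.mk_surjective x
      exact (Algebra.IsSeparable.isSeparable K y).of_dvd (minpoly.dvd K _ (by
        rw [← Ideal.Quotient.mkₐ_eq_mk K, Polynomial.aeval_algHom_apply, minpoly.aeval, map_zero]))⟩
    have hn : n = ∑ m : MaximalSpectrum L, Module.finrank K (L ⧸ m.asIdeal) := by
      rw [← Module.finrank_pi_fintype K]
      exact LinearEquiv.finrank_eq ((IsArtinianRing.equivPi L).toLinearEquiv.restrictScalars K)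
    have hm : ∀ m : MaximalSpectrum L,
        Nat.card ((L ⧸ m.asIdeal) →ₐ[K] Ω) = Module.finrank K (L ⧸ m.asIdeal) := fun m => by
      haveI := hsep m
      rw [Nat.card_eq_fintype_card]
      exact AlgHom.card K (L ⧸ m.asIdeal) Ω
    rw [hn, ← Finset.sum_congr rfl (fun m _ => hm m), ← Nat.card_sigma]
    refine Nat.card_le_card_of_injective (fun s => s.2.comp (Ideal.Quotient.mkₐ K s.1.asIdeal)) ?_
    rintro ⟨m, σ⟩ ⟨m', σ'⟩ h
    have hker : ∀ (m : MaximalSpectrum L) (σ : (L ⧸ m.asIdeal) →ₐ[K] Ω),
        RingHom.ker (σ.comp (Ideal.Quotient.mkₐ K m.asIdeal)).toRingHom = m.asIdeal := fun m σ => by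
      ext x
      rw [RingHom.mem_ker, ← Ideal.Quotient.eq_zero_iff_mem]
      exact map_eq_zero_iff σ σ.toRingHom.injective
    obtain rfl : m = m' := MaximalSpectrum.ext ((hker m σ).symm.trans ((congrArg
      (fun f : L →ₐ[K] Ω => RingHom.ker f.toRingHom) h).trans (hker m' σ')))
    have : σ = σ' := AlgHom.ext fun x => by
      obtain ⟨y, rfl⟩ := Ideal.Quotient.mk_surjective x
      exact DFunLike.congr_fun h y
    rw [this]
  -- an element separating all embeddings generates
  have hgood : ∀ y : L, (∀ σ τ : L →ₐ[K] Ω, σ y = τ y → σ = τ) → Algebra.adjoin K ({y} : Set L) = ⊤ := by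
    intro y hy
    let B := Algebra.adjoin K ({y} : Set L)
    have h1 : Nat.card (L →ₐ[K] Ω) ≤ Nat.card (B →ₐ[K] Ω) := by
      refine Nat.card_le_card_of_injective (fun σ => σ.comp B.val) fun σ τ h => hy σ τ ?_
      exact DFunLike.congr_fun h (⟨y, Algebra.subset_adjoin rfl⟩ : B)
    have h2 := card_algHom_le_finrank K B Ω
    have h3 : Subalgebra.toSubmodule B = ⊤ := Submodule.eq_top_of_finrank_eq
      (le_antisymm (Submodule.finrank_le _) (hcard.trans (h1.trans h2)))
    exact Algebra.toSubmodule_eq_top.mp h3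
  -- at most one bad parameter for each pair of embeddings
  have hbad : ∀ c ∈ S, (∀ σ τ : L →ₐ[K] Ω, σ (c • z + t) = τ (c • z + t) → σ = τ) →
      ∃ c ∈ S, Algebra.adjoin K ({c • z + t} : Set L) = ⊤ := fun c hc h => ⟨c, hc, hgood _ h⟩
  by_contra hcon
  have hall : ∀ c ∈ S, ∃ p : (L →ₐ[K] Ω) × (L →ₐ[K] Ω),
      p.1 (c • z + t) = p.2 (c • z + t) ∧ p.1 ≠ p.2 := by
    intro c hc
    by_contra h
    push Not at h
    exact hcon (hbad c hc fun σ τ e => h (σ, τ) e)
  choose p hp hne using hall
  have hinj : ∀ c₁ (h₁ : c₁ ∈ S) c₂ (h₂ : c₂ ∈ S), p c₁ h₁ = p c₂ h₂ → c₁ = c₂ := by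
    intro c₁ h₁ c₂ h₂ e
    by_contra hc
    have e₁ := hp c₁ h₁
    have e₂ := hp c₂ h₂
    rw [← e] at e₂
    refine hne c₁ h₁ ?_
    generalize p c₁ h₁ = q at e₁ e₂
    simp only [map_add, Algebra.smul_def, map_mul, AlgHom.commutes] at e₁ e₂
    have hz : q.1 z = q.2 z := by
      have hd : (algebraMap K Ω c₁ - algebraMap K Ω c₂) * (q.1 z - q.2 z) = 0 := by
        linear_combination e₁ - e₂
      rcases mul_eq_zero.mp hd with h | h
      · exact absurd ((algebraMap K Ω).injective (sub_eq_zero.mp h)) hc
      · exact sub_eq_zero.mp h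
    have ht : q.1 t = q.2 t := by rw [hz] at e₁; exact add_left_cancel e₁
    refine AlgHom.ext_of_adjoin_eq_top hgen ?_
    rintro x (rfl | rfl)
    · exact hz
    · exact ht
  -- counting
  let m := Nat.card (L →ₐ[K] Ω)
  have hm : m ≤ n := card_algHom_le_finrank K L Ω
  have hsub : S.card ≤ (Finset.univ.filter
      (fun q : (L →ₐ[K] Ω) × (L →ₐ[K] Ω) => q.1 ≠ q.2)).card :=
    (Finset.card_attach (s := S)).symm.le.trans (Finset.card_le_card_of_injOn (fun c => p c.1 c.2)
      (fun c _ => by simp [hne c.1 c.2])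
      (fun c₁ _ c₂ _ e => Subtype.ext (hinj c₁.1 c₁.2 c₂.1 c₂.2 e)))
  have hlt : S.card < n ^ (4 * n) := by
    rcases le_or_gt n 1 with hn | hn
    · have : (Finset.univ.filter (fun q : (L →ₐ[K] Ω) × (L →ₐ[K] Ω) => q.1 ≠ q.2)) = ∅ := by
        haveI : Subsingleton (L →ₐ[K] Ω) :=
          Finite.card_le_one_iff_subsingleton.mp (hm.trans hn)
        ext q; simp [Subsingleton.elim q.1 q.2]
      rw [this, Finset.card_empty] at hsub
      interval_cases n <;> simp_all
    · calc S.card ≤ (Finset.univ : Finset ((L →ₐ[K] Ω) × (L →ₐ[K] Ω))).card :=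
            hsub.trans (Finset.card_le_univ _)
        _ = m ^ 2 := by
            rw [Finset.card_univ, Fintype.card_prod, ← Nat.card_eq_fintype_card, pow_two]
        _ ≤ n ^ 2 := Nat.pow_le_pow_left hm 2
        _ < n ^ (4 * n) := Nat.pow_lt_pow_right hn (by omega)
  exact absurd hS (not_le.mpr hlt)

end Groth.Agent.S13903
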