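import Groth.Statements.S13904
import Groth.Agent.L22.AffineDim
import Mathlib.RingTheory.KrullDimension.Polynomial
import Mathlib.RingTheory.KrullDimension.Field
import Mathlib.RingTheory.Ideal.GoingUp

set_option autoImplicit false
universe u
open CAlg

namespace Groth.Agent.S13904

/-- Let k be a field, A a commutative k-algebra and φ : k[x_1, …, x_r] → A a finite k-algebra map such
that A/p has Krull dimension r for every minimal prime p of A (an equidimensional affine scheme of
dimension r, finite over affine r-space). Then for every minimal prime p of A and every prime q of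
k[x_1, …, x_r] there is a prime P ⊇ p of A with φ⁻¹(P) = q: the finite map restricted to each
irreducible component of Spec A is surjective onto affine r-space. (The published statement is over
an algebraically closed field with φ a Noether normalisation; this row allows any field and any
finite k-algebra map φ.) -/
theorem result (k : Type u) [Field k] (r : ℕ)
    (A : Type u) [CommRing A] [Algebra k A] (φ : MvPolynomial (Fin r) k →ₐ[k] A)
    (hφ : φ.toRingHom.Finite)
    (hdim : ∀ p ∈ minimalPrimes A, ringKrullDim (A ⧸ p) = r)
    (p : Ideal A) (hp : p ∈ minimalPrimes A)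
    (q : Ideal (MvPolynomial (Fin r) k)) [q.IsPrime] :
    ∃ P : Ideal A, P.IsPrime ∧ p ≤ P ∧ P.comap φ.toRingHom = q := by
  haveI := hp.1.1
  letI := φ.toRingHom.toAlgebra
  haveI : Module.Finite (MvPolynomial (Fin r) k) A := hφ
  let P₀ := p.comap (algebraMap (MvPolynomial (Fin r) k) A)
  have hd : ringKrullDim (A ⧸ p) = ringKrullDim (MvPolynomial (Fin r) k ⧸ P₀) :=
    Groth.L22.AffineDim.ringKrullDim_eq_of_isIntegral Ideal.algebraMap_quotient_injective
  have hbot : P₀ = ⊥ := by
    by_contra hne
    obtain ⟨a, ha, ha0⟩ := Submodule.exists_mem_ne_zero_of_ne_bot hne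
    have h1 := ringKrullDim_succ_le_of_surjective (Ideal.Quotient.mk P₀) Ideal.Quotient.mk_surjective
      (mem_nonZeroDivisors_of_ne_zero ha0) (Ideal.Quotient.eq_zero_iff_mem.mpr ha)
    rw [← hd, hdim p hp, MvPolynomial.ringKrullDim_of_isNoetherianRing, ringKrullDim_eq_zero_of_field] at h1
    simp only [zero_add, Nat.card_fin] at h1
    have h2 : ((r + 1 : ℕ) : WithBot ℕ∞) ≤ ((r : ℕ) : WithBot ℕ∞) := by push_cast; exact h1
    have : r + 1 ≤ r := by exact_mod_cast h2
    omega
  obtain ⟨P, hP, hP1, hP2⟩ := Ideal.exists_ideal_over_prime_of_isIntegral (R := MvPolynomial (Fin r) k) q p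
    (hbot.le.trans bot_le)
  exact ⟨P, hP1, hP, hP2⟩

end Groth.Agent.S13904
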