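import Groth.Statements.S13905
import Mathlib.LinearAlgebra.FiniteDimensional.Lemmas
import Mathlib.LinearAlgebra.Dimension.Finite

set_option autoImplicit false
universe u
open ProjGeom

namespace Groth.Agent.S13905

open W4c1etcurveeff3b in
/-- Hyperplanes of projective n-space in general position, in linear-algebra form (V of dimension n + 1
over a field k, hyperplanes as n-dimensional subspaces, points as nonzero vectors): if S is a finite
set of hyperplanes in general position with at least n members and H is a hyperplane containing none
of the lines cut out by n members of S, then S with H added is again in general position. (The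
published statement is for hyperplanes of P^n_k and closed points; a closed point lying on n + 1
members is automatically one of the rational points cut out by n of them, so the condition on
nonzero vectors of V is the same condition.) -/
theorem result (k V : Type u) [Field k]
    [AddCommGroup V] [Module k V] [DecidableEq (Submodule k V)] (n : ℕ) (S : Finset (Submodule k V))
    (hS : InGeneralPosition k V n S) (hn : n ≤ S.card) (H : Submodule k V)
    (hH : Module.finrank k H = n)
    (havoid : ∀ T ⊆ S, T.card = n → ¬ (T.inf id ≤ H)) :
    InGeneralPosition k V n (insert H S) := by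
  obtain ⟨hV, hS1, hS2, hS3⟩ := hS
  haveI : FiniteDimensional k V := Module.finite_of_finrank_eq_succ hV
  by_cases hHS : H ∈ S
  · rw [Finset.insert_eq_of_mem hHS]
    exact ⟨hV, hS1, hS2, hS3⟩
  refine ⟨hV, fun H' hH' => ?_, fun T hT hcard => ?_, fun v hv T hT hvT => ?_⟩
  · rcases Finset.mem_insert.1 hH' with rfl | h
    · exact hH
    · exact hS1 H' h
  · by_cases hHT : H ∈ T
    · have hT' : T.erase H ⊆ S := fun x hx => by
        rcases Finset.mem_insert.1 (hT (Finset.mem_of_mem_erase hx)) with h | h
        · exact absurd h (Finset.ne_of_mem_erase hx)
        · exact h
      have hc : (T.erase H).card + 1 = T.card := Finset.card_erase_add_one hHT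
      obtain ⟨U, hTU, hUS, hUc⟩ := Finset.exists_subsuperset_card_eq hT' (show (T.erase H).card ≤ n by omega) hn
      have hW : Module.finrank k ↥((T.erase H).inf id) = n + 1 - (T.erase H).card :=
        hS2 _ hT' (by omega)
      have hnle : ¬ (T.erase H).inf id ≤ H := fun h => havoid U hUS hUc ((Finset.inf_mono hTU).trans h)
      have hsup : (T.erase H).inf id ⊔ H = ⊤ := by
        have hlt : H < (T.erase H).inf id ⊔ H :=
          lt_of_le_of_ne le_sup_right fun e => hnle (le_sup_left.trans e.ge)
        refine Submodule.eq_top_of_finrank_eq (le_antisymm (Submodule.finrank_le _) ?_)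
        have := Submodule.finrank_lt_finrank_of_lt hlt
        omega
      have h1 := Submodule.finrank_sup_add_finrank_inf_eq ((T.erase H).inf id) H
      rw [hsup, finrank_top, hV, hW, hH] at h1
      have e : T.inf id = (T.erase H).inf id ⊓ H := by
        conv_lhs => rw [← Finset.insert_erase hHT]
        rw [Finset.inf_insert, id, inf_comm]
      rw [e]
      omega
    · exact hS2 T (fun x hx => (Finset.mem_insert.1 (hT hx)).resolve_left fun e => hHT (e ▸ hx)) hcard
  · by_contra hlt
    push Not at hlt
    by_cases hHT : H ∈ T
    · have hT' : T.erase H ⊆ S := fun x hx => by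
        rcases Finset.mem_insert.1 (hT (Finset.mem_of_mem_erase hx)) with h | h
        · exact absurd h (Finset.ne_of_mem_erase hx)
        · exact h
      have hc : (T.erase H).card + 1 = T.card := Finset.card_erase_add_one hHT
      have hle := hS3 v hv _ hT' (fun x hx => hvT x (Finset.mem_of_mem_erase hx))
      have hW : Module.finrank k ↥((T.erase H).inf id) = n + 1 - (T.erase H).card := hS2 _ hT' hle
      have hvW : Submodule.span k {v} ≤ (T.erase H).inf id := by
        rw [Submodule.span_singleton_le_iff_mem, Submodule.mem_finsetInf]
        exact fun x hx => hvT x (Finset.mem_of_mem_erase hx)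
      have heq : Submodule.span k {v} = (T.erase H).inf id :=
        Submodule.eq_of_le_of_finrank_le hvW (by rw [finrank_span_singleton hv]; omega)
      refine havoid _ hT' (by omega) ?_
      rw [← heq, Submodule.span_singleton_le_iff_mem]
      exact hvT H hHT
    · have := hS3 v hv T (fun x hx => (Finset.mem_insert.1 (hT hx)).resolve_left fun e => hHT (e ▸ hx)) hvT
      omega


end Groth.Agent.S13905
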