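import Groth.Statements.S13907
import Mathlib.AlgebraicGeometry.ProjectiveSpectrum.Basic
import Mathlib.AlgebraicGeometry.Properties
import Mathlib.RingTheory.MvPolynomial.Ideal
import Mathlib.RingTheory.Ideal.KrullsHeightTheorem
import Mathlib.RingTheory.GradedAlgebra.Radical

set_option autoImplicit false
universe u
open ProjGeom

namespace Groth.Agent.S13907

open MvPolynomial AlgebraicGeometry

variable {k : Type u} [Field k] {n : ℕ}

theorem hom_zero_eq_C (z : MvPolynomial (Fin (n + 1)) k) (hz : z ∈ CohB1.polyGrading n k 0) :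
    z = C (constantCoeff z) := by
  classical
  refine MvPolynomial.ext _ _ fun m => ?_
  rw [coeff_C]
  split_ifs with h
  · rw [← h, constantCoeff_eq]
  · exact (hz : z.IsHomogeneous 0).coeff_eq_zero fun h' => h ((Finsupp.degree_eq_zero_iff m).mp h').symm

/-- The irrelevant ideal is the maximal ideal of the origin. -/
theorem irrelevant_eq : (HomogeneousIdeal.irrelevant (CohB1.polyGrading n k)).toIdeal =
    RingHom.ker (constantCoeff : MvPolynomial (Fin (n + 1)) k →+* k) := by
  haveI : (RingHom.ker (constantCoeff : MvPolynomial (Fin (n + 1)) k →+* k)).IsMaximal :=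
    RingHom.ker_isMaximal_of_surjective _ fun c => ⟨C c, constantCoeff_C _ c⟩
  refine (Ideal.IsMaximal.eq_of_le inferInstance ?_ fun z hz => ?_).symm
  · intro h
    have h1 := (Ideal.eq_top_iff_one _).mp h
    erw [HomogeneousIdeal.mem_irrelevant_iff, GradedRing.proj_apply,
      DirectSum.decompose_of_mem_same _ (SetLike.one_mem_graded _)] at h1
    exact one_ne_zero h1
  · rw [RingHom.mem_ker] at hz
    erw [HomogeneousIdeal.mem_irrelevant_iff, GradedRing.proj_apply]
    have h0 := hom_zero_eq_C _ (SetLike.coe_mem (DirectSum.decompose (CohB1.polyGrading n k) z 0))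
    rw [h0]
    have h1 : constantCoeff ((DirectSum.decompose (CohB1.polyGrading n k) z 0 : CohB1.polyGrading n k 0) :
        MvPolynomial (Fin (n + 1)) k) = 0 := by
      erw [MvPolynomial.decomposition.decompose'_apply]
      rw [constantCoeff_eq, coeff_homogeneousComponent, if_pos (map_zero _)]
      exact hz
    rw [h1, map_zero]

theorem le_irrelevant (x : ProjectiveSpectrum (CohB1.polyGrading n k)) :
    x.asHomogeneousIdeal.toIdeal ≤ (HomogeneousIdeal.irrelevant (CohB1.polyGrading n k)).toIdeal := by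
  intro z hz
  erw [HomogeneousIdeal.mem_irrelevant_iff, GradedRing.proj_apply]
  by_contra hne
  have h0 := hom_zero_eq_C _ (SetLike.coe_mem (DirectSum.decompose (CohB1.polyGrading n k) z 0))
  have hmem := x.asHomogeneousIdeal.isHomogeneous 0 hz
  rw [h0] at hmem hne
  refine x.isPrime.ne_top (Ideal.eq_top_of_isUnit_mem _ hmem ((isUnit_iff_ne_zero.mpr fun h => hne ?_).map C))
  rw [h, map_zero]

/-- A closed set with a proper specialization meets every coordinate hyperplane. -/
theorem exists_mem_hyperplane {D : Set (ProjectiveSpectrum (CohB1.polyGrading n k))} (hD : IsClosed D)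
    {a b : ProjectiveSpectrum (CohB1.polyGrading n k)} (hb : b ∈ D) (hab : b ⤳ a) (hne : a ≠ b)
    (j : Fin (n + 1)) :
    (D ∩ ProjectiveSpectrum.zeroLocus (CohB1.polyGrading n k)
      {(MvPolynomial.X j : MvPolynomial (Fin (n + 1)) k)}).Nonempty := by
  classical
  set g : MvPolynomial (Fin (n + 1)) k := MvPolynomial.X j
  set M := (HomogeneousIdeal.irrelevant (CohB1.polyGrading n k)).toIdeal
  haveI hMmax : M.IsMaximal := by
    rw [show M = _ from irrelevant_eq]
    exact RingHom.ker_isMaximal_of_surjective _ fun c => ⟨C c, constantCoeff_C _ c⟩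
  have hgM : g ∈ M := by rw [show M = _ from irrelevant_eq, RingHom.mem_ker, constantCoeff_X]
  have hle : b.asHomogeneousIdeal ≤ a.asHomogeneousIdeal :=
    (ProjectiveSpectrum.le_iff_mem_closure _ _ _).mpr hab.mem_closure
  set I : Ideal (MvPolynomial (Fin (n + 1)) k) := b.asHomogeneousIdeal.toIdeal ⊔ Ideal.span {g}
  have hI : I.IsHomogeneous (CohB1.polyGrading n k) :=
    b.asHomogeneousIdeal.isHomogeneous.sup (Ideal.homogeneous_span _ _ (by
      rintro _ rfl; exact ⟨1, MvPolynomial.isHomogeneous_X k j⟩))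
  have hIM : I ≤ M := sup_le (le_irrelevant b) ((Ideal.span_singleton_le_iff_mem _).mpr hgM)
  by_contra hcon
  have key : ∀ P : Ideal (MvPolynomial (Fin (n + 1)) k), P.IsPrime → I ≤ P → M ≤ P := by
    intro P hP hIP
    have hcore : I ≤ (P.homogeneousCore (CohB1.polyGrading n k)).toIdeal := by
      rw [← hI.toIdeal_homogeneousCore_eq_self]
      exact Ideal.homogeneousCore_mono _ hIP
    by_contra hrel
    let y : ProjectiveSpectrum (CohB1.polyGrading n k) := ⟨P.homogeneousCore (CohB1.polyGrading n k),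
      hP.homogeneousCore, fun h => hrel ((show M ≤ _ from h).trans (P.toIdeal_homogeneousCore_le _))⟩
    refine hcon ⟨y, ?_, ?_⟩
    · have hby : b.asHomogeneousIdeal ≤ y.asHomogeneousIdeal := fun z hz => hcore (Ideal.mem_sup_left hz)
      exact (hD.closure_subset_iff.mpr (Set.singleton_subset_iff.mpr hb))
        ((ProjectiveSpectrum.le_iff_mem_closure _ _ _).mp hby)
    · rintro _ rfl
      exact hcore (Ideal.mem_sup_right (Ideal.mem_span_singleton_self _))
  haveI := b.isPrime
  let π := Ideal.Quotient.mk b.asHomogeneousIdeal.toIdeal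
  have hker : RingHom.ker π = b.asHomogeneousIdeal.toIdeal := Ideal.mk_ker
  have hbM : RingHom.ker π ≤ M := hker.le.trans (le_irrelevant b)
  have hMbar : (M.map π).height ≤ 1 := by
    haveI : (M.map π).IsPrime := Ideal.map_isPrime_of_surjective Ideal.Quotient.mk_surjective hbM
    refine Ideal.height_le_one_of_isPrincipal_of_mem_minimalPrimes (Ideal.span {π g}) _
      ⟨⟨inferInstance, (Ideal.span_singleton_le_iff_mem _).mpr (Ideal.mem_map_of_mem π hgM)⟩, fun Q hQ _ => ?_⟩
    haveI := hQ.1
    refine Ideal.map_le_iff_le_comap.mpr (key _ (Ideal.IsPrime.comap _) (sup_le ?_ ?_))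
    · exact hker.ge.trans (Ideal.comap_mono bot_le)
    · exact (Ideal.span_singleton_le_iff_mem _).mpr (hQ.2 (Ideal.mem_span_singleton_self _))
  haveI := a.isPrime
  have hba : RingHom.ker π ≤ a.asHomogeneousIdeal.toIdeal := hker.le.trans hle
  haveI : (a.asHomogeneousIdeal.toIdeal.map π).IsPrime :=
    Ideal.map_isPrime_of_surjective Ideal.Quotient.mk_surjective hba
  haveI : (M.map π).IsPrime := Ideal.map_isPrime_of_surjective Ideal.Quotient.mk_surjective hbM
  have hback : ∀ {P : Ideal (MvPolynomial (Fin (n + 1)) k)}, RingHom.ker π ≤ P → (P.map π).comap π = P :=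
    fun {P} hP => by
      rw [Ideal.comap_map_of_surjective _ Ideal.Quotient.mk_surjective, ← RingHom.ker_eq_comap_bot,
        sup_eq_left.mpr hP]
  have h1 : (⊥ : Ideal _) < a.asHomogeneousIdeal.toIdeal.map π := by
    refine bot_lt_iff_ne_bot.mpr fun h => hne ?_
    have h' := hback hba
    rw [h, ← RingHom.ker_eq_comap_bot, hker] at h'
    exact ProjectiveSpectrum.ext (HomogeneousIdeal.toIdeal_injective h'.symm)
  have h2 : a.asHomogeneousIdeal.toIdeal.map π < M.map π := by
    refine lt_of_le_of_ne (Ideal.map_mono (le_irrelevant a)) fun h => a.not_irrelevant_le ?_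
    have h' := congrArg (Ideal.comap π) h
    rw [hback hba, hback hbM] at h'
    exact h'.ge
  have e1 := Ideal.height_strict_mono_of_isPrime_of_isPrime h1
  have e2 := Ideal.height_strict_mono_of_isPrime_of_isPrime h2
  have e3 := Order.add_one_le_of_lt (zero_le.trans_lt e1)
  rw [zero_add] at e3
  exact absurd (hMbar.trans e3) (not_le.mpr e2)

/-- A closed set of positive dimension has a proper specialization. -/
theorem exists_specializes {D : Set (ProjectiveSpectrum (CohB1.polyGrading n k))} (hD : IsClosed D)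
    (hdim : ¬ topologicalKrullDim ↥D ≤ 0) : ∃ a b, b ∈ D ∧ b ⤳ a ∧ a ≠ b := by
  haveI : QuasiSober (ProjectiveSpectrum (CohB1.polyGrading n k)) :=
    (inferInstance : QuasiSober (Proj (CohB1.polyGrading n k)))
  haveI : QuasiSober ↥D := hD.isClosedEmbedding_subtypeVal.quasiSober
  rw [topologicalKrullDim, Order.krullDim_nonpos_iff_forall_isMax] at hdim
  simp only [IsMax, not_forall] at hdim
  obtain ⟨Z, W, hZW, hWZ⟩ := hdim
  obtain ⟨a, ha⟩ := QuasiSober.sober Z.isIrreducible Z.isClosed
  obtain ⟨b, hb⟩ := QuasiSober.sober W.isIrreducible W.isClosed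
  have hab : b ⤳ a := hb.specializes (hZW ha.mem)
  refine ⟨a.1, b.1, b.2, hab.map continuous_subtype_val, fun h => hWZ ?_⟩
  obtain rfl : a = b := Subtype.ext h
  intro z hz
  have h1 : z ∈ (W : Set ↥D) := hz
  rw [← hb.def] at h1
  show z ∈ (Z : Set ↥D)
  rw [← ha.def]
  exact h1


/-- Over an algebraically closed field k, let C be a nonempty irreducible closed subset of the
underlying space of projective n-space with homogeneous coordinates x_0, …, x_n, and for i ≤ n let
L_i be the linear subspace where x_1, …, x_i vanish. Then there is an index i ≤ n with C ∩ L_i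
nonempty and of topological Krull dimension zero. -/
theorem result (k : Type u) [Field k]
    [IsAlgClosed k] (n : ℕ) (C : Set (ProjectiveSpectrum (CohB1.polyGrading n k)))
    (hC : IsClosed C) (hirr : IsIrreducible C) :
    ∃ i : ℕ, i ≤ n ∧
      (C ∩ ProjectiveSpectrum.zeroLocus (CohB1.polyGrading n k)
          ((fun j : Fin (n + 1) => (MvPolynomial.X j : MvPolynomial (Fin (n + 1)) k)) ''
            {j : Fin (n + 1) | 1 ≤ j.val ∧ j.val ≤ i})).Nonempty ∧
      topologicalKrullDim ↥(C ∩ ProjectiveSpectrum.zeroLocus (CohB1.polyGrading n k)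
          ((fun j : Fin (n + 1) => (MvPolynomial.X j : MvPolynomial (Fin (n + 1)) k)) ''
            {j : Fin (n + 1) | 1 ≤ j.val ∧ j.val ≤ i})) = 0 := by
  classical
  let L : ℕ → Set (ProjectiveSpectrum (CohB1.polyGrading n k)) := fun i =>
    C ∩ ProjectiveSpectrum.zeroLocus (CohB1.polyGrading n k)
      ((fun j : Fin (n + 1) => (MvPolynomial.X j : MvPolynomial (Fin (n + 1)) k)) ''
        {j : Fin (n + 1) | 1 ≤ j.val ∧ j.val ≤ i})
  have hcl : ∀ i, IsClosed (L i) := fun i => hC.inter (ProjectiveSpectrum.isClosed_zeroLocus _ _)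
  have hn : topologicalKrullDim ↥(L n) ≤ 0 := by
    by_contra hlt
    obtain ⟨a, b, hb, hab, hne⟩ := exists_specializes (hcl n) hlt
    obtain ⟨y, ⟨-, hy⟩, hy0⟩ := exists_mem_hyperplane (hcl n) hb hab hne 0
    refine y.not_irrelevant_le ?_
    intro z hz
    have hz' : z ∈ MvPolynomial.idealOfVars (Fin (n + 1)) k := by
      have h1 : z ∈ RingHom.ker (constantCoeff : MvPolynomial (Fin (n + 1)) k →+* k) := (irrelevant_eq (k := k) (n := n)) ▸ hz
      rw [← pow_one (MvPolynomial.idealOfVars _ _), mem_pow_idealOfVars_iff]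
      intro x hx
      rcases Nat.eq_zero_or_pos x.degree with h | h
      · obtain rfl : x = 0 := (Finsupp.degree_eq_zero_iff x).mp h
        exact absurd h1 (mem_support_iff.mp hx)
      · exact h
    refine Ideal.span_le.mpr ?_ hz'
    rintro _ ⟨j, rfl⟩
    by_cases hj : j = 0
    · exact hj ▸ hy0 rfl
    · exact hy ⟨j, ⟨Nat.pos_of_ne_zero fun h => hj (Fin.ext h), Nat.le_of_lt_succ j.isLt⟩, rfl⟩
  have hex : ∃ i, topologicalKrullDim ↥(L i) ≤ 0 := ⟨n, hn⟩
  have hle : Nat.find hex ≤ n := Nat.find_le hn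
  have hne : (L (Nat.find hex)).Nonempty := by
    rcases Nat.eq_zero_or_pos (Nat.find hex) with h | h
    · rw [h]
      obtain ⟨x, hx⟩ := hirr.nonempty
      exact ⟨x, hx, by rintro _ ⟨j, ⟨h1, h2⟩, rfl⟩; omega⟩
    · obtain ⟨m, hm⟩ := Nat.exists_eq_add_of_le h
      have hlt : ¬ topologicalKrullDim ↥(L m) ≤ 0 := Nat.find_min hex (by omega)
      obtain ⟨a, b, hb, hab, hne⟩ := exists_specializes (hcl m) hlt
      obtain ⟨y, ⟨hyC, hy⟩, hy0⟩ := exists_mem_hyperplane (hcl m) hb hab hne ⟨m + 1, by omega⟩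
      refine ⟨y, hyC, ?_⟩
      rintro _ ⟨j, ⟨h1, h2⟩, rfl⟩
      by_cases hj : j.val ≤ m
      · exact hy ⟨j, ⟨h1, hj⟩, rfl⟩
      · rw [show j = (⟨m + 1, by omega⟩ : Fin (n + 1)) from Fin.ext (show j.val = m + 1 by omega)]
        exact hy0 rfl
  refine ⟨Nat.find hex, hle, hne, le_antisymm (Nat.find_spec hex) ?_⟩
  haveI : Nonempty ↥(L (Nat.find hex)) := hne.to_subtype
  haveI : Nonempty (TopologicalSpace.IrreducibleCloseds ↥(L (Nat.find hex))) :=
    ⟨⟨closure {Classical.arbitrary _}, isIrreducible_singleton.closure, isClosed_closure⟩⟩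
  exact Order.krullDim_nonneg

end Groth.Agent.S13907
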