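import Groth.Statements.S13910
import Groth.Agent.S13909
import Groth.Agent.L00.RDerLES
import Groth.Agent.L17.ToAbRpush

set_option autoImplicit false
set_option backward.isDefEq.respectTransparency false
set_option backward.isDefEq.respectTransparency.types false
universe u
open CategoryTheory CategoryTheory.Limits AlgebraicGeometry
open BlowUp
attribute [local instance] HasDerivedCategory.standard

namespace Groth.Agent.S13910

/-- For the blowing up σ : X ⟶ Y of a smooth separated finite-type scheme over a characteristic-zero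
algebraically closed field along a closed subscheme regularly immersed of constant codimension d ≥
2, and a short exact sequence 0 ⟶ E₁ ⟶ E₀ ⟶ F ⟶ 0 of O_Y-modules with E₀, E₁ finite locally free and
F quasi-coherent of finite type whose pull-back along σ is again short exact, the unit F ⟶ σ_* σ^* F
is an isomorphism and R^p σ_*(σ^* F) = 0 for all p ≥ 1 (underlying abelian sheaves). -/
theorem result (k : Type u) [Field k] [IsAlgClosed k] [CharZero k]
    {S Y X : Scheme.{u}} [Y.Over (Spec (CommRingCat.of k))] [Smooth (Y ↘ Spec (CommRingCat.of k))]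
    [IsSeparated (Y ↘ Spec (CommRingCat.of k))] [QuasiCompact (Y ↘ Spec (CommRingCat.of k))]
    (i : S ⟶ Y) [IsClosedImmersion i] (d : ℕ) (hd : 2 ≤ d) (hi : RegImm.IsRegularImmersionOfCodim .regular d i)
    (σ : X ⟶ Y) (hσ : BlowUp.IsBlowUp σ i.ker)
    (T : ShortComplex Y.Modules) (hT : T.ShortExact) (h₁ : FlatMod.IsFinLocFree T.X₁) (h₀ : FlatMod.IsFinLocFree T.X₂)
    (hF : Coh.IsCoh T.X₃) (hpull : (T.map (Scheme.Modules.pullback σ)).ShortExact) :
    IsIso ((Scheme.Modules.pullbackPushforwardAdjunction σ).unit.app T.X₃) ∧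
    ∀ p : ℕ, 1 ≤ p → IsZero ((Coh.RpushAb σ p).obj (Coh.toAb ((Scheme.Modules.pullback σ).obj T.X₃))) := by
  obtain ⟨hu₁, hp₁⟩ := Groth.Agent.S13909.result k i d hd hi σ hσ T.X₁ h₁
  obtain ⟨hu₂, hp₂⟩ := Groth.Agent.S13909.result k i d hd hi σ hσ T.X₂ h₀
  let Φ := Scheme.Modules.pullback σ
  let P := Scheme.Modules.pushforward σ
  let G := Groth.L17.toAbShF X
  have hA : ((T.map Φ).map G).ShortExact := hpull.map_of_exact G
  let S := Coh.pushAb σ
  haveI : S.Additive := inferInstance
  refine ⟨?_, fun p hp => ?_⟩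
  · have hepi : Epi ((S.rightDerived 0).map ((T.map Φ).map G).g) :=
      Groth.L00.RDerLES.epi_map_g S hA 0 (hp₁ 1 le_rfl)
    haveI : PreservesFiniteLimits S :=
      haveI := (TopCat.Sheaf.pullbackPushforwardAdjunction AddCommGrpCat.{u} σ.base).rightAdjoint_preservesLimits
      inferInstance
    have h0 : Epi (S.map ((T.map Φ).map G).g) := by
      have := ((MorphismProperty.epimorphisms _).arrow_mk_iso_iff
        (Arrow.isoMk (S.rightDerivedZeroIsoSelf.app _) (S.rightDerivedZeroIsoSelf.app _)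
          (S.rightDerivedZeroIsoSelf.hom.naturality ((T.map Φ).map G).g).symm)).1 hepi
      exact this
    haveI he : Epi (P.map (Φ.map T.g)) := by
      refine (SheafOfModules.toSheaf.{u} Y.ringCatSheaf).epi_of_epi_map ?_
      exact h0
    haveI := hpull.mono_f
    haveI : Mono (T.map Φ).f := hpull.mono_f
    haveI : PreservesLimitsOfSize.{0, 0} P :=
      (Scheme.Modules.pullbackPushforwardAdjunction σ).rightAdjoint_preservesLimits
    haveI : Mono (T.map (Φ ⋙ P)).f := inferInstanceAs (Mono (P.map (T.map Φ).f))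
    haveI : Epi (T.map (Φ ⋙ P)).g := he
    have hT' : (T.map (Φ ⋙ P)).ShortExact :=
      { exact := (T.map (Φ ⋙ P)).exact_of_f_is_kernel (by
          exact KernelFork.mapIsLimit _ (hpull.fIsKernel) P) }
    let η := (Scheme.Modules.pullbackPushforwardAdjunction σ).unit
    let ψ : T ⟶ T.map (Φ ⋙ P) :=
      { τ₁ := η.app T.X₁, τ₂ := η.app T.X₂, τ₃ := η.app T.X₃
        comm₁₂ := (η.naturality T.f).symm
        comm₂₃ := (η.naturality T.g).symm }
    haveI : IsIso ψ.τ₁ := hu₁
    haveI : IsIso ψ.τ₂ := hu₂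
    haveI := hT.epi_g
    haveI := hT'.epi_g
    obtain ⟨v, hv⟩ : ∃ v, (T.map (Φ ⋙ P)).g ≫ v = inv ψ.τ₂ ≫ T.g :=
      ⟨_, (CokernelCofork.IsColimit.desc' hT'.gIsCokernel (inv ψ.τ₂ ≫ T.g)
        (by rw [← cancel_epi ψ.τ₁, comp_zero, ψ.comm₁₂_assoc, IsIso.hom_inv_id_assoc, T.zero])).2⟩
    refine ⟨v, ?_, ?_⟩
    · rw [← cancel_epi T.g]
      change T.g ≫ ψ.τ₃ ≫ v = _
      rw [← ψ.comm₂₃_assoc, hv, IsIso.hom_inv_id_assoc]
      exact (Category.comp_id _).symm
    · rw [← cancel_epi (T.map (Φ ⋙ P)).g]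
      change (T.map (Φ ⋙ P)).g ≫ v ≫ ψ.τ₃ = _
      rw [reassoc_of% hv, ← ψ.comm₂₃, IsIso.inv_hom_id_assoc]
      exact (Category.comp_id _).symm
  · haveI := Groth.L00.RDerLES.additive S p
    have hepi : Epi ((S.rightDerived p).map ((T.map Φ).map G).g) :=
      Groth.L00.RDerLES.epi_map_g S hA p (hp₁ (p + 1) (by omega))
    rw [IsZero.iff_id_eq_zero]
    haveI := hepi
    exact (cancel_epi ((S.rightDerived p).map ((T.map Φ).map G).g)).1 ((hp₂ p hp).eq_of_src _ _)

end Groth.Agent.S13910
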