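import Groth.Statements.S13911
import Mathlib.LinearAlgebra.QuadraticForm.Basic
import Mathlib.LinearAlgebra.Matrix.BilinearForm
import Mathlib.LinearAlgebra.Matrix.Rank
import Mathlib.LinearAlgebra.Matrix.ToLinearEquiv
import Mathlib.RingTheory.MvPolynomial.Homogeneous
import Mathlib.Algebra.MvPolynomial.PDeriv
import Mathlib.Algebra.MvPolynomial.NoZeroDivisors
import Mathlib.FieldTheory.IsAlgClosed.Basic
import Mathlib.LinearAlgebra.Matrix.Diagonal
import Mathlib.Tactic.Ring
import Mathlib.Tactic.LinearCombination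
import Mathlib.Tactic.FinCases

set_option autoImplicit false
universe u
open PlaneConic

namespace Groth.Agent.S13911

open scoped Matrix

/-- linear form -/
noncomputable def lin {k : Type u} [CommRing k] (a : Fin 3 → k) : MvPolynomial (Fin 3) k :=
  ∑ i : Fin 3, a i • MvPolynomial.X i

theorem pderiv_lin {k : Type u} [CommRing k] (a : Fin 3 → k) (j : Fin 3) :
    MvPolynomial.pderiv j (lin a) = MvPolynomial.C (a j) := by
  simp [lin, MvPolynomial.pderiv_X, Pi.single_apply, MvPolynomial.smul_eq_C_mul]

theorem eval_lin {k : Type u} [CommRing k] (a u : Fin 3 → k) :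
    MvPolynomial.eval u (lin a) = a ⬝ᵥ u := by
  simp [lin, dotProduct]

theorem constantCoeff_lin {k : Type u} [CommRing k] (a : Fin 3 → k) :
    MvPolynomial.constantCoeff (lin a) = 0 := by
  simp [lin]

theorem exists_lin {k : Type u} [Field k] (g : MvPolynomial (Fin 3) k) (hg : g.totalDegree ≤ 1) :
    ∃ (c : k) (a : Fin 3 → k), g = MvPolynomial.C c + lin a := by
  have h := (MvPolynomial.sum_homogeneousComponent g).symm
  have h' : g = MvPolynomial.homogeneousComponent 0 g + MvPolynomial.homogeneousComponent 1 g := by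
    rcases Nat.le_one_iff_eq_zero_or_eq_one.1 hg with h0 | h0
    · rw [h0] at h
      rw [MvPolynomial.homogeneousComponent_eq_zero 1 g (by omega), add_zero]
      simpa using h
    · rw [h0] at h
      simpa [Finset.sum_range_succ] using h
  have h1 := MvPolynomial.homogeneousComponent_mem (n := 1) (φ := g)
  rw [MvPolynomial.homogeneousSubmodule_one_eq_span_X, Submodule.mem_span_range_iff_exists_fun] at h1
  obtain ⟨a, ha⟩ := h1
  exact ⟨g.coeff 0, a, by rw [lin, ha, ← MvPolynomial.homogeneousComponent_zero]; exact h'⟩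


/-- For an algebraically closed field k of characteristic zero, a nonzero symmetric 3 × 3 matrix Q over
k and the ternary quadratic form f = Σ Q_ij X_i X_j in k[X_0, X_1, X_2] (the equation of a plane
conic): (1) f is irreducible iff det Q ≠ 0; (2) the conic has a singular point, that is a nonzero
vector at which all partial derivatives of f vanish, iff det Q = 0 (so smooth conics are exactly the
irreducible ones); (3) f is the product of two linearly independent linear forms (two distinct
lines) iff rank Q = 2; (4) f is the square of a linear form (a double line) iff rank Q = 1. -/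
theorem result (k : Type u) [Field k] [IsAlgClosed k] [CharZero k]
    (Q : Matrix (Fin 3) (Fin 3) k) (hQ : Q.IsSymm) (hQ0 : Q ≠ 0) (f : MvPolynomial (Fin 3) k)
    (hf : f = ∑ i : Fin 3, ∑ j : Fin 3, Q i j • (MvPolynomial.X i * MvPolynomial.X j)) :
    (Irreducible f ↔ Q.det ≠ 0) ∧
    ((∃ u : Fin 3 → k, u ≠ 0 ∧ ∀ i : Fin 3, MvPolynomial.eval u (MvPolynomial.pderiv i f) = 0) ↔ Q.det = 0) ∧
    ((∃ a b : Fin 3 → k, LinearIndependent k ![a, b] ∧
        f = (∑ i : Fin 3, a i • MvPolynomial.X i) * (∑ i : Fin 3, b i • MvPolynomial.X i)) ↔ Q.rank = 2) ∧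
    ((∃ a : Fin 3 → k, f = (∑ i : Fin 3, a i • MvPolynomial.X i) ^ 2) ↔ Q.rank = 1) := by
  classical
  haveI : Invertible (2 : k) := invertibleOfNonzero two_ne_zero
  -- derivatives of `f`
  have hgrad : ∀ (u : Fin 3 → k) (i : Fin 3), MvPolynomial.eval u (MvPolynomial.pderiv i f) = 2 * (Q *ᵥ u) i := by
    intro u i
    have hs : ∀ a b, Q a b = Q b a := fun a b => (hQ.apply a b).symm
    rw [hf]
    fin_cases i <;> simp [Fin.sum_univ_three, MvPolynomial.pderiv_X, Pi.single_apply, Matrix.mulVec, dotProduct] <;>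
      simp only [hs 1 0, hs 2 0, hs 2 1] <;> ring
  -- diagonalisation
  obtain ⟨v, hv⟩ := LinearMap.BilinForm.exists_orthogonal_basis (B := Matrix.toBilin' Q) (by
    refine ⟨fun x y => ?_⟩
    rw [RingHom.id_apply, Matrix.toBilin'_apply', Matrix.toBilin'_apply', Matrix.dotProduct_mulVec,
      ← Matrix.mulVec_transpose, hQ.eq, dotProduct_comm])
  let v' := v.reindex (finCongr (Module.finrank_fin_fun k))
  set L := v'.toMatrix (Pi.basisFun k (Fin 3)) with hL
  let w : Fin 3 → k := fun l => Matrix.toBilin' Q (v' l) (v' l)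
  have hQL : Q = L.transpose * Matrix.diagonal w * L := by
    have h1 : LinearMap.BilinForm.toMatrix v' (Matrix.toBilin' Q) = Matrix.diagonal w := by
      ext i j
      rw [LinearMap.BilinForm.toMatrix_apply]
      by_cases hij : i = j
      · subst hij; rw [Matrix.diagonal_apply_eq]
      · rw [Matrix.diagonal_apply_ne _ hij]
        simp only [v', Module.Basis.coe_reindex, Function.comp_apply]
        exact hv (fun h => hij ((finCongr (Module.finrank_fin_fun k)).symm.injective h))
    rw [← h1, hL, LinearMap.BilinForm.toMatrix_mul_basis_toMatrix]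
    ext i j
    simp [LinearMap.BilinForm.toMatrix_apply, Matrix.toBilin'_single]
  have hLdet : IsUnit L.det := by
    letI := v'.invertibleToMatrix (Pi.basisFun k (Fin 3))
    exact Matrix.isUnit_det_of_invertible L
  have hfw : f = ∑ l, MvPolynomial.C (w l) * lin (L l) * lin (L l) := by
    rw [hf, hQL]
    simp only [lin, Matrix.mul_apply, Matrix.transpose_apply, Matrix.diagonal_apply, mul_ite, mul_zero,
      Finset.sum_ite_eq', Finset.mem_univ, if_true, MvPolynomial.smul_eq_C_mul, map_sum, map_mul, map_add,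
      Fin.sum_univ_three]
    ring
  have hrank : Q.rank = Fintype.card {i // w i ≠ 0} := by
    rw [hQL, Matrix.rank_mul_eq_left_of_isUnit_det _ _ hLdet,
      Matrix.rank_mul_eq_right_of_isUnit_det _ _ (by rwa [Matrix.det_transpose]), Matrix.rank_diagonal]
  have hdet : Q.det = 0 ↔ ∃ l, w l = 0 := by
    rw [hQL, Matrix.det_mul, Matrix.det_mul, Matrix.det_transpose, Matrix.det_diagonal]
    simp [mul_eq_zero, hLdet.ne_zero, Finset.prod_eq_zero_iff]
  have hindL : LinearIndependent k L.row := Matrix.linearIndependent_rows_iff_isUnit.2 ((Matrix.isUnit_iff_isUnit_det L).2 hLdet)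
  -- rank one
  have h4' : Q.rank = 1 → ∃ a : Fin 3 → k, f = lin a ^ 2 := by
    intro h
    rw [hrank, Fintype.card_eq_one_iff] at h
    obtain ⟨⟨l, hl⟩, huniq⟩ := h
    obtain ⟨s, hs⟩ := IsAlgClosed.exists_eq_mul_self (w l)
    refine ⟨s • L l, ?_⟩
    rw [hfw, Finset.sum_eq_single l (fun m _ hm => ?_) (fun h => absurd (Finset.mem_univ l) h)]
    · simp only [lin, hs, Pi.smul_apply, smul_eq_mul, MvPolynomial.smul_eq_C_mul, map_mul, Fin.sum_univ_three]; ring
    · have : w m = 0 := by
        by_contra hne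
        exact hm (congrArg Subtype.val (huniq ⟨m, hne⟩))
      rw [this, map_zero, zero_mul, zero_mul]
  -- rank two
  have h3' : Q.rank = 2 → ∃ a b : Fin 3 → k, LinearIndependent k ![a, b] ∧ f = lin a * lin b := by
    intro h
    rw [hrank, Fintype.card_subtype, Finset.card_eq_two] at h
    obtain ⟨l, m, hlm, hset⟩ := h
    have hw : ∀ t, w t ≠ 0 ↔ t = l ∨ t = m := fun t => by
      simpa using Finset.ext_iff.1 hset t
    obtain ⟨s, hs⟩ := IsAlgClosed.exists_eq_mul_self (w l)
    obtain ⟨t, ht⟩ := IsAlgClosed.exists_eq_mul_self (-w m)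
    have hs0 : s ≠ 0 := fun h => (hw l).2 (Or.inl rfl) (by rw [hs, h, mul_zero])
    have ht0 : t ≠ 0 := fun h => (hw m).2 (Or.inr rfl) (by rw [h, mul_zero, neg_eq_zero] at ht; exact ht)
    refine ⟨s • L l + t • L m, s • L l - t • L m, LinearIndependent.pair_iff.2 fun x y hxy => ?_, ?_⟩
    · have h2 : LinearIndependent k ![L l, L m] := by
        have := hindL.comp ![l, m] (by intro a b hab; fin_cases a <;> fin_cases b <;> simp_all [hlm.symm])
        convert this using 1
        ext a : 1
        fin_cases a <;> rfl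
      obtain ⟨hx, hy⟩ := LinearIndependent.pair_iff.1 h2 ((x + y) * s) ((x - y) * t) (by rw [← hxy]; module)
      have hx' := (mul_eq_zero.1 hx).resolve_right hs0
      have hy' := (mul_eq_zero.1 hy).resolve_right ht0
      exact ⟨mul_left_cancel₀ (two_ne_zero (α := k)) (by linear_combination hx' + hy'),
        mul_left_cancel₀ (two_ne_zero (α := k)) (by linear_combination hx' - hy')⟩
    · rw [hfw, Finset.sum_eq_add l m hlm (fun c _ hc => ?_) (fun h => absurd (Finset.mem_univ l) h) (fun h => absurd (Finset.mem_univ m) h)]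
      · have htm : (MvPolynomial.C (w m) : MvPolynomial (Fin 3) k) = -(MvPolynomial.C t * MvPolynomial.C t) := by
          rw [← map_mul, ← ht, map_neg, neg_neg]
        simp only [lin, hs, htm, Pi.add_apply, Pi.sub_apply, Pi.smul_apply, smul_eq_mul, MvPolynomial.smul_eq_C_mul,
          map_mul, map_add, map_sub, Fin.sum_univ_three]
        ring
      · have : w c = 0 := by
          by_contra hne
          exact ((hw c).1 hne).elim hc.1 hc.2
        rw [this, map_zero, zero_mul, zero_mul]
  -- products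
  have hprod : ∀ (g0 h0 : k) (a b : Fin 3 → k), f = (MvPolynomial.C g0 + lin a) * (MvPolynomial.C h0 + lin b) →
      ∀ (u : Fin 3 → k) (i : Fin 3), 2 * (Q *ᵥ u) i = a i * (h0 + b ⬝ᵥ u) + (g0 + a ⬝ᵥ u) * b i := by
    intro g0 h0 a b hab u i
    rw [← hgrad, hab]
    simp [pderiv_lin, eval_lin]
    ring
  have hkerAB : ∀ a b : Fin 3 → k, ∃ u : Fin 3 → k, u ≠ 0 ∧ a ⬝ᵥ u = 0 ∧ b ⬝ᵥ u = 0 := by
    intro a b
    have : LinearMap.ker (Matrix.mulVecLin (Matrix.of ![a, b])) ≠ ⊥ :=
      LinearMap.ker_ne_bot_of_finrank_lt (by simp)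
    obtain ⟨u, hu, hu0⟩ := Submodule.exists_mem_ne_zero_of_ne_bot this
    exact ⟨u, hu0, congrFun (LinearMap.mem_ker.1 hu) 0, congrFun (LinearMap.mem_ker.1 hu) 1⟩
  have hsing : (∃ u : Fin 3 → k, u ≠ 0 ∧ ∀ i : Fin 3, MvPolynomial.eval u (MvPolynomial.pderiv i f) = 0) ↔ Q.det = 0 := by
    rw [← Matrix.exists_mulVec_eq_zero_iff]
    refine exists_congr fun u => and_congr Iff.rfl ?_
    simp only [hgrad, funext_iff, Pi.zero_apply, mul_eq_zero, two_ne_zero, false_or]
  have hdet' : ∀ (g0 h0 : k) (a b : Fin 3 → k), f = (MvPolynomial.C g0 + lin a) * (MvPolynomial.C h0 + lin b) → Q.det = 0 := by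
    intro g0 h0 a b hab
    obtain ⟨u, hu0, ha, hb⟩ := hkerAB a b
    refine hsing.1 ⟨u, hu0, fun i => ?_⟩
    rw [hgrad, hprod g0 h0 a b hab u i, ha, hb]
    have h1 := hprod g0 h0 a b hab 0 i
    simp only [Matrix.mulVec_zero, Pi.zero_apply, mul_zero, dotProduct_zero] at h1
    exact h1.symm
  have hQpos : Q.rank ≠ 0 := by
    intro h
    rw [hrank, Fintype.card_eq_zero_iff] at h
    apply hQ0
    rw [hQL, show w = 0 from funext fun l => not_not.1 fun hne => h.elim ⟨l, hne⟩]
    simp
  have hcard : Q.det = 0 ↔ Q.rank = 1 ∨ Q.rank = 2 := by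
    rw [hdet]
    constructor
    · rintro ⟨l, hl⟩
      have : Q.rank < 3 := by
        rw [hrank]
        exact lt_of_lt_of_eq (Fintype.card_subtype_lt (x := l) (by simp [hl])) (Fintype.card_fin 3)
      omega
    · intro h
      by_contra hne
      push Not at hne
      rw [hrank, Fintype.card_of_subtype Finset.univ (fun x => by simp [hne x]), Finset.card_univ, Fintype.card_fin] at h
      omega
  have hnu : ∀ g : MvPolynomial (Fin 3) k, MvPolynomial.constantCoeff g = 0 → ¬ IsUnit g := fun g hg hu => by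
    have := hu.map MvPolynomial.constantCoeff
    rw [hg] at this
    exact not_isUnit_zero this
  have hfc : MvPolynomial.constantCoeff f = 0 := by
    rw [hfw, map_sum]
    exact Finset.sum_eq_zero fun l _ => by rw [map_mul, constantCoeff_lin, mul_zero]
  refine ⟨⟨fun hirr hd => ?_, fun hd => ?_⟩, hsing, ⟨?_, h3'⟩, ⟨?_, h4'⟩⟩
  · rcases hcard.1 hd with h | h
    · obtain ⟨a, ha⟩ := h4' h
      exact (hirr.isUnit_or_isUnit (ha.trans (pow_two _))).elim (hnu _ (constantCoeff_lin a)) (hnu _ (constantCoeff_lin a))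
    · obtain ⟨a, b, -, hab⟩ := h3' h
      exact (hirr.isUnit_or_isUnit hab).elim (hnu _ (constantCoeff_lin a)) (hnu _ (constantCoeff_lin b))
  · have hf0 : f ≠ 0 := by
      intro h0
      refine hd ?_
      have : Q = 0 := by
        refine Matrix.ext_iff_mulVec.2 fun u => funext fun i => ?_
        have := hgrad u i
        rw [h0, map_zero, map_zero, eq_comm, mul_eq_zero] at this
        simpa using this.resolve_left two_ne_zero
      rw [this, Matrix.det_zero]
    refine ⟨hnu f hfc, fun g h hgh => ?_⟩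
    have hg0 : g ≠ 0 := left_ne_zero_of_mul (hgh ▸ hf0)
    have hh0 : h ≠ 0 := right_ne_zero_of_mul (hgh ▸ hf0)
    have h2 : f.totalDegree ≤ 2 := by
      rw [hf]
      refine (MvPolynomial.totalDegree_finsetSum_le fun i _ => MvPolynomial.totalDegree_finsetSum_le fun j _ => ?_)
      exact (MvPolynomial.totalDegree_smul_le _ _).trans ((MvPolynomial.totalDegree_mul _ _).trans (by simp))
    rw [hgh, MvPolynomial.totalDegree_mul_of_isDomain hg0 hh0] at h2
    by_contra hne
    push Not at hne
    have hpos : ∀ q : MvPolynomial (Fin 3) k, q ≠ 0 → ¬ IsUnit q → 1 ≤ q.totalDegree := by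
      intro q hq0 hq
      by_contra hlt
      obtain ⟨c, rfl⟩ : ∃ c, q = MvPolynomial.C c := ⟨_, MvPolynomial.totalDegree_eq_zero_iff_eq_C.1 (by omega)⟩
      exact hq ((Ne.isUnit fun hc => hq0 (by rw [hc, map_zero])).map MvPolynomial.C)
    have := hpos g hg0 hne.1
    have := hpos h hh0 hne.2
    obtain ⟨g0, a, rfl⟩ := exists_lin g (by omega)
    obtain ⟨h0, b, rfl⟩ := exists_lin h (by omega)
    exact hd (hdet' g0 h0 a b hgh)
  · rintro ⟨a, b, hab, hfab⟩
    change f = lin a * lin b at hfab
    have hfab' : f = (MvPolynomial.C 0 + lin a) * (MvPolynomial.C 0 + lin b) := by simpa using hfab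
    have h12 := hcard.1 (hdet' 0 0 a b hfab')
    have hle : 2 ≤ Q.rank := by
      have hA : Function.Surjective (Matrix.mulVecLin (Matrix.of ![a, b])) := by
        rw [← LinearMap.range_eq_top]
        refine Submodule.eq_top_of_finrank_eq ?_
        have h := (show LinearIndependent k (Matrix.of ![a, b]).row from hab).rank_matrix
        simpa [Matrix.rank] using h
      have hspan : Submodule.span k (Set.range ![a, b]) ≤ LinearMap.range Q.mulVecLin := by
        rw [Submodule.span_le, Set.range_subset_iff]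
        intro i
        obtain ⟨u, hu⟩ := hA (Pi.single (1 - i) 1)
        have ha : a ⬝ᵥ u = (Pi.single (1 - i) 1 : Fin 2 → k) 0 := congrFun hu 0
        have hb : b ⬝ᵥ u = (Pi.single (1 - i) 1 : Fin 2 → k) 1 := congrFun hu 1
        refine ⟨(2 : k) • u, funext fun t => ?_⟩
        rw [Matrix.mulVecLin_apply, Matrix.mulVec_smul, Pi.smul_apply, smul_eq_mul, hprod 0 0 a b hfab' u t, ha, hb]
        fin_cases i <;> simp
      have := Submodule.finrank_mono hspan
      rwa [finrank_span_eq_card hab, Fintype.card_fin] at this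
    omega
  · rintro ⟨a, ha⟩
    change f = lin a ^ 2 at ha
    have hQa : Q = Matrix.vecMulVec a a := by
      refine Matrix.ext_iff_mulVec.2 fun u => funext fun i => ?_
      have := hprod 0 0 a a (by simpa [pow_two] using ha) u i
      simp only [zero_add] at this
      refine mul_left_cancel₀ (two_ne_zero (α := k)) (this.trans ?_)
      simp [Matrix.mulVec, Matrix.vecMulVec_apply, dotProduct, Fin.sum_univ_three]
      ring
    have h1 : Q.rank ≤ 1 := hQa ▸ Matrix.rank_vecMulVec_le a a
    omega

end Groth.Agent.S13911
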