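import Groth.Statements.S13912
import Mathlib.LinearAlgebra.Matrix.GeneralLinearGroup.Defs
import Mathlib.LinearAlgebra.Matrix.NonsingularInverse
import Mathlib.LinearAlgebra.Matrix.ToLinearEquiv
import Mathlib.RingTheory.MvPolynomial.Homogeneous
import Mathlib.FieldTheory.IsAlgClosed.Basic
import Mathlib.LinearAlgebra.Matrix.Determinant.Basic
import Mathlib.LinearAlgebra.FiniteDimensional.Lemmas
import Mathlib.LinearAlgebra.Dual.Lemmas
import Mathlib.Algebra.Polynomial.Roots
import Mathlib.Tactic.Ring
import Mathlib.Tactic.LinearCombination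
import Mathlib.Tactic.FinCases

set_option autoImplicit false
universe u
open PlaneConic

namespace Groth.Agent.S13912

/-- Over an algebraically closed field k of characteristic zero, for a 2 × 2 matrix M of linear forms in
k[X_0, X_1, X_2] (entries homogeneous of degree 1, zero allowed), det M is a product of two linear
forms if and only if M can be brought by invertible scalar row and column operations g M h, with g,
h in GL_2(k), to a matrix with zero upper-right entry. (The published statement concerns matrices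
with nonzero determinant; this row also allows determinant zero, where both sides hold.) -/
theorem result (k : Type u) [Field k] [IsAlgClosed k] [CharZero k]
    (M : Matrix (Fin 2) (Fin 2) (MvPolynomial (Fin 3) k)) (hM : ∀ a b : Fin 2, (M a b).IsHomogeneous 1) :
    (∃ l₁ l₂ : MvPolynomial (Fin 3) k, l₁.IsHomogeneous 1 ∧ l₂.IsHomogeneous 1 ∧ M.det = l₁ * l₂) ↔
    ∃ g h : GL (Fin 2) k,
      ((MvPolynomial.C : k →+* MvPolynomial (Fin 3) k).mapMatrix g.val * M *
        (MvPolynomial.C : k →+* MvPolynomial (Fin 3) k).mapMatrix h.val) 0 1 = 0 := by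
  classical
  constructor
  · rintro ⟨l₁, l₂, hl₁, hl₂, hdetM⟩
    have hex : ∀ i j, ∃ a : Fin 3 → k, M i j = ∑ v, a v • MvPolynomial.X v := by
      intro i j
      have h1 : M i j ∈ MvPolynomial.homogeneousSubmodule (Fin 3) k 1 := hM i j
      rw [MvPolynomial.homogeneousSubmodule_one_eq_span_X, Submodule.mem_span_range_iff_exists_fun] at h1
      exact ⟨h1.choose, h1.choose_spec.symm⟩
    choose a ha using hex
    let Ψ : Matrix (Fin 2) (Fin 2) k →ₗ[k] (Fin 3 → k) :=
      { toFun := fun N v => ∑ i, ∑ j, N i j * a i j v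
        map_add' := fun N N' => funext fun v => by simp [Fin.sum_univ_two]; ring
        map_smul' := fun c N => funext fun v => by simp [Fin.sum_univ_two]; ring }
    -- a degenerate relation gives the normal form
    have hgood : ∀ N : Matrix (Fin 2) (Fin 2) k, Ψ N = 0 → N ≠ 0 → N.det = 0 →
        ∃ g h : GL (Fin 2) k,
          ((MvPolynomial.C : k →+* MvPolynomial (Fin 3) k).mapMatrix g.val * M *
            (MvPolynomial.C : k →+* MvPolynomial (Fin 3) k).mapMatrix h.val) 0 1 = 0 := by
      intro N hN hN0 hNd
      obtain ⟨r, s, hr, hs, hrs⟩ : ∃ r s : Fin 2 → k, r ≠ 0 ∧ s ≠ 0 ∧ ∀ i j, N i j = r i * s j := by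
        by_cases h0 : N 0 0 = 0 ∧ N 0 1 = 0
        · refine ⟨![0, 1], N 1, fun h => one_ne_zero (congrFun h 1), fun h => hN0 ?_, fun i j => ?_⟩
          · ext i j; fin_cases i
            · fin_cases j <;> simp [h0.1, h0.2]
            · exact congrFun h j
          · fin_cases i
            · fin_cases j <;> simp [h0.1, h0.2]
            · simp
        · rw [Matrix.det_fin_two] at hNd
          rcases not_and_or.1 h0 with h00 | h01
          · refine ⟨![1, N 1 0 / N 0 0], N 0, fun h => one_ne_zero (congrFun h 0), fun h => h00 (congrFun h 0), fun i j => ?_⟩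
            fin_cases i <;> fin_cases j <;> simp [h00]
            rw [div_mul_eq_mul_div, eq_div_iff h00]
            linear_combination hNd
          · refine ⟨![1, N 1 1 / N 0 1], N 0, fun h => one_ne_zero (congrFun h 0), fun h => h01 (congrFun h 1), fun i j => ?_⟩
            fin_cases i <;> fin_cases j <;> simp [h01]
            rw [div_mul_eq_mul_div, eq_div_iff h01]
            linear_combination -hNd
      have hcomp : ∀ x : Fin 2 → k, x ≠ 0 → ∃ y : Fin 2 → k, x 0 * y 1 - x 1 * y 0 ≠ 0 := by
        intro x hx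
        by_cases h0 : x 0 = 0
        · exact ⟨![1, 0], by simpa [h0] using fun h1 => hx (funext fun i => by fin_cases i <;> simp [h0, h1])⟩
        · exact ⟨![0, 1], by simpa using h0⟩
      obtain ⟨r', hr'⟩ := hcomp r hr
      obtain ⟨s', hs'⟩ := hcomp s hs
      refine ⟨Matrix.GeneralLinearGroup.mkOfDetNeZero (Matrix.of ![r, r']) (by simpa [Matrix.det_fin_two] using hr'),
        Matrix.GeneralLinearGroup.mkOfDetNeZero (Matrix.of ![![s' 0, s 0], ![s' 1, s 1]]) (by
          simp [Matrix.det_fin_two]; intro h; exact hs' (by linear_combination -h)), ?_⟩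
      have hg : ∀ (A : Matrix (Fin 2) (Fin 2) k) (hA : A.det ≠ 0),
          (Matrix.GeneralLinearGroup.mkOfDetNeZero A hA).val = A := fun A hA => rfl
      rw [hg, hg]
      have key : ∑ v, Ψ N v • (MvPolynomial.X v : MvPolynomial (Fin 3) k) = 0 := by simp [hN]
      rw [← key]
      simp [Ψ, Matrix.mul_apply, ha, hrs, Fin.sum_univ_two, Fin.sum_univ_three, MvPolynomial.smul_eq_C_mul]
      ring
    by_cases hdeg : ∃ N : Matrix (Fin 2) (Fin 2) k, Ψ N = 0 ∧ N ≠ 0 ∧ N.det = 0
    · obtain ⟨N, h1, h2, h3⟩ := hdeg
      exact hgood N h1 h2 h3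
    exfalso
    push Not at hdeg
    have hker : LinearMap.ker Ψ ≠ ⊥ := LinearMap.ker_ne_bot_of_finrank_lt (by simp [Module.finrank_matrix])
    obtain ⟨N, hN, hN0⟩ := Submodule.exists_mem_ne_zero_of_ne_bot hker
    have hNd := hdeg N hN hN0
    have hsingle : LinearMap.ker Ψ ≤ Submodule.span k {N} := by
      intro N' hN'
      obtain ⟨x, hx⟩ := IsAlgClosed.exists_root
        (Polynomial.C N.det * Polynomial.X ^ 2 +
          Polynomial.C (N' 0 0 * N 1 1 + N 0 0 * N' 1 1 - N' 0 1 * N 1 0 - N 0 1 * N' 1 0) * Polynomial.X + Polynomial.C N'.det)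
        (by rw [Polynomial.degree_quadratic hNd]; exact two_ne_zero)
      have hd : (N' + x • N).det = 0 := by
        rw [Polynomial.IsRoot.def] at hx
        simp [Matrix.det_fin_two] at hx ⊢
        linear_combination hx
      have h0 : N' + x • N = 0 := by
        by_contra hne
        exact hdeg _ (by rw [map_add, map_smul, LinearMap.mem_ker.1 hN', LinearMap.mem_ker.1 hN]; simp) hne hd
      exact Submodule.mem_span_singleton.2 ⟨-x, by rw [neg_smul, ← eq_neg_of_add_eq_zero_left h0]⟩
    have hΨs : Function.Surjective Ψ := by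
      rw [← LinearMap.range_eq_top]
      refine Submodule.eq_top_of_finrank_eq ?_
      have h1 := Ψ.finrank_range_add_finrank_ker
      have h2 : Module.finrank k (LinearMap.ker Ψ) ≤ 1 := (Submodule.finrank_mono hsingle).trans (finrank_span_singleton hN0).le
      have h3 := Submodule.finrank_le (LinearMap.range Ψ)
      rw [Module.finrank_matrix] at h1
      simp at h1 h3 ⊢
      omega
    let Φ : (Fin 3 → k) →ₗ[k] Matrix (Fin 2) (Fin 2) k :=
      { toFun := fun u => Matrix.of fun i j => ∑ v, a i j v * u v
        map_add' := fun u u' => by ext i j; simp [Fin.sum_univ_three]; ring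
        map_smul' := fun c u => by ext i j; simp [Fin.sum_univ_three]; ring }
    let T : Matrix (Fin 2) (Fin 2) k →ₗ[k] k :=
      { toFun := fun A => ∑ i, ∑ j, N i j * A i j
        map_add' := fun A A' => by simp [Fin.sum_univ_two]; ring
        map_smul' := fun c A => by simp [Fin.sum_univ_two]; ring }
    have hpair : ∀ (N' : Matrix (Fin 2) (Fin 2) k) (u : Fin 3 → k),
        ∑ i, ∑ j, N' i j * Φ u i j = ∑ v, Ψ N' v * u v := fun N' u => by
      simp [Φ, Ψ, Fin.sum_univ_two, Fin.sum_univ_three]; ring
    have hΦi : LinearMap.ker Φ = ⊥ := by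
      refine (Submodule.eq_bot_iff _).2 fun u hu => funext fun v => ?_
      obtain ⟨N', hN'⟩ := hΨs (Pi.single v 1)
      have h := hpair N' u
      rw [LinearMap.mem_ker.1 hu, hN'] at h
      simpa [Pi.single_apply] using h.symm
    have hrange : LinearMap.range Φ = LinearMap.ker T := by
      refine Submodule.eq_of_le_of_finrank_le ?_ ?_
      · rintro _ ⟨u, rfl⟩
        change ∑ i, ∑ j, N i j * Φ u i j = 0
        rw [hpair, LinearMap.mem_ker.1 hN]
        simp
      · rw [LinearMap.finrank_range_of_inj (LinearMap.ker_eq_bot.1 hΦi)]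
        have h1 := T.finrank_range_add_finrank_ker
        have hT : LinearMap.range T = ⊤ := by
          refine LinearMap.range_eq_top.2 (LinearMap.surjective fun h => hN0 ?_)
          ext i j
          have h2 := LinearMap.congr_fun h (Matrix.single i j 1)
          simp [T, Matrix.single_apply, Fin.sum_univ_two] at h2
          fin_cases i <;> fin_cases j <;> simpa using h2
        rw [hT, finrank_top, Module.finrank_self, Module.finrank_matrix] at h1
        simp at h1 ⊢
        omega
    set C := N.transpose⁻¹ with hC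
    have hCd : C.det ≠ 0 := by
      rw [hC, Matrix.det_nonsing_inv, Ring.inverse_eq_inv', Matrix.det_transpose]
      exact inv_ne_zero hNd
    have hlift : ∀ B : Matrix (Fin 2) (Fin 2) k, B 0 0 + B 1 1 = 0 → ∃ u, Φ u = C * B := by
      intro B hB
      change C * B ∈ LinearMap.range Φ
      rw [hrange, LinearMap.mem_ker]
      have h1 : N.transpose * (C * B) = B := by
        rw [← Matrix.mul_assoc, hC, Matrix.mul_nonsing_inv _ (by rw [Matrix.det_transpose]; exact isUnit_iff_ne_zero.2 hNd), Matrix.one_mul]
      rw [← h1] at hB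
      change ∑ i, ∑ j, N i j * (C * B) i j = 0
      simp only [Matrix.mul_apply (M := N.transpose), Matrix.transpose_apply, Fin.sum_univ_two] at hB ⊢
      linear_combination hB
    obtain ⟨uE, hE⟩ := hlift !![1, 0; 0, -1] (by simp)
    obtain ⟨uF, hF⟩ := hlift !![0, 1; 0, 0] (by simp)
    obtain ⟨uG, hG⟩ := hlift !![0, 0; 1, 0] (by simp)
    have hev : ∀ u : Fin 3 → k, MvPolynomial.eval u l₁ * MvPolynomial.eval u l₂ = (Φ u).det := by
      intro u
      rw [← map_mul, ← hdetM, RingHom.map_det]
      congr 1
      ext i j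
      simp [Φ, ha]
    have hlin : ∀ l : MvPolynomial (Fin 3) k, l.IsHomogeneous 1 → ∃ c : Fin 3 → k, ∀ u, MvPolynomial.eval u l = ∑ v, c v * u v := by
      intro l hl
      have h1 : l ∈ MvPolynomial.homogeneousSubmodule (Fin 3) k 1 := hl
      rw [MvPolynomial.homogeneousSubmodule_one_eq_span_X, Submodule.mem_span_range_iff_exists_fun] at h1
      obtain ⟨c, rfl⟩ := h1
      exact ⟨c, fun u => by simp⟩
    obtain ⟨c₁, hc₁⟩ := hlin l₁ hl₁
    obtain ⟨c₂, hc₂⟩ := hlin l₂ hl₂
    let P : (Fin 3 → k) → Polynomial k := fun c => Polynomial.C (∑ v, c v * uG v) + Polynomial.C (∑ v, c v * uE v) * Polynomial.X -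
      Polynomial.C (∑ v, c v * uF v) * Polynomial.X ^ 2
    have hP : P c₁ * P c₂ = 0 := by
      refine Polynomial.funext fun t => ?_
      have h1 := hev (t • uE - t ^ 2 • uF + uG)
      rw [map_add, map_sub, map_smul, map_smul, hE, hF, hG, ← Matrix.mul_smul, ← Matrix.mul_smul, ← Matrix.mul_sub,
        ← Matrix.mul_add, Matrix.det_mul] at h1
      have h2 : (t • (!![1, 0; 0, -1] : Matrix (Fin 2) (Fin 2) k) - t ^ 2 • !![0, 1; 0, 0] + !![0, 0; 1, 0]).det = 0 := by
        simp [Matrix.det_fin_two]; ring
      rw [h2, mul_zero, hc₁, hc₂] at h1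
      simp [P, Fin.sum_univ_three] at h1 ⊢
      rcases h1 with h1 | h1
      · left; linear_combination h1
      · right; linear_combination h1
    have hE0 : MvPolynomial.eval uE l₁ * MvPolynomial.eval uE l₂ = 0 := by
      rcases mul_eq_zero.1 hP with h | h
      · have := congrArg (fun p => Polynomial.coeff p 1) h
        simp only [P, Polynomial.coeff_sub, Polynomial.coeff_add, Polynomial.coeff_C_mul, Polynomial.coeff_X_pow,
          Polynomial.coeff_X_one, Polynomial.coeff_C, Polynomial.coeff_zero] at this
        simp at this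
        rw [hc₁, this, zero_mul]
      · have := congrArg (fun p => Polynomial.coeff p 1) h
        simp only [P, Polynomial.coeff_sub, Polynomial.coeff_add, Polynomial.coeff_C_mul, Polynomial.coeff_X_pow,
          Polynomial.coeff_X_one, Polynomial.coeff_C, Polynomial.coeff_zero] at this
        simp at this
        rw [hc₂, this, mul_zero]
    rw [hev, hE, Matrix.det_mul] at hE0
    simp [Matrix.det_fin_two] at hE0
    exact hCd (by rw [Matrix.det_fin_two]; linear_combination -hE0)
  · rintro ⟨g, h, h01⟩
    set Cm := (MvPolynomial.C : k →+* MvPolynomial (Fin 3) k)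
    set N' := Cm.mapMatrix g.val * M * Cm.mapMatrix h.val with hN'
    have hhom : ∀ i j, (N' i j).IsHomogeneous 1 := by
      intro i j
      rw [hN', ← MvPolynomial.mem_homogeneousSubmodule]
      simp only [Matrix.mul_apply, RingHom.mapMatrix_apply, Matrix.map_apply, Finset.sum_mul]
      refine Submodule.sum_mem _ fun x _ => Submodule.sum_mem _ fun y _ => ?_
      rw [mul_comm _ (Cm (h.val x j)), show Cm (h.val x j) * (Cm (g.val i y) * M y x) = (h.val x j * g.val i y) • M y x by
        rw [MvPolynomial.smul_eq_C_mul, map_mul, mul_assoc]]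
      exact Submodule.smul_mem _ _ (hM y x)
    refine ⟨(g.val.det * h.val.det)⁻¹ • N' 0 0, N' 1 1, Submodule.smul_mem (MvPolynomial.homogeneousSubmodule (Fin 3) k 1) _ (hhom 0 0), hhom 1 1, ?_⟩
    have hd := Matrix.det_fin_two N'
    rw [h01, zero_mul, sub_zero, hN', Matrix.det_mul, Matrix.det_mul, ← RingHom.map_det, ← RingHom.map_det, ← hN'] at hd
    rw [smul_mul_assoc, ← hd, MvPolynomial.smul_eq_C_mul]
    have h1 : (MvPolynomial.C (g.val.det * h.val.det)⁻¹ : MvPolynomial (Fin 3) k) * (Cm g.val.det * Cm h.val.det) = 1 := by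
      rw [← map_mul Cm, ← map_mul MvPolynomial.C, inv_mul_cancel₀ (mul_ne_zero g.det_ne_zero h.det_ne_zero), map_one]
    linear_combination (-M.det) * h1

end Groth.Agent.S13912
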