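import Groth.Statements.S13913
import Mathlib.Algebra.MvPolynomial.PDeriv
import Mathlib.RingTheory.MvPolynomial.Homogeneous
import Mathlib.RingTheory.MvPolynomial.EulerIdentity
import Mathlib.LinearAlgebra.LinearIndependent.Lemmas
import Mathlib.Tactic.Ring
import Mathlib.Tactic.LinearCombination

set_option autoImplicit false
universe u
open PlaneCubic

namespace Groth.Agent.S13913

/-- Over an algebraically closed field of characteristic zero, for linearly independent linear forms z₁,
z₂ and quadratic forms q₁, q₂ in three variables and a nonzero common zero p of z₁ and z₂, the point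
p is a singular point of the plane cubic z₁q₂ − z₂q₁ = 0 (all three partial derivatives vanish at p)
if and only if q₁ and q₂ both vanish at p. -/
theorem result (k : Type u) [Field k] [IsAlgClosed k] [CharZero k]
    (z₁ z₂ q₁ q₂ : MvPolynomial (Fin 3) k) (hz₁ : z₁.IsHomogeneous 1) (hz₂ : z₂.IsHomogeneous 1)
    (hq₁ : q₁.IsHomogeneous 2) (hq₂ : q₂.IsHomogeneous 2) (hind : LinearIndependent k ![z₁, z₂])
    (p : Fin 3 → k) (hp : p ≠ 0) (hp₁ : MvPolynomial.eval p z₁ = 0) (hp₂ : MvPolynomial.eval p z₂ = 0) :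
    (∀ i : Fin 3, MvPolynomial.eval p (MvPolynomial.pderiv i (z₁ * q₂ - z₂ * q₁)) = 0) ↔
      (MvPolynomial.eval p q₁ = 0 ∧ MvPolynomial.eval p q₂ = 0) := by
  have hgrad : ∀ i, MvPolynomial.eval p (MvPolynomial.pderiv i (z₁ * q₂ - z₂ * q₁)) =
      MvPolynomial.eval p (MvPolynomial.pderiv i z₁) * MvPolynomial.eval p q₂ -
        MvPolynomial.eval p (MvPolynomial.pderiv i z₂) * MvPolynomial.eval p q₁ := fun i => by
    simp [MvPolynomial.pderiv_mul, hp₁, hp₂]; ring
  constructor
  · intro h
    have hC : ∀ (z : MvPolynomial (Fin 3) k), z.IsHomogeneous 1 → ∀ i,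
        MvPolynomial.pderiv i z = MvPolynomial.C (MvPolynomial.eval p (MvPolynomial.pderiv i z)) := by
      intro z hz i
      have h0 := MvPolynomial.totalDegree_eq_zero_iff_eq_C.1
        (Nat.le_zero.1 ((hz.pderiv (i := i)).totalDegree_le))
      rw [h0, MvPolynomial.eval_C]
    have key : MvPolynomial.eval p q₂ • z₁ + (-MvPolynomial.eval p q₁) • z₂ = 0 := by
      have e1 := hz₁.sum_X_mul_pderiv
      have e2 := hz₂.sum_X_mul_pderiv
      rw [one_smul] at e1 e2
      rw [← e1, ← e2, Finset.smul_sum, Finset.smul_sum, ← Finset.sum_add_distrib]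
      refine Finset.sum_eq_zero fun i _ => ?_
      have hi := h i
      rw [hgrad] at hi
      rw [hC z₁ hz₁ i, hC z₂ hz₂ i, MvPolynomial.smul_eq_C_mul, MvPolynomial.smul_eq_C_mul]
      have hi' := congrArg (MvPolynomial.C (σ := Fin 3)) hi
      rw [map_sub, map_mul, map_mul, map_zero] at hi'
      rw [map_neg]
      linear_combination MvPolynomial.X i * hi'
    obtain ⟨h1, h2⟩ := LinearIndependent.pair_iff.1 hind _ _ key
    exact ⟨neg_eq_zero.1 h2, h1⟩
  · rintro ⟨h1, h2⟩ i
    rw [hgrad, h1, h2, mul_zero, mul_zero, sub_zero]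


end Groth.Agent.S13913
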