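import Groth.Statements.S13915
import Groth.Agent.L13.PointBlow.Table

set_option autoImplicit false
universe u
open CategoryTheory CategoryTheory.Limits AlgebraicGeometry
open BlowUp

namespace Groth.Agent.S13915

/-- On the blowing up σ : X ⟶ P²_k of the projective plane over an algebraically closed field k of
characteristic zero at a closed point, with E the ideal of the exceptional line and H the pull-back
of O(1), one has χ(X, σ^*O(a) ⊗ E^b) = (a² + 3a)/2 − (b² + b)/2 + 1 for all integers a and natural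
numbers b (the line bundle written aH − bL; the k-structure on X is the composite through σ). -/
theorem result (k : Type u) [Field k] [IsAlgClosed k] [CharZero k]
    (p : ↥(CohB1.ProjSpace 2 k)) (hp : IsClosed ({p} : Set ↥(CohB1.ProjSpace 2 k)))
    {X : Scheme.{u}} [X.Over (Spec (CommRingCat.of k))] (σ : X ⟶ CohB1.ProjSpace 2 k)
    (hσk : σ ≫ CohB1.ProjSpace.toSpec 2 k = X ↘ Spec (CommRingCat.of k))
    (hσ : BlowUp.IsBlowUp σ (Scheme.IdealSheafData.vanishingIdeal ⟨{p}, hp⟩)) (a : ℤ) (b : ℕ) :
    Curv2.euler k X (CohB1.tensorMod ((Scheme.Modules.pullback σ).obj (Twist.twistProjSpace 2 k a))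
      (ClSub.idealMod ((BlowUp.exceptional σ (Scheme.IdealSheafData.vanishingIdeal ⟨{p}, hp⟩)) ^ b))) =
      (a * a + 3 * a) / 2 - ((b : ℤ) * b + b) / 2 + 1 := by
  have B : Groth.L13.PointBlow.Blown hp σ := ⟨hσk, hσ⟩
  have hE := Groth.L13.PointBlow.isInvertible_E B
  obtain ⟨-, ⟨e⟩⟩ := Groth.L13.PointBlow.nonempty_idealMod_pow hE b
  obtain ⟨-, -, hχ⟩ := Groth.L13.PointBlow.top_neg B a b
  refine (Groth.L03.Euler.euler_iso (Groth.L00.Tensor.tensorIso (Iso.refl _) e)).trans (hχ.trans ?_)
  rw [Groth.L13.PointBlow.choose_two_int B a]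
  have hc : ((b + 1).choose 2 : ℤ) * 2 = (b : ℤ) * b + b := by
    have : (b + 1).choose 2 * 2 = (b + 1) * b := by
      rw [Nat.choose_two_right, Nat.div_mul_cancel]
      · simp
      · rw [Nat.add_sub_cancel, mul_comm]; exact (Nat.even_mul_succ_self b).two_dvd
    have h2 := congrArg (Nat.cast : ℕ → ℤ) this
    push_cast at h2
    linarith
  omega

end Groth.Agent.S13915
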