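import Groth.Statements.S13916
import Mathlib.LinearAlgebra.Matrix.GeneralLinearGroup.Defs
import Mathlib.LinearAlgebra.Matrix.NonsingularInverse
import Mathlib.Tactic.FieldSimp
import Mathlib.Tactic.Ring
import Mathlib.Tactic.FinCases
import Mathlib.LinearAlgebra.Matrix.Determinant.Basic

set_option autoImplicit false
universe u
open PlaneConic

namespace Groth.Agent.S13916

/-- Over an algebraically closed field k of characteristic zero, with u_0, u_1, u_2 the coordinate
linear forms of k[X_0, X_1, X_2] and 2 × 2 matrices of linear forms compared up to M ↦ g M h with g,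
h invertible scalar matrices: (1) the matrices with rows (u_1, 0), (u_0, u_2) and (u_2, 0), (u_0,
u_1) are not equivalent; (2) for α ≠ 0 the matrix with rows (u_1, 0), (αu_0 + βu_1 + γu_2, u_2) is
equivalent to the one with rows (u_1, 0), (u_0, u_2). -/
theorem result (k : Type u) [Field k] [IsAlgClosed k] [CharZero k] :
    (¬ ∃ g h : GL (Fin 2) k,
      (MvPolynomial.C : k →+* MvPolynomial (Fin 3) k).mapMatrix g.val *
          !![MvPolynomial.X 1, 0; MvPolynomial.X 0, MvPolynomial.X 2] *
        (MvPolynomial.C : k →+* MvPolynomial (Fin 3) k).mapMatrix h.val =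
      !![MvPolynomial.X 2, 0; MvPolynomial.X 0, MvPolynomial.X 1]) ∧
    (∀ α β γ : k, α ≠ 0 → ∃ g h : GL (Fin 2) k,
      (MvPolynomial.C : k →+* MvPolynomial (Fin 3) k).mapMatrix g.val *
          !![MvPolynomial.X 1, 0;
             MvPolynomial.C α * MvPolynomial.X 0 + MvPolynomial.C β * MvPolynomial.X 1 + MvPolynomial.C γ * MvPolynomial.X 2,
             MvPolynomial.X 2] *
        (MvPolynomial.C : k →+* MvPolynomial (Fin 3) k).mapMatrix h.val =
      !![MvPolynomial.X 1, 0; MvPolynomial.X 0, MvPolynomial.X 2]) := by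
  refine ⟨?_, fun α β γ hα => ?_⟩
  · rintro ⟨g, h, heq⟩
    have key : ∀ u : Fin 3 → k, g.val * !![u 1, 0; u 0, u 2] * h.val = !![u 2, 0; u 0, u 1] := by
      intro u
      have := congrArg (MvPolynomial.eval u).mapMatrix heq
      rw [map_mul, map_mul] at this
      have hC : ∀ M : Matrix (Fin 2) (Fin 2) k,
          (MvPolynomial.eval u).mapMatrix ((MvPolynomial.C : k →+* MvPolynomial (Fin 3) k).mapMatrix M) = M :=
        fun M => by ext i j; simp
      rw [hC, hC] at this
      have hM : ∀ a b c : Fin 3, (MvPolynomial.eval u).mapMatrix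
          !![(MvPolynomial.X a : MvPolynomial (Fin 3) k), 0; MvPolynomial.X b, MvPolynomial.X c] = !![u a, 0; u b, u c] := by
        intro a b c; ext i j; fin_cases i <;> fin_cases j <;> simp
      rwa [hM, hM] at this
    have h0 := key ![1, 0, 0]
    have h1 := key ![0, 1, 0]
    simp [← Matrix.ext_iff, Fin.forall_fin_two, Matrix.mul_apply, Fin.sum_univ_two] at h0 h1
    obtain ⟨⟨a1, a2⟩, a3, a4⟩ := h0
    obtain ⟨⟨b1, b2⟩, b3, b4⟩ := h1
    have hh : (h.val 0 0) ≠ 0 := fun hz => by simp [hz] at a3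
    have g01 : g.val 0 1 = 0 := a1.resolve_right hh
    have g00 : g.val 0 0 = 0 := b1.resolve_right hh
    exact g.det_ne_zero (by rw [Matrix.det_fin_two, g01, g00]; ring)
  · refine ⟨⟨!![α, 0; -β, 1], !![α⁻¹, 0; β * α⁻¹, 1], ?_, ?_⟩,
      ⟨!![α⁻¹, 0; -γ * α⁻¹, 1], !![α, 0; γ, 1], ?_, ?_⟩, ?_⟩
    iterate 4
      ext i j
      fin_cases i <;> fin_cases j <;> simp [Matrix.mul_apply, Fin.sum_univ_two, hα]
    have hC : (MvPolynomial.C α⁻¹ : MvPolynomial (Fin 3) k) * MvPolynomial.C α = 1 := by
      rw [← map_mul, inv_mul_cancel₀ hα, map_one]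
    ext i j : 1
    fin_cases i <;> fin_cases j <;> simp [Matrix.mul_apply, Fin.sum_univ_two]
    · linear_combination (MvPolynomial.X 1 : MvPolynomial (Fin 3) k) * hC
    · linear_combination (MvPolynomial.X 0 : MvPolynomial (Fin 3) k) * hC

end Groth.Agent.S13916
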