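import Groth.Statements.S13918
import Groth.Agent.L13.RamP1.ThreePoints

set_option autoImplicit false
universe u
open W4c1limliniiii

namespace Groth.Agent.S13918

open Polynomial in
/-- Over an algebraically closed field of characteristic p (zero allowed), fix three distinct points of
the affine line, an integer d and ramification indices e_i with 2 ≤ e_i ≤ d, each e_i prime to p,
and ∑ (e_i − 1) = 2d − 2. Then there is at most one separable self-map of the projective line of
degree d, taken up to automorphisms of the target, with ramification index exactly e_i at the i-th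
point — such maps being encoded as base-point-free separable pencils of polynomials of degree at
most d — and there is none precisely when some two-dimensional space of polynomials of degree at
most d with identically vanishing Wronskian contains, for each i, a non-zero member vanishing to
order at least e_i at the i-th point (an inseparable pencil, base points allowed, with at least the
required ramification). (The three points are taken on the affine line, which is no restriction up
to a change of coordinate; the assertion that the solution, when it exists, is a reduced point of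
the parameter scheme is not restated.) -/
theorem result (k : Type u) [Field k] [IsAlgClosed k]
    (p : ℕ) [CharP k p] (d : ℕ) (P : Fin 3 → k) (hP : Function.Injective P)
    (e : Fin 3 → ℕ) (he : W4c1limliniiii.Admissible p d e) :
    (W4c1limliniiii.ramMaps d P e).Subsingleton ∧
      (W4c1limliniiii.ramMaps d P e = ∅ ↔
        ∃ V : Submodule k k[X], V ≤ Polynomial.degreeLE k d ∧ Module.finrank k V = 2 ∧
          ¬ W4c1limliniiii.IsSeparable V ∧
          ∀ i, ∃ s ∈ V, s ≠ 0 ∧ e i ≤ Polynomial.rootMultiplicity (P i) s) := by
  have hsub : (W4c1limliniiii.ramMaps d P e).Subsingleton := by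
    intro V₁ h₁ V₂ h₂
    obtain ⟨v, hv, hv0, rfl⟩ := Groth.L13.RamP1.exists_pair hP he h₁.1.1 h₁.1.2.1 fun i => Groth.L13.RamP1.exists_of_mem h₁ i
    obtain ⟨w, hw, hw0, rfl⟩ := Groth.L13.RamP1.exists_pair hP he h₂.1.1 h₂.1.2.1 fun i => Groth.L13.RamP1.exists_of_mem h₂ i
    exact (Groth.L13.RamP1.eq_smul_of_mem_ramMaps hP he hv hw hw0 h₁).symm
  refine ⟨hsub, fun hempty => ?_, ?_⟩
  · obtain ⟨v, hv, hv0⟩ := (Submodule.ne_bot_iff _).1 (Groth.L13.RamP1.pairs_ne_bot hP he)
    obtain ⟨h1, h2, h3⟩ := Groth.L13.RamP1.span_props hP he hv hv0
    refine ⟨_, h1, h2, fun hs => ?_, h3⟩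
    have := Groth.L13.RamP1.mem_ramMaps_of_separable he hP h1 h2 hs h3
    rw [hempty] at this
    exact this
  · rintro ⟨V, hV, hrk, hns, hram⟩
    rw [Set.eq_empty_iff_forall_notMem]
    intro W hW
    obtain ⟨w, hw, hw0, rfl⟩ := Groth.L13.RamP1.exists_pair hP he hV hrk hram
    obtain ⟨v, hv, hv0, rfl⟩ := Groth.L13.RamP1.exists_pair hP he hW.1.1 hW.1.2.1 fun i => Groth.L13.RamP1.exists_of_mem hW i
    rw [Groth.L13.RamP1.eq_smul_of_mem_ramMaps hP he hv hw hw0 hW] at hns
    exact hns hW.2.1

end Groth.Agent.S13918
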