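import Groth.Statements.S13919
import Groth.Agent.S13918
import Groth.Agent.L13.RamP1.Inseparable

set_option autoImplicit false
universe u
open W4c1limliniiii

namespace Groth.Agent.S13919

open Polynomial in
/-- Over an algebraically closed field of characteristic p (zero allowed), fix three distinct points of
the affine line and indices 2 ≤ e_i ≤ d prime to p with ∑ (e_i − 1) = 2d − 2, and encode self-maps
of the projective line up to automorphisms of the target as base-point-free separable pencils of
polynomials of degree at most d. If p is positive, the first two indices are less than p and p ≤ d,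
then there is no separable degree-d self-map of the projective line with ramification index exactly
e_i at the i-th point; if p = 0 or d < p there is exactly one up to automorphisms of the target.
(The first clause includes the case d = p; with it, when all e_i are less than p, the three-point
count is one map if p = 0 or p > d and none otherwise.) -/
theorem result (k : Type u) [Field k] [IsAlgClosed k]
    (p : ℕ) [CharP k p] (d : ℕ) (P : Fin 3 → k) (hP : Function.Injective P)
    (e : Fin 3 → ℕ) (he : W4c1limliniiii.Admissible p d e) :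
    (p ≠ 0 → e 0 < p → e 1 < p → p ≤ d → W4c1limliniiii.ramMaps d P e = ∅) ∧
      (p = 0 ∨ d < p → ∃ V : Submodule k k[X], W4c1limliniiii.ramMaps d P e = {V}) := by
  obtain ⟨hsub, hiff⟩ := Groth.Agent.S13918.result k p d P hP e he
  refine ⟨fun hp0 h0 h1 hpd => ?_, fun hp => ?_⟩
  · have hpp : p.Prime := (CharP.char_is_prime_or_zero k p).resolve_right hp0
    haveI := Fact.mk hpp
    let h : k[X] := (X - C (P 2)) ^ (e 2 - p)
    have hh : h ≠ 0 := pow_ne_zero _ (X_sub_C_ne_zero _)
    have hhd : h.natDegree + p ≤ d := by
      simp only [h, natDegree_pow, natDegree_X_sub_C]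
      have := (he.1 2).2.1
      omega
    obtain ⟨h1', h2, h3, h4⟩ := Groth.L13.RamP1.frobenius_pencil (p := p) hh hhd
    refine hiff.2 ⟨_, h1', h2, h3, fun i => ⟨_, h4 (P i), mul_ne_zero hh (pow_ne_zero _ (X_sub_C_ne_zero _)), ?_⟩⟩
    refine Groth.L13.RamP1.le_of_pow_dvd (mul_ne_zero hh (pow_ne_zero _ (X_sub_C_ne_zero _))) ?_
    fin_cases i
    · exact (pow_dvd_pow _ h0.le).trans (dvd_mul_left _ _)
    · exact (pow_dvd_pow _ h1.le).trans (dvd_mul_left _ _)
    · show (X - C (P 2)) ^ e 2 ∣ (X - C (P 2)) ^ (e 2 - p) * (X - C (P 2)) ^ p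
      rw [← pow_add]
      exact pow_dvd_pow _ (by omega)
  · have hne : W4c1limliniiii.ramMaps d P e ≠ ∅ := fun hempty => by
      obtain ⟨V, hV, hrk, hns, -⟩ := hiff.1 hempty
      exact hns (Groth.L13.RamP1.isSeparable_of_lt hp hV hrk)
    obtain ⟨V, hV⟩ := Set.nonempty_iff_ne_empty.2 hne
    exact ⟨V, hsub.eq_singleton_of_mem hV⟩

end Groth.Agent.S13919
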