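import Groth.Statements.S13920
import Groth.Agent.L13.RamP1.Basic
import Groth.Agent.L13.RamP1.Inseparable

set_option autoImplicit false
universe u
open W4c1limliniiii

namespace Groth.Agent.S13920

open Polynomial in
/-- Over an algebraically closed field of prime characteristic p, fix n points of the affine line with
ramification indices e_i < p, and at infinity an index E with p < E and E prime to p, the datum (E,
e_1, …, e_n) being admissible for degree d (each index between 2 and d, ∑ (index − 1) = 2d − 2). If
one separable degree-d self-map of the projective line (up to automorphisms of the target, encoded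
as a base-point-free separable pencil of polynomials of degree at most d) has ramification index
exactly e_i at the i-th point and exactly E at infinity, then infinitely many do: the set of such
pencils is empty or infinite. (The consequence for general points, that no such map exists, is not
restated.) -/
theorem result
    (k : Type u) [Field k] [IsAlgClosed k] (p : ℕ) [Fact p.Prime] [CharP k p]
    (d n : ℕ) (P : Fin n → k) (e : Fin n → ℕ) (E : ℕ)
    (he : W4c1limliniiii.Admissible p d (Fin.cons E e : Fin (n + 1) → ℕ))
    (hlt : ∀ i, e i < p) (hE : p < E) :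
    {V : Submodule k k[X] | V ∈ W4c1limliniiii.ramMaps d P e ∧ W4c1limliniiii.HasRamIdxInf d V E} = ∅ ∨
      {V : Submodule k k[X] | V ∈ W4c1limliniiii.ramMaps d P e ∧
        W4c1limliniiii.HasRamIdxInf d V E}.Infinite := by
  classical
  rw [or_iff_not_imp_left]
  intro hne
  obtain ⟨V, ⟨hV, hVinf⟩⟩ := Set.nonempty_iff_ne_empty.2 hne
  obtain ⟨⟨hVd, hrk, ⟨G, hGV, hGd⟩, hbpf⟩, hsep, hram⟩ := hV
  obtain ⟨⟨F, hFV, hF0, hFd⟩, hEmax⟩ := hVinf
  have hpp : p.Prime := Fact.out
  have hEd : E ≤ d := (he.1 0).2.1
  have h2E : 2 ≤ E := by simpa using (he.1 0).1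
  have hEd' : E ≤ d := by simpa using hEd
  have hFd' : F.natDegree + E = d := le_antisymm hFd (hEmax F hFV hF0)
  obtain ⟨G', -, hVs⟩ := Groth.L13.RamP1.exists_second hrk hFV hF0
  obtain ⟨α, β, hαβ⟩ := Submodule.mem_span_pair.1 (hVs ▸ hGV : G ∈ Submodule.span k {F, G'})
  have hβ : β ≠ 0 := fun h => by
    rw [h, zero_smul, add_zero] at hαβ
    have := natDegree_smul_le α F
    rw [hαβ, hGd] at this
    omega
  have hVG : V = Submodule.span k {F, G} := by
    rw [hVs]
    refine le_antisymm (Submodule.span_le.2 ?_) (Submodule.span_le.2 ?_)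
    · rintro x (rfl | rfl)
      · exact Submodule.subset_span (by simp)
      · refine Submodule.mem_span_pair.2 ⟨-(β⁻¹ * α), β⁻¹, ?_⟩
        rw [← hαβ, smul_add, smul_smul, smul_smul, inv_mul_cancel₀ hβ, one_smul, neg_smul]
        abel
    · rintro y (rfl | rfl)
      · exact Submodule.subset_span (by simp)
      · exact hVs ▸ hGV
  have hwFG : wronskian F G ≠ 0 := Groth.L13.RamP1.isSeparable_iff.1 (hVG ▸ hsep)
  let W : k → Submodule k k[X] := fun t => Submodule.span k {F, G + C t * (X ^ p * F)}
  have hdegt : ∀ t : k, (C t * (X ^ p * F)).natDegree < d := fun t => by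
    refine lt_of_le_of_lt (natDegree_C_mul_le _ _) ?_
    rw [natDegree_mul (pow_ne_zero _ X_ne_zero) hF0, natDegree_X_pow]
    omega
  have hGt : ∀ t, (G + C t * (X ^ p * F)).natDegree = d := fun t => by
    rw [natDegree_add_eq_left_of_natDegree_lt (by rw [hGd]; exact hdegt t), hGd]
  have hwt : ∀ t, wronskian F (G + C t * (X ^ p * F)) = wronskian F G := fun t => by
    simp only [wronskian, derivative_add, derivative_C_mul, derivative_mul, derivative_X_pow, derivative_C, CharP.cast_eq_zero, map_zero]
    ring
  have hW : ∀ t, W t ∈ {V : Submodule k k[X] | V ∈ W4c1limliniiii.ramMaps d P e ∧ W4c1limliniiii.HasRamIdxInf d V E} := by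
    intro t
    have hle : W t ≤ degreeLE k (d : WithBot ℕ) := Submodule.span_le.2 (by
      rintro x (rfl | rfl)
      · exact hVd hFV
      · exact Groth.L13.RamP1.mem_degreeLE_of (hGt t).le)
    have hrkt : Module.finrank k (W t) = 2 :=
      Groth.L13.RamP1.finrank_span_pair_of_wronskian (by rw [hwt]; exact hwFG)
    have hFW : F ∈ W t := Submodule.subset_span (by simp)
    have hGW : G + C t * (X ^ p * F) ∈ W t := Submodule.subset_span (by simp)
    have hsept : W4c1limliniiii.IsSeparable (W t) :=
      ⟨F, hFW, _, hGW, by rw [hwt]; exact hwFG⟩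
    have hbpft : ∀ a : k, ∃ s ∈ W t, s.eval a ≠ 0 := by
      intro a
      obtain ⟨s, hs, hsa⟩ := hbpf a
      obtain ⟨x, y, rfl⟩ := Submodule.mem_span_pair.1 (hVG ▸ hs : s ∈ Submodule.span k {F, G})
      by_contra hall
      push Not at hall
      have h1 := hall F hFW
      have h2 := hall _ hGW
      simp only [eval_add, eval_mul, eval_smul, eval_C, h1, mul_zero, add_zero] at h2
      rw [eval_add, eval_smul, eval_smul, h1, h2, smul_zero, smul_zero, add_zero] at hsa
      exact hsa rfl
    have hmem : ∀ i, ∀ x y : k, ∃ s' ∈ W t, (X - C (P i)) ^ p ∣ s' - (x • F + y • G) ∧ s'.natDegree ≤ d := by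
      intro i x y
      refine ⟨(x - y * t * P i ^ p) • F + y • (G + C t * (X ^ p * F)), ?_, ?_, ?_⟩
      · exact add_mem (Submodule.smul_mem _ _ hFW) (Submodule.smul_mem _ _ hGW)
      · refine ⟨C (y * t) * F, ?_⟩
        rw [sub_pow_char, ← C_pow]
        simp only [smul_eq_C_mul, map_sub, map_mul]
        ring
      · exact Groth.L13.RamP1.natDegree_le_of_mem (hle (add_mem (Submodule.smul_mem _ _ hFW) (Submodule.smul_mem _ _ hGW)))
    refine ⟨⟨⟨hle, hrkt, ⟨_, hGW, hGt t⟩, hbpft⟩, hsept, fun i => ?_⟩, ⟨F, hFW, hF0, hFd⟩, fun s hs hs0 => ?_⟩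
    · obtain ⟨⟨s, hs, hs0, hes⟩, hmax⟩ := hram i
      obtain ⟨x, y, hxy⟩ := Submodule.mem_span_pair.1 (hVG ▸ hs : s ∈ Submodule.span k {F, G})
      refine ⟨?_, fun s' hs' hs0' => ?_⟩
      · obtain ⟨s', hs', hdvd, -⟩ := hmem i x y
        rw [hxy] at hdvd
        have h1 : (X - C (P i)) ^ e i ∣ s' := by
          have h2 := dvd_add ((pow_dvd_pow _ (hlt i).le).trans hdvd) (Groth.L13.RamP1.pow_dvd_of_le hes)
          rwa [sub_add_cancel] at h2
        refine ⟨s', hs', fun h0 => ?_, Groth.L13.RamP1.le_of_pow_dvd (fun h0 => ?_) h1⟩ <;>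
        · rw [h0, zero_sub, dvd_neg] at hdvd
          have h3 := Groth.L13.RamP1.le_of_pow_dvd hs0 hdvd
          have h4 := hmax s hs hs0
          have h5 := hlt i
          omega
      · obtain ⟨x', y', hxy'⟩ := Submodule.mem_span_pair.1 hs'
        by_contra hgt
        push Not at hgt
        have h1 : (X - C (P i)) ^ (e i + 1) ∣ s' := Groth.L13.RamP1.pow_dvd_of_le hgt
        have hcong : (X - C (P i)) ^ p ∣ s' - ((x' + y' * t * P i ^ p) • F + y' • G) := by
          refine ⟨C (y' * t) * F, ?_⟩
          rw [← hxy', sub_pow_char, ← C_pow]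
          simp only [smul_eq_C_mul, map_add, map_mul]
          ring
        have hpe : e i + 1 ≤ p := hlt i
        have h2 := dvd_sub h1 ((pow_dvd_pow _ hpe).trans hcong)
        rw [sub_sub_cancel] at h2
        have hne : (x' + y' * t * P i ^ p) • F + y' • G ≠ 0 := by
          intro h
          by_cases hy : y' = 0
          · subst hy
            simp only [zero_mul, add_zero, zero_smul, smul_eq_zero, hF0, or_false] at h
            exact hs0' (by rw [← hxy', h, zero_smul, zero_smul, add_zero])
          · have hFG : LinearIndependent k ![F, G] := by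
              rw [LinearIndependent.pair_iff' hF0]
              intro a ha
              rw [← ha, natDegree_smul] at hGd
              · omega
              · intro h0; rw [h0, zero_smul, natDegree_zero] at hGd; omega
            exact hy (LinearIndependent.pair_iff.1 hFG _ _ h).2
        have h4 := hmax _ (hVG ▸ Submodule.mem_span_pair.2 ⟨_, _, rfl⟩) hne
        have h5 := Groth.L13.RamP1.le_of_pow_dvd hne h2
        omega
    · obtain ⟨x, y, rfl⟩ := Submodule.mem_span_pair.1 hs
      by_cases hy : y = 0
      · subst hy
        rw [zero_smul, add_zero] at hs0 ⊢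
        rw [natDegree_smul F (fun h => hs0 (by rw [h, zero_smul]))]
        omega
      · rw [natDegree_add_eq_right_of_natDegree_lt] <;>
        · have := natDegree_smul_le x F
          rw [natDegree_smul _ hy, hGt]
          omega
  have hinj : Function.Injective W := by
    intro t t' h
    by_contra hne
    have h1 : G + C t * (X ^ p * F) ∈ W t' := h ▸ Submodule.subset_span (by simp)
    have h2 : G + C t' * (X ^ p * F) ∈ W t' := Submodule.subset_span (by simp)
    have h3 := Submodule.smul_mem _ (t - t')⁻¹ (sub_mem h1 h2)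
    rw [add_sub_add_left_eq_sub, ← sub_mul, ← map_sub, ← smul_eq_C_mul, inv_smul_smul₀ (sub_ne_zero.2 hne)] at h3
    obtain ⟨x, y, hxy⟩ := Submodule.mem_span_pair.1 h3
    have hdeg : (X ^ p * F).natDegree = p + F.natDegree := by
      rw [natDegree_mul (pow_ne_zero _ X_ne_zero) hF0, natDegree_X_pow]
    by_cases hy : y = 0
    · rw [hy, zero_smul, add_zero] at hxy
      have := natDegree_smul_le x F
      rw [hxy, hdeg] at this
      have := hpp.pos
      omega
    · have : (x • F + y • (G + C t' * (X ^ p * F))).natDegree = d := by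
        rw [natDegree_add_eq_right_of_natDegree_lt, natDegree_smul _ hy, hGt]
        have := natDegree_smul_le x F
        rw [natDegree_smul _ hy, hGt]
        omega
      rw [hxy, hdeg] at this
      omega
  exact Set.infinite_of_injective_forall_mem hinj hW

end Groth.Agent.S13920
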