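import Groth.Statements.S13922
import Groth.Agent.L03.Flip.Flip
import Groth.Agent.L03.Flip.Separate

set_option autoImplicit false
universe u
open W4c1limliniiii

namespace Groth.Agent.S13922

open Polynomial L03.Flip

/-- at general points every pencil separates the two flipped points -/
theorem separate {k : Type u} [Field k] [IsAlgClosed k] {p d n : ℕ} [CharP k p] {e : Fin n → ℕ}
    (h1 : ∀ l, 1 ≤ e l) (hlt : ∀ l, e l < p) (hsum : (∑ l, (e l - 1)) + 2 = 2 * d) {i j : Fin n} (hij : i ≠ j)
    (h2 : ∀ l, l ≠ i → l ≠ j → 2 ≤ e l) :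
    ∃ Φ : MvPolynomial (Fin n) k, Φ ≠ 0 ∧ ∀ P : Fin n → k, MvPolynomial.eval P Φ ≠ 0 →
      ∀ V ∈ ramMaps d P e, ∀ s ∈ V, s.IsRoot (P i) → s.IsRoot (P j) → s = 0 := by
  classical
  by_cases hbig : ∃ l, d < e l
  · obtain ⟨l, hl⟩ := hbig
    refine ⟨1, one_ne_zero, fun P _ V hV => ?_⟩
    exfalso
    obtain ⟨⟨hle, -, -, -⟩, -, hram⟩ := hV
    obtain ⟨s, hs, hs0, hse⟩ := (hram l).1
    have := natDegree_le_of_dvd (L13.RamP1.pow_dvd_of_le hse) hs0
    rw [natDegree_pow, natDegree_X_sub_C, mul_one] at this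
    have := L13.RamP1.natDegree_le_of_mem (hle hs)
    omega
  push Not at hbig
  have hdvd : ∀ l, ¬ p ∣ e l := fun l h => by
    have := Nat.le_of_dvd (h1 l) h; have := hlt l; omega
  let S : Finset (Fin n) := Finset.univ.filter fun l => 2 ≤ e l
  let ι : Fin S.card → Fin n := fun l => (S.equivFin.symm l : S)
  have hι : Function.Injective ι := fun a b h => S.equivFin.symm.injective (Subtype.ext h)
  have hιm : ∀ l, 2 ≤ e (ι l) := fun l => (Finset.mem_filter.1 (S.equivFin.symm l).2).2
  have he : Admissible p d (e ∘ ι) := by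
    refine ⟨fun l => ⟨hιm l, hbig _, hdvd _⟩, ?_⟩
    have e1 : ∀ g : Fin n → ℕ, ∑ l, g (ι l) = ∑ l ∈ S, g l := fun g => by
      rw [← Finset.sum_coe_sort S g]
      exact Equiv.sum_comp S.equivFin.symm fun x : S => g x
    have e2 : ∑ l ∈ S, (e l - 1) = ∑ l, (e l - 1) :=
      Finset.sum_filter_of_ne fun l _ hl => by omega
    have e3 : ∑ l ∈ S, e l = ∑ l ∈ S, (e l - 1) + S.card := by
      rw [Finset.card_eq_sum_ones, ← Finset.sum_add_distrib]
      exact Finset.sum_congr rfl fun l _ => by have := h1 l; omega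
    show (∑ l, e (ι l)) + 2 = _
    rw [e1, e3, e2]
    omega
  have restrict : ∀ {P : Fin n → k} {V : Submodule k k[X]}, V ∈ ramMaps d P e → V ∈ ramMaps d (P ∘ ι) (e ∘ ι) :=
    fun hV => ⟨hV.1, hV.2.1, fun l => hV.2.2 (ι l)⟩
  by_cases hi : e i = 1
  · obtain ⟨Φ, h0, hΦ⟩ := separate_extra (k := k) he hι (i := i) (j := j) (fun l h => by have := hιm l; rw [h] at this; omega) hij
    exact ⟨Φ, h0, fun P hP V hV s hs a b => hΦ P hP V (restrict hV) s hs a b⟩
  by_cases hj : e j = 1
  · obtain ⟨Φ, h0, hΦ⟩ := separate_extra (k := k) he hι (i := j) (j := i) (fun l h => by have := hιm l; rw [h] at this; omega) hij.symm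
    exact ⟨Φ, h0, fun P hP V hV s hs a b => hΦ P hP V (restrict hV) s hs b a⟩
  have hall : Admissible p d e := by
    refine ⟨fun l => ⟨?_, hbig l, hdvd l⟩, ?_⟩
    · rcases eq_or_ne l i with rfl | hli
      · have := h1 l; omega
      rcases eq_or_ne l j with rfl | hlj
      · have := h1 l; omega
      exact h2 l hli hlj
    · have : ∑ l, e l = ∑ l, (e l - 1) + n := by
        conv_rhs => arg 2; rw [← Finset.card_fin n, Finset.card_eq_sum_ones]
        rw [← Finset.sum_add_distrib]
        exact Finset.sum_congr rfl fun l _ => by have := h1 l; omega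
      omega
  obtain ⟨Φ, h0, hΦ⟩ := L13.RamP1.finite_and_separate (k := k) hall
  exact ⟨Φ, h0, fun P hP V hV s hs a b => (hΦ P hP).2 V hV i j hij s hs ⟨a, b⟩⟩


open Polynomial in
/-- Over an algebraically closed field of prime characteristic p, let (d; e_1, …, e_n) be admissible
ramification data (2 ≤ e_i ≤ d, ∑ (e_i − 1) = 2d − 2) with every e_i < p, and for two distinct
indices i ≠ j replace e_i, e_j by p − e_i, p − e_j and d by d + p − e_i − e_j. Then the number of
separable self-maps of the projective line with the prescribed ramification at general points, up to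
automorphisms of the target (counted as base-point-free separable pencils of polynomials, for
configurations of points of the affine line off the zero set of a non-zero polynomial), is the same
for the two data: a number is the general count for one if and only if it is the general count for
the other. -/
theorem result (k : Type u) [Field k] [IsAlgClosed k]
    (p : ℕ) [Fact p.Prime] [CharP k p] (d n : ℕ) (e : Fin n → ℕ)
    (he : W4c1limliniiii.Admissible p d e) (hlt : ∀ l, e l < p) (i j : Fin n) (hij : i ≠ j)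
    (m : ℕ) :
    W4c1limliniiii.HasGenericCount (k := k) d e m ↔
      W4c1limliniiii.HasGenericCount (k := k) (d + p - e i - e j)
        (Function.update (Function.update e i (p - e i)) j (p - e j)) m := by
  classical
  set e' := flipIdx p e i j with he'
  set d' := d + p - e i - e j with hd'
  show HasGenericCount (k := k) d e m ↔ HasGenericCount (k := k) d' e' m
  have hi := he.1 i; have hj := he.1 j; have hli := hlt i; have hlj := hlt j
  have hdd : d' + e i + e j = d + p := by omega
  have h1 : ∀ l, 1 ≤ e l := fun l => by have := (he.1 l).1; omega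
  have hsum := L13.RamP1.sum_sub_one he
  have h1' : ∀ l, 1 ≤ e' l := fun l => by
    rcases eq_or_ne l j with rfl | hj
    · rw [he', flipIdx_right]; omega
    rcases eq_or_ne l i with rfl | hi
    · rw [he', flipIdx_left hij]; omega
    · rw [he', flipIdx_of_ne hi hj]; exact h1 l
  have hlt' : ∀ l, e' l < p := fun l => by
    rcases eq_or_ne l j with rfl | hj
    · rw [he', flipIdx_right]; omega
    rcases eq_or_ne l i with rfl | hi
    · rw [he', flipIdx_left hij]; omega
    · rw [he', flipIdx_of_ne hi hj]; exact hlt l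
  have h2' : ∀ l, l ≠ i → l ≠ j → 2 ≤ e' l := fun l a b => by rw [he', flipIdx_of_ne a b]; exact (he.1 l).1
  have hmem : j ∈ Finset.univ.erase i := Finset.mem_erase.2 ⟨hij.symm, Finset.mem_univ j⟩
  have hsum' : (∑ l, (e' l - 1)) + 2 = 2 * d' := by
    rw [← Finset.add_sum_erase _ _ (Finset.mem_univ i), ← Finset.add_sum_erase _ _ hmem,
      Finset.sum_congr rfl (fun l hl => by
        obtain ⟨a, b⟩ := Finset.mem_erase.1 hl
        rw [he', flipIdx_of_ne (Finset.mem_erase.1 b).1 a] :
          ∀ l ∈ (Finset.univ.erase i).erase j, e' l - 1 = e l - 1), he', flipIdx_left hij, flipIdx_right]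
    rw [← Finset.add_sum_erase _ _ (Finset.mem_univ i), ← Finset.add_sum_erase _ _ hmem] at hsum
    omega
  have hback : flipIdx p e' i j = e := funext fun l => by
    rcases eq_or_ne l j with rfl | hj
    · rw [flipIdx_right, he', flipIdx_right]; omega
    rcases eq_or_ne l i with rfl | hi
    · rw [flipIdx_left hij, he', flipIdx_left hij]; omega
    · rw [flipIdx_of_ne hi hj, he', flipIdx_of_ne hi hj]
  obtain ⟨Φ₁, h₁, s₁⟩ := separate (k := k) (d := d) h1 hlt hsum hij fun l _ _ => (he.1 l).1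
  obtain ⟨Φ₂, h₂, s₂⟩ := separate (k := k) (d := d') h1' hlt' hsum' hij h2'
  let Φ₃ : MvPolynomial (Fin n) k :=
    ∏ ab : {ab : Fin n × Fin n // ab.1 ≠ ab.2}, (MvPolynomial.X ab.1.1 - MvPolynomial.X ab.1.2)
  have h₃ : Φ₃ ≠ 0 := Finset.prod_ne_zero_iff.2 fun ab _ => sub_ne_zero.2 fun h => ab.2 (MvPolynomial.X_injective h)
  have key : ∀ P : Fin n → k, MvPolynomial.eval P (Φ₁ * Φ₂ * Φ₃) ≠ 0 → Nonempty (ramMaps d P e ≃ ramMaps d' P e') := by
    intro P hP
    simp only [map_mul, mul_ne_zero_iff] at hP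
    obtain ⟨⟨g1, g2⟩, g3⟩ := hP
    have hinj : Function.Injective P := fun a b h => by
      by_contra hne
      simp only [Φ₃, map_prod, Finset.prod_ne_zero_iff, map_sub, MvPolynomial.eval_X] at g3
      exact g3 ⟨(a, b), hne⟩ (Finset.mem_univ _) (sub_eq_zero.2 h)
    have f : ∀ V ∈ ramMaps d P e, flip p P e i j V ∈ ramMaps d' P e' ∧ flip p P e' i j (flip p P e i j V) = V :=
      fun V hV => flip_spec hij hinj h1 hlt hsum hdd hsum' hV (s₁ P g1 V hV)
    have g : ∀ V ∈ ramMaps d' P e', flip p P e' i j V ∈ ramMaps d P e ∧ flip p P e i j (flip p P e' i j V) = V := by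
      intro V hV
      have h := flip_spec (d' := d) hij hinj h1' hlt' hsum'
        (by rw [he', flipIdx_left hij, flipIdx_right]; omega) (by rw [hback]; exact hsum) hV (s₂ P g2 V hV)
      rwa [hback] at h
    exact ⟨⟨fun V => ⟨_, (f V V.2).1⟩, fun V => ⟨_, (g V V.2).1⟩, fun V => Subtype.ext (f V V.2).2,
      fun V => Subtype.ext (g V V.2).2⟩⟩
  constructor
  · rintro ⟨Φ, h0, hΦ⟩
    refine ⟨Φ * (Φ₁ * Φ₂ * Φ₃), mul_ne_zero h0 (mul_ne_zero (mul_ne_zero h₁ h₂) h₃), fun P hP => ?_⟩
    rw [map_mul, mul_ne_zero_iff] at hP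
    obtain ⟨hfin, hcard⟩ := hΦ P hP.1
    obtain ⟨E⟩ := key P hP.2
    haveI := hfin.to_subtype
    exact ⟨Set.finite_coe_iff.1 (Finite.of_equiv _ E), (Nat.card_congr E).symm.trans hcard⟩
  · rintro ⟨Φ, h0, hΦ⟩
    refine ⟨Φ * (Φ₁ * Φ₂ * Φ₃), mul_ne_zero h0 (mul_ne_zero (mul_ne_zero h₁ h₂) h₃), fun P hP => ?_⟩
    rw [map_mul, mul_ne_zero_iff] at hP
    obtain ⟨hfin, hcard⟩ := hΦ P hP.1
    obtain ⟨E⟩ := key P hP.2
    haveI := hfin.to_subtype
    exact ⟨Set.finite_coe_iff.1 (Finite.of_equiv _ E.symm), (Nat.card_congr E).trans hcard⟩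

end Groth.Agent.S13922
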