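import Groth.Statements.S13923
import Groth.Agent.L03.Heun.Generic
import Groth.Agent.L03.Heun.Count
import Groth.Agent.L03.Heun.Transform
import Mathlib.Data.Fin.Tuple.Sort

set_option autoImplicit false
universe u
open W4c1limliniiii

namespace Groth.Agent.S13923

open Polynomial L03.Heun

/-- separable pencils of degree `d` with the prescribed ramification are the transformed weak pencils -/
theorem mem_ramMaps_iff {k : Type u} [Field k] [IsAlgClosed k] {p d : ℕ} {e : Fin 4 → ℕ}
    (he : Admissible p d e) {P : Fin 4 → k} (hP : Function.Injective P) (σ : Equiv.Perm (Fin 4)) (c : Par)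
    (hcd : c.d = d) (h1 : c.e1 = e (σ 0)) (h4 : c.e4 = e (σ 1)) (h3 : c.e3 = e (σ 2)) (hR : c.R = d - e (σ 3))
    (u v μ ν : k) [Invertible u] (h01 : v * (P (σ 0) - P (σ 3)) = 1)
    (h02 : (u * μ + v) * (P (σ 2) - P (σ 3)) = 1) (h03 : (u * ν + v) * (P (σ 1) - P (σ 3)) = 1)
    (V : Submodule k k[X]) :
    V ∈ ramMaps d P e ↔ Weak c μ ν (V.map (move d u v (P (σ 3))).toLinearMap) := by
  have hdeg := map_le_degreeLE_iff d u v (P (σ 3)) V
  have hrk : Module.finrank k (V.map (move d u v (P (σ 3))).toLinearMap) = Module.finrank k V :=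
    LinearEquiv.finrank_map_eq _ _
  have hle3 := (he.1 (σ 3)).2.1
  rw [Weak, hcd, hrk, hdeg]
  constructor
  · rintro ⟨⟨hV, hr, -, -⟩, hsep, hram⟩
    have hx : ∀ i, ∃ s ∈ V, s ≠ 0 ∧ (X - C (P i)) ^ e i ∣ s := fun i => by
      obtain ⟨s, hs, hs0, hle⟩ := (hram i).1
      exact ⟨s, hs, hs0, L13.RamP1.pow_dvd_of_le hle⟩
    refine ⟨hV, hr, (isSeparable_map_iff d u v _ hV).2 hsep,
      (exists_mem_map_iff d u v _ hV fun f hf _ => ?_).2 (hx (σ 0)),
      (exists_mem_map_iff d u v _ hV fun f hf _ => ?_).2 (hx (σ 2)),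
      (exists_mem_map_iff d u v _ hV fun f hf _ => ?_).2 (hx (σ 1)),
      (exists_mem_map_iff d u v _ hV fun f hf hf0 => ?_).2 (hx (σ 3))⟩
    · rw [← pow_dvd_move_iff d u v _ hf (x := 0) (by rwa [mul_zero, zero_add]), h1, C_0, sub_zero]
    · rw [← pow_dvd_move_iff d u v _ hf h02, h3]
    · rw [← pow_dvd_move_iff d u v _ hf h03, h4]
    · rw [← natDegree_move_add_le_iff d u v _ hf hf0, hR]; omega
  · rintro ⟨hV, hr, hsep, w1, w3, w4, w2⟩
    refine L13.RamP1.mem_ramMaps_of_separable he hP hV hr ((isSeparable_map_iff d u v _ hV).1 hsep) fun i => ?_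
    suffices ∃ s ∈ V, s ≠ 0 ∧ (X - C (P i)) ^ e i ∣ s by
      obtain ⟨s, hs, hs0, hdvd⟩ := this
      exact ⟨s, hs, hs0, L13.RamP1.le_of_pow_dvd hs0 hdvd⟩
    obtain ⟨j, rfl⟩ := σ.surjective i
    obtain rfl | rfl | rfl | rfl : j = 0 ∨ j = 1 ∨ j = 2 ∨ j = 3 := by omega
    · refine (exists_mem_map_iff d u v _ hV fun f hf _ => ?_).1 w1
      rw [← pow_dvd_move_iff d u v _ hf (x := 0) (by rwa [mul_zero, zero_add]), h1, C_0, sub_zero]
    · refine (exists_mem_map_iff d u v _ hV fun f hf _ => ?_).1 w4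
      rw [← pow_dvd_move_iff d u v _ hf h03, h4]
    · refine (exists_mem_map_iff d u v _ hV fun f hf _ => ?_).1 w3
      rw [← pow_dvd_move_iff d u v _ hf h02, h3]
    · refine (exists_mem_map_iff d u v _ hV fun f hf hf0 => ?_).1 w2
      refine Iff.trans ?_ (natDegree_move_add_le_iff d u v _ hf hf0 _)
      rw [hR]; omega

/-- the count, with the sorted exponents -/
theorem count_aux {k : Type u} [Field k] [IsAlgClosed k] {p d : ℕ} [CharP k p] {e : Fin 4 → ℕ}
    (he : Admissible p d e) (hlt : ∀ i, p = 0 ∨ e i < p) :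
    HasGenericCount (k := k) d e
      (Finset.univ.inf' Finset.univ_nonempty (fun i => min (e i) (d + 1 - e i)) - (if p = 0 then 0 else d + 1 - p)) := by
  classical
  set σ := Tuple.sort e with hσ
  have hmono : Monotone (e ∘ σ) := Tuple.monotone_sort e
  have o1 : e (σ 0) ≤ e (σ 1) := hmono (by decide)
  have o2 : e (σ 1) ≤ e (σ 2) := hmono (by decide)
  have o3 : e (σ 2) ≤ e (σ 3) := hmono (by decide)
  have hsum : e (σ 0) + e (σ 1) + e (σ 2) + e (σ 3) + 2 = 2 * d + 4 := by
    rw [← he.2, ← Equiv.sum_comp σ, Fin.sum_univ_four]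
  have b0 := he.1 (σ 0); have b3 := he.1 (σ 3)
  set c : Par := ⟨p, d, e (σ 0), e (σ 2), e (σ 1), d - e (σ 3)⟩ with hc
  have H : Hyp k c := by
    refine ⟨b0.1, o1, o2, ?_, ?_, ?_, inferInstanceAs (CharP k p)⟩
    · show e (σ 2) + (d - e (σ 3)) ≤ d; omega
    · show e (σ 0) + e (σ 2) + e (σ 1) = d + (d - e (σ 3)) + 2; omega
    · show p = 0 ∨ d - (d - e (σ 3)) < p
      rcases hlt (σ 3) with h | h <;> omega
  have hinf : Finset.univ.inf' Finset.univ_nonempty (fun i => min (e i) (d + 1 - e i)) =
      min (e (σ 0)) (d - e (σ 3) + 1) := by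
    refine le_antisymm (le_min ?_ ?_) (Finset.le_inf' _ _ fun i _ => ?_)
    · exact (Finset.inf'_le _ (Finset.mem_univ (σ 0))).trans (min_le_left _ _)
    · exact (Finset.inf'_le _ (Finset.mem_univ (σ 3))).trans ((min_le_right _ _).trans (by omega))
    · obtain ⟨j, rfl⟩ := σ.surjective i
      have g1 : e (σ 0) ≤ e (σ j) := hmono (Fin.zero_le j)
      have g2 : e (σ j) ≤ e (σ 3) := hmono (Fin.le_last j)
      omega
  let μ' : MvPolynomial (Fin 4) k := (.X (σ 0) - .X (σ 2)) * (.X (σ 1) - .X (σ 3))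
  let ν' : MvPolynomial (Fin 4) k := (.X (σ 0) - .X (σ 1)) * (.X (σ 2) - .X (σ 3))
  refine ⟨(∏ i : Fin 4, ∏ j ∈ Finset.univ.filter (i ≠ ·), (.X i - .X j)) * psi c μ' ν', ?_, fun P hP => ?_⟩
  · refine mul_ne_zero (Finset.prod_ne_zero_iff.2 fun i _ => Finset.prod_ne_zero_iff.2 fun j hj => ?_) fun h => ?_
    · exact sub_ne_zero.2 fun h => (Finset.mem_filter.1 hj).2 (MvPolynomial.X_injective h)
    · have h' := congrArg (MvPolynomial.eval fun i => (![1, 1, 0, 0] : Fin 4 → k) (σ.symm i)) h
      rw [map_zero, psi_map] at h'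
      refine psi_degenerate H ?_
      simpa [μ', ν'] using h'
  rw [map_mul, mul_ne_zero_iff] at hP
  obtain ⟨hP1, hP2⟩ := hP
  have hinj : Function.Injective P := fun i j hij => by
    by_contra hne
    simp only [map_prod, Finset.prod_ne_zero_iff] at hP1
    exact hP1 i (Finset.mem_univ i) j (Finset.mem_filter.2 ⟨Finset.mem_univ j, hne⟩) (by simp [hij])
  have ne : ∀ {i j : Fin 4}, i ≠ j → P (σ i) - P (σ j) ≠ 0 := fun h =>
    sub_ne_zero.2 fun e => h (σ.injective (hinj e))
  rw [psi_map] at hP2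
  simp only [μ', ν', map_mul, map_sub, MvPolynomial.eval_X] at hP2
  set a := P (σ 3)
  set μ := (P (σ 0) - P (σ 2)) * (P (σ 1) - a) with hμ
  set ν := (P (σ 0) - P (σ 1)) * (P (σ 2) - a) with hν
  have hg : Good c μ ν := by
    refine good_of_psi c μ ν (mul_ne_zero (ne (by decide)) (ne (by decide))) (mul_ne_zero (ne (by decide)) (ne (by decide)))
      (fun h => ?_) hP2
    have : (P (σ 0) - a) * (P (σ 1) - P (σ 2)) = 0 := by linear_combination h
    exact mul_ne_zero (ne (by decide)) (ne (by decide)) this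
  have n0 : P (σ 0) - a ≠ 0 := ne (by decide)
  have n1 : P (σ 1) - a ≠ 0 := ne (by decide)
  have n2 : P (σ 2) - a ≠ 0 := ne (by decide)
  let u := ((P (σ 0) - a) * (P (σ 2) - a) * (P (σ 1) - a))⁻¹
  let v := (P (σ 0) - a)⁻¹
  have hu : u ≠ 0 := inv_ne_zero (mul_ne_zero (mul_ne_zero n0 n2) n1)
  haveI : Invertible u := invertibleOfNonzero hu
  have hiff := mem_ramMaps_iff he hinj σ c rfl rfl rfl rfl rfl u v μ ν (inv_mul_cancel₀ n0)
    (by simp only [u, v, hμ]; field_simp; ring) (by simp only [u, v, hν]; field_simp; ring)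
  obtain ⟨hfin, hcard⟩ := finite_and_card H hg
  have hinjm : Function.Injective (Submodule.map (move d u v a).toLinearMap) :=
    Submodule.map_injective_of_injective (move d u v a).injective
  have heq : ramMaps d P e = Submodule.map (move d u v a).toLinearMap ⁻¹' {W | Weak c μ ν W} :=
    Set.ext fun V => hiff V
  refine ⟨heq ▸ hfin.preimage hinjm.injOn, ?_⟩
  rw [heq, Nat.card_preimage_of_injective hinjm, hcard, hinf]
  · rfl
  · intro W _
    exact ⟨W.map (move d u v a).symm.toLinearMap, by
      rw [← Submodule.map_comp, LinearEquiv.comp_coe, LinearEquiv.symm_trans_self, LinearEquiv.refl_toLinearMap, Submodule.map_id]⟩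


open Polynomial in
/-- Over an algebraically closed field of characteristic p (zero allowed), let (d; e_1, …, e_4) be
admissible (2 ≤ e_i ≤ d, e_i prime to p, ∑ (e_i − 1) = 2d − 2) with every e_i < p when p is
positive. Then the number of separable self-maps of the projective line of degree d ramified to
order exactly e_i at four general points (configurations of the affine line off the zero set of a
non-zero polynomial), counted up to automorphisms of the target as base-point-free separable pencils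
of polynomials, equals min over i of min (e_i, d + 1 − e_i), less max (0, d + 1 − p) when p is
positive. (Subtraction here is that of the natural numbers, truncated at zero: read over the
integers the closed form is negative for some admissible data, for instance indices 6, 6, 6, 2 in
characteristic 7, where the count is 0; the assertion that the maps have no non-trivial deformations
is not restated.) -/
theorem result (k : Type u) [Field k] [IsAlgClosed k]
    (p : ℕ) [CharP k p] (d : ℕ) (e : Fin 4 → ℕ) (he : W4c1limliniiii.Admissible p d e)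
    (hlt : ∀ i, p = 0 ∨ e i < p) :
    (p ≠ 0 → W4c1limliniiii.HasGenericCount (k := k) d e
      (Finset.univ.inf' Finset.univ_nonempty (fun i => min (e i) (d + 1 - e i)) - (d + 1 - p))) ∧
    (p = 0 → W4c1limliniiii.HasGenericCount (k := k) d e
      (Finset.univ.inf' Finset.univ_nonempty (fun i => min (e i) (d + 1 - e i)))) := by
  refine ⟨fun hp => ?_, fun hp => ?_⟩
  · have h := count_aux (k := k) he hlt
    rwa [if_neg hp] at h
  · have h := count_aux (k := k) he hlt
    rwa [if_pos hp, Nat.sub_zero] at h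

end Groth.Agent.S13923
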