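import Groth.Statements.S13925
import Mathlib.LinearAlgebra.FiniteDimensional.Basic
import Mathlib.Tactic

set_option autoImplicit false
universe u v w x
open W4c1limliniiii

namespace Groth.Agent.S13925

/-- Let k be a field and U, E, W vector spaces over k with linear maps f : U → E, g' : E → U, f₂ : E → W
and g : W → E such that g' ∘ f = 0, the kernel of f₂ is contained in the image of g, and the image
of g meets the kernel of g' only in 0 — the conditions holding at a point of a linked Grassmannian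
at which the linking scalar vanishes. Let V₁ ≤ U and V₂ ≤ E be subspaces and let C' ≤ V₂ be a
subspace contained in the kernel of g' and meeting f(V₁) only in 0. Then the subspaces f(V₁), ker f₂
∩ V₂ and C' of E are independent: their sum is direct. (The published statement is for two
consecutive members V_{i-1}, V_i of a point of a linked Grassmannian at which the linking scalar
vanishes and adds the decomposition V_i = f(V_{i-1}) ⊕ (ker f_i ∩ V_i) ⊕ C with C ⊇ C'; this row
states the independence, with only the three conditions the argument uses.) -/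
theorem result (k : Type u) [Field k]
    (U : Type v) (E : Type w) (W : Type x) [AddCommGroup U] [Module k U] [AddCommGroup E]
    [Module k E] [AddCommGroup W] [Module k W]
    (f : U →ₗ[k] E) (g' : E →ₗ[k] U) (f₂ : E →ₗ[k] W) (g : W →ₗ[k] E)
    (hgf : g'.comp f = 0) (hII : LinearMap.ker f₂ ≤ LinearMap.range g)
    (hIII : LinearMap.range g ⊓ LinearMap.ker g' = ⊥)
    (V₁ : Submodule k U) (V₂ : Submodule k E) (C' : Submodule k E) (hC : C' ≤ V₂)
    (hCg : C' ≤ LinearMap.ker g') (hCf : Submodule.map f V₁ ⊓ C' = ⊥) :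
    iSupIndep ![Submodule.map f V₁, LinearMap.ker f₂ ⊓ V₂, C'] := by
  rw [iSupIndep_def]
  intro i
  have key : ∀ a ∈ Submodule.map f V₁, ∀ b ∈ LinearMap.ker f₂ ⊓ V₂, ∀ c ∈ C', a + b + c = 0 → a = 0 ∧ b = 0 ∧ c = 0 := by
    intro a ha b hb c hc h
    obtain ⟨x, hx, rfl⟩ := ha
    have h1 : g' b = 0 := by
      have := congrArg g' h
      rw [map_add, map_add, show g' (f x) = 0 from LinearMap.congr_fun hgf x, LinearMap.mem_ker.1 (hCg hc),
        zero_add, add_zero, map_zero] at this
      exact this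
    have hb0 : b = 0 := (Submodule.eq_bot_iff _).1 hIII b ⟨hII hb.1, h1⟩
    rw [hb0, add_zero, add_eq_zero_iff_eq_neg] at h
    have h2 : f x = 0 := (Submodule.eq_bot_iff _).1 hCf _ ⟨⟨x, hx, rfl⟩, h ▸ C'.neg_mem hc⟩
    refine ⟨h2, hb0, ?_⟩
    rw [h2] at h
    exact neg_eq_zero.1 h.symm
  rw [disjoint_iff, Submodule.eq_bot_iff]
  rintro x ⟨hxi, hxs⟩
  fin_cases i
  · have : x ∈ (LinearMap.ker f₂ ⊓ V₂) ⊔ C' := by
      refine (iSup₂_le fun j hj => ?_ : (⨆ j, ⨆ (_ : j ≠ _), (![Submodule.map f V₁, LinearMap.ker f₂ ⊓ V₂, C']) j) ≤ _) hxs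
      fin_cases j
      · exact absurd rfl hj
      · exact le_sup_left
      · exact le_sup_right
    obtain ⟨b, hb, c, hc, e⟩ := Submodule.mem_sup.1 this
    obtain ⟨h1, -, -⟩ := key x hxi (-b) (neg_mem hb) (-c) (neg_mem hc) (by rw [← e]; abel)
    exact h1
  · have : x ∈ Submodule.map f V₁ ⊔ C' := by
      refine (iSup₂_le fun j hj => ?_ : (⨆ j, ⨆ (_ : j ≠ _), (![Submodule.map f V₁, LinearMap.ker f₂ ⊓ V₂, C']) j) ≤ _) hxs
      fin_cases j
      · exact le_sup_left
      · exact absurd rfl hj
      · exact le_sup_right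
    obtain ⟨a, ha, c, hc, e⟩ := Submodule.mem_sup.1 this
    obtain ⟨-, h1, -⟩ := key (-a) (neg_mem ha) x hxi (-c) (neg_mem hc) (by rw [← e]; abel)
    exact h1
  · have : x ∈ Submodule.map f V₁ ⊔ (LinearMap.ker f₂ ⊓ V₂) := by
      refine (iSup₂_le fun j hj => ?_ : (⨆ j, ⨆ (_ : j ≠ _), (![Submodule.map f V₁, LinearMap.ker f₂ ⊓ V₂, C']) j) ≤ _) hxs
      fin_cases j
      · exact le_sup_left
      · exact le_sup_right
      · exact absurd rfl hj
    obtain ⟨a, ha, b, hb, e⟩ := Submodule.mem_sup.1 this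
    obtain ⟨-, -, h1⟩ := key (-a) (neg_mem ha) (-b) (neg_mem hb) x hxi (by rw [← e]; abel)
    exact h1

end Groth.Agent.S13925
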