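import Groth.Statements.S13926
import Mathlib.LinearAlgebra.FiniteDimensional.Basic
import Mathlib.Tactic

set_option autoImplicit false
universe u v w
open W4c1limliniiii

namespace Groth.Agent.S13926

/-- Let k be a field, E₁ and E₂ finite-dimensional vector spaces over k of the same dimension, f : E₁ →
E₂ and g : E₂ → E₁ linear maps whose composite g ∘ f is multiplication by a scalar s, and V₁ a
subspace of E₁. Then there is a subspace V₂ of E₂ of the same dimension as V₁ with f(V₁) ≤ V₂ and
g(V₂) ≤ V₁. (The published statement is the surjectivity of the truncation morphisms of a linked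
Grassmannian, with a further assertion on lifting families; this row is the lifting step over a
field — over a point the chain of linked subspaces V_1, …, V_{n'} extends one index at a time — and
assumes only g ∘ f = s.) -/
theorem result (k : Type u) [Field k]
    (E₁ : Type v) (E₂ : Type w) [AddCommGroup E₁] [Module k E₁] [FiniteDimensional k E₁]
    [AddCommGroup E₂] [Module k E₂] [FiniteDimensional k E₂]
    (hdim : Module.finrank k E₁ = Module.finrank k E₂)
    (f : E₁ →ₗ[k] E₂) (g : E₂ →ₗ[k] E₁) (s : k) (hgf : g.comp f = s • LinearMap.id)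
    (V₁ : Submodule k E₁) :
    ∃ V₂ : Submodule k E₂, Module.finrank k V₂ = Module.finrank k V₁ ∧
      Submodule.map f V₁ ≤ V₂ ∧ Submodule.map g V₂ ≤ V₁ := by
  have hle : Submodule.map f V₁ ≤ Submodule.comap g V₁ := by
    rintro _ ⟨x, hx, rfl⟩
    rw [Submodule.mem_comap, show g (f x) = s • x from LinearMap.congr_fun hgf x]
    exact V₁.smul_mem s hx
  have h1 : Module.finrank k (Submodule.map f V₁) ≤ Module.finrank k V₁ := Submodule.finrank_map_le f V₁
  have h2 : Module.finrank k V₁ ≤ Module.finrank k (Submodule.comap g V₁) := by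
    have h3 : LinearMap.ker (V₁.mkQ.comp g) = Submodule.comap g V₁ := by rw [LinearMap.ker_comp, Submodule.ker_mkQ]
    have h4 := LinearMap.finrank_range_add_finrank_ker (V₁.mkQ.comp g)
    rw [h3] at h4
    have h5 := Submodule.finrank_le (LinearMap.range (V₁.mkQ.comp g))
    have h6 := V₁.finrank_quotient_add_finrank
    omega
  obtain ⟨W, hW, hW'⟩ : ∃ W : Submodule k E₂, Submodule.map f V₁ ≤ W ∧ W ≤ Submodule.comap g V₁ ∧ Module.finrank k W = Module.finrank k V₁ := by
    let Q := (Submodule.comap g V₁).map (Submodule.map f V₁).mkQ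
    suffices H : ∀ j, Module.finrank k (Submodule.map f V₁) + j ≤ Module.finrank k (Submodule.comap g V₁) →
        ∃ W : Submodule k E₂, Submodule.map f V₁ ≤ W ∧ W ≤ Submodule.comap g V₁ ∧
          Module.finrank k W = Module.finrank k (Submodule.map f V₁) + j by
      obtain ⟨W, a, b, c⟩ := H (Module.finrank k V₁ - Module.finrank k (Submodule.map f V₁)) (by omega)
      exact ⟨W, a, b, by omega⟩
    intro j
    induction j with
    | zero => exact fun _ => ⟨_, le_rfl, hle, rfl⟩
    | succ j ih =>
      intro hj
      obtain ⟨W, a, b, c⟩ := ih (by omega)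
      have hne : ¬ Submodule.comap g V₁ ≤ W := fun h => by
        have := Submodule.finrank_mono h
        omega
      obtain ⟨x, hx, hxW⟩ := SetLike.not_le_iff_exists.1 hne
      refine ⟨W ⊔ Submodule.span k {x}, a.trans le_sup_left, sup_le b ((Submodule.span_singleton_le_iff_mem _ _).2 hx), ?_⟩
      rw [← add_assoc, ← c]
      have hx0 : x ≠ 0 := fun h => hxW (h ▸ W.zero_mem)
      have hdis : W ⊓ Submodule.span k {x} = ⊥ := disjoint_iff.1 (Submodule.disjoint_span_singleton.2 fun h => absurd h hxW)
      have := Submodule.finrank_sup_add_finrank_inf_eq W (Submodule.span k {x})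
      rw [hdis, finrank_bot, add_zero, finrank_span_singleton hx0] at this
      exact this
  exact ⟨W, hW'.2, hW, Submodule.map_le_iff_le_comap.2 hW'.1⟩

end Groth.Agent.S13926
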