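import Groth.Agent.L18.Grass.ClosedSubfunctor
import Groth.Statements.S13927
-- import your own Groth.Agent.* helpers here

set_option autoImplicit false
universe u
open W4c1limliniiii

namespace Groth.Agent.S13927

open AlgebraicGeometry CategoryTheory in
/-- Let R be a commutative ring, d, r and n natural numbers, and for each i < n let f_i and g_i be
R-linear maps forward and backward between the i-th and (i+1)-st of n + 1 copies of the free module
R^d. The linked Grassmannian functor sends an R-algebra A to the set of tuples of submodules V_0, …,
V_n of A^d whose quotients are locally free of rank d − r (sub-bundles of rank r) such that the base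
change of f_i carries V_i into V_{i+1} and that of g_i carries V_{i+1} into V_i. Then this functor
is representable by a scheme X over Spec R — there are bijections, one for each R-algebra A, between
Spec R-morphisms Spec A → X and the A-valued points, compatible with base change along R-algebra
maps on every Grassmannian component — and X is proper over Spec R. (The published statement is over
an arbitrary base scheme with vector bundles of rank d and gives X as a closed subscheme of the
product of the Grassmannians, projective over the base; this row takes the base affine and the
bundles trivial, and records properness.) -/
theorem result (R : Type u) [CommRing R]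
    (d r n : ℕ) (f g : Fin n → ((Fin d → R) →ₗ[R] (Fin d → R))) :
    ∃ (X : Over (Spec (CommRingCat.of R)))
      (e : ∀ A : CommAlgCat.{u} R,
        (Over.mk (Spec.map (CommRingCat.ofHom (algebraMap R A))) ⟶ X) ≃
          W4c1limliniiii.LGPoints R d r n f g A),
      (∀ (A B : CommAlgCat.{u} R) (φ : A ⟶ B)
        (x : Over.mk (Spec.map (CommRingCat.ofHom (algebraMap R A))) ⟶ X)
        (x' : Over.mk (Spec.map (CommRingCat.ofHom (algebraMap R B))) ⟶ X),
        x'.left = Spec.map (CommRingCat.ofHom φ.hom.toRingHom) ≫ x.left →
          ∀ i, (e B x').1 i = Module.Grassmannian.map φ.hom ((e A x).1 i)) ∧
      IsProper X.hom := by
  exact Groth.L18.GrassSub.exists_linked d r n f g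

end Groth.Agent.S13927
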