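import Groth.Statements.S13929
import Groth.Agent.L13.RamP1.Finiteness

set_option autoImplicit false
universe u
open W4c1limliniiii

namespace Groth.Agent.S13929

open Polynomial in
/-- Over an algebraically closed field of characteristic p with p = 0 or d < p, fix n distinct points of
the affine line and admissible ramification indices (2 ≤ e_i ≤ d, e_i prime to p, ∑ (e_i − 1) = 2d −
2). Then there are only finitely many separable self-maps of the projective line of degree d, up to
automorphisms of the target, with ramification index exactly e_i at the i-th point: the set of
base-point-free separable pencils of polynomials of degree at most d with this ramification is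
finite. (This is the case of a fully specified ramification divisor; the points are arbitrary
distinct points, not only general ones.) -/
theorem result (k : Type u) [Field k] [IsAlgClosed k]
    (p : ℕ) [CharP k p] (d n : ℕ) (P : Fin n → k) (hP : Function.Injective P)
    (e : Fin n → ℕ) (he : W4c1limliniiii.Admissible p d e) (hp : p = 0 ∨ d < p) :
    (W4c1limliniiii.ramMaps d P e).Finite := by
  exact Groth.L13.RamP1.finite_ramMaps hP he hp

end Groth.Agent.S13929
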