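import Groth.Statements.S1393
import Groth.Agent.L20.FibreFree

set_option autoImplicit false
universe u
open FlatMor

set_option backward.isDefEq.respectTransparency.types false
open AlgebraicGeometry CategoryTheory in
open scoped TensorProduct in
set_option backward.isDefEq.respectTransparency false in
theorem _root_.Groth.L20.FibreFree.main1393 {X S : Scheme.{u}} (f : X ⟶ S) [LocallyOfFinitePresentation f]
    (F : X.Modules) (hFq : Coh.IsQCoh F) (hFp : CohB1.IsFP F) (x : X) (h1 : FlatMod.IsFlatOverAt f F x)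
    (h2 : Module.Flat (↑(X.presheaf.stalk x) ⧸ Ideal.map (f.stalkMap x).hom (IsLocalRing.maximalIdeal ↑(S.presheaf.stalk (f x))))
      (↑(F.presheaf.stalk x) ⧸ (Ideal.map (f.stalkMap x).hom (IsLocalRing.maximalIdeal ↑(S.presheaf.stalk (f x))) • (⊤ : Submodule ↑(X.presheaf.stalk x) ↑(F.presheaf.stalk x))))) :
    ∃ (U : X.Opens) (n : ℕ), x ∈ U ∧ Nonempty (F.restrict U.ι ≅ FlatMod.freeMod (↑U) n) := by
  haveI : Coh.IsQCoh F := hFq
  obtain ⟨_, ⟨W, hW, rfl⟩, hxW, -⟩ :=
    S.isBasis_affineOpens.exists_subset_of_mem_open (Set.mem_univ (f x)) isOpen_univ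
  obtain ⟨_, ⟨V, hV, rfl⟩, hx, hVW⟩ :=
    X.isBasis_affineOpens.exists_subset_of_mem_open (a := x) (show x ∈ f ⁻¹ᵁ W from hxW) (f ⁻¹ᵁ W).2
  change S.Opens at W
  change X.Opens at V
  replace hW : IsAffineOpen W := hW
  replace hV : IsAffineOpen V := hV
  have eV : V ≤ f ⁻¹ᵁ W := hVW
  algebraize [(f.appLE W V eV).hom]
  haveI : Algebra.FinitePresentation Γ(S, W) Γ(X, V) := f.finitePresentation_appLE hW hV eV
  letI := Module.compHom Γ(F, V) (f.appLE W V eV).hom
  haveI : IsScalarTower Γ(S, W) Γ(X, V) Γ(F, V) := IsScalarTower.of_algebraMap_smul fun _ _ => rfl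
  haveI : Module.FinitePresentation Γ(X, V) Γ(F, V) := Groth.L20.ModStalk.finitePresentation_sections F hFp hV
  let q := (hV.primeIdealOf ⟨x, hx⟩).asIdeal
  let p := q.comap (algebraMap Γ(S, W) Γ(X, V))
  haveI : Module.Flat Γ(S, W) (LocalizedModule q.primeCompl Γ(F, V)) :=
    (Groth.L20.ModStalk.isFlatOverAt_iff f F hW hV eV hx).mp h1
  let K := p.ResidueField
  obtain ⟨C, _, _, _, _, _, _, _⟩ : ∃ (C : Type u) (_ : CommRing C) (_ : Algebra K C) (_ : Algebra Γ(X, V) C)
      (_ : Algebra Γ(S, W) C) (_ : IsScalarTower Γ(S, W) K C) (_ : IsScalarTower Γ(S, W) Γ(X, V) C),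
      Algebra.IsPushout Γ(S, W) K Γ(X, V) C :=
    letI : Algebra Γ(X, V) (K ⊗[Γ(S, W)] Γ(X, V)) := Algebra.TensorProduct.rightAlgebra
    haveI : IsScalarTower Γ(S, W) Γ(X, V) (K ⊗[Γ(S, W)] Γ(X, V)) := IsScalarTower.of_algebraMap_eq fun a =>
      ((Algebra.TensorProduct.includeRight : _ →ₐ[Γ(S, W)] (K ⊗[Γ(S, W)] Γ(X, V))).commutes a).symm
    ⟨K ⊗[Γ(S, W)] Γ(X, V), inferInstance, inferInstance, inferInstance, inferInstance, inferInstance, inferInstance, inferInstance⟩
  haveI : Algebra.IsPushout Γ(S, W) Γ(X, V) K C := .symm inferInstance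
  obtain ⟨q', hq'p, hq', -⟩ := Groth.L20.exists_prime_isPushout (R := Γ(S, W)) (S := Γ(X, V)) (R' := K) (S' := C)
    q ⊥ (by rw [← RingHom.ker_eq_comap_bot]; exact (Ideal.ker_algebraMap_residueField p).symm)
  haveI := hq'p
  letI := X.presheaf.algebra_section_stalk ⟨x, hx⟩
  haveI := hV.isLocalization_stalk ⟨x, hx⟩
  let O := X.presheaf.stalk x
  letI : Algebra Γ(S, W) O := ((algebraMap Γ(X, V) O).comp (algebraMap Γ(S, W) Γ(X, V))).toAlgebra
  haveI : IsScalarTower Γ(S, W) Γ(X, V) O := IsScalarTower.of_algebraMap_eq fun _ => rfl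
  let P : Ideal O := Ideal.map (f.stalkMap x).hom (IsLocalRing.maximalIdeal ↑(S.presheaf.stalk (f x)))
  have hP : P = p.map (algebraMap Γ(S, W) O) := by
    letI := S.presheaf.algebra_section_stalk ⟨f x, hxW⟩
    haveI := hW.isLocalization_stalk ⟨f x, hxW⟩
    have hp : (hW.primeIdealOf ⟨f x, hxW⟩).asIdeal = p :=
      congr($(IsAffineOpen.comap_primeIdealOf_appLE W hW V hV eV hx).1).symm
    show Ideal.map (f.stalkMap x).hom (IsLocalRing.maximalIdeal ↑(S.presheaf.stalk (f x))) = _
    rw [← IsLocalization.AtPrime.map_eq_maximalIdeal (hW.primeIdealOf ⟨f x, hxW⟩).asIdeal, Ideal.map_map, hp]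
    congr 1
    ext a
    rw [IsScalarTower.algebraMap_apply Γ(S, W) Γ(X, V) O]
    exact Groth.L20.ModStalk.stalkMap_germ eV hx hxW a
  letI := Groth.L20.ModStalk.stalkModule F hx
  haveI : IsScalarTower Γ(X, V) O (F.presheaf.stalk x) := IsScalarTower.of_algebraMap_smul fun _ _ => rfl
  haveI := Groth.L20.ModStalk.isLocalizedModule_germ F hV hx
  have hb : IsBaseChange O (Groth.L20.ModStalk.germₗ F hx) :=
    IsLocalizedModule.isBaseChange q.primeCompl _ _
  have h : Module.Flat (O ⧸ P) ((O ⧸ P) ⊗[Γ(X, V)] Γ(F, V)) := by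
    haveI := h2
    let e : ((O ⧸ P) ⊗[Γ(X, V)] Γ(F, V)) ≃ₗ[O] (F.presheaf.stalk x ⧸ (P • (⊤ : Submodule O (F.presheaf.stalk x)))) :=
      (TensorProduct.AlgebraTensorModule.cancelBaseChange Γ(X, V) O O (O ⧸ P) Γ(F, V)).symm ≪≫ₗ
        (TensorProduct.AlgebraTensorModule.congr (LinearEquiv.refl O (O ⧸ P)) hb.equiv) ≪≫ₗ
        (TensorProduct.quotTensorEquivQuotSMul (F.presheaf.stalk x) P)
    refine Module.Flat.of_linearEquiv (LinearEquiv.ofBijective
      ({ toFun := e
         map_add' := map_add e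
         map_smul' := fun r z => by
          obtain ⟨r, rfl⟩ := Ideal.Quotient.mk_surjective r
          rw [RingHom.id_apply, ← Ideal.Quotient.algebraMap_eq, algebraMap_smul, algebraMap_smul, map_smul] } :
        ((O ⧸ P) ⊗[Γ(X, V)] Γ(F, V)) →ₗ[O ⧸ P] _) e.bijective)
  let ψ₀ : O →+* Localization.AtPrime q' :=
    IsLocalization.lift (M := q.primeCompl) (g := (algebraMap C (Localization.AtPrime q')).comp (algebraMap Γ(X, V) C))
      fun t => IsLocalization.map_units (Localization.AtPrime q') (⟨algebraMap Γ(X, V) C t, fun hmem => t.2 (hq'.le hmem)⟩ : q'.primeCompl)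
  let ψ : O ⧸ P →+* Localization.AtPrime q' := Ideal.Quotient.lift P ψ₀ fun a ha => by
    have : P ≤ RingHom.ker ψ₀ := by
      rw [hP, Ideal.map_le_iff_le_comap]
      intro r hr
      rw [Ideal.mem_comap, RingHom.mem_ker, IsScalarTower.algebraMap_apply Γ(S, W) Γ(X, V) O, IsLocalization.lift_eq,
        RingHom.comp_apply, ← IsScalarTower.algebraMap_apply Γ(S, W) Γ(X, V) C,
        IsScalarTower.algebraMap_apply Γ(S, W) K C,
        show algebraMap Γ(S, W) K r = 0 from Ideal.algebraMap_residueField_eq_zero.mpr hr, map_zero, map_zero]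
    exact this ha
  letI : Algebra (O ⧸ P) (Localization.AtPrime q') := ψ.toAlgebra
  haveI : IsScalarTower Γ(X, V) (O ⧸ P) (Localization.AtPrime q') := IsScalarTower.of_algebraMap_eq fun a => by
    show algebraMap Γ(X, V) (Localization.AtPrime q') a = ψ₀ (algebraMap Γ(X, V) O a)
    rw [IsLocalization.lift_eq, IsScalarTower.algebraMap_apply Γ(X, V) C (Localization.AtPrime q')]
    rfl
  have hflat : Module.Flat Γ(X, V) (LocalizedModule q.primeCompl Γ(F, V)) :=
    Groth.L20.FibreFree.flat_of_local_fibre (R := Γ(S, W)) (K := K) (C := C) q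
      (Ideal.ker_algebraMap_residueField p) q' hq' h
  haveI := Groth.L20.FibreFree.free_stalk hV hx hflat
  exact Groth.L20.FibreFree.exists_free_nhd F hFp x inferInstance
namespace Groth.Agent.S1393

open AlgebraicGeometry CategoryTheory Limits in
/-- Let f : X → S be of finite presentation, F a finitely presented quasi-coherent O_X-module and x a
point with image s. If F is flat over S at x and the stalk at x of the restriction of F to the
fibre, namely F_x / m_s F_x, is flat over the local ring of the fibre at x, namely O_{X,x} / m_s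
O_{X,x}, then F is free of finite rank on some open neighbourhood of x. -/
theorem result {X S : Scheme.{u}} (f : X ⟶ S) [LocallyOfFinitePresentation f] [QuasiCompact f] [QuasiSeparated f]
    (F : X.Modules) (hFq : Coh.IsQCoh F) (hFp : CohB1.IsFP F) (x : X) (h1 : FlatMod.IsFlatOverAt f F x)
    (h2 : Module.Flat (↑(X.presheaf.stalk x) ⧸ Ideal.map (f.stalkMap x).hom (IsLocalRing.maximalIdeal ↑(S.presheaf.stalk (f x))))
      (↑(F.presheaf.stalk x) ⧸ (Ideal.map (f.stalkMap x).hom (IsLocalRing.maximalIdeal ↑(S.presheaf.stalk (f x))) • (⊤ : Submodule ↑(X.presheaf.stalk x) ↑(F.presheaf.stalk x))))) :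
    ∃ (U : X.Opens) (n : ℕ), x ∈ U ∧ Nonempty (F.restrict U.ι ≅ FlatMod.freeMod (↑U) n) := by
  exact Groth.L20.FibreFree.main1393 f F hFq hFp x h1 h2


end Groth.Agent.S1393
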