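import Groth.Statements.S13933
import Groth.Agent.L13.LG.Scheme

set_option autoImplicit false
universe u
open W4c1limliniiii

namespace Groth.Agent.S13933

open AlgebraicGeometry CategoryTheory TensorProduct in
/-- Let R be a Cohen–Macaulay integral domain, 0 < r < d, and for i < n let f_i, g_i be R-linear maps
forward and backward between the i-th and (i+1)-st of n + 1 copies of R^d forming a linked
Grassmannian: there is one s ∈ R with every f_i ∘ g_i and g_i ∘ f_i equal to multiplication by s,
and at every prime P of R, after base change to the residue field κ(P), rank f_i + rank g_i ≥ d for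
each i and, for consecutive indices, the image of f_i meets the kernel of f_{i+1} only in 0 and the
image of g_{i+1} meets the kernel of g_i only in 0. Suppose the scheme X over Spec R represents the
linked Grassmannian functor of rank-r sub-bundles (bijections, compatible with base change on each
Grassmannian component, between Spec R-morphisms Spec A → X and tuples of submodules of A^d with
locally free quotients of rank d − r carried into one another by the f_i and g_i). Then every
irreducible component of the underlying space of X maps onto Spec R, and if s ≠ 0 then X is
irreducible. (The published statement is over an integral Cohen–Macaulay base scheme with vector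
bundles and also gives the codimension (n − 1) r (d − r) of every component inside the product of
Grassmannians; this row takes the base affine and the bundles trivial and does not restate the
codimension.) -/
theorem result (R : Type u)
    [CommRing R] [IsDomain R] [LocCoh.IsCohenMacaulayRing R]
    (d r n : ℕ) (hr : 0 < r) (hrd : r < d) (f g : Fin n → ((Fin d → R) →ₗ[R] (Fin d → R)))
    (s : R) (hI : ∀ i, (f i).comp (g i) = s • LinearMap.id ∧ (g i).comp (f i) = s • LinearMap.id)
    (hII : ∀ (P : Ideal R) [P.IsPrime], ∀ i,
      d ≤ Module.finrank P.ResidueField (LinearMap.range ((f i).baseChange P.ResidueField)) +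
        Module.finrank P.ResidueField (LinearMap.range ((g i).baseChange P.ResidueField)))
    (hIII : ∀ (P : Ideal R) [P.IsPrime], ∀ i j : Fin n, i.val + 1 = j.val →
      LinearMap.range ((f i).baseChange P.ResidueField) ⊓
          LinearMap.ker ((f j).baseChange P.ResidueField) = ⊥ ∧
        LinearMap.range ((g j).baseChange P.ResidueField) ⊓
          LinearMap.ker ((g i).baseChange P.ResidueField) = ⊥)
    (X : Over (Spec (CommRingCat.of R)))
    (e : ∀ A : CommAlgCat.{u} R,
      (Over.mk (Spec.map (CommRingCat.ofHom (algebraMap R A))) ⟶ X) ≃
        W4c1limliniiii.LGPoints R d r n f g A)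
    (he : ∀ (A B : CommAlgCat.{u} R) (φ : A ⟶ B)
      (x : Over.mk (Spec.map (CommRingCat.ofHom (algebraMap R A))) ⟶ X)
      (x' : Over.mk (Spec.map (CommRingCat.ofHom (algebraMap R B))) ⟶ X),
      x'.left = Spec.map (CommRingCat.ofHom φ.hom.toRingHom) ≫ x.left →
        ∀ i, (e B x').1 i = Module.Grassmannian.map φ.hom ((e A x).1 i)) :
    (∀ Z ∈ irreducibleComponents ↥X.left, X.hom.base '' Z = Set.univ) ∧
      (s ≠ 0 → IrreducibleSpace ↥X.left) := by
  have H : Groth.L13.LG.Hyp f g s r := Groth.L13.LG.Hyp.of_residue hrd.le hI hII hIII
  let D : Groth.L13.LG.Rep r f g := ⟨X, e, he⟩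
  exact ⟨fun Z hZ => D.image_eq_univ H hZ, D.irreducibleSpace_of_ne_zero H⟩

end Groth.Agent.S13933
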