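import Groth.Statements.S13934
import Groth.Agent.L21.Bundle.Lines

set_option backward.isDefEq.respectTransparency false
set_option linter.style.haveILetI false

set_option autoImplicit false
universe u
open CategoryTheory CategoryTheory.Limits AlgebraicGeometry
open W4c1limliniiii

namespace Groth.Agent.S13934

/-- On a smooth proper integral curve over an algebraically closed field (any characteristic), let 0 → L
→ E → M → 0 be a short exact sequence of O_X-modules with E finite locally free of rank 2 and degree
0, L and M invertible and deg L > 0 (so M is det E ⊗ L⁻¹). Then: every invertible sheaf N admitting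
a non-zero map N → E has deg N ≤ deg L, so L is the line bundle of maximal degree in E; every
invertible subsheaf N of E of positive degree with invertible quotient E/N coincides with L (some
isomorphism N ≅ L commutes with the inclusions); and E is not an extension of two invertible sheaves
of degree 0. Degrees are χ(−) minus rank times χ(O_X). (The published lemma is stated on a curve of
genus 2 in characteristic p; its argument uses neither, and this row assumes neither.) -/
theorem result (k : Type u) [Field k] [IsAlgClosed k] (X : Scheme.{u}) [X.Over (Spec (CommRingCat.of k))]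
    [IsIntegral X] [IsProper (X ↘ Spec (CommRingCat.of k))] [Smooth (X ↘ Spec (CommRingCat.of k))]
    (hdim : topologicalKrullDim X = 1)
    (S : ShortComplex X.Modules) (hS : S.ShortExact)
    (hE : FlatMod.IsFinLocFreeOfRank 2 S.X₂) (hE0 : Curv2.deg k X S.X₂ 2 = 0)
    (hL : PicF.IsInvertible S.X₁) (hM : PicF.IsInvertible S.X₃) (hpos : 0 < Curv2.deg k X S.X₁ 1) :
    (∀ (N : X.Modules), PicF.IsInvertible N → ∀ j : N ⟶ S.X₂, j ≠ 0 →
        Curv2.deg k X N 1 ≤ Curv2.deg k X S.X₁ 1) ∧
    (∀ (N : X.Modules), PicF.IsInvertible N → ∀ (j : N ⟶ S.X₂), Mono j →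
        PicF.IsInvertible (cokernel j) → 0 < Curv2.deg k X N 1 → ∃ φ : N ≅ S.X₁, φ.hom ≫ S.f = j) ∧
    (∀ (N N' : X.Modules), PicF.IsInvertible N → PicF.IsInvertible N' →
        Curv2.deg k X N 1 = 0 → Curv2.deg k X N' 1 = 0 →
        ∀ (a : N ⟶ S.X₂) (b : S.X₂ ⟶ N') (w : a ≫ b = 0), ¬ (ShortComplex.mk a b w).ShortExact) := by
  haveI : IsLocallyNoetherian X := LocallyOfFiniteType.isLocallyNoetherian (X ↘ Spec (CommRingCat.of k))
  have hreg : ∀ x : X, IsRegularLocalRing (X.presheaf.stalk x) := fun x =>
    Groth.L21.Smooth.regular_stalk (X ↘ Spec (CommRingCat.of k)) x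
  have hd := hdim.le
  haveI := hS.mono_f
  open Groth.L21.Bundle in
  have hadd : dg k S.X₂ = dg k S.X₁ + dg k S.X₃ :=
    dg_add hd k hS (isCoh_of_rank (locFree_one hL)) (isCoh_of_rank hE) (isCoh_of_rank (locFree_one hM))
  open Groth.L21.Bundle in
  have line : ∀ {A B : X.Modules}, PicF.IsInvertible A → PicF.IsInvertible B → ∀ f : A ⟶ B, f ≠ 0 →
      Curv2.deg k X A 1 ≤ Curv2.deg k X B 1 := fun hA hB f hf => by
    rw [dg_eq k (locFree_one hA), dg_eq k (locFree_one hB)]
    exact (line_hom_facts k hreg hd (locFree_one hA) (locFree_one hB) f hf).2.1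
  have hM0 : Curv2.deg k X S.X₃ 1 < 0 := by
    open Groth.L21.Bundle in rw [dg_eq k hE, hadd] at hE0
    open Groth.L21.Bundle in rw [dg_eq k (locFree_one hL)] at hpos
    open Groth.L21.Bundle in rw [dg_eq k (locFree_one hM)]
    omega
  refine ⟨fun N hN j hj => ?_, fun N hN j hj hq hN0 => ?_, fun N N' hN hN' hN0 hN'0 a b w hs => ?_⟩
  · by_cases h : j ≫ S.g = 0
    · refine line hN hL (hS.exact.lift j h) fun h0 => hj ?_
      rw [← hS.exact.lift_f j h, h0, zero_comp]
    · exact (line hN hM _ h).trans (by omega)
  · rcases Groth.L21.Bundle.sub_line_extension k hreg hd hS hL hM hN j hq with h | h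
    · exact h
    · omega
  · have hf : S.f ≠ 0 := fun h0 => by
      open Groth.L21.Bundle in
      exact not_isZero_of_rank zero_lt_one (locFree_one hL) ((IsZero.iff_id_eq_zero _).2
        ((cancel_mono S.f).1 (by rw [h0, comp_zero, comp_zero])))
    by_cases h : S.f ≫ b = 0
    · haveI := hs.mono_f
      have h1 := line hL hN (hs.exact.lift S.f h) fun h0 => hf ?_
      · omega
      · rw [← hs.exact.lift_f S.f h, h0, zero_comp]
    · have h1 := line hL hN' _ h
      omega

end Groth.Agent.S13934
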