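import Groth.Statements.S13936
import Mathlib.Tactic

set_option autoImplicit false
universe u
open W4c1limliniiii

namespace Groth.Agent.S13936

open scoped TensorProduct

variable {R SX : Type u} [CommRing R] [CommRing SX] [Algebra R SX] (σ : SX →ₐ[R] R) (n : ℕ)

/-- `x ⊗ y ↦ σ(x) y` -/
noncomputable def phi0 : SX ⊗[R] SX →ₐ[R] SX :=
  Algebra.TensorProduct.lift ((Algebra.ofId R SX).comp σ) (AlgHom.id R SX) fun _ _ => Commute.all _ _

theorem phi0_tmul (x y : SX) : phi0 σ (x ⊗ₜ y) = algebraMap R SX (σ x) * y := by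
  simp [phi0]

theorem phi0_ideal : (KaehlerDifferential.ideal R SX).map (phi0 σ) ≤ RingHom.ker σ.toRingHom := by
  rw [← KaehlerDifferential.span_range_eq_ideal, Ideal.map_span, Ideal.span_le]
  rintro _ ⟨_, ⟨s, rfl⟩, rfl⟩
  simp only [SetLike.mem_coe, map_sub, phi0_tmul, map_one, one_mul, mul_one, RingHom.mem_ker]
  show σ s - σ (algebraMap R SX (σ s)) = 0
  rw [AlgHom.commutes, Algebra.algebraMap_self, RingHom.id_apply, sub_self]

/-- the fibre of principal parts along the section -/
noncomputable def phi : PP16.P n R SX →+* SX ⧸ RingHom.ker σ.toRingHom ^ (n + 1) :=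
  Ideal.Quotient.lift _ ((Ideal.Quotient.mk _).comp (phi0 σ).toRingHom) fun x hx =>
    Ideal.Quotient.eq_zero_iff_mem.2 (Ideal.pow_right_mono (phi0_ideal σ) (n + 1)
      (Ideal.map_pow (phi0 σ) (KaehlerDifferential.ideal R SX) (n + 1) ▸ Ideal.mem_map_of_mem (phi0 σ) hx))

theorem phi_dn (b : SX) : phi σ n (PP16.dn n R SX b) = Ideal.Quotient.mk _ b := by
  show Ideal.Quotient.mk _ (phi0 σ ((1 : SX) ⊗ₜ b)) = _
  rw [phi0_tmul, map_one, map_one, one_mul]

theorem phi_algebraMap (b : SX) : phi σ n (algebraMap SX (PP16.P n R SX) b) = Ideal.Quotient.mk _ (algebraMap R SX (σ b)) := by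
  show Ideal.Quotient.mk _ (phi0 σ (b ⊗ₜ (1 : SX))) = _
  rw [phi0_tmul, mul_one]

theorem spec_smul {w : PP16.P n R SX}
    (hw : w ∈ RingHom.ker σ.toRingHom • (PP16.augIdeal n R SX).restrictScalars SX) : phi σ n w = 0 := by
  refine Submodule.smul_induction_on hw (fun x hx t _ => ?_) fun a b ha hb => by rw [map_add, ha, hb, add_zero]
  rw [Algebra.smul_def, map_mul, phi_algebraMap, show σ x = 0 from hx, map_zero, map_zero, zero_mul]

theorem sup_pow_le {A : Type u} [CommRing A] (a J : Ideal A) : ∀ m : ℕ, (a ⊔ J) ^ (m + 1) ≤ a ^ (m + 1) ⊔ J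
  | 0 => by simp
  | m + 1 => by
    rw [pow_succ (a ⊔ J)]
    refine Ideal.mul_le.2 fun r hr t ht => ?_
    obtain ⟨u, hu, v, hv, rfl⟩ := Submodule.mem_sup.1 (sup_pow_le a J m hr)
    obtain ⟨u', hu', v', hv', rfl⟩ := Submodule.mem_sup.1 ht
    rw [show (u + v) * (u' + v') = u * u' + (u * v' + v * (u' + v')) by ring]
    exact Submodule.mem_sup.2 ⟨_, by rw [pow_succ]; exact Ideal.mul_mem_mul hu hu', _,
      add_mem (Ideal.mul_mem_left _ _ hv') (Ideal.mul_mem_right _ _ hv), rfl⟩

theorem mem_smul {w : PP16.P n R SX} (hw : w ∈ PP16.augIdeal n R SX) (h0 : phi σ n w = 0) :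
    w ∈ RingHom.ker σ.toRingHom • (PP16.augIdeal n R SX).restrictScalars SX := by
  set J := (RingHom.ker σ.toRingHom).map (algebraMap SX (PP16.P n R SX)) with hJ
  have hdn : (RingHom.ker σ.toRingHom ^ (n + 1)).map (PP16.dn n R SX) ≤ J := by
    rw [Ideal.map_pow]
    refine (Ideal.pow_right_mono (I := Ideal.map (PP16.dn n R SX) (RingHom.ker σ.toRingHom)) (J := PP16.augIdeal n R SX ⊔ J)
      ?_ (n + 1)).trans ((sup_pow_le _ _ n).trans (sup_le ?_ le_rfl))
    · refine Ideal.map_le_iff_le_comap.2 fun b hb => ?_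
      show (PP16.dn n R SX b : PP16.P n R SX) ∈ PP16.augIdeal n R SX ⊔ J
      rw [← sub_add_cancel (PP16.dn n R SX b) (algebraMap SX (PP16.P n R SX) b)]
      exact add_mem (Ideal.mem_sup_left (Ideal.mem_map_of_mem _ (KaehlerDifferential.one_smul_sub_smul_one_mem_ideal R b)))
        (Ideal.mem_sup_right (Ideal.mem_map_of_mem _ hb))
    · rw [PP16.augIdeal, ← Ideal.map_pow, Ideal.map_quotient_self]
      exact bot_le
  obtain ⟨z, rfl⟩ := Ideal.Quotient.mk_surjective w
  have hz : Ideal.Quotient.mk _ z - PP16.dn n R SX (phi0 σ z) ∈ J := by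
    clear hw h0
    induction z using TensorProduct.induction_on with
    | zero => simp
    | add a b ha hb =>
      rw [map_add, map_add, map_add, add_sub_add_comm]
      exact add_mem ha hb
    | tmul x y =>
      have hxy : Ideal.Quotient.mk _ (x ⊗ₜ[R] y) = algebraMap SX (PP16.P n R SX) x * PP16.dn n R SX y := by
        show _ = Ideal.Quotient.mk _ (x ⊗ₜ[R] (1 : SX)) * Ideal.Quotient.mk _ ((1 : SX) ⊗ₜ[R] y)
        rw [← map_mul, Algebra.TensorProduct.tmul_mul_tmul, mul_one, one_mul]
      rw [hxy, phi0_tmul, map_mul, AlgHom.commutes, ← sub_mul,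
        IsScalarTower.algebraMap_apply R SX (PP16.P n R SX), ← map_sub]
      refine Ideal.mul_mem_right _ _ (Ideal.mem_map_of_mem _ ?_)
      show σ (x - algebraMap R SX (σ x)) = 0
      rw [map_sub, AlgHom.commutes, Algebra.algebraMap_self, RingHom.id_apply, sub_self]
  have hwJ : Ideal.Quotient.mk _ z ∈ J := by
    rw [← sub_add_cancel (Ideal.Quotient.mk _ z) (PP16.dn n R SX (phi0 σ z))]
    exact add_mem hz (hdn (Ideal.mem_map_of_mem _ (Ideal.Quotient.eq_zero_iff_mem.1 h0)))
  let m : PP16.P n R SX →+* SX := Ideal.Quotient.lift _ (Algebra.TensorProduct.lmul' R (S := SX)).toRingHom fun x hx =>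
    Ideal.pow_le_self (Nat.succ_ne_zero n) hx
  have hm : ∀ v ∈ PP16.augIdeal n R SX, m v = 0 := fun v hv => by
    obtain ⟨u, hu, rfl⟩ := (Ideal.mem_map_iff_of_surjective _ Ideal.Quotient.mk_surjective).1 hv
    exact hu
  have hmA : ∀ x : SX, m (algebraMap SX (PP16.P n R SX) x) = x := fun x => by
    show Algebra.TensorProduct.lmul' R (x ⊗ₜ[R] (1 : SX)) = x
    simp
  let π : PP16.P n R SX →ₗ[SX] PP16.P n R SX :=
    { toFun := fun v => v - algebraMap SX (PP16.P n R SX) (m v)
      map_add' := fun a b => by rw [map_add, map_add]; ring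
      map_smul' := fun x a => by
        rw [RingHom.id_apply, Algebra.smul_def, map_mul, hmA, map_mul, Algebra.smul_def]; ring }
  have hπ : ∀ v, π v ∈ (PP16.augIdeal n R SX).restrictScalars SX := fun v => by
    obtain ⟨u, rfl⟩ := Ideal.Quotient.mk_surjective v
    show Ideal.Quotient.mk _ u - Ideal.Quotient.mk _ (Algebra.TensorProduct.lmul' R u ⊗ₜ[R] (1 : SX)) ∈ _
    rw [← map_sub]
    refine Ideal.mem_map_of_mem _ ?_
    show Algebra.TensorProduct.lmul' R (u - _) = 0
    rw [map_sub]
    simp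
  have h1 : π (Ideal.Quotient.mk _ z) ∈ (RingHom.ker σ.toRingHom • (⊤ : Submodule SX (PP16.P n R SX))).map π :=
    Submodule.mem_map_of_mem (by rw [Ideal.smul_top_eq_map]; exact hwJ)
  rw [Submodule.map_smul''] at h1
  have h2 := Submodule.smul_mono le_rfl (by rintro _ ⟨v, -, rfl⟩; exact hπ v :
    Submodule.map π ⊤ ≤ (PP16.augIdeal n R SX).restrictScalars SX) h1
  have h3 : π (Ideal.Quotient.mk _ z) = Ideal.Quotient.mk _ z := by
    show _ - algebraMap SX (PP16.P n R SX) (m _) = _
    rw [hm _ hw, map_zero, sub_zero]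
  rwa [h3] at h2

theorem aug_map {SY : Type u} [CommRing SY] [Algebra R SY] [Algebra SY SX] [IsScalarTower R SY SX] {y : PP16.P n R SY}
    (hy : y ∈ PP16.augIdeal n R SY) : PP16.map n R SY R SX y ∈ PP16.augIdeal n R SX := by
  obtain ⟨z, hz, rfl⟩ := (Ideal.mem_map_iff_of_surjective _ Ideal.Quotient.mk_surjective).1 hy
  rw [PP16.map_mk]
  exact Ideal.mem_map_of_mem _ (PP16.ideal_map_tensorMap_le R SY R SX (Ideal.mem_map_of_mem _ hz))

theorem span_zero {SY : Type u} [CommRing SY] [Algebra R SY] [Algebra SY SX] [IsScalarTower R SY SX]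
    (h : ∀ b : SY, phi σ n (Ideal.Quotient.mk _ (PP16.tensorMap R SY R SX ((1 : SY) ⊗ₜ[R] b - b ⊗ₜ[R] (1 : SY)))) = 0)
    (z : SY ⊗[R] SY) (hz : z ∈ KaehlerDifferential.ideal R SY) :
    phi σ n (Ideal.Quotient.mk _ (PP16.tensorMap R SY R SX z)) = 0 := by
  rw [← KaehlerDifferential.span_range_eq_ideal] at hz
  induction hz using Submodule.span_induction with
  | mem f hf => obtain ⟨b, rfl⟩ := hf; exact h b
  | zero => rw [map_zero, map_zero, map_zero]
  | add f g _ _ hf hg => rw [map_add, map_add, map_add, hf, hg, add_zero]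
  | smul r f _ hf => rw [smul_eq_mul, map_mul, map_mul, map_mul, hf, mul_zero]

/-- Let R be a commutative ring, S_Y → S_X a homomorphism of R-algebras (an affine piece of a morphism f
: X → Y of schemes over Spec R) and σ : S_X → R an R-algebra retraction (a section of X over the
base) with kernel I. For e ≥ 1 write T^{e−1} for the augmentation ideal of the ring of principal
parts of order e − 1 (the kernel of P^{e−1} → the algebra; for e = 2 this is the module of
differentials). Then the natural map T^{e−1}(S_Y/R) → T^{e−1}(S_X/R) takes values in I ·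
T^{e−1}(S_X/R) — that is, the induced map f^*T^{e−1}_Y → T^{e−1}_X vanishes at the section σ — if
and only if every element of S_Y whose image in S_X lies in I has image in I^e, which says that the
fibre of f through σ contains the e-th order thickening of σ. (The published statement is for a
morphism of separated schemes over a base and sections over an arbitrary base change; this row is
the affine computation it reduces to.) -/
theorem result (R SY SX : Type u)
    [CommRing R] [CommRing SY] [CommRing SX] [Algebra R SY] [Algebra R SX] [Algebra SY SX]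
    [IsScalarTower R SY SX] (σ : SX →ₐ[R] R) (e : ℕ) (he : 1 ≤ e) :
    (∀ y ∈ PP16.augIdeal (e - 1) R SY,
        PP16.map (e - 1) R SY R SX y ∈
          RingHom.ker σ.toRingHom • (PP16.augIdeal (e - 1) R SX).restrictScalars SX) ↔
      (∀ b : SY, algebraMap SY SX b ∈ RingHom.ker σ.toRingHom →
        algebraMap SY SX b ∈ RingHom.ker σ.toRingHom ^ e) := by
  obtain ⟨n, rfl⟩ : ∃ n, e = n + 1 := ⟨e - 1, by omega⟩
  change (∀ y ∈ PP16.augIdeal n R SY, PP16.map n R SY R SX y ∈ RingHom.ker σ.toRingHom •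
    (PP16.augIdeal n R SX).restrictScalars SX) ↔ _
  constructor
  · intro h b hb
    have hy : PP16.dn n R SY b - algebraMap SY (PP16.P n R SY) b ∈ PP16.augIdeal n R SY :=
      Ideal.mem_map_of_mem _ (KaehlerDifferential.one_smul_sub_smul_one_mem_ideal R b)
    have h1 := spec_smul σ n (h _ hy)
    rw [map_sub, PP16.map_dn, PP16.map_algebraMap, map_sub, phi_dn, phi_algebraMap] at h1
    rw [RingHom.mem_ker] at hb
    rw [show σ (algebraMap SY SX b) = 0 from hb, map_zero, map_zero, sub_zero] at h1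
    exact Ideal.Quotient.eq_zero_iff_mem.1 h1
  · intro h y hy
    have hcomp : ∀ b : SY, algebraMap SY SX b - algebraMap R SX (σ (algebraMap SY SX b)) ∈ RingHom.ker σ.toRingHom ^ (n + 1) := by
      intro b
      have := h (b - algebraMap R SY (σ (algebraMap SY SX b))) (by
        rw [RingHom.mem_ker, map_sub, ← IsScalarTower.algebraMap_apply]
        show σ (algebraMap SY SX b - algebraMap R SX _) = 0
        rw [map_sub, AlgHom.commutes, Algebra.algebraMap_self, RingHom.id_apply, sub_self])
      rwa [map_sub, ← IsScalarTower.algebraMap_apply] at this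
    refine mem_smul σ n ?_ ?_
    · exact (aug_map n) hy
    · obtain ⟨z, hz, rfl⟩ := (Ideal.mem_map_iff_of_surjective _ Ideal.Quotient.mk_surjective).1 hy
      rw [PP16.map_mk]
      refine span_zero σ n (fun b => ?_) z hz
      rw [map_sub, PP16.tensorMap_tmul, PP16.tensorMap_tmul, map_one]
      show phi σ n (Ideal.Quotient.mk _ ((1 : SX) ⊗ₜ[R] algebraMap SY SX b - algebraMap SY SX b ⊗ₜ[R] (1 : SX))) = 0
      rw [map_sub]
      show phi σ n (PP16.dn n R SX _ - algebraMap SX (PP16.P n R SX) _) = 0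
      rw [map_sub, phi_dn, phi_algebraMap, ← map_sub]
      exact Ideal.Quotient.eq_zero_iff_mem.2 (hcomp b)

end Groth.Agent.S13936
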