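import Groth.Statements.S1394
import Mathlib.RingTheory.ZariskisMainTheorem
import Mathlib.RingTheory.EssentialFiniteness
import Mathlib.RingTheory.Ideal.KrullsHeightTheorem
import Mathlib.RingTheory.Ideal.GoingUp

set_option autoImplicit false
universe u
open FlatMor IsLocalRing

namespace Groth.Agent.S1394

open IsLocalRing

/-- If one nonzero element lies in all nonzero primes, the only one is the maximal ideal. -/
theorem prime_eq_max {T : Type u} [CommRing T] [IsDomain T] [IsLocalRing T] [IsNoetherianRing T]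
    {f : T} (hf0 : f ≠ 0) (hf : ∀ P : Ideal T, P.IsPrime → P ≠ ⊥ → f ∈ P) (P : Ideal T) [P.IsPrime]
    (hP : P ≠ ⊥) : P = maximalIdeal T := by
  classical
  have hfin := (Ideal.span {f}).finite_minimalPrimes_of_isNoetherianRing
  have hstep : ∀ Q : Ideal T, Q.IsPrime → Q ≠ ⊥ → Q.height ≤ 1 → Q ∈ (Ideal.span {f}).minimalPrimes := by
    intro Q hQ hQ0 hQ1
    obtain ⟨R, hR, hRQ⟩ := Ideal.exists_minimalPrimes_le ((Ideal.span_singleton_le_iff_mem Q).mpr (hf Q hQ hQ0))
    rcases hRQ.eq_or_lt with rfl | hlt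
    · exact hR
    haveI := hR.isPrime
    have hR0 : (⊥ : Ideal T) < R := bot_lt_iff_ne_bot.mpr fun h =>
      hf0 (by simpa [h] using hR.1.2 (Ideal.mem_span_singleton_self f))
    have e1 := Ideal.height_strict_mono_of_isPrime_of_isPrime hR0
    have e2 := Ideal.height_strict_mono_of_isPrime_of_isPrime hlt
    have e3 := Order.add_one_le_of_lt (zero_le.trans_lt e1)
    rw [zero_add] at e3
    exact absurd (hQ1.trans e3) (not_le.mpr e2)
  have hsub : ((maximalIdeal T : Ideal T) : Set T) ⊆ ⋃ Q ∈ (hfin.toFinset : Set (Ideal T)), (Q : Set T) := by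
    intro x hx
    have hne : ∃ Q, Q ∈ (Ideal.span {f}).minimalPrimes ∧ x ∈ Q := by
      by_cases hx0 : x = 0
      · obtain ⟨Q, hQ, -⟩ := Ideal.exists_minimalPrimes_le
          ((Ideal.span_singleton_le_iff_mem (maximalIdeal T)).mpr (hf _ inferInstance fun h =>
            hP (le_bot_iff.mp (h ▸ IsLocalRing.le_maximalIdeal (Ideal.IsPrime.ne_top ‹P.IsPrime›)))))
        exact ⟨Q, hQ, hx0 ▸ Q.zero_mem⟩
      · obtain ⟨Q, hQ, -⟩ := Ideal.exists_minimalPrimes_le ((Ideal.span_singleton_le_iff_mem (maximalIdeal T)).mpr hx)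
        haveI := hQ.isPrime
        have hxQ : x ∈ Q := hQ.1.2 (Ideal.mem_span_singleton_self x)
        exact ⟨Q, hstep Q inferInstance (fun h => hx0 (by simpa [h] using hxQ))
          (Ideal.height_le_one_of_isPrincipal_of_mem_minimalPrimes _ _ hQ), hxQ⟩
    obtain ⟨Q, hQ, hxQ⟩ := hne
    exact Set.mem_biUnion (hfin.mem_toFinset.mpr hQ) hxQ
  obtain ⟨Q, hQ, hle⟩ := (Ideal.subset_union_prime (⊤ : Ideal T) ⊤ fun Q hQ _ _ =>
    (hfin.mem_toFinset.mp hQ).isPrime).mp hsub
  have hmin := hfin.mem_toFinset.mp hQ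
  haveI := hmin.isPrime
  have hQm : Q = maximalIdeal T := le_antisymm (IsLocalRing.le_maximalIdeal (Ideal.IsPrime.ne_top ‹Q.IsPrime›)) hle
  have hPQ : P ≤ Q := hQm ▸ IsLocalRing.le_maximalIdeal (Ideal.IsPrime.ne_top ‹P.IsPrime›)
  rw [← hQm]
  exact le_antisymm hPQ (hmin.2 ⟨‹P.IsPrime›, (Ideal.span_singleton_le_iff_mem P).mpr (hf P ‹_› hP)⟩ hPQ)

/-- An essentially finite type local algebra with one point in the closed fibre is quasi-finite. -/
theorem quasiFinite_of_closedFibre {A T : Type u} [CommRing A] [IsLocalRing A] [IsNoetherianRing A]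
    [CommRing T] [IsLocalRing T] [Algebra A T] [Algebra.EssFiniteType A T] [IsLocalHom (algebraMap A T)]
    [Module.Finite A (ResidueField T)]
    (h : ∀ P : Ideal T, P.IsPrime → P.comap (algebraMap A T) = maximalIdeal A → P = maximalIdeal T) :
    Algebra.QuasiFinite A T := by
  classical
  let C := Algebra.EssFiniteType.subalgebra A T
  haveI : IsNoetherianRing C := Algebra.FiniteType.isNoetherianRing A C
  let n : Ideal C := (maximalIdeal T).comap (algebraMap C T)
  haveI hn : n.IsPrime := Ideal.IsPrime.comap _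
  have hsub : Algebra.EssFiniteType.submonoid A T = n.primeCompl := by
    ext z
    simp only [Algebra.EssFiniteType.submonoid, Submonoid.mem_comap, IsUnit.mem_submonoid_iff,
      Ideal.mem_primeCompl_iff, n, Ideal.mem_comap, mem_maximalIdeal, mem_nonunits_iff, not_not]
    rfl
  haveI hloc : IsLocalization.AtPrime T n := by
    show IsLocalization n.primeCompl T
    rw [← hsub]
    exact Algebra.EssFiniteType.isLocalization A T
  have hover : n.comap (algebraMap A C) = maximalIdeal A := by
    rw [Ideal.comap_comap, ← IsScalarTower.algebraMap_eq]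
    have hiff : IsLocalHom (algebraMap A T) ↔ (maximalIdeal T).comap (algebraMap A T) = maximalIdeal A :=
      (IsLocalRing.local_hom_TFAE (algebraMap A T)).out 0 4
    exact hiff.mp inferInstance
  haveI hnmax : n.IsMaximal := by
    let ψ : C →ₐ[A] ResidueField T :=
      (IsScalarTower.toAlgHom A T (ResidueField T)).comp (IsScalarTower.toAlgHom A C T)
    have hker : RingHom.ker ψ = n := by
      ext z
      simp [ψ, n, IsScalarTower.toAlgHom_apply, IsLocalRing.ResidueField.algebraMap_eq]
    let φ : (C ⧸ n) →ₐ[A] ResidueField T := Ideal.Quotient.liftₐ n ψ fun z hz => by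
      rw [← hker] at hz; exact hz
    have hinj : Function.Injective φ := RingHom.lift_injective_of_ker_le_ideal n _ hker.le
    haveI : Algebra.IsIntegral A (C ⧸ n) := Algebra.IsIntegral.of_injective φ hinj
    have hbot : (⊥ : Ideal (C ⧸ n)).IsMaximal := by
      refine Ideal.isMaximal_of_isIntegral_of_isMaximal_comap (R := A) ⊥ ?_
      have : (⊥ : Ideal (C ⧸ n)).comap (algebraMap A (C ⧸ n)) = maximalIdeal A := by
        rw [IsScalarTower.algebraMap_eq A C (C ⧸ n), ← Ideal.comap_comap, Ideal.Quotient.algebraMap_eq,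
          ← RingHom.ker_eq_comap_bot, Ideal.mk_ker, hover]
      rw [this]
      infer_instance
    have := Ideal.comap_isMaximal_of_surjective (Ideal.Quotient.mk n) Ideal.Quotient.mk_surjective (K := ⊥)
    rwa [← RingHom.ker_eq_comap_bot, Ideal.mk_ker] at this
  let I : Ideal C := (maximalIdeal A).map (algebraMap A C)
  have hfin := I.finite_minimalPrimes_of_isNoetherianRing
  have hnI : I ≤ n := Ideal.map_le_iff_le_comap.mpr hover.ge
  have hPn : ∀ P ∈ I.minimalPrimes, P ≤ n → P = n := by
    intro P hP hle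
    haveI := hP.isPrime
    have hd : Disjoint (n.primeCompl : Set C) P := Set.disjoint_left.mpr fun x hx hxP => hx (hle hxP)
    have hprime : (P.map (algebraMap C T)).IsPrime := IsLocalization.isPrime_of_isPrime_disjoint _ _ P ‹_› hd
    have hback := IsLocalization.under_map_of_isPrime_disjoint n.primeCompl T ‹P.IsPrime› hd
    have hm : (P.map (algebraMap C T)).comap (algebraMap A T) = maximalIdeal A := by
      refine ((maximalIdeal.isMaximal A).eq_of_le (Ideal.IsPrime.comap _).ne_top ?_).symm
      rw [IsScalarTower.algebraMap_eq A C T, ← Ideal.comap_comap]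
      exact (Ideal.map_le_iff_le_comap.mp hP.1.2).trans (Ideal.comap_mono Ideal.le_comap_map)
    rw [← hback, h _ hprime hm]
  have hmem : n ∈ I.minimalPrimes := by
    obtain ⟨P, hP, hle⟩ := Ideal.exists_minimalPrimes_le hnI
    exact hPn P hP hle ▸ hP
  obtain ⟨s, hs, hsn⟩ : ∃ s ∈ (hfin.toFinset.erase n).inf id, s ∉ n := by
    by_contra! hcon
    obtain ⟨P, hP, hle⟩ := hn.inf_le'.mp (show (hfin.toFinset.erase n).inf id ≤ n from hcon)
    rw [Finset.mem_erase, Set.Finite.mem_toFinset] at hP
    exact hP.1 (hPn P hP.2 hle)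
  haveI : Algebra.QuasiFiniteAt A n := by
    refine Algebra.QuasiFiniteAt.of_isOpen_singleton_fiber ⟨n, hn⟩ (isOpen_induced_iff.mpr
      ⟨PrimeSpectrum.basicOpen s, (PrimeSpectrum.basicOpen s).isOpen, Set.ext fun ⟨P, hP⟩ => ?_⟩)
    refine ⟨fun hsP => ?_, fun heq => ?_⟩
    · obtain ⟨R, hR, hRP⟩ := Ideal.exists_minimalPrimes_le (I := I) (J := P.asIdeal)
        (Ideal.map_le_iff_le_comap.mpr (by
          have h1 : P.asIdeal.comap (algebraMap A C) = n.comap (algebraMap A C) :=
            congrArg PrimeSpectrum.asIdeal (Set.mem_singleton_iff.mp hP)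
          rw [h1, hover]))
      have hRn : R = n := by
        by_contra hne
        exact hsP (hRP (Finset.inf_le (f := id) (Finset.mem_erase.mpr ⟨hne, hfin.mem_toFinset.mpr hR⟩) hs))
      subst hRn
      exact Subtype.ext (PrimeSpectrum.ext (hnmax.eq_of_le P.isPrime.ne_top hRP).symm)
    · rw [Set.mem_singleton_iff] at heq
      rw [Set.mem_preimage, heq]
      exact hsn
  exact (Algebra.QuasiFinite.iff_of_algEquiv (R := A)
    ((IsLocalization.algEquiv n.primeCompl (Localization.AtPrime n) T).restrictScalars A)).mp inferInstance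

/-- Let A → B be a local homomorphism of local rings with A Noetherian, B essentially of finite type
over A, and the residue field of B finite over that of A. Let V ⊆ Spec B be an open subset
containing some prime that does not lie over the maximal ideal of A. Then V contains a prime q, not
lying over the maximal ideal of A, such that B/q is quasi-finite over A in the sense that every
fibre ring of A → B/q is finite over the corresponding residue field of A. (The published statement
is stronger: there B/q is moreover a localization of a quasi-finite A-algebra of finite type, which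
implies this.) -/
theorem result {A B : Type u} [CommRing A] [CommRing B] [IsLocalRing A] [IsLocalRing B] [IsNoetherianRing A]
    [Algebra A B] [IsLocalHom (algebraMap A B)] [Algebra.EssFiniteType A B]
    [Module.Finite (IsLocalRing.ResidueField A) (IsLocalRing.ResidueField B)]
    (V : Set (PrimeSpectrum B)) (hV : IsOpen V) (hne : ∃ q ∈ V, q.asIdeal.comap (algebraMap A B) ≠ IsLocalRing.maximalIdeal A) :
    ∃ q ∈ V, q.asIdeal.comap (algebraMap A B) ≠ IsLocalRing.maximalIdeal A ∧ Algebra.QuasiFinite A (B ⧸ q.asIdeal) := by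
  classical
  haveI : IsNoetherianRing B := Algebra.EssFiniteType.isNoetherianRing A B
  let W : Set (PrimeSpectrum B) :=
    V ∩ (PrimeSpectrum.zeroLocus (((maximalIdeal A).map (algebraMap A B) : Ideal B) : Set B))ᶜ
  have hW : IsOpen W := hV.inter (PrimeSpectrum.isClosed_zeroLocus _).isOpen_compl
  have hWiff : ∀ q : PrimeSpectrum B, q ∈ W ↔ q ∈ V ∧ q.asIdeal.comap (algebraMap A B) ≠ maximalIdeal A := by
    intro q
    refine and_congr_right fun _ => not_congr ?_
    rw [PrimeSpectrum.mem_zeroLocus, SetLike.coe_subset_coe, Ideal.map_le_iff_le_comap]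
    exact ⟨fun h => ((maximalIdeal.isMaximal A).eq_of_le (q.isPrime.comap _).ne_top h).symm, fun h => h.ge⟩
  obtain ⟨q₀, hq₀⟩ := hne
  obtain ⟨qI, ⟨q, hqW, rfl⟩, hmax⟩ := set_has_maximal_iff_noetherian.mpr (inferInstance : IsNoetherian B B)
    (PrimeSpectrum.asIdeal '' W) ⟨_, q₀, (hWiff q₀).mpr hq₀, rfl⟩
  obtain ⟨hqV, hqm⟩ := (hWiff q).mp hqW
  refine ⟨q, hqV, hqm, ?_⟩
  obtain ⟨Z, hZ⟩ : ∃ Z : Set B, Wᶜ = PrimeSpectrum.zeroLocus Z :=
    (PrimeSpectrum.isClosed_iff_zeroLocus _).mp hW.isClosed_compl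
  obtain ⟨f, hfZ, hfq⟩ : ∃ f ∈ Z, f ∉ q.asIdeal := by
    by_contra! hcon
    exact (hZ ▸ (show q ∈ PrimeSpectrum.zeroLocus Z from hcon) : q ∈ Wᶜ) hqW
  let π := Ideal.Quotient.mk q.asIdeal
  haveI : IsLocalRing (B ⧸ q.asIdeal) := IsLocalRing.of_surjective' π Ideal.Quotient.mk_surjective
  have hker : RingHom.ker π = q.asIdeal := Ideal.mk_ker
  have hf : ∀ P : Ideal (B ⧸ q.asIdeal), P.IsPrime → P ≠ ⊥ → π f ∈ P := by
    intro P hP hP0
    let x : PrimeSpectrum B := ⟨P.comap π, hP.comap _⟩
    have hlt : q.asIdeal < x.asIdeal := by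
      refine lt_of_le_of_ne (hker.ge.trans (Ideal.comap_mono bot_le)) fun heq => hP0 ?_
      rw [← Ideal.map_comap_of_surjective π Ideal.Quotient.mk_surjective P,
        show P.comap π = q.asIdeal from heq.symm, Ideal.map_quotient_self]
    have hx : x ∈ Wᶜ := fun h => hmax _ ⟨x, h, rfl⟩ hlt
    rw [hZ] at hx
    exact hx hfZ
  have hf0 : π f ≠ 0 := fun h => hfq (Ideal.Quotient.eq_zero_iff_mem.mp h)
  haveI : IsLocalHom π := IsLocalHom.of_surjective π Ideal.Quotient.mk_surjective
  haveI : Algebra.EssFiniteType A (B ⧸ q.asIdeal) := Algebra.EssFiniteType.comp A B (B ⧸ q.asIdeal)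
  haveI : IsLocalHom (algebraMap A (B ⧸ q.asIdeal)) := by
    rw [IsScalarTower.algebraMap_eq A B (B ⧸ q.asIdeal)]
    exact inferInstanceAs (IsLocalHom (π.comp (algebraMap A B)))
  haveI : Module.Finite A (ResidueField B) := Module.Finite.trans (ResidueField A) (ResidueField B)
  haveI : Module.Finite A (ResidueField (B ⧸ q.asIdeal)) := by
    let g : ResidueField B →+* ResidueField (B ⧸ q.asIdeal) := ResidueField.map π
    have hg : Function.Surjective g := fun z => by
      obtain ⟨z, rfl⟩ := IsLocalRing.residue_surjective z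
      obtain ⟨b, rfl⟩ := Ideal.Quotient.mk_surjective z
      exact ⟨residue B b, rfl⟩
    let gₐ : ResidueField B →ₐ[A] ResidueField (B ⧸ q.asIdeal) := ⟨g, fun a => rfl⟩
    exact Module.Finite.of_surjective gₐ.toLinearMap hg
  refine quasiFinite_of_closedFibre fun P hP hPm => ?_
  refine prime_eq_max hf0 hf P fun h0 => hqm ?_
  subst h0
  rw [IsScalarTower.algebraMap_eq A B (B ⧸ q.asIdeal), ← Ideal.comap_comap, Ideal.Quotient.algebraMap_eq,
    ← RingHom.ker_eq_comap_bot, Ideal.mk_ker] at hPm
  exact hPm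

end Groth.Agent.S1394
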