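import Groth.Statements.S1395
import Groth.Agent.L06.TrivGenericVal

set_option autoImplicit false
set_option maxSynthPendingDepth 3
set_option linter.style.haveILetI false
universe u
open FlatMor

namespace Groth.Agent.S1395

open AlgebraicGeometry CategoryTheory Limits in
/-- Over a valuation ring A consider a proper, flat morphism of finite presentation f : X → Spec A and
an invertible O_X-module L. If L is trivial on the generic fibre, the closed fibre is integral, and
the global functions of the generic fibre are just the fraction field (the residue field of the
generic point), then L is trivial. -/
theorem result {A : Type u} [CommRing A] [IsDomain A] [ValuationRing A] {X : Scheme.{u}}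
    (f : X ⟶ Spec (CommRingCat.of A)) [IsProper f] [Flat f] [LocallyOfFinitePresentation f] (L : X.Modules) (hL : PicF.IsInvertible L)
    (htriv : Nonempty ((Scheme.Modules.pullback (f.fiberι (genericPoint ↑(Spec (CommRingCat.of A))))).obj L ≅
      Coh.structureModule (f.fiber (genericPoint ↑(Spec (CommRingCat.of A))))))
    (hint : IsIntegral (f.fiber (IsLocalRing.closedPoint A)))
    (h0 : Function.Bijective ((f.fiberToSpecResidueField (genericPoint ↑(Spec (CommRingCat.of A)))).appTop)) :
    Nonempty (L ≅ Coh.structureModule X) := by
  exact Groth.L06.TrivGenericVal.main f L hL htriv hint

end Groth.Agent.S1395
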