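import Groth.Statements.S13951
import Groth.Agent.L23.SourceReduced
import Mathlib.AlgebraicGeometry.Morphisms.Finite
import Mathlib.AlgebraicGeometry.Morphisms.Separated
import Mathlib.AlgebraicGeometry.Fiber
import Mathlib.AlgebraicGeometry.Morphisms.ClosedImmersion
import Mathlib.AlgebraicGeometry.Artinian

set_option autoImplicit false
universe u
open TateLoc

namespace Groth.Agent.S13951

open CategoryTheory AlgebraicGeometry CategoryTheory.Limits in
example : True := trivial

open CategoryTheory AlgebraicGeometry Limits MonoidalCategory CartesianMonoidalCategory MonObj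


/-- Let S be a reduced scheme and I a finite locally free commutative S-group scheme (finite, flat, of
finite presentation) whose fibres over all points of S are connected. Then the restriction of the
sheaf of points of I from the big fppf site of S to the small etale site of S is the zero sheaf. -/
theorem result (S : Scheme.{u}) [IsReduced S]
    (I : Over S) [GrpObj I] [IsCommMonObj I] [IsFinite I.hom] [Flat I.hom] [LocallyOfFinitePresentation I.hom]
    (hconn : ∀ s : S, ConnectedSpace ↥(I.hom.fiber s)) :
    IsZero ((BigSite.resEt Scheme.fppfPrecoverage S).obj (CGrpSh.pts Scheme.fppfPrecoverage I)) := by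
  haveI : ∀ s : S, Subsingleton ↥(I.hom.fiber s) := fun s => by
    haveI := hconn s
    haveI : IsFinite (I.hom.fiberToSpecResidueField s) :=
      MorphismProperty.pullback_snd (P := @IsFinite) _ _ ‹IsFinite I.hom›
    haveI : IsLocallyArtinian (I.hom.fiber s) := .of_locallyQuasiFinite (I.hom.fiberToSpecResidueField s)
    exact subsingleton_of_forall_eq (Classical.arbitrary _) fun y => by
      have hs : IsClopen ({Classical.arbitrary _} : Set ↥(I.hom.fiber s)) := ⟨isClosed_discrete _, isOpen_discrete _⟩
      exact Set.eq_univ_iff_forall.mp (hs.eq_univ (Set.singleton_nonempty _)) y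
  have hη : η[I].left ≫ I.hom = 𝟙 S := Over.w η[I]
  haveI : IsClosedImmersion η[I].left := by
    haveI : IsClosedImmersion (η[I].left ≫ I.hom) := by rw [hη]; exact (inferInstanceAs (IsClosedImmersion (𝟙 (S : Scheme))))
    exact IsClosedImmersion.of_comp η[I].left I.hom
  haveI : Surjective η[I].left := ⟨fun p => ⟨I.hom p, by
    have h1 : I.hom (η[I].left (I.hom p)) = I.hom p := by
      rw [← Scheme.Hom.comp_apply, hη]; rfl
    obtain ⟨a, ha⟩ := (Scheme.Hom.fiberHomeo I.hom (I.hom p)).surjective ⟨p, rfl⟩
    obtain ⟨b, hb⟩ := (Scheme.Hom.fiberHomeo I.hom (I.hom p)).surjective ⟨η[I].left (I.hom p), h1⟩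
    exact congrArg Subtype.val (hb.symm.trans ((congrArg _ (Subsingleton.elim b a)).trans ha))⟩⟩
  have key : ∀ (U : Over S), Etale U.hom → ∀ g : U ⟶ I, g = toUnit U ≫ η[I] := by
    intro U hU g
    haveI := hU
    haveI : AlgebraicGeometry.IsReduced U.left := Groth.L23.isReduced_of_etale U.hom
    haveI : IsClosedImmersion (pullback.fst g.left η[I].left) :=
      MorphismProperty.pullback_fst (P := @IsClosedImmersion) _ _ ‹_›
    haveI : Surjective (pullback.fst g.left η[I].left) :=
      MorphismProperty.pullback_fst (P := @Surjective) _ _ ‹_›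
    haveI : IsIso (pullback.fst g.left η[I].left) := isIso_of_isClosedImmersion_of_surjective _
    have h1 : g.left = (inv (pullback.fst g.left η[I].left) ≫ pullback.snd g.left η[I].left) ≫ η[I].left := by
      rw [Category.assoc, ← pullback.condition, IsIso.inv_hom_id_assoc]
    have h2 : U.hom = inv (pullback.fst g.left η[I].left) ≫ pullback.snd g.left η[I].left := by
      conv_lhs => rw [← Over.w g, h1, Category.assoc, hη]
      exact Category.comp_id _
    apply Over.OverMorphism.ext
    rw [h1, ← h2]
    rfl
  rw [IsZero.iff_id_eq_zero]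
  apply Sheaf.hom_ext
  ext U x
  haveI : Subsingleton ((EtFppf.a S).obj (Opposite.unop U) ⟶ I) :=
    ⟨fun a b => (key _ (Opposite.unop U).prop a).trans (key _ (Opposite.unop U).prop b).symm⟩
  haveI : Subsingleton (ULift.{u + 1} (Additive ((EtFppf.a S).obj (Opposite.unop U) ⟶ I))) :=
    ⟨fun a b => ULift.ext _ _ (Subsingleton.elim (α := ((EtFppf.a S).obj (Opposite.unop U) ⟶ I)) _ _)⟩
  exact Subsingleton.elim (α := ULift.{u + 1} (Additive ((EtFppf.a S).obj (Opposite.unop U) ⟶ I))) _ _

end Groth.Agent.S13951
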