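import Groth.Statements.S13953

set_option autoImplicit false
universe u
open TateLoc

namespace Groth.Agent.S13953

/-- Let (R_i) be a family of local commutative rings and R = ∏ R_i. Any open cover of Spec R can be
refined by one coming from a finite partition of the index set: there is a map c from the index set
to a finite set such that, for each value m, the basic open subset of Spec R defined by the
idempotent which is 1 at the indices with c i = m and 0 elsewhere (this open is the spectrum of the
product of the R_i over that class) is contained in some member of the cover. -/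
theorem result {ι : Type u} (R : ι → Type u)
    [∀ i, CommRing (R i)] [∀ i, IsLocalRing (R i)] {J : Type u}
    (U : J → TopologicalSpace.Opens (PrimeSpectrum (∀ i, R i))) (hU : ⨆ j, U j = ⊤) :
    ∃ (n : ℕ) (c : ι → Fin n), ∀ m : Fin n, ∃ j : J,
      PrimeSpectrum.basicOpen (fun i => if c i = m then (1 : R i) else 0) ≤ U j := by
  classical
  have hc : ∀ x : PrimeSpectrum (∀ i, R i), ∃ a : ∀ i, R i, ∃ j, x ∈ PrimeSpectrum.basicOpen a ∧ PrimeSpectrum.basicOpen a ≤ U j := by
    intro x
    have hx : x ∈ ⨆ j, U j := by rw [hU]; trivial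
    obtain ⟨j, hj⟩ := TopologicalSpace.Opens.mem_iSup.1 hx
    obtain ⟨_, ⟨a, rfl⟩, ha, hle⟩ := PrimeSpectrum.isTopologicalBasis_basic_opens.exists_subset_of_mem_open hj (U j).isOpen
    exact ⟨a, j, ha, hle⟩
  choose a j ha hle using hc
  obtain ⟨t, ht⟩ := isCompact_univ.elim_finite_subcover (fun x => (PrimeSpectrum.basicOpen (a x) : Set (PrimeSpectrum (∀ i, R i))))
    (fun x => (PrimeSpectrum.basicOpen (a x)).isOpen) (fun x _ => Set.mem_iUnion.2 ⟨x, ha x⟩)
  have hone : Ideal.span (a '' (t : Set (PrimeSpectrum (∀ i, R i)))) = ⊤ := by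
    by_contra hne
    obtain ⟨m, hm, hle'⟩ := Ideal.exists_le_maximal _ hne
    obtain ⟨x, hx⟩ := Set.mem_iUnion.1 (ht (Set.mem_univ (⟨m, hm.isPrime⟩ : PrimeSpectrum _)))
    obtain ⟨hxt, hx⟩ := Set.mem_iUnion.1 hx
    exact hx (hle' (Ideal.subset_span ⟨x, hxt, rfl⟩))
  have hunit : ∀ i, ∃ x ∈ t, IsUnit (a x i) := by
    intro i
    by_contra h
    push Not at h
    have : Ideal.span (a '' (t : Set (PrimeSpectrum (∀ i, R i)))) ≤ (IsLocalRing.maximalIdeal (R i)).comap (Pi.evalRingHom R i) := by
      rw [Ideal.span_le]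
      rintro _ ⟨x, hx, rfl⟩
      exact h x hx
    rw [hone, top_le_iff] at this
    exact (IsLocalRing.maximalIdeal.isMaximal (R i)).ne_top (Ideal.comap_eq_top_iff.1 this)
  choose x hxt hu using hunit
  refine ⟨t.card, fun i => t.equivFin ⟨x i, hxt i⟩, fun m => ⟨j (t.equivFin.symm m).1, le_trans ?_ (hle _)⟩⟩
  set z := (t.equivFin.symm m).1
  let b : ∀ i, R i := fun i => if t.equivFin ⟨x i, hxt i⟩ = m then Ring.inverse (a z i) else 0
  have : (fun i => if t.equivFin ⟨x i, hxt i⟩ = m then (1 : R i) else 0) = a z * b := by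
    funext i
    simp only [Pi.mul_apply, b]
    split_ifs with h
    · have hz : z = x i := by simp [z, ← h]
      rw [hz, Ring.mul_inverse_cancel _ (hu i)]
    · simp
  rw [this, PrimeSpectrum.basicOpen_mul]
  exact inf_le_left

end Groth.Agent.S13953
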