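import Groth.Statements.S13956
import Groth.Agent.L28.ConstRat.Main

set_option autoImplicit false
set_option linter.style.haveILetI false
set_option backward.isDefEq.respectTransparency.types false
universe u
open TateLoc

namespace Groth.Agent.S13956

open CategoryTheory AlgebraicGeometry in
/-- For a Noetherian normal scheme X (quasi-compact, locally Noetherian, all local rings integrally
closed domains), the cohomology of the constant sheaf ℚ on the small etale site of X vanishes in
every positive degree. -/
theorem result (X : Scheme.{u}) [IsLocallyNoetherian X] [CompactSpace X]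
    (hN : ∀ x : X, IsDomain (X.presheaf.stalk x) ∧ IsIntegrallyClosed (X.presheaf.stalk x))
    (i : ℕ) (hi : 0 < i) :
    Subsingleton (EtCoh.H X (EtCoh.const X ℚ) i) := by
  obtain ⟨q, rfl⟩ := Nat.exists_eq_succ_of_ne_zero hi.ne'
  haveI : AlgebraicGeometry.IsNoetherian X := {}
  refine Groth.L28.ConstRat.subsingleton_H (AddCommGrpCat.of (ULift.{u + 1} ℚ)) (fun n hn => ?_) hN q
  have hn' : (n : ℚ) ≠ 0 := Nat.cast_ne_zero.2 hn.ne'
  refine ⟨fun a b hab => ULift.ext _ _ ?_, fun b => ⟨ULift.up (b.down / n), ULift.ext _ _ ?_⟩⟩
  · have h := congrArg ULift.down hab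
    change n • a.down = n • b.down at h
    rw [nsmul_eq_mul, nsmul_eq_mul] at h
    exact mul_left_cancel₀ hn' h
  · show n • (b.down / (n : ℚ)) = b.down
    rw [nsmul_eq_mul]
    exact mul_div_cancel₀ _ hn'

end Groth.Agent.S13956
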