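import Groth.Statements.S13958
import Mathlib.RingTheory.Noetherian.Basic
import Mathlib.Algebra.Module.PID
import Mathlib.GroupTheory.FiniteAbelian.Basic
import Mathlib.GroupTheory.Index
import Mathlib.RingTheory.Finiteness.Basic

set_option autoImplicit false
universe u
open TateLoc

namespace Groth.Agent.S13958

open CategoryTheory in
private lemma exists_finiteIndex_not_mem {Q : Type u} [CommGroup Q] [Group.FG Q] (x : Q) (hx : x ≠ 1) :
    ∃ M : Subgroup Q, M.FiniteIndex ∧ x ∉ M := by
  haveI : Module.Finite ℤ (Additive Q) := Module.Finite.iff_addGroup_fg.mpr inferInstance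
  haveI : IsNoetherian ℤ (Additive Q) := isNoetherian_of_isNoetherianRing_of_finite ℤ _
  obtain ⟨M, hM, hmax⟩ := (IsWellFounded.wf (r := fun a b : Submodule ℤ (Additive Q) => b < a)).has_min
    {M | Additive.ofMul x ∉ M} ⟨⊥, by simpa using hx⟩
  refine ⟨AddSubgroup.toSubgroup' M.toAddSubgroup, ?_, hM⟩
  have key : ∀ y : Additive Q ⧸ M, IsOfFinAddOrder y := by
    intro y
    by_contra hy
    obtain ⟨y, rfl⟩ := Submodule.Quotient.mk_surjective M y
    have hmem : ∀ m : ℤ, m ≠ 0 → ∃ k : ℤ, Submodule.Quotient.mk (p := M) (Additive.ofMul x) =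
        (k * m) • Submodule.Quotient.mk (p := M) y := by
      intro m hm
      have hlt : M < M ⊔ Submodule.span ℤ {m • y} := by
        refine lt_of_le_of_ne le_sup_left fun h => ?_
        apply hy
        have : m • y ∈ M := by
          rw [h]; exact Submodule.mem_sup_right (Submodule.mem_span_singleton_self _)
        refine isOfFinAddOrder_iff_zsmul_eq_zero.mpr ⟨m, hm, ?_⟩
        rw [← Submodule.Quotient.mk_smul, Submodule.Quotient.mk_eq_zero]
        exact this
      have hxm : Additive.ofMul x ∈ M ⊔ Submodule.span ℤ {m • y} :=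
        not_not.mp fun h => hmax _ h hlt
      obtain ⟨a, ha, b, hb, hab⟩ := Submodule.mem_sup.mp hxm
      obtain ⟨k, rfl⟩ := Submodule.mem_span_singleton.mp hb
      refine ⟨k, ?_⟩
      rw [← hab, Submodule.Quotient.mk_add, (Submodule.Quotient.mk_eq_zero M).mpr ha, zero_add,
        Submodule.Quotient.mk_smul, Submodule.Quotient.mk_smul, mul_smul]
    obtain ⟨k₁, h₁⟩ := hmem 1 one_ne_zero
    by_cases hk : k₁ = 0
    · exact hM ((Submodule.Quotient.mk_eq_zero M).mp (by rw [h₁, hk, zero_mul, zero_smul]))
    obtain ⟨k₂, h₂⟩ := hmem (2 * k₁) (mul_ne_zero two_ne_zero hk)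
    apply hy
    refine isOfFinAddOrder_iff_zsmul_eq_zero.mpr ⟨k₂ * (2 * k₁) - k₁ * 1, ?_, ?_⟩
    · intro h
      have : k₁ * (2 * k₂ - 1) = 0 := by linarith
      rcases mul_eq_zero.mp this with h' | h'
      · exact hk h'
      · omega
    · rw [sub_smul, ← h₁, ← h₂, sub_self]
  haveI : Module.IsTorsion ℤ (Additive Q ⧸ M) :=
    AddMonoid.isTorsion_iff_isTorsion_int.mp (fun y => key y)
  haveI : Finite (Additive Q ⧸ M) := Module.finite_of_fg_torsion _ this
  haveI : Finite (Additive Q ⧸ M.toAddSubgroup) := this
  haveI hA : M.toAddSubgroup.FiniteIndex := AddSubgroup.finiteIndex_of_finite_quotient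
  exact ⟨(Subgroup.index_toAddSubgroup (H := AddSubgroup.toSubgroup' M.toAddSubgroup)).symm.trans_ne
    hA.index_ne_zero⟩

open CategoryTheory in


/-- Let A' be a finitely generated abelian group (written multiplicatively, discrete) and A a subgroup.
If the image of x ∈ A' in the profinite completion of A' lies in the image of the profinite
completion of A under the map induced by the inclusion, then x ∈ A. (The published statement says
that the square formed by the two completion maps and the two inclusions is Cartesian; given the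
injectivity of the induced map on completions, which holds here, that amounts to this membership
criterion.) -/
theorem result (A' : Type u) [CommGroup A'] [Group.FG A']
    (A : Subgroup A') (x : A')
    (hx : ProfiniteGrp.ProfiniteCompletion.etaFn (GrpCat.of A') x ∈
      Set.range ⇑(ProfiniteGrp.profiniteCompletion.map (GrpCat.ofHom A.subtype)).hom) :
    x ∈ A := by
  by_contra hxA
  haveI : Group.FG (A' ⧸ A) := Group.fg_of_surjective (f := QuotientGroup.mk' A) (QuotientGroup.mk'_surjective A)
  obtain ⟨M, hM, hxM⟩ := exists_finiteIndex_not_mem (QuotientGroup.mk' A x)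
    (fun h => hxA ((QuotientGroup.eq_one_iff x).mp h))
  haveI : (M.comap (QuotientGroup.mk' A)).FiniteIndex := by
    constructor
    rw [Subgroup.index_comap_of_surjective _ (QuotientGroup.mk'_surjective A)]
    exact hM.index_ne_zero
  let N : FiniteIndexNormalSubgroup A' := FiniteIndexNormalSubgroup.ofSubgroup (M.comap (QuotientGroup.mk' A))
  obtain ⟨a, ha⟩ := hx
  let φ := (ProfiniteGrp.profiniteCompletion.map (GrpCat.ofHom A.subtype))
  have hdense : ∀ z, (φ.hom z).1 N = 1 := by
    intro z
    refine congrFun ((ProfiniteGrp.ProfiniteCompletion.denseRange (GrpCat.of A)).equalizer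
      ((continuous_apply N).comp (continuous_subtype_val.comp φ.hom.continuous_toFun))
      continuous_const ?_) z
    funext b
    have := ConcreteCategory.congr_hom (ProfiniteGrp.ProfiniteCompletion.lift_eta
      (GrpCat.ofHom A.subtype ≫ ProfiniteGrp.ProfiniteCompletion.eta (GrpCat.of A'))) b
    change (φ.hom (ProfiniteGrp.ProfiniteCompletion.etaFn _ b)).1 N = 1
    have h2 : φ.hom (ProfiniteGrp.ProfiniteCompletion.etaFn _ b) =
        ProfiniteGrp.ProfiniteCompletion.etaFn (GrpCat.of A') (b : A') := this
    rw [h2]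
    refine (QuotientGroup.eq_one_iff (b : A')).mpr ?_
    change QuotientGroup.mk' A (b : A') ∈ M
    rw [show QuotientGroup.mk' A (b : A') = 1 from (QuotientGroup.eq_one_iff _).mpr b.2]
    exact M.one_mem
  have h3 : (ProfiniteGrp.ProfiniteCompletion.etaFn (GrpCat.of A') x).1 N = 1 := ha ▸ hdense a
  exact hxM ((QuotientGroup.eq_one_iff x).mp h3)

end Groth.Agent.S13958
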