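import Groth.Statements.S13959
import Groth.Agent.L09.TorsorSch
import Mathlib.RingTheory.Flat.Basic
import Mathlib.RingTheory.TensorProduct.Free
import Mathlib.AlgebraicGeometry.Morphisms.UniversallyInjective
import Mathlib.AlgebraicGeometry.Pullbacks

set_option autoImplicit false
universe u
open TateLoc

set_option backward.isDefEq.respectTransparency.types false
set_option linter.style.haveILetI false

namespace Groth.Agent.S13959
open CategoryTheory MonoidalCategory CartesianMonoidalCategory MonObj AlgebraicGeometry

open CategoryTheory.Limits TensorProduct in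
theorem bijective_algebraMap (k κ : Type u) [Field k] [Field κ] [Algebra k κ]
    [IsReduced (κ ⊗[k] κ)] [Subsingleton (PrimeSpectrum (κ ⊗[k] κ))] :
    Function.Bijective (algebraMap k κ) := by
  let mu' : κ ⊗[k] κ →ₐ[k] κ := Algebra.TensorProduct.lmul' k
  have hp : (RingHom.ker mu'.toRingHom).IsPrime := RingHom.ker_isPrime _
  have hmu : Function.Injective mu' := by
    rw [injective_iff_map_eq_zero]
    intro z hz
    have hn : z ∈ nilradical (κ ⊗[k] κ) := by
      rw [nilradical_eq_sInf]
      refine Submodule.mem_sInf.2 fun (q : Ideal _) (hq : q.IsPrime) => ?_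
      have e : q = RingHom.ker mu'.toRingHom :=
        congrArg PrimeSpectrum.asIdeal (Subsingleton.elim (⟨q, hq⟩ : PrimeSpectrum (κ ⊗[k] κ)) ⟨_, hp⟩)
      rw [e]
      exact hz
    exact (mem_nilradical.1 hn).eq_zero
  refine ⟨(algebraMap k κ).injective, fun x => ?_⟩
  have e : x ⊗ₜ[k] (1 : κ) = (1 : κ) ⊗ₜ[k] x := hmu (by simp [mu'])
  obtain ⟨φ, hφ⟩ := (LinearMap.exists_leftInverse_of_injective (Algebra.linearMap k κ)
    (LinearMap.ker_eq_bot.2 (algebraMap k κ).injective))
  have h1 : φ 1 = 1 := by simpa using LinearMap.congr_fun hφ 1
  refine ⟨φ x, ?_⟩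
  have := congrArg ((TensorProduct.lid k κ).toLinearMap.comp (TensorProduct.map φ LinearMap.id)) e
  simp only [LinearMap.comp_apply, TensorProduct.map_tmul, LinearMap.id_apply, LinearEquiv.coe_coe,
    TensorProduct.lid_tmul, h1, one_smul] at this
  rw [Algebra.algebraMap_eq_smul_one]
  exact this

open CategoryTheory.Limits in
theorem universallyInjective_of_comp_surjective {A B C : Scheme.{u}} (e : A ⟶ B) (f : B ⟶ C)
    [Surjective e] [UniversallyInjective (e ≫ f)] : UniversallyInjective f := by
  rw [UniversallyInjective.iff_diagonal]
  have hm : Surjective (pullback.map (e ≫ f) (e ≫ f) f f e e (𝟙 C) (by simp) (by simp)) :=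
    MorphismProperty.pullbackMap (P := @Surjective) ‹Surjective e› ‹Surjective e› rfl rfl
  have := (UniversallyInjective.iff_diagonal (e ≫ f)).1 ‹_›
  have e' : pullback.diagonal (e ≫ f) ≫ pullback.map (e ≫ f) (e ≫ f) f f e e (𝟙 C) (by simp) (by simp) =
      e ≫ pullback.diagonal f := by
    apply pullback.hom_ext
    · refine ((Category.assoc _ _ _).trans ((congrArg _ (pullback.lift_fst _ _ _)).trans (Category.assoc _ _ _).symm)).trans ?_
      rw [pullback.diagonal_fst, Category.id_comp]
      exact ((Category.assoc _ _ _).trans ((congrArg _ (pullback.diagonal_fst f)).trans (Category.comp_id _))).symm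
    · refine ((Category.assoc _ _ _).trans ((congrArg _ (pullback.lift_snd _ _ _)).trans (Category.assoc _ _ _).symm)).trans ?_
      rw [pullback.diagonal_snd, Category.id_comp]
      exact ((Category.assoc _ _ _).trans ((congrArg _ (pullback.diagonal_snd f)).trans (Category.comp_id _))).symm
  have : Surjective (e ≫ pullback.diagonal f) := by rw [← e']; infer_instance
  exact Surjective.of_comp e _

open CategoryTheory AlgebraicGeometry in
/-- Let k be a field, L an extension field of k which is separable over k in the sense that L ⊗_k L is
reduced (not necessarily algebraic), and I an infinitesimal k-group scheme (finite over k with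
one-point underlying space). If a k-scheme E with an action of I is an fppf torsor under I and
acquires a point over L, then E already has a k-point. (The published statement is the injectivity
of H^1(k, I) → H^1(L, I); this row is its torsor form.) -/
theorem result (k : Type u) [Field k] (L : Type u) [Field L] [Algebra k L]
    [IsReduced (TensorProduct k L L)]
    (I E : Over (Spec (CommRingCat.of k))) [GrpObj I] [IsFinite I.hom] [Subsingleton ↥(I.left)]
    (a : AlgGrp.Action I E) (hE : NonAbH1.IsTorsorFor Scheme.fppfPrecoverage a)
    (hL : NonAbH1.HasSectionOver E (Spec.map (CommRingCat.ofHom (algebraMap k L)))) :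
    NonAbH1.HasSectionOver E (𝟙 (Spec (CommRingCat.of k))) := by
  obtain ⟨s, hs⟩ := hL
  -- the group is radicial
  let o : Spec (CommRingCat.of k) ⟶ I.left := (η[I]).left
  have ho : o ≫ I.hom = 𝟙 _ := Over.w (η[I])
  have : Surjective o := ⟨fun x => ⟨default, Subsingleton.elim _ _⟩⟩
  have : UniversallyInjective (o ≫ I.hom) := by rw [ho]; infer_instance
  have hI : UniversallyInjective I.hom := universallyInjective_of_comp_surjective o I.hom
  -- hence so is the projection of the torsor
  have : IsIso (lift a.act (snd I E)) := hE.1
  have := Groth.L09.TorsorSch.isIso_left (lift a.act (snd I E))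
  have hsnd : UniversallyInjective (Limits.pullback.snd E.hom E.hom) := by
    have h1 : UniversallyInjective (snd I E).left :=
      MorphismProperty.of_isPullback (Groth.L09.TorsorSch.isPullback_left I E) hI
    rw [show (snd I E) = lift a.act (snd I E) ≫ snd E E from (lift_snd _ _).symm, Over.comp_left,
      MorphismProperty.cancel_left_of_respectsIso @UniversallyInjective] at h1
    exact h1
  -- the residue field of the point
  let e : E.left := ((E.left.SpecToEquivOfField L) s).1
  let κ := E.left.residueField e
  let q : CommRingCat.of k ⟶ κ := Spec.preimage (E.left.fromSpecResidueField e ≫ E.hom)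
  have hq : Spec.map q = E.left.fromSpecResidueField e ≫ E.hom := Spec.map_preimage _
  letI : Algebra k κ := q.hom.toAlgebra
  obtain ⟨j, hj⟩ : ∃ j : κ ⟶ CommRingCat.of L, Spec.map j ≫ E.left.fromSpecResidueField e = s := by
    have h := (E.left.SpecToEquivOfField L).symm_apply_apply s
    rw [Scheme.SpecToEquivOfField_symm_apply] at h
    exact ⟨_, h⟩
  have hjk : q ≫ j = CommRingCat.ofHom (algebraMap k L) := Spec.map_injective (by
    rw [Spec.map_comp, hq, ← Category.assoc, hj, hs])
  let j' : κ →ₐ[k] L := { j.hom with commutes' := fun r => congr($hjk r) }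
  have : IsReduced (TensorProduct k κ κ) :=
    isReduced_of_injective (Algebra.TensorProduct.map j' j')
      (TensorProduct.map_injective_of_flat_flat j'.toLinearMap j'.toLinearMap j'.injective j'.injective)
  have : Subsingleton (PrimeSpectrum (TensorProduct k κ κ)) := by
    let h := E.left.fromSpecResidueField e
    let m := Limits.pullback.map (Spec.map q) (Spec.map q) E.hom E.hom h h (𝟙 _) (by simp [hq, h]) (by simp [hq, h])
    have : UniversallyInjective m :=
      MorphismProperty.pullbackMap (P := @UniversallyInjective) (i₁ := h) (i₂ := h)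
        (inferInstanceAs (UniversallyInjective h)) (inferInstanceAs (UniversallyInjective h)) (by simp [hq, h]) (by simp [hq, h])
    let iso : Spec (CommRingCat.of (TensorProduct k κ κ)) ≅ Limits.pullback (Spec.map q) (Spec.map q) :=
      (pullbackSpecIso k κ κ).symm
    have hinj : Function.Injective (iso.hom ≫ m ≫ Limits.pullback.snd E.hom E.hom) :=
      @Scheme.Hom.injective _ _ _ (MorphismProperty.comp_mem @UniversallyInjective _ _ (inferInstanceAs (UniversallyInjective iso.hom))
        (MorphismProperty.comp_mem @UniversallyInjective _ _ ‹UniversallyInjective m› hsnd))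
    have hfac : iso.hom ≫ m ≫ Limits.pullback.snd E.hom E.hom =
        (iso.hom ≫ Limits.pullback.snd (Spec.map q) (Spec.map q)) ≫ h :=
      (congrArg _ (Limits.pullback.lift_snd _ _ _)).trans (Category.assoc _ _ _).symm
    have hss : Subsingleton (Spec κ) := inferInstanceAs (Subsingleton (PrimeSpectrum κ))
    refine ⟨fun x y => hinj ?_⟩
    rw [hfac, Scheme.Hom.comp_apply, Scheme.Hom.comp_apply]
    exact congrArg h (Subsingleton.elim _ _)
  have hbij : Function.Bijective q := bijective_algebraMap k κ
  have : IsIso q := (ConcreteCategory.isIso_iff_bijective q).2 hbij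
  exact ⟨Spec.map (inv q) ≫ E.left.fromSpecResidueField e, by
    rw [Category.assoc, ← hq, ← Spec.map_comp, IsIso.hom_inv_id, Spec.map_id]⟩

end Groth.Agent.S13959
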