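import Groth.Statements.S1396
import Groth.Agent.L20.QuasiAffine

set_option autoImplicit false
universe u
open FlatMor

namespace Groth.Agent.S1396

open AlgebraicGeometry CategoryTheory Limits in
/-- (1) ⇔ (4): a morphism f : X → Y is ind-quasi-affine (the preimage of every affine open is a scheme
all of whose quasi-compact opens are quasi-affine) if and only if for every quasi-compact
quasi-separated open V of Y and every quasi-compact open U of the preimage of V, the induced
morphism U → V is quasi-affine (quasi-compact with quasi-affine preimages of affine opens). -/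
theorem result {X Y : Scheme.{u}} (f : X ⟶ Y) :
    MoreMor.IsIndQuasiAffineHom f ↔ ∀ (V : Y.Opens), IsCompact (V : Set ↑Y) → IsQuasiSeparated (V : Set ↑Y) →
      ∀ (U : X.Opens) (hUV : U ≤ f ⁻¹ᵁ V), IsCompact (U : Set ↑X) → MoreMor.IsQuasiAffineHom (f.resLE V U hUV) := by
  constructor
  · exact fun hf V _ hV' U hUV hU => Groth.L20.isQuasiAffineHom_resLE hf hV' hUV hU
  · intro h
    rw [Groth.L20.isIndQuasiAffineHom_iff]
    intro V hV U hUV hU
    have hq := (h V hV.isCompact hV.isQuasiSeparated U hUV hU).2 ⊤ (by
      have : IsAffine V := hV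
      exact isAffineOpen_top _)
    have : CompactSpace U := isCompact_iff_compactSpace.mp hU
    exact Scheme.IsQuasiAffine.of_isImmersion
      ((U : Scheme).topIso.inv ≫ (Scheme.isoOfEq _ (by simp :
        (⊤ : (U : Scheme).Opens) = f.resLE V U hUV ⁻¹ᵁ ⊤)).hom)

end Groth.Agent.S1396
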