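import Groth.Statements.S13963
import Mathlib.Topology.Algebra.Group.OpenMapping
import Mathlib.Topology.Baire.LocallyCompactRegular
import Mathlib.Topology.Algebra.Group.Pointwise

set_option autoImplicit false
universe u
open TateLoc

namespace Groth.Agent.S13963

/-- Let A' → A → A'' be continuous homomorphisms of locally compact, second-countable, Hausdorff abelian
topological groups which form a short exact sequence of abstract groups (the first injective, the
second surjective, image equal to kernel). If A' and A'' are compact, then A is compact. -/
theorem result (A' A A'' : Type u)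
    [AddCommGroup A'] [TopologicalSpace A'] [IsTopologicalAddGroup A'] [SecondCountableTopology A'] [T2Space A']
    [CompactSpace A']
    [AddCommGroup A] [TopologicalSpace A] [IsTopologicalAddGroup A] [LocallyCompactSpace A]
    [SecondCountableTopology A] [T2Space A]
    [AddCommGroup A''] [TopologicalSpace A''] [IsTopologicalAddGroup A''] [SecondCountableTopology A''] [T2Space A'']
    [CompactSpace A'']
    (f : A' →+ A) (g : A →+ A'') (hf : Continuous f) (hg : Continuous g)
    (hinj : Function.Injective f) (hsurj : Function.Surjective g) (hex : g.ker = f.range) :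
    CompactSpace A := by
  haveI : SigmaCompactSpace A := sigmaCompactSpace_of_locallyCompact_secondCountable
  have hopen : IsOpenMap g := AddMonoidHom.isOpenMap_of_sigmaCompact g hsurj hg
  choose K hK hKn using fun a : A => exists_compact_mem_nhds a
  obtain ⟨t, ht⟩ := isCompact_univ.elim_finite_subcover (fun a : A => g '' interior (K a))
    (fun a => hopen _ isOpen_interior) (fun y _ => by
      obtain ⟨a, rfl⟩ := hsurj y
      exact Set.mem_iUnion.2 ⟨a, a, mem_interior_iff_mem_nhds.2 (hKn a), rfl⟩)
  have hT : IsCompact (⋃ a ∈ t, K a) := t.finite_toSet.isCompact_biUnion fun a _ => hK a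
  refine ⟨?_⟩
  have hall : (Set.univ : Set A) = (fun p : A × A => p.1 + p.2) '' ((⋃ a ∈ t, K a) ×ˢ Set.range f) := by
    refine (Set.eq_univ_of_forall fun y => ?_).symm
    obtain ⟨a, hat, b, hb, hby⟩ : ∃ a ∈ t, ∃ b ∈ interior (K a), g b = g y := by
      simpa using ht (Set.mem_univ (g y))
    have : y - b ∈ f.range := hex ▸ (by simp [AddMonoidHom.mem_ker, hby] : y - b ∈ g.ker)
    exact ⟨(b, y - b), ⟨Set.mem_biUnion hat (interior_subset hb), this⟩, by simp⟩
  rw [hall]
  exact (hT.prod (isCompact_range hf)).image continuous_add

end Groth.Agent.S13963
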