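import Groth.Statements.S13972
import Groth.Agent.L14.KoszulFib.SqZero
import Groth.Agent.L14.KoszulFib.Lift

set_option autoImplicit false
set_option maxHeartbeats 1600000
universe u
open LCI

namespace Groth.Agent.S13972

/-- Let A' be an Artinian local ring, I a proper ideal of A', A = A'/I, R' a Noetherian A'-algebra flat
over A' and R = R'/IR'. Let f₁, …, f_r ∈ R be a Koszul-regular sequence (its Koszul complex is
acyclic in nonzero degrees) such that R/(f₁, …, f_r) is flat over A. Then: (1) for every choice of
lifts f'₁, …, f'_r ∈ R' of the f_i, the quotient R'/(f'₁, …, f'_r) is flat over A' and f'₁, …, f'_r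
is a Koszul-regular sequence in R'; (2) if J' ⊆ R' is an ideal with R'/J' flat over A' whose image
in R is the ideal (f₁, …, f_r), then J' is generated by any lifts f'₁, …, f'_r ∈ J' of the f_i. (The
published statement takes R' = R₀ ⊗_Λ A' for a flat Λ-algebra R₀ and a surjection A' → A of Artinian
local Λ-algebras; this row assumes only that R' is Noetherian and flat over A' and that I is a
proper ideal, which is what its proof uses. Regularity of a sequence is taken there in every
localization at a prime containing the ideal it generates, which over a Noetherian ring is the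
Koszul-acyclicity used in the proof and stated here.) -/
theorem result
    {A' : Type u} [CommRing A'] [IsLocalRing A'] [IsArtinianRing A'] (I : Ideal A') (hI : I ≠ ⊤)
    {R' : Type u} [CommRing R'] [Algebra A' R'] [IsNoetherianRing R'] [Module.Flat A' R']
    (r : ℕ) (f : Fin r → R' ⧸ I.map (algebraMap A' R'))
    (hf : LCI.IsKoszulRegularSeq (R' ⧸ I.map (algebraMap A' R')) (List.ofFn f))
    [Module.Flat (A' ⧸ I) ((R' ⧸ I.map (algebraMap A' R')) ⧸ Ideal.span (Set.range f))] :
    (∀ f' : Fin r → R', (∀ i, Ideal.Quotient.mk (I.map (algebraMap A' R')) (f' i) = f i) →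
        Module.Flat A' (R' ⧸ Ideal.span (Set.range f')) ∧ LCI.IsKoszulRegularSeq R' (List.ofFn f')) ∧
    (∀ (J' : Ideal R'), Module.Flat A' (R' ⧸ J') →
        J'.map (Ideal.Quotient.mk (I.map (algebraMap A' R'))) = Ideal.span (Set.range f) →
        ∀ f' : Fin r → R', (∀ i, f' i ∈ J') →
          (∀ i, Ideal.Quotient.mk (I.map (algebraMap A' R')) (f' i) = f i) →
          J' = Ideal.span (Set.range f')) := by
  classical
  have hofn : ∀ {S : Type u} [CommRing S] (g : Fin r → S), Ideal.ofList (List.ofFn g) = Ideal.span (Set.range g) :=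
    fun g => by simp [Ideal.ofList, Set.range, List.mem_ofFn]
  obtain ⟨N, hN⟩ : IsNilpotent I := by
    have h1 : I ≤ IsLocalRing.maximalIdeal A' := IsLocalRing.le_maximalIdeal hI
    obtain ⟨N, hN⟩ : IsNilpotent (IsLocalRing.maximalIdeal A') := by
      rw [← IsLocalRing.jacobson_eq_maximalIdeal (⊥ : Ideal A') bot_ne_top]
      exact IsArtinianRing.isNilpotent_jacobson_bot
    exact ⟨N, le_bot_iff.mp ((Ideal.pow_right_mono h1 N).trans hN.le)⟩
  constructor
  · intro f' hf'
    have hlist : (List.ofFn f').map (Ideal.Quotient.mk (I.map (algebraMap A' R'))) = List.ofFn f := by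
      rw [List.map_ofFn]
      exact congrArg _ (funext hf')
    have h := Groth.L14.KoszulFib.regular_flat_of_mod_nilpotent N A' R' I
      (by rw [pow_succ, hN]; exact Ideal.bot_mul I) (List.ofFn f') (by rw [hlist]; exact hf) (by rw [hlist, hofn]; infer_instance)
    exact ⟨hofn f' ▸ h.2, h.1⟩
  · intro J' hflat hJ' f' hf'J hf'
    let K := Ideal.span (Set.range f')
    let IR := I.map (algebraMap A' R')
    have hKJ : K ≤ J' := Ideal.span_le.mpr (by rintro _ ⟨i, rfl⟩; exact hf'J i)
    have hstep : J' ≤ K ⊔ IR * J' := fun z hz => by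
      have h1 : Ideal.Quotient.mk IR z ∈ K.map (Ideal.Quotient.mk IR) := by
        rw [Ideal.map_span, ← Set.range_comp, show Ideal.Quotient.mk IR ∘ f' = f from funext hf', ← hJ']
        exact Ideal.mem_map_of_mem _ hz
      obtain ⟨w, hw, hwz⟩ := (Ideal.mem_map_iff_of_surjective _ Ideal.Quotient.mk_surjective).mp h1
      refine Submodule.mem_sup.mpr ⟨w, hw, z - w, ?_, add_sub_cancel _ _⟩
      haveI := hflat
      exact Groth.L14.KoszulFib.mem_mul_of_mem J' I (Ideal.Quotient.eq.mp hwz.symm) (sub_mem hz (hKJ hw))
    refine le_antisymm ?_ hKJ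
    have key : ∀ j, J' ≤ K ⊔ IR ^ j * J' := by
      intro j
      induction j with
      | zero => simp
      | succ j ih =>
        refine ih.trans (sup_le le_sup_left ((Ideal.mul_mono_right hstep).trans ?_))
        rw [Ideal.mul_sup, ← mul_assoc, ← pow_succ]
        exact sup_le (Ideal.mul_le_right.trans le_sup_left) le_sup_right
    have h2 := key N
    rwa [← Ideal.map_pow, hN, Ideal.zero_eq_bot, Ideal.map_bot, Ideal.bot_mul, sup_bot_eq] at h2

end Groth.Agent.S13972
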