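import Groth.Statements.S13978
import Groth.Agent.L12.Obs


set_option autoImplicit false
universe u v
open CategoryTheory
open scoped TensorProduct
open ArtFun ArtFun.ObsTheory

namespace Groth.Agent.S13978

/-- For obstruction theories of functors in the vector-space form, let k be a field, F a functor on
Artinian local k-algebras with residue field k and (V, ω) an obstruction theory for F — for each
surjection p : C' → C whose kernel J is killed by the maximal ideal and each u ∈ F(C) an obstruction
ω(p, u) ∈ V ⊗_k J, zero exactly when u lifts, and compatible with replacing C' → C by C'/K → C for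
ideals K ≤ J. Let Ω ⊆ V be the subspace spanned by the obstructions along tiny extensions (those p
whose kernel is one-dimensional), transported into V by the isomorphisms V ⊗ J ≅ V coming from
linear isomorphisms J ≅ k. Then for every p and u the obstruction ω(p, u) lies in the image of Ω ⊗_k
J → V ⊗_k J. (The published statement is for deformation categories and obstruction theories
functorial along all morphisms of extensions; this row assumes functoriality along quotients C'/K
only, which is all its proof uses, and no condition on F.) -/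
theorem result {k : Type u} [Field k]
    {F : ArtFun.Art k k ⥤ Type v} {V : Type u} [AddCommGroup V] [Module k V]
    (T : ArtFun.ObsTheory F V) {C' C : ArtFun.Art k k} (p : C' ⟶ C) (hp : ArtFun.Art.IsSemismallExt p)
    (u : F.obj C) :
    T.obs p hp u ∈ LinearMap.range (LinearMap.rTensor (↥(RingHom.ker p.toAlgHom))
      (Submodule.span k {v : V | ∃ (B' B : ArtFun.Art k k) (t : B' ⟶ B) (ht : ArtFun.Art.IsSmallExt t)
          (w : F.obj B) (φ : ↥(RingHom.ker t.toAlgHom) ≃ₗ[k] k),
          v = TensorProduct.rid k V (LinearMap.lTensor V φ.toLinearMap (T.obs t ht.isSemismallExt w))}).subtype) := by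
  classical
  set J := RingHom.ker p.toAlgHom with hJ
  haveI : IsNoetherian k C' :=
    (isFiniteLength_iff_isNoetherian_isArtinian.1 (Groth.L12.isFiniteLength_art C')).1
  haveI : Module.Finite k J :=
    Module.Finite.of_injective ((Submodule.subtype J).restrictScalars k) Subtype.coe_injective
  let b := Module.finBasis k J
  set x := T.obs p hp u
  set Ω := Submodule.span k {v : V | ∃ (B' B : ArtFun.Art k k) (t : B' ⟶ B) (ht : ArtFun.Art.IsSmallExt t)
          (w : F.obj B) (φ : ↥(RingHom.ker t.toAlgHom) ≃ₗ[k] k),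
          v = TensorProduct.rid k V (LinearMap.lTensor V φ.toLinearMap (T.obs t ht.isSemismallExt w))}
  have hc : ∀ i, TensorProduct.rid k V (LinearMap.lTensor V (b.coord i) x) ∈ Ω := fun i => by
    let l := b.coord i
    have hx₁ : l (b i) = 1 := by simp [l]
    set x₁ := b i
    let K₀ : Ideal C' :=
      { carrier := {z | ∃ h : z ∈ J, l ⟨z, h⟩ = 0}
        add_mem' := fun {a c} ⟨ha, ea⟩ ⟨hc, ec⟩ => ⟨add_mem ha hc, by
          rw [show (⟨a + c, add_mem ha hc⟩ : J) = ⟨a, ha⟩ + ⟨c, hc⟩ from rfl, map_add, ea, ec, add_zero]⟩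
        zero_mem' := ⟨zero_mem _, map_zero l⟩
        smul_mem' := fun c z ⟨hz, ez⟩ => ⟨Ideal.mul_mem_left _ _ hz, by
          have h1 : (⟨c • z, Ideal.mul_mem_left _ _ hz⟩ : J) = C'.res c • ⟨z, hz⟩ := Subtype.ext (by
            change c * z = C'.res c • z
            rw [Algebra.smul_def, ← sub_eq_zero, ← sub_mul]
            exact (Submodule.mem_bot C').1 (hp.2 ▸ Ideal.mul_mem_mul ((C'.mem_maximalIdeal_iff _).2 (by
              rw [map_sub, AlgHom.commutes, Algebra.algebraMap_self_apply, sub_self])) hz))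
          rw [h1, map_smul, ez, smul_zero]⟩ }
    have hK₀ : K₀ ≤ J := fun z hz => hz.1
    have hK₀m : K₀ ≤ IsLocalRing.maximalIdeal C' := hK₀.trans (Groth.L12.ker_le_maximalIdeal p)
    let p₀ := Art.quotFactor hK₀m p hK₀
    have hsub : ∀ y : J, Art.kerToQuot hK₀m p hK₀ y = l y • Art.kerToQuot hK₀m p hK₀ x₁ := fun y => by
      change (Art.kerToQuot hK₀m p hK₀).restrictScalars k y = l y • (Art.kerToQuot hK₀m p hK₀).restrictScalars k x₁
      rw [← map_smul, ← sub_eq_zero, ← map_sub]
      refine Subtype.ext (Ideal.Quotient.eq_zero_iff_mem.2 ⟨(y - l y • x₁).2, ?_⟩)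
      rw [map_sub, map_smul, hx₁, smul_eq_mul, mul_one, sub_self]
    set e₁ := Art.kerToQuot hK₀m p hK₀ x₁
    have he₁ : e₁ ≠ 0 := fun h => by
      obtain ⟨h2, h3⟩ := Ideal.Quotient.eq_zero_iff_mem.1
        ((congrArg Subtype.val h : ((e₁ : _) : Art.quot C' K₀ hK₀m) = 0) : Ideal.Quotient.mk K₀ (x₁ : C') = 0)
      rw [show (⟨(x₁ : C'), h2⟩ : J) = x₁ from rfl, hx₁] at h3
      exact one_ne_zero h3
    have htop : (k ∙ e₁) = ⊤ := eq_top_iff.2 fun z _ => by
      obtain ⟨y, hy⟩ : ∃ y : J, Art.kerToQuot hK₀m p hK₀ y = z := by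
        obtain ⟨z, hz⟩ := z
        obtain ⟨w, rfl⟩ := Ideal.Quotient.mk_surjective z
        exact ⟨⟨w, hz⟩, rfl⟩
      rw [← hy, hsub]
      exact Submodule.smul_mem _ _ (Submodule.mem_span_singleton_self _)
    let φ : ↥(RingHom.ker p₀.toAlgHom) ≃ₗ[k] k :=
      ((LinearEquiv.toSpanNonzeroSingleton k _ e₁ he₁).trans (LinearEquiv.ofTop _ htop)).symm
    have hφ : φ e₁ = 1 := by
      rw [LinearEquiv.symm_apply_eq]
      simp [LinearEquiv.toSpanNonzeroSingleton]
    have hp₀ : Art.IsSmallExt p₀ := by
      refine ⟨fun z => ?_, fun hbot => he₁ (Subtype.ext ((Submodule.mem_bot _).1 (hbot.le e₁.2))), ⟨⟨(e₁ : _), le_antisymm (fun z hz => ?_) ?_⟩⟩,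
        le_bot_iff.1 (Ideal.mul_le.2 fun a ha c hc => ?_)⟩
      · obtain ⟨w, rfl⟩ := hp.1 z
        exact ⟨Ideal.Quotient.mk _ w, rfl⟩
      · obtain ⟨r, hr⟩ := Submodule.mem_span_singleton.1 (htop.ge (Submodule.mem_top (x := (⟨z, hz⟩ : RingHom.ker p₀.toAlgHom))))
        refine Submodule.mem_span_singleton.2 ⟨algebraMap k _ r, ?_⟩
        rw [algebraMap_smul]
        exact congrArg Subtype.val hr
      · rw [Submodule.span_le, Set.singleton_subset_iff]
        exact e₁.2
      · obtain ⟨a, rfl⟩ := Art.quotMk_surjective C' _ hK₀m a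
        obtain ⟨c, rfl⟩ := Art.quotMk_surjective C' _ hK₀m c
        have h1 : a * c = 0 := (Submodule.mem_bot C').1 (hp.2 ▸ Ideal.mul_mem_mul
          ((C'.mem_maximalIdeal_iff a).2 (((Art.quot C' K₀ hK₀m).mem_maximalIdeal_iff _).1 ha))
          (show c ∈ J from RingHom.mem_ker.2 (RingHom.mem_ker.1 hc)))
        rw [Submodule.mem_bot]
        change Ideal.Quotient.mk K₀ a * Ideal.Quotient.mk K₀ c = 0
        rw [← map_mul, h1, map_zero]
    refine Submodule.subset_span ⟨_, _, p₀, hp₀, u, φ, ?_⟩
    rw [T.obs_quot p hp K₀ hK₀m hK₀ hp₀.isSemismallExt u, ← LinearMap.comp_apply, ← LinearMap.lTensor_comp]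
    congr 2
    refine congrArg _ (LinearMap.ext fun y => ?_)
    change l y = φ (Art.kerToQuot hK₀m p hK₀ y)
    rw [hsub, map_smul, hφ, smul_eq_mul, mul_one]
  have hx : x = ∑ i, (TensorProduct.rid k V (LinearMap.lTensor V (b.coord i) x)) ⊗ₜ[k] b i := by
    induction x using TensorProduct.induction_on with
    | zero => simp
    | tmul v y =>
      simp only [LinearMap.lTensor_tmul, TensorProduct.rid_tmul, TensorProduct.smul_tmul]
      rw [← TensorProduct.tmul_sum]
      congr 1
      exact (b.sum_repr y).symm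
    | add y z hy hz =>
      simp only [map_add, TensorProduct.add_tmul, Finset.sum_add_distrib]
      rw [← hy, ← hz]
  rw [hx]
  refine Submodule.sum_mem _ fun i _ => ⟨(⟨_, hc i⟩ : Ω) ⊗ₜ b i, ?_⟩
  rw [LinearMap.rTensor_tmul]
  rfl
end Groth.Agent.S13978
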