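import Groth.Statements.S13980
import Groth.Agent.L14.LocHilb.Lift.Obs.Transport
import Groth.Agent.L14.RegImmStalk.Stalk

set_option autoImplicit false
universe u
open CategoryTheory CategoryTheory.Limits AlgebraicGeometry
open ArtFun

namespace Groth.Agent.S13980

/-- Let k be a field, X a locally Noetherian separated k-scheme and Z₀ ⊆ X the closed subscheme defined
by a quasi-coherent ideal sheaf I₀ which is a local complete intersection in X: around every point
of Z₀ the ideal is generated by a Koszul-regular sequence. Let N₀ = Hom_{O_{Z₀}}(I₀/I₀², O_{Z₀}) be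
the normal sheaf (the sheaf Hom of the conormal sheaf, assumed to exist as the right adjoint of
tensoring with it). Then the local Hilbert functor of Z₀ — over a local Artinian k-algebra A with
residue field k, the closed subschemes of X ×_k Spec A flat over Spec A whose restriction to the
closed fibre is Z₀ — has an obstruction theory with values in H¹(Z₀, N₀): obstructions in H¹(Z₀, N₀)
⊗_k J for surjections with kernel J killed by the maximal ideal, vanishing exactly when the
subscheme lifts, compatible with quotients C'/K. (The published statement allows a base ring Λ with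
X flat over Λ and gives the finer functoriality along all morphisms of small extensions; this row
takes Λ = k. Regular sequences are taken there in the local sense, which over Noetherian rings is
the Koszul-regularity used in its proof.) -/
theorem result {k : Type u} [Field k]
    (X : Scheme.{u}) [IsLocallyNoetherian X] (x : X ⟶ Spec (CommRingCat.of k)) [IsSeparated x]
    (I₀ : X.IdealSheafData) (hlci : RegImm.IsRegularIdeal RegImm.Kind.koszul I₀)
    [DCoh.HasSheafHom (Omega.conormal I₀.subschemeι)] :
    @ArtFun.HasObsTheory k _ (ArtFun.localHilb X x I₀)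
      (Coh.HH I₀.subscheme ((DCoh.sheafHom (Omega.conormal I₀.subschemeι)).obj
        (Coh.structureModule I₀.subscheme)) 1) _
      (@Coh.moduleOver k _ I₀.subscheme ⟨I₀.subschemeι ≫ x⟩ _ 1) := by
  letI : X.Over (Spec (CommRingCat.of k)) := ⟨x⟩
  letI : I₀.subscheme.Over (Spec (CommRingCat.of k)) := ⟨I₀.subschemeι ≫ x⟩
  have hreg : Mor2.IsRegularClosedImmersion I₀.subschemeι := by
    refine ⟨inferInstance, fun z => ?_⟩
    obtain ⟨U, hzU, rs, hrs, e⟩ := hlci (I₀.subschemeι z) (by
      rw [← SetLike.mem_coe, ← Scheme.IdealSheafData.range_subschemeι]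
      exact ⟨z, rfl⟩)
    have hk : RegImm.IsRegularImmersionAt RegImm.Kind.koszul I₀.subschemeι z :=
      ⟨U, hzU, inferInstance, rs, hrs, (I₀.ker_subschemeι_app U).trans e⟩
    obtain ⟨W, hzW, -, rs', hrs', e'⟩ := (Groth.L14.RegImmStalk.regularAt_iff_stalk I₀.subschemeι RegImm.Kind.regular z).2
      ((Groth.L14.RegImmStalk.regularAt_iff_stalk I₀.subschemeι RegImm.Kind.koszul z).1 hk)
    exact ⟨W.1, W.2, hzW, rs', hrs', (Scheme.Hom.ker_apply _ _).trans e'⟩
  have hreg' : Mor2.IsRegularClosedImmersion I₀.subschemeι.ker.subschemeι :=
    Groth.L14.LocHilbLift.isRegularClosedImmersion_ker I₀.subschemeι hreg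
  have h := Groth.L14.LocHilbLift.hasObsTheory_normal (k := k) I₀.subschemeι rfl hreg'
  rwa [Scheme.IdealSheafData.ker_subschemeι] at h

end Groth.Agent.S13980
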