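import Groth.Statements.S13981
import Groth.Agent.L12.CRingHom


set_option autoImplicit false
universe u v
open CategoryTheory
open ArtFun

namespace Groth.Agent.S13981

/-- Let F be a functor on Artinian local Λ-algebras with residue field k (Λ Noetherian, Λ → k finite and
surjective) satisfying (RS) — the comparison map for A₁ ×_A A₂ is bijective whenever A₂ → A is
surjective — and let ξ be a versal family of F over a complete local Noetherian Λ-algebra R with
residue field k. Then the lifting property defining versality also holds along surjections of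
complete local Noetherian algebras: if g : A' → A is such a surjection, η' is a formal element of F
over A' (a compatible system over the truncations A'/m^(n+1)) and φ : R → A is a map under which the
formal element of ξ becomes the pushforward of η' along g, then φ lifts to ψ : R → A' with g ∘ ψ = φ
and with ξ inducing η' along ψ. (The published statement takes Λ complete local Noetherian with
residue field k; its proof does not use completeness of Λ, and this row assumes only Λ Noetherian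
with Λ → k surjective.) -/
theorem result {Λ : Type u} {k : Type u} [CommRing Λ] [Field k]
    [Algebra Λ k] [IsNoetherianRing Λ] [Module.Finite Λ k] (hΛ : Function.Surjective (algebraMap Λ k))
    {F : ArtFun.Art Λ k ⥤ Type v}
    (hRS : ∀ ⦃B A A₁ A₂ : ArtFun.Art Λ k⦄ (p₁ : B ⟶ A₁) (p₂ : B ⟶ A₂) (f₁ : A₁ ⟶ A) (f₂ : A₂ ⟶ A)
        (h : ArtFun.Art.IsFibreProd p₁ p₂ f₁ f₂), Function.Surjective f₂ → Function.Bijective (ArtFun.cmp F h))
    (R : ArtFun.CRing Λ k) (ξ : ArtFun.Family R.carrier R.res F) (hξ : ArtFun.IsVersal ξ)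
    (A' A : ArtFun.CRing Λ k) (g : A'.carrier →ₐ[Λ] A.carrier) (hg : A.res.comp g = A'.res)
    (hgs : Function.Surjective g) (η' : ArtFun.FormalElt F A')
    (φ : R.carrier →ₐ[Λ] A.carrier) (hφ : A.res.comp φ = R.res)
    (hsq : (ξ.along φ hφ).toFormalElt = η'.push g hg) :
    ∃ (ψ : R.carrier →ₐ[Λ] A'.carrier) (hψ : A'.res.comp ψ = R.res),
      g.comp ψ = φ ∧ (ξ.along ψ hψ).toFormalElt = η' := by
  let φn : ∀ n, ArtFun.HomSet R.carrier R.res (A.trunc n) := fun n =>
    ⟨(A.truncHom n).1.comp φ, by rw [← AlgHom.comp_assoc, (A.truncHom n).2, hφ]⟩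
  have hφn : ∀ n, ξ.app _ (φn n) = F.map (ArtFun.CRing.truncMapOfHom g hg n) (η'.elt n) :=
    fun n => congrArg (fun u : ArtFun.FormalElt F A => u.elt n) hsq
  let gn := fun n => ArtFun.CRing.truncMapOfHom g hg n
  let P : ∀ n, ArtFun.HomSet R.carrier R.res (A'.trunc n) → Prop := fun n ψ =>
    ξ.app _ ψ = η'.elt n ∧ ArtFun.HomSet.map (gn n) ψ = φn n
  have h0 : ∃ ψ, P 0 ψ := by
    have hb := Groth.L12.trunc_zero_bijective (Λ := Λ) A'
    haveI := Groth.L12.isIso_of_bijective (ArtFun.Art.toBase (A'.trunc 0)) hb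
    let ψ : ArtFun.HomSet R.carrier R.res (A'.trunc 0) :=
      ArtFun.HomSet.map (inv (ArtFun.Art.toBase (A'.trunc 0))) (Groth.L12.basePt R.carrier R.res)
    have hu : ArtFun.HomSet.map (gn 0) ψ = φn 0 :=
      Subtype.ext (AlgHom.ext fun a => (Groth.L12.trunc_zero_bijective A).1
        ((DFunLike.congr_fun (ArtFun.HomSet.map (gn 0) ψ).2 a).trans (DFunLike.congr_fun (φn 0).2 a).symm))
    refine ⟨ψ, ?_, hu⟩
    have hgn : Function.Bijective (gn 0) := by
      refine ⟨fun a b e => hb.1 ?_, fun c => ?_⟩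
      · change (A'.trunc 0).res a = (A'.trunc 0).res b
        rw [← ArtFun.Art.res_app (gn 0) a, ← ArtFun.Art.res_app (gn 0) b, e]
      · obtain ⟨a, ha⟩ := (A'.trunc 0).res_surjective ((A.trunc 0).res c)
        exact ⟨a, (Groth.L12.trunc_zero_bijective A).1 ((ArtFun.Art.res_app (gn 0) a).trans ha)⟩
    haveI := Groth.L12.isIso_of_bijective (gn 0) hgn
    refine (Groth.L12.map_bijective_of_isIso F (gn 0)).1 ?_
    rw [← ξ.natural, hu]
    exact hφn 0
  have hs : ∀ n ψ, P n ψ → ∃ ψ', P (n + 1) ψ' ∧ ArtFun.HomSet.map (A'.truncMap n) ψ' = ψ := by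
    rintro n ψ ⟨hψ₁, hψ₂⟩
    obtain ⟨B, b₁, b₂, hB⟩ := Groth.L12.exists_isFibreProd_of_surjective (gn n) (A.truncMap n)
      (Groth.L12.truncMap_surjective A n)
    have hcomm : A'.truncMap n ≫ gn n = gn (n + 1) ≫ A.truncMap n := Groth.L12.hom_ext fun x => by
      obtain ⟨a, rfl⟩ := Groth.L12.truncHom_surjective A' (n + 1) x
      rfl
    obtain ⟨u, hu₁, hu₂⟩ := Groth.L12.IsFP.exists_lift hB (A'.truncMap n) (gn (n + 1)) hcomm
    have husurj : Function.Surjective u := fun z => by
      obtain ⟨a, ha⟩ := Groth.L12.truncHom_surjective A' n (b₁ z)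
      obtain ⟨b, hb⟩ := Groth.L12.truncHom_surjective A (n + 1) (b₂ z)
      obtain ⟨b', rfl⟩ := hgs b
      have hw : (A.truncHom n).1 (g a) = (A.truncHom n).1 (g b') := by
        have := hB.w_apply z
        rw [← ha, ← hb] at this
        exact this
      have hmem : g a - g b' ∈ IsLocalRing.maximalIdeal A.carrier ^ (n + 1) := Ideal.Quotient.eq.1 hw
      rw [← IsLocalRing.map_maximalIdeal_of_surjective (g : A'.carrier →+* A.carrier) hgs, ← Ideal.map_pow] at hmem
      obtain ⟨c, hc, hc'⟩ := (Ideal.mem_map_iff_of_surjective _ hgs).1 hmem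
      refine ⟨(A'.truncHom (n + 1)).1 (a - c), hB.inj _ _ ?_ ?_⟩
      · refine ((congrArg (fun v : A'.trunc (n + 1) ⟶ A'.trunc n => v ((A'.truncHom (n + 1)).1 (a - c))) hu₁).trans ?_)
        refine (show (A'.truncHom n).1 (a - c) = _ from ?_).trans ha
        refine Ideal.Quotient.eq.2 ?_
        rw [sub_sub_cancel_left]
        exact neg_mem hc
      · refine ((congrArg (fun v : A'.trunc (n + 1) ⟶ A.trunc (n + 1) => v ((A'.truncHom (n + 1)).1 (a - c))) hu₂).trans ?_)
        refine (show (A.truncHom (n + 1)).1 (g (a - c)) = _ from ?_).trans hb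
        rw [map_sub g a c, show g c = g a - g b' from hc', sub_sub_cancel]
    obtain ⟨χ, hχ₁, hχ₂⟩ := (Groth.L12.cmp_surj_iff (ArtFun.hR R.carrier R.res) hB).1
      (Groth.L12.hR_bijective_cmp hB).2 ψ (φn (n + 1)) (hψ₂.trans (Subtype.ext (AlgHom.ext fun r => rfl)))
    have hy : F.map u (η'.elt (n + 1)) = ξ.app B χ := by
      refine (Groth.L12.cmp_inj_iff F hB).1 (hRS _ _ _ _ hB (Groth.L12.truncMap_surjective A n)).1 _ _ ?_ ?_
      · rw [Groth.L12.map_map, hu₁, η'.compat, ← hψ₁, ← hχ₁]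
        exact ξ.natural b₁ χ
      · rw [Groth.L12.map_map, hu₂, ← hφn (n + 1), ← hχ₂]
        exact ξ.natural b₂ χ
    obtain ⟨ψ', h₁, h₂⟩ := hξ u husurj χ (η'.elt (n + 1)) hy
    refine ⟨ψ', ⟨h₂, ?_⟩, ?_⟩
    · rw [show gn (n + 1) = u ≫ b₂ from hu₂.symm]
      exact (congrArg (ArtFun.HomSet.map b₂) h₁).trans hχ₂
    · rw [show A'.truncMap n = u ≫ b₁ from hu₁.symm]
      exact (congrArg (ArtFun.HomSet.map b₁) h₁).trans hχ₁
  obtain ⟨ψ, hψ, hP⟩ := Groth.L12.exists_hom_of_step P h0 hs
  refine ⟨ψ, hψ, Groth.L12.cring_hom_ext fun n r => ?_, ArtFun.FormalElt.ext' fun n => (hP n).1⟩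
  exact DFunLike.congr_fun (congrArg Subtype.val (hP n).2) r
end Groth.Agent.S13981
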