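import Groth.Statements.S13982
import Groth.Agent.L21.Nodal.OffClosedFibre
import Mathlib.AlgebraicGeometry.Morphisms.Proper

set_option autoImplicit false
universe u
open CategoryTheory CategoryTheory.Limits AlgebraicGeometry
open Curves

namespace Groth.Agent.S13982

/-- The implication its proof establishes. Let Λ be a complete Noetherian local ring of Krull dimension
1 and u ∈ Λ an element whose radical ideal is the maximal ideal (a system of parameters). Let f : X
→ Spec Λ be proper and flat with X locally Noetherian, and let P be a finite set of points of X over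
the closed point of Spec Λ such that: (a) at every point of the closed fibre outside P the morphism
f is smooth of relative dimension 1 on an open neighbourhood (the closed fibre is a curve, smooth
away from P), and (b) for every p ∈ P the completion of the local ring O_{X,p} is isomorphic,
compatibly with the maps from Λ, to Λ[[x, y]]/(xy − u) (p is a node of the closed fibre deformed by
the parameter u). Then f is smooth of relative dimension 1 on an open neighbourhood of every point
of X that does not lie over the closed point. (The published statement asserts that a flat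
projective family over Λ with a prescribed projective nodal closed fibre exists and that it is
smooth over the punctured spectrum away from the closed fibre; this row states the smoothness
implication for a given proper flat family, with smoothness of the closed fibre away from P put on
f, which for flat f is equivalent to smoothness of the fibre there.) -/
theorem result
    (Λ : Type u) [CommRing Λ] [IsLocalRing Λ] [IsNoetherianRing Λ]
    [IsAdicComplete (IsLocalRing.maximalIdeal Λ) Λ] (hdim : ringKrullDim Λ = 1)
    (u : Λ) (hu : (Ideal.span {u}).radical = IsLocalRing.maximalIdeal Λ)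
    (X : Scheme.{u}) [IsLocallyNoetherian X] (f : X ⟶ Spec (CommRingCat.of Λ)) [IsProper f] [Flat f]
    (P : Finset X) (hP : ∀ p ∈ P, f.base p = IsLocalRing.closedPoint Λ)
    (hsm : ∀ q : X, f.base q = IsLocalRing.closedPoint Λ → q ∉ P →
      ∃ U : X.Opens, q ∈ U ∧ SmoothOfRelativeDimension 1 (U.ι ≫ f))
    (hnode : ∀ p ∈ P, ∃ e : AdicCompletion (IsLocalRing.maximalIdeal (X.presheaf.stalk p)) (X.presheaf.stalk p) ≃+*
        (MvPowerSeries (Fin 2) Λ ⧸ Ideal.span {MvPowerSeries.X 0 * MvPowerSeries.X 1 - MvPowerSeries.C u}),
      ∀ c : Λ, e (algebraMap (X.presheaf.stalk p) _ (((X.presheaf.germ ⊤ p trivial).hom.comp (Coh.toGlobal f)) c)) =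
        Ideal.Quotient.mk _ (MvPowerSeries.C c)) :
    ∀ q : X, f.base q ≠ IsLocalRing.closedPoint Λ →
      ∃ U : X.Opens, q ∈ U ∧ SmoothOfRelativeDimension 1 (U.ι ≫ f) := by
  intro q hq
  haveI : LocallyOfFinitePresentation f := inferInstance
  have humem : u ∈ IsLocalRing.maximalIdeal Λ := hu ▸ Ideal.le_radical (Ideal.mem_span_singleton_self u)
  have hcl : IsClosed (f '' closure {q}) := f.isClosedMap _ isClosed_closure
  have hmem : (IsLocalRing.closedPoint Λ : Spec (CommRingCat.of Λ)) ∈ f '' closure {q} :=
    (IsLocalRing.specializes_closedPoint (R := Λ) (f q)).mem_closed hcl ⟨q, subset_closure rfl, rfl⟩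
  obtain ⟨z, hz, hfz⟩ := hmem
  have hqz : q ⤳ z := specializes_iff_mem_closure.2 hz
  by_cases hzP : z ∈ P
  · obtain ⟨e, he⟩ := hnode z hzP
    refine Groth.L21.Nodal.smooth_of_specializes f u humem z q hfz hqz (fun h => hq ?_) e he
    refine PrimeSpectrum.ext (le_antisymm (IsLocalRing.le_maximalIdeal (f q).2.ne_top) ?_)
    show IsLocalRing.maximalIdeal Λ ≤ (f q).asIdeal
    rw [← hu]
    exact ((f q).2.radical_le_iff).2 (Ideal.span_le.2 (Set.singleton_subset_iff.2 h))
  · obtain ⟨U, hzU, hU⟩ := hsm z hfz hzP
    exact ⟨U, hqz.mem_open U.2 hzU, hU⟩

end Groth.Agent.S13982
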