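import Groth.Statements.S13985
import Mathlib.Algebra.Category.FGModuleCat.Basic
import Mathlib.Algebra.Ring.Subring.Basic
-- import your own Groth.Agent.* helpers here

set_option autoImplicit false
universe u
open CategoryTheory
open CohGab

namespace Groth.Agent.S13985

/-- For a ring A, the canonical map from the centre of A to the centre of the category of finitely
generated left A-modules (the endomorphism ring of its identity functor), sending a to
multiplication by a, is bijective: every natural endomorphism of the identity functor acts on each
finitely generated module as multiplication by a unique element of A, and that element is central.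
(The published statement calls this map an isomorphism of commutative rings; this row states its
bijectivity.) -/
theorem result (A : Type u) [Ring A]
    (φ : 𝟭 (FGModuleCat.{u} A) ⟶ 𝟭 (FGModuleCat.{u} A)) :
    ∃! a : A, a ∈ Subring.center A ∧
      ∀ (M : FGModuleCat.{u} A) (x : M), (φ.app M).hom.hom x = a • x := by
  let R : FGModuleCat.{u} A := FGModuleCat.of A A
  let a : A := (φ.app R).hom.hom (1 : A)
  have key : ∀ (M : FGModuleCat.{u} A) (x : M), (φ.app M).hom.hom x = a • x := by
    intro M x
    let f : R ⟶ M := FGModuleCat.ofHom (LinearMap.toSpanSingleton A M x)
    have h := congrArg (fun g => g.hom.hom (1 : A)) (φ.naturality f)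
    change (φ.app M).hom.hom (LinearMap.toSpanSingleton A M x (1 : A)) =
      LinearMap.toSpanSingleton A M x ((φ.app R).hom.hom (1 : A)) at h
    rw [LinearMap.toSpanSingleton_apply, LinearMap.toSpanSingleton_apply, one_smul] at h
    exact h
  refine ⟨a, ⟨?_, key⟩, fun b hb => ?_⟩
  · rw [Subring.mem_center_iff]
    intro g
    have h1 := key R g
    have h2 : (φ.app R).hom.hom g = g • a := by
      have := (φ.app R).hom.hom.map_smul g (1 : A)
      simpa [a, R] using this
    exact (h2.symm.trans h1)
  · have := hb.2 R (1 : A)
    simpa [a, R] using this.symm

end Groth.Agent.S13985
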