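import Groth.Agent.L16.DevissageKilled
import Groth.Agent.L21.Mod.Locality
import Groth.Agent.L19.SupportPullback
import Groth.Agent.L16.CohClosedPush
import Groth.Agent.L16.AffineBC.Pullback
import Groth.Agent.L17.ClosedPush
import Groth.Statements.S13986
-- import your own Groth.Agent.* helpers here

set_option autoImplicit false
universe u
open CategoryTheory AlgebraicGeometry
open CohGab CategoryTheory.Limits

namespace Groth.Agent.S13986

/-- Let X be a Noetherian scheme and F, E coherent O_X-modules. Then E lies in the smallest Serre
subcategory of Coh(X) containing F — that is, E has every property P of O_X-modules such that P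
holds for F and P is a Serre class on coherent modules (for a short exact sequence of coherent
modules the middle term has P iff both outer terms do) — if and only if Supp(E) ⊆ Supp(F).
Equivalently: for a closed subset Z, the coherent modules supported in Z form the Serre subcategory
generated by any coherent module whose support is exactly Z. (The published statement is about
coherent sheaves twisted by a class in the second etale cohomology group of the units of the
structure sheaf; this row is its case of the trivial class, ordinary coherent sheaves.) -/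
theorem result (X : Scheme.{u}) [IsNoetherian X]
    (F E : X.Modules) (hF : Coh.IsCoh F) (hE : Coh.IsCoh E) :
    (∀ P : ObjectProperty X.Modules, P F →
      (∀ S : ShortComplex X.Modules, S.ShortExact → Coh.IsCoh S.X₁ → Coh.IsCoh S.X₂ →
        Coh.IsCoh S.X₃ → (P S.X₂ ↔ P S.X₁ ∧ P S.X₃)) → P E) ↔
    CohB1.support E ⊆ CohB1.support F := by

  constructor
  · intro h
    refine h (fun M => CohB1.support M ⊆ CohB1.support F) subset_rfl fun S hS _ _ _ => ?_
    rw [Groth.L21.Mod.support_of_shortExact hS]
    exact Set.union_subset_iff
  · intro hs P hPF hP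
    -- zero objects and isomorphic modules
    have h0 : ∀ M : X.Modules, IsZero M → P M := by
      intro M hM
      let f : M ⟶ F := hM.to_ F
      have hse : (ShortComplex.mk f (𝟙 F) (hM.eq_of_src _ _)).ShortExact :=
        (ShortComplex.Splitting.mk (0 : F ⟶ M) (𝟙 F) (hM.eq_of_src _ _) (by simp) (by simp [f])).shortExact
      exact ((hP _ hse (Groth.L16.Devissage.isCoh_of_isZero hM) hF hF).1 hPF).1
    have hiso : ∀ M N : X.Modules, Coh.IsCoh M → Nonempty (M ≅ N) → P M → P N := by
      rintro M N hM ⟨e⟩ hPM
      let Z := kernel (𝟙 M)
      have hZ : IsZero Z := isZero_kernel_of_mono _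
      have hse : (ShortComplex.mk e.inv (0 : M ⟶ Z) (by simp)).ShortExact :=
        (ShortComplex.Splitting.mk e.hom (0 : Z ⟶ M) (by simp) (hZ.eq_of_src _ _) (by simp)).shortExact
      exact ((hP _ hse (Groth.L16.CohSupport.isCoh_of_iso e hM) hM
        (Groth.L16.Devissage.isCoh_of_isZero hZ)).1 hPM).1
    -- `devissage_killed` asks for closure of `P` under isomorphisms for all modules
    let P' : X.Modules → Prop := fun M => Coh.IsCoh M → P M
    suffices P' E from this hE
    refine Groth.L16.Devissage.devissage_killed P' (Groth.L16.CohSupport.isClosed_support F hF.2) ?_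
      (fun M hM _ => h0 M hM) ?_ ?_ ?_ hE hs
    · intro M N e hM hN
      have hM' := Groth.L16.CohSupport.isCoh_of_iso e.some.symm hN
      exact hiso M N hM' e (hM hM')
    · intro S hS h1 h2 h3 _
      have h := hP S hS h1 h2 h3
      exact ⟨fun _ b _ => (h.1 (b h2)).2, fun a c _ => h.2 ⟨a h1, c h3⟩, fun b _ _ => (h.1 (b h2)).1⟩
    · intro M N i r hir hM hN hPM _
      haveI : Mono i := mono_of_mono_fac hir
      have hC := (Groth.L16.CohKernel.isCoh_kernel_cokernel hN hM i).2
      exact ((hP _ (ShortComplex.ShortExact.mk' (ShortComplex.exact_cokernel i) inferInstance inferInstance)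
        hN hM hC).1 (hPM hM)).1
    · intro Z hZ hirr hZF y hy
      let I := Scheme.IdealSheafData.vanishingIdeal (⟨Z, hZ⟩ : TopologicalSpace.Closeds X)
      let ι := I.subschemeι
      haveI : IsLocallyNoetherian I.subscheme := LocallyOfFiniteType.isLocallyNoetherian ι
      haveI : Coh.IsQCoh F := hF.1
      have hrange : Set.range ι = Z := by
        rw [I.range_subschemeι]
        simp [I]
      let G := (Coh.push ι).obj ((Scheme.Modules.pullback ι).obj F)
      have hG : Coh.IsCoh G :=
        Groth.L16.CohClosedPush.isCoh_push ι (Groth.L16.AffineBC.isCoh_pullback ι hF)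
      let η : F ⟶ G := (Scheme.Modules.pullbackPushforwardAdjunction ι).unit.app F
      haveI : Epi η := by
        rw [Groth.L21.Mod.epi_iff_stalk_surjective]
        intro p
        by_cases hp : p ∈ Set.range ι
        · obtain ⟨x, rfl⟩ := hp
          intro w
          obtain ⟨q, hq⟩ := Groth.L17.ClosedPush.unit_extend_surjective ι x _
            ((Groth.L00.PullStalk.stalkIso ι x).hom.app F (Groth.L17.ClosedPush.c₀ ι _ x w))
          refine ⟨q, (Groth.L17.ClosedPush.c₀_bijective ι _ x).1 ?_⟩
          apply (ConcreteCategory.bijective_of_isIso ((Groth.L00.PullStalk.stalkIso ι x).hom.app F)).1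
          exact (Groth.L17.ClosedPush.stalkIso_unit ι F x q).trans hq
        · exact fun w => ⟨0, @Subsingleton.elim _
            (Groth.L17.ClosedPush.subsingleton_stalk_push ι ((Scheme.Modules.pullback ι).obj F) hp) _ _⟩
      refine ⟨G, hG, fun _ => ?_, ?_, ?_, ?_⟩
      · have hK := (Groth.L16.CohKernel.isCoh_kernel_cokernel hF hG η).1
        exact ((hP _ (ShortComplex.ShortExact.mk' (ShortComplex.exact_kernel η) inferInstance inferInstance)
          hK hF hG).1 hPF).2
      · exact (Groth.L16.CohClosedPush.support_push_subset ι _).trans hrange.le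
      · intro U a ha m
        refine (Groth.L00.PullStalk.push_smul ι _ U.1 a m).trans ?_
        rw [← I.ker_subschemeι_app U, RingHom.mem_ker] at ha
        exact (congrArg (fun b : Γ(I.subscheme, ι ⁻¹ᵁ U.1) =>
          b • (show Γ((Scheme.Modules.pullback ι).obj F, ι ⁻¹ᵁ U.1) from m)) ha).trans
            (zero_smul Γ(I.subscheme, ι ⁻¹ᵁ U.1) _)
      · have hyZ : y ∈ Z := hy ▸ subset_closure rfl
        obtain ⟨z, rfl⟩ : y ∈ Set.range ι := hrange.ge hyZ
        intro hsub
        have h1 : z ∈ CohB1.support ((Scheme.Modules.pullback ι).obj F) := by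
          rw [Groth.L19.SupportPullback.support_pullback ι F hF.2]
          exact hZF hyZ
        exact h1 (@Function.Surjective.subsingleton _ _ _ hsub
          (Groth.L17.ClosedPush.c₀_bijective ι ((Scheme.Modules.pullback ι).obj F) z).2)

end Groth.Agent.S13986
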