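import Groth.Statements.S13987
import Groth.Agent.L16.CohGab.Open

set_option autoImplicit false
universe u
open CategoryTheory CategoryTheory.Limits AlgebraicGeometry
open CohGab

namespace Groth.Agent.S13987

/-- Let X be a Noetherian scheme, Z ⊆ X a closed subset and U = X ∖ Z. Then restriction to U induces an
equivalence between the quotient abelian category Coh(X)/Coh_Z(X) (coherent modules modulo those
supported in Z) and Coh(U): the restriction functor Coh(X) ⥤ Coh(U) is a localization functor for
the class of morphisms of coherent O_X-modules whose kernel and cokernel (taken in O_X-modules) have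
support contained in Z. The hypothesis that restriction to U preserves coherence always holds and is
carried only to form the functor between the full subcategories. (The published statement is about
coherent sheaves twisted by a class in the second etale cohomology group of the units of the
structure sheaf; this row is its case of the trivial class, ordinary coherent sheaves.) -/
theorem result (X : Scheme.{u}) [IsNoetherian X]
    (U : X.Opens)
    (hres : ∀ M : X.Modules, Coh.IsCoh M → Coh.IsCoh ((Scheme.Modules.restrictFunctor U.ι).obj M)) :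
    (ObjectProperty.lift (fun N : (↑U : Scheme.{u}).Modules => Coh.IsCoh N)
        (ObjectProperty.ι (fun M : X.Modules => Coh.IsCoh M) ⋙ Scheme.Modules.restrictFunctor U.ι)
        (fun M => hres M.obj M.property)).IsLocalization
      (fun (A B : ObjectProperty.FullSubcategory (fun M : X.Modules => Coh.IsCoh M)) (f : A ⟶ B) =>
        CohB1.support (kernel f.hom) ⊆ (↑U : Set X)ᶜ ∧
          CohB1.support (cokernel f.hom) ⊆ (↑U : Set X)ᶜ) := by
  let R := Scheme.Modules.restrictFunctor U.ι
  let P : ObjectProperty X.Modules := fun M => Coh.IsCoh M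
  let Q : ObjectProperty (↑U : Scheme.{u}).Modules := fun N => Coh.IsCoh N
  let L := ObjectProperty.lift Q (P.ι ⋙ R) (fun M => hres M.obj M.property)
  let W : MorphismProperty P.FullSubcategory := fun A B f =>
    CohB1.support (kernel f.hom) ⊆ (↑U : Set X)ᶜ ∧ CohB1.support (cokernel f.hom) ⊆ (↑U : Set X)ᶜ
  have key : ∀ ⦃A B : P.FullSubcategory⦄ (f : A ⟶ B), W f ↔ IsIso (R.map f.hom) := fun A B f =>
    (Groth.L16.CohGab.isIso_restrict_iff f.hom U).symm
  have hW : W = (MorphismProperty.isomorphisms _).inverseImage L := by
    ext A B f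
    rw [key]
    exact (isIso_iff_of_reflects_iso (L.map f) Q.ι)
  haveI : L.EssSurj := ⟨fun F => by
    obtain ⟨G, hG, ⟨e⟩⟩ := Groth.L29.KcohLoc.exists_lift U.ι F.property
    exact ⟨⟨G, hG⟩, ⟨Q.isoMk e⟩⟩⟩
  refine Groth.L16.CohGab.isLocalization_of_roofs L W hW (fun A B g => ?_) (fun A B f f' h => ?_)
  · haveI : Coh.IsQCoh A.obj := A.property.1
    haveI : Coh.IsQCoh B.obj := B.property.1
    haveI : Coh.IsQCoh (A.obj ⊞ B.obj) := (Groth.L17.Approx.isCoh_biprod A.property B.property).1
    haveI : Coh.IsQCoh (A.obj.restrict U.ι) := Scheme.Modules.isQuasicoherent_restrictFunctor _ A.obj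
    let g' : R.obj A.obj ⟶ R.obj B.obj := g.hom
    let i : A.obj.restrict U.ι ⟶ (A.obj ⊞ B.obj).restrict U.ι := R.map biprod.inl + g' ≫ R.map biprod.inr
    have h1 : i ≫ R.map biprod.fst = 𝟙 _ := by
      rw [Preadditive.add_comp, Category.assoc, ← R.map_comp, ← R.map_comp, biprod.inl_fst, biprod.inr_fst,
        R.map_id, R.map_zero, comp_zero, add_zero]
    have h2 : i ≫ R.map biprod.snd = g' := by
      rw [Preadditive.add_comp, Category.assoc, ← R.map_comp, ← R.map_comp, biprod.inl_snd, biprod.inr_snd,
        R.map_id, R.map_zero, zero_add]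
      exact Category.comp_id _
    haveI : Mono i := mono_of_mono_fac h1
    obtain ⟨G, j, eG, hj, hq, hft, he⟩ := Groth.L17.Approx.exists_extension U
      (TopologicalSpace.NoetherianSpace.isCompact _) (A.obj ⊞ B.obj) (A.obj.restrict U.ι)
      (Groth.L16.CohKernel.isFT_restrict U.ι A.obj A.property.2) i
    have e1 : R.map (j ≫ biprod.fst) = eG.hom := by
      rw [R.map_comp, ← he, Category.assoc, h1]
      exact Category.comp_id _
    have e2 : R.map (j ≫ biprod.snd) = eG.hom ≫ g' := by rw [R.map_comp, ← he, Category.assoc, h2]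
    refine ⟨⟨G, hq, hft⟩, ObjectProperty.homMk (j ≫ biprod.fst), ObjectProperty.homMk (j ≫ biprod.snd), ?_, ?_⟩
    · rw [key]
      show IsIso (R.map (j ≫ biprod.fst))
      rw [e1]; infer_instance
    · apply ObjectProperty.hom_ext
      show R.map (j ≫ biprod.snd) = R.map (j ≫ biprod.fst) ≫ g'
      rw [e1, e2]
  · have h' : R.map f.hom = R.map f'.hom := congrArg (fun t => t.hom) h
    haveI : Coh.IsQCoh B.obj := B.property.1
    refine ⟨⟨kernel (f.hom - f'.hom), Groth.L16.CohSupport.isCoh_kernel A.property _⟩,
      ObjectProperty.homMk (kernel.ι (f.hom - f'.hom)), ?_, ?_⟩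
    · rw [key]
      show IsIso (R.map (kernel.ι (f.hom - f'.hom)))
      have h0 : R.map (f.hom - f'.hom) = 0 := by rw [R.map_sub, h', sub_self]
      rw [← kernelComparison_comp_ι (f.hom - f'.hom) R]
      haveI : IsIso (kernel.ι (R.map (f.hom - f'.hom))) :=
        ⟨kernel.lift _ (𝟙 _) (by rw [h0, comp_zero]),
          by rw [← cancel_mono (kernel.ι (R.map (f.hom - f'.hom))), Category.assoc, kernel.lift_ι,
            Category.comp_id, Category.id_comp],
          kernel.lift_ι _ _ _⟩
      infer_instance
    · apply ObjectProperty.hom_ext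
      show kernel.ι (f.hom - f'.hom) ≫ f.hom = kernel.ι (f.hom - f'.hom) ≫ f'.hom
      rw [← sub_eq_zero, ← Preadditive.comp_sub, kernel.condition]
end Groth.Agent.S13987
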