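import Groth.Statements.S13989
import Mathlib.CategoryTheory.Abelian.SerreClass.Localization
import Mathlib.CategoryTheory.Limits.Shapes.Images
-- import your own Groth.Agent.* helpers here

set_option autoImplicit false
universe v u v' u' v'' u''
open CategoryTheory CategoryTheory.Limits
open CohGab

namespace Groth.Agent.S13989

/-- Let A be an abelian category, A' a full abelian subcategory (given as a fully faithful exact functor
i : A' ⥤ A) and J a Serre subcategory of A, with J' = J ∩ A' (the preimage of J under i, a Serre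
subcategory of A'). Assume that every subobject and every quotient object, in A, of an object of A'
which belongs to J belongs to A' (lies in the essential image of i). Then the functor A'/J' ⥤ A/J
induced between the quotient categories is fully faithful: for L : A ⥤ Q and L' : A' ⥤ Q'
localization functors at the morphisms whose kernel and cokernel lie in J, resp. J', every functor Φ
: Q' ⥤ Q with L' ⋙ Φ ≅ i ⋙ L is full and faithful. -/
theorem result
    {A A' : Type u} [Category.{v} A] [Abelian A] [Category.{v} A'] [Abelian A']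
    (i : A' ⥤ A) [i.Full] [i.Faithful] [PreservesFiniteLimits i] [PreservesFiniteColimits i]
    (J : ObjectProperty A) [J.IsSerreClass] [(J.inverseImage i).IsSerreClass]
    (hsub : ∀ (M : A') (N : A) (f : N ⟶ i.obj M), Mono f → J N → i.essImage N)
    (hquot : ∀ (M : A') (N : A) (p : i.obj M ⟶ N), Epi p → J N → i.essImage N)
    {Q : Type u'} [Category.{v'} Q] (L : A ⥤ Q) [L.IsLocalization J.isoModSerre]
    {Q' : Type u''} [Category.{v''} Q'] (L' : A' ⥤ Q') [L'.IsLocalization (J.inverseImage i).isoModSerre]
    (Φ : Q' ⥤ Q) (e : L' ⋙ Φ ≅ i ⋙ L) : Φ.Full ∧ Φ.Faithful := by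
  let J' := J.inverseImage i
  haveI : i.Additive := by
    haveI := preservesBinaryBiproducts_of_preservesBinaryProducts i
    exact Functor.additive_of_preservesBinaryBiproducts i
  haveI : L'.EssSurj := Localization.essSurj L' J'.isoModSerre
  let E : ∀ X : Q', L'.obj (L'.objPreimage X) ≅ X := fun X => L'.objObjPreimageIso X
  refine ⟨⟨fun {X Y} φ => ?_⟩, ⟨fun {X Y} a b hab => ?_⟩⟩
  · set M := L'.objPreimage X
    set N := L'.objPreimage Y
    let g : L.obj (i.obj M) ⟶ L.obj (i.obj N) :=
      e.inv.app M ≫ Φ.map (E X).hom ≫ φ ≫ Φ.map (E Y).inv ≫ e.hom.app N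
    suffices h : ∃ u : L'.obj M ⟶ L'.obj N, e.inv.app M ≫ Φ.map u ≫ e.hom.app N = g by
      obtain ⟨u, hu⟩ := h
      refine ⟨(E X).inv ≫ u ≫ (E Y).hom, ?_⟩
      have hu' : Φ.map u = Φ.map (E X).hom ≫ φ ≫ Φ.map (E Y).inv := by
        rw [← cancel_epi (e.inv.app M), ← cancel_mono (e.hom.app N)]
        simpa only [g, Category.assoc] using hu
      rw [Φ.map_comp, Φ.map_comp, hu']
      simp [← Φ.map_comp_assoc, ← Φ.map_comp]
    -- represent `g` by a roof inside `A'`
    obtain ⟨⟨f, s, hs⟩, hg⟩ := Localization.exists_leftFraction L J.isoModSerre g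
    have hgs : g ≫ L.map s = L.map f := by rw [hg]; exact MorphismProperty.LeftFraction.map_comp_map_s _ _ _
    have hι : J.isoModSerre (Abelian.image.ι s) := ObjectProperty.epiModSerre.isoModSerre_image_ι hs.2
    have hp : J.isoModSerre (pullback.fst f (Abelian.image.ι s)) := MorphismProperty.pullback_fst _ _ hι
    obtain ⟨K, ⟨eK⟩⟩ := hquot M _ (cokernel.π (pullback.fst f (Abelian.image.ι s))) inferInstance hp.2
    obtain ⟨k, hk⟩ := i.map_surjective (cokernel.π (pullback.fst f (Abelian.image.ι s)) ≫ eK.inv)
    obtain ⟨K', ⟨eK'⟩⟩ := hsub N _ (kernel.ι s) inferInstance hs.1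
    obtain ⟨k', hk'⟩ := i.map_surjective (eK'.hom ≫ kernel.ι s)
    let j := kernel.ι k
    let q := cokernel.π k'
    have hj : J'.isoModSerre j := by
      refine J'.isoModSerre_of_mono j (J'.prop_of_mono (Abelian.factorThruCoimage k) ?_)
      exact J.prop_of_iso eK.symm hp.2
    have hq : J'.isoModSerre q := by
      refine J'.isoModSerre_of_epi q (J'.prop_of_epi (Abelian.factorThruImage k') ?_)
      exact J.prop_of_iso eK'.symm hs.1
    have hl : i.map j ≫ cokernel.π (pullback.fst f (Abelian.image.ι s)) = 0 := by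
      rw [← cancel_mono eK.inv, Category.assoc, ← hk, ← i.map_comp, kernel.condition, i.map_zero, zero_comp]
    let l := Abelian.monoLift (pullback.fst f (Abelian.image.ι s)) (i.map j) hl
    have hllift : l ≫ pullback.fst f (Abelian.image.ι s) = i.map j := Abelian.monoLift_comp _ _ hl
    have hc0 : kernel.ι (Abelian.factorThruImage s) ≫ i.map q = 0 := by
      have h0 : kernel.ι (Abelian.factorThruImage s) ≫ s = 0 := by
        calc kernel.ι (Abelian.factorThruImage s) ≫ s
            = kernel.ι (Abelian.factorThruImage s) ≫ Abelian.factorThruImage s ≫ Abelian.image.ι s := by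
              rw [Abelian.image.fac]
          _ = 0 := by rw [kernel.condition_assoc, zero_comp]
      rw [← kernel.lift_ι s _ h0, Category.assoc]
      have : kernel.ι s ≫ i.map q = 0 := by
        rw [← cancel_epi eK'.hom, ← Category.assoc, ← hk', ← i.map_comp, cokernel.condition, i.map_zero, comp_zero]
      rw [this, comp_zero]
    let c := Abelian.epiDesc (Abelian.factorThruImage s) (i.map q) hc0
    have hc : Abelian.factorThruImage s ≫ c = i.map q := Abelian.comp_epiDesc _ _ hc0
    obtain ⟨m, hm⟩ := i.map_surjective (l ≫ pullback.snd f (Abelian.image.ι s) ≫ c)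
    haveI := Localization.inverts L J.isoModSerre _ hι
    have h1 : L.map (i.map j) ≫ g ≫ L.map (Abelian.factorThruImage s) =
        L.map (l ≫ pullback.snd f (Abelian.image.ι s)) := by
      rw [← cancel_mono (L.map (Abelian.image.ι s))]
      simp only [Category.assoc, ← L.map_comp, Abelian.image.fac, hgs]
      rw [← pullback.condition, ← Category.assoc, hllift]
    have h2 : L.map (i.map j) ≫ g ≫ L.map (i.map q) = L.map (i.map m) := by
      rw [hm, ← hc, L.map_comp, reassoc_of% h1, ← L.map_comp, Category.assoc]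
    haveI := Localization.inverts L' J'.isoModSerre _ hj
    haveI := Localization.inverts L' J'.isoModSerre _ hq
    refine ⟨inv (L'.map j) ≫ L'.map m ≫ inv (L'.map q), ?_⟩
    have nj : Φ.map (L'.map j) ≫ e.hom.app M = e.hom.app _ ≫ L.map (i.map j) := e.hom.naturality j
    have nq : Φ.map (L'.map q) ≫ e.hom.app _ = e.hom.app N ≫ L.map (i.map q) := e.hom.naturality q
    have nm : Φ.map (L'.map m) ≫ e.hom.app _ = e.hom.app _ ≫ L.map (i.map m) := e.hom.naturality m
    rw [← h2, ← reassoc_of% nj] at nm
    have key : Φ.map (inv (L'.map j)) ≫ Φ.map (L'.map m) = e.hom.app M ≫ g ≫ e.inv.app N ≫ Φ.map (L'.map q) := by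
      rw [← cancel_epi (Φ.map (L'.map j)), ← cancel_mono (e.hom.app (cokernel k'))]
      simp only [Category.assoc, nq, Iso.inv_hom_id_app_assoc, ← Φ.map_comp_assoc, IsIso.hom_inv_id,
        CategoryTheory.Functor.map_id, Category.id_comp, nm]
    rw [Φ.map_comp, Φ.map_comp, reassoc_of% key, ← Φ.map_comp, IsIso.hom_inv_id]
    simp
  · set M := L'.objPreimage X
    set N := L'.objPreimage Y
    suffices h : ∀ u v : L'.obj M ⟶ L'.obj N, Φ.map u = Φ.map v → u = v by
      have := h ((E X).hom ≫ a ≫ (E Y).inv) ((E X).hom ≫ b ≫ (E Y).inv) (by simp [hab])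
      simpa using this
    intro u v huv
    obtain ⟨φ, hu, hv⟩ := Localization.exists_leftFraction₂ L' J'.isoModSerre u v
    have e1 : L.map (i.map φ.f) = L.map (i.map φ.f') := by
      rw [← cancel_epi (e.hom.app M)]
      have n1 : Φ.map (L'.map φ.f) ≫ e.hom.app _ = e.hom.app M ≫ L.map (i.map φ.f) := e.hom.naturality φ.f
      have n2 : Φ.map (L'.map φ.f') ≫ e.hom.app _ = e.hom.app M ≫ L.map (i.map φ.f') := e.hom.naturality φ.f'
      rw [← n1, ← n2]
      congr 1
      have hu' : u ≫ L'.map φ.s = L'.map φ.f := by rw [hu]; exact MorphismProperty.LeftFraction.map_comp_map_s _ _ _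
      have hv' : v ≫ L'.map φ.s = L'.map φ.f' := by rw [hv]; exact MorphismProperty.LeftFraction.map_comp_map_s _ _ _
      rw [← hu', ← hv', Φ.map_comp, Φ.map_comp, huv]
    obtain ⟨Z, t, ht, hft⟩ := (MorphismProperty.map_eq_iff_postcomp L J.isoModSerre _ _).1 e1
    have hJ : J (Abelian.image (i.map (φ.f - φ.f'))) :=
      (ObjectProperty.exists_comp_isoModSerre_eq_zero_iff J _).1 ⟨Z, t, ht, by
        rw [i.map_sub, Preadditive.sub_comp, hft, sub_self]⟩
    have hJ' : J' (Abelian.image (φ.f - φ.f')) := by
      haveI := strongEpi_of_epi (i.map (Abelian.factorThruImage (φ.f - φ.f')))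
      refine J.prop_of_iso ?_ hJ
      exact Abelian.imageIsoImage _ ≪≫ (image.isoStrongEpiMono (i.map (Abelian.factorThruImage (φ.f - φ.f')))
        (i.map (Abelian.image.ι (φ.f - φ.f'))) (by rw [← i.map_comp, Abelian.image.fac])).symm
    obtain ⟨Z', t', ht', h0⟩ := (ObjectProperty.exists_comp_isoModSerre_eq_zero_iff J' _).2 hJ'
    have hLf : L'.map φ.f = L'.map φ.f' :=
      (MorphismProperty.map_eq_iff_postcomp L' J'.isoModSerre _ _).2 ⟨Z', t', ht', by rwa [← sub_eq_zero, ← Preadditive.sub_comp]⟩
    haveI := Localization.inverts L' J'.isoModSerre _ φ.hs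
    rw [hu, hv, ← cancel_mono (L'.map φ.s)]
    exact (MorphismProperty.LeftFraction.map_comp_map_s _ _ _).trans
      (hLf.trans (MorphismProperty.LeftFraction.map_comp_map_s φ.snd L' _).symm)


end Groth.Agent.S13989
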