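import Groth.Statements.S13991
import Groth.Agent.L16.CohGab.Closed

set_option autoImplicit false
universe u
open CategoryTheory AlgebraicGeometry
open CohGab

namespace Groth.Agent.S13991

/-- Let X be a Noetherian scheme and Z ⊆ X a closed subset. Then Z is irreducible (or empty) if and only
if Coh_Z(X), the coherent O_X-modules supported in Z, is an irreducible Serre subcategory of Coh(X),
i.e. it is not generated as a Serre subcategory by two Serre subcategories properly contained in it:
whenever J₁, J₂ are Serre classes on coherent modules (middle term of a short exact sequence of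
coherent modules belongs iff both outer terms do), both contained in Coh_Z, such that every Serre
class on coherent modules containing J₁ and J₂ contains Coh_Z, then J₁ or J₂ contains Coh_Z.
Consequently the points of X correspond to the irreducible Serre subcategories of finite type other
than the zero subcategory. (The published statement says 'Z is irreducible iff Coh_Z is irreducible'
and deduces a bijection between the points of X and all irreducible Serre subcategories of finite
type; the zero subcategory Coh_∅ is irreducible in this sense while ∅ is not an irreducible space,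
so irreducibility of Z is read here as 'irreducible or empty'. The published statement is also about
coherent sheaves twisted by a class in the second etale cohomology group of the units of the
structure sheaf; this row is its case of the trivial class.) -/
theorem result (X : Scheme.{u}) [IsNoetherian X]
    (Z : TopologicalSpace.Closeds X) :
    IsPreirreducible (↑Z : Set X) ↔
    ∀ J₁ J₂ : ObjectProperty X.Modules, (∀ S : ShortComplex X.Modules, S.ShortExact → Coh.IsCoh S.X₁ → Coh.IsCoh S.X₂ →
        Coh.IsCoh S.X₃ → (J₁ S.X₂ ↔ J₁ S.X₁ ∧ J₁ S.X₃)) → (∀ S : ShortComplex X.Modules, S.ShortExact → Coh.IsCoh S.X₁ → Coh.IsCoh S.X₂ →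
        Coh.IsCoh S.X₃ → (J₂ S.X₂ ↔ J₂ S.X₁ ∧ J₂ S.X₃)) →
      (∀ M : X.Modules, Coh.IsCoh M → J₁ M → CohB1.support M ⊆ (↑Z : Set X)) →
      (∀ M : X.Modules, Coh.IsCoh M → J₂ M → CohB1.support M ⊆ (↑Z : Set X)) →
      (∀ Q : ObjectProperty X.Modules, (∀ S : ShortComplex X.Modules, S.ShortExact → Coh.IsCoh S.X₁ → Coh.IsCoh S.X₂ →
        Coh.IsCoh S.X₃ → (Q S.X₂ ↔ Q S.X₁ ∧ Q S.X₃)) →
        (∀ M : X.Modules, Coh.IsCoh M → J₁ M → Q M) → (∀ M : X.Modules, Coh.IsCoh M → J₂ M → Q M) →
        ∀ M : X.Modules, Coh.IsCoh M → CohB1.support M ⊆ (↑Z : Set X) → Q M) →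
      (∀ M : X.Modules, Coh.IsCoh M → CohB1.support M ⊆ (↑Z : Set X) → J₁ M) ∨
        (∀ M : X.Modules, Coh.IsCoh M → CohB1.support M ⊆ (↑Z : Set X) → J₂ M) := by
  exact Groth.L16.CohGab.isPreirreducible_iff Z
end Groth.Agent.S13991
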