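import Groth.Statements.S13992
import Groth.Agent.L01.MatFact
import Mathlib.Algebra.Category.ModuleCat.Ext.Basic
import Mathlib.CategoryTheory.Abelian.Projective.Ext

set_option autoImplicit false
universe u
open CategoryTheory
open CAlg

namespace Groth.Agent.S13992

/-- Let S be a regular local ring of Krull dimension two, f a non-zero element of S and R the quotient
of S by f, assumed reduced (the local ring of a reduced planar curve singularity). Let M and N be
finitely generated R-modules, each admitting a non-zero-divisor in the maximal ideal of R,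
annihilated by ideals I and J respectively, where I + J contains a power of the maximal ideal. Then
Ext²_R(M, N) = 0. (The published statement is global: Ext²(F, F') = 0 for torsion-free coherent
sheaves F and F' on a reduced projective curve over a characteristic-zero algebraically closed
field, supported on subcurves with no common irreducible component that meet only at points with
planar singularities; this row is the vanishing on stalks to which it reduces, stated over an
arbitrary two-dimensional regular local ring.) -/
theorem result (S : Type u) [CommRing S] [IsRegularLocalRing S] (hS : ringKrullDim S = 2) (f : S) (hf : f ≠ 0) (R : Type u) [CommRing R] [IsLocalRing R] [IsReduced R] (π : S →+* R) (hπ : Function.Surjective π) (hker : RingHom.ker π = Ideal.span {f}) (I J : Ideal R) (n : ℕ) (hIJ : IsLocalRing.maximalIdeal R ^ n ≤ I ⊔ J) (M N : Type u) [AddCommGroup M] [Module R M] [Module.Finite R M] [AddCommGroup N] [Module R N] [Module.Finite R N] (hI : I ≤ Module.annihilator R M) (hJ : J ≤ Module.annihilator R N) (x : R) (hx : x ∈ IsLocalRing.maximalIdeal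 R) (hxM : IsSMulRegular M x) (y : R) (hy : y ∈ IsLocalRing.maximalIdeal R) (hyN : IsSMulRegular N y) : Subsingleton (Abelian.Ext (ModuleCat.of R M) (ModuleCat.of R N) 2) := by
  classical
  obtain ⟨n₀, n₁, a, b, p, hp, hap, hba, hab, hI'⟩ :=
    Groth.L01.MatFact.exists_periodic hS f hf π hπ hker M x hx hxM
  have hMN : ∀ φ : M →ₗ[R] N, φ = 0 := fun φ => LinearMap.ext fun m =>
    Groth.L01.MatFact.eq_zero_of_killed hIJ hy hyN
      (fun i hi => by rw [← map_smul, Module.mem_annihilator.mp (hI hi), map_zero])
      fun j hj => Module.mem_annihilator.mp (hJ hj) (φ m)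
  haveI h₀ : Projective (ModuleCat.of R (Fin n₀ → R)) :=
    (IsProjective.iff_projective (Fin n₀ → R)).mp inferInstance
  haveI h₁ : Projective (ModuleCat.of R (Fin n₁ → R)) :=
    (IsProjective.iff_projective (Fin n₁ → R)).mp inferInstance
  let g : (Fin n₁ → R) →ₗ[R] LinearMap.ker p :=
    a.codRestrict _ fun v => LinearMap.mem_ker.mpr (hap.apply_apply_eq_zero v)
  have hg : Function.Surjective g := by
    rintro ⟨z, hz⟩
    obtain ⟨v, hv⟩ := (hap z).mp (LinearMap.mem_ker.mp hz)
    exact ⟨v, Subtype.ext hv⟩
  have hgN : ∀ φ : LinearMap.ker g →ₗ[R] N, φ = 0 := by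
    intro φ
    let c : (Fin n₀ → R) →ₗ[R] LinearMap.ker g :=
      b.codRestrict _ fun v => LinearMap.mem_ker.mpr (Subtype.ext (hba.apply_apply_eq_zero v))
    have hc : Function.Surjective c := by
      rintro ⟨z, hz⟩
      obtain ⟨v, hv⟩ := (hba z).mp (congrArg Subtype.val (LinearMap.mem_ker.mp hz))
      exact ⟨v, Subtype.ext hv⟩
    have hkerp : LinearMap.ker p ≤ LinearMap.ker (φ ∘ₗ c) := fun v hv => by
      obtain ⟨w, rfl⟩ := (hap v).mp (LinearMap.mem_ker.mp hv)
      rw [LinearMap.mem_ker, LinearMap.comp_apply,
        show c (a w) = 0 from Subtype.ext (hab.apply_apply_eq_zero w), map_zero]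
    refine LinearMap.ext fun z => ?_
    obtain ⟨v, rfl⟩ := hc z
    have h := LinearMap.congr_fun (hMN (((LinearMap.ker p).liftQ (φ ∘ₗ c) hkerp).comp
      (p.quotKerEquivOfSurjective hp).symm.toLinearMap)) (p v)
    simpa using h
  have hT₂ := LinearMap.shortExact_shortComplexKer hg
  have hExt₁ : Subsingleton (Abelian.Ext (ModuleCat.of R (LinearMap.ker p)) (ModuleCat.of R N) 1) := by
    refine subsingleton_of_forall_eq 0 fun z => ?_
    obtain ⟨y', hy'⟩ := Abelian.Ext.contravariant_sequence_exact₃ hT₂ (ModuleCat.of R N) z
      (Abelian.Ext.eq_zero_of_projective _) (show 1 + 0 = 1 by rfl)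
    rw [← hy', show y' = 0 from Abelian.Ext.addEquiv₀.injective (by
      rw [map_zero]; exact ModuleCat.hom_ext (hgN _)), Abelian.Ext.comp_zero]
  have hT₁ := LinearMap.shortExact_shortComplexKer hp
  refine subsingleton_of_forall_eq 0 fun z => ?_
  obtain ⟨y', hy'⟩ := Abelian.Ext.contravariant_sequence_exact₃ hT₁ (ModuleCat.of R N) z
    (Abelian.Ext.eq_zero_of_projective _) (show 1 + 1 = 2 by rfl)
  rw [← hy', Subsingleton.elim (α := Abelian.Ext (ModuleCat.of R (LinearMap.ker p)) (ModuleCat.of R N) 1) y' 0,
    Abelian.Ext.comp_zero]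


end Groth.Agent.S13992
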