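import Groth.Statements.S13993
import Mathlib.Algebra.Category.ModuleCat.Ext.Basic
import Mathlib.CategoryTheory.Abelian.Projective.Ext
import Mathlib.RingTheory.MvPowerSeries.Basic
import Mathlib.Algebra.Homology.ShortComplex.ModuleCat
import Mathlib.RingTheory.MvPowerSeries.NoZeroDivisors
import Groth.Agent.L01.PowSerReg
import Mathlib.RingTheory.MvPowerSeries.Inverse
import Mathlib.Algebra.Category.ModuleCat.Algebra
import Mathlib.Algebra.Homology.DerivedCategory.Ext.Linear

set_option autoImplicit false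
universe u
open CategoryTheory
open CAlg

namespace Groth.Agent.S13993

section Helpers

lemma finrank_ext_one_branches (k : Type u) [Field k] (P : Type u) [CommRing P] [IsDomain P] [Algebra k P]
    (x y : P) (hy0 : y ≠ 0) (ε : P →+* k) (hεx : ε x = 0) (hεy : ε y = 0)
    (hεk : ∀ c, ε (algebraMap k P c) = c) (hmem : ∀ p, ε p = 0 → p ∈ Ideal.span {x, y}) :
    Module.finrank k (Abelian.Ext
      (ModuleCat.of (P ⧸ Ideal.span {x * y})
        ((P ⧸ Ideal.span {x * y}) ⧸ Ideal.span {Ideal.Quotient.mk (Ideal.span {x * y}) y}))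
      (ModuleCat.of (P ⧸ Ideal.span {x * y})
        ((P ⧸ Ideal.span {x * y}) ⧸ Ideal.span {Ideal.Quotient.mk (Ideal.span {x * y}) x})) 1) = 1 := by
  classical
  set mk : P →+* P ⧸ Ideal.span {x * y} := Ideal.Quotient.mk _ with hmk
  let Y : Ideal ((P ⧸ Ideal.span {x * y})) := Ideal.span {mk y}
  let q : (P ⧸ Ideal.span {x * y}) →ₗ[(P ⧸ Ideal.span {x * y})] ((P ⧸ Ideal.span {x * y}) ⧸ Ideal.span {mk y}) := Submodule.mkQ Y
  have hT := LinearMap.shortExact_shortComplexKer (f := q) (Submodule.mkQ_surjective Y)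
  haveI : Projective (ModuleCat.of ((P ⧸ Ideal.span {x * y})) ((P ⧸ Ideal.span {x * y}))) := (IsProjective.iff_projective ((P ⧸ Ideal.span {x * y}))).mp inferInstance
  let gy : LinearMap.ker q := ⟨mk y, by
    rw [LinearMap.mem_ker, Submodule.mkQ_apply, Submodule.Quotient.mk_eq_zero]
    exact Ideal.mem_span_singleton_self _⟩
  have hgen : ∀ z : LinearMap.ker q, ∃ a : (P ⧸ Ideal.span {x * y}), z = a • gy := fun z => by
    have hz := z.2
    rw [LinearMap.mem_ker, Submodule.mkQ_apply, Submodule.Quotient.mk_eq_zero] at hz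
    obtain ⟨a, ha⟩ := Ideal.mem_span_singleton'.mp hz
    exact ⟨a, Subtype.ext ha.symm⟩
  have h₁ : ∀ a ∈ Ideal.span {x * y}, ε a = 0 := fun a ha => by
    obtain ⟨b, rfl⟩ := Ideal.mem_span_singleton'.mp ha
    rw [map_mul, map_mul, hεx, zero_mul, mul_zero]
  let res : ((P ⧸ Ideal.span {x * y}) ⧸ Ideal.span {mk x}) →+* k :=
    Ideal.Quotient.lift _ (Ideal.Quotient.lift _ ε h₁) fun a ha => by
      obtain ⟨b, rfl⟩ := Ideal.mem_span_singleton'.mp ha
      rw [map_mul]
      exact mul_eq_zero_of_right _ hεx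
  have hres : ∀ p : P, res (Ideal.Quotient.mk _ (mk p)) = ε p := fun p => rfl
  have halg : ∀ c : k, res (algebraMap k (((P ⧸ Ideal.span {x * y}) ⧸ Ideal.span {mk x})) c) = c := fun c => by
    show res (Ideal.Quotient.mk _ (mk (algebraMap k (P) c))) = c
    rw [hres]
    exact hεk c
  letI instK : Module k (q.shortComplexKer.X₁ ⟶ ModuleCat.of (P ⧸ Ideal.span {x * y}) ((P ⧸ Ideal.span {x * y}) ⧸ Ideal.span {mk x})) :=
    Linear.homModule _ _
  let S : (q.shortComplexKer.X₁ ⟶ ModuleCat.of ((P ⧸ Ideal.span {x * y})) (((P ⧸ Ideal.span {x * y}) ⧸ Ideal.span {mk x}))) →ₗ[k] k :=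
    { toFun := fun f => res (f.hom gy)
      map_add' := fun f g => map_add res _ _
      map_smul' := fun c f => by
        show res (algebraMap k (P ⧸ Ideal.span {x * y}) c • (f.hom gy : ((P ⧸ Ideal.span {x * y}) ⧸ Ideal.span {mk x}))) = c * res (f.hom gy)
        obtain ⟨v, hv⟩ := Ideal.Quotient.mk_surjective (f.hom gy)
        rw [← hv]
        show res (Ideal.Quotient.mk _ (algebraMap k (P ⧸ Ideal.span {x * y}) c * v)) = _
        rw [map_mul, map_mul]
        exact congrArg (· * _) (halg c) }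
  let T : (q.shortComplexKer.X₁ ⟶ ModuleCat.of ((P ⧸ Ideal.span {x * y})) (((P ⧸ Ideal.span {x * y}) ⧸ Ideal.span {mk x}))) →ₗ[k]
      Abelian.Ext q.shortComplexKer.X₃ (ModuleCat.of ((P ⧸ Ideal.span {x * y})) (((P ⧸ Ideal.span {x * y}) ⧸ Ideal.span {mk x}))) 1 :=
    (Abelian.Ext.precompOfLinear hT.extClass k (ModuleCat.of ((P ⧸ Ideal.span {x * y})) (((P ⧸ Ideal.span {x * y}) ⧸ Ideal.span {mk x}))) (show 1 + 0 = 1 by rfl)) ∘ₗ
      (Abelian.Ext.linearEquiv₀ (R := k)).symm.toLinearMap
  have hTsurj : Function.Surjective T := fun z => by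
    obtain ⟨w, hw⟩ := Abelian.Ext.contravariant_sequence_exact₃ hT _ z
      (Abelian.Ext.eq_zero_of_projective _) (show 1 + 0 = 1 by rfl)
    exact ⟨Abelian.Ext.linearEquiv₀ (R := k) w, by
      show hT.extClass.comp ((Abelian.Ext.linearEquiv₀ (R := k)).symm (Abelian.Ext.linearEquiv₀ (R := k) w)) (show 1 + 0 = 1 by rfl) = z
      rw [LinearEquiv.symm_apply_apply]
      exact hw⟩
  have hSsurj : Function.Surjective S := by
    intro c
    let π₀ : (P ⧸ Ideal.span {x * y}) →ₗ[(P ⧸ Ideal.span {x * y})] ((P ⧸ Ideal.span {x * y}) ⧸ Ideal.span {mk x}) := Submodule.mkQ _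
    let m : (P ⧸ Ideal.span {x * y}) →ₗ[(P ⧸ Ideal.span {x * y})] LinearMap.ker q := LinearMap.toSpanSingleton ((P ⧸ Ideal.span {x * y})) _ gy
    have hm : Function.Surjective m := fun z => by
      obtain ⟨a, rfl⟩ := hgen z
      exact ⟨a, rfl⟩
    have hle : LinearMap.ker m ≤ LinearMap.ker π₀ := fun a ha => by
      obtain ⟨p, rfl⟩ := Ideal.Quotient.mk_surjective a
      have h0 : mk p * mk y = 0 := congrArg Subtype.val (LinearMap.mem_ker.mp ha)
      rw [← map_mul, hmk, Ideal.Quotient.eq_zero_iff_mem, Ideal.mem_span_singleton'] at h0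
      obtain ⟨b, hb⟩ := h0
      have hp : p = b * x := mul_right_cancel₀ hy0 (by rw [← hb, mul_assoc])
      rw [LinearMap.mem_ker, Submodule.mkQ_apply, Submodule.Quotient.mk_eq_zero]
      exact Ideal.mem_span_singleton'.mpr ⟨mk b, by rw [hp, map_mul]⟩
    let φ : LinearMap.ker q →ₗ[(P ⧸ Ideal.span {x * y})] ((P ⧸ Ideal.span {x * y}) ⧸ Ideal.span {mk x}) :=
      ((LinearMap.ker m).liftQ π₀ hle).comp (m.quotKerEquivOfSurjective hm).symm.toLinearMap
    have hφ : φ gy = 1 := by
      have h1 : m 1 = gy := one_smul _ _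
      rw [← h1]
      simp [φ, π₀]
      rfl
    refine ⟨ModuleCat.ofHom (algebraMap k (P ⧸ Ideal.span {x * y}) c • φ), ?_⟩
    show res (algebraMap k (P ⧸ Ideal.span {x * y}) c • φ gy) = c
    rw [hφ]
    show res (Ideal.Quotient.mk _ (algebraMap k (P ⧸ Ideal.span {x * y}) c * 1)) = c
    rw [mul_one]
    exact halg c
  have hker : ∀ f, T f = 0 ↔ S f = 0 := by
    intro f
    show hT.extClass.comp (Abelian.Ext.mk₀ f) (show 1 + 0 = 1 by rfl) = 0 ↔ _
    constructor
    · intro h
      obtain ⟨w, hw⟩ := Abelian.Ext.contravariant_sequence_exact₁ hT _ _ (show 1 + 0 = 1 by rfl) h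
      rw [← Abelian.Ext.mk₀_linearEquiv₀_apply (R := k) w, Abelian.Ext.mk₀_comp_mk₀] at hw
      have hf := (Abelian.Ext.mk₀_bijective _ _).1 hw
      generalize Abelian.Ext.linearEquiv₀ (R := k) w = g at hf
      subst hf
      show res (g.hom (mk y)) = 0
      have h2 := g.hom.map_smul (mk y) (1 : (P ⧸ Ideal.span {x * y}))
      rw [smul_eq_mul, mul_one] at h2
      rw [h2]
      obtain ⟨v, hv⟩ := Ideal.Quotient.mk_surjective (g.hom (1 : (P ⧸ Ideal.span {x * y})))
      rw [← hv]
      show res (Ideal.Quotient.mk _ (mk y * v)) = 0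
      rw [map_mul, map_mul, hres, hεy, zero_mul]
    · intro h
      obtain ⟨v, hv⟩ := Ideal.Quotient.mk_surjective (f.hom gy)
      obtain ⟨p, rfl⟩ := Ideal.Quotient.mk_surjective v
      have hp : ε p = 0 := by
        rw [← hres p]
        exact (congrArg res hv).trans h
      obtain ⟨a, b, hab⟩ := Ideal.mem_span_pair.mp (hmem p hp)
      let g : (P ⧸ Ideal.span {x * y}) →ₗ[(P ⧸ Ideal.span {x * y})] ((P ⧸ Ideal.span {x * y}) ⧸ Ideal.span {mk x}) :=
        LinearMap.toSpanSingleton ((P ⧸ Ideal.span {x * y})) _ (Ideal.Quotient.mk _ (mk b))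
      have hfg : q.shortComplexKer.f ≫ ModuleCat.ofHom g = f := by
        refine ModuleCat.hom_ext (LinearMap.ext fun z => ?_)
        obtain ⟨c, rfl⟩ := hgen z
        rw [map_smul, map_smul]
        refine congrArg (c • ·) ?_
        show mk y • (Ideal.Quotient.mk _ (mk b) : ((P ⧸ Ideal.span {x * y}) ⧸ Ideal.span {mk x})) = f.hom gy
        rw [← hv, ← hab, map_add, map_add, map_mul mk a x, map_mul mk b y]
        show Ideal.Quotient.mk _ (mk y * mk b) = _
        rw [map_mul (Ideal.Quotient.mk _) (mk a), Ideal.Quotient.eq_zero_iff_mem.mpr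
          (Ideal.mem_span_singleton_self (mk x)), mul_zero, zero_add, mul_comm (mk y)]
      rw [← hfg, ← Abelian.Ext.mk₀_comp_mk₀, hT.extClass_comp_assoc]
  have e := (T.quotKerEquivOfSurjective hTsurj).symm.trans
    ((Submodule.quotEquivOfEq _ _ (SetLike.ext hker)).trans (S.quotKerEquivOfSurjective hSsurj))
  exact e.finrank_eq.trans (Module.finrank_self k)

end Helpers


/-- Let k be a field and A = k[[x,y]]/(xy) the complete local ring of a node, with branch rings A/(y)
and A/(x) viewed as A-modules. Then the first Ext group Ext¹_A(A/(y), A/(x)) has dimension one over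
k. (The published statement is for the local ring at a node of a reduced curve over an algebraically
closed field of characteristic zero, a node being a point whose complete local ring is A; this row
states the case of the complete local ring A itself, over an arbitrary field.) -/
theorem result (k : Type u) [Field k] : Module.finrank k (Abelian.Ext (ModuleCat.of (MvPowerSeries (Fin 2) k ⧸ Ideal.span {(MvPowerSeries.X (0 : Fin 2) : MvPowerSeries (Fin 2) k) * MvPowerSeries.X (1 : Fin 2)}) ((MvPowerSeries (Fin 2) k ⧸ Ideal.span {(MvPowerSeries.X (0 : Fin 2) : MvPowerSeries (Fin 2) k) * MvPowerSeries.X (1 : Fin 2)}) ⧸ Ideal.span {Ideal.Quotient.mk (Ideal.span {(MvPowerSeries.X (0 : Fin 2) : MvPowerSeries (Fin 2) k) * MvPowerSeries.X (1 : Fin 2)}) (MvPowerSeries.X (1 : Fin 2))})) (ModuleCat.of (MvPowerSeries (Fin 2) k ⧸ Ideal.span {(MvPowerSeries.X (0 : Fin 2) : MvPowerSeries (Fin 2) k) * MvPowerSeries.X (1 : Fin 2)}) ((MvPowerSeries (Fin 2) k ⧸ Ideal.span {(MvPowerSeries.X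 (0 : Fin 2) : MvPowerSeries (Fin 2) k) * MvPowerSeries.X (1 : Fin 2)}) ⧸ Ideal.span {Ideal.Quotient.mk (Ideal.span {(MvPowerSeries.X (0 : Fin 2) : MvPowerSeries (Fin 2) k) * MvPowerSeries.X (1 : Fin 2)}) (MvPowerSeries.X (0 : Fin 2))})) 1) = 1 := by
  have hy0 : (MvPowerSeries.X (1 : Fin 2) : MvPowerSeries (Fin 2) k) ≠ 0 := fun h => by
    have := congrArg (MvPowerSeries.coeff (Finsupp.single (1 : Fin 2) 1)) h
    rw [MvPowerSeries.coeff_index_single_self_X, map_zero] at this
    exact one_ne_zero this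
  haveI : IsDomain (MvPowerSeries (Fin 2) k) := NoZeroDivisors.to_isDomain _
  refine finrank_ext_one_branches k (MvPowerSeries (Fin 2) k) _ _ hy0 MvPowerSeries.constantCoeff
    (MvPowerSeries.constantCoeff_X _) (MvPowerSeries.constantCoeff_X _) MvPowerSeries.constantCoeff_C fun p hp => ?_
  have hs : Ideal.span (Set.range (MvPowerSeries.X : Fin 2 → MvPowerSeries (Fin 2) k)) =
      Ideal.span {(MvPowerSeries.X (0 : Fin 2) : MvPowerSeries (Fin 2) k), MvPowerSeries.X 1} := by
    congr 1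
    ext z
    constructor
    · rintro ⟨i, rfl⟩
      fin_cases i <;> simp
    · rintro (rfl | rfl) <;> exact ⟨_, rfl⟩
  rw [← hs, show Ideal.span (Set.range MvPowerSeries.X) = IsLocalRing.maximalIdeal (MvPowerSeries (Fin 2) k) from
    (Groth.L01.PowSerReg.maximalIdeal_eq k 2).symm]
  intro hu
  exact not_isUnit_zero (hp ▸ hu.map MvPowerSeries.constantCoeff)

end Groth.Agent.S13993
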