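import Groth.Statements.S13994
import Groth.Agent.L01.MatFact
import Groth.Agent.L01.TorLES
import Groth.Agent.L28.TorFacts
import Groth.Agent.S6316
import Groth.Agent.L04.Depth2
import Mathlib.CategoryTheory.Monad.Adjunction
import Mathlib.LinearAlgebra.TensorProduct.Pi
import Mathlib.CategoryTheory.Abelian.LeftDerived

set_option autoImplicit false
universe u
open CategoryTheory
open CAlg

namespace Groth.Agent.S13994

open scoped TensorProduct

/-- A reduced local ring with a module that has a non-zero-divisor in the maximal ideal is either
the case of a zero module or has such a non-zero-divisor itself. -/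
lemma exists_regular_or_subsingleton {R : Type u} [CommRing R] [IsLocalRing R] [IsNoetherianRing R]
    [IsReduced R] (M : Type u) [AddCommGroup M] [Module R M] {x : R}
    (hx : x ∈ IsLocalRing.maximalIdeal R) (hxM : IsSMulRegular M x) :
    (∃ r ∈ IsLocalRing.maximalIdeal R, IsSMulRegular R r) ∨ Subsingleton M := by
  rcases Groth.L04.exists_regular_or_killed (IsLocalRing.maximalIdeal R) R with h | ⟨z, hz, hk⟩
  · exact Or.inl h
  refine Or.inr (subsingleton_of_forall_eq 0 fun m => hxM.right_eq_zero_of_smul ?_)
  have hzu : IsUnit z := by
    by_contra hu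
    have hzz : z * z = 0 := hk z hu
    exact hz (IsNilpotent.eq_zero ⟨2, by rw [sq, hzz]⟩)
  rw [hzu.mul_left_eq_zero.mp (hk x hx), zero_smul]



/-- Let S be a regular local ring of Krull dimension two, f a non-zero element of S and R the quotient
of S by f, assumed reduced. Let M and N be finitely generated R-modules, each admitting a
non-zero-divisor in the maximal ideal of R, annihilated by ideals I and J respectively, where I + J
contains a power of the maximal ideal. Then Tor₁^R(M, Hom_R(N, R)) = 0. (The published claim is made
for the stalks at a common point of two subcurves without common component of a reduced projective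
curve over a characteristic-zero algebraically closed field, the point being a planar singularity,
and the stalks of torsion-free sheaves supported on them; this row states it over an arbitrary
two-dimensional regular local ring. Tor is computed by resolving the second argument.) -/
theorem result (S : Type u) [CommRing S] [IsRegularLocalRing S] (hS : ringKrullDim S = 2) (f : S) (hf : f ≠ 0) (R : Type u) [CommRing R] [IsLocalRing R] [IsReduced R] (π : S →+* R) (hπ : Function.Surjective π) (hker : RingHom.ker π = Ideal.span {f}) (I J : Ideal R) (n : ℕ) (hIJ : IsLocalRing.maximalIdeal R ^ n ≤ I ⊔ J) (M N : Type u) [AddCommGroup M] [Module R M] [Module.Finite R M] [AddCommGroup N] [Module R N] [Module.Finite R N] (hI : I ≤ Module.annihilator R M) (hJ : J ≤ Module.annihilator R N) (x : R) (hx : x ∈ IsLocalRing.maximalIdeal R) (hxM : IsSMulRegular M x) (y : R) (hy : y ∈ IsLocalRing.maximalIdeal R) (hyN : IsSMulRegular N y) : Limits.IsZero (((Tor (ModuleCat.{u} R) 1).obj (ModuleCat.of R M)).obj (ModuleCat.of R (Module.Dual R N))) := by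
  classical
  haveI : IsNoetherianRing R := isNoetherianRing_of_surjective S R π hπ
  set L := Module.Dual R N with hL
  obtain ⟨E⟩ := Groth.Agent.S6316.result R 1
  refine Limits.IsZero.of_iso ?_ ((E.app (ModuleCat.of R M)).app (ModuleCat.of R L))
  show Limits.IsZero (((Tor (ModuleCat.{u} R) 1).obj (ModuleCat.of R L)).obj (ModuleCat.of R M))
  obtain ⟨n₀, n₁, a, b, p, hp, hap, hba, hab, hI'⟩ :=
    Groth.L01.MatFact.exists_periodic hS f hf π hπ hker M x hx hxM
  have hT := LinearMap.shortExact_shortComplexKer hp
  have hzero : Limits.IsZero (((Tor (ModuleCat.{u} R) (0 + 1)).obj (ModuleCat.of R L)).obj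
      (ModuleCat.of R (Fin n₀ → R))) := Groth.L28.TorFacts.isZero_of_flat_right _ _ 0
  obtain ⟨-, -, δ, w₁, w₂, hex₁, hex₂⟩ :=
    Groth.L01.TorLES.tor_longExact (ModuleCat.of R L) p.shortComplexKer hT 0
  haveI hδ : Mono δ := hex₁.mono_g (hzero.eq_of_src _ _)
  let F := (MonoidalCategory.tensoringLeft (ModuleCat.{u} R)).obj (ModuleCat.of R L)
  haveI : Limits.PreservesFiniteColimits F := by
    haveI : F.IsLeftAdjoint := (ihom.adjunction (ModuleCat.of R L)).isLeftAdjoint
    infer_instance
  have hinj : Function.Injective ((LinearMap.ker p).subtype.lTensor L) := by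
    let g : (Fin n₁ → R) →ₗ[R] LinearMap.ker p :=
      a.codRestrict _ fun v => LinearMap.mem_ker.mpr (hap.apply_apply_eq_zero v)
    have hg : Function.Surjective g := by
      rintro ⟨z, hz⟩
      obtain ⟨v, hv⟩ := (hap z).mp (LinearMap.mem_ker.mp hz)
      exact ⟨v, Subtype.ext hv⟩
    rcases exists_regular_or_subsingleton M hx hxM with ⟨r, hr, hrR⟩ | hM
    swap
    · have hker : LinearMap.ker p = ⊤ := LinearMap.ker_eq_top.mpr (LinearMap.ext fun v => Subsingleton.elim _ _)
      intro u v huv
      let e : LinearMap.ker p ≃ₗ[R] (Fin n₀ → R) := (LinearEquiv.ofEq _ _ hker).trans Submodule.topEquiv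
      exact (LinearEquiv.lTensor L e).injective huv
    rw [injective_iff_map_eq_zero]
    intro z hz
    obtain ⟨v, rfl⟩ := LinearMap.lTensor_surjective L hg z
    rw [← LinearMap.lTensor_comp_apply] at hz
    have hz' : a.lTensor L v = 0 := hz
    have hrL : IsSMulRegular (L ⊗[R] (Fin n₁ → R)) r := by
      let e := TensorProduct.piScalarRight R R L (Fin n₁)
      intro u w huw
      refine e.injective (funext fun j => LinearMap.ext fun y => hrR ?_)
      have := congrArg (fun t => e t j y) huw
      simp only [map_smul, Pi.smul_apply, LinearMap.smul_apply] at this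
      exact this
    rw [Groth.L01.MatFact.eq_zero_of_killed hIJ hr hrL (v := v) (fun i hi => ?_) (fun j hj => ?_), map_zero]
    · obtain ⟨h, hh⟩ := hI' i (hI hi)
      have : h.lTensor L (a.lTensor L v) = i • v := by
        rw [← LinearMap.lTensor_comp_apply, show h ∘ₗ a = i • LinearMap.id from LinearMap.ext hh,
          LinearMap.lTensor_smul, LinearMap.lTensor_id]
        rfl
      rw [← this, hz', map_zero]
    · have hjL : ∀ l : L, j • l = 0 := fun l => LinearMap.ext fun y => by
        rw [LinearMap.smul_apply, ← map_smul, Module.mem_annihilator.mp (hJ hj), map_zero]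
        rfl
      clear hz hz'
      induction v using TensorProduct.induction_on with
      | zero => exact smul_zero _
      | tmul l w => rw [TensorProduct.smul_tmul', hjL, TensorProduct.zero_tmul]
      | add u w hu hw => rw [smul_add, hu, hw, add_zero]
  haveI : Mono (((Tor (ModuleCat.{u} R) 0).obj (ModuleCat.of R L)).map p.shortComplexKer.f) := by
    haveI : Mono (F.map p.shortComplexKer.f) := (ModuleCat.mono_iff_injective _).mpr hinj
    show Mono ((F.leftDerived 0).map p.shortComplexKer.f)
    rw [← NatIso.naturality_2 F.leftDerivedZeroIsoSelf p.shortComplexKer.f]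
    infer_instance
  have hδ0 : δ = 0 := by
    rw [← cancel_mono (((Tor (ModuleCat.{u} R) 0).obj (ModuleCat.of R L)).map p.shortComplexKer.f), w₂,
      Limits.zero_comp]
  exact Limits.IsZero.of_mono_eq_zero δ hδ0


end Groth.Agent.S13994
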