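import Groth.Statements.S13995
import Mathlib.RingTheory.Ideal.AssociatedPrime.Basic
import Mathlib.RingTheory.KrullDimension.Zero
import Mathlib.RingTheory.Support
import Mathlib.RingTheory.Localization.AtPrime.Basic
import Mathlib.LinearAlgebra.Dimension.Finite
import Mathlib.LinearAlgebra.FiniteDimensional.Basic
import Mathlib.RingTheory.Localization.Finiteness
import Mathlib.RingTheory.LocalProperties.Reduced
import Mathlib.LinearAlgebra.FiniteDimensional.Lemmas
import Mathlib.Algebra.Module.LocalizedModule.Basic

set_option autoImplicit false
set_option linter.style.haveILetI false
universe u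
open CAlg

namespace Groth.Agent.S13995

/-- Let R be a reduced Noetherian ring, M a finitely generated R-module all of whose associated primes
are minimal primes of R and whose localization at each minimal prime p is one-dimensional over the
field R_p, and let g : M → Q be a surjection onto a finitely generated R-module Q all of whose
associated primes are minimal primes of R. Then the kernel of g is the intersection, over the
minimal primes p of R lying in the support of Q, of the kernels of the localization maps M → M_p.
(The published statement is for a torsion-free coherent sheaf F of uniform rank one on a reduced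
connected projective curve over a characteristic-zero algebraically closed field: its non-zero
torsion-free quotients are exactly the maximal torsion-free quotients F_D of the restrictions of F
to subcurves D; this row is the corresponding statement for modules over a reduced Noetherian ring,
a subcurve being a set of minimal primes, and identifies each torsion-free quotient with F_D for D
the set of generic points of its support.) -/
theorem result (R : Type u) [CommRing R] [IsNoetherianRing R] [IsReduced R] (M : Type u) [AddCommGroup M] [Module R M] [Module.Finite R M] (hM : associatedPrimes R M ⊆ minimalPrimes R) (hrk : ∀ p : PrimeSpectrum R, p.asIdeal ∈ minimalPrimes R → Module.finrank (Localization.AtPrime p.asIdeal) (LocalizedModule p.asIdeal.primeCompl M) = 1) (Q : Type u) [AddCommGroup Q] [Module R Q] [Module.Finite R Q] (hQ : associatedPrimes R Q ⊆ minimalPrimes R) (g : M →ₗ[R] Q) (hg : Function.Surjective g) : LinearMap.ker g = ⨅ p ∈ {p : PrimeSpectrum R | p.asIdeal ∈ minimalPrimes R ∧ p ∈ Module.support R Q}, LinearMap.ker (LocalizedModule.mkLinearMap p.asIdeal.primeCompl M) := by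
  ext m
  simp only [LinearMap.mem_ker, Submodule.mem_iInf, Set.mem_ofPred_eq]
  constructor
  · intro hm p hp
    obtain ⟨hpmin, hpsupp⟩ := hp
    have hfield : IsField (Localization.AtPrime p.asIdeal) := by
      haveI : IsReduced (Localization.AtPrime p.asIdeal) := inferInstance
      haveI : Ring.KrullDimLE 0 (Localization.AtPrime p.asIdeal) := by
        refine Ring.KrullDimLE.mk₀ fun J hJ => ?_
        have h1 := IsLocalization.isPrime_iff_isPrime_disjoint p.asIdeal.primeCompl
          (Localization.AtPrime p.asIdeal) J |>.mp hJ
        have h2 : J.comap (algebraMap R (Localization.AtPrime p.asIdeal)) ≤ p.asIdeal := by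
          intro x hx
          by_contra h
          exact Set.disjoint_left.mp h1.2 h hx
        have h3 := le_antisymm h2 (hpmin.2 ⟨h1.1, bot_le⟩ h2)
        have h4 : J = IsLocalRing.maximalIdeal (Localization.AtPrime p.asIdeal) := by
          rw [← IsLocalization.map_comap p.asIdeal.primeCompl _ J]
          rw [Ideal.under_def, h3, Localization.AtPrime.map_eq_maximalIdeal]
        rw [h4]
        infer_instance
      exact Ring.KrullDimLE.isField_of_isReduced
    letI : Field (Localization.AtPrime p.asIdeal) := hfield.toField
    let gp : LocalizedModule p.asIdeal.primeCompl M →ₗ[Localization.AtPrime p.asIdeal]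
        LocalizedModule p.asIdeal.primeCompl Q := LocalizedModule.map p.asIdeal.primeCompl g
    haveI : Nontrivial (LocalizedModule p.asIdeal.primeCompl Q) := Module.mem_support_iff.mp hpsupp
    have hgs : Function.Surjective gp := LocalizedModule.map_surjective _ g hg
    haveI : FiniteDimensional (Localization.AtPrime p.asIdeal)
        (LocalizedModule p.asIdeal.primeCompl M) :=
      Module.finite_of_finrank_eq_succ (hrk p hpmin)
    haveI : Module.Finite (Localization.AtPrime p.asIdeal)
        (LocalizedModule p.asIdeal.primeCompl Q) := Module.Finite.of_surjective gp hgs
    have hQ1 : Module.finrank (Localization.AtPrime p.asIdeal)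
        (LocalizedModule p.asIdeal.primeCompl Q) = 1 := by
      have h1 := LinearMap.finrank_le_finrank_of_surjective (f := gp) hgs
      have h2 := Module.finrank_pos (R := Localization.AtPrime p.asIdeal)
        (M := LocalizedModule p.asIdeal.primeCompl Q)
      rw [hrk p hpmin] at h1
      omega
    have hinj : Function.Injective gp :=
      (LinearMap.injective_iff_surjective_of_finrank_eq_finrank
        ((hrk p hpmin).trans hQ1.symm)).mpr hgs
    apply hinj
    rw [map_zero]
    show gp (LocalizedModule.mk m 1) = 0
    rw [LocalizedModule.map_mk, hm, LocalizedModule.zero_mk]
  · intro h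
    by_contra hne
    obtain ⟨P, hP, hPle⟩ := exists_le_isAssociatedPrime_of_isNoetherianRing R (g m) hne
    haveI := hP.isPrime
    have hsupp : (⟨P, hP.isPrime⟩ : PrimeSpectrum R) ∈ Module.support R Q := by
      refine Module.mem_support_iff_exists_annihilator.mpr ⟨g m, ?_⟩
      intro a ha
      exact hPle (by simpa [Submodule.mem_colon_singleton, Submodule.mem_annihilator_span_singleton] using ha)
    have h0 := h ⟨P, hP.isPrime⟩ ⟨hQ hP, hsupp⟩
    obtain ⟨s, hs⟩ := (IsLocalizedModule.eq_zero_iff P.primeCompl
      (LocalizedModule.mkLinearMap P.primeCompl M)).mp h0
    refine s.2 (hPle ?_)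
    rw [Submodule.mem_colon_singleton, Submodule.mem_bot]
    show (s : R) • g m = 0
    rw [← map_smul, ← Submonoid.smul_def, hs, map_zero]


end Groth.Agent.S13995
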