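import Groth.Statements.S13996
import Mathlib.RingTheory.Ideal.AssociatedPrime.Finiteness
import Mathlib.RingTheory.Ideal.MinimalPrime.Noetherian
import Mathlib.RingTheory.Regular.IsSMulRegular
import Mathlib.RingTheory.KrullDimension.Field
import Mathlib.RingTheory.Ideal.Height
import Mathlib.RingTheory.Ideal.KrullsHeightTheorem

set_option autoImplicit false
universe u
open CAlg

namespace Groth.Agent.S13996

/-- Let R be a reduced Noetherian local ring of Krull dimension one with maximal ideal m, and M a
non-zero finitely generated R-module. Then M is torsion-free in the sense that no element of m which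
is a non-zero-divisor on R is a zero-divisor on M, if and only if M has depth one, i.e. some element
of m is a non-zero-divisor on M. (The published statement is for a non-zero coherent sheaf F on a
connected reduced projective curve over a characteristic-zero algebraically closed field and asserts
the equivalence of: F torsion-free in the above sense at every closed point; F pure of dimension
one; depth of F_p equal to one at every closed point p. This row is the equivalence of the first and
third conditions at a single closed point p with F_p ≠ 0; at points outside the support the third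
condition as published cannot hold, so the row assumes the stalk non-zero.) -/
theorem result (R : Type u) [CommRing R] [IsLocalRing R] [IsNoetherianRing R] [IsReduced R] (hdim : ringKrullDim R = 1) (M : Type u) [AddCommGroup M] [Module R M] [Module.Finite R M] [Nontrivial M] : (∀ r : R, r ∈ IsLocalRing.maximalIdeal R → IsSMulRegular R r → IsSMulRegular M r) ↔ (∃ x : R, x ∈ IsLocalRing.maximalIdeal R ∧ IsSMulRegular M x) := by
  classical
  haveI hd1 : Ring.KrullDimLE 1 R := Ring.krullDimLE_iff.mpr (by rw [hdim]; rfl)
  constructor
  · intro h
    have hnot : ¬ (IsLocalRing.maximalIdeal R : Set R) ⊆ ⋃ p ∈ minimalPrimes R, (p : Set R) := by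
      intro hsub
      obtain ⟨p, hp, hle⟩ := (Ideal.subset_union_prime_finite (minimalPrimes.finite_of_isNoetherianRing R) ⊥ ⊥
        fun i hi _ _ => Ideal.minimalPrimes_isPrime hi).mp hsub
      haveI := Ideal.minimalPrimes_isPrime hp
      have hmax : p = IsLocalRing.maximalIdeal R := le_antisymm (IsLocalRing.le_maximalIdeal (Ideal.IsPrime.ne_top ‹_›)) hle
      have h0 : (IsLocalRing.maximalIdeal R).height = 0 := by
        rw [← hmax, Ideal.height_eq_zero_iff]
        exact hp
      have h1 := IsLocalRing.maximalIdeal_height_eq_ringKrullDim (R := R)
      rw [h0, hdim] at h1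
      exact zero_ne_one h1
    obtain ⟨r, hr, hr2⟩ := Set.not_subset.mp hnot
    refine ⟨r, hr, h r hr (isSMulRegular_iff_right_eq_zero_of_smul.mpr fun a ha => ?_)⟩
    have : a ∈ sInf (minimalPrimes R) := by
      rw [Submodule.mem_sInf]
      intro p hp
      haveI := Ideal.minimalPrimes_isPrime hp
      refine (Ideal.IsPrime.mem_or_mem ‹_› (x := r) (y := a) ?_).resolve_left fun hm => hr2 (Set.mem_biUnion hp hm)
      rw [show r * a = r • a from rfl, ha]
      exact zero_mem _
    exact (show IsNilpotent a from (Ideal.sInf_minimalPrimes (I := (⊥ : Ideal R))).le this).eq_zero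
  · rintro ⟨x, hx, hxM⟩ r hr hrR
    suffices hh : r ∉ ⋃ p ∈ associatedPrimes R M, (p : Set R) by
      rw [biUnion_associatedPrimes_eq_compl_regular] at hh
      exact not_not.mp hh
    simp only [Set.mem_iUnion, not_exists]
    intro p hp hrp
    have hpp : p.IsPrime := hp.isPrime
    have hne : p ≠ IsLocalRing.maximalIdeal R := fun h => by
      have : x ∈ ({r : R | IsSMulRegular M r}ᶜ : Set R) := by
        rw [← biUnion_associatedPrimes_eq_compl_regular]
        exact Set.mem_biUnion hp (h ▸ hx)
      exact this hxM
    have hmin : p ∈ minimalPrimes R := by
      rw [← Ideal.height_eq_zero_iff]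
      have h1 := Ideal.height_strict_mono_of_isPrime (lt_of_le_of_ne (IsLocalRing.le_maximalIdeal hpp.ne_top) hne)
      have h2 := IsLocalRing.maximalIdeal_height_eq_ringKrullDim (R := R)
      rw [hdim] at h2
      rw [show (IsLocalRing.maximalIdeal R).height = 1 from by exact_mod_cast h2] at h1
      exact ENat.lt_one_iff_eq_zero.mp h1
    exact Set.disjoint_left.mp (Ideal.disjoint_nonZeroDivisors_of_mem_minimalPrimes hmin) hrp
      (mem_nonZeroDivisors_iff_right.mpr fun y hy => isSMulRegular_iff_right_eq_zero_of_smul.mp hrR y (by rw [smul_eq_mul, mul_comm]; exact hy))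

end Groth.Agent.S13996
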