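import Groth.Statements.S13998
import Groth.Agent.S1305
import Groth.Agent.L17.ThickBasic
import Groth.Agent.L17.LftSource
import Groth.Agent.L13.ModPair.Colon

set_option autoImplicit false
universe u
open FlatMor

namespace Groth.Agent.S13998

open AlgebraicGeometry CategoryTheory in
/-- Consider a cartesian square of schemes F₀ ≫ j = i ≫ F (so Y₀ = Y ×_X X₀) in which i : Y₀ ⟶ Y and j :
X₀ ⟶ X are closed immersions surjective on points whose ideals are locally nilpotent (nilpotent on
every affine open), and suppose moreover that the ideal of j is of finite type (finitely generated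
on every affine open of X). Then F : Y ⟶ X is finite if and only if F₀ : Y₀ ⟶ X₀ is finite. -/
theorem result {X X₀ Y Y₀ : Scheme.{u}}
    (F : Y ⟶ X) (F₀ : Y₀ ⟶ X₀) (i : Y₀ ⟶ Y) (j : X₀ ⟶ X)
    (hi : MoreMor.IsThickening i) (hj : MoreMor.IsThickening j)
    (hinil : ∀ U : Y.affineOpens, IsNilpotent (i.ker.ideal U))
    (hjnil : ∀ U : X.affineOpens, IsNilpotent (j.ker.ideal U))
    (hfg : ∀ U : X.affineOpens, (j.ker.ideal U).FG)
    (hc : IsPullback F₀ i j F) :
    IsFinite F ↔ IsFinite F₀ := by
  haveI := hi.1
  haveI := hj.1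
  constructor
  · intro hF
    exact MorphismProperty.of_isPullback hc.flip hF
  · intro hF₀
    haveI hint : IsIntegralHom F :=
      (Groth.Agent.S1305.result i j F₀ F hi hj hc.w.symm).1 inferInstance
    haveI : LocallyOfFiniteType (i ≫ F) := by rw [← hc.w]; infer_instance
    have hker : i.ker = j.ker.comap F := Groth.L17.Thick.ker_of_isPullback hc.flip
    have hl : Groth.L13.MP.LocFG i.ker := by
      intro y
      obtain ⟨U, V, e, hyV, -, -⟩ :=
        Groth.L22.Ideals.exists_affine_pair F y (W := ⊤) trivial (W' := ⊤) trivial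
      refine ⟨V, hyV, ?_⟩
      rw [hker, Groth.L22.Ideals.comap_ideal F j.ker U V e]
      exact (hfg U).map _
    haveI : LocallyOfFiniteType F := Groth.L17.LftSource.lft_of_comp i F hinil hl.fg
    exact (IsFinite.iff_isIntegralHom_and_locallyOfFiniteType _).2 ⟨hint, inferInstance⟩
end Groth.Agent.S13998
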