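import Groth.Statements.S1400
import Groth.Agent.L20.QuasiAffine

set_option autoImplicit false
universe u
open FlatMor

namespace Groth.Agent.S1400

open AlgebraicGeometry CategoryTheory Limits in
/-- The base change of an ind-quasi-affine morphism is ind-quasi-affine. -/
theorem result {X S X' S' : Scheme.{u}} (f : X ⟶ S) (f' : X' ⟶ S') (g' : X' ⟶ X) (g : S' ⟶ S)
    (hc : IsPullback g' f' f g) (hf : MoreMor.IsIndQuasiAffineHom f) : MoreMor.IsIndQuasiAffineHom f' := by
  exact Groth.L20.isIndQuasiAffineHom_of_isPullback hc hf

end Groth.Agent.S1400
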