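import Groth.Statements.S14000
import Groth.Agent.L29.EulerChar

set_option autoImplicit false
universe u
open Perf

namespace Groth.Agent.S14000

open CategoryTheory CategoryTheory.Limits in
/-- Let A be a commutative ring and P a strictly perfect complex over A, that is a cochain complex of
finitely generated projective A-modules which is zero outside a finite set s of degrees. Suppose the
cohomological support of P has positive codimension: for every minimal prime q of A and every degree
i the localization at q of the cohomology module H^i(P) is zero. Then the Euler characteristic of P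
vanishes identically: at every prime of A the alternating sum over i ∈ s of the ranks of the P^i is
zero. -/
theorem result {A : Type u} [CommRing A]
    (P : CochainComplex (ModuleCat.{u} A) ℤ) (s : Finset ℤ)
    (hP : ∀ i : ℤ, Module.Finite A (P.X i) ∧ Module.Projective A (P.X i))
    (hs : ∀ i : ℤ, i ∉ s → IsZero (P.X i))
    (hsupp : ∀ q : PrimeSpectrum A, q.asIdeal ∈ minimalPrimes A →
      ∀ i : ℤ, Subsingleton (LocalizedModule q.asIdeal.primeCompl (P.homology i))) :
    ∀ x : PrimeSpectrum A,
      (s.sum fun i => ((i.negOnePow : ℤˣ) : ℤ) * (Module.rankAtStalk (R := A) (P.X i) x : ℤ)) = 0 := by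
  intro x
  obtain ⟨q, hq, hqx⟩ := Ideal.exists_minimalPrimes_le (bot_le : (⊥ : Ideal A) ≤ x.asIdeal)
  let y : PrimeSpectrum A := ⟨q, hq.1.1⟩
  haveI hyp : y.asIdeal.IsPrime := y.isPrime
  have hspec : y ⤳ x := (PrimeSpectrum.le_iff_specializes y x).mp hqx
  -- the ranks are locally constant, so agree at `x` and at its generisation `y`
  have hr : ∀ i, Module.rankAtStalk (R := A) (P.X i) x = Module.rankAtStalk (R := A) (P.X i) y := by
    intro i
    haveI := (hP i).1
    haveI := (hP i).2
    haveI : Module.FinitePresentation A (P.X i) := Module.finitePresentation_of_projective A _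
    have hlc := Module.isLocallyConstant_rankAtStalk (R := A) (M := P.X i)
    exact (hspec.mem_open (hlc.isOpen_fiber _) rfl).symm
  simp only [hr]
  -- a range of degrees containing `s`
  let N : ℕ := s.sup Int.natAbs + 1
  have hN : ∀ i, N ≤ i.natAbs → i ∉ s := fun i hi his => by
    have := Finset.le_sup (f := Int.natAbs) his; lia
  let a : ℤ := -(N : ℤ)
  let B := Localization.AtPrime y.asIdeal
  let M : ℤ → Type u := fun i => LocalizedModule y.asIdeal.primeCompl (P.X i)
  haveI : ∀ i, Module.Finite B (M i) := fun i =>
    haveI := (hP i).1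
    Module.Finite.of_isLocalizedModule y.asIdeal.primeCompl
      (LocalizedModule.mkLinearMap y.asIdeal.primeCompl (P.X i))
  haveI : ∀ i, Module.Projective B (M i) := fun i =>
    haveI := (hP i).2
    Module.projective_of_isLocalizedModule y.asIdeal.primeCompl
      (LocalizedModule.mkLinearMap y.asIdeal.primeCompl (P.X i))
  have hsub : ∀ i, i ∉ s → Subsingleton (M i) := fun i hi => by
    haveI := ModuleCat.subsingleton_of_isZero (hs i hi)
    exact LocalizedModule.subsingleton_iff.mpr fun m =>
      ⟨1, y.asIdeal.primeCompl.one_mem, Subsingleton.elim _ _⟩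
  have key := Groth.L29.EulerChar.sum_eq_zero (B := B) (M := M)
    (fun i => LocalizedModule.map y.asIdeal.primeCompl (P.d i (i + 1)).hom)
    (fun i => Groth.L29.EulerChar.exact_map_of_homology y.asIdeal.primeCompl P i (i + 1) (i + 1 + 1)
      rfl rfl (hsupp y hq (i + 1))) a (2 * N)
    (hsub a (hN a (by simp [a]))) (fun i hi => hsub i (hN i (by simp [a] at hi; lia)))
  refine Eq.trans ?_ key
  rw [← Finset.sum_image (g := fun k : ℕ => a + (k : ℤ))
    (f := fun i => ((i.negOnePow : ℤˣ) : ℤ) * (Module.finrank B (M i) : ℤ)) (by
      intro k _ l _ h; simpa using h)]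
  refine Finset.sum_subset ?_ ?_
  · intro i hi
    have : i.natAbs < N := by by_contra h; exact hN i (by lia) hi
    exact Finset.mem_image.mpr ⟨(i - a).toNat, Finset.mem_range.mpr (by simp [a]; lia),
      by simp [a]; lia⟩
  · intro i _ hi
    haveI := hsub i hi
    have h0 : Module.finrank B (M i) = 0 := Module.finrank_zero_of_subsingleton
    have h1 : Module.rankAtStalk (R := A) (P.X i) y = 0 := h0
    simp [h1]

end Groth.Agent.S14000
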