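import Groth.Statements.S14001
import Groth.Agent.L29.K.Tr
import Groth.Agent.L29.K.KoszulRes
import Groth.Agent.L29.Dual.Devissage
import Groth.Agent.L02.PC.Finite

set_option autoImplicit false
set_option backward.isDefEq.respectTransparency false
universe u
open CategoryTheory
attribute [local instance] HasDerivedCategory.standard
open KZero

namespace Groth.Agent.S14001

/-- Let R be a Noetherian local ring whose maximal ideal is generated by an R-regular sequence f_1, …,
f_n. Let K_0 be the Grothendieck group of the full triangulated subcategory of D(R) consisting of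
the perfect complexes all of whose cohomology modules are supported at the closed point (the perfect
complexes acyclic off the closed point): the free abelian group on these objects modulo the
relations of distinguished triangles with all three vertices in the subcategory. Then K_0 is
generated by the class of the Koszul complex of f_1, …, f_n. -/
theorem result (R : Type u) [CommRing R]
    [IsNoetherianRing R] [IsLocalRing R] (fs : List R) (hreg : RingTheory.Sequence.IsRegular R fs)
    (hgen : Ideal.ofList fs = IsLocalRing.maximalIdeal R) :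
    AddSubgroup.closure
        {KZero.clTr (fun K : Dual.D R => DRing.IsPerfect R K ∧
            ∀ i : ℤ, Module.support R (Dual.HD R K i) ⊆ {IsLocalRing.closedPoint R})
          (DRing.toD (Koszul.koszul R fs))} = ⊤ := by
  classical
  let Q : ObjectProperty (Dual.D R) := fun K => DRing.IsPerfect R K ∧
    ∀ i : ℤ, Module.support R (Dual.HD R K i) ⊆ {IsLocalRing.closedPoint R}
  let G : AddSubgroup (KZero.K0tr Q) := AddSubgroup.closure {KZero.clTr Q (DRing.toD (Koszul.koszul R fs))}
  change G = ⊤
  have supp_of_iso : ∀ {M N : ModuleCat.{u} R}, (M ≅ N) →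
      Module.support R M ⊆ {IsLocalRing.closedPoint R} → Module.support R N ⊆ {IsLocalRing.closedPoint R} :=
    fun {M N} e h => by rwa [← e.toLinearEquiv.support_eq]
  have supp_zero : ∀ {M : ModuleCat.{u} R}, CategoryTheory.Limits.IsZero M →
      Module.support R M ⊆ {IsLocalRing.closedPoint R} := fun {M} h => by
    haveI := ModuleCat.subsingleton_of_isZero h
    rw [Module.support_eq_empty]
    exact Set.empty_subset _
  have hperm := IsLocalRing.isRegular_of_perm hreg (List.reverse_perm fs).symm
  obtain ⟨hKperf, ⟨eK⟩⟩ := Groth.L29.KoszulRes.exists_iso fs hperm.toIsWeaklyRegular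
  have hQiso : ∀ {X Y : Dual.D R}, (X ≅ Y) → Q X → Q Y := fun {X Y} e h =>
    ⟨Groth.L29.Perfect.of_iso e h.1, fun i =>
      supp_of_iso ((DerivedCategory.homologyFunctor (ModuleCat.{u} R) i).mapIso e) (h.2 i)⟩
  have hQzero : ∀ Z : Dual.D R, CategoryTheory.Limits.IsZero Z → Q Z := fun Z hZ => by
    refine ⟨?_, fun i => supp_zero ((DerivedCategory.homologyFunctor (ModuleCat.{u} R) i).map_isZero hZ)⟩
    have := Groth.L29.Perfect.third _ (Pretriangulated.contractible_distinguished (Dual.inD R R))
      Groth.L29.Perfect.self Groth.L29.Perfect.self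
    exact Groth.L29.Perfect.of_iso ((CategoryTheory.Limits.isZero_zero _).iso hZ) this
  have hQshift : ∀ (X : Dual.D R) (n : ℤ), Q X → Q (X⟦n⟧) := fun X n h =>
    ⟨Groth.L29.Perfect.shift h.1 n, fun i =>
      supp_of_iso (Groth.L10.hShiftIso (A := ModuleCat.{u} R) X n i (n + i) rfl).symm (h.2 (n + i))⟩
  have htri : ∀ T ∈ Pretriangulated.distinguishedTriangles (C := Dual.D R),
      (Q T.obj₁ ∧ KZero.clTr Q T.obj₁ ∈ G) → (Q T.obj₃ ∧ KZero.clTr Q T.obj₃ ∈ G) →
      Q T.obj₂ ∧ KZero.clTr Q T.obj₂ ∈ G := fun T hT h₁ h₃ => by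
    have hQ : Q T.obj₂ := ⟨Groth.L29.Perfect.second T hT h₁.1.1 h₃.1.1, fun i p hp => by
      by_contra hne
      have hex := DerivedCategory.HomologySequence.exact₂ T hT i
      rw [ShortComplex.moduleCat_exact_iff] at hex
      obtain ⟨x, hx⟩ := Module.mem_support_iff'.1 hp
      obtain ⟨s, hs, hs'⟩ := Module.notMem_support_iff'.1 (fun h => hne (h₃.1.2 i h))
        ((DerivedCategory.homologyFunctor (ModuleCat.{u} R) i).map T.mor₂ x)
      obtain ⟨y, hy⟩ := hex (s • x) ((map_smul _ s x).trans hs')
      obtain ⟨t, ht, ht'⟩ := Module.notMem_support_iff'.1 (fun h => hne (h₁.1.2 i h)) y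
      refine hx (t * s) (fun h => (p.2.mem_or_mem h).elim ht hs) ?_
      exact (mul_smul t s x).trans ((congrArg (t • ·) hy.symm).trans
        ((map_smul _ t y).symm.trans ((congrArg _ ht').trans (map_zero _))))⟩
    refine ⟨hQ, ?_⟩
    rw [Groth.L29.KTr.triangle T hT h₁.1 hQ h₃.1]
    exact add_mem h₁.2 h₃.2
  have hmk : ∀ {X Y : Dual.D R}, (X ≅ Y) → (Q X ∧ KZero.clTr Q X ∈ G) → Q Y ∧ KZero.clTr Q Y ∈ G :=
    fun {X Y} e h => ⟨hQiso e h.1, by rw [← Groth.L29.KTr.iso hQzero e h.1 (hQiso e h.1)]; exact h.2⟩
  have hzero : ∀ X : Dual.D R, CategoryTheory.Limits.IsZero X → Q X ∧ KZero.clTr Q X ∈ G := fun X hX =>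
    ⟨hQzero X hX, by rw [Groth.L29.KTr.isZero hQzero hX]; exact zero_mem _⟩
  have hmod : ∀ (M : Type u) [AddCommGroup M] [Module R M], Module.Finite R M →
      Module.support R M ⊆ {IsLocalRing.closedPoint R} →
      Q (Dual.inD R M) ∧ KZero.clTr Q (Dual.inD R M) ∈ G := by
    intro M _ _ hM
    refine IsNoetherianRing.induction_on_isQuotientEquivQuotientPrime R hM
      (motive := fun M _ _ _ => Module.support R M ⊆ {IsLocalRing.closedPoint R} →
        Q (Dual.inD R M) ∧ KZero.clTr Q (Dual.inD R M) ∈ G) ?_ ?_ ?_
    · intro N _ _ _ _ _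
      exact hzero _ ((DerivedCategory.singleFunctor (ModuleCat.{u} R) 0).map_isZero (ModuleCat.isZero_of_subsingleton _))
    · intro N _ _ _ r e hN
      have hr : r ∈ Module.support R N := Module.mem_support_iff_of_finite.2
        (e.annihilator_eq.trans Ideal.annihilator_quotient).le
      have hr' : r.asIdeal = Ideal.ofList fs := by
        rw [hgen, show r = IsLocalRing.closedPoint R from hN hr]
        rfl
      let e' : DRing.toD (Koszul.koszul R fs) ≅ Dual.inD R N :=
        eK ≪≫ (DerivedCategory.singleFunctor (ModuleCat.{u} R) 0).mapIso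
          ((Submodule.quotEquivOfEq _ _ hr'.symm).trans e.symm).toModuleIso
      refine hmk e' ⟨⟨hKperf, fun i => ?_⟩, AddSubgroup.subset_closure rfl⟩
      refine supp_of_iso ((DerivedCategory.homologyFunctor (ModuleCat.{u} R) i).mapIso e').symm ?_
      rcases eq_or_ne i 0 with rfl | hi
      · exact supp_of_iso ((DerivedCategory.singleFunctorCompHomologyFunctorIso (ModuleCat.{u} R) 0).app
          (ModuleCat.of R N)).symm hN
      · refine supp_zero ?_
        rcases lt_or_gt_of_ne hi with h | h
        · exact DerivedCategory.isZero_of_isGE _ 0 i h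
        · exact DerivedCategory.isZero_of_isLE _ 0 i h
    · intro N₁ _ _ _ N₂ _ _ _ N₃ _ _ _ f g hf hg hfg h₁ h₃ h
      exact htri _ (Groth.L29.HomD.sc_shortExact f g hf hg hfg).singleTriangle_distinguished
        (h₁ ((Module.support_subset_of_injective f hf).trans h))
        (h₃ ((Module.support_subset_of_surjective g hg).trans h))
  rw [eq_top_iff]
  intro z hz0
  clear hz0
  obtain ⟨z, rfl⟩ := QuotientAddGroup.mk_surjective z
  induction z using FreeAbelianGroup.induction_on with
  | zero => exact zero_mem _
  | of K =>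
    obtain ⟨⟨E, a, b, hv, hp, ⟨eE⟩⟩, hsupp⟩ := K.2
    have hz : ∀ i : ℤ, (i < a ∨ b < i) →
        CategoryTheory.Limits.IsZero ((DerivedCategory.homologyFunctor (ModuleCat.{u} R) i).obj K.1) := fun i hi =>
      ((Groth.L02.PC.isZero_HH_Q_iff E i).2 ((HomologicalComplex.exactAt_iff_isZero_homology E i).1
        (ShortComplex.exact_of_isZero_X₂ _ (hv i hi)))).of_iso
        ((DerivedCategory.homologyFunctor (ModuleCat.{u} R) i).mapIso eE).symm
    haveI : DerivedCategory.IsGE K.1 a := (DerivedCategory.isGE_iff K.1 a).2 fun i hi => hz i (Or.inl hi)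
    haveI : DerivedCategory.IsLE K.1 b := (DerivedCategory.isLE_iff K.1 b).2 fun i hi => hz i (Or.inr hi)
    have hfin : ∀ i, Module.Finite R (Dual.HD R K.1 i) := fun i => by
      haveI := (hp i).1
      haveI : Module.Finite R (Groth.L02.PC.cyc E i) := Module.Finite.iff_fg.2 (IsNoetherian.noetherian _)
      haveI : Module.Finite R (E.homology i) := Module.Finite.equiv (Groth.L02.PC.homologyEquiv E i).symm
      haveI : Module.Finite R ((HomologicalComplex.homologyFunctor (ModuleCat.{u} R) (ComplexShape.up ℤ) i).obj E) :=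
        ‹Module.Finite R (E.homology i)›
      exact Module.Finite.equiv
        (((DerivedCategory.homologyFunctorFactors (ModuleCat.{u} R) i).app E).symm ≪≫
          (DerivedCategory.homologyFunctor (ModuleCat.{u} R) i).mapIso eE).toLinearEquiv
    have key := Groth.L29.HomD.bounded_induction (fun X => Q X ∧ KZero.clTr Q X ∈ G) hmk htri hzero K.1 a b
      fun n _ _ => by
        have hn := hmod (Dual.HD R K.1 n) (hfin n) (hsupp n)
        refine hmk (((DerivedCategory.singleFunctors (ModuleCat.{u} R)).shiftIso (-n) n 0 (by lia)).app _)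
          ⟨hQshift _ (-n) hn.1, Groth.L29.KTr.shift_mem hQzero hQshift G hn.1 hn.2 (-n)⟩
    have := key.2
    rwa [KZero.clTr, dif_pos key.1] at this
  | neg x hx => exact neg_mem hx
  | add x y hx hy => exact add_mem hx hy

end Groth.Agent.S14001
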