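import Groth.Statements.S14003
import Groth.Agent.L16.Devissage

set_option autoImplicit false
set_option backward.isDefEq.respectTransparency false
universe u
open CategoryTheory AlgebraicGeometry
open KZero
open scoped ZeroObject

namespace Groth.Agent.S14003

/-- Let X be a Noetherian scheme and Y' a closed subset; write K_0 for the Grothendieck group of the
abelian category of coherent O_X-modules with support in Y' (free abelian group on its objects
modulo the relations of short exact sequences). Let (F_a) be a family of such modules such that for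
every irreducible closed subset Z ⊆ Y' with generic point ζ there is an index a with the support of
F_a contained in Z and the stalk of F_a at ζ of length one over the local ring (a one-dimensional
vector space over the residue field). Then the classes of the F_a generate K_0. (The published
statement omits the condition that the support of F_a lie in Z; without it the claim fails already
for the spectrum of a product of two fields, where the modules k_1 ⊕ k_2 ⊕ k_2 and k_1 ⊕ k_1 ⊕ k_2
have one-dimensional stalks at the two points but their classes generate a subgroup of index 3 in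
K_0 = ℤ².) -/
theorem result (X : Scheme.{u}) [IsNoetherian X]
    (Y' : Set X) (hY' : IsClosed Y') {ι : Type u} (F : ι → X.Modules)
    (hF : ∀ a : ι, Coh.IsCoh (F a) ∧ CohB1.support (F a) ⊆ Y')
    (hgen : ∀ (Z : Set X), IsClosed Z → IsIrreducible Z → Z ⊆ Y' → ∀ y : X, closure ({y} : Set X) = Z →
      ∃ a : ι, CohB1.support (F a) ⊆ Z ∧ Module.length (X.presheaf.stalk y) ((F a).presheaf.stalk y) = 1) :
    AddSubgroup.closure (Set.range fun a : ι =>
        KZero.clSub (fun G : X.Modules => Coh.IsCoh G ∧ CohB1.support G ⊆ Y') (F a)) = ⊤ := by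
  classical
  let P : CategoryTheory.ObjectProperty X.Modules := fun G => Coh.IsCoh G ∧ CohB1.support G ⊆ Y'
  let H := AddSubgroup.closure (Set.range fun a : ι => KZero.clSub P (F a))
  have hrel : ∀ S : ShortComplex X.Modules, S.ShortExact → P S.X₁ → P S.X₂ → P S.X₃ →
      KZero.clSub P S.X₂ = KZero.clSub P S.X₁ + KZero.clSub P S.X₃ := by
    intro S hS h₁ h₂ h₃
    have hmem : FreeAbelianGroup.of (⟨S.X₂, h₂⟩ : Subtype P) - FreeAbelianGroup.of (⟨S.X₁, h₁⟩ : Subtype P) -
        FreeAbelianGroup.of (⟨S.X₃, h₃⟩ : Subtype P) ∈ KZero.relSub P :=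
      AddSubgroup.subset_closure ⟨S, h₁, h₂, h₃, hS, rfl⟩
    have := (QuotientAddGroup.eq_zero_iff _).2 hmem
    rw [QuotientAddGroup.mk_sub, QuotientAddGroup.mk_sub, sub_sub, sub_eq_zero] at this
    simpa only [KZero.clSub, h₁, h₂, h₃, dite_true] using this
  have hiso : ∀ M N : X.Modules, (M ≅ N) → P M → P N := fun M N e h =>
    ⟨Groth.L16.CohSupport.isCoh_of_iso e h.1, (Groth.L21.Mod.support_epi e.hom).trans h.2⟩
  have hzero : ∀ Z₀ : X.Modules, Limits.IsZero Z₀ → KZero.clSub P Z₀ = 0 := by
    intro Z₀ hz
    have hp : P Z₀ := ⟨Groth.L16.Devissage.isCoh_of_isZero hz, by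
      rw [(Groth.L21.Mod.isZero_iff_support_eq_empty Z₀).1 hz]; exact Set.empty_subset _⟩
    have hS : (ShortComplex.mk (𝟙 Z₀) (𝟙 Z₀) (hz.eq_of_src _ _)).ShortExact :=
      { exact := ShortComplex.exact_of_isZero_X₂ _ hz }
    have := hrel _ hS hp hp hp
    simpa using this
  have hcl : ∀ M N : X.Modules, (M ≅ N) → P M → KZero.clSub P M = KZero.clSub P N := by
    intro M N e hM
    have hS : (ShortComplex.mk e.hom (0 : N ⟶ 0) Limits.comp_zero).ShortExact :=
      { exact := ShortComplex.exact_of_f_is_kernel _
          (Limits.KernelFork.IsLimit.ofId (0 : N ⟶ 0) rfl |>.ofIsoLimit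
            (Limits.Fork.ext e.symm (by simp)))
        epi_g := (Limits.isZero_zero _).epi _ }
    have := hrel _ hS hM (hiso _ _ e hM) ⟨Groth.L16.Devissage.isCoh_of_isZero (Limits.isZero_zero _), by
      rw [(Groth.L21.Mod.isZero_iff_support_eq_empty _).1 (Limits.isZero_zero _)]; exact Set.empty_subset _⟩
    rw [hzero _ (Limits.isZero_zero _), add_zero] at this
    exact this.symm
  let K' : X.Modules → Prop := fun G => CohB1.support G ⊆ Y' → KZero.clSub P G ∈ H
  have hP : ∀ M N : X.Modules, Nonempty (M ≅ N) → K' M → K' N := by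
    rintro M N ⟨e⟩ hM hN
    have hM' : CohB1.support M ⊆ Y' := (Groth.L21.Mod.support_epi e.inv).trans hN
    by_cases h : P M
    · exact hcl M N e h ▸ hM hM'
    · have h' : ¬ P N := fun hn => h (hiso N M e.symm hn)
      simp only [KZero.clSub, h', dite_false]
      exact H.zero_mem
  have h2of3 : Groth.L16.Devissage.TwoOutOfThree K' Y' := by
    intro S hS c₁ c₂ c₃ hs
    obtain ⟨s₁, s₃⟩ := Groth.L16.Devissage.support_union hS
    have p₁ : P S.X₁ := ⟨c₁, s₁.trans hs⟩
    have p₃ : P S.X₃ := ⟨c₃, s₃.trans hs⟩
    have e := hrel S hS p₁ ⟨c₂, hs⟩ p₃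
    refine ⟨fun a b _ => ?_, fun a b _ => ?_, fun a b _ => ?_⟩
    · have := H.sub_mem (b hs) (a p₁.2)
      rwa [e, add_sub_cancel_left] at this
    · rw [e]; exact H.add_mem (a p₁.2) (b p₃.2)
    · have := H.sub_mem (a hs) (b p₃.2)
      rwa [e, add_sub_cancel_right] at this
  have key : ∀ G : Subtype P, KZero.clSub P G.1 ∈ H := fun G =>
    Groth.L16.Devissage.devissage K' hY' hP (fun M hM _ => by rw [hzero M hM]; exact H.zero_mem) h2of3
      (fun y hy => by
        obtain ⟨a, ha, hl⟩ := hgen (closure {y}) isClosed_closure isIrreducible_singleton.closure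
          (closure_minimal (Set.singleton_subset_iff.2 hy) hY') y rfl
        exact ⟨F a, (hF a).1, fun _ => AddSubgroup.subset_closure ⟨a, rfl⟩, ha, hl⟩)
      G.2.1 G.2.2 G.2.2
  change H = ⊤
  refine eq_top_iff.2 fun x _ => ?_
  obtain ⟨z, rfl⟩ := QuotientAddGroup.mk_surjective x
  induction z using FreeAbelianGroup.induction_on with
  | zero => exact H.zero_mem
  | of G =>
    have := key G
    rwa [KZero.clSub, dif_pos G.2] at this
  | neg G hG => exact H.neg_mem (hG trivial)
  | add a b ha hb => exact H.add_mem (ha trivial) (hb trivial)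

end Groth.Agent.S14003
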