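import Groth.Statements.S14005
import Groth.Agent.L10.SuppClosure

set_option autoImplicit false
universe u
open CategoryTheory AlgebraicGeometry
open CohTop

namespace Groth.Agent.S14005

/-- Take a scheme X with a locally Noetherian underlying topological space, F a sheaf of abelian groups
on X, x a point of X and s an element of the stalk F_x. Then the following are equivalent: (i) s is
the germ of a section t over some open neighbourhood U of x whose support in U is contained in the
closure of {x} (that is, s belongs to the subgroup Γ_x(F) of F_x); (ii) for every generization y ≠ x
of x the image of s under the cospecialisation map F_x → F_y is zero (that is, viewed as a global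
section of the inverse image of F on Spec O_{X,x}, s is supported at the closed point). -/
theorem result {X : Scheme.{u}}
    (hX : ∀ x : X, ∃ U : X.Opens, x ∈ U ∧ TopologicalSpace.NoetherianSpace U)
    (F : TopCat.Sheaf AddCommGrpCat.{u} X.carrier) (x : X) (s : F.presheaf.stalk x) :
    (∃ (U : X.Opens) (hx : x ∈ U) (t : F.presheaf.obj (Opposite.op U)),
        F.presheaf.germ U x hx t = s ∧
          ∀ (u : X) (hu : u ∈ U), F.presheaf.germ U u hu t ≠ 0 → u ∈ closure ({x} : Set X)) ↔
      ∀ (y : X) (h : y ⤳ x), y ≠ x → F.presheaf.stalkSpecializes h s = 0 := by
  exact Groth.L10.SuppClosure.main hX F x s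

end Groth.Agent.S14005
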