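import Groth.Statements.S14006
import Groth.Agent.L18.SmoothFormalMain

set_option autoImplicit false
universe u
open CategoryTheory AlgebraicGeometry
open FSch

namespace Groth.Agent.S14006

/-- Formal schemes are modelled as ℕ-indexed systems of thickenings. Let S be a locally Noetherian
scheme, 𝒥 a quasi-coherent ideal of O_S, 𝔖 the completion of S along 𝒥 (the system of the closed
subschemes defined by the powers 𝒥^{n+1}) and S₀ its bottom level. Let X₀ and Y₀ be schemes smooth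
over S₀ via a and b, f : X₀ ⟶ Y₀ a morphism with f ≫ b = a, and x a point of X₀. Then there are an
open neighbourhood U₀ of x and an open V₀ of Y₀ with f(U₀) ⊆ V₀, systems 𝔘 and 𝔙 with adic morphisms
p : 𝔘 ⟶ 𝔖 and q : 𝔙 ⟶ 𝔖 (all squares cartesian) all of whose levels are smooth, a morphism Φ : 𝔘 ⟶ 𝔙
with Φ ≫ q = p, and isomorphisms of the bottom levels of 𝔘 and 𝔙 with U₀ and V₀, compatible with the
maps to S₀, under which the bottom level of Φ is the restriction U₀ ⟶ V₀ of f. In words: locally on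
X₀ the morphism f has a smooth formal lifting over 𝔖. -/
theorem result (S : Scheme.{u}) [IsLocallyNoetherian S]
    (𝒥 : S.IdealSheafData) {X₀ Y₀ : Scheme.{u}}
    (a : X₀ ⟶ (FSch.completionAlong S 𝒥).X 0) (b : Y₀ ⟶ (FSch.completionAlong S 𝒥).X 0)
    [AlgebraicGeometry.Smooth a] [AlgebraicGeometry.Smooth b] (f : X₀ ⟶ Y₀) (w : f ≫ b = a) (x : X₀) :
    ∃ (U₀ : X₀.Opens) (V₀ : Y₀.Opens) (hU : x ∈ U₀) (hUV : U₀ ≤ f ⁻¹ᵁ V₀)
      (𝔘 𝔙 : FSch.Sys.{u}) (p : 𝔘 ⟶ FSch.completionAlong S 𝒥) (q : 𝔙 ⟶ FSch.completionAlong S 𝒥)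
      (Φ : 𝔘 ⟶ 𝔙) (eU : 𝔘.X 0 ≅ U₀.toScheme) (eV : 𝔙.X 0 ≅ V₀.toScheme),
      Φ ≫ q = p ∧ FSch.IsAdicHom p ∧ FSch.IsAdicHom q ∧
      (∀ n : ℕ, AlgebraicGeometry.Smooth ((p : FSch.Hom 𝔘 _).app n)) ∧
      (∀ n : ℕ, AlgebraicGeometry.Smooth ((q : FSch.Hom 𝔙 _).app n)) ∧
      eU.hom ≫ U₀.ι ≫ a = (p : FSch.Hom 𝔘 _).app 0 ∧
      eV.hom ≫ V₀.ι ≫ b = (q : FSch.Hom 𝔙 _).app 0 ∧
      (Φ : FSch.Hom 𝔘 𝔙).app 0 ≫ eV.hom = eU.hom ≫ f.resLE V₀ U₀ hUV := by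
  exact Groth.L18.SmoothFormalLift.exists_local_formal_lifting S 𝒥 a b f w x

end Groth.Agent.S14006
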