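import Groth.Statements.S14009
import Groth.Agent.L28.ProEt.Limit

set_option autoImplicit false
open CategoryTheory CategoryTheory.Limits AlgebraicGeometry Opposite
universe u
open EtModW

namespace Groth.Agent.S14009

/-- Let X be a scheme, Λ a commutative ring, I a finitely generated ideal of Λ and G = (G_n) an I-adic
inverse system of sheaves of Λ-modules on the small étale site of X: I^(n+1) kills G_n and each
transition map G_m ⟶ G_n is a quotient map modulo I^(n+1). Let F = lim_n ε⁻¹G_n be the limit, on the
small pro-étale site, of the pulled-back system. Then for every n the limit projection F ⟶ ε⁻¹G_n is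
a quotient map modulo I^(n+1): its target is killed by I^(n+1) and every morphism out of F killed by
I^(n+1) factors uniquely through it. In words, F/I^(n+1)F is identified with ε⁻¹G_n by the canonical
map, and F is complete for the I-adic topology. No constructibility of the G_n is needed.
(Continuity of the inclusion of the étale site into the pro-étale site is carried as a binder.) -/
theorem result
    (Λ : Type (u + 1)) [CommRing Λ] (I : Ideal Λ) (hI : I.FG)
    (X : Scheme.{u}) [ProEtS.EpsCont X]
    (G : ARSys.PS (EtModW.Mod Λ X)) (hG : ARSys.IsAdic I G) (n : ℕ) :
    ARSys.IsQuot (I ^ (n + 1)) (limit.π (G ⋙ EtModW.epsPullMod Λ X) (op n)) := by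
  exact Groth.L28.ProEt.isQuot_limit_π hI G hG n

end Groth.Agent.S14009
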