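import Groth.Statements.S14012
import Groth.Agent.L28.ProEt.LimExact
import Groth.Agent.L28.AR.Adic

set_option autoImplicit false
open CategoryTheory CategoryTheory.Limits AlgebraicGeometry Opposite
universe u
open EtModW

namespace Groth.Agent.S14012

/-- Let X be a Noetherian scheme, Λ a Noetherian commutative ring and I an ideal of Λ. Let 0 ⟶ A ⟶ B ⟶ C
⟶ 0 be a short exact sequence of inverse systems (indexed by ℕ) of sheaves of Λ-modules on the small
étale site of X, and assume A is I-adic up to translation: it receives a morphism, with kernel and
cokernel null up to translation, from an I-adic system. Then the induced morphism lim_n ε⁻¹B_n ⟶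
lim_n ε⁻¹C_n of sheaves on the small pro-étale site is an epimorphism; since the limit functor is
left exact this says that lim_n ε⁻¹(−) carries the given sequence to a short exact sequence. (The
published statement takes all three systems I-adic up to translation; only the hypothesis on A
enters, so B and C are arbitrary here. Continuity of the inclusion of the étale site into the
pro-étale site is carried as a binder.) -/
theorem result
    (Λ : Type (u + 1)) [CommRing Λ] [IsNoetherianRing Λ] (I : Ideal Λ)
    (X : Scheme.{u}) [IsNoetherian X] [ProEtS.EpsCont X]
    (S : ShortComplex (ARSys.PS (EtModW.Mod Λ X))) (hS : S.ShortExact)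
    (hA : ∃ (Y : ARSys.PS (EtModW.Mod Λ X)) (v : Y ⟶ S.X₁), ARSys.IsAdic I Y ∧ ARSys.IsARIso v) :
    Epi (limMap (Functor.whiskerRight S.g (EtModW.epsPullMod Λ X))) := by
  obtain ⟨Y, v, hY, hv⟩ := hA
  exact Groth.L28.ProEt.epi_limMap S hS ⟨Y, v, Groth.L28.AR.adic_strict hY, hv⟩

end Groth.Agent.S14012
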